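import Groth.Statements.S9269
import Groth.Agent.Lib.Helper16.KzComp4

set_option autoImplicit false
universe u
attribute [local instance] HasDerivedCategory.standard
open CategoryTheory
open LCI

namespace Groth.Agent.S9269

section helpers
attribute [local instance] HasDerivedCategory.standard
open CategoryTheory
open LCI

theorem result_aux (A B : Type u) [CommRing A] [CommRing B]
    [Algebra A B] (n m : ℕ) (α : MvPolynomial (Fin n) A →ₐ[A] B) (hα : Function.Surjective α)
    (β : MvPolynomial (Fin m) A →ₐ[A] B) (hβ : Function.Surjective β)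
    (h : LCI.IsKoszulRegularIdeal (RingHom.ker α.toRingHom)) :
    LCI.IsKoszulRegularIdeal (RingHom.ker β.toRingHom) := by
  classical
  -- choose lifts
  have hf : ∀ j : Fin m, ∃ p : MvPolynomial (Fin n) A, α p = β (MvPolynomial.X j) := fun j => hα _
  have hg : ∀ i : Fin n, ∃ q : MvPolynomial (Fin m) A, β q = α (MvPolynomial.X i) := fun i => hβ _
  choose f hf using hf
  choose g hg using hg
  set ρ₁ : MvPolynomial (Fin m) (MvPolynomial (Fin n) A) →+* MvPolynomial (Fin n) A :=
    MvPolynomial.eval f with hρ₁
  set ρ₂ : MvPolynomial (Fin n) (MvPolynomial (Fin m) A) →+* MvPolynomial (Fin m) A :=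
    MvPolynomial.eval g with hρ₂
  set comm := (MvPolynomial.commAlgEquiv A (Fin m) (Fin n)).toRingEquiv with hcomm
  have hγ : (β.toRingHom.comp ρ₂).comp comm.toRingHom = α.toRingHom.comp ρ₁ := by
    apply MvPolynomial.ringHom_ext
    · intro r
      have : ((β.toRingHom.comp ρ₂).comp comm.toRingHom).comp MvPolynomial.C =
          (α.toRingHom.comp ρ₁).comp MvPolynomial.C := by
        apply MvPolynomial.ringHom_ext
        · intro a
          simp [hcomm, hρ₁, hρ₂]
        · intro i
          simp [hcomm, hρ₁, hρ₂, hg i]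
      exact RingHom.congr_fun this r
    · intro j
      simp [hcomm, hρ₁, hρ₂, hf j]
  have h1 : LCI.IsKoszulRegularIdeal ((RingHom.ker α.toRingHom).comap ρ₁) :=
    (Groth.Agent.Lib.Helper16.KzComp.isKoszulRegularIdeal_comap_eval_iff f _).mpr h
  rw [RingHom.comap_ker, ← hγ, ← RingHom.comap_ker] at h1
  have h2 := (Groth.Agent.Lib.Helper16.KzComp.isKoszulRegularIdeal_comap_ringEquiv_iff comm _).mp h1
  rw [← RingHom.comap_ker] at h2
  exact (Groth.Agent.Lib.Helper16.KzComp.isKoszulRegularIdeal_comap_eval_iff g _).mp h2

end helpers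

/-- Let B be an A-algebra of finite type. If the kernel of one presentation A[x_1, ..., x_n] → B is a
Koszul-regular ideal, then the kernel of any other presentation A[y_1, ..., y_m] → B is a
Koszul-regular ideal. -/
theorem result (A B : Type u) [CommRing A] [CommRing B]
    [Algebra A B] (n m : ℕ) (α : MvPolynomial (Fin n) A →ₐ[A] B) (hα : Function.Surjective α)
    (β : MvPolynomial (Fin m) A →ₐ[A] B) (hβ : Function.Surjective β)
    (h : LCI.IsKoszulRegularIdeal (RingHom.ker α.toRingHom)) :
    LCI.IsKoszulRegularIdeal (RingHom.ker β.toRingHom) := by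
  exact result_aux A B n m α hα β hβ h

end Groth.Agent.S9269
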