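import Groth.Statements.S9253
import Groth.Agent.Lib.Helper16.KzComp5
import Groth.Agent.S9269

set_option autoImplicit false
universe u
attribute [local instance] HasDerivedCategory.standard
open CategoryTheory
open LCI

namespace Groth.Agent.S9253

section helpers
attribute [local instance] HasDerivedCategory.standard
open CategoryTheory
open LCI

theorem result_aux (R S : Type u) [CommRing R] [CommRing S] [Algebra R S]
    (m : ℕ) (g : Fin m → S) (hg : Ideal.span (Set.range g) = ⊤)
    (h : ∀ j, LCI.IsLCI R (Localization.Away (g j))) : LCI.IsLCI R S := by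
  classical
  -- finite type
  have hft : Algebra.FiniteType R S := by
    rw [← RingHom.finiteType_algebraMap]
    apply RingHom.finiteType_ofLocalizationSpanTarget (algebraMap R S) (Set.range g) hg
    rintro ⟨_, ⟨j, rfl⟩⟩
    have h1 := (h j).1
    rw [← RingHom.finiteType_algebraMap] at h1
    have h2 : (algebraMap S (Localization.Away (g j))).comp (algebraMap R S) =
        algebraMap R (Localization.Away (g j)) :=
      (IsScalarTower.algebraMap_eq R S (Localization.Away (g j))).symm
    rw [h2]
    exact h1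
  refine ⟨hft, ?_⟩
  obtain ⟨n, α, hα⟩ := Algebra.FiniteType.iff_quotient_mvPolynomial''.mp hft
  refine ⟨n, α, hα, ?_⟩
  rw [Groth.Agent.Lib.Helper16.KzLoc.isKoszulRegularIdeal_iff]
  intro 𝔭 h𝔭
  have hprime : (𝔭.asIdeal.map α.toRingHom).IsPrime :=
    Ideal.map_isPrime_of_surjective (f := α.toRingHom) hα h𝔭
  have hex : ∃ j, ∀ G, α G = g j → G ∉ 𝔭.asIdeal := by
    by_contra hcon
    push Not at hcon
    choose G hG hG𝔭 using hcon
    have hle : Ideal.span (Set.range g) ≤ 𝔭.asIdeal.map α.toRingHom := by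
      rw [Ideal.span_le]
      rintro _ ⟨j, rfl⟩
      rw [← hG j]
      exact Ideal.mem_map_of_mem α.toRingHom (hG𝔭 j)
    rw [hg] at hle
    exact hprime.ne_top (top_le_iff.mp hle)
  obtain ⟨j, hj⟩ := hex
  obtain ⟨G, hGj⟩ := hα (g j)
  have hG𝔭 := hj G hGj
  obtain ⟨hftj, n', φ, hφ, hKφ⟩ := h j
  set β₀ : MvPolynomial (Fin n) R →ₐ[R] Localization.Away (g j) :=
    (IsScalarTower.toAlgHom R S (Localization.Away (g j))).comp α with hβ₀
  have hβ₀a : ∀ p, β₀ p = algebraMap S (Localization.Away (g j)) (α p) := fun p => rfl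
  set ψ' : Polynomial (MvPolynomial (Fin n) R) →ₐ[R] Localization.Away (g j) :=
    Polynomial.aevalTower β₀ (IsLocalization.Away.invSelf (g j)) with hψ'
  have hψ'C : ∀ p, ψ' (Polynomial.C p) = algebraMap S (Localization.Away (g j)) (α p) := by
    intro p
    rw [hψ', Polynomial.aevalTower_C, hβ₀a]
  have hψ'X : ψ' Polynomial.X = IsLocalization.Away.invSelf (g j) := by
    rw [hψ', Polynomial.aevalTower_X]
  have hinv : algebraMap S (Localization.Away (g j)) (g j) * IsLocalization.Away.invSelf (g j) = 1 :=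
    IsLocalization.Away.mul_invSelf (g j)
  have hψ's : Function.Surjective ψ' := by
    intro z
    obtain ⟨k, a, hka⟩ := IsLocalization.Away.surj (g j) z
    obtain ⟨p, rfl⟩ := hα a
    refine ⟨Polynomial.C p * Polynomial.X ^ k, ?_⟩
    rw [map_mul, map_pow, hψ'C, hψ'X, ← hka, mul_assoc, ← mul_pow, hinv, one_pow, mul_one]
  set ψ : MvPolynomial (Fin (n + 1)) R →ₐ[R] Localization.Away (g j) :=
    ψ'.comp (MvPolynomial.finSuccEquiv R n).toAlgHom with hψ
  have hψs : Function.Surjective ψ := hψ's.comp (MvPolynomial.finSuccEquiv R n).surjective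
  have hKψ := Groth.Agent.S9269.result R (Localization.Away (g j)) n' (n + 1) φ hφ ψ hψs hKφ
  have hKψ' : LCI.IsKoszulRegularIdeal (RingHom.ker ψ'.toRingHom) := by
    apply Groth.Agent.Lib.Helper16.KzComp.isKoszulRegularIdeal_of_comap_ringEquiv
      (MvPolynomial.finSuccEquiv R n).toRingEquiv
    rw [RingHom.comap_ker]
    exact hKψ
  refine Groth.Agent.Lib.Helper16.KzComp.exists_local_data_of_ker G (RingHom.ker α.toRingHom)
    ψ'.toRingHom ?_ ?_ ?_ hKψ' 𝔭 h𝔭 hG𝔭
  · change ψ' (Polynomial.C G) * ψ' Polynomial.X = 1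
    rw [hψ'C, hψ'X, hGj, hinv]
  · intro p hp
    have hp' : ψ' (Polynomial.C p) = 0 := hp
    rw [hψ'C, IsLocalization.map_eq_zero_iff (Submonoid.powers (g j))] at hp'
    obtain ⟨⟨_, ⟨k, rfl⟩⟩, hk⟩ := hp'
    refine ⟨k, ?_⟩
    rw [RingHom.mem_ker]
    change α (G ^ k * p) = 0
    rw [map_mul, map_pow, hGj]
    exact hk
  · intro p hp
    change ψ' (Polynomial.C p) = 0
    rw [hψ'C]
    have : α p = 0 := hp
    rw [this, map_zero]

end helpers

/-- Let R → S be a ring map and g_1, ..., g_m elements of S generating the unit ideal. When every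
localization S_{g_j} is a local complete intersection algebra over R, so is S. -/
theorem result (R S : Type u) [CommRing R] [CommRing S] [Algebra R S]
    (m : ℕ) (g : Fin m → S) (hg : Ideal.span (Set.range g) = ⊤)
    (h : ∀ j, LCI.IsLCI R (Localization.Away (g j))) : LCI.IsLCI R S := by
  exact result_aux R S m g hg h

end Groth.Agent.S9253
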