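import Groth.Statements.S15742
import Mathlib
import Groth.Agent.Helper19.OmegaD2
-- import your own Groth.Agent.* helpers here

set_option autoImplicit false
universe u
open CategoryTheory AlgebraicGeometry
open Mor

namespace Groth.Agent.S15742

section helpers

open Groth.Agent.Helper19.OmegaD Groth.Agent.Helper19.OmegaLocal

variable (A B : Type u) [CommRing A] [CommRing B] [Algebra A B]

theorem key_exists :
    ∃ G : Γ(Omega.sheaf (Spec.map (CommRingCat.ofHom (algebraMap A B))), ⊤) → Ω[B⁄A],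
      ∀ ω : Ω[B⁄A], G (OmAff.toSpec A B ω) = ω := by
  let f := Spec.map (CommRingCat.ofHom (algebraMap A B))
  have hU : IsAffineOpen (⊤ : (Spec (CommRingCat.of B)).Opens) := isAffineOpen_top _
  have hV : IsAffineOpen (⊤ : (Spec (CommRingCat.of A)).Opens) := isAffineOpen_top _
  have e : (⊤ : (Spec (CommRingCat.of B)).Opens) ≤ f ⁻¹ᵁ ⊤ := le_top
  letI := algΓ f e
  obtain ⟨E, hE, hED⟩ := exists_addEquiv_sections_omega_D f hU hV e
  let sA : Γ(Spec (CommRingCat.of A), ⊤) →+* A := (Scheme.ΓSpecIso (CommRingCat.of A)).hom.hom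
  let sB : Γ(Spec (CommRingCat.of B), ⊤) →+* B := (Scheme.ΓSpecIso (CommRingCat.of B)).hom.hom
  have hsB : ∀ b : B, sB (OmAff.toΓ B b) = b := fun b =>
    congrArg (fun k => k.hom b) (Scheme.ΓSpecIso (CommRingCat.of B)).inv_hom_id
  letI : Algebra Γ(Spec (CommRingCat.of A), ⊤) A := sA.toAlgebra
  letI : Algebra Γ(Spec (CommRingCat.of B), ⊤) B := sB.toAlgebra
  letI : Algebra Γ(Spec (CommRingCat.of A), ⊤) B := ((algebraMap A B).comp sA).toAlgebra
  haveI : IsScalarTower Γ(Spec (CommRingCat.of A), ⊤) A B := IsScalarTower.of_algebraMap_eq' rfl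
  haveI : IsScalarTower Γ(Spec (CommRingCat.of A), ⊤) Γ(Spec (CommRingCat.of B), ⊤) B := by
    apply IsScalarTower.of_algebraMap_eq'
    ext r
    change algebraMap A B (sA r) = sB ((f.appLE ⊤ ⊤ e).hom r)
    have h1 : f.appLE ⊤ ⊤ e = f.appTop := Scheme.Hom.appLE_eq_app f
    rw [h1]
    have h2 := Scheme.ΓSpecIso_naturality (CommRingCat.ofHom (algebraMap A B))
    exact (congrArg (fun k => k.hom r) h2).symm
  haveI : SMulCommClass A Γ(Spec (CommRingCat.of B), ⊤) B :=
    ⟨fun a a' b => by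
      simp only [Algebra.smul_def]
      ring⟩
  let κ : Ω[Γ(Spec (CommRingCat.of B), ⊤)⁄Γ(Spec (CommRingCat.of A), ⊤)] →ₗ[Γ(Spec (CommRingCat.of B), ⊤)]
      Ω[B⁄A] :=
    KaehlerDifferential.map Γ(Spec (CommRingCat.of A), ⊤) A Γ(Spec (CommRingCat.of B), ⊤) B
  have hED' : ∀ b : Γ(Spec (CommRingCat.of B), ⊤),
      E (OmegaSh.dSect (Spec.map (CommRingCat.ofHom (algebraMap A B))) ⊤ b) =
        KaehlerDifferential.D Γ(Spec (CommRingCat.of A), ⊤) Γ(Spec (CommRingCat.of B), ⊤) b := hED
  have hE' : ∀ (c : Γ(Spec (CommRingCat.of B), ⊤))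
      (s : Γ(Omega.sheaf (Spec.map (CommRingCat.ofHom (algebraMap A B))), ⊤)),
      E (c • s) = c • E s := hE
  refine ⟨fun s => κ (E s), ?_⟩
  intro ω
  change κ (E (OmAff.toSpec A B ω)) = ω
  have hω : ω ∈ Submodule.span B (Set.range (KaehlerDifferential.D A B)) := by
    rw [KaehlerDifferential.span_range_derivation]; trivial
  induction hω using Submodule.span_induction with
  | mem y hy =>
    obtain ⟨b, rfl⟩ := hy
    rw [OmAff.toSpec_D, hED', KaehlerDifferential.map_D]
    congr 1
    exact hsB b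
  | zero => simp only [map_zero]
  | add y z _ _ hy hz =>
    rw [map_add, map_add, map_add, hy, hz]
  | smul c y _ hy =>
    rw [LinearMap.map_smulₛₗ, hE', map_smul, hy]
    rw [← algebraMap_smul B (OmAff.toΓ B c) y]
    congr 1
    exact hsB c

theorem toSpec_surjective : Function.Surjective (OmAff.toSpec A B) := by
  let f := Spec.map (CommRingCat.ofHom (algebraMap A B))
  have hU : IsAffineOpen (⊤ : (Spec (CommRingCat.of B)).Opens) := isAffineOpen_top _
  have hV : IsAffineOpen (⊤ : (Spec (CommRingCat.of A)).Opens) := isAffineOpen_top _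
  have e : (⊤ : (Spec (CommRingCat.of B)).Opens) ≤ f ⁻¹ᵁ ⊤ := le_top
  letI := algΓ f e
  obtain ⟨E, hE, hED⟩ := exists_addEquiv_sections_omega_D f hU hV e
  have hED' : ∀ b : Γ(Spec (CommRingCat.of B), ⊤),
      E (OmegaSh.dSect (Spec.map (CommRingCat.ofHom (algebraMap A B))) ⊤ b) =
        KaehlerDifferential.D Γ(Spec (CommRingCat.of A), ⊤) Γ(Spec (CommRingCat.of B), ⊤) b := hED
  have hE' : ∀ (c : Γ(Spec (CommRingCat.of B), ⊤))
      (s : Γ(Omega.sheaf (Spec.map (CommRingCat.ofHom (algebraMap A B))), ⊤)),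
      E (c • s) = c • E s := hE
  let sB : Γ(Spec (CommRingCat.of B), ⊤) →+* B := (Scheme.ΓSpecIso (CommRingCat.of B)).hom.hom
  have hsB : ∀ b' : Γ(Spec (CommRingCat.of B), ⊤), OmAff.toΓ B (sB b') = b' := fun b' =>
    congrArg (fun k => k.hom b') (Scheme.ΓSpecIso (CommRingCat.of B)).hom_inv_id
  have key : ∀ ω' : Ω[Γ(Spec (CommRingCat.of B), ⊤)⁄Γ(Spec (CommRingCat.of A), ⊤)],
      ∃ ω : Ω[B⁄A], OmAff.toSpec A B ω = E.symm ω' := by
    intro ω'
    have hω : ω' ∈ Submodule.span Γ(Spec (CommRingCat.of B), ⊤) (Set.range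
        (KaehlerDifferential.D Γ(Spec (CommRingCat.of A), ⊤) Γ(Spec (CommRingCat.of B), ⊤))) := by
      rw [KaehlerDifferential.span_range_derivation]; trivial
    induction hω using Submodule.span_induction with
    | mem y hy =>
      obtain ⟨b', rfl⟩ := hy
      refine ⟨KaehlerDifferential.D A B (sB b'), ?_⟩
      rw [OmAff.toSpec_D, hsB, ← hED', E.symm_apply_apply]
    | zero => exact ⟨0, by rw [map_zero, map_zero]⟩
    | add y z _ _ hy hz =>
      obtain ⟨a, ha⟩ := hy
      obtain ⟨b, hb⟩ := hz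
      exact ⟨a + b, by rw [map_add, map_add, ha, hb]⟩
    | smul c y _ hy =>
      obtain ⟨a, ha⟩ := hy
      refine ⟨sB c • a, ?_⟩
      rw [LinearMap.map_smulₛₗ, hsB, ha]
      apply E.injective
      rw [hE', E.apply_symm_apply, E.apply_symm_apply]
  intro s
  obtain ⟨ω, hω⟩ := key (E s)
  exact ⟨ω, by rw [hω, E.symm_apply_apply]⟩

end helpers

/-- For a commutative ring `A` and a commutative `A`-algebra `B`, the canonical map from the module of
Kähler differentials `Ω[B⁄A]` to the global sections of the sheaf of relative differentials of `Spec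
B ⟶ Spec A`, semilinear along the identification of `B` with the ring of global functions on `Spec
B` and sending `D b` to `d_{X/Y}` of the global function `b`, is bijective. -/
theorem result (A B : Type u) [CommRing A] [CommRing B] [Algebra A B] :
    Function.Bijective (OmAff.toSpec A B) := by
  refine ⟨?_, toSpec_surjective A B⟩
  obtain ⟨G, hG⟩ := key_exists A B
  intro a b hab
  rw [← hG a, ← hG b, hab]

end Groth.Agent.S15742
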