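import Groth.Statements.S15741
import Mathlib
import Groth.Agent.Helper19.OmegaD2
-- import your own Groth.Agent.* helpers here

set_option autoImplicit false
universe u
open CategoryTheory AlgebraicGeometry
open Mor

namespace Groth.Agent.S15741

section helpers

open Groth.Agent.Helper19.OmegaD Groth.Agent.Helper19.OmegaLocal

variable {X Y : Scheme.{u}} (f : X ⟶ Y) [QuasiSeparated f]

theorem toSect_bijective {U : X.Opens} (hU : IsAffineOpen U) {V : Y.Opens} (hV : IsAffineOpen V)
    (h : U ≤ f ⁻¹ᵁ V) : Function.Bijective (OmAff.toSect f V U h) := by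
  letI := algΓ f h
  obtain ⟨E, hE, hED⟩ := exists_addEquiv_sections_omega_D f hU hV h
  let T : Ω[Γ(X, U)⁄Γ(Y, V)] →ₗ[Γ(X, U)] Γ(Omega.sheaf f, U) := (OmAff.toSect f V U h).hom
  have hT : ∀ b : Γ(X, U), T (KaehlerDifferential.D Γ(Y, V) Γ(X, U) b) = OmegaSh.dSect f U b :=
    fun b => OmAff.toSect_d f V U h b
  have key : ∀ ω : Ω[Γ(X, U)⁄Γ(Y, V)], E (T ω) = ω := by
    intro ω
    have hω : ω ∈ Submodule.span Γ(X, U) (Set.range (KaehlerDifferential.D Γ(Y, V) Γ(X, U))) := by
      rw [KaehlerDifferential.span_range_derivation]; trivial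
    induction hω using Submodule.span_induction with
    | mem y hy =>
      obtain ⟨b, rfl⟩ := hy
      rw [hT, hED]
    | zero => rw [map_zero, map_zero]
    | add y z _ _ hy hz => rw [map_add, map_add, hy, hz]
    | smul c y _ hy => rw [map_smul, hE, hy]
  change Function.Bijective T
  constructor
  · intro a b hab
    rw [← key a, ← key b, hab]
  · intro s
    refine ⟨E s, ?_⟩
    apply E.injective
    rw [key]

end helpers

/-- For a quasi-separated morphism of schemes `f : X ⟶ Y` and affine opens `U ⊆ X`, `V ⊆ Y` with `U ≤
f⁻¹ V`, the canonical `Γ(X, U)`-linear map from the module of Kähler differentials of the ring `Γ(X,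
U)` over `Γ(Y, V)` to the sections over `U` of the sheaf of relative differentials of `f` — the map
sending `d b` to `d_{X/Y} b` — is an isomorphism. (Quasi-separatedness of `f` is the standing
hypothesis under which the sheaf of relative differentials is named in this library; the published
statement is for an arbitrary morphism of schemes.) -/
theorem result (X Y : Scheme.{u}) (f : X ⟶ Y) [QuasiSeparated f]
    (U : X.affineOpens) (V : Y.affineOpens) (h : U.1 ≤ f ⁻¹ᵁ V.1) :
    IsIso (OmAff.toSect f V.1 U.1 h) := by
  rw [ConcreteCategory.isIso_iff_bijective]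
  exact toSect_bijective f U.2 V.2 h

end Groth.Agent.S15741
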