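import Groth.Statements.S5005
import Mathlib
import Groth.Agent.S15741
import Groth.Agent.Helper19.OmegaD3
-- import your own Groth.Agent.* helpers here

set_option autoImplicit false
universe u
open CategoryTheory CategoryTheory.Limits AlgebraicGeometry TopologicalSpace
open Nrm16

namespace Groth.Agent.S5005

section helpers

open Groth.Agent.Lib.Helper29.QCoh Groth.Agent.Helper19.OmegaD Groth.Agent.Helper19.OmegaLocal
open Opposite

variable {X Y : Scheme.{u}} (f : X ⟶ Y)

/-- Affine opens mapping into an affine open of the base. -/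
def goodOpens : Set X.Opens :=
  {U | IsAffineOpen U ∧ ∃ V : Y.Opens, IsAffineOpen V ∧ U ≤ f ⁻¹ᵁ V}

theorem isBasis_goodOpens : Opens.IsBasis (goodOpens f) := by
  rw [Opens.isBasis_iff_nbhd]
  intro W x hx
  obtain ⟨V, hV, hxV, -⟩ := exists_isAffineOpen_mem_and_subset (x := f x) (U := ⊤) trivial
  obtain ⟨U, hU, hxU, hUW⟩ :=
    exists_isAffineOpen_mem_and_subset (x := x) (U := W ⊓ f ⁻¹ᵁ V) ⟨hx, hxV⟩
  exact ⟨U, ⟨hU, V, hV, hUW.trans inf_le_right⟩, hxU, hUW.trans inf_le_left⟩

variable [QuasiSeparated f]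

theorem span_dSect {U : X.Opens} (hU : IsAffineOpen U) {V : Y.Opens} (hV : IsAffineOpen V)
    (h : U ≤ f ⁻¹ᵁ V) :
    Submodule.span Γ(X, U) (Set.range (OmegaSh.dSect f U)) = ⊤ := by
  letI := algΓ f h
  let T : Ω[Γ(X, U)⁄Γ(Y, V)] →ₗ[Γ(X, U)] Γ(Omega.sheaf f, U) := (OmAff.toSect f V U h).hom
  have hT : ∀ b : Γ(X, U), T (KaehlerDifferential.D Γ(Y, V) Γ(X, U) b) = OmegaSh.dSect f U b :=
    fun b => OmAff.toSect_d f V U h b
  have hbij : Function.Bijective T := Groth.Agent.S15741.toSect_bijective f hU hV h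
  have h1 : Set.range (OmegaSh.dSect f U) =
      T '' Set.range (KaehlerDifferential.D Γ(Y, V) Γ(X, U)) := by
    ext s
    constructor
    · rintro ⟨b, rfl⟩
      exact ⟨_, ⟨b, rfl⟩, hT b⟩
    · rintro ⟨_, ⟨b, rfl⟩, rfl⟩
      exact ⟨b, (hT b).symm⟩
  rw [h1, ← Submodule.map_span, KaehlerDifferential.span_range_derivation, Submodule.map_top,
    LinearMap.range_eq_top]
  exact hbij.2

theorem der_appLE (F : X.Modules) (D : OmegaSh.Der f F) {U : X.Opens} {V : Y.Opens}
    (h : U ≤ f ⁻¹ᵁ V) (c : Γ(Y, V)) : D.app U (f.appLE V U h c) = 0 := by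
  rw [Scheme.Hom.appLE]
  change D.app U (X.presheaf.map (homOfLE h).op (f.app V c)) = 0
  have h1 := D.d_map (X := op (f ⁻¹ᵁ V)) (Y := op U) (homOfLE h).op (f.app V c)
  have h2 : D.d (X := op (f ⁻¹ᵁ V)) (f.app V c) = 0 := D.d_app (X := op V) c
  rw [h2, map_zero] at h1
  exact h1

theorem exists_local (F : X.Modules) (D : OmegaSh.Der f F) {U : X.Opens} (hU : IsAffineOpen U)
    {V : Y.Opens} (hV : IsAffineOpen V) (h : U ≤ f ⁻¹ᵁ V) :
    ∃ φ : Γ(Omega.sheaf f, U) →ₗ[Γ(X, U)] Γ(F, U),
      ∀ b : Γ(X, U), φ (OmegaSh.dSect f U b) = D.app U b := by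
  letI := algΓ f h
  let T : Ω[Γ(X, U)⁄Γ(Y, V)] →ₗ[Γ(X, U)] Γ(Omega.sheaf f, U) := (OmAff.toSect f V U h).hom
  have hT : ∀ b : Γ(X, U), T (KaehlerDifferential.D Γ(Y, V) Γ(X, U) b) = OmegaSh.dSect f U b :=
    fun b => OmAff.toSect_d f V U h b
  have hbij : Function.Bijective T := Groth.Agent.S15741.toSect_bijective f hU hV h
  let δ : (OmAff.sectMod F U).Derivation (f.appLE V U h) :=
    ModuleCat.Derivation.mk (fun b => D.app U b) (fun b b' => map_add _ b b')
      (fun b b' => D.d_mul (X := op U) b b') (fun c => der_appLE f F D h c)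
  let G : Ω[Γ(X, U)⁄Γ(Y, V)] →ₗ[Γ(X, U)] Γ(F, U) := δ.desc.hom
  have hG : ∀ b : Γ(X, U), G (KaehlerDifferential.D Γ(Y, V) Γ(X, U) b) = D.app U b :=
    fun b => δ.desc_d b
  let e := LinearEquiv.ofBijective T hbij
  refine ⟨G ∘ₗ e.symm.toLinearMap, fun b => ?_⟩
  have : e.symm (OmegaSh.dSect f U b) = KaehlerDifferential.D Γ(Y, V) Γ(X, U) b := by
    rw [LinearEquiv.symm_apply_eq]
    exact (hT b).symm
  change G (e.symm (OmegaSh.dSect f U b)) = _
  rw [this, hG]

theorem dSect_res {U U' : X.Opens} (h : U' ≤ U) (b : Γ(X, U)) :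
    res (Omega.sheaf f) h (OmegaSh.dSect f U b) =
      OmegaSh.dSect f U' (X.presheaf.map (homOfLE h).op b) :=
  (OmegaSh.dSect_map f h b).symm

theorem der_res (F : X.Modules) (D : OmegaSh.Der f F) {U U' : X.Opens} (h : U' ≤ U)
    (b : Γ(X, U)) :
    D.app U' (X.presheaf.map (homOfLE h).op b) = res F h (D.app U b) :=
  D.d_map (X := op U) (Y := op U') (homOfLE h).op b

theorem universal : OmegaSh.IsUniversal (OmegaSh.dOmega f) := by
  intro F D
  have hloc : ∀ U : goodOpens f, ∃ φ : Γ(Omega.sheaf f, U.1) →ₗ[Γ(X, U.1)] Γ(F, U.1),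
      ∀ b : Γ(X, U.1), φ (OmegaSh.dSect f U.1 b) = D.app U.1 b := by
    rintro ⟨U, hU, V, hV, h⟩
    exact exists_local f F D hU hV h
  choose φ hφ using hloc
  have hspan : ∀ U : goodOpens f,
      Submodule.span Γ(X, U.1) (Set.range (OmegaSh.dSect f U.1)) = ⊤ := by
    rintro ⟨U, hU, V, hV, h⟩
    exact span_dSect f hU hV h
  have hres : ∀ (U U' : goodOpens f) (h : U'.1 ≤ U.1) (m : Γ(Omega.sheaf f, U.1)),
      (φ U').toAddMonoidHom (res (Omega.sheaf f) h m) = res F h ((φ U).toAddMonoidHom m) := by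
    intro U U' h m
    change φ U' (res (Omega.sheaf f) h m) = res F h (φ U m)
    have hm : m ∈ Submodule.span Γ(X, U.1) (Set.range (OmegaSh.dSect f U.1)) := by
      rw [hspan U]; trivial
    induction hm using Submodule.span_induction with
    | mem y hy =>
      obtain ⟨b, rfl⟩ := hy
      rw [dSect_res, hφ, hφ, der_res]
    | zero => rw [map_zero, map_zero, map_zero, map_zero]
    | add y z _ _ hy hz => rw [map_add, map_add, map_add, map_add, hy, hz]
    | smul a y _ hy => rw [res_smul, map_smul, map_smul, res_smul, hy]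
  obtain ⟨α, hα⟩ := exists_hom_of_basis (goodOpens f) (isBasis_goodOpens f)
    (fun U => (φ U).toAddMonoidHom) (fun U r m => (φ U).map_smul r m) hres
  have hαd : ∀ (W : X.Opens) (s : Γ(X, W)), α.app W (OmegaSh.dSect f W s) = D.app W s := by
    intro W s
    apply eq_of_res_basis_eq F (goodOpens f) (isBasis_goodOpens f)
    intro U hUB hUW
    rw [← app_res α hUW, dSect_res, hα ⟨U, hUB⟩, ← der_res]
    exact hφ ⟨U, hUB⟩ _
  refine ⟨α, ?_, ?_⟩
  · apply PresheafOfModules.Derivation.ext
    funext W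
    ext s
    exact hαd W.unop s
  · intro α' hα'
    apply hom_ext_of_basis (goodOpens f) (isBasis_goodOpens f)
    intro U hUB m
    have hα'd : ∀ b : Γ(X, U), α'.app U (OmegaSh.dSect f U b) = D.app U b := by
      intro b
      have := PresheafOfModules.Derivation.congr_d hα' (X := op U) b
      exact this
    have hm : m ∈ Submodule.span Γ(X, U) (Set.range (OmegaSh.dSect f U)) := by
      rw [hspan ⟨U, hUB⟩]; trivial
    induction hm using Submodule.span_induction with
    | mem y hy =>
      obtain ⟨b, rfl⟩ := hy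
      rw [hα'd, hαd]
    | zero => rw [map_zero, map_zero]
    | add y z _ _ hy hz => rw [map_add, map_add, hy, hz]
    | smul a y _ hy =>
      rw [Scheme.Modules.Hom.app_smul, Scheme.Modules.Hom.app_smul, hy]

end helpers

/-- Let f : X ⟶ Y be a quasi-separated morphism of schemes. The differential d_{X/Y} from the structure
sheaf to the sheaf of differentials (the conormal sheaf of the diagonal) is a universal derivation:
composition with it is a bijection between O_X-linear maps out of the sheaf of differentials into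
any O_X-module F and Y-derivations of O_X into F. (The published statement applies to every morphism
f; this row assumes f quasi-separated, the case in which the differential d_{X/Y} into the conormal
sheaf of the diagonal is constructed here.) -/
theorem result {X Y : Scheme.{u}} (f : X ⟶ Y) [QuasiSeparated f] :
    OmegaSh.IsUniversal (OmegaSh.dOmega f) := by
  exact universal f

end Groth.Agent.S5005
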