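import Groth.Statements.S0320
import Groth.Agent.Lib.Helper16.DepthExt

set_option autoImplicit false
universe u v
open LocCoh

namespace Groth.Agent.S0320

section helpers

open Groth.Agent.Lib.Helper16.Depth CategoryTheory CategoryTheory.Abelian

theorem result_aux (R : Type u) [CommRing R] [IsNoetherianRing R] (I : Ideal R) (M : Type u) [AddCommGroup M] [Module R M] [Module.Finite R M] (hIM : I • (⊤ : Submodule R M) ≠ ⊤) (x : R) (hx : x ∈ I) (hreg : IsSMulRegular M x) : LocCoh.idealDepth I (QuotSMulTop x M) + 1 = LocCoh.idealDepth I M := by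
  have hQ : I • (⊤ : Submodule R (QuotSMulTop x M)) ≠ ⊤ := smul_top_quotSMulTop_ne_top hx hIM
  have key : ∀ n : ℕ, (n : ℕ∞) ≤ LocCoh.idealDepth I (QuotSMulTop x M) ↔
      ((n + 1 : ℕ) : ℕ∞) ≤ LocCoh.idealDepth I M := by
    intro n
    constructor
    · intro h
      rw [le_idealDepth_iff] at h ⊢
      rcases h with h | h
      · exact absurd h hQ
      · exact Or.inr (HasRegSeq.cons hx hreg h)
    · intro h
      rw [le_idealDepth_iff_ext'] at h ⊢
      intro i hi
      have hS := IsSMulRegular.smulShortComplex_shortExact (M := ModuleCat.of R M) hreg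
      exact ext_X₃ hS (ModuleCat.of R (R ⧸ I)) i (h i (by omega)) (h (i + 1) (by omega))
  apply le_antisymm
  · rw [← ENat.forall_natCast_le_iff_le]
    intro n hn
    rcases n with _ | n
    · simp
    · have h1 : (n : ℕ∞) ≤ LocCoh.idealDepth I (QuotSMulTop x M) := by
        push_cast at hn
        exact (ENat.add_le_add_iff_right (by simp)).mp hn
      exact (key n).mp h1
  · rw [← ENat.forall_natCast_le_iff_le]
    intro n hn
    rcases n with _ | n
    · simp
    · have := (key n).mpr hn
      push_cast
      gcongr

end helpers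

/-- For a finite module M over a Noetherian ring with IM ≠ M and x ∈ I a non-zero-divisor on M, the
I-depth of M/xM is one less than that of M. -/
theorem result (R : Type u) [CommRing R] [IsNoetherianRing R] (I : Ideal R) (M : Type u) [AddCommGroup M] [Module R M] [Module.Finite R M] (hIM : I • (⊤ : Submodule R M) ≠ ⊤) (x : R) (hx : x ∈ I) (hreg : IsSMulRegular M x) : LocCoh.idealDepth I (QuotSMulTop x M) + 1 = LocCoh.idealDepth I M := by
  exact result_aux R I M hIM x hx hreg

end Groth.Agent.S0320
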