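import Groth.Statements.S0602
import Mathlib
import Groth.Agent.Lib.Helper18.CM7
import Groth.Agent.Lib.Helper21.RegularLocal

set_option autoImplicit false
universe u
open CAlg

namespace Groth.Agent.S0602

/-- A Noetherian ring is reduced exactly when it satisfies the conditions R₀ and S₁. -/
theorem result (R : Type u) [CommRing R] [IsNoetherianRing R] :
    IsReduced R ↔ (LocCoh.HasRk 0 R ∧ LocCoh.HasSk 1 R R) := by
  constructor
  · intro hred
    refine ⟨?_, ?_⟩
    · intro p hp hht
      have hdim : ringKrullDim (Localization.AtPrime p) ≤ 0 := by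
        rw [IsLocalization.AtPrime.ringKrullDim_eq_height p (Localization.AtPrime p)]
        exact_mod_cast hht
      have hK : Ring.KrullDimLE 0 (Localization.AtPrime p) := Ring.krullDimLE_iff.mpr hdim
      have hart : IsArtinianRing (Localization.AtPrime p) := isArtinianRing_iff_krullDimLE_zero.mpr hK
      have hfield : IsField (Localization.AtPrime p) :=
        IsArtinianRing.isField_of_isReduced_of_isLocalRing _
      let _ : Field (Localization.AtPrime p) := hfield.toField
      infer_instance
    · rw [← Groth.Agent.Lib.Helper18.CM.noEmbeddedPrimes_iff_S1]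
      intro p hp
      have hann : Module.annihilator R R = ⊥ := Module.annihilator_eq_bot.mpr inferInstance
      rw [hann]
      have hpp : p.IsPrime := IsAssociatedPrime.isPrime hp
      obtain ⟨-, x, hx⟩ := isAssociatedPrime_iff.mp hp
      have hx0 : x ≠ 0 := by
        rintro rfl
        apply hpp.ne_top
        rw [Ideal.eq_top_iff_one, hx, Submodule.mem_colon_singleton]
        simp
      have hxrad : x ∉ (⊥ : Ideal R).radical := by
        intro hmem
        apply hx0
        have : IsNilpotent x := by
          obtain ⟨n, hn⟩ := hmem
          exact ⟨n, by simpa using hn⟩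
        exact this.eq_zero
      rw [← Ideal.sInf_minimalPrimes, Ideal.mem_sInf] at hxrad
      push Not at hxrad
      obtain ⟨q, hq, hxq⟩ := hxrad
      have hpq : p ≤ q := by
        intro y hy
        rw [hx, Submodule.mem_colon_singleton, Submodule.mem_bot, smul_eq_mul] at hy
        have : y * x ∈ q := by
          rw [hy]
          exact q.zero_mem
        exact (hq.1.1.mem_or_mem this).resolve_right hxq
      have hqp : q ≤ p := hq.2 ⟨hpp, bot_le⟩ hpq
      rw [le_antisymm hpq hqp]
      exact hq
  · rintro ⟨hR0, hS1⟩
    rw [← Groth.Agent.Lib.Helper18.CM.noEmbeddedPrimes_iff_S1] at hS1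
    have hann : Module.annihilator R R = ⊥ := Module.annihilator_eq_bot.mpr inferInstance
    rw [hann] at hS1
    refine ⟨fun x hxnil => ?_⟩
    by_contra hx0
    obtain ⟨p, hp, hle⟩ := exists_le_isAssociatedPrime_of_isNoetherianRing R x hx0
    have hpp : p.IsPrime := IsAssociatedPrime.isPrime hp
    have hpmin : p ∈ minimalPrimes R := hS1 p hp
    have hht : p.height ≤ ((0 : ℕ) : ℕ∞) := by
      rw [Ideal.height_eq_zero_iff.mpr hpmin]
      simp
    have hreg := hR0 p hht
    have hdom := Groth.Agent.Lib.Helper21.isDomain_of_isRegularLocalRing (Localization.AtPrime p)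
    have h0 : algebraMap R (Localization.AtPrime p) x = 0 :=
      (hxnil.map (algebraMap R (Localization.AtPrime p))).eq_zero
    rw [IsLocalization.map_eq_zero_iff p.primeCompl] at h0
    obtain ⟨s, hs⟩ := h0
    apply s.2
    apply hle
    rw [Submodule.mem_colon_singleton, Submodule.mem_bot, smul_eq_mul]
    exact hs

end Groth.Agent.S0602
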