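import Groth.Statements.S12446
-- import your own Groth.Agent.* helpers here
import Mathlib
import Groth.Agent.Lib.Helper12.CatStalk

set_option autoImplicit false
universe u
open CategoryTheory AlgebraicGeometry
open Props

namespace Groth.Agent.S12446

/-- For a scheme X, the underlying topological space of X is catenary if and only if for every point x
the local ring O_{X,x} is a catenary ring. -/
theorem result (X : Scheme.{u}) :
    PtTop.IsCatenarySpace X ↔ ∀ x : X, CAlg.IsCatenary (X.presheaf.stalk x) := by
  open Groth.Agent.Lib.Helper12.Codim in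
  have key : ∀ x : X, ∃ e : TopologicalSpace.IrreducibleCloseds (PrimeSpectrum (X.presheaf.stalk x)) ↪o
      TopologicalSpace.IrreducibleCloseds X, Set.range e = {Z | x ∈ Z} := fun x =>
    ⟨mapEmb (X.fromSpecStalk x) (X.fromSpecStalk x).isEmbedding.isInducing,
      range_mapEmb_of_generizations _ _ x Scheme.range_fromSpecStalk⟩
  constructor
  · intro h x
    obtain ⟨e, he⟩ := key x
    rw [← isCatenarySpace_primeSpectrum_iff]
    exact isCat_of_embedding e (he ▸ ordConnected_mem x) h
  · intro h
    apply isCat_of_local.{_, u}
    intro a b hab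
    obtain ⟨x, hx⟩ := a.isIrreducible.nonempty
    obtain ⟨e, he⟩ := key x
    refine ⟨_, inferInstance, e, he ▸ ordConnected_mem x,
      (isCatenarySpace_primeSpectrum_iff _).2 (h x), ?_, ?_⟩
    · rw [he]; exact hx
    · rw [he]; exact hab hx

end Groth.Agent.S12446
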