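import Groth.Statements.S0547
import Groth.Agent.Lib.Helper21.AdicNoetherian
import Mathlib.RingTheory.Ideal.KrullsHeightTheorem
import Mathlib.RingTheory.Ideal.GoingDown
import Mathlib.RingTheory.AdicCompletion.AsTensorProduct
-- import your own Groth.Agent.* helpers here

set_option autoImplicit false
universe u
open CAlg

namespace Groth.Agent.S0547

/-- The completion of a Noetherian local ring at its maximal ideal has the same Krull dimension as the
ring. -/
theorem result (A : Type u) [CommRing A] [IsLocalRing A]
    [IsNoetherianRing A] :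
    ringKrullDim (AdicCompletion (IsLocalRing.maximalIdeal A) A) = ringKrullDim A := by
  have hN : IsNoetherianRing (AdicCompletion (IsLocalRing.maximalIdeal A) A) :=
    Groth.Agent.Lib.Helper21.isNoetherianRing_adicCompletion_of_fg _ (IsNoetherian.noetherian _)
  rw [← IsLocalRing.maximalIdeal_height_eq_ringKrullDim,
    ← IsLocalRing.maximalIdeal_height_eq_ringKrullDim]
  congr 1
  have hLO : (IsLocalRing.maximalIdeal (AdicCompletion (IsLocalRing.maximalIdeal A) A)).LiesOver
      (IsLocalRing.maximalIdeal A) :=
    ⟨(IsLocalRing.maximalIdeal_comap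
      (algebraMap A (AdicCompletion (IsLocalRing.maximalIdeal A) A))).symm⟩
  rw [Ideal.height_eq_height_add_of_liesOver_of_hasGoingDown (IsLocalRing.maximalIdeal A)
    (IsLocalRing.maximalIdeal (AdicCompletion (IsLocalRing.maximalIdeal A) A))]
  have hne : (IsLocalRing.maximalIdeal A).map
      (algebraMap A (AdicCompletion (IsLocalRing.maximalIdeal A) A)) ≠ ⊤ := by
    rw [← AdicCompletion.maximalIdeal_eq_map]
    exact Ideal.IsPrime.ne_top'
  have : Nontrivial (AdicCompletion (IsLocalRing.maximalIdeal A) A ⧸
      (IsLocalRing.maximalIdeal A).map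
        (algebraMap A (AdicCompletion (IsLocalRing.maximalIdeal A) A))) :=
    Ideal.Quotient.nontrivial_iff.mpr hne
  have h0 : (IsLocalRing.maximalIdeal (AdicCompletion (IsLocalRing.maximalIdeal A) A)).map
      (Ideal.Quotient.mk ((IsLocalRing.maximalIdeal A).map
        (algebraMap A (AdicCompletion (IsLocalRing.maximalIdeal A) A)))) = ⊥ := by
    conv_lhs => rw [AdicCompletion.maximalIdeal_eq_map]
    exact Ideal.map_quotient_self _
  rw [h0, Ideal.height_bot, add_zero]

end Groth.Agent.S0547
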