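import Groth.Statements.S5178
import Groth.Agent.Lib.Helper16.CIInv5
import Groth.Agent.S0547

set_option autoImplicit false
universe u
open CInt

namespace Groth.Agent.S5178

section helpers
open CInt

theorem result_aux (A : Type u) [CommRing A] [IsLocalRing A] [IsNoetherianRing A] (B : Type u) [CommRing B] [IsRegularLocalRing B] (I : Ideal B) (hpres : Nonempty (AdicCompletion (IsLocalRing.maximalIdeal A) A ≃+* B ⧸ I)) (d e : ℕ) (hd : ringKrullDim A = (d : WithBot ℕ∞)) (he : ringKrullDim B = (e : WithBot ℕ∞)) : (e : ℤ) - (I.spanFinrank : ℤ) ≤ (d : ℤ) ∧ ((e : ℤ) - (I.spanFinrank : ℤ) = (d : ℤ) ↔ Pi1.IsCompleteIntersection A) := by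
  classical
  obtain ⟨ε⟩ := hpres
  have hdim : ringKrullDim (B ⧸ I) = (d : WithBot ℕ∞) := by
    rw [← ringKrullDim_eq_of_ringEquiv ε, Groth.Agent.S0547.result A, hd]
  have hnt : Nontrivial (B ⧸ I) := ε.symm.toRingHom.domain_nontrivial
  have hI : I ≠ ⊤ := Ideal.Quotient.nontrivial_iff.mp hnt
  have h1 := Groth.Agent.Lib.Helper16.CIInv.dim_le_add_spanFinrank I hI d e hdim he
  have hiff := Groth.Agent.Lib.Helper16.CIInv.exists_isRegular_iff I hI d e hdim he
  refine ⟨by omega, ?_⟩
  constructor
  · intro h
    obtain ⟨xs, hxs, hreg⟩ := hiff.mpr (by omega)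
    refine ⟨B, inferInstance, inferInstance, xs, ?_, hreg, ⟨ε.trans (Ideal.quotEquivOfEq ?_)⟩⟩
    · intro x hx
      exact IsLocalRing.le_maximalIdeal hI (hxs ▸ Ideal.subset_span hx)
    · exact hxs.symm
  · rintro ⟨B', _, _, rs, hmem, hreg, ⟨e'⟩⟩
    let f : B →+* AdicCompletion (IsLocalRing.maximalIdeal A) A :=
      ε.symm.toRingHom.comp (Ideal.Quotient.mk I)
    let f' : B' →+* AdicCompletion (IsLocalRing.maximalIdeal A) A :=
      e'.symm.toRingHom.comp (Ideal.Quotient.mk (Ideal.span {r | r ∈ rs}))
    have hf : Function.Surjective f := ε.symm.surjective.comp Ideal.Quotient.mk_surjective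
    have hf' : Function.Surjective f' := e'.symm.surjective.comp Ideal.Quotient.mk_surjective
    have hker : RingHom.ker f = I := by
      show RingHom.ker (ε.symm.toRingHom.comp _) = _
      rw [RingHom.ker_equiv_comp, Ideal.mk_ker]
    have hker' : RingHom.ker f' = Ideal.ofList rs := by
      show RingHom.ker (e'.symm.toRingHom.comp _) = _
      rw [RingHom.ker_equiv_comp, Ideal.mk_ker]
    obtain ⟨xs, hxs, hxreg⟩ :=
      Groth.Agent.Lib.Helper16.CIInv.exists_isRegular_of_exists_isRegular B B' f hf f' hf'
        ⟨rs, hker'.symm, hreg⟩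
    have := hiff.mp ⟨xs, hxs.trans hker, hxreg⟩
    omega

end helpers

/-- Let A be a Noetherian local ring of dimension d, and let the completion of A be presented as B/I
with B a regular local ring of dimension e and I an ideal whose minimal number of generators is q,
so that e − q is the geometric depth of A (this number does not depend on the presentation). Then e
− q ≤ d, and equality holds if and only if A is a complete intersection, i.e. its completion is a
regular local ring modulo an ideal generated by a regular sequence. -/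
theorem result (A : Type u) [CommRing A] [IsLocalRing A] [IsNoetherianRing A] (B : Type u) [CommRing B] [IsRegularLocalRing B] (I : Ideal B) (hpres : Nonempty (AdicCompletion (IsLocalRing.maximalIdeal A) A ≃+* B ⧸ I)) (d e : ℕ) (hd : ringKrullDim A = (d : WithBot ℕ∞)) (he : ringKrullDim B = (e : WithBot ℕ∞)) : (e : ℤ) - (I.spanFinrank : ℤ) ≤ (d : ℤ) ∧ ((e : ℤ) - (I.spanFinrank : ℤ) = (d : ℤ) ↔ Pi1.IsCompleteIntersection A) := by
  exact result_aux A B I hpres d e hd he

end Groth.Agent.S5178
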