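import Groth.Statements.S4537
import Mathlib
import Groth.Agent.Lib.Helper23.AdicSmooth
-- import your own Groth.Agent.* helpers here

set_option autoImplicit false
universe u
open EGA41

namespace Groth.Agent.S4537

/-- lifting along an algebra map with square-zero kernel, for the square-zero notion -/
lemma lift_of_ker_sq {A B : Type u} [CommRing A] [CommRing B] [Algebra A B] {𝔫 : Ideal B}
    (h : CAlgX.IsAdicFormallySmooth A B 𝔫) {R S : Type u} [CommRing R] [CommRing S] [Algebra A R]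
    [Algebra A S] (π : R →ₐ[A] S) (hπ : Function.Surjective π)
    (hK2 : ∀ x y, π x = 0 → π y = 0 → x * y = 0)
    (u : B →ₐ[A] S) (hu : ∃ m : ℕ, ∀ x ∈ 𝔫 ^ m, u x = 0) :
    ∃ v : B →ₐ[A] R, (∀ b, π (v b) = u b) ∧ ∃ m : ℕ, ∀ x ∈ 𝔫 ^ m, v x = 0 := by
  have hJ : RingHom.ker π ^ 2 = ⊥ := by
    rw [eq_bot_iff, pow_two, Ideal.mul_le]
    intro x hx y hy
    rw [Ideal.mem_bot]
    exact hK2 x y hx hy
  let e : (R ⧸ RingHom.ker π) ≃ₐ[A] S := Ideal.quotientKerAlgEquivOfSurjective hπ
  obtain ⟨m, hm⟩ := hu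
  obtain ⟨χ, hχ⟩ := h R (RingHom.ker π) hJ (e.symm.toAlgHom.comp u)
    ⟨m, fun x hx => by
      show e.symm (u x) = 0
      rw [hm x hx, map_zero]⟩
  have hπχ : ∀ b, π (χ b) = u b := by
    intro b
    have h1 : Ideal.Quotient.mk _ (χ b) = e.symm (u b) := congrArg (fun f => f b) hχ
    have h2 := congrArg e h1
    rw [AlgEquiv.apply_symm_apply] at h2
    rw [← h2]
    exact (Ideal.quotientKerAlgEquivOfSurjective_mk hπ (χ b)).symm
  refine ⟨χ, hπχ, 2 * m, ?_⟩
  intro x hx
  rw [mul_comm, pow_mul, pow_two] at hx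
  refine Submodule.mul_induction_on hx ?_ ?_
  · intro y hy y' hy'
    rw [map_mul]
    apply hK2
    · rw [hπχ, hm y hy]
    · rw [hπχ, hm y' hy']
  · intro y y' hy hy'
    rw [map_add, hy, hy', add_zero]


/-- For a discrete base and an adic algebra: let A be a discrete ring and B an A-algebra with the 𝔫-adic
topology. If every continuous A-algebra map from B to a quotient C/J with J² = 0 lifts to C, then
the same holds for every nilpotent J; hence the square-zero and the nilpotent forms of adic formal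
smoothness agree. -/
theorem result {A B : Type u} [CommRing A] [CommRing B] [Algebra A B]
    (𝔫 : Ideal B) :
    CAlgX.IsAdicFormallySmooth A B 𝔫 ↔ EGA41.IsFormallySmoothAdic A ⊥ B 𝔫 := by
  constructor
  · intro h
    apply Groth.Agent.Lib.Helper23.AdicSmooth.of_smallStep
    intro C' C'' _ _ _ _ π hπ hK2 _ _ u hu
    exact lift_of_ker_sq h π hπ hK2 u hu
  · intro h C _ _ J hJ ψ hψ
    exact h C J ⟨2, hJ⟩ ⟨1, by rw [pow_one, Ideal.map_bot]⟩ ψ hψ

end Groth.Agent.S4537
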