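import Groth.Statements.S4542
import Mathlib
-- import your own Groth.Agent.* helpers here

set_option autoImplicit false
universe u
open EGA41

namespace Groth.Agent.S4542


section
variable {A B : Type u} [CommRing A] [CommRing B] [Algebra A B] {𝔞 : Ideal A} {𝔟 : Ideal B}

/-- lifting along an `A`-algebra map with nilpotent kernel out of a discrete `A`-algebra. -/
lemma lift_of_ker_nilpotent (hB : IsFormallySmoothAdic A 𝔞 B 𝔟) {R S : Type u} [CommRing R]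
    [CommRing S] [Algebra A R] [Algebra A S]
    (ψ : R →ₐ[A] S) (hψ : IsNilpotent (RingHom.ker ψ))
    (hR : ∃ k : ℕ, (𝔞 ^ k).map (algebraMap A R) = ⊥)
    (g : B →ₐ[A] S) (hg : ∃ N : ℕ, ∀ x ∈ 𝔟 ^ N, g x = 0) (hrange : ∀ b, ∃ r, ψ r = g b) :
    ∃ v : B →ₐ[A] R, (∀ b, ψ (v b) = g b) ∧ ∃ N : ℕ, ∀ x ∈ 𝔟 ^ N, v x = 0 := by
  set J : Ideal R := RingHom.ker ψ with hJdef
  let ι : R ⧸ J →ₐ[A] S := Ideal.kerLiftAlg ψ
  have hι : Function.Injective ι := Ideal.kerLiftAlg_injective ψ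
  have hmem : ∀ b, g b ∈ ι.range := by
    intro b
    obtain ⟨r, hr⟩ := hrange b
    exact ⟨Ideal.Quotient.mk J r, by rw [← hr]; exact Ideal.kerLiftAlg_mk ψ r⟩
  let u : B →ₐ[A] R ⧸ J :=
    (AlgEquiv.ofInjective ι hι).symm.toAlgHom.comp (g.codRestrict ι.range hmem)
  have hιu : ∀ b, ι (u b) = g b := by
    intro b
    have h1 : (AlgEquiv.ofInjective ι hι) (u b) = g.codRestrict ι.range hmem b :=
      AlgEquiv.apply_symm_apply _ _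
    have h2 := congrArg Subtype.val h1
    simpa using h2
  obtain ⟨N, hN⟩ := hg
  have hu : ∃ k : ℕ, ∀ x ∈ 𝔟 ^ k, u x = 0 := by
    refine ⟨N, fun x hx => hι ?_⟩
    rw [hιu, hN x hx, map_zero]
  obtain ⟨v, hv⟩ := hB R J hψ hR u hu
  have hψv : ∀ b, ψ (v b) = g b := by
    intro b
    rw [← hιu b, ← hv]
    exact (Ideal.kerLiftAlg_mk ψ (v b)).symm
  refine ⟨v, hψv, ?_⟩
  obtain ⟨M, hM⟩ := hψ
  refine ⟨N * M, fun x hx => ?_⟩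
  have h1 : (𝔟 ^ N).map v.toRingHom ≤ J := by
    rw [Ideal.map_le_iff_le_comap]
    intro y hy
    show ψ (v y) = 0
    rw [hψv, hN y hy]
  have h2 : (𝔟 ^ (N * M)).map v.toRingHom ≤ ⊥ := by
    rw [pow_mul, Ideal.map_pow]
    refine (Ideal.pow_right_mono h1 M).trans ?_
    rw [hM]
    exact le_of_eq Ideal.zero_eq_bot
  exact (Ideal.mem_bot).1 (h2 (Ideal.mem_map_of_mem _ hx))

end



section
variable {A B C : Type u} [CommRing A] [CommRing B] [CommRing C] [Algebra A B] [Algebra A C]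
  (𝔠 : Ideal C) (J : Ideal C)

variable (A) in
/-- `C/J → C/(J ⊔ 𝔠^m)` -/
noncomputable abbrev q (m : ℕ) : (C ⧸ J) →ₐ[A] C ⧸ (J ⊔ 𝔠 ^ m) :=
  Ideal.Quotient.factorₐ A le_sup_left

variable (A) in
/-- `C/𝔠^m → C/(J ⊔ 𝔠^m)` -/
noncomputable abbrev π (m : ℕ) : (C ⧸ 𝔠 ^ m) →ₐ[A] C ⧸ (J ⊔ 𝔠 ^ m) :=
  Ideal.Quotient.factorₐ A le_sup_right

variable (A) in
/-- `C/𝔠^(m+1) → C/𝔠^m` -/
noncomputable abbrev ρ (m : ℕ) : (C ⧸ 𝔠 ^ (m + 1)) →ₐ[A] C ⧸ 𝔠 ^ m :=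
  Ideal.Quotient.factorₐ A (Ideal.pow_le_pow_right (Nat.le_succ m))

lemma ker_π_nilpotent (m : ℕ) (t : ℕ) (ht : J ^ t ≤ 𝔠) :
    IsNilpotent (RingHom.ker (π A 𝔠 J m)) := by
  have hle : RingHom.ker (π A 𝔠 J m) ≤ J.map (Ideal.Quotient.mk (𝔠 ^ m)) := by
    intro x hx
    obtain ⟨c, rfl⟩ := Ideal.Quotient.mk_surjective x
    have h1 : Ideal.Quotient.mk (J ⊔ 𝔠 ^ m) c = 0 := hx
    rw [Ideal.Quotient.eq_zero_iff_mem, Submodule.mem_sup] at h1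
    obtain ⟨j, hj, i, hi, rfl⟩ := h1
    rw [map_add, Ideal.Quotient.eq_zero_iff_mem.2 hi, add_zero]
    exact Ideal.mem_map_of_mem _ hj
  refine ⟨t * m, ?_⟩
  rw [Ideal.zero_eq_bot, eq_bot_iff]
  refine (Ideal.pow_right_mono hle _).trans ?_
  rw [← Ideal.map_pow, pow_mul]
  refine (Ideal.map_mono (Ideal.pow_right_mono ht m)).trans ?_
  rw [Ideal.map_le_iff_le_comap]
  intro x hx
  exact Ideal.Quotient.eq_zero_iff_mem.2 hx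

end



section
variable {A B C : Type u} [CommRing A] [CommRing B] [CommRing C] [Algebra A B] [Algebra A C]
  (𝔠 : Ideal C) (J : Ideal C)

lemma discrete_quot {𝔞 : Ideal A} (k : ℕ) (hk : (𝔞 ^ k).map (algebraMap A C) ≤ 𝔠) (m : ℕ) :
    (𝔞 ^ (k * m)).map (algebraMap A (C ⧸ 𝔠 ^ m)) = ⊥ := by
  rw [Ideal.map_eq_bot_iff_le_ker]
  intro r hr
  have h1 : algebraMap A C r ∈ 𝔠 ^ m := by
    have : (𝔞 ^ (k * m)).map (algebraMap A C) ≤ 𝔠 ^ m := by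
      rw [pow_mul, Ideal.map_pow]
      exact Ideal.pow_right_mono hk m
    exact this (Ideal.mem_map_of_mem _ hr)
  rw [RingHom.mem_ker, IsScalarTower.algebraMap_apply A C (C ⧸ 𝔠 ^ m),
    Ideal.Quotient.algebraMap_eq, Ideal.Quotient.eq_zero_iff_mem.2 h1]

lemma qu_kills {𝔟 : Ideal B} (u : B →ₐ[A] C ⧸ J) (k : ℕ)
    (hk : (𝔟 ^ k).map u.toRingHom ≤ 𝔠.map (Ideal.Quotient.mk J)) (m : ℕ) :
    ∀ x ∈ 𝔟 ^ (k * m), q A 𝔠 J m (u x) = 0 := by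
  intro x hx
  have h1 : (𝔟 ^ (k * m)).map u.toRingHom ≤ (𝔠 ^ m).map (Ideal.Quotient.mk J) := by
    calc (𝔟 ^ (k * m)).map u.toRingHom = ((𝔟 ^ k).map u.toRingHom) ^ m := by
          rw [pow_mul, Ideal.map_pow]
      _ ≤ (𝔠.map (Ideal.Quotient.mk J)) ^ m := Ideal.pow_right_mono hk m
      _ = (𝔠 ^ m).map (Ideal.Quotient.mk J) := (Ideal.map_pow _ _ _).symm
  have h2 : u x ∈ (𝔠 ^ m).map (Ideal.Quotient.mk J) := h1 (Ideal.mem_map_of_mem _ hx)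
  have h3 : (𝔠 ^ m).map (Ideal.Quotient.mk J) ≤ RingHom.ker (q A 𝔠 J m) := by
    rw [Ideal.map_le_iff_le_comap]
    intro c hc
    show q A 𝔠 J m (Ideal.Quotient.mk J c) = 0
    show Ideal.Quotient.mk (J ⊔ 𝔠 ^ m) c = 0
    exact Ideal.Quotient.eq_zero_iff_mem.2 (Ideal.mem_sup_right hc)
  exact h3 h2

lemma step {𝔞 : Ideal A} {𝔟 : Ideal B} (hB : IsFormallySmoothAdic A 𝔞 B 𝔟)
    (hAC : ∃ k : ℕ, (𝔞 ^ k).map (algebraMap A C) ≤ 𝔠) (hJ : ∃ t : ℕ, J ^ t ≤ 𝔠)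
    (u : B →ₐ[A] C ⧸ J) (hu : ∃ k : ℕ, (𝔟 ^ k).map u.toRingHom ≤ 𝔠.map (Ideal.Quotient.mk J))
    (m : ℕ) (v : B →ₐ[A] C ⧸ 𝔠 ^ m) (hv : ∀ b, π A 𝔠 J m (v b) = q A 𝔠 J m (u b))
    (hv0 : ∃ N : ℕ, ∀ x ∈ 𝔟 ^ N, v x = 0) :
    ∃ w : B →ₐ[A] C ⧸ 𝔠 ^ (m + 1),
      (∀ b, π A 𝔠 J (m + 1) (w b) = q A 𝔠 J (m + 1) (u b)) ∧
      (∃ N : ℕ, ∀ x ∈ 𝔟 ^ N, w x = 0) ∧ ∀ b, ρ A 𝔠 m (w b) = v b := by
  obtain ⟨k, hk⟩ := hAC
  obtain ⟨t, ht⟩ := hJ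
  obtain ⟨k₂, hk₂⟩ := hu
  obtain ⟨N₁, hN₁⟩ := hv0
  let ψ : (C ⧸ 𝔠 ^ (m + 1)) →ₐ[A] (C ⧸ 𝔠 ^ m) × (C ⧸ (J ⊔ 𝔠 ^ (m + 1))) :=
    AlgHom.prod (ρ A 𝔠 m) (π A 𝔠 J (m + 1))
  let g : B →ₐ[A] (C ⧸ 𝔠 ^ m) × (C ⧸ (J ⊔ 𝔠 ^ (m + 1))) :=
    AlgHom.prod v ((q A 𝔠 J (m + 1)).comp u)
  have hψ : IsNilpotent (RingHom.ker ψ) := by
    obtain ⟨M, hM⟩ := ker_π_nilpotent (A := A) 𝔠 J (m + 1) t ht
    refine ⟨M, ?_⟩
    rw [Ideal.zero_eq_bot, eq_bot_iff]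
    have hle : RingHom.ker ψ ≤ RingHom.ker (π A 𝔠 J (m + 1)) := by
      intro x hx
      have : ψ x = 0 := hx
      exact congrArg Prod.snd this
    refine (Ideal.pow_right_mono hle M).trans ?_
    rw [hM]
    exact le_of_eq Ideal.zero_eq_bot
  have hg : ∃ N : ℕ, ∀ x ∈ 𝔟 ^ N, g x = 0 := by
    refine ⟨N₁ + k₂ * (m + 1), fun x hx => ?_⟩
    have hx1 : x ∈ 𝔟 ^ N₁ := Ideal.pow_le_pow_right (Nat.le_add_right _ _) hx
    have hx2 : x ∈ 𝔟 ^ (k₂ * (m + 1)) := Ideal.pow_le_pow_right (Nat.le_add_left _ _) hx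
    show (v x, q A 𝔠 J (m + 1) (u x)) = 0
    rw [hN₁ x hx1, qu_kills 𝔠 J u k₂ hk₂ (m + 1) x hx2]
    rfl
  have hrange : ∀ b, ∃ r, ψ r = g b := by
    intro b
    obtain ⟨c₁, hc₁⟩ := Ideal.Quotient.mk_surjective (v b)
    obtain ⟨c₂, hc₂⟩ := Ideal.Quotient.mk_surjective (u b)
    have h1 : Ideal.Quotient.mk (J ⊔ 𝔠 ^ m) c₁ = Ideal.Quotient.mk (J ⊔ 𝔠 ^ m) c₂ := by
      have := hv b
      rw [← hc₁, ← hc₂] at this
      exact this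
    rw [Ideal.Quotient.eq, Submodule.mem_sup] at h1
    obtain ⟨j, hj, i, hi, hji⟩ := h1
    refine ⟨Ideal.Quotient.mk _ (c₁ - i), ?_⟩
    show ((Ideal.Quotient.mk (𝔠 ^ m) (c₁ - i), Ideal.Quotient.mk (J ⊔ 𝔠 ^ (m + 1)) (c₁ - i)) : _ × _) =
      (v b, q A 𝔠 J (m + 1) (u b))
    refine Prod.ext ?_ ?_
    · show Ideal.Quotient.mk (𝔠 ^ m) (c₁ - i) = v b
      rw [map_sub, Ideal.Quotient.eq_zero_iff_mem.2 hi, sub_zero, hc₁]
    · show Ideal.Quotient.mk (J ⊔ 𝔠 ^ (m + 1)) (c₁ - i) = q A 𝔠 J (m + 1) (u b)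
      rw [← hc₂]
      show _ = Ideal.Quotient.mk (J ⊔ 𝔠 ^ (m + 1)) c₂
      rw [Ideal.Quotient.eq]
      have : c₁ - i - c₂ = j := by linear_combination -hji
      rw [this]
      exact Ideal.mem_sup_left hj
  obtain ⟨w, hw, hw0⟩ := lift_of_ker_nilpotent hB ψ hψ ⟨k * (m + 1), discrete_quot 𝔠 k hk (m + 1)⟩
    g hg hrange
  refine ⟨w, fun b => ?_, hw0, fun b => ?_⟩
  · exact congrArg Prod.snd (hw b)
  · exact congrArg Prod.fst (hw b)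

end




/-- Let B (𝔟-adic) be formally smooth over A (𝔞-adic); let C be a topological A-algebra for the 𝔠-adic
topology (a power of 𝔞 maps into 𝔠) which is complete, and J an ideal which is closed, i.e. C/J is
Hausdorff for the 𝔠-adic topology, and whose powers tend to 0, i.e. some power of J lies in 𝔠. Then
every continuous A-algebra homomorphism u : B → C/J (a power of 𝔟 maps into the image of 𝔠) factors
as B → C → C/J with B → C a continuous A-algebra homomorphism (a power of 𝔟 maps into 𝔠). -/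
theorem result {A B C : Type u} [CommRing A] [CommRing B] [CommRing C] [Algebra A B]
    [Algebra A C] (𝔞 : Ideal A) (𝔟 : Ideal B) (𝔠 : Ideal C) (hB : EGA41.IsFormallySmoothAdic A 𝔞 B 𝔟)
    [IsAdicComplete 𝔠 C] (hAC : ∃ k : ℕ, (𝔞 ^ k).map (algebraMap A C) ≤ 𝔠)
    (J : Ideal C) (hJ : ∃ t : ℕ, J ^ t ≤ 𝔠) [IsHausdorff (𝔠.map (Ideal.Quotient.mk J)) (C ⧸ J)]
    (u : B →ₐ[A] C ⧸ J) (hu : ∃ k : ℕ, (𝔟 ^ k).map u.toRingHom ≤ 𝔠.map (Ideal.Quotient.mk J)) :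
    ∃ v : B →ₐ[A] C, (∃ k : ℕ, (𝔟 ^ k).map v.toRingHom ≤ 𝔠) ∧ (Ideal.Quotient.mkₐ A J).comp v = u := by
  -- the type of admissible lifts at level `m`
  let X : ℕ → Type u := fun m =>
    {v : B →ₐ[A] C ⧸ 𝔠 ^ m // (∀ b, π A 𝔠 J m (v b) = q A 𝔠 J m (u b)) ∧
      ∃ N : ℕ, ∀ x ∈ 𝔟 ^ N, v x = 0}
  have hsub : Subsingleton (C ⧸ 𝔠 ^ 0) := by
    rw [pow_zero, Ideal.one_eq_top]
    exact Ideal.Quotient.subsingleton_iff.2 rfl
  have hsub' : Subsingleton (C ⧸ (J ⊔ 𝔠 ^ 0)) := by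
    rw [pow_zero, Ideal.one_eq_top, sup_top_eq]
    exact Ideal.Quotient.subsingleton_iff.2 rfl
  let v0 : B →ₐ[A] C ⧸ 𝔠 ^ 0 :=
    { toFun := fun _ => 0
      map_one' := Subsingleton.elim _ _
      map_mul' := fun _ _ => Subsingleton.elim _ _
      map_zero' := rfl
      map_add' := fun _ _ => Subsingleton.elim _ _
      commutes' := fun _ => Subsingleton.elim _ _ }
  let x0 : X 0 := ⟨v0, fun b => Subsingleton.elim _ _, ⟨0, fun x _ => rfl⟩⟩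
  let stp : (m : ℕ) → X m → X (m + 1) := fun m x =>
    ⟨(step 𝔠 J hB hAC hJ u hu m x.1 x.2.1 x.2.2).choose,
      (step 𝔠 J hB hAC hJ u hu m x.1 x.2.1 x.2.2).choose_spec.1,
      (step 𝔠 J hB hAC hJ u hu m x.1 x.2.1 x.2.2).choose_spec.2.1⟩
  have hstp : ∀ (m : ℕ) (x : X m) (b : B), ρ A 𝔠 m ((stp m x).1 b) = x.1 b := fun m x =>
    (step 𝔠 J hB hAC hJ u hu m x.1 x.2.1 x.2.2).choose_spec.2.2
  let sq : (m : ℕ) → X m := fun m => Nat.rec x0 stp m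
  let f : (m : ℕ) → B →ₐ[A] C ⧸ 𝔠 ^ m := fun m => (sq m).1
  have hfsucc : ∀ m b, ρ A 𝔠 m (f (m + 1) b) = f m b := fun m b => hstp m (sq m) b
  have hf : ∀ {m n : ℕ} (hle : m ≤ n),
      (Ideal.Quotient.factorₐ A (Ideal.pow_le_pow_right hle)).comp (f n) = f m := by
    intro m n hle
    induction n, hle using Nat.le_induction with
    | base =>
      ext b
      simp
    | succ n hmn ih =>
      ext b
      have h1 := congrArg (fun w => w b) ih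
      have h2 := hfsucc n b
      obtain ⟨c, hc⟩ := Ideal.Quotient.mk_surjective (f (n + 1) b)
      simp only [AlgHom.comp_apply] at h1 ⊢
      rw [← h1, ← h2, ← hc]
      rfl
  let v : B →ₐ[A] C := IsAdicComplete.liftAlgHom 𝔠 f hf
  have hv : ∀ n b, Ideal.Quotient.mk (𝔠 ^ n) (v b) = f n b := fun n b =>
    IsAdicComplete.mk_liftAlgHom 𝔠 f hf n b
  refine ⟨v, ?_, ?_⟩
  · obtain ⟨N, hN⟩ := (sq 1).2.2
    refine ⟨N, ?_⟩
    rw [Ideal.map_le_iff_le_comap]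
    intro x hx
    have h1 : Ideal.Quotient.mk (𝔠 ^ 1) (v x) = 0 := by rw [hv]; exact hN x hx
    rw [Ideal.Quotient.eq_zero_iff_mem, pow_one] at h1
    exact h1
  · ext b
    show Ideal.Quotient.mk J (v b) = u b
    rw [← sub_eq_zero]
    apply IsHausdorff.haus' (I := 𝔠.map (Ideal.Quotient.mk J))
    intro n
    rw [SModEq.zero, smul_eq_mul, Ideal.mul_top, ← Ideal.map_pow]
    obtain ⟨c₂, hc₂⟩ := Ideal.Quotient.mk_surjective (u b)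
    have h1 : Ideal.Quotient.mk (J ⊔ 𝔠 ^ n) (v b) = Ideal.Quotient.mk (J ⊔ 𝔠 ^ n) c₂ := by
      have h2 := (sq n).2.1 b
      have h3 : π A 𝔠 J n (f n b) = q A 𝔠 J n (u b) := h2
      rw [← hv n b, ← hc₂] at h3
      exact h3
    rw [Ideal.Quotient.eq, Submodule.mem_sup] at h1
    obtain ⟨j, hj, i, hi, hji⟩ := h1
    rw [← hc₂, ← map_sub, ← hji, map_add, Ideal.Quotient.eq_zero_iff_mem.2 hj, zero_add]
    exact Ideal.mem_map_of_mem _ hi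

end Groth.Agent.S4542
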