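import Groth.Statements.S4544
import Mathlib
-- import your own Groth.Agent.* helpers here

set_option autoImplicit false
universe u
open EGA41

namespace Groth.Agent.S4544

open TensorProduct

section
variable {A B : Type u} [CommRing A] [CommRing B] [Algebra A B] (𝔄 : Ideal B)

lemma one_tmul_smul (a : B) (ω : Ω[B⁄A]) :
    (1 : B ⧸ 𝔄) ⊗ₜ[B] (a • ω) = (Ideal.Quotient.mk 𝔄 a) • ((1 : B ⧸ 𝔄) ⊗ₜ[B] ω) := by
  rw [TensorProduct.tmul_smul, ← Ideal.Quotient.algebraMap_eq, algebraMap_smul]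

/-- the algebra map `B → tsze (B/𝔄) (B/𝔄 ⊗ Ω)` attached to the universal derivation -/
noncomputable def uHom : B →ₐ[A] TrivSqZeroExt (B ⧸ 𝔄) ((B ⧸ 𝔄) ⊗[B] Ω[B⁄A]) where
  toFun b := TrivSqZeroExt.inl (Ideal.Quotient.mk 𝔄 b) +
    TrivSqZeroExt.inr ((1 : B ⧸ 𝔄) ⊗ₜ[B] KaehlerDifferential.D A B b)
  map_one' := by
    simp
  map_mul' a b := by
    ext
    · simp
    · simp only [TrivSqZeroExt.snd_add, TrivSqZeroExt.snd_inl, TrivSqZeroExt.snd_inr, zero_add,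
        TrivSqZeroExt.snd_mul, TrivSqZeroExt.fst_add, TrivSqZeroExt.fst_inl, TrivSqZeroExt.fst_inr,
        add_zero, Derivation.leibniz, TensorProduct.tmul_add, one_tmul_smul, op_smul_eq_smul]
  map_zero' := by
    simp
  map_add' a b := by
    ext
    · simp
    · simp [TensorProduct.tmul_add]
  commutes' r := by
    rw [TrivSqZeroExt.algebraMap_eq_inl']
    ext
    · simp
    · simp

lemma uHom_fst (b : B) : (uHom (A := A) 𝔄 b).fst = Ideal.Quotient.mk 𝔄 b := by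
  simp [uHom]

lemma uHom_snd (b : B) : (uHom (A := A) 𝔄 b).snd = (1 : B ⧸ 𝔄) ⊗ₜ[B] KaehlerDifferential.D A B b := by
  simp [uHom]

lemma uHom_eq_zero (b : B) (hb : b ∈ 𝔄 * 𝔄) : uHom (A := A) 𝔄 b = 0 := by
  ext
  · rw [uHom_fst, TrivSqZeroExt.fst_zero, Ideal.Quotient.eq_zero_iff_mem]
    exact Ideal.mul_le_left hb
  · rw [uHom_snd, TrivSqZeroExt.snd_zero]
    refine Submodule.mul_induction_on hb ?_ ?_
    · intro x hx y hy
      have hx' : Ideal.Quotient.mk 𝔄 x = 0 := Ideal.Quotient.eq_zero_iff_mem.2 hx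
      have hy' : Ideal.Quotient.mk 𝔄 y = 0 := Ideal.Quotient.eq_zero_iff_mem.2 hy
      rw [Derivation.leibniz, TensorProduct.tmul_add, one_tmul_smul, one_tmul_smul, hx', hy']
      simp
    · intro x y hx hy
      rw [map_add, TensorProduct.tmul_add, hx, hy, add_zero]



open TensorProduct in
/-- Let B (𝔟-adic) be a formally smooth topological A-algebra over A (𝔞-adic), the structure map being
continuous (a power of 𝔞 maps into 𝔟); squares of open ideals of B are then open. For every open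
ideal 𝔄 of B (an ideal containing a power of 𝔟), Ω_{B/A} ⊗_B (B/𝔄) = Ω_{B/A}/𝔄Ω_{B/A} is a
projective (B/𝔄)-module. -/
theorem result {A B : Type u} [CommRing A] [CommRing B] [Algebra A B]
    (𝔞 : Ideal A) (𝔟 : Ideal B) (hAB : ∃ k : ℕ, (𝔞 ^ k).map (algebraMap A B) ≤ 𝔟)
    (h : EGA41.IsFormallySmoothAdic A 𝔞 B 𝔟) (𝔄 : Ideal B) (h𝔄 : ∃ n : ℕ, 𝔟 ^ n ≤ 𝔄) :
    Module.Projective (B ⧸ 𝔄) ((B ⧸ 𝔄) ⊗[B] Ω[B⁄A]) := by
  obtain ⟨k, hk⟩ := hAB
  obtain ⟨n, hn⟩ := h𝔄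
  refine Module.Projective.of_lifting_property'' fun f hf => ?_
  -- the two square-zero extensions
  let E := TrivSqZeroExt (B ⧸ 𝔄) (((B ⧸ 𝔄) ⊗[B] Ω[B⁄A]) →₀ (B ⧸ 𝔄))
  let E' := TrivSqZeroExt (B ⧸ 𝔄) ((B ⧸ 𝔄) ⊗[B] Ω[B⁄A])
  let φ : E →ₐ[A] E' := (TrivSqZeroExt.map f).restrictScalars A
  have hφ : Function.Surjective φ := by
    intro x
    obtain ⟨p, hp⟩ := hf x.snd
    refine ⟨TrivSqZeroExt.inl x.fst + TrivSqZeroExt.inr p, ?_⟩
    show TrivSqZeroExt.map f _ = x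
    rw [map_add, TrivSqZeroExt.map_inl, TrivSqZeroExt.map_inr, hp]
    ext <;> simp
  let J : Ideal E := RingHom.ker φ
  have hJ : IsNilpotent J := by
    refine ⟨2, ?_⟩
    have hle : J ≤ TrivSqZeroExt.kerIdeal (B ⧸ 𝔄) _ := by
      intro x hx
      have hx' : TrivSqZeroExt.map f x = 0 := hx
      have : (TrivSqZeroExt.map f x).fst = 0 := by rw [hx']; rfl
      rw [TrivSqZeroExt.fst_map] at this
      exact this
    exact le_bot_iff.1 ((Ideal.pow_right_mono hle 2).trans (TrivSqZeroExt.kerIdeal_sq _ _).le)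
  let e : (E ⧸ J) ≃ₐ[A] E' := Ideal.quotientKerAlgEquivOfSurjective hφ
  let u : B →ₐ[A] E ⧸ J := e.symm.toAlgHom.comp (uHom 𝔄)
  have h𝔞 : ∃ m : ℕ, (𝔞 ^ m).map (algebraMap A E) = ⊥ := by
    refine ⟨k * n, ?_⟩
    rw [Ideal.map_eq_bot_iff_le_ker]
    intro r hr
    have h1 : algebraMap A B r ∈ 𝔄 := by
      apply hn
      have : (𝔞 ^ (k * n)).map (algebraMap A B) ≤ 𝔟 ^ n := by
        rw [pow_mul, Ideal.map_pow]
        exact Ideal.pow_right_mono hk n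
      exact this (Ideal.mem_map_of_mem _ hr)
    rw [RingHom.mem_ker, TrivSqZeroExt.algebraMap_eq_inl', IsScalarTower.algebraMap_apply A B (B ⧸ 𝔄),
      Ideal.Quotient.algebraMap_eq, Ideal.Quotient.eq_zero_iff_mem.2 h1, TrivSqZeroExt.inl_zero]
  have hu : ∃ m : ℕ, ∀ x ∈ 𝔟 ^ m, u x = 0 := by
    refine ⟨2 * n, fun x hx => ?_⟩
    have hx' : x ∈ 𝔄 * 𝔄 := by
      have : 𝔟 ^ (2 * n) ≤ 𝔄 * 𝔄 := by
        rw [mul_comm, pow_mul, ← pow_two]
        exact Ideal.pow_right_mono hn 2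
      exact this hx
    show e.symm (uHom 𝔄 x) = 0
    rw [uHom_eq_zero 𝔄 x hx', map_zero]
  obtain ⟨v, hv⟩ := h E J hJ h𝔞 u hu
  have hv' : ∀ b, TrivSqZeroExt.map f (v b) = uHom 𝔄 b := by
    intro b
    have h1 : Ideal.Quotient.mk J (v b) = e.symm (uHom 𝔄 b) := congrArg (fun w => w b) hv
    have h2 := congrArg e h1
    rw [AlgEquiv.apply_symm_apply] at h2
    rw [← h2]
    exact (Ideal.quotientKerAlgEquivOfSurjective_mk hφ (v b)).symm
  have hfst : ∀ b, (v b).fst = Ideal.Quotient.mk 𝔄 b := by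
    intro b
    rw [← TrivSqZeroExt.fst_map f, hv', uHom_fst]
  have hsnd : ∀ b, f (v b).snd = (1 : B ⧸ 𝔄) ⊗ₜ[B] KaehlerDifferential.D A B b := by
    intro b
    rw [← TrivSqZeroExt.snd_map f, hv', uHom_snd]
  let D : Derivation A B (((B ⧸ 𝔄) ⊗[B] Ω[B⁄A]) →₀ (B ⧸ 𝔄)) :=
    { toFun := fun b => (v b).snd
      map_add' := fun a b => by rw [map_add, TrivSqZeroExt.snd_add]
      map_smul' := fun r b => by rw [map_smul, TrivSqZeroExt.snd_smul]; rfl
      map_one_eq_zero' := by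
        show (v 1).snd = 0
        rw [map_one, TrivSqZeroExt.snd_one]
      leibniz' := fun a b => by
        show (v (a * b)).snd = a • (v b).snd + b • (v a).snd
        rw [map_mul, TrivSqZeroExt.snd_mul, hfst, hfst, op_smul_eq_smul,
          ← Ideal.Quotient.algebraMap_eq, algebraMap_smul, algebraMap_smul] }
  let s : ((B ⧸ 𝔄) ⊗[B] Ω[B⁄A]) →ₗ[B ⧸ 𝔄] (((B ⧸ 𝔄) ⊗[B] Ω[B⁄A]) →₀ (B ⧸ 𝔄)) :=
    LinearMap.liftBaseChange (B ⧸ 𝔄) D.liftKaehlerDifferential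
  refine ⟨s, ?_⟩
  apply (LinearMap.liftBaseChangeEquiv (B ⧸ 𝔄)).symm.injective
  apply Derivation.liftKaehlerDifferential_unique
  ext b
  simp [s, hsnd, D]

end

end Groth.Agent.S4544
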