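import Groth.Statements.S4541
import Mathlib
-- import your own Groth.Agent.* helpers here

set_option autoImplicit false
universe u
open EGA41

namespace Groth.Agent.S4541


section
variable (p : ℕ) [Fact p.Prime] {A B : Type u} [CommRing A] [CharP A p] [PerfectRing A p]
  [CommRing B] [Algebra A B] [CharP B p]

lemma exists_pow_eq (s : B) (hs : s ∈ pPowerSubalgebra p A B) : ∃ b : B, b ^ p = s := by
  refine Algebra.adjoin_induction (p := fun s _ => ∃ b : B, b ^ p = s) ?_ ?_ ?_ ?_ hs
  · rintro _ ⟨b, rfl⟩
    exact ⟨b, rfl⟩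
  · intro a
    refine ⟨algebraMap A B ((frobeniusEquiv A p).symm a), ?_⟩
    rw [← map_pow]
    congr 1
    exact frobeniusEquiv_symm_pow_p A p a
  · rintro _ _ _ _ ⟨b, rfl⟩ ⟨b', rfl⟩
    exact ⟨b + b', add_pow_char b b' p⟩
  · rintro _ _ _ _ ⟨b, rfl⟩ ⟨b', rfl⟩
    exact ⟨b * b', mul_pow b b' p⟩

variable [IsReduced B]

/-- the `p`-th root on `A[B^p]` -/
noncomputable def root (s : pPowerSubalgebra p A B) : B := (exists_pow_eq p s.1 s.2).choose

lemma root_pow (s : pPowerSubalgebra p A B) : root p s ^ p = s.1 :=
  (exists_pow_eq p s.1 s.2).choose_spec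

lemma root_eq {s : pPowerSubalgebra p A B} {b : B} (h : b ^ p = s.1) : root p s = b := by
  apply frobenius_inj B p
  show root p s ^ p = b ^ p
  rw [root_pow, h]

/-- the `p`-th root as a ring hom -/
noncomputable def rootHom : pPowerSubalgebra p A B →+* B where
  toFun := root p
  map_one' := root_eq p (by simp)
  map_mul' s s' := root_eq p (by rw [mul_pow, root_pow, root_pow]; rfl)
  map_zero' := root_eq p (by simp [(Fact.out : p.Prime).ne_zero])
  map_add' s s' := root_eq p (by rw [add_pow_char, root_pow, root_pow]; rfl)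

lemma rootHom_pow (s : pPowerSubalgebra p A B) : rootHom p s ^ p = s.1 := root_pow p s

lemma rootHom_eq {s : pPowerSubalgebra p A B} {b : B} (h : b ^ p = s.1) : rootHom p s = b :=
  root_eq p h

lemma rootHom_algebraMap (a : A) :
    rootHom p (algebraMap A (pPowerSubalgebra p A B) a) =
      algebraMap A B ((frobeniusEquiv A p).symm a) := by
  apply rootHom_eq
  rw [← map_pow]
  show _ = algebraMap A B a
  congr 1
  exact frobeniusEquiv_symm_pow_p A p a

end

section
variable (p : ℕ) [Fact p.Prime] {E : Type*} [CommRing E] [CharP E p] (I : Ideal E)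
  (hI : ∀ r ∈ I, r ^ p = 0)

/-- `E/I → E, e ↦ e^p` when `p`-th powers of elements of `I` vanish -/
noncomputable def phi : E ⧸ I →+* E :=
  Ideal.Quotient.lift I (frobenius E p) (fun r hr => hI r hr)

lemma phi_mk (e : E) : phi p I hI (Ideal.Quotient.mk I e) = e ^ p := rfl

lemma mk_phi (y : E ⧸ I) : Ideal.Quotient.mk I (phi p I hI y) = y ^ p := by
  obtain ⟨e, rfl⟩ := Ideal.Quotient.mk_surjective y
  rw [phi_mk, map_pow]

end



section
variable (p : ℕ) [Fact p.Prime] {A B : Type u} [CommRing A] [CommRing B] [Algebra A B]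
  {ι : Type u} (x : ι → B)

/-- splitting of a monomial into reduced part times a `p`-th power -/
lemma pMonomial_split {R : Type u} [CommRing R] (y : ι → R) (e : ι →₀ ℕ) :
    pMonomial y e = pMonomial y (e.mapRange (· % p) (Nat.zero_mod p)) *
      (pMonomial y (e.mapRange (· / p) (Nat.zero_div p))) ^ p := by
  classical
  unfold pMonomial
  rw [Finsupp.prod_mapRange_index (by intro i; simp), Finsupp.prod_mapRange_index (by intro i; simp)]
  simp only [Finsupp.prod]
  rw [← Finset.prod_pow, ← Finset.prod_mul_distrib]
  refine Finset.prod_congr rfl fun i _ => ?_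
  rw [← pow_mul, ← pow_add, Nat.mod_add_div']

lemma pMonomial_add {R : Type u} [CommRing R] (y : ι → R) (e e' : ι →₀ ℕ) :
    pMonomial y (e + e') = pMonomial y e * pMonomial y e' := by
  classical
  unfold pMonomial
  rw [Finsupp.prod_add_index' (by intro i; simp) (by intro i m n; exact pow_add _ _ _)]

lemma pMonomial_single {R : Type u} [CommRing R] (y : ι → R) (i : ι) :
    pMonomial y (Finsupp.single i 1) = y i := by
  unfold pMonomial
  rw [Finsupp.prod_single_index (by simp), pow_one]

lemma pMonomial_zero {R : Type u} [CommRing R] (y : ι → R) :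
    pMonomial y 0 = 1 := by
  unfold pMonomial
  simp

lemma map_pMonomial {R R' : Type u} [CommRing R] [CommRing R'] (f : R →+* R') (y : ι → R)
    (e : ι →₀ ℕ) : f (pMonomial y e) = pMonomial (fun i => f (y i)) e := by
  unfold pMonomial
  rw [map_finsuppProd]
  simp only [map_pow]

end



theorem core (p : ℕ) [Fact p.Prime] {A B : Type u} [CommRing A] [CharP A p] [PerfectRing A p]
    [CommRing B] [Algebra A B] [CharP B p] [IsReduced B] {ι : Type u} (x : ι → B)
    (hx : IsPBasis p A x) {E : Type u} [CommRing E] [CharP E p] (I : Ideal E)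
    (hI : ∀ r ∈ I, r ^ p = 0) (g : B →+* E ⧸ I) (z : ι → E)
    (hz : ∀ i, Ideal.Quotient.mk I (z i) = g (x i)) :
    ∃ w : B →+* E, (∀ b, Ideal.Quotient.mk I (w b) = g b) ∧ (∀ i, w (x i) = z i) ∧
      (∀ s : pPowerSubalgebra p A B, w s.1 = phi p I hI (g (rootHom p s))) ∧
      ∀ w' : B →+* E, (∀ b, Ideal.Quotient.mk I (w' b) = g b) → (∀ i, w' (x i) = z i) → w' = w := by
  classical
  let θ : pPowerSubalgebra p A B →+* E := (phi p I hI).comp (g.comp (rootHom p))
  letI : Algebra (pPowerSubalgebra p A B) E := θ.toAlgebra
  have hsmul : ∀ (s : pPowerSubalgebra p A B) (e : E), s • e = θ s * e := fun s e => rfl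
  let ℬ : Module.Basis {e : ι →₀ ℕ // ∀ i, e i < p} (pPowerSubalgebra p A B) B :=
    Module.Basis.mk hx.1 (by rw [hx.2])
  have hℬ : ∀ e, ℬ e = pMonomial x e.1 := fun e => by simp [ℬ]
  let w₀ : B →ₗ[pPowerSubalgebra p A B] E := ℬ.constr (pPowerSubalgebra p A B) (fun e => pMonomial z e.1)
  have hw₀ℬ : ∀ e, w₀ (ℬ e) = pMonomial z e.1 := fun e => ℬ.constr_basis _ _ e
  have hmemS : ∀ b : B, b ^ p ∈ pPowerSubalgebra p A B := fun b => Algebra.subset_adjoin ⟨b, rfl⟩
  have hθpow : ∀ b : B, θ ⟨b ^ p, hmemS b⟩ = phi p I hI (g b) := by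
    intro b
    show phi p I hI (g (rootHom p ⟨b ^ p, hmemS b⟩)) = _
    rw [rootHom_eq p (s := ⟨b ^ p, hmemS b⟩) (b := b) rfl]
  have hgz : ∀ e : ι →₀ ℕ, g (pMonomial x e) = Ideal.Quotient.mk I (pMonomial z e) := by
    intro e
    rw [map_pMonomial, map_pMonomial]
    congr 1
    exact funext fun i => (hz i).symm
  have key : ∀ e : ι →₀ ℕ, w₀ (pMonomial x e) = pMonomial z e := by
    intro e
    have hr : ∀ i, (e.mapRange (· % p) (Nat.zero_mod p)) i < p := fun i => by
      rw [Finsupp.mapRange_apply]
      exact Nat.mod_lt _ (Fact.out : p.Prime).pos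
    rw [pMonomial_split p x e, pMonomial_split p z e]
    have h1 : pMonomial x (e.mapRange (· % p) (Nat.zero_mod p)) *
        (pMonomial x (e.mapRange (· / p) (Nat.zero_div p))) ^ p =
        (⟨(pMonomial x (e.mapRange (· / p) (Nat.zero_div p))) ^ p, hmemS _⟩ :
          pPowerSubalgebra p A B) • ℬ ⟨_, hr⟩ := by
      rw [hℬ, mul_comm]
      rfl
    rw [h1, map_smul, hw₀ℬ, hsmul, hθpow, hgz, phi_mk, mul_comm]
  have hone : w₀ 1 = 1 := by
    rw [← pMonomial_zero x, key, pMonomial_zero]
  have hmul : ∀ b b' : B, w₀ (b * b') = w₀ b * w₀ b' := by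
    have hL : (LinearMap.mul (pPowerSubalgebra p A B) B).compr₂ w₀ =
        (LinearMap.mul (pPowerSubalgebra p A B) E).compl₁₂ w₀ w₀ := by
      refine ℬ.ext fun e => ℬ.ext fun e' => ?_
      simp only [LinearMap.compr₂_apply, LinearMap.mul_apply', LinearMap.compl₁₂_apply]
      rw [hℬ, hℬ, ← pMonomial_add, key, key, key, pMonomial_add]
    intro b b'
    exact congrArg (fun L => L b b') hL
  let w : B →+* E :=
    { toFun := w₀
      map_one' := hone
      map_mul' := hmul
      map_zero' := map_zero w₀
      map_add' := map_add w₀ }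
  have hww₀ : ∀ b, w b = w₀ b := fun b => rfl
  have hwS : ∀ s : pPowerSubalgebra p A B, w s.1 = θ s := by
    intro s
    have : s.1 = s • (1 : B) := by rw [Algebra.smul_def, mul_one]; rfl
    rw [hww₀, this, map_smul, hone, hsmul, mul_one]
  have hmkθ : ∀ s : pPowerSubalgebra p A B, Ideal.Quotient.mk I (θ s) = g s.1 := by
    intro s
    show Ideal.Quotient.mk I (phi p I hI (g (rootHom p s))) = _
    rw [mk_phi, ← map_pow, rootHom_pow]
  -- generic uniqueness/agreement principle: two additive maps that are `θ`-semilinear resp.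
  -- and agree on monomials agree
  have hspan : ∀ b : B, b ∈ Submodule.span (pPowerSubalgebra p A B)
      (Set.range fun e : {e : ι →₀ ℕ // ∀ i, e i < p} => pMonomial x e.1) := by
    intro b; rw [hx.2]; exact Submodule.mem_top
  refine ⟨w, ?_, ?_, hwS, ?_⟩
  · intro b
    refine Submodule.span_induction ?_ ?_ ?_ ?_ (hspan b)
    · rintro _ ⟨e, rfl⟩
      rw [hww₀, key, hgz]
    · simp
    · intro b b' _ _ h h'
      rw [map_add, map_add, map_add, h, h']
    · intro s b _ h
      rw [Algebra.smul_def, map_mul, map_mul, map_mul, h]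
      congr 1
      show Ideal.Quotient.mk I (w s.1) = g s.1
      rw [hwS, hmkθ]
  · intro i
    rw [hww₀, ← pMonomial_single x i, key, pMonomial_single]
  · intro w' hw' hw'x
    have hw'S : ∀ s : pPowerSubalgebra p A B, w' s.1 = θ s := by
      intro s
      show _ = phi p I hI (g (rootHom p s))
      rw [← hw', phi_mk, ← map_pow, rootHom_pow]
    have hw'mon : ∀ e : ι →₀ ℕ, w' (pMonomial x e) = pMonomial z e := by
      intro e
      rw [map_pMonomial]
      congr 1
      exact funext hw'x
    ext b
    refine Submodule.span_induction ?_ ?_ ?_ ?_ (hspan b)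
    · rintro _ ⟨e, rfl⟩
      rw [hww₀, key, hw'mon]
    · simp
    · intro b b' _ _ h h'
      rw [map_add, map_add, h, h']
    · intro s b _ h
      rw [Algebra.smul_def, map_mul, map_mul, h]
      congr 1
      show w' s.1 = w s.1
      rw [hwS, hw'S]



/-- `B` is formally étale over the polynomial ring on a `p`-basis. -/
theorem formallyEtale_of_pBasis (p : ℕ) [Fact p.Prime] {A B : Type u} [CommRing A] [CharP A p]
    [PerfectRing A p] [CommRing B] [Algebra A B] [CharP B p] [IsReduced B]
    {ι : Type u} (x : ι → B) (hx : EGA41.IsPBasis p A x)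
    [Algebra (MvPolynomial ι A) B]
    (halg : ∀ q : MvPolynomial ι A, algebraMap (MvPolynomial ι A) B q = MvPolynomial.aeval x q) :
    Algebra.FormallyEtale (MvPolynomial ι A) B := by
  rw [Algebra.FormallyEtale.iff_comp_bijective]
  intro E _ _ I hI
  rcases subsingleton_or_nontrivial E with hE | hE
  · -- trivial target
    have hEI : Subsingleton (E ⧸ I) := Ideal.Quotient.mk_surjective.subsingleton
    constructor
    · intro g₁ g₂ _
      ext b
      exact Subsingleton.elim _ _
    · intro g
      let f : B →ₐ[MvPolynomial ι A] E :=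
        { toFun := fun _ => 0
          map_one' := Subsingleton.elim _ _
          map_mul' := fun _ _ => Subsingleton.elim _ _
          map_zero' := rfl
          map_add' := fun _ _ => Subsingleton.elim _ _
          commutes' := fun _ => Subsingleton.elim _ _ }
      refine ⟨f, ?_⟩
      ext b
      exact Subsingleton.elim _ _
  · have hpE : ((p : ℕ) : E) = 0 := by
      have h1 : ((p : ℕ) : MvPolynomial ι A) = 0 := by
        rw [← map_natCast (MvPolynomial.C : A →+* MvPolynomial ι A), CharP.cast_eq_zero, map_zero]
      rw [← map_natCast (algebraMap (MvPolynomial ι A) E), h1, map_zero]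
    have hchar : CharP E p := by
      have := CharP.ringChar_of_prime_eq_zero (Fact.out : p.Prime) hpE
      rw [← this]
      exact ringChar.charP E
    have hI' : ∀ r ∈ I, r ^ p = 0 := by
      intro r hr
      have h2 : r ^ 2 ∈ I ^ 2 := Ideal.pow_mem_pow hr 2
      rw [hI, Ideal.mem_bot] at h2
      exact pow_eq_zero_of_le (Fact.out : p.Prime).two_le h2
    have hxi : ∀ i, algebraMap (MvPolynomial ι A) B (MvPolynomial.X i) = x i := by
      intro i; rw [halg, MvPolynomial.aeval_X]
    constructor
    · intro g₁ g₂ h12
      have hz₁ : ∀ i, Ideal.Quotient.mk I (algebraMap (MvPolynomial ι A) E (MvPolynomial.X i)) =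
          ((Ideal.Quotient.mkₐ (MvPolynomial ι A) I).comp g₁).toRingHom (x i) := by
        intro i
        show _ = Ideal.Quotient.mk I (g₁ (x i))
        rw [← hxi, g₁.commutes]
      obtain ⟨w, -, -, -, huniq⟩ := core p x hx I hI'
        ((Ideal.Quotient.mkₐ (MvPolynomial ι A) I).comp g₁).toRingHom
        (fun i => algebraMap (MvPolynomial ι A) E (MvPolynomial.X i)) hz₁
      have e1 : g₁.toRingHom = w := huniq g₁.toRingHom (fun b => rfl) (fun i => by
        show g₁ (x i) = _
        rw [← hxi, g₁.commutes])
      have e2 : g₂.toRingHom = w := huniq g₂.toRingHom (fun b => by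
        show Ideal.Quotient.mk I (g₂ b) = Ideal.Quotient.mk I (g₁ b)
        exact (congrArg (fun f => f b) h12).symm) (fun i => by
        show g₂ (x i) = _
        rw [← hxi, g₂.commutes])
      ext b
      exact congrArg (fun f => f b) (e1.trans e2.symm)
    · intro g
      have hz : ∀ i, Ideal.Quotient.mk I (algebraMap (MvPolynomial ι A) E (MvPolynomial.X i)) =
          g.toRingHom (x i) := by
        intro i
        show _ = g (x i)
        rw [← hxi, g.commutes]
        rfl
      obtain ⟨w, hw, hwx, hwS, -⟩ := core p x hx I hI' g.toRingHom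
        (fun i => algebraMap (MvPolynomial ι A) E (MvPolynomial.X i)) hz
      have hcomm : w.comp (algebraMap (MvPolynomial ι A) B) = algebraMap (MvPolynomial ι A) E := by
        refine MvPolynomial.ringHom_ext ?_ ?_
        · intro a
          have h1 : algebraMap (MvPolynomial ι A) B (MvPolynomial.C a) =
              (algebraMap A (pPowerSubalgebra p A B) a).1 := by
            rw [halg, MvPolynomial.aeval_C]
            rfl
          show w (algebraMap (MvPolynomial ι A) B (MvPolynomial.C a)) = _
          rw [h1, hwS, rootHom_algebraMap]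
          have h2 : algebraMap A B ((frobeniusEquiv A p).symm a) =
              algebraMap (MvPolynomial ι A) B (MvPolynomial.C ((frobeniusEquiv A p).symm a)) := by
            rw [halg, MvPolynomial.aeval_C]
          rw [h2]
          show phi p I hI' (g (algebraMap (MvPolynomial ι A) B _)) = _
          rw [g.commutes]
          show phi p I hI' (Ideal.Quotient.mk I (algebraMap (MvPolynomial ι A) E _)) = _
          rw [phi_mk, ← map_pow, ← map_pow, frobeniusEquiv_symm_pow_p]
        · intro i
          show w (algebraMap (MvPolynomial ι A) B (MvPolynomial.X i)) = _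
          rw [hxi, hwx]
      let f : B →ₐ[MvPolynomial ι A] E :=
        { w with commutes' := fun q => congrArg (fun h => h q) hcomm }
      refine ⟨f, ?_⟩
      ext b
      exact hw b




/-- Let p be a prime, A a perfect ring of characteristic p and B a reduced A-algebra of characteristic p
which admits a p-basis (x_α) over A. Then B is a formally smooth A-algebra (discrete topologies);
more precisely, for every A-algebra E, every nilpotent ideal R of E, every A-algebra homomorphism v
: B → E/R and every family (z_α) of elements of E lifting the v(x_α), there is a unique A-algebra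
homomorphism w : B → E lifting v with w(x_α) = z_α for all α. (The published statement assumes,
instead of A perfect and B reduced, that the canonical map A^(p) ⊗_A B → B^(p), a ⊗ b ↦ a b^p with
Frobenius-twisted structures, is injective; when A is perfect that condition says exactly that B is
reduced, which is the case stated here. The published statement also treats admissible topological
E; only discrete E is stated.) -/
theorem result (p : ℕ) [Fact p.Prime] {A B : Type u} [CommRing A] [CharP A p]
    [PerfectRing A p] [CommRing B] [Algebra A B] [CharP B p] [IsReduced B]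
    {ι : Type u} (x : ι → B) (hx : EGA41.IsPBasis p A x) :
    Algebra.FormallySmooth A B ∧
    ∀ (E : Type u) [CommRing E] [Algebra A E] (R : Ideal E), IsNilpotent R →
      ∀ (v : B →ₐ[A] E ⧸ R) (z : ι → E), (∀ i, Ideal.Quotient.mk R (z i) = v (x i)) →
        ∃! w : B →ₐ[A] E, (Ideal.Quotient.mkₐ A R).comp w = v ∧ ∀ i, w (x i) = z i := by
  letI algPB : Algebra (MvPolynomial ι A) B := (MvPolynomial.aeval x).toRingHom.toAlgebra
  have halg : ∀ q : MvPolynomial ι A, algebraMap (MvPolynomial ι A) B q = MvPolynomial.aeval x q :=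
    fun q => rfl
  haveI towB : IsScalarTower A (MvPolynomial ι A) B := IsScalarTower.of_algebraMap_eq fun a => by
    rw [halg, MvPolynomial.algebraMap_eq, MvPolynomial.aeval_C]
  haveI hEt : Algebra.FormallyEtale (MvPolynomial ι A) B := formallyEtale_of_pBasis p x hx halg
  refine ⟨Algebra.FormallySmooth.comp A (MvPolynomial ι A) B, ?_⟩
  intro E _ _ R hR v z hz
  letI algPE : Algebra (MvPolynomial ι A) E := (MvPolynomial.aeval z).toRingHom.toAlgebra
  have halgE : ∀ q : MvPolynomial ι A, algebraMap (MvPolynomial ι A) E q = MvPolynomial.aeval z q :=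
    fun q => rfl
  haveI towE : IsScalarTower A (MvPolynomial ι A) E := IsScalarTower.of_algebraMap_eq fun a => by
    rw [halgE, MvPolynomial.algebraMap_eq, MvPolynomial.aeval_C]
  -- upgrading A-algebra maps to P-algebra maps
  have hcommv : ∀ q : MvPolynomial ι A, v (algebraMap (MvPolynomial ι A) B q) =
      algebraMap (MvPolynomial ι A) (E ⧸ R) q := by
    intro q
    have : (v.toRingHom.comp (algebraMap (MvPolynomial ι A) B)) =
        algebraMap (MvPolynomial ι A) (E ⧸ R) := by
      refine MvPolynomial.ringHom_ext ?_ ?_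
      · intro a
        show v (algebraMap (MvPolynomial ι A) B (MvPolynomial.C a)) =
          Ideal.Quotient.mk R (algebraMap (MvPolynomial ι A) E (MvPolynomial.C a))
        rw [halg, halgE, MvPolynomial.aeval_C, MvPolynomial.aeval_C, v.commutes]
        rfl
      · intro i
        show v (algebraMap (MvPolynomial ι A) B (MvPolynomial.X i)) =
          Ideal.Quotient.mk R (algebraMap (MvPolynomial ι A) E (MvPolynomial.X i))
        rw [halg, halgE, MvPolynomial.aeval_X, MvPolynomial.aeval_X, hz]
    exact congrArg (fun h => h q) this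
  let v' : B →ₐ[MvPolynomial ι A] E ⧸ R := { v.toRingHom with commutes' := hcommv }
  have upgrade : ∀ w : B →ₐ[A] E, (∀ i, w (x i) = z i) →
      ∀ q : MvPolynomial ι A, w (algebraMap (MvPolynomial ι A) B q) =
        algebraMap (MvPolynomial ι A) E q := by
    intro w hw q
    have : (w.toRingHom.comp (algebraMap (MvPolynomial ι A) B)) =
        algebraMap (MvPolynomial ι A) E := by
      refine MvPolynomial.ringHom_ext ?_ ?_
      · intro a
        show w (algebraMap (MvPolynomial ι A) B (MvPolynomial.C a)) =
          algebraMap (MvPolynomial ι A) E (MvPolynomial.C a)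
        rw [halg, halgE, MvPolynomial.aeval_C, MvPolynomial.aeval_C, w.commutes]
      · intro i
        show w (algebraMap (MvPolynomial ι A) B (MvPolynomial.X i)) =
          algebraMap (MvPolynomial ι A) E (MvPolynomial.X i)
        rw [halg, halgE, MvPolynomial.aeval_X, MvPolynomial.aeval_X, hw]
    exact congrArg (fun h => h q) this
  obtain ⟨f, hf⟩ := Algebra.FormallySmooth.exists_lift R hR v'
  have hfv : ∀ b, Ideal.Quotient.mk R (f b) = v b := fun b => congrArg (fun h => h b) hf
  refine ⟨f.restrictScalars A, ⟨?_, ?_⟩, ?_⟩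
  · ext b
    exact hfv b
  · intro i
    show f (x i) = z i
    have : x i = algebraMap (MvPolynomial ι A) B (MvPolynomial.X i) := by
      rw [halg, MvPolynomial.aeval_X]
    rw [this, f.commutes, halgE, MvPolynomial.aeval_X]
  · rintro w' ⟨hw'v, hw'x⟩
    let f' : B →ₐ[MvPolynomial ι A] E := { w'.toRingHom with commutes' := upgrade w' hw'x }
    have : f' = f := by
      apply Algebra.FormallyUnramified.lift_unique R hR
      ext b
      show Ideal.Quotient.mk R (w' b) = Ideal.Quotient.mk R (f b)
      rw [hfv]
      exact congrArg (fun h => h b) hw'v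
    ext b
    exact congrArg (fun h => h b) this

end Groth.Agent.S4541
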