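import Groth.Statements.S4570
import Mathlib
import Groth.Agent.Lib.Helper23.AdicJacobian
-- import your own Groth.Agent.* helpers here

set_option autoImplicit false
universe u
open TensorProduct KaehlerDifferential
open EGA41

namespace Groth.Agent.S4570

open Groth.Agent.Lib.Helper23


/-- Let Λ → A → B be ring homomorphisms, J an ideal of B and C = B/J, with C formally smooth over Λ for
the discrete topologies. Consider the conditions: (α) J/J² is a projective C-module; (β) the
canonical maps Sym^n_C(J/J²) → J^n/J^(n+1) are bijective for n ≥ 1; (γ') Ω_{A/Λ} ⊗_A C → Ω_{B/Λ} ⊗_B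
C is injective (equivalent to the injectivity of the characteristic homomorphism used in the
published (γ)); (δ) Ω_{B/A} ⊗_B C is a projective C-module. (i) If they hold then B, with the J-adic
topology, is formally smooth over the discrete ring A. (ii) Conversely if B is formally smooth over
A for the J-adic topology and A is formally smooth over Λ for the discrete topology, the four
conditions hold. -/
theorem result {Λ A B : Type u} [CommRing Λ]
    [CommRing A] [CommRing B] [Algebra Λ A] [Algebra A B] [Algebra Λ B] [IsScalarTower Λ A B] (J : Ideal B)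
    [Algebra.FormallySmooth Λ (B ⧸ J)] :
    ((Module.Projective (B ⧸ J) J.Cotangent ∧ PP16.SymGrBijective B J ∧
        Function.Injective ((mapBaseChange Λ A B).lTensor (B ⧸ J)) ∧
        Module.Projective (B ⧸ J) ((B ⧸ J) ⊗[B] (Ω[B⁄A]))) →
      CAlgX.IsAdicFormallySmooth A B J) ∧
    (Algebra.FormallySmooth Λ A → CAlgX.IsAdicFormallySmooth A B J →
      (Module.Projective (B ⧸ J) J.Cotangent ∧ PP16.SymGrBijective B J ∧
        Function.Injective ((mapBaseChange Λ A B).lTensor (B ⧸ J)) ∧
        Module.Projective (B ⧸ J) ((B ⧸ J) ⊗[B] (Ω[B⁄A])))) := by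
  constructor
  · rintro ⟨h1, h2, h3, h4⟩
    have hΛ : CAlgX.IsAdicFormallySmooth Λ B J := (AdicSmoothSym.adicSmooth_iff J).mpr ⟨h1, h2⟩
    obtain ⟨r, hr⟩ := AdicJacobian.exists_retr J h3 h4
    exact AdicJacobian.adic_of_retr J hΛ r hr
  · intro hA h
    have hΛ : CAlgX.IsAdicFormallySmooth Λ B J := AdicJacobian.adic_comp J h
    obtain ⟨h1, h2⟩ := (AdicSmoothSym.adicSmooth_iff J).mp hΛ
    refine ⟨h1, h2, AdicJacobian.gamma_injective J h, ?_⟩
    exact Groth.Agent.S4544.result ⊥ J ⟨1, by simp⟩ ((Groth.Agent.S4537.result J).mp h) J ⟨1, by simp⟩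

end Groth.Agent.S4570
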