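import Groth.Statements.S4571
import Mathlib
import Groth.Agent.Lib.Helper23.FieldSmooth
import Groth.Agent.S4570
-- import your own Groth.Agent.* helpers here

set_option autoImplicit false
universe u
open TensorProduct KaehlerDifferential IsLocalRing
open EGA41

namespace Groth.Agent.S4571


open Groth.Agent.Lib.Helper23.FieldSmooth

theorem subsingleton_of_D_eq_zero (Λ : Type u) [CommRing Λ]
    (h : ∀ x : Λ, KaehlerDifferential.D ℤ Λ x = 0) : Subsingleton (Ω[Λ⁄ℤ]) := by
  have h1 := KaehlerDifferential.span_range_derivation ℤ Λ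
  have h2 : Set.range (KaehlerDifferential.D ℤ Λ) ⊆ {0} := by
    rintro _ ⟨x, rfl⟩
    exact h x
  have h3 : (⊤ : Submodule Λ (Ω[Λ⁄ℤ])) = ⊥ := by
    rw [eq_bot_iff, ← h1, Submodule.span_le]
    intro m hm
    have := h2 hm
    simpa using this
  exact (Submodule.subsingleton_iff Λ).mp (subsingleton_of_bot_eq_top h3.symm)

/-- prime-field package -/
theorem exists_primeField (k : Type u) [Field k] :
    ∃ (Λ : Type u) (_ : Field Λ) (_ : Algebra Λ k), Subsingleton (Ω[Λ⁄ℤ]) ∧ PerfectField Λ := by
  obtain ⟨p, hp⟩ := CharP.exists k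
  rcases CharP.char_is_prime_or_zero k p with h | h
  · haveI : Fact p.Prime := ⟨h⟩
    letI : Algebra (ZMod p) k := ZMod.algebra k p
    refine ⟨ULift.{u} (ZMod p), inferInstance, ULift.algebra' _ _, ?_, inferInstance⟩
    apply subsingleton_of_D_eq_zero
    intro x
    have : x = (Nat.cast (ZMod.val x.down) : ULift.{u} (ZMod p)) := by
      apply ULift.ext
      show x.down = ((ZMod.val x.down : ℕ) : ZMod p)
      exact (ZMod.natCast_zmod_val _).symm
    rw [this]
    exact Derivation.map_natCast _ _
  · subst h
    haveI : CharZero k := CharP.charP_to_charZero k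
    haveI : CharZero (ULift.{u} ℚ) :=
      charZero_of_injective_ringHom (f := (ULift.ringEquiv.symm : ℚ ≃+* ULift.{u} ℚ).toRingHom)
        (ULift.ringEquiv.symm : ℚ ≃+* ULift.{u} ℚ).injective
    refine ⟨ULift.{u} ℚ, inferInstance, ULift.algebra' _ _, ?_, inferInstance⟩
    apply subsingleton_of_D_eq_zero
    intro x
    have hb : ((x.down.den : ℕ) : ULift.{u} ℚ) ≠ 0 := by
      intro h
      have := congrArg ULift.down h
      simp at this
    have h1 : ((x.down.den : ℕ) : ULift.{u} ℚ) * x = ((x.down.num : ℤ) : ULift.{u} ℚ) := by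
      apply ULift.ext
      simp [Rat.den_mul_eq_num]
    have h2 := congrArg (KaehlerDifferential.D ℤ (ULift.{u} ℚ)) h1
    rw [Derivation.leibniz, Derivation.map_natCast, Derivation.map_intCast] at h2
    have h3 : x • (0 : Ω[ULift.{u} ℚ⁄ℤ]) = 0 := smul_zero x
    erw [h3, add_zero] at h2
    exact (smul_eq_zero.mp h2).resolve_left hb



open Groth.Agent.Lib.Helper23.FieldSmooth

theorem map_bijective (Λ S : Type u) [CommRing Λ] [CommRing S] [Algebra Λ S]
    (h : Subsingleton (Ω[Λ⁄ℤ])) :
    Function.Bijective (KaehlerDifferential.map ℤ Λ S S) := by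
  refine ⟨?_, KaehlerDifferential.map_surjective ℤ Λ S⟩
  rw [← LinearMap.ker_eq_bot, (KaehlerDifferential.exact_mapBaseChange_map ℤ Λ S).linearMap_ker_eq]
  haveI : Subsingleton (S ⊗[Λ] Ω[Λ⁄ℤ]) := inferInstance
  rw [eq_bot_iff]
  rintro _ ⟨z, rfl⟩
  rw [Subsingleton.elim z 0, map_zero]
  exact Submodule.zero_mem _

theorem square (Λ k A : Type u) [CommRing Λ] [CommRing k] [CommRing A] [Algebra Λ k] [Algebra k A]
    [Algebra Λ A] [IsScalarTower Λ k A] :
    (mapBaseChange Λ k A) ∘ₗ ((KaehlerDifferential.map ℤ Λ k k).baseChange A)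
      = (KaehlerDifferential.map ℤ Λ A A) ∘ₗ (mapBaseChange ℤ k A) := by
  apply LinearMap.ext
  intro z
  induction z using TensorProduct.induction_on with
  | zero => simp
  | add a b ha hb => rw [map_add, map_add, ha, hb]
  | tmul a ω =>
    have hω : ω ∈ Submodule.span k (Set.range (KaehlerDifferential.D ℤ k)) := by
      rw [KaehlerDifferential.span_range_derivation]; trivial
    induction hω using Submodule.span_induction generalizing a with
    | mem ω hω =>
      obtain ⟨x, rfl⟩ := hω
      simp
    | zero => simp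
    | add ω₁ ω₂ _ _ h₁ h₂ => rw [TensorProduct.tmul_add, map_add, map_add, h₁ a, h₂ a]
    | smul c ω _ h =>
      rw [← TensorProduct.smul_tmul]
      exact h (c • a)



open Groth.Agent.Lib.Helper23.FieldSmooth

theorem lTensor_bijective {R M N : Type*} [CommRing R] [AddCommGroup M] [AddCommGroup N]
    [Module R M] [Module R N] (Q : Type*) [AddCommGroup Q] [Module R Q] (g : M →ₗ[R] N)
    (hg : Function.Bijective g) : Function.Bijective (g.lTensor Q) := by
  have : g.lTensor Q = ((LinearEquiv.ofBijective g hg).lTensor Q).toLinearMap := by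
    rw [LinearEquiv.coe_lTensor]
    rfl
  rw [this]
  exact LinearEquiv.bijective _

theorem transfer (Λ k A : Type u) [CommRing Λ] [CommRing k] [CommRing A] [Algebra Λ k]
    [Algebra k A] [Algebra Λ A] [IsScalarTower Λ k A] (h : Subsingleton (Ω[Λ⁄ℤ]))
    (Q : Type u) [AddCommGroup Q] [Module A Q] :
    Function.Injective ((mapBaseChange ℤ k A).lTensor Q) ↔
      Function.Injective ((mapBaseChange Λ k A).lTensor Q) := by
  have h1 : Function.Bijective (((KaehlerDifferential.map ℤ Λ k k).baseChange A).lTensor Q) := by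
    apply lTensor_bijective
    have : Function.Bijective ((KaehlerDifferential.map ℤ Λ k k).lTensor A) :=
      lTensor_bijective A _ (map_bijective Λ k h)
    rw [← LinearMap.baseChange_eq_ltensor] at this
    exact this
  have h2 : Function.Bijective ((KaehlerDifferential.map ℤ Λ A A).lTensor Q) :=
    lTensor_bijective Q _ (map_bijective Λ A h)
  have hsq : ((mapBaseChange Λ k A).lTensor Q) ∘ₗ
      (((KaehlerDifferential.map ℤ Λ k k).baseChange A).lTensor Q)
      = ((KaehlerDifferential.map ℤ Λ A A).lTensor Q) ∘ₗ ((mapBaseChange ℤ k A).lTensor Q) := by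
    rw [← LinearMap.lTensor_comp, ← LinearMap.lTensor_comp, square]
  constructor
  · intro hinj
    have h3 : Function.Injective (((KaehlerDifferential.map ℤ Λ A A).lTensor Q) ∘ₗ
        ((mapBaseChange ℤ k A).lTensor Q)) := by
      rw [LinearMap.coe_comp]
      exact h2.1.comp hinj
    rw [← hsq, LinearMap.coe_comp] at h3
    intro a b hab
    obtain ⟨a', rfl⟩ := h1.2 a
    obtain ⟨b', rfl⟩ := h1.2 b
    exact congrArg _ (h3 hab)
  · intro hinj
    have h3 : Function.Injective (((mapBaseChange Λ k A).lTensor Q) ∘ₗ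
        (((KaehlerDifferential.map ℤ Λ k k).baseChange A).lTensor Q)) := by
      rw [LinearMap.coe_comp]
      exact hinj.comp h1.1
    rw [hsq, LinearMap.coe_comp] at h3
    exact Function.Injective.of_comp h3


/-- For an arbitrary local algebra: let k be a field and A a local k-algebra with maximal ideal m and
residue field K. Then A is formally smooth over k for the m-adic topology if and only if the
canonical maps Sym^n_K(m/m²) → m^n/m^(n+1) are bijective for n ≥ 1 and the canonical map Ω_{k/ℤ} ⊗_k
K → Ω_{A/ℤ} ⊗_A K is injective (absolute differentials, which agree with differentials over the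
prime field). -/
theorem result {k A : Type u} [Field k] [CommRing A]
    [IsLocalRing A] [Algebra k A] :
    CAlgX.IsAdicFormallySmooth k A (maximalIdeal A) ↔
      (PP16.SymGrBijective A (maximalIdeal A) ∧
        Function.Injective ((mapBaseChange ℤ k A).lTensor (ResidueField A))) := by
  obtain ⟨Λ, _, _, hΛ1, hΛ2⟩ := exists_primeField k
  letI : Algebra Λ A := ((algebraMap k A).comp (algebraMap Λ k)).toAlgebra
  haveI : IsScalarTower Λ k A := IsScalarTower.of_algebraMap_eq (fun _ => rfl)
  letI : Field (A ⧸ maximalIdeal A) := Ideal.Quotient.field _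
  haveI : Algebra.FormallySmooth Λ (A ⧸ maximalIdeal A) := formallySmooth_of_perfectField Λ _
  haveI : Algebra.FormallySmooth Λ k := formallySmooth_of_perfectField Λ k
  have key := Groth.Agent.S4570.result (Λ := Λ) (A := k) (B := A) (maximalIdeal A)
  have hinj : Function.Injective ((mapBaseChange ℤ k A).lTensor (ResidueField A)) ↔
      Function.Injective ((mapBaseChange Λ k A).lTensor (A ⧸ maximalIdeal A)) :=
    transfer Λ k A hΛ1 (A ⧸ maximalIdeal A)
  constructor
  · intro h
    obtain ⟨_, h2, h3, _⟩ := key.2 inferInstance h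
    exact ⟨h2, hinj.mpr h3⟩
  · rintro ⟨h2, h3⟩
    exact key.1 ⟨Module.Projective.of_free, h2, hinj.mp h3, Module.Projective.of_free⟩

end Groth.Agent.S4571
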