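import Groth.Statements.S12136
import Mathlib
import Groth.Agent.Lib.Helper23.AdicSmoothB
import Groth.Agent.S4537
-- import your own Groth.Agent.* helpers here

set_option autoImplicit false
universe u
open TensorProduct KaehlerDifferential
open EGA41

namespace Groth.Agent.S12136


section Act

/-- the action of a quotient ring on a module killed by the kernel, as a bilinear map
(no instances). -/
theorem exists_act {B S N : Type*} [CommRing B] [CommRing S] [Algebra B S] [AddCommGroup N]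
    [Module B N] (hsurj : Function.Surjective (algebraMap B S))
    (hker : ∀ b : B, algebraMap B S b = 0 → ∀ n : N, b • n = 0) :
    ∃ act : S →ₗ[B] N →ₗ[B] N, ∀ (b : B) (n : N), act (algebraMap B S b) n = b • n := by
  have hsurj' : Function.Surjective (Algebra.linearMap B S) := hsurj
  let e := LinearMap.quotKerEquivOfSurjective (Algebra.linearMap B S) hsurj'
  let l : (B ⧸ LinearMap.ker (Algebra.linearMap B S)) →ₗ[B] N →ₗ[B] N :=
    Submodule.liftQ _ (LinearMap.lsmul B N) (by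
      intro b hb
      rw [LinearMap.mem_ker] at hb ⊢
      ext n
      exact hker b hb n)
  refine ⟨l ∘ₗ e.symm.toLinearMap, fun b n => ?_⟩
  have : e.symm (algebraMap B S b) = Submodule.Quotient.mk b := by
    rw [LinearEquiv.symm_apply_eq]
    rfl
  show l (e.symm (algebraMap B S b)) n = b • n
  rw [this]
  rfl

end Act



section Du

variable {A B : Type u} [CommRing A] [CommRing B] [Algebra A B] (J : Ideal B) (Q : Ideal (B ⧸ J))

/-- the derivation `B → (C/Q) ⊗ J/J²` attached to a left inverse `g`. -/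
noncomputable def Du
    (g : ((B ⧸ J) ⧸ Q) ⊗[B] ((B ⧸ J) ⊗[B] Ω[B⁄A]) →ₗ[(B ⧸ J) ⧸ Q]
          ((B ⧸ J) ⧸ Q) ⊗[B] (RingHom.ker (algebraMap B (B ⧸ J))).Cotangent) :
    Derivation A B (((B ⧸ J) ⧸ Q) ⊗[B] (RingHom.ker (algebraMap B (B ⧸ J))).Cotangent) :=
  ((g.restrictScalars B) ∘ₗ (TensorProduct.mk B ((B ⧸ J) ⧸ Q) ((B ⧸ J) ⊗[B] Ω[B⁄A]) 1) ∘ₗ
    (TensorProduct.mk B (B ⧸ J) (Ω[B⁄A]) 1)).compDer (KaehlerDifferential.D A B)

theorem Du_apply (g : ((B ⧸ J) ⧸ Q) ⊗[B] ((B ⧸ J) ⊗[B] Ω[B⁄A]) →ₗ[(B ⧸ J) ⧸ Q]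
          ((B ⧸ J) ⧸ Q) ⊗[B] (RingHom.ker (algebraMap B (B ⧸ J))).Cotangent) (b : B) :
    Du J Q g b = g ((1 : (B ⧸ J) ⧸ Q) ⊗ₜ[B] ((1 : B ⧸ J) ⊗ₜ[B] KaehlerDifferential.D A B b)) := rfl

theorem Du_mem (g : ((B ⧸ J) ⧸ Q) ⊗[B] ((B ⧸ J) ⊗[B] Ω[B⁄A]) →ₗ[(B ⧸ J) ⧸ Q]
          ((B ⧸ J) ⧸ Q) ⊗[B] (RingHom.ker (algebraMap B (B ⧸ J))).Cotangent)
    (hg : g ∘ₗ LinearMap.baseChange ((B ⧸ J) ⧸ Q)
      (KaehlerDifferential.kerCotangentToTensor A B (B ⧸ J)) = LinearMap.id)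
    (j : RingHom.ker (algebraMap B (B ⧸ J))) :
    Du J Q g j.1 = (1 : (B ⧸ J) ⧸ Q) ⊗ₜ[B] (Ideal.toCotangent _ j) := by
  rw [Du_apply]
  have := congrArg (fun f : _ →ₗ[(B ⧸ J) ⧸ Q] _ =>
    f ((1 : (B ⧸ J) ⧸ Q) ⊗ₜ[B] (Ideal.toCotangent _ j))) hg
  simp only [LinearMap.coe_comp, Function.comp_apply, LinearMap.baseChange_tmul,
    LinearMap.id_coe, id_eq] at this
  rw [KaehlerDifferential.kerCotangentToTensor_toCotangent] at this
  exact this

end Du



section Backward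

variable {A B : Type u} [CommRing A] [CommRing B] [Algebra A B] (I J : Ideal B)
  (Q : Ideal (B ⧸ J))

theorem adic_of_leftInverse (hB : CAlgX.IsAdicFormallySmooth A B I)
    (hQ : ∃ n : ℕ, (I.map (Ideal.Quotient.mk J)) ^ n ≤ Q)
    (hQ' : ∃ m : ℕ, Q ^ m ≤ I.map (Ideal.Quotient.mk J))
    (g : ((B ⧸ J) ⧸ Q) ⊗[B] ((B ⧸ J) ⊗[B] Ω[B⁄A]) →ₗ[(B ⧸ J) ⧸ Q]
          ((B ⧸ J) ⧸ Q) ⊗[B] (RingHom.ker (algebraMap B (B ⧸ J))).Cotangent)
    (hg : g ∘ₗ LinearMap.baseChange ((B ⧸ J) ⧸ Q)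
      (KaehlerDifferential.kerCotangentToTensor A B (B ⧸ J)) = LinearMap.id) :
    CAlgX.IsAdicFormallySmooth A (B ⧸ J) (I.map (Ideal.Quotient.mk J)) := by
  obtain ⟨n, hn⟩ := hQ
  obtain ⟨m, hm⟩ := hQ'
  -- reduce to the topology defined by `Q`
  suffices h : CAlgX.IsAdicFormallySmooth A (B ⧸ J) Q by
    intro T _ _ N hN ψ ⟨k, hk⟩
    refine h T N hN ψ ⟨m * k, fun x hx => hk x ?_⟩
    rw [pow_mul] at hx
    exact Ideal.pow_right_mono hm k hx
  apply Groth.Agent.Lib.Helper23.AdicSmoothB.of_smallStepB Q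
  intro E' E'' _ _ _ _ π hπ hK2 u ⟨m₁, hu⟩ hkill
  let q : B →ₐ[A] B ⧸ J := Ideal.Quotient.mkₐ A J
  have hũ : ∃ k : ℕ, ∀ x ∈ I ^ k, (u.comp q) x = 0 := by
    refine ⟨n * m₁, fun x hx => ?_⟩
    apply hu
    have h1 : q x ∈ (I.map (Ideal.Quotient.mk J)) ^ (n * m₁) := by
      rw [← Ideal.map_pow]
      exact Ideal.mem_map_of_mem _ hx
    rw [pow_mul] at h1
    exact Ideal.pow_right_mono hn m₁ h1
  obtain ⟨φ, hφ, -⟩ := Groth.Agent.S4537.lift_of_ker_sq hB π hπ hK2 (u.comp q) hũ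
  -- `E'` as a `B`-algebra through `φ`
  letI : Algebra B E' := φ.toRingHom.toAlgebra
  haveI : IsScalarTower A B E' := IsScalarTower.of_algebraMap_eq (fun a => (φ.commutes a).symm)
  have hsmul : ∀ (b : B) (e : E'), b • e = φ b * e := fun b e => rfl
  let Nb : Submodule B E' := (RingHom.ker π.toRingHom).restrictScalars B
  have hNb : ∀ e : E', e ∈ Nb ↔ π e = 0 := fun e => Iff.rfl
  have hKN : ∀ j : B, j ∈ RingHom.ker (algebraMap B (B ⧸ J)) → φ j ∈ Nb := by
    intro j hj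
    rw [hNb, hφ]
    have : q j = 0 := hj
    simp [this]
  -- the map `J/J² → N`
  let lam1 : RingHom.ker (algebraMap B (B ⧸ J)) →ₗ[B] Nb :=
    { toFun := fun j => ⟨φ j.1, hKN j.1 j.2⟩
      map_add' := fun j j' => Subtype.ext (by simp)
      map_smul' := fun b j => Subtype.ext (by simp [hsmul]) }
  let lam0 : (RingHom.ker (algebraMap B (B ⧸ J))).Cotangent →ₗ[B] Nb :=
    Submodule.liftQ _ lam1 (by
      intro x hx
      rw [LinearMap.mem_ker]
      refine Submodule.smul_induction_on hx (fun a ha y _ => ?_) (fun x y hx hy => ?_)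
      · apply Subtype.ext
        show φ ((a • y : RingHom.ker (algebraMap B (B ⧸ J))) : B) = 0
        rw [Submodule.coe_smul, smul_eq_mul, map_mul]
        exact hK2 _ _ ((hNb _).mp (hKN a ha)) ((hNb _).mp (hKN y.1 y.2))
      · rw [map_add, hx, hy, add_zero])
  have hlam0 : ∀ j : RingHom.ker (algebraMap B (B ⧸ J)),
      ((lam0 (Ideal.toCotangent _ j) : Nb) : E') = φ j.1 := fun j => rfl
  -- the action of `C/Q` on `N`
  have hsurjCQ : Function.Surjective (algebraMap B ((B ⧸ J) ⧸ Q)) := by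
    intro c
    obtain ⟨c', rfl⟩ := Ideal.Quotient.mk_surjective c
    obtain ⟨b, rfl⟩ := Ideal.Quotient.mk_surjective c'
    exact ⟨b, rfl⟩
  obtain ⟨act, hact⟩ := exists_act (B := B) (S := (B ⧸ J) ⧸ Q) (N := Nb) hsurjCQ (by
    intro b hb n
    apply Subtype.ext
    show b • (n : E') = 0
    rw [hsmul]
    have hbQ : q b ∈ Q := by
      have : Ideal.Quotient.mk Q (q b) = 0 := hb
      exact Ideal.Quotient.eq_zero_iff_mem.mp this
    exact hkill (q b) hbQ (φ b) n (hφ b) n.2)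
  let β : ((B ⧸ J) ⧸ Q) →ₗ[B] (RingHom.ker (algebraMap B (B ⧸ J))).Cotangent →ₗ[B] Nb :=
    ((LinearMap.llcomp B _ _ _).flip lam0) ∘ₗ act
  let lam : ((B ⧸ J) ⧸ Q) ⊗[B] (RingHom.ker (algebraMap B (B ⧸ J))).Cotangent →ₗ[B] Nb :=
    TensorProduct.lift β
  have hlam : ∀ j : RingHom.ker (algebraMap B (B ⧸ J)),
      ((lam ((1 : (B ⧸ J) ⧸ Q) ⊗ₜ[B] Ideal.toCotangent _ j) : Nb) : E') = φ j.1 := by
    intro j
    have h1 : (1 : (B ⧸ J) ⧸ Q) = algebraMap B ((B ⧸ J) ⧸ Q) 1 := (map_one _).symm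
    simp only [lam, TensorProduct.lift.tmul, β, LinearMap.coe_comp, Function.comp_apply,
      LinearMap.flip_apply, LinearMap.llcomp_apply]
    rw [h1, hact, one_smul, hlam0]
  -- the correcting derivation
  let D : Derivation A B Nb := lam.compDer (Du J Q g)
  have hD : ∀ j : RingHom.ker (algebraMap B (B ⧸ J)), ((D j.1 : Nb) : E') = φ j.1 := by
    intro j
    show ((lam (Du J Q g j.1) : Nb) : E') = φ j.1
    rw [Du_mem J Q g hg j, hlam]
  have hDN : ∀ b : B, π ((D b : Nb) : E') = 0 := fun b => (D b).2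
  -- the corrected lift `B → E'`
  let v' : B →ₐ[A] E' :=
    { toFun := fun b => φ b - ((D b : Nb) : E')
      map_one' := by
        rw [Derivation.map_one_eq_zero]
        simp
      map_mul' := fun a b => by
        rw [Derivation.leibniz, map_mul]
        have h0 : ((D a : Nb) : E') * ((D b : Nb) : E') = 0 := hK2 _ _ (hDN a) (hDN b)
        simp only [Submodule.coe_add, Submodule.coe_smul, hsmul]
        linear_combination -h0
      map_zero' := by simp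
      map_add' := fun a b => by
        simp only [map_add, Submodule.coe_add]
        ring
      commutes' := fun a => by
        rw [Derivation.map_algebraMap]
        simp }
  have hv' : ∀ b, v' b = φ b - ((D b : Nb) : E') := fun b => rfl
  have hv'J : ∀ j ∈ J, v' j = 0 := by
    intro j hj
    have hjK : j ∈ RingHom.ker (algebraMap B (B ⧸ J)) := by
      rw [RingHom.mem_ker]
      exact Ideal.Quotient.eq_zero_iff_mem.mpr hj
    rw [hv', hD ⟨j, hjK⟩, sub_self]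
  let v : B ⧸ J →ₐ[A] E' := Ideal.Quotient.liftₐ J v' hv'J
  have hv : ∀ b, v (q b) = v' b := fun b => rfl
  have hπv : ∀ c, π (v c) = u c := by
    intro c
    obtain ⟨b, rfl⟩ := Ideal.Quotient.mk_surjective c
    show π (v (q b)) = u (q b)
    rw [hv, hv', map_sub, hDN, sub_zero, hφ]
    rfl
  refine ⟨v, hπv, m₁ + 1, ?_⟩
  have hle : Q ^ (m₁ + 1) ≤ RingHom.ker v.toRingHom := by
    rw [pow_succ, Ideal.mul_le]
    intro y hy z hz
    rw [RingHom.mem_ker]
    show v (y * z) = 0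
    rw [map_mul, mul_comm]
    refine hkill z hz (v z) (v y) (hπv z) ?_
    rw [hπv, hu y hy]
  intro x hx
  exact hle hx

end Backward



section Forward

/-- `1 ⊗ [j] = 0` in `S ⊗ K/K²` when `j ∈ K² + Q'K` and `Q'` dies in `S`. -/
theorem mu_eq_zero {B S : Type*} [CommRing B] [CommRing S] [Algebra B S] (K Q' : Ideal B)
    (hQ' : ∀ b ∈ Q', algebraMap B S b = 0) (j : K) (hj : (j : B) ∈ K * K ⊔ Q' * K) :
    (1 : S) ⊗ₜ[B] (K.toCotangent j) = (0 : S ⊗[B] K.Cotangent) := by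
  obtain ⟨x, hx, y, hy, hxy⟩ := Submodule.mem_sup.mp hj
  have hxK : x ∈ K := Ideal.mul_le_left hx
  have hyK : y ∈ K := Ideal.mul_le_right hy
  have hjxy : j = ⟨x, hxK⟩ + ⟨y, hyK⟩ := Subtype.ext hxy.symm
  rw [hjxy, map_add, TensorProduct.tmul_add]
  have h1 : K.toCotangent ⟨x, hxK⟩ = 0 := by
    rw [Ideal.toCotangent_eq_zero, pow_two]
    exact hx
  rw [h1, TensorProduct.tmul_zero, zero_add]
  have key : ∀ y ∈ Q' * K, ∀ hyK : y ∈ K,
      (1 : S) ⊗ₜ[B] (K.toCotangent ⟨y, hyK⟩) = (0 : S ⊗[B] K.Cotangent) := by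
    intro y hy
    induction hy using Submodule.mul_induction_on' with
    | mem_mul_mem b hb k hk =>
      intro hbk
      have : (⟨b * k, hbk⟩ : K) = b • ⟨k, hk⟩ := Subtype.ext (by simp)
      rw [this, map_smul, TensorProduct.tmul_smul, TensorProduct.smul_tmul',
        Algebra.smul_def, mul_one, hQ' b hb, TensorProduct.zero_tmul]
    | add x hx y hy ihx ihy =>
      intro hxyK
      have hxK' : x ∈ K := Ideal.mul_le_right hx
      have hyK' : y ∈ K := Ideal.mul_le_right hy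
      have : (⟨x + y, hxyK⟩ : K) = ⟨x, hxK'⟩ + ⟨y, hyK'⟩ := rfl
      rw [this, map_add, TensorProduct.tmul_add, ihx hxK', ihy hyK', add_zero]
  exact key y hy hyK

end Forward



section Forward2

variable {A B : Type u} [CommRing A] [CommRing B] [Algebra A B] [IsNoetherianRing B]
  (I J : Ideal B) (Q : Ideal (B ⧸ J))

/-- Artin–Rees consequence. -/
theorem exists_pow_inf_le (K Q' : Ideal B) (n₀ : ℕ) (hn₀ : I ^ n₀ ≤ Q') :
    ∃ n : ℕ, I ^ n ⊓ K ≤ Q' * K := by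
  obtain ⟨k₀, hk₀⟩ := Ideal.exists_pow_inf_eq_pow_smul I (K : Submodule B B)
  refine ⟨k₀ + n₀, ?_⟩
  have h := hk₀ (k₀ + n₀) (Nat.le_add_right _ _)
  rw [Nat.add_sub_cancel_left] at h
  have h1 : I ^ (k₀ + n₀) ⊓ K = I ^ (k₀ + n₀) • (⊤ : Submodule B B) ⊓ K := by
    rw [Ideal.smul_top_eq_map]
    simp
  rw [h1, h]
  refine (Submodule.smul_mono hn₀ inf_le_right).trans ?_
  rw [Ideal.smul_eq_mul]

end Forward2

section Forward3

variable {A B : Type u} [CommRing A] [CommRing B] [Algebra A B] [IsNoetherianRing B]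
  (I J : Ideal B) (Q : Ideal (B ⧸ J))

theorem exists_derivation_of_adic
    (hC : CAlgX.IsAdicFormallySmooth A (B ⧸ J) (I.map (Ideal.Quotient.mk J)))
    (hQ : ∃ n : ℕ, (I.map (Ideal.Quotient.mk J)) ^ n ≤ Q) :
    ∃ D' : Derivation A B (((B ⧸ J) ⧸ Q) ⊗[B] (RingHom.ker (algebraMap B (B ⧸ J))).Cotangent),
      ∀ j : RingHom.ker (algebraMap B (B ⧸ J)),
        D' j.1 = (1 : (B ⧸ J) ⧸ Q) ⊗ₜ[B] (Ideal.toCotangent _ j) := by
  obtain ⟨n₀, hn₀⟩ := hQ
  generalize hK : RingHom.ker (algebraMap B (B ⧸ J)) = K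
  generalize hQ'def : RingHom.ker (algebraMap B ((B ⧸ J) ⧸ Q)) = Q'
  have hKJ : K = J := by
    rw [← hK]
    exact Ideal.mk_ker
  have hQ'0 : ∀ b ∈ Q', algebraMap B ((B ⧸ J) ⧸ Q) b = 0 := by
    intro b hb
    rw [← hQ'def] at hb
    exact hb
  have hIQ' : I ^ n₀ ≤ Q' := by
    intro x hx
    rw [← hQ'def, RingHom.mem_ker]
    have h1 : Ideal.Quotient.mk J x ∈ (I.map (Ideal.Quotient.mk J)) ^ n₀ := by
      rw [← Ideal.map_pow]
      exact Ideal.mem_map_of_mem _ hx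
    exact Ideal.Quotient.eq_zero_iff_mem.mpr (hn₀ h1)
  obtain ⟨n, hn⟩ := exists_pow_inf_le I K Q' n₀ hIQ'
  -- the test extension
  let 𝔞 : Ideal B := K * K ⊔ Q' * K ⊔ I ^ n
  let π : B →ₐ[A] B ⧸ 𝔞 := Ideal.Quotient.mkₐ A 𝔞
  let N : Ideal (B ⧸ 𝔞) := K.map (Ideal.Quotient.mk 𝔞)
  have hN2 : N ^ 2 = ⊥ := by
    rw [eq_bot_iff, ← Ideal.map_pow, Ideal.map_le_iff_le_comap]
    intro x hx
    rw [Ideal.mem_comap, Ideal.mem_bot, Ideal.Quotient.eq_zero_iff_mem]
    rw [pow_two] at hx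
    exact le_sup_left (α := Ideal B) (le_sup_left (α := Ideal B) hx)
  -- the map `C → T/N`
  have hJN : ∀ j ∈ J, ((Ideal.Quotient.mkₐ A N).comp π) j = 0 := by
    intro j hj
    show Ideal.Quotient.mk N (Ideal.Quotient.mk 𝔞 j) = 0
    rw [Ideal.Quotient.eq_zero_iff_mem]
    exact Ideal.mem_map_of_mem _ (hKJ ▸ hj)
  let ψ : B ⧸ J →ₐ[A] (B ⧸ 𝔞) ⧸ N := Ideal.Quotient.liftₐ J ((Ideal.Quotient.mkₐ A N).comp π) hJN
  have hψ : ∀ b : B, ψ (Ideal.Quotient.mk J b) = Ideal.Quotient.mk N (Ideal.Quotient.mk 𝔞 b) :=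
    fun b => rfl
  have hψkill : ∃ k : ℕ, ∀ x ∈ (I.map (Ideal.Quotient.mk J)) ^ k, ψ x = 0 := by
    refine ⟨n, ?_⟩
    have hle : (I.map (Ideal.Quotient.mk J)) ^ n ≤ RingHom.ker ψ.toRingHom := by
      rw [← Ideal.map_pow, Ideal.map_le_iff_le_comap]
      intro x hx
      rw [Ideal.mem_comap, RingHom.mem_ker]
      show ψ (Ideal.Quotient.mk J x) = 0
      rw [hψ]
      have : Ideal.Quotient.mk 𝔞 x = 0 :=
        Ideal.Quotient.eq_zero_iff_mem.mpr (le_sup_right (α := Ideal B) hx)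
      rw [this, map_zero]
    intro x hx
    exact hle hx
  obtain ⟨χ, hχ⟩ := hC (B ⧸ 𝔞) N hN2 ψ hψkill
  have hχ' : ∀ b : B, Ideal.Quotient.mk N (χ (Ideal.Quotient.mk J b)) =
      Ideal.Quotient.mk N (Ideal.Quotient.mk 𝔞 b) := by
    intro b
    have := congrArg (fun f : B ⧸ J →ₐ[A] (B ⧸ 𝔞) ⧸ N => f (Ideal.Quotient.mk J b)) hχ
    simpa [hψ] using this
  -- the difference is a derivation into `N`
  let Nb : Submodule B (B ⧸ 𝔞) := N.restrictScalars B
  have hdiff : ∀ b : B, Ideal.Quotient.mk 𝔞 b - χ (Ideal.Quotient.mk J b) ∈ Nb := by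
    intro b
    show _ ∈ N
    rw [← Ideal.Quotient.eq]
    exact (hχ' b).symm
  have hNN : ∀ x ∈ N, ∀ y ∈ N, x * y = 0 := by
    intro x hx y hy
    have : x * y ∈ N ^ 2 := by
      rw [pow_two]
      exact Ideal.mul_mem_mul hx hy
    rw [hN2] at this
    exact this
  let q : B →ₐ[A] B ⧸ J := Ideal.Quotient.mkₐ A J
  have hq : ∀ b, q b = Ideal.Quotient.mk J b := fun b => rfl
  have hπ : ∀ b, π b = Ideal.Quotient.mk 𝔞 b := fun b => rfl
  let D : Derivation A B Nb := Derivation.mk'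
    ({ toFun := fun b => ⟨π b - χ (q b), hdiff b⟩
       map_add' := fun a b => Subtype.ext (by
        simp only [map_add, Submodule.coe_add]
        ring)
       map_smul' := fun a b => Subtype.ext (by
        simp only [map_smul, RingHom.id_apply, Submodule.coe_smul_of_tower, smul_sub]) } : B →ₗ[A] Nb)
    (fun a b => Subtype.ext (by
      have h0 : (π a - χ (q a)) * (π b - χ (q b)) = 0 := hNN _ (hdiff a) _ (hdiff b)
      simp only [LinearMap.coe_mk, AddHom.coe_mk, Submodule.coe_add, Submodule.coe_smul,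
        Algebra.smul_def, Ideal.Quotient.algebraMap_eq, map_mul]
      rw [← hπ, ← hπ]
      linear_combination -h0))
  have hDapp : ∀ b : B, ((D b : Nb) : B ⧸ 𝔞) = π b - χ (q b) := fun b => rfl
  have hDK : ∀ j ∈ K, ((D j : Nb) : B ⧸ 𝔞) = π j := by
    intro j hj
    have : q j = 0 := by
      rw [hq, Ideal.Quotient.eq_zero_iff_mem]
      exact hKJ ▸ hj
    rw [hDapp, this, map_zero, sub_zero]
  -- the comparison map `N → (C/Q) ⊗ K/K²`
  let μ : K →ₗ[B] ((B ⧸ J) ⧸ Q) ⊗[B] K.Cotangent :=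
    (TensorProduct.mk B ((B ⧸ J) ⧸ Q) K.Cotangent 1) ∘ₗ K.toCotangent
  let ν : K →ₗ[B] Nb :=
    { toFun := fun j => ⟨π j.1, Ideal.mem_map_of_mem _ j.2⟩
      map_add' := fun a b => Subtype.ext (by simp)
      map_smul' := fun a b => Subtype.ext (by
        simp only [Submodule.coe_smul, smul_eq_mul, map_mul, RingHom.id_apply,
          Algebra.smul_def, Ideal.Quotient.algebraMap_eq]
        rfl) }
  have hν : Function.Surjective ν := by
    rintro ⟨x, hx⟩
    obtain ⟨j, hj, rfl⟩ := (Ideal.mem_map_iff_of_surjective _ Ideal.Quotient.mk_surjective).mp hx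
    exact ⟨⟨j, hj⟩, rfl⟩
  have hker : LinearMap.ker ν ≤ LinearMap.ker μ := by
    intro j hj
    rw [LinearMap.mem_ker] at hj ⊢
    have hj0 : Ideal.Quotient.mk 𝔞 j.1 = 0 := congrArg Subtype.val hj
    rw [Ideal.Quotient.eq_zero_iff_mem] at hj0
    apply mu_eq_zero K Q' hQ'0 j
    obtain ⟨ab, hab, c, hc, habc⟩ := Submodule.mem_sup.mp hj0
    have habK : ab ∈ K := by
      obtain ⟨a, ha, b, hb, rfl⟩ := Submodule.mem_sup.mp hab
      exact add_mem (Ideal.mul_le_left ha) (Ideal.mul_le_right hb)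
    have hcK : c ∈ K := by
      have : c = j.1 - ab := by rw [← habc]; ring
      rw [this]
      exact sub_mem j.2 habK
    have hc' : c ∈ Q' * K := hn ⟨hc, hcK⟩
    rw [← habc]
    exact add_mem hab (le_sup_right (α := Ideal B) hc')
  let θ' : Nb →ₗ[B] ((B ⧸ J) ⧸ Q) ⊗[B] K.Cotangent :=
    ((LinearMap.ker ν).liftQ μ hker) ∘ₗ (ν.quotKerEquivOfSurjective hν).symm.toLinearMap
  have hθ' : ∀ j : K, θ' (ν j) = μ j := by
    intro j
    have : (ν.quotKerEquivOfSurjective hν).symm (ν j) = Submodule.Quotient.mk j := by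
      rw [LinearEquiv.symm_apply_eq]
      rfl
    show ((LinearMap.ker ν).liftQ μ hker) ((ν.quotKerEquivOfSurjective hν).symm (ν j)) = μ j
    rw [this]
    rfl
  refine ⟨θ'.compDer D, fun j => ?_⟩
  have hjK : j.1 ∈ K := hK ▸ j.2
  show θ' (D j.1) = _
  have : D j.1 = ν ⟨j.1, hjK⟩ := Subtype.ext (hDK j.1 hjK)
  rw [this, hθ']
  subst hK
  rfl

end Forward3



section Final

variable {A B : Type u} [CommRing A] [CommRing B] [Algebra A B]
  (J : Ideal B) (Q : Ideal (B ⧸ J))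

theorem exists_leftInverse_of_derivation
    (D' : Derivation A B (((B ⧸ J) ⧸ Q) ⊗[B] (RingHom.ker (algebraMap B (B ⧸ J))).Cotangent))
    (hD' : ∀ j : RingHom.ker (algebraMap B (B ⧸ J)),
        D' j.1 = (1 : (B ⧸ J) ⧸ Q) ⊗ₜ[B] (Ideal.toCotangent _ j)) :
    ∃ g : ((B ⧸ J) ⧸ Q) ⊗[B] ((B ⧸ J) ⊗[B] Ω[B⁄A]) →ₗ[(B ⧸ J) ⧸ Q]
          ((B ⧸ J) ⧸ Q) ⊗[B] (RingHom.ker (algebraMap B (B ⧸ J))).Cotangent,
        g ∘ₗ LinearMap.baseChange ((B ⧸ J) ⧸ Q)
          (KaehlerDifferential.kerCotangentToTensor A B (B ⧸ J)) = LinearMap.id := by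
  let ℓ : Ω[B⁄A] →ₗ[B] ((B ⧸ J) ⧸ Q) ⊗[B] (RingHom.ker (algebraMap B (B ⧸ J))).Cotangent :=
    D'.liftKaehlerDifferential
  let ℓ₁ : (B ⧸ J) ⊗[B] Ω[B⁄A] →ₗ[B ⧸ J]
      ((B ⧸ J) ⧸ Q) ⊗[B] (RingHom.ker (algebraMap B (B ⧸ J))).Cotangent :=
    LinearMap.liftBaseChange (B ⧸ J) ℓ
  let g : ((B ⧸ J) ⧸ Q) ⊗[B] ((B ⧸ J) ⊗[B] Ω[B⁄A]) →ₗ[(B ⧸ J) ⧸ Q]
      ((B ⧸ J) ⧸ Q) ⊗[B] (RingHom.ker (algebraMap B (B ⧸ J))).Cotangent :=
    LinearMap.liftBaseChange ((B ⧸ J) ⧸ Q) (ℓ₁.restrictScalars B)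
  refine ⟨g, ?_⟩
  apply TensorProduct.AlgebraTensorModule.ext
  intro c ξ
  obtain ⟨j, rfl⟩ := Ideal.toCotangent_surjective _ ξ
  simp only [LinearMap.coe_comp, Function.comp_apply, LinearMap.baseChange_tmul,
    LinearMap.id_coe, id_eq, KaehlerDifferential.kerCotangentToTensor_toCotangent, g, ℓ₁, ℓ,
    LinearMap.liftBaseChange_tmul, LinearMap.coe_restrictScalars, one_smul,
    Derivation.liftKaehlerDifferential_comp_D, hD']
  rw [TensorProduct.smul_tmul', smul_eq_mul, mul_one]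

end Final




/-- In the Noetherian adic case, which the published statement itself singles out, let A → B be a ring
homomorphism with B Noetherian, I and J ideals of B, and suppose B, with the I-adic topology, is
formally smooth over the discrete ring A. Put C = B/J with the quotient (IC-adic) topology and let Q
be an ideal of definition of C, i.e. an ideal containing a power of IC and a power of which lies in
IC. Then C is formally smooth over A for the IC-adic topology if and only if the C/Q-linear map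
(J/J²) ⊗ (C/Q) → Ω_{B/A} ⊗_B (C/Q), obtained by base change from the conormal map J/J² → Ω_{B/A} ⊗_B
C, x ↦ 1 ⊗ dx, has a C/Q-linear left inverse (is an isomorphism onto a direct summand). Here J is
written as the kernel of B → C and the tensor products are taken over B, which for these C-modules
is the same as over C. (The published statement allows A to be any topological ring with A → B
continuous; this row takes A discrete.) -/
theorem result {A B : Type u} [CommRing A]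
    [CommRing B] [Algebra A B] [IsNoetherianRing B] (I J : Ideal B) (hB : CAlgX.IsAdicFormallySmooth A B I)
    (Q : Ideal (B ⧸ J)) (hQ : ∃ n : ℕ, (I.map (Ideal.Quotient.mk J)) ^ n ≤ Q)
    (hQ' : ∃ m : ℕ, Q ^ m ≤ I.map (Ideal.Quotient.mk J)) :
    CAlgX.IsAdicFormallySmooth A (B ⧸ J) (I.map (Ideal.Quotient.mk J)) ↔
      ∃ g : ((B ⧸ J) ⧸ Q) ⊗[B] ((B ⧸ J) ⊗[B] Ω[B⁄A]) →ₗ[(B ⧸ J) ⧸ Q]
          ((B ⧸ J) ⧸ Q) ⊗[B] (RingHom.ker (algebraMap B (B ⧸ J))).Cotangent,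
        g ∘ₗ LinearMap.baseChange ((B ⧸ J) ⧸ Q) (KaehlerDifferential.kerCotangentToTensor A B (B ⧸ J)) =
          LinearMap.id := by
  constructor
  · intro hC
    obtain ⟨D', hD'⟩ := exists_derivation_of_adic I J Q hC hQ
    exact exists_leftInverse_of_derivation J Q D' hD'
  · rintro ⟨g, hg⟩
    exact adic_of_leftInverse I J Q hB hQ hQ' g hg

end Groth.Agent.S12136
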