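import Groth.Statements.S9429
import Mathlib
import Groth.Agent.Lib.Helper7.DimFT
import Groth.Agent.Lib.Helper20.DimTrdeg
-- import your own Groth.Agent.* helpers here

set_option autoImplicit false
universe u
open Synt

namespace Groth.Agent.S9429

section helpers

open KaehlerDifferential

open scoped IntermediateField.algebraAdjoinAdjoin in
/-- the transcendence degree of an essentially finitely generated field extension is bounded by
the dimension of its module of differentials. -/
theorem trdeg_le_rank_kaehler (k K : Type u) [Field k] [Field K] [Algebra k K]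
    [Algebra.EssFiniteType k K] :
    Algebra.trdeg k K ≤ Module.rank K Ω[K⁄k] := by
  classical
  have hspan : ⊤ ≤ Submodule.span K (Set.range (D k K)) :=
    (KaehlerDifferential.span_range_derivation k K).ge
  obtain ⟨b, hb0⟩ : ∃ b : Module.Basis _ K Ω[K⁄k], b = Module.Basis.ofSpan hspan := ⟨_, rfl⟩
  have hb : Set.range b ⊆ Set.range (D k K) := hb0 ▸ Module.Basis.ofSpan_subset hspan
  choose x hx using fun i => hb (Set.mem_range_self i)
  obtain ⟨s, hs⟩ : ∃ s : Set K, s = Set.range x := ⟨_, rfl⟩
  have hxs : ∀ i, x i ∈ IntermediateField.adjoin k s := fun i =>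
    IntermediateField.subset_adjoin k s (hs ▸ Set.mem_range_self i)
  have hzero : KaehlerDifferential.map k (IntermediateField.adjoin k s) K K = 0 := by
    apply b.ext
    intro i
    rw [← hx i, KaehlerDifferential.map_D]
    have : x i = algebraMap (IntermediateField.adjoin k s) K ⟨x i, hxs i⟩ := rfl
    rw [Algebra.algebraMap_self, RingHom.id_apply, this, Derivation.map_algebraMap]
    simp
  have hsub : Subsingleton Ω[K⁄(IntermediateField.adjoin k s)] := by
    have hsurj := KaehlerDifferential.map_surjective k (IntermediateField.adjoin k s) K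
    refine ⟨fun a b => ?_⟩
    obtain ⟨a', rfl⟩ := hsurj a
    obtain ⟨b', rfl⟩ := hsurj b
    simp [hzero]
  haveI : Algebra.FormallyUnramified (IntermediateField.adjoin k s) K := ⟨hsub⟩
  haveI : Algebra.EssFiniteType (IntermediateField.adjoin k s) K :=
    Algebra.EssFiniteType.of_comp k (IntermediateField.adjoin k s) K
  haveI : Algebra.IsSeparable (IntermediateField.adjoin k s) K :=
    Algebra.FormallyUnramified.isSeparable (IntermediateField.adjoin k s) K
  haveI : Algebra.IsAlgebraic (IntermediateField.adjoin k s) K := inferInstance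
  haveI : Algebra.IsAlgebraic (Algebra.adjoin k s) K :=
    Algebra.IsAlgebraic.trans (Algebra.adjoin k s) (IntermediateField.adjoin k s) K
  calc Algebra.trdeg k K ≤ Cardinal.mk s := Algebra.IsAlgebraic.trdeg_le_cardinalMk k s
    _ ≤ _ := by rw [hs]; exact Cardinal.mk_range_le
    _ = Module.rank K Ω[K⁄k] := b.mk_eq_rank''

/-- the rank of the differentials of a localization of a quotient of `T` is bounded by the rank
of the free module `Ω[T⁄k]`. -/
theorem rank_kaehler_le (k T Q K : Type u) [CommRing k] [CommRing T] [CommRing Q] [Field K]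
    [Algebra k T] [Algebra k Q] [Algebra k K] [Algebra T Q] [Algebra Q K] [Algebra T K]
    [IsScalarTower k T Q] [IsScalarTower k Q K] [IsScalarTower T Q K] [IsScalarTower k T K]
    (hsurj : Function.Surjective (algebraMap T Q)) (M : Submonoid Q) [IsLocalization M K]
    [Module.Free T Ω[T⁄k]] [Nontrivial T] :
    Module.rank K Ω[K⁄k] ≤ Module.rank T Ω[T⁄k] := by
  classical
  have h1 := KaehlerDifferential.span_range_map_derivation_of_isLocalization k Q K M
  have h2 : Set.range (⇑(KaehlerDifferential.map k k Q K) ∘ ⇑(D k Q)) ⊆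
      Set.range (KaehlerDifferential.map k k T K) := by
    rintro _ ⟨y, rfl⟩
    obtain ⟨t, rfl⟩ := hsurj y
    refine ⟨D k T t, ?_⟩
    simp only [Function.comp_apply, KaehlerDifferential.map_D]
    rw [← IsScalarTower.algebraMap_apply T Q K]
  have h3 : Submodule.span K (Set.range (KaehlerDifferential.map k k T K)) = ⊤ :=
    top_le_iff.mp (h1.ge.trans (Submodule.span_mono h2))
  obtain ⟨b⟩ : Nonempty (Module.Basis (Module.Free.ChooseBasisIndex T Ω[T⁄k]) T Ω[T⁄k]) :=
    ⟨Module.Free.chooseBasis T Ω[T⁄k]⟩
  have h4 : Set.range (KaehlerDifferential.map k k T K) ⊆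
      (Submodule.span K (Set.range (⇑(KaehlerDifferential.map k k T K) ∘ ⇑b)) : Set Ω[K⁄k]) := by
    rintro _ ⟨ω, rfl⟩
    have hω : ω ∈ Submodule.span T (Set.range b) := by rw [b.span_eq]; trivial
    refine Submodule.span_induction (p := fun ω _ => KaehlerDifferential.map k k T K ω ∈
      Submodule.span K (Set.range (⇑(KaehlerDifferential.map k k T K) ∘ ⇑b))) ?_ ?_ ?_ ?_ hω
    · rintro _ ⟨i, rfl⟩
      exact Submodule.subset_span ⟨i, rfl⟩
    · simp
    · intro x y _ _ hx hy
      rw [map_add]; exact add_mem hx hy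
    · intro a x _ hx
      rw [map_smul, ← algebraMap_smul K a]
      exact Submodule.smul_mem _ _ hx
  have h5 : Submodule.span K (Set.range (⇑(KaehlerDifferential.map k k T K) ∘ ⇑b)) = ⊤ := by
    rw [eq_top_iff, ← h3]
    exact Submodule.span_le.mpr h4
  calc Module.rank K Ω[K⁄k] = Module.rank K (⊤ : Submodule K Ω[K⁄k]) := (rank_top K Ω[K⁄k]).symm
    _ = Module.rank K (Submodule.span K (Set.range (⇑(KaehlerDifferential.map k k T K) ∘ ⇑b))) := by
        rw [h5]
    _ ≤ Cardinal.mk (Set.range (⇑(KaehlerDifferential.map k k T K) ∘ ⇑b)) := rank_span_le _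
    _ ≤ Cardinal.mk (Module.Free.ChooseBasisIndex T Ω[T⁄k]) := Cardinal.mk_range_le
    _ = Module.rank T Ω[T⁄k] := (Module.Free.rank_eq_card_chooseBasisIndex T Ω[T⁄k]).symm

/-- a ring all of whose quotients by primes have dimension `≤ d` has dimension `≤ d`. -/
theorem ringKrullDim_le_of_quotients (T : Type u) [CommRing T] (d : ℕ)
    (h : ∀ q : Ideal T, q.IsPrime → ringKrullDim (T ⧸ q) ≤ d) : ringKrullDim T ≤ d := by
  unfold ringKrullDim Order.krullDim
  apply iSup_le
  intro p
  obtain ⟨q, hq⟩ : ∃ q, q = p.head := ⟨_, rfl⟩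
  have hle : ∀ i, q.asIdeal ≤ (p i).asIdeal := fun i => by
    have := p.head_le i
    rw [← hq] at this
    exact this
  have key : ∀ i, Ideal.comap (Ideal.Quotient.mk q.asIdeal)
      (Ideal.map (Ideal.Quotient.mk q.asIdeal) (p i).asIdeal) = (p i).asIdeal := by
    intro i
    rw [Ideal.comap_map_of_surjective _ Ideal.Quotient.mk_surjective, ← RingHom.ker_eq_comap_bot,
      Ideal.mk_ker]
    exact sup_eq_left.mpr (hle i)
  have hprime : ∀ i, (Ideal.map (Ideal.Quotient.mk q.asIdeal) (p i).asIdeal).IsPrime := fun i =>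
    Ideal.map_isPrime_of_surjective Ideal.Quotient.mk_surjective (by
      rw [Ideal.mk_ker]; exact hle i)
  have hf : StrictMono (fun i : Fin (p.length + 1) =>
      (⟨Ideal.map (Ideal.Quotient.mk q.asIdeal) (p i).asIdeal, hprime i⟩ :
        PrimeSpectrum (T ⧸ q.asIdeal))) := by
    intro i j hij
    have h1 : p i < p j := p.strictMono hij
    rw [← PrimeSpectrum.asIdeal_lt_asIdeal]
    refine lt_of_le_of_ne (Ideal.map_mono h1.le) fun heq => ?_
    have h2 : (p i).asIdeal = (p j).asIdeal := by
      rw [← key i, ← key j]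
      exact congrArg _ heq
    exact h1.ne (PrimeSpectrum.ext h2)
  have h3 := Order.LTSeries.length_le_krullDim (LTSeries.mk p.length _ hf)
  exact h3.trans (h q.asIdeal q.isPrime)

theorem dim_standardSmooth (k : Type u) [Field k] (T : Type u) [CommRing T] [Algebra k T]
    [Nontrivial T] {n c : ℕ} (P : Algebra.SubmersivePresentation k T (Fin n) (Fin c)) :
    c ≤ n ∧ ringKrullDim T = ((n - c : ℕ) : WithBot ℕ∞) := by
  classical
  have hcn : c ≤ n := by
    simpa using Fintype.card_le_of_injective P.map P.map_inj
  haveI : Algebra.FinitePresentation k T := P.finitePresentation_of_isFinite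
  haveI : Algebra.FiniteType k T := inferInstance
  haveI : Module.Free T Ω[T⁄k] := P.free_kaehlerDifferential
  have hrank : Module.rank T Ω[T⁄k] = ((n - c : ℕ) : Cardinal) := by
    rw [P.rank_kaehlerDifferential]
    simp [Algebra.Presentation.dimension]
  refine ⟨hcn, le_antisymm ?_ ?_⟩
  · -- upper bound
    refine ringKrullDim_le_of_quotients T (n - c) fun q hq => ?_
    haveI := hq
    rw [Groth.Agent.Lib.Helper20.DimTrdeg.ringKrullDim_eq_trdeg k (T ⧸ q) (FractionRing (T ⧸ q))]
    have h1 : Algebra.trdeg k (FractionRing (T ⧸ q)) ≤ ((n - c : ℕ) : Cardinal) := by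
      refine (trdeg_le_rank_kaehler k (FractionRing (T ⧸ q))).trans ?_
      rw [← hrank]
      exact rank_kaehler_le k T (T ⧸ q) (FractionRing (T ⧸ q)) Ideal.Quotient.mk_surjective
        (nonZeroDivisors (T ⧸ q))
    have h2 : Cardinal.toNat (Algebra.trdeg k (FractionRing (T ⧸ q))) ≤ n - c := by
      have := Cardinal.toNat_le_toNat h1 (Cardinal.natCast_lt_aleph0)
      simpa using this
    exact_mod_cast h2
  · -- lower bound
    obtain ⟨m, hm⟩ := Ideal.exists_maximal T
    obtain ⟨φ, hφ⟩ : ∃ φ : MvPolynomial (Fin n) k →ₐ[k] T, φ = MvPolynomial.aeval P.val :=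
      ⟨_, rfl⟩
    have hφs : Function.Surjective φ := hφ ▸ P.aeval_val_surjective
    have hker : RingHom.ker φ.toRingHom = Ideal.span (Set.range P.relation) := by
      rw [P.span_range_relation_eq_ker, P.ker_eq_ker_aeval_val, hφ]
      rfl
    haveI hM : (Ideal.comap φ.toRingHom m).IsMaximal := Ideal.comap_isMaximal_of_surjective _ hφs
    have hMh : (Ideal.comap φ.toRingHom m).height = n :=
      Groth.Agent.Lib.Helper7.DimFT.height_eq_of_isMaximal_mvPolynomial k n _ hM
    have hsub : Set.range P.relation ⊆ (Ideal.comap φ.toRingHom m : Set _) := by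
      intro x hx
      have : x ∈ RingHom.ker φ.toRingHom := hker ▸ Ideal.subset_span hx
      exact Ideal.comap_mono bot_le this
    have h1 := Ideal.height_le_height_add_encard_of_subset (Set.range P.relation) hsub
    have h2 : (Set.range P.relation).encard ≤ c := by
      rw [← Set.image_univ]
      refine (Set.encard_image_le _ _).trans ?_
      simp
    have hprime : (Ideal.map (Ideal.Quotient.mk (Ideal.span (Set.range P.relation)))
        (Ideal.comap φ.toRingHom m)).IsPrime :=
      Ideal.map_isPrime_of_surjective Ideal.Quotient.mk_surjective (by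
        rw [Ideal.mk_ker, ← hker]
        exact Ideal.comap_mono bot_le)
    have h3 := Ideal.height_le_ringKrullDim_of_ne_top hprime.ne_top
    have e : (MvPolynomial (Fin n) k ⧸ Ideal.span (Set.range P.relation)) ≃+* T :=
      (Ideal.quotEquivOfEq hker.symm).trans
        (RingHom.quotientKerEquivOfSurjective (f := φ.toRingHom) hφs)
    rw [ringKrullDim_eq_of_ringEquiv e] at h3
    refine le_trans ?_ h3
    rw [hMh] at h1
    have h4 : ((n - c : ℕ) : ℕ∞) ≤ (Ideal.map (Ideal.Quotient.mk (Ideal.span (Set.range P.relation)))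
        (Ideal.comap φ.toRingHom m)).height := by
      rw [ENat.coe_sub, tsub_le_iff_right]
      exact h1.trans (add_le_add le_rfl h2)
    have h5 := WithBot.coe_le_coe.mpr h4
    exact h5

end helpers

/-- A smooth algebra over a field k is a local complete intersection over k (finite type, and locally on
Spec S by principal opens a global complete intersection). -/
theorem result (k : Type u) [Field k] (S : Type u) [CommRing S] [Algebra k S]
    [Algebra.Smooth k S] : Synt.IsLCIOver k S := by
  classical
  refine ⟨inferInstance, fun p => ?_⟩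
  obtain ⟨g, hg, hstd⟩ := Algebra.IsSmoothAt.exists_notMem_isStandardSmooth k p.asIdeal
  refine ⟨g, hg, ?_⟩
  obtain ⟨ι, σ, hσ, hι, ⟨P⟩⟩ := hstd.out
  by_cases hT : Subsingleton (Localization.Away g)
  · exact Or.inl hT
  · right
    haveI : Nontrivial (Localization.Away g) := not_subsingleton_iff_nontrivial.mp hT
    letI := Fintype.ofFinite ι
    letI := Fintype.ofFinite σ
    obtain ⟨P', hP'⟩ : ∃ P' : Algebra.SubmersivePresentation k (Localization.Away g)
        (Fin (Fintype.card ι)) (Fin (Fintype.card σ)),
        P' = P.reindex (Fintype.equivFin ι).symm (Fintype.equivFin σ).symm := ⟨_, rfl⟩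
    obtain ⟨hcn, hdim⟩ := dim_standardSmooth k _ P'
    refine ⟨_, _, hcn, MvPolynomial.aeval P'.val, P'.relation, P'.aeval_val_surjective, ?_, hdim⟩
    rw [P'.span_range_relation_eq_ker, P'.ker_eq_ker_aeval_val]
    rfl

end Groth.Agent.S9429
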