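import Groth.Statements.S9699
import Mathlib
import Groth.Agent.S9429
-- import your own Groth.Agent.* helpers here

set_option autoImplicit false
universe u
open CategoryTheory CategoryTheory.Limits AlgebraicGeometry
open Synt

namespace Groth.Agent.S9699

section helpers

/-- a smooth algebra is syntomic. -/
theorem isSyntomic_of_smooth (R S : Type u) [CommRing R] [CommRing S] [Algebra R S]
    [Algebra.Smooth R S] : Synt.IsSyntomic R S := by
  refine ⟨inferInstance, inferInstance, fun p => ?_⟩
  exact Groth.Agent.S9429.result p.asIdeal.ResidueField (p.asIdeal.Fiber S)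

end helpers

/-- A smooth morphism of schemes is syntomic (flat, locally of finite presentation, with local complete
intersection fibres, in the affine-local sense of Synt.IsSyntomicMor). -/
theorem result {X S : Scheme.{u}} (f : X ⟶ S) [Smooth f] :
    Synt.IsSyntomicMor f := by
  intro x
  obtain ⟨U, hU, V, hV, hxV, e, hstd⟩ := Smooth.exists_isStandardSmooth f x
  refine ⟨⟨V, hV⟩, ⟨U, hU⟩, e, hxV, ?_⟩
  letI := (f.appLE U V e).hom.toAlgebra
  haveI : Algebra.IsStandardSmooth Γ(S, U) Γ(X, V) := hstd
  exact isSyntomic_of_smooth _ _

end Groth.Agent.S9699
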