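import Groth.Statements.S4753
import Mathlib
import Groth.Agent.Lib.Helper18.FibBridge

set_option autoImplicit false
universe u
open EGA4

namespace Groth.Agent.S4753

open TensorProduct in
theorem rTensor_injective_of_faithfullyFlat (A B C N : Type u) [CommRing A] [CommRing B] [CommRing C]
    [Algebra A B] [Algebra B C] [Algebra A C] [IsScalarTower A B C] [Module.FaithfullyFlat B C]
    [AddCommGroup N] [Module A N] :
    Function.Injective (LinearMap.rTensor N ((Algebra.linearMap B C).restrictScalars A)) := by
  have h1 : Function.Injective (TensorProduct.mk B C (B ⊗[A] N) 1) :=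
    Module.FaithfullyFlat.tensorProduct_mk_injective (A := B) (B := C) (B ⊗[A] N)
  have h2 : Function.Injective
      ((TensorProduct.AlgebraTensorModule.cancelBaseChange A B C C N).toLinearMap.restrictScalars B ∘ₗ
        (TensorProduct.mk B C (B ⊗[A] N) 1)) :=
    (TensorProduct.AlgebraTensorModule.cancelBaseChange A B C C N).injective.comp h1
  intro x y hxy
  apply h2
  have key : ∀ z : B ⊗[A] N,
      ((TensorProduct.AlgebraTensorModule.cancelBaseChange A B C C N).toLinearMap.restrictScalars B ∘ₗ
        (TensorProduct.mk B C (B ⊗[A] N) 1)) z =
      LinearMap.rTensor N ((Algebra.linearMap B C).restrictScalars A) z := by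
    intro z
    induction z using TensorProduct.induction_on with
    | zero => simp
    | tmul b n =>
      simp [Algebra.smul_def]
    | add z₁ z₂ h₁ h₂ => rw [map_add, map_add, h₁, h₂]
  rw [key, key, hxy]

/-- Case of reduced morphisms, affine form: let A → B → C be homomorphisms of Noetherian rings such that
B → C is faithfully flat with geometrically reduced fibres and the composite A → C is flat with
geometrically reduced fibres. Then A → B is flat with geometrically reduced fibres. -/
theorem result (A B C : Type u) [CommRing A] [CommRing B] [CommRing C]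
    [IsNoetherianRing A] [IsNoetherianRing B] [IsNoetherianRing C] [Algebra A B] [Algebra B C] [Algebra A C]
    [IsScalarTower A B C] [Module.FaithfullyFlat B C] [Module.Flat A C]
    (hBC : ∀ (q : Ideal B) [q.IsPrime], Algebra.IsGeometricallyReduced q.ResidueField (q.Fiber C))
    (hAC : ∀ (p : Ideal A) [p.IsPrime], Algebra.IsGeometricallyReduced p.ResidueField (p.Fiber C)) :
    Module.Flat A B ∧ ∀ (p : Ideal A) [p.IsPrime], Algebra.IsGeometricallyReduced p.ResidueField (p.Fiber B) := by
  have hflat : Module.Flat A B :=
    Groth.Agent.Lib.Helper18.FibBridge.flat_of_faithfullyFlat_comp A B C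
  refine ⟨hflat, ?_⟩
  intro p hp
  rw [Algebra.isGeometricallyReduced_field_iff]
  have hC := (Algebra.isGeometricallyReduced_field_iff p.ResidueField (p.Fiber C)).mp (hAC p)
  -- move to tensor products over `A`
  let eC := (Algebra.TensorProduct.cancelBaseChange A p.ResidueField
    (AlgebraicClosure p.ResidueField) (AlgebraicClosure p.ResidueField) C).toRingEquiv.trans
    (Algebra.TensorProduct.comm A (AlgebraicClosure p.ResidueField) C).toRingEquiv
  let eB := (Algebra.TensorProduct.cancelBaseChange A p.ResidueField
    (AlgebraicClosure p.ResidueField) (AlgebraicClosure p.ResidueField) B).toRingEquiv.trans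
    (Algebra.TensorProduct.comm A (AlgebraicClosure p.ResidueField) B).toRingEquiv
  have hC' : IsReduced (TensorProduct A C (AlgebraicClosure p.ResidueField)) :=
    isReduced_of_injective eC.symm.toRingHom eC.symm.injective
  let Ψ : TensorProduct A B (AlgebraicClosure p.ResidueField) →ₐ[A]
      TensorProduct A C (AlgebraicClosure p.ResidueField) :=
    Algebra.TensorProduct.map (IsScalarTower.toAlgHom A B C)
      (AlgHom.id A (AlgebraicClosure p.ResidueField))
  have hΨ : Function.Injective Ψ := by
    have h := rTensor_injective_of_faithfullyFlat A B C (AlgebraicClosure p.ResidueField)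
    intro x y hxy
    apply h
    exact hxy
  have hB' : IsReduced (TensorProduct A B (AlgebraicClosure p.ResidueField)) :=
    isReduced_of_injective Ψ hΨ
  exact isReduced_of_injective eB.toRingHom eB.injective

end Groth.Agent.S4753
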