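import Groth.Statements.S2462
import Mathlib
import Groth.Agent.S4542
-- import your own Groth.Agent.* helpers here

set_option autoImplicit false
universe u
open EGA41

namespace Groth.Agent.S2462

open EGA41 IsLocalRing


open IsLocalRing in
/-- Let A carry the 𝔞-adic and B the 𝔟-adic topology with B formally smooth over A; let C be a complete
Noetherian local A-algebra with 𝔞C inside the maximal ideal (continuity of A → C) and J ≠ C an
ideal. Then every A-algebra homomorphism u : B → C/J sending 𝔟 into the maximal ideal of C/J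
(continuity) is induced by an A-algebra homomorphism v : B → C sending 𝔟 into the maximal ideal of
C. -/
theorem result {A B C : Type u} [CommRing A] (𝔞 : Ideal A) [CommRing B] [Algebra A B] (𝔟 : Ideal B)
    (hB : EGA41.IsFormallySmoothAdic A 𝔞 B 𝔟)
    [CommRing C] [IsLocalRing C] [IsNoetherianRing C] [IsAdicComplete (maximalIdeal C) C] [Algebra A C]
    (hA : 𝔞.map (algebraMap A C) ≤ maximalIdeal C) (J : Ideal C) (hJ : J ≠ ⊤)
    (u : B →ₐ[A] C ⧸ J) (hu : 𝔟.map u.toRingHom ≤ (maximalIdeal C).map (Ideal.Quotient.mk J)) :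
    ∃ v : B →ₐ[A] C, 𝔟.map v.toRingHom ≤ maximalIdeal C ∧ (Ideal.Quotient.mkₐ A J).comp v = u := by
  have hJm : J ≤ maximalIdeal C := le_maximalIdeal hJ
  have : Nontrivial (C ⧸ J) := Ideal.Quotient.nontrivial_iff.2 hJ
  have : IsLocalRing (C ⧸ J) :=
    IsLocalRing.of_surjective' (Ideal.Quotient.mk J) Ideal.Quotient.mk_surjective
  have hne : (maximalIdeal C).map (Ideal.Quotient.mk J) ≠ ⊤ := by
    intro h
    have h1 := congrArg (Ideal.comap (Ideal.Quotient.mk J)) h
    rw [Ideal.comap_map_of_surjective _ Ideal.Quotient.mk_surjective, Ideal.comap_top,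
      ← RingHom.ker_eq_comap_bot, Ideal.mk_ker, sup_eq_left.2 hJm] at h1
    exact (maximalIdeal.isMaximal C).ne_top h1
  have hH : IsHausdorff ((maximalIdeal C).map (Ideal.Quotient.mk J)) (C ⧸ J) :=
    IsHausdorff.of_isLocalRing _ _ hne
  obtain ⟨v, ⟨k, hk⟩, hv⟩ := Groth.Agent.S4542.result 𝔞 𝔟 (maximalIdeal C) hB
    ⟨1, by rw [pow_one]; exact hA⟩ J ⟨1, by rw [pow_one]; exact hJm⟩ u ⟨1, by rw [pow_one]; exact hu⟩
  refine ⟨v, ?_, hv⟩
  -- `v` maps `𝔟` into the maximal ideal since it does so modulo `J ≤ 𝔪`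
  rw [Ideal.map_le_iff_le_comap]
  intro b hb
  show v b ∈ maximalIdeal C
  have h1 : Ideal.Quotient.mk J (v b) ∈ (maximalIdeal C).map (Ideal.Quotient.mk J) := by
    have : Ideal.Quotient.mk J (v b) = u b := congrArg (fun f => f b) hv
    rw [this]
    exact hu (Ideal.mem_map_of_mem _ hb)
  have h2 : v b ∈ ((maximalIdeal C).map (Ideal.Quotient.mk J)).comap (Ideal.Quotient.mk J) := h1
  rw [Ideal.comap_map_of_surjective _ Ideal.Quotient.mk_surjective,
    ← RingHom.ker_eq_comap_bot, Ideal.mk_ker, sup_eq_left.2 hJm] at h2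
  exact h2

end Groth.Agent.S2462
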