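import Groth.Statements.S0321
import Groth.Agent.Lib.Helper16.DepthExt

set_option autoImplicit false
universe u v
open LocCoh

namespace Groth.Agent.S0321

section helpers

open Groth.Agent.Lib.Helper16.Depth CategoryTheory CategoryTheory.Abelian

theorem result_aux (R : Type u) [CommRing R] [IsNoetherianRing R] (I : Ideal R) (N' : Type u) [AddCommGroup N'] [Module R N'] [Module.Finite R N'] (N : Type u) [AddCommGroup N] [Module R N] [Module.Finite R N] (N'' : Type u) [AddCommGroup N''] [Module R N''] [Module.Finite R N''] (f : N' →ₗ[R] N) (g : N →ₗ[R] N'') (hf : Function.Injective f) (hg : Function.Surjective g) (hfg : Function.Exact f g) : min (LocCoh.idealDepth I N') (LocCoh.idealDepth I N'') ≤ LocCoh.idealDepth I N ∧ min (LocCoh.idealDepth I N) (LocCoh.idealDepth I N' - 1) ≤ LocCoh.idealDepth I N'' ∧ min (LocCoh.idealDepth I N) (LocCoh.idealDepth I N'' + 1) ≤ LocCoh.idealDepth I N' := by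
  have hS := shortExact_of_linearMaps f g hf hg hfg
  set X := ModuleCat.of R (R ⧸ I) with hX
  refine ⟨?_, ?_, ?_⟩
  · apply le_idealDepth_of_forall
    intro n hn i hi
    rw [le_min_iff] at hn
    have h1 := (le_idealDepth_iff_ext' I N' n).mp hn.1 i hi
    have h3 := (le_idealDepth_iff_ext' I N'' n).mp hn.2 i hi
    exact ext_X₂ hS X i h1 h3
  · apply le_idealDepth_of_forall
    intro n hn i hi
    rw [le_min_iff] at hn
    have h2 := (le_idealDepth_iff_ext' I N n).mp hn.1 i hi
    have hn' : ((n + 1 : ℕ) : ℕ∞) ≤ LocCoh.idealDepth I N' := by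
      have hpos : 0 < n := by omega
      have h1 : (1 : ℕ∞) ≤ (n : ℕ∞) := by exact_mod_cast hpos
      have h2 : (1 : ℕ∞) ≤ LocCoh.idealDepth I N' - 1 := h1.trans hn.2
      have h3 : (1 : ℕ∞) ≤ LocCoh.idealDepth I N' := h2.trans tsub_le_self
      have h4 : (n : ℕ∞) + 1 ≤ (LocCoh.idealDepth I N' - 1) + 1 := by gcongr; exact hn.2
      rw [tsub_add_cancel_of_le h3] at h4
      push_cast
      exact h4
    have h1 := (le_idealDepth_iff_ext' I N' (n + 1)).mp hn' (i + 1) (by omega)
    exact ext_X₃ hS X i h2 h1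
  · apply le_idealDepth_of_forall
    intro n hn i hi
    rw [le_min_iff] at hn
    rcases i with _ | i
    · have h2 := (le_idealDepth_iff_ext' I N n).mp hn.1 0 hi
      exact ext_X₁_zero hS X h2
    · have h2 := (le_idealDepth_iff_ext' I N n).mp hn.1 (i + 1) hi
      have hn' : ((n - 1 : ℕ) : ℕ∞) ≤ LocCoh.idealDepth I N'' := by
        have h1 : ((n - 1 : ℕ) : ℕ∞) + 1 ≤ LocCoh.idealDepth I N'' + 1 := by
          have : ((n - 1 : ℕ) : ℕ∞) + 1 = (n : ℕ∞) := by
            have : n - 1 + 1 = n := by omega
            exact_mod_cast this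
          rw [this]
          exact hn.2
        exact (ENat.add_le_add_iff_right (by simp)).mp h1
      have h3 := (le_idealDepth_iff_ext' I N'' (n - 1)).mp hn' i (by omega)
      exact ext_X₁_succ hS X i h3 h2

end helpers

/-- Depth inequalities along a short exact sequence 0 → N' → N → N'' → 0 of finite modules over a
Noetherian ring: depth N ≥ min(depth N', depth N''), depth N'' ≥ min(depth N, depth N' − 1), depth
N' ≥ min(depth N, depth N'' + 1). -/
theorem result (R : Type u) [CommRing R] [IsNoetherianRing R] (I : Ideal R) (N' : Type u) [AddCommGroup N'] [Module R N'] [Module.Finite R N'] (N : Type u) [AddCommGroup N] [Module R N] [Module.Finite R N] (N'' : Type u) [AddCommGroup N''] [Module R N''] [Module.Finite R N''] (f : N' →ₗ[R] N) (g : N →ₗ[R] N'') (hf : Function.Injective f) (hg : Function.Surjective g) (hfg : Function.Exact f g) : min (LocCoh.idealDepth I N') (LocCoh.idealDepth I N'') ≤ LocCoh.idealDepth I N ∧ min (LocCoh.idealDepth I N) (LocCoh.idealDepth I N' - 1) ≤ LocCoh.idealDepth I N'' ∧ min (LocCoh.idealDepth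 I N) (LocCoh.idealDepth I N'' + 1) ≤ LocCoh.idealDepth I N' := by
  exact result_aux R I N' N N'' f g hf hg hfg

end Groth.Agent.S0321
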