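import Groth.Statements.S9368
import Mathlib
import Groth.Agent.Lib.Helper23.SyntLci
import Groth.Agent.Lib.Helper23.SyntLci2
-- import your own Groth.Agent.* helpers here

set_option autoImplicit false
universe u
open Synt

namespace Groth.Agent.S9368
open Groth.Agent.Lib.Helper23.FibProp Groth.Agent.Lib.Helper23.FibProp0
open Groth.Agent.Lib.Helper23.SyntF
open AlgebraicGeometry CategoryTheory

section

variable (k : Type u) [Field k] (X : Scheme.{u}) (p : X ⟶ Spec (CommRingCat.of k))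

/-- the `k`-algebra structure on sections -/
@[reducible] noncomputable def algU (U : X.Opens) : Algebra k Γ(X, U) :=
  ((Scheme.ΓSpecIso (CommRingCat.of k)).inv ≫ p.appLE ⊤ U le_top).hom.toAlgebra

/-- the `k`-algebra structure on stalks -/
@[reducible] noncomputable def algStalk (x : X) : Algebra k (X.presheaf.stalk x) :=
  ((Scheme.ΓSpecIso (CommRingCat.of k)).inv ≫ p.appLE ⊤ ⊤ le_top ≫
    X.presheaf.germ ⊤ x trivial).hom.toAlgebra

theorem bijective_ΓSpecIso_inv :
    Function.Bijective ((Scheme.ΓSpecIso (CommRingCat.of k)).inv).hom :=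
  ConcreteCategory.bijective_of_isIso (Scheme.ΓSpecIso (CommRingCat.of k)).inv

theorem isSyntomic_iff_isLCIOver (U : X.Opens) :
    (letI := (p.appLE ⊤ U le_top).hom.toAlgebra
     Synt.IsSyntomic Γ(Spec (CommRingCat.of k), ⊤) Γ(X, U)) ↔
      @Synt.IsLCIOver k _ Γ(X, U) _ (algU k X p U) := by
  letI : Algebra Γ(Spec (CommRingCat.of k), ⊤) Γ(X, U) := (p.appLE ⊤ U le_top).hom.toAlgebra
  letI : Algebra k Γ(Spec (CommRingCat.of k), ⊤) :=
    ((Scheme.ΓSpecIso (CommRingCat.of k)).inv).hom.toAlgebra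
  letI : Algebra k Γ(X, U) := algU k X p U
  haveI : IsScalarTower k Γ(Spec (CommRingCat.of k), ⊤) Γ(X, U) :=
    IsScalarTower.of_algebraMap_eq (fun _ => rfl)
  exact isSyntomic_iff_of_bijective k Γ(Spec (CommRingCat.of k), ⊤) Γ(X, U)
    (bijective_ΓSpecIso_inv k)

theorem algebraMap_basicOpen {U : X.Opens} (g : Γ(X, U)) (a : k) :
    (algU k X p (X.basicOpen g)).algebraMap a =
      (X.presheaf.map (homOfLE (X.basicOpen_le g)).op).hom ((algU k X p U).algebraMap a) := by
  show (p.appLE ⊤ (X.basicOpen g) le_top).hom _ =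
    (X.presheaf.map (homOfLE (X.basicOpen_le g)).op).hom ((p.appLE ⊤ U le_top).hom _)
  rw [← Scheme.Hom.appLE_map p (le_top : U ≤ p ⁻¹ᵁ ⊤) (homOfLE (X.basicOpen_le g)).op]
  rfl

theorem isGlobalCI_basicOpen {U : X.Opens} (hU : IsAffineOpen U) (g : Γ(X, U))
    (h : letI := algU k X p U
      Synt.IsGlobalCI k (Localization.Away g)) :
    @Synt.IsGlobalCI k _ Γ(X, X.basicOpen g) _ (algU k X p (X.basicOpen g)) := by
  letI : Algebra k Γ(X, U) := algU k X p U
  letI : Algebra k Γ(X, X.basicOpen g) := algU k X p (X.basicOpen g)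
  haveI : IsScalarTower k Γ(X, U) Γ(X, X.basicOpen g) :=
    IsScalarTower.of_algebraMap_eq (fun a => algebraMap_basicOpen k X p g a)
  haveI := hU.isLocalization_basicOpen g
  let e : Localization.Away g ≃ₐ[k] Γ(X, X.basicOpen g) :=
    (IsLocalization.algEquiv (Submonoid.powers g) (Localization.Away g)
      Γ(X, X.basicOpen g)).restrictScalars k
  exact isGlobalCI_of_algEquiv e h

theorem algebraMap_stalk {U : X.Opens} (x : X) (hx : x ∈ U) (a : k) :
    (algStalk k X p x).algebraMap a =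
      (X.presheaf.germ U x hx).hom ((algU k X p U).algebraMap a) := by
  show (X.presheaf.germ ⊤ x trivial).hom ((p.appLE ⊤ ⊤ le_top).hom _) =
    (X.presheaf.germ U x hx).hom ((p.appLE ⊤ U le_top).hom _)
  rw [← Scheme.Hom.appLE_map p (le_top : (⊤ : X.Opens) ≤ p ⁻¹ᵁ ⊤) (homOfLE (le_top : U ≤ ⊤)).op]
  rw [← X.presheaf.germ_res (homOfLE (le_top : U ≤ ⊤)) x hx]
  rfl

/-- the stalk as a localization, `k`-linearly -/
theorem nonempty_stalk_algEquiv {U : X.Opens} (hU : IsAffineOpen U) (x : X) (hx : x ∈ U) :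
    (letI := algU k X p U
     letI := algStalk k X p x
     Nonempty (X.presheaf.stalk x ≃ₐ[k]
      Localization.AtPrime (hU.primeIdealOf ⟨x, hx⟩).asIdeal)) := by
  letI : Algebra k Γ(X, U) := algU k X p U
  letI : Algebra k (X.presheaf.stalk x) := algStalk k X p x
  letI : Algebra Γ(X, U) (X.presheaf.stalk x) := X.presheaf.algebra_section_stalk ⟨x, hx⟩
  haveI : IsScalarTower k Γ(X, U) (X.presheaf.stalk x) :=
    IsScalarTower.of_algebraMap_eq (fun a => algebraMap_stalk k X p x hx a)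
  haveI := hU.isLocalization_stalk ⟨x, hx⟩
  exact ⟨(IsLocalization.algEquiv (hU.primeIdealOf ⟨x, hx⟩).asIdeal.primeCompl
    (X.presheaf.stalk x) (Localization.AtPrime (hU.primeIdealOf ⟨x, hx⟩).asIdeal)).restrictScalars k⟩

theorem mem_basicOpen_iff {U : X.Opens} (hU : IsAffineOpen U) (x : X) (hx : x ∈ U) (g : Γ(X, U)) :
    x ∈ X.basicOpen g ↔ g ∉ (hU.primeIdealOf ⟨x, hx⟩).asIdeal := by
  rw [Scheme.mem_basicOpen X g x hx]
  letI : Algebra Γ(X, U) (X.presheaf.stalk x) := X.presheaf.algebra_section_stalk ⟨x, hx⟩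
  haveI := hU.isLocalization_stalk ⟨x, hx⟩
  exact IsLocalization.AtPrime.isUnit_to_map_iff (X.presheaf.stalk x)
    (hU.primeIdealOf ⟨x, hx⟩).asIdeal g

theorem isCIOver_congr {A : Type u} [CommRing A] [Algebra k A] {q q' : Ideal A} [q.IsPrime]
    [q'.IsPrime] (h : q = q') (hq : Synt.IsCIOver k (Localization.AtPrime q)) :
    Synt.IsCIOver k (Localization.AtPrime q') := by
  subst h; exact hq

end


open AlgebraicGeometry CategoryTheory in
/-- For X locally of finite type over a field k with structure morphism p, the following are equivalent: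
(1) p is syntomic; (2) every x ∈ X has an affine open neighbourhood whose coordinate ring is a
global complete intersection over k; (3) each stalk O_{X,x} is a complete intersection ring over k
(k-algebra structures induced by p). -/
theorem result (k : Type u) [Field k] (X : Scheme.{u}) (p : X ⟶ Spec (CommRingCat.of k)) [LocallyOfFiniteType p] :
    [Synt.IsSyntomicMor p,
      ∀ x : ↑X, ∃ U : X.affineOpens, x ∈ U.1 ∧
        letI := ((Scheme.ΓSpecIso (CommRingCat.of k)).inv ≫ p.appLE ⊤ U.1 le_top).hom.toAlgebra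
        Synt.IsGlobalCI k Γ(X, U.1),
      ∀ x : ↑X,
        letI := ((Scheme.ΓSpecIso (CommRingCat.of k)).inv ≫ p.appLE ⊤ ⊤ le_top ≫ X.presheaf.germ ⊤ x trivial).hom.toAlgebra
        Synt.IsCIOver k (X.presheaf.stalk x)].TFAE := by
  tfae_have 1 → 2 := by
    intro h x
    obtain ⟨U, hU, hxU, -⟩ := TopologicalSpace.Opens.isBasis_iff_nbhd.mp X.isBasis_affineOpens
      (TopologicalSpace.Opens.mem_top x)
    have h1 := (isSyntomicMor_iff_forall p).mp h ⟨U, hU⟩ ⟨⊤, isAffineOpen_top _⟩ le_top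
    have h2 := (isSyntomic_iff_isLCIOver k X p U).mp h1
    letI : Algebra k Γ(X, U) := algU k X p U
    obtain ⟨g, hg, hCI⟩ := h2.2 (hU.primeIdealOf ⟨x, hxU⟩)
    exact ⟨⟨X.basicOpen g, hU.basicOpen g⟩, (mem_basicOpen_iff X hU x hxU g).mpr hg,
      isGlobalCI_basicOpen k X p hU g hCI⟩
  tfae_have 2 → 3 := by
    intro h x
    obtain ⟨U, hxU, hCI⟩ := h x
    letI : Algebra k Γ(X, U.1) := algU k X p U.1
    letI : Algebra k (X.presheaf.stalk x) := algStalk k X p x
    obtain ⟨e⟩ := nonempty_stalk_algEquiv k X p U.2 x hxU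
    exact isCIOver_of_algEquiv e.symm
      (isCIOver_atPrime_of_isGlobalCI hCI (U.2.primeIdealOf ⟨x, hxU⟩).asIdeal)
  tfae_have 3 → 1 := by
    intro h x
    obtain ⟨U, hU, hxU, -⟩ := TopologicalSpace.Opens.isBasis_iff_nbhd.mp X.isBasis_affineOpens
      (TopologicalSpace.Opens.mem_top x)
    refine ⟨⟨U, hU⟩, ⟨⊤, isAffineOpen_top _⟩, le_top, hxU, ?_⟩
    rw [isSyntomic_iff_isLCIOver k X p U]
    letI : Algebra k Γ(X, U) := algU k X p U
    haveI : Algebra.FiniteType k Γ(X, U) := by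
      have h1 : (p.appLE ⊤ U le_top).hom.FiniteType :=
        HasRingHomProperty.appLE (P := @LocallyOfFiniteType) p inferInstance
          ⟨⊤, isAffineOpen_top _⟩ ⟨U, hU⟩ le_top
      have h2 : ((Scheme.ΓSpecIso (CommRingCat.of k)).inv).hom.FiniteType :=
        RingHom.FiniteType.of_surjective _ (bijective_ΓSpecIso_inv k).2
      exact h1.comp h2
    rw [(t9145 (k := k) (S := Γ(X, U))).1]
    intro q
    obtain ⟨y, hy⟩ : ∃ y : U, hU.primeIdealOf y = q :=
      ⟨hU.isoSpec.inv q, by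
        simp [IsAffineOpen.primeIdealOf, ← Scheme.Hom.comp_apply]⟩
    letI : Algebra k (X.presheaf.stalk y.1) := algStalk k X p y.1
    obtain ⟨e⟩ := nonempty_stalk_algEquiv k X p hU y.1 y.2
    have h3 := isCIOver_of_algEquiv e (h y.1)
    exact isCIOver_congr k (congrArg PrimeSpectrum.asIdeal hy) h3
  tfae_finish

end Groth.Agent.S9368
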