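import Groth.Statements.S1323
import Mathlib
import Groth.Agent.Lib.Helper10.Deform2
import Groth.Agent.S1305

set_option autoImplicit false
universe u
open FlatMor

namespace Groth.Agent.S1323

open AlgebraicGeometry CategoryTheory Limits in
/-- Let S ⟶ S' be a finite order thickening, let X' ⟶ Y' be a morphism of schemes over S' with X' flat
over S', and let X ⟶ Y be its base change to S. Then X ⟶ Y is finite locally free of rank d if and
only if X' ⟶ Y' is. -/
theorem result (d : ℕ) {X X' Y Y' S S' : Scheme.{u}} (iX : X ⟶ X') (iY : Y ⟶ Y') (iS : S ⟶ S')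
    (f : X ⟶ Y) (f' : X' ⟶ Y') (g : Y ⟶ S) (g' : Y' ⟶ S')
    (hS : MoreMor.IsFiniteOrderThickening iS) (hcX : IsPullback iX (f ≫ g) (f' ≫ g') iS) (hcY : IsPullback iY g g' iS)
    (w : iX ≫ f' = f ≫ iY) [Flat (f' ≫ g')] :
    Mor2.IsFinLocFreeOfDeg d f ↔ Mor2.IsFinLocFreeOfDeg d f' := by
  have hsq := Groth.Agent.Lib.Helper10.Deform.isPullback_top iX iY iS f f' g g' hcX hcY w
  obtain ⟨⟨hcl, hsurj⟩, hnil⟩ := id hS
  haveI : IsClosedImmersion iS := hcl
  haveI : Surjective iS := hsurj
  haveI : IsClosedImmersion iY :=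
    MorphismProperty.of_isPullback (P := @IsClosedImmersion) hcY.flip hcl
  haveI : IsClosedImmersion iX :=
    MorphismProperty.of_isPullback (P := @IsClosedImmersion) hcX.flip hcl
  haveI : Surjective iY := MorphismProperty.of_isPullback (P := @Surjective) hcY.flip hsurj
  haveI : Surjective iX := MorphismProperty.of_isPullback (P := @Surjective) hcX.flip hsurj
  have hX' : MoreMor.IsThickening iX := ⟨inferInstance, inferInstance⟩
  have hY' : MoreMor.IsThickening iY := ⟨inferInstance, inferInstance⟩
  constructor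
  · rintro ⟨⟨hfin, hflat, hlfp⟩, hrank⟩
    haveI : Flat f' :=
      Groth.Agent.Lib.Helper10.Deform.flat_lift iX iY iS f f' g g' hS hcX hcY w hflat
    haveI : LocallyOfFinitePresentation f' :=
      Groth.Agent.Lib.Helper10.Deform.lfp_lift iX iY iS f f' g g' hS hcX hcY w hlfp
    have hint : IsIntegralHom f' :=
      (Groth.Agent.S1305.result iX iY f f' hX' hY' w).mp inferInstance
    haveI : IsFinite f' :=
      (IsFinite.iff_isIntegralHom_and_locallyOfFiniteType f').mpr ⟨hint, inferInstance⟩
    refine ⟨⟨inferInstance, inferInstance, inferInstance⟩, fun y' => ?_⟩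
    obtain ⟨y, rfl⟩ := iY.surjective y'
    rw [← Scheme.Hom.finrank_of_isPullback iX f f' iY hsq y]
    exact hrank y
  · rintro ⟨⟨hfin, hflat, hlfp⟩, hrank⟩
    refine ⟨⟨MorphismProperty.of_isPullback (P := @IsFinite) hsq hfin,
      MorphismProperty.of_isPullback (P := @Flat) hsq hflat,
      MorphismProperty.of_isPullback (P := @LocallyOfFinitePresentation) hsq hlfp⟩, fun y => ?_⟩
    rw [Scheme.Hom.finrank_of_isPullback iX f f' iY hsq y]
    exact hrank (iY y)

end Groth.Agent.S1323
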