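import Groth.Statements.S3824
-- import your own Groth.Agent.* helpers here
import Groth.Agent.Lib.Helper12.QuasiReg

set_option autoImplicit false
universe u
open QReg16

namespace Groth.Agent.S3824

/-- Let f_1, …, f_n be a quasi-regular sequence in a ring A and f'_1, …, f'_n another sequence of the
same length generating the same ideal. Then (f'_i) is quasi-regular. -/
theorem result {A : Type u} [CommRing A] {n : ℕ} (f f' : Fin n → A)
    (hf : CAlgX.IsQuasiRegular f) (h : Ideal.span (Set.range f') = Ideal.span (Set.range f)) :
    CAlgX.IsQuasiRegular f' := by
  exact Groth.Agent.Lib.Helper12.QR.isQuasiRegular_of_span_eq f f' hf h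

end Groth.Agent.S3824
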