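import Groth.Statements.S5802
import Mathlib.Tactic
-- import your own Groth.Agent.* helpers here

set_option autoImplicit false
universe u
open EGA41

namespace Groth.Agent.S5802

open MvPolynomial

/-- quasi-regularity for an arbitrary index type -/
def QR {R : Type u} [CommRing R] {ι : Type*} (f : ι → R) : Prop :=
  ∀ (n : ℕ) (P : MvPolynomial ι R), P.IsHomogeneous n →
    MvPolynomial.eval f P ∈ Ideal.span (Set.range f) ^ (n + 1) →
      ∀ d : ι →₀ ℕ, P.coeff d ∈ Ideal.span (Set.range f)

theorem isHomogeneous_of_coeff {R : Type u} [CommRing R] {ι : Type*} {φ : MvPolynomial ι R} {n : ℕ}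
    (h : ∀ d, coeff d φ ≠ 0 → d.degree = n) : φ.IsHomogeneous n := by
  intro d hd
  have := h d hd
  rwa [Finsupp.degree_eq_weight_one] at this

theorem degree_of_coeff_ne {R : Type u} [CommRing R] {ι : Type*} {φ : MvPolynomial ι R} {n : ℕ}
    (hφ : φ.IsHomogeneous n) {d : ι →₀ ℕ} (hd : coeff d φ ≠ 0) : d.degree = n := by
  by_contra h
  exact hd (hφ.coeff_eq_zero h)

/-- homogeneous of degree `n` with coefficients in `J` evaluates into `J^(n+1)` -/
theorem eval_mem_pow_succ {R : Type u} [CommRing R] {ι : Type*} (f : ι → R) {n : ℕ}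
    {P : MvPolynomial ι R} (hP : P.IsHomogeneous n)
    (hc : ∀ d, P.coeff d ∈ Ideal.span (Set.range f)) :
    eval f P ∈ Ideal.span (Set.range f) ^ (n + 1) := by
  rw [MvPolynomial.eval_eq]
  refine Ideal.sum_mem _ fun d hd => ?_
  rw [pow_succ']
  refine Ideal.mul_mem_mul (hc d) ?_
  rw [Ideal.mem_span_pow_iff_exists_isHomogeneous]
  refine ⟨monomial d 1, isHomogeneous_monomial _ ?_, ?_⟩
  · exact degree_of_coeff_ne hP (MvPolynomial.mem_support_iff.mp hd)
  · rw [eval_monomial]
    simp [Finsupp.prod]

/-- elements of `J^(n+1)` are values of homogeneous polynomials of degree `n` with coeffs in `J` -/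
theorem exists_of_mem_pow_succ {R : Type u} [CommRing R] {ι : Type*} (f : ι → R) (n : ℕ)
    {x : R} (hx : x ∈ Ideal.span (Set.range f) ^ (n + 1)) :
    ∃ Q : MvPolynomial ι R, Q.IsHomogeneous n ∧ (∀ d, Q.coeff d ∈ Ideal.span (Set.range f)) ∧
      eval f Q = x := by
  rw [pow_succ'] at hx
  refine Submodule.mul_induction_on hx ?_ ?_
  · intro j hj y hy
    obtain ⟨Y, hY, rfl⟩ := (Ideal.mem_span_pow_iff_exists_isHomogeneous f y).mp hy
    refine ⟨C j * Y, ?_, ?_, ?_⟩
    · simpa using (isHomogeneous_C ι j).mul hY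
    · intro d
      rw [coeff_C_mul]
      exact Ideal.mul_mem_right _ _ hj
    · simp
  · intro x y hx hy
    obtain ⟨Q1, h1, h1', rfl⟩ := hx
    obtain ⟨Q2, h2, h2', rfl⟩ := hy
    refine ⟨Q1 + Q2, h1.add h2, fun d => ?_, by simp⟩
    rw [coeff_add]
    exact Ideal.add_mem _ (h1' d) (h2' d)

/-- reduction to polynomials vanishing at `f` -/
theorem qr_of_zero {R : Type u} [CommRing R] {ι : Type*} (f : ι → R) (n : ℕ)
    (h : ∀ P : MvPolynomial ι R, P.IsHomogeneous n → eval f P = 0 →
      ∀ d, P.coeff d ∈ Ideal.span (Set.range f))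
    (P : MvPolynomial ι R) (hP : P.IsHomogeneous n)
    (hx : eval f P ∈ Ideal.span (Set.range f) ^ (n + 1)) (d : ι →₀ ℕ) :
    P.coeff d ∈ Ideal.span (Set.range f) := by
  obtain ⟨Q, hQ, hQc, hQe⟩ := exists_of_mem_pow_succ f n hx
  have := h (P - Q) (hP.sub hQ) (by simp [hQe]) d
  rw [coeff_sub] at this
  have h2 := Ideal.add_mem _ this (hQc d)
  simpa using h2

/-- invariance under reindexing -/
theorem qr_comp_equiv {R : Type u} [CommRing R] {ι κ : Type*} (σ : ι ≃ κ) (f : κ → R)
    (h : QR f) : QR (f ∘ σ) := by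
  intro n P hP hx d
  have hr : Set.range (f ∘ σ) = Set.range f := σ.surjective.range_comp f
  rw [hr] at hx ⊢
  have h1 : eval f (rename σ P) = eval (f ∘ σ) P := eval_rename _ _ _
  have := h n (rename σ P) hP.rename_isHomogeneous (by rw [h1]; exact hx) (d.mapDomain σ)
  rwa [coeff_rename_mapDomain σ σ.injective] at this

section cons

variable {R : Type u} [CommRing R] {c : ℕ} (g : Fin c → R) (a : R)

theorem span_cons : Ideal.span (Set.range (Fin.cons a g : Fin (c + 1) → R)) =
    Ideal.span {a} ⊔ Ideal.span (Set.range g) := by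
  rw [Fin.range_cons, ← Ideal.span_union, Set.singleton_union]

/-- the colon lemma -/
theorem colon (hg : QR g)
    (ha : ∀ y, a * y ∈ Ideal.span (Set.range g) → y ∈ Ideal.span (Set.range g)) :
    ∀ (ν : ℕ) (y : R), a * y ∈ Ideal.span (Set.range g) ^ ν → y ∈ Ideal.span (Set.range g) ^ ν := by
  intro ν
  induction ν with
  | zero => intro y _; simp
  | succ ν ih =>
    intro y hy
    have h1 : y ∈ Ideal.span (Set.range g) ^ ν := ih y (Ideal.pow_le_pow_right (Nat.le_succ ν) hy)
    obtain ⟨F, hF, rfl⟩ := (Ideal.mem_span_pow_iff_exists_isHomogeneous g y).mp h1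
    have h2 : (C a * F).IsHomogeneous ν := by simpa using (isHomogeneous_C (Fin c) a).mul hF
    have h3 := hg ν (C a * F) h2 (by simpa using hy)
    apply eval_mem_pow_succ g hF
    intro d
    apply ha
    have := h3 d
    rwa [coeff_C_mul] at this

theorem degree_cons (i : ℕ) (m : Fin c →₀ ℕ) : (Finsupp.cons i m).degree = i + m.degree := by
  rw [Finsupp.degree_eq_sum, Finsupp.degree_eq_sum, Fin.sum_univ_succ]
  simp [Finsupp.cons_zero, Finsupp.cons_succ]

theorem coeff_symm_divX (F : MvPolynomial (Fin (c + 1)) R) (i : ℕ) (m : Fin c →₀ ℕ) :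
    coeff (Finsupp.cons i m) ((finSuccEquiv R c).symm (finSuccEquiv R c F).divX) =
      coeff (Finsupp.cons (i + 1) m) F := by
  rw [← finSuccEquiv_coeff_coeff, AlgEquiv.apply_symm_apply, Polynomial.coeff_divX,
    finSuccEquiv_coeff_coeff]

theorem main (hg : QR g)
    (ha : ∀ y, a * y ∈ Ideal.span (Set.range g) → y ∈ Ideal.span (Set.range g)) :
    QR (Fin.cons a g : Fin (c + 1) → R) := by
  have hI : Ideal.span (Set.range (Fin.cons a g : Fin (c + 1) → R)) =
    Ideal.span {a} ⊔ Ideal.span (Set.range g) := span_cons g a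
  have haI : a ∈ Ideal.span (Set.range (Fin.cons a g : Fin (c + 1) → R)) := by
    rw [hI]; exact Ideal.mem_sup_left (Ideal.subset_span rfl)
  have hI0 : Ideal.span (Set.range g) ≤ Ideal.span (Set.range (Fin.cons a g : Fin (c + 1) → R)) := by
    rw [hI]; exact le_sup_right
  intro ν
  induction ν with
  | zero =>
    intro F hF hx d
    have hC : F = C (coeff 0 F) :=
      (totalDegree_eq_zero_iff_eq_C).mp ((totalDegree_zero_iff_isHomogeneous _).mpr hF)
    rw [hC, eval_C] at hx
    rw [hC, coeff_C]
    split_ifs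
    · simpa using hx
    · exact Ideal.zero_mem _
  | succ ν ih =>
    apply qr_of_zero
    intro F hF hF0 d
    obtain ⟨p, hp⟩ : ∃ p, p = finSuccEquiv R c F := ⟨_, rfl⟩
    obtain ⟨G, hGdef⟩ : ∃ G, G = p.coeff 0 := ⟨_, rfl⟩
    obtain ⟨H, hHdef⟩ : ∃ H, H = (finSuccEquiv R c).symm p.divX := ⟨_, rfl⟩
    have hG : G.IsHomogeneous (ν + 1) := by
      rw [hGdef, hp]
      exact hF.finSuccEquiv_coeff_isHomogeneous 0 (ν + 1) (by omega)
    have hHc : ∀ (i : ℕ) (m : Fin c →₀ ℕ), coeff (Finsupp.cons i m) H =
        coeff (Finsupp.cons (i + 1) m) F := by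
      intro i m
      rw [hHdef, hp]
      exact coeff_symm_divX F i m
    have hH : H.IsHomogeneous ν := by
      apply isHomogeneous_of_coeff
      intro d hd
      rw [← Finsupp.cons_tail d] at hd ⊢
      rw [hHc] at hd
      have := degree_of_coeff_ne hF hd
      rw [degree_cons] at this ⊢
      omega
    have hevH : eval (Fin.cons a g : Fin (c + 1) → R) H =
        Polynomial.eval a (Polynomial.map (eval g) p.divX) := by
      rw [eval_eq_eval_mv_eval', hHdef, AlgEquiv.apply_symm_apply]
    have hev : eval (Fin.cons a g : Fin (c + 1) → R) F =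
        eval g G + a * eval (Fin.cons a g : Fin (c + 1) → R) H := by
      rw [hevH, eval_eq_eval_mv_eval', ← hp, hGdef]
      conv_lhs => rw [← Polynomial.divX_mul_X_add p]
      simp only [Polynomial.map_add, Polynomial.map_mul, Polynomial.map_X, Polynomial.map_C,
        Polynomial.eval_add, Polynomial.eval_mul, Polynomial.eval_X, Polynomial.eval_C]
      ring
    have hGm : eval g G ∈ Ideal.span (Set.range g) ^ (ν + 1) :=
      (Ideal.mem_span_pow_iff_exists_isHomogeneous g _).mpr ⟨G, hG, rfl⟩
    have haH : a * eval (Fin.cons a g : Fin (c + 1) → R) H ∈ Ideal.span (Set.range g) ^ (ν + 1) := by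
      have : a * eval (Fin.cons a g : Fin (c + 1) → R) H = - eval g G := by
        rw [hF0] at hev
        linear_combination -hev
      rw [this]
      exact Ideal.neg_mem_iff _ |>.mpr hGm
    have hHm := colon g a hg ha (ν + 1) _ haH
    have hHcoef := ih H hH (Ideal.pow_right_mono hI0 (ν + 1) hHm)
    obtain ⟨h, hh, hhe⟩ := (Ideal.mem_span_pow_iff_exists_isHomogeneous g _).mp hHm
    have hGh : (G + C a * h).IsHomogeneous (ν + 1) := by
      refine hG.add ?_
      simpa using (isHomogeneous_C (Fin c) a).mul hh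
    have hGcoef := hg (ν + 1) (G + C a * h) hGh (by
      have : eval g (G + C a * h) = 0 := by
        rw [map_add, map_mul, eval_C, hhe, ← hev, hF0]
      rw [this]; exact Ideal.zero_mem _)
    have hGI : ∀ m, coeff m G ∈ Ideal.span (Set.range (Fin.cons a g : Fin (c + 1) → R)) := by
      intro m
      have h1 := hI0 (hGcoef m)
      rw [coeff_add, coeff_C_mul] at h1
      have h2 : a * coeff m h ∈ Ideal.span (Set.range (Fin.cons a g : Fin (c + 1) → R)) :=
        Ideal.mul_mem_right _ _ haI
      have := Ideal.sub_mem _ h1 h2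
      simpa using this
    rw [← Finsupp.cons_tail d]
    rcases Nat.eq_zero_or_pos (d 0) with h0 | hpos
    · rw [h0, ← finSuccEquiv_coeff_coeff, ← hp, ← hGdef]
      exact hGI _
    · obtain ⟨k, hk⟩ : ∃ k, d 0 = k + 1 := ⟨d 0 - 1, by omega⟩
      rw [hk, ← hHc]
      exact hHcoef _

end cons

theorem qr_of_weaklyRegular (A : Type u) [CommRing A] : ∀ (c : ℕ) (f : Fin c → A),
    RingTheory.Sequence.IsWeaklyRegular A (List.ofFn f) → QR f := by
  intro c
  induction c with
  | zero =>
    intro f _ n P hP hx d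
    have hC : P = C (coeff 0 P) := eq_C_of_isEmpty P
    have hr : Ideal.span (Set.range f) = ⊥ := by
      rw [Set.range_eq_empty f, Ideal.span_empty]
    rw [hr] at hx ⊢
    rcases Nat.eq_zero_or_pos n with rfl | hn
    · rw [hC, eval_C] at hx
      rw [hC, coeff_C]
      split_ifs
      · simpa using hx
      · exact Ideal.zero_mem _
    · have : P = 0 := by
        by_contra hne
        have h0 : P.IsHomogeneous 0 := isHomogeneous_of_isEmpty _ _ P
        have := h0.inj_right hP hne
        omega
      rw [this, coeff_zero]; exact Ideal.zero_mem _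
  | succ c ih =>
    intro f hf
    rw [List.ofFn_succ', List.concat_eq_append,
      RingTheory.Sequence.isWeaklyRegular_append_iff,
      RingTheory.Sequence.isWeaklyRegular_singleton_iff] at hf
    obtain ⟨hf1, hf2⟩ := hf
    have hg := ih _ hf1
    have hI0 : Ideal.ofList (List.ofFn fun i => f (Fin.castSucc i)) =
        Ideal.span (Set.range fun i => f (Fin.castSucc i)) := by
      unfold Ideal.ofList
      congr 1
      ext r
      simp [List.mem_ofFn]
    have ha : ∀ y, f (Fin.last c) * y ∈ Ideal.span (Set.range fun i => f (Fin.castSucc i)) →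
        y ∈ Ideal.span (Set.range fun i => f (Fin.castSucc i)) := by
      intro y hy
      rw [← hI0] at hy ⊢
      have hq : ∀ z : A, z ∈ (Ideal.ofList (List.ofFn fun i => f (Fin.castSucc i)) •
          (⊤ : Submodule A A)) ↔ z ∈ Ideal.ofList (List.ofFn fun i => f (Fin.castSucc i)) := by
        intro z
        rw [smul_eq_mul, Ideal.mul_top]
      have h1 : f (Fin.last c) • (Submodule.Quotient.mk y :
          A ⧸ (Ideal.ofList (List.ofFn fun i => f (Fin.castSucc i)) • (⊤ : Submodule A A))) =
          f (Fin.last c) • 0 := by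
        rw [smul_zero, ← Submodule.Quotient.mk_smul, Submodule.Quotient.mk_eq_zero, hq]
        exact hy
      have h2 := hf2 h1
      rwa [Submodule.Quotient.mk_eq_zero, hq] at h2
    have hm := main (fun i => f (Fin.castSucc i)) (f (Fin.last c)) hg ha
    have hσ := qr_comp_equiv (finRotate (c + 1)) _ hm
    have : (Fin.cons (f (Fin.last c)) (fun i => f (Fin.castSucc i)) : Fin (c + 1) → A) ∘
        (finRotate (c + 1)) = f := by
      funext i
      refine Fin.lastCases ?_ (fun j => ?_) i
      · simp
      · have : finRotate (c + 1) (Fin.castSucc j) = j.succ := by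
          rw [finRotate_apply]; simp
        simp [this, Fin.cons_succ]
    rwa [this] at hσ

/-- First assertion: case M = A: in a ring A, every A-regular sequence (f_i)_{1 ≤ i ≤ c} is
quasi-regular, i.e. the canonical surjection (A/J)[T_1, ..., T_c] → gr_J(A), J = f_1 A + ... + f_c
A, is bijective. -/
theorem result (A : Type u) [CommRing A] (c : ℕ) (f : Fin c → A)
    (hf : RingTheory.Sequence.IsWeaklyRegular A (List.ofFn f)) : CAlgX.IsQuasiRegular f := by
  exact qr_of_weaklyRegular A c f hf

end Groth.Agent.S5802
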