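import Groth.Statements.S5803
import Groth.Agent.S5802
import Mathlib.Tactic
-- import your own Groth.Agent.* helpers here

set_option autoImplicit false
universe u
open EGA41

namespace Groth.Agent.S5803

open MvPolynomial Groth.Agent.S5802
open scoped Pointwise

/-- Step 1: an element of a quasi-regular sequence is a non-zero-divisor when the ring is
separated for the adic topology of the sequence. -/
theorem regular_of_qr {R : Type u} [CommRing R] {ι : Type*} (f : ι → R) (hq : QR f)
    (hsep : ∀ x : R, (∀ n, x ∈ Ideal.span (Set.range f) ^ n) → x = 0) (i : ι) (x : R)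
    (hx : f i * x = 0) : x = 0 := by
  classical
  by_contra hne
  have hex : ∃ n, x ∉ Ideal.span (Set.range f) ^ n := by
    by_contra h
    push Not at h
    exact hne (hsep x h)
  have hm := Nat.find_spec hex
  have hm0 : Nat.find hex ≠ 0 := by
    intro h0
    rw [h0] at hm
    exact hm (by simp)
  obtain ⟨n, hn⟩ : ∃ n, Nat.find hex = n + 1 := ⟨Nat.find hex - 1, by omega⟩
  have hxn : x ∈ Ideal.span (Set.range f) ^ n := by
    have := Nat.find_min hex (m := n) (by omega)
    push Not at this
    exact this
  rw [hn] at hm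
  obtain ⟨F, hF, rfl⟩ := (Ideal.mem_span_pow_iff_exists_isHomogeneous f x).mp hxn
  have h1 : (X i * F).IsHomogeneous (n + 1) := by
    have := (isHomogeneous_X R i).mul hF
    rwa [add_comm] at this
  have h2 := hq (n + 1) (X i * F) h1 (by
    rw [map_mul, eval_X, hx]; exact Ideal.zero_mem _)
  apply hm
  apply eval_mem_pow_succ f hF
  intro d
  have := h2 (Finsupp.single i 1 + d)
  rwa [coeff_X_mul] at this

section quot

variable {R : Type u} [CommRing R] {c : ℕ} (g : Fin c → R) (a : R)

/-- Step 2: passing to the quotient by the first element. -/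
theorem qr_quotient (hq : QR (Fin.cons a g : Fin (c + 1) → R)) :
    QR (fun i => Ideal.Quotient.mk (Ideal.span {a}) (g i)) := by
  classical
  obtain ⟨f, hf⟩ : ∃ f : Fin (c + 1) → R, f = Fin.cons a g := ⟨_, rfl⟩
  obtain ⟨π, hπ⟩ : ∃ π : R →+* R ⧸ Ideal.span {a}, π = Ideal.Quotient.mk (Ideal.span {a}) :=
    ⟨_, rfl⟩
  have hπs : Function.Surjective π := hπ ▸ Ideal.Quotient.mk_surjective
  rw [← hf] at hq
  rw [← hπ]
  have hJ : Ideal.span (Set.range f) = Ideal.span {a} ⊔ Ideal.span (Set.range g) := by
    rw [hf]; exact span_cons g a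
  have haJ : a ∈ Ideal.span (Set.range f) := by
    rw [hJ]; exact Ideal.mem_sup_left (Ideal.subset_span rfl)
  have hπa : π a = 0 := by
    rw [hπ]; exact Ideal.Quotient.eq_zero_iff_mem.mpr (Ideal.subset_span rfl)
  have hJbar : Ideal.span (Set.range fun i => π (g i)) = (Ideal.span (Set.range f)).map π := by
    rw [hJ, Ideal.map_sup, Ideal.map_span, Ideal.map_span, Set.image_singleton, hπa]
    have : (Ideal.span {(0 : R ⧸ Ideal.span {a})}) = ⊥ := by simp
    rw [this, bot_sup_eq, ← Set.range_comp]
    rfl
  have hfsucc : ∀ i, f (Fin.succ i) = g i := by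
    intro i; rw [hf]; simp
  have hf0 : f 0 = a := by rw [hf]; simp
  intro ν Pbar hPbar hx d
  rw [hJbar] at hx ⊢
  -- homogeneous lift
  obtain ⟨P0, hP0⟩ := MvPolynomial.map_surjective π hπs Pbar
  obtain ⟨P, hPdef⟩ : ∃ P, P = homogeneousComponent ν P0 := ⟨_, rfl⟩
  have hP : P.IsHomogeneous ν := hPdef ▸ homogeneousComponent_isHomogeneous ν P0
  have hPmap : map π P = Pbar := by
    ext e
    rw [coeff_map, hPdef, coeff_homogeneousComponent]
    split_ifs with h
    · rw [← hP0, coeff_map]
    · rw [map_zero, hPbar.coeff_eq_zero h]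
  -- it suffices that the coefficients of `P` lie in `J`
  suffices hs : ∀ e, coeff e P ∈ Ideal.span (Set.range f) by
    rw [← hPmap, coeff_map]
    exact Ideal.mem_map_of_mem π (hs d)
  -- the value of `P`
  obtain ⟨P', hP'def⟩ : ∃ P', P' = rename Fin.succ P := ⟨_, rfl⟩
  have hP' : P'.IsHomogeneous ν := hP'def ▸ hP.rename_isHomogeneous
  have hevP' : eval f P' = eval g P := by
    rw [hP'def, eval_rename]
    have : f ∘ Fin.succ = g := funext hfsucc
    rw [this]
  have hy : eval f P' ∈ Ideal.span (Set.range f) ^ (ν + 1) ⊔ Ideal.span {a} := by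
    have h1 : π (eval g P) ∈ (Ideal.span (Set.range f) ^ (ν + 1)).map π := by
      rw [Ideal.map_pow]
      have : π (eval g P) = eval (fun i => π (g i)) Pbar := by
        rw [← hPmap, eval_map, eval₂_comp]
        rfl
      rw [this]
      exact hx
    have h2 : eval g P ∈ ((Ideal.span (Set.range f) ^ (ν + 1)).map π).comap π := h1
    rw [Ideal.comap_map_of_surjective π hπs, ← RingHom.ker_eq_comap_bot, hπ, Ideal.mk_ker] at h2
    rw [hevP']
    exact h2
  obtain ⟨z, hz, w, hw, hzw⟩ := Submodule.mem_sup.mp hy
  obtain ⟨ω, rfl⟩ := Ideal.mem_span_singleton'.mp hw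
  have hyν : eval f P' ∈ Ideal.span (Set.range f) ^ ν :=
    (Ideal.mem_span_pow_iff_exists_isHomogeneous f _).mpr ⟨P', hP', rfl⟩
  rcases Nat.eq_zero_or_pos ν with hν | hν
  · -- degree zero: constant polynomial
    subst hν
    have hC : P = C (coeff 0 P) :=
      (totalDegree_eq_zero_iff_eq_C).mp ((totalDegree_zero_iff_isHomogeneous _).mpr hP)
    intro e
    rw [hC, coeff_C]
    split_ifs
    · have h3 : eval g P = coeff 0 P := by
        conv_lhs => rw [hC]
        rw [eval_C]
      rw [← h3, ← hevP', ← hzw]
      refine Ideal.add_mem _ ?_ (Ideal.mul_mem_left _ _ haJ)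
      simpa using hz
    · exact Ideal.zero_mem _
  · -- `ω ∈ J^i` for all `i ≤ ν - 1`
    have haω : ω * a ∈ Ideal.span (Set.range f) ^ ν := by
      have : ω * a = eval f P' - z := by rw [← hzw]; ring
      rw [this]
      exact Ideal.sub_mem _ hyν (Ideal.pow_le_pow_right (Nat.le_succ ν) hz)
    have hω : ∀ i, i + 1 ≤ ν → ω ∈ Ideal.span (Set.range f) ^ i := by
      intro i
      induction i with
      | zero => intro _; simp
      | succ i ih =>
        intro hi
        have h1 := ih (by omega)
        obtain ⟨H, hH, hHe⟩ := (Ideal.mem_span_pow_iff_exists_isHomogeneous f ω).mp h1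
        have h2 : (X 0 * H).IsHomogeneous (i + 1) := by
          have := (isHomogeneous_X R (0 : Fin (c + 1))).mul hH
          rwa [Nat.add_comm 1 i] at this
        have h3 := hq (i + 1) (X 0 * H) h2 (by
          rw [map_mul, eval_X, hHe, hf0, mul_comm]
          exact Ideal.pow_le_pow_right (by omega) haω)
        rw [← hHe]
        apply eval_mem_pow_succ f hH
        intro e
        have := h3 (Finsupp.single 0 1 + e)
        rwa [coeff_X_mul] at this
    obtain ⟨k, hk⟩ : ∃ k, ν = k + 1 := ⟨ν - 1, by omega⟩
    obtain ⟨H, hH, hHe⟩ := (Ideal.mem_span_pow_iff_exists_isHomogeneous f ω).mp (hω k (by omega))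
    have h2 : (X 0 * H).IsHomogeneous ν := by
      have := (isHomogeneous_X R (0 : Fin (c + 1))).mul hH
      rwa [Nat.add_comm 1 k, ← hk] at this
    have h3 := hq ν (P' - X 0 * H) (hP'.sub h2) (by
      rw [map_sub, map_mul, eval_X, hHe, hf0]
      have : eval f P' - a * ω = z := by rw [← hzw]; ring
      rw [this]; exact hz)
    intro e
    have h4 := h3 (e.mapDomain Fin.succ)
    rw [coeff_sub, hP'def, coeff_rename_mapDomain _ (Fin.succ_injective c), coeff_X_mul'] at h4
    have h5 : (0 : Fin (c + 1)) ∉ (e.mapDomain Fin.succ).support := by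
      rw [Finsupp.notMem_support_iff]
      apply Finsupp.mapDomain_of_notMem_range
      rintro ⟨j, hj⟩
      exact Fin.succ_ne_zero j hj
    rw [if_neg h5, sub_zero] at h4
    exact h4

end quot

theorem main : ∀ (c : ℕ) (A : Type u) [CommRing A] [IsNoetherianRing A] (f : Fin c → A),
    (∀ i, f i ∈ Ring.jacobson A) → QR f →
      RingTheory.Sequence.IsWeaklyRegular A (List.ofFn f) := by
  intro c
  induction c with
  | zero =>
    intro A _ _ f _ _
    rw [List.ofFn_zero]
    exact RingTheory.Sequence.IsWeaklyRegular.nil A A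
  | succ c ih =>
    intro A _ _ f hf hq
    obtain ⟨r, hr⟩ : ∃ r, r = f 0 := ⟨_, rfl⟩
    obtain ⟨g, hg⟩ : ∃ g : Fin c → A, g = fun i => f i.succ := ⟨_, rfl⟩
    have hfc : f = Fin.cons r g := by
      rw [hr, hg]
      exact (Fin.cons_self_tail f).symm
    -- separatedness
    have hJle : Ideal.span (Set.range f) ≤ Ideal.jacobson ⊥ := by
      rw [Ideal.jacobson_bot, Ideal.span_le]
      rintro _ ⟨i, rfl⟩
      exact hf i
    have hsep : ∀ x : A, (∀ n, x ∈ Ideal.span (Set.range f) ^ n) → x = 0 := by
      intro x hx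
      have h := Ideal.iInf_pow_smul_eq_bot_of_le_jacobson (M := A) _ hJle
      have : x ∈ (⨅ i : ℕ, Ideal.span (Set.range f) ^ i • ⊤ : Submodule A A) := by
        rw [Submodule.mem_iInf]
        intro n
        rw [smul_eq_mul, Ideal.mul_top]
        exact hx n
      rw [h] at this
      simpa using this
    rw [List.ofFn_succ, RingTheory.Sequence.isWeaklyRegular_cons_iff, ← hr]
    constructor
    · intro x y hxy
      have h1 : r * (x - y) = 0 := by
        have : r • x = r • y := hxy
        rw [smul_eq_mul, smul_eq_mul] at this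
        rw [mul_sub, this, sub_self]
      have := regular_of_qr f hq hsep 0 (x - y) (by rw [← hr]; exact h1)
      exact sub_eq_zero.mp this
    · -- induction hypothesis on the quotient
      have hq' : QR (fun i => Ideal.Quotient.mk (Ideal.span {r}) (g i)) := by
        apply qr_quotient
        rw [← hfc]; exact hq
      have hjac : ∀ i, Ideal.Quotient.mk (Ideal.span {r}) (g i) ∈ Ring.jacobson (A ⧸ Ideal.span {r}) := by
        intro i
        have h1 := Ring.map_jacobson_le (Ideal.Quotient.mk (Ideal.span {r}))
        apply h1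
        refine ⟨g i, ?_, rfl⟩
        rw [hg]; exact hf _
      have hIH := ih (A ⧸ Ideal.span {r}) _ hjac hq'
      have h : r • (⊤ : Submodule A A) = Ideal.span {r} := by
        simp [← Submodule.ideal_span_singleton_smul]
      let e : QuotSMulTop r A ≃ₗ[A] A ⧸ Ideal.span {r} := Submodule.quotEquivOfEq _ _ h
      have hx'eq : List.ofFn (fun i => Ideal.Quotient.mk (Ideal.span {r}) (g i)) =
          (List.ofFn fun i => f i.succ).map (Ideal.Quotient.mk (Ideal.span {r})) := by
        rw [List.map_ofFn, hg]
        rfl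
      rw [hx'eq] at hIH
      refine (AddEquiv.isWeaklyRegular_congr (e := e.toAddEquiv) ?_).mpr hIH
      refine List.forall₂_map_right_iff.mpr (List.forall₂_same.mpr fun a _ y => ?_)
      change e (a • y) = _
      rw [e.map_smul, ← Ideal.Quotient.algebraMap_eq, algebraMap_smul]
      rfl

/-- Case M = A: let A be a Noetherian ring and (f_i)_{1 ≤ i ≤ c} a finite sequence of elements of the
Jacobson radical of A. Then (f_i) is a regular sequence if it is quasi-regular (and conversely every
regular sequence is quasi-regular). -/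
theorem result (A : Type u) [CommRing A] [IsNoetherianRing A]
    (c : ℕ) (f : Fin c → A) (hf : ∀ i, f i ∈ Ring.jacobson A) (hq : CAlgX.IsQuasiRegular f) :
    RingTheory.Sequence.IsWeaklyRegular A (List.ofFn f) := by
  exact main c A f hf hq

end Groth.Agent.S5803
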