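import Groth.Statements.S9273
import Mathlib

set_option autoImplicit false
universe u
open CAlgX

namespace Groth.Agent.S9273

open scoped TensorProduct

/-- Let A → B and A → A' be ring maps and B' = A' ⊗_A B. If f_1, ..., f_r is an H_1-regular sequence in
B with B/(f_1, ..., f_r) flat over A, then the images of the f_i in B' form an H_1-regular sequence. -/
theorem result (A B A' : Type u) [CommRing A] [CommRing B]
    [CommRing A'] [Algebra A B] [Algebra A A'] (r : ℕ) (f : Fin r → B)
    (hflat : Module.Flat A (B ⧸ Ideal.span (Set.range f))) (hq : CAlgX.IsH1Regular f) :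
    CAlgX.IsH1Regular (fun i => ((1 : A') ⊗ₜ[A] f i : TensorProduct A A' B)) := by
  classical
  intro a' ha'
  set J : Ideal B := Ideal.span (Set.range f) with hJ
  -- the B-linear map `a ↦ ∑ a i * f i`
  let φ : (Fin r → B) →ₗ[B] B := Fintype.linearCombination B f
  have hφ : ∀ a, φ a = ∑ i, a i * f i := fun a => by
    simp [φ, Fintype.linearCombination_apply, smul_eq_mul]
  have hφJ : ∀ a, φ a ∈ J := fun a => by
    rw [hφ]
    exact Ideal.sum_mem _ fun i _ => Ideal.mul_mem_left _ _ (Ideal.subset_span ⟨i, rfl⟩)
  let φJ : (Fin r → B) →ₗ[A] J := (φ.codRestrict J hφJ).restrictScalars A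
  have hφJsurj : Function.Surjective φJ := by
    rintro ⟨x, hx⟩
    have : x ∈ LinearMap.range φ := by
      rw [Fintype.range_linearCombination]; exact hx
    obtain ⟨a, rfl⟩ := this
    exact ⟨a, rfl⟩
  let Jsub : J →ₗ[A] B := (Submodule.subtype J).restrictScalars A
  let q : B →ₗ[A] B ⧸ J := (Submodule.mkQ J).restrictScalars A
  have hJinj : Function.Injective (Jsub.lTensor A') := by
    refine LinearMap.lTensor_injective_of_exact_of_flat q (Submodule.mkQ_surjective J) Jsub
      (Submodule.injective_subtype J) ?_ A'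
    rw [LinearMap.exact_iff]
    ext x
    simp [q, Jsub]
  set K := LinearMap.ker φJ with hK
  have hexact : Function.Exact (K.subtype.lTensor A') (φJ.lTensor A') :=
    lTensor_exact A' (LinearMap.exact_subtype_ker_map φJ) hφJsurj
  let ι := TensorProduct.piRight A A A' (fun _ : Fin r => B)
  -- compatibility of `1 ⊗ φ` with the sum formula
  have hcomp : ∀ y : A' ⊗[A] (Fin r → B),
      (Jsub.lTensor A') ((φJ.lTensor A') y) = ∑ i, (ι y) i * ((1 : A') ⊗ₜ[A] f i) := by
    intro y
    induction y using TensorProduct.induction_on with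
    | zero => simp
    | tmul a b =>
      simp only [LinearMap.lTensor_tmul, ι, TensorProduct.piRight_apply,
        TensorProduct.piRightHom_tmul, Algebra.TensorProduct.tmul_mul_tmul, mul_one]
      change a ⊗ₜ[A] φ b = _
      rw [hφ, TensorProduct.tmul_sum]
    | add x y hx hy =>
      simp only [map_add, Pi.add_apply, add_mul, Finset.sum_add_distrib, hx, hy]
  set T' : Submodule (A' ⊗[A] B) (Fin r → A' ⊗[A] B) := Submodule.span (A' ⊗[A] B)
    {v | ∃ i j : Fin r, v = Pi.single i ((1 : A') ⊗ₜ[A] f j) - Pi.single j ((1 : A') ⊗ₜ[A] f i)}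
    with hT'
  -- elements of the B-span of trivial relations map into `T'`
  have hT : ∀ κ ∈ Submodule.span B
      {v : Fin r → B | ∃ i j : Fin r, v = Pi.single i (f j) - Pi.single j (f i)},
      ∀ a : A', (fun i => a ⊗ₜ[A] κ i : Fin r → A' ⊗[A] B) ∈ T' := by
    intro κ hκ
    induction hκ using Submodule.span_induction with
    | mem x hx =>
      obtain ⟨i, j, rfl⟩ := hx
      intro a
      have : (fun l => a ⊗ₜ[A] (Pi.single i (f j) - Pi.single j (f i) : Fin r → B) l :
          Fin r → A' ⊗[A] B) =
          (a ⊗ₜ[A] (1 : B)) •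
            (Pi.single i ((1 : A') ⊗ₜ[A] f j) - Pi.single j ((1 : A') ⊗ₜ[A] f i)) := by
        ext l
        simp only [Pi.sub_apply, Pi.smul_apply, smul_eq_mul, TensorProduct.tmul_sub, mul_sub]
        congr 1
        · by_cases h : l = i
          · subst h; simp
          · simp [Pi.single_eq_of_ne h]
        · by_cases h : l = j
          · subst h; simp
          · simp [Pi.single_eq_of_ne h]
      rw [this]
      exact Submodule.smul_mem _ _ (Submodule.subset_span ⟨i, j, rfl⟩)
    | zero =>
      intro a
      have : (fun i => a ⊗ₜ[A] (0 : Fin r → B) i : Fin r → A' ⊗[A] B) = 0 := by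
        ext i; simp
      rw [this]
      exact T'.zero_mem
    | add x y _ _ hx hy =>
      intro a
      have : (fun i => a ⊗ₜ[A] (x + y) i : Fin r → A' ⊗[A] B) =
          (fun i => a ⊗ₜ[A] x i) + (fun i => a ⊗ₜ[A] y i) := by
        ext i; simp [TensorProduct.tmul_add]
      rw [this]
      exact Submodule.add_mem _ (hx a) (hy a)
    | smul b x _ hx =>
      intro a
      have : (fun i => a ⊗ₜ[A] (b • x) i : Fin r → A' ⊗[A] B) =
          ((1 : A') ⊗ₜ[A] b) • (fun i => a ⊗ₜ[A] x i) := by
        ext i; simp
      rw [this]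
      exact Submodule.smul_mem _ _ (hx a)
  have hKT : ∀ z : A' ⊗[A] K, ι ((K.subtype.lTensor A') z) ∈ T' := by
    intro z
    induction z using TensorProduct.induction_on with
    | zero => simp
    | tmul a κ =>
      simp only [LinearMap.lTensor_tmul, ι, TensorProduct.piRight_apply,
        TensorProduct.piRightHom_tmul]
      refine hT _ (hq _ ?_) a
      have h1 : φJ (κ : Fin r → B) = 0 := LinearMap.mem_ker.mp κ.2
      have h2 := congrArg Subtype.val h1
      rw [← hφ]
      exact h2
    | add x y hx hy =>
      rw [map_add, map_add]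
      exact Submodule.add_mem _ hx hy
  -- now conclude
  set y := ι.symm a' with hy
  have hy0 : (φJ.lTensor A') y = 0 := by
    apply hJinj
    rw [hcomp, map_zero, hy, LinearEquiv.apply_symm_apply]
    exact ha'
  obtain ⟨z, hz⟩ := (hexact y).mp hy0
  have := hKT z
  rw [hz, hy, LinearEquiv.apply_symm_apply] at this
  exact this

end Groth.Agent.S9273
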