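import Groth.Statements.S9370
import Mathlib
import Groth.Agent.Helper19.OmegaD4
-- import your own Groth.Agent.* helpers here

set_option autoImplicit false
universe u
open OmegaSh

namespace Groth.Agent.S9370

section helpers

open CategoryTheory CategoryTheory.Limits AlgebraicGeometry Opposite TopologicalSpace
open Groth.Agent.Helper19.OmegaD

variable {X S X' S' : Scheme.{u}} (f : X ⟶ S) (f' : X' ⟶ S') (h : X' ⟶ X) (b : S' ⟶ S)
  (hsq : f' ≫ b = h ≫ f)

/-- The derivation of `O_X` into `h_* F'` induced by a derivation of `O_{X'}` into `F'`. -/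
noncomputable def pushDer' {F' : X'.Modules} (D' : OmegaSh.Der f' F') :
    OmegaSh.Der f ((Scheme.Modules.pushforward h).obj F') where
  d {W} := (D'.app (h ⁻¹ᵁ W.unop)).comp ((h.app W.unop).hom : Γ(X, W.unop) →+* _).toAddMonoidHom
  d_mul {W} a c := by
    change D'.app (h ⁻¹ᵁ W.unop) (h.app W.unop (a * c)) = _
    rw [map_mul]
    exact D'.d_mul (X := op (h ⁻¹ᵁ W.unop)) _ _
  d_map {W W'} k x := by
    change D'.app (h ⁻¹ᵁ W'.unop) (h.app W'.unop (X.presheaf.map k x)) = _
    have h1 := congrArg (fun q => q.hom x) (h.naturality k)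
    change h.app W'.unop (X.presheaf.map k x) = _ at h1
    rw [h1]
    exact D'.d_map (X := op (h ⁻¹ᵁ W.unop)) (Y := op (h ⁻¹ᵁ W'.unop)) _ _
  d_app {T} c := by
    change D'.app (h ⁻¹ᵁ (f ⁻¹ᵁ T.unop)) (h.app (f ⁻¹ᵁ T.unop) (f.app T.unop c)) = 0
    refine der_congr_zero hsq.symm T.unop c (fun W => D'.app W) ?_
    exact D'.d_app (X := op (b ⁻¹ᵁ T.unop)) (b.app T.unop c)

theorem pushDer'_app {F' : X'.Modules} (D' : OmegaSh.Der f' F') (W : X.Opens) (s : Γ(X, W)) :
    (pushDer' f f' h b hsq D').app W s = D'.app (h ⁻¹ᵁ W) (h.app W s) := rfl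

theorem homEquiv_app {Ω : X.Modules} {Ω' : X'.Modules}
    (c : (Scheme.Modules.pullback h).obj Ω ⟶ Ω') (W : X.Opens) (m : Γ(Ω, W)) :
    ((Scheme.Modules.pullbackPushforwardAdjunction h).homEquiv Ω Ω' c).app W m =
      c.app (h ⁻¹ᵁ W) (OmegaSh.pullSect h Ω W m) := by
  rw [Adjunction.homEquiv_unit]
  rfl

end helpers

open AlgebraicGeometry CategoryTheory in

open AlgebraicGeometry CategoryTheory in
/-- For a commutative square h : X' → X over S' → S, with d : O_X → Ω the universal derivation of X/S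
and d' : O_{X'} → Ω' the universal derivation of X'/S', there is a unique O_{X'}-linear c : h^*Ω →
Ω' with c(h^* d s) = d'(h♯ s) for all local functions s on X. -/
theorem result {X S X' S' : Scheme.{u}} (f : X ⟶ S) (f' : X' ⟶ S') (h : X' ⟶ X) (b : S' ⟶ S)
    (hsq : f' ≫ b = h ≫ f) (Ω : X.Modules) (d : OmegaSh.Der f Ω) (hd : OmegaSh.IsUniversal d)
    (Ω' : X'.Modules) (d' : OmegaSh.Der f' Ω') (hd' : OmegaSh.IsUniversal d') :
    ∃! c : (Scheme.Modules.pullback h).obj Ω ⟶ Ω', OmegaSh.IsDiffCompat h d d' c := by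
  obtain ⟨γ, hγ, hγu⟩ := hd _ (pushDer' f f' h b hsq d')
  let adj := Scheme.Modules.pullbackPushforwardAdjunction h
  have hγ' : ∀ (W : X.Opens) (s : Γ(X, W)),
      γ.app W (d.app W s) = d'.app (h ⁻¹ᵁ W) (h.app W s) := fun W s => by
    rw [← Groth.Agent.Helper19.OmegaD.postcomp_app, hγ, pushDer'_app]
  refine ⟨(adj.homEquiv Ω Ω').symm γ, ?_, ?_⟩
  · intro U s
    change ((adj.homEquiv Ω Ω').symm γ).app (h ⁻¹ᵁ U) (OmegaSh.pullSect h Ω U (d.app U s)) = _
    rw [← homEquiv_app, Equiv.apply_symm_apply, hγ']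
  · intro c' hc'
    have h3 : adj.homEquiv Ω Ω' c' = γ := by
      apply hγu
      apply Groth.Agent.Helper19.OmegaD.der_ext
      intro W s
      rw [Groth.Agent.Helper19.OmegaD.postcomp_app, homEquiv_app, pushDer'_app]
      exact hc' W s
    rw [← h3, Equiv.symm_apply_apply]

end Groth.Agent.S9370
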