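import Groth.Statements.S5015
import Mathlib
import Groth.Agent.Helper19.OmegaD7
import Groth.Agent.Helper19.OmegaAlg
-- import your own Groth.Agent.* helpers here

set_option autoImplicit false
universe u
open CategoryTheory CategoryTheory.Limits AlgebraicGeometry TopologicalSpace
open Unram17

namespace Groth.Agent.S5015

section helpers

open scoped TensorProduct
open Groth.Agent.Lib.Helper29.QCoh Groth.Agent.Helper19.OmegaD Groth.Agent.Helper19.OmegaLocal
open Groth.Agent.Helper19.OmegaAlg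

variable {X Y S : Scheme.{u}} (g : Y ⟶ S) (h : X ⟶ S) (f : X ⟶ Y) (w : f ≫ g = h)
  (ΩY : Y.Modules) (dY : OmegaSh.Der g ΩY) (hY : OmegaSh.IsUniversal dY)
  (ΩX : X.Modules) (dX : OmegaSh.Der h ΩX) (hX : OmegaSh.IsUniversal dX)
  (c : (Scheme.Modules.pullback f).obj ΩY ⟶ ΩX) (hc : OmegaSh.IsDiffCompat f dY dX c)

/-- Affine opens of `X` mapping into an affine of `Y` mapping into an affine of `S`. -/
def triOpens : Set X.Opens :=
  {U | IsAffineOpen U ∧ ∃ (V : Y.Opens) (W : S.Opens), IsAffineOpen V ∧ IsAffineOpen W ∧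
    U ≤ f ⁻¹ᵁ V ∧ V ≤ g ⁻¹ᵁ W}

theorem exists_tri (x : X) (N : X.Opens) (hxN : x ∈ N) :
    ∃ (U : X.Opens) (V : Y.Opens) (W : S.Opens), IsAffineOpen U ∧ IsAffineOpen V ∧
      IsAffineOpen W ∧ x ∈ U ∧ U ≤ N ∧ U ≤ f ⁻¹ᵁ V ∧ V ≤ g ⁻¹ᵁ W := by
  obtain ⟨W, hW, hxW, -⟩ := exists_isAffineOpen_mem_and_subset (x := g (f x)) (U := ⊤) trivial
  obtain ⟨V, hV, hxV, hVW⟩ :=
    exists_isAffineOpen_mem_and_subset (x := f x) (U := g ⁻¹ᵁ W) hxW
  obtain ⟨U, hU, hxU, hUV⟩ :=
    exists_isAffineOpen_mem_and_subset (x := x) (U := N ⊓ f ⁻¹ᵁ V) ⟨hxN, hxV⟩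
  exact ⟨U, V, W, hU, hV, hW, hxU, hUV.trans inf_le_left, hUV.trans inf_le_right, hVW⟩

theorem isBasis_triOpens : Opens.IsBasis (triOpens g f) := by
  rw [Opens.isBasis_iff_nbhd]
  intro N x hx
  obtain ⟨U, V, W, hU, hV, hW, hxU, hUN, hUV, hVW⟩ := exists_tri g f x N hx
  exact ⟨U, ⟨hU, V, W, hV, hW, hUV, hVW⟩, hxU, hUN⟩

include w hY hX hc in
theorem app_surjective_iff {U : X.Opens} (hU : IsAffineOpen U) {V : Y.Opens} (hV : IsAffineOpen V)
    {W : S.Opens} (hW : IsAffineOpen W) (hUV : U ≤ f ⁻¹ᵁ V) (hVW : V ≤ g ⁻¹ᵁ W) :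
    Function.Surjective (c.app U) ↔ (f.appLE V U hUV).hom.FormallyUnramified := by
  have hUW : U ≤ h ⁻¹ᵁ W := by
    intro x hx
    have h1 : g (f x) ∈ W := hVW (hUV hx)
    rw [← Scheme.Hom.comp_apply] at h1
    rw [w] at h1
    exact h1
  letI := algΓ g hVW
  letI := algΓ h hUW
  letI := algΓ f hUV
  haveI : IsScalarTower Γ(S, W) Γ(Y, V) Γ(X, U) := by
    apply IsScalarTower.of_algebraMap_eq'
    change (h.appLE W U hUW).hom = (f.appLE V U hUV).hom.comp (g.appLE W V hVW).hom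
    have h1 : g.appLE W V hVW ≫ f.appLE V U hUV = (f ≫ g).appLE W U (by rw [w]; exact hUW) :=
      Scheme.Hom.appLE_comp_appLE f g W V U hVW hUV
    have h2 : (f ≫ g).appLE W U (by rw [w]; exact hUW) = h.appLE W U hUW := appLE_congr w _ _
    rw [← h2, ← h1]
    rfl
  obtain ⟨P, E', hPE⟩ := exists_local_diffCompat g h f dY hY dX hX c hc hV hW hVW hU hW hUW hUV
  let κ : Γ(X, U) ⊗[Γ(Y, V)] Ω[Γ(Y, V)⁄Γ(S, W)] →ₗ[Γ(X, U)] Ω[Γ(X, U)⁄Γ(S, W)] :=
    E'.toLinearMap ∘ₗ (appₗ c U) ∘ₗ P.symm.toLinearMap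
  have hκ : κ = KaehlerDifferential.mapBaseChange Γ(S, W) Γ(Y, V) Γ(X, U) :=
    eq_mapBaseChange _ _ _ κ (fun b' b => hPE b' b)
  have h1 : Function.Surjective (c.app U) ↔ Function.Surjective κ := by
    constructor
    · intro hs
      exact E'.surjective.comp (hs.comp P.symm.surjective)
    · intro hs n
      obtain ⟨t, ht⟩ := hs (E' n)
      exact ⟨P.symm t, E'.injective ht⟩
  rw [h1, hκ, mapBaseChange_surjective_iff]
  constructor
  · intro hs
    exact (⟨hs⟩ : Algebra.FormallyUnramified Γ(Y, V) Γ(X, U))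
  · intro hf
    have hf' : Algebra.FormallyUnramified Γ(Y, V) Γ(X, U) := hf
    exact hf'.subsingleton_kaehlerDifferential

end helpers

/-- Let g : Y ⟶ S and h : X ⟶ S be morphisms and f : X ⟶ Y with f ≫ g = h. Given sheaves of
differentials of Y over S and of X over S (universal derivations dY, dX) and the canonical map c
from the pullback of the former to the latter (the O_X-linear map carrying the pullback of dY s to
dX of the pullback of s), f is formally unramified if and only if c is an epimorphism of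
O_X-modules. -/
theorem result {X Y S : Scheme.{u}} (g : Y ⟶ S) (h : X ⟶ S)
    (f : X ⟶ Y) (w : f ≫ g = h)
    (ΩY : Y.Modules) (dY : OmegaSh.Der g ΩY) (hY : OmegaSh.IsUniversal dY)
    (ΩX : X.Modules) (dX : OmegaSh.Der h ΩX) (hX : OmegaSh.IsUniversal dX)
    (c : (Scheme.Modules.pullback f).obj ΩY ⟶ ΩX) (hc : OmegaSh.IsDiffCompat f dY dX c) :
    FormallyUnramified f ↔ Epi c := by
  constructor
  · intro hf
    apply Groth.Agent.Helper19.OmegaD.epi_of_surjective_on_basis c (triOpens g f)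
      (isBasis_triOpens g f)
    rintro U ⟨hU, V, W, hV, hW, hUV, hVW⟩
    exact (app_surjective_iff g h f w ΩY dY hY ΩX dX hX c hc hU hV hW hUV hVW).mpr
      (hf.formallyUnramified_appLE hV hU hUV)
  · intro hc'
    haveI := Groth.Agent.Helper19.OmegaD.isQuasicoherent_of_universal g dY hY
    haveI := Groth.Agent.Helper19.OmegaD.isQuasicoherent_of_universal h dX hX
    rw [HasRingHomProperty.iff_exists_appLE (P := @FormallyUnramified)
      (RingHom.FormallyUnramified.stableUnderComposition.stableUnderCompositionWithLocalizationAway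
        RingHom.FormallyUnramified.holdsForLocalizationAway).1]
    intro x
    obtain ⟨U, V, W, hU, hV, hW, hxU, -, hUV, hVW⟩ := exists_tri g f x ⊤ trivial
    refine ⟨⟨V, hV⟩, ⟨U, hU⟩, hxU, hUV, ?_⟩
    exact (app_surjective_iff g h f w ΩY dY hY ΩX dX hX c hc hU hV hW hUV hVW).mp
      (Groth.Agent.Lib.Helper29.QCoh.app_surjective_of_epi c hU)

end Groth.Agent.S5015
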