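import Groth.Statements.S5976
import Mathlib
import Groth.Agent.Helper19.OmegaD9
import Groth.Agent.Helper19.OmegaAlg3
import Groth.Agent.Helper19.Conormal1
import Groth.Agent.S5015
-- import your own Groth.Agent.* helpers here

set_option autoImplicit false
universe u
open CategoryTheory CategoryTheory.Limits AlgebraicGeometry TopologicalSpace Opposite
open Nrm16

namespace Groth.Agent.S5976

section helpers

open scoped TensorProduct
open Groth.Agent.Lib.Helper29.QCoh Groth.Agent.Helper19.OmegaD Groth.Agent.Helper19.OmegaLocal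
open Groth.Agent.Helper19.OmegaAlg Groth.Agent.Helper19.Conormal

variable {X Y Z : Scheme.{u}} (f : Y ⟶ Z) (j : X ⟶ Y) [IsImmersion j] [QuasiCompact j]
  (ΩY : Y.Modules) (dY : OmegaSh.Der f ΩY) (hY : OmegaSh.IsUniversal dY)
  (ΩX : X.Modules) (dX : OmegaSh.Der (j ≫ f) ΩX) (hX : OmegaSh.IsUniversal dX)
  (φ : Omega.conormal j ⟶ (Scheme.Modules.pullback j).obj ΩY) (hφ : OmegaSh.IsConormalDiff j dY φ)
  (c : (Scheme.Modules.pullback j).obj ΩY ⟶ ΩX) (hc : OmegaSh.IsDiffCompat j dY dX c)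

/-- The basis of `X` used: preimages of affine opens of `Y` inside the coborder and over an affine
of `Z`. -/
def goodB : Set X.Opens :=
  {U' | ∃ (U : Y.Opens) (W : Z.Opens), IsAffineOpen U ∧ IsAffineOpen W ∧ U ≤ j.coborderRange ∧
    U ≤ f ⁻¹ᵁ W ∧ U' = j ⁻¹ᵁ U}

theorem isBasis_goodB : Opens.IsBasis (goodB f j) := by
  rw [Opens.isBasis_iff_nbhd]
  intro N x hx
  obtain ⟨W, hW, hxW, -⟩ := exists_isAffineOpen_mem_and_subset (x := f (j x)) (U := ⊤) trivial
  obtain ⟨U, hU, hUc, hUW, hxU, hUN⟩ := exists_cb j x N hx (f ⁻¹ᵁ W) hxW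
  exact ⟨j ⁻¹ᵁ U, ⟨U, W, hU, hW, hUc, hUW, rfl⟩, hxU, hUN⟩

set_option maxRecDepth 16000 in
include hY hX hφ hc in
theorem local_exact {U : Y.Opens} (hU : IsAffineOpen U) {W : Z.Opens} (hW : IsAffineOpen W)
    (hUc : U ≤ j.coborderRange) (hUW : U ≤ f ⁻¹ᵁ W) :
    Function.Exact (φ.app (j ⁻¹ᵁ U)) (c.app (j ⁻¹ᵁ U)) := by
  have hU' : IsAffineOpen (j ⁻¹ᵁ U) := isAffineOpen_preimage_of_le_coborder j hU hUc
  have hUU : j ⁻¹ᵁ U ≤ j ⁻¹ᵁ U := le_rfl
  have hU'W := le_comp_preimage f j hUU hUW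
  letI := algΓ f hUW
  letI := algΓ (j ≫ f) hU'W
  letI := algΓ j hUU
  haveI := isScalarTower_tri f j hUU hUW
  have hsurj : Function.Surjective (algebraMap Γ(Y, U) Γ(X, j ⁻¹ᵁ U)) := by
    change Function.Surjective (j.appLE U (j ⁻¹ᵁ U) hUU).hom
    rw [Scheme.Hom.appLE_eq_app]
    exact app_surjective_of_le_coborder j hU hUc
  have hker : ∀ b : Γ(Y, U), algebraMap Γ(Y, U) Γ(X, j ⁻¹ᵁ U) b = 0 ↔
      b ∈ j.ker.ideal ⟨U, hU⟩ := by
    intro b
    rw [← ker_app_eq j hU, RingHom.mem_ker]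
    change (j.appLE U (j ⁻¹ᵁ U) hUU).hom b = 0 ↔ _
    rw [Scheme.Hom.appLE_eq_app]
  obtain ⟨P, EX, hEX, hP, hPE⟩ :=
    exists_local_diffCompat'' f (j ≫ f) j dY hY dX hX c hc hU hW hUW hU' hW hU'W hUU
  let κ₁ : Γ(X, j ⁻¹ᵁ U) ⊗[Γ(Y, U)] Ω[Γ(Y, U)⁄Γ(Z, W)] →ₗ[Γ(X, j ⁻¹ᵁ U)]
      Ω[Γ(X, j ⁻¹ᵁ U)⁄Γ(Z, W)] :=
    EX.toLinearMap ∘ₗ (appₗ c _) ∘ₗ P.symm.toLinearMap
  have hκ₁ : κ₁ = KaehlerDifferential.mapBaseChange Γ(Z, W) Γ(Y, U) Γ(X, j ⁻¹ᵁ U) :=
    eq_mapBaseChange _ _ _ κ₁ (fun b' b => hPE b' b)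
  have hκ₁' : ∀ m, KaehlerDifferential.mapBaseChange Γ(Z, W) Γ(Y, U) Γ(X, j ⁻¹ᵁ U) (P m) =
      EX (c.app (j ⁻¹ᵁ U) m) := by
    intro m
    rw [← hκ₁]
    change EX (c.app _ (P.symm (P m))) = _
    rw [LinearEquiv.symm_apply_apply]
  -- values of φ on classes
  have hφ' : ∀ s : Γ(ClSub.idealMod j.ker, U),
      P (φ.app (j ⁻¹ᵁ U) (OmegaSh.conormalSect j U s)) =
        (1 : Γ(X, j ⁻¹ᵁ U)) ⊗ₜ[Γ(Y, U)]
          KaehlerDifferential.D Γ(Z, W) Γ(Y, U) (OmegaSh.idealSect j.ker U s) := by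
    intro s
    rw [hφ U s]
    have := hP (OmegaSh.idealSect j.ker U s)
    rw [res_self] at this
    exact this
  let Q := conormalSectionsEquiv j hU hU' hUU
  have hQ : ∀ s : Γ(ClSub.idealMod j.ker, U),
      Q (OmegaSh.conormalSect j U s) = (1 : Γ(X, j ⁻¹ᵁ U)) ⊗ₜ[Γ(Y, U)] idealElt j hU s := by
    intro s
    have := conormalSectionsEquiv_conormalSect j hU hU' hUU s
    rw [res_self] at this
    exact this
  intro m
  constructor
  · intro hm
    have h1 : KaehlerDifferential.mapBaseChange Γ(Z, W) Γ(Y, U) Γ(X, j ⁻¹ᵁ U) (P m) = 0 := by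
      rw [hκ₁', hm, map_zero]
    obtain ⟨x, hx0, hx⟩ := (mapBaseChange_eq_zero_iff _ _ _ hsurj (P m)).mp h1
    have hxI : x ∈ j.ker.ideal ⟨U, hU⟩ := (hker x).mp hx0
    let s : Γ(ClSub.idealMod j.ker, U) := (idealModSectionsEquiv j.ker ⟨U, hU⟩).symm ⟨x, hxI⟩
    have hs : OmegaSh.idealSect j.ker U s = x := by
      rw [← idealElt_val j hU s]
      change ((idealModSectionsEquiv j.ker ⟨U, hU⟩
        ((idealModSectionsEquiv j.ker ⟨U, hU⟩).symm ⟨x, hxI⟩) : j.ker.ideal ⟨U, hU⟩) :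
          Γ(Y, U)) = x
      rw [LinearEquiv.apply_symm_apply]
    refine ⟨OmegaSh.conormalSect j U s, P.injective ?_⟩
    rw [hφ', hs, hx]
  · rintro ⟨t, rfl⟩
    have key : ∀ τ : Γ(X, j ⁻¹ᵁ U) ⊗[Γ(Y, U)] (j.ker.ideal ⟨U, hU⟩),
        c.app (j ⁻¹ᵁ U) (φ.app (j ⁻¹ᵁ U) (Q.symm τ)) = 0 := by
      intro τ
      induction τ using TensorProduct.induction_on with
      | zero => rw [map_zero, map_zero, map_zero]
      | add a b ha hb => rw [map_add, map_add, map_add, ha, hb, add_zero]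
      | tmul c' s₀ =>
        let s : Γ(ClSub.idealMod j.ker, U) := (idealModSectionsEquiv j.ker ⟨U, hU⟩).symm s₀
        have hs : idealElt j hU s = s₀ := LinearEquiv.apply_symm_apply _ _
        have h1 : Q.symm (c' ⊗ₜ[Γ(Y, U)] s₀) = c' • OmegaSh.conormalSect j U s := by
          rw [LinearEquiv.symm_apply_eq, map_smul, hQ, hs, TensorProduct.smul_tmul',
            smul_eq_mul, mul_one]
        rw [h1, Scheme.Modules.Hom.app_smul, Scheme.Modules.Hom.app_smul]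
        have h2 : c.app (j ⁻¹ᵁ U) (φ.app (j ⁻¹ᵁ U) (OmegaSh.conormalSect j U s)) = 0 := by
          rw [hφ U s]
          have h3 := hc U (OmegaSh.idealSect j.ker U s)
          refine h3.trans ?_
          have h4 : j.app U (OmegaSh.idealSect j.ker U s) = 0 := by
            have h5 : OmegaSh.idealSect j.ker U s ∈ j.ker.ideal ⟨U, hU⟩ := by
              rw [← idealElt_val j hU s]
              exact (idealElt j hU s).2
            rw [← ker_app_eq j hU, RingHom.mem_ker] at h5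
            exact h5
          rw [h4, map_zero]
        rw [h2, smul_zero]
    have := key (Q t)
    rw [LinearEquiv.symm_apply_apply] at this
    exact this

end helpers

/-- Let f : Y ⟶ Z be a morphism and j : X ⟶ Y a quasi-compact immersion. Let (Ω_{Y/Z}, d) and (Ω_{X/Z},
d') be sheaves of differentials (universal derivations), φ : N_{X/Y} ⟶ j^*Ω_{Y/Z} the canonical map
from the conormal sheaf of j (class of a local section s of the ideal ↦ pullback of d s) and c :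
j^*Ω_{Y/Z} ⟶ Ω_{X/Z} the canonical map compatible with the derivations. Then c is an epimorphism and
the image of φ is the kernel of c: the sequence N_{X/Y} ⟶ j^*Ω_{Y/Z} ⟶ Ω_{X/Z} ⟶ 0 is exact. (The
published statement allows any immersion j; this row assumes j quasi-compact, the case in which the
conormal sheaf used here is that of j.) -/
theorem result {X Y Z : Scheme.{u}} (f : Y ⟶ Z) (j : X ⟶ Y)
    [IsImmersion j] [QuasiCompact j]
    (ΩY : Y.Modules) (dY : OmegaSh.Der f ΩY) (hY : OmegaSh.IsUniversal dY)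
    (ΩX : X.Modules) (dX : OmegaSh.Der (j ≫ f) ΩX) (hX : OmegaSh.IsUniversal dX)
    (φ : Omega.conormal j ⟶ (Scheme.Modules.pullback j).obj ΩY) (hφ : OmegaSh.IsConormalDiff j dY φ)
    (c : (Scheme.Modules.pullback j).obj ΩY ⟶ ΩX) (hc : OmegaSh.IsDiffCompat j dY dX c) :
    Epi c ∧ imageSubobject φ = kernelSubobject c := by
  have hloc : ∀ U' ∈ goodB f j, Function.Exact (φ.app U') (c.app U') := by
    rintro U' ⟨U, W, hU, hW, hUc, hUW, rfl⟩
    exact local_exact f j ΩY dY hY ΩX dX hX φ hφ c hc hU hW hUc hUW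
  constructor
  · haveI : FormallyUnramified j := inferInstance
    exact (Groth.Agent.S5015.result f (j ≫ f) j rfl ΩY dY hY ΩX dX hX c hc).mp inferInstance
  · have w : φ ≫ c = 0 := by
      apply Groth.Agent.Helper19.OmegaD.hom_ext_of_basis _ (isBasis_goodB f j)
      intro U' hU' m
      exact ((hloc U' hU') _).mpr ⟨m, rfl⟩
    have hex : (ShortComplex.mk φ c w).Exact :=
      Groth.Agent.Helper19.OmegaD.exact_of_exact_on_basis _ (isBasis_goodB f j) _ hloc
    exact (ShortComplex.exact_iff_image_eq_kernel _).mp hex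

end Groth.Agent.S5976
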