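import Groth.Statements.S9384
import Mathlib
import Groth.Agent.Helper19.Conormal3
import Groth.Agent.S5976
import Groth.Agent.S9370
-- import your own Groth.Agent.* helpers here

set_option autoImplicit false
universe u
open OmegaSh

namespace Groth.Agent.S9384

section helpers

open AlgebraicGeometry CategoryTheory Limits TopologicalSpace
open Groth.Agent.Lib.Helper29.QCoh Groth.Agent.Helper19.OmegaD Groth.Agent.Helper19.OmegaLocal
open Groth.Agent.Helper19.OmegaAlg Groth.Agent.Helper19.Conormal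

variable {Z X S : Scheme.{u}} (f : X ⟶ S) (i : Z ⟶ X) [IsImmersion i] [QuasiCompact i]
  (g : X ⟶ Z)

/-- The basis of `Z` used for injectivity. -/
def retB : Set Z.Opens :=
  {U' | ∃ (U : X.Opens) (W : S.Opens) (V' : Z.Opens), IsAffineOpen U ∧ IsAffineOpen W ∧
    IsAffineOpen V' ∧ U ≤ i.coborderRange ∧ U ≤ f ⁻¹ᵁ W ∧ U ≤ g ⁻¹ᵁ V' ∧ V' ≤ (i ≫ f) ⁻¹ᵁ W ∧
    U' = i ⁻¹ᵁ U}

theorem isBasis_retB (hgi : i ≫ g = 𝟙 Z) : Opens.IsBasis (retB f i g) := by
  rw [Opens.isBasis_iff_nbhd]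
  intro N z hz
  obtain ⟨W, hW, hzW, -⟩ := exists_isAffineOpen_mem_and_subset (x := f (i z)) (U := ⊤) trivial
  obtain ⟨V', hV', hzV', hV'W⟩ := exists_isAffineOpen_mem_and_subset (x := z)
    (U := (i ≫ f) ⁻¹ᵁ W) (by exact hzW)
  have h2 : (i ≫ g) z = (𝟙 Z : Z ⟶ Z) z := by rw [hgi]
  have h3 : g (i z) = z := by simpa using h2
  have hzM : i z ∈ f ⁻¹ᵁ W ⊓ g ⁻¹ᵁ V' := by
    refine ⟨hzW, ?_⟩
    change g (i z) ∈ V'
    rw [h3]
    exact hzV'
  obtain ⟨U, hU, hUc, hUM, hzU, hUN⟩ := exists_cb i z N hz (f ⁻¹ᵁ W ⊓ g ⁻¹ᵁ V') hzM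
  exact ⟨i ⁻¹ᵁ U, ⟨U, W, V', hU, hW, hV', hUc, hUM.trans inf_le_left, hUM.trans inf_le_right,
    hV'W, rfl⟩, hzU, hUN⟩

end helpers

open AlgebraicGeometry CategoryTheory Limits in

open AlgebraicGeometry CategoryTheory Limits in
/-- Let i : Z → X be a quasi-compact immersion of schemes over S admitting a left inverse g : X → Z over
S. Then the canonical sequence 0 → C_{Z/X} → i^*Ω_{X/S} → Ω_{Z/S} → 0 is split exact (receptacle
form; the maps are pinned by their values on sections). (The published statement also covers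
immersions with only a local left inverse, where the sequence is locally split, and arbitrary
immersions; this row assumes a global left inverse over S and i quasi-compact. The case of a section
s of a morphism p : X → S, where Ω_{S/S} = 0 and the map C_{S/X} → s^*Ω_{X/S} is an isomorphism, is
the instance Z = S, i = s, g = p.) -/
theorem result {Z X S : Scheme.{u}} (f : X ⟶ S) (i : Z ⟶ X) [IsImmersion i] [QuasiCompact i]
    (g : X ⟶ Z) (hgi : i ≫ g = 𝟙 Z) (hgS : g ≫ i ≫ f = f)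
    (ΩX : X.Modules) (dX : OmegaSh.Der f ΩX) (hX : OmegaSh.IsUniversal dX)
    (ΩZ : Z.Modules) (dZ : OmegaSh.Der (i ≫ f) ΩZ) (hZ : OmegaSh.IsUniversal dZ)
    (φ : Omega.conormal i ⟶ (Scheme.Modules.pullback i).obj ΩX) (hφ : OmegaSh.IsConormalDiff i dX φ)
    (c : (Scheme.Modules.pullback i).obj ΩX ⟶ ΩZ) (hc : OmegaSh.IsDiffCompat i dX dZ c) :
    ∃ w : φ ≫ c = 0, (ShortComplex.mk φ c w).Exact ∧ (∃ r : (Scheme.Modules.pullback i).obj ΩX ⟶ Omega.conormal i, φ ≫ r = 𝟙 _) ∧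
      ∃ σ : ΩZ ⟶ (Scheme.Modules.pullback i).obj ΩX, σ ≫ c = 𝟙 _ := by
  have hloc : ∀ U' ∈ Groth.Agent.S5976.goodB f i, Function.Exact (φ.app U') (c.app U') := by
    rintro U' ⟨U, W, hU, hW, hUc, hUW, rfl⟩
    exact Groth.Agent.S5976.local_exact f i ΩX dX hX ΩZ dZ hZ φ hφ c hc hU hW hUc hUW
  have w : φ ≫ c = 0 := by
    apply Groth.Agent.Helper19.OmegaD.hom_ext_of_basis _ (Groth.Agent.S5976.isBasis_goodB f i)
    intro U' hU' m
    exact ((hloc U' hU') _).mpr ⟨m, rfl⟩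
  have hex : (ShortComplex.mk φ c w).Exact :=
    Groth.Agent.Helper19.OmegaD.exact_of_exact_on_basis _ (Groth.Agent.S5976.isBasis_goodB f i) _ hloc
  -- the section
  have hsec : ∃ σ : ΩZ ⟶ (Scheme.Modules.pullback i).obj ΩX, σ ≫ c = 𝟙 _ := by
    obtain ⟨cg, hcg, -⟩ := Groth.Agent.S9370.result (i ≫ f) f g (𝟙 S)
      (by rw [Category.comp_id, hgS]) ΩZ dZ hZ ΩX dX hX
    have hc' := Groth.Agent.Helper19.Conormal.isDiffCompat_comp i g dZ dX dZ cg hcg c hc
    obtain ⟨τ, hτ⟩ := Groth.Agent.Helper19.Conormal.exists_section_of_eq_id dZ hZ (i ≫ g) hgi _ hc'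
    refine ⟨τ ≫ (Scheme.Modules.pullbackComp i g).inv.app ΩZ ≫ (Scheme.Modules.pullback i).map cg, ?_⟩
    rw [← hτ]
    simp only [Category.assoc]
  -- mono
  haveI : Mono φ := by
    apply Groth.Agent.Helper19.OmegaD.mono_of_injective_on_basis φ _ (isBasis_retB f i g hgi)
    rintro U' ⟨U, W, V', hU, hW, hV', hUc, hUW, hUV', hV'W, rfl⟩
    exact Groth.Agent.Helper19.Conormal.conormalDiff_app_injective_of_retraction f i g hgi hgS dX hX
      φ hφ hU hW hV' hUc hUW hUV' hV'W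
  obtain ⟨σ, hσ⟩ := hsec
  haveI : Mono (ShortComplex.mk φ c w).f := (inferInstance : Mono φ)
  obtain ⟨r, hr⟩ := Groth.Agent.Helper19.OmegaAlg.exists_retraction_of_exact hex σ hσ
  exact ⟨w, hex, ⟨r, hr⟩, ⟨σ, hσ⟩⟩

end Groth.Agent.S9384
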