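import Groth.Statements.S9386
import Mathlib
import Groth.Agent.Helper19.OmegaD7
import Groth.Agent.Helper19.OmegaAlg
import Groth.Agent.Lib.Helper3.StalkBij
-- import your own Groth.Agent.* helpers here

set_option autoImplicit false
universe u
open OmegaSh

namespace Groth.Agent.S9386

section helpers

open CategoryTheory CategoryTheory.Limits AlgebraicGeometry TopologicalSpace
open scoped TensorProduct
open Groth.Agent.Lib.Helper29.QCoh Groth.Agent.Helper19.OmegaD Groth.Agent.Helper19.OmegaLocal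
open Groth.Agent.Helper19.OmegaAlg

variable {X S X' S' : Scheme.{u}} (f : X ⟶ S) (g : S' ⟶ S) (g' : X' ⟶ X) (f' : X' ⟶ S')
  (hsq : IsPullback g' f' f g) (Ω : X.Modules) (d : OmegaSh.Der f Ω) (hd : OmegaSh.IsUniversal d)
  (Ω' : X'.Modules) (d' : OmegaSh.Der f' Ω') (hd' : OmegaSh.IsUniversal d')
  (c : (Scheme.Modules.pullback g').obj Ω ⟶ Ω') (hc : OmegaSh.IsDiffCompat g' d d' c)

include hsq hd hd' hc in
theorem app_bijective {U : X.Opens} (hU : IsAffineOpen U) {V : S.Opens} (hV : IsAffineOpen V)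
    {V' : S'.Opens} (hV' : IsAffineOpen V') (hUV : U ≤ f ⁻¹ᵁ V) (hV'V : V' ≤ g ⁻¹ᵁ V) :
    IsAffineOpen (g' ⁻¹ᵁ U ⊓ f' ⁻¹ᵁ V') ∧ Function.Bijective (c.app (g' ⁻¹ᵁ U ⊓ f' ⁻¹ᵁ V')) := by
  have hU' : IsAffineOpen (g' ⁻¹ᵁ U ⊓ f' ⁻¹ᵁ V') := by
    have : IsAffine V := hV
    have : IsAffine V' := hV'
    have : IsAffine U := hU
    exact .of_isIso (Scheme.Hom.isPullback_resLE hsq hV'V hUV
      (UY := g' ⁻¹ᵁ U ⊓ f' ⁻¹ᵁ V') rfl).isoPullback.hom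
  refine ⟨hU', ?_⟩
  have hU'U : g' ⁻¹ᵁ U ⊓ f' ⁻¹ᵁ V' ≤ g' ⁻¹ᵁ U := inf_le_left
  have hU'V' : g' ⁻¹ᵁ U ⊓ f' ⁻¹ᵁ V' ≤ f' ⁻¹ᵁ V' := inf_le_right
  have hpo : IsPushout (f.appLE V U hUV) (g.appLE V V' hV'V)
      (g'.appLE U (g' ⁻¹ᵁ U ⊓ f' ⁻¹ᵁ V') hU'U) (f'.appLE V' (g' ⁻¹ᵁ U ⊓ f' ⁻¹ᵁ V') hU'V') :=
    (isIso_pushoutSection_iff hsq hV'V hUV rfl).mp
      (isIso_pushoutSection_of_isAffineOpen hsq hV'V hUV rfl hV hV' hU)
  letI := algΓ f hUV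
  letI := algΓ g hV'V
  letI := algΓ g' hU'U
  letI := algΓ f' hU'V'
  letI : Algebra Γ(S, V) Γ(X', g' ⁻¹ᵁ U ⊓ f' ⁻¹ᵁ V') :=
    ((algebraMap Γ(X, U) Γ(X', g' ⁻¹ᵁ U ⊓ f' ⁻¹ᵁ V')).comp (algebraMap Γ(S, V) Γ(X, U))).toAlgebra
  haveI : IsScalarTower Γ(S, V) Γ(X, U) Γ(X', g' ⁻¹ᵁ U ⊓ f' ⁻¹ᵁ V') :=
    IsScalarTower.of_algebraMap_eq' rfl
  haveI : IsScalarTower Γ(S, V) Γ(S', V') Γ(X', g' ⁻¹ᵁ U ⊓ f' ⁻¹ᵁ V') := by
    apply IsScalarTower.of_algebraMap_eq'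
    change (g'.appLE U _ hU'U).hom.comp (f.appLE V U hUV).hom =
      (f'.appLE V' _ hU'V').hom.comp (g.appLE V V' hV'V).hom
    have h1 := hpo.w
    exact congrArg (fun k => k.hom) h1
  have hpo' : Algebra.IsPushout Γ(S, V) Γ(X, U) Γ(S', V') Γ(X', g' ⁻¹ᵁ U ⊓ f' ⁻¹ᵁ V') :=
    CommRingCat.isPushout_iff_isPushout.mp hpo
  haveI : Algebra.IsPushout Γ(S, V) Γ(S', V') Γ(X, U) Γ(X', g' ⁻¹ᵁ U ⊓ f' ⁻¹ᵁ V') := hpo'.symm
  obtain ⟨P, E', hPE⟩ :=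
    exists_local_diffCompat f f' g' d hd d' hd' c hc hU hV hUV hU' hV' hU'V' hU'U
  let κ : Γ(X', g' ⁻¹ᵁ U ⊓ f' ⁻¹ᵁ V') ⊗[Γ(X, U)] Ω[Γ(X, U)⁄Γ(S, V)]
      →ₗ[Γ(X', g' ⁻¹ᵁ U ⊓ f' ⁻¹ᵁ V')] Ω[Γ(X', g' ⁻¹ᵁ U ⊓ f' ⁻¹ᵁ V')⁄Γ(S', V')] :=
    E'.toLinearMap ∘ₗ (appₗ c _) ∘ₗ P.symm.toLinearMap
  have hκ : κ = (KaehlerDifferential.tensorKaehlerEquiv Γ(S, V) Γ(S', V') Γ(X, U)
      Γ(X', g' ⁻¹ᵁ U ⊓ f' ⁻¹ᵁ V')).toLinearMap := by
    apply tensor_kaehler_ext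
    intro b' b
    rw [LinearEquiv.coe_coe, KaehlerDifferential.tensorKaehlerEquiv_tmul_D]
    exact hPE b' b
  have hκb : Function.Bijective κ := by
    rw [hκ]
    exact (KaehlerDifferential.tensorKaehlerEquiv Γ(S, V) Γ(S', V') Γ(X, U)
      Γ(X', g' ⁻¹ᵁ U ⊓ f' ⁻¹ᵁ V')).bijective
  constructor
  · intro m₁ m₂ hm
    have h1 : κ (P m₁) = κ (P m₂) := by
      change E' (c.app _ (P.symm (P m₁))) = E' (c.app _ (P.symm (P m₂)))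
      rw [LinearEquiv.symm_apply_apply, LinearEquiv.symm_apply_apply, hm]
    exact P.injective (hκb.1 h1)
  · intro n
    obtain ⟨t, ht⟩ := hκb.2 (E' n)
    exact ⟨P.symm t, E'.injective ht⟩

end helpers

open AlgebraicGeometry CategoryTheory in

open AlgebraicGeometry CategoryTheory in
/-- For a cartesian square X' = X ×_S S' with projection g' : X' → X, the canonical map g'^*Ω_{X/S} →
Ω_{X'/S'} is an isomorphism (receptacle form: Ω_{X/S}, Ω_{X'/S'} are any modules carrying universal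
derivations and the map is pinned by its values on pulled-back differentials). -/
theorem result {X S X' S' : Scheme.{u}} (f : X ⟶ S) (g : S' ⟶ S) (g' : X' ⟶ X) (f' : X' ⟶ S')
    (hsq : IsPullback g' f' f g) (Ω : X.Modules) (d : OmegaSh.Der f Ω) (hd : OmegaSh.IsUniversal d)
    (Ω' : X'.Modules) (d' : OmegaSh.Der f' Ω') (hd' : OmegaSh.IsUniversal d')
    (c : (Scheme.Modules.pullback g').obj Ω ⟶ Ω') (hc : OmegaSh.IsDiffCompat g' d d' c) : IsIso c := by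
  haveI := Groth.Agent.Helper19.OmegaD.isQuasicoherent_of_universal f d hd
  haveI := Groth.Agent.Helper19.OmegaD.isQuasicoherent_of_universal f' d' hd'
  rw [Groth.Agent.Lib.Helper29.QCoh.isIso_iff_stalkMap_bijective]
  intro x
  obtain ⟨V, hV, hxV, -⟩ :=
    exists_isAffineOpen_mem_and_subset (x := f (g' x)) (U := ⊤) trivial
  obtain ⟨U, hU, hxU, hUV⟩ :=
    exists_isAffineOpen_mem_and_subset (x := g' x) (U := f ⁻¹ᵁ V) hxV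
  have hxV' : f' x ∈ g ⁻¹ᵁ V := by
    change g (f' x) ∈ V
    rw [← Scheme.Hom.comp_apply, ← hsq.w, Scheme.Hom.comp_apply]
    exact hxV
  obtain ⟨V', hV', hxV'', hV'V⟩ :=
    exists_isAffineOpen_mem_and_subset (x := f' x) (U := g ⁻¹ᵁ V) hxV'
  obtain ⟨hU', hb⟩ := app_bijective f g g' f' hsq Ω d hd Ω' d' hd' c hc hU hV hV' hUV hV'V
  exact Groth.Agent.Lib.Helper3.stalkMap_bijective_of_app_bijective c hU' hb x ⟨hxU, hxV''⟩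

end Groth.Agent.S9386
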