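import Groth.Statements.S5974
import Mathlib
import Groth.Agent.Helper19.Conormal7
-- import your own Groth.Agent.* helpers here

set_option autoImplicit false
universe u
open CategoryTheory CategoryTheory.Limits AlgebraicGeometry TopologicalSpace Opposite
open Nrm16

namespace Groth.Agent.S5974

section helpers

open scoped TensorProduct
open Groth.Agent.Lib.Helper29.QCoh Groth.Agent.Helper19.OmegaD Groth.Agent.Helper19.OmegaLocal
open Groth.Agent.Helper19.OmegaAlg Groth.Agent.Helper19.Conormal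

variable {Y' Y X : Scheme.{u}} (f : Y ⟶ X) [IsImmersion f] [QuasiCompact f]
  (j : Y' ⟶ Y) [IsImmersion j] [QuasiCompact j]
  (φ₁ : (Scheme.Modules.pullback j).obj (Omega.conormal f) ⟶ Omega.conormal (j ≫ f))
  (hφ₁ : OmegaSh.IsConormalMap (j ≫ f) f (𝟙 X) j φ₁)
  (φ₂ : (Scheme.Modules.pullback (𝟙 Y')).obj (Omega.conormal (j ≫ f)) ⟶ Omega.conormal j)
  (hφ₂ : OmegaSh.IsConormalMap j (j ≫ f) f (𝟙 Y') φ₂)

set_option maxRecDepth 16000 in
include hφ₁ hφ₂ in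
theorem local_main {U : X.Opens} (hU : IsAffineOpen U) (hUf : U ≤ f.coborderRange)
    (hUjf : U ≤ (j ≫ f).coborderRange) (hVj : f ⁻¹ᵁ U ≤ j.coborderRange) :
    Function.Exact (φ₁.app ((j ≫ f) ⁻¹ᵁ U))
      (((Scheme.Modules.pullbackId Y').inv.app (Omega.conormal (j ≫ f)) ≫ φ₂).app
        ((j ≫ f) ⁻¹ᵁ U)) ∧
    Function.Surjective (φ₂.app ((j ≫ f) ⁻¹ᵁ U)) := by
  have hV : IsAffineOpen (f ⁻¹ᵁ U) := isAffineOpen_preimage_of_le_coborder f hU hUf
  have hW : IsAffineOpen ((j ≫ f) ⁻¹ᵁ U) := isAffineOpen_preimage_of_le_coborder (j ≫ f) hU hUjf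
  have eW : (j ≫ f) ⁻¹ᵁ U ≤ j ⁻¹ᵁ (f ⁻¹ᵁ U) := le_rfl
  have eWW : (j ≫ f) ⁻¹ᵁ U ≤ (j ≫ f) ⁻¹ᵁ U := le_rfl
  have eVV : f ⁻¹ᵁ U ≤ f ⁻¹ᵁ U := le_rfl
  have cf : IsClosedChart f hU eVV := isClosedChart_of_eq f hU hUf rfl
  have cjf : IsClosedChart (j ≫ f) hU eWW := isClosedChart_of_eq (j ≫ f) hU hUjf rfl
  have cj : IsClosedChart j hV eW := isClosedChart_of_eq j hV hVj rfl
  have hsurjf : Function.Surjective (f.app U).hom := app_surjective_of_le_coborder f hU hUf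
  have hI : f.ker.ideal ⟨U, hU⟩ = RingHom.ker (f.app U).hom := Scheme.Hom.ker_apply f ⟨U, hU⟩
  have hJ : (j ≫ f).ker.ideal ⟨U, hU⟩ =
      Ideal.comap (f.app U).hom (j.ker.ideal ⟨f ⁻¹ᵁ U, hV⟩) := by
    rw [Scheme.Hom.ker_apply (j ≫ f) ⟨U, hU⟩, Scheme.Hom.ker_apply j ⟨f ⁻¹ᵁ U, hV⟩,
      RingHom.comap_ker]
    rfl
  have hIJ : ∀ x : Γ(X, U), x ∈ f.ker.ideal ⟨U, hU⟩ → x ∈ (j ≫ f).ker.ideal ⟨U, hU⟩ := by
    intro x hx
    rw [hI, RingHom.mem_ker] at hx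
    rw [hJ, Ideal.mem_comap, hx]
    exact zero_mem _
  have hJb : ∀ y : Γ(X, U), y ∈ (j ≫ f).ker.ideal ⟨U, hU⟩ →
      (f.app U).hom y ∈ j.ker.ideal ⟨f ⁻¹ᵁ U, hV⟩ := by
    intro y hy
    rw [hJ, Ideal.mem_comap] at hy
    exact hy
  -- φ₁ on classes
  have h1 : ∀ x' : f.ker.ideal ⟨U, hU⟩,
      φ₁.app ((j ≫ f) ⁻¹ᵁ U) (res _ eW (pullSect j (Omega.conormal f) (f ⁻¹ᵁ U) (cls f hU x'))) =
        cls (j ≫ f) hU ⟨x'.1, hIJ x'.1 x'.2⟩ := by
    intro x'
    have h := conormalMap_clsV (j ≫ f) f (𝟙 X) j φ₁ hφ₁ hU hU (le_refl U) eVV eWW eW x'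
      ⟨x'.1, hIJ x'.1 x'.2⟩ (id_appLE_apply U _ x'.1).symm
    rw [clsV_self, clsV_self] at h
    exact h
  -- φ₂ on classes
  have h2 : ∀ y : (j ≫ f).ker.ideal ⟨U, hU⟩,
      φ₂.app ((j ≫ f) ⁻¹ᵁ U)
        (((Scheme.Modules.pullbackId Y').inv.app (Omega.conormal (j ≫ f))).app ((j ≫ f) ⁻¹ᵁ U)
          (cls (j ≫ f) hU y)) = clsV j hV eW ⟨(f.app U).hom y.1, hJb y.1 y.2⟩ := by
    intro y
    have h := conormalMap_clsV j (j ≫ f) f (𝟙 Y') φ₂ hφ₂ hU hV eVV eWW eW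
      (le_refl ((j ≫ f) ⁻¹ᵁ U)) y ⟨(f.app U).hom y.1, hJb y.1 y.2⟩
      (by rw [Scheme.Hom.appLE_eq_app])
    rw [clsV_self] at h
    rw [pullbackId_inv_app_app]
    refine (congrArg (fun t => φ₂.app ((j ≫ f) ⁻¹ᵁ U) t) ?_).trans h
    exact (res_self _ _).symm
  have hzero : ∀ yb : j.ker.ideal ⟨f ⁻¹ᵁ U, hV⟩, yb.1 = 0 → clsV j hV eW yb = 0 := by
    intro yb h0
    rw [clsV_eq_zero_iff hW cj, h0]
    exact zero_mem _
  refine ⟨?_, ?_⟩
  · intro m
    constructor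
    · intro hm
      obtain ⟨y, rfl⟩ := exists_clsV_eq hW cjf m
      rw [clsV_self] at hm ⊢
      have h3 : clsV j hV eW ⟨(f.app U).hom y.1, hJb y.1 y.2⟩ = 0 := by
        rw [← h2]; exact hm
      rw [clsV_eq_zero_iff hW cj] at h3
      obtain ⟨q, hq, hyq⟩ := exists_mem_sq_sub_mem_ker (f.app U).hom hsurjf
        (j.ker.ideal ⟨f ⁻¹ᵁ U, hV⟩) y.1 h3
      rw [← hJ] at hq
      rw [← hI] at hyq
      have hqJ : q ∈ (j ≫ f).ker.ideal ⟨U, hU⟩ := Ideal.pow_le_self two_ne_zero hq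
      refine ⟨res _ eW (pullSect j (Omega.conormal f) (f ⁻¹ᵁ U) (cls f hU ⟨y.1 - q, hyq⟩)), ?_⟩
      rw [h1, ← clsV_self, ← clsV_self (x := y)]
      have e1 : clsV (j ≫ f) hU eWW ⟨q, hqJ⟩ = 0 := by
        rw [clsV_eq_zero_iff hW cjf]
        exact hq
      have e2 : clsV (j ≫ f) hU eWW y =
          clsV (j ≫ f) hU eWW ⟨y.1 - q, hIJ _ hyq⟩ + clsV (j ≫ f) hU eWW ⟨q, hqJ⟩ := by
        rw [← clsV_add hW]
        congr 1
        apply Subtype.ext
        change y.1 = y.1 - q + q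
        ring
      rw [e2, e1, add_zero]
    · rintro ⟨t, rfl⟩
      have hspan := pullback_span j (Omega.conormal f) hW hV eW t
      induction hspan using Submodule.span_induction with
      | mem t ht =>
        obtain ⟨s, rfl⟩ := ht
        obtain ⟨x', rfl⟩ := exists_clsV_eq hV cf s
        rw [clsV_self]
        change φ₂.app _ (((Scheme.Modules.pullbackId Y').inv.app (Omega.conormal (j ≫ f))).app _
          (φ₁.app _ (res _ eW (pullSect j (Omega.conormal f) (f ⁻¹ᵁ U) (cls f hU x'))))) = 0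
        rw [h1, h2]
        apply hzero
        change (f.app U).hom x'.1 = 0
        have hI0 : ∀ x : Γ(X, U), x ∈ f.ker.ideal ⟨U, hU⟩ → (f.app U).hom x = 0 := by
          intro x hx
          rw [hI] at hx
          exact hx
        exact hI0 x'.1 x'.2
      | zero => rw [map_zero, map_zero]
      | add a b _ _ ha hb => rw [map_add, map_add, ha, hb, add_zero]
      | smul c a _ ha =>
        rw [Scheme.Modules.Hom.app_smul, Scheme.Modules.Hom.app_smul, ha, smul_zero]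
  · intro m
    obtain ⟨yb, rfl⟩ := exists_clsV_eq hW cj m
    obtain ⟨y, hy⟩ := hsurjf yb.1
    have hyJ : y ∈ (j ≫ f).ker.ideal ⟨U, hU⟩ := by
      rw [hJ, Ideal.mem_comap, hy]
      exact yb.2
    refine ⟨((Scheme.Modules.pullbackId Y').inv.app (Omega.conormal (j ≫ f))).app
      ((j ≫ f) ⁻¹ᵁ U) (cls (j ≫ f) hU ⟨y, hyJ⟩), ?_⟩
    rw [h2]
    exact clsV_congr _ _ hy

end helpers

/-- Let f : Y ⟶ X and j : Y' ⟶ Y be quasi-compact immersions. Let φ₁ : j^* N_{Y/X} ⟶ N_{Y'/X} and φ₂ :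
N_{Y'/X} ⟶ N_{Y'/Y} be the canonical maps of conormal sheaves (the first induced by the identity of
X, the second by f, on local sections of the ideals). Then φ₂ is an epimorphism and the image of φ₁
is the kernel of φ₂: the sequence j^* N_{Y/X} ⟶ N_{Y'/X} ⟶ N_{Y'/Y} ⟶ 0 is exact. (The published
statement allows arbitrary immersions; this row assumes them quasi-compact, the case in which the
conormal sheaves used here are those of the immersions.) -/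
theorem result {Y' Y X : Scheme.{u}} (f : Y ⟶ X) [IsImmersion f] [QuasiCompact f]
    (j : Y' ⟶ Y) [IsImmersion j] [QuasiCompact j]
    (φ₁ : (Scheme.Modules.pullback j).obj (Omega.conormal f) ⟶ Omega.conormal (j ≫ f))
    (hφ₁ : OmegaSh.IsConormalMap (j ≫ f) f (𝟙 X) j φ₁)
    (φ₂ : (Scheme.Modules.pullback (𝟙 Y')).obj (Omega.conormal (j ≫ f)) ⟶ Omega.conormal j)
    (hφ₂ : OmegaSh.IsConormalMap j (j ≫ f) f (𝟙 Y') φ₂) :
    Epi φ₂ ∧
      imageSubobject φ₁ =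
        kernelSubobject ((Scheme.Modules.pullbackId Y').inv.app (Omega.conormal (j ≫ f)) ≫ φ₂) := by
  have hB := Groth.Agent.Helper19.Conormal.isBasis_triB f j
  have hloc : ∀ W ∈ Groth.Agent.Helper19.Conormal.triB f j,
      Function.Exact (φ₁.app W)
        (((Scheme.Modules.pullbackId Y').inv.app (Omega.conormal (j ≫ f)) ≫ φ₂).app W) ∧
      Function.Surjective (φ₂.app W) := by
    rintro W ⟨U, hU, hUf, hUjf, hVj, rfl⟩
    exact local_main f j φ₁ hφ₁ φ₂ hφ₂ hU hUf hUjf hVj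
  constructor
  · apply Groth.Agent.Helper19.OmegaD.epi_of_surjective_on_basis φ₂ _ hB
    intro W hW
    exact (hloc W hW).2
  · have w : φ₁ ≫ ((Scheme.Modules.pullbackId Y').inv.app (Omega.conormal (j ≫ f)) ≫ φ₂) = 0 := by
      apply Groth.Agent.Helper19.OmegaD.hom_ext_of_basis _ hB
      intro W hW m
      exact (((hloc W hW).1) _).mpr ⟨m, rfl⟩
    have hex : (ShortComplex.mk φ₁ _ w).Exact :=
      Groth.Agent.Helper19.OmegaD.exact_of_exact_on_basis _ hB _ (fun W hW => (hloc W hW).1)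
    exact (ShortComplex.exact_iff_image_eq_kernel _).mp hex

end Groth.Agent.S5974
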