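import Groth.Statements.S8919
import Mathlib
import Groth.Agent.Helper19.Conormal8
import Groth.Agent.S5974
-- import your own Groth.Agent.* helpers here

set_option autoImplicit false
universe u
open CategoryTheory CategoryTheory.Limits AlgebraicGeometry TopologicalSpace
open SDiv

namespace Groth.Agent.S8919

section helpers

open Opposite
open scoped TensorProduct
open Groth.Agent.Lib.Helper29.QCoh Groth.Agent.Helper19.OmegaD Groth.Agent.Helper19.OmegaLocal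
open Groth.Agent.Helper19.OmegaAlg Groth.Agent.Helper19.Conormal

theorem finite_projective_of_h1 {B C : Type u} [CommRing B] [CommRing C] [Algebra B C]
    (I : Ideal B) (hI : RingHom.ker (algebraMap B C) = I)
    (hBC : Function.Surjective (algebraMap B C)) {r : ℕ} (f : Fin r → B)
    (hK : I = Ideal.span (Set.range f)) (hf : CAlgX.IsH1Regular f) :
    Module.Finite C (C ⊗[B] I) ∧ Module.Projective C (C ⊗[B] I) := by
  subst hI
  obtain ⟨e⟩ := exists_linearEquiv_of_h1 hBC f hK hf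
  exact ⟨Module.Finite.equiv e, Module.Projective.of_equiv e⟩

variable {Z Y X : Scheme.{u}} (i : Z ⟶ Y) (j : Y ⟶ X) [IsImmersion i] [IsImmersion j]
  [QuasiCompact i] [QuasiCompact j]
  (a : (Scheme.Modules.pullback i).obj (Omega.conormal j) ⟶ Omega.conormal (i ≫ j))
  (ha : OmegaSh.IsConormalMap (i ≫ j) j (𝟙 X) i a)

/-- A chart adapted to an `H_1`-regular immersion `i` followed by `j`. -/
structure H1Chart (U : X.Opens) : Prop where
  hU : IsAffineOpen U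
  hUj : U ≤ j.coborderRange
  hUij : U ≤ (i ≫ j).coborderRange
  hVi : j ⁻¹ᵁ U ≤ i.coborderRange
  hV : IsAffineOpen (j ⁻¹ᵁ U)
  h1 : ∃ (r : ℕ) (fb : Fin r → Γ(Y, j ⁻¹ᵁ U)), CAlgX.IsH1Regular fb ∧
    i.ker.ideal ⟨j ⁻¹ᵁ U, hV⟩ = Ideal.span (Set.range fb)

theorem exists_h1Chart (hi : RegImm.IsRegularImmersion RegImm.Kind.h1 i) (z : Z) (N : Z.Opens)
    (hz : z ∈ N) : ∃ U : X.Opens, H1Chart i j U ∧ z ∈ (i ≫ j) ⁻¹ᵁ U ∧ (i ≫ j) ⁻¹ᵁ U ≤ N := by
  obtain ⟨UY, hizU, -, rs, hrs, hker⟩ := hi.2 z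
  have hrs' : CAlgX.IsH1Regular rs.get := hrs
  obtain ⟨G', hG'o, hG'⟩ := j.isEmbedding.isInducing.isOpen_iff.mp (i.coborderRange ⊓ UY.1).2
  have hiz : i z ∈ i.coborderRange := subset_coborder ⟨z, rfl⟩
  have hmem : (i ≫ j) z ∈ (⟨G', hG'o⟩ : X.Opens) ⊓ j.coborderRange := by
    refine ⟨?_, subset_coborder ⟨i z, rfl⟩⟩
    have : i z ∈ (j : Y → X) ⁻¹' G' := by rw [hG']; exact ⟨hiz, hizU⟩
    exact this
  obtain ⟨U, hU, hUc, hUM, hzU, hUN⟩ := exists_cb (i ≫ j) z N hz _ hmem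
  have hUj : U ≤ j.coborderRange := hUM.trans inf_le_right
  have hV : IsAffineOpen (j ⁻¹ᵁ U) := isAffineOpen_preimage_of_le_coborder j hU hUj
  have hVG : ∀ y : Y, y ∈ j ⁻¹ᵁ U → y ∈ i.coborderRange ⊓ UY.1 := by
    intro y hy
    have h1 : j y ∈ G' := (hUM hy).1
    have : y ∈ (j : Y → X) ⁻¹' G' := h1
    rw [hG'] at this
    exact this
  have hVU : j ⁻¹ᵁ U ≤ UY.1 := fun y hy => (hVG y hy).2
  have hVi : j ⁻¹ᵁ U ≤ i.coborderRange := fun y hy => (hVG y hy).1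
  have e : j ⁻¹ᵁ U ≤ (𝟙 Y) ⁻¹ᵁ UY.1 := hVU
  refine ⟨U, ⟨hU, hUj, hUc, hVi, hV, rs.length,
    fun k => ((𝟙 Y : Y ⟶ Y).appLE UY.1 (j ⁻¹ᵁ U) e).hom (rs.get k), ?_, ?_⟩, hzU, hUN⟩
  · letI := algΓ (𝟙 Y) e
    haveI : Module.Flat Γ(Y, UY.1) Γ(Y, j ⁻¹ᵁ U) :=
      HasRingHomProperty.appLE (P := @Flat) (𝟙 Y) inferInstance UY ⟨j ⁻¹ᵁ U, hV⟩ e
    exact isH1Regular_of_flat rs.get hrs'
  · have h1 := i.ker.map_ideal (U := ⟨j ⁻¹ᵁ U, hV⟩) (V := UY) hVU
    rw [← h1, Scheme.Hom.ker_apply i UY, hker, Ideal.ofList, Ideal.map_span]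
    congr 1
    ext y
    constructor
    · rintro ⟨x, hx, rfl⟩
      obtain ⟨k, rfl⟩ := List.mem_iff_get.mp hx
      exact ⟨k, rfl⟩
    · rintro ⟨k, rfl⟩
      exact ⟨rs.get k, List.get_mem _ _, rfl⟩

set_option maxRecDepth 16000 in
include ha in
theorem local_h1 {U : X.Opens} (hc : H1Chart i j U) :
    Function.Injective (a.app ((i ≫ j) ⁻¹ᵁ U)) ∧
    Module.Finite Γ(Z, (i ≫ j) ⁻¹ᵁ U) Γ(Omega.conormal i, (i ≫ j) ⁻¹ᵁ U) ∧
    Module.Projective Γ(Z, (i ≫ j) ⁻¹ᵁ U) Γ(Omega.conormal i, (i ≫ j) ⁻¹ᵁ U) := by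
  obtain ⟨hU, hUj, hUij, hVi, hV, r, fb, hfb, hIfb⟩ := hc
  have hW : IsAffineOpen ((i ≫ j) ⁻¹ᵁ U) := isAffineOpen_preimage_of_le_coborder (i ≫ j) hU hUij
  have eW : (i ≫ j) ⁻¹ᵁ U ≤ i ⁻¹ᵁ (j ⁻¹ᵁ U) := le_rfl
  have eWW : (i ≫ j) ⁻¹ᵁ U ≤ (i ≫ j) ⁻¹ᵁ U := le_rfl
  have eVV : j ⁻¹ᵁ U ≤ j ⁻¹ᵁ U := le_rfl
  have cj : IsClosedChart j hU eVV := isClosedChart_of_eq j hU hUj rfl
  have cij : IsClosedChart (i ≫ j) hU eWW := isClosedChart_of_eq (i ≫ j) hU hUij rfl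
  have ci : IsClosedChart i hV eW := isClosedChart_of_eq i hV hVi rfl
  have hsurjj : Function.Surjective (j.app U).hom := app_surjective_of_le_coborder j hU hUj
  have hsurjij : Function.Surjective ((i ≫ j).app U).hom :=
    app_surjective_of_le_coborder (i ≫ j) hU hUij
  have hI : j.ker.ideal ⟨U, hU⟩ = RingHom.ker (j.app U).hom := Scheme.Hom.ker_apply j ⟨U, hU⟩
  have hJ : (i ≫ j).ker.ideal ⟨U, hU⟩ =
      Ideal.comap (j.app U).hom (i.ker.ideal ⟨j ⁻¹ᵁ U, hV⟩) := by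
    rw [Scheme.Hom.ker_apply (i ≫ j) ⟨U, hU⟩, Scheme.Hom.ker_apply i ⟨j ⁻¹ᵁ U, hV⟩,
      RingHom.comap_ker]
    rfl
  have hIJ : ∀ x : Γ(X, U), x ∈ j.ker.ideal ⟨U, hU⟩ → x ∈ (i ≫ j).ker.ideal ⟨U, hU⟩ := by
    intro x hx
    rw [hI, RingHom.mem_ker] at hx
    rw [hJ, Ideal.mem_comap, hx]
    exact zero_mem _
  have hJ0 : ∀ z : Γ(X, U), z ∈ (i ≫ j).ker.ideal ⟨U, hU⟩ → ((i ≫ j).app U).hom z = 0 := by
    intro z hz
    rw [Scheme.Hom.ker_apply (i ≫ j) ⟨U, hU⟩, RingHom.mem_ker] at hz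
    exact hz
  -- a on classes
  have h1 : ∀ x' : j.ker.ideal ⟨U, hU⟩,
      a.app ((i ≫ j) ⁻¹ᵁ U) (res _ eW (pullSect i (Omega.conormal j) (j ⁻¹ᵁ U) (cls j hU x'))) =
        cls (i ≫ j) hU ⟨x'.1, hIJ x'.1 x'.2⟩ := by
    intro x'
    have h := conormalMap_clsV (i ≫ j) j (𝟙 X) i a ha hU hU (le_refl U) eVV eWW eW x'
      ⟨x'.1, hIJ x'.1 x'.2⟩ (id_appLE_apply U _ x'.1).symm
    rw [clsV_self, clsV_self] at h
    exact h
  -- lifts of the sequence
  choose f hf using fun k => hsurjj (fb k)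
  have hfb' : CAlgX.IsH1Regular (fun k => (j.app U).hom (f k)) := by
    have : (fun k => (j.app U).hom (f k)) = fb := funext hf
    rw [this]; exact hfb
  have hJsup : (i ≫ j).ker.ideal ⟨U, hU⟩ =
      RingHom.ker (j.app U).hom ⊔ Ideal.span (Set.range f) := by
    rw [hJ, hIfb]
    have : Ideal.span (Set.range fb) = Ideal.map (j.app U).hom (Ideal.span (Set.range f)) := by
      rw [Ideal.map_span, ← Set.range_comp]
      congr 2
      exact (funext hf).symm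
    rw [this, Ideal.comap_map_of_surjective _ hsurjj, ← RingHom.ker_eq_comap_bot, sup_comm]
  -- generation of the pullback by single classes
  have hgen : ∀ t : Γ((Scheme.Modules.pullback i).obj (Omega.conormal j), (i ≫ j) ⁻¹ᵁ U),
      ∃ x : j.ker.ideal ⟨U, hU⟩,
        t = res _ eW (pullSect i (Omega.conormal j) (j ⁻¹ᵁ U) (cls j hU x)) := by
    intro t
    have hspan := pullback_span i (Omega.conormal j) hW hV eW t
    induction hspan using Submodule.span_induction with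
    | mem t ht =>
      obtain ⟨s, rfl⟩ := ht
      obtain ⟨x, rfl⟩ := exists_clsV_eq hV cj s
      exact ⟨x, by rw [clsV_self]⟩
    | zero =>
      refine ⟨0, ?_⟩
      have : cls j hU 0 = 0 := by
        rw [← clsV_self, clsV_eq_zero_iff hV cj]
        exact zero_mem _
      rw [this, map_zero, map_zero]
    | add t₁ t₂ _ _ h₁ h₂ =>
      obtain ⟨x₁, rfl⟩ := h₁
      obtain ⟨x₂, rfl⟩ := h₂
      refine ⟨x₁ + x₂, ?_⟩
      rw [← clsV_self, ← clsV_self, ← clsV_self, clsV_add hV, map_add, map_add]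
    | smul c t _ h =>
      obtain ⟨x, rfl⟩ := h
      obtain ⟨α, rfl⟩ := hsurjij c
      refine ⟨α • x, ?_⟩
      rw [← clsV_self, ← clsV_self, clsV_smul hV, pullSect_smul, res_smul]
      congr 1
      have h2 : (j.appLE U (j ⁻¹ᵁ U) eVV).hom α = (j.app U).hom α := by
        rw [Scheme.Hom.appLE_eq_app]
      rw [h2]
      have h3 : Z.presheaf.map (homOfLE eW).op = 𝟙 _ := Z.presheaf.map_id _
      rw [h3]
      rfl
  -- vanishing of classes of products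
  have hprod : ∀ x : Γ(X, U), x ∈ RingHom.ker (j.app U).hom * (i ≫ j).ker.ideal ⟨U, hU⟩ →
      ∃ hx : x ∈ j.ker.ideal ⟨U, hU⟩,
        res _ eW (pullSect i (Omega.conormal j) (j ⁻¹ᵁ U) (cls j hU ⟨x, hx⟩)) = 0 := by
    intro x hx
    induction hx using Submodule.mul_induction_on' with
    | mem_mul_mem y hy z hz =>
      have hyI : y ∈ j.ker.ideal ⟨U, hU⟩ := by rw [hI]; exact hy
      have hyz : y * z ∈ j.ker.ideal ⟨U, hU⟩ := Ideal.mul_mem_right _ _ hyI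
      refine ⟨hyz, ?_⟩
      have e1 : (⟨y * z, hyz⟩ : j.ker.ideal ⟨U, hU⟩) = z • ⟨y, hyI⟩ := by
        apply Subtype.ext
        change y * z = z * y
        ring
      rw [e1, ← clsV_self, clsV_smul hV, pullSect_smul, res_smul]
      have h2 : (j.appLE U (j ⁻¹ᵁ U) eVV).hom z = (j.app U).hom z := by
        rw [Scheme.Hom.appLE_eq_app]
      rw [h2]
      have h3 : (i.app (j ⁻¹ᵁ U)).hom ((j.app U).hom z) = 0 := hJ0 z hz
      rw [h3, map_zero, zero_smul]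
    | add x₁ _ x₂ _ h₁ h₂ =>
      obtain ⟨hx₁, e₁⟩ := h₁
      obtain ⟨hx₂, e₂⟩ := h₂
      refine ⟨add_mem hx₁ hx₂, ?_⟩
      have e1 : (⟨x₁ + x₂, add_mem hx₁ hx₂⟩ : j.ker.ideal ⟨U, hU⟩) = ⟨x₁, hx₁⟩ + ⟨x₂, hx₂⟩ := rfl
      rw [e1, ← clsV_self, clsV_add hV, map_add, map_add, clsV_self, clsV_self, e₁, e₂, add_zero]
  refine ⟨?_, ?_⟩
  · rw [injective_iff_map_eq_zero]
    intro t ht
    obtain ⟨x, rfl⟩ := hgen t
    rw [h1, ← clsV_self, clsV_eq_zero_iff hW cij] at ht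
    have hxK : x.1 ∈ RingHom.ker (j.app U).hom := by rw [← hI]; exact x.2
    have h2 := mem_mul_of_mem_inter_sq (j.app U).hom hsurjj f hfb' _ hJsup x.1 hxK ht
    obtain ⟨hx, e⟩ := hprod x.1 h2
    exact e
  · letI := (i.appLE (j ⁻¹ᵁ U) ((i ≫ j) ⁻¹ᵁ U) eW).hom.toAlgebra
    have hfp := finite_projective_of_h1 (B := Γ(Y, j ⁻¹ᵁ U)) (C := Γ(Z, (i ≫ j) ⁻¹ᵁ U))
      (i.ker.ideal ⟨j ⁻¹ᵁ U, hV⟩) ci.2 ci.1 fb hIfb hfb
    haveI := hfp.1
    haveI := hfp.2
    let Q := conormalSectionsEquiv i hV hW eW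
    exact ⟨Module.Finite.equiv Q.symm, Module.Projective.of_equiv Q.symm⟩

end helpers

/-- Let i : Z ⟶ Y and j : Y ⟶ X be quasi-compact immersions of schemes with i an H_1-regular immersion,
and let a : i^*C_{Y/X} ⟶ C_{Z/X} and b : C_{Z/X} ⟶ C_{Z/Y} be the canonical maps of conormal
sheaves. Then the canonical sequence 0 → i^*C_{Y/X} → C_{Z/X} → C_{Z/Y} → 0 is exact and locally
split; here local splitting is recorded through C_{Z/Y} being finite locally free. The published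
statement allows arbitrary immersions; this row takes both immersions quasi-compact, the case in
which the conormal sheaves used here are those of the immersions. -/
theorem result {Z Y X : Scheme.{u}} (i : Z ⟶ Y) (j : Y ⟶ X) [IsImmersion i] [IsImmersion j]
    [QuasiCompact i] [QuasiCompact j]
    (a : (Scheme.Modules.pullback i).obj (Omega.conormal j) ⟶ Omega.conormal (i ≫ j))
    (ha : OmegaSh.IsConormalMap (i ≫ j) j (𝟙 X) i a)
    (b : (Scheme.Modules.pullback (𝟙 Z)).obj (Omega.conormal (i ≫ j)) ⟶ Omega.conormal i)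
    (hb : OmegaSh.IsConormalMap i (i ≫ j) j (𝟙 Z) b)
    (hi : RegImm.IsRegularImmersion RegImm.Kind.h1 i) :
    a ≫ ((Scheme.Modules.pullbackId Z).inv.app (Omega.conormal (i ≫ j)) ≫ b) = 0 ∧
      (∀ w : a ≫ ((Scheme.Modules.pullbackId Z).inv.app (Omega.conormal (i ≫ j)) ≫ b) = 0, (ShortComplex.mk a ((Scheme.Modules.pullbackId Z).inv.app (Omega.conormal (i ≫ j)) ≫ b) w).ShortExact) ∧
      FlatMod.IsFinLocFree (Omega.conormal i) := by
  open Groth.Agent.Lib.Helper29.QCoh Groth.Agent.Helper19.Conormal in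
  have hB := Groth.Agent.Helper19.Conormal.isBasis_triB j i
  have hloc : ∀ W ∈ Groth.Agent.Helper19.Conormal.triB j i,
      Function.Exact (a.app W)
        (((Scheme.Modules.pullbackId Z).inv.app (Omega.conormal (i ≫ j)) ≫ b).app W) ∧
      Function.Surjective (b.app W) := by
    rintro W ⟨U, hU, hUf, hUjf, hVj, rfl⟩
    exact Groth.Agent.S5974.local_main j i a ha b hb hU hUf hUjf hVj
  have w : a ≫ ((Scheme.Modules.pullbackId Z).inv.app (Omega.conormal (i ≫ j)) ≫ b) = 0 := by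
    apply Groth.Agent.Helper19.OmegaD.hom_ext_of_basis _ hB
    intro W hW m
    exact (((hloc W hW).1) _).mpr ⟨m, rfl⟩
  -- the H1 charts
  have hB1 : Opens.IsBasis {W : Z.Opens | ∃ U : X.Opens, H1Chart i j U ∧ W = (i ≫ j) ⁻¹ᵁ U} := by
    rw [Opens.isBasis_iff_nbhd]
    intro N z hz
    obtain ⟨U, hc, hzU, hUN⟩ := exists_h1Chart i j hi z N hz
    exact ⟨_, ⟨U, hc, rfl⟩, hzU, hUN⟩
  have hmono : Mono a := by
    apply Groth.Agent.Helper19.OmegaD.mono_of_injective_on_basis a _ hB1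
    rintro W ⟨U, hc, rfl⟩
    exact (local_h1 i j a ha hc).1
  have hepib : Epi b := by
    apply Groth.Agent.Helper19.OmegaD.epi_of_surjective_on_basis b _ hB
    intro W hW
    exact (hloc W hW).2
  refine ⟨w, ?_, ?_⟩
  · intro w'
    have hex : (ShortComplex.mk a _ w').Exact :=
      Groth.Agent.Helper19.OmegaD.exact_of_exact_on_basis _ hB _ (fun W hW => (hloc W hW).1)
    have hepi : Epi ((Scheme.Modules.pullbackId Z).inv.app (Omega.conormal (i ≫ j)) ≫ b) :=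
      epi_comp _ _
    exact { exact := hex, mono_f := hmono, epi_g := hepi }
  · haveI := Groth.Agent.Helper19.Conormal.isQuasicoherent_conormal i
    refine isFinLocFree_of_finite_projective_sections (Omega.conormal i)
      (fun U : {U : X.Opens // H1Chart i j U} => (i ≫ j) ⁻¹ᵁ U.1) ?_ ?_ ?_ ?_
    · rw [IsOpenCover, eq_top_iff]
      intro z _
      obtain ⟨U, hc, hzU, -⟩ := exists_h1Chart i j hi z ⊤ trivial
      exact Opens.mem_iSup.mpr ⟨⟨U, hc⟩, hzU⟩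
    · intro U
      exact isAffineOpen_preimage_of_le_coborder (i ≫ j) U.2.hU U.2.hUij
    · intro U
      exact (local_h1 i j a ha U.2).2.1
    · intro U
      exact (local_h1 i j a ha U.2).2.2

end Groth.Agent.S8919
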