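import Groth.Statements.S8679
import Mathlib
import Groth.Agent.S8919
import Groth.Agent.Lib.Helper1.KoszulLow
-- import your own Groth.Agent.* helpers here

set_option autoImplicit false
universe u
open CategoryTheory CategoryTheory.Limits AlgebraicGeometry
open RegImm

namespace Groth.Agent.S8679

section helpers

open Groth.Agent.Lib.Helper1.KoszulLow

theorem isH1Regular_of_isKoszulRegularSeq {R : Type u} [CommRing R] (l : List R)
    (h : LCI.IsKoszulRegularSeq R l) : CAlgX.IsH1Regular l.get := by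
  intro a ha
  have h1 := rel_mem_kosz l (h (-1) (by norm_num)) a ha
  refine (Submodule.span_le.2 ?_ : kosz (fun i => l.get i) ≤ _) h1
  rintro _ ⟨i, j, rfl⟩
  refine Submodule.subset_span ⟨j, i, ?_⟩
  funext k
  simp only [Pi.sub_apply, Pi.smul_apply, Pi.single_apply, smul_eq_mul]
  split_ifs <;> simp

theorem h1_of_koszul {Z X : Scheme.{u}} (i : Z ⟶ X)
    (h : RegImm.IsRegularImmersion .koszul i) : RegImm.IsRegularImmersion .h1 i := by
  refine ⟨h.1, fun z => ?_⟩
  obtain ⟨U, hz, hcl, rs, hrs, hker⟩ := h.2 z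
  exact ⟨U, hz, hcl, rs, isH1Regular_of_isKoszulRegularSeq rs hrs, hker⟩

end helpers

/-- Let i : Y ⟶ X and j : Z ⟶ Y be Koszul-regular closed immersions and let φ₁ : j^* N_{Y/X} ⟶ N_{Z/X},
φ₂ : N_{Z/X} ⟶ N_{Z/Y} be the canonical maps between conormal sheaves (pinned by their values on
classes of local sections of the ideals). Then the composite is zero and 0 → j^* N_{Y/X} → N_{Z/X} →
N_{Z/Y} → 0 is short exact. (The published statement allows arbitrary immersions; this row takes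
closed immersions.) -/
theorem result {X Y Z : Scheme.{u}}
    (i : Y ⟶ X) [IsClosedImmersion i] (j : Z ⟶ Y) [IsClosedImmersion j]
    (hi : RegImm.IsRegularImmersion .koszul i) (hj : RegImm.IsRegularImmersion .koszul j)
    (φ₁ : (Scheme.Modules.pullback j).obj (Omega.conormal i) ⟶ Omega.conormal (j ≫ i))
    (hφ₁ : OmegaSh.IsConormalMap (j ≫ i) i (𝟙 X) j φ₁)
    (φ₂ : (Scheme.Modules.pullback (𝟙 Z)).obj (Omega.conormal (j ≫ i)) ⟶ Omega.conormal j)
    (hφ₂ : OmegaSh.IsConormalMap j (j ≫ i) i (𝟙 Z) φ₂) :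
    ∃ w : φ₁ ≫ ((Scheme.Modules.pullbackId Z).inv.app (Omega.conormal (j ≫ i)) ≫ φ₂) = 0,
      (ShortComplex.mk φ₁ ((Scheme.Modules.pullbackId Z).inv.app (Omega.conormal (j ≫ i)) ≫ φ₂) w).ShortExact := by
  obtain ⟨w, hse, -⟩ := Groth.Agent.S8919.result j i φ₁ hφ₁ φ₂ hφ₂ (h1_of_koszul j hj)
  exact ⟨w, hse w⟩

end Groth.Agent.S8679
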