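import Groth.Statements.S9375
import Mathlib
import Groth.Agent.Helper19.Conormal6
-- import your own Groth.Agent.* helpers here

set_option autoImplicit false
universe u
open OmegaSh

namespace Groth.Agent.S9375

section helpers

open AlgebraicGeometry CategoryTheory Limits TopologicalSpace
open scoped TensorProduct
open Groth.Agent.Lib.Helper29.QCoh Groth.Agent.Helper19.OmegaD Groth.Agent.Helper19.OmegaLocal
open Groth.Agent.Helper19.OmegaAlg Groth.Agent.Helper19.Conormal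

variable {Z X Y : Scheme.{u}} (p : X ⟶ Y) (i : Z ⟶ X) (j : Z ⟶ Y) [IsImmersion i] [IsImmersion j]
  [QuasiCompact i] [QuasiCompact j] (hij : i ≫ p = j)
  (Ω : X.Modules) (d : OmegaSh.Der p Ω) (hd : OmegaSh.IsUniversal d)
  (ψ : (Scheme.Modules.pullback (𝟙 Z)).obj (Omega.conormal j) ⟶ Omega.conormal i)
  (hψ : OmegaSh.IsConormalMap i j p (𝟙 Z) ψ)
  (φ : Omega.conormal i ⟶ (Scheme.Modules.pullback i).obj Ω) (hφ : OmegaSh.IsConormalDiff i d φ)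

set_option maxRecDepth 16000 in
include hij hd hψ hφ in
theorem local_main {UX : X.Opens} {UY : Y.Opens} (hUX : IsAffineOpen UX) (hUY : IsAffineOpen UY)
    (hUXc : UX ≤ i.coborderRange) (hUYc : UY ≤ j.coborderRange) (hUXY : UX ≤ p ⁻¹ᵁ UY)
    (hJI : j ⁻¹ᵁ UY ≤ i ⁻¹ᵁ UX) :
    (∀ m', φ.app (i ⁻¹ᵁ UX) (ψ.app (i ⁻¹ᵁ UX) m') = 0) ∧
    (∀ m, φ.app (i ⁻¹ᵁ UX) m = 0 → ∃ m', ψ.app (i ⁻¹ᵁ UX) m' = m) ∧
    Function.Surjective (φ.app (i ⁻¹ᵁ UX)) := by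
  have hV : IsAffineOpen (i ⁻¹ᵁ UX) := isAffineOpen_preimage_of_le_coborder i hUX hUXc
  have hUU : i ⁻¹ᵁ UX ≤ i ⁻¹ᵁ UX := le_rfl
  have eJ := le_preimage_right hUXY hij
  have hVY := le_comp_preimage p i hUU hUXY
  letI := algΓ p hUXY
  letI := algΓ (i ≫ p) hVY
  letI := algΓ i hUU
  haveI := isScalarTower_tri p i hUU hUXY
  have hAB : Function.Surjective (algebraMap Γ(X, UX) Γ(Z, i ⁻¹ᵁ UX)) :=
    algebraMap_surjective_of_le_coborder i hUX hUXc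
  have hK : RingHom.ker (algebraMap Γ(X, UX) Γ(Z, i ⁻¹ᵁ UX)) = i.ker.ideal ⟨UX, hUX⟩ :=
    ker_algebraMap_eq i hUX
  have hcr := isClosedChart_right hUY hUYc hUXY hJI hij
  have hRBeq : algebraMap Γ(Y, UY) Γ(Z, i ⁻¹ᵁ UX) = (j.appLE UY (i ⁻¹ᵁ UX) eJ).hom := by
    change ((i ≫ p).appLE UY (i ⁻¹ᵁ UX) hVY).hom = _
    rw [appLE_congr hij hVY eJ]
  have hRB : Function.Surjective (algebraMap Γ(Y, UY) Γ(Z, i ⁻¹ᵁ UX)) := by
    rw [hRBeq]; exact hcr.1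
  have hK' : RingHom.ker (algebraMap Γ(Y, UY) Γ(Z, i ⁻¹ᵁ UX)) = j.ker.ideal ⟨UY, hUY⟩ := by
    rw [hRBeq]; exact hcr.2
  obtain ⟨P, Q, hP, -⟩ := exists_local_conormalDiff p i d hd φ hφ hUX hUY hUXc hUXY
  have hPφ : ∀ x : i.ker.ideal ⟨UX, hUX⟩, P (φ.app (i ⁻¹ᵁ UX) (cls i hUX x)) =
      (1 : Γ(Z, i ⁻¹ᵁ UX)) ⊗ₜ[Γ(X, UX)] KaehlerDifferential.D Γ(Y, UY) Γ(X, UX) x.1 := by
    intro x
    rw [conormalDiff_cls i hUX d φ hφ x]
    exact hP x.1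
  have hcl := isClosedChart_left hUX hUXc
  have hρ : ∀ x' : j.ker.ideal ⟨UY, hUY⟩,
      algebraMap Γ(Y, UY) Γ(X, UX) x'.1 ∈ i.ker.ideal ⟨UX, hUX⟩ := by
    intro x'
    rw [← hK]
    apply algebraMap_mem_ker_of_mem_ker
    rw [hK']
    exact x'.2
  have hψcls : ∀ x' : j.ker.ideal ⟨UY, hUY⟩,
      ψ.app (i ⁻¹ᵁ UX) (((Scheme.Modules.pullbackId Z).inv.app (Omega.conormal j)).app (i ⁻¹ᵁ UX)
        (clsV j hUY eJ x')) = cls i hUX ⟨algebraMap Γ(Y, UY) Γ(X, UX) x'.1, hρ x'⟩ := fun x' =>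
    conormalMap_pbId_inv_clsV hUX hUY hUXY hij ψ hψ x' ⟨_, hρ x'⟩ rfl
  refine ⟨?_, ?_, ?_⟩
  · intro m'
    obtain ⟨x', rfl⟩ := exists_pbId_inv_clsV hUX hUY hUXc hUYc hUXY hJI hij m'
    rw [hψcls]
    apply P.injective
    rw [hPφ, map_zero]
    change (1 : Γ(Z, i ⁻¹ᵁ UX)) ⊗ₜ[Γ(X, UX)]
      KaehlerDifferential.D Γ(Y, UY) Γ(X, UX) (algebraMap Γ(Y, UY) Γ(X, UX) x'.1) = 0
    rw [Derivation.map_algebraMap, TensorProduct.tmul_zero]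
  · intro m hm
    obtain ⟨x, rfl⟩ := exists_clsV_eq hV hcl m
    rw [clsV_self] at hm
    have h1 : (1 : Γ(Z, i ⁻¹ᵁ UX)) ⊗ₜ[Γ(X, UX)]
        KaehlerDifferential.D Γ(Y, UY) Γ(X, UX) x.1 = 0 := by
      rw [← hPφ, hm, map_zero]
    have hxK : x.1 ∈ RingHom.ker (algebraMap Γ(X, UX) Γ(Z, i ⁻¹ᵁ UX)) := by
      rw [hK]; exact x.2
    obtain ⟨k', hk', hkk'⟩ := exists_of_one_tmul_D_eq_zero hAB hRB x.1 hxK h1
    have hk'I : k' ∈ j.ker.ideal ⟨UY, hUY⟩ := by rw [← hK']; exact hk'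
    refine ⟨((Scheme.Modules.pullbackId Z).inv.app (Omega.conormal j)).app (i ⁻¹ᵁ UX)
      (clsV j hUY eJ ⟨k', hk'I⟩), ?_⟩
    rw [hψcls, ← clsV_self]
    have e1 : clsV i hUX hUU (x - ⟨algebraMap Γ(Y, UY) Γ(X, UX) k', hρ ⟨k', hk'I⟩⟩) = 0 := by
      rw [clsV_eq_zero_iff hV hcl]
      have hsq : ∀ y : Γ(X, UX), y ∈ RingHom.ker (algebraMap Γ(X, UX) Γ(Z, i ⁻¹ᵁ UX)) ^ 2 →
          y ∈ (i.ker.ideal ⟨UX, hUX⟩) ^ 2 := by
        intro y hy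
        rw [← hK]; exact hy
      exact hsq _ hkk'
    have e2 : clsV i hUX hUU x =
        clsV i hUX hUU ⟨algebraMap Γ(Y, UY) Γ(X, UX) k', hρ ⟨k', hk'I⟩⟩ +
          clsV i hUX hUU (x - ⟨algebraMap Γ(Y, UY) Γ(X, UX) k', hρ ⟨k', hk'I⟩⟩) := by
      rw [← clsV_add hV]
      congr 1
      abel
    rw [e2, e1, add_zero]
  · intro n
    let N : Submodule Γ(Z, i ⁻¹ᵁ UX) (Γ(Z, i ⁻¹ᵁ UX) ⊗[Γ(X, UX)] Ω[Γ(X, UX)⁄Γ(Y, UY)]) :=
      LinearMap.range (P.toLinearMap ∘ₗ appₗ φ (i ⁻¹ᵁ UX))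
    have hD : ∀ a : Γ(X, UX), (1 : Γ(Z, i ⁻¹ᵁ UX)) ⊗ₜ[Γ(X, UX)]
        KaehlerDifferential.D Γ(Y, UY) Γ(X, UX) a ∈ N := by
      intro a
      obtain ⟨r, hr⟩ := hRB (algebraMap Γ(X, UX) Γ(Z, i ⁻¹ᵁ UX) a)
      have hk : a - algebraMap Γ(Y, UY) Γ(X, UX) r ∈
          RingHom.ker (algebraMap Γ(X, UX) Γ(Z, i ⁻¹ᵁ UX)) := by
        rw [RingHom.mem_ker, map_sub, ← IsScalarTower.algebraMap_apply, hr, sub_self]
      have hkI : a - algebraMap Γ(Y, UY) Γ(X, UX) r ∈ i.ker.ideal ⟨UX, hUX⟩ := by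
        rw [← hK]; exact hk
      refine ⟨cls i hUX ⟨_, hkI⟩, ?_⟩
      change P (φ.app (i ⁻¹ᵁ UX) (cls i hUX ⟨_, hkI⟩)) = _
      rw [hPφ]
      change (1 : Γ(Z, i ⁻¹ᵁ UX)) ⊗ₜ[Γ(X, UX)]
        KaehlerDifferential.D Γ(Y, UY) Γ(X, UX) (a - algebraMap Γ(Y, UY) Γ(X, UX) r) = _
      rw [map_sub, Derivation.map_algebraMap, sub_zero]
    have h1 : ∀ ω : Ω[Γ(X, UX)⁄Γ(Y, UY)], (1 : Γ(Z, i ⁻¹ᵁ UX)) ⊗ₜ[Γ(X, UX)] ω ∈ N := by
      intro ω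
      have hω : ω ∈ Submodule.span Γ(X, UX)
          (Set.range (KaehlerDifferential.D Γ(Y, UY) Γ(X, UX))) := by
        rw [KaehlerDifferential.span_range_derivation]; trivial
      induction hω using Submodule.span_induction with
      | mem x hx => obtain ⟨a, rfl⟩ := hx; exact hD a
      | zero => rw [TensorProduct.tmul_zero]; exact zero_mem _
      | add x y _ _ hx hy => rw [TensorProduct.tmul_add]; exact add_mem hx hy
      | smul a x _ hx =>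
        have : (1 : Γ(Z, i ⁻¹ᵁ UX)) ⊗ₜ[Γ(X, UX)] (a • x) =
            (algebraMap Γ(X, UX) Γ(Z, i ⁻¹ᵁ UX) a) • ((1 : Γ(Z, i ⁻¹ᵁ UX)) ⊗ₜ[Γ(X, UX)] x) := by
          rw [TensorProduct.tmul_smul, algebraMap_smul]
        rw [this]
        exact N.smul_mem _ hx
    have h2 : ∀ t : Γ(Z, i ⁻¹ᵁ UX) ⊗[Γ(X, UX)] Ω[Γ(X, UX)⁄Γ(Y, UY)], t ∈ N := by
      intro t
      induction t using TensorProduct.induction_on with
      | zero => exact zero_mem _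
      | tmul b ω =>
        have : b ⊗ₜ[Γ(X, UX)] ω = b • ((1 : Γ(Z, i ⁻¹ᵁ UX)) ⊗ₜ[Γ(X, UX)] ω) := by
          rw [TensorProduct.smul_tmul', smul_eq_mul, mul_one]
        rw [this]
        exact N.smul_mem _ (h1 ω)
      | add x y hx hy => exact add_mem hx hy
    obtain ⟨m, hm⟩ := h2 (P n)
    exact ⟨m, P.injective hm⟩

end helpers

open AlgebraicGeometry CategoryTheory Limits in

open AlgebraicGeometry CategoryTheory Limits in
/-- For quasi-compact immersions i : Z → X and j : Z → Y with j = i ≫ p for p : X → Y, there is an exact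
sequence C_{Z/Y} → C_{Z/X} → i^*Ω_{X/Y} → 0 with the canonical maps; Ω_{X/Y} is any receptacle of a
universal derivation. (The published statement allows arbitrary immersions; this row assumes i and j
quasi-compact.) -/
theorem result {Z X Y : Scheme.{u}} (p : X ⟶ Y) (i : Z ⟶ X) (j : Z ⟶ Y) [IsImmersion i] [IsImmersion j]
    [QuasiCompact i] [QuasiCompact j] (hij : i ≫ p = j)
    (Ω : X.Modules) (d : OmegaSh.Der p Ω) (hd : OmegaSh.IsUniversal d)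
    (ψ : (Scheme.Modules.pullback (𝟙 Z)).obj (Omega.conormal j) ⟶ Omega.conormal i) (hψ : OmegaSh.IsConormalMap i j p (𝟙 Z) ψ)
    (φ : Omega.conormal i ⟶ (Scheme.Modules.pullback i).obj Ω) (hφ : OmegaSh.IsConormalDiff i d φ) :
    ∃ w : ψ ≫ φ = 0, (ShortComplex.mk ψ φ w).Exact ∧ Epi φ := by
  have hB := Groth.Agent.Helper19.Conormal.isBasis_matchB p i j hij
  have hloc : ∀ V ∈ Groth.Agent.Helper19.Conormal.matchB p i j,
      (∀ m', φ.app V (ψ.app V m') = 0) ∧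
      (∀ m, φ.app V m = 0 → ∃ m', ψ.app V m' = m) ∧ Function.Surjective (φ.app V) := by
    rintro V ⟨UX, UY, hUX, hUY, hUXc, hUYc, hUXY, hJI, rfl⟩
    exact local_main p i j hij Ω d hd ψ hψ φ hφ hUX hUY hUXc hUYc hUXY hJI
  have w : ψ ≫ φ = 0 := by
    apply Groth.Agent.Helper19.OmegaD.hom_ext_of_basis _ hB
    intro V hV m
    exact (hloc V hV).1 m
  refine ⟨w, ?_, ?_⟩
  · apply Groth.Agent.Helper19.OmegaD.exact_of_exact_on_basis _ hB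
    intro V hV m
    constructor
    · intro hm
      obtain ⟨m', hm'⟩ := (hloc V hV).2.1 m hm
      exact ⟨m', hm'⟩
    · rintro ⟨m', rfl⟩
      exact (hloc V hV).1 m'
  · apply Groth.Agent.Helper19.OmegaD.epi_of_surjective_on_basis φ _ hB
    intro V hV
    exact (hloc V hV).2.2

end Groth.Agent.S9375
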