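import Groth.Statements.S5975
import Mathlib
import Groth.Agent.Helper19.OmegaD8
-- import your own Groth.Agent.* helpers here

set_option autoImplicit false
universe u
open CategoryTheory CategoryTheory.Limits AlgebraicGeometry TopologicalSpace Opposite
open Nrm16

namespace Groth.Agent.S5975

section helpers

open scoped TensorProduct
open Groth.Agent.Lib.Helper29.QCoh Groth.Agent.Helper19.OmegaD Groth.Agent.Helper19.OmegaLocal
open Groth.Agent.Helper19.OmegaAlg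

variable {X Y Z : Scheme.{u}} (f : X ⟶ Y) (g : Y ⟶ Z)
  (ΩY : Y.Modules) (dY : OmegaSh.Der g ΩY) (hY : OmegaSh.IsUniversal dY)
  (ΩX : X.Modules) (dX : OmegaSh.Der (f ≫ g) ΩX) (hX : OmegaSh.IsUniversal dX)
  (ΩXY : X.Modules) (dXY : OmegaSh.Der f ΩXY) (hXY : OmegaSh.IsUniversal dXY)
  (c₁ : (Scheme.Modules.pullback f).obj ΩY ⟶ ΩX) (hc₁ : OmegaSh.IsDiffCompat f dY dX c₁)
  (ψ : ΩX ⟶ ΩXY) (hψ : ∀ (U : X.Opens) (s : Γ(X, U)), ψ.app U (dX.app U s) = dXY.app U s)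

include hY hX hXY hc₁ hψ in
theorem local_exact {U : X.Opens} (hU : IsAffineOpen U) {V : Y.Opens} (hV : IsAffineOpen V)
    {W : Z.Opens} (hW : IsAffineOpen W) (hUV : U ≤ f ⁻¹ᵁ V) (hVW : V ≤ g ⁻¹ᵁ W) :
    Function.Exact (c₁.app U) (ψ.app U) ∧ Function.Surjective (ψ.app U) := by
  have hUW := le_comp_preimage g f hUV hVW
  letI := algΓ g hVW
  letI := algΓ (f ≫ g) hUW
  letI := algΓ f hUV
  haveI := isScalarTower_tri g f hUV hVW
  obtain ⟨P, EX, hEX, hPE⟩ :=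
    exists_local_diffCompat' g (f ≫ g) f dY hY dX hX c₁ hc₁ hV hW hVW hU hW hUW hUV
  obtain ⟨EXY, hEXY⟩ := exists_linearEquiv_sections_of_universal f dXY hXY hU hV hUV
  let κ₁ : Γ(X, U) ⊗[Γ(Y, V)] Ω[Γ(Y, V)⁄Γ(Z, W)] →ₗ[Γ(X, U)] Ω[Γ(X, U)⁄Γ(Z, W)] :=
    EX.toLinearMap ∘ₗ (appₗ c₁ U) ∘ₗ P.symm.toLinearMap
  have hκ₁ : κ₁ = KaehlerDifferential.mapBaseChange Γ(Z, W) Γ(Y, V) Γ(X, U) :=
    eq_mapBaseChange _ _ _ κ₁ (fun b' b => hPE b' b)
  let κ₂ : Ω[Γ(X, U)⁄Γ(Z, W)] →ₗ[Γ(X, U)] Ω[Γ(X, U)⁄Γ(Y, V)] :=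
    EXY.toLinearMap ∘ₗ (appₗ ψ U) ∘ₗ EX.symm.toLinearMap
  have hκ₂ : ∀ ω, κ₂ ω = KaehlerDifferential.map Γ(Z, W) Γ(Y, V) Γ(X, U) Γ(X, U) ω := by
    intro ω
    have hω : ω ∈ Submodule.span Γ(X, U)
        (Set.range (KaehlerDifferential.D Γ(Z, W) Γ(X, U))) := by
      rw [KaehlerDifferential.span_range_derivation]; trivial
    induction hω using Submodule.span_induction with
    | mem y hy =>
      obtain ⟨b, rfl⟩ := hy
      change EXY (ψ.app U (EX.symm (KaehlerDifferential.D Γ(Z, W) Γ(X, U) b))) = _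
      have h1 : EX.symm (KaehlerDifferential.D Γ(Z, W) Γ(X, U) b) = dX.app U b := by
        rw [LinearEquiv.symm_apply_eq, hEX]
      rw [h1, hψ, hEXY, KaehlerDifferential.map_D]
      rfl
    | zero => rw [map_zero, map_zero]
    | add y z _ _ hy hz => rw [map_add, map_add, hy, hz]
    | smul a y _ hy => rw [map_smul, map_smul, hy]
  have hex := KaehlerDifferential.exact_mapBaseChange_map Γ(Z, W) Γ(Y, V) Γ(X, U)
  constructor
  · intro n
    constructor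
    · intro hn
      have h1 : KaehlerDifferential.map Γ(Z, W) Γ(Y, V) Γ(X, U) Γ(X, U) (EX n) = 0 := by
        rw [← hκ₂]
        change EXY (ψ.app U (EX.symm (EX n))) = 0
        rw [LinearEquiv.symm_apply_apply, hn, map_zero]
      obtain ⟨t, ht⟩ := (hex _).mp h1
      rw [← hκ₁] at ht
      exact ⟨P.symm t, EX.injective ht⟩
    · rintro ⟨m, rfl⟩
      have h1 : KaehlerDifferential.map Γ(Z, W) Γ(Y, V) Γ(X, U) Γ(X, U)
          (EX (c₁.app U m)) = 0 := by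
        apply (hex _).mpr
        refine ⟨P m, ?_⟩
        rw [← hκ₁]
        change EX (c₁.app U (P.symm (P m))) = _
        rw [LinearEquiv.symm_apply_apply]
      rw [← hκ₂] at h1
      change EXY (ψ.app U (EX.symm (EX (c₁.app U m)))) = 0 at h1
      rw [LinearEquiv.symm_apply_apply] at h1
      exact EXY.map_eq_zero_iff.mp h1
  · intro n
    obtain ⟨ω, hω⟩ := KaehlerDifferential.map_surjective Γ(Z, W) Γ(Y, V) Γ(X, U) (EXY n)
    refine ⟨EX.symm ω, EXY.injective ?_⟩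
    rw [← hω, ← hκ₂]
    rfl

end helpers

/-- Let f : X ⟶ Y and g : Y ⟶ Z be morphisms of schemes. Let (Ω_{Y/Z}, d), (Ω_{X/Z}, d') and (Ω_{X/Y},
d'') be sheaves of differentials (universal derivations) and let c₁ : f^*Ω_{Y/Z} ⟶ Ω_{X/Z} and c₂ :
Ω_{X/Z} ⟶ Ω_{X/Y} be the canonical maps compatible with the derivations. Then c₂ is an epimorphism
and the image of c₁ is the kernel of c₂: the sequence f^*Ω_{Y/Z} ⟶ Ω_{X/Z} ⟶ Ω_{X/Y} ⟶ 0 is exact. -/
theorem result {X Y Z : Scheme.{u}} (f : X ⟶ Y) (g : Y ⟶ Z)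
    (ΩY : Y.Modules) (dY : OmegaSh.Der g ΩY) (hY : OmegaSh.IsUniversal dY)
    (ΩX : X.Modules) (dX : OmegaSh.Der (f ≫ g) ΩX) (hX : OmegaSh.IsUniversal dX)
    (ΩXY : X.Modules) (dXY : OmegaSh.Der f ΩXY) (hXY : OmegaSh.IsUniversal dXY)
    (c₁ : (Scheme.Modules.pullback f).obj ΩY ⟶ ΩX) (hc₁ : OmegaSh.IsDiffCompat f dY dX c₁)
    (c₂ : (Scheme.Modules.pullback (𝟙 X)).obj ΩX ⟶ ΩXY) (hc₂ : OmegaSh.IsDiffCompat (𝟙 X) dX dXY c₂) :
    Epi c₂ ∧
      imageSubobject c₁ = kernelSubobject ((Scheme.Modules.pullbackId X).inv.app ΩX ≫ c₂) := by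
  have hψ : ∀ (U : X.Opens) (s : Γ(X, U)),
      ((Scheme.Modules.pullbackId X).inv.app ΩX ≫ c₂).app U (dX.app U s) = dXY.app U s := by
    intro U s
    change c₂.app U (((Scheme.Modules.pullbackId X).inv.app ΩX).app U (dX.app U s)) = _
    rw [Groth.Agent.Helper19.OmegaD.pullbackId_inv_app_app]
    have h1 := hc₂ U s
    have h2 : (𝟙 X : X ⟶ X).app U s = s := by
      rw [Scheme.Hom.id_app]
      rfl
    rw [h2] at h1
    exact h1
  have hloc := fun (U : X.Opens) (hU : U ∈ Groth.Agent.Helper19.OmegaD.triOpens g f) =>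
    local_exact f g ΩY dY hY ΩX dX hX ΩXY dXY hXY c₁ hc₁ _ hψ hU.1 hU.2.choose_spec.choose_spec.1
      hU.2.choose_spec.choose_spec.2.1 hU.2.choose_spec.choose_spec.2.2.1
      hU.2.choose_spec.choose_spec.2.2.2
  have hepi : Epi ((Scheme.Modules.pullbackId X).inv.app ΩX ≫ c₂) :=
    Groth.Agent.Helper19.OmegaD.epi_of_surjective_on_basis _ _
      (Groth.Agent.Helper19.OmegaD.isBasis_triOpens g f) (fun U hU => (hloc U hU).2)
  constructor
  · have h1 : c₂ = (Scheme.Modules.pullbackId X).hom.app ΩX ≫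
        ((Scheme.Modules.pullbackId X).inv.app ΩX ≫ c₂) := by
      rw [← Category.assoc, Iso.hom_inv_id_app, Category.id_comp]
    rw [h1]
    exact epi_comp _ _
  · have w : c₁ ≫ ((Scheme.Modules.pullbackId X).inv.app ΩX ≫ c₂) = 0 := by
      apply Groth.Agent.Helper19.OmegaD.hom_ext_of_basis _
        (Groth.Agent.Helper19.OmegaD.isBasis_triOpens g f)
      intro U hU m
      exact ((hloc U hU).1 _).mpr ⟨m, rfl⟩
    have hex : (ShortComplex.mk c₁ _ w).Exact :=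
      Groth.Agent.Helper19.OmegaD.exact_of_exact_on_basis _
        (Groth.Agent.Helper19.OmegaD.isBasis_triOpens g f) _ (fun U hU => (hloc U hU).1)
    exact (ShortComplex.exact_iff_image_eq_kernel _).mp hex

end Groth.Agent.S5975
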