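import Groth.Statements.S9776
import Mathlib
import Groth.Agent.Helper19.OmegaD7
import Groth.Agent.Helper19.OmegaAlg2
import Groth.Agent.Lib.Helper3.StalkBij
-- import your own Groth.Agent.* helpers here

set_option autoImplicit false
universe u
open OmegaSh

namespace Groth.Agent.S9776

section helpers

open CategoryTheory CategoryTheory.Limits AlgebraicGeometry TopologicalSpace
open scoped TensorProduct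
open Groth.Agent.Lib.Helper29.QCoh Groth.Agent.Helper19.OmegaD Groth.Agent.Helper19.OmegaLocal
open Groth.Agent.Helper19.OmegaAlg

variable {X₁ S₁ X₂ S₂ : Scheme.{u}} (p₁ : X₁ ⟶ S₁) (p₂ : X₂ ⟶ S₂) (f : X₂ ⟶ X₁) (g : S₂ ⟶ S₁)
  [Etale f] [Etale g] (hsq : f ≫ p₁ = p₂ ≫ g)
  (Ω₁ : X₁.Modules) (d₁ : OmegaSh.Der p₁ Ω₁) (hd₁ : OmegaSh.IsUniversal d₁)
  (Ω₂ : X₂.Modules) (d₂ : OmegaSh.Der p₂ Ω₂) (hd₂ : OmegaSh.IsUniversal d₂)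
  (c : (Scheme.Modules.pullback f).obj Ω₁ ⟶ Ω₂) (hc : OmegaSh.IsDiffCompat f d₁ d₂ c)

include hsq hd₁ hd₂ hc in
theorem app_bijective {U₁ : X₁.Opens} (hU₁ : IsAffineOpen U₁) {V₁ : S₁.Opens}
    (hV₁ : IsAffineOpen V₁) {U₂ : X₂.Opens} (hU₂ : IsAffineOpen U₂) {V₂ : S₂.Opens}
    (hV₂ : IsAffineOpen V₂) (hUV₁ : U₁ ≤ p₁ ⁻¹ᵁ V₁) (hUV₂ : U₂ ≤ p₂ ⁻¹ᵁ V₂)
    (hUU : U₂ ≤ f ⁻¹ᵁ U₁) (hVV : V₂ ≤ g ⁻¹ᵁ V₁) :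
    Function.Bijective (c.app U₂) := by
  letI := algΓ p₁ hUV₁
  letI := algΓ g hVV
  letI := algΓ f hUU
  letI := algΓ p₂ hUV₂
  letI : Algebra Γ(S₁, V₁) Γ(X₂, U₂) :=
    ((algebraMap Γ(X₁, U₁) Γ(X₂, U₂)).comp (algebraMap Γ(S₁, V₁) Γ(X₁, U₁))).toAlgebra
  haveI : IsScalarTower Γ(S₁, V₁) Γ(X₁, U₁) Γ(X₂, U₂) := IsScalarTower.of_algebraMap_eq' rfl
  haveI : IsScalarTower Γ(S₁, V₁) Γ(S₂, V₂) Γ(X₂, U₂) := by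
    apply IsScalarTower.of_algebraMap_eq'
    change (f.appLE U₁ U₂ hUU).hom.comp (p₁.appLE V₁ U₁ hUV₁).hom =
      (p₂.appLE V₂ U₂ hUV₂).hom.comp (g.appLE V₁ V₂ hVV).hom
    have e1 : U₂ ≤ (f ≫ p₁) ⁻¹ᵁ V₁ := fun x hx => hUV₁ (hUU hx)
    have e2 : U₂ ≤ (p₂ ≫ g) ⁻¹ᵁ V₁ := fun x hx => hVV (hUV₂ hx)
    have h1 : p₁.appLE V₁ U₁ hUV₁ ≫ f.appLE U₁ U₂ hUU = (f ≫ p₁).appLE V₁ U₂ e1 :=
      Scheme.Hom.appLE_comp_appLE f p₁ V₁ U₁ U₂ hUV₁ hUU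
    have h2 : g.appLE V₁ V₂ hVV ≫ p₂.appLE V₂ U₂ hUV₂ = (p₂ ≫ g).appLE V₁ U₂ e2 :=
      Scheme.Hom.appLE_comp_appLE p₂ g V₁ V₂ U₂ hVV hUV₂
    have h3 : (f ≫ p₁).appLE V₁ U₂ e1 = (p₂ ≫ g).appLE V₁ U₂ e2 := appLE_congr hsq _ _
    have h4 := h1.trans (h3.trans h2.symm)
    exact congrArg (fun k => k.hom) h4
  haveI : Algebra.FormallyEtale Γ(X₁, U₁) Γ(X₂, U₂) := by
    have h1 : (f.appLE U₁ U₂ hUU).hom.Etale := f.etale_appLE hU₁ hU₂ hUU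
    have h2 : Algebra.Etale Γ(X₁, U₁) Γ(X₂, U₂) := h1
    infer_instance
  haveI : Algebra.FormallyUnramified Γ(S₁, V₁) Γ(S₂, V₂) := by
    have h1 : (g.appLE V₁ V₂ hVV).hom.Etale := g.etale_appLE hV₁ hV₂ hVV
    have h2 : Algebra.Etale Γ(S₁, V₁) Γ(S₂, V₂) := h1
    infer_instance
  obtain ⟨P, E', hPE⟩ :=
    exists_local_diffCompat p₁ p₂ f d₁ hd₁ d₂ hd₂ c hc hU₁ hV₁ hUV₁ hU₂ hV₂ hUV₂ hUU
  let κ : Γ(X₂, U₂) ⊗[Γ(X₁, U₁)] Ω[Γ(X₁, U₁)⁄Γ(S₁, V₁)] →ₗ[Γ(X₂, U₂)] Ω[Γ(X₂, U₂)⁄Γ(S₂, V₂)] :=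
    E'.toLinearMap ∘ₗ (appₗ c _) ∘ₗ P.symm.toLinearMap
  have hκb : Function.Bijective κ :=
    bijective_of_formallyEtale Γ(S₁, V₁) Γ(X₁, U₁) Γ(S₂, V₂) Γ(X₂, U₂) κ (fun a' a => hPE a' a)
  constructor
  · intro m₁ m₂ hm
    have h1 : κ (P m₁) = κ (P m₂) := by
      change E' (c.app _ (P.symm (P m₁))) = E' (c.app _ (P.symm (P m₂)))
      rw [LinearEquiv.symm_apply_apply, LinearEquiv.symm_apply_apply, hm]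
    exact P.injective (hκb.1 h1)
  · intro n
    obtain ⟨t, ht⟩ := hκb.2 (E' n)
    exact ⟨P.symm t, E'.injective ht⟩

end helpers

open AlgebraicGeometry CategoryTheory Limits in

open AlgebraicGeometry CategoryTheory Limits in
/-- Consider a commutative square of schemes with vertical maps p₁ : X₁ ⟶ S₁, p₂ : X₂ ⟶ S₂ and
horizontal maps f : X₂ ⟶ X₁, g : S₂ ⟶ S₁, where f and g are étale. Let d₁ : O_{X₁} → Ω₁ and d₂ :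
O_{X₂} → Ω₂ be universal derivations over S₁ and S₂ (sheaves of differentials) and c : f^*Ω₁ ⟶ Ω₂
the O_{X₂}-linear map compatible with d₁ and d₂ (the canonical map c_f). Then c is an isomorphism. -/
theorem result {X₁ S₁ X₂ S₂ : Scheme.{u}} (p₁ : X₁ ⟶ S₁) (p₂ : X₂ ⟶ S₂) (f : X₂ ⟶ X₁) (g : S₂ ⟶ S₁)
    [Etale f] [Etale g] (hsq : f ≫ p₁ = p₂ ≫ g)
    (Ω₁ : X₁.Modules) (d₁ : OmegaSh.Der p₁ Ω₁) (hd₁ : OmegaSh.IsUniversal d₁)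
    (Ω₂ : X₂.Modules) (d₂ : OmegaSh.Der p₂ Ω₂) (hd₂ : OmegaSh.IsUniversal d₂)
    (c : (Scheme.Modules.pullback f).obj Ω₁ ⟶ Ω₂) (hc : OmegaSh.IsDiffCompat f d₁ d₂ c) : IsIso c := by
  haveI := Groth.Agent.Helper19.OmegaD.isQuasicoherent_of_universal p₁ d₁ hd₁
  haveI := Groth.Agent.Helper19.OmegaD.isQuasicoherent_of_universal p₂ d₂ hd₂
  rw [Groth.Agent.Lib.Helper29.QCoh.isIso_iff_stalkMap_bijective]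
  intro x
  obtain ⟨V₁, hV₁, hxV₁, -⟩ :=
    exists_isAffineOpen_mem_and_subset (x := p₁ (f x)) (U := ⊤) trivial
  obtain ⟨U₁, hU₁, hxU₁, hUV₁⟩ :=
    exists_isAffineOpen_mem_and_subset (x := f x) (U := p₁ ⁻¹ᵁ V₁) hxV₁
  have hxV₂' : p₂ x ∈ g ⁻¹ᵁ V₁ := by
    change g (p₂ x) ∈ V₁
    rw [← Scheme.Hom.comp_apply, ← hsq, Scheme.Hom.comp_apply]
    exact hxV₁
  obtain ⟨V₂, hV₂, hxV₂, hVV⟩ :=
    exists_isAffineOpen_mem_and_subset (x := p₂ x) (U := g ⁻¹ᵁ V₁) hxV₂'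
  obtain ⟨U₂, hU₂, hxU₂, hU₂le⟩ :=
    exists_isAffineOpen_mem_and_subset (x := x) (U := f ⁻¹ᵁ U₁ ⊓ p₂ ⁻¹ᵁ V₂) ⟨hxU₁, hxV₂⟩
  have hb := app_bijective p₁ p₂ f g hsq Ω₁ d₁ hd₁ Ω₂ d₂ hd₂ c hc hU₁ hV₁ hU₂ hV₂ hUV₁
    (hU₂le.trans inf_le_right) (hU₂le.trans inf_le_left) hVV
  exact Groth.Agent.Lib.Helper3.stalkMap_bijective_of_app_bijective c hU₂ hb x hxU₂

end Groth.Agent.S9776
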