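import Groth.Statements.S9818
import Groth.Agent.Lib.Helper29.QCohQcqs
-- import your own Groth.Agent.* helpers here

set_option autoImplicit false
universe u
open CategoryTheory CategoryTheory.Limits AlgebraicGeometry TopologicalSpace Opposite
open Props

namespace Groth.Agent.S9818

open Groth.Agent.Lib.Helper29.QCoh
section helpers

theorem restrictFunctor_isRightAdjoint {X Y : Scheme.{u}} (f : X ⟶ Y) [IsOpenImmersion f] :
    (Scheme.Modules.restrictFunctor f).IsRightAdjoint := by
  unfold Scheme.Modules.restrictFunctor
  exact inferInstanceAs (SheafOfModules.pushforward.{u} (S := X.ringCatSheaf)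
    (R := Y.ringCatSheaf) (F := f.opensFunctor) _).IsRightAdjoint

theorem isQuasicoherent_biprod {X : Scheme.{u}} (M N : X.Modules) [M.IsQuasicoherent]
    [N.IsQuasicoherent] : (M ⊞ N).IsQuasicoherent := by
  have h : (colimit (pair M N)).IsQuasicoherent := by
    apply isQuasicoherent_colimit_aux (pair M N)
    rintro ⟨_ | _⟩
    · exact inferInstanceAs M.IsQuasicoherent
    · exact inferInstanceAs N.IsQuasicoherent
  exact (SheafOfModules.isQuasicoherent X.ringCatSheaf).prop_of_iso
    (biprod.isoCoprod M N).symm h

theorem isQuasicoherent_pullback {X : Scheme.{u}} {M N P : X.Modules} (f : M ⟶ P) (g : N ⟶ P)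
    [M.IsQuasicoherent] [N.IsQuasicoherent] [P.IsQuasicoherent] :
    (pullback f g).IsQuasicoherent := by
  haveI := isQuasicoherent_biprod M N
  have hk : (kernel (biprod.desc f (-g))).IsQuasicoherent := inferInstance
  have hlim := CategoryTheory.Abelian.PullbackToBiproductIsKernel.isLimitPullbackToBiproduct f g
  have e : pullback f g ≅ kernel (biprod.desc f (-g)) :=
    IsLimit.conePointUniqueUpToIso hlim (limit.isLimit _)
  exact (SheafOfModules.isQuasicoherent X.ringCatSheaf).prop_of_iso e.symm hk

end helpers

/-- For an open subscheme U of a scheme X with quasi-compact inclusion, a quasi-coherent module G on U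
with a map to the restriction of a quasi-coherent module F on X extends to a quasi-coherent module H
on X with a map to F restricting to the given one. Taking F = 0, every quasi-coherent module on U
extends to a quasi-coherent module on X. -/
theorem result {X : Scheme.{u}} (U : X.Opens) [QuasiCompact U.ι]
    (F : X.Modules) [Coh.IsQCoh F] (G : (U : Scheme.{u}).Modules) [Coh.IsQCoh G] (φ : G ⟶ F.restrict U.ι) :
    ∃ (H : X.Modules) (ψ : H ⟶ F) (e : H.restrict U.ι ≅ G), Coh.IsQCoh H ∧
      e.hom ≫ φ = (Scheme.Modules.restrictFunctor U.ι).map ψ := by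
  haveI : F.IsQuasicoherent := ‹Coh.IsQCoh F›
  haveI : G.IsQuasicoherent := ‹Coh.IsQCoh G›
  haveI := restrictFunctor_isRightAdjoint U.ι
  haveI : ((Scheme.Modules.pushforward U.ι).obj G).IsQuasicoherent :=
    isQuasicoherent_pushforward_of_qcqs U.ι G
  haveI : ((Scheme.Modules.restrictFunctor U.ι).obj F).IsQuasicoherent := inferInstance
  haveI : ((Scheme.Modules.pushforward U.ι).obj
      ((Scheme.Modules.restrictFunctor U.ι).obj F)).IsQuasicoherent :=
    isQuasicoherent_pushforward_of_qcqs U.ι _
  obtain ⟨adj, hadj⟩ : ∃ a, a = Scheme.Modules.restrictAdjunction U.ι := ⟨_, rfl⟩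
  haveI : IsIso adj.counit := by rw [hadj]; infer_instance
  obtain ⟨f, hf⟩ : ∃ f, f = (Scheme.Modules.pushforward U.ι).map φ := ⟨_, rfl⟩
  obtain ⟨g, hg⟩ : ∃ g : F ⟶ (Scheme.Modules.pushforward U.ι).obj
      ((Scheme.Modules.restrictFunctor U.ι).obj F), g = adj.unit.app F := ⟨_, rfl⟩
  have hpb : IsPullback (pullback.fst f g) (pullback.snd f g) f g := IsPullback.of_hasPullback f g
  have hpb' := hpb.map (Scheme.Modules.restrictFunctor U.ι)
  have htri : (Scheme.Modules.restrictFunctor U.ι).map g ≫
      adj.counit.app ((Scheme.Modules.restrictFunctor U.ι).obj F) = 𝟙 _ := by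
    rw [hg]; exact adj.left_triangle_components F
  haveI : IsIso ((Scheme.Modules.restrictFunctor U.ι).map g) := by
    rw [IsIso.eq_inv_of_inv_hom_id htri]
    infer_instance
  haveI : IsIso ((Scheme.Modules.restrictFunctor U.ι).map (pullback.fst f g)) :=
    hpb'.isIso_fst_of_isIso
  refine ⟨pullback f g, pullback.snd f g,
    asIso ((Scheme.Modules.restrictFunctor U.ι).map (pullback.fst f g)) ≪≫
      asIso (adj.counit.app G), isQuasicoherent_pullback f g, ?_⟩
  have hnat := adj.counit.naturality φ
  have hw := hpb'.w
  simp only [Iso.trans_hom, asIso_hom, Category.assoc]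
  simp only [Functor.comp_map, Functor.id_map, Functor.id_obj, Functor.comp_obj] at hnat
  rw [← hnat, ← hf, ← Category.assoc, hw, Category.assoc, htri, Category.comp_id]

end Groth.Agent.S9818
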