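import Groth.Statements.S9819
import Mathlib
import Groth.Agent.S10848
import Groth.Agent.Lib.Helper3.SubSh
-- import your own Groth.Agent.* helpers here

set_option autoImplicit false
universe u
open CategoryTheory CategoryTheory.Limits AlgebraicGeometry TopologicalSpace Opposite
open Props

namespace Groth.Agent.S9819

section helpers
open Groth.Agent.Lib.Helper29.QCoh Groth.Agent.Lib.Helper3

end helpers

/-- On a quasi-compact quasi-separated scheme, every local section of a quasi-coherent module over an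
affine open lies in some quasi-coherent submodule of finite type; hence the module is the directed
union of its quasi-coherent submodules of finite type. -/
theorem result {X : Scheme.{u}} [CompactSpace X]
    [QuasiSeparatedSpace X] (F : X.Modules) [Coh.IsQCoh F] (U : X.affineOpens)
    (s : F.val.obj (op (U : X.Opens))) :
    ∃ (G : X.Modules) (i : G ⟶ F), Mono i ∧ Coh.IsQCoh G ∧ CohB1.IsFT G ∧
      ∃ g : G.val.obj (op (U : X.Opens)), (i.val.app (op (U : X.Opens))).hom g = s := by
  open Groth.Agent.Lib.Helper29.QCoh Groth.Agent.Lib.Helper3 in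
  classical
  have htop : U.1.ι ''ᵁ ⊤ = U.1 := Scheme.Opens.ι_image_top _
  haveI hFU : (F.restrict U.1.ι).IsQuasicoherent := inferInstance
  -- the section on the open subscheme
  let s' : Γ(F.restrict U.1.ι, ⊤) := res F htop.le s
  let K : SubSh (F.restrict U.1.ι) := SubSh.genSub ⊤ {s'}
  have hcov : IsOpenCover (fun T : (U.1 : Scheme.{u}).affineOpens => (T : (U.1 : Scheme.{u}).Opens)) :=
    isOpenCover_affineOpens _
  haveI hKq : K.toModules.IsQuasicoherent :=
    SubSh.isQuasicoherent_toModules K _ hcov (fun T => T.2)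
      (fun T => SubSh.isQCOn_genSub ⊤ {s'} T.2 le_top)
  have hKft : K.toModules.IsFiniteType :=
    SubSh.isFiniteType_toModules K _ hcov (fun T => T.2)
      (fun T => SubSh.genSub_fg ⊤ {s'} (Set.finite_singleton _) T.2 le_top)
  have hs'K : s' ∈ K.carrier ⊤ := by
    apply SubSh.mem_genSub_of_mem_spanRes ⊤ {s'} le_rfl
    apply Submodule.subset_span
    exact ⟨s', rfl, res_self _ _⟩
  obtain ⟨G, i, e, hmono, hq, hft, hcompat⟩ :=
    Groth.Agent.S10848.result U.1 U.2.isCompact F K.toModules hKft K.ι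
  refine ⟨G, i, hmono, hq, hft, ?_⟩
  let t' : Γ(K.toModules, ⊤) := K.mkSec ⊤ s' hs'K
  let g' : Γ(G, U.1.ι ''ᵁ ⊤) := e.inv.app ⊤ t'
  have h1 : i.app (U.1.ι ''ᵁ ⊤) g' = s' := by
    have h2 : ((Scheme.Modules.restrictFunctor U.1.ι).map i).app ⊤ (e.inv.app ⊤ t') =
        (e.hom ≫ K.ι).app ⊤ (e.inv.app ⊤ t') := by rw [hcompat]
    have h3 : (e.hom ≫ K.ι).app ⊤ (e.inv.app ⊤ t') = K.ι.app ⊤ t' := by
      have h4 : (e.inv ≫ e.hom ≫ K.ι).app ⊤ t' = K.ι.app ⊤ t' := by
        rw [Iso.inv_hom_id_assoc]
      exact h4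
    exact h2.trans (h3.trans (K.ι_app_mkSec ⊤ s' hs'K))
  refine ⟨res G htop.ge g', ?_⟩
  change i.app U.1 (res G htop.ge g') = s
  rw [app_res, h1, res_res]
  exact res_self F s

end Groth.Agent.S9819
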