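import Groth.Statements.S0583
-- import your own Groth.Agent.* helpers here
import Groth.Agent.Lib.Helper12.Kaplansky

set_option autoImplicit false
universe u
open scoped Classical
open CAlg

namespace Groth.Agent.S0583

/-- If a module is an internal direct sum of countably generated submodules, then any direct summand of
it is again an internal direct sum of countably generated submodules. -/
theorem result (R : Type u) [CommRing R] (M : Type u)
    [AddCommGroup M] [Module R M] (ι : Type u) (N : ι → Submodule R M) (hN : DirectSum.IsInternal N)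
    (hc : ∀ i, CAlg.IsCountablyGenerated R (N i)) (P Q : Submodule R M) (hPQ : IsCompl P Q) :
    ∃ (κ : Type u) (L : κ → Submodule R P), DirectSum.IsInternal L ∧
      ∀ k, CAlg.IsCountablyGenerated R (L k) := by
  open Groth.Agent.Lib.Helper12.Kap in
  classical
  obtain ⟨hind, htop⟩ := (DirectSum.isInternal_submodule_iff_iSupIndep_and_iSup_eq_top N).1 hN
  have hc' : ∀ i, CG (N i) := fun i => CG.of_type (hc i)
  obtain ⟨𝓛, h1, h2, h3⟩ := kaplansky hPQ hind htop hc'
  refine ⟨𝓛, fun k => k.1.comap P.subtype, ?_, fun k => h3 k⟩
  have := (DirectSum.isInternal_submodule_iff_iSupIndep_and_iSup_eq_top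
    (fun k : 𝓛 => k.1.comap P.subtype)).2 ⟨h1, h2⟩
  convert this
  rfl

end Groth.Agent.S0583
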