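import Groth.Statements.S0584
import Groth.Agent.Lib27.ML.Projective
import Groth.Agent.S0583
import Groth.Agent.S6337
import Groth.Agent.S6338

set_option autoImplicit false
universe u
open scoped Classical
open CAlg

namespace Groth.Agent.S0584

section aux

variable {R : Type u} [CommRing R]

lemma univInj_of_retract {M₁ M₂ : Type u} [AddCommGroup M₁] [Module R M₁] [AddCommGroup M₂]
    [Module R M₂] (f : M₁ →ₗ[R] M₂) (r : M₂ →ₗ[R] M₁) (h : r ∘ₗ f = LinearMap.id) :
    CAlgX.UniversallyInjective R f := by
  intro Q _ _
  apply Function.LeftInverse.injective (g := r.rTensor Q)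
  intro y
  rw [← LinearMap.comp_apply, ← LinearMap.rTensor_comp, h, LinearMap.rTensor_id, LinearMap.id_apply]

lemma cg_of_surjective {M₁ M₂ : Type u} [AddCommGroup M₁] [Module R M₁] [AddCommGroup M₂]
    [Module R M₂] (f : M₁ →ₗ[R] M₂) (hf : Function.Surjective f)
    (h : CAlg.IsCountablyGenerated R M₁) : CAlg.IsCountablyGenerated R M₂ := by
  obtain ⟨s, hs, hspan⟩ := h
  refine ⟨f '' s, hs.image f, ?_⟩
  rw [Submodule.span_image, hspan, Submodule.map_top, LinearMap.range_eq_top.2 hf]

lemma cg_span_singleton {M : Type u} [AddCommGroup M] [Module R M] (x : M) :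
    CAlg.IsCountablyGenerated R (Submodule.span R ({x} : Set M)) := by
  refine ⟨{⟨x, Submodule.mem_span_singleton_self x⟩}, Set.countable_singleton _, ?_⟩
  rw [eq_top_iff]
  rintro ⟨y, hy⟩ -
  obtain ⟨a, rfl⟩ := Submodule.mem_span_singleton.1 hy
  have : (⟨a • x, hy⟩ : Submodule.span R ({x} : Set M)) =
      a • ⟨x, Submodule.mem_span_singleton_self x⟩ := rfl
  rw [this]
  exact Submodule.smul_mem _ _ (Submodule.subset_span rfl)

lemma exists_decomp_of_retract_of_basis {F M : Type u} [AddCommGroup F] [Module R F]
    [AddCommGroup M] [Module R M] {ι : Type u} (b : Module.Basis ι R F) (s : M →ₗ[R] F)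
    (f : F →ₗ[R] M) (hs : f ∘ₗ s = LinearMap.id) :
    ∃ (κ : Type u) (N : κ → Submodule R M), DirectSum.IsInternal N ∧
      ∀ i, CAlg.IsCountablyGenerated R (N i) := by
  have hsinj : Function.Injective s := by
    intro x y hxy
    have := congrArg f hxy
    rwa [← LinearMap.comp_apply, ← LinearMap.comp_apply, hs] at this
  let N' : ι → Submodule R F := fun m => Submodule.span R {b m}
  have hN' : DirectSum.IsInternal N' := by
    apply DirectSum.isInternal_submodule_of_iSupIndep_of_iSup_eq_top
    · exact b.linearIndependent.iSupIndep_span_singleton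
    · rw [← Submodule.span_range_eq_iSup, b.span_eq]
  have hc' : ∀ m, CAlg.IsCountablyGenerated R (N' m) := fun m => cg_span_singleton _
  have hPQ : IsCompl (LinearMap.range s) (LinearMap.ker f) := by
    constructor
    · rw [Submodule.disjoint_def]
      rintro x ⟨y, rfl⟩ hx
      rw [LinearMap.mem_ker] at hx
      have : f (s y) = y := LinearMap.congr_fun hs y
      rw [this] at hx
      rw [hx, map_zero]
    · rw [codisjoint_iff, eq_top_iff]
      intro x _
      have h1 : x = s (f x) + (x - s (f x)) := by abel
      rw [h1]
      refine Submodule.add_mem_sup ⟨f x, rfl⟩ ?_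
      rw [LinearMap.mem_ker, map_sub]
      have : f (s (f x)) = f x := LinearMap.congr_fun hs (f x)
      rw [this, sub_self]
  obtain ⟨κ, L₀, hL₀, hLc₀⟩ := Groth.Agent.S0583.result R F ι N' hN' hc'
    (LinearMap.range s) (LinearMap.ker f) hPQ
  let L : κ → Submodule R (LinearMap.range s) := L₀
  have hL : DirectSum.IsInternal L := hL₀
  have hLc : ∀ k, CAlg.IsCountablyGenerated R (L k) := hLc₀
  let e : M ≃ₗ[R] LinearMap.range s := LinearEquiv.ofInjective s hsinj
  refine ⟨κ, fun k => (L k).map e.symm.toLinearMap, ?_, ?_⟩
  · rw [DirectSum.isInternal_submodule_iff_iSupIndep_and_iSup_eq_top] at hL ⊢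
    constructor
    · exact hL.1.map_orderIso (Submodule.orderIsoMapComap e.symm)
    · rw [← Submodule.map_iSup, hL.2, Submodule.map_top, LinearEquiv.range]
  · intro k
    exact cg_of_surjective (e.symm.submoduleMap (L k)).toLinearMap
      (e.symm.submoduleMap (L k)).surjective (hLc k)

end aux

/-- Projectivity of a module is equivalent to the conjunction of three conditions — flatness, the
Mittag-Leffler property, and being an internal direct sum of countably generated submodules. -/
theorem result (R : Type u) [CommRing R] (M : Type u)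
    [AddCommGroup M] [Module R M] :
    Module.Projective R M ↔ (Module.Flat R M ∧ CAlg.IsMittagLeffler R M ∧
      ∃ (ι : Type u) (N : ι → Submodule R M), DirectSum.IsInternal N ∧
        ∀ i, CAlg.IsCountablyGenerated R (N i)) := by
  constructor
  · intro hproj
    obtain ⟨s, hs⟩ := Module.projective_def'.mp hproj
    have hsinj : Function.Injective s := by
      intro x y hxy
      have := congrArg (Finsupp.linearCombination R (id : M → M)) hxy
      rwa [← LinearMap.comp_apply, ← LinearMap.comp_apply, hs] at this
    refine ⟨inferInstance, ?_, ?_⟩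
    · -- Mittag-Leffler
      have h1 : CAlg.IsMittagLeffler R (DirectSum M (fun _ => R)) :=
        (Groth.Agent.S6337.result R (fun _ : M => R)).2
          (fun _ => Groth.Agent.Lib.Helper21.ML.of_finitePresentation (R := R) R)
      have hfree : CAlg.IsMittagLeffler R (M →₀ R) := by
        refine Groth.Agent.S6338.result R (finsuppLEquivDirectSum R R M).toLinearMap ?_ h1
        exact univInj_of_retract _ (finsuppLEquivDirectSum R R M).symm.toLinearMap (by
          ext x
          simp)
      exact Groth.Agent.S6338.result R s (univInj_of_retract s _ hs) hfree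
    · -- decomposition
      exact exists_decomp_of_retract_of_basis (F := M →₀ R) Finsupp.basisSingleOne s
        (Finsupp.linearCombination R (id : M → M)) hs
  · rintro ⟨hflat, hML, ι, N, hN, hc⟩
    let E : (DirectSum ι fun i => N i) ≃ₗ[R] M :=
      LinearEquiv.ofBijective (DirectSum.coeLinearMap N) hN
    have hproj : ∀ i, Module.Projective R (N i) := by
      intro i
      let ρ : M →ₗ[R] N i := (DirectSum.component R ι (fun i => N i) i) ∘ₗ E.symm.toLinearMap
      have hρ : ρ ∘ₗ (N i).subtype = LinearMap.id := by
        ext x
        have h1 : E.symm (x : M) = DirectSum.lof R ι (fun i => N i) i x := by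
          rw [LinearEquiv.symm_apply_eq]
          simp [E]
        simp only [ρ, LinearMap.comp_apply, LinearEquiv.coe_coe, Submodule.subtype_apply, h1,
          LinearMap.id_apply]
        rw [DirectSum.component.lof_self]
      haveI : Module.Flat R (N i) := Module.Flat.of_retract (N i).subtype ρ hρ
      have hMLi : CAlg.IsMittagLeffler R (N i) :=
        Groth.Agent.S6338.result R (N i).subtype (univInj_of_retract _ ρ hρ) hML
      exact Groth.Agent.Lib27.ML.projective_of_flat_of_mittagLeffler_of_countablyGenerated
        (N i) hMLi (hc i)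
    haveI : Module.Projective R (DirectSum ι fun i => N i) :=
      inferInstanceAs (Module.Projective R (Π₀ i, N i))
    exact Module.Projective.of_equiv E

end Groth.Agent.S0584
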