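import Groth.Statements.S0586
-- import your own Groth.Agent.* helpers here
import Groth.Agent.Lib.Helper12.Pure

set_option autoImplicit false
universe u
open CAlg

namespace Groth.Agent.S0586


open TensorProduct

/-- `(S ⊗[R] M) ⊗[S] N ≃ M ⊗[R] N` for an `S`-module `N`. -/
noncomputable def eN (R S M N : Type u) [CommRing R] [CommRing S] [Algebra R S] [AddCommGroup M]
    [Module R M] [AddCommGroup N] [Module R N] [Module S N] [IsScalarTower R S N] :
    ((S ⊗[R] M) ⊗[S] N) ≃ₗ[R] (M ⊗[R] N) :=
  ((TensorProduct.comm S (S ⊗[R] M) N).restrictScalars R) ≪≫ₗ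
    ((TensorProduct.AlgebraTensorModule.cancelBaseChange R S S N M).restrictScalars R) ≪≫ₗ
    TensorProduct.comm R N M

lemma eN_tmul (R S M N : Type u) [CommRing R] [CommRing S] [Algebra R S] [AddCommGroup M]
    [Module R M] [AddCommGroup N] [Module R N] [Module S N] [IsScalarTower R S N]
    (s : S) (m : M) (n : N) : eN R S M N ((s ⊗ₜ[R] m) ⊗ₜ[S] n) = m ⊗ₜ[R] (s • n) := by
  simp [eN]

lemma stepA {R S M : Type u} [CommRing R] [CommRing S] [Algebra R S] [AddCommGroup M] [Module R M]
    (h : CAlg.IsMittagLeffler S (S ⊗[R] M)) {ι : Type u} (N : ι → Type u)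
    [∀ i, AddCommGroup (N i)] [∀ i, Module R (N i)] [∀ i, Module S (N i)]
    [∀ i, IsScalarTower R S (N i)] :
    Function.Injective (TensorProduct.piRightHom R R M N) := by
  have key : ∀ (x' : (S ⊗[R] M) ⊗[S] (∀ i, N i)) (i : ι),
      eN R S M (N i) (TensorProduct.piRightHom S S (S ⊗[R] M) N x' i) =
        TensorProduct.piRightHom R R M N (eN R S M (∀ i, N i) x') i := by
    intro x' i
    induction x' using TensorProduct.induction_on with
    | zero => simp
    | tmul t f =>
      induction t using TensorProduct.induction_on with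
      | zero => simp
      | tmul s m => simp [eN_tmul]
      | add t₁ t₂ h₁ h₂ =>
        simp only [TensorProduct.add_tmul, map_add, Pi.add_apply, h₁, h₂]
    | add x y hx hy => simp only [map_add, Pi.add_apply, hx, hy]
  rw [injective_iff_map_eq_zero]
  intro x hx
  obtain ⟨x', rfl⟩ := (eN R S M (∀ i, N i)).surjective x
  have h0 : TensorProduct.piRightHom S S (S ⊗[R] M) N x' = 0 := by
    ext i
    apply (eN R S M (N i)).injective
    rw [key, hx]
    simp
  have : x' = 0 := by
    apply h ι N
    rw [h0, map_zero]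
  rw [this, map_zero]

/-- Let `R → S` be faithfully flat and `M` an `R`-module. If `S ⊗ M` is a Mittag-Leffler `S`-module then
`M` is a Mittag-Leffler `R`-module. -/
theorem result (R : Type u) [CommRing R] (S : Type u)
    [CommRing S] [Algebra R S] [Module.FaithfullyFlat R S] (M : Type u) [AddCommGroup M] [Module R M]
    (h : CAlg.IsMittagLeffler S (TensorProduct R S M)) : CAlg.IsMittagLeffler R M := by
  intro ι Q _ _
  classical
  let J : (∀ i, Q i) →ₗ[R] (∀ i, S ⊗[R] Q i) :=
    LinearMap.pi (fun i => (TensorProduct.mk R S (Q i) 1) ∘ₗ LinearMap.proj i)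
  have hJ : Groth.Agent.Lib.Helper12.MatrixPure J :=
    Groth.Agent.Lib.Helper12.matrixPure_pi _
      (fun i => Groth.Agent.Lib.Helper12.matrixPure_mk_of_faithfullyFlat S (Q i))
  have hJinj : Function.Injective (J.lTensor M) :=
    Groth.Agent.Lib.Helper12.lTensor_injective_of_matrixPure hJ M
  have hA : Function.Injective (TensorProduct.piRightHom R R M (fun i => S ⊗[R] Q i)) :=
    stepA h _
  have sq : ∀ (x : M ⊗[R] (∀ i, Q i)) (i : ι),
      TensorProduct.piRightHom R R M (fun i => S ⊗[R] Q i) (J.lTensor M x) i =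
        (TensorProduct.mk R S (Q i) 1).lTensor M (TensorProduct.piRightHom R R M Q x i) := by
    intro x i
    induction x using TensorProduct.induction_on with
    | zero => simp
    | tmul m f => simp [J]
    | add x y hx hy => simp only [map_add, Pi.add_apply, hx, hy]
  rw [injective_iff_map_eq_zero]
  intro x hx
  apply hJinj
  apply hA
  rw [map_zero, map_zero]
  ext i
  rw [sq, hx]
  simp

end Groth.Agent.S0586
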