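import Groth.Statements.S6383
-- import your own Groth.Agent.* helpers here

set_option autoImplicit false
universe u
open scoped TensorProduct
open CAlg

namespace Groth.Agent.S6383

/-- For a ring map R → S and an R-module M whose base change S ⊗_R M is an internal direct sum of
countably generated S-submodules Q_i (i ∈ I), every countably generated submodule N ≤ M can be
enlarged to a countably generated submodule N' ≤ M, together with a subset I' ⊆ I, so that the
S-span of the image 1 ⊗ N' inside S ⊗_R M equals the sum of the Q_i over i ∈ I'. -/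
theorem result (R S : Type u) [CommRing R] [CommRing S] [Algebra R S]
    (M : Type u) [AddCommGroup M] [Module R M] {I : Type u} [DecidableEq I] (Q : I → Submodule S (S ⊗[R] M))
    (hQ : DirectSum.IsInternal Q) (hQc : ∀ i, ∃ t : Set (S ⊗[R] M), t.Countable ∧ Submodule.span S t = Q i)
    (N : Submodule R M) (hN : ∃ s : Set M, s.Countable ∧ Submodule.span R s = N) :
    ∃ (N' : Submodule R M) (I' : Set I), N ≤ N' ∧ (∃ s : Set M, s.Countable ∧ Submodule.span R s = N') ∧
      Submodule.span S ((TensorProduct.mk R S M 1) '' (N' : Set M)) = ⨆ i ∈ I', Q i := by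
  classical
  obtain ⟨s0, hs0, rfl⟩ := hN
  choose tQ htQc htQ using hQc
  have htop : (⨆ i, Q i) = ⊤ := hQ.submodule_iSup_eq_top
  have hFI : ∀ t : S ⊗[R] M, ∃ F : Finset I, t ∈ ⨆ i ∈ F, Q i := fun t =>
    Submodule.exists_finset_of_mem_iSup Q (htop ▸ Submodule.mem_top)
  choose FI hFI using hFI
  have hFM : ∀ t : S ⊗[R] M, ∃ T : Finset M,
      t ∈ Submodule.span S (TensorProduct.mk R S M 1 '' (T : Set M)) := by
    intro t
    obtain ⟨F, rfl⟩ := TensorProduct.exists_finset t
    refine ⟨F.image Prod.snd, ?_⟩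
    refine Submodule.sum_mem _ fun i hi => ?_
    have h1 : i.1 ⊗ₜ[R] i.2 = i.1 • ((1 : S) ⊗ₜ[R] i.2) := by
      rw [TensorProduct.smul_tmul', smul_eq_mul, mul_one]
    rw [h1]
    refine Submodule.smul_mem _ _ (Submodule.subset_span ⟨i.2, ?_, rfl⟩)
    simp only [Finset.coe_image, Set.mem_image, Finset.mem_coe]
    exact ⟨i, hi, rfl⟩
  choose FM hFM using hFM
  let JOf : Set M → Set I := fun s => ⋃ m ∈ s, (FI ((1 : S) ⊗ₜ[R] m) : Set I)
  let sOf : Set I → Set M := fun J => ⋃ i ∈ J, ⋃ t ∈ tQ i, (FM t : Set M)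
  let step : Set M → Set M := fun s => s ∪ sOf (JOf s)
  let sn : ℕ → Set M := fun n => step^[n] s0
  have hJOf : ∀ s : Set M, s.Countable → (JOf s).Countable := fun s hs =>
    hs.biUnion fun m _ => (FI _).countable_toSet
  have hsOf : ∀ J : Set I, J.Countable → (sOf J).Countable := fun J hJ =>
    hJ.biUnion fun i _ => (htQc i).biUnion fun t _ => (FM t).countable_toSet
  have hsn_succ : ∀ n, sn (n + 1) = step (sn n) := fun n => Function.iterate_succ_apply' step n s0
  have hsn_count : ∀ n, (sn n).Countable := by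
    intro n
    induction n with
    | zero => exact hs0
    | succ n ih =>
      rw [hsn_succ]
      exact ih.union (hsOf _ (hJOf _ ih))
  refine ⟨Submodule.span R (⋃ n, sn n), ⋃ n, JOf (sn n),
    Submodule.span_mono (Set.subset_iUnion sn 0), ⟨⋃ n, sn n, Set.countable_iUnion hsn_count, rfl⟩, ?_⟩
  have hB : Submodule.span S ((TensorProduct.mk R S M 1) '' ((Submodule.span R (⋃ n, sn n) : Submodule R M) : Set M)) =
      Submodule.span S ((TensorProduct.mk R S M 1) '' (⋃ n, sn n)) := by
    have h1 := Submodule.baseChange_eq_span S (Submodule.span R (⋃ n, sn n))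
    have h2 := Submodule.baseChange_span (R := R) (M := M) S (⋃ n, sn n)
    exact h1.symm.trans h2
  rw [hB]
  apply le_antisymm
  · apply Submodule.span_le.2
    rintro _ ⟨m, hm, rfl⟩
    obtain ⟨n, hn⟩ := Set.mem_iUnion.1 hm
    refine (biSup_mono (fun i hi => ?_) : (⨆ i ∈ FI ((1 : S) ⊗ₜ[R] m), Q i) ≤ _) (hFI _)
    exact Set.mem_iUnion.2 ⟨n, Set.mem_biUnion hn hi⟩
  · apply iSup₂_le
    intro i hi
    obtain ⟨n, hn⟩ := Set.mem_iUnion.1 hi
    rw [← htQ i]
    apply Submodule.span_le.2
    intro t ht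
    refine Submodule.span_mono (Set.image_mono ?_) (hFM t)
    intro m hm
    refine Set.mem_iUnion.2 ⟨n + 1, ?_⟩
    rw [hsn_succ]
    right
    exact Set.mem_biUnion hn (Set.mem_biUnion ht hm)

end Groth.Agent.S6383
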