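import Groth.Statements.S0585
import Groth.Agent.Lib27.ML.Descent3
-- import your own Groth.Agent.* helpers here

set_option autoImplicit false
universe u
open CAlg

namespace Groth.Agent.S0585

open Groth.Agent.Lib27.ML.Descent TensorProduct Groth.Agent.Lib.Helper12 in
/-- Let `R → S` be faithfully flat and `M` an `R`-module. If `S ⊗ M` is a projective `S`-module then `M`
is a projective `R`-module. -/
theorem result (R : Type u) [CommRing R] (S : Type u) [CommRing S]
    [Algebra R S] [Module.FaithfullyFlat R S] (M : Type u) [AddCommGroup M] [Module R M]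
    [Module.Projective S (TensorProduct R S M)] : Module.Projective R M := by
  classical
  obtain ⟨-, -, I, Q, hQ, hQcg⟩ :=
    (Groth.Agent.S0584.result S (TensorProduct R S M)).1 inferInstance
  have hQc : ∀ i, ∃ t : Set (S ⊗[R] M), t.Countable ∧ Submodule.span S t = Q i :=
    fun i => Kap.CG.of_type (hQcg i)
  have hQp : ∀ I'' : Set I, Module.Projective S ↥(⨆ i ∈ I'', Q i) :=
    fun I'' => projective_biSup Q hQ I''
  -- Zorn's lemma
  let X : Set (Set (Submodule R M)) := {Pc | sSupIndep Pc ∧ (∀ P ∈ Pc, Module.Projective R P) ∧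
    ∃ I' : Set I, E (S := S) (sSup Pc) = ⨆ i ∈ I', Q i}
  obtain ⟨Pc, hPcX, hPcmax⟩ := zorn_subset X (by
    intro c hcX hc
    refine ⟨⋃₀ c, ⟨?_, ?_, ?_⟩, fun s hs => Set.subset_sUnion_of_mem hs⟩
    · exact iSupIndep_sUnion_of_directed hc.directedOn (fun a ha => (hcX ha).1)
    · rintro P ⟨a, ha, hPa⟩
      exact (hcX ha).2.1 P hPa
    · choose! f hf using (fun a (ha : a ∈ c) => (hcX ha).2.2)
      refine ⟨⋃ a ∈ c, f a, ?_⟩
      rw [sSup_sUnion]
      simp only [E_iSup, iSup_iUnion]
      refine iSup_congr fun a => iSup_congr fun ha => ?_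
      exact hf a ha)
  obtain ⟨hind, hproj, I', hI'⟩ := hPcX
  have htop : sSup Pc = ⊤ := by
    rw [eq_top_iff]
    intro m _
    obtain ⟨C, I'', hdisj, hCp, hmC, hEC⟩ := exists_extension Q hQ hQc hQp (sSup Pc) I' hI' m
    have hins : insert C Pc ∈ X := by
      refine ⟨Kap.sSupIndep_insert hind hdisj.symm, ?_, I'', ?_⟩
      · rintro P (rfl | hP)
        · exact hCp
        · exact hproj P hP
      · rw [sSup_insert, sup_comm, hEC]
    have hle : insert C Pc ⊆ Pc := hPcmax hins (Set.subset_insert _ _)
    have hC : C ≤ sSup Pc := le_sSup (hle (Set.mem_insert _ _))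
    rwa [sup_eq_left.2 hC] at hmC
  have hint : DirectSum.IsInternal (fun P : Pc => (P : Submodule R M)) := by
    apply DirectSum.isInternal_submodule_of_iSupIndep_of_iSup_eq_top
    · exact (sSupIndep_iff _).1 hind
    · rw [← sSup_eq_iSup', htop]
  let e : (DirectSum Pc fun P => (P : Submodule R M)) ≃ₗ[R] M :=
    LinearEquiv.ofBijective (DirectSum.coeLinearMap _) hint
  haveI : ∀ P : Pc, Module.Projective R (P : Submodule R M) := fun P => hproj P.1 P.2
  haveI : Module.Projective R (DirectSum Pc fun P => (P : Submodule R M)) :=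
    inferInstanceAs (Module.Projective R (Π₀ P : Pc, (P : Submodule R M)))
  exact Module.Projective.of_equiv e

end Groth.Agent.S0585
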