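import Groth.Statements.S16211
import Mathlib.Tactic
-- import your own Groth.Agent.* helpers here

set_option autoImplicit false
universe u v
open InvTh

namespace Groth.Agent.S16211

/-- averaging lemma in a ring with a square-zero ideal -/
lemma avg_mul {B : Type*} [CommRing B] (J : Ideal B) (hJ : J ^ 2 = ⊥) {G : Type*} [Fintype G]
    (u : B) (hu : u * (Fintype.card G : B) = 1) (x y : G → B)
    (hx : ∀ g h, x g - x h ∈ J) (hy : ∀ g h, y g - y h ∈ J) :
    u * ∑ g, x g * y g = (u * ∑ g, x g) * (u * ∑ g, y g) := by
  set xb := u * ∑ g, x g with hxb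
  set yb := u * ∑ g, y g with hyb
  have hmem : ∀ (z : G → B), (∀ g h, z g - z h ∈ J) → ∀ g, z g - u * ∑ h, z h ∈ J := by
    intro z hz g
    have : z g - u * ∑ h, z h = u * ∑ h, (z g - z h) := by
      rw [Finset.sum_sub_distrib, Finset.sum_const, Finset.card_univ, nsmul_eq_mul, mul_sub,
        ← mul_assoc, hu, one_mul]
    rw [this]
    exact J.mul_mem_left _ (J.sum_mem fun h _ => hz g h)
  have hzero : ∀ g, (x g - xb) * (y g - yb) = 0 := by
    intro g
    have : (x g - xb) * (y g - yb) ∈ J ^ 2 := by
      rw [pow_two]
      exact Ideal.mul_mem_mul (hmem x hx g) (hmem y hy g)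
    rw [hJ] at this
    exact this
  have hsum : ∑ g, (x g - xb) * (y g - yb) = 0 := Finset.sum_eq_zero fun g _ => hzero g
  have hexp : ∑ g, (x g - xb) * (y g - yb) =
      ∑ g, x g * y g - xb * ∑ g, y g - yb * ∑ g, x g + (Fintype.card G : B) * (xb * yb) := by
    have : ∀ g, (x g - xb) * (y g - yb) = x g * y g - xb * y g - yb * x g + xb * yb := by
      intro g; ring
    simp only [this, Finset.sum_add_distrib, Finset.sum_sub_distrib, ← Finset.mul_sum,
      Finset.sum_const, Finset.card_univ, nsmul_eq_mul]
    ring
  rw [hexp] at hsum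
  have h2 : u * (∑ g, x g * y g - xb * ∑ g, y g - yb * ∑ g, x g +
      (Fintype.card G : B) * (xb * yb)) = 0 := by rw [hsum, mul_zero]
  have h3 : u * (∑ g, x g * y g - xb * ∑ g, y g - yb * ∑ g, x g +
      (Fintype.card G : B) * (xb * yb)) =
      u * ∑ g, x g * y g - xb * yb - yb * xb + (u * (Fintype.card G : B)) * (xb * yb) := by
    rw [hxb, hyb]; ring
  rw [h3, hu] at h2
  linear_combination h2

/-- Let R be a commutative ring, O a formally smooth R-algebra and G a finite group whose order is
invertible in R, acting on O by R-algebra automorphisms. Then the largest quotient algebra of O on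
which G acts trivially, namely the quotient of O by the ideal generated by all g • f - f (the
coordinate ring of the subscheme of G-fixed points of Spec O), is again formally smooth over R:
invariant homomorphisms lift along square-zero extensions. The published statement is about a scheme
X smooth and of finite presentation over the base and concludes that its fixed-point scheme is
smooth; this row, the affine step of its proof, assumes only that O is formally smooth over R and
concludes only formal smoothness. -/
theorem result (R : Type u) [CommRing R]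
    (O : Type u) [CommRing O] [Algebra R O] [Algebra.FormallySmooth R O]
    (G : Type v) [Group G] [Finite G] [MulSemiringAction G O] [SMulCommClass G R O]
    (hG : IsUnit (Nat.card G : R)) :
    Algebra.FormallySmooth R (O ⧸ Ideal.span {x : O | ∃ (g : G) (f : O), x = g • f - f}) := by
  classical
  have : Fintype G := Fintype.ofFinite G
  set I : Ideal O := Ideal.span {x : O | ∃ (g : G) (f : O), x = g • f - f} with hI
  apply Algebra.FormallySmooth.of_comp_surjective
  intro B _ _ J hJ φ
  -- lift the composite
  let π : O →ₐ[R] O ⧸ I := Ideal.Quotient.mkₐ R I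
  obtain ⟨ψ, hψ⟩ := Algebra.FormallySmooth.comp_surjective R O J hJ (φ.comp π)
  have hψ' : ∀ a : O, Ideal.Quotient.mk J (ψ a) = φ (π a) := fun a => AlgHom.congr_fun hψ a
  have hπ : ∀ (g : G) (a : O), π (g • a) = π a := by
    intro g a
    have : g • a - a ∈ I := Ideal.subset_span ⟨g, a, rfl⟩
    have h0 : π (g • a - a) = 0 := Ideal.Quotient.eq_zero_iff_mem.mpr this
    rw [map_sub, sub_eq_zero] at h0
    exact h0
  obtain ⟨r, hr⟩ := hG.exists_right_inv
  rw [Nat.card_eq_fintype_card] at hr
  let u : B := algebraMap R B r
  have hu : u * (Fintype.card G : B) = 1 := by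
    have : algebraMap R B ((Fintype.card G : R) * r) = 1 := by rw [hr, map_one]
    rw [map_mul, map_natCast] at this
    rw [mul_comm]; exact this
  have hdiff : ∀ (a : O) (g h : G), ψ (g • a) - ψ (h • a) ∈ J := by
    intro a g h
    rw [← Ideal.Quotient.eq, hψ', hψ', hπ, hπ]
  -- the averaged map
  let L : O →ₗ[R] B :=
    r • ∑ g : G, ψ.toLinearMap ∘ₗ (MulSemiringAction.toAlgHom R O g).toLinearMap
  have hL : ∀ a, L a = u * ∑ g : G, ψ (g • a) := by
    intro a
    simp only [L, LinearMap.smul_apply, LinearMap.sum_apply, LinearMap.comp_apply,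
      AlgHom.toLinearMap_apply, MulSemiringAction.toAlgHom_apply, u]
    rw [Algebra.smul_def]
  let ψb : O →ₐ[R] B := AlgHom.ofLinearMap L
    (by
      rw [hL]
      simp only [smul_one, map_one, Finset.sum_const, Finset.card_univ, nsmul_eq_mul, mul_one]
      exact hu)
    (by
      intro a b
      rw [hL, hL, hL]
      simp only [smul_mul', map_mul]
      exact avg_mul J hJ u hu _ _ (hdiff a) (hdiff b))
  have hψb : ∀ a, ψb a = u * ∑ g : G, ψ (g • a) := hL
  have hinv : ∀ (h : G) (a : O), ψb (h • a) = ψb a := by
    intro h a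
    rw [hψb, hψb]
    congr 1
    simp only [← mul_smul]
    exact Fintype.sum_equiv (Equiv.mulRight h) _ _ (fun g => rfl)
  have hker : ∀ a ∈ I, ψb a = 0 := by
    intro a ha
    rw [← RingHom.mem_ker]
    revert a
    show I ≤ RingHom.ker ψb.toRingHom
    rw [hI, Ideal.span_le]
    rintro _ ⟨g, f, rfl⟩
    show ψb.toRingHom (g • f - f) = 0
    rw [map_sub]
    show ψb (g • f) - ψb f = 0
    rw [hinv, sub_self]
  refine ⟨Ideal.Quotient.liftₐ I ψb hker, ?_⟩
  apply Ideal.Quotient.algHom_ext
  ext a
  show Ideal.Quotient.mk J (ψb a) = φ (π a)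
  rw [hψb, map_mul, map_sum]
  simp only [hψ', hπ, Finset.sum_const, Finset.card_univ, nsmul_eq_mul]
  rw [← mul_assoc]
  have : Ideal.Quotient.mk J u * (Fintype.card G : B ⧸ J) = 1 := by
    have := congrArg (Ideal.Quotient.mk J) hu
    rwa [map_mul, map_natCast, map_one] at this
  rw [this, one_mul]

end Groth.Agent.S16211
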