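import Groth.Statements.S7225
import Mathlib.Tactic
-- import your own Groth.Agent.* helpers here

set_option autoImplicit false
universe u
open CategoryTheory CategoryTheory.Limits TensorProduct
attribute [local instance] HasDerivedCategory.standard
open FlatMor

namespace Groth.Agent.S7225

section
variable {R S : Type u} [CommRing R] [CommRing S] [Algebra R S]
variable {R' : Type u} [CommRing R'] [Algebra R' S] [Algebra R R'] [IsScalarTower R R' S]

theorem isIso_map_of_bijective {P : Algebra.Extension.{u} R S} {P' : Algebra.Extension.{u} R' S}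
    (f : P.Hom P') (h1 : Function.Bijective (Algebra.Extension.Cotangent.map f))
    (h2 : Function.Bijective (Algebra.Extension.CotangentSpace.map f)) : IsIso (NLCx.map f) := by
  haveI : ∀ k : ℤ, IsIso ((NLCx.map f).f k) := by
    intro k
    by_cases hk0 : k = -1
    · subst hk0
      unfold NLCx.map
      rw [HomologicalComplex.mkHomFromDouble_f₀]
      have h3 : IsIso (ModuleCat.ofHom (Algebra.Extension.Cotangent.map f)) :=
        (ConcreteCategory.isIso_iff_bijective _).mpr h1
      exact IsIso.comp_isIso' inferInstance (IsIso.comp_isIso' h3 inferInstance)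
    · by_cases hk1 : k = 0
      · subst hk1
        unfold NLCx.map
        rw [HomologicalComplex.mkHomFromDouble_f₁]
        have h3 : IsIso (ModuleCat.ofHom (Algebra.Extension.CotangentSpace.map f)) :=
          (ConcreteCategory.isIso_iff_bijective _).mpr h2
        exact IsIso.comp_isIso' inferInstance (IsIso.comp_isIso' h3 inferInstance)
      · have hz1 : IsZero ((NLCx.cx P).X k) := HomologicalComplex.isZero_double_X _ _ k hk0 hk1
        have hz2 : IsZero ((NLCx.cx P').X k) := HomologicalComplex.isZero_double_X _ _ k hk0 hk1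
        exact ⟨0, hz1.eq_of_src _ _, hz2.eq_of_src _ _⟩
  exact HomologicalComplex.Hom.isIso_of_components _

end

attribute [local instance] MvPolynomial.algebraMvPolynomial

section main
variable (A A' B : Type u) [CommRing A] [CommRing A'] [CommRing B]
    [Algebra A A'] (M : Submonoid A) [IsLocalization M A'] [Algebra A' B] [Algebra A B] [IsScalarTower A A' B]
    {ι : Type u} (G : Algebra.Generators A B ι) (G' : Algebra.Generators A' B ι)
    (h : ∀ i, G'.val i = algebraMap B B (G.val i))

theorem toAlgHom_eq (p : MvPolynomial ι A) :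
    (NLCx.sameVarsHom (S' := B) G G' h).toExtensionHom.toAlgHom p =
      MvPolynomial.map (algebraMap A A') p := by
  show MvPolynomial.aeval (fun i => (MvPolynomial.X i : MvPolynomial ι A')) p = _
  induction p using MvPolynomial.induction_on with
  | C a => simp [MvPolynomial.algebraMap_eq, IsScalarTower.algebraMap_apply A A' (MvPolynomial ι A')]
  | add p q hp hq => simp [hp, hq]
  | mul_X p i hp => simp [hp]

include h in
theorem aeval_map (p : MvPolynomial ι A) :
    MvPolynomial.aeval G'.val (MvPolynomial.map (algebraMap A A') p) = MvPolynomial.aeval G.val p := by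
  have hv : G'.val = G.val := funext fun i => by simpa using h i
  rw [hv, MvPolynomial.aeval_map_algebraMap]

theorem cotangentSpace_bijective :
    Function.Bijective (Algebra.Extension.CotangentSpace.map
      (NLCx.sameVarsHom (S' := B) G G' h).toExtensionHom) := by
  classical
  have hb : ∀ i, Algebra.Extension.CotangentSpace.map
      (NLCx.sameVarsHom (S' := B) G G' h).toExtensionHom (G.cotangentSpaceBasis i) =
      G'.cotangentSpaceBasis i := by
    intro i
    apply G'.cotangentSpaceBasis.repr.injective
    ext j
    rw [Algebra.Generators.repr_CotangentSpaceMap]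
    simp [NLCx.sameVarsHom, MvPolynomial.pderiv_X, Pi.single_apply, Finsupp.single_apply]
  have heq : (Algebra.Extension.CotangentSpace.map
      (NLCx.sameVarsHom (S' := B) G G' h).toExtensionHom) =
      (G.cotangentSpaceBasis.equiv G'.cotangentSpaceBasis (Equiv.refl ι)).toLinearMap := by
    apply G.cotangentSpaceBasis.ext
    intro i
    rw [hb i]
    simp
  rw [heq]
  exact LinearEquiv.bijective _

omit [Algebra A B] [IsScalarTower A A' B] in
include M in
theorem isUnit_algebraMap (m : A) (hm : m ∈ M) : IsUnit (algebraMap A' B (algebraMap A A' m)) :=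
  (IsLocalization.map_units A' ⟨m, hm⟩).map _

theorem mem_ker_iff {R S : Type u} [CommRing R] [CommRing S] [Algebra R S] {ι : Type u}
    (G : Algebra.Generators R S ι) (p : G.toExtension.Ring) :
    p ∈ G.toExtension.ker ↔ MvPolynomial.aeval G.val (show MvPolynomial ι R from p) = 0 := by
  show algebraMap G.toExtension.Ring S p = 0 ↔ _
  rw [← Algebra.Generators.algebraMap_apply]
  rfl

/-- `C a` as an element of the extension ring. -/
noncomputable def cE (a : A') : G'.toExtension.Ring := (MvPolynomial.C a : MvPolynomial ι A')

theorem C_smul_mk (a : A') (x : G'.toExtension.Cotangent) :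
    (algebraMap A' B a) • x = (cE A' B G' a) • x := by
  rw [← algebraMap_smul B (cE A' B G' a)]
  congr 1
  show _ = algebraMap G'.Ring B (MvPolynomial.C a)
  rw [Algebra.Generators.algebraMap_apply, MvPolynomial.aeval_C]

include M in
theorem cotangent_surjective :
    Function.Surjective (Algebra.Extension.Cotangent.map
      (NLCx.sameVarsHom (S' := B) G G' h).toExtensionHom) := by
  intro x'
  obtain ⟨⟨p', hp'⟩, rfl⟩ := Algebra.Extension.Cotangent.mk_surjective x'
  obtain ⟨⟨p, ⟨c, hc⟩⟩, hpc⟩ := IsLocalization.surj (S := MvPolynomial ι A')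
    (M.map (MvPolynomial.C (σ := ι))) (show MvPolynomial ι A' from p')
  obtain ⟨m, hm, rfl⟩ := hc
  simp only [MvPolynomial.algebraMap_def] at hpc
  have hp'0 : MvPolynomial.aeval G'.val (show MvPolynomial ι A' from p') = 0 := (mem_ker_iff G' p').mp hp'
  have hpI : (show G.toExtension.Ring from p) ∈ G.toExtension.ker := by
    rw [mem_ker_iff]
    show MvPolynomial.aeval G.val p = 0
    rw [← aeval_map A A' B G G' h, ← hpc, map_mul, hp'0, zero_mul]
  obtain ⟨u, hu⟩ := isUnit_algebraMap A A' B M m hm
  refine ⟨(↑u⁻¹ : B) • Algebra.Extension.Cotangent.mk ⟨p, hpI⟩, ?_⟩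
  rw [map_smul, Algebra.Extension.Cotangent.map_mk]
  have h1 : (Algebra.Extension.Cotangent.mk
      ⟨(NLCx.sameVarsHom (S' := B) G G' h).toExtensionHom.toAlgHom p, by
        rw [mem_ker_iff]
        show MvPolynomial.aeval G'.val ((NLCx.sameVarsHom (S' := B) G G' h).toExtensionHom.toAlgHom p) = 0
        rw [toAlgHom_eq, aeval_map A A' B G G' h]
        exact (mem_ker_iff G p).mp hpI⟩ : G'.toExtension.Cotangent) =
      (algebraMap A' B (algebraMap A A' m)) • Algebra.Extension.Cotangent.mk ⟨p', hp'⟩ := by
    rw [C_smul_mk, ← map_smul]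
    congr 1
    apply Subtype.ext
    show (NLCx.sameVarsHom (S' := B) G G' h).toExtensionHom.toAlgHom p =
      (MvPolynomial.C (algebraMap A A' m) : MvPolynomial ι A') * (show MvPolynomial ι A' from p')
    rw [toAlgHom_eq, ← hpc, MvPolynomial.map_C, mul_comm]
  rw [h1, ← hu, smul_smul, Units.inv_mul, one_smul]

include M h in
theorem ker_le_map :
    RingHom.ker (MvPolynomial.aeval (R := A') G'.val) ≤
      Ideal.map (algebraMap (MvPolynomial ι A) (MvPolynomial ι A'))
        (RingHom.ker (MvPolynomial.aeval (R := A) G.val)) := by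
  intro q' hq'
  rw [RingHom.mem_ker] at hq'
  rw [IsLocalization.mem_map_algebraMap_iff (M.map (MvPolynomial.C (σ := ι))) (MvPolynomial ι A')]
  obtain ⟨⟨q, c⟩, hqc⟩ := IsLocalization.surj (S := MvPolynomial ι A')
    (M.map (MvPolynomial.C (σ := ι))) q'
  refine ⟨⟨⟨q, ?_⟩, c⟩, hqc⟩
  rw [RingHom.mem_ker, ← aeval_map A A' B G G' h]
  simp only [MvPolynomial.algebraMap_def] at hqc
  rw [← hqc, map_mul, hq', zero_mul]

include M h in
theorem key_inj (p : MvPolynomial ι A)
    (h2 : MvPolynomial.map (algebraMap A A') p ∈
      (RingHom.ker (MvPolynomial.aeval (R := A') G'.val)) ^ 2) :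
    ∃ m ∈ M, MvPolynomial.C m * p ∈ (RingHom.ker (MvPolynomial.aeval (R := A) G.val)) ^ 2 := by
  have h3 : algebraMap (MvPolynomial ι A) (MvPolynomial ι A') p ∈
      Ideal.map (algebraMap (MvPolynomial ι A) (MvPolynomial ι A'))
        ((RingHom.ker (MvPolynomial.aeval (R := A) G.val)) ^ 2) := by
    rw [Ideal.map_pow, MvPolynomial.algebraMap_def]
    exact Ideal.pow_right_mono (ker_le_map A A' B M G G' h) 2 h2
  rw [IsLocalization.algebraMap_mem_map_algebraMap_iff (M.map (MvPolynomial.C (σ := ι)))] at h3
  obtain ⟨c, ⟨m, hm, rfl⟩, hc⟩ := h3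
  exact ⟨m, hm, hc⟩

include M in
theorem cotangent_injective :
    Function.Injective (Algebra.Extension.Cotangent.map
      (NLCx.sameVarsHom (S' := B) G G' h).toExtensionHom) := by
  rw [injective_iff_map_eq_zero]
  intro x hx
  obtain ⟨⟨p, hp⟩, rfl⟩ := Algebra.Extension.Cotangent.mk_surjective x
  rw [Algebra.Extension.Cotangent.map_mk, Algebra.Extension.Cotangent.mk_eq_zero_iff] at hx
  have hk' : G'.toExtension.ker = RingHom.ker (MvPolynomial.aeval (R := A') G'.val) :=
    Algebra.Generators.ker_eq_ker_aeval_val G'
  have hk : G.toExtension.ker = RingHom.ker (MvPolynomial.aeval (R := A) G.val) :=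
    Algebra.Generators.ker_eq_ker_aeval_val G
  have hx2 : MvPolynomial.map (algebraMap A A') p ∈
      (RingHom.ker (MvPolynomial.aeval (R := A') G'.val)) ^ 2 := by
    rw [← toAlgHom_eq A A' B G G' h, ← hk']
    exact hx
  obtain ⟨m, hm, hmp⟩ := key_inj A A' B M G G' h p hx2
  obtain ⟨u, hu⟩ := isUnit_algebraMap A A' B M m hm
  have h0 : (u : B) • (Algebra.Extension.Cotangent.mk ⟨p, hp⟩ : G.toExtension.Cotangent) = 0 := by
    rw [hu, ← IsScalarTower.algebraMap_apply A A' B]
    have : (algebraMap A B m) • (Algebra.Extension.Cotangent.mk ⟨p, hp⟩ : G.toExtension.Cotangent) =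
        (show G.toExtension.Ring from (MvPolynomial.C m : MvPolynomial ι A)) •
          (Algebra.Extension.Cotangent.mk ⟨p, hp⟩ : G.toExtension.Cotangent) := by
      rw [← algebraMap_smul B (show G.toExtension.Ring from (MvPolynomial.C m : MvPolynomial ι A))]
      congr 1
      show _ = algebraMap G.Ring B (MvPolynomial.C m)
      rw [Algebra.Generators.algebraMap_apply, MvPolynomial.aeval_C]
    rw [this, ← map_smul, Algebra.Extension.Cotangent.mk_eq_zero_iff]
    have hmp' : (MvPolynomial.C m : MvPolynomial ι A) * (show MvPolynomial ι A from p) ∈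
        G.toExtension.ker ^ 2 := hk ▸ hmp
    exact hmp'
  have := congrArg (fun y => (↑u⁻¹ : B) • y) h0
  simpa [smul_smul] using this

end main

/-- Let A be a ring, M a submonoid of A, A' a localization of A at M and B an A'-algebra, viewed also as
an A-algebra. Let G be a presentation of B over A by a polynomial algebra and G' the presentation of
B over A' with the same generators (G'(i) = G(i), written through the identity algebra map of B).
Then the canonical chain map NL(G) → NL(G') from the naive cotangent complex of the presentation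
over A to that of the presentation over A' is an isomorphism of complexes (so that NL_{B/A} →
NL_{B/A'} is a homotopy equivalence). -/
theorem result (A A' B : Type u) [CommRing A] [CommRing A'] [CommRing B]
    [Algebra A A'] (M : Submonoid A) [IsLocalization M A'] [Algebra A' B] [Algebra A B] [IsScalarTower A A' B]
    {ι : Type u} (G : Algebra.Generators A B ι) (G' : Algebra.Generators A' B ι) (h : ∀ i, G'.val i = algebraMap B B (G.val i)) :
    IsIso (NLCx.map (NLCx.sameVarsHom (S' := B) G G' h).toExtensionHom) := by
  exact isIso_map_of_bijective _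
    ⟨cotangent_injective A A' B M G G' h, cotangent_surjective A A' B M G G' h⟩
    (cotangentSpace_bijective A A' B G G' h)

end Groth.Agent.S7225
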