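import Groth.Statements.S0546
import Mathlib.RingTheory.Finiteness.Ideal
-- import your own Groth.Agent.* helpers here

set_option autoImplicit false
universe u
open CAlg

namespace Groth.Agent.S0546

/-- Elements of `(span (range g)) • N` are `∑ g j • z j` with `z j ∈ N`. -/
theorem exists_sum_smul_of_mem_span_smul {A : Type u} [CommRing A] {M : Type u} [AddCommGroup M]
    [Module A M] {r : ℕ} (g : Fin r → A) (N : Submodule A M) (x : M)
    (hx : x ∈ Ideal.span (Set.range g) • N) :
    ∃ z : Fin r → M, (∀ j, z j ∈ N) ∧ x = ∑ j, g j • z j := by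
  induction hx using Submodule.smul_induction_on' with
  | smul a ha n hn =>
    obtain ⟨c, rfl⟩ := (Ideal.mem_span_range_iff_exists_fun).mp ha
    refine ⟨fun j => c j • n, fun j => N.smul_mem _ hn, ?_⟩
    rw [Finset.sum_smul]
    refine Finset.sum_congr rfl fun j _ => ?_
    rw [smul_smul, mul_comm]
  | add x _ y _ hx hy =>
    obtain ⟨z1, hz1, rfl⟩ := hx
    obtain ⟨z2, hz2, rfl⟩ := hy
    refine ⟨fun j => z1 j + z2 j, fun j => N.add_mem (hz1 j) (hz2 j), ?_⟩
    simp [smul_add, Finset.sum_add_distrib]

theorem pow_smul_top_mono {A : Type u} [CommRing A] {I J : Ideal A} (hIJ : I ≤ J)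
    (M : Type u) [AddCommGroup M] [Module A M] (n : ℕ) :
    (I ^ n • ⊤ : Submodule A M) ≤ J ^ n • ⊤ :=
  Submodule.smul_mono (Ideal.pow_right_mono hIJ n) le_rfl

theorem pow_smul_top_anti {A : Type u} [CommRing A] (J : Ideal A)
    (M : Type u) [AddCommGroup M] [Module A M] {m n : ℕ} (h : m ≤ n) :
    (J ^ n • ⊤ : Submodule A M) ≤ J ^ m • ⊤ :=
  Submodule.smul_mono (Ideal.pow_le_pow_right h) le_rfl

/-- If `I ≤ J` are ideals with `I` finitely generated and `M` is `J`-adically complete, then `M` is
`I`-adically complete. -/
theorem result (A : Type u) [CommRing A] (I J : Ideal A) (hIJ : I ≤ J)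
    (hI : I.FG) (M : Type u) [AddCommGroup M] [Module A M] [IsAdicComplete J M] :
    IsAdicComplete I M := by
  have hH : IsHausdorff I M := by
    refine ⟨fun x hx => ?_⟩
    apply IsHausdorff.haus' (I := J) x
    intro n
    rw [SModEq.zero]
    have := hx n
    rw [SModEq.zero] at this
    exact pow_smul_top_mono hIJ M n this
  have hP : IsPrecomplete I M := by
    refine ⟨fun f hf => ?_⟩
    -- J-adic limit
    obtain ⟨L, hL⟩ := IsPrecomplete.prec' (I := J) f
      (fun {m n} hmn => SModEq.mono (pow_smul_top_mono hIJ M m) (hf hmn))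
    refine ⟨L, fun n => ?_⟩
    obtain ⟨r, g, hg⟩ := Submodule.fg_iff_exists_fin_generating_family.mp (hI.pow (n := n))
    -- decompose the differences
    have hd : ∀ k : ℕ, ∃ z : Fin r → M, (∀ j, z j ∈ (I ^ k • ⊤ : Submodule A M)) ∧
        f (n + k + 1) - f (n + k) = ∑ j, g j • z j := by
      intro k
      apply exists_sum_smul_of_mem_span_smul
      have h1 : f (n + k) ≡ f (n + k + 1) [SMOD (I ^ (n + k) • ⊤ : Submodule A M)] :=
        hf (Nat.le_succ _)
      rw [SModEq.sub_mem] at h1
      have h2 : f (n + k + 1) - f (n + k) ∈ (I ^ (n + k) • ⊤ : Submodule A M) := by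
        have := Submodule.neg_mem _ h1
        simpa using this
      rw [pow_add, mul_smul] at h2
      have hg' : Ideal.span (Set.range g) = I ^ n := hg
      rw [hg']
      exact h2
    choose z hz1 hz2 using hd
    -- partial sums
    let Z : ℕ → Fin r → M := fun K j => ∑ k ∈ Finset.range K, z k j
    have hZc : ∀ j, ∃ W : M, ∀ K, Z K j ≡ W [SMOD (J ^ K • ⊤ : Submodule A M)] := by
      intro j
      apply IsPrecomplete.prec' (I := J) (fun K => Z K j)
      apply (AdicCompletion.isAdicCauchy_iff J M (fun K => Z K j)).mpr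
      intro K
      rw [SModEq.sub_mem]
      have : Z K j - Z (K + 1) j = - z K j := by
        simp [Z, Finset.sum_range_succ]
      rw [this]
      exact Submodule.neg_mem _ (pow_smul_top_mono hIJ M K (hz1 K j))
    choose W hW using hZc
    have htel : ∀ K, f (n + K) - f n = ∑ j, g j • Z K j := by
      intro K
      induction K with
      | zero => simp [Z]
      | succ K ih =>
        have : f (n + (K + 1)) - f n = (f (n + K + 1) - f (n + K)) + (f (n + K) - f n) := by
          rw [← add_assoc]; abel
        rw [this, ih, hz2 K, ← Finset.sum_add_distrib]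
        refine Finset.sum_congr rfl fun j _ => ?_
        simp [Z, Finset.sum_range_succ, smul_add, add_comm]
    have hkey : L - f n - ∑ j, g j • W j = 0 := by
      apply IsHausdorff.haus' (I := J)
      intro K
      rw [SModEq.zero]
      have e : L - f n - ∑ j, g j • W j =
          (L - f (n + K)) + ∑ j, g j • (Z K j - W j) := by
        have := htel K
        simp only [smul_sub, Finset.sum_sub_distrib]
        rw [← this]
        abel
      rw [e]
      refine Submodule.add_mem _ ?_ (Submodule.sum_mem _ fun j _ => Submodule.smul_mem _ _ ?_)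
      · have h1 := hL (n + K)
        rw [SModEq.sub_mem] at h1
        have h2 := Submodule.neg_mem _ h1
        rw [neg_sub] at h2
        exact pow_smul_top_anti J M (Nat.le_add_left K n) h2
      · have h1 := hW j K
        rw [SModEq.sub_mem] at h1
        exact h1
    rw [SModEq.sub_mem]
    have e2 : f n - L = - ∑ j, g j • W j := by
      rw [sub_eq_zero] at hkey
      rw [← hkey]; abel
    rw [e2]
    refine Submodule.neg_mem _ (Submodule.sum_mem _ fun j _ => ?_)
    apply Submodule.smul_mem_smul _ Submodule.mem_top
    rw [← hg]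
    exact Ideal.subset_span ⟨j, rfl⟩
  exact { toIsHausdorff := hH, toIsPrecomplete := hP }

end Groth.Agent.S0546
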