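import Groth.Statements.S9110
import Mathlib

set_option autoImplicit false
universe u
open CategoryTheory CategoryTheory.Limits
open ModSite

namespace Groth.Agent.S9110


section
open MonoidalCategory
variable {C : Type u} [SmallCategory C] (O : Cᵒᵖ ⥤ CommRingCat.{u})

/-- evaluation commutes with `tensorRight` -/
noncomputable def evalTensorRightIso (F : PresheafOfModules.{u} (O ⋙ forget₂ CommRingCat.{u} RingCat.{u}))
    (X : Cᵒᵖ) :
    tensorRight F ⋙ PresheafOfModules.evaluation _ X ≅
      PresheafOfModules.evaluation _ X ⋙ tensorRight (C := ModuleCat (O.obj X)) (F.obj X) :=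
  NatIso.ofComponents (fun G => Iso.refl _) (by
    intro G G' f
    simp only [Iso.refl_hom, Category.comp_id, Category.id_comp]
    rfl)


end
open MonoidalCategory in
theorem aux {C : Type u} [SmallCategory C] (O : Cᵒᵖ ⥤ CommRingCat.{u})
    (F : PresheafOfModules.{u} (O ⋙ forget₂ CommRingCat.{u} RingCat.{u}))
    (hF : ∀ X : Cᵒᵖ, Module.Flat (O.obj X) (F.obj X)) :
    PreservesFiniteLimits (MonoidalCategory.tensorRight F) ∧ PreservesFiniteColimits (MonoidalCategory.tensorRight F) := by
  constructor
  · constructor
    intro J _ _
    constructor
    intro K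
    constructor
    intro c hc
    refine ⟨PresheafOfModules.evaluationJointlyReflectsLimits _ _ (fun X => ?_)⟩
    haveI := hF X
    have h0 : IsLimit ((PresheafOfModules.evaluation _ X).mapCone c) :=
      isLimitOfPreserves (PresheafOfModules.evaluation _ X) hc
    haveI : PreservesFiniteLimits (tensorRight (C := ModuleCat (O.obj X)) (F.obj X)) :=
      (Module.Flat.iff_preservesFiniteLimits_tensorRight (R := O.obj X) (F.obj X)).1 (hF X)
    have hshape : PreservesLimitsOfShape J (tensorRight (C := ModuleCat (O.obj X)) (F.obj X)) :=
      PreservesFiniteLimits.preservesFiniteLimits J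
    have hpl : PreservesLimit (K ⋙ PresheafOfModules.evaluation _ X)
        (tensorRight (C := ModuleCat (O.obj X)) (F.obj X)) := hshape.preservesLimit
    have h1 : IsLimit ((PresheafOfModules.evaluation _ X ⋙
        tensorRight (C := ModuleCat (O.obj X)) (F.obj X)).mapCone c) :=
      (hpl.preserves h0).some
    have h2 : IsLimit ((tensorRight F ⋙ PresheafOfModules.evaluation _ X).mapCone c) :=
      IsLimit.mapConeEquiv (evalTensorRightIso O F X).symm h1
    exact h2
  · constructor
    intro J _ _
    constructor
    intro K
    constructor
    intro c hc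
    refine ⟨PresheafOfModules.evaluationJointlyReflectsColimits _ _ (fun X => ?_)⟩
    have h0 : IsColimit ((PresheafOfModules.evaluation _ X).mapCocone c) :=
      isColimitOfPreserves (PresheafOfModules.evaluation _ X) hc
    have hfc : PreservesFiniteColimits (tensorRight (C := ModuleCat (O.obj X)) (F.obj X)) :=
      inferInstance
    have hshape : PreservesColimitsOfShape J (tensorRight (C := ModuleCat (O.obj X)) (F.obj X)) :=
      PreservesFiniteColimits.preservesFiniteColimits J
    have hpl : PreservesColimit (K ⋙ PresheafOfModules.evaluation _ X)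
        (tensorRight (C := ModuleCat (O.obj X)) (F.obj X)) := hshape.preservesColimit
    have h1 : IsColimit ((PresheafOfModules.evaluation _ X ⋙
        tensorRight (C := ModuleCat (O.obj X)) (F.obj X)).mapCocone c) :=
      (hpl.preserves h0).some
    have h2 : IsColimit ((tensorRight F ⋙ PresheafOfModules.evaluation _ X).mapCocone c) :=
      IsColimit.mapCoconeEquiv (evalTensorRightIso O F X).symm h1
    exact h2

/-- Let C be a small category, O a presheaf of commutative rings on C and F a presheaf of O-modules such
that each F(U) is a flat O(U)-module. Then F is flat as a presheaf of modules, i.e. the functor G ↦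
G ⊗_{p,O} F given by the sectionwise tensor product of presheaves of modules is exact (preserves
finite limits and finite colimits). -/
theorem result {C : Type u} [SmallCategory C] (O : Cᵒᵖ ⥤ CommRingCat.{u})
    (F : PresheafOfModules.{u} (O ⋙ forget₂ CommRingCat.{u} RingCat.{u}))
    (hF : ∀ X : Cᵒᵖ, Module.Flat (O.obj X) (F.obj X)) :
    PreservesFiniteLimits (MonoidalCategory.tensorRight F) ∧ PreservesFiniteColimits (MonoidalCategory.tensorRight F) := by
  exact aux O F hF

end Groth.Agent.S9110
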