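import Groth.Statements.S6944
import Groth.Agent.Lib.Helper13.DRingTor5

set_option autoImplicit false
universe u
open CategoryTheory CategoryTheory.Limits
attribute [local instance] HasDerivedCategory.standard
open DRing

namespace Groth.Agent.S6944

/-- Let R be a commutative ring and K a bounded above cochain complex of flat R-modules such that K, as
an object of D(R), has tor amplitude in [a, c] (it is isomorphic in D(R) to a complex of flat
modules vanishing outside [a, c]). Then the cokernel of the differential K^(a-1) → K^a is a flat
R-module. -/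
theorem result (R : Type u) [CommRing R] (K : DRing.Cx R) (b : ℤ)
    (hb : DRing.VanishesAbove K b) (hflat : DRing.TermwiseFlat K) (a c : ℤ)
    (hamp : DRing.HasTorAmplitudeIn R a c (DRing.toD K)) :
    Module.Flat R ((K.X a) ⧸ LinearMap.range (K.d (a - 1) a).hom) := by
  open Groth.Agent.Lib.Helper13.DR Groth.Agent.Lib.Helper13.PC in
  have hexN : ∀ N : ModuleCat.{u} R, ((tensorCx N).obj K).ExactAt (a - 1) := fun N => by
    rw [HomologicalComplex.exactAt_iff_isZero_homology]
    exact tensor_vanishing_of_hasTorAmplitudeIn hamp K b hb hflat (Iso.refl _) N (a - 1)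
      (Or.inl (by lia))
  have hex : K.ExactAt (a - 1) := by
    rw [HomologicalComplex.exactAt_iff_isZero_homology]
    exact (isZero_HD_of_hasTorAmplitudeIn hamp (a - 1) (Or.inl (by lia))).of_iso
      (homologyQIso K (a - 1)).symm
  exact flat_quotient_range_of_rTensor_exact (K.d (a - 1 - 1) (a - 1)).hom (K.d (a - 1) a).hom
    ((exactAt_iff_function_exact K (a - 1 - 1) (a - 1) a (by ring) (by ring)).1 hex) (hflat a)
    (fun I => (exactAt_iff_function_exact _ (a - 1 - 1) (a - 1) a (by ring) (by ring)).1
      (hexN (ModuleCat.of R (R ⧸ I))))

end Groth.Agent.S6944
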