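import Groth.Statements.S6954
import Groth.Agent.Lib.Helper13.DRingPC

set_option autoImplicit false
universe u
open CategoryTheory CategoryTheory.Limits
attribute [local instance] HasDerivedCategory.standard
open DRing

namespace Groth.Agent.S6954

/-- Let R be a commutative ring and K an object of D(R). Then K is perfect (isomorphic in D(R) to a
bounded complex of finite projective modules) if and only if K is pseudo-coherent (isomorphic to a
bounded above complex of finite free modules) and has finite tor dimension (isomorphic to a bounded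
complex of flat modules). -/
theorem result (R : Type u) [CommRing R] (K : Dual.D R) :
    DRing.IsPerfect R K ↔ DRing.IsPseudoCoherent' R K ∧ DRing.HasFiniteTorDimCx R K := by
  constructor
  · rintro ⟨E, a, b, hE, hP, ⟨e⟩⟩
    refine ⟨?_, a, b, E, hE, fun i => Groth.Agent.Lib.Helper13.DR.Pfp_le_Pfl (hP i), ⟨e⟩⟩
    rw [Groth.Agent.Lib.Helper13.DR.isPseudoCoherent'_iff]
    intro n
    exact (Groth.Agent.Lib.Helper13.DR.isNPC_Pfp_iff_Pff n K).1
      ⟨E, ⟨⟨b, fun i hi => hE i (Or.inr hi)⟩, fun i _ => hP i⟩, ⟨e⟩⟩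
  · rintro ⟨hpc, a, b, F, hFv, hFl, ⟨e⟩⟩
    rw [Groth.Agent.Lib.Helper13.DR.isPseudoCoherent'_iff] at hpc
    obtain ⟨E, hE, hP, hE'⟩ := Groth.Agent.Lib.Helper13.DR.exists_perfect_of_isNPC_of_flat a b K (hpc _) F hFv hFl e
    exact ⟨E, a, b, hE, hP, hE'⟩

end Groth.Agent.S6954
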