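import Groth.Statements.S0480
import Mathlib

set_option autoImplicit false
universe v u
open CategoryTheory
open CohDer

namespace Groth.Agent.S0480

open CategoryTheory.Limits in
/-- evaluation of cochain complexes preserves all limit cones -/
noncomputable def evalIsLimit {A : Type u} [Category.{v} A] [Abelian A] {J : Type*} [Category J] (F : J ⥤ CochainComplex A ℤ) (c : Cone F)
    (hc : IsLimit c) (n : ℤ) :
    IsLimit ((HomologicalComplex.eval A (ComplexShape.up ℤ) n).mapCone c) := by
  apply coyonedaJointlyReflectsLimits
  intro X
  induction X using Opposite.rec with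
  | _ X =>
    exact isLimitOfPreserves (HomologicalComplex.eval A (ComplexShape.up ℤ) n ⋙
      coyoneda.obj (Opposite.op X)) hc

open CategoryTheory.Limits in
/-- In an abelian category, if the product of a family of K-injective cochain complexes exists (it is
then the termwise product), it is again K-injective. -/
theorem result {A : Type u} [Category.{v} A] [Abelian A] {T : Type v} (I : T → CochainComplex A ℤ)
    [HasProduct I] (h : ∀ t, (I t).IsKInjective) : (∏ᶜ I).IsKInjective := by
  refine ⟨fun {K} f hK => ?_⟩
  -- homotopies for each component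
  have hH : ∀ t, Nonempty (Homotopy (f ≫ Pi.π I t) 0) := fun t =>
    (h t).nonempty_homotopy_zero _ hK
  let H := fun t => (hH t).some
  -- limit cones in each degree
  let lim : ∀ n : ℤ, IsLimit ((HomologicalComplex.eval A (ComplexShape.up ℤ) n).mapCone
      (limit.cone (Discrete.functor I))) := fun n => evalIsLimit _ _ (limit.isLimit _) n
  -- the cone for the homotopy components
  let s : ∀ i j : ℤ, Cone (Discrete.functor I ⋙ HomologicalComplex.eval A (ComplexShape.up ℤ) j) :=
    fun i j =>
      { pt := K.X i
        π := Discrete.natTrans (fun t => (H t.as).hom i j) }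
  let L : ∀ i j : ℤ, K.X i ⟶ (∏ᶜ I).X j := fun i j => (lim j).lift (s i j)
  have hlift : ∀ (i j : ℤ) (t : T), L i j ≫ (Pi.π I t).f j = (H t).hom i j :=
    fun i j t => (lim j).fac (s i j) ⟨t⟩
  have hext : ∀ (n : ℤ) {X : A} (a b : X ⟶ (∏ᶜ I).X n),
      (∀ t, a ≫ (Pi.π I t).f n = b ≫ (Pi.π I t).f n) → a = b := by
    intro n X a b hab
    refine (lim n).hom_ext (fun t => ?_)
    exact hab t.as
  clear_value L
  refine ⟨{ hom := L
            zero := fun i j hij => ?_
            comm := fun i => ?_ }⟩
  · refine hext j _ _ (fun t => ?_)
    rw [hlift, (H t).zero i j hij, zero_comp]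
  · refine hext i _ _ (fun t => ?_)
    have hc := (H t).comm i
    rw [dNext_eq _ (show (ComplexShape.up ℤ).Rel i (i + 1) from rfl),
      prevD_eq _ (show (ComplexShape.up ℤ).Rel (i - 1) i by simp)] at hc ⊢
    simp only [HomologicalComplex.zero_f, add_zero, HomologicalComplex.comp_f] at hc ⊢
    rw [hc, Preadditive.add_comp, Category.assoc, Category.assoc, hlift,
      ← (Pi.π I t).comm (i - 1) i, ← Category.assoc, hlift]

end Groth.Agent.S0480
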