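import Groth.Statements.S0484
import Mathlib

set_option autoImplicit false
universe u
open CategoryTheory
open CohSite

namespace Groth.Agent.S0484

open CategoryTheory.Limits

section
variable {C : Type u} [SmallCategory C] (J : GrothendieckTopology C) (R : Sheaf J RingCat.{u})

/-- the free sheaf of modules on a representable -/
noncomputable def gen (X : C) : SheafOfModules.{u} R :=
  (PresheafOfModules.sheafification (𝟙 R.obj)).obj
    ((PresheafOfModules.free R.obj).obj (yoneda.obj X))

lemma gen_isSeparating : ObjectProperty.IsSeparating (.ofObj (gen J R)) := by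
  intro M N f g hfg
  refine (SheafOfModules.forget R).map_injective
    (PresheafOfModules.freeYoneda.isSeparating R.obj _ _ ?_)
  rintro _ ⟨X⟩ a
  apply ((PresheafOfModules.sheafificationAdjunction (𝟙 R.obj)).homEquiv _ _).symm.injective
  have h := hfg _ (ObjectProperty.ofObj_apply _ X)
      (((PresheafOfModules.sheafificationAdjunction (𝟙 R.obj)).homEquiv _ _).symm a)
  exact ((PresheafOfModules.sheafificationAdjunction (𝟙 R.obj)).homEquiv_naturality_right_symm
    a f).trans (h.trans ((PresheafOfModules.sheafificationAdjunction
      (𝟙 R.obj)).homEquiv_naturality_right_symm a g).symm)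

theorem aux : IsGrothendieckAbelian.{u} (SheafOfModules.{u} R) := by
  have hP : ∀ (K : Type u) [SmallCategory K] [IsFiltered K],
      HasExactColimitsOfShape K (PresheafOfModules.{u} R.obj) := by
    intro K _ _
    have : ReflectsFiniteLimits (PresheafOfModules.toPresheaf R.obj) :=
      ⟨fun K' _ _ => reflectsLimitsOfShape_of_reflectsIsomorphisms⟩
    exact HasExactColimitsOfShape.domain_of_functor K (PresheafOfModules.toPresheaf R.obj)
  have hS : AB5OfSize.{u, u} (SheafOfModules.{u} R) :=
    ⟨fun K _ _ => by
      have := hP K
      exact (PresheafOfModules.sheafificationAdjunction (𝟙 R.obj)).hasExactColimitsOfShape K⟩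
  have hsep : HasSeparator (SheafOfModules.{u} R) :=
    ⟨⟨_, (gen_isSeparating J R).isSeparator_coproduct⟩⟩
  exact {}

end


/-- For a sheaf of rings O on a small site, the category of O-modules has exact filtered colimits and a
generator, so it is a Grothendieck abelian category. -/
theorem result {C : Type u} [SmallCategory C] (J : GrothendieckTopology C)
    (R : Sheaf J RingCat.{u}) : IsGrothendieckAbelian.{u} (SheafOfModules.{u} R) := by
  exact aux J R

end Groth.Agent.S0484
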