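import Groth.Statements.S4848
import Groth.Agent.Lib27.Flat.Limit

set_option autoImplicit false
universe u
open TensorProduct
open EGA43

namespace Groth.Agent.S4848

/-- Let A₀ be a commutative ring, (A_i) a directed system of A₀-algebras with colimit A, B₀ a finitely
presented A₀-algebra and M₀ a finitely presented B₀-module. Then the A-module A ⊗_{A₀} M₀ is flat if
and only if, for some index i, the A_i-module A_i ⊗_{A₀} M₀ is flat. -/
theorem result {A₀ : Type u} [CommRing A₀]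
    {ι : Type u} [Preorder ι] (G : ι → Type u) [∀ i, CommRing (G i)] [∀ i, Algebra A₀ (G i)]
    (g : ∀ i j, i ≤ j → G i →ₐ[A₀] G j)
    (A : Type u) [CommRing A] [Algebra A₀ A] [∀ i, Algebra (G i) A] [∀ i, IsScalarTower A₀ (G i) A]
    (hcolim : FlatCA.IsDirectedColimitRing G (fun i j h => (g i j h).toRingHom) A)
    {B₀ : Type u} [CommRing B₀] [Algebra A₀ B₀] [Algebra.FinitePresentation A₀ B₀]
    (M₀ : Type u) [AddCommGroup M₀] [Module B₀ M₀] [Module A₀ M₀] [IsScalarTower A₀ B₀ M₀]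
    [Module.FinitePresentation B₀ M₀] :
    Module.Flat A (A ⊗[A₀] M₀) ↔ ∃ i : ι, Module.Flat (G i) (G i ⊗[A₀] M₀) := by
  classical
  have hg : ∀ i j (h : i ≤ j),
      ((g i j h).toRingHom).comp (algebraMap A₀ (G i)) = algebraMap A₀ (G j) :=
    fun i j h => (g i j h).comp_algebraMap
  obtain ⟨n, k, ⟨P⟩⟩ := Algebra.Presentation.exists_presentation_fin A₀ B₀
  obtain ⟨r, m, g₀, ε, c, hε, hrel, hcc, ⟨eR⟩⟩ :=
    Groth.Agent.Lib.Helper18.Fl.exists_presentation_data A₀ B₀ M₀ n k P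
  constructor
  · intro hflat
    haveI : Module.Flat A (A ⊗[A₀] ((Fin r → MvPolynomial (Fin n) A₀) ⧸
        Groth.Agent.Lib.Helper18.Fl.Kspan g₀)) :=
      Module.Flat.of_linearEquiv
        (TensorProduct.AlgebraTensorModule.congr (LinearEquiv.refl A A) eR)
    haveI : Module.Flat A ((Fin r → MvPolynomial (Fin n) A) ⧸
        Groth.Agent.Lib.Helper18.Fl.Kspan
          (fun i => Groth.Agent.Lib.Helper18.Fl.mapVec (algebraMap A₀ A) (g₀ i))) :=
      (Groth.Agent.Lib27.BCPres.flat_pres_iff (R₀ := A₀) (R₁ := A) g₀).mp inferInstance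
    obtain ⟨j, hj⟩ := Groth.Agent.Lib27.Limit.exists_stage_flat hcolim hg g₀
    refine ⟨j, ?_⟩
    haveI : Module.Flat (G j) (G j ⊗[A₀] ((Fin r → MvPolynomial (Fin n) A₀) ⧸
        Groth.Agent.Lib.Helper18.Fl.Kspan g₀)) :=
      (Groth.Agent.Lib27.BCPres.flat_pres_iff (R₀ := A₀) (R₁ := G j) g₀).mpr hj
    exact Module.Flat.of_linearEquiv
      (TensorProduct.AlgebraTensorModule.congr (LinearEquiv.refl (G j) (G j)) eR.symm)
  · rintro ⟨i, hi⟩
    exact Module.Flat.of_linearEquiv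
      (TensorProduct.AlgebraTensorModule.cancelBaseChange A₀ (G i) A A M₀).symm

end Groth.Agent.S4848
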