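import Groth.Statements.S1460
import Mathlib.RingTheory.Extension.Presentation.Core
import Mathlib.Algebra.Category.Ring.Constructions
import Mathlib.AlgebraicGeometry.Pullbacks

set_option autoImplicit false
universe u
open FlatMor

namespace Groth.Agent.S1460


open TensorProduct in
theorem ring_descent (A B : Type u) [CommRing A] [CommRing B] [Algebra A B]
    [Algebra.FinitePresentation A B] :
    ∃ (A₀ : Subalgebra ℤ A) (B₀ : Type u) (_ : CommRing B₀) (_ : Algebra A₀ B₀),
      A₀.FG ∧ Algebra.FinitePresentation A₀ B₀ ∧ Nonempty (B ≃ₐ[A] A ⊗[A₀] B₀) := by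
  let P := Algebra.Presentation.ofFinitePresentation A B
  let A₀ := Algebra.adjoin ℤ P.coeffs
  have : P.HasCoeffs A₀ := ⟨by simp [A₀]⟩
  exact ⟨A₀, (P.ModelOfHasCoeffs A₀:), inferInstance, inferInstance,
    ⟨P.finite_coeffs.toFinset, by simp [A₀]⟩, inferInstance,
    ⟨(P.tensorModelOfHasCoeffsEquiv A₀).symm⟩⟩

open AlgebraicGeometry CategoryTheory Limits in
/-- Let f : X → S be a morphism of finite presentation between affine schemes. Then f is the base change
of a morphism of finite type f₀ : X₀ → S₀ between affine schemes with S₀ of finite type over ℤ. -/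
theorem result {X S : Scheme.{u}} (f : X ⟶ S) [IsAffine X] [IsAffine S] [LocallyOfFinitePresentation f] :
    ∃ (X₀ S₀ : Scheme.{u}) (f₀ : X₀ ⟶ S₀) (g : S ⟶ S₀) (g' : X ⟶ X₀), IsAffine X₀ ∧ IsAffine S₀ ∧ IsPullback g' f f₀ g ∧
      Algebra.FiniteType ℤ Γ(S₀, ⊤) ∧ LocallyOfFiniteType f₀ := by
  have hfp : (f.appTop).hom.FinitePresentation :=
    (HasRingHomProperty.iff_of_isAffine (P := @LocallyOfFinitePresentation)).1 inferInstance
  algebraize [(f.appTop).hom]
  obtain ⟨A₀, B₀, _, _, hA₀, hB₀, ⟨e⟩⟩ := ring_descent Γ(S, ⊤) Γ(X, ⊤)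
  -- the ring maps
  let α : CommRingCat.of A₀ ⟶ Γ(S, ⊤) := CommRingCat.ofHom (algebraMap A₀ Γ(S, ⊤))
  let φ₀ : CommRingCat.of A₀ ⟶ CommRingCat.of B₀ := CommRingCat.ofHom (algebraMap A₀ B₀)
  let β : CommRingCat.of B₀ ⟶ Γ(X, ⊤) := CommRingCat.ofHom
    ((e.symm : _ →+* _).comp (Algebra.TensorProduct.includeRight (R := A₀) (A := Γ(S, ⊤)) (B := B₀)).toRingHom)
  have hpo : IsPushout α φ₀ f.appTop β := by
    refine (CommRingCat.isPushout_tensorProduct A₀ Γ(S, ⊤) B₀).of_iso (Iso.refl _) (Iso.refl _)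
      (Iso.refl _) e.symm.toRingEquiv.toCommRingCatIso ?_ ?_ ?_ ?_
    · simp [α]
    · simp [φ₀]
    · ext x
      simp only [Iso.refl_hom, CommRingCat.hom_comp, CommRingCat.hom_ofHom, RingHom.coe_comp,
        Function.comp_apply, Category.id_comp]
      exact e.symm.commutes x
    · ext x
      simp [β]
  have hpb := (isPullback_SpecMap_of_isPushout _ _ _ _ hpo).flip
  refine ⟨Spec (CommRingCat.of B₀), Spec (CommRingCat.of A₀), Spec.map φ₀, S.isoSpec.hom ≫ Spec.map α,
    X.isoSpec.hom ≫ Spec.map β, inferInstance, inferInstance, ?_, ?_, ?_⟩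
  · refine hpb.of_iso X.isoSpec.symm (Iso.refl _) S.isoSpec.symm (Iso.refl _) ?_ ?_ ?_ ?_
    · simp
    · simp only [Iso.symm_hom]
      rw [Iso.eq_inv_comp, ← Category.assoc, Iso.comp_inv_eq]
      exact Scheme.isoSpec_hom_naturality f
    · simp
    · simp
  · have h1 : Algebra.FiniteType ℤ A₀ := (Subalgebra.fg_iff_finiteType A₀).mp hA₀
    exact Algebra.FiniteType.equiv h1
      (Scheme.ΓSpecIso (CommRingCat.of A₀)).symm.commRingCatIsoToRingEquiv.toIntAlgEquiv
  · rw [HasRingHomProperty.Spec_iff (P := @LocallyOfFiniteType)]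
    have : Algebra.FiniteType A₀ B₀ := inferInstance
    exact (RingHom.finiteType_algebraMap (A := A₀) (B := B₀)).2 this

end Groth.Agent.S1460
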