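import Groth.Statements.S2171
import Groth.Agent.Lib.Helper28.QuadForm

set_option autoImplicit false
open Finset
open Models

namespace Groth.Agent.S2171

/-- Let A be a symmetric real n by n matrix with non-negative off-diagonal entries, m a vector with
positive entries such that A m = 0, and assume no proper non-empty index set I has A i j = 0 for all
i in I and j outside I. Then x^t A x is at most 0 for every real vector x, with equality exactly
when x is a real multiple of m. -/
theorem result {n : ℕ} (A : Matrix (Fin n) (Fin n) ℝ)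
    (m : Fin n → ℝ) (hsymm : A.IsSymm) (hA : ∀ i j, i ≠ j → 0 ≤ A i j) (hm : ∀ i, 0 < m i)
    (hAm : A.mulVec m = 0)
    (hconn : ∀ I : Finset (Fin n), I.Nonempty → I ≠ univ → ∃ i ∈ I, ∃ j ∉ I, A i j ≠ 0)
    (x : Fin n → ℝ) :
    dotProduct x (A.mulVec x) ≤ 0 ∧ (dotProduct x (A.mulVec x) = 0 ↔ ∃ q : ℝ, x = q • m) := by
  have hle : ∀ i, (A.mulVec m) i ≤ 0 := fun i => by simp [hAm]
  obtain ⟨h1, h2⟩ := Groth.Agent.Lib.Helper28.quad_aux A m hsymm hA hm hle x
  refine ⟨h1, ⟨fun h0 => ?_, ?_⟩⟩
  · obtain ⟨-, hd⟩ := h2 h0
    rcases Nat.eq_zero_or_pos n with hn | hn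
    · subst hn
      exact ⟨0, funext fun i => i.elim0⟩
    · let i0 : Fin n := ⟨0, hn⟩
      let I : Finset (Fin n) := univ.filter fun i => x i / m i = x i0 / m i0
      have hI0 : I.Nonempty := ⟨i0, by simp [I]⟩
      by_cases hI : I = univ
      · refine ⟨x i0 / m i0, funext fun i => ?_⟩
        have hi : i ∈ I := by rw [hI]; exact mem_univ i
        have hi' : x i / m i = x i0 / m i0 := by simpa [I] using hi
        simp only [Pi.smul_apply, smul_eq_mul]
        rw [← hi']; field_simp [(hm i).ne']
      · exfalso
        obtain ⟨i, hi, j, hj, hij⟩ := hconn I hI0 hI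
        have hi' : x i / m i = x i0 / m i0 := by simpa [I] using hi
        rcases hd i j with h | h
        · exact hij h
        · apply hj
          simp only [I, mem_filter, mem_univ, true_and]
          rw [← h, hi']
  · rintro ⟨q, rfl⟩
    rw [Matrix.mulVec_smul, hAm]
    simp

end Groth.Agent.S2171
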