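import Groth.Statements.S16484
import Groth.Agent.Lib.Helper29.QCohFinite
-- import your own Groth.Agent.* helpers here

set_option autoImplicit false
universe u
open CategoryTheory AlgebraicGeometry
open RefHull

namespace Groth.Agent.S16484


open Groth.Agent.Lib.Helper29.QCoh TopologicalSpace Opposite

/-- Consider a scheme X together with O_X-modules F and G, where F is assumed to be of finite type, and
fix a point x ∈ X. The natural O_{X,x}-linear map 𝓗om_{O_X}(F, G)_x → Hom_{O_{X,x}}(F_x, G_x),
taking the germ at x of a section of the sheaf Hom to the map on stalks at x that it induces, is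
injective. (In the source the claim is made for modules over any ringed space; here it is formulated
only for schemes, since that is where the sheaf Hom used in the statement is available.) -/
theorem result (X : Scheme.{u}) (F G : X.Modules) (hF : CohB1.IsFT F) (x : X) :
    Function.Injective (RefHull.evalStalk F G x) := by
  have : F.IsFiniteType := hF
  rw [injective_iff_map_eq_zero]
  intro θ hθ
  obtain ⟨U0, hx0, g, rfl⟩ := TopCat.Presheaf.exists_germ_eq (RefHull.homSh F G).presheaf θ
  rw [RefHull.evalStalk_germ] at hθ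
  obtain ⟨U, -, hxU, n, s, hs⟩ := exists_affine_sections_span_eq_top F x
  -- restrict the generators to `V = U0 ⊓ U`
  let V : X.Opens := U0 ⊓ U
  have hxV : x ∈ V := ⟨hx0, hxU⟩
  let s' : Fin n → Γ(F, V) := fun i => F.presheaf.map (homOfLE (inf_le_right : V ≤ U)).op (s i)
  have hs' : ∀ (y : X) (hy : y ∈ V), Submodule.span (X.presheaf.stalk y)
      (Set.range fun i => F.presheaf.germ V y hy (s' i)) = ⊤ := by
    intro y hy
    rw [← hs y hy.2]
    congr 1
    ext t
    simp only [Set.mem_range, s']
    constructor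
    · rintro ⟨i, rfl⟩
      exact ⟨i, (TopCat.Presheaf.germ_res_apply F.presheaf _ y hy (s i)).symm⟩
    · rintro ⟨i, rfl⟩
      exact ⟨i, TopCat.Presheaf.germ_res_apply F.presheaf _ y hy (s i)⟩
  -- each generator is killed near `x`
  have key : ∀ i : Fin n, ∀ᶠ y in nhds x, ∃ hy : y ∈ V,
      g.1 ⟨y, hy.1⟩ (F.presheaf.germ V y hy (s' i)) = 0 := by
    intro i
    obtain ⟨W, hxW, j, m, hW⟩ := RefHull.isLocSect_of_mem g V (homOfLE inf_le_left) (s' i) ⟨x, hxV⟩
    have h0 : G.presheaf.germ W x hxW m = 0 := by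
      rw [← hW ⟨x, hxW⟩]
      exact congrFun (congrArg DFunLike.coe hθ) _
    obtain ⟨W', hW'W, hxW', hres⟩ := exists_res_eq_zero_of_germ_eq_zero G x hxW m h0
    refine Filter.mem_of_superset (W'.isOpen.mem_nhds hxW') ?_
    intro y hy
    refine ⟨j.le (hW'W hy), ?_⟩
    have e := hW ⟨y, hW'W hy⟩
    refine e.trans ?_
    have e2 := TopCat.Presheaf.germ_res_apply G.presheaf (homOfLE hW'W) y hy m
    rw [← e2]
    change G.presheaf.germ W' y hy (res G hW'W m) = 0
    rw [hres, map_zero]
  have key' : ∀ᶠ y in nhds x, ∀ i : Fin n, ∃ hy : y ∈ V,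
      g.1 ⟨y, hy.1⟩ (F.presheaf.germ V y hy (s' i)) = 0 := Filter.eventually_all.mpr key
  obtain ⟨W, hWsub, hWopen, hxW⟩ := mem_nhds_iff.mp (Filter.inter_mem key' (V.isOpen.mem_nhds hxV))
  let Wo : X.Opens := ⟨W, hWopen⟩
  have hWV : Wo ≤ V := fun y hy => (hWsub hy).2
  have hWU0 : Wo ≤ U0 := hWV.trans inf_le_left
  -- the restriction of `g` to `W` is zero
  have hzero : (RefHull.homSh F G).presheaf.map (homOfLE hWU0).op g = 0 := by
    apply Subtype.ext
    funext y
    change g.1 ⟨y.1, hWU0 y.2⟩ = 0
    have hy := (hWsub y.2).1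
    have hyV : y.1 ∈ V := hWV y.2
    apply LinearMap.ext_on (hs' y.1 hyV)
    rintro _ ⟨i, rfl⟩
    obtain ⟨hy', h⟩ := hy i
    rw [LinearMap.zero_apply]
    exact h
  rw [← TopCat.Presheaf.germ_res_apply (RefHull.homSh F G).presheaf (homOfLE hWU0) x hxW g, hzero, map_zero]

end Groth.Agent.S16484
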