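import Groth.Statements.S0010
import Mathlib
import Groth.Agent.Lib.Helper8.MVVanish
import Groth.Agent.Lib.Helper22.Cech.SchemeLeray

set_option autoImplicit false
universe u
open Coherent

open AlgebraicGeometry

namespace S0010aux
open AlgebraicGeometry CategoryTheory TopologicalSpace
open Groth.Agent.Lib.Helper8 Groth.Agent.Lib.Helper22.Cech

lemma iSup_fin_succ_last {α : Type*} [CompleteLattice α] {t : ℕ} (U : Fin (t + 1) → α) :
    (⨆ i, U i) = (⨆ i : Fin t, U i.castSucc) ⊔ U (Fin.last t) := by
  apply le_antisymm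
  · refine iSup_le fun i => ?_
    induction i using Fin.lastCases with
    | last => exact le_sup_right
    | cast i => exact le_sup_of_le_left (le_iSup (fun i : Fin t => U i.castSucc) i)
  · exact sup_le (iSup_le fun i => le_iSup U _) (le_iSup U _)

theorem claim (X : Scheme.{u})
    (hd : ∀ V W : X.Opens, IsAffineOpen V → IsAffineOpen W → IsAffineOpen (V ⊓ W))
    (M : X.Modules) [Coh.IsQCoh M] (t : ℕ) (ht : 1 ≤ t) :
    ∀ (U : Fin t → X.Opens), (∀ i, IsAffineOpen (U i)) → ∀ n : ℕ, t ≤ n →
      Subsingleton (CohTop.HU (X := X.carrier) (Coh.toAb M) n (⨆ i, U i)) := by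
  induction t, ht using Nat.le_induction with
  | base =>
    intro U hU n hn
    obtain ⟨q, rfl⟩ : ∃ q, n = q + 1 := ⟨n - 1, by omega⟩
    have : (⨆ i, U i) = U 0 := by
      apply le_antisymm
      · refine iSup_le fun i => ?_
        rw [Subsingleton.elim i 0]
      · exact le_iSup U 0
    rw [this]
    exact subsingleton_HU_succ_of_isAffineOpen X M _ (hU 0) q
  | succ t ht ih =>
    intro U hU n hn
    obtain ⟨q, rfl⟩ : ∃ q, n = q + 1 := ⟨n - 1, by omega⟩
    rw [iSup_fin_succ_last]
    apply MVVanish.subsingleton_HU_sup (X := X.carrier)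
    · rw [iSup_inf_eq]
      exact ih (fun i => U i.castSucc ⊓ U (Fin.last t)) (fun i => hd _ _ (hU _) (hU _)) q (by omega)
    · exact ih (fun i => U i.castSucc) (fun i => hU _) (q + 1) (by omega)
    · exact subsingleton_HU_succ_of_isAffineOpen X M _ (hU _) q

lemma isZero_of_isEmpty {X : TopCat.{u}} [IsEmpty X] (F : CohTop.Ab X) : Limits.IsZero F := by
  rw [Limits.IsZero.iff_id_eq_zero]
  apply Sheaf.hom_ext
  ext U x
  have hU : U.unop = ⊥ := by
    ext y; exact isEmptyElim y
  have h1 : Limits.IsTerminal (F.obj.obj (Opposite.op (⊥ : Opens X))) := TopCat.Sheaf.isTerminalOfEmpty F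
  have h2 : Limits.IsZero (F.obj.obj U) := by
    have : U = Opposite.op ⊥ := by rw [← hU]
    rw [this]
    exact (Limits.isZero_zero _).of_iso (h1.uniqueUpToIso (Limits.isZero_zero _).isTerminal)
  have := AddCommGrpCat.subsingleton_of_isZero h2
  exact Subsingleton.elim _ _

theorem main (X : Scheme.{u}) (t : ℕ) (U : Fin t → X.Opens)
    (hU : ∀ i, IsAffineOpen (U i)) (hcov : ⨆ i, U i = ⊤)
    (hd : ∀ V W : X.Opens, IsAffineOpen V → IsAffineOpen W → IsAffineOpen (V ⊓ W))
    (M : X.Modules) [Coh.IsQCoh M] (n : ℕ) (hn : t ≤ n) :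
    Subsingleton (Coh.HH X M n) := by
  rcases Nat.eq_zero_or_pos t with rfl | ht
  · have hempty : IsEmpty X := by
      refine ⟨fun x => ?_⟩
      have : x ∈ (⊤ : X.Opens) := trivial
      rw [← hcov] at this
      simp at this
    exact Sheaf.subsingleton_H_of_isZero (isZero_of_isEmpty (X := X.carrier) (Coh.toAb M)) n
  · obtain ⟨e⟩ := nonempty_HU_top_addEquiv_H (X := X.carrier) (Coh.toAb M) n
    have := claim X hd M t ht U hU n hn
    rw [hcov] at this
    exact e.symm.toEquiv.subsingleton

end S0010aux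

namespace Groth.Agent.S0010

open AlgebraicGeometry in
/-- Let X be a scheme in which the intersection of any two affine opens is affine (equivalently, X has
affine diagonal; e.g. X separated), covered by t affine opens. Then H^n(X, F) = 0 for every
quasi-coherent F and every n ≥ t. -/
theorem result (X : Scheme.{u}) (t : ℕ) (U : Fin t → X.Opens)
    (hU : ∀ i, IsAffineOpen (U i)) (hcov : ⨆ i, U i = ⊤)
    (hd : ∀ V W : X.Opens, IsAffineOpen V → IsAffineOpen W → IsAffineOpen (V ⊓ W))
    (M : X.Modules) [Coh.IsQCoh M] (n : ℕ) (hn : t ≤ n) :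
    Subsingleton (Coh.HH X M n) := by
  exact S0010aux.main X t U hU hcov hd M n hn

end Groth.Agent.S0010
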