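import Groth.Statements.S0022
import Mathlib
import Groth.Agent.S0010

set_option autoImplicit false
universe u
open Coherent

open AlgebraicGeometry

namespace S0022aux
open AlgebraicGeometry CategoryTheory TopologicalSpace

variable (n : ℕ) (R : Type u) [CommRing R]

/-- the standard opens `D₊(Xᵢ)` of projective space -/
noncomputable def stdOpen (i : Fin (n + 1)) : (CohB1.ProjSpace n R).Opens :=
  Proj.basicOpen (CohB1.polyGrading n R) (MvPolynomial.X i)

lemma isAffineOpen_stdOpen (i : Fin (n + 1)) : IsAffineOpen (stdOpen n R i) :=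
  Proj.isAffineOpen_basicOpen (CohB1.polyGrading n R) (MvPolynomial.X i) (m := 1)
    (MvPolynomial.isHomogeneous_X R i) Nat.one_pos

lemma iSup_stdOpen : ⨆ i, stdOpen n R i = ⊤ := by
  apply Proj.iSup_basicOpen_eq_top' (CohB1.polyGrading n R) (fun i => MvPolynomial.X i)
  · intro i
    exact ⟨1, MvPolynomial.isHomogeneous_X R i⟩
  · rw [eq_top_iff]
    intro p hp0
    clear hp0
    induction p using MvPolynomial.induction_on with
    | C a =>
      have : (MvPolynomial.C a : MvPolynomial (Fin (n + 1)) R) =
          algebraMap (CohB1.polyGrading n R 0) _ ⟨MvPolynomial.C a, MvPolynomial.isHomogeneous_C _ a⟩ := rfl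
      rw [this]
      exact Subalgebra.algebraMap_mem _ _
    | add p q hp hq => exact Subalgebra.add_mem _ hp hq
    | mul_X p i hp =>
      exact Subalgebra.mul_mem _ hp (Algebra.subset_adjoin ⟨i, rfl⟩)

theorem main (M : (CohB1.ProjSpace n R).Modules) [Coh.IsQCoh M] (i : ℕ) (hi : n < i) :
    Subsingleton (Coh.HH (CohB1.ProjSpace n R) M i) := by
  have : Scheme.IsSeparated (CohB1.ProjSpace n R) :=
    inferInstanceAs (Scheme.IsSeparated (Proj (CohB1.polyGrading n R)))
  exact Groth.Agent.S0010.result (CohB1.ProjSpace n R) (n + 1) (stdOpen n R)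
    (isAffineOpen_stdOpen n R) (iSup_stdOpen n R) (fun V W hV hW => hV.inf hW) M i hi

end S0022aux

namespace Groth.Agent.S0022

open AlgebraicGeometry in
/-- For any ring R, any quasi-coherent module F on projective space ℙ^n_R and any i > n, H^i(ℙ^n_R, F) =
0. (The published statement is for coherent modules over a Noetherian ring; it is stated here for
quasi-coherent modules over any ring.) -/
theorem result (n : ℕ) (R : Type u) [CommRing R]
    (M : (CohB1.ProjSpace n R).Modules) [Coh.IsQCoh M] (i : ℕ) (hi : n < i) :
    Subsingleton (Coh.HH (CohB1.ProjSpace n R) M i) := by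
  exact S0022aux.main n R M i hi

end Groth.Agent.S0022
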