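import Groth.Statements.S0844
import Groth.Agent.Lib.Lead.Pn.H0
import Groth.Agent.S0022

set_option autoImplicit false
universe u
open Coherent

namespace Groth.Agent.S0844

open CategoryTheory AlgebraicGeometry in
/-- For a ring R, n ≥ 0, d ∈ ℤ and q ≥ 0, the group H^q(P^n_R, O(d)) is zero unless q = 0 and d ≥ 0, or
q = n and d ≤ -n-1. -/
theorem result (R : Type u) [CommRing R] (n : ℕ) (d : ℤ) (q : ℕ)
    (h₀ : ¬ (q = 0 ∧ 0 ≤ d)) (hn : ¬ (q = n ∧ d ≤ -((n : ℤ) + 1))) :
    Subsingleton (Coh.HH (CohB1.ProjSpace n R) (Twist.twistProjSpace n R d) q) := by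
  change Subsingleton (Coh.HH (Proj (Groth.Agent.Lib.Lead.Pn.𝒜 n R))
    (Twist.twist (Groth.Agent.Lib.Lead.Pn.𝒜 n R) d) q)
  rcases Nat.eq_zero_or_pos q with rfl | hq
  · have hd : d < 0 := by
      by_contra h
      exact h₀ ⟨rfl, not_lt.mp h⟩
    have hn1 : 1 ≤ n := by
      by_contra h
      have h0 : n = 0 := by omega
      subst h0
      apply hn
      refine ⟨rfl, ?_⟩
      simp only [Nat.cast_zero, zero_add]
      omega
    exact Groth.Agent.Lib.Lead.Pn.subsingleton_HH_zero hn1 hd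
  · obtain ⟨q', rfl⟩ := Nat.exists_eq_succ_of_ne_zero hq.ne'
    by_cases h1 : q' + 1 < n
    · exact Groth.Agent.Lib.Lead.Pn.subsingleton_HH_succ q' (Or.inl h1)
    · by_cases h2 : q' + 1 = n
      · have h3 : -((n : ℤ) + 1) < d := by
          by_contra h
          exact hn ⟨h2, not_lt.mp h⟩
        exact Groth.Agent.Lib.Lead.Pn.subsingleton_HH_succ q' (Or.inr h3)
      · haveI : Coh.IsQCoh (Twist.twistProjSpace n R d) :=
          Groth.Agent.Lib.Lead.Pn.twist_isQuasicoherent n R d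
        exact Groth.Agent.S0022.result n R (Twist.twistProjSpace n R d) (q' + 1) (by omega)

end Groth.Agent.S0844
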