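import Groth.Statements.S2330
-- import your own Groth.Agent.* helpers here
import Groth.Agent.Lib.Helper29.VA6

set_option autoImplicit false
universe u
open CategoryTheory CategoryTheory.Limits AlgebraicGeometry
open EGA2

namespace Groth.Agent.S2330

/-- Let Y be affine, q : X → Y separated and of finite type, and L an invertible O_X-module. Then L is
ample if and only if some L^{⊗n} (n > 0) is very ample relative to q, in the sense that it is the
pullback of O(1) along an immersion of X into some P^m_Y over Y; moreover, if L is ample this holds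
for all n beyond some n₀. ('Very ample relative to q' in general means this with P(E) for a
quasi-coherent O_Y-module E in place of P^m_Y; for q of finite type over an affine base the two
agree, and the P^m_Y form is the one used here.) -/
theorem result {X Y : Scheme.{u}} [IsAffine Y] (q : X ⟶ Y) [IsSeparated q]
    [QuasiCompact q] [LocallyOfFiniteType q] (L : X.Modules) (hL : PicF.IsInvertible L) :
    (CohB1.IsAmple L ↔ ∃ n : ℕ, 0 < n ∧ RelAmple.IsRelVeryAmplePn q (CohB1.tensorPow L n)) ∧
      (CohB1.IsAmple L → ∃ n₀ : ℕ, ∀ n, n₀ ≤ n → RelAmple.IsRelVeryAmplePn q (CohB1.tensorPow L n)) := by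
  have key : CohB1.IsAmple L → ∃ n₀ : ℕ, ∀ n, n₀ ≤ n →
      RelAmple.IsRelVeryAmplePn q (CohB1.tensorPow L n) := fun hA => by
    obtain ⟨n₀, h⟩ := Groth.Agent.Lib.Helper29.QCoh.exists_isRelVeryAmplePn_of_isAmple q hA
      (Groth.Agent.Lib.Helper29.QCoh.isInvertible_unit X)
    exact ⟨n₀, fun n hn => Groth.Agent.Lib.Helper29.QCoh.isRelVeryAmplePn_of_iso q
      (Groth.Agent.Lib.Helper29.QCoh.tensorUnitR _) (h n hn)⟩
  refine ⟨⟨fun hA => ?_, ?_⟩, key⟩
  · obtain ⟨n₀, h⟩ := key hA
    exact ⟨n₀ + 1, Nat.succ_pos _, h _ (Nat.le_succ _)⟩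
  · rintro ⟨n, hn, hva⟩
    have h1 := Groth.Agent.Lib.Helper29.QCoh.isRelAmple_of_isRelVeryAmplePn q hva
    have h2 := Groth.Agent.Lib.Helper29.QCoh.isAmple_of_isRelAmple q h1
    exact (Groth.Agent.Lib.Helper29.QCoh.isAmple_iff_tensorPow hL n hn).mpr h2

end Groth.Agent.S2330
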