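import Groth.Statements.S10833
import Mathlib
import Groth.Agent.Lib.Helper7.DimFT
import Groth.Agent.Lib.Helper12.IntegralDim
-- import your own Groth.Agent.* helpers here

set_option autoImplicit false
universe u
open Variety

namespace Groth.Agent.S10833

open Groth.Agent.Lib.Helper7.DimFT Groth.Agent.Lib.Helper12

section helpers

variable (k : Type u) [Field k]

/-- a prime covering `⊥` in a domain has height one -/
lemma height_eq_one_of_cov {A : Type u} [CommRing A] [IsDomain A] (P : Ideal A) [P.IsPrime]
    (hP0 : P ≠ ⊥) (hcov : ∀ Q : Ideal A, Q.IsPrime → Q < P → Q = ⊥) : P.height = 1 := by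
  apply le_antisymm
  · have : P.height ≤ ((1 : ℕ) : ℕ∞) := by
      rw [Ideal.height_le_iff]
      intro Q hQ hQP
      rw [hcov Q hQ hQP, Ideal.height_bot]
      simp
    simpa using this
  · have hbot : (⊥ : Ideal A) < P := bot_lt_iff_ne_bot.mpr hP0
    haveI : (⊥ : Ideal A).IsPrime := Ideal.isPrime_bot
    have := Ideal.height_add_one_le_of_lt_of_isPrime hbot
    rw [Ideal.height_bot, zero_add] at this
    exact this

/-- the quotient of a polynomial ring by a height one prime has dimension at least `s - 1` -/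
lemma dim_quot_height_one (s : ℕ) (p : Ideal (MvPolynomial (Fin s) k)) [p.IsPrime]
    (hp : p.height = 1) :
    (s : WithBot ℕ∞) ≤ ringKrullDim (MvPolynomial (Fin s) k ⧸ p) + 1 := by
  have hp0 : p ≠ ⊥ := by
    rintro rfl
    rw [Ideal.height_bot] at hp
    exact zero_ne_one hp
  obtain ⟨f, hfp, hf⟩ := Ideal.IsPrime.exists_mem_prime_of_ne_bot inferInstance hp0
  have hfprime : (Ideal.span {f}).IsPrime := (Ideal.span_singleton_prime hf.ne_zero).mpr hf
  have hle : Ideal.span {f} ≤ p := (Ideal.span_singleton_le_iff_mem p).mpr hfp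
  have heq : Ideal.span {f} = p := by
    by_contra hne
    have hlt : Ideal.span {f} < p := lt_of_le_of_ne hle hne
    have h1 := Ideal.height_strict_mono_of_isPrime_of_isPrime hlt
    rw [hp] at h1
    have h2 : (Ideal.span {f}).height = 0 := by
      rcases ENat.lt_one_iff_eq_zero.mp h1 with h
      exact h
    rw [Ideal.height_eq_zero_iff, IsDomain.minimalPrimes_eq_singleton_bot] at h2
    have : Ideal.span {f} = ⊥ := h2
    rw [Ideal.span_singleton_eq_bot] at this
    exact hf.ne_zero this
  obtain ⟨m, hm, hpm⟩ := Ideal.exists_le_maximal p (Ideal.IsPrime.ne_top inferInstance)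
  have h3 := height_eq_of_isMaximal_mvPolynomial k s m hm
  have hfm : f ∈ m := hpm hfp
  haveI := hm.isPrime
  have h4 := Ideal.height_le_ringKrullDim_quotient_add_one hfm
  rw [h3, heq] at h4
  exact_mod_cast h4

/-- dimension drops by exactly one modulo a height one prime in a f.g. domain over a field -/
lemma dim_eq_dim_quot_add_one {A : Type u} [CommRing A] [IsDomain A] [Algebra k A]
    [Algebra.FiniteType k A] (P : Ideal A) [P.IsPrime] (hP0 : P ≠ ⊥)
    (hcov : ∀ Q : Ideal A, Q.IsPrime → Q < P → Q = ⊥) :
    ringKrullDim A = ringKrullDim (A ⧸ P) + 1 := by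
  apply le_antisymm
  · obtain ⟨s, g, hinj, hfin⟩ := exists_finite_inj_algHom_of_fg k A
    algebraize [g.toRingHom]
    haveI : FaithfulSMul (MvPolynomial (Fin s) k) A :=
      (faithfulSMul_iff_algebraMap_injective _ _).2 hinj
    haveI : Module.Finite (MvPolynomial (Fin s) k) A := hfin
    haveI : Algebra.IsIntegral (MvPolynomial (Fin s) k) A := Algebra.IsIntegral.of_finite _ _
    haveI : IsNoetherianRing A := Algebra.FiniteType.isNoetherianRing k A
    set p := P.under (MvPolynomial (Fin s) k) with hp
    haveI : P.LiesOver p := ⟨rfl⟩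
    have h1 := Ideal.height_eq_height_add_of_liesOver_of_hasGoingDown p P
    have h3 : (P.map (Ideal.Quotient.mk (p.map (algebraMap (MvPolynomial (Fin s) k) A)))).height
        = 0 := by
      have hmin : P ∈ (p.map (algebraMap (MvPolynomial (Fin s) k) A)).minimalPrimes :=
        Ideal.IsIntegral.mem_minimalPrimes_map_under P
      rw [Ideal.minimalPrimes_eq_comap] at hmin
      obtain ⟨Q', hQ', hQQ'⟩ := hmin
      have h4 : P.map (Ideal.Quotient.mk (p.map (algebraMap (MvPolynomial (Fin s) k) A))) = Q' := by
        rw [← hQQ', Ideal.map_comap_of_surjective _ Ideal.Quotient.mk_surjective]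
      rw [h4]
      haveI := hQ'.1.1
      exact Ideal.height_eq_zero_iff.2 hQ'
    rw [h3, add_zero, height_eq_one_of_cov P hP0 hcov] at h1
    have h5 := dim_quot_height_one k s p h1.symm
    have h6 : ringKrullDim A = (s : WithBot ℕ∞) := by
      rw [← ringKrullDim_eq_of_isIntegral_of_injective (MvPolynomial (Fin s) k) A hinj,
        MvPolynomial.ringKrullDim_of_isNoetherianRing, ringKrullDim_eq_zero_of_field]
      simp
    have h7 : ringKrullDim (MvPolynomial (Fin s) k ⧸ p) = ringKrullDim (A ⧸ P) :=
      ringKrullDim_eq_of_isIntegral_of_injective (MvPolynomial (Fin s) k ⧸ p) (A ⧸ P)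
        (FaithfulSMul.algebraMap_injective _ _)
    rw [h6, ← h7]
    exact h5
  · obtain ⟨r, hrP, hr0⟩ := Submodule.exists_mem_ne_zero_of_ne_bot hP0
    have hr : r ∈ nonZeroDivisors A := mem_nonZeroDivisors_of_ne_zero hr0
    have h1 := ringKrullDim_quotient_succ_le_of_nonZeroDivisor hr
    have hle : Ideal.span {r} ≤ P := (Ideal.span_singleton_le_iff_mem P).mpr hrP
    have h2 : ringKrullDim (A ⧸ P) ≤ ringKrullDim (A ⧸ Ideal.span {r}) :=
      ringKrullDim_le_of_surjective (Ideal.Quotient.factor hle)
        (Ideal.Quotient.factor_surjective hle)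
    exact le_trans (add_le_add_left h2 1) h1

theorem sat_chain : ∀ (l : ℕ) (A : Type u) [CommRing A] [IsDomain A] [Algebra k A]
    [Algebra.FiniteType k A] (c : Fin (l + 1) → PrimeSpectrum A), StrictMono c →
    (c 0).asIdeal = ⊥ → (c (Fin.last l)).asIdeal.IsMaximal →
    (∀ i : Fin l, c i.castSucc ⋖ c i.succ) → ((l : ℕ) : WithBot ℕ∞) = ringKrullDim A := by
  intro l
  induction l with
  | zero =>
    intro A _ _ _ _ c _ h0 hmax _
    have h1 : (⊥ : Ideal A).IsMaximal := by
      rw [← h0]
      exact hmax
    have hfield : IsField A := Ring.isField_iff_maximal_bot.mpr h1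
    rw [ringKrullDim_eq_zero_of_isField hfield]
    rfl
  | succ l ih =>
    intro A _ _ _ _ c hc h0 hmax hsat
    obtain ⟨P, hP⟩ : ∃ P : Ideal A, P = (c 1).asIdeal := ⟨_, rfl⟩
    haveI hPprime : P.IsPrime := by rw [hP]; exact (c 1).2
    have hP0 : P ≠ ⊥ := by
      have h01 : c 0 < c 1 := hc (by simp [Fin.lt_def])
      have : (c 0).asIdeal < (c 1).asIdeal := (PrimeSpectrum.asIdeal_lt_asIdeal _ _).mpr h01
      rw [h0, ← hP] at this
      exact (bot_lt_iff_ne_bot.mp this)
    have hcov : ∀ Q : Ideal A, Q.IsPrime → Q < P → Q = ⊥ := by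
      intro Q hQ hQP
      by_contra hQ0
      have hs := hsat 0
      have h1 : c (0 : Fin (l + 1)).castSucc < ⟨Q, hQ⟩ := by
        rw [← PrimeSpectrum.asIdeal_lt_asIdeal]
        change (c 0).asIdeal < Q
        rw [h0]
        exact bot_lt_iff_ne_bot.mpr hQ0
      have h2 : (⟨Q, hQ⟩ : PrimeSpectrum A) < c (0 : Fin (l + 1)).succ := by
        rw [← PrimeSpectrum.asIdeal_lt_asIdeal]
        change Q < (c 1).asIdeal
        rw [← hP]
        exact hQP
      exact hs.2 h1 h2
    have hK := dim_eq_dim_quot_add_one k P hP0 hcov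
    haveI : Algebra.FiniteType k (A ⧸ P) :=
      Algebra.FiniteType.of_surjective (Ideal.Quotient.mkₐ k P) (Ideal.Quotient.mkₐ_surjective k P)
    have hmem : ∀ i : Fin (l + 1), c i.succ ∈ PrimeSpectrum.zeroLocus (P : Set A) := by
      intro i
      rw [PrimeSpectrum.mem_zeroLocus, SetLike.coe_subset_coe, hP]
      have : c 1 ≤ c i.succ := hc.monotone (by
        rw [Fin.le_def]
        simp)
      exact (PrimeSpectrum.asIdeal_le_asIdeal _ _).mpr this
    obtain ⟨φ, hφ⟩ : ∃ φ, φ = P.primeSpectrumQuotientOrderIsoZeroLocus := ⟨_, rfl⟩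
    have hφc : ∀ q : PrimeSpectrum (A ⧸ P),
        ((φ q : PrimeSpectrum.zeroLocus (P : Set A)) : PrimeSpectrum A).asIdeal =
          q.asIdeal.comap (Ideal.Quotient.mk P) := by
      intro q
      rw [hφ]
      rfl
    have hih := ih (A ⧸ P) (fun i => φ.symm ⟨c i.succ, hmem i⟩) ?_ ?_ ?_ ?_
    · rw [hK, ← hih]
      push_cast
      rfl
    · intro i j hij
      apply φ.symm.strictMono
      rw [Subtype.mk_lt_mk]
      exact hc (Fin.succ_lt_succ_iff.mpr hij)
    · have h1 := hφc (φ.symm ⟨c (0 : Fin (l + 1)).succ, hmem 0⟩)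
      rw [OrderIso.apply_symm_apply] at h1
      change (c 1).asIdeal = _ at h1
      rw [← hP] at h1
      rw [eq_bot_iff]
      intro y hy
      obtain ⟨a, rfl⟩ := Ideal.Quotient.mk_surjective y
      have : a ∈ P := by
        rw [h1]
        exact hy
      rw [Ideal.mem_bot]
      exact Ideal.Quotient.eq_zero_iff_mem.mpr this
    · have h1 := hφc (φ.symm ⟨c (Fin.last l).succ, hmem _⟩)
      rw [OrderIso.apply_symm_apply] at h1
      change (c (Fin.last (l + 1))).asIdeal = _ at h1
      rw [h1] at hmax
      have h2 := Ideal.map_eq_top_or_isMaximal_of_surjective (Ideal.Quotient.mk P)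
        Ideal.Quotient.mk_surjective hmax
      rw [Ideal.map_comap_of_surjective _ Ideal.Quotient.mk_surjective] at h2
      rcases h2 with h2 | h2
      · exact absurd h2 (Ideal.IsPrime.ne_top (PrimeSpectrum.isPrime _))
      · exact h2
    · intro i
      have hs := hsat i.succ
      constructor
      · apply φ.symm.strictMono
        rw [Subtype.mk_lt_mk]
        exact hc (by rw [Fin.lt_def]; simp)
      · intro x hx1 hx2
        have h1 : (⟨c i.castSucc.succ, hmem _⟩ : PrimeSpectrum.zeroLocus (P : Set A)) < φ x := by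
          have := φ.strictMono hx1
          rwa [OrderIso.apply_symm_apply] at this
        have h2 : φ x < (⟨c i.succ.succ, hmem _⟩ : PrimeSpectrum.zeroLocus (P : Set A)) := by
          have := φ.strictMono hx2
          rwa [OrderIso.apply_symm_apply] at this
        exact hs.2 (c := (φ x).1) h1 h2

end helpers

/-- Let k be a field and A a k-algebra of finite type that is an integral domain. Then every chain of
prime ideals of A admitting no refinement — it starts at the zero ideal, ends at a maximal ideal,
and no prime ideal lies strictly between two consecutive members — has length equal to the Krull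
dimension of A. -/
theorem result (k A : Type u) [Field k] [CommRing A]
    [IsDomain A] [Algebra k A] [Algebra.FiniteType k A] (c : LTSeries (PrimeSpectrum A))
    (h0 : c.head.asIdeal = ⊥) (hmax : c.last.asIdeal.IsMaximal)
    (hsat : ∀ i : Fin c.length, c i.castSucc ⋖ c i.succ) :
    (c.length : WithBot ℕ∞) = ringKrullDim A := by
  exact sat_chain k c.length A c.toFun c.strictMono h0 hmax hsat

end Groth.Agent.S10833
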