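import Groth.Statements.S14237
import Mathlib.LinearAlgebra.RootSystem.Finite.CanonicalBilinear
-- import your own Groth.Agent.* helpers here

set_option autoImplicit false
universe u v w x
open RootCh RootCh.Facet

namespace Groth.Agent.S14237

section helpers

variable {ι : Type u} {R : Type v} {M : Type w} {N : Type x}
    [Field R] [LinearOrder R] [IsStrictOrderedRing R]
    [AddCommGroup M] [Module R M] [AddCommGroup N] [Module R N] [Finite ι]
    (P : RootPairing ι R M N) [P.IsRootSystem]

theorem pairing_pos_symm {i j : ι} (h : 0 < P.pairing i j) : 0 < P.pairing j i := by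
  have h1 := P.zero_lt_pairingIn_iff' R (i := i) (j := j)
  have e1 : P.pairingIn R i j = P.pairing i j := P.algebraMap_pairingIn R i j
  have e2 : P.pairingIn R j i = P.pairing j i := P.algebraMap_pairingIn R j i
  rw [e1, e2] at h1
  exact h1.mp h

/-- coroot pairing of a reflected index -/
theorem coroot'_refl (ξ : M) (i j : ι) :
    P.coroot' (P.reflectionPerm j i) ξ = P.coroot' i ξ - P.coroot' j ξ * P.pairing j i := by
  rw [P.coroot'_reflectionPerm, LinearMap.comp_apply, LinearEquiv.coe_coe, P.reflection_apply,
    map_sub, map_smul, P.root_coroot'_eq_pairing, smul_eq_mul]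

theorem pairing_refl (i j : ι) : P.pairing (P.reflectionPerm j i) j = - P.pairing i j := by
  rw [← P.pairing_reflectionPerm j i j, P.pairing_reflectionPerm_self_right]

theorem sgn_neg (F : RootCh.Facet P) (i : ι) : F.sgn (P.reflectionPerm i i) = - F.sgn i := by
  obtain ⟨ξ, hξ⟩ := F.exists_sgnVec_eq
  rw [← hξ]
  show SignType.sign (P.coroot' (P.reflectionPerm i i) ξ) = - SignType.sign (P.coroot' i ξ)
  rw [coroot'_refl, P.pairing_same, ← Left.sign_neg]
  congr 1
  ring

/-- a sum over a finset stable under an involution which negates the summand vanishes -/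
theorem sum_eq_zero_of_invol {α : Type*} (s : Finset α) (σ : α → α) (hσ : ∀ a, σ (σ a) = a)
    (hs : ∀ a ∈ s, σ a ∈ s) (f : α → R) (hf : ∀ a ∈ s, f (σ a) = - f a) : ∑ a ∈ s, f a = 0 := by
  have h1 : ∑ a ∈ s, f a = ∑ a ∈ s, f (σ a) :=
    Finset.sum_nbij' σ σ hs hs (fun a _ => hσ a) (fun a _ => hσ a) (fun a _ => by rw [hσ])
  have h2 : ∑ a ∈ s, f (σ a) = - ∑ a ∈ s, f a := by
    rw [← Finset.sum_neg_distrib]
    exact Finset.sum_congr rfl hf
  have h3 : ∑ a ∈ s, f a = - ∑ a ∈ s, f a := h1.trans h2
  exact self_eq_neg.mp h3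

theorem neg_neg' (a : ι) :
    P.reflectionPerm (P.reflectionPerm a a) (P.reflectionPerm a a) = a := by
  apply P.root.injective
  have h (b : ι) : P.root (P.reflectionPerm b b) = - P.root b := by
    rw [P.root_reflectionPerm, P.reflection_apply_self]
  rw [h, h, neg_neg]

/-- the sum over the strictly positive roots, paired with a coroot positive on the facet, is positive -/
theorem sumU_pos [Fintype ι] (F : RootCh.Facet P) (j : ι) (hj : F.sgn j = 1) :
    0 < ∑ i ∈ Finset.univ.filter (fun i => F.sgn i = 1), P.pairing i j := by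
  classical
  obtain ⟨ξ, hξ⟩ := F.exists_sgnVec_eq
  have hs : ∀ i, F.sgn i = SignType.sign (P.coroot' i ξ) := fun i => (congrFun hξ i).symm
  have hcj : 0 < P.coroot' j ξ := sign_eq_one_iff.mp ((hs j).symm.trans hj)
  rw [← Finset.sum_filter_add_sum_filter_not _ (fun i => F.sgn (P.reflectionPerm j i) = 1)]
  have h1 : ∑ i ∈ (Finset.univ.filter (fun i => F.sgn i = 1)).filter
      (fun i => F.sgn (P.reflectionPerm j i) = 1), P.pairing i j = 0 := by
    apply sum_eq_zero_of_invol _ (P.reflectionPerm j) (fun a => P.reflectionPerm_self j a)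
    · intro a ha
      simp only [Finset.mem_filter, Finset.mem_univ, true_and] at ha ⊢
      exact ⟨ha.2, by rw [P.reflectionPerm_self]; exact ha.1⟩
    · intro a _
      exact pairing_refl P a j
  rw [h1, zero_add]
  apply Finset.sum_pos
  · intro i hi
    simp only [Finset.mem_filter, Finset.mem_univ, true_and] at hi
    have hci : 0 < P.coroot' i ξ := sign_eq_one_iff.mp ((hs i).symm.trans hi.1)
    have hsi : ¬ 0 < P.coroot' (P.reflectionPerm j i) ξ := by
      intro h
      exact hi.2 ((hs _).trans (sign_eq_one_iff.mpr h))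
    rw [coroot'_refl, sub_pos, not_lt] at hsi
    have h2 : 0 < P.coroot' j ξ * P.pairing j i := lt_of_lt_of_le hci hsi
    exact pairing_pos_symm P ((mul_pos_iff_of_pos_left hcj).mp h2)
  · refine ⟨j, ?_⟩
    simp only [Finset.mem_filter, Finset.mem_univ, true_and]
    refine ⟨hj, ?_⟩
    rw [sgn_neg, hj]
    decide

theorem sumU_zero [Fintype ι] (F : RootCh.Facet P) (j : ι) (hj : F.sgn j = 0) :
    ∑ i ∈ Finset.univ.filter (fun i => F.sgn i = 1), P.pairing i j = 0 := by
  classical
  obtain ⟨ξ, hξ⟩ := F.exists_sgnVec_eq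
  have hs : ∀ i, F.sgn i = SignType.sign (P.coroot' i ξ) := fun i => (congrFun hξ i).symm
  have hcj : P.coroot' j ξ = 0 := sign_eq_zero_iff.mp ((hs j).symm.trans hj)
  have hstab : ∀ i, F.sgn (P.reflectionPerm j i) = F.sgn i := fun i => by
    rw [hs, hs, coroot'_refl, hcj, zero_mul, sub_zero]
  apply sum_eq_zero_of_invol _ (P.reflectionPerm j) (fun a => P.reflectionPerm_self j a)
  · intro a ha
    simp only [Finset.mem_filter, Finset.mem_univ, true_and] at ha ⊢
    rw [hstab]; exact ha
  · intro a _
    exact pairing_refl P a j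

theorem sumL_zero [Fintype ι] (F : RootCh.Facet P) (j : ι) :
    ∑ i ∈ Finset.univ.filter (fun i => F.sgn i = 0), P.pairing i j = 0 := by
  classical
  apply sum_eq_zero_of_invol _ (fun i => P.reflectionPerm i i) (neg_neg' P)
  · intro a ha
    simp only [Finset.mem_filter, Finset.mem_univ, true_and] at ha ⊢
    rw [sgn_neg, ha, neg_zero]
  · intro a _
    exact P.pairing_reflectionPerm_self_left a j

end helpers

/-- For a finite reduced crystallographic root system over a linearly ordered field and a facet F with
parabolic set of roots R(F) (the roots whose sign on F is not negative), the sum of the roots of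
R(F) lies in F. -/
theorem result {ι : Type u} {R : Type v} {M : Type w} {N : Type x}
    [Field R] [LinearOrder R] [IsStrictOrderedRing R]
    [AddCommGroup M] [Module R M] [AddCommGroup N] [Module R N] [Finite ι]
    (P : RootPairing ι R M N) [P.IsRootSystem] [P.IsCrystallographic] [P.IsReduced] (F : RootCh.Facet P) :
    (∑ i ∈ (Set.toFinite F.parab).toFinset, P.root i) ∈ F.carrier := by
  classical
  haveI := Fintype.ofFinite ι
  show sgnVec P _ = F.sgn
  funext j
  show SignType.sign (P.coroot' j (∑ i ∈ _, P.root i)) = F.sgn j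
  rw [map_sum]
  simp_rw [P.root_coroot'_eq_pairing]
  have hfin : (Set.toFinite F.parab).toFinset =
      Finset.univ.filter (fun i => F.sgn i = 0) ∪ Finset.univ.filter (fun i => F.sgn i = 1) := by
    ext i
    simp only [Set.Finite.mem_toFinset, Facet.parab, Set.mem_ofPred_eq, Finset.mem_union,
      Finset.mem_filter, Finset.mem_univ, true_and]
    cases F.sgn i <;> decide
  have hdisj : Disjoint (Finset.univ.filter (fun i => F.sgn i = 0))
      (Finset.univ.filter (fun i => F.sgn i = 1)) := by
    rw [Finset.disjoint_filter]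
    intro i _ h0 h1
    rw [h0] at h1
    exact absurd h1 (by decide)
  rw [hfin, Finset.sum_union hdisj, sumL_zero, zero_add]
  rcases h : F.sgn j with _ | _ | _
  · rw [sumU_zero P F j h]
    exact sign_zero
  · have h' : F.sgn (P.reflectionPerm j j) = 1 := by rw [sgn_neg, h]; rfl
    have hpos := sumU_pos P F _ h'
    simp_rw [P.pairing_reflectionPerm_self_right, Finset.sum_neg_distrib] at hpos
    exact sign_eq_neg_one_iff.mpr (neg_pos.mp hpos)
  · exact sign_eq_one_iff.mpr (sumU_pos P F j h)

end Groth.Agent.S14237
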