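import Groth.Statements.S14249
import Groth.Agent.S14237
-- import your own Groth.Agent.* helpers here

set_option autoImplicit false
universe u v w x
open RootCh RootCh.Facet

namespace Groth.Agent.S14249

section helpers

variable {ι : Type u} {R : Type v} {M : Type w} {N : Type x}
    [Field R] [LinearOrder R] [IsStrictOrderedRing R]
    [AddCommGroup M] [Module R M] [AddCommGroup N] [Module R N] [Finite ι]
    {P : RootPairing ι R M N} [P.IsRootSystem]

/-- expansion of a vector in the fundamental weights of a base -/
theorem expand (b : P.Base) (ξ : M) :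
    ξ = ∑ i : b.support, P.coroot' i ξ • fundWeight b i := by
  apply P.toPerfPair.injective
  rw [map_sum]
  simp_rw [map_smul, fundWeight, LinearEquiv.apply_symm_apply]
  have := b.toCoweightBasis.sum_dual_apply_smul_coord (P.toPerfPair ξ)
  rw [← this]
  refine Finset.sum_congr rfl (fun i _ => ?_)
  rw [b.toCoweightBasis_apply]
  rfl

open scoped Classical in
theorem coroot'_fundWeight (b : P.Base) (i j : b.support) :
    P.coroot' j (fundWeight b i) = if j = i then 1 else 0 := by
  split_ifs with h
  · subst h; exact coroot'_fundWeight_self b j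
  · exact coroot'_fundWeight_of_ne b i j h

theorem fundWeight_mem_baseCorners (b : P.Base) (i : b.support) :
    fundWeight b i ∈ baseCorners b := by
  refine ⟨⟨b, i, rfl⟩, ?_⟩
  intro j hj
  have := coroot'_fundWeight b i ⟨j, hj⟩
  simp only at this
  rw [this]
  split_ifs <;> simp

open scoped Classical in
/-- key closure induction -/
theorem key_closure (b : P.Base) (ξ : M) (hξ : ξ ∈ closedChamber b) (i : b.support)
    (hi : 0 < P.coroot' i ξ) (n : N) (hn : n ∈ AddSubmonoid.closure (P.coroot '' b.support)) :
    0 ≤ P.toLinearMap (fundWeight b i) n ∧ 0 ≤ P.toLinearMap ξ n ∧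
      (P.toLinearMap ξ n = 0 → P.toLinearMap (fundWeight b i) n = 0) := by
  induction hn using AddSubmonoid.closure_induction with
  | mem x hx =>
    obtain ⟨j, hj, rfl⟩ := hx
    have h1 : P.toLinearMap (fundWeight b i) (P.coroot j) = if (⟨j, hj⟩ : b.support) = i then 1 else 0 :=
      coroot'_fundWeight b i ⟨j, hj⟩
    have h2 : 0 ≤ P.toLinearMap ξ (P.coroot j) := hξ j hj
    refine ⟨?_, h2, ?_⟩
    · rw [h1]; split_ifs <;> simp
    · intro h0
      rw [h1, if_neg]
      rintro rfl
      exact (ne_of_gt hi) h0
  | zero => simp
  | add x y _ _ hx hy =>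
    obtain ⟨a1, a2, a3⟩ := hx
    obtain ⟨b1, b2, b3⟩ := hy
    simp only [map_add]
    refine ⟨add_nonneg a1 b1, add_nonneg a2 b2, ?_⟩
    intro h
    have hx0 : P.toLinearMap ξ x = 0 := by linarith
    have hy0 : P.toLinearMap ξ y = 0 := by linarith
    rw [a3 hx0, b3 hy0, add_zero]

theorem fundWeight_mem_closedChamber (b b' : P.Base) (ξ : M) (hξ : ξ ∈ closedChamber b)
    (hξ' : ξ ∈ closedChamber b') (i : b.support) (hi : 0 < P.coroot' i ξ) :
    fundWeight b i ∈ closedChamber b' := by
  intro k hk
  have hk' : 0 ≤ P.toLinearMap ξ (P.coroot k) := hξ' k hk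
  show 0 ≤ P.toLinearMap (fundWeight b i) (P.coroot k)
  rcases b.coroot_mem_or_neg_mem k with h | h
  · exact (key_closure b ξ hξ i hi _ h).1
  · obtain ⟨a1, a2, a3⟩ := key_closure b ξ hξ i hi _ h
    simp only [map_neg] at a1 a2 a3
    have h0 : P.toLinearMap ξ (P.coroot k) = 0 := by linarith
    have := a3 (by rw [h0, neg_zero])
    linarith

theorem pair_eq (d : P.Base → N) (hd : RootCh.IsCCS d) (b b' : P.Base) (ξ : M)
    (hξ : ξ ∈ closedChamber b) (hξ' : ξ ∈ closedChamber b') :
    P.toLinearMap ξ (d b) = P.toLinearMap ξ (d b') := by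
  have h := expand b ξ
  have h2 : ∀ n : N, P.toLinearMap ξ n =
      ∑ i : b.support, P.coroot' i ξ * P.toLinearMap (fundWeight b i) n := by
    intro n
    conv_lhs => rw [h]
    rw [map_sum, LinearMap.sum_apply]
    refine Finset.sum_congr rfl (fun i _ => ?_)
    rw [map_smul, LinearMap.smul_apply, smul_eq_mul]
  rw [h2 (d b), h2 (d b')]
  refine Finset.sum_congr rfl (fun i _ => ?_)
  rcases (hξ i i.2).eq_or_lt with h0 | hpos
  · rw [← h0, zero_mul, zero_mul]
  · rw [hd.corner_eq b b' (fundWeight b i) (fundWeight_mem_baseCorners b i)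
      ⟨⟨b, i, rfl⟩, fundWeight_mem_closedChamber b b' ξ hξ hξ' i hpos⟩]

end helpers

/-- For a finite reduced crystallographic root system over a linearly ordered field with a complementary
convex solid d (a vector d(b) of N for every Weyl chamber b, subject to (B1): a common corner of two
chambers pairs equally with their d-values, and (B2): across a wall, the root that changes sign from
positive to negative does not pair more with d on the positive side) and a facet F, the degree of F
computed at a chamber b whose closure contains F, namely the sum of ⟨α, d(b)⟩ over the roots α of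
the parabolic set of F (the roots whose sign on F is not negative), does not depend on the choice of
such a chamber b. -/
theorem result {ι : Type u} {R : Type v} {M : Type w} {N : Type x}
    [Field R] [LinearOrder R] [IsStrictOrderedRing R]
    [AddCommGroup M] [Module R M] [AddCommGroup N] [Module R N] [Finite ι]
    (P : RootPairing ι R M N) [P.IsRootSystem] [P.IsCrystallographic] [P.IsReduced] (d : P.Base → N) (hd : RootCh.IsCCS d) (F : RootCh.Facet P)
    (b b' : P.Base) (hb : b ∈ F.cham) (hb' : b' ∈ F.cham) :
    F.deg d b = F.deg d b' := by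
  have hmem := Groth.Agent.S14237.result P F
  have h1 : ∀ n : N, (∑ i ∈ (Set.toFinite F.parab).toFinset, P.root' i n) =
      P.toLinearMap (∑ i ∈ (Set.toFinite F.parab).toFinset, P.root i) n := by
    intro n
    rw [map_sum, LinearMap.sum_apply]
  show (∑ i ∈ (Set.toFinite F.parab).toFinset, P.root' i (d b)) =
    ∑ i ∈ (Set.toFinite F.parab).toFinset, P.root' i (d b')
  rw [h1, h1]
  exact pair_eq d hd b b' _ (hb hmem) (hb' hmem)

end Groth.Agent.S14249
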