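import Groth.Statements.S14235
import Groth.Agent.Helper19.RootCham
-- import your own Groth.Agent.* helpers here

set_option autoImplicit false
universe u v w x
open RootCh

namespace Groth.Agent.S14235

open RootCh RootCh.Facet


section helpers

variable {ι : Type u} {R : Type v} {M : Type w} {N : Type x}
    [Field R] [LinearOrder R] [IsStrictOrderedRing R]
    [AddCommGroup M] [Module R M] [AddCommGroup N] [Module R N] [Finite ι]
    (P : RootPairing ι R M N) [P.IsRootSystem] [P.IsCrystallographic] [P.IsReduced]

open Groth.Agent.Helper19.RootCham Groth.Agent.S14236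

theorem coroot'_nonneg_of_mem_closure (F : RootCh.Facet P) (m : M) (hm : m ∈ F.closure) (i : ι)
    (hi : i ∈ F.parab) : 0 ≤ P.coroot' i m := by
  rcases hm i with h | h
  · exact (sign_eq_zero_iff.mp h).ge
  · by_contra hneg
    rw [not_le] at hneg
    apply hi
    rw [← h]
    exact sign_eq_neg_one_iff.mpr hneg

theorem mem_closure_of_nonneg (F : RootCh.Facet P) (m : M)
    (h : ∀ i ∈ F.parab, 0 ≤ P.coroot' i m) : m ∈ F.closure := by
  intro i
  show SignType.sign (P.coroot' i m) = 0 ∨ SignType.sign (P.coroot' i m) = F.sgn i
  have hng : F.sgn (P.reflectionPerm i i) = - F.sgn i := Groth.Agent.S14237.sgn_neg P F i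
  rcases hs : F.sgn i with _ | _ | _
  · left
    have h1 : 0 ≤ P.coroot' i m := h i (by show F.sgn i ≠ -1; rw [hs]; decide)
    have h2 : 0 ≤ P.coroot' (P.reflectionPerm i i) m :=
      h _ (by show F.sgn _ ≠ -1; rw [hng, hs]; decide)
    rw [coroot'_ng] at h2
    rw [sign_eq_zero_iff]; linarith
  · have h2 : 0 ≤ P.coroot' (P.reflectionPerm i i) m :=
      h _ (by show F.sgn _ ≠ -1; rw [hng, hs]; decide)
    rw [coroot'_ng] at h2
    rcases (show P.coroot' i m ≤ 0 by linarith).eq_or_lt with h3 | h3
    · left; rw [h3]; exact sign_zero
    · right; exact sign_eq_neg_one_iff.mpr h3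
  · have h1 : 0 ≤ P.coroot' i m := h i (by show F.sgn i ≠ -1; rw [hs]; decide)
    rcases h1.eq_or_lt with h3 | h3
    · left; rw [← h3]; exact sign_zero
    · right; exact sign_eq_one_iff.mpr h3

theorem corners_eq (F : RootCh.Facet P) :
    F.corners = {m : M | m ∈ RootCh.fundWeights P ∧
      ∀ y : N, RootCh.Corr P m y → ∀ i ∈ F.parab, 0 ≤ P.root' i y} := by
  ext m
  constructor
  · rintro ⟨h1, h2⟩
    refine ⟨h1, fun y hy i hi => ?_⟩
    rw [corr_root'_nonneg_iff P m y hy i]
    exact coroot'_nonneg_of_mem_closure P F m h2 i hi
  · rintro ⟨h1, h2⟩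
    refine ⟨h1, mem_closure_of_nonneg P F m (fun i hi => ?_)⟩
    obtain ⟨b0, i0, rfl⟩ := h1
    have hc : Corr P (fundWeight b0 i0) (fundCoweight b0 i0) := ⟨b0, i0, rfl, rfl⟩
    rw [← corr_root'_nonneg_iff P _ _ hc i]
    exact h2 _ hc i hi

theorem parab_eq_of_corners (G : RootCh.Facet P) :
    G.parab = {i | ∀ m ∈ G.corners, 0 ≤ P.coroot' i m} := by
  ext i
  constructor
  · intro hi m hm
    exact coroot'_nonneg_of_mem_closure P G m hm.2 i hi
  · intro hi
    obtain ⟨ξ, hξ⟩ := G.exists_sgnVec_eq
    rw [mem_parab_iff P G ξ hξ]
    exact coroot'_nonneg_of_corners P G ξ hξ i hi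

theorem eq_of_corners_eq (F G : RootCh.Facet P) (h : G.corners = F.corners) : G = F := by
  have hp : G.parab = F.parab := by
    rw [parab_eq_of_corners, parab_eq_of_corners, h]
  apply le_antisymm
  · rw [le_iff_parab, hp]
  · rw [le_iff_parab, hp]

end helpers

/-- For a finite reduced crystallographic root system over a linearly ordered field and a parabolic set
of roots S, let vert S be the set of fundamental weights whose corresponding fundamental coweight
pairs non-negatively with every root of S. Then there is a unique facet whose set of corners is vert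
S, and the parabolic set of roots of this facet (the roots whose sign on it is not negative) is S.
(Here a parabolic set of roots is a set of roots closed under addition of roots and containing each
root or its negative; the published recall of the notion prints only the second condition, under
which, in type A₂, the set of all roots but the highest would qualify without being the parabolic
set of any facet, and the published proof uses that the set contains the positive roots of some
chamber.) -/
theorem result {ι : Type u} {R : Type v} {M : Type w} {N : Type x}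
    [Field R] [LinearOrder R] [IsStrictOrderedRing R]
    [AddCommGroup M] [Module R M] [AddCommGroup N] [Module R N] [Finite ι]
    (P : RootPairing ι R M N) [P.IsRootSystem] [P.IsCrystallographic] [P.IsReduced] (S : Set ι) (hS : RootCh.IsParabolicSubset P S) :
    ∃ F : RootCh.Facet P,
      (F.corners = {m : M | m ∈ RootCh.fundWeights P ∧ ∀ y : N, RootCh.Corr P m y → ∀ i ∈ S, 0 ≤ P.root' i y} ∧
        F.parab = S) ∧
      ∀ G : RootCh.Facet P,
        G.corners = {m : M | m ∈ RootCh.fundWeights P ∧ ∀ y : N, RootCh.Corr P m y → ∀ i ∈ S, 0 ≤ P.root' i y} →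
        G = F := by
  obtain ⟨F, hF⟩ := Groth.Agent.S14236.exists_facet P S hS
  have hc := corners_eq P F
  rw [hF] at hc
  refine ⟨F, ⟨hc, hF⟩, fun G hG => ?_⟩
  exact eq_of_corners_eq P F G (hG.trans hc.symm)

end Groth.Agent.S14235
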