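import Groth.Statements.S14251
import Groth.Agent.Helper19.RootCham
-- import your own Groth.Agent.* helpers here

set_option autoImplicit false
universe u v w x
open RootCh

namespace Groth.Agent.S14251

open RootCh RootCh.Facet


section helpers

variable {ι : Type u} {R : Type v} {M : Type w} {N : Type x}
    [Field R] [LinearOrder R] [IsStrictOrderedRing R]
    [AddCommGroup M] [Module R M] [AddCommGroup N] [Module R N] [Finite ι]
    (P : RootPairing ι R M N) [P.IsRootSystem] [P.IsCrystallographic] [P.IsReduced]

open Groth.Agent.Helper19.RootCham Groth.Agent.S14236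

/-- the dual solid of a facet lies in every hyperplane of a corner of the facet -/
theorem dualSolid_subset_hyper (d : P.Base → N) (hd : RootCh.IsCCS d) (F : RootCh.Facet P)
    (w : M) (hw : w ∈ F.corners) : dualSolid d F ⊆ hyper d w := by
  intro y hy b0 hb0
  have hconv : Convex R {x : N | P.toLinearMap w x = P.toLinearMap w (d b0)} :=
    convex_hyperplane (P.toLinearMap w).isLinear _
  have hsub : d '' F.cham ⊆ {x : N | P.toLinearMap w x = P.toLinearMap w (d b0)} := by
    rintro _ ⟨b, hb, rfl⟩
    exact hd.corner_eq b b0 w ⟨hw.1, closure_subset_closedChamber P F b hb hw.2⟩ hb0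
  exact convexHull_min hsub hconv hy

theorem root'_eq_zero_of_mem_span (F : RootCh.Facet P) (k : ι) (hk : F.sgn k = 0) (z : N)
    (hz : z ∈ Submodule.span R F.dualCarrier) : P.root' k z = 0 := by
  have : Submodule.span R F.dualCarrier ≤ LinearMap.ker (P.root' k) := by
    rw [Submodule.span_le]
    intro x hx
    have h1 : SignType.sign (P.root' k x) = F.sgn k := congrFun hx k
    rw [hk, sign_eq_zero_iff] at h1
    exact h1
  exact this hz

/-- a vector of the span of the dual facet orthogonal to all corners vanishes -/
theorem eq_zero_of_orth (F : RootCh.Facet P) (z : N) (hz : z ∈ Submodule.span R F.dualCarrier)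
    (horth : ∀ w ∈ F.corners, P.toLinearMap w z = 0) : z = 0 := by
  classical
  haveI := Fintype.ofFinite ι
  obtain ⟨b, hb⟩ := exists_cham P F
  have hexp : z = ∑ j : b.support, P.root' j z • fundCoweight b j :=
    Groth.Agent.S14249.expand (P := P.flip) b.flip z
  obtain ⟨μ, hμ⟩ : ∃ μ : M, μ = ∑ j : b.support,
      (P.root' j z * (2 / P.RootForm (P.root j) (P.root j))) • fundWeight b j := ⟨_, rfl⟩
  have hpol : P.Polarization μ = z := by
    rw [hμ, map_sum]
    conv_rhs => rw [hexp]
    refine Finset.sum_congr rfl (fun j _ => ?_)
    rw [map_smul, polarization_fundWeight, smul_smul]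
    congr 1
    have := (rootForm_root_pos P j).ne'
    field_simp
  have hform : P.RootForm μ μ = 0 := by
    rw [← P.toLinearMap_apply_apply_Polarization, hpol, hμ, map_sum, LinearMap.sum_apply]
    refine Finset.sum_eq_zero (fun j _ => ?_)
    rw [map_smul, LinearMap.smul_apply]
    rcases sgn_nonneg_of_cham P F b hb j j.2 with h | h
    · rw [root'_eq_zero_of_mem_span P F j h z hz, zero_mul, zero_smul]
    · rw [horth _ (fundWeight_mem_corners P F b hb j h), smul_zero]
  rw [P.rootForm_apply_apply] at hform
  have hall : ∀ i, P.coroot' i μ = 0 := by
    intro i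
    have := (Finset.sum_eq_zero_iff_of_nonneg (fun i _ => mul_self_nonneg (P.coroot' i μ))).mp
      hform i (Finset.mem_univ _)
    exact mul_self_eq_zero.mp this
  rw [← hpol, P.Polarization_apply]
  refine Finset.sum_eq_zero (fun i _ => ?_)
  rw [hall i, zero_smul]

end helpers

/-- For a finite reduced crystallographic root system over a linearly ordered field with a complementary
convex solid d (a vector d(b) of N for every Weyl chamber b, subject to (B1): a common corner of two
chambers pairs equally with their d-values, and (B2): across a wall, the root that changes sign from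
positive to negative does not pair more with d on the positive side) and a special facet F, the
intersection of the hyperplanes H_m = {y | ⟨m, y⟩ = ⟨m, d(b)⟩, b any chamber with corner m} over the
corners m of F with the linear span of the dual facet F̌ is a single point y(F), and y(F) is the
unique point of F̌ lying in the dual solid of F (the convex hull of the d(b) over the chambers b
adjacent to F). Here a facet is special when its dual facet (the corresponding facet of the dual
root system, in N) meets its dual solid, the convex hull of the values of d at the chambers adjacent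
to it. (The published definition of a special facet asks instead that all its numerical invariants
be positive and that the reduced root system with convex solid attached to the facet be semi-stable;
it is proved there to be equivalent to the condition used in this row.) -/
theorem result {ι : Type u} {R : Type v} {M : Type w} {N : Type x}
    [Field R] [LinearOrder R] [IsStrictOrderedRing R]
    [AddCommGroup M] [Module R M] [AddCommGroup N] [Module R N] [Finite ι]
    (P : RootPairing ι R M N) [P.IsRootSystem] [P.IsCrystallographic] [P.IsReduced] (d : P.Base → N) (hd : RootCh.IsCCS d) (F : RootCh.Facet P) (hF : RootCh.IsSpecial d F) :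
    ∃ y₀ : N, RootCh.yLocus d F = {y₀} ∧ F.dualCarrier ∩ RootCh.dualSolid d F = {y₀} := by
  obtain ⟨y₀, hy1, hy2⟩ := hF
  have hsub : F.dualCarrier ∩ RootCh.dualSolid d F ⊆ RootCh.yLocus d F := by
    rintro y ⟨h1, h2⟩
    refine ⟨?_, Submodule.subset_span h1⟩
    simp only [Set.mem_iInter]
    intro w hw
    exact dualSolid_subset_hyper P d hd F w hw h2
  have huniq : ∀ y ∈ RootCh.yLocus d F, y = y₀ := by
    intro y hy
    have hy₀ := hsub ⟨hy1, hy2⟩
    have hz : y - y₀ ∈ Submodule.span R F.dualCarrier := Submodule.sub_mem _ hy.2 hy₀.2
    have : y - y₀ = 0 := by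
      apply eq_zero_of_orth P F _ hz
      intro w hw
      obtain ⟨b, hb⟩ := Groth.Agent.Helper19.RootCham.exists_cham P F
      have hwb : w ∈ baseCorners b :=
        ⟨hw.1, Groth.Agent.Helper19.RootCham.closure_subset_closedChamber P F b hb hw.2⟩
      have e1 := hy.1
      have e2 := hy₀.1
      simp only [Set.mem_iInter] at e1 e2
      rw [map_sub, e1 w hw b hwb, e2 w hw b hwb, sub_self]
    exact sub_eq_zero.mp this
  refine ⟨y₀, ?_, ?_⟩
  · ext y
    constructor
    · intro hy; exact huniq y hy
    · rintro rfl; exact hsub ⟨hy1, hy2⟩
  · ext y
    constructor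
    · intro hy; exact huniq y (hsub hy)
    · rintro rfl; exact ⟨hy1, hy2⟩

end Groth.Agent.S14251
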