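import Groth.Statements.S14238
import Groth.Agent.Helper19.RootGallery
import Groth.Agent.Helper19.Gordan
import Groth.Agent.S14251
-- import your own Groth.Agent.* helpers here

set_option autoImplicit false
universe u v w x
open RootCh

namespace Groth.Agent.S14238

open RootCh RootCh.Facet


section helpers

variable {ι : Type u} {R : Type v} {M : Type w} {N : Type x}
    [Field R] [LinearOrder R] [IsStrictOrderedRing R]
    [AddCommGroup M] [Module R M] [AddCommGroup N] [Module R N] [Finite ι]
    (P : RootPairing ι R M N) [P.IsRootSystem] [P.IsCrystallographic] [P.IsReduced]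

open Groth.Agent.Helper19.RootCham Groth.Agent.Helper19.RootGallery Groth.Agent.S14236

/-- a chamber adjacent to the facet in which a given vector is dominant for the Levi part -/
theorem exists_cham_adapted (F : RootCh.Facet P) (ξ : M) :
    ∃ b : P.Base, b ∈ F.cham ∧ ∀ k ∈ b.support, F.sgn k = 0 → 0 ≤ P.coroot' k ξ := by
  classical
  haveI := Fintype.ofFinite ι
  obtain ⟨ξF, hξF⟩ := F.exists_sgnVec_eq
  have hs : ∀ i, F.sgn i = SignType.sign (P.coroot' i ξF) := fun i => (congrFun hξF i).symm
  obtain ⟨ε, hε, h⟩ := exists_eps (R := R) (Finset.univ : Finset ι) (fun i => P.coroot' i ξF)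
    (fun i => P.coroot' i ξ)
  have hpos : ∀ i, 0 < P.coroot' i ξF → 0 < P.coroot' i (ξF + ε • ξ) := by
    intro i hi
    rw [map_add, map_smul, smul_eq_mul]
    exact h ε hε le_rfl i (Finset.mem_univ _) hi
  obtain ⟨b, hb⟩ := exists_closedChamber P (ξF + ε • ξ)
  have hnn : ∀ k ∈ b.support, 0 ≤ P.coroot' k ξF := by
    intro k hk
    by_contra hneg
    rw [not_le] at hneg
    have h3 := hpos (P.reflectionPerm k k) (by rw [coroot'_ng]; linarith)
    rw [coroot'_ng] at h3
    have h4 := hb k hk
    linarith
  refine ⟨b, ?_, ?_⟩
  · intro ζ hζ k hk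
    have h1 : SignType.sign (P.coroot' k ζ) = SignType.sign (P.coroot' k ξF) :=
      (congrFun hζ k).trans (hs k)
    by_contra hneg
    rw [not_le] at hneg
    have h2 : P.coroot' k ξF < 0 := by
      rw [← sign_eq_neg_one_iff, ← h1, sign_eq_neg_one_iff]; exact hneg
    linarith [hnn k hk]
  · intro k hk hk0
    have h0 : P.coroot' k ξF = 0 := by
      rw [hs k, sign_eq_zero_iff] at hk0; exact hk0
    have h4 := hb k hk
    rw [map_add, map_smul, smul_eq_mul, h0, zero_add] at h4
    exact (mul_nonneg_iff_of_pos_left hε).mp h4

end helpers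

/-- For a finite reduced crystallographic root system over a linearly ordered field with a complementary
convex solid d (d assigns to every Weyl chamber b a vector d(b) of N so that (B1) two chambers with
a common corner m satisfy ⟨m, d(b)⟩ = ⟨m, d(b')⟩ and (B2) across a wall the root changing sign from
positive to negative pairs no more with d on its positive side) and a facet F, the dual solid of F,
i.e. the convex hull of the d(b) over the chambers b whose closure contains F, equals the
intersection of the hyperplanes H_m = {y | ⟨m, y⟩ = ⟨m, d(b)⟩, b any chamber with corner m} over the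
corners m of F with the closed half-spaces {y | ⟨m, y⟩ ≥ ⟨m, d(b)⟩} over the corners m of the
chambers adjacent to F. In particular (F the origin) the solid itself, the convex hull of all d(b),
is the intersection of the closed half-spaces of all fundamental weights. -/
theorem result {ι : Type u} {R : Type v} {M : Type w} {N : Type x}
    [Field R] [LinearOrder R] [IsStrictOrderedRing R]
    [AddCommGroup M] [Module R M] [AddCommGroup N] [Module R N] [Finite ι]
    (P : RootPairing ι R M N) [P.IsRootSystem] [P.IsCrystallographic] [P.IsReduced] (d : P.Base → N) (hd : RootCh.IsCCS d) (F : RootCh.Facet P) :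
    RootCh.dualSolid d F = (⋂ m ∈ F.corners, RootCh.hyper d m) ∩ ⋂ m ∈ F.corners', RootCh.halfClosed d m := by
  classical
  apply Set.Subset.antisymm
  · intro y hy
    refine ⟨?_, ?_⟩
    · simp only [Set.mem_iInter]
      intro m hm
      exact Groth.Agent.S14251.dualSolid_subset_hyper P d hd F m hm hy
    · simp only [Set.mem_iInter]
      intro m _ b₂ hb₂
      have hconv : Convex R {x : N | P.toLinearMap m (d b₂) ≤ P.toLinearMap m x} :=
        convex_halfSpace_ge (P.toLinearMap m).isLinear _
      have hsub : d '' F.cham ⊆ {x : N | P.toLinearMap m (d b₂) ≤ P.toLinearMap m x} := by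
        rintro _ ⟨b', _, rfl⟩
        exact Groth.Agent.Helper19.RootGallery.pairing_le P d hd b₂ m hb₂ b'
      exact convexHull_min hsub hconv hy
  · rintro y ⟨hy1, hy2⟩
    simp only [Set.mem_iInter] at hy1 hy2
    by_contra hny
    haveI := Groth.Agent.Helper19.RootGallery.finite_base P
    haveI := Fintype.ofFinite P.Base
    rcases Groth.Agent.Helper19.Gordan.gordan_aux (R := R)
      (Finset.univ.filter (fun b : P.Base => b ∈ F.cham)) (fun b => d b - y) with
      ⟨f, hf⟩ | ⟨t, ht0, ⟨b0, hb0, htb0⟩, hsum⟩
    · obtain ⟨ξ, hξ⟩ : ∃ ξ : M, P.toPerfPair ξ = f := ⟨P.toPerfPair.symm f, by simp⟩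
      obtain ⟨b, hb, hlevi⟩ := exists_cham_adapted P F ξ
      have h1 : ∀ z : N, P.toLinearMap ξ z = f z := fun z => by rw [← hξ]; rfl
      have h2 := hf b (by simp [hb])
      rw [map_sub, ← h1, ← h1, Groth.Agent.Helper19.RootGallery.pairing_expand P b ξ (d b),
        Groth.Agent.Helper19.RootGallery.pairing_expand P b ξ y, ← Finset.sum_sub_distrib] at h2
      have h3 : ∑ k : b.support, (P.coroot' k ξ * P.toLinearMap (fundWeight b k) (d b) -
          P.coroot' k ξ * P.toLinearMap (fundWeight b k) y) ≤ 0 := by
        refine Finset.sum_nonpos (fun k _ => ?_)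
        have hkc : fundWeight b k ∈ baseCorners b :=
          Groth.Agent.S14249.fundWeight_mem_baseCorners b k
        rcases Groth.Agent.Helper19.RootCham.sgn_nonneg_of_cham P F b hb k k.2 with h0 | h1'
        · have hc : 0 ≤ P.coroot' k ξ := hlevi k k.2 h0
          have hle : P.toLinearMap (fundWeight b k) (d b) ≤ P.toLinearMap (fundWeight b k) y :=
            hy2 (fundWeight b k) (Set.mem_biUnion hb hkc) b hkc
          nlinarith
        · have heq : P.toLinearMap (fundWeight b k) y = P.toLinearMap (fundWeight b k) (d b) :=
            hy1 (fundWeight b k)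
              (Groth.Agent.Helper19.RootCham.fundWeight_mem_corners P F b hb k h1') b hkc
          rw [heq, sub_self]
      linarith
    · apply hny
      have hpos : 0 < ∑ b ∈ Finset.univ.filter (fun b : P.Base => b ∈ F.cham), t b :=
        Finset.sum_pos' ht0 ⟨b0, hb0, htb0⟩
      have hcm := Finset.centerMass_mem_convexHull (R := R)
        (Finset.univ.filter (fun b : P.Base => b ∈ F.cham)) ht0 hpos
        (z := d) (s := d '' F.cham) (fun b hb => by
          simp only [Finset.mem_filter, Finset.mem_univ, true_and] at hb
          exact Set.mem_image_of_mem d hb)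
      have hy : (Finset.univ.filter (fun b : P.Base => b ∈ F.cham)).centerMass t d = y := by
        rw [Finset.centerMass]
        have e1 : ∑ b ∈ Finset.univ.filter (fun b : P.Base => b ∈ F.cham), t b • d b =
            (∑ b ∈ Finset.univ.filter (fun b : P.Base => b ∈ F.cham), t b) • y := by
          rw [Finset.sum_smul, ← sub_eq_zero, ← Finset.sum_sub_distrib, ← hsum]
          refine Finset.sum_congr rfl (fun b _ => ?_)
          rw [smul_sub]
        rw [e1, smul_smul, inv_mul_cancel₀ hpos.ne', one_smul]
      rw [hy] at hcm
      exact hcm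

end Groth.Agent.S14238
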