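import Groth.Statements.S14242
import Groth.Agent.Helper19.RootCham
-- import your own Groth.Agent.* helpers here

set_option autoImplicit false
universe u v w x
open RootCh RootCh.Facet

namespace Groth.Agent.S14242

/-- For a finite reduced crystallographic root system over a linearly ordered field, a facet F and a
corner m of F, let Ψ(F, m) be the elementary set of roots of F at m: the roots pairing to 1 with the
fundamental coweight corresponding to m and to 0 with the fundamental coweights corresponding to the
other corners of F. Then the sum of the roots of Ψ(F, m) lies in the linear span of the corners of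
F. -/
theorem result {ι : Type u} {R : Type v} {M : Type w} {N : Type x}
    [Field R] [LinearOrder R] [IsStrictOrderedRing R]
    [AddCommGroup M] [Module R M] [AddCommGroup N] [Module R N] [Finite ι]
    (P : RootPairing ι R M N) [P.IsRootSystem] [P.IsCrystallographic] [P.IsReduced] (F : RootCh.Facet P) (m : M) (hm : m ∈ F.corners) :
    (∑ i ∈ (Set.toFinite (F.Psi m)).toFinset, P.root i) ∈ Submodule.span R F.corners := by
  classical
  obtain ⟨b, hb⟩ := Groth.Agent.Helper19.RootCham.exists_cham P F
  apply Groth.Agent.Helper19.RootCham.mem_span_corners P F b hb
  intro k _ hk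
  rw [map_sum]
  simp_rw [P.root_coroot'_eq_pairing]
  -- vanishing of root' k on coweights corresponding to corners
  have hvan : ∀ w' ∈ F.corners, ∀ x : N, Corr P w' x → P.root' k x = 0 := by
    intro w' hw' x hx
    rw [Groth.Agent.Helper19.RootCham.corr_root'_eq_zero_iff P w' x hx k]
    have := hw'.2 k
    rw [hk, or_self] at this
    exact sign_eq_zero_iff.mp this
  have hrefl : ∀ (i : ι) (x : N), P.root' k x = 0 →
      P.root' (P.reflectionPerm k i) x = P.root' i x := by
    intro i x hx
    show P.toLinearMap (P.root (P.reflectionPerm k i)) x = P.toLinearMap (P.root i) x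
    rw [P.root_reflectionPerm, P.reflection_apply_root, map_sub, map_smul, LinearMap.sub_apply,
      LinearMap.smul_apply]
    rw [show P.toLinearMap (P.root k) x = 0 from hx, smul_zero, sub_zero]
  apply Groth.Agent.S14237.sum_eq_zero_of_invol _ (P.reflectionPerm k)
    (fun a => P.reflectionPerm_self k a)
  · intro a ha
    rw [Set.Finite.mem_toFinset] at ha ⊢
    refine ⟨fun x hx => ?_, fun w' hw' hne x hx => ?_⟩
    · rw [hrefl a x (hvan m hm x hx)]; exact ha.1 x hx
    · rw [hrefl a x (hvan w' hw' x hx)]; exact ha.2 w' hw' hne x hx
  · intro a _
    exact Groth.Agent.S14237.pairing_refl P a k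

end Groth.Agent.S14242
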