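import Groth.Statements.S1642
import Groth.Agent.Lib.Lead.Koszul.Mumford

set_option autoImplicit false
universe u
open CategoryTheory CategoryTheory.Limits AlgebraicGeometry
open Variety

namespace Groth.Agent.S1642

/-- A coherent module on P^n_k which is m-regular in the sense of Castelnuovo–Mumford is also (m +
1)-regular. -/
theorem result (k : Type u) [Field k] (n : ℕ) (F : (CohB1.ProjSpace n k).Modules) (hF : Coh.IsCoh F) (m : ℤ)
    (h : Curv2.IsMRegular k n F m) : Curv2.IsMRegular k n F (m + 1) := by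
  intro i hi1 hin
  haveI : F.IsQuasicoherent := hF.1
  have key := Groth.Agent.Lib.Lead.Koszul.subsingleton_HH_tw_top n k
    (m + 1 - i - ((n + 1 : ℕ) : ℤ)) F i (by
      intro j hj
      have hd : (m + 1 - (i : ℤ) - ((n + 1 : ℕ) : ℤ)) + (j : ℤ) = m - ((i + (n - j) : ℕ) : ℤ) := by
        push_cast [Nat.cast_sub hj]; ring
      rw [hd]
      by_cases hp : i + (n - j) ≤ n
      · exact h (i + (n - j)) (by omega) hp
      · exact Groth.Agent.S0022.result n k _ (i + (n - j)) (by omega))
  have hd : (m + 1 - (i : ℤ) - ((n + 1 : ℕ) : ℤ)) + ((n + 1 : ℕ) : ℤ) = m + 1 - i := by ring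
  rw [hd] at key
  exact key

end Groth.Agent.S1642
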