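import Groth.Statements.S15821
import Groth.Agent.Lib.Helper28.KoszulTop

set_option autoImplicit false
universe u
open CategoryTheory
open Koszul

namespace Groth.Agent.S15821

lemma koszul_eq {A : Type u} [CommRing A] :
    ∀ l : List A, Koszul.koszul A l = CohIII.koszulCx (ModuleCat.of A A) l
  | [] => rfl
  | f :: l => by
    change CochainComplex.mappingCone (f • 𝟙 (Koszul.koszul A l)) =
      CochainComplex.mappingCone (f • 𝟙 (CohIII.koszulCx (ModuleCat.of A A) l))
    rw [koszul_eq l]

lemma homology_iso_of_eq {A : Type u} [CommRing A] {K K' : CochainComplex (ModuleCat.{u} A) ℤ}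
    (h : K = K') (i : ℤ) : Nonempty (K.homology i ≅ K'.homology i) := by
  subst h
  exact ⟨Iso.refl _⟩

/-- Let A be a commutative ring and f = (f_1, …, f_r) a sequence in A which is regular in the weak sense
(f_1 is a non-zero-divisor of A and each f_i is a non-zero-divisor of A/(f_1, …, f_{i-1}); no
condition A/(f) ≠ 0). Then the Koszul complex K(f) (iterated mapping-cone model, degrees -r, …, 0)
has vanishing cohomology in all nonzero degrees, i.e. f is Koszul-regular, and its cohomology in
degree 0 is isomorphic as an A-module to A/(f_1, …, f_r) (existence of an A-linear isomorphism):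
K(f) is a free resolution of A/(f). -/
theorem result (A : Type u) [CommRing A] (l : List A)
    (hl : RingTheory.Sequence.IsWeaklyRegular A l) :
    LCI.IsKoszulRegularSeq A l ∧
      Nonempty ((Koszul.koszul A l).homology 0 ≅ ModuleCat.of A (A ⧸ Ideal.ofList l)) := by
  constructor
  · intro i hi
    obtain ⟨e⟩ := homology_iso_of_eq (koszul_eq l) i
    exact (Groth.Agent.Lib.Helper28.Koszul.isZero_homology_koszulCx_of_isWeaklyRegular
      l A hl i hi).of_iso e
  · obtain ⟨e₀⟩ := homology_iso_of_eq (koszul_eq l) 0
    obtain ⟨e⟩ := Groth.Agent.Lib.Helper28.Koszul.nonempty_homologyZero_equiv A l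
    have h : Ideal.ofList l • (⊤ : Submodule A A) = Ideal.ofList l := by
      rw [smul_eq_mul, Ideal.mul_top]
    exact ⟨e₀ ≪≫ (e ≪≫ₗ Submodule.quotEquivOfEq _ _ h).toModuleIso⟩

end Groth.Agent.S15821
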