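import Groth.Statements.S9318
import Mathlib

set_option autoImplicit false
universe u
open CAlg

namespace Groth.Agent.S9318

open AdicCompletion

section
variable {S : Type u} [CommRing S] (𝔫 : Ideal S)

theorem ker_evalₐ_eq (h𝔫 : 𝔫.FG) (k : ℕ) :
    RingHom.ker (evalₐ 𝔫 k).toRingHom = (𝔫.map (algebraMap S (AdicCompletion 𝔫 S))) ^ k := by
  ext x
  have h1 : x ∈ RingHom.ker (evalₐ 𝔫 k).toRingHom ↔ x ∈ LinearMap.ker (eval 𝔫 S k) := by
    rw [RingHom.mem_ker, LinearMap.mem_ker]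
    have hle : 𝔫 ^ k • (⊤ : Ideal S) ≤ 𝔫 ^ k := by simp
    change evalₐ 𝔫 k x = 0 ↔ _
    rw [← factor_eval_eq_evalₐ 𝔫 x hle]
    constructor
    · intro h
      have hinj : Function.Injective (Ideal.Quotient.factor hle) := by
        rw [injective_iff_map_eq_zero]
        intro y hy
        obtain ⟨z, rfl⟩ := Ideal.Quotient.mk_surjective y
        rw [Ideal.Quotient.factor_mk, Ideal.Quotient.eq_zero_iff_mem] at hy
        rw [Ideal.Quotient.eq_zero_iff_mem]
        simpa using hy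
      exact hinj (h.trans (_root_.map_zero _).symm)
    · intro h
      rw [h, _root_.map_zero]
  rw [h1, ← pow_smul_top_eq_ker_eval h𝔫, ← Ideal.map_pow, Ideal.smul_top_eq_map]
  rfl

end


/-- Let `R → S` be a ring map and `𝔫 ⊆ S` a finitely generated ideal, and let `S^` be the `𝔫`-adic
completion of `S`. Then `R → S` is formally smooth for the `𝔫`-adic topology if and only if `R → S^`
is formally smooth for the adic topology of the extension of `𝔫` to `S^`. No Noetherian hypothesis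
is made on `S`. -/
theorem result {R S : Type u} [CommRing R] [CommRing S]
    [Algebra R S] (𝔫 : Ideal S) (h𝔫 : 𝔫.FG) :
    CAlgX.IsAdicFormallySmooth R S 𝔫 ↔
      CAlgX.IsAdicFormallySmooth R (AdicCompletion 𝔫 S) (𝔫.map (algebraMap S (AdicCompletion 𝔫 S))) := by
  set Sh := AdicCompletion 𝔫 S
  let ι : S →ₐ[R] Sh := IsScalarTower.toAlgHom R S Sh
  have hι : ∀ s, ι s = algebraMap S Sh s := fun s => rfl
  have hιof : ∀ s, ι s = of 𝔫 S s := fun s => rfl
  -- `evalₐ` as an `R`-algebra map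
  let ev : ∀ k, Sh →ₐ[R] S ⧸ 𝔫 ^ k := fun k => (evalₐ 𝔫 k).restrictScalars R
  have hev : ∀ k x, ev k x = evalₐ 𝔫 k x := fun k x => rfl
  have hevι : ∀ k s, ev k (ι s) = Ideal.Quotient.mk (𝔫 ^ k) s := by
    intro k s
    rw [hev, hιof, evalₐ_of]
  have hker : ∀ k x, ev k x = 0 ↔ x ∈ (𝔫.map (algebraMap S Sh)) ^ k := by
    intro k x
    rw [← ker_evalₐ_eq 𝔫 h𝔫 k]
    rfl
  have hιpow : ∀ k s, s ∈ 𝔫 ^ k → ι s ∈ (𝔫.map (algebraMap S Sh)) ^ k := by
    intro k s hs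
    rw [← Ideal.map_pow]
    exact Ideal.mem_map_of_mem _ hs
  constructor
  · intro hfs A _ _ J hJ ψ hψ
    obtain ⟨k, hk⟩ := hψ
    obtain ⟨χ₀, hχ₀⟩ := hfs A J hJ (ψ.comp ι) ⟨k, fun s hs => hk _ (hιpow k s hs)⟩
    have hχ₀' : ∀ s, Ideal.Quotient.mk J (χ₀ s) = ψ (ι s) := fun s => AlgHom.congr_fun hχ₀ s
    -- `χ₀` kills `𝔫^(k*2)`
    have hkill : ∀ s ∈ 𝔫 ^ (k * 2), χ₀ s = 0 := by
      intro s hs
      rw [pow_mul, pow_two] at hs
      refine Submodule.mul_induction_on hs ?_ ?_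
      · intro a ha b hb
        have ha' : χ₀ a ∈ J := by
          rw [← Ideal.Quotient.eq_zero_iff_mem, hχ₀']
          exact hk _ (hιpow k a ha)
        have hb' : χ₀ b ∈ J := by
          rw [← Ideal.Quotient.eq_zero_iff_mem, hχ₀']
          exact hk _ (hιpow k b hb)
        have : χ₀ a * χ₀ b ∈ J ^ 2 := by
          rw [pow_two]
          exact Ideal.mul_mem_mul ha' hb'
        rw [hJ, Ideal.mem_bot] at this
        rw [map_mul, this]
      · intro a b ha hb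
        rw [map_add, ha, hb, add_zero]
    let χbar : (S ⧸ 𝔫 ^ (k * 2)) →ₐ[R] A := Ideal.Quotient.liftₐ _ χ₀ hkill
    have hχbar : ∀ s, χbar (Ideal.Quotient.mk _ s) = χ₀ s := fun s => rfl
    refine ⟨χbar.comp (ev (k * 2)), ?_⟩
    ext x
    obtain ⟨s, hs⟩ := Ideal.Quotient.mk_surjective (ev (k * 2) x)
    change Ideal.Quotient.mk J (χbar (ev (k * 2) x)) = ψ x
    rw [← hs, hχbar, hχ₀']
    have hx : x - ι s ∈ (𝔫.map (algebraMap S Sh)) ^ (k * 2) := by
      rw [← hker, map_sub, hevι, hs, sub_self]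
    have hx' : x - ι s ∈ (𝔫.map (algebraMap S Sh)) ^ k :=
      Ideal.pow_le_pow_right (by omega) hx
    have := hk _ hx'
    rw [map_sub, sub_eq_zero] at this
    exact this.symm
  · intro hfs A _ _ J hJ ψ hψ
    obtain ⟨k, hk⟩ := hψ
    let ψbar : (S ⧸ 𝔫 ^ k) →ₐ[R] A ⧸ J := Ideal.Quotient.liftₐ _ ψ hk
    have hψbar : ∀ s, ψbar (Ideal.Quotient.mk _ s) = ψ s := fun s => rfl
    obtain ⟨χ, hχ⟩ := hfs A J hJ (ψbar.comp (ev k)) ⟨k, fun x hx => by
      change ψbar (ev k x) = 0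
      rw [(hker k x).mpr hx, _root_.map_zero]⟩
    refine ⟨χ.comp ι, ?_⟩
    ext s
    have := AlgHom.congr_fun hχ (ι s)
    change Ideal.Quotient.mk J (χ (ι s)) = ψbar (ev k (ι s)) at this
    change Ideal.Quotient.mk J (χ (ι s)) = ψ s
    rw [this, hevι, hψbar]

end Groth.Agent.S9318
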