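import Groth.Statements.S9317
import Mathlib
import Groth.Agent.S9318

set_option autoImplicit false
universe u
open CAlg

namespace Groth.Agent.S9317

open AdicCompletion

section
variable {R : Type u} [CommRing R] (𝔪 : Ideal R)

theorem exists_sub_mem (h𝔪 : 𝔪.FG) (N : ℕ) (x : AdicCompletion 𝔪 R) :
    ∃ r : R, x - algebraMap R (AdicCompletion 𝔪 R) r ∈
      (𝔪 ^ N).map (algebraMap R (AdicCompletion 𝔪 R)) := by
  obtain ⟨r, hr⟩ := Ideal.Quotient.mk_surjective (evalₐ 𝔪 N x)
  refine ⟨r, ?_⟩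
  rw [Ideal.map_pow, ← Groth.Agent.S9318.ker_evalₐ_eq 𝔪 h𝔪 N, RingHom.mem_ker]
  change evalₐ 𝔪 N (x - of 𝔪 R r) = 0
  rw [map_sub, evalₐ_of, hr, sub_self]

/-- two ring homs out of the completion which agree on `R`, agree modulo a square-zero ideal `J`, and send
`𝔪^N` into `J`, are equal. -/
theorem ringHom_ext_of_sqZero (h𝔪 : 𝔪.FG) {A : Type u} [CommRing A] (J : Ideal A) (hJ : J ^ 2 = ⊥)
    (α β : AdicCompletion 𝔪 R →+* A)
    (hR : ∀ r : R, α (algebraMap R _ r) = β (algebraMap R _ r))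
    (hmod : ∀ x, β x - α x ∈ J) (N : ℕ)
    (hN : ∀ m ∈ 𝔪 ^ N, α (algebraMap R _ m) ∈ J) : α = β := by
  have key : ∀ t ∈ (𝔪 ^ N).map (algebraMap R (AdicCompletion 𝔪 R)), ∀ y, α (t * y) = β (t * y) := by
    intro t ht
    refine Submodule.span_induction ?_ ?_ ?_ ?_ ht
    · rintro _ ⟨m, hm, rfl⟩ y
      rw [map_mul, map_mul, ← hR]
      have h1 : α (algebraMap R _ m) * (β y - α y) ∈ J ^ 2 := by
        rw [pow_two]
        exact Ideal.mul_mem_mul (hN m hm) (hmod y)
      rw [hJ, Ideal.mem_bot, mul_sub, sub_eq_zero] at h1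
      exact h1.symm
    · intro y
      rw [zero_mul, _root_.map_zero, _root_.map_zero]
    · intro a b _ _ ha hb y
      rw [add_mul, map_add, map_add, ha, hb]
    · intro a b _ hb y
      rw [smul_eq_mul, mul_comm a b, mul_assoc]
      exact hb (a * y)
  ext x
  obtain ⟨r, hr⟩ := exists_sub_mem 𝔪 h𝔪 N x
  have h1 := key _ hr 1
  rw [mul_one, map_sub, map_sub, hR] at h1
  exact sub_left_injective h1

end

theorem adic_iff_of_completion {R T : Type u} [CommRing R] [CommRing T] (𝔪 : Ideal R) (h𝔪 : 𝔪.FG)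
    [Algebra R T] [Algebra (AdicCompletion 𝔪 R) T] [IsScalarTower R (AdicCompletion 𝔪 R) T]
    (𝔞 : Ideal T) (c : ℕ) (hc : (𝔪 ^ c).map (algebraMap R T) ≤ 𝔞) :
    CAlgX.IsAdicFormallySmooth R T 𝔞 ↔ CAlgX.IsAdicFormallySmooth (AdicCompletion 𝔪 R) T 𝔞 := by
  set Rh := AdicCompletion 𝔪 R
  have hpow : ∀ k, ∀ m ∈ 𝔪 ^ (c * k), algebraMap R T m ∈ 𝔞 ^ k := by
    intro k m hm
    have h1 : algebraMap R T m ∈ ((𝔪 ^ c) ^ k).map (algebraMap R T) := by
      rw [← pow_mul]
      exact Ideal.mem_map_of_mem _ hm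
    rw [Ideal.map_pow] at h1
    exact Ideal.pow_right_mono hc k h1
  constructor
  · intro hfs A _ _ J hJ φ hφ
    obtain ⟨k, hk⟩ := hφ
    let _ : Algebra R A := ((algebraMap Rh A).comp (algebraMap R Rh)).toAlgebra
    have hRA : ∀ r : R, algebraMap R A r = algebraMap Rh A (algebraMap R Rh r) := fun r => rfl
    have : IsScalarTower R Rh A := IsScalarTower.of_algebraMap_eq hRA
    let φ₀ : T →ₐ[R] A ⧸ J := φ.restrictScalars R
    obtain ⟨χ, hχ⟩ := hfs A J hJ φ₀ ⟨k, hk⟩
    have hχ' : ∀ t, Ideal.Quotient.mk J (χ t) = φ t := fun t => AlgHom.congr_fun hχ t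
    have heq : algebraMap Rh A = (χ : T →+* A).comp (algebraMap Rh T) := by
      apply ringHom_ext_of_sqZero 𝔪 h𝔪 J hJ _ _ _ _ (c * k)
      · intro m hm
        rw [← hRA, ← Ideal.Quotient.eq_zero_iff_mem]
        have h1 : Ideal.Quotient.mk J (algebraMap R A m) = φ (algebraMap R T m) := by
          exact (φ₀.commutes m).symm
        rw [h1]
        exact hk _ (hpow k m hm)
      · intro r
        rw [RingHom.comp_apply, ← IsScalarTower.algebraMap_apply R Rh T, ← hRA]
        exact (χ.commutes r).symm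
      · intro x
        rw [← Ideal.Quotient.eq_zero_iff_mem, map_sub, RingHom.comp_apply]
        change Ideal.Quotient.mk J (χ (algebraMap Rh T x)) - _ = 0
        rw [hχ', φ.commutes, sub_eq_zero]
        rfl
    let χ' : T →ₐ[Rh] A :=
      { (χ : T →+* A) with
        commutes' := fun x => (RingHom.congr_fun heq x).symm }
    refine ⟨χ', ?_⟩
    ext t
    exact hχ' t
  · intro hfs A _ _ J hJ φ hφ
    obtain ⟨k, hk⟩ := hφ
    -- the structure map of `A` kills `𝔪^(c*k*2)`
    have hJmem : ∀ m ∈ 𝔪 ^ (c * k), algebraMap R A m ∈ J := by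
      intro m hm
      rw [← Ideal.Quotient.eq_zero_iff_mem]
      have h1 : Ideal.Quotient.mk J (algebraMap R A m) = φ (algebraMap R T m) :=
        (φ.commutes m).symm
      rw [h1]
      exact hk _ (hpow k m hm)
    have hkill : ∀ m ∈ 𝔪 ^ (c * k * 2), algebraMap R A m = 0 := by
      intro m hm
      rw [pow_mul, pow_two] at hm
      refine Submodule.mul_induction_on hm ?_ ?_
      · intro a ha b hb
        have : algebraMap R A a * algebraMap R A b ∈ J ^ 2 := by
          rw [pow_two]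
          exact Ideal.mul_mem_mul (hJmem a ha) (hJmem b hb)
        rw [hJ, Ideal.mem_bot] at this
        rw [map_mul, this]
      · intro a b ha hb
        rw [map_add, ha, hb, add_zero]
    let αbar : (R ⧸ 𝔪 ^ (c * k * 2)) →+* A := Ideal.Quotient.lift _ (algebraMap R A) hkill
    let α : Rh →+* A := αbar.comp (evalₐ 𝔪 (c * k * 2)).toRingHom
    have hαR : ∀ r : R, α (algebraMap R Rh r) = algebraMap R A r := by
      intro r
      change αbar (evalₐ 𝔪 (c * k * 2) (of 𝔪 R r)) = _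
      rw [evalₐ_of]
      rfl
    have hαkill : ∀ x ∈ (𝔪 ^ (c * k * 2)).map (algebraMap R Rh), α x = 0 := by
      intro x hx
      rw [Ideal.map_pow, ← Groth.Agent.S9318.ker_evalₐ_eq 𝔪 h𝔪, RingHom.mem_ker] at hx
      change αbar ((evalₐ 𝔪 (c * k * 2)).toRingHom x) = 0
      rw [hx, _root_.map_zero]
    let _ : Algebra Rh A := α.toAlgebra
    have hRhA : ∀ x : Rh, algebraMap Rh A x = α x := fun x => rfl
    -- `φ` is `Rh`-linear
    have hφlin : ∀ x : Rh, φ (algebraMap Rh T x) = Ideal.Quotient.mk J (α x) := by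
      intro x
      obtain ⟨r, hr⟩ := exists_sub_mem 𝔪 h𝔪 (c * k * 2) x
      have h1 : φ (algebraMap Rh T (x - algebraMap R Rh r)) = 0 := by
        apply hk
        have h2 : algebraMap Rh T (x - algebraMap R Rh r) ∈
            ((𝔪 ^ (c * k * 2)).map (algebraMap R Rh)).map (algebraMap Rh T) :=
          Ideal.mem_map_of_mem _ hr
        rw [Ideal.map_map, ← IsScalarTower.algebraMap_eq, mul_assoc, pow_mul, Ideal.map_pow] at h2
        have h3 : (𝔪 ^ c).map (algebraMap R T) ^ (k * 2) ≤ 𝔞 ^ k :=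
          (Ideal.pow_right_mono hc (k * 2)).trans (Ideal.pow_le_pow_right (by omega))
        exact h3 h2
      have h2 : α (x - algebraMap R Rh r) = 0 := hαkill _ hr
      rw [map_sub, map_sub, sub_eq_zero, ← IsScalarTower.algebraMap_apply R Rh T, φ.commutes] at h1
      rw [map_sub, sub_eq_zero, hαR] at h2
      rw [h1, h2]
      rfl
    let φ' : T →ₐ[Rh] A ⧸ J :=
      { (φ : T →+* A ⧸ J) with
        commutes' := fun x => hφlin x }
    obtain ⟨χ', hχ'⟩ := hfs A J hJ φ' ⟨k, hk⟩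
    have hχ'' : ∀ t, Ideal.Quotient.mk J (χ' t) = φ t := fun t => AlgHom.congr_fun hχ' t
    let χ : T →ₐ[R] A :=
      { (χ' : T →+* A) with
        commutes' := fun r => by
          change χ' (algebraMap R T r) = algebraMap R A r
          rw [IsScalarTower.algebraMap_apply R Rh T, χ'.commutes, hRhA, hαR] }
    refine ⟨χ, ?_⟩
    ext t
    exact hχ'' t


/-- Let `R → S` be a ring map, let `𝔪 ⊆ R` and `𝔫 ⊆ S` be finitely generated ideals such that some power
of `𝔪` maps into `𝔫`, and let `R^`, `S^` be the `𝔪`-adic and `𝔫`-adic completions. Let `ψ : R^ → S^`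
be a ring map whose composite with `R → R^` is the composite `R → S → S^` (there is exactly one such
map, the canonical one, since any such map is continuous for the adic topologies). Then `R → S` is
formally smooth for the `𝔫`-adic topology if and only if `R^ → S^`, i.e. `S^` viewed as an
`R^`-algebra through `ψ`, is formally smooth for the adic topology of the extension of `𝔫` to `S^`. -/
theorem result {R S : Type u} [CommRing R] [CommRing S]
    [Algebra R S] (𝔪 : Ideal R) (𝔫 : Ideal S) (h𝔪 : 𝔪.FG) (h𝔫 : 𝔫.FG)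
    (hc : ∃ c : ℕ, (𝔪 ^ c).map (algebraMap R S) ≤ 𝔫)
    (ψ : AdicCompletion 𝔪 R →+* AdicCompletion 𝔫 S)
    (hψ : ψ.comp (algebraMap R (AdicCompletion 𝔪 R)) =
      (algebraMap S (AdicCompletion 𝔫 S)).comp (algebraMap R S)) :
    CAlgX.IsAdicFormallySmooth R S 𝔫 ↔
      letI : Algebra (AdicCompletion 𝔪 R) (AdicCompletion 𝔫 S) := ψ.toAlgebra
      CAlgX.IsAdicFormallySmooth (AdicCompletion 𝔪 R) (AdicCompletion 𝔫 S)
        (𝔫.map (algebraMap S (AdicCompletion 𝔫 S))) := by
  obtain ⟨c, hc⟩ := hc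
  let _ : Algebra (AdicCompletion 𝔪 R) (AdicCompletion 𝔫 S) := ψ.toAlgebra
  rw [Groth.Agent.S9318.result 𝔫 h𝔫]
  have hcomp : algebraMap R (AdicCompletion 𝔫 S) =
      (algebraMap S (AdicCompletion 𝔫 S)).comp (algebraMap R S) := rfl
  have : IsScalarTower R (AdicCompletion 𝔪 R) (AdicCompletion 𝔫 S) :=
    IsScalarTower.of_algebraMap_eq' (by rw [RingHom.algebraMap_toAlgebra, hψ, hcomp])
  refine adic_iff_of_completion 𝔪 h𝔪 _ c ?_
  rw [hcomp, ← Ideal.map_map]
  exact Ideal.map_mono hc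

end Groth.Agent.S9317
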