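import Groth.Statements.S19474
import Mathlib
import Groth.Agent.S9317
import Groth.Agent.Lib.Helper21.AdicNoetherian

set_option autoImplicit false
universe u
open CAlg

namespace Groth.Agent.S19474

open IsLocalRing AdicCompletion


/-- Let A be a Noetherian local ring and I an ideal of A different from A. Then the I-adic completion of
A has the same Krull dimension as A, and A is a regular local ring if and only if the I-adic
completion of A is a regular local ring (in particular the completion is then local and Noetherian).
The case where I is the maximal ideal is the classical one; here I is any proper ideal. -/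
theorem result (A : Type u) [CommRing A]
    [IsLocalRing A] [IsNoetherianRing A] (I : Ideal A) (hI : I ≠ ⊤) :
    ringKrullDim (AdicCompletion I A) = ringKrullDim A ∧
      (IsRegularLocalRing A ↔ IsRegularLocalRing (AdicCompletion I A)) := by
  set B := AdicCompletion I A
  have hIfg : I.FG := Ideal.fg_of_isNoetherianRing I
  have hIm : I ≤ maximalIdeal A := IsLocalRing.le_maximalIdeal hI
  have hBN : IsNoetherianRing B := Groth.Agent.Lib.Helper21.isNoetherianRing_adicCompletion_of_fg I hIfg
  have hcomplete : IsAdicComplete (I.map (algebraMap A B)) B := AdicCompletion.isAdicComplete_self I hIfg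
  have hMmax : ((maximalIdeal A).map (algebraMap A B)).IsMaximal :=
    AdicCompletion.isMaximal_map_of_le I (maximalIdeal A) hIm hIfg
  have hIBle : I.map (algebraMap A B) ≤ (maximalIdeal A).map (algebraMap A B) := Ideal.map_mono hIm
  have hnt : Nontrivial (A ⧸ I) := Ideal.Quotient.nontrivial_iff.mpr hI
  have hAIloc : IsLocalRing (A ⧸ I) :=
    IsLocalRing.of_surjective' (Ideal.Quotient.mk I) Ideal.Quotient.mk_surjective
  -- `B` is local
  have hBloc : IsLocalRing B := by
    refine IsLocalRing.of_unique_max_ideal ⟨_, hMmax, fun N hN => ?_⟩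
    have hjac : I.map (algebraMap A B) ≤ N :=
      (IsAdicComplete.le_jacobson_bot _).trans (sInf_le ⟨bot_le, hN⟩)
    -- `N` contains the image of the maximal ideal
    have hker : RingHom.ker (evalOneₐ I).toRingHom ≤ N := by
      rw [AdicCompletion.ker_evalOneₐ_eq_map I hIfg]
      exact hjac
    have h1 : (N.map (evalOneₐ I).toRingHom).IsMaximal :=
      Ideal.IsMaximal.map_of_surjective_of_ker_le (evalOneₐ_surjective I) hker
    have h2 : N.map (evalOneₐ I).toRingHom = maximalIdeal (A ⧸ I) := IsLocalRing.eq_maximalIdeal h1
    refine (hMmax.eq_of_le hN.ne_top ?_).symm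
    rw [Ideal.map_le_iff_le_comap]
    intro a ha
    rw [Ideal.mem_comap]
    have h3 : (evalOneₐ I).toRingHom (algebraMap A B a) ∈ N.map (evalOneₐ I).toRingHom := by
      rw [h2]
      change Ideal.Quotient.mk I a ∈ maximalIdeal (A ⧸ I)
      rw [← IsLocalRing.map_maximalIdeal_of_surjective (Ideal.Quotient.mk I) Ideal.Quotient.mk_surjective]
      exact Ideal.mem_map_of_mem _ ha
    rw [Ideal.mem_map_iff_of_surjective (evalOneₐ I).toRingHom (evalOneₐ_surjective I)] at h3
    obtain ⟨n, hn, hn'⟩ := h3
    have h4 : algebraMap A B a - n ∈ RingHom.ker (evalOneₐ I).toRingHom := by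
      rw [RingHom.mem_ker, map_sub, hn', sub_self]
    have h5 : algebraMap A B a = (algebraMap A B a - n) + n := by ring
    rw [h5]
    exact N.add_mem (hker h4) hn
  have hmB : maximalIdeal B = (maximalIdeal A).map (algebraMap A B) :=
    (IsLocalRing.eq_maximalIdeal hMmax).symm
  have hloc : IsLocalHom (algebraMap A B) := by
    apply ((IsLocalRing.local_hom_TFAE _).out 0 2).mpr
    rw [hmB]
  have hff : Module.FaithfullyFlat A B := Module.FaithfullyFlat.of_flat_of_isLocalHom
  have hover : (maximalIdeal B).LiesOver (maximalIdeal A) := by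
    constructor
    rw [Ideal.under_def]
    exact (IsLocalRing.maximalIdeal_comap (algebraMap A B)).symm
  have hdim : ringKrullDim B = ringKrullDim A := by
    rw [← IsLocalRing.maximalIdeal_height_eq_ringKrullDim, ← IsLocalRing.maximalIdeal_height_eq_ringKrullDim,
      Ideal.height_eq_height_add_of_liesOver_of_hasGoingDown (maximalIdeal A) (maximalIdeal B)]
    have h0 : (maximalIdeal B).map (Ideal.Quotient.mk ((maximalIdeal A).map (algebraMap A B))) = ⊥ := by
      rw [hmB, Ideal.map_quotient_self]
    have : Nontrivial (B ⧸ (maximalIdeal A).map (algebraMap A B)) :=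
      Ideal.Quotient.nontrivial_iff.mpr hMmax.ne_top
    rw [h0, Ideal.height_bot, add_zero]
  refine ⟨hdim, ?_, ?_⟩
  · intro hreg
    apply IsRegularLocalRing.of_spanFinrank_maximalIdeal_le
    rw [hdim, ← hreg.spanFinrank_maximalIdeal]
    have hfg : (maximalIdeal A).FG := Ideal.fg_of_isNoetherianRing _
    have hgen : maximalIdeal B = Ideal.span (algebraMap A B '' (maximalIdeal A).generators) := by
      rw [hmB, ← Ideal.map_span]
      congr 1
      exact ((maximalIdeal A).span_generators).symm
    rw [hgen]
    have hfin : ((maximalIdeal A).generators).Finite := Submodule.FG.finite_generators hfg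
    have h1 := Submodule.spanFinrank_span_le_ncard_of_finite (R := B) (hfin.image (algebraMap A B))
    have h2 : (algebraMap A B '' (maximalIdeal A).generators).ncard ≤ (maximalIdeal A).generators.ncard :=
      Set.ncard_image_le hfin
    rw [Submodule.FG.generators_ncard hfg] at h2
    exact_mod_cast h1.trans h2
  · intro hreg
    apply IsRegularLocalRing.of_spanFinrank_maximalIdeal_le
    have hd : ((maximalIdeal B).spanFinrank : WithBot ℕ∞) = ringKrullDim A := by
      rw [← hdim]
      exact hreg.spanFinrank_maximalIdeal
    rw [← hd]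
    have hfgB : (maximalIdeal B).FG := Ideal.fg_of_isNoetherianRing _
    have hfin : ((maximalIdeal B).generators).Finite := Submodule.FG.finite_generators hfgB
    have hch : ∀ b : B, ∃ a : A, b - algebraMap A B a ∈ (I ^ 2).map (algebraMap A B) :=
      fun b => Groth.Agent.S9317.exists_sub_mem I hIfg 2 b
    choose ap hap using hch
    have hI2 : (I ^ 2).map (algebraMap A B) ≤ maximalIdeal B • maximalIdeal B := by
      rw [Ideal.map_pow, pow_two, smul_eq_mul, hmB]
      exact Ideal.mul_mono hIBle hIBle
    set 𝔞 : Ideal A := Ideal.span (ap '' (maximalIdeal B).generators) with h𝔞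
    have hNak : maximalIdeal B ≤ 𝔞.map (algebraMap A B) := by
      apply Submodule.le_of_le_smul_of_le_jacobson_bot hfgB (I := maximalIdeal B)
      · rw [IsLocalRing.jacobson_eq_maximalIdeal ⊥ bot_ne_top]
      · conv_lhs => rw [← (maximalIdeal B).span_generators]
        rw [Submodule.span_le]
        intro b hb
        have h1 : b = algebraMap A B (ap b) + (b - algebraMap A B (ap b)) := by ring
        rw [h1]
        apply Submodule.add_mem_sup
        · apply Ideal.mem_map_of_mem
          exact Ideal.subset_span ⟨b, hb, rfl⟩
        · exact hI2 (hap b)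
    have h𝔞le : 𝔞 ≤ maximalIdeal A := by
      rw [h𝔞, Ideal.span_le]
      rintro _ ⟨b, hb, rfl⟩
      have hbm : b ∈ maximalIdeal B := by
        have := (maximalIdeal B).span_generators
        rw [← this]
        exact Submodule.subset_span hb
      have h2 : algebraMap A B (ap b) ∈ maximalIdeal B := by
        have h3 : algebraMap A B (ap b) = b - (b - algebraMap A B (ap b)) := by ring
        rw [h3]
        exact (maximalIdeal B).sub_mem hbm (Ideal.mul_le_left (hI2 (hap b)))
      have h4 : ap b ∈ (maximalIdeal B).comap (algebraMap A B) := h2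
      rwa [IsLocalRing.maximalIdeal_comap] at h4
    have hmapeq : 𝔞.map (algebraMap A B) = (maximalIdeal A).map (algebraMap A B) :=
      le_antisymm (Ideal.map_mono h𝔞le) (hmB ▸ hNak)
    have h𝔞eq : 𝔞 = maximalIdeal A := by
      rw [← Ideal.comap_map_eq_self_of_faithfullyFlat (B := B) 𝔞, hmapeq,
        Ideal.comap_map_eq_self_of_faithfullyFlat]
    rw [← h𝔞eq, h𝔞]
    have h1 := Submodule.spanFinrank_span_le_ncard_of_finite (R := A) (hfin.image ap)
    have h2 : (ap '' (maximalIdeal B).generators).ncard ≤ (maximalIdeal B).generators.ncard :=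
      Set.ncard_image_le hfin
    rw [Submodule.FG.generators_ncard hfgB] at h2
    exact_mod_cast h1.trans h2

end Groth.Agent.S19474
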