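import Groth.Statements.S12289
import Groth.Agent.Lib27.CotTL
-- import your own Groth.Agent.* helpers here

set_option autoImplicit false
universe u w m
open scoped TensorProduct
open DefT

namespace Groth.Agent.S12289

/-- Let k be a commutative ring and B a k-algebra presented as R/I with R = k[x_i] a polynomial ring
(any set of variables) and chosen generators of I, and let M be a B-module; T^0(B/k, M) and T^1(B/k,
M) are computed from this presentation. Then the sequence 0 → T^0(B/k, M) → Hom_B(Ω_{R/k} ⊗_R B, M)
→ Hom_B(I/I², M) → T^1(B/k, M) → 0 is exact, where the middle map is composition with the conormal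
map d : I/I² → Ω_{R/k} ⊗_R B and the last map sends φ to the class of φ ∘ (F/IF → I/I²): the
submodule T^0(B/k, M) of Hom_B(Ω_{R/k} ⊗ B, M) is the kernel of composition with d, the kernel of
Hom_B(I/I², M) → T^1(B/k, M) is the image of composition with d, and Hom_B(I/I², M) → T^1(B/k, M) is
surjective. (The published statement takes finitely many variables over a field and adds that the
same holds over any base ring; this row allows any base ring and any set of variables.) -/
theorem result
    (k B : Type u) [CommRing k] [CommRing B] [Algebra k B] (ι σ : Type w) (P : Algebra.Presentation k B ι σ)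
    (M : Type m) [AddCommGroup M] [Module B M] :
    LinearMap.ker (CotT.d1Star P M) = LinearMap.ker (LinearMap.lcomp B M P.toExtension.cotangentComplex) ∧
    LinearMap.ker (CotT.homToT1 P M) = LinearMap.range (LinearMap.lcomp B M P.toExtension.cotangentComplex) ∧
    Function.Surjective (CotT.homToT1 P M) := by
  have hsurj := Groth.Agent.Lib27.CotTL.toCot_surjective P
  refine ⟨?_, ?_, ?_⟩
  · ext φ
    rw [LinearMap.mem_ker, LinearMap.mem_ker, CotT.d1Star_apply, LinearMap.lcomp_apply']
    constructor
    · intro h
      apply LinearMap.ext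
      intro x
      obtain ⟨y, rfl⟩ := hsurj x
      exact congrArg (fun g : CotT.L1 P →ₗ[B] M => g y) h
    · intro h
      rw [CotT.d1, ← LinearMap.comp_assoc, h, LinearMap.zero_comp]
  · ext φ
    rw [LinearMap.mem_ker, LinearMap.mem_range]
    change Submodule.Quotient.mk _ = 0 ↔ _
    rw [Submodule.Quotient.mk_eq_zero]
    change (φ ∘ₗ CotT.toCot P) ∈ LinearMap.range (CotT.d1Star P M) ↔ _
    rw [LinearMap.mem_range]
    constructor
    · rintro ⟨ψ, hψ⟩
      refine ⟨ψ, ?_⟩
      rw [LinearMap.lcomp_apply']
      rw [CotT.d1Star_apply, CotT.d1, ← LinearMap.comp_assoc] at hψ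
      apply LinearMap.ext
      intro x
      obtain ⟨y, rfl⟩ := hsurj x
      exact congrArg (fun g : CotT.L1 P →ₗ[B] M => g y) hψ
    · rintro ⟨ψ, hψ⟩
      refine ⟨ψ, ?_⟩
      rw [LinearMap.lcomp_apply'] at hψ
      rw [CotT.d1Star_apply, CotT.d1, ← LinearMap.comp_assoc, hψ]
  · intro z
    obtain ⟨⟨c, hc⟩, rfl⟩ := Submodule.Quotient.mk_surjective _ z
    rw [LinearMap.mem_ker, CotT.d2Star_apply] at hc
    have hker : LinearMap.ker (CotT.toCot P) ≤ LinearMap.ker c := by
      intro x hx
      obtain ⟨y, rfl⟩ := Groth.Agent.Lib27.CotTL.ker_toCot_le_range_d2 P hx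
      exact congrArg (fun g : CotT.L2 P →ₗ[B] M => g y) hc
    let e := (CotT.toCot P).quotKerEquivOfSurjective hsurj
    refine ⟨(Submodule.liftQ _ c hker) ∘ₗ e.symm.toLinearMap, ?_⟩
    change Submodule.Quotient.mk _ = Submodule.Quotient.mk _
    congr 1
    apply Subtype.ext
    change ((Submodule.liftQ _ c hker) ∘ₗ e.symm.toLinearMap) ∘ₗ CotT.toCot P = c
    apply LinearMap.ext
    intro x
    change Submodule.liftQ _ c hker (e.symm (CotT.toCot P x)) = c x
    have : e.symm (CotT.toCot P x) = Submodule.Quotient.mk x := by
      rw [LinearEquiv.symm_apply_eq]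
      rfl
    rw [this, Submodule.liftQ_apply]

end Groth.Agent.S12289
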