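import Groth.Statements.S5798
import Mathlib.Topology.KrullDimension

set_option autoImplicit false
universe u
open TopDim

namespace Groth.Agent.S5798

/-- If (U_i) is an open covering of a topological space X, then dim(X) = sup_i dim(U_i). -/
theorem result (X : Type u) [TopologicalSpace X] (ι : Type u)
    (U : ι → TopologicalSpace.Opens X) (hcov : ⨆ i, U i = ⊤) :
    topologicalKrullDim X = ⨆ i, topologicalKrullDim (U i) := by
  apply le_antisymm
  · unfold topologicalKrullDim Order.krullDim
    refine iSup_le fun p => ?_
    -- a point of the first member of the chain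
    obtain ⟨x, hx⟩ := (p 0).isIrreducible.nonempty
    have hxU : x ∈ ⨆ i, U i := by rw [hcov]; trivial
    obtain ⟨i, hi⟩ := TopologicalSpace.Opens.mem_iSup.mp hxU
    let e := TopologicalSpace.IrreducibleCloseds.orderIsoOfIsOpenEmbedding
      (Subtype.val : U i → X) (U i).isOpen.isOpenEmbedding_subtypeVal
    have hmem : ∀ j, p j ∈ {V : TopologicalSpace.IrreducibleCloseds X |
        ((Subtype.val : U i → X) ⁻¹' V).Nonempty} := by
      intro j
      refine ⟨⟨x, hi⟩, ?_⟩
      have h0 : p 0 ≤ p j := p.monotone (Fin.zero_le j)
      exact h0 hx
    let q : LTSeries {V : TopologicalSpace.IrreducibleCloseds X |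
        ((Subtype.val : U i → X) ⁻¹' V).Nonempty} :=
      { length := p.length
        toFun := fun j => ⟨p j, hmem j⟩
        step := fun j => p.step j }
    let q' : LTSeries (TopologicalSpace.IrreducibleCloseds (U i)) :=
      q.map e.symm e.symm.strictMono
    have hlen : (p.length : WithBot ℕ∞) = q'.length := rfl
    rw [hlen]
    exact (Order.LTSeries.length_le_krullDim q').trans
      (le_iSup (fun i => topologicalKrullDim (U i)) i)
  · exact iSup_le fun i => topologicalKrullDim_subspace_le X (U i)

end Groth.Agent.S5798
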