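import Groth.Statements.S0079
-- import your own Groth.Agent.* helpers here

set_option autoImplicit false
open CategoryTheory CategoryTheory.Limits AlgebraicGeometry Opposite
universe u
open EtBase

namespace Groth.Agent.S0079

/-- Quasi-compactness of a morphism descends along a quasi-compact flat surjective base change: if the
base change of a morphism g along a quasi-compact, flat, surjective morphism to its target is
quasi-compact, then g is quasi-compact. (Stated for a single quasi-compact faithfully flat cover;
combined with Zariski-locality on the target this gives the fpqc-local form.) -/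
theorem result :
    MorphismProperty.DescendsAlong @QuasiCompact (@Surjective ⊓ @Flat ⊓ @QuasiCompact : MorphismProperty Scheme.{u}) := by
  constructor
  intro A X Y Z fst snd f g h hf hfst
  obtain ⟨⟨hsurj, -⟩, hqc⟩ := hf
  refine ⟨fun U hU hUc ↦ ?_⟩
  have h1 : g ⁻¹' U = snd '' (fst ⁻¹' (f ⁻¹' U)) := by
    have := Scheme.image_preimage_eq_of_isPullback h (f ⁻¹' U)
    rw [Set.image_preimage_eq _ hsurj.surj] at this
    exact this.symm
  rw [h1]
  refine IsCompact.image ?_ snd.continuous
  exact hfst.isCompact_preimage _ (hU.preimage f.continuous) (hqc.isCompact_preimage _ hU hUc)

end Groth.Agent.S0079
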