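import Groth.Statements.S0082
import Groth.Agent.S0080

set_option autoImplicit false
open CategoryTheory CategoryTheory.Limits AlgebraicGeometry Opposite
universe u
open EtBase

namespace Groth.Agent.S0082

/-- If the base change of a morphism of schemes along a quasi-compact, flat, surjective morphism is
affine, then the morphism itself is affine. (Stated for a single quasi-compact flat surjective base
change; together with Zariski-locality on the target this is fpqc descent for affineness.) -/
theorem result :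
    MorphismProperty.DescendsAlong @IsAffineHom (@Surjective ⊓ @Flat ⊓ @QuasiCompact : MorphismProperty Scheme.{u}) := by
  have hqc := Groth.Agent.S0079.result.{u}
  have hqs := Groth.Agent.S0080.result.{u}
  refine IsZariskiLocalAtTarget.descendsAlong_inf_quasiCompact _ _ ?_ ?_
  · rw [inf_comm]
    exact inf_le_inf le_rfl (IsLocalIso.le_of_isZariskiLocalAtSource _)
  intro R S Y φ g hφ hfst
  obtain ⟨hsurj, hflat⟩ := hφ
  have hQ : (@Surjective ⊓ @Flat ⊓ @QuasiCompact : MorphismProperty Scheme.{u}) (Spec.map φ) :=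
    ⟨⟨hsurj, hflat⟩, inferInstance⟩
  have hY' : IsAffine (pullback (Spec.map φ) g) := isAffine_of_isAffineHom (pullback.fst _ _)
  have hg1 : QuasiCompact g :=
    MorphismProperty.of_pullback_fst_of_descendsAlong (P := @QuasiCompact) hQ inferInstance
  have hg2 : QuasiSeparated g :=
    MorphismProperty.of_pullback_fst_of_descendsAlong (P := @QuasiSeparated) hQ inferInstance
  have : CompactSpace Y := QuasiCompact.compactSpace_of_compactSpace g
  have : QuasiSeparatedSpace Y := quasiSeparatedSpace_of_quasiSeparated g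
  rw [HasAffineProperty.iff_of_isAffine (P := @IsAffineHom)]
  let Y' := pullback (Spec.map φ) g
  have H : IsPullback (pullback.snd (Spec.map φ) g) (pullback.fst (Spec.map φ) g) g (Spec.map φ) :=
    (IsPullback.of_hasPullback (Spec.map φ) g).flip
  have hUST : (⊤ : (Spec S).Opens) ≤ (Spec.map φ) ⁻¹ᵁ (⊤ : (Spec R).Opens) := le_top
  have hUSX : (⊤ : Y.Opens) ≤ g ⁻¹ᵁ (⊤ : (Spec R).Opens) := le_top
  have hUY : (⊤ : Y'.Opens) = (pullback.snd (Spec.map φ) g) ⁻¹ᵁ (⊤ : Y.Opens) ⊓
      (pullback.fst (Spec.map φ) g) ⁻¹ᵁ (⊤ : (Spec S).Opens) := by simp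
  have hiso := isIso_pushoutSection_of_isQuasiSeparated_of_flat_right H hUST hUSX hUY
    (isAffineOpen_top _) (isAffineOpen_top _) isCompact_univ isQuasiSeparated_univ
  have hpo := (isIso_pushoutSection_iff H hUST hUSX hUY).mp hiso
  have e1 : ∀ {A B : Scheme.{u}} (f : A ⟶ B) (h : (⊤ : A.Opens) ≤ f ⁻¹ᵁ (⊤ : B.Opens)),
      Scheme.Hom.appLE f ⊤ ⊤ h = f.appTop := by
    intro A B f h
    simp [Scheme.Hom.appLE, Scheme.Hom.appTop]
  rw [e1, e1, e1, e1] at hpo
  have hpb : IsPullback (Spec.map (pullback.fst (Spec.map φ) g).appTop)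
      (Spec.map (pullback.snd (Spec.map φ) g).appTop)
      (Spec.map (Spec.map φ).appTop) (Spec.map g.appTop) := hpo.op.map Scheme.Spec
  have t := hpb.flip
  have s : IsPullback (pullback.snd (Spec.map φ) g)
      (Y'.toSpecΓ ≫ Spec.map (pullback.fst (Spec.map φ) g).appTop)
      (Y.toSpecΓ ≫ Spec.map g.appTop) (Spec.map (Spec.map φ).appTop) := by
    rw [← Scheme.toSpecΓ_naturality, ← Scheme.toSpecΓ_naturality]
    exact H.of_iso (Iso.refl _) (Iso.refl _) (asIso (Spec S).toSpecΓ) (asIso (Spec R).toSpecΓ)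
      (by simp) (by simp) (by simp) (by simp [Scheme.toSpecΓ_naturality])
  have top := IsPullback.of_bot s (Scheme.toSpecΓ_naturality _) t
  have hQ0 : (@Surjective ⊓ @Flat ⊓ @QuasiCompact : MorphismProperty Scheme.{u})
      (Spec.map (Spec.map φ).appTop) := by
    rw [← MorphismProperty.cancel_left_of_respectsIso
      (@Surjective ⊓ @Flat ⊓ @QuasiCompact : MorphismProperty Scheme.{u}) (Spec S).toSpecΓ,
      ← Scheme.toSpecΓ_naturality,
      MorphismProperty.cancel_right_of_respectsIso
      (@Surjective ⊓ @Flat ⊓ @QuasiCompact : MorphismProperty Scheme.{u})]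
    exact hQ
  have hQ' : (@Surjective ⊓ @Flat ⊓ @QuasiCompact : MorphismProperty Scheme.{u})
      (Spec.map (pullback.snd (Spec.map φ) g).appTop) :=
    MorphismProperty.of_isPullback hpb hQ0
  have hiso' : IsIso Y'.toSpecΓ := inferInstance
  have : IsIso Y.toSpecΓ :=
    MorphismProperty.of_isPullback_of_descendsAlong (P := MorphismProperty.isomorphisms Scheme.{u})
      (Q := (@Surjective ⊓ @Flat ⊓ @QuasiCompact : MorphismProperty Scheme.{u})) top.flip hQ' hiso'
  exact ⟨this⟩

end Groth.Agent.S0082
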