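import Groth.Statements.S7433
import Groth.Agent.Lib.Helper6.BddFibBasic
-- import your own Groth.Agent.* helpers here

set_option autoImplicit false
universe u
open CategoryTheory AlgebraicGeometry
open BddFib

namespace Groth.Agent.S7433

/-- Let `f : X → Y` be a morphism of schemes and `n ≥ 0`. Then `n` bounds the degrees of the fibres of
`f` if and only if for every field `k` and every morphism `Spec k → Y` the base change `X_k = Spec k
×_Y X` is finite over `k` of degree at most `n`. -/
theorem result {X Y : Scheme.{u}} (f : X ⟶ Y) (n : ℕ) :
    BddFib.FibreDegLE f n ↔ ∀ (k : Type u) [Field k] (g : Spec (CommRingCat.of k) ⟶ Y),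
      BddFib.FiniteOfDegLE (CommRingCat.of k) (Limits.pullback.snd f g) n := by
  open Groth.Agent.Lib.Helper6.BddFibLib in
  constructor
  · intro hf k _ g
    let pt : Spec (CommRingCat.of k) := IsLocalRing.closedPoint k
    have hpb := (isPullback_fiberToSpecResidueField_of_isPullback
      (IsPullback.of_hasPullback f g) pt).flip
    have h1 := (finiteOfDegLE_baseChange_iff
      (Field.toIsField _) (Field.toIsField _) _ _ _ _ hpb n).mp (hf (g pt))
    have hpb2 := (IsPullback.of_hasPullback (Limits.pullback.snd f g)
      ((Spec (CommRingCat.of k)).fromSpecResidueField pt)).flip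
    exact (finiteOfDegLE_baseChange_iff (K := CommRingCat.of k)
      (Field.toIsField k) (Field.toIsField _) _ _ _ _ hpb2 n).mpr h1
  · intro h y
    exact h (Y.residueField y) (Y.fromSpecResidueField y)

end Groth.Agent.S7433
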