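import Groth.Statements.S7436
import Groth.Agent.Lib.Helper6.BddFibComp
-- import your own Groth.Agent.* helpers here

set_option autoImplicit false
universe u
open CategoryTheory AlgebraicGeometry
open BddFib

namespace Groth.Agent.S7436

/-- When every fibre of `f : X → Y` has degree at most `n` and every fibre of `g : Y → Z` has degree at
most `m`, every fibre of `g ∘ f` has degree at most `n m`. -/
theorem result {X Y Z : Scheme.{u}} (f : X ⟶ Y) (g : Y ⟶ Z) (n m : ℕ) (hf : BddFib.FibreDegLE f n)
    (hg : BddFib.FibreDegLE g m) : BddFib.FibreDegLE (f ≫ g) (n * m) := by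
  intro z
  let r : (f ≫ g).fiber z ⟶ g.fiber z :=
    Limits.pullback.lift ((f ≫ g).fiberι z ≫ f) ((f ≫ g).fiberToSpecResidueField z)
      (by rw [Category.assoc]; exact (f ≫ g).fiber_fac z)
  have hr1 : r ≫ g.fiberToSpecResidueField z = (f ≫ g).fiberToSpecResidueField z :=
    Limits.pullback.lift_snd _ _ _
  have hr2 : (f ≫ g).fiberι z ≫ f = r ≫ g.fiberι z :=
    (Limits.pullback.lift_fst _ _ _).symm
  have hpb : IsPullback ((f ≫ g).fiberι z) r f (g.fiberι z) := by
    refine IsPullback.of_bot (v₂₁ := g.fiberToSpecResidueField z) (v₂₂ := g)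
      (h₃₁ := Z.fromSpecResidueField z) ?_ hr2 (IsPullback.of_hasPullback g _)
    rw [hr1]
    exact IsPullback.of_hasPullback (f ≫ g) _
  have hr : BddFib.FibreDegLE r n :=
    Groth.Agent.S7437.result f (g.fiberι z) r ((f ≫ g).fiberι z) hpb n hf
  have := Groth.Agent.Lib.Helper6.BddFibLib.finiteOfDegLE_comp
    (Field.toIsField _) r (g.fiberToSpecResidueField z) n m (hg z) hr
  rw [hr1] at this
  exact this

end Groth.Agent.S7436
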