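import Groth.Statements.S4418
import Groth.Agent.Lib.Helper3.RelProjProper

set_option autoImplicit false
universe u
open CategoryTheory CategoryTheory.Limits AlgebraicGeometry
open EGA2

namespace Groth.Agent.S4418
open Groth.Agent.Lib.Helper3

/-- Every projective morphism f : X → Y is quasi-projective (of finite type with an f-ample module) and
proper. -/
theorem result {X Y : Scheme.{u}} (f : X ⟶ Y) (hf : RelProj.IsProjective f) :
    RelProj.IsQuasiProjective f ∧ IsProper f := by
  obtain ⟨𝒮, P, p, chart, e, hgen, hft, hP, rfl⟩ := hf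
  have hp : IsProper p := RelGlued.isProper_of_genDegOne p chart hP hgen hft
  have hfp : IsProper (e.hom ≫ p) := inferInstance
  refine ⟨⟨inferInstance, inferInstance, ?_⟩, hfp⟩
  have hL₁ := RelTwist.isRelTwist p chart hP 1
  have hamp := RelGlued.isRelAmple_relTwist_one p chart hgen hft hL₁
  exact ⟨_, Groth.Agent.Lib.Helper29.QCoh.isRelAmple_pullback_of_isEmbedding p e.hom
    e.hom.isOpenEmbedding.isEmbedding hamp⟩

end Groth.Agent.S4418
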