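import Groth.Statements.S9693
import Mathlib

set_option autoImplicit false
universe u
open CategoryTheory CategoryTheory.Limits AlgebraicGeometry
open Mor

namespace Groth.Agent.S9693

/-- The projection `P^n_S ⟶ P^n_ℤ`. -/
noncomputable def pfst (n : ℕ) (S : Scheme.{u}) :
    CohB1.ProjSpaceOver n S ⟶ CohB1.ProjSpace n (ULift.{u} ℤ) :=
  pullback.fst _ _

theorem isPullback_projSpaceOver (n : ℕ) (S : Scheme.{u}) :
    IsPullback (pfst n S) (CohB1.ProjSpaceOver.toBase n S)
      (CohB1.ProjSpace.toSpec n (ULift.{u} ℤ)) (specULiftZIsTerminal.from S) :=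
  IsPullback.of_hasPullback _ _

/-- The base change map `P^n_{S'} ⟶ P^n_S`. -/
noncomputable def pmap (n : ℕ) {S S' : Scheme.{u}} (g : S' ⟶ S) :
    CohB1.ProjSpaceOver n S' ⟶ CohB1.ProjSpaceOver n S :=
  (isPullback_projSpaceOver n S).lift (pfst n S') (CohB1.ProjSpaceOver.toBase n S' ≫ g)
    (by rw [(isPullback_projSpaceOver n S').w, Category.assoc]
        congr 1
        exact specULiftZIsTerminal.hom_ext _ _)

theorem pmap_fst (n : ℕ) {S S' : Scheme.{u}} (g : S' ⟶ S) : pmap n g ≫ pfst n S = pfst n S' :=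
  (isPullback_projSpaceOver n S).lift_fst _ _ _

theorem pmap_toBase (n : ℕ) {S S' : Scheme.{u}} (g : S' ⟶ S) :
    pmap n g ≫ CohB1.ProjSpaceOver.toBase n S = CohB1.ProjSpaceOver.toBase n S' ≫ g :=
  (isPullback_projSpaceOver n S).lift_snd _ _ _

theorem isPullback_pmap (n : ℕ) {S S' : Scheme.{u}} (g : S' ⟶ S) :
    IsPullback (pmap n g) (CohB1.ProjSpaceOver.toBase n S') (CohB1.ProjSpaceOver.toBase n S) g := by
  refine IsPullback.of_right ?_ (pmap_toBase n g) (isPullback_projSpaceOver n S)
  rw [pmap_fst]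
  have : g ≫ specULiftZIsTerminal.from S = specULiftZIsTerminal.from S' :=
    specULiftZIsTerminal.hom_ext _ _
  rw [this]
  exact isPullback_projSpaceOver n S'

/-- A base change of an H-projective morphism (a closed immersion into some P^n over the base followed
by the projection) is H-projective. -/
theorem result {X S S' : Scheme.{u}} (f : X ⟶ S) (hf : RelProj.IsHProjective f)
    (g : S' ⟶ S) : RelProj.IsHProjective (pullback.snd f g) := by
  obtain ⟨n, i, hi, rfl⟩ := hf
  have hleft := isPullback_pmap n g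
  let i' : pullback (i ≫ CohB1.ProjSpaceOver.toBase n S) g ⟶ CohB1.ProjSpaceOver n S' :=
    hleft.lift (pullback.fst _ _ ≫ i) (pullback.snd _ _)
      (by rw [Category.assoc, pullback.condition])
  have hsq : IsPullback i' (pullback.fst (i ≫ CohB1.ProjSpaceOver.toBase n S) g) (pmap n g) i := by
    refine IsPullback.of_right ?_ (hleft.lift_fst _ _ _) hleft.flip
    rw [hleft.lift_snd]
    exact (IsPullback.of_hasPullback _ _).flip
  refine ⟨n, i', ?_, hleft.lift_snd _ _ _⟩
  exact MorphismProperty.of_isPullback (P := @IsClosedImmersion) hsq.flip hi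

end Groth.Agent.S9693
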