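import Groth.Statements.S1377
import Mathlib.AlgebraicGeometry.Normalization
import Mathlib.AlgebraicGeometry.IdealSheaf.Subscheme

set_option autoImplicit false
universe u
open FlatMor

namespace Groth.Agent.S1377

open AlgebraicGeometry CategoryTheory Limits

lemma isPullback_of_comp_mono {C : Type*} [Category C] {P N N' U S : C} {e : P ⟶ N} {m : N ⟶ N'}
    [Mono m] {s : P ⟶ U} {π : N' ⟶ S} {g : U ⟶ S}
    (h : IsPullback (e ≫ m) s π g) : IsPullback e s (m ≫ π) g := by
  refine ⟨⟨by simpa using h.w⟩, ⟨PullbackCone.IsLimit.mk _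
    (fun c => h.lift (c.fst ≫ m) c.snd (by simpa using c.condition)) ?_ ?_ ?_⟩⟩
  · intro c
    rw [← cancel_mono m]
    simp
  · intro c
    simp
  · intro c l h1 h2
    apply h.hom_ext
    · simp [← h1]
    · simp [← h2]

section
variable {S V : Scheme.{u}} (U : S.Opens) [QuasiCompact U.ι]
    (v : V ⟶ (U : Scheme.{u})) [IsIntegralHom v]

omit [QuasiCompact U.ι] [IsIntegralHom v] in
/-- the trivial pullback square -/
lemma isPullback_id_v : IsPullback (𝟙 V) v (v ≫ U.ι) U.ι := by
  have h1 : IsPullback v (𝟙 V) (𝟙 _) v := IsPullback.of_vert_isIso ⟨by simp⟩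
  have h2 : IsPullback (𝟙 _) (𝟙 _) U.ι U.ι := IsKernelPair.id_of_mono U.ι
  simpa using (h1.paste_horiz h2).flip

lemma isIntegralHom_snd : IsIntegralHom (pullback.snd (v ≫ U.ι) U.ι) := by
  have e : pullback.snd (v ≫ U.ι) U.ι = (isPullback_id_v (U := U) (v := v)).isoPullback.inv ≫ v := by
    rw [Iso.eq_inv_comp]
    simp
  rw [e]
  infer_instance

lemma isPullback_normalization :
    IsPullback (v ≫ U.ι).toNormalization v (v ≫ U.ι).fromNormalization U.ι := by
  have hsnd := isIntegralHom_snd U v
  let iso₀ := (isPullback_id_v (U := U) (v := v)).isoPullback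
  let θ : V ⟶ pullback (v ≫ U.ι).fromNormalization U.ι :=
    iso₀.hom ≫ (pullback.snd (v ≫ U.ι) U.ι).toNormalization ≫
      (v ≫ U.ι).normalizationPullback U.ι
  have hθ : IsIso θ := by
    dsimp only [θ]
    infer_instance
  refine IsPullback.of_iso_pullback ⟨?_⟩ (asIso θ) ?_ ?_
  · simp
  · simp [θ, iso₀]
  · simp [θ, iso₀]

end


open AlgebraicGeometry CategoryTheory Limits in
/-- Let S be a scheme, U ⊆ S an open subscheme whose inclusion U → S is quasi-compact (U retrocompact in
S), and V → U a surjective integral morphism. Then there are a scheme V' and a surjective integral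
morphism V' → S whose base change to U is V → U. (The published statement puts no condition on U,
and in that generality it is false: e.g. S = Spec ∏_i ℤ/4^i with U = D(2) ∪ ⋃_i D(e_i), e_i the
idempotents, and V equal to U except that over D(2) it is cut out by x = (2^i)_i. Stated here with U
→ S quasi-compact, under which hypothesis the published argument applies.) -/
theorem result {S V : Scheme.{u}} (U : S.Opens) [QuasiCompact U.ι]
    (v : V ⟶ (U : Scheme.{u})) [IsIntegralHom v] [Surjective v] :
    ∃ (V' : Scheme.{u}) (π : V' ⟶ S) (i : V ⟶ V'), Surjective π ∧ IsIntegralHom π ∧ IsPullback i v π U.ι := by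
  let f := v ≫ U.ι
  let N := f.normalization
  let Zc : TopologicalSpace.Closeds S := ⟨(U : Set S)ᶜ, U.isOpen.isClosed_compl⟩
  let I := Scheme.IdealSheafData.vanishingIdeal Zc
  let π : N ⨿ I.subscheme ⟶ S := coprod.desc f.fromNormalization I.subschemeι
  have hπl : coprod.inl ≫ π = f.fromNormalization := coprod.inl_desc _ _
  have hπr : coprod.inr ≫ π = I.subschemeι := coprod.inr_desc _ _
  refine ⟨N ⨿ I.subscheme, π, f.toNormalization ≫ coprod.inl, ?_, inferInstance, ?_⟩
  · constructor
    intro s
    by_cases hs : s ∈ U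
    · obtain ⟨y, hy⟩ := v.surjective ⟨s, hs⟩
      refine ⟨(f.toNormalization ≫ coprod.inl) y, ?_⟩
      rw [← Scheme.Hom.comp_apply, Category.assoc, hπl, Scheme.Hom.toNormalization_fromNormalization]
      simp [f, hy]
    · have : s ∈ Set.range I.subschemeι := by
        rw [Scheme.IdealSheafData.range_subschemeι, Scheme.IdealSheafData.coe_support_vanishingIdeal]
        exact hs
      obtain ⟨z, rfl⟩ := this
      refine ⟨(coprod.inr : I.subscheme ⟶ N ⨿ I.subscheme) z, ?_⟩
      rw [← Scheme.Hom.comp_apply, hπr]
  · have hP := IsPullback.of_hasPullback π U.ι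
    have hrange : Set.range (pullback.fst π U.ι) ⊆
        Set.range (coprod.inl : N ⟶ N ⨿ I.subscheme) := by
      rw [Scheme.Pullback.range_fst]
      intro x hx
      obtain ⟨(n | z), rfl⟩ := (coprodMk N I.subscheme).surjective x
      · exact ⟨n, (coprodMk_inl _ _ n).symm⟩
      · exfalso
        rw [coprodMk_inr, Set.mem_preimage, ← Scheme.Hom.comp_apply, hπr] at hx
        have h1 : I.subschemeι z ∈ (I.support : Set S) := by
          rw [← Scheme.IdealSheafData.range_subschemeι]
          exact ⟨z, rfl⟩
        rw [Scheme.IdealSheafData.coe_support_vanishingIdeal] at h1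
        apply h1
        simpa using hx
    let e := IsOpenImmersion.lift coprod.inl (pullback.fst π U.ι) hrange
    have he : e ≫ coprod.inl = pullback.fst π U.ι := IsOpenImmersion.lift_fac _ _ _
    have h3 : IsPullback e (pullback.snd π U.ι) (coprod.inl ≫ π) U.ι :=
      isPullback_of_comp_mono (he ▸ hP)
    have h4 : IsPullback f.toNormalization v (coprod.inl ≫ π) U.ι := by
      rw [hπl]
      exact isPullback_normalization U v
    let θ := h4.isoIsPullback _ _ h3
    refine IsPullback.of_iso_pullback ⟨?_⟩ θ ?_ ?_
    · rw [Category.assoc, hπl, Scheme.Hom.toNormalization_fromNormalization]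
    · rw [← he, ← Category.assoc]
      congr 1
      exact h4.isoIsPullback_hom_fst _ _ h3
    · exact h4.isoIsPullback_hom_snd _ _ h3

end Groth.Agent.S1377
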