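import Groth.Statements.S3436
import Mathlib
import Groth.Agent.S12136
-- import your own Groth.Agent.* helpers here

set_option autoImplicit false
open CategoryTheory AlgebraicGeometry
universe u
open EGA42

namespace Groth.Agent.S3436


open TensorProduct IsLocalRing

/-- An essentially finite type algebra over a Noetherian ring is a quotient of a Noetherian formally smooth
algebra with finite free differentials (a localization of a polynomial ring). -/
theorem exists_presentation (A S : Type u) [CommRing A] [CommRing S] [Algebra A S] [IsNoetherianRing A]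
    [Algebra.EssFiniteType A S] :
    ∃ (P : Type u) (_ : CommRing P) (_ : Algebra A P) (_ : Algebra P S) (_ : IsScalarTower A P S),
      IsNoetherianRing P ∧ Algebra.FormallySmooth A P ∧ Module.Free P Ω[P⁄A] ∧ Module.Finite P Ω[P⁄A] ∧
      Function.Surjective (algebraMap P S) := by
  let P₁ := Algebra.EssFiniteType.subalgebra A S
  let M := Algebra.EssFiniteType.submonoid A S
  obtain ⟨n, f₀, hf₀⟩ := Algebra.FiniteType.iff_quotient_mvPolynomial''.mp
    (inferInstance : Algebra.FiniteType A P₁)
  let M' := M.comap f₀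
  let P' := Localization M'
  let fP : P' →ₐ[A] S := IsLocalization.liftAlgHom (M := M')
      (f := (IsScalarTower.toAlgHom A P₁ S).comp f₀) fun x ↦ by
    exact IsLocalization.map_units (M := M) S ⟨f₀ x.1, x.2⟩
  have hf₁ : Function.Surjective fP := by
    intro x
    obtain ⟨x, ⟨s, hs⟩, rfl⟩ := IsLocalization.exists_mk'_eq M x
    obtain ⟨x, rfl⟩ := hf₀ x
    obtain ⟨s, rfl⟩ := hf₀ s
    refine ⟨IsLocalization.mk' (M := M') _ x ⟨s, hs⟩, ?_⟩
    simp only [fP, IsLocalization.liftAlgHom_apply, IsLocalization.lift_mk', Units.mul_inv_eq_iff_eq_mul,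
      IsUnit.liftRight, IsUnit.coe_liftRight]
    exact (IsLocalization.mk'_spec S (f₀ x) ⟨f₀ s, hs⟩).symm
  letI : Algebra P' S := fP.toRingHom.toAlgebra
  have hT : IsScalarTower A P' S := IsScalarTower.of_algebraMap_eq' fP.comp_algebraMap.symm
  have : Algebra.FormallyEtale (MvPolynomial (Fin n) A) P' := .of_isLocalization M'
  have h1 : Algebra.FormallySmooth A P' := .comp _ (MvPolynomial (Fin n) A) _
  have h2 : Module.Free P' Ω[P'⁄A] :=
    .of_equiv (KaehlerDifferential.tensorKaehlerEquivOfFormallyEtale A (MvPolynomial (Fin n) A) P')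
  have h3 : Module.Finite P' Ω[P'⁄A] :=
    Module.Finite.equiv (KaehlerDifferential.tensorKaehlerEquivOfFormallyEtale A (MvPolynomial (Fin n) A) P')
  have h4 : IsNoetherianRing P' := IsLocalization.isNoetherianRing M' P' inferInstance
  exact ⟨P', inferInstance, inferInstance, inferInstance, hT, h4, h1, h2, h3, hf₁⟩



open TensorProduct IsLocalRing

lemma lTensor_toCotangent_injective {P : Type*} [CommRing P] (N : Ideal P) (K : Type*) [AddCommGroup K]
    [Module P K] (hK : ∀ x ∈ N, ∀ k : K, x • k = 0) :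
    Function.Injective ((N.toCotangent).lTensor K) := by
  have hex : Function.Exact (N • ⊤ : Submodule P N).subtype N.toCotangent :=
    LinearMap.exact_subtype_mkQ _
  have hex' := lTensor_exact K hex N.toCotangent_surjective
  have hzero : ∀ n' ∈ (N • ⊤ : Submodule P N), ∀ k : K, k ⊗ₜ[P] (n' : N) = 0 := by
    intro n' hn'
    refine Submodule.smul_induction_on hn' ?_ ?_
    · intro r hr n _ k
      rw [← TensorProduct.smul_tmul, hK r hr, TensorProduct.zero_tmul]
    · intro x y hx hy k
      rw [TensorProduct.tmul_add, hx, hy, add_zero]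
  rw [injective_iff_map_eq_zero]
  intro z hz
  obtain ⟨w, rfl⟩ := (hex' z).mp hz
  induction w with
  | zero => simp
  | add a b ha hb =>
    rw [map_add] at hz ⊢
    -- can't split hz; prove directly that each is zero
    have h0 : ∀ w : K ⊗[P] (N • ⊤ : Submodule P N),
        (LinearMap.lTensor K (N • ⊤ : Submodule P N).subtype) w = 0 := by
      intro w
      induction w with
      | zero => simp
      | add a b ha hb => rw [map_add, ha, hb, add_zero]
      | tmul k n' =>
        rw [LinearMap.lTensor_tmul]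
        exact hzero n'.1 n'.2 k
    rw [h0, h0, add_zero]
  | tmul k n' =>
    rw [LinearMap.lTensor_tmul]
    exact hzero n'.1 n'.2 k



open TensorProduct IsLocalRing

theorem core2 (A P : Type u) [CommRing A] [CommRing P] [Algebra A P] [IsNoetherianRing P]
    [Algebra.FormallySmooth A P] [Module.Free P Ω[P⁄A]] [Module.Finite P Ω[P⁄A]] (J : Ideal P)
    [IsLocalRing (P ⧸ J)] (I : Ideal P) (hI : I.map (Ideal.Quotient.mk J) ≤ maximalIdeal (P ⧸ J))
    (hC : CAlgX.IsAdicFormallySmooth A (P ⧸ J) (I.map (Ideal.Quotient.mk J))) :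
    Algebra.FormallySmooth A (P ⧸ J) := by
  set Q : Ideal (P ⧸ J) := maximalIdeal (P ⧸ J) with hQdef
  have hQ : ∃ n : ℕ, (I.map (Ideal.Quotient.mk J)) ^ n ≤ Q := ⟨1, by simpa using hI⟩
  obtain ⟨D', hD'⟩ := Groth.Agent.S12136.exists_derivation_of_adic I J Q hC hQ
  letI : Field ((P ⧸ J) ⧸ Q) := Ideal.Quotient.field Q
  have h₁ : Function.Surjective (algebraMap P (P ⧸ J)) := Ideal.Quotient.mk_surjective
  have h₂ : (RingHom.ker (algebraMap P (P ⧸ J))).FG := IsNoetherian.noetherian _
  have h₃ : maximalIdeal (P ⧸ J) ≤ RingHom.ker (algebraMap (P ⧸ J) ((P ⧸ J) ⧸ Q)) := by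
    rw [Ideal.Quotient.algebraMap_eq, Ideal.mk_ker]
  rw [Algebra.FormallySmooth.iff_injective_cotangentComplexBaseChange (R := A) (S := P ⧸ J) P
    ((P ⧸ J) ⧸ Q) h₁ h₂ h₃]
  let ℓ : Ω[P⁄A] →ₗ[P] ((P ⧸ J) ⧸ Q) ⊗[P] (RingHom.ker (algebraMap P (P ⧸ J))).Cotangent :=
    D'.liftKaehlerDifferential
  let L : ((P ⧸ J) ⧸ Q) ⊗[P] Ω[P⁄A] →ₗ[(P ⧸ J) ⧸ Q]
      ((P ⧸ J) ⧸ Q) ⊗[P] (RingHom.ker (algebraMap P (P ⧸ J))).Cotangent :=
    LinearMap.liftBaseChange ((P ⧸ J) ⧸ Q) ℓ
  have hcomp : ∀ z, L (KaehlerDifferential.cotangentComplexBaseChange A (P ⧸ J) P ((P ⧸ J) ⧸ Q) z) =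
      ((RingHom.ker (algebraMap P (P ⧸ J))).toCotangent).lTensor ((P ⧸ J) ⧸ Q) z := by
    intro z
    induction z with
    | zero => simp
    | add a b ha hb => rw [map_add, map_add, map_add, ha, hb]
    | tmul k x =>
      rw [KaehlerDifferential.cotangentComplexBaseChange_tmul, map_smul, LinearMap.lTensor_tmul,
        KaehlerDifferential.kerToTensor_apply, LinearMap.liftBaseChange_tmul, one_smul]
      simp only [ℓ, Derivation.liftKaehlerDifferential_comp_D]
      rw [hD' x, TensorProduct.smul_tmul', smul_eq_mul, mul_one]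
  have hinj : Function.Injective
      (((RingHom.ker (algebraMap P (P ⧸ J))).toCotangent).lTensor ((P ⧸ J) ⧸ Q)) := by
    apply lTensor_toCotangent_injective
    intro x hx k
    rw [← algebraMap_smul (P ⧸ J) x k, RingHom.mem_ker.mp hx, zero_smul]
  intro a b hab
  apply hinj
  rw [← hcomp, ← hcomp, hab]



open TensorProduct IsLocalRing

theorem formallySmooth_of_adic (A S : Type u) [CommRing A] [CommRing S] [Algebra A S] [IsNoetherianRing A]
    [IsLocalRing S] [Algebra.EssFiniteType A S]
    (h : CAlgX.IsAdicFormallySmooth A S (maximalIdeal S)) : Algebra.FormallySmooth A S := by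
  obtain ⟨P, _, _, _, _, hN, hfs, hfree, hfin, hsurj⟩ := exists_presentation A S
  let φ : P →ₐ[A] S := IsScalarTower.toAlgHom A P S
  have hφ : Function.Surjective φ := hsurj
  let J : Ideal P := RingHom.ker φ
  let e : (P ⧸ J) ≃ₐ[A] S := Ideal.quotientKerAlgEquivOfSurjective hφ
  haveI : IsLocalRing (P ⧸ J) := e.toRingEquiv.symm.isLocalRing
  let I : Ideal P := (maximalIdeal S).comap φ
  have he : ∀ p : P, e (Ideal.Quotient.mk J p) = φ p := fun p => rfl
  have hI : I.map (Ideal.Quotient.mk J) ≤ maximalIdeal (P ⧸ J) := by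
    rw [Ideal.map_le_iff_le_comap]
    intro p hp
    rw [Ideal.mem_comap, mem_maximalIdeal, mem_nonunits_iff]
    intro hu
    have : IsUnit (φ p) := by rw [← he]; exact hu.map e
    exact hp this
  have hC : CAlgX.IsAdicFormallySmooth A (P ⧸ J) (I.map (Ideal.Quotient.mk J)) := by
    intro T _ _ J' hJ' ψ hk
    obtain ⟨k, hk⟩ := hk
    have hkill : ∀ x ∈ maximalIdeal S ^ k, (ψ.comp e.symm.toAlgHom) x = 0 := by
      intro x hx
      apply hk
      have hle : (maximalIdeal S ^ k).map (e.symm : S →+* P ⧸ J) ≤ (I.map (Ideal.Quotient.mk J)) ^ k := by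
        rw [Ideal.map_pow]
        apply Ideal.pow_right_mono
        rw [Ideal.map_le_iff_le_comap]
        intro s hs
        obtain ⟨p, rfl⟩ := hφ s
        rw [Ideal.mem_comap]
        have h2 : e.symm (φ p) = Ideal.Quotient.mk J p := by rw [← he, e.symm_apply_apply]
        change e.symm (φ p) ∈ _
        rw [h2]
        exact Ideal.mem_map_of_mem _ hs
      exact hle (Ideal.mem_map_of_mem _ hx)
    obtain ⟨χ, hχ⟩ := h T J' hJ' (ψ.comp e.symm.toAlgHom) ⟨k, hkill⟩
    refine ⟨χ.comp e.toAlgHom, ?_⟩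
    rw [← AlgHom.comp_assoc, hχ]
    ext x
    simp
  have := core2 A P J I hI hC
  exact Algebra.FormallySmooth.of_equiv e



open TensorProduct IsLocalRing

theorem adicX_of_adic (A S : Type u) [CommRing A] [CommRing S] [Algebra A S] [IsLocalRing A] [IsLocalRing S]
    [IsLocalHom (algebraMap A S)]
    (h : EGA41.IsFormallySmoothAdic A (maximalIdeal A) S (maximalIdeal S)) :
    CAlgX.IsAdicFormallySmooth A S (maximalIdeal S) := by
  intro T _ _ J hJ ψ hk
  obtain ⟨k, hk⟩ := hk
  refine h T J ⟨2, hJ⟩ ⟨2 * k, ?_⟩ ψ ⟨k, hk⟩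
  have h1 : ((maximalIdeal A) ^ k).map (algebraMap A T) ≤ J := by
    rw [Ideal.map_le_iff_le_comap]
    intro a ha
    rw [Ideal.mem_comap, ← Ideal.Quotient.eq_zero_iff_mem]
    have h2 : algebraMap A S a ∈ maximalIdeal S ^ k := by
      have h3 : ((maximalIdeal A) ^ k).map (algebraMap A S) ≤ maximalIdeal S ^ k := by
        rw [Ideal.map_pow]
        apply Ideal.pow_right_mono
        rw [Ideal.map_le_iff_le_comap]
        intro b hb
        exact map_nonunit (algebraMap A S) b hb
      exact h3 (Ideal.mem_map_of_mem _ ha)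
    have h4 := hk _ h2
    rw [AlgHom.commutes] at h4
    rw [← h4]
    rfl
  rw [mul_comm, pow_mul, Ideal.map_pow, eq_bot_iff, ← hJ]
  exact Ideal.pow_right_mono h1 2

theorem general (A S : Type u) [CommRing A] [CommRing S] [Algebra A S] [IsLocalRing A] [IsLocalRing S]
    [IsNoetherianRing A] [IsLocalHom (algebraMap A S)] [Algebra.EssFiniteType A S] :
    EGA41.IsFormallySmoothAdic A (maximalIdeal A) S (maximalIdeal S) ↔ Algebra.FormallySmooth A S := by
  constructor
  · intro h
    exact formallySmooth_of_adic A S (adicX_of_adic A S h)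
  · intro h C _ _ J hJ _ w _
    exact Algebra.FormallySmooth.exists_lift J hJ w


/-- Let X and Y be locally Noetherian schemes, f : X ⟶ Y locally of finite type, x a point of X and y =
f x; give O_{X,x} the O_{Y,y}-algebra structure coming from f. Then O_{X,x} is formally smooth over
O_{Y,y} for the adic topologies of the two local rings (topologies defined by the maximal ideals) if
and only if it is formally smooth for the discrete topologies. -/
theorem result {X Y : Scheme.{u}} [IsLocallyNoetherian X] [IsLocallyNoetherian Y]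
    (f : X ⟶ Y) [LocallyOfFiniteType f] (x : X) :
    letI : Algebra (Y.presheaf.stalk (f.base x)) (X.presheaf.stalk x) := (f.stalkMap x).hom.toAlgebra
    EGA41.IsFormallySmoothAdic (Y.presheaf.stalk (f.base x)) (IsLocalRing.maximalIdeal (Y.presheaf.stalk (f.base x)))
        (X.presheaf.stalk x) (IsLocalRing.maximalIdeal (X.presheaf.stalk x)) ↔
      Algebra.FormallySmooth (Y.presheaf.stalk (f.base x)) (X.presheaf.stalk x) := by
  letI : Algebra (Y.presheaf.stalk (f.base x)) (X.presheaf.stalk x) := (f.stalkMap x).hom.toAlgebra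
  haveI : IsLocalHom (algebraMap (Y.presheaf.stalk (f.base x)) (X.presheaf.stalk x)) :=
    inferInstanceAs (IsLocalHom (f.stalkMap x).hom)
  haveI : Algebra.EssFiniteType (Y.presheaf.stalk (f.base x)) (X.presheaf.stalk x) :=
    LocallyOfFiniteType.stalkMap f x
  exact general _ _

end Groth.Agent.S3436
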