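import Groth.Statements.S4991
import Groth.Agent.Lib.Helper13.SchemeLocal
import Groth.Agent.Lib.Helper25.NhdStalk
import Groth.Agent.Lib.Helper25.RegularSmooth

set_option autoImplicit false
universe u
open CategoryTheory CategoryTheory.Limits AlgebraicGeometry TopologicalSpace
open Unram17

namespace Groth.Agent.S4991

/-- Let Y be locally Noetherian and f : X ⟶ Y locally of finite type, smooth on an open neighbourhood of
a point x with image y. Then the local ring of X at x is regular if and only if the local ring of Y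
at y is regular. -/
theorem result {X Y : Scheme.{u}} (f : X ⟶ Y)
    [IsLocallyNoetherian Y] [LocallyOfFiniteType f] (x : ↥X)
    (hx : ∃ U : X.Opens, x ∈ U ∧ Smooth (U.ι ≫ f)) :
    IsRegularLocalRing ↑(X.presheaf.stalk x) ↔ IsRegularLocalRing ↑(Y.presheaf.stalk (f.base x)) := by
  obtain ⟨U, hxU, hU⟩ := hx
  have hsm : (f.stalkMap x).hom.FormallySmooth :=
    (Groth.Agent.Lib.Helper25.NhdStalk.exists_smooth_nhd_iff f x).mp ⟨U, hxU, hU⟩
  have hflat : (f.stalkMap x).hom.Flat := by
    have := Flat.stalkMap (U.ι ≫ f) ⟨x, hxU⟩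
    exact (Groth.Agent.Lib.Helper13.stalkMap_ι_comp_iff RingHom.Flat.respectsIso f U ⟨x, hxU⟩).mp this
  constructor
  · intro hreg
    algebraize [(f.stalkMap x).hom]
    have : IsLocalHom (algebraMap (Y.presheaf.stalk (f x)) (X.presheaf.stalk x)) :=
      inferInstanceAs (IsLocalHom (f.stalkMap x).hom)
    have : Module.Flat (Y.presheaf.stalk (f x)) (X.presheaf.stalk x) := hflat
    exact Groth.Agent.Lib.Helper18.SerreReg.isRegularLocalRing_of_flat_of_isLocalHom
      (Y.presheaf.stalk (f x)) (X.presheaf.stalk x)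
  · intro hreg
    obtain ⟨V, hV, hyV, -⟩ := TopologicalSpace.Opens.isBasis_iff_nbhd.mp
      Y.isBasis_affineOpens (TopologicalSpace.Opens.mem_top (f x))
    obtain ⟨W, hW, hxW, hWV⟩ := TopologicalSpace.Opens.isBasis_iff_nbhd.mp
      X.isBasis_affineOpens (show x ∈ f ⁻¹ᵁ V from hyV)
    let _ : Algebra Γ(Y, V) Γ(X, W) := (f.appLE V W hWV).hom.toAlgebra
    have : IsNoetherianRing Γ(Y, V) := IsLocallyNoetherian.component_noetherian ⟨V, hV⟩
    have : Algebra.FiniteType Γ(Y, V) Γ(X, W) := f.finiteType_appLE hV hW hWV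
    let p : Ideal Γ(Y, V) := (hV.primeIdealOf ⟨f x, hyV⟩).asIdeal
    let q : Ideal Γ(X, W) := (hW.primeIdealOf ⟨x, hxW⟩).asIdeal
    have : q.LiesOver p :=
      ⟨congr($(IsAffineOpen.comap_primeIdealOf_appLE V hV W hW hWV hxW).1).symm⟩
    have hsm' : Algebra.IsSmoothAt Γ(Y, V) q :=
      (formallySmooth_stalkMap_iff V hV W hW hWV hxW).mp hsm
    let _ : Algebra Γ(Y, V) (Y.presheaf.stalk (f x)) :=
      TopCat.Presheaf.algebra_section_stalk Y.presheaf ⟨f x, hyV⟩
    let _ : Algebra Γ(X, W) (X.presheaf.stalk x) :=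
      TopCat.Presheaf.algebra_section_stalk X.presheaf ⟨x, hxW⟩
    have : IsLocalization.AtPrime (Y.presheaf.stalk (f x)) p := hV.isLocalization_stalk ⟨f x, hyV⟩
    have : IsLocalization.AtPrime (X.presheaf.stalk x) q := hW.isLocalization_stalk ⟨x, hxW⟩
    exact Groth.Agent.Lib.Helper25.RegularSmooth.isRegularLocalRing_of_isSmoothAt' p q
      (Y.presheaf.stalk (f x)) (X.presheaf.stalk x)


end Groth.Agent.S4991
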