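import Groth.Statements.S1535
import Groth.Agent.S4991
import Groth.Agent.Lib.Helper25.GrpSmoothPt

set_option autoImplicit false
universe u
open CategoryTheory CategoryTheory.Limits AlgebraicGeometry
open Variety

namespace Groth.Agent.S1535

/-- If X is smooth over a field then every local ring of X is a regular local ring. -/
theorem result (k : Type u) [Field k] (X : Scheme.{u}) [X.Over (Spec (CommRingCat.of k))] [Smooth (X ↘ (Spec (CommRingCat.of k)))] (x : X) :
    IsRegularLocalRing (X.presheaf.stalk x) := by
  have : IsLocallyNoetherian (Spec (CommRingCat.of k)) := inferInstance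
  rw [Groth.Agent.S4991.result (X ↘ (Spec (CommRingCat.of k))) x
    ⟨⊤, trivial, inferInstance⟩]
  have hτ := Groth.Agent.Lib.Helper25.GrpTangent.bijective_τ
    ((X ↘ (Spec (CommRingCat.of k))) x)
  exact IsRegularLocalRing.of_ringEquiv (RingEquiv.ofBijective _ hτ)


end Groth.Agent.S1535
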