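import Groth.Statements.S9941
import Groth.Agent.Lib.Helper24.ZarGlue
import Groth.Agent.Lib.Helper24.ZarGlueAff

set_option autoImplicit false
universe u
open CategoryTheory CategoryTheory.Limits AlgebraicGeometry
open AlgSp

namespace Groth.Agent.S9941

open CategoryTheory CategoryTheory.Limits AlgebraicGeometry
open AlgSp
open Groth.Agent.Lib.Helper24.ZarGlue Groth.Agent.Lib.Helper14.AS Groth.Agent.Lib.Helper24.ZarGlueAff


/-- (2) ⇒ (1): an affine morphism of algebraic spaces is representable (and representable-affine). -/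
theorem result {S : Scheme.{u}} {X Y : AlgSp.Space S} (f : X ⟶ Y)
    (hf : AlgSp.IsAffineMor f.hom) : AlgSp.RepWith @IsAffineHom f.hom := by
  have : MorphismProperty.RespectsIso @IsAffineHom :=
    MorphismProperty.IsStableUnderBaseChange.respectsIso
  have : (MorphismProperty.inverseImage (@IsAffineHom) (Over.forget S)).RespectsIso :=
    MorphismProperty.RespectsIso.inverseImage _ _
  refine MorphismProperty.relative.of_exists fun T t => ?_
  let E : Sp S := pullback f.hom t
  let π : E ⟶ (yon S).obj T := pullback.snd f.hom t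
  obtain ⟨U, ρ, e, he, hloc⟩ := exists_rep_of_locally π
    (fun O X _ => IsAffineOpen O ∧ IsAffine X.left) (by
    intro w
    obtain ⟨O, hO, hwO, -⟩ := exists_isAffineOpen_mem_and_subset (x := w) (U := ⊤) trivial
    have hZ : IsAffine (resOpen T O).left := hO
    obtain ⟨W', i, fstW, sqW, hW'⟩ := hf hZ ((yon S).map (resOpenι T O) ≫ t)
    let fst' : (yon S).obj W' ⟶ E := pullback.lift fstW ((yon S).map i ≫ (yon S).map (resOpenι T O))
      (by rw [Category.assoc]; exact sqW.w)
    refine ⟨O, hwO, W', i, fst', ?_, hO, hW'⟩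
    refine IsPullback.of_right ?_ (pullback.lift_snd _ _ _) (IsPullback.of_hasPullback f.hom t)
    rw [pullback.lift_fst]
    exact sqW)
  refine ⟨U, e.hom ≫ pullback.fst f.hom t, ρ, ?_, ?_⟩
  · refine IsPullback.of_iso (IsPullback.of_hasPullback f.hom t) e.symm (Iso.refl _) (Iso.refl _)
      (Iso.refl _) ?_ ?_ ?_ ?_
    · simp
    · simp only [Iso.symm_hom, Iso.refl_hom, Category.comp_id]
      rw [← he, Iso.inv_hom_id_assoc]
    · simp
    · simp
  · change IsAffineHom ρ.left
    refine isAffineHom_of_forall_exists_isAffineOpen (f := ρ.left) fun x => ?_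
    obtain ⟨O, hxO, X', r, fst, j, -, sq', hO, hX'⟩ := hloc x
    exact ⟨O, hxO, hO, isAffineOpen_preimage_of_isPullback sq'⟩

end Groth.Agent.S9941
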