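import Groth.Statements.S1880
import Mathlib
import Groth.Agent.Lib.Helper25.GrpdTrans

set_option autoImplicit false
universe u
open CategoryTheory CategoryTheory.Limits AlgebraicGeometry
open Grpd

namespace Groth.Agent.S1880



theorem norm_pushout {R S R' S' : Type u} [CommRing R] [CommRing S] [CommRing R'] [CommRing S']
    (φ : R →+* S) (ψ : R →+* R') (φ' : R' →+* S') (ψ' : S →+* S')
    (sq : IsPushout (CommRingCat.ofHom ψ) (CommRingCat.ofHom φ) (CommRingCat.ofHom φ')
      (CommRingCat.ofHom ψ'))
    {ι : Type*} [Fintype ι] [DecidableEq ι]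
    (β : letI := φ.toAlgebra; Module.Basis ι R S) (b : S) :
    (letI := φ'.toAlgebra; Algebra.norm R' (ψ' b)) = ψ (letI := φ.toAlgebra; Algebra.norm R b) := by
  letI := φ.toAlgebra
  letI := ψ.toAlgebra
  letI := φ'.toAlgebra
  letI := ψ'.toAlgebra
  letI : Algebra R S' := (φ'.comp ψ).toAlgebra
  haveI : IsScalarTower R R' S' := IsScalarTower.of_algebraMap_eq fun _ => rfl
  have hcomm : ∀ r : R, ψ' (φ r) = φ' (ψ r) := by
    intro r
    have := congrArg (fun f => f.hom r) sq.w
    exact this.symm
  haveI : IsScalarTower R S S' := IsScalarTower.of_algebraMap_eq fun r => (hcomm r).symm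
  have hpo : Algebra.IsPushout R R' S S' := CommRingCat.isPushout_iff_isPushout.mp sq
  have hbc : IsBaseChange R' (IsScalarTower.toAlgHom R S S').toLinearMap := hpo.out
  let β' : Module.Basis ι R' S' := (β.baseChange R').map hbc.equiv
  have hβ' : ∀ i, β' i = ψ' (β i) := by
    intro i
    simp only [β', Module.Basis.map_apply, Module.Basis.baseChange_apply, IsBaseChange.equiv_tmul,
      one_smul]
    rfl
  have hsmul : ∀ (r : R) (x : S), ψ' (r • x) = ψ r • ψ' x := by
    intro r x
    rw [Algebra.smul_def, Algebra.smul_def, map_mul]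
    congr 1
    exact hcomm r
  have hrepr : ∀ (x : S) (i : ι), β'.repr (ψ' x) i = ψ (β.repr x i) := by
    intro x i
    conv_lhs => rw [← β.sum_repr x]
    rw [map_sum]
    simp only [hsmul, ← hβ', map_sum, map_smul, Module.Basis.repr_self, Finsupp.coe_finset_sum,
      Finset.sum_apply, Finsupp.smul_apply, Finsupp.single_apply, smul_eq_mul, mul_ite, mul_one,
      mul_zero, Finset.sum_ite_eq', Finset.mem_univ, if_true]
  rw [Algebra.norm_eq_matrix_det β', Algebra.norm_eq_matrix_det β, RingHom.map_det]
  congr 1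
  ext i j
  rw [Algebra.leftMulMatrix_eq_repr_mul, RingHom.mapMatrix_apply, Matrix.map_apply,
    Algebra.leftMulMatrix_eq_repr_mul, hβ', ← map_mul, hrepr]

theorem isPushout_appTop {P X Y Z : Scheme.{u}} [IsAffine P] [IsAffine X] [IsAffine Y] [IsAffine Z]
    {fst : P ⟶ X} {snd : P ⟶ Y} {f : X ⟶ Z} {g : Y ⟶ Z} (h : IsPullback fst snd f g) :
    IsPushout g.appTop f.appTop snd.appTop fst.appTop := by
  have h1 : IsPullback (Spec.map fst.appTop) (Spec.map snd.appTop) (Spec.map f.appTop)
      (Spec.map g.appTop) := by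
    refine IsPullback.of_iso h P.isoSpec X.isoSpec Y.isoSpec Z.isoSpec ?_ ?_ ?_ ?_
    · exact (Scheme.isoSpec_hom_naturality fst).symm
    · exact (Scheme.isoSpec_hom_naturality snd).symm
    · exact (Scheme.isoSpec_hom_naturality f).symm
    · exact (Scheme.isoSpec_hom_naturality g).symm
  have hw : fst.appTop.op ≫ f.appTop.op = snd.appTop.op ≫ g.appTop.op := by
    rw [← op_comp, ← op_comp, ← Scheme.Hom.comp_appTop, ← Scheme.Hom.comp_appTop, h.w]
  have h2 : IsPullback (Scheme.Spec.map fst.appTop.op) (Scheme.Spec.map snd.appTop.op)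
      (Scheme.Spec.map f.appTop.op) (Scheme.Spec.map g.appTop.op) := h1
  have h3 := IsPullback.of_map Scheme.Spec hw h2
  exact h3.unop

/-- Let (U, R, s, t, c) be a groupoid scheme with U, R affine and s, t finite locally free. For f ∈
Γ(U), the norm along s♯ of t♯(f) is an R-invariant function. (Mathlib's norm is the determinant when
Γ(R) is free over Γ(U) via s♯ and 1 otherwise; the content is the free case, e.g. after localizing
U.) (A groupoid scheme carries U, R, s, t, c, e, i over S with the groupoid axioms on T-points;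
'finite locally free' is finite, flat and locally of finite presentation; C ⊂ Γ(U) is the ring of
functions a with s♯(a) = t♯(a) and M = Spec C.) -/
theorem result (S : Scheme.{u}) (G : Grpd.GroupoidScheme S) [IsAffine G.U] [IsAffine G.R] [IsFinite G.s] [Flat G.s] [LocallyOfFinitePresentation G.s] [IsFinite G.t] [Flat G.t] [LocallyOfFinitePresentation G.t] (f : Γ(G.U, ⊤)) : G.normST f ∈ G.invariants := by

  classical
  show G.normST f ∈ RingHom.eqLocus G.s.appTop.hom G.t.appTop.hom
  rw [RingHom.mem_eqLocus]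
  by_cases hfree : (letI := G.s.appTop.hom.toAlgebra;
      ∃ s : Finset Γ(G.R, ⊤), Nonempty (Module.Basis s Γ(G.U, ⊤) Γ(G.R, ⊤)))
  · obtain ⟨ι, ⟨β⟩⟩ := hfree
    have sq1 := isPushout_appTop (IsPullback.of_hasPullback G.s G.t)
    have sq2 := isPushout_appTop (Groth.Agent.Lib.Helper25.GrpdTrans.isPullback_c_snd G)
    have e1 := norm_pushout G.s.appTop.hom G.t.appTop.hom (pullback.snd G.s G.t).appTop.hom
      (pullback.fst G.s G.t).appTop.hom sq1 β (G.t.appTop.hom f)
    have e2 := norm_pushout G.s.appTop.hom G.s.appTop.hom (pullback.snd G.s G.t).appTop.hom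
      G.c.appTop.hom sq2 β (G.t.appTop.hom f)
    have hct : (pullback.fst G.s G.t).appTop.hom (G.t.appTop.hom f) =
        G.c.appTop.hom (G.t.appTop.hom f) := by
      have h1 : G.c ≫ G.t = pullback.fst G.s G.t ≫ G.t :=
        Groth.Agent.Lib.Helper25.GrpdTrans.c_t G
      have h2 := congrArg (fun φ => φ.appTop.hom f) h1
      simp only [Scheme.Hom.comp_appTop, CommRingCat.hom_comp, RingHom.comp_apply] at h2
      exact h2.symm
    show G.s.appTop.hom (letI := G.s.appTop.hom.toAlgebra;
      Algebra.norm Γ(G.U, ⊤) (G.t.appTop.hom f)) = G.t.appTop.hom (letI := G.s.appTop.hom.toAlgebra;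
      Algebra.norm Γ(G.U, ⊤) (G.t.appTop.hom f))
    rw [← e1, ← e2, hct]
  · have h1 : G.normST f = 1 := by
      show (letI := G.s.appTop.hom.toAlgebra; Algebra.norm Γ(G.U, ⊤) (G.t.appTop.hom f)) = 1
      letI := G.s.appTop.hom.toAlgebra
      exact Algebra.norm_eq_one_of_not_exists_basis _ hfree _
    rw [h1, map_one, map_one]

end Groth.Agent.S1880
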