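import Groth.Statements.S1879
import Mathlib
import Groth.Agent.Lib.Helper25.GrpdTrans
import Groth.Agent.S1880

set_option autoImplicit false
universe u
open CategoryTheory CategoryTheory.Limits AlgebraicGeometry
open Grpd

namespace Groth.Agent.S1879



theorem charpoly_indep {R : Type u} [CommRing R] {M Q₁ Q₂ N₁ N₂ : Type u}
    [AddCommGroup M] [Module R M] [AddCommGroup Q₁] [Module R Q₁] [AddCommGroup Q₂] [Module R Q₂]
    [AddCommGroup N₁] [Module R N₁] [AddCommGroup N₂] [Module R N₂]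
    [Module.Free R N₁] [Module.Finite R N₁] [Module.Free R N₂] [Module.Finite R N₂]
    (hrk : Module.finrank R N₁ = Module.finrank R N₂)
    (e₁ : (M × Q₁) ≃ₗ[R] N₁) (e₂ : (M × Q₂) ≃ₗ[R] N₂) (ψ : Module.End R M) :
    (e₁.conj (ψ.prodMap (0 : Module.End R Q₁))).charpoly =
      (e₂.conj (ψ.prodMap (0 : Module.End R Q₂))).charpoly := by
  nontriviality R
  obtain ⟨Φ₁, hΦ₁⟩ : ∃ Φ₁ : Module.End R N₁, Φ₁ = e₁.conj (ψ.prodMap (0 : Module.End R Q₁)) :=
    ⟨_, rfl⟩
  obtain ⟨Φ₂, hΦ₂⟩ : ∃ Φ₂ : Module.End R N₂, Φ₂ = e₂.conj (ψ.prodMap (0 : Module.End R Q₂)) :=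
    ⟨_, rfl⟩
  rw [← hΦ₁, ← hΦ₂]
  let τ : ((M × Q₁) × (M × Q₂)) ≃ₗ[R] ((M × Q₂) × (M × Q₁)) :=
    { toFun := fun x => ((x.1.1, x.2.2), (x.2.1, x.1.2))
      invFun := fun y => ((y.1.1, y.2.2), (y.2.1, y.1.2))
      map_add' := fun x y => rfl
      map_smul' := fun r x => rfl
      left_inv := fun x => rfl
      right_inv := fun y => rfl }
  let σ : (N₁ × N₂) ≃ₗ[R] (N₂ × N₁) :=
    (e₁.symm.prodCongr e₂.symm) ≪≫ₗ τ ≪≫ₗ (e₂.prodCongr e₁)
  have hσ : σ.conj (Φ₁.prodMap (0 : Module.End R N₂)) = Φ₂.prodMap (0 : Module.End R N₁) := by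
    apply LinearMap.ext
    rintro ⟨x, y⟩
    obtain ⟨⟨m, q₂⟩, rfl⟩ := e₂.surjective x
    obtain ⟨⟨m', q₁⟩, rfl⟩ := e₁.surjective y
    have h1 : σ.symm (e₂ (m, q₂), e₁ (m', q₁)) = (e₁ (m, q₁), e₂ (m', q₂)) := by
      rw [LinearEquiv.symm_apply_eq]
      simp [σ, τ]
    rw [LinearEquiv.conj_apply_apply, h1]
    simp only [LinearMap.prodMap_apply, LinearMap.zero_apply, hΦ₁, hΦ₂,
      LinearEquiv.conj_apply_apply, LinearEquiv.symm_apply_apply]
    simp [σ, τ]
  have h1 : (Φ₁.prodMap (0 : Module.End R N₂)).charpoly =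
      (Φ₂.prodMap (0 : Module.End R N₁)).charpoly := by
    rw [← hσ, LinearEquiv.charpoly_conj]
  rw [LinearMap.charpoly_prodMap, LinearMap.charpoly_prodMap, LinearMap.charpoly_zero,
    LinearMap.charpoly_zero, hrk] at h1
  exact (Polynomial.monic_X_pow _).isRegular.right h1

theorem exists_compl (R M : Type u) [CommRing R] [AddCommGroup M] [Module R M] [Module.Finite R M]
    [Module.Projective R M] :
    ∃ (n : ℕ) (Q : Type u) (_ : AddCommGroup Q) (_ : Module R Q),
      Nonempty ((M × Q) ≃ₗ[R] (Fin n → R)) := by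
  obtain ⟨n, f, g, hf, hg, hfg⟩ := Module.Finite.exists_comp_eq_id_of_projective R M
  have hfg' : ∀ m, f (g m) = m := fun m => congrArg (fun φ => φ m) hfg
  refine ⟨n, LinearMap.ker f, inferInstance, inferInstance, ⟨?_⟩⟩
  refine LinearEquiv.ofLinearMap (g.coprod (LinearMap.ker f).subtype)
    (f.prod (LinearMap.codRestrict (LinearMap.ker f) (LinearMap.id - g ∘ₗ f) ?_)) ?_ ?_
  · intro x
    simp [hfg']
  · apply LinearMap.ext
    intro x
    simp
  · apply LinearMap.ext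
    rintro ⟨m, ⟨k, hk⟩⟩
    have hk' : f k = 0 := hk
    ext
    · simp [hfg', hk']
    · simp [hfg', hk']

theorem aeval_comp_of_comm {R : Type u} [CommRing R] {M N : Type u} [AddCommGroup M] [Module R M]
    [AddCommGroup N] [Module R N] (Φ : Module.End R N) (L : Module.End R M) (ι : M →ₗ[R] N)
    (h : Φ ∘ₗ ι = ι ∘ₗ L) (p : Polynomial R) :
    (Polynomial.aeval Φ p) ∘ₗ ι = ι ∘ₗ (Polynomial.aeval L p) := by
  induction p using Polynomial.induction_on with
  | C a =>
    apply LinearMap.ext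
    intro x
    simp [Polynomial.aeval_C, Module.algebraMap_end_apply]
  | add p q hp hq =>
    rw [map_add, map_add, LinearMap.add_comp, LinearMap.comp_add, hp, hq]
  | monomial n a ih =>
    have e1 : Polynomial.aeval Φ (Polynomial.C a * Polynomial.X ^ (n + 1)) =
        Polynomial.aeval Φ (Polynomial.C a * Polynomial.X ^ n) * Φ := by
      rw [pow_succ, ← mul_assoc, map_mul (Polynomial.aeval Φ) _ Polynomial.X, Polynomial.aeval_X]
    have e2 : Polynomial.aeval L (Polynomial.C a * Polynomial.X ^ (n + 1)) =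
        Polynomial.aeval L (Polynomial.C a * Polynomial.X ^ n) * L := by
      rw [pow_succ, ← mul_assoc, map_mul (Polynomial.aeval L) _ Polynomial.X, Polynomial.aeval_X]
    rw [e1, e2, Module.End.mul_eq_comp, Module.End.mul_eq_comp, LinearMap.comp_assoc, h,
      ← LinearMap.comp_assoc, ih, LinearMap.comp_assoc]

theorem aeval_charpoly_compl {R S : Type u} [CommRing R] [CommRing S] [Algebra R S] {Q : Type u}
    [AddCommGroup Q] [Module R Q] {N : Type u} [AddCommGroup N] [Module R N] [Module.Free R N]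
    [Module.Finite R N] (e : (S × Q) ≃ₗ[R] N) (b : S) :
    Polynomial.aeval b
      ((e.conj ((Algebra.lmul R S b).prodMap (0 : Module.End R Q))).charpoly) = 0 := by
  obtain ⟨Φ, hΦ⟩ : ∃ Φ : Module.End R N,
      Φ = e.conj ((Algebra.lmul R S b).prodMap (0 : Module.End R Q)) := ⟨_, rfl⟩
  rw [← hΦ]
  let ι : S →ₗ[R] N := e.toLinearMap ∘ₗ LinearMap.inl R S Q
  have hι : Function.Injective ι := by
    intro x y hxy
    have := e.injective hxy
    exact (Prod.mk.inj this).1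
  have hcomm : Φ ∘ₗ ι = ι ∘ₗ (Algebra.lmul R S b) := by
    apply LinearMap.ext
    intro x
    simp [ι, hΦ, LinearEquiv.conj_apply_apply]
  have h1 := aeval_comp_of_comm Φ (Algebra.lmul R S b) ι hcomm Φ.charpoly
  rw [LinearMap.aeval_self_charpoly, LinearMap.zero_comp] at h1
  have h2 := congrArg (fun φ => φ 1) h1
  simp only [LinearMap.zero_apply, LinearMap.comp_apply] at h2
  rw [Polynomial.aeval_algHom_apply] at h2
  have h3 : (Algebra.lmul R S (Polynomial.aeval b Φ.charpoly)) 1 = Polynomial.aeval b Φ.charpoly := by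
    simp
  rw [h3] at h2
  exact hι (h2.symm.trans (map_zero ι).symm)

open TensorProduct in
theorem charpoly_map_pushout {R S R' S' : Type u} [CommRing R] [CommRing S] [CommRing R']
    [CommRing S'] [Nontrivial R']
    (φ : R →+* S) (ψ : R →+* R') (φ' : R' →+* S') (ψ' : S →+* S')
    (sq : IsPushout (CommRingCat.ofHom ψ) (CommRingCat.ofHom φ) (CommRingCat.ofHom φ')
      (CommRingCat.ofHom ψ'))
    {Q : Type u} [AddCommGroup Q] [Module R Q] (n : ℕ)
    (e : letI := φ.toAlgebra; (S × Q) ≃ₗ[R] (Fin n → R)) (b : S) :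
    letI := φ.toAlgebra
    letI := φ'.toAlgebra
    ∃ (Q' N' : Type u) (_ : AddCommGroup Q') (_ : Module R' Q') (_ : AddCommGroup N')
      (_ : Module R' N') (_ : Module.Free R' N') (_ : Module.Finite R' N')
      (e' : (S' × Q') ≃ₗ[R'] N'),
      Module.finrank R' N' = n ∧
      (e'.conj ((Algebra.lmul R' S' (ψ' b)).prodMap (0 : Module.End R' Q'))).charpoly =
        ((e.conj ((Algebra.lmul R S b).prodMap (0 : Module.End R Q))).charpoly).map ψ := by
  letI := φ.toAlgebra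
  letI := ψ.toAlgebra
  letI := φ'.toAlgebra
  letI := ψ'.toAlgebra
  letI : Algebra R S' := (φ'.comp ψ).toAlgebra
  haveI : IsScalarTower R R' S' := IsScalarTower.of_algebraMap_eq fun _ => rfl
  have hcomm : ∀ r : R, ψ' (φ r) = φ' (ψ r) := by
    intro r
    have := congrArg (fun f => f.hom r) sq.w
    exact this.symm
  haveI : IsScalarTower R S S' := IsScalarTower.of_algebraMap_eq fun r => (hcomm r).symm
  haveI : Nontrivial R := ψ.domain_nontrivial
  have hpo : Algebra.IsPushout R R' S S' := CommRingCat.isPushout_iff_isPushout.mp sq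
  have hbc : IsBaseChange R' (IsScalarTower.toAlgHom R S S').toLinearMap := hpo.out
  obtain ⟨θ, hθ⟩ : ∃ θ : R' ⊗[R] S ≃ₗ[R'] S', ∀ (r' : R') (s : S), θ (r' ⊗ₜ s) = r' • ψ' s :=
    ⟨hbc.equiv, fun r' s => hbc.equiv_tmul r' s⟩
  let e'' : ((R' ⊗[R] S) × (R' ⊗[R] Q)) ≃ₗ[R'] (R' ⊗[R] (Fin n → R)) :=
    (TensorProduct.prodRight R R' R' S Q).symm ≪≫ₗ (LinearEquiv.baseChange R R' _ _ e)
  let e' : (S' × (R' ⊗[R] Q)) ≃ₗ[R'] (R' ⊗[R] (Fin n → R)) :=
    (θ.symm.prodCongr (LinearEquiv.refl R' (R' ⊗[R] Q))) ≪≫ₗ e''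
  refine ⟨R' ⊗[R] Q, R' ⊗[R] (Fin n → R), inferInstance, inferInstance, inferInstance,
    inferInstance, inferInstance, inferInstance, e', ?_, ?_⟩
  · rw [Module.finrank_baseChange, Module.finrank_fin_fun]
  · have key : e'.conj ((Algebra.lmul R' S' (ψ' b)).prodMap (0 : Module.End R' (R' ⊗[R] Q))) =
        (e.conj ((Algebra.lmul R S b).prodMap (0 : Module.End R Q))).baseChange R' := by
      apply TensorProduct.AlgebraTensorModule.ext
      intro r' v
      obtain ⟨⟨s, q⟩, rfl⟩ := e.surjective v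
      have h1 : e'.symm (r' ⊗ₜ[R] e (s, q)) = (r' • ψ' s, r' ⊗ₜ[R] q) := by
        rw [LinearEquiv.symm_apply_eq]
        simp only [e', e'', LinearEquiv.trans_apply, LinearEquiv.prodCongr_apply,
          LinearEquiv.refl_apply]
        rw [← hθ, LinearEquiv.symm_apply_apply, TensorProduct.prodRight_symm_tmul,
          LinearEquiv.baseChange_tmul]
      rw [LinearEquiv.conj_apply_apply, h1, LinearMap.baseChange_tmul,
        LinearEquiv.conj_apply_apply, LinearEquiv.symm_apply_apply]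
      simp only [LinearMap.prodMap_apply, LinearMap.zero_apply, Algebra.lmul_algebraMap,
        Algebra.coe_lmul_eq_mul, LinearMap.mul_apply']
      have h2 : ψ' b * r' • ψ' s = θ (r' ⊗ₜ[R] (b * s)) := by
        rw [hθ, map_mul, mul_smul_comm]
      simp only [e', e'', LinearEquiv.trans_apply, LinearEquiv.prodCongr_apply,
        LinearEquiv.refl_apply]
      rw [h2, LinearEquiv.symm_apply_apply]
      have h3 : ((r' ⊗ₜ[R] (b * s) : R' ⊗[R] S), (0 : R' ⊗[R] Q)) =
          (r' ⊗ₜ[R] (b * s), r' ⊗ₜ[R] (0 : Q)) := by rw [TensorProduct.tmul_zero]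
      rw [h3, TensorProduct.prodRight_symm_tmul, LinearEquiv.baseChange_tmul]
    rw [key, LinearMap.charpoly_baseChange]
    rfl

theorem charpoly_map_eq {R S R' S' : Type u} [CommRing R] [CommRing S] [CommRing R']
    [CommRing S']
    (φ : R →+* S) (ψ₁ ψ₂ : R →+* R') (φ' : R' →+* S') (ψ'₁ ψ'₂ : S →+* S')
    (sq₁ : IsPushout (CommRingCat.ofHom ψ₁) (CommRingCat.ofHom φ) (CommRingCat.ofHom φ')
      (CommRingCat.ofHom ψ'₁))
    (sq₂ : IsPushout (CommRingCat.ofHom ψ₂) (CommRingCat.ofHom φ) (CommRingCat.ofHom φ')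
      (CommRingCat.ofHom ψ'₂))
    {Q : Type u} [AddCommGroup Q] [Module R Q] (n : ℕ)
    (e : letI := φ.toAlgebra; (S × Q) ≃ₗ[R] (Fin n → R)) (b : S) (hb : ψ'₁ b = ψ'₂ b) :
    letI := φ.toAlgebra
    ((e.conj ((Algebra.lmul R S b).prodMap (0 : Module.End R Q))).charpoly).map ψ₁ =
      ((e.conj ((Algebra.lmul R S b).prodMap (0 : Module.End R Q))).charpoly).map ψ₂ := by
  nontriviality R'
  letI := φ.toAlgebra
  letI := φ'.toAlgebra
  obtain ⟨Q₁, N₁, _, _, _, _, _, _, e₁, hrk₁, h₁⟩ := charpoly_map_pushout φ ψ₁ φ' ψ'₁ sq₁ n e b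
  obtain ⟨Q₂, N₂, _, _, _, _, _, _, e₂, hrk₂, h₂⟩ := charpoly_map_pushout φ ψ₂ φ' ψ'₂ sq₂ n e b
  rw [← h₁, ← h₂, hb]
  exact charpoly_indep (hrk₁.trans hrk₂.symm) e₁ e₂ _

/-- Let (U, R, s, t, c) be a groupoid scheme with U, R affine and s, t finite locally free. Then Γ(U) is
integral over the subring C of R-invariant functions. (A groupoid scheme carries U, R, s, t, c, e, i
over S with the groupoid axioms on T-points; 'finite locally free' is finite, flat and locally of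
finite presentation; C ⊂ Γ(U) is the ring of functions a with s♯(a) = t♯(a) and M = Spec C.) -/
theorem result (S : Scheme.{u}) (G : Grpd.GroupoidScheme S) [IsAffine G.U] [IsAffine G.R] [IsFinite G.s] [Flat G.s] [LocallyOfFinitePresentation G.s] [IsFinite G.t] [Flat G.t] [LocallyOfFinitePresentation G.t] : Algebra.IsIntegral G.invariants Γ(G.U, ⊤) := by

  letI algAB : Algebra Γ(G.U, ⊤) Γ(G.R, ⊤) := G.s.appTop.hom.toAlgebra
  haveI hfin : Module.Finite Γ(G.U, ⊤) Γ(G.R, ⊤) := G.s.finite_appTop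
  haveI hflat : Module.Flat Γ(G.U, ⊤) Γ(G.R, ⊤) :=
    (HasRingHomProperty.iff_of_isAffine (P := @Flat)).mp inferInstance
  haveI hfp : Algebra.FinitePresentation Γ(G.U, ⊤) Γ(G.R, ⊤) :=
    (HasRingHomProperty.iff_of_isAffine (P := @LocallyOfFinitePresentation)).mp inferInstance
  haveI : Module.FinitePresentation Γ(G.U, ⊤) Γ(G.R, ⊤) :=
    Module.FinitePresentation.of_finite_of_finitePresentation _ _
  haveI : Module.Projective Γ(G.U, ⊤) Γ(G.R, ⊤) := Module.Flat.projective_of_finitePresentation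
  obtain ⟨n, Q, _, _, ⟨e⟩⟩ := exists_compl Γ(G.U, ⊤) Γ(G.R, ⊤)
  constructor
  intro f
  obtain ⟨b, hb⟩ : ∃ b : Γ(G.R, ⊤), b = G.t.appTop.hom f := ⟨_, rfl⟩
  obtain ⟨χ, hχ⟩ : ∃ χ : Polynomial Γ(G.U, ⊤), χ =
      (e.conj ((Algebra.lmul Γ(G.U, ⊤) Γ(G.R, ⊤) b).prodMap (0 : Module.End Γ(G.U, ⊤) Q))).charpoly :=
    ⟨_, rfl⟩
  have hmonic : χ.Monic := by rw [hχ]; exact LinearMap.charpoly_monic _
  have hCH : Polynomial.aeval b χ = 0 := by rw [hχ]; exact aeval_charpoly_compl e b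
  have hes : ∀ a : Γ(G.U, ⊤), G.e.appTop.hom (G.s.appTop.hom a) = a := by
    intro a
    have := congrArg (fun φ => φ.appTop.hom a) G.e_s
    simpa using this
  have het : ∀ a : Γ(G.U, ⊤), G.e.appTop.hom (G.t.appTop.hom a) = a := by
    intro a
    have := congrArg (fun φ => φ.appTop.hom a) G.e_t
    simpa using this
  have hroot : χ.eval f = 0 := by
    have h1 := congrArg G.e.appTop.hom hCH
    rw [Polynomial.aeval_def, Polynomial.hom_eval₂, map_zero] at h1
    have h2 : G.e.appTop.hom.comp (algebraMap Γ(G.U, ⊤) Γ(G.R, ⊤)) = RingHom.id _ := by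
      ext a; exact hes a
    rw [h2, hb, het, Polynomial.eval₂_id] at h1
    exact h1
  have sq1 := Groth.Agent.S1880.isPushout_appTop (IsPullback.of_hasPullback G.s G.t)
  have sq2 := Groth.Agent.S1880.isPushout_appTop
    (Groth.Agent.Lib.Helper25.GrpdTrans.isPullback_c_snd G)
  have hct : (pullback.fst G.s G.t).appTop.hom b = G.c.appTop.hom b := by
    have h1 : G.c ≫ G.t = pullback.fst G.s G.t ≫ G.t :=
      Groth.Agent.Lib.Helper25.GrpdTrans.c_t G
    have h2 := congrArg (fun φ => φ.appTop.hom f) h1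
    simp only [Scheme.Hom.comp_appTop, CommRingCat.hom_comp, RingHom.comp_apply] at h2
    rw [hb]
    exact h2.symm
  have hinv : χ.map G.t.appTop.hom = χ.map G.s.appTop.hom := by
    rw [hχ]
    exact charpoly_map_eq G.s.appTop.hom G.t.appTop.hom G.s.appTop.hom
      (pullback.snd G.s G.t).appTop.hom (pullback.fst G.s G.t).appTop.hom G.c.appTop.hom
      sq1 sq2 n e b hct
  have hcoeff : ∀ i, χ.coeff i ∈ G.invariants := by
    intro i
    show χ.coeff i ∈ RingHom.eqLocus G.s.appTop.hom G.t.appTop.hom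
    rw [RingHom.mem_eqLocus, ← Polynomial.coeff_map, ← Polynomial.coeff_map, hinv]
  have hsub : (↑χ.coeffs : Set Γ(G.U, ⊤)) ⊆ G.invariants := by
    intro x hx
    obtain ⟨i, -, rfl⟩ := Polynomial.mem_coeffs_iff.mp hx
    exact hcoeff i
  refine ⟨χ.toSubring G.invariants hsub, (Polynomial.monic_toSubring _ _ _).mpr hmonic, ?_⟩
  rw [Polynomial.eval₂_eq_eval_map]
  have : (χ.toSubring G.invariants hsub).map (algebraMap G.invariants Γ(G.U, ⊤)) = χ :=
    Polynomial.map_toSubring _ _ _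
  rw [this]
  exact hroot

end Groth.Agent.S1879
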