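import Groth.Statements.S1878
import Mathlib
import Groth.Agent.Lib.Helper20.HA13

set_option autoImplicit false
universe u
open CategoryTheory CategoryTheory.Limits AlgebraicGeometry
open Grpd

namespace Groth.Agent.S1878



section helpers

open Groth.Agent.Lib.Helper20.HA

variable {S : Scheme.{u}} (G : Grpd.GroupoidScheme S)

theorem toQuot_apply (u : G.U) :
    G.toQuot u = PrimeSpectrum.comap G.invariants.subtype (G.U.toSpecΓ u) := rfl

theorem toSpecΓ_s (r : G.R) :
    G.U.toSpecΓ (G.s r) = PrimeSpectrum.comap G.s.appTop.hom (G.R.toSpecΓ r) := by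
  have := congrArg (fun f : G.R ⟶ Spec Γ(G.U, ⊤) => f r) (Scheme.toSpecΓ_naturality G.s)
  exact this

theorem toSpecΓ_t (r : G.R) :
    G.U.toSpecΓ (G.t r) = PrimeSpectrum.comap G.t.appTop.hom (G.R.toSpecΓ r) := by
  have := congrArg (fun f : G.R ⟶ Spec Γ(G.U, ⊤) => f r) (Scheme.toSpecΓ_naturality G.t)
  exact this

end helpers

/-- Let (U, R, s, t, c) be a groupoid scheme over S with U, R affine and s, t finite locally free, and M
= Spec C. (1) U → M is surjective and two points of U have the same image iff some point of R has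
them as target and source. (2) For every algebraically closed field k, M(k) = U(k)/R(k): every
k-point of M lifts to U, and two k-points of U agree in M iff they are the target and source of a
k-point of R. (A groupoid scheme carries U, R, s, t, c, e, i over S with the groupoid axioms on
T-points; 'finite locally free' is finite, flat and locally of finite presentation; C ⊂ Γ(U) is the
ring of functions a with s♯(a) = t♯(a) and M = Spec C.) -/
theorem result (S : Scheme.{u}) (G : Grpd.GroupoidScheme S) [IsAffine G.U] [IsAffine G.R] [IsFinite G.s] [Flat G.s] [LocallyOfFinitePresentation G.s] [IsFinite G.t] [Flat G.t] [LocallyOfFinitePresentation G.t] : (Function.Surjective G.toQuot ∧ ∀ u₀ u₁ : G.U, G.toQuot u₀ = G.toQuot u₁ ↔ ∃ r : G.R, G.t r = u₀ ∧ G.s r = u₁) ∧ ∀ (k : Type u) [Field k] [IsAlgClosed k], (∀ m : Spec (CommRingCat.of k) ⟶ Spec (CommRingCat.of G.invariants), ∃ x : Spec (CommRingCat.of k) ⟶ G.U, x ≫ G.toQuot = m) ∧ ∀ x₀ x₁ : Spec (CommRingCat.of k) ⟶ G.U, x₀ ≫ G.toQuot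 = x₁ ≫ G.toQuot ↔ ∃ r : Spec (CommRingCat.of k) ⟶ G.R, r ≫ G.t = x₀ ∧ r ≫ G.s = x₁ := by

  classical
  have hinv : (Groth.Agent.Lib.Helper20.HA.ofGrpd G).inv = G.invariants := rfl
  haveI hint : Algebra.IsIntegral G.invariants Γ(G.U, ⊤) :=
    (Groth.Agent.Lib.Helper20.HA.ofGrpd G).isIntegral
  haveI : FaithfulSMul G.invariants Γ(G.U, ⊤) :=
    (faithfulSMul_iff_algebraMap_injective G.invariants Γ(G.U, ⊤)).mpr Subtype.val_injective
  have htq := Groth.Agent.Lib.Helper20.HA.t_toQuot G
  refine ⟨⟨?_, ?_⟩, ?_⟩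
  · intro m
    obtain ⟨P, hP⟩ := Algebra.IsIntegral.comap_surjective G.invariants Γ(G.U, ⊤) m
    refine ⟨G.U.toSpecΓ.homeomorph.symm P, ?_⟩
    rw [toQuot_apply]
    have : G.U.toSpecΓ (G.U.toSpecΓ.homeomorph.symm P) = P :=
      G.U.toSpecΓ.homeomorph.apply_symm_apply P
    rw [this]
    exact hP
  · intro u₀ u₁
    constructor
    · intro h
      rw [toQuot_apply, toQuot_apply] at h
      have h' : (G.U.toSpecΓ u₁).asIdeal.comap G.invariants.subtype =
          (G.U.toSpecΓ u₀).asIdeal.comap G.invariants.subtype :=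
        (congrArg PrimeSpectrum.asIdeal h).symm
      haveI := (G.U.toSpecΓ u₁).isPrime
      haveI := (G.U.toSpecΓ u₀).isPrime
      obtain ⟨q, hq, hqs, hqt⟩ :=
        (Groth.Agent.Lib.Helper20.HA.ofGrpd G).exists_prime_of_comap_eq
          (G.U.toSpecΓ u₁).asIdeal (G.U.toSpecΓ u₀).asIdeal h'
      refine ⟨G.R.toSpecΓ.homeomorph.symm ⟨q, hq⟩, ?_, ?_⟩
      · apply G.U.toSpecΓ.homeomorph.injective
        show G.U.toSpecΓ _ = G.U.toSpecΓ _
        rw [toSpecΓ_t]
        have : G.R.toSpecΓ (G.R.toSpecΓ.homeomorph.symm ⟨q, hq⟩) = ⟨q, hq⟩ :=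
          G.R.toSpecΓ.homeomorph.apply_symm_apply _
        rw [this]
        exact PrimeSpectrum.ext hqt
      · apply G.U.toSpecΓ.homeomorph.injective
        show G.U.toSpecΓ _ = G.U.toSpecΓ _
        rw [toSpecΓ_s]
        have : G.R.toSpecΓ (G.R.toSpecΓ.homeomorph.symm ⟨q, hq⟩) = ⟨q, hq⟩ :=
          G.R.toSpecΓ.homeomorph.apply_symm_apply _
        rw [this]
        exact PrimeSpectrum.ext hqs
    · rintro ⟨r, rfl, rfl⟩
      exact congrArg (fun f : G.R ⟶ Spec (CommRingCat.of G.invariants) => f r) htq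
  · intro k _ _
    refine ⟨?_, ?_⟩
    · intro m
      let φ : CommRingCat.of G.invariants ⟶ CommRingCat.of k := Spec.preimage m
      have hφ : Spec.map φ = m := Spec.map_preimage m
      haveI : (RingHom.ker φ.hom).IsPrime := RingHom.ker_isPrime _
      obtain ⟨Q, -, hQ, hQc⟩ := Ideal.exists_ideal_over_prime_of_isIntegral (RingHom.ker φ.hom)
        (⊥ : Ideal Γ(G.U, ⊤)) (by
          rw [Ideal.comap_bot_of_injective _ (FaithfulSMul.algebraMap_injective _ _)]
          exact bot_le)
      obtain ⟨ψ, hψ, -⟩ := Groth.Agent.Lib.Helper20.HA.exists_lift_of_isIntegral φ.hom Q hQc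
      refine ⟨Spec.map (CommRingCat.ofHom ψ) ≫ G.U.isoSpec.inv, ?_⟩
      unfold Grpd.GroupoidScheme.toQuot
      rw [Category.assoc, ← Category.assoc G.U.isoSpec.inv, ← Scheme.isoSpec_hom,
        Iso.inv_hom_id, Category.id_comp, ← Spec.map_comp, ← hφ]
      congr 1
      ext c
      exact congrArg (fun f => f c) hψ
    · intro x₀ x₁
      constructor
      · intro h
        let ξ₀ : Γ(G.U, ⊤) ⟶ CommRingCat.of k := Spec.preimage (x₀ ≫ G.U.isoSpec.hom)
        let ξ₁ : Γ(G.U, ⊤) ⟶ CommRingCat.of k := Spec.preimage (x₁ ≫ G.U.isoSpec.hom)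
        have hξ₀ : x₀ = Spec.map ξ₀ ≫ G.U.isoSpec.inv := by
          rw [Spec.map_preimage, Category.assoc, Iso.hom_inv_id, Category.comp_id]
        have hξ₁ : x₁ = Spec.map ξ₁ ≫ G.U.isoSpec.inv := by
          rw [Spec.map_preimage, Category.assoc, Iso.hom_inv_id, Category.comp_id]
        have hq : ∀ ξ : Γ(G.U, ⊤) ⟶ CommRingCat.of k, (Spec.map ξ ≫ G.U.isoSpec.inv) ≫ G.toQuot =
            Spec.map (CommRingCat.ofHom G.invariants.subtype ≫ ξ) := by
          intro ξ
          unfold Grpd.GroupoidScheme.toQuot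
          rw [Category.assoc, ← Category.assoc G.U.isoSpec.inv, ← Scheme.isoSpec_hom,
            Iso.inv_hom_id, Category.id_comp, ← Spec.map_comp]
        rw [hξ₀, hξ₁, hq, hq] at h
        have h2 := Spec.map_injective h
        have hx : ∀ c ∈ (Groth.Agent.Lib.Helper20.HA.ofGrpd G).inv, ξ₀.hom c = ξ₁.hom c := by
          intro c hc
          have := congrArg (fun f => f.hom ⟨c, hc⟩) h2
          exact this
        obtain ⟨ψ, hψt, hψs⟩ :=
          (Groth.Agent.Lib.Helper20.HA.ofGrpd G).exists_kpoint ξ₀.hom ξ₁.hom hx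
        refine ⟨Spec.map (CommRingCat.ofHom ψ) ≫ G.R.isoSpec.inv, ?_, ?_⟩
        · rw [Category.assoc, ← Scheme.isoSpec_inv_naturality, ← Category.assoc, ← Spec.map_comp,
            hξ₀]
          congr 2
          ext a
          exact congrArg (fun f => f a) hψt
        · rw [Category.assoc, ← Scheme.isoSpec_inv_naturality, ← Category.assoc, ← Spec.map_comp,
            hξ₁]
          congr 2
          ext a
          exact congrArg (fun f => f a) hψs
      · rintro ⟨r, rfl, rfl⟩
        rw [Category.assoc, Category.assoc, htq]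

end Groth.Agent.S1878
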