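import Groth.Statements.S7490
import Mathlib.CategoryTheory.Sites.RegularEpi
import Mathlib.CategoryTheory.Sites.LeftExact
import Mathlib.CategoryTheory.Limits.Constructions.Over.Connected
import Mathlib.CategoryTheory.Limits.Yoneda
import Mathlib.CategoryTheory.Limits.Preserves.Ulift
import Mathlib.CategoryTheory.Limits.FunctorCategory.Basic

set_option autoImplicit false
open CategoryTheory CategoryTheory.Limits AlgebraicGeometry
universe u
open QuotSh

namespace Groth.Agent.S7490

open CategoryTheory CategoryTheory.Limits AlgebraicGeometry QuotSh in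
/-- `V ↦ h_V` as a functor. -/
noncomputable def repF (K : Precoverage Scheme.{u}) (S : Scheme.{u}) : Over S ⥤ Sh K S :=
  (yoneda ⋙ (Functor.whiskeringRight _ _ _).obj uliftFunctor.{u + 1, u}) ⋙
    presheafToSheaf (J K S) (Type (u + 1))

open CategoryTheory CategoryTheory.Limits AlgebraicGeometry QuotSh in
lemma repF_map (K : Precoverage Scheme.{u}) {S : Scheme.{u}} {V W : Over S} (g : V ⟶ W) :
    (repF K S).map g = repMap K g := rfl

open CategoryTheory CategoryTheory.Limits AlgebraicGeometry QuotSh in
noncomputable instance (K : Precoverage Scheme.{u}) (S : Scheme.{u}) :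
    PreservesFiniteLimits (repF K S) := by
  unfold repF
  infer_instance

open CategoryTheory CategoryTheory.Limits AlgebraicGeometry QuotSh in
lemma repMap_comp (K : Precoverage Scheme.{u}) {S : Scheme.{u}} {V W Z : Over S} (g : V ⟶ W)
    (h : W ⟶ Z) : repMap K (g ≫ h) = repMap K g ≫ repMap K h := by
  exact (repF K S).map_comp g h

/-- Let K be a precoverage on schemes (the topology τ), S a scheme, s, t : R -> U morphisms of schemes
over S (a pre-relation) and q : U -> M a morphism over S such that (1) q coequalizes s and t, (2)
the induced map of τ-sheaves h_U -> h_M is an epimorphism, and (3) the map h_R -> h_(U x_M U)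
induced by (t, s) is an epimorphism of τ-sheaves. Then M, through q, represents the quotient sheaf
U/R: the canonical map from the coequalizer of h_s, h_t to h_M is an isomorphism. (The published
statement takes τ to be the Zariski, étale, fppf, smooth or syntomic topology; this row allows the
topology generated by any precoverage K.) -/
theorem result (K : Precoverage Scheme.{u}) {S : Scheme.{u}} {R U M : Over S} (s t : R ⟶ U) (q : U ⟶ M) (w : s ≫ q = t ≫ q) (w' : t.left ≫ q.left = s.left ≫ q.left) (h₂ : Epi (QuotSh.repMap K q)) (h₃ : Epi (QuotSh.repMap K (Over.homMk (pullback.lift t.left s.left w') (((Category.assoc _ _ _).symm.trans (congrArg (fun k => k ≫ U.hom) (pullback.lift_fst t.left s.left w'))).trans (Over.w t)) : R ⟶ Over.mk (pullback.fst q.left q.left ≫ U.hom)))) : QuotSh.IsQuotient K s t q := by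
  refine ⟨w, ?_⟩
  -- the fibre product `U ×_M U` in `Over S`
  set P : Over S := Over.mk (pullback.fst q.left q.left ≫ U.hom) with hP
  let p₁ : P ⟶ U := Over.homMk (pullback.fst q.left q.left) rfl
  have hp₂ : pullback.snd q.left q.left ≫ U.hom = P.hom := by
    change _ = pullback.fst q.left q.left ≫ U.hom
    rw [← Over.w q, ← Category.assoc, ← Category.assoc, pullback.condition]
  let p₂ : P ⟶ U := Over.homMk (pullback.snd q.left q.left) hp₂
  have sq : IsPullback p₁ p₂ q q :=
    IsPullback.of_map (Over.forget S) (by ext; exact pullback.condition)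
      (IsPullback.of_hasPullback q.left q.left)
  have sq' : IsPullback (repMap K p₁) (repMap K p₂) (repMap K q) (repMap K q) :=
    sq.map (repF K S)
  set ρ : R ⟶ P := Over.homMk (pullback.lift t.left s.left w')
    (((Category.assoc _ _ _).symm.trans
      (congrArg (fun k => k ≫ U.hom) (pullback.lift_fst t.left s.left w'))).trans (Over.w t)) with hρ
  have hρ₁ : ρ ≫ p₁ = t := by
    ext; exact pullback.lift_fst _ _ _
  have hρ₂ : ρ ≫ p₂ = s := by
    ext; exact pullback.lift_snd _ _ _
  -- `h_q` is an effective epimorphism
  have : IsRegularEpi (repMap K q) := IsRegularEpiCategory.regularEpiOfEpi _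
  have hcond : repMap K s ≫ repMap K q = repMap K t ≫ repMap K q := by
    rw [← repMap_comp, ← repMap_comp, w]
  have key : ∀ {F : Sh K S} (f : rep K U ⟶ F), repMap K s ≫ f = repMap K t ≫ f →
      repMap K p₁ ≫ f = repMap K p₂ ≫ f := by
    intro F f hf
    rw [← cancel_epi (repMap K ρ), ← Category.assoc, ← Category.assoc, ← repMap_comp,
      ← repMap_comp, hρ₁, hρ₂, hf]
  have hc : IsColimit (Cofork.ofπ (repMap K q) hcond) :=
    Cofork.IsColimit.mk _
      (fun c => EffectiveEpi.desc (repMap K q) c.π (fun {Z} g₁ g₂ hg => by
        obtain ⟨l, rfl, rfl⟩ := sq'.exists_lift g₁ g₂ hg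
        rw [Category.assoc, Category.assoc, key c.π c.condition]))
      (fun c => EffectiveEpi.fac (repMap K q) c.π _)
      (fun c m hm => EffectiveEpi.uniq (repMap K q) c.π _ m hm)
  have e : quotDesc K q w =
      (IsColimit.coconePointUniqueUpToIso (colimit.isColimit _) hc).hom := by
    apply coequalizer.hom_ext
    unfold quotDesc
    rw [coequalizer.π_desc]
    exact ((colimit.isColimit (parallelPair (repMap K s) (repMap K t))).comp_coconePointUniqueUpToIso_hom hc
      WalkingParallelPair.one).symm
  rw [e]
  exact Iso.isIso_hom _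

end Groth.Agent.S7490
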