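import Groth.Statements.S7488
import Mathlib
import Groth.Agent.Lib.Helper20.HA14
import Groth.Agent.S7490
import Groth.Agent.Lib.Helper24.QuotBridge
import Groth.Agent.Lib.Helper24.DescBridge

set_option autoImplicit false
universe u
open CategoryTheory CategoryTheory.Limits AlgebraicGeometry
open Grpd

namespace Groth.Agent.S7488



section helpers
open Groth.Agent.Lib.Helper24.QuotBridge Groth.Agent.Lib.Helper24.DescBridge in
lemma epi_repMap_of_fppf {S : Scheme.{u}} {A B : Over S} (k : A ⟶ B) (h1 : Flat k.left)
    (h2 : Surjective k.left) (h3 : LocallyOfFinitePresentation k.left) :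
    Epi (QuotSh.repMap Scheme.fppfPrecoverage k) := by
  have hepi : Epi ((AlgSp.yon S).map k) := epi_yon_map_of_fppf k
  have hnat := repIso_hom_naturality k
  have : QuotSh.repMap Scheme.fppfPrecoverage k =
      (QuotSh.repIsoUliftYoneda Scheme.fppfPrecoverage A).hom ≫
        (AlgSp.yon S).map k ≫
        (QuotSh.repIsoUliftYoneda Scheme.fppfPrecoverage B).inv := by
    rw [← Category.assoc, ← hnat, Category.assoc, Iso.hom_inv_id, Category.comp_id]
  rw [this]
  infer_instance
end helpers

/-- Let (U, R, s, t, c) be a groupoid scheme over S with U and R affine, s and t finite locally free,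
and j = (t, s) : R -> U x_S U a monomorphism. Let C be the ring of R-invariant functions on U and M
= Spec C. Then the structure morphism U -> S factors uniquely through U -> M, and for the resulting
structure of scheme over S on M, the morphism U -> M represents the quotient sheaf U/R in the fppf
topology: it coequalizes s and t and the induced map from the coequalizer of h_R => h_U (sheaves of
sets on the big fppf site of S) to h_M is an isomorphism. (The published statement also asserts that
U -> M is finite locally free and that R = U x_M U; this row states only the quotient-sheaf clause.)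
(A groupoid scheme carries U, R, s, t, c, e, i over S with the groupoid axioms on T-points; c is
defined on the fibre product of s and t and sends a pair (a, b) with s(a) = t(b) to a composed with
b.) -/
theorem result (S : Scheme.{u}) (G : Grpd.GroupoidScheme S) [IsAffine G.U] [IsAffine G.R] [IsFinite G.s] [Flat G.s] [LocallyOfFinitePresentation G.s] [IsFinite G.t] [Flat G.t] [LocallyOfFinitePresentation G.t] [Mono G.j] : ∃! m : Spec (CommRingCat.of G.invariants) ⟶ S, ∃ h : G.toQuot ≫ m = G.pU, QuotSh.IsQuotient Scheme.fppfPrecoverage (Over.homMk G.s G.s_over : Over.mk G.pR ⟶ Over.mk G.pU) (Over.homMk G.t G.t_over : Over.mk G.pR ⟶ Over.mk G.pU) (Over.homMk G.toQuot h : Over.mk G.pU ⟶ Over.mk m) := by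

  classical
  have hfl := Groth.Agent.Lib.Helper20.HA.flat_toQuot G
  have hsu := Groth.Agent.Lib.Helper20.HA.surjective_toQuot G
  have hlf := Groth.Agent.Lib.Helper20.HA.lfp_toQuot G
  have hpb := Groth.Agent.Lib.Helper20.HA.isPullback_toQuot G
  have htq := Groth.Agent.Lib.Helper20.HA.t_toQuot G
  let m : Spec (CommRingCat.of G.invariants) ⟶ S := EffectiveEpi.desc G.toQuot G.pU (by
    intro Z g₁ g₂ hg
    have e1 : hpb.lift g₁ g₂ hg ≫ G.t = g₁ := hpb.lift_fst _ _ _
    have e2 : hpb.lift g₁ g₂ hg ≫ G.s = g₂ := hpb.lift_snd _ _ _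
    calc g₁ ≫ G.pU = hpb.lift g₁ g₂ hg ≫ G.t ≫ G.pU := by rw [← Category.assoc, e1]
      _ = hpb.lift g₁ g₂ hg ≫ G.s ≫ G.pU := by rw [G.t_over, G.s_over]
      _ = g₂ ≫ G.pU := by rw [← Category.assoc, e2])
  have hm : G.toQuot ≫ m = G.pU := EffectiveEpi.fac _ _ _
  refine ⟨m, ⟨hm, ?_⟩, ?_⟩
  · refine Groth.Agent.S7490.result Scheme.fppfPrecoverage
      (Over.homMk G.s G.s_over : Over.mk G.pR ⟶ Over.mk G.pU)
      (Over.homMk G.t G.t_over : Over.mk G.pR ⟶ Over.mk G.pU)
      (Over.homMk G.toQuot hm : Over.mk G.pU ⟶ Over.mk m) ?_ htq ?_ ?_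
    · ext
      exact htq.symm
    · exact epi_repMap_of_fppf _ hfl hsu hlf
    · -- the comparison map is an isomorphism
      haveI hiso := Groth.Agent.Lib.Helper20.HA.isIso_kk G
      refine epi_repMap_of_fppf _ ?_ ?_ ?_
      · show Flat (Groth.Agent.Lib.Helper20.HA.kk G)
        infer_instance
      · show Surjective (Groth.Agent.Lib.Helper20.HA.kk G)
        infer_instance
      · show LocallyOfFinitePresentation (Groth.Agent.Lib.Helper20.HA.kk G)
        infer_instance
  · intro m' ⟨hm', _⟩
    haveI : Epi G.toQuot := by
      haveI : EffectiveEpi G.toQuot := inferInstance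
      infer_instance
    rw [← cancel_epi G.toQuot, hm', hm]

end Groth.Agent.S7488
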