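import Groth.Statements.S10140
import Mathlib
import Groth.Agent.Lib.Helper20.HE10
import Groth.Agent.S7490
import Groth.Agent.S7488

set_option autoImplicit false
universe u
open CategoryTheory CategoryTheory.Limits AlgebraicGeometry
open Grpd

namespace Groth.Agent.S10140


/-- Let `(U, R, s, t, c)` be a groupoid scheme over `S` with `U` affine and `j : R ⟶ U ×_S U` separated
and locally quasi-finite, and let `P ⟶ R` be a monomorphism such that `(U, P, s|_P, t|_P, c|_P)` is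
a groupoid scheme, `s|_P, t|_P` are finite locally free and `j|_P` is a monomorphism. Then `U/P` is
represented by an affine scheme `Ū`, the quotient map `U ⟶ Ū` is finite locally free with `P = U ×_Ū
U`, and `R` is the restriction along `U ⟶ Ū` of a groupoid scheme `(Ū, R̄, s̄, t̄, c̄)`. -/
theorem result (S : Scheme.{u}) (G : Grpd.GroupoidScheme S) [IsAffine G.U]
    [IsSeparated G.j] [LocallyQuasiFinite G.j] [LocallyOfFiniteType G.j]
    (P : Scheme.{u}) (ιP : P ⟶ G.R) [Mono ιP]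
    (he : ∃ eP : G.U ⟶ P, eP ≫ ιP = G.e) (hi : ∃ iP : P ⟶ P, iP ≫ ιP = ιP ≫ G.i)
    (hc : ∃ cP : pullback (ιP ≫ G.s) (ιP ≫ G.t) ⟶ P,
      cP ≫ ιP = pullback.map (ιP ≫ G.s) (ιP ≫ G.t) G.s G.t ιP ιP (𝟙 G.U) (Category.comp_id _) (Category.comp_id _) ≫ G.c)
    [IsFinite (ιP ≫ G.s)] [Flat (ιP ≫ G.s)] [LocallyOfFinitePresentation (ιP ≫ G.s)]
    [IsFinite (ιP ≫ G.t)] [Flat (ιP ≫ G.t)] [LocallyOfFinitePresentation (ιP ≫ G.t)] [Mono (ιP ≫ G.j)] :
    ∃ (H : Grpd.GroupoidScheme S) (φ : Grpd.GroupoidScheme.Hom G H),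
      IsAffine H.U ∧
      QuotSh.IsQuotient Scheme.fppfPrecoverage
        (Over.homMk (ιP ≫ G.s) ((Category.assoc _ _ _).trans (congrArg (ιP ≫ ·) G.s_over)) :
          (Over.mk (ιP ≫ G.pR) : Over S) ⟶ Over.mk G.pU)
        (Over.homMk (ιP ≫ G.t) ((Category.assoc _ _ _).trans (congrArg (ιP ≫ ·) G.t_over)) :
          (Over.mk (ιP ≫ G.pR) : Over S) ⟶ Over.mk G.pU)
        (Over.homMk φ.fU φ.fU_over : Over.mk G.pU ⟶ Over.mk H.pU) ∧
      IsFinite φ.fU ∧ Flat φ.fU ∧ LocallyOfFinitePresentation φ.fU ∧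
      IsPullback (ιP ≫ G.t) (ιP ≫ G.s) φ.fU φ.fU ∧
      IsPullback φ.fR G.j H.j
        (pullback.map G.pU G.pU H.pU H.pU φ.fU φ.fU (𝟙 S)
          ((Category.comp_id _).trans φ.fU_over.symm) ((Category.comp_id _).trans φ.fU_over.symm)) := by

  obtain ⟨eP, he⟩ := he
  obtain ⟨iP, hi⟩ := hi
  obtain ⟨cP, hc⟩ := hc
  let L : Groth.Agent.Lib.Helper25.GrpdSub.Lifts G ιP := ⟨eP, iP, cP, he, hi, hc⟩
  let D := Groth.Agent.Lib.Helper20.HE.qdata L
  have hfl : Flat D.p := D.flat_p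
  have hsu : Surjective D.p := D.surj_p
  have hlf : LocallyOfFinitePresentation D.p := D.lfp_p
  have hpb : IsPullback (ιP ≫ G.t) (ιP ≫ G.s) D.p D.p := D.hp
  refine ⟨Groth.Agent.Lib.Helper20.HE.Hbar D L, Groth.Agent.Lib.Helper20.HE.φ D L,
    Groth.Agent.Lib.Helper20.HE.isAffine_Ubar L, ?_, Groth.Agent.Lib.Helper20.HE.isFinite_p L,
    hfl, hlf, hpb, Groth.Agent.Lib.Helper20.HE.isPullback_φ D L⟩
  have w' : (ιP ≫ G.t) ≫ D.p = (ιP ≫ G.s) ≫ D.p := hpb.w
  refine Groth.Agent.S7490.result Scheme.fppfPrecoverage _ _ _ ?_ w' ?_ ?_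
  · apply Over.OverMorphism.ext
    exact w'.symm
  · exact Groth.Agent.S7488.epi_repMap_of_fppf _ hfl hsu hlf
  · have hiso : IsIso (pullback.lift (ιP ≫ G.t) (ιP ≫ G.s) w' :
        P ⟶ pullback D.p D.p) := by
      have : pullback.lift (ιP ≫ G.t) (ιP ≫ G.s) w' = hpb.isoPullback.hom := by
        apply pullback.hom_ext
        · rw [pullback.lift_fst, hpb.isoPullback_hom_fst]
        · rw [pullback.lift_snd, hpb.isoPullback_hom_snd]
      rw [this]
      infer_instance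
    refine Groth.Agent.S7488.epi_repMap_of_fppf _ ?_ ?_ ?_
    · show Flat (pullback.lift (ιP ≫ G.t) (ιP ≫ G.s) w')
      infer_instance
    · show Surjective (pullback.lift (ιP ≫ G.t) (ιP ≫ G.s) w')
      infer_instance
    · show LocallyOfFinitePresentation (pullback.lift (ιP ≫ G.t) (ιP ≫ G.s) w')
      infer_instance

end Groth.Agent.S10140
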