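import Groth.Statements.S9501
-- import your own Groth.Agent.* helpers here

set_option autoImplicit false
universe u
open SchMor

namespace Groth.Agent.S9501

section helpers

open AlgebraicGeometry CategoryTheory Limits

/-- transport `germ_stalkClosedPointTo_Spec_fromSpecStalk` along an equality of morphisms -/
theorem germ_stalkClosedPointTo_of_eq {X : Scheme.{u}} {R : CommRingCat.{u}} [IsLocalRing R]
    {x : X} (π : X.presheaf.stalk x ⟶ R) [IsLocalHom π.hom] (g : Spec R ⟶ X)
    (e : g = Spec.map π ≫ X.fromSpecStalk x) (U : X.Opens) (hU : g (IsLocalRing.closedPoint R) ∈ U)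
    (hxU : x ∈ U) (t : Γ(X, U)) :
    Scheme.stalkClosedPointTo g (X.presheaf.germ U _ hU t) = π (X.presheaf.germ U x hxU t) := by
  subst e
  exact congr($(Scheme.germ_stalkClosedPointTo_Spec_fromSpecStalk π U hU) t)

theorem germ_eq_zero_of_eq {X : Scheme.{u}} (V : X.Opens) (y z : X) (hzy : z = y) (hy : y ∈ V)
    (hz : z ∈ V) (w : Γ(X, V)) (h : X.presheaf.germ V y hy w = 0) :
    X.presheaf.germ V z hz w = 0 := by
  subst hzy
  exact h

theorem ker_le {X S : Scheme.{u}} (f : X ⟶ S) (s : S) (y : ↥(f.fiber s)) :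
    RingHom.ker ((f.fiberι s).stalkMap y).hom ≤
      Ideal.map (f.stalkMap ((f.fiberι s) y)).hom
        (IsLocalRing.maximalIdeal (S.presheaf.stalk (f ((f.fiberι s) y)))) := by
  set ι := f.fiberι s with hι
  set x := ι y with hx
  have hs : f x = s := by
    have : x ∈ Set.range ι := ⟨y, rfl⟩
    rw [hι, f.range_fiberι s] at this
    exact this
  set φ := f.stalkMap x with hφ
  set m := IsLocalRing.maximalIdeal (S.presheaf.stalk (f x)) with hm
  set J := Ideal.map φ.hom m with hJ
  have hloc : IsLocalHom φ.hom := inferInstanceAs (IsLocalHom (f.stalkMap x).hom)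
  have hJle : J ≤ IsLocalRing.maximalIdeal (X.presheaf.stalk x) :=
    ((IsLocalRing.local_hom_TFAE φ.hom).out 0 2).mp hloc
  have hJne : J ≠ ⊤ := fun h =>
    (inferInstance : (IsLocalRing.maximalIdeal (X.presheaf.stalk x)).IsMaximal).ne_top
      (top_le_iff.mp (h ▸ hJle))
  have : Nontrivial (X.presheaf.stalk x ⧸ J) := Ideal.Quotient.nontrivial_iff.mpr hJne
  have : IsLocalRing (X.presheaf.stalk x ⧸ J) :=
    IsLocalRing.of_surjective' (Ideal.Quotient.mk J) Ideal.Quotient.mk_surjective
  let C : CommRingCat.{u} := CommRingCat.of (X.presheaf.stalk x ⧸ J)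
  have : IsLocalRing C := inferInstanceAs (IsLocalRing (X.presheaf.stalk x ⧸ J))
  let π : X.presheaf.stalk x ⟶ C := CommRingCat.ofHom (Ideal.Quotient.mk J)
  have : IsLocalHom π.hom := IsLocalHom.of_surjective _ Ideal.Quotient.mk_surjective
  let c : S.residueField (f x) ⟶ C := CommRingCat.ofHom
    (Ideal.Quotient.lift m ((Ideal.Quotient.mk J).comp φ.hom) (by
      intro a ha
      rw [RingHom.comp_apply, Ideal.Quotient.eq_zero_iff_mem]
      exact Ideal.mem_map_of_mem _ ha))
  have hc : S.residue (f x) ≫ c = φ ≫ π := by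
    ext a
    rfl
  let g₁ : Spec C ⟶ X := Spec.map π ≫ X.fromSpecStalk x
  let g₂ : Spec C ⟶ Spec (S.residueField s) := Spec.map ((S.residueFieldCongr hs.symm).hom ≫ c)
  have hg : g₁ ≫ f = g₂ ≫ S.fromSpecResidueField s := by
    simp only [g₁, g₂, Category.assoc, Spec.map_comp,
      Scheme.residueFieldCongr_fromSpecResidueField]
    rw [Scheme.fromSpecResidueField, ← Spec.map_comp_assoc, hc, Spec.map_comp_assoc,
      Scheme.SpecMap_stalkMap_fromSpecStalk]
  let h : Spec C ⟶ f.fiber s := pullback.lift g₁ g₂ hg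
  have hh : h ≫ ι = Spec.map π ≫ X.fromSpecStalk x := pullback.lift_fst _ _ _
  have hy' : h (IsLocalRing.closedPoint C) = y := by
    apply ι.isEmbedding.injective
    rw [← Scheme.Hom.comp_apply, hh, Scheme.Hom.comp_apply, Spec_closedPoint,
      Scheme.fromSpecStalk_closedPoint]
  intro a ha
  rw [RingHom.mem_ker] at ha
  obtain ⟨U, hxU, t, rfl⟩ := X.presheaf.exists_germ_eq a
  have hU' : (h ≫ ι) (IsLocalRing.closedPoint C) ∈ U := by
    rw [Scheme.Hom.comp_apply, hy']; exact hxU
  have key := germ_stalkClosedPointTo_of_eq π (h ≫ ι) hh U hU' hxU t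
  rw [Scheme.stalkClosedPointTo_comp] at key
  have hU'' : ι (h (IsLocalRing.closedPoint C)) ∈ U := hU'
  have h0 : ι.stalkMap (h (IsLocalRing.closedPoint C))
      (X.presheaf.germ U (ι (h (IsLocalRing.closedPoint C))) hU'' t) = 0 := by
    rw [Scheme.Hom.germ_stalkMap_apply]
    rw [Scheme.Hom.germ_stalkMap_apply] at ha
    exact germ_eq_zero_of_eq _ y _ hy' _ _ _ ha
  have h1 : π (X.presheaf.germ U x hxU t) = 0 := by
    rw [← key]
    change (Scheme.stalkClosedPointTo h) (ι.stalkMap (h (IsLocalRing.closedPoint C))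
      (X.presheaf.germ U (ι (h (IsLocalRing.closedPoint C))) hU'' t)) = 0
    rw [h0, map_zero]
  exact Ideal.Quotient.eq_zero_iff_mem.mp h1

/-- Non-units in a stalk of the spectrum of a field vanish. -/
theorem eq_zero_of_not_isUnit_stalk_Spec_field (K : CommRingCat.{u})
    (hK : ∀ a : K, a = 0 ∨ IsUnit a) (z : Spec K)
    (w : (Spec.structureSheaf K).presheaf.stalk z) (hw : ¬ IsUnit w) : w = 0 := by
  have hloc : IsLocalization.AtPrime ((Spec.structureSheaf K).presheaf.stalk z) z.asIdeal :=
    inferInstance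
  obtain ⟨a, u, rfl⟩ := IsLocalization.exists_mk'_eq z.asIdeal.primeCompl
    (S := ((Spec.structureSheaf K).presheaf.stalk z)) w
  rcases hK a with ha | hau
  · subst ha
    exact IsLocalization.mk'_zero _
  · exfalso
    apply hw
    have h1 : IsUnit (algebraMap K ((Spec.structureSheaf K).presheaf.stalk z) a) := hau.map _
    have h2 : IsLocalization.mk' ((Spec.structureSheaf K).presheaf.stalk z) a u *
        algebraMap K ((Spec.structureSheaf K).presheaf.stalk z) u = algebraMap K _ a :=
      IsLocalization.mk'_spec _ _ _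
    exact isUnit_of_mul_isUnit_left (h2 ▸ h1)

theorem le_ker {X S : Scheme.{u}} (f : X ⟶ S) (s : S) (y : ↥(f.fiber s)) :
    Ideal.map (f.stalkMap ((f.fiberι s) y)).hom
        (IsLocalRing.maximalIdeal (S.presheaf.stalk (f ((f.fiberι s) y)))) ≤
    RingHom.ker ((f.fiberι s).stalkMap y).hom := by
  rw [Ideal.map_le_iff_le_comap]
  intro b hb
  rw [Ideal.mem_comap, RingHom.mem_ker]
  have e : f.fiberι s ≫ f = f.fiberToSpecResidueField s ≫ S.fromSpecResidueField s :=
    f.fiber_fac s
  have h1 : ((f.fiberι s).stalkMap y).hom ((f.stalkMap ((f.fiberι s) y)).hom b) =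
      (f.fiberι s ≫ f).stalkMap y b := by
    rw [Scheme.Hom.stalkMap_comp]; rfl
  rw [h1, Scheme.Hom.stalkMap_congr_hom _ _ e, Scheme.Hom.stalkMap_comp]
  set σ := (S.presheaf.stalkCongr (.of_eq (e ▸ rfl :
    (f.fiberι s ≫ f) y = (f.fiberToSpecResidueField s ≫ S.fromSpecResidueField s) y))) with hσ
  have hbnu : ¬ IsUnit b := (IsLocalRing.mem_maximalIdeal _).mp hb
  have hσloc : IsLocalHom σ.hom.hom := isLocalHom_of_iso σ
  have hb'nu : ¬ IsUnit (σ.hom b) := fun hu => hbnu (hσloc.map_nonunit b hu)
  have hloc : IsLocalHom ((S.fromSpecResidueField s).stalkMap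
      (f.fiberToSpecResidueField s y)).hom := inferInstance
  have hw : ¬ IsUnit ((S.fromSpecResidueField s).stalkMap (f.fiberToSpecResidueField s y)
      (σ.hom b)) := fun hu => hb'nu (hloc.map_nonunit _ hu)
  have hK : ∀ a : S.residueField s, a = 0 ∨ IsUnit a := fun a =>
    (eq_or_ne a 0).imp id (fun h => isUnit_iff_ne_zero.mpr h)
  have hw0 : ((S.fromSpecResidueField s).stalkMap (f.fiberToSpecResidueField s y) (σ.hom b)) =
      (0 : (Spec (S.residueField s)).presheaf.stalk (f.fiberToSpecResidueField s y)) :=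
    eq_zero_of_not_isUnit_stalk_Spec_field _ hK _ _ hw
  change (f.fiberToSpecResidueField s).stalkMap y
    ((S.fromSpecResidueField s).stalkMap (f.fiberToSpecResidueField s y) (σ.hom b)) = 0
  rw [hw0, map_zero]

end helpers

open AlgebraicGeometry in
open CategoryTheory in
/-- Let f : X → S be a morphism of schemes, s a point of S and y a point of the fibre X_s = X ×_S Spec
κ(s), mapping to the point x of X (so that f(x) = s). Then the homomorphism of local rings O_{X,x} →
O_{X_s,y} induced by the projection X_s → X is surjective, with kernel the ideal generated by the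
image of the maximal ideal of O_{S,f(x)}; in other words O_{X_s,y} is identified with O_{X,x}/m_s
O_{X,x} = O_{X,x} ⊗_{O_{S,s}} κ(s). -/
theorem result
    {X S : Scheme.{u}} (f : X ⟶ S) (s : S) (y : ↥(f.fiber s)) :
    Function.Surjective ((f.fiberι s).stalkMap y).hom ∧
      RingHom.ker ((f.fiberι s).stalkMap y).hom =
        Ideal.map (f.stalkMap ((f.fiberι s).base y)).hom
          (IsLocalRing.maximalIdeal (S.presheaf.stalk (f.base ((f.fiberι s).base y)))) := by
  refine ⟨(f.fiberι s).stalkMap_surjective y, le_antisymm (ker_le f s y) (le_ker f s y)⟩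

end Groth.Agent.S9501
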