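import Groth.Statements.S10139
import Groth.Agent.Lib.Helper24.EqvSlice5

set_option autoImplicit false
universe u
open CategoryTheory CategoryTheory.Limits AlgebraicGeometry
open AlgSp

namespace Groth.Agent.S10139

open CategoryTheory CategoryTheory.Limits AlgebraicGeometry
open AlgSp
open Groth.Agent.Lib.Helper24.EqvSlice

set_option backward.isDefEq.respectTransparency.types false in

/-- Take an equivalence relation `j : R ⟶ U ×_S U` of schemes over `S`, with `s, t` flat and locally of
finite presentation. Then there exist an equivalence relation `j' : R' ⟶ U' ×_S U'` on schemes over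
`S` with `s', t'` flat, locally of finite presentation and locally quasi-finite, and a morphism `U'
⟶ U` mapping `R'` into `R` which induces an isomorphism of fppf quotient sheaves `U'/R' ⟶ U/R`. -/
theorem result (S : Scheme.{u}) {R U : Over S} (s t : R ⟶ U)
    (h : AlgSp.IsEqvRel s t) [Flat s.left] [LocallyOfFinitePresentation s.left]
    [Flat t.left] [LocallyOfFinitePresentation t.left] :
    ∃ (R' U' : Over S) (s' t' : R' ⟶ U') (g : U' ⟶ U) (r : R' ⟶ R)
      (ψ : QuotSh.quot Scheme.fppfPrecoverage s' t' ⟶ QuotSh.quot Scheme.fppfPrecoverage s t),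
      AlgSp.IsEqvRel s' t' ∧ r ≫ s = s' ≫ g ∧ r ≫ t = t' ≫ g ∧
      Flat s'.left ∧ LocallyOfFinitePresentation s'.left ∧ LocallyQuasiFinite s'.left ∧
      Flat t'.left ∧ LocallyOfFinitePresentation t'.left ∧ LocallyQuasiFinite t'.left ∧
      QuotSh.quotπ Scheme.fppfPrecoverage s' t' ≫ ψ = QuotSh.repMap Scheme.fppfPrecoverage g ≫ QuotSh.quotπ Scheme.fppfPrecoverage s t ∧ IsIso ψ := by
  obtain ⟨O, hsurj, hcm1, hcm2⟩ := exists_cm_restriction h
  have hE1 := isEqvRel_res s t (opensι O) h
  have hfl1 : Flat (hres s t (opensι O)) := by unfold hres; infer_instance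
  have hlfp1 : LocallyOfFinitePresentation (hres s t (opensι O)) := by unfold hres; infer_instance
  have : LocallyOfFinitePresentation (sres s t (opensι O)).left :=
    prop_sres s t (opensι O) @LocallyOfFinitePresentation hlfp1
  have : LocallyOfFinitePresentation (tres s t (opensι O)).left :=
    prop_tres s t (opensι O) h @LocallyOfFinitePresentation hlfp1
  have iso1 := isIso_ψres s t (opensι O) h
  obtain ⟨U', g2, hfl, hlfp, hlqf, hsurj2⟩ := exists_lqf_slice_of_cm hE1 hcm1 hcm2
  have iso2 := isIso_ψres (sres s t (opensι O)) (tres s t (opensι O)) g2 hE1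
  refine ⟨Rres (sres s t (opensι O)) (tres s t (opensι O)) g2, U',
    sres (sres s t (opensι O)) (tres s t (opensι O)) g2,
    tres (sres s t (opensι O)) (tres s t (opensι O)) g2, g2 ≫ opensι O,
    rres (sres s t (opensι O)) (tres s t (opensι O)) g2 ≫ rres s t (opensι O),
    ψres (sres s t (opensι O)) (tres s t (opensι O)) g2 ≫ ψres s t (opensι O),
    isEqvRel_res _ _ g2 hE1, ?_, ?_,
    prop_sres _ _ g2 @Flat hfl, prop_sres _ _ g2 @LocallyOfFinitePresentation hlfp,
    prop_sres _ _ g2 @LocallyQuasiFinite hlqf,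
    prop_tres _ _ g2 hE1 @Flat hfl, prop_tres _ _ g2 hE1 @LocallyOfFinitePresentation hlfp,
    prop_tres _ _ g2 hE1 @LocallyQuasiFinite hlqf, ?_, inferInstance⟩
  · rw [Category.assoc, rres_s, ← Category.assoc, rres_s, Category.assoc]
  · rw [Category.assoc, rres_t, ← Category.assoc, rres_t, Category.assoc]
  · rw [← Category.assoc, quotπ_ψres, Category.assoc, quotπ_ψres, ← Category.assoc, ← repMap_comp]

end Groth.Agent.S10139
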