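import Groth.Statements.S9877
import Groth.Agent.Lib.Helper24.SrcLocal

set_option autoImplicit false
universe u
open CategoryTheory CategoryTheory.Limits AlgebraicGeometry
open AlgSp

namespace Groth.Agent.S9877

open CategoryTheory CategoryTheory.Limits AlgebraicGeometry Opposite
open AlgSp Groth.Agent.Lib.Helper14.AS Groth.Agent.Lib.Helper24.CoprodSp
open Groth.Agent.Lib.Helper24.DescSubsheaf

set_option backward.isDefEq.respectTransparency.types false in

/-- Let `F` be an fppf sheaf of sets over `S` and `F_i ⟶ F` a family of maps of sheaves such that each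
`F_i` is an algebraic space over `S`, each `F_i ⟶ F` is representable by open immersions, the
induced map from the coproduct `∐ F_i` (in sheaves) to `F` is a surjective map of sheaves, and `∐
F_i` is an algebraic space. Then `F` is an algebraic space over `S`. -/
theorem result (S : Scheme.{u}) (F : AlgSp.Sp S) {ι : Type u} (Fi : ι → AlgSp.Sp S)
    (f : ∀ i, Fi i ⟶ F) (halg : ∀ i, AlgSp.IsAlgSpace (Fi i))
    (hopen : ∀ i, AlgSp.RepWith @IsOpenImmersion (f i)) (c : Cofan Fi) (hc : IsColimit c)
    (hsurj : Sheaf.IsLocallySurjective (Cofan.IsColimit.desc hc f)) (hcop : AlgSp.IsAlgSpace c.pt) :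
    AlgSp.IsAlgSpace F := by
  choose T p hpe hps using fun i => (halg i).atlas
  obtain ⟨Q, hQ, -⟩ := existsUnique_desc_yon_sigmaOver T (fun i => p i ≫ f i)
  have hoe : ∀ i, RepWith @Etale (f i) := fun i =>
    repWith_mono (fun _ _ g (_ : IsOpenImmersion g) => (inferInstance : Etale g)) (hopen i)
  have he : RepWith @Etale Q :=
    Groth.Agent.Lib.Helper24.SrcLocal.repWith_of_source_cover Q T (sigmaOverι T)
      (fun i => inferInstance) (exists_mem_range_sigmaOverι T) @Etale (fun i => by
        rw [hQ i]
        exact (RepWith @Etale).comp_mem _ _ (hpe i) (hoe i))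
  have hs : RepWith @Surjective Q := by
    refine ⟨he.rep, fun {Z V} g fst snd sq => ?_⟩
    change Surjective snd.left
    refine ⟨fun z => ?_⟩
    have := hsurj
    obtain ⟨R, hR, hl⟩ := exists_cover_lift (Cofan.IsColimit.desc hc f) g
    obtain ⟨Z', w, hw, ⟨z', rfl⟩⟩ := exists_mem_range_of_mem_KS R hR z
    obtain ⟨m, hm⟩ := hl w hw
    obtain ⟨Z'', w', i, a, -, -, ⟨z'', rfl⟩, ha⟩ := exists_lift_locally hc m z'
    have hfac : c.inj i ≫ Cofan.IsColimit.desc hc f = f i := Cofan.IsColimit.fac hc f i
    have sq'' := (hps i).rep.isPullback a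
    have hsnd : Surjective ((hps i).rep.snd a).left := (hps i).property_snd a
    obtain ⟨w'', hw''⟩ := hsnd.surj z''
    have hcompat : ((hps i).rep.fst a ≫ (yon S).map (sigmaOverι T i)) ≫ Q =
        (yon S).map ((hps i).rep.snd a ≫ w' ≫ w) ≫ g := by
      rw [Category.assoc, hQ i, ← Category.assoc, sq''.w, Category.assoc, ← hfac,
        ← Category.assoc a, ha, Functor.map_comp, Functor.map_comp, Category.assoc,
        Category.assoc, Category.assoc, hm]
    let k : (hps i).rep.pullback a ⟶ V := (yon S).preimage (sq.lift _ _ hcompat)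
    have hk : k ≫ snd = (hps i).rep.snd a ≫ w' ≫ w := by
      apply (yon S).map_injective
      rw [Functor.map_comp, Functor.map_preimage]
      exact sq.lift_snd _ _ _
    refine ⟨k.left w'', ?_⟩
    change (k ≫ snd).left w'' = _
    rw [hk]
    change w.left (w'.left (((hps i).rep.snd a).left w'')) = _
    rw [hw'']
  exact Groth.Agent.Lib.Helper24.AtlasDiag.isAlgSpace_of_atlas Q he hs

end Groth.Agent.S9877
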