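import Groth.Statements.S1489
import Mathlib
import Groth.Agent.Lib.Helper11.FormalEtale

set_option autoImplicit false
universe u
open FlatMor

namespace Groth.Agent.S1489

section helpers
open FlatMor

open AlgebraicGeometry CategoryTheory Limits

theorem main {X S : Scheme.{u}} (f : X ⟶ S) :
    Etale f ↔ LocallyOfFinitePresentation f ∧ MoreMor.IsFormallyEtaleHom f := by
  constructor
  · intro hf
    refine ⟨inferInstance, ?_⟩
    apply Groth.Agent.Lib.Helper11.FormalEtale.isFormallyEtaleHom_of_formallyEtale_appLE
    intro U V hU hV hUV
    have h := hf.etale_appLE hV hU hUV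
    letI := (f.appLE V U hUV).hom.toAlgebra
    have h' : Algebra.Etale Γ(S, V) Γ(X, U) := h
    exact h'.formallyEtale
  · rintro ⟨hfp, hfe⟩
    refine ⟨fun {V} hV {U} hU hUV => ?_⟩
    have h1 := Groth.Agent.Lib.Helper11.FormalEtale.formallyEtale_appLE_of_isFormallyEtaleHom f hfe U V hU hV hUV
    have h2 := hfp.finitePresentation_appLE hV hU hUV
    letI := (f.appLE V U hUV).hom.toAlgebra
    have h2' : Algebra.FinitePresentation Γ(S, V) Γ(X, U) := h2
    show Algebra.Etale Γ(S, V) Γ(X, U)
    exact ⟨h1, h2'⟩

end helpers

open AlgebraicGeometry CategoryTheory Limits in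
/-- A morphism f : X → S is étale if and only if it is locally of finite presentation and formally
étale, i.e. has the unique lifting property against first order thickenings of affine schemes (rings
in the same universe). -/
theorem result {X S : Scheme.{u}} (f : X ⟶ S) :
    Etale f ↔ LocallyOfFinitePresentation f ∧ MoreMor.IsFormallyEtaleHom f := by
  exact main f

end Groth.Agent.S1489
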