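import Groth.Statements.S1516
import Mathlib
import Groth.Agent.Lib.Helper11.FormalEtale

set_option autoImplicit false
universe u
open FlatMor

namespace Groth.Agent.S1516

section helpers
open FlatMor

open CategoryTheory AlgebraicGeometry Groth.Agent.Lib.Helper11.FormalEtale

theorem exists_lift_of_isAffine {X S : Scheme.{u}} (f : X ⟶ S) (hf : MoreMor.IsFormallyEtaleHom f)
    {T T' : Scheme.{u}} [IsAffine T'] (t : T ⟶ T') [IsClosedImmersion t]
    (hker : t.ker * t.ker = ⊥)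
    (a : T ⟶ X) (b : T' ⟶ S) (w : t ≫ b = a ≫ f) :
    ∃ l : T' ⟶ X, t ≫ l = a ∧ l ≫ f = b := by
  obtain ⟨hT, hφ⟩ := IsClosedImmersion.isAffine_surjective_of_isAffine t
  set φ : Γ(T', ⊤) →+* Γ(T, ⊤) := t.appTop.hom with hφdef
  set I : Ideal Γ(T', ⊤) := RingHom.ker φ with hIdef
  have hI : I ^ 2 = ⊥ := by
    have h1 := congrArg (fun J => J.ideal ⟨⊤, isAffineOpen_top T'⟩) hker
    simp only [Scheme.IdealSheafData.ideal_mul, Pi.mul_apply, Scheme.Hom.ker_apply,
      Scheme.IdealSheafData.ideal_bot, Pi.bot_apply] at h1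
    rw [pow_two]
    exact h1
  let e : (Γ(T', ⊤) ⧸ I) ≃+* Γ(T, ⊤) := RingHom.quotientKerEquivOfSurjective hφ
  have he : e.toRingHom.comp (Ideal.Quotient.mk I) = φ := by
    ext x
    rfl
  have he' : e.symm.toRingHom.comp φ = Ideal.Quotient.mk I := by
    rw [← he]
    ext x
    simp
  let a' : Spec (CommRingCat.of (Γ(T', ⊤) ⧸ I)) ⟶ X :=
    Spec.map (CommRingCat.ofHom e.symm.toRingHom) ≫ T.isoSpec.inv ≫ a
  let b' : Spec (CommRingCat.of Γ(T', ⊤)) ⟶ S := T'.isoSpec.inv ≫ b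
  have w' : Spec.map (CommRingCat.ofHom (Ideal.Quotient.mk I)) ≫ b' = a' ≫ f := by
    simp only [a', b', Category.assoc]
    rw [← w, ← Scheme.isoSpec_inv_naturality_assoc, ← Spec.map_comp_assoc]
    congr 2
    ext x
    exact (congrArg (fun g => g x) he').symm
  obtain ⟨l', ⟨hl1, hl2⟩, -⟩ := hf Γ(T', ⊤) I hI a' b' w'
  refine ⟨T'.isoSpec.hom ≫ l', ?_, ?_⟩
  · rw [← Scheme.isoSpec_hom_naturality_assoc]
    have h2 : Spec.map t.appTop = Spec.map (CommRingCat.ofHom e.toRingHom) ≫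
        Spec.map (CommRingCat.ofHom (Ideal.Quotient.mk I)) := by
      rw [← Spec.map_comp]
      congr 1
    rw [h2, Category.assoc, hl1]
    simp only [a']
    rw [← Spec.map_comp_assoc]
    have h3 : CommRingCat.ofHom e.symm.toRingHom ≫ CommRingCat.ofHom e.toRingHom = 𝟙 _ := by
      ext x
      simp
    rw [h3]
    simp
  · rw [Category.assoc, hl2]
    simp [b']

theorem ker_morphismRestrict_sq {T T' : Scheme.{u}} (t : T ⟶ T') [QuasiCompact t]
    (hker : t.ker * t.ker = ⊥) (W : T'.Opens) :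
    (t ∣_ W).ker * (t ∣_ W).ker = ⊥ := by
  ext V : 2
  simp only [Scheme.IdealSheafData.ideal_mul, Pi.mul_apply, Scheme.IdealSheafData.ideal_bot,
    Pi.bot_apply]
  rw [Scheme.ker_morphismRestrict_ideal]
  have := congrArg (fun J => J.ideal ⟨W.ι ''ᵁ V, V.2.image_of_isOpenImmersion _⟩) hker
  simp only [Scheme.IdealSheafData.ideal_mul, Pi.mul_apply, Scheme.IdealSheafData.ideal_bot,
    Pi.bot_apply] at this
  exact this

theorem morphismRestrict_homOfLE {T T' : Scheme.{u}} (t : T ⟶ T') {W W' : T'.Opens} (h : W ≤ W') :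
    (t ∣_ W) ≫ T'.homOfLE h = T.homOfLE (t.preimage_mono h) ≫ (t ∣_ W') := by
  rw [← cancel_mono W'.ι]
  simp [morphismRestrict_ι]

theorem main {X S : Scheme.{u}} (f : X ⟶ S) (hf : MoreMor.IsFormallyEtaleHom f)
    {T T' : Scheme.{u}} (t : T ⟶ T') (ht : MoreMor.IsFirstOrderThickening t) (a : T ⟶ X)
    (b : T' ⟶ S) (w : t ≫ b = a ≫ f) :
    ∃! l : T' ⟶ X, t ≫ l = a ∧ l ≫ f = b := by
  obtain ⟨⟨hci, -⟩, hker⟩ := ht
  have hunr : FormallyUnramified f := by
    refine ⟨fun {V} hV {U} hU hUV => ?_⟩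
    have := formallyEtale_appLE_of_isFormallyEtaleHom f hf U V hU hV hUV
    letI := (f.appLE V U hUV).hom.toAlgebra
    show Algebra.FormallyUnramified Γ(S, V) Γ(X, U)
    infer_instance
  have hnil : ∀ W : T'.Opens, IsNilpotent (t ∣_ W).ker := fun W =>
    ⟨2, by rw [pow_two]; exact ker_morphismRestrict_sq t hker W⟩
  have hloc : ∀ W : T'.affineOpens, ∃ l : W.1.toScheme ⟶ X,
      (t ∣_ W.1) ≫ l = (t ⁻¹ᵁ W.1).ι ≫ a ∧ l ≫ f = W.1.ι ≫ b := by
    intro W
    haveI : IsAffine W.1.toScheme := W.2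
    apply exists_lift_of_isAffine f hf (t ∣_ W.1) (ker_morphismRestrict_sq t hker W.1)
    rw [← Category.assoc, morphismRestrict_ι, Category.assoc, w, Category.assoc]
  choose g hg1 hg2 using hloc
  have hcompat : ∀ {W W' : T'.affineOpens} (h : W ≤ W'), T'.homOfLE h ≫ g W' = g W := by
    intro W W' h
    apply FormallyUnramified.hom_ext (t ∣_ W.1) (hnil W.1) f
    · rw [← Category.assoc, morphismRestrict_homOfLE, Category.assoc, hg1, hg1]
      simp
    · rw [Category.assoc, hg2, hg2]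
      simp
  let l : T' ⟶ X := T'.directedAffineCover.glueMorphismsOfLocallyDirected g
    (fun {i j} hij => hcompat hij.le)
  have hl : ∀ W : T'.affineOpens, W.1.ι ≫ l = g W := fun W =>
    T'.directedAffineCover.map_glueMorphismsOfLocallyDirected g _ W
  have h1 : t ≫ l = a := by
    refine Scheme.hom_ext_of_forall _ _ fun x => ?_
    obtain ⟨_, ⟨W, hW, rfl⟩, hxW, -⟩ :=
      T'.isBasis_affineOpens.exists_subset_of_mem_open (Set.mem_univ (t x)) isOpen_univ
    refine ⟨t ⁻¹ᵁ W, hxW, ?_⟩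
    rw [← morphismRestrict_ι_assoc, hl ⟨W, hW⟩, hg1 ⟨W, hW⟩]
  have h2 : l ≫ f = b := by
    refine T'.directedAffineCover.hom_ext _ _ fun W => ?_
    show W.1.ι ≫ l ≫ f = W.1.ι ≫ b
    rw [← Category.assoc, hl W, hg2 W]
  refine ⟨l, ⟨h1, h2⟩, ?_⟩
  rintro l' ⟨h1', h2'⟩
  exact FormallyUnramified.hom_ext t ⟨2, by rw [pow_two]; exact hker⟩ f (h1'.trans h1.symm)
    (h2'.trans h2.symm)

end helpers

open AlgebraicGeometry CategoryTheory Limits in
/-- Let f : X → S be formally étale (unique infinitesimal lifting against first order thickenings of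
affine schemes). Then for every first order thickening t : T → T' of schemes and every commutative
square with T → X on top and T' → S at the bottom there is exactly one lift T' → X. -/
theorem result {X S : Scheme.{u}} (f : X ⟶ S) (hf : MoreMor.IsFormallyEtaleHom f)
    {T T' : Scheme.{u}} (t : T ⟶ T') (ht : MoreMor.IsFirstOrderThickening t) (a : T ⟶ X) (b : T' ⟶ S) (w : t ≫ b = a ≫ f) :
    ∃! l : T' ⟶ X, t ≫ l = a ∧ l ≫ f = b := by
  exact main f hf t ht a b w

end Groth.Agent.S1516
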