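import Groth.Statements.S10096
import Groth.Agent.Lib.Helper14.FpqcBase4

set_option autoImplicit false
universe u
open CategoryTheory CategoryTheory.Limits AlgebraicGeometry
open AlgSp

namespace Groth.Agent.S10096

/-- Let `a : F ⟶ G` be a map of fppf sheaves of sets over `S` that is flat, surjective, locally of
finite presentation and representable by algebraic spaces (every base change `h_U ×_G F ⟶ h_U` to a
scheme is such a morphism of algebraic spaces). Then `a` is surjective as a map of sheaves (an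
epimorphism of fppf sheaves). -/
theorem result (S : Scheme.{u}) (F G : AlgSp.Sp S) (a : F ⟶ G)
    (ha : AlgSp.RepBySpWith (AlgSp.IsSurjectiveMor ⊓ AlgSp.LocP @Flat ⊓ AlgSp.LocP @LocallyOfFinitePresentation) a.hom) :
    Epi a := by
  rw [AlgSp.repBySpWith_hom_iff] at ha
  refine (Sheaf.isLocallySurjective_iff_epi _).1
    (Groth.Agent.Lib.Helper14.AS.isLocallySurjective_of_cover_lift a fun U g => ?_)
  have sq := IsPullback.of_hasPullback a g
  obtain ⟨hP, ⟨⟨hs, hfl⟩, hfp⟩⟩ := ha g _ _ sq
  obtain ⟨W, c, hce, hcs⟩ := hP.atlas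
  obtain ⟨p, hp⟩ := (AlgSp.yon S).map_surjective (c ≫ pullback.snd a g)
  have hcomm : c ≫ pullback.snd a g = (AlgSp.yon S).map p ≫ 𝟙 _ := by rw [hp, Category.comp_id]
  have hpf : Flat p.left := hfl c (𝟙 _) p hce (AlgSp.repWith_id _ U) hcomm
  have hpp : LocallyOfFinitePresentation p.left := hfp c (𝟙 _) p hce (AlgSp.repWith_id _ U) hcomm
  have hps : Surjective p.left := by
    refine ⟨fun u => ?_⟩
    obtain ⟨z, hz⟩ := hs (AlgSp.Points.schemeHomeo U u)
    obtain ⟨w, rfl⟩ := Groth.Agent.Lib.Helper14.AS.ofPt_surjective_of_repWith hcs z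
    refine ⟨w, ?_⟩
    apply (AlgSp.Points.schemeHomeo U).injective
    rw [← AlgSp.Points.map_yon_map_apply, hp, AlgSp.Points.map_comp, ← hz]
    rfl
  refine ⟨Presieve.singleton p, Groth.Agent.Lib.Helper14.AS.singleton_mem_KS p, ?_⟩
  rintro W' w ⟨⟩
  exact ⟨c ≫ pullback.fst a g, by rw [Category.assoc, sq.w, ← Category.assoc, hp]⟩

end Groth.Agent.S10096
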