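import Groth.Statements.S9412
import Mathlib.RingTheory.Localization.LocalizationLocalization
import Mathlib.RingTheory.Localization.BaseChange
import Mathlib.Tactic
-- import your own Groth.Agent.* helpers here

set_option autoImplicit false
universe u
open EGA4

namespace Groth.Agent.S9412

open TensorProduct

theorem normal_of_isLocalization (S T : Type u) [CommRing S] [CommRing T] [Algebra S T]
    (N : Submonoid S) [IsLocalization N T] (h : EGA4.IsNormalRing S) : EGA4.IsNormalRing T := by
  intro q hq
  haveI hpp : (q.comap (algebraMap S T)).IsPrime := Ideal.comap_isPrime _ q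
  haveI hloc : IsLocalization.AtPrime (Localization.AtPrime q) (q.comap (algebraMap S T)) :=
    IsLocalization.isLocalization_isLocalization_atPrime_isLocalization N _ q
  let e : Localization.AtPrime (q.comap (algebraMap S T)) ≃ₐ[S] Localization.AtPrime q :=
    IsLocalization.algEquiv (q.comap (algebraMap S T)).primeCompl _ _
  obtain ⟨h1, h2⟩ := h (q.comap (algebraMap S T))
  refine ⟨?_, ?_⟩
  · exact e.symm.toMulEquiv.isDomain (Localization.AtPrime (q.comap (algebraMap S T)))
  · exact IsIntegrallyClosed.of_equiv e.toRingEquiv

theorem normal_of_ringEquiv (S T : Type u) [CommRing S] [CommRing T] (e : S ≃+* T)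
    (h : EGA4.IsNormalRing S) : EGA4.IsNormalRing T := by
  letI : Algebra S T := e.toRingHom.toAlgebra
  haveI : IsLocalization (⊥ : Submonoid S) S :=
    IsLocalization.self (by rintro x hx; rw [Submonoid.mem_bot] at hx; subst hx; exact isUnit_one)
  have e' : S ≃ₐ[S] T := { e with commutes' := fun r => rfl }
  haveI : IsLocalization (⊥ : Submonoid S) T := IsLocalization.isLocalization_of_algEquiv _ e'
  exact normal_of_isLocalization S T ⊥ h

/-- A localization of a geometrically normal algebra over a field k is geometrically normal over k. -/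
theorem result (k : Type u) [Field k] (A : Type u) [CommRing A]
    [Algebra k A] (M : Submonoid A) (B : Type u) [CommRing B] [Algebra A B] [IsLocalization M B]
    [Algebra k B] [IsScalarTower k A B] (h : EGA4.IsGeomNormal k A) :
    EGA4.IsGeomNormal k B := by
  intro k' _ _ hfin
  have h1 := h k' hfin
  have h2 : EGA4.IsNormalRing (A ⊗[k] k') :=
    normal_of_ringEquiv _ _ (Algebra.TensorProduct.comm k k' A).toRingEquiv h1
  letI : Algebra (A ⊗[k] k') (B ⊗[k] k') :=
    (Algebra.TensorProduct.map (IsScalarTower.toAlgHom k A B) (AlgHom.id k k')).toRingHom.toAlgebra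
  haveI : IsScalarTower A (A ⊗[k] k') (B ⊗[k] k') := by
    refine IsScalarTower.of_algebraMap_eq fun a => ?_
    show algebraMap A B a ⊗ₜ[k] (1 : k') =
      Algebra.TensorProduct.map (IsScalarTower.toAlgHom k A B) (AlgHom.id k k') (a ⊗ₜ 1)
    simp
  have hpo : Algebra.IsPushout A B (A ⊗[k] k') (B ⊗[k] k') := by
    refine Algebra.IsPushout.tensorProduct_tensorProduct k k' A B ?_
    ext x
    simp [RingHom.algebraMap_toAlgebra]
  haveI : IsLocalization (Algebra.algebraMapSubmonoid (A ⊗[k] k') M) (B ⊗[k] k') :=
    (Algebra.isLocalization_iff_isPushout M B).mpr hpo.symm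
  have h3 : EGA4.IsNormalRing (B ⊗[k] k') := normal_of_isLocalization _ _ (Algebra.algebraMapSubmonoid (A ⊗[k] k') M) h2
  exact normal_of_ringEquiv _ _ (Algebra.TensorProduct.comm k B k').toRingEquiv h3

end Groth.Agent.S9412
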