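import Groth.Statements.S0346
import Mathlib
import Groth.Agent.Lib.Helper18.GrpShear

set_option autoImplicit false
universe u v
open CategoryTheory MonoidalCategory CartesianMonoidalCategory MonObj GrpObj AlgebraicGeometry
open GrpSch

namespace Groth.Agent.S0346

/-- A group scheme over any base scheme is separated over the base exactly when its unit section is a
closed immersion, and quasi-separated exactly when the unit section is quasi-compact. -/
theorem result (S : Scheme.{u}) (G : Over S) [GrpObj G] : (IsSeparated G.hom ↔ IsClosedImmersion η[G].left) ∧ (QuasiSeparated G.hom ↔ QuasiCompact η[G].left) := by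
  have hsq : IsPullback (lift (𝟙 G) (𝟙 G)).left (toUnit G).left
      (lift (fst G G ≫ ι[G]) (snd G G) ≫ μ[G]).left η[G].left :=
    (Groth.Agent.Lib.Helper18.GrpShear.isPullback_diag G).map (Over.forget S)
  have hdiag : (lift (𝟙 G) (𝟙 G)).left = Limits.pullback.diagonal G.hom := by
    apply Limits.pullback.hom_ext
    · rw [Over.lift_left, Limits.pullback.lift_fst, Limits.pullback.diagonal_fst]
      rfl
    · rw [Over.lift_left, Limits.pullback.lift_snd, Limits.pullback.diagonal_snd]
      rfl
  have hsec : η[G].left ≫ G.hom = 𝟙 _ := Over.w η[G]
  constructor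
  · constructor
    · intro h
      have : IsClosedImmersion (η[G].left ≫ G.hom) := by rw [hsec]; exact inferInstanceAs (IsClosedImmersion (𝟙 S))
      exact IsClosedImmersion.of_comp η[G].left G.hom
    · intro h
      refine ⟨?_⟩
      rw [← hdiag]
      exact MorphismProperty.of_isPullback (P := @IsClosedImmersion) hsq.flip h
  · constructor
    · intro h
      have : QuasiCompact (η[G].left ≫ G.hom) := by rw [hsec]; exact inferInstanceAs (QuasiCompact (𝟙 S))
      exact QuasiCompact.of_comp η[G].left G.hom
    · intro h
      refine ⟨?_⟩
      rw [← hdiag]
      exact MorphismProperty.of_isPullback (P := @QuasiCompact) hsq.flip h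

end Groth.Agent.S0346
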