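import Groth.Statements.S9810
import Groth.Agent.Helper19.BrnchProd
-- import your own Groth.Agent.* helpers here

set_option autoImplicit false
universe u
open Brnch

namespace Groth.Agent.S9810

open Groth.Agent.Helper19.BrnchLib Groth.Agent.Helper19.BrnchProd

section helpers

variable (A : Type u) [CommRing A]

instance : IsReduced (CAlg2.red A) :=
  (Ideal.isRadical_iff_quotient_reduced _).mp (Ideal.radical_isRadical _)

theorem minimalPrimes_eq_image :
    minimalPrimes A = Ideal.comap (Ideal.Quotient.mk (nilradical A)) '' minimalPrimes (CAlg2.red A) := by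
  rw [← Ideal.minimalPrimes_eq_comap]
  change (⊥ : Ideal A).minimalPrimes = (⊥ : Ideal A).radical.minimalPrimes
  rw [Ideal.radical_minimalPrimes]

theorem nilradical_le_of_mem {p : Ideal A} (hp : p ∈ minimalPrimes A) : nilradical A ≤ p := by
  have : p.IsPrime := hp.1.1
  exact nilradical_le_prime p

instance isPrime_nilradical_quotient (p : minimalPrimes A) :
    (nilradical (A ⧸ p.1)).IsPrime := by
  haveI : p.1.IsPrime := p.2.1.1
  rw [nilradical_eq_zero]
  exact Ideal.isPrime_bot

instance (p : minimalPrimes A) : IsDomain (CAlg2.red (A ⧸ p.1)) :=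
  Ideal.Quotient.isDomain _

/-- the projections `A_red → (A/p)_red` -/
noncomputable def gg (p : minimalPrimes A) : CAlg2.red A →+* CAlg2.red (A ⧸ p.1) :=
  Ideal.Quotient.lift (nilradical A)
    ((Ideal.Quotient.mk (nilradical (A ⧸ p.1))).comp (Ideal.Quotient.mk p.1))
    (fun a ha => by
      rw [RingHom.comp_apply, Ideal.Quotient.eq_zero_iff_mem.mpr (nilradical_le_of_mem A p.2 ha),
        map_zero])

theorem gg_mk (p : minimalPrimes A) (a : A) :
    gg A p (Ideal.Quotient.mk (nilradical A) a) =
      Ideal.Quotient.mk (nilradical (A ⧸ p.1)) (Ideal.Quotient.mk p.1 a) := rfl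

theorem gg_surjective (p : minimalPrimes A) : Function.Surjective (gg A p) := by
  intro z
  obtain ⟨y, rfl⟩ := Ideal.Quotient.mk_surjective z
  obtain ⟨a, rfl⟩ := Ideal.Quotient.mk_surjective y
  exact ⟨Ideal.Quotient.mk _ a, rfl⟩

theorem ker_gg (p : minimalPrimes A) :
    RingHom.ker (gg A p) = p.1.map (Ideal.Quotient.mk (nilradical A)) := by
  haveI : p.1.IsPrime := p.2.1.1
  ext x
  obtain ⟨a, rfl⟩ := Ideal.Quotient.mk_surjective x
  rw [RingHom.mem_ker, gg_mk, Ideal.Quotient.eq_zero_iff_mem, nilradical_eq_zero, Ideal.zero_eq_bot,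
    Ideal.mem_bot, Ideal.Quotient.eq_zero_iff_mem]
  constructor
  · intro ha
    exact Ideal.mem_map_of_mem _ ha
  · intro ha
    have h1 : a ∈ (p.1.map (Ideal.Quotient.mk (nilradical A))).comap (Ideal.Quotient.mk (nilradical A)) :=
      ha
    rw [Ideal.comap_map_of_surjective _ Ideal.Quotient.mk_surjective, ← RingHom.ker_eq_comap_bot,
      Ideal.mk_ker, sup_eq_left.mpr (nilradical_le_of_mem A p.2)] at h1
    exact h1

theorem comap_map_eq (p : minimalPrimes A) :
    (p.1.map (Ideal.Quotient.mk (nilradical A))).comap (Ideal.Quotient.mk (nilradical A)) = p.1 := by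
  rw [Ideal.comap_map_of_surjective _ Ideal.Quotient.mk_surjective, ← RingHom.ker_eq_comap_bot,
    Ideal.mk_ker, sup_eq_left.mpr (nilradical_le_of_mem A p.2)]

theorem cond_gg : Cond (gg A) where
  surj := gg_surjective A
  mem := fun p => by
    rw [ker_gg]
    have hp : p.1 ∈ Ideal.comap (Ideal.Quotient.mk (nilradical A)) '' minimalPrimes (CAlg2.red A) := by
      rw [← minimalPrimes_eq_image]
      exact p.2
    obtain ⟨q, hq, hqp⟩ := hp
    rw [← hqp, Ideal.map_comap_of_surjective _ Ideal.Quotient.mk_surjective]
    exact hq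
  inj := fun p p' hpp' => by
    have h1 : RingHom.ker (gg A p) = RingHom.ker (gg A p') := hpp'
    rw [ker_gg, ker_gg] at h1
    have h2 := congrArg (Ideal.comap (Ideal.Quotient.mk (nilradical A))) h1
    rw [comap_map_eq, comap_map_eq] at h2
    exact Subtype.ext h2
  all := fun q hq => by
    have hmem : q.comap (Ideal.Quotient.mk (nilradical A)) ∈ minimalPrimes A := by
      rw [minimalPrimes_eq_image]
      exact ⟨q, hq, rfl⟩
    refine ⟨⟨_, hmem⟩, ?_⟩
    rw [ker_gg]
    exact Ideal.map_comap_of_surjective _ Ideal.Quotient.mk_surjective q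

theorem numBranches_domain (p : minimalPrimes A) [IsLocalRing (A ⧸ p.1)] :
    Brnch.numBranches (A ⧸ p.1) = ENat.card (MaximalSpectrum (CAlg2.normRed (A ⧸ p.1))) := by
  classical
  haveI : p.1.IsPrime := p.2.1.1
  unfold Brnch.numBranches
  rw [if_pos]
  rw [IsDomain.minimalPrimes_eq_singleton_bot (A ⧸ p.1)]
  exact Set.finite_singleton _

end helpers

/-- Branches, in terms of the local ring: for a local ring A with finitely many minimal prime ideals,
the number of branches of A is the sum over the minimal primes p of the numbers of branches of the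
local domains A/p. Geometrically: the number of branches of a scheme at a point is the sum of the
numbers of branches at that point of the irreducible components passing through it. -/
theorem result (A : Type u) [CommRing A] [IsLocalRing A]
    (h : (minimalPrimes A).Finite) :
    Brnch.numBranches A =
      ∑ᶠ p : minimalPrimes A,
        haveI : p.1.IsPrime := p.2.1.1
        Brnch.numBranches (A ⧸ p.1) := by
  classical
  haveI : Fintype (minimalPrimes A) := h.fintype
  rw [finsum_eq_sum_of_fintype]
  unfold Brnch.numBranches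
  rw [if_pos h]
  have key := card_maximalSpectrum (cond_gg A)
  change ENat.card (MaximalSpectrum (CAlg2.normRed A)) = _ at key
  rw [key]
  refine Finset.sum_congr rfl fun p _ => ?_
  haveI : p.1.IsPrime := p.2.1.1
  have hfinp : (minimalPrimes (A ⧸ p.1)).Finite := by
    rw [IsDomain.minimalPrimes_eq_singleton_bot (A ⧸ p.1)]
    exact Set.finite_singleton _
  rw [if_pos hfinp]

end Groth.Agent.S9810
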