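import Groth.Statements.S9812
import Mathlib

set_option autoImplicit false
universe u
open CAlg2

namespace Groth.Agent.S9812


theorem surj_aux (A : Type u) [CommRing A] [IsDomain A] [IsIntegrallyClosed A] :
    IsDomain (CAlg2.red A) ∧ Function.Surjective
      ((algebraMap (CAlg2.red A) (CAlg2.normRed A)).comp (Ideal.Quotient.mk (nilradical A))) := by
  have hnil : nilradical A = ⊥ := nilradical_eq_zero A
  have hprime : (nilradical A).IsPrime := by rw [hnil]; exact Ideal.isPrime_bot
  have hdom : IsDomain (CAlg2.red A) := (Ideal.Quotient.isDomain_iff_prime _).2 hprime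
  refine ⟨hdom, ?_⟩
  let e : CAlg2.red A ≃+* A := (Ideal.quotEquivOfEq hnil).trans (RingEquiv.quotientBot A)
  have hic : IsIntegrallyClosed (CAlg2.red A) := IsIntegrallyClosed.of_equiv e.symm
  have hbot : integralClosure (CAlg2.red A) (FractionRing (CAlg2.red A)) = ⊥ :=
    IsIntegrallyClosed.integralClosure_eq_bot (CAlg2.red A) (FractionRing (CAlg2.red A))
  intro y
  have hy : (y : FractionRing (CAlg2.red A)) ∈ (⊥ : Subalgebra (CAlg2.red A) _) := by
    rw [← hbot]; exact y.2
  obtain ⟨r, hr⟩ := Algebra.mem_bot.1 hy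
  obtain ⟨a, rfl⟩ := Ideal.Quotient.mk_surjective r
  refine ⟨a, ?_⟩
  apply Subtype.ext
  rw [← hr]
  rfl

/-- At the level of the local ring: an integrally closed local domain is geometrically unibranch.
Consequently a normal scheme is geometrically unibranch. -/
theorem result (A : Type u) [CommRing A] [IsLocalRing A]
    [IsDomain A] [IsIntegrallyClosed A] : CAlg2.IsGeomUnibranch A := by
  obtain ⟨hdom, hsurj⟩ := surj_aux A
  refine ⟨⟨hdom, ?_⟩, ?_⟩
  · exact IsLocalRing.of_surjective' _ hsurj
  · intro m' _ x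
    obtain ⟨y, rfl⟩ := Ideal.Quotient.mk_surjective x
    obtain ⟨a, rfl⟩ := hsurj y
    refine ⟨0, ?_⟩
    rw [pow_zero, pow_one]
    exact ⟨a, rfl⟩

end Groth.Agent.S9812
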