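import Groth.Statements.S9237
import Mathlib
import Groth.Agent.Lib.Helper4.BrnchCount3
import Groth.Agent.Lib.Helper4.BrnchLocDom5
import Groth.Agent.Lib.Helper4.BrnchNormal
import Groth.Agent.Lib.Helper4.BrnchMin
import Groth.Agent.Lib.Helper4.HznProps

set_option autoImplicit false
universe u
open Brnch

namespace Groth.Agent.S9237

open Groth.Agent.Lib.Helper4 in
/-- Let A be a local ring and S a henselization of A. Then the number of minimal prime ideals of S, a
natural number or infinity, equals the number of branches of A as computed from the integral closure
of A_red in its total ring of fractions: infinity if A has infinitely many minimal primes, and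
otherwise the number of maximal ideals of that integral closure. -/
theorem result (A S : Type u) [CommRing A]
    [IsLocalRing A] [CommRing S] [IsLocalRing S] [Algebra A S] [IsLocalHom (algebraMap A S)]
    [Hensel.IsHenselization A S] :
    ENat.card (minimalPrimes S) = Brnch.numBranches A := by
  classical
  have hff : Module.FaithfullyFlat A S := Hzn.faithfullyFlat_of_isHenselization A S
  unfold Brnch.numBranches
  by_cases hfin : (minimalPrimes A).Finite
  · rw [if_pos hfin]
    have hint : Algebra.IsIntegral A (CAlg2.normRed A) := BrnchCount.isIntegral_normRed A
    have hH : HenselianLocalRing S := Hensel.IsHenselization.henselian A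
    have hGU : BrnchLocDom.LocGU (CAlg2.normRed A) := fun p _ =>
      ⟨(BrnchNormal.normRed_localization A hfin p).1,
        BrnchNormal.normRed_localization_isGeomUnibranch A hfin p⟩
    have hLD := BrnchLocDom.locDom_tensor_henselization A (CAlg2.normRed A) S hGU
    have h1 := ENat.card_congr (BrnchMin.bijOn_normRed_tensor A S).equiv
    have h2 := BrnchCount.card_minimalPrimes_eq_card_maximalSpectrum hLD
      (fun q hq => BrnchCount.existsUnique_isMaximal_ge A (CAlg2.normRed A) S q)
    have h3 := ENat.card_congr (Equiv.ofBijective (BrnchCount.contr A (CAlg2.normRed A) S)
      ⟨BrnchCount.contr_injective A (CAlg2.normRed A) S,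
        BrnchCount.contr_surjective A (CAlg2.normRed A) S⟩)
    rw [← h1, h2, h3]
  · rw [if_neg hfin]
    exact BrnchCount.card_minimalPrimes_eq_top_of_faithfullyFlat hfin

end Groth.Agent.S9237
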