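import Groth.Statements.S9238
import Mathlib
import Groth.Agent.Lib.Helper4.BrnchCount3
import Groth.Agent.Lib.Helper4.BrnchLocDom4
import Groth.Agent.Lib.Helper4.BrnchNormal
import Groth.Agent.Lib.Helper4.BrnchMin
import Groth.Agent.Lib.Helper4.HzsProps
import Groth.Agent.Lib.Helper4.BrnchEmb

set_option autoImplicit false
universe u
open Brnch

namespace Groth.Agent.S9238

open Groth.Agent.Lib.Helper4 in
/-- Let A be a local ring and S a strict henselization of A. Then the number of minimal prime ideals of
S, a natural number or infinity, equals the number of geometric branches of A as computed from the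
integral closure of A_red in its total ring of fractions (maximal ideals counted with multiplicity
the separable degree of their residue field over that of A; infinity if A has infinitely many
minimal primes). -/
theorem result (A S : Type u) [CommRing A]
    [IsLocalRing A] [CommRing S] [IsLocalRing S] [Algebra A S] [IsLocalHom (algebraMap A S)]
    [Hensel.IsStrictHenselization A S] :
    ENat.card (minimalPrimes S) = Brnch.numGeomBranches A := by
  classical
  have hff : Module.FaithfullyFlat A S := Hzs.faithfullyFlat_of_isStrictHenselization A S
  unfold Brnch.numGeomBranches
  by_cases hfin : (minimalPrimes A).Finite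
  · rw [if_pos hfin]
    have hint : Algebra.IsIntegral A (CAlg2.normRed A) := BrnchCount.isIntegral_normRed A
    have hH : HenselianLocalRing S := Hensel.IsStrictHenselization.henselian A
    have hGU : BrnchLocDom.LocGU (CAlg2.normRed A) := fun p _ =>
      ⟨(BrnchNormal.normRed_localization A hfin p).1,
        BrnchNormal.normRed_localization_isGeomUnibranch A hfin p⟩
    have hLD := BrnchLocDom.locDom_tensor_strictHenselization A (CAlg2.normRed A) S hGU
    have h1 := ENat.card_congr (BrnchMin.bijOn_normRed_tensor A S).equiv
    have h2 := BrnchCount.card_minimalPrimes_eq_card_maximalSpectrum hLD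
      (fun q hq => BrnchCount.existsUnique_isMaximal_ge A (CAlg2.normRed A) S q)
    have h3 := BrnchEmb.card_maximalSpectrum_eq A S (CAlg2.normRed A)
    rw [← h1, h2, h3]
    rfl
  · rw [if_neg hfin]
    exact BrnchCount.card_minimalPrimes_eq_top_of_faithfullyFlat hfin

end Groth.Agent.S9238
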