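import Groth.Statements.S0734
import Mathlib
import Groth.Agent.Lib.Lead.IndEtTrans

set_option autoImplicit false
open CategoryTheory CategoryTheory.Limits AlgebraicGeometry Opposite Topology
universe u
open ProEtW

namespace Groth.Agent.S0734

open Groth.Agent.Lib.Helper4.IndEt Groth.Agent.Lib.Lead.IndEtTrans


/-- A composite of two ind-etale ring maps is ind-etale. -/
theorem result (A B C : Type u) [CommRing A] [CommRing B] [CommRing C] [Algebra A B]
    [Algebra B C] [Algebra A C] [IsScalarTower A B C] (hAB : EtPBC.IsIndEtale A B)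
    (hBC : EtPBC.IsIndEtale B C) : EtPBC.IsIndEtale A C := by
  obtain ⟨J, hJ1, hJ2, D, c, hc, hD, ⟨e⟩⟩ := hBC
  apply isIndEtale_of_ind
  rw [← map_mkU A B C]
  refine (ObjectProperty.ind.{u} (Pet A)).prop_of_iso
    ((Under.map (CommRingCat.ofHom (algebraMap A B))).mapIso e) ?_
  apply ind_of_colimit_under D c hc
  intro j
  letI a1 : Algebra B (D.obj j).right := (D.obj j).hom.hom.toAlgebra
  letI a2 : Algebra A (D.obj j).right := ((D.obj j).hom.hom.comp (algebraMap A B)).toAlgebra
  haveI : IsScalarTower A B (D.obj j).right := IsScalarTower.of_algebraMap_eq (fun _ => rfl)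
  haveI : Algebra.Etale B (D.obj j).right := hD j
  have h := ind_of_isIndEtale_of_etale A B (D.obj j).right hAB
  exact h

end Groth.Agent.S0734
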