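import Groth.Statements.S9235
import Groth.Agent.Helper19.BrnchLib
-- import your own Groth.Agent.* helpers here

set_option autoImplicit false
universe u
open Brnch

namespace Groth.Agent.S9235

open Groth.Agent.Helper19.BrnchLib

section helpers

variable (A : Type u) [CommRing A]

theorem minimalPrimes_eq_image :
    minimalPrimes A = Ideal.comap (Ideal.Quotient.mk (nilradical A)) '' minimalPrimes (CAlg2.red A) := by
  rw [← Ideal.minimalPrimes_eq_comap]
  change (⊥ : Ideal A).minimalPrimes = (⊥ : Ideal A).radical.minimalPrimes
  rw [Ideal.radical_minimalPrimes]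

theorem finite_red {A : Type u} [CommRing A] (h : (minimalPrimes A).Finite) :
    (minimalPrimes (CAlg2.red A)).Finite := by
  rw [minimalPrimes_eq_image] at h
  exact Set.Finite.of_finite_image h
    (Ideal.comap_injective_of_surjective _ Ideal.Quotient.mk_surjective).injOn

instance : IsReduced (CAlg2.red A) :=
  (Ideal.isRadical_iff_quotient_reduced _).mp (Ideal.radical_isRadical _)

/-- idempotents of a local ring are trivial -/
theorem idem_trivial {C : Type*} [CommRing C] [IsLocalRing C] {e : C} (he : e * e = e) :
    e = 0 ∨ e = 1 := by
  rcases IsLocalRing.isUnit_or_isUnit_one_sub_self e with h | h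
  · right
    have := h.mul_left_cancel (a := e) (b := e) (c := 1) (by rw [he, mul_one])
    exact this
  · left
    have h0 : (1 - e) * e = (1 - e) * 0 := by rw [mul_zero, sub_mul, one_mul, he, sub_self]
    exact h.mul_left_cancel h0

end helpers

/-- A local ring A has exactly one branch if and only if it is unibranch. Here the number of branches is
computed as the number of maximal ideals of the integral closure of A_red in its total ring of
fractions (infinity when A has infinitely many minimal primes). -/
theorem result (A : Type u) [CommRing A] [IsLocalRing A] :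
    Brnch.numBranches A = 1 ↔ CAlg2.IsUnibranch A := by
  classical
  constructor
  · intro h
    unfold Brnch.numBranches at h
    have hfin : (minimalPrimes A).Finite := by
      by_contra hinf
      rw [if_neg hinf] at h
      exact absurd h (by simp)
    rw [if_pos hfin, ENat.card_eq_one_iff_unique] at h
    obtain ⟨hu⟩ := h
    have hloc : IsLocalRing (CAlg2.normRed A) :=
      @IsLocalRing.of_singleton_maximalSpectrum _ _ (by infer_instance) ⟨hu.default⟩
    refine ⟨?_, hloc⟩
    -- the reduction is a domain
    have hfin' := finite_red hfin
    have hnt : Nontrivial (CAlg2.red A) :=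
      Ideal.Quotient.nontrivial_iff.mpr (by
        intro htop
        have : (1 : A) ∈ nilradical A := htop ▸ Submodule.mem_top
        exact not_isNilpotent_one (mem_nilradical.mp this))
    -- at most one minimal prime
    have hsub : ∀ q ∈ minimalPrimes (CAlg2.red A), ∀ q' ∈ minimalPrimes (CAlg2.red A), q = q' := by
      intro q hq q' hq'
      by_contra hne
      have hint := idem_isIntegral hfin' hq
      obtain ⟨e, he⟩ : ∃ e : CAlg2.normRed A, (e : FractionRing (CAlg2.red A)) = idem hfin' q :=
        ⟨⟨idem hfin' q, hint⟩, rfl⟩
      have hee : e * e = e := by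
        apply Subtype.ext
        change (e : FractionRing (CAlg2.red A)) * e = e
        rw [he, idem_mul_self hfin' hq]
      rcases idem_trivial hee with h0 | h1
      · apply idem_ne_zero hfin' hq
        rw [← he, h0]
        rfl
      · apply idem_ne_one hfin' hq hq' hne
        rw [← he, h1]
        rfl
    obtain ⟨⟨q, hq⟩⟩ := Ideal.nonempty_minimalPrimes (I := (⊥ : Ideal (CAlg2.red A))) bot_ne_top
    have hq0 : q = ⊥ := by
      have h1 : sInf (minimalPrimes (CAlg2.red A)) = (⊥ : Ideal (CAlg2.red A)).radical :=
        Ideal.sInf_minimalPrimes
      have h2 : minimalPrimes (CAlg2.red A) = {q} := by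
        ext q'
        constructor
        · intro hq'
          exact (hsub q hq q' hq').symm
        · rintro rfl
          exact hq
      rw [h2, sInf_singleton] at h1
      rw [h1]
      exact (Ideal.radical_eq_iff.mpr (by
        intro x hx
        obtain ⟨n, hn⟩ := hx
        rw [Ideal.mem_bot] at hn ⊢
        exact (IsNilpotent.eq_zero ⟨n, hn⟩)))
    have hprime : (⊥ : Ideal (CAlg2.red A)).IsPrime := hq0 ▸ hq.1.1
    exact IsDomain.of_bot_isPrime _
  · rintro ⟨hdom, hloc⟩
    unfold Brnch.numBranches
    have hfin : (minimalPrimes A).Finite := by
      rw [minimalPrimes_eq_image, IsDomain.minimalPrimes_eq_singleton_bot]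
      exact (Set.finite_singleton _).image _
    rw [if_pos hfin, ENat.card_eq_one_iff_unique]
    exact ⟨inferInstance⟩

end Groth.Agent.S9235
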