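import Groth.Statements.S9236
import Groth.Agent.S9235
-- import your own Groth.Agent.* helpers here

set_option autoImplicit false
universe u
open Brnch

namespace Groth.Agent.S9236

section helpers

section core

variable {A : Type u} [CommRing A] [IsLocalRing A] {E : Type u} [Field E] (f : A →+* E)
  (hker : ∀ a ∈ IsLocalRing.maximalIdeal A, f a = 0) (hint : f.IsIntegral)

/-- the factorization through the residue field -/
noncomputable def fbar : IsLocalRing.ResidueField A →+* E :=
  Ideal.Quotient.lift (IsLocalRing.maximalIdeal A) f hker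

theorem fbar_residue (a : A) : fbar f hker (IsLocalRing.residue A a) = f a := rfl

include hint hker in
theorem fbar_isIntegral : (fbar f hker).IsIntegral := by
  intro x
  obtain ⟨p, hp, hpx⟩ := hint x
  refine ⟨p.map (IsLocalRing.residue A), hp.map _, ?_⟩
  rw [Polynomial.eval₂_map]
  have : (fbar f hker).comp (IsLocalRing.residue A) = f := by
    ext a
    rfl
  rw [this]
  exact hpx

/-- the set of embeddings over `A` -/
def EmbSet : Type u :=
  {σ : E →+* AlgebraicClosure (IsLocalRing.ResidueField A) // σ.comp f = toClosure A}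

/-- embeddings over `A` are the same as embeddings over the residue field -/
noncomputable def embSetEquiv :
    letI : Algebra (IsLocalRing.ResidueField A) E := (fbar f hker).toAlgebra
    EmbSet f ≃ (E →ₐ[IsLocalRing.ResidueField A] AlgebraicClosure (IsLocalRing.ResidueField A)) :=
  letI : Algebra (IsLocalRing.ResidueField A) E := (fbar f hker).toAlgebra
  { toFun := fun σ => { σ.1 with
      commutes' := fun k => by
        obtain ⟨a, rfl⟩ := IsLocalRing.residue_surjective k
        change σ.1 (fbar f hker (IsLocalRing.residue A a)) = _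
        rw [fbar_residue]
        exact RingHom.congr_fun σ.2 a }
    invFun := fun τ => ⟨τ.toRingHom, by
      ext a
      change τ (algebraMap (IsLocalRing.ResidueField A) E (IsLocalRing.residue A a)) = _
      rw [τ.commutes]
      rfl⟩
    left_inv := fun σ => by
      apply Subtype.ext
      rfl
    right_inv := fun τ => by
      ext x
      rfl }

include hint hker in
theorem nonempty_embSet : Nonempty (EmbSet f) := by
  letI : Algebra (IsLocalRing.ResidueField A) E := (fbar f hker).toAlgebra
  haveI : Algebra.IsIntegral (IsLocalRing.ResidueField A) E := ⟨fbar_isIntegral f hker hint⟩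
  haveI : Algebra.IsAlgebraic (IsLocalRing.ResidueField A) E := Algebra.IsIntegral.isAlgebraic
  exact ⟨(embSetEquiv f hker).symm IsAlgClosed.lift⟩

include hint hker in
theorem subsingleton_embSet_iff :
    Subsingleton (EmbSet f) ↔ ∀ x : E, ∃ n : ℕ, x ^ (ringExpChar E) ^ n ∈ f.range := by
  letI : Algebra (IsLocalRing.ResidueField A) E := (fbar f hker).toAlgebra
  haveI : Algebra.IsIntegral (IsLocalRing.ResidueField A) E := ⟨fbar_isIntegral f hker hint⟩
  haveI : Algebra.IsAlgebraic (IsLocalRing.ResidueField A) E := Algebra.IsIntegral.isAlgebraic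
  haveI : ExpChar (IsLocalRing.ResidueField A) (ringExpChar E) :=
    (fbar f hker).expChar (fbar f hker).injective _
  have hrange : ∀ y : E, y ∈ (algebraMap (IsLocalRing.ResidueField A) E).range ↔ y ∈ f.range := by
    intro y
    constructor
    · rintro ⟨k, rfl⟩
      obtain ⟨a, rfl⟩ := IsLocalRing.residue_surjective k
      exact ⟨a, rfl⟩
    · rintro ⟨a, rfl⟩
      exact ⟨IsLocalRing.residue A a, rfl⟩
  rw [(embSetEquiv f hker).subsingleton_congr]
  have h1 : IsPurelyInseparable (IsLocalRing.ResidueField A) E ↔
      ∀ x : E, ∃ n : ℕ, x ^ (ringExpChar E) ^ n ∈ f.range := by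
    rw [isPurelyInseparable_iff_pow_mem (IsLocalRing.ResidueField A) (ringExpChar E)]
    exact forall_congr' fun x => exists_congr fun n => hrange _
  rw [← h1, isPurelyInseparable_iff_finSepDegree_eq_one,
    Field.finSepDegree_eq_of_isAlgClosed (IsLocalRing.ResidueField A) E
      (AlgebraicClosure (IsLocalRing.ResidueField A)), Nat.card_eq_one_iff_unique]
  constructor
  · intro hs
    exact ⟨hs, ⟨IsAlgClosed.lift⟩⟩
  · exact fun h => h.1

end core

section app

variable (A : Type u) [CommRing A] [IsLocalRing A]

theorem toResidue_isIntegral (m' : MaximalSpectrum (CAlg2.normRed A)) :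
    (toResidue A m').IsIntegral := by
  unfold toResidue
  refine RingHom.IsIntegral.trans _ _ ?_ (RingHom.isIntegral_of_surjective _ Ideal.Quotient.mk_surjective)
  refine RingHom.IsIntegral.trans _ _ (RingHom.isIntegral_of_surjective _ Ideal.Quotient.mk_surjective) ?_
  exact Algebra.IsIntegral.isIntegral (R := CAlg2.red A) (A := CAlg2.normRed A)

theorem toResidue_ker (m' : MaximalSpectrum (CAlg2.normRed A)) :
    ∀ a ∈ IsLocalRing.maximalIdeal A, toResidue A m' a = 0 := by
  haveI := m'.isMaximal
  letI : Field (CAlg2.normRed A ⧸ m'.asIdeal) := Ideal.Quotient.field m'.asIdeal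
  haveI : (⊥ : Ideal (CAlg2.normRed A ⧸ m'.asIdeal)).IsMaximal := Ideal.bot_isMaximal
  have hmax : ((⊥ : Ideal (CAlg2.normRed A ⧸ m'.asIdeal)).comap (toResidue A m')).IsMaximal :=
    Ideal.isMaximal_comap_of_isIntegral_of_isMaximal' _ (toResidue_isIntegral A m') _
  have := IsLocalRing.eq_maximalIdeal hmax
  intro a ha
  rw [← this] at ha
  exact ha

theorem nonempty_emb (m' : MaximalSpectrum (CAlg2.normRed A)) : Nonempty (Emb A m') := by
  haveI := m'.isMaximal
  letI : Field (CAlg2.normRed A ⧸ m'.asIdeal) := Ideal.Quotient.field m'.asIdeal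
  exact nonempty_embSet (E := CAlg2.normRed A ⧸ m'.asIdeal) (toResidue A m') (toResidue_ker A m')
    (toResidue_isIntegral A m')

theorem subsingleton_emb_iff (m' : MaximalSpectrum (CAlg2.normRed A)) :
    Subsingleton (Emb A m') ↔
      ∀ x : CAlg2.normRed A ⧸ m'.asIdeal,
        ∃ n : ℕ, x ^ (ringExpChar (CAlg2.normRed A ⧸ m'.asIdeal)) ^ n ∈ (toResidue A m').range := by
  haveI := m'.isMaximal
  letI : Field (CAlg2.normRed A ⧸ m'.asIdeal) := Ideal.Quotient.field m'.asIdeal
  exact subsingleton_embSet_iff (E := CAlg2.normRed A ⧸ m'.asIdeal) (toResidue A m')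
    (toResidue_ker A m') (toResidue_isIntegral A m')

end app

end helpers

/-- A local ring A has exactly one geometric branch if and only if it is geometrically unibranch
(unibranch with purely inseparable residue field extension of the integral closure). The number of
geometric branches counts the maximal ideals of the integral closure of A_red in its total ring of
fractions with multiplicity the separable degree of the residue field extension. -/
theorem result (A : Type u) [CommRing A] [IsLocalRing A] :
    Brnch.numGeomBranches A = 1 ↔ CAlg2.IsGeomUnibranch A := by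
  classical
  constructor
  · intro h
    unfold Brnch.numGeomBranches at h
    have hfin : (minimalPrimes A).Finite := by
      by_contra hinf
      rw [if_neg hinf] at h
      exact absurd h (by simp)
    rw [if_pos hfin, ENat.card_eq_one_iff_unique] at h
    obtain ⟨hu⟩ := h
    have hss : Subsingleton (Σ m' : MaximalSpectrum (CAlg2.normRed A), Emb A m') :=
      hu.instSubsingleton
    have huni : Brnch.numBranches A = 1 := by
      unfold Brnch.numBranches
      rw [if_pos hfin, ENat.card_eq_one_iff_unique]
      refine ⟨@Unique.mk' _ ⟨hu.default.1⟩ ⟨fun m1 m2 => ?_⟩⟩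
      obtain ⟨σ1⟩ := nonempty_emb A m1
      obtain ⟨σ2⟩ := nonempty_emb A m2
      exact congrArg Sigma.fst (hss.elim ⟨m1, σ1⟩ ⟨m2, σ2⟩)
    refine ⟨(Groth.Agent.S9235.result A).mp huni, ?_⟩
    intro m' hm'
    have hsub : Subsingleton (Emb A ⟨m', hm'⟩) := by
      refine ⟨fun σ1 σ2 => ?_⟩
      have := hss.elim ⟨⟨m', hm'⟩, σ1⟩ ⟨⟨m', hm'⟩, σ2⟩
      exact eq_of_heq (Sigma.mk.inj_iff.mp this).2
    exact (subsingleton_emb_iff A ⟨m', hm'⟩).mp hsub
  · rintro ⟨huni, hpi⟩
    have h1 := (Groth.Agent.S9235.result A).mpr huni
    unfold Brnch.numBranches at h1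
    have hfin : (minimalPrimes A).Finite := by
      by_contra hinf
      rw [if_neg hinf] at h1
      exact absurd h1 (by simp)
    rw [if_pos hfin, ENat.card_eq_one_iff_unique] at h1
    obtain ⟨hu⟩ := h1
    unfold Brnch.numGeomBranches
    rw [if_pos hfin, ENat.card_eq_one_iff_unique]
    obtain ⟨σ0⟩ := nonempty_emb A hu.default
    refine ⟨@Unique.mk' _ ⟨⟨hu.default, σ0⟩⟩ ⟨?_⟩⟩
    rintro ⟨m1, σ1⟩ ⟨m2, σ2⟩
    obtain rfl : m1 = m2 := hu.instSubsingleton.elim m1 m2
    haveI := m1.isMaximal
    have hsub : Subsingleton (Emb A m1) := (subsingleton_emb_iff A m1).mpr (hpi m1.asIdeal)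
    rw [hsub.elim σ1 σ2]

end Groth.Agent.S9236
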