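import Groth.Statements.S9782
import Mathlib
import Groth.Agent.Lib.Helper4.EtNbhd8
import Groth.Agent.S9753
import Groth.Agent.S9236

set_option autoImplicit false
universe u
open Brnch

namespace Groth.Agent.S9782

open AlgebraicGeometry CategoryTheory Limits in
open Groth.Agent.Lib.Helper4 in
/-- The local ring of X at x is geometrically unibranch exactly when, for each étale morphism g : U ⟶ X
and each point u over x, the point u lies on a single irreducible component of U. -/
theorem result (X : Scheme.{u}) (x : X) :
    CAlg2.IsGeomUnibranch ↑(X.presheaf.stalk x) ↔ ∀ (U : Scheme.{u}) (g : U ⟶ X) (u : U), Etale g → g u = x →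
      {Z : Set ↑U | Z ∈ irreducibleComponents ↑U ∧ u ∈ Z}.encard = 1 := by
  rw [← Groth.Agent.S9236.result]
  constructor
  · intro h1 U g u hg hx
    subst hx
    apply le_antisymm
    · have := EtNbhd.encard_components_le_numGeomBranchesAt g u
      unfold Brnch.numGeomBranchesAt at this
      rwa [h1] at this
    · exact EtNbhd.one_le_encard_components U u
  · intro h
    apply le_antisymm
    · have h2 := Groth.Agent.S9753.result X x
      unfold Brnch.numGeomBranchesAt at h2
      rw [h2]
      refine iSup_le fun U => iSup_le fun g => iSup_le fun u => iSup_le fun hg => ?_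
      exact (h U g u hg.1 hg.2).le
    · exact EtNbhd.one_le_numGeomBranches _

end Groth.Agent.S9782
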