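import Groth.Statements.S1760
import Groth.Agent.Lib.Helper16.GorBC3

set_option autoImplicit false
universe u
open scoped TensorProduct
open Goren

namespace Groth.Agent.S1760

section helpers
open scoped TensorProduct
open Goren

theorem result_aux (k k' : Type u) [Field k] [Field k'] [Algebra k k'] (hfg : ∃ s : Finset k', IntermediateField.adjoin k (s : Set k') = ⊤) (B : Type u) [CommRing B] [IsLocalRing B] [IsNoetherianRing B] [Algebra k B] (q : PrimeSpectrum (B ⊗[k] k')) (hq : q.asIdeal.comap (algebraMap B (B ⊗[k] k')) = IsLocalRing.maximalIdeal B) : LocCoh.IsGorensteinLocalRing B ↔ LocCoh.IsGorensteinLocalRing (Localization.AtPrime q.asIdeal) := by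
  have hN' : IsNoetherianRing (k' ⊗[k] B) :=
    Groth.Agent.Lib.Helper16.GorBC.isNoetherianRing_tensor_of_fg k k' hfg B
  have hN : IsNoetherianRing (B ⊗[k] k') :=
    isNoetherianRing_of_ringEquiv _ (Algebra.TensorProduct.comm k k' B).toRingEquiv
  have hκ : LocCoh.IsGorensteinRing
      ((q.asIdeal.comap (algebraMap B (B ⊗[k] k'))).ResidueField ⊗[k] k') := by
    have h1 := Groth.Agent.Lib.Helper16.GorBC.bc_of_fg k k' hfg
      (q.asIdeal.comap (algebraMap B (B ⊗[k] k'))).ResidueField
      (Groth.Agent.Lib.Helper16.GorBC.gorRing_of_isRegularRing _)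
    exact Groth.Agent.Lib.Helper16.GorBC.gorRing_of_ringEquiv
      (Algebra.TensorProduct.comm k k' _).toRingEquiv h1
  rw [Groth.Agent.Lib.Helper16.GorBC.gor_tensor_atPrime_iff k k' B q.asIdeal hκ]
  exact (Groth.Agent.Lib.Helper2.GK.gor_localization_self_iff B _ hq).symm

end helpers

/-- First assertion, written for the local ring B = O_{X,x}. Let k'/k be a finitely generated field
extension, B a Noetherian local k-algebra, and q a prime of B ⊗_k k' lying over the maximal ideal of
B. Then B is Gorenstein if and only if the localization of B ⊗_k k' at q is Gorenstein. -/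
theorem result (k k' : Type u) [Field k] [Field k'] [Algebra k k'] (hfg : ∃ s : Finset k', IntermediateField.adjoin k (s : Set k') = ⊤) (B : Type u) [CommRing B] [IsLocalRing B] [IsNoetherianRing B] [Algebra k B] (q : PrimeSpectrum (B ⊗[k] k')) (hq : q.asIdeal.comap (algebraMap B (B ⊗[k] k')) = IsLocalRing.maximalIdeal B) : LocCoh.IsGorensteinLocalRing B ↔ LocCoh.IsGorensteinLocalRing (Localization.AtPrime q.asIdeal) := by
  exact result_aux k k' hfg B q hq

end Groth.Agent.S1760
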