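import Groth.Statements.S2156
import Groth.Agent.Lib.Helper13.SchemeLocal
import Groth.Agent.Lib.Helper13.SmoothDescentPoint
import Groth.Agent.Lib.Helper25.FiberSmooth
import Groth.Agent.Lib.Helper25.FiberSmoothScheme

set_option autoImplicit false
universe u
open CategoryTheory AlgebraicGeometry
open Mor

namespace Groth.Agent.S2156

open CategoryTheory CategoryTheory.Limits AlgebraicGeometry Opposite
/-- Let `f : X → S` be locally of finite presentation and `x ∈ X` with image `s`. Then `f` is smooth at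
`x` if and only if `O_{S,s} → O_{X,x}` is flat and the fibre `X_s → Spec κ(s)` is smooth at the
point corresponding to `x`. -/
theorem result {X S : Scheme.{u}} (f : X ⟶ S) [LocallyOfFinitePresentation f] (x : X)
    [LocallyOfFinitePresentation (f.fiberToSpecResidueField (f.base x))] :
    x ∈ f.smoothLocus ↔
      (f.stalkMap x).hom.Flat ∧ f.asFiber x ∈ (f.fiberToSpecResidueField (f.base x)).smoothLocus := by
  have H : IsPullback (f.fiberι (f x)) (f.fiberToSpecResidueField (f x)) f
      (S.fromSpecResidueField (f x)) := IsPullback.of_hasPullback f _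
  have hx' : f.fiberι (f x) (f.asFiber x) = x := f.fiberι_asFiber x
  constructor
  · intro hx
    have hsm : Smooth (f.smoothLocus.ι ≫ f) :=
      Groth.Agent.Lib.Helper13.smooth_ι_comp_of_le_smoothLocus f _ le_rfl
    refine ⟨?_, ?_⟩
    · have h1 : ((f.smoothLocus.ι ≫ f).stalkMap ⟨x, hx⟩).hom.Flat :=
        Flat.stalkMap (f.smoothLocus.ι ≫ f) ⟨x, hx⟩
      exact (Groth.Agent.Lib.Helper13.stalkMap_ι_comp_iff RingHom.Flat.respectsIso f
        f.smoothLocus ⟨x, hx⟩).mp h1
    · set W' : (f.fiber (f x)).Opens := (f.fiberι (f x)) ⁻¹ᵁ f.smoothLocus with hW'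
      have hp1 : IsPullback ((f.fiberι (f x)) ∣_ f.smoothLocus) W'.ι f.smoothLocus.ι
          (f.fiberι (f x)) := isPullback_morphismRestrict _ _
      have hp2 : IsPullback ((f.fiberι (f x)) ∣_ f.smoothLocus)
          (W'.ι ≫ f.fiberToSpecResidueField (f x)) (f.smoothLocus.ι ≫ f)
          (S.fromSpecResidueField (f x)) := hp1.paste_vert H
      have hsm' : Smooth (W'.ι ≫ f.fiberToSpecResidueField (f x)) :=
        MorphismProperty.of_isPullback hp2 hsm
      have hle := Groth.Agent.Lib.Helper13.le_smoothLocus_of_smooth_ι_comp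
        (f.fiberToSpecResidueField (f x)) W'
      apply hle
      change f.fiberι (f x) (f.asFiber x) ∈ f.smoothLocus
      rw [hx']
      exact hx
  · rintro ⟨hflat, hfib⟩
    change (f.stalkMap x).hom.FormallySmooth
    set g := S.fromSpecResidueField (f x) with hg
    set fib := f.fiberToSpecResidueField (f x) with hfibdef
    set ι := f.fiberι (f x) with hι
    -- an open of X cutting out the smooth locus of the fibre
    obtain ⟨T, hTopen, hT⟩ := (ι.isEmbedding.isInducing.isOpen_iff).mp fib.smoothLocus.2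
    have hxT : x ∈ T := by
      have : f.asFiber x ∈ ι ⁻¹' T := by rw [hT]; exact hfib
      rw [Set.mem_preimage, hx'] at this
      exact this
    -- affine charts
    obtain ⟨U, hU, hsU, -⟩ := TopologicalSpace.Opens.isBasis_iff_nbhd.mp
      S.isBasis_affineOpens (TopologicalSpace.Opens.mem_top (f x))
    obtain ⟨V, hV, hxV, hVUT⟩ := TopologicalSpace.Opens.isBasis_iff_nbhd.mp
      X.isBasis_affineOpens (show x ∈ f ⁻¹ᵁ U ⊓ ⟨T, hTopen⟩ from ⟨hsU, hxT⟩)
    have hVU : V ≤ f ⁻¹ᵁ U := hVUT.trans inf_le_left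
    have hVT : (V : Set X) ⊆ T := fun z hz => (hVUT hz).2
    have hU'U : (⊤ : (Spec (S.residueField (f x))).Opens) ≤ g ⁻¹ᵁ U := by
      intro z _
      change g z ∈ U
      rw [hg, Scheme.fromSpecResidueField_apply]
      exact hsU
    set V' : (f.fiber (f x)).Opens := ι ⁻¹ᵁ V ⊓ fib ⁻¹ᵁ ⊤ with hV'def
    have hV'V : V' ≤ ι ⁻¹ᵁ V := inf_le_left
    have hV'top : V' ≤ fib ⁻¹ᵁ ⊤ := inf_le_right
    have hx'V' : f.asFiber x ∈ V' := by
      refine ⟨?_, trivial⟩
      change ι (f.asFiber x) ∈ V
      rw [hx']; exact hxV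
    have hV'sm : V' ≤ fib.smoothLocus := by
      intro z hz
      have : z ∈ ι ⁻¹' T := hVT hz.1
      rw [hT] at this
      exact this
    have hV' : IsAffineOpen V' := by
      have : IsAffine U := hU
      have : IsAffine (⊤ : (Spec (S.residueField (f x))).Opens) := isAffineOpen_top _
      have : IsAffine V := hV
      exact .of_isIso (Scheme.Hom.isPullback_resLE H hU'U hVU hV'def).isoPullback.hom
    have hpush : IsPushout (f.appLE U V hVU) (g.appLE U ⊤ hU'U)
        (ι.appLE V V' hV'V) (fib.appLE ⊤ V' hV'top) :=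
      (isIso_pushoutSection_iff H hU'U hVU hV'def).mp
        (isIso_pushoutSection_of_isAffineOpen H hU'U hVU hV'def hU (isAffineOpen_top _) hV)
    -- ring level
    have hfp := f.finitePresentation_appLE hU hV hVU
    have hfp' := fib.finitePresentation_appLE (isAffineOpen_top _) hV' hV'top
    let _ : Algebra Γ(S, U) Γ(X, V) := (f.appLE U V hVU).hom.toAlgebra
    let _ : Algebra Γ(S, U) Γ(Spec (S.residueField (f x)), ⊤) := (g.appLE U ⊤ hU'U).hom.toAlgebra
    let _ : Algebra Γ(X, V) Γ(f.fiber (f x), V') := (ι.appLE V V' hV'V).hom.toAlgebra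
    let _ : Algebra Γ(Spec (S.residueField (f x)), ⊤) Γ(f.fiber (f x), V') :=
      (fib.appLE ⊤ V' hV'top).hom.toAlgebra
    let _ : Algebra Γ(S, U) Γ(f.fiber (f x), V') :=
      ((ι.appLE V V' hV'V).hom.comp (f.appLE U V hVU).hom).toAlgebra
    have : IsScalarTower Γ(S, U) Γ(X, V) Γ(f.fiber (f x), V') := .of_algebraMap_eq' rfl
    have : IsScalarTower Γ(S, U) Γ(Spec (S.residueField (f x)), ⊤) Γ(f.fiber (f x), V') :=
      .of_algebraMap_eq' <| by
        change (ι.appLE V V' hV'V).hom.comp (f.appLE U V hVU).hom =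
          (fib.appLE ⊤ V' hV'top).hom.comp (g.appLE U ⊤ hU'U).hom
        rw [← CommRingCat.hom_comp, ← CommRingCat.hom_comp, hpush.w]
    have : Algebra.FinitePresentation Γ(S, U) Γ(X, V) := hfp
    have : Algebra.FinitePresentation Γ(Spec (S.residueField (f x)), ⊤) Γ(f.fiber (f x), V') := hfp'
    have : Algebra.IsPushout Γ(S, U) Γ(X, V) Γ(Spec (S.residueField (f x)), ⊤)
        Γ(f.fiber (f x), V') := CommRingCat.isPushout_iff_isPushout.mp hpush
    -- the primes
    let q : Ideal Γ(X, V) := (hV.primeIdealOf ⟨x, hxV⟩).asIdeal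
    let p : Ideal Γ(S, U) := (hU.primeIdealOf ⟨f x, hsU⟩).asIdeal
    have : q.LiesOver p :=
      ⟨congr($(IsAffineOpen.comap_primeIdealOf_appLE U hU V hV hVU hxV).1).symm⟩
    have hflat' : Module.Flat Γ(S, U) (Localization.AtPrime q) :=
      (Groth.Agent.Lib.Helper13.flat_stalkMap_iff U hU V hV hVU hxV).mp hflat
    -- the fibre chart is smooth
    have hsmfib : Algebra.FormallySmooth Γ(Spec (S.residueField (f x)), ⊤) Γ(f.fiber (f x), V') := by
      rw [← Algebra.smoothLocus_eq_univ_iff]
      refine Set.eq_univ_iff_forall.mpr fun q' => ?_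
      let z' : V' := hV'.isoSpec.inv q'
      have hz' : hV'.primeIdealOf z' = q' := by
        change (hV'.isoSpec.inv ≫ hV'.isoSpec.hom) q' = q'
        rw [Iso.inv_hom_id]
        rfl
      have h1 : (fib.stalkMap z'.1).hom.FormallySmooth := hV'sm z'.2
      have h2 := (formallySmooth_stalkMap_iff ⊤ (isAffineOpen_top _) V' hV' hV'top z'.2).mp h1
      rw [← hz']
      exact h2
    obtain ⟨e⟩ := Groth.Agent.Lib.Helper25.FiberSmoothScheme.exists_algEquiv_residueField_Γ
      (f x) hU hsU hU'U
    have : Algebra.FormallySmooth p.ResidueField (p.Fiber Γ(X, V)) :=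
      Groth.Agent.Lib.Helper25.FiberSmooth.formallySmooth_fiber_of_isPushout
        (R := Γ(S, U)) (S := Γ(X, V)) (k := Γ(Spec (S.residueField (f x)), ⊤))
        (S' := Γ(f.fiber (f x), V')) p e
    have hsm : Algebra.IsSmoothAt Γ(S, U) q :=
      Groth.Agent.Lib.Helper25.FiberSmooth.isSmoothAt_of_flat_of_formallySmooth_fiber p q hflat'
    rw [formallySmooth_stalkMap_iff U hU V hV hVU hxV]
    exact hsm


end Groth.Agent.S2156
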