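import Groth.Statements.S2155
import Groth.Agent.S2156
import Groth.Agent.Lib.Helper25.FiberSmoothScheme2

set_option autoImplicit false
universe u
open CategoryTheory AlgebraicGeometry
open Mor

namespace Groth.Agent.S2155

open CategoryTheory CategoryTheory.Limits AlgebraicGeometry Opposite
/-- Consider a cartesian square with `f : X → S` locally of finite presentation, base change `g : S' →
S`, and `f' : X' → S'`, `g' : X' → X` the projections. If `f` is flat, or if `g` is flat, then the
open set of points where `f'` is smooth is the preimage under `g'` of the open set of points where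
`f` is smooth. -/
theorem result {X S X' S' : Scheme.{u}} (f : X ⟶ S) (g : S' ⟶ S) (f' : X' ⟶ S') (g' : X' ⟶ X)
    (h : IsPullback g' f' f g) [LocallyOfFinitePresentation f] [LocallyOfFinitePresentation f'] (hflat : Flat f ∨ Flat g) :
    f'.smoothLocus = g' ⁻¹ᵁ f.smoothLocus := by
  apply le_antisymm
  · intro x' hx'
    change g' x' ∈ f.smoothLocus
    rcases hflat with hf | hg
    · -- `f` flat: use the fibre criterion
      have i1 : LocallyOfFinitePresentation (f'.fiberToSpecResidueField (f'.base x')) :=
        MorphismProperty.pullback_snd _ _ inferInstance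
      have i2 : LocallyOfFinitePresentation (f.fiberToSpecResidueField (g (f' x'))) :=
        MorphismProperty.pullback_snd _ _ inferInstance
      have h1 := ((Groth.Agent.S2156.result f' x').mp hx').2
      have hP := isPullback_fiberToSpecResidueField_of_isPullback h (f' x')
      have hflatres : Flat (Spec.map (g.residueFieldMap (f' x'))) := inferInstance
      have h2 := @Groth.Agent.Lib.Helper25.FiberSmoothScheme.mem_smoothLocus_of_isPullback_of_flat
        _ _ _ _ _ _ _ _ hP i2 i1 (f'.asFiber x') (Flat.stalkMap _ _) h1
      set pm := pullback.map f' (S'.fromSpecResidueField (f' x')) f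
        (S.fromSpecResidueField (g (f' x'))) g' (Spec.map (g.residueFieldMap (f' x'))) g h.w.symm
        (by simp) with hpm
      set z := pm (f'.asFiber x') with hz
      have hzx : f.fiberι (g (f' x')) z = g' x' := by
        have hcomp : pm ≫ f.fiberι (g (f' x')) = f'.fiberι (f' x') ≫ g' :=
          pullback.lift_fst _ _ _
        have h4 : (pm ≫ f.fiberι (g (f' x'))) (f'.asFiber x') =
            (f'.fiberι (f' x') ≫ g') (f'.asFiber x') :=
          congrArg (fun φ : f'.fiber (f' x') ⟶ X => φ (f'.asFiber x')) hcomp
        exact h4.trans (congrArg g' (f'.fiberι_asFiber x'))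
      have h3 := Groth.Agent.Lib.Helper25.FiberSmoothScheme.mem_smoothLocus_of_flat_of_fiber f
        (g (f' x')) z (Flat.stalkMap f _) h2
      rw [hzx] at h3
      exact h3
    · exact Groth.Agent.Lib.Helper25.FiberSmoothScheme.mem_smoothLocus_of_isPullback_of_flat h x'
        (Flat.stalkMap g _) hx'
  · exact Groth.Agent.Lib.Helper25.FiberSmoothScheme.preimage_smoothLocus_le_of_isPullback h


end Groth.Agent.S2155
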