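import Groth.Statements.S5354
import Groth.Agent.Lib.Helper10.IdComp6

set_option autoImplicit false
universe u
open CategoryTheory CategoryTheory.Limits MonoidalCategory CartesianMonoidalCategory MonObj GrpObj AlgebraicGeometry
open SGA3

namespace Groth.Agent.S5354

open Groth.Agent.Lib.Helper10.IdComp Groth.Agent.Lib.Helper10.GrpTranslate in
theorem maximal_image_of_generalizing {X Y : Type*} [TopologicalSpace X] [TopologicalSpace Y]
    [QuasiSober Y] (π : X → Y) (hc : Continuous π) (hg : GeneralizingMap π) (η' : X)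
    (hη' : closure {η'} ∈ irreducibleComponents X) :
    closure {π η'} ∈ irreducibleComponents Y := by
  obtain ⟨C, hC, hsub⟩ := exists_mem_irreducibleComponents_subset_of_isIrreducible
    (closure {π η'}) isIrreducible_singleton.closure
  have hπC : π η' ∈ C := hsub (subset_closure rfl)
  obtain ⟨C', hC', hη'C', hcl⟩ := exists_comp_over π hc hg η' C hC hπC
  have hC'cl : IsClosed C' := isClosed_of_mem_irreducibleComponents C' hC'
  have h1 : closure {η'} ⊆ C' := hC'cl.closure_subset_iff.mpr (Set.singleton_subset_iff.mpr hη'C')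
  have h2 : C' = closure {η'} := le_antisymm (hη'.2 hC'.1 h1) h1
  have h3 : C ⊆ closure {π η'} := by
    rw [← hcl, h2]
    apply closure_minimal _ isClosed_closure
    have := image_closure_subset_closure_image hc (s := {η'})
    rwa [Set.image_singleton] at this
  rw [← le_antisymm h3 hsub]
  exact hC

theorem maximal_image_of_homeomorph {X Y : Type*} [TopologicalSpace X] [TopologicalSpace Y]
    (h : X ≃ₜ Y) (η' : X) (hη' : closure {η'} ∈ irreducibleComponents X) :
    closure {h η'} ∈ irreducibleComponents Y := by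
  have h1 : closure {h η'} = h.symm ⁻¹' closure {η'} := by
    rw [← h.image_eq_preimage_symm, h.image_closure, Set.image_singleton]
  rw [h1]
  exact preimage_mem_irreducibleComponents hη' h.symm.isOpenEmbedding
    ⟨η', subset_closure rfl, ⟨h η', h.symm_apply_apply _⟩⟩

/-- Let G be a group scheme over a field k (not assumed of finite type). For every point x of G there is
a point z of G ×_k G with product x whose two projections are maximal points of G (generic points of
irreducible components). -/
theorem result (k : Type u) [Field k] (G : Over (Spec (CommRingCat.of k))) [GrpObj G] (x : G.left) :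
    ∃ z : ↥(G ⊗ G).left, μ[G].left.base z = x ∧
      closure {(fst G G).left.base z} ∈ irreducibleComponents ↥G.left ∧
      closure {(snd G G).left.base z} ∈ irreducibleComponents ↥G.left := by
  obtain ⟨pt⟩ : Nonempty ↥(𝟙_ (Over (Spec (CommRingCat.of k)))).left :=
    inferInstanceAs (Nonempty (PrimeSpectrum k))
  obtain ⟨T, xT, t0, hxT, hT, hirr⟩ := Groth.Agent.Lib.Helper10.IdComp.exists_fieldPoint G x
  haveI := hirr
  have hZTmem := Groth.Agent.Lib.Helper10.IdComp.preimage_snd_Z0_mem k G pt T
  have hZTcl := isClosed_of_mem_irreducibleComponents _ hZTmem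
  obtain ⟨ξ, hξ⟩ := QuasiSober.sober hZTmem.1 hZTcl
  have hξmax : closure {ξ} ∈ irreducibleComponents ↥(T ⊗ G).left := by
    rw [hξ.def]
    exact hZTmem
  haveI : Flat (snd T G).left := Groth.Agent.Lib.Helper10.IdComp.flat_snd
  -- the automorphism `(t, g) ↦ (t, x g⁻¹)`
  haveI : IsIso ι[G] := ⟨⟨ι[G], GrpObj.inv_comp_inv G, GrpObj.inv_comp_inv G⟩⟩
  let θ : T ⊗ G ⟶ T ⊗ G := (T ◁ ι[G]) ≫ Groth.Agent.Lib.Helper10.GrpTranslate.transl xT
  haveI : IsIso θ := inferInstance
  haveI : IsIso θ.left := (Over.forget _).map_isIso θ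
  have hθmax : closure {θ.left ξ} ∈ irreducibleComponents ↥(T ⊗ G).left :=
    maximal_image_of_homeomorph θ.left.homeomorph ξ hξmax
  have h1 := maximal_image_of_generalizing (snd T G).left (snd T G).left.continuous
    (Flat.generalizingMap _) ξ hξmax
  have h2 := maximal_image_of_generalizing (snd T G).left (snd T G).left.continuous
    (Flat.generalizingMap _) (θ.left ξ) hθmax
  obtain ⟨T', q, t0', hq, hT', -⟩ :=
    Groth.Agent.Lib.Helper10.IdComp.exists_fieldPoint (T ⊗ G) ξ
  have hθsnd : q ≫ θ ≫ snd T G = (q ≫ fst T G ≫ xT) * (q ≫ snd T G)⁻¹ := by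
    simp only [θ, Category.assoc]
    rw [Groth.Agent.Lib.Helper10.GrpTranslate.transl_snd, MonObj.comp_mul, MonObj.comp_mul,
      whiskerLeft_fst_assoc, whiskerLeft_snd, Hom.inv_def, Category.assoc]
  refine ⟨(lift ((q ≫ fst T G ≫ xT) * (q ≫ snd T G)⁻¹) (q ≫ snd T G)).left t0', ?_, ?_, ?_⟩
  · change μ[G].left ((lift ((q ≫ fst T G ≫ xT) * (q ≫ snd T G)⁻¹) (q ≫ snd T G)).left t0') = x
    rw [← Scheme.Hom.comp_apply, ← Over.comp_left, ← Hom.mul_def, inv_mul_cancel_right,
      ← Category.assoc, Over.comp_left, Scheme.Hom.comp_apply, hT ((q ≫ fst T G).left t0'), hxT]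
  · have e1 : (fst G G).left ((lift ((q ≫ fst T G ≫ xT) * (q ≫ snd T G)⁻¹)
        (q ≫ snd T G)).left t0') = (snd T G).left (θ.left ξ) := by
      rw [← Scheme.Hom.comp_apply, ← Over.comp_left, lift_fst, ← hθsnd]
      simp only [Over.comp_left, Scheme.Hom.comp_apply]
      rw [hq]
    change closure {(fst G G).left ((lift ((q ≫ fst T G ≫ xT) * (q ≫ snd T G)⁻¹)
        (q ≫ snd T G)).left t0')} ∈ _
    rw [e1]
    exact h2
  · have e2 : (snd G G).left ((lift ((q ≫ fst T G ≫ xT) * (q ≫ snd T G)⁻¹)
        (q ≫ snd T G)).left t0') = (snd T G).left ξ := by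
      rw [← Scheme.Hom.comp_apply, ← Over.comp_left, lift_snd, Over.comp_left,
        Scheme.Hom.comp_apply, hq]
    change closure {(snd G G).left ((lift ((q ≫ fst T G ≫ xT) * (q ≫ snd T G)⁻¹)
        (q ≫ snd T G)).left t0')} ∈ _
    rw [e2]
    exact h1

end Groth.Agent.S5354
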