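import Groth.Statements.S1131
import Mathlib

set_option autoImplicit false
open CategoryTheory CategoryTheory.Limits AlgebraicGeometry Opposite
universe u
open Desc

namespace Groth.Agent.S1131

/-- If p : X ⟶ S is surjective, flat and quasi-compact, then the functor sending a scheme over S to its
canonical descent datum relative to p is full. (Faithfulness, which needs no quasi-compactness, is a
companion statement.) (Descent data are taken in functor-of-points form, equivalent by the Yoneda
lemma to the usual form of an isomorphism over X ×_S X satisfying the cocycle condition.) -/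
theorem result {X S : Scheme.{u}} (p : X ⟶ S) [Surjective p] [Flat p] [QuasiCompact p] :
    (Desc.toDD p).Full := by
  refine ⟨fun {U U'} h => ?_⟩
  -- q : X ×_S U → U is fpqc hence an effective epimorphism
  let q : pullback p U.hom ⟶ U.left := pullback.snd p U.hom
  have hq : EffectiveEpi q := inferInstance
  let hl : pullback p U.hom ⟶ pullback p U'.hom := h.hom.left
  let e : pullback p U.hom ⟶ U'.left := hl ≫ pullback.snd p U'.hom
  have hfst : hl ≫ pullback.fst p U'.hom = pullback.fst p U.hom := Over.w h.hom
  have hcoeq : ∀ {Z : Scheme.{u}} (a b : Z ⟶ pullback p U.hom), a ≫ q = b ≫ q → a ≫ e = b ≫ e := by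
    intro Z a b hab
    have hx : (a ≫ pullback.fst p U.hom) ≫ p = (b ≫ pullback.fst p U.hom) ≫ p := by
      rw [Category.assoc, Category.assoc, pullback.condition, ← Category.assoc, ← Category.assoc]
      exact congrArg (· ≫ U.hom) hab
    let v : Desc.Lifts (Desc.canonicalDD p U).obj (a ≫ pullback.fst p U.hom) := ⟨a, rfl⟩
    let w : Desc.Lifts (Desc.canonicalDD p U').obj (a ≫ pullback.fst p U.hom) :=
      ⟨a ≫ hl, by
        change (a ≫ hl) ≫ pullback.fst p U'.hom = _
        rw [Category.assoc, hfst]⟩
    have hc : ((Desc.canonicalDD p U').φ (a ≫ pullback.fst p U.hom) (b ≫ pullback.fst p U.hom) hx w).1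
        = ((Desc.canonicalDD p U).φ (a ≫ pullback.fst p U.hom) (b ≫ pullback.fst p U.hom) hx v).1 ≫ hl :=
      h.comm (a ≫ pullback.fst p U.hom) (b ≫ pullback.fst p U.hom) hx v w rfl
    have hv : ((Desc.canonicalDD p U).φ (a ≫ pullback.fst p U.hom) (b ≫ pullback.fst p U.hom) hx v).1
        = b := by
      change pullback.lift _ _ _ = b
      apply pullback.hom_ext
      · rw [pullback.lift_fst]
      · rw [pullback.lift_snd]
        exact hab
    rw [hv] at hc
    have hw : ((Desc.canonicalDD p U').φ (a ≫ pullback.fst p U.hom) (b ≫ pullback.fst p U.hom) hx w).1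
        ≫ pullback.snd p U'.hom = (a ≫ hl) ≫ pullback.snd p U'.hom := by
      change pullback.lift _ _ _ ≫ _ = _
      rw [pullback.lift_snd]
      rfl
    rw [hc] at hw
    change a ≫ hl ≫ pullback.snd p U'.hom = b ≫ hl ≫ pullback.snd p U'.hom
    rw [← Category.assoc, ← Category.assoc]
    exact hw.symm
  let g : U.left ⟶ U'.left := EffectiveEpi.desc q e hcoeq
  have hg : q ≫ g = e := EffectiveEpi.fac q e hcoeq
  have hgS : g ≫ U'.hom = U.hom := by
    have : Epi q := inferInstance
    rw [← cancel_epi q, ← Category.assoc, hg]
    change (hl ≫ pullback.snd p U'.hom) ≫ U'.hom = pullback.snd p U.hom ≫ U.hom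
    rw [Category.assoc, ← pullback.condition, ← Category.assoc, hfst, pullback.condition]
  refine ⟨Over.homMk g hgS, ?_⟩
  apply Desc.SchDD.hom_ext
  ext1
  change pullback.map p U.hom p U'.hom (𝟙 X) g (𝟙 S) (by simp) (by rw [Category.comp_id, hgS]) = hl
  apply pullback.hom_ext
  · rw [pullback.lift_fst, Category.comp_id, hfst]
  · rw [pullback.lift_snd]
    exact hg

end Groth.Agent.S1131
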