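import Groth.Statements.S1400
import Groth.Agent.Lib.Helper5.IndQuasiAffine

set_option autoImplicit false
universe u
open FlatMor

namespace Groth.Agent.S1400

open AlgebraicGeometry CategoryTheory Limits in
/-- The base change of an ind-quasi-affine morphism is ind-quasi-affine. -/
theorem result {X S X' S' : Scheme.{u}} (f : X ⟶ S) (f' : X' ⟶ S') (g' : X' ⟶ X) (g : S' ⟶ S)
    (hc : IsPullback g' f' f g) (hf : MoreMor.IsIndQuasiAffineHom f) : MoreMor.IsIndQuasiAffineHom f' := by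
  rw [Groth.Agent.Lib.Helper5.IndQuasiAffine.isIndQuasiAffineHom_iff] at hf ⊢
  intro V' hV' U' hUV' hU'
  refine Groth.Agent.Lib.Helper5.IndQuasiAffine.isQuasiAffine_of_cover_basicOpen U' hU' fun x' hx' => ?_
  have hfx : f' x' ∈ V' := hUV' hx'
  -- affine neighbourhood of `g (f' x')` in `S`
  obtain ⟨V, hV, hgV⟩ : ∃ V : S.Opens, IsAffineOpen V ∧ g (f' x') ∈ V := by
    obtain ⟨_, ⟨V, hV : IsAffineOpen V, rfl⟩, hxV, -⟩ :=
      S.isBasis_affineOpens.exists_subset_of_mem_open (Set.mem_univ (g (f' x'))) isOpen_univ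
    exact ⟨V, hV, hxV⟩
  have hmem : f' x' ∈ V' ⊓ g ⁻¹ᵁ V := ⟨hfx, hgV⟩
  obtain ⟨r, hrle, hxr⟩ := hV'.exists_basicOpen_le (V := V' ⊓ g ⁻¹ᵁ V) ⟨f' x', hmem⟩ hfx
  have hDaff : IsAffineOpen (S'.basicOpen r) := hV'.basicOpen r
  have hDV : S'.basicOpen r ≤ g ⁻¹ᵁ V := fun z hz => (hrle hz).2
  refine ⟨f'.appLE V' U' hUV' r, ?_, ?_⟩
  · rw [Groth.Agent.Lib.Helper5.IndQuasiAffine.basicOpen_appLE]
    exact ⟨hx', hxr⟩
  · have hcomp : IsCompact ((X'.basicOpen (f'.appLE V' U' hUV' r) : X'.Opens) : Set X') :=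
      isCompact_basicOpen X' hU' _
    have hU'' : X'.basicOpen (f'.appLE V' U' hUV' r) ≤ f' ⁻¹ᵁ (S'.basicOpen r) := by
      rw [Groth.Agent.Lib.Helper5.IndQuasiAffine.basicOpen_appLE]
      exact inf_le_right
    -- a quasi-compact open `U` of `X` between the image of `U''` and `f⁻¹ V`
    obtain ⟨U0, hU0c, hU0o, hU0, hU0V⟩ := PrespectralSpace.exists_isCompact_and_isOpen_between
      (hcomp.image g'.continuous) (f ⁻¹ᵁ V).isOpen (by
        rintro _ ⟨z, hz, rfl⟩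
        have h1 : g (f' z) ∈ V := hDV (hU'' hz)
        have h2 : f (g' z) = g (f' z) := by
          rw [← Scheme.Hom.comp_apply, ← Scheme.Hom.comp_apply, hc.w]
        change f (g' z) ∈ V
        rw [h2]; exact h1)
    let U : X.Opens := ⟨U0, hU0o⟩
    have hUqa : Scheme.IsQuasiAffine (U : Scheme.{u}) := hf V hV U hU0V hU0c
    have hUV : U ≤ f ⁻¹ᵁ V := hU0V
    let P : X'.Opens := g' ⁻¹ᵁ U ⊓ f' ⁻¹ᵁ (S'.basicOpen r)
    have hsq := Scheme.Hom.isPullback_resLE hc (US := V) (UT := S'.basicOpen r) (UX := U)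
      hDV hUV (UY := P) rfl
    have : IsAffine ↑(S'.basicOpen r) := hDaff
    have : IsAffine ↑V := hV
    have haff : IsAffineHom (g.resLE V (S'.basicOpen r) hDV) := inferInstance
    have hPU : P ≤ g' ⁻¹ᵁ U := inf_le_left
    have haff' : IsAffineHom (g'.resLE U P hPU) :=
      MorphismProperty.of_isPullback hsq.flip haff
    have hPqa : Scheme.IsQuasiAffine (P : Scheme.{u}) :=
      Scheme.IsQuasiAffine.of_isAffineHom (g'.resLE U P hPU)
    refine Groth.Agent.Lib.Helper5.IndQuasiAffine.isQuasiAffine_of_le (V := P) ?_ hcomp hPqa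
    intro z hz
    exact ⟨hU0 ⟨z, hz, rfl⟩, hU'' hz⟩

end Groth.Agent.S1400
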