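import Groth.Statements.S1402
import Mathlib

set_option autoImplicit false
universe u
open FlatMor

namespace Groth.Agent.S1402


open CategoryTheory AlgebraicGeometry TopologicalSpace Opposite Limits

set_option backward.isDefEq.respectTransparency.types false in
theorem quasiCompact_of_compactSpace_of_isAffine {X Y : Scheme.{u}} (g : X ⟶ Y) [IsAffine Y]
    [CompactSpace X] : QuasiCompact g :=
  HasAffineProperty.iff_of_isAffine.mpr ‹_›

theorem isQuasiAffine_of_separated_lqf {X Y : Scheme.{u}} (g : X ⟶ Y) [IsAffine Y]
    [CompactSpace X] [IsSeparated g] [LocallyQuasiFinite g] [LocallyOfFiniteType g] :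
    X.IsQuasiAffine := by
  haveI : QuasiCompact g := quasiCompact_of_compactSpace_of_isAffine g
  haveI : IsAffine g.normalization := isAffine_of_isAffineHom g.fromNormalization
  exact Scheme.IsQuasiAffine.of_isImmersion g.toNormalization


open AlgebraicGeometry CategoryTheory Limits in
/-- A separated, locally quasi-finite morphism is ind-quasi-affine. -/
theorem result {X Y : Scheme.{u}} (f : X ⟶ Y) [IsSeparated f] [LocallyQuasiFinite f] [LocallyOfFiniteType f] :
    MoreMor.IsIndQuasiAffineHom f := by
  intro V hV U hU
  haveI : IsAffine (V : Scheme.{u}) := hV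
  haveI : CompactSpace (U : Scheme.{u}) := isCompact_iff_compactSpace.mp hU
  exact isQuasiAffine_of_separated_lqf (U.ι ≫ (f ∣_ V))

end Groth.Agent.S1402
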