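import Groth.Statements.S1398
import Groth.Agent.Lib.Helper5.IndQuasiAffine

set_option autoImplicit false
universe u
open FlatMor

namespace Groth.Agent.S1398

open AlgebraicGeometry CategoryTheory Limits in
/-- An immersion is ind-quasi-affine, and so is any quasi-affine morphism. -/
theorem result {X Y : Scheme.{u}} (f : X ⟶ Y) :
    (IsImmersion f → MoreMor.IsIndQuasiAffineHom f) ∧ (MoreMor.IsQuasiAffineHom f → MoreMor.IsIndQuasiAffineHom f) := by
  constructor
  · intro hf
    rw [Groth.Agent.Lib.Helper5.IndQuasiAffine.isIndQuasiAffineHom_iff]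
    intro V hV U hUV hU
    have : CompactSpace ↑U := isCompact_iff_compactSpace.mp hU
    have : IsAffine ↑V := hV
    have h1 : IsImmersion (f.resLE V U hUV ≫ V.ι) := by
      rw [Scheme.Hom.resLE_comp_ι]
      infer_instance
    have h2 : IsImmersion (f.resLE V U hUV) := IsImmersion.of_comp _ V.ι
    exact Scheme.IsQuasiAffine.of_isImmersion (f.resLE V U hUV)
  · intro hf
    rw [Groth.Agent.Lib.Helper5.IndQuasiAffine.isIndQuasiAffineHom_iff]
    intro V hV U hUV hU
    exact Groth.Agent.Lib.Helper5.IndQuasiAffine.isQuasiAffine_of_le hUV hU (hf.2 V hV)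

end Groth.Agent.S1398
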