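import Groth.Statements.S0063
-- import your own Groth.Agent.* helpers here

set_option autoImplicit false
open CategoryTheory CategoryTheory.Limits AlgebraicGeometry Opposite
universe u
open EtBase

namespace Groth.Agent.S0063

set_option backward.isDefEq.respectTransparency false in
lemma isOpenImmersion_equalizer_ι_left {S : Scheme.{u}} {X Y : Over S}
    [FormallyUnramified Y.hom] [LocallyOfFiniteType Y.hom]
    (f g : X ⟶ Y) : IsOpenImmersion (equalizer.ι f g).left := by
  refine MorphismProperty.of_isPullback
    ((Limits.isPullback_equalizer_prod f g).map (Over.forget _)).flip ?_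
  rw [← MorphismProperty.cancel_right_of_respectsIso @IsOpenImmersion _
    (Over.prodLeftIsoPullback Y Y).hom]
  convert! (inferInstance : IsOpenImmersion (pullback.diagonal Y.hom))
  ext1 <;> simp [← Over.comp_left]

section
variable {S : Scheme.{u}} {X' Y' : Over S}
    [FormallyUnramified Y'.hom] [LocallyOfFiniteType Y'.hom] [IsSeparated Y'.hom]

lemma isClopen_range_equalizer (f' g' : X' ⟶ Y') :
    IsClopen (Set.range (equalizer.ι f' g').left) := by
  have hc : IsClosedImmersion (equalizer.ι f' g').left := inferInstance
  have ho : IsOpenImmersion (equalizer.ι f' g').left := isOpenImmersion_equalizer_ι_left f' g'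
  exact ⟨(equalizer.ι f' g').left.isClosedEmbedding.isClosed_range,
      (equalizer.ι f' g').left.isOpenEmbedding.isOpen_range⟩

omit [FormallyUnramified Y'.hom] [LocallyOfFiniteType Y'.hom] [IsSeparated Y'.hom] in
lemma mem_range_equalizer (f' g' : X' ⟶ Y') (y : X'.left)
    (hy : X'.left.fromSpecResidueField y ≫ f'.left = X'.left.fromSpecResidueField y ≫ g'.left) :
    y ∈ Set.range (equalizer.ι f' g').left := by
  let U' : Over S := Over.mk (X'.left.fromSpecResidueField y ≫ X'.hom)
  let ι' : U' ⟶ X' := Over.homMk (X'.left.fromSpecResidueField y) rfl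
  have hι : ι' ≫ f' = ι' ≫ g' := by ext1; exact hy
  refine ⟨(equalizer.lift ι' hι).left (default : Spec (X'.left.residueField y)), ?_⟩
  rw [← Scheme.Hom.comp_apply, ← Over.comp_left, equalizer.lift_ι]
  exact Scheme.fromSpecResidueField_apply _ _

omit [IsSeparated Y'.hom] in
lemma eq_of_range_equalizer_eq_univ (f' g' : X' ⟶ Y')
    (huniv : Set.range (equalizer.ι f' g').left = Set.univ) : f'.left = g'.left := by
  have ho : IsOpenImmersion (equalizer.ι f' g').left := isOpenImmersion_equalizer_ι_left f' g'
  have : Surjective (equalizer.ι f' g').left := ⟨Set.range_eq_univ.mp huniv⟩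
  have : IsIso (equalizer.ι f' g').left :=
    (isIso_iff_isOpenImmersion_and_surjective _).mpr ⟨ho, this⟩
  rw [← cancel_epi (equalizer.ι f' g').left]
  exact congr($(equalizer.condition f' g').left)

/-- Rigidity, `Over` form. -/
lemma ext_over [ConnectedSpace X'.left] (f' g' : X' ⟶ Y') (y : X'.left)
    (hy : X'.left.fromSpecResidueField y ≫ f'.left = X'.left.fromSpecResidueField y ≫ g'.left) :
    f'.left = g'.left :=
  eq_of_range_equalizer_eq_univ f' g'
    ((isClopen_range_equalizer f' g').eq_univ ⟨y, mem_range_equalizer f' g' y hy⟩)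

end

/-- Rigidity of maps into an unramified separated scheme — two maps from a connected scheme over the
base that agree at one point, including on residue fields, coincide. -/
theorem result {X S Y : Scheme.{u}} (π : X ⟶ S)
    [FormallyUnramified π] [LocallyOfFiniteType π] [IsSeparated π]
    (h : Y ⟶ S) [ConnectedSpace Y] (f g : Y ⟶ X) (hf : f ≫ π = h) (hg : g ≫ π = h)
    (y : Y) (hy : Y.fromSpecResidueField y ≫ f = Y.fromSpecResidueField y ≫ g) : f = g := by
  let X' : Over S := Over.mk h
  let Y' : Over S := Over.mk π
  let f' : X' ⟶ Y' := Over.homMk f hf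
  let g' : X' ⟶ Y' := Over.homMk g hg
  have : IsSeparated Y'.hom := ‹_›
  have : FormallyUnramified Y'.hom := ‹_›
  have : LocallyOfFiniteType Y'.hom := ‹_›
  have : ConnectedSpace X'.left := ‹_›
  exact ext_over f' g' y hy

end Groth.Agent.S0063
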