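import Groth.Statements.S0237
import Groth.Agent.Lib.Helper24.FEtFaithful

set_option autoImplicit false
universe u
open Pi1

namespace Groth.Agent.S0237

open CategoryTheory CategoryTheory.Limits AlgebraicGeometry
open Groth.Agent.Lib.Helper24


open AlgebraicGeometry CategoryTheory in
/-- If a morphism of schemes has dense image, pulling back finite etale covers along it is faithful. -/
theorem result {X Y : Scheme.{u}} (f : X ⟶ Y)
    (h : DenseRange f.base) : (FEt.restrict f).Faithful := by
  refine ⟨fun {Y₁ Y₂} {φ ψ} hφψ => ?_⟩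
  apply FEtFaith.eq_of_range_eq_univ
  have hsub := FEtFaith.preimage_subset_range_equalizer f φ ψ hφψ
  have hcl : IsClosed (Set.range (equalizer.ι (FEtFaith.ov φ) (FEtFaith.ov ψ)).left) :=
    (Groth.Agent.S0063.isClopen_range_equalizer _ _).1
  have hd : Dense (Y₁.hom ⁻¹' (Set.range f)) := Dense.preimage h (FEtFaith.isOpenMap_hom Y₁)
  have := (hd.mono hsub).closure_eq
  rwa [hcl.closure_eq] at this


end Groth.Agent.S0237
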