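import Groth.Statements.S0243
import Groth.Agent.Lib.Helper24.FEtFaithful

set_option autoImplicit false
universe u
open Pi1

namespace Groth.Agent.S0243

open CategoryTheory CategoryTheory.Limits AlgebraicGeometry
open Groth.Agent.Lib.Helper24


open AlgebraicGeometry CategoryTheory CategoryTheory.Limits in
/-- If a closed subscheme meets every connected component of the ambient scheme, restricting finite
etale covers to it is a faithful functor. -/
theorem result {X Y : Scheme.{u}} (i : Y ⟶ X) [IsClosedImmersion i]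
    (h : ∀ x : X, (connectedComponent x ∩ Set.range i.base).Nonempty) :
    (FEt.restrict i).Faithful := by
  refine ⟨fun {Y₁ Y₂} {φ ψ} hφψ => ?_⟩
  apply FEtFaith.eq_of_range_eq_univ
  have hsub := FEtFaith.preimage_subset_range_equalizer i φ ψ hφψ
  set E := Set.range (equalizer.ι (FEtFaith.ov φ) (FEtFaith.ov ψ)).left with hE
  have hclopen : IsClopen E := Groth.Agent.S0063.isClopen_range_equalizer _ _
  by_contra hne
  have hne' : Eᶜ.Nonempty := Set.nonempty_compl.mpr hne
  obtain ⟨y, hy⟩ := hne'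
  -- image of the complement is clopen in X
  have himg : IsClopen (Y₁.hom '' Eᶜ) :=
    ⟨FEtFaith.isClosedMap_hom Y₁ _ hclopen.compl.1, FEtFaith.isOpenMap_hom Y₁ _ hclopen.compl.2⟩
  have hx : Y₁.hom y ∈ Y₁.hom '' Eᶜ := ⟨y, hy, rfl⟩
  have hcc : connectedComponent (Y₁.hom y) ⊆ Y₁.hom '' Eᶜ := himg.connectedComponent_subset hx
  obtain ⟨z, hz1, hz2⟩ := h (Y₁.hom y)
  obtain ⟨y', hy'E, hy'z⟩ := hcc hz1
  apply hy'E
  apply hsub
  show Y₁.hom y' ∈ Set.range i
  rw [hy'z]
  exact hz2

end Groth.Agent.S0243
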