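import Groth.Statements.S0239
import Mathlib
import Groth.Agent.Lib.Helper4.FEtHens
import Groth.Agent.S0243

set_option autoImplicit false
universe u
open Pi1

namespace Groth.Agent.S0239

open AlgebraicGeometry CategoryTheory CategoryTheory.Limits in
open Groth.Agent.Lib.Helper4 in
/-- For a henselian pair (A, I) in Mathlib's sense, restricting finite etale covers from Spec A to the
closed subscheme Spec (A/I) is an equivalence of categories. -/
theorem result (A : Type u) [CommRing A] (I : Ideal A) [HenselianRing A I] :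
    (FEt.restrict (Spec.map (CommRingCat.ofHom (Ideal.Quotient.mk I)))).IsEquivalence := by
  have hfaith : (FEt.restrict (FEtAff.ι A I)).Faithful := by
    have : IsClosedImmersion (FEtAff.ι A I) :=
      IsClosedImmersion.spec_of_quotient_mk (R := CommRingCat.of A) I
    apply Groth.Agent.S0243.result
    intro x
    have hcl : IsClosed (connectedComponent x) := isClosed_connectedComponent
    obtain ⟨J, hJ⟩ := (PrimeSpectrum.isClosed_iff_zeroLocus_ideal _).mp hcl
    have hne : (connectedComponent x).Nonempty := ⟨x, mem_connectedComponent⟩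
    have hJtop : J ≠ ⊤ := by
      rintro rfl
      rw [hJ, PrimeSpectrum.zeroLocus_empty_iff_eq_top.mpr rfl] at hne
      exact Set.not_nonempty_empty hne
    obtain ⟨m, hm, hJm⟩ := Ideal.exists_le_maximal J hJtop
    have hIm : I ≤ m := by
      refine (HenselianRing.jac (R := A) (I := I)).trans ?_
      exact (Ideal.jacobson_mono bot_le).trans (Ideal.jacobson_eq_self_of_isMaximal (I := m)).le
    let mp : PrimeSpectrum A := ⟨m, hm.isPrime⟩
    refine ⟨mp, ?_, ?_⟩
    · rw [hJ]
      exact hJm
    · have hr : Set.range (PrimeSpectrum.comap (Ideal.Quotient.mk I)) =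
          PrimeSpectrum.zeroLocus (RingHom.ker (Ideal.Quotient.mk I)) :=
        range_comap_of_surjective _ _ Ideal.Quotient.mk_surjective
      have : mp ∈ Set.range (PrimeSpectrum.comap (Ideal.Quotient.mk I)) := by
        rw [hr, Ideal.mk_ker]
        exact hIm
      exact this
  have hfull : (FEt.restrict (FEtAff.ι A I)).Full := by
    refine ⟨fun {Y₁ Y₂} g => ?_⟩
    obtain ⟨B₁, _, _, hf1, he1, ⟨e₁⟩⟩ := FEtAff.exists_iso_specObj A Y₁
    obtain ⟨B₂, _, _, hf2, he2, ⟨e₂⟩⟩ := FEtAff.exists_iso_specObj A Y₂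
    let g' := (FEt.restrict (FEtAff.ι A I)).map e₁.inv ≫ g ≫ (FEt.restrict (FEtAff.ι A I)).map e₂.hom
    obtain ⟨φ, hφ⟩ := FEtAff.exists_map_eq A B₁ B₂ I g'
      (fun ψ hψ => FEtAff.hlift_of_henselian A I B₁ B₂ ψ hψ)
    refine ⟨e₁.hom ≫ FEtAff.specHom A B₁ B₂ φ ≫ e₂.inv, ?_⟩
    rw [Functor.map_comp, Functor.map_comp, hφ]
    simp only [g', Category.assoc, ← CategoryTheory.Functor.map_comp, Iso.hom_inv_id]
    rw [← Category.assoc, ← CategoryTheory.Functor.map_comp, Iso.hom_inv_id,
      CategoryTheory.Functor.map_id, CategoryTheory.Functor.map_id, Category.id_comp,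
      Category.comp_id]
  have hess : (FEt.restrict (FEtAff.ι A I)).EssSurj := by
    refine ⟨fun Z => ?_⟩
    obtain ⟨C, _, _, hfC, heC, ⟨eZ⟩⟩ := FEtAff.exists_iso_specObj (A ⧸ I) Z
    obtain ⟨B, _, _, hfB, heB, e, he⟩ := FEtAff.exists_lift_ringEquiv A I C
    obtain ⟨eB⟩ := FEtAff.restrict_specObj_iso A I B C e he
    exact ⟨FEtAff.specObj A B, ⟨eB ≪≫ eZ.symm⟩⟩
  exact { faithful := hfaith, full := hfull, essSurj := hess }

end Groth.Agent.S0239
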