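import Groth.Statements.S0283
import Groth.Agent.Lib.Helper10.FEtGraph
import Groth.Agent.Lib.Helper10.NormalExt
import Groth.Agent.S0237

set_option autoImplicit false
universe u
open Pi1

namespace Groth.Agent.S0283

open AlgebraicGeometry CategoryTheory CategoryTheory.Limits in
/-- Let f : X → Y be a morphism of schemes which is integral, universally injective and surjective (that
is, a universal homeomorphism). Then base change along f, from finite étale covers of Y to finite
étale covers of X, is a full and faithful functor. -/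
theorem result {X Y : Scheme.{u}} (f : X ⟶ Y) [IsIntegralHom f] [UniversallyInjective f] [Surjective f] :
    (FEt.restrict f).Full ∧ (FEt.restrict f).Faithful := by
  refine ⟨?_, Groth.Agent.S0237.result f (fun y => by
    rw [(Set.range_eq_univ.mpr f.surjective), closure_univ]; trivial)⟩
  apply Groth.Agent.Lib.Helper10.NormalExt.full_of_extend
  intro Y₁ Y₂ ψ hψ
  haveI : AlgebraicGeometry.Etale Y₂.hom := Y₂.prop.2
  haveI : AlgebraicGeometry.UniversallyInjective (CategoryTheory.Limits.pullback.fst Y₁.hom f) :=
    (AlgebraicGeometry.UniversallyInjective.isStableUnderBaseChange).of_isPullback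
      (CategoryTheory.IsPullback.of_hasPullback Y₁.hom f).flip inferInstance
  let γ : CategoryTheory.Limits.pullback Y₁.hom f ⟶ CategoryTheory.Limits.pullback Y₁.hom Y₂.hom :=
    CategoryTheory.Limits.pullback.lift (CategoryTheory.Limits.pullback.fst Y₁.hom f)
      (ψ ≫ CategoryTheory.Limits.pullback.fst Y₂.hom f) (by
        rw [CategoryTheory.Category.assoc,
          CategoryTheory.Limits.pullback.condition (f := Y₂.hom) (g := f),
          ← CategoryTheory.Category.assoc, hψ, CategoryTheory.Limits.pullback.condition])
  have hγ : γ ≫ CategoryTheory.Limits.pullback.fst Y₁.hom Y₂.hom =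
      CategoryTheory.Limits.pullback.fst Y₁.hom f := CategoryTheory.Limits.pullback.lift_fst _ _ _
  have hγ2 : γ ≫ CategoryTheory.Limits.pullback.snd Y₁.hom Y₂.hom =
      ψ ≫ CategoryTheory.Limits.pullback.fst Y₂.hom f := CategoryTheory.Limits.pullback.lift_snd _ _ _
  haveI hF3 : AlgebraicGeometry.UniversallyInjective (CategoryTheory.Limits.pullback.fst
      (CategoryTheory.Limits.pullback.fst Y₁.hom Y₂.hom)
      (CategoryTheory.Limits.pullback.fst Y₁.hom f)) :=
    (AlgebraicGeometry.UniversallyInjective.isStableUnderBaseChange).of_isPullback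
      (CategoryTheory.IsPullback.of_hasPullback (CategoryTheory.Limits.pullback.fst Y₁.hom Y₂.hom)
        (CategoryTheory.Limits.pullback.fst Y₁.hom f)).flip inferInstance
  have hs' : (CategoryTheory.Limits.pullback.lift γ (CategoryTheory.CategoryStruct.id _)
      (by rw [hγ, CategoryTheory.Category.id_comp]) :
      CategoryTheory.Limits.pullback Y₁.hom f ⟶ CategoryTheory.Limits.pullback
        (CategoryTheory.Limits.pullback.fst Y₁.hom Y₂.hom)
        (CategoryTheory.Limits.pullback.fst Y₁.hom f)) ≫
      CategoryTheory.Limits.pullback.snd _ _ = CategoryTheory.CategoryStruct.id _ :=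
    CategoryTheory.Limits.pullback.lift_snd _ _ _
  haveI hoi := Groth.Agent.Lib.Helper10.FEtGraph.isOpenImmersion_of_section _ _ hs'
  have hbij : Function.Bijective (CategoryTheory.Limits.pullback.fst
      (CategoryTheory.Limits.pullback.fst Y₁.hom Y₂.hom)
      (CategoryTheory.Limits.pullback.fst Y₁.hom f)) :=
    ⟨AlgebraicGeometry.Scheme.Hom.injective _, AlgebraicGeometry.Scheme.Hom.surjective _⟩
  have hopen : IsOpen ((CategoryTheory.Limits.pullback.fst
      (CategoryTheory.Limits.pullback.fst Y₁.hom Y₂.hom)
      (CategoryTheory.Limits.pullback.fst Y₁.hom f)) '' Set.range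
      (CategoryTheory.Limits.pullback.lift γ (CategoryTheory.CategoryStruct.id _)
        (by rw [hγ, CategoryTheory.Category.id_comp]) :
      CategoryTheory.Limits.pullback Y₁.hom f ⟶ CategoryTheory.Limits.pullback
        (CategoryTheory.Limits.pullback.fst Y₁.hom Y₂.hom)
        (CategoryTheory.Limits.pullback.fst Y₁.hom f))) := by
    rw [← isClosed_compl_iff, ← Set.image_compl_eq hbij]
    apply AlgebraicGeometry.Scheme.Hom.isClosedMap
    rw [isClosed_compl_iff]
    exact (AlgebraicGeometry.Scheme.Hom.isOpenEmbedding _).isOpen_range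
  obtain ⟨σ, hσ1, hσ2⟩ := Groth.Agent.Lib.Helper10.FEtGraph.exists_section_of_opens Y₁.hom Y₂.hom
    (CategoryTheory.Limits.pullback.fst Y₁.hom f) γ hγ ⟨_, hopen⟩
    (Set.preimage_image_eq _ hbij.1)
  refine ⟨σ ≫ CategoryTheory.Limits.pullback.snd Y₁.hom Y₂.hom, ?_, ?_⟩
  · rw [CategoryTheory.Category.assoc, ← CategoryTheory.Limits.pullback.condition,
      ← CategoryTheory.Category.assoc, hσ1]
    exact CategoryTheory.Category.id_comp _
  · rw [← CategoryTheory.Category.assoc, hσ2, hγ2]

end Groth.Agent.S0283
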