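import Groth.Statements.S0294
import Mathlib

set_option autoImplicit false
universe u
open Pi1

namespace Groth.Agent.S0294

open AlgebraicGeometry CategoryTheory CategoryTheory.Limits in
/-- For a finite étale cover Y of a scheme X and a point ξ : Spec Ω → X with values in a field Ω, the
fibre of Y over ξ (the set of Ω-valued points of Y lying over ξ) is finite. -/
theorem result {X : Scheme.{u}} {Ω : Type u} [Field Ω] (ξ : Spec (CommRingCat.of Ω) ⟶ X) (Y : FEt.Cat X) :
    Finite (FEt.fiberObj ξ Y) := by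
  haveI hfin : IsFinite Y.hom := Y.prop.1
  haveI : IsFinite (pullback.snd Y.hom ξ) := inferInstance
  haveI : IsAffine (pullback Y.hom ξ) := isAffine_of_isAffineHom (pullback.snd Y.hom ξ)
  -- the Ω-algebra E = Γ(P)
  let ρ : Ω →+* Γ(pullback Y.hom ξ, ⊤) :=
    ((Scheme.ΓSpecIso (CommRingCat.of Ω)).inv ≫ (pullback.snd Y.hom ξ).appTop).hom
  letI : Algebra Ω Γ(pullback Y.hom ξ, ⊤) := ρ.toAlgebra
  haveI : Module.Finite Ω Γ(pullback Y.hom ξ, ⊤) := by
    have h1 : (pullback.snd Y.hom ξ).appTop.hom.Finite := (pullback.snd Y.hom ξ).finite_appTop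
    have h2 : ((Scheme.ΓSpecIso (CommRingCat.of Ω)).inv).hom.Finite :=
      RingHom.Finite.of_surjective _
        (ConcreteCategory.bijective_of_isIso (Scheme.ΓSpecIso (CommRingCat.of Ω)).inv).surjective
    exact RingHom.Finite.comp h1 h2
  -- sections
  let σ : FEt.fiberObj ξ Y → (Spec (CommRingCat.of Ω) ⟶ pullback Y.hom ξ) := fun s =>
    pullback.lift s.1 (𝟙 _) (by rw [s.2, Category.id_comp])
  have hσ1 : ∀ s, σ s ≫ pullback.fst Y.hom ξ = s.1 := fun s => pullback.lift_fst _ _ _
  have hσ2 : ∀ s, σ s ≫ pullback.snd Y.hom ξ = 𝟙 _ := fun s => pullback.lift_snd _ _ _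
  let Φ : FEt.fiberObj ξ Y → (Γ(pullback Y.hom ξ, ⊤) →ₐ[Ω] Ω) := fun s =>
    { toRingHom := ((σ s).appTop ≫ (Scheme.ΓSpecIso (CommRingCat.of Ω)).hom).hom
      commutes' := by
        intro a
        change ((Scheme.ΓSpecIso (CommRingCat.of Ω)).hom).hom
          ((σ s).appTop.hom ((pullback.snd Y.hom ξ).appTop.hom
            (((Scheme.ΓSpecIso (CommRingCat.of Ω)).inv).hom a))) = a
        have h1 : (pullback.snd Y.hom ξ).appTop ≫ (σ s).appTop = 𝟙 _ := by
          rw [← Scheme.Hom.comp_appTop, hσ2]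
          rfl
        have h2 := congrArg (fun m => m.hom (((Scheme.ΓSpecIso (CommRingCat.of Ω)).inv).hom a)) h1
        simp only [CommRingCat.hom_comp, RingHom.comp_apply, CommRingCat.hom_id,
          RingHom.id_apply] at h2
        rw [h2]
        have h3 := congrArg (fun m => m.hom a) (Scheme.ΓSpecIso (CommRingCat.of Ω)).inv_hom_id
        exact h3 }
  have hΦ : Function.Injective Φ := by
    intro s s' h
    have h1 : ((σ s).appTop ≫ (Scheme.ΓSpecIso (CommRingCat.of Ω)).hom) =
        ((σ s').appTop ≫ (Scheme.ΓSpecIso (CommRingCat.of Ω)).hom) := by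
      ext x
      exact congrArg (fun m => m x) h
    have h2 : (σ s).appTop = (σ s').appTop := by
      rwa [cancel_mono] at h1
    have h3 : σ s = σ s' := ext_of_isAffine h2
    apply Subtype.ext
    rw [← hσ1 s, ← hσ1 s', h3]
  exact Finite.of_injective Φ hΦ

end Groth.Agent.S0294
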