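import Groth.Statements.S7495
-- import your own Groth.Agent.* helpers here

set_option autoImplicit false
universe u
open CategoryTheory MonoidalCategory CartesianMonoidalCategory MonObj GrpObj AlgebraicGeometry
open GrpSch

namespace Groth.Agent.S7495

set_option backward.defeqAttrib.useBackward true in
set_option backward.isDefEq.respectTransparency false in
open MonObj MonoidalCategory CartesianMonoidalCategory in
lemma smooth_of_grpObj_of_isAlgClosed' {K : Type u} [Field K] {G : Scheme.{u}}
    (f : G ⟶ Spec (.of K)) [LocallyOfFiniteType f] [GrpObj (Over.mk f)] [IsAlgClosed K]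
    (hne : (f.smoothLocus : Set G).Nonempty) : Smooth f := by
  have := LocallyOfFiniteType.jacobsonSpace f
  rw [← Scheme.Hom.smoothLocus_eq_top_iff, ← TopologicalSpace.Opens.coe_eq_univ,
    ← not_ne_iff, ← Set.nonempty_compl]
  intro H
  obtain ⟨x, hx, hxc⟩ :=
    nonempty_inter_closedPoints H f.smoothLocus.2.isClosed_compl.isLocallyClosed
  obtain ⟨y, hy : y ∈ f.smoothLocus, hyc⟩ := nonempty_inter_closedPoints
    hne f.smoothLocus.2.isLocallyClosed
  let x' : 𝟙_ _ ⟶ Over.mk f := Over.homMk _ ((pointEquivClosedPoint f).symm ⟨x, hxc⟩).2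
  let y' : 𝟙_ _ ⟶ Over.mk f := Over.homMk _ ((pointEquivClosedPoint f).symm ⟨y, hyc⟩).2
  let α := (GrpObj.mulRight (A := Over.mk f) x').symm ≪≫
    (GrpObj.mulRight (A := Over.mk f) y')
  have hα : x' ≫ α.hom = y' := by
    dsimp only [Iso.trans_hom, Iso.symm_hom, α]
    rw [← Category.assoc, ← Iso.eq_comp_inv]
    simp [comp_lift_assoc]
  have hα' : α.hom.left x = y := by
    simpa [x', y', pointEquivClosedPoint] using congr(($hα).left (IsLocalRing.closedPoint K))
  rw! [← hα', ← α.hom.left.mem_preimage, Scheme.Hom.preimage_smoothLocus_eq,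
    show α.hom.left ≫ f = f from α.hom.w] at hy
  exact hx hy

/-- Let k be a perfect field of positive characteristic and G a group scheme locally of finite type over
k whose underlying scheme is reduced. Then G -> Spec k is smooth. -/
theorem result (K : Type u) [Field K] [PerfectField K] (hK : ringChar K ≠ 0) (G : Over (Spec (CommRingCat.of K))) [GrpObj G] [LocallyOfFiniteType G.hom] [IsReduced G.left] : Smooth G.hom := by
  let Ω : Type u := AlgebraicClosure K
  let g : Spec (.of Ω) ⟶ Spec (.of K) := Spec.map (CommRingCat.ofHom <| algebraMap K Ω)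
  apply MorphismProperty.of_pullback_snd_of_descendsAlong
    (Q := @Surjective ⊓ @Flat ⊓ @QuasiCompact) (g := g)
  · exact ⟨⟨inferInstance, inferInstance⟩, inferInstance⟩
  · let : GrpObj (Over.mk G.hom) := inferInstanceAs (GrpObj G)
    let : GrpObj (Over.mk (Limits.pullback.snd G.hom g)) := Over.grpObjMkPullbackSnd
    apply smooth_of_grpObj_of_isAlgClosed'
    let U : G.left.Opens := G.hom.smoothLocus
    have hUne : (U : Set G.left).Nonempty := by
      have : Nonempty G.left := ⟨η[G].left (IsLocalRing.closedPoint K)⟩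
      exact G.hom.dense_smoothLocus_of_perfectField.nonempty
    have hUs : Smooth (U.ι ≫ G.hom) := by
      rw [← Scheme.Hom.smoothLocus_eq_top_iff, ← Scheme.Hom.preimage_smoothLocus_eq]
      exact U.ι_preimage_self
    let i' : Limits.pullback (U.ι ≫ G.hom) g ⟶ Limits.pullback G.hom g :=
      Limits.pullback.map _ _ _ _ U.ι (𝟙 _) (𝟙 _) (by simp) (by simp)
    have : IsOpenImmersion i' := inferInstance
    have hi' : i' ≫ Limits.pullback.snd G.hom g = Limits.pullback.snd (U.ι ≫ G.hom) g := by
      dsimp only [i']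
      rw [Limits.pullback.lift_snd, Category.comp_id]
    obtain ⟨u, hu⟩ := hUne
    obtain ⟨z, hz⟩ := (Limits.pullback.fst (U.ι ≫ G.hom) g).surjective ⟨u, hu⟩
    refine ⟨i' z, ?_⟩
    rw [SetLike.mem_coe, ← Scheme.Hom.mem_preimage, Scheme.Hom.preimage_smoothLocus_eq]
    have : Smooth (i' ≫ Limits.pullback.snd G.hom g) := by rw [hi']; infer_instance
    rw [Scheme.Hom.smoothLocus_eq_top]
    trivial

end Groth.Agent.S7495
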