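import Groth.Statements.S0353
import Groth.Agent.Lib.Helper25.GrpSmoothPt
import Groth.Agent.S7495

set_option autoImplicit false
universe u v
open CategoryTheory MonoidalCategory CartesianMonoidalCategory MonObj GrpObj AlgebraicGeometry
open GrpSch

namespace Groth.Agent.S0353

/-- A group scheme locally of finite type over a field of characteristic zero is smooth over the field. -/
theorem result (K : Type u) [Field K] (G : Over (Spec (CommRingCat.of K))) [GrpObj G] [CharZero K] [LocallyOfFiniteType G.hom] : Smooth G.hom := by
  let Ω : Type u := AlgebraicClosure K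
  let g : Spec (.of Ω) ⟶ Spec (.of K) := Spec.map (CommRingCat.ofHom <| algebraMap K Ω)
  apply MorphismProperty.of_pullback_snd_of_descendsAlong
    (Q := @Surjective ⊓ @Flat ⊓ @QuasiCompact) (g := g)
  · exact ⟨⟨inferInstance, inferInstance⟩, inferInstance⟩
  · let : GrpObj (Over.mk G.hom) := inferInstanceAs (GrpObj G)
    let : GrpObj (Over.mk (Limits.pullback.snd G.hom g)) := Over.grpObjMkPullbackSnd
    apply Groth.Agent.S7495.smooth_of_grpObj_of_isAlgClosed'
    have : CharZero Ω := inferInstanceAs (CharZero (AlgebraicClosure K))
    have : LocallyOfFiniteType (Over.mk (Limits.pullback.snd G.hom g)).hom :=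
      inferInstanceAs (LocallyOfFiniteType (Limits.pullback.snd G.hom g))
    exact ⟨_, Groth.Agent.Lib.Helper25.GrpTangent.unit_mem_smoothLocus
      (K := Ω) (Over.mk (Limits.pullback.snd G.hom g))⟩


end Groth.Agent.S0353
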