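import Groth.Statements.S9218
-- import your own Groth.Agent.* helpers here
import Groth.Agent.Lib.Helper5.LimitBaseChange

set_option autoImplicit false
universe u
open CategoryTheory CategoryTheory.Limits AlgebraicGeometry
open Lim

namespace Groth.Agent.S9218


open Groth.Agent.Lib.Helper5 in
set_option backward.isDefEq.respectTransparency false in
theorem aux {I : Type u} [SmallCategory I] [IsCofiltered I]
    (D : I ⥤ Scheme.{u}) (c : Limits.Cone D) (hc : Limits.IsLimit c)
    [∀ (i j : I) (f : i ⟶ j), IsAffineHom (D.map f)] (i : I)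
    {Xi Yi : Scheme.{u}} (xi : Xi ⟶ D.obj i) (yi : Yi ⟶ D.obj i)
    [CompactSpace Xi] [QuasiSeparatedSpace Xi] [LocallyOfFinitePresentation yi]
    (a : pullback (c.π.app i) xi ⟶ Yi)
    (ha : a ≫ yi = pullback.snd (c.π.app i) xi ≫ xi) :
    ∃ (j : I) (φ : j ⟶ i) (g : pullback (D.map φ) xi ⟶ Yi),
      g ≫ yi = pullback.snd (D.map φ) xi ≫ xi ∧
      pullback.lift (pullback.fst (c.π.app i) xi ≫ c.π.app j) (pullback.snd (c.π.app i) xi)
        (by rw [Category.assoc, c.w, pullback.condition]) ≫ g = a := by
  have hcpt : ∀ j : Over i, CompactSpace ↥((bcDiagram D i xi).obj j) := by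
    intro j
    have : QuasiCompact (pullback.snd (D.map j.hom) xi) :=
      MorphismProperty.pullback_snd _ _ inferInstance
    exact QuasiCompact.compactSpace_of_compactSpace (pullback.snd (D.map j.hom) xi)
  have hqs : ∀ j : Over i, QuasiSeparatedSpace ↥((bcDiagram D i xi).obj j) := by
    intro j
    have : QuasiSeparated (pullback.snd (D.map j.hom) xi) :=
      MorphismProperty.pullback_snd _ _ inferInstance
    exact quasiSeparatedSpace_of_quasiSeparated (pullback.snd (D.map j.hom) xi)
  have haff : ∀ {j k : Over i} (φ : j ⟶ k), IsAffineHom ((bcDiagram D i xi).map φ) :=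
    fun φ => inferInstance
  let t : bcDiagram D i xi ⟶ (Functor.const (Over i)).obj (D.obj i) :=
    { app := fun j => pullback.snd (D.map j.hom) xi ≫ xi
      naturality := fun j k φ => by
        simp [bcDiagram] }
  obtain ⟨k, g, hg1, hg2⟩ := Scheme.exists_π_app_comp_eq_of_locallyOfFinitePresentation
    (bcDiagram D i xi) t yi (bcCone D c i xi) (isLimitBcCone D c hc i xi) a
    (by
      ext k : 2
      simp only [NatTrans.comp_app, Functor.const_obj_obj, Functor.const_map_app, t]
      rw [← Category.assoc, bcCone_π_app_snd, ha])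
  refine ⟨k.left, k.hom, g, hg2, ?_⟩
  rw [← hg1]
  rfl

/-- Let S = lim S_i be a cofiltered limit of schemes with affine transition morphisms (the S_i are not
assumed quasi-compact or quasi-separated), i an index, and X_i → S_i, Y_i → S_i morphisms locally of
finite presentation with X_i, Y_i quasi-compact and quasi-separated; let X, Y be their base changes
to S (pullback squares). Then every S-morphism f : X → Y comes from some stage: for some index j
over i there is an S_j-morphism f_j : X_i ×_{S_i} S_j → Y_i ×_{S_i} S_j whose base change to S is f,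
in the sense that the canonical morphisms X → X_i ×_{S_i} S_j and Y → Y_i ×_{S_i} S_j intertwine f
and f_j. This is the fullness part of the equivalence between the colimit of the categories of
quasi-compact quasi-separated schemes locally of finite presentation over the S_i and the
corresponding category over S. -/
theorem result {I : Type u} [SmallCategory I] [IsCofiltered I]
    (D : I ⥤ Scheme.{u}) (c : Limits.Cone D) (hc : Limits.IsLimit c)
    [∀ (i j : I) (f : i ⟶ j), IsAffineHom (D.map f)] (i : I)
    {Xi Yi : Scheme.{u}} (xi : Xi ⟶ D.obj i) (yi : Yi ⟶ D.obj i)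
    [CompactSpace Xi] [QuasiSeparatedSpace Xi] [LocallyOfFinitePresentation xi]
    [CompactSpace Yi] [QuasiSeparatedSpace Yi] [LocallyOfFinitePresentation yi]
    {X Y : Scheme.{u}} (qX : X ⟶ Xi) (pX : X ⟶ c.pt) (hX : IsPullback qX pX xi (c.π.app i))
    (qY : Y ⟶ Yi) (pY : Y ⟶ c.pt) (hY : IsPullback qY pY yi (c.π.app i))
    (f : X ⟶ Y) (hf : f ≫ pY = pX) :
    ∃ (j : I) (φ : j ⟶ i) (fj : pullback xi (D.map φ) ⟶ pullback yi (D.map φ))
      (sX : X ⟶ pullback xi (D.map φ)) (sY : Y ⟶ pullback yi (D.map φ)),
      fj ≫ pullback.snd yi (D.map φ) = pullback.snd xi (D.map φ) ∧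
      sX ≫ pullback.fst xi (D.map φ) = qX ∧ sX ≫ pullback.snd xi (D.map φ) = pX ≫ c.π.app j ∧
      sY ≫ pullback.fst yi (D.map φ) = qY ∧ sY ≫ pullback.snd yi (D.map φ) = pY ≫ c.π.app j ∧
      sX ≫ fj = f ≫ sY := by
  let e : X ≅ pullback (c.π.app i) xi := hX.flip.isoPullback
  have e_fst : e.hom ≫ pullback.fst (c.π.app i) xi = pX := hX.flip.isoPullback_hom_fst
  have e_snd : e.hom ≫ pullback.snd (c.π.app i) xi = qX := hX.flip.isoPullback_hom_snd
  have hfp : LocallyOfFinitePresentation yi := inferInstance
  obtain ⟨j, φ, g, hg1, hg2⟩ := aux D c hc i xi yi (e.inv ≫ f ≫ qY) (by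
    rw [Category.assoc, Iso.inv_comp_eq, Category.assoc, hY.w, ← Category.assoc, hf,
      ← Category.assoc, e_snd, hX.w])
  have wX : qX ≫ xi = (pX ≫ c.π.app j) ≫ D.map φ := by
    rw [Category.assoc, c.w, hX.w]
  have wY : qY ≫ yi = (pY ≫ c.π.app j) ≫ D.map φ := by
    rw [Category.assoc, c.w, hY.w]
  let σ := (pullbackSymmetry xi (D.map φ)).hom
  have σ_fst : σ ≫ pullback.fst (D.map φ) xi = pullback.snd xi (D.map φ) := by simp [σ]
  have σ_snd : σ ≫ pullback.snd (D.map φ) xi = pullback.fst xi (D.map φ) := by simp [σ]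
  have wf : (σ ≫ g) ≫ yi = pullback.snd xi (D.map φ) ≫ D.map φ := by
    rw [Category.assoc, hg1, ← Category.assoc, σ_snd, pullback.condition]
  refine ⟨j, φ, pullback.lift (σ ≫ g) (pullback.snd xi (D.map φ)) wf,
    pullback.lift qX (pX ≫ c.π.app j) wX, pullback.lift qY (pY ≫ c.π.app j) wY,
    ?_, ?_, ?_, ?_, ?_, ?_⟩
  · rw [pullback.lift_snd]
  · rw [pullback.lift_fst]
  · rw [pullback.lift_snd]
  · rw [pullback.lift_fst]
  · rw [pullback.lift_snd]
  · apply pullback.hom_ext
    · rw [Category.assoc, pullback.lift_fst, Category.assoc, pullback.lift_fst]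
      have key : pullback.lift qX (pX ≫ c.π.app j) wX ≫ σ =
          e.hom ≫ pullback.lift (pullback.fst (c.π.app i) xi ≫ c.π.app j)
            (pullback.snd (c.π.app i) xi)
            (by rw [Category.assoc, c.w, pullback.condition]) := by
        apply pullback.hom_ext
        · rw [Category.assoc, σ_fst, pullback.lift_snd, Category.assoc, pullback.lift_fst,
            ← Category.assoc, e_fst]
        · rw [Category.assoc, σ_snd, pullback.lift_fst, Category.assoc, pullback.lift_snd, e_snd]
      rw [← Category.assoc, key, Category.assoc, hg2, Iso.hom_inv_id_assoc]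
    · rw [Category.assoc, pullback.lift_snd, pullback.lift_snd, Category.assoc, pullback.lift_snd,
        ← Category.assoc, hf]

end Groth.Agent.S9218
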