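import Groth.Statements.S9219
-- import your own Groth.Agent.* helpers here
import Groth.Agent.Lib.Helper5.LimitBaseChange

set_option autoImplicit false
universe u
open CategoryTheory CategoryTheory.Limits AlgebraicGeometry
open Lim

namespace Groth.Agent.S9219


open Groth.Agent.Lib.Helper5 in
set_option backward.isDefEq.respectTransparency false in
theorem aux {I : Type u} [SmallCategory I] [IsCofiltered I]
    (D : I ⥤ Scheme.{u}) (c : Limits.Cone D) (hc : Limits.IsLimit c)
    [∀ (i j : I) (f : i ⟶ j), IsAffineHom (D.map f)] (i : I)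
    {Xi Yi : Scheme.{u}} (xi : Xi ⟶ D.obj i) (yi : Yi ⟶ D.obj i)
    [CompactSpace Xi] [LocallyOfFiniteType yi]
    (fi gi : Xi ⟶ Yi) (hfi : fi ≫ yi = xi) (hgi : gi ≫ yi = xi)
    (h : pullback.snd (c.π.app i) xi ≫ fi = pullback.snd (c.π.app i) xi ≫ gi) :
    ∃ (j : I) (φ : j ⟶ i), pullback.snd (D.map φ) xi ≫ fi = pullback.snd (D.map φ) xi ≫ gi := by
  have hcpt : ∀ j : Over i, CompactSpace ↥((bcDiagram D i xi).obj j) := by
    intro j
    have : QuasiCompact (pullback.snd (D.map j.hom) xi) :=
      MorphismProperty.pullback_snd _ _ inferInstance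
    exact QuasiCompact.compactSpace_of_compactSpace (pullback.snd (D.map j.hom) xi)
  have haff : ∀ {j k : Over i} (φ : j ⟶ k), IsAffineHom ((bcDiagram D i xi).map φ) :=
    fun φ => inferInstance
  let t : bcDiagram D i xi ⟶ (Functor.const (Over i)).obj (D.obj i) :=
    { app := fun j => pullback.snd (D.map j.hom) xi ≫ xi
      naturality := fun j k φ => by
        simp [bcDiagram] }
  obtain ⟨k, hik, hk⟩ := Scheme.exists_hom_comp_eq_comp_of_locallyOfFiniteType
    (bcDiagram D i xi) t yi (bcCone D c i xi) (isLimitBcCone D c hc i xi)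
    (i := Over.mk (𝟙 i)) (pullback.snd _ _ ≫ fi) (pullback.snd _ _ ≫ gi)
    (by simp [t, hfi]) (by simp [t, hgi])
    (by
      rw [← Category.assoc, ← Category.assoc, bcCone_π_app_snd]
      exact h)
  refine ⟨k.left, k.hom, ?_⟩
  have e : (bcDiagram D i xi).map hik ≫ pullback.snd (D.map (Over.mk (𝟙 i)).hom) xi =
      pullback.snd (D.map k.hom) xi := by
    simp [bcDiagram]
  rw [← Category.assoc, ← Category.assoc, e] at hk
  exact hk

/-- Let S = lim S_i be a cofiltered limit of schemes with affine transition morphisms (the S_i are not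
assumed quasi-compact or quasi-separated), i an index, and X_i → S_i, Y_i → S_i morphisms locally of
finite presentation with X_i, Y_i quasi-compact and quasi-separated; let X be the base change of X_i
to S (a pullback square). If two S_i-morphisms f_i, g_i : X_i → Y_i have the same base change to S
(equivalently, the same composite with X → X_i), then for some index j over i their base changes to
S_j agree, i.e. they have the same composite with X_i ×_{S_i} S_j → X_i. This is the faithfulness
part of the equivalence between the colimit of the categories of quasi-compact quasi-separated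
schemes locally of finite presentation over the S_i and the corresponding category over S. -/
theorem result {I : Type u} [SmallCategory I] [IsCofiltered I]
    (D : I ⥤ Scheme.{u}) (c : Limits.Cone D) (hc : Limits.IsLimit c)
    [∀ (i j : I) (f : i ⟶ j), IsAffineHom (D.map f)] (i : I)
    {Xi Yi : Scheme.{u}} (xi : Xi ⟶ D.obj i) (yi : Yi ⟶ D.obj i)
    [CompactSpace Xi] [QuasiSeparatedSpace Xi] [LocallyOfFinitePresentation xi]
    [CompactSpace Yi] [QuasiSeparatedSpace Yi] [LocallyOfFinitePresentation yi]
    {X : Scheme.{u}} (qX : X ⟶ Xi) (pX : X ⟶ c.pt) (hX : IsPullback qX pX xi (c.π.app i))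
    (fi gi : Xi ⟶ Yi) (hfi : fi ≫ yi = xi) (hgi : gi ≫ yi = xi) (h : qX ≫ fi = qX ≫ gi) :
    ∃ (j : I) (φ : j ⟶ i), pullback.fst xi (D.map φ) ≫ fi = pullback.fst xi (D.map φ) ≫ gi := by
  have e1 : pullback.snd (c.π.app i) xi = (hX.flip.isoPullback).inv ≫ qX := by
    rw [Iso.eq_inv_comp]
    exact hX.flip.isoPullback_hom_snd
  have hfin : LocallyOfFiniteType yi := inferInstance
  obtain ⟨j, φ, hj⟩ := aux D c hc i xi yi fi gi hfi hgi (by
    rw [e1, Category.assoc, Category.assoc, h])
  refine ⟨j, φ, ?_⟩
  have e2 : pullback.fst xi (D.map φ) = (pullbackSymmetry xi (D.map φ)).hom ≫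
      pullback.snd (D.map φ) xi := by
    simp
  rw [e2, Category.assoc, Category.assoc, hj]

end Groth.Agent.S9219
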