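import Groth.Statements.S0412
import Groth.Agent.Lib.Helper25.EtaleSection

set_option autoImplicit false
universe u
open FlatMor

namespace Groth.Agent.S0412

open AlgebraicGeometry CategoryTheory Limits in
/-- A smooth morphism admits sections étale-locally on the target: every point in the image has an étale
neighbourhood over which the morphism has a section. -/
theorem result {X S : Scheme.{u}} (f : X ⟶ S) [Smooth f] (s : S) (hs : s ∈ Set.range f) :
    ∃ (S' : Scheme.{u}) (g : S' ⟶ S) (s' : S'), Etale g ∧ g s' = s ∧ ∃ h : S' ⟶ X, h ≫ f = g := by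
  obtain ⟨x₀, rfl⟩ := hs
  obtain ⟨V, hV, hfxV, -⟩ := AlgebraicGeometry.exists_isAffineOpen_mem_and_subset (x := f x₀)
    (U := ⊤) (Set.mem_univ _)
  obtain ⟨U, hU, hxU, e⟩ := AlgebraicGeometry.exists_isAffineOpen_mem_and_subset (x := x₀)
    (U := f ⁻¹ᵁ V) hfxV
  have hsm := f.smooth_appLE hV hU e
  algebraize [(f.appLE V U e).hom]
  set p := hV.primeIdealOf ⟨f x₀, hfxV⟩ with hp0
  have hp : p ∈ Set.range (PrimeSpectrum.comap (algebraMap Γ(S, V) Γ(X, U))) :=
    ⟨hU.primeIdealOf ⟨x₀, hxU⟩, IsAffineOpen.comap_primeIdealOf_appLE V hV U hU e hxU⟩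
  obtain ⟨R', _, _, hEt, ρ, p', hp'⟩ :=
    Groth.Agent.Lib.Helper25.EtaleSection.exists_etale_algebra_section p hp
  refine ⟨Spec (CommRingCat.of R'),
    Spec.map (CommRingCat.ofHom (algebraMap Γ(S, V) R')) ≫ hV.fromSpec, p', ?_, ?_,
    Spec.map (CommRingCat.ofHom ρ.toRingHom) ≫ hU.fromSpec, ?_⟩
  · haveI : Etale (Spec.map (CommRingCat.ofHom (algebraMap Γ(S, V) R'))) := by
      rw [HasRingHomProperty.Spec_iff (P := @Etale)]
      exact RingHom.etale_algebraMap.mpr hEt
    infer_instance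
  · rw [Scheme.Hom.comp_apply]
    have : Spec.map (CommRingCat.ofHom (algebraMap Γ(S, V) R')) p' = p := hp'
    rw [this]
    exact hV.fromSpec_primeIdealOf ⟨f x₀, hfxV⟩
  · rw [Category.assoc, ← IsAffineOpen.SpecMap_appLE_fromSpec f hV hU e, ← Category.assoc,
      ← Spec.map_comp]
    congr 2
    ext r
    exact ρ.commutes r


end Groth.Agent.S0412
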