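import Groth.Statements.S14765
import Mathlib
import Groth.Agent.Lib.Helper10.ValSpec
import Groth.Agent.Lib.Helper16.ReducedSub

set_option autoImplicit false
universe u
open CategoryTheory CategoryTheory.Limits AlgebraicGeometry
open Subtr

namespace Groth.Agent.S14765

open IsLocalRing Groth.Agent.Lib.Helper10.ValSpec

/-- algebra: a prime below `P` contracting to zero -/
theorem exists_prime_le (V A : Type u) [CommRing V] [IsDomain V] [CommRing A] (φ : V →+* A)
    (P : Ideal A) [P.IsPrime]
    (H : ∀ s : A, s ∉ P → ∃ q : PrimeSpectrum A, s ∉ q.asIdeal ∧ q.asIdeal.comap φ = ⊥) :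
    ∃ q : PrimeSpectrum A, q.asIdeal ≤ P ∧ q.asIdeal.comap φ = ⊥ := by
  let M : Submonoid A := P.primeCompl ⊔ (nonZeroDivisors V).map φ
  have hM : Disjoint ((⊥ : Ideal A) : Set A) (M : Set A) := by
    rw [Set.disjoint_left]
    intro z hz hzM
    have hz0 : z = 0 := hz
    subst hz0
    obtain ⟨s, hs, t, ht, hst⟩ := Submonoid.mem_sup.mp hzM
    obtain ⟨a, ha, rfl⟩ := ht
    obtain ⟨q, hq1, hq2⟩ := H s hs
    have : s * φ a ∈ q.asIdeal := hst ▸ q.asIdeal.zero_mem
    rcases q.isPrime.mem_or_mem this with h | h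
    · exact hq1 h
    · have : a ∈ q.asIdeal.comap φ := h
      rw [hq2] at this
      exact nonZeroDivisors.ne_zero ha this
  obtain ⟨q, hq, -, hqM⟩ := Ideal.exists_le_prime_disjoint ⊥ M hM
  refine ⟨⟨q, hq⟩, ?_, ?_⟩
  · intro z hz
    by_contra hzP
    exact Set.disjoint_left.mp hqM hz (Submonoid.mem_sup_left (S := P.primeCompl) hzP)
  · rw [eq_bot_iff]
    intro a ha
    by_contra ha0
    have ha0' : a ≠ 0 := ha0
    exact Set.disjoint_left.mp hqM ha
      (Submonoid.mem_sup_right ⟨a, mem_nonZeroDivisors_of_ne_zero ha0', rfl⟩)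

theorem step23 (V : Type u) [CommRing V] [IsDomain V] [ValuationRing V]
    {X : Scheme.{u}} (f : X ⟶ Spec (CommRingCat.of V))
    (H : ∀ y : Spec (CommRingCat.of V), ∃ x : X,
        x ∈ closure (f ⁻¹' {(⟨⊥, Ideal.isPrime_bot⟩ : PrimeSpectrum V)}) ∧ f x = y) :
    ∃ x x' : X, x' ⤳ x ∧ f x = IsLocalRing.closedPoint V ∧
        f x' = (⟨⊥, Ideal.isPrime_bot⟩ : PrimeSpectrum V) := by
  obtain ⟨x, hxcl, hx⟩ := H (IsLocalRing.closedPoint V)
  obtain ⟨_, ⟨U, hU : IsAffineOpen U, rfl⟩, hxU, -⟩ :=
    X.isBasis_affineOpens.exists_subset_of_mem_open (Set.mem_univ x) isOpen_univ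
  let h : Spec Γ(X, U) ⟶ Spec (CommRingCat.of V) := hU.fromSpec ≫ f
  let φ : CommRingCat.of V ⟶ Γ(X, U) := Spec.preimage h
  have hφ : Spec.map φ = h := Spec.map_preimage _
  let P : PrimeSpectrum Γ(X, U) := hU.primeIdealOf ⟨x, hxU⟩
  have hP : hU.fromSpec P = x := hU.fromSpec_primeIdealOf ⟨x, hxU⟩
  have key : ∀ q : PrimeSpectrum Γ(X, U), f (hU.fromSpec q) = PrimeSpectrum.comap φ.hom q := by
    intro q
    change h q = _
    rw [← hφ]
    rfl
  obtain ⟨q, hq1, hq2⟩ := exists_prime_le V Γ(X, U) φ.hom P.asIdeal (by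
    intro s hs
    -- the basic open D(s) in X is a neighbourhood of x
    have hxs : x ∈ (X.basicOpen s : Set X) := by
      rw [← hP]
      have := hU.fromSpec_preimage_basicOpen s
      have h2 : P ∈ PrimeSpectrum.basicOpen s := hs
      have h3 : P ∈ hU.fromSpec ⁻¹ᵁ X.basicOpen s := by
        rw [this]; exact h2
      exact h3
    obtain ⟨x'', hx''1, hx''2⟩ := mem_closure_iff.mp hxcl _ (X.basicOpen s).isOpen hxs
    have hx''U : x'' ∈ U := X.basicOpen_le s hx''1
    refine ⟨hU.primeIdealOf ⟨x'', hx''U⟩, ?_, ?_⟩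
    · have h3 : hU.primeIdealOf ⟨x'', hx''U⟩ ∈ hU.fromSpec ⁻¹ᵁ X.basicOpen s := by
        change hU.fromSpec _ ∈ X.basicOpen s
        rw [hU.fromSpec_primeIdealOf]
        exact hx''1
      rw [hU.fromSpec_preimage_basicOpen s] at h3
      exact h3
    · have h4 := key (hU.primeIdealOf ⟨x'', hx''U⟩)
      rw [hU.fromSpec_primeIdealOf] at h4
      have h5 : f x'' = (⟨⊥, Ideal.isPrime_bot⟩ : PrimeSpectrum V) := hx''2
      rw [h5] at h4
      exact (congrArg PrimeSpectrum.asIdeal h4).symm)
  refine ⟨x, hU.fromSpec q, ?_, hx, ?_⟩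
  · rw [← hP]
    exact ((PrimeSpectrum.le_iff_specializes q P).mp hq1).map hU.fromSpec.continuous
  · rw [key q]
    exact PrimeSpectrum.ext hq2

theorem flat_of_inj (V B : Type*) [CommRing V] [IsDomain V] [ValuationRing V] [CommRing B] [IsDomain B]
    [Algebra V B] (h : Function.Injective (algebraMap V B)) : Module.Flat V B := by
  rw [Module.Flat.flat_iff_torsion_eq_bot_of_isBezout, ← Submodule.isTorsionFree_iff_torsion_eq_bot]
  have : FaithfulSMul V B := (faithfulSMul_iff_algebraMap_injective V B).mpr h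
  infer_instance

/-- a ring map of valuation rings which is injective and local is surjective on spectra -/
theorem comap_surj_of_local (V A : Type u) [CommRing V] [IsDomain V] [ValuationRing V]
    [CommRing A] [IsDomain A] [IsLocalRing A] (ψ : V →+* A) (hinj : Function.Injective ψ)
    (hloc : (maximalIdeal A).comap ψ = maximalIdeal V) :
    Function.Surjective (PrimeSpectrum.comap ψ) := by
  algebraize [ψ]
  have : Module.Flat V A := flat_of_inj V A hinj
  have : IsLocalHom (algebraMap V A) := ((IsLocalRing.local_hom_TFAE ψ).out 0 4).mpr hloc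
  have : Module.FaithfullyFlat V A := Module.FaithfullyFlat.of_flat_of_isLocalHom
  exact PrimeSpectrum.comap_surjective_of_faithfullyFlat

theorem step34 (V : Type u) [CommRing V] [IsDomain V] [ValuationRing V]
    {X : Scheme.{u}} (f : X ⟶ Spec (CommRingCat.of V)) (x x' : X) (h : x' ⤳ x)
    (hx : f x = IsLocalRing.closedPoint V)
    (hx' : f x' = (⟨⊥, Ideal.isPrime_bot⟩ : PrimeSpectrum V)) :
    ∃ (W : Type u) (_ : CommRing W) (_ : IsDomain W) (_ : ValuationRing W)
        (g : Spec (CommRingCat.of W) ⟶ X), Surjective (g ≫ f) := by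
  obtain ⟨A, hA1, hA2, a, ha1, ha2⟩ := exists_valuationRing_of_specializes h
  refine ⟨A, inferInstance, hA1, hA2, a, ?_⟩
  let ψ : CommRingCat.of V ⟶ A := Spec.preimage (a ≫ f)
  have hψ : Spec.map ψ = a ≫ f := Spec.map_preimage _
  have h1 : PrimeSpectrum.comap ψ.hom (closedPoint A) = closedPoint V := by
    have : (a ≫ f) (closedPoint A) = closedPoint V := by
      change f (a (closedPoint A)) = _
      rw [ha2, hx]
    rw [← hψ] at this
    exact this
  have h2 : PrimeSpectrum.comap ψ.hom (genericPt A) = (⟨⊥, Ideal.isPrime_bot⟩ : PrimeSpectrum V) := by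
    have : (a ≫ f) (genericPt A) = (⟨⊥, Ideal.isPrime_bot⟩ : PrimeSpectrum V) := by
      change f (a (genericPt A)) = _
      rw [ha1, hx']
    rw [← hψ] at this
    exact this
  have hinj : Function.Injective ψ.hom := by
    rw [RingHom.injective_iff_ker_eq_bot, RingHom.ker_eq_comap_bot]
    exact congrArg PrimeSpectrum.asIdeal h2
  have hloc : (maximalIdeal A).comap ψ.hom = maximalIdeal V := congrArg PrimeSpectrum.asIdeal h1
  have hs := comap_surj_of_local V A ψ.hom hinj hloc
  constructor
  rw [← hψ]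
  exact hs

theorem flat_of_integral_aux (V : Type u) [CommRing V] [IsDomain V] [ValuationRing V]
    {Z : Scheme.{u}} [IsIntegral Z] (h : Z ⟶ Spec (CommRingCat.of V)) (η : Z)
    (hη : ∀ z : Z, η ⤳ z) (hη' : h η = (⟨⊥, Ideal.isPrime_bot⟩ : PrimeSpectrum V))
    (R : CommRingCat.{u}) (ι : Spec R ⟶ Z) [IsOpenImmersion ι] : Flat (ι ≫ h) := by
  let φ : CommRingCat.of V ⟶ R := Spec.preimage (ι ≫ h)
  have hφ : Spec.map φ = ι ≫ h := Spec.map_preimage _
  rw [← hφ, Flat.SpecMap_iff]
  rcases subsingleton_or_nontrivial R with hR | hR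
  · algebraize [φ.hom]
    change Module.Flat V R
    infer_instance
  · obtain ⟨p₀⟩ : Nonempty (Spec R) := (inferInstance : Nonempty (PrimeSpectrum R))
    have : Nonempty (Spec R) := ⟨p₀⟩
    have : IsIntegral (Spec R) := isIntegral_of_isOpenImmersion ι
    have : IsDomain R := (affine_isIntegral_iff R).mp this
    obtain ⟨q, hq⟩ : η ∈ Set.range ι := (hη (ι p₀)).mem_open ι.isOpenEmbedding.isOpen_range ⟨p₀, rfl⟩
    have h1 : h (ι (genericPt R)) ⤳ h η := by
      rw [← hq]
      exact ((genericPt_specializes R q).map ι.continuous).map h.continuous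
    have h2 : h (ι (genericPt R)) = (⟨⊥, Ideal.isPrime_bot⟩ : PrimeSpectrum V) := by
      rw [hη'] at h1
      exact (h1.antisymm (genericPt_specializes (CommRingCat.of V) _)).eq
    have h3 : PrimeSpectrum.comap φ.hom (genericPt R) = (⟨⊥, Ideal.isPrime_bot⟩ : PrimeSpectrum V) := by
      rw [← h2]
      change Spec.map φ _ = _
      rw [hφ]
      rfl
    have hinj : Function.Injective φ.hom := by
      rw [RingHom.injective_iff_ker_eq_bot, RingHom.ker_eq_comap_bot]
      exact congrArg PrimeSpectrum.asIdeal h3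
    algebraize [φ.hom]
    exact flat_of_inj V R hinj

theorem flat_of_integral (V : Type u) [CommRing V] [IsDomain V] [ValuationRing V]
    {Z : Scheme.{u}} [IsIntegral Z] (h : Z ⟶ Spec (CommRingCat.of V)) (η : Z)
    (hη : ∀ z : Z, η ⤳ z) (hη' : h η = (⟨⊥, Ideal.isPrime_bot⟩ : PrimeSpectrum V)) : Flat h := by
  rw [IsZariskiLocalAtSource.iff_of_openCover (P := @Flat) Z.affineOpenCover.openCover]
  intro j
  exact flat_of_integral_aux V h η hη hη' _ (Z.affineOpenCover.f j)

theorem step45 (V : Type u) [CommRing V] [IsDomain V] [ValuationRing V]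
    {X : Scheme.{u}} (f : X ⟶ Spec (CommRingCat.of V))
    (W : Type u) [CommRing W] [IsDomain W] [ValuationRing W]
    (g : Spec (CommRingCat.of W) ⟶ X) (hs : Surjective (g ≫ f)) :
    ∃ (Z : Scheme.{u}) (i : Z ⟶ X), IsClosedImmersion i ∧ Flat (i ≫ f) ∧ Surjective (i ≫ f) := by
  set ξ : X := g (genericPt (CommRingCat.of W)) with hξdef
  have hξ : f ξ = (⟨⊥, Ideal.isPrime_bot⟩ : PrimeSpectrum V) := by
    obtain ⟨w, hw⟩ := hs.surj (⟨⊥, Ideal.isPrime_bot⟩ : PrimeSpectrum V)
    have h1 : f ξ ⤳ (⟨⊥, Ideal.isPrime_bot⟩ : PrimeSpectrum V) := by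
      rw [← hw]
      exact ((genericPt_specializes (CommRingCat.of W) w).map g.continuous).map f.continuous
    exact (h1.antisymm (genericPt_specializes (CommRingCat.of V) _)).eq
  let Zc : TopologicalSpace.Closeds X := ⟨closure {ξ}, isClosed_closure⟩
  let I := Scheme.IdealSheafData.vanishingIdeal Zc
  have hrange : Set.range I.subschemeι = closure {ξ} := by
    rw [Scheme.IdealSheafData.range_subschemeι, Scheme.IdealSheafData.coe_support_vanishingIdeal]
    rfl
  refine ⟨I.subscheme, I.subschemeι, inferInstance, ?_, ?_⟩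
  · -- flat
    obtain ⟨η, hη⟩ : ξ ∈ Set.range I.subschemeι := hrange ▸ subset_closure rfl
    have hηall : ∀ z : I.subscheme, η ⤳ z := by
      intro z
      rw [← I.subschemeι.isEmbedding.isInducing.specializes_iff, hη, specializes_iff_mem_closure,
        ← hrange]
      exact ⟨z, rfl⟩
    have : IsReduced I.subscheme := Groth.Agent.Lib.Helper16.isReduced_subscheme_vanishingIdeal Zc
    have : IrreducibleSpace I.subscheme := by
      rw [irreducibleSpace_def]
      have h1 : closure {η} = Set.univ :=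
        Set.eq_univ_of_forall fun z => specializes_iff_mem_closure.mp (hηall z)
      change IsIrreducible (Set.univ : Set I.subscheme)
      rw [← h1]
      exact isIrreducible_singleton.closure
    have : IsIntegral I.subscheme := isIntegral_of_irreducibleSpace_of_isReduced _
    refine flat_of_integral V (I.subschemeι ≫ f) η hηall ?_
    change f (I.subschemeι η) = _
    rw [hη, hξ]
  · -- surjective
    constructor
    intro y
    obtain ⟨w, hw⟩ := hs.surj y
    have : g w ∈ Set.range I.subschemeι := by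
      rw [hrange, ← specializes_iff_mem_closure]
      exact (genericPt_specializes (CommRingCat.of W) w).map g.continuous
    obtain ⟨z, hz⟩ := this
    refine ⟨z, ?_⟩
    change f (I.subschemeι z) = y
    rw [hz]
    exact hw

theorem step50 {X Y : Scheme.{u}} (f : X ⟶ Y) (Z : Scheme.{u}) (i : Z ⟶ X)
    (hfl : Flat (i ≫ f)) (hs : Surjective (i ≫ f)) : Subtr.UnivSSubtrusive f := by
  intro X' Y' i₁ i₂ f' hpb y y' hyy'
  let p : pullback (i ≫ f) i₂ ⟶ Y' := pullback.snd (i ≫ f) i₂
  have hpfl : Flat p := inferInstance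
  have hps : Surjective p := inferInstance
  let l : pullback (i ≫ f) i₂ ⟶ X' :=
    hpb.lift p (pullback.fst (i ≫ f) i₂ ≫ i) (by
      rw [Category.assoc, pullback.condition])
  have hl : l ≫ f' = p := hpb.lift_fst _ _ _
  obtain ⟨z, hz⟩ := hps.surj y
  obtain ⟨z', hz'z, hz'⟩ := (Flat.generalizingMap p) (hz.symm ▸ hyy')
  refine ⟨l z, l z', hz'z.map l.continuous, ?_, ?_⟩
  · rw [← hz, ← hl]; rfl
  · rw [← hz', ← hl]; rfl

/-- Let V be a valuation ring and f : X ⟶ Spec V any morphism of schemes. The following are equivalent: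
(a) after every base change, every ordered pair of points of the target (a point and a
specialization of it) lifts to an ordered pair of points of the source; (b) every ordered pair of
points of Spec V lifts to an ordered pair of points of X; (c) every point of Spec V is the image of
a point of X lying in the closure of the generic fibre; (d) the pair formed by the closed point and
the generic point of Spec V lifts to points x, x' of X with x a specialization of x'; (e) there are
a valuation ring W and a morphism Spec W ⟶ X whose composite with f is surjective; (f) there is a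
closed subscheme Z of X such that Z ⟶ Spec V is flat and surjective. (The published list also
contains subtrusiveness and universal subtrusiveness, which add submersiveness for the constructible
topology, and the lifting of arbitrary chains of points; this row omits those items and keeps the
lifting property alone in (a).) -/
theorem result (V : Type u) [CommRing V] [IsDomain V] [ValuationRing V]
    {X : Scheme.{u}} (f : X ⟶ Spec (CommRingCat.of V)) :
    List.TFAE [
      Subtr.UnivSSubtrusive f,
      Subtr.IsSSubtrusive f,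
      ∀ y : Spec (CommRingCat.of V), ∃ x : X,
        x ∈ closure (f ⁻¹' {(⟨⊥, Ideal.isPrime_bot⟩ : PrimeSpectrum V)}) ∧ f x = y,
      ∃ x x' : X, x' ⤳ x ∧ f x = IsLocalRing.closedPoint V ∧
        f x' = (⟨⊥, Ideal.isPrime_bot⟩ : PrimeSpectrum V),
      ∃ (W : Type u) (_ : CommRing W) (_ : IsDomain W) (_ : ValuationRing W)
        (g : Spec (CommRingCat.of W) ⟶ X), Surjective (g ≫ f),
      ∃ (Z : Scheme.{u}) (i : Z ⟶ X), IsClosedImmersion i ∧ Flat (i ≫ f) ∧ Surjective (i ≫ f)] := by
  tfae_have 1 → 2 := fun h => MorphismProperty.universally_le _ _ h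
  tfae_have 2 → 3 := by
    intro h y
    obtain ⟨x, x', hxx', hx, hx'⟩ :=
      h (Groth.Agent.Lib.Helper10.ValSpec.genericPt_specializes (CommRingCat.of V) y)
    refine ⟨x, ?_, hx⟩
    have h1 : x ∈ closure ({x'} : Set X) := specializes_iff_mem_closure.mp hxx'
    have h2 : ({x'} : Set X) ⊆ f ⁻¹' {(⟨⊥, Ideal.isPrime_bot⟩ : PrimeSpectrum V)} :=
      Set.singleton_subset_iff.mpr hx'
    exact closure_mono h2 h1
  tfae_have 3 → 4 := step23 V f
  tfae_have 4 → 5 := fun ⟨x, x', h, hx, hx'⟩ => step34 V f x x' h hx hx'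
  tfae_have 5 → 6 := fun ⟨W, _, _, _, g, hs⟩ => step45 V f W g hs
  tfae_have 6 → 1 := fun ⟨Z, i, _, hfl, hs⟩ => step50 f Z i hfl hs
  tfae_finish

end Groth.Agent.S14765
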