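import Groth.Statements.S14768
import Mathlib
import Groth.Agent.Lib.Helper10.ValSpec

set_option autoImplicit false
universe u
open CategoryTheory CategoryTheory.Limits AlgebraicGeometry
open Subtr

namespace Groth.Agent.S14768

/-- Let f : X ⟶ Y be any morphism of schemes. Then every base change of f has the lifting property for
ordered pairs of points if and only if this holds for the base changes X ×_Y Spec V ⟶ Spec V along
all morphisms Spec V ⟶ Y with V a valuation ring. (The published statement is about universally
subtrusive morphisms and assumes f universally submersive for the constructible topologies; the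
lifting property alone descends from valuation rings with the same proof, and for quasi-compact f
the two statements agree.) -/
theorem result {X Y : Scheme.{u}} (f : X ⟶ Y) :
    Subtr.UnivSSubtrusive f ↔
      ∀ (V : Type u) [CommRing V] [IsDomain V] [ValuationRing V] (g : Spec (CommRingCat.of V) ⟶ Y),
        Subtr.IsSSubtrusive (pullback.snd f g) := by
  constructor
  · intro h V _ _ _ g
    exact h (pullback.fst f g) g (pullback.snd f g) (IsPullback.of_hasPullback f g).flip
  · intro h X' Y' i₁ i₂ f' hpb y₀ y₁ hy
    obtain ⟨A, hA1, hA2, a, ha1, ha0⟩ :=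
      Groth.Agent.Lib.Helper10.ValSpec.exists_valuationRing_of_specializes hy
    have hs := h A (a ≫ i₂)
    obtain ⟨w₀, w₁, hw, hw₀, hw₁⟩ :=
      hs (Groth.Agent.Lib.Helper10.ValSpec.genericPt_specializes A (IsLocalRing.closedPoint A))
    let l : pullback f (a ≫ i₂) ⟶ X' :=
      hpb.lift (pullback.snd f (a ≫ i₂) ≫ a) (pullback.fst f (a ≫ i₂)) (by
        rw [Category.assoc, ← pullback.condition])
    have hl : l ≫ f' = pullback.snd f (a ≫ i₂) ≫ a := hpb.lift_fst _ _ _
    refine ⟨l w₀, l w₁, hw.map l.continuous, ?_, ?_⟩
    · have : (l ≫ f') w₀ = (pullback.snd f (a ≫ i₂) ≫ a) w₀ := by rw [hl]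
      change f' (l w₀) = a (pullback.snd f (a ≫ i₂) w₀) at this
      rw [this, hw₀, ha0]
    · have : (l ≫ f') w₁ = (pullback.snd f (a ≫ i₂) ≫ a) w₁ := by rw [hl]
      change f' (l w₁) = a (pullback.snd f (a ≫ i₂) w₁) at this
      rw [this, hw₁, ha1]

end Groth.Agent.S14768
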