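import Groth.Statements.S14769
import Mathlib
import Groth.Agent.S14765
import Groth.Agent.S14768

set_option autoImplicit false
universe u
open CategoryTheory CategoryTheory.Limits AlgebraicGeometry
open Subtr

namespace Groth.Agent.S14769

/-- Let f : X ⟶ Y be any morphism of schemes. Then every base change of f has the lifting property for
ordered pairs of points if and only if, for every valuation ring V and morphism g : Spec V ⟶ Y,
there are a valuation ring V', a morphism a : Spec V' ⟶ X and a surjective morphism b : Spec V' ⟶
Spec V with a ≫ f = b ≫ g. (The published statement assumes f universally submersive for the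
constructible topologies and concludes universal subtrusiveness; for quasi-compact f the two agree.) -/
theorem result {X Y : Scheme.{u}} (f : X ⟶ Y) :
    Subtr.UnivSSubtrusive f ↔
      ∀ (V : Type u) [CommRing V] [IsDomain V] [ValuationRing V] (g : Spec (CommRingCat.of V) ⟶ Y),
        ∃ (V' : Type u) (_ : CommRing V') (_ : IsDomain V') (_ : ValuationRing V')
          (a : Spec (CommRingCat.of V') ⟶ X) (b : Spec (CommRingCat.of V') ⟶ Spec (CommRingCat.of V)),
          Surjective b ∧ a ≫ f = b ≫ g := by
  constructor
  · intro h V _ _ _ g
    have h1 : Subtr.UnivSSubtrusive (pullback.snd f g) := by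
      have inst : Subtr.UnivSSubtrusive.IsStableUnderBaseChange := by
        unfold Subtr.UnivSSubtrusive
        infer_instance
      exact MorphismProperty.of_isPullback (P := Subtr.UnivSSubtrusive)
        (IsPullback.of_hasPullback f g) h
    obtain ⟨W, hW1, hW2, hW3, k, hk⟩ :=
      ((Groth.Agent.S14765.result V (pullback.snd f g)).out 0 4).mp h1
    refine ⟨W, hW1, hW2, hW3, k ≫ pullback.fst f g, k ≫ pullback.snd f g, hk, ?_⟩
    rw [Category.assoc, Category.assoc, pullback.condition]
  · intro h
    rw [Groth.Agent.S14768.result]
    intro V _ _ _ g
    obtain ⟨W, hW1, hW2, hW3, a, b, hb, hab⟩ := h V g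
    refine ((Groth.Agent.S14765.result V (pullback.snd f g)).out 4 1).mp ?_
    refine ⟨W, hW1, hW2, hW3, pullback.lift a b hab, ?_⟩
    rw [pullback.lift_snd]
    exact hb

end Groth.Agent.S14769
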