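import Groth.Statements.S14766
import Mathlib.AlgebraicGeometry.Stalk
import Mathlib.AlgebraicGeometry.Properties
import Mathlib.AlgebraicGeometry.Morphisms.QuasiCompact
import Mathlib.RingTheory.DedekindDomain.Dvr

set_option autoImplicit false
universe u
open CategoryTheory CategoryTheory.Limits AlgebraicGeometry
open Subtr

namespace Groth.Agent.S14766

open CategoryTheory AlgebraicGeometry in
/-- If no generization of `x` lies in the basic open of a global section `a`, then a whole
neighbourhood of `x` misses that basic open. -/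
theorem exists_nhd_disjoint_basicOpen {X : Scheme.{u}} (a : Γ(X, ⊤)) (x : X)
    (hx : ∀ x' : X, x' ⤳ x → x' ∉ X.basicOpen a) :
    ∃ W : X.Opens, x ∈ W ∧ ∀ w ∈ W, w ∉ X.basicOpen a := by
  -- the germ of `a` at `x` is nilpotent
  have h1 : (X.fromSpecStalk x) ⁻¹ᵁ X.basicOpen a = ⊥ := by
    ext q
    simp only [TopologicalSpace.Opens.coe_bot, Set.mem_empty_iff_false, iff_false]
    intro hq
    have hgen : X.fromSpecStalk x q ⤳ x := by
      have : X.fromSpecStalk x q ∈ Set.range (X.fromSpecStalk x) := ⟨q, rfl⟩
      rw [Scheme.range_fromSpecStalk] at this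
      exact this
    exact hx _ hgen hq
  rw [Scheme.preimage_basicOpen_top] at h1
  have h2 : IsNilpotent ((X.fromSpecStalk x).appTop a) :=
    (Scheme.isNilpotent_iff_basicOpen_eq_bot _).2 h1
  rw [Scheme.fromSpecStalk_appTop] at h2
  have h3 : IsNilpotent (X.presheaf.germ ⊤ x trivial a) := by
    obtain ⟨n, hn⟩ := h2
    refine ⟨n, ?_⟩
    have hiso1 : IsIso (homOfLE (le_top : (X.fromSpecStalk x) ⁻¹ᵁ ⊤ ≤ ⊤)) :=
      ⟨⟨homOfLE (fun _ _ => trivial), Subsingleton.elim _ _, Subsingleton.elim _ _⟩⟩
    have hiso2 : IsIso ((Spec (X.presheaf.stalk x)).presheaf.map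
        (homOfLE (le_top : (X.fromSpecStalk x) ⁻¹ᵁ ⊤ ≤ ⊤)).op) := inferInstance
    have hiso3 : IsIso ((Scheme.ΓSpecIso (X.presheaf.stalk x)).inv ≫
        (Spec (X.presheaf.stalk x)).presheaf.map
          (homOfLE (le_top : (X.fromSpecStalk x) ⁻¹ᵁ ⊤ ≤ ⊤)).op) := inferInstance
    have hinj : Function.Injective ((Scheme.ΓSpecIso (X.presheaf.stalk x)).inv ≫
        (Spec (X.presheaf.stalk x)).presheaf.map
          (homOfLE (le_top : (X.fromSpecStalk x) ⁻¹ᵁ ⊤ ≤ ⊤)).op).hom :=
      ((ConcreteCategory.isIso_iff_bijective _).1 hiso3).1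
    apply hinj
    rw [map_pow, map_zero]
    exact hn
  obtain ⟨n, hn⟩ := h3
  rw [← map_pow] at hn
  have hn' : X.presheaf.germ ⊤ x trivial (a ^ n) = X.presheaf.germ ⊤ x trivial 0 := by
    rw [hn, map_zero]
  obtain ⟨W, hxW, iU, iV, hW⟩ := TopCat.Presheaf.germ_eq X.presheaf (U := ⊤) (V := ⊤) x trivial trivial _ _ hn'
  refine ⟨W, hxW, ?_⟩
  intro w hw hwa
  rw [Scheme.mem_basicOpen_top] at hwa
  have h4 : (X.presheaf.germ ⊤ w trivial a) ^ n = 0 := by
    rw [← map_pow, ← TopCat.Presheaf.germ_res_apply X.presheaf iU w hw, hW, map_zero, map_zero]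
  have h5 : IsUnit ((X.presheaf.germ ⊤ w trivial a) ^ n) := hwa.pow n
  rw [h4] at h5
  exact not_isUnit_zero h5

/-- Let V be a discrete valuation ring and f : X ⟶ Spec V any morphism of schemes. Then the underlying
continuous map of f is a quotient map (f is submersive) if and only if every ordered pair of points
of Spec V lifts to an ordered pair of points of X. -/
theorem result (V : Type u) [CommRing V] [IsDomain V]
    [IsDiscreteValuationRing V] {X : Scheme.{u}} (f : X ⟶ Spec (CommRingCat.of V)) :
    Topology.IsQuotientMap f ↔ Subtr.IsSSubtrusive f := by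
  classical
  -- the two points of `Spec V`
  obtain ⟨η, hη⟩ : ∃ η : ↥(Spec (CommRingCat.of V)), η = (⟨⊥, Ideal.isPrime_bot⟩ : PrimeSpectrum V) :=
    ⟨_, rfl⟩
  obtain ⟨s, hs⟩ : ∃ s : ↥(Spec (CommRingCat.of V)), s = IsLocalRing.closedPoint V := ⟨_, rfl⟩
  have hηs : η ⤳ s := by
    rw [hη, hs]
    exact (PrimeSpectrum.le_iff_specializes _ _).1 bot_le
  have hne : η ≠ s := by
    rw [hη, hs]
    intro h
    have h' := congrArg PrimeSpectrum.asIdeal h
    exact IsDiscreteValuationRing.not_a_field V h'.symm
  have htwo : ∀ y : ↥(Spec (CommRingCat.of V)), y = η ∨ y = s := by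
    intro y
    by_cases hy : (y : PrimeSpectrum V).asIdeal = ⊥
    · left
      rw [hη]
      exact PrimeSpectrum.ext hy
    · right
      rw [hs]
      have hmax : (y : PrimeSpectrum V).asIdeal.IsMaximal :=
        Ideal.IsPrime.isMaximal (y : PrimeSpectrum V).isPrime hy
      exact PrimeSpectrum.ext (IsLocalRing.eq_maximalIdeal hmax)
  have hsclosed : IsClosed ({s} : Set ↥(Spec (CommRingCat.of V))) := by
    rw [hs]
    exact IsLocalRing.isClosed_singleton_closedPoint V
  -- a nonzero element of the maximal ideal
  obtain ⟨r, hrm, hr0⟩ : ∃ r ∈ IsLocalRing.maximalIdeal V, r ≠ 0 :=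
    Submodule.exists_mem_ne_zero_of_ne_bot (IsDiscreteValuationRing.not_a_field V)
  -- the complement of the closed fibre is a basic open
  have hbasic : ∀ x : X, x ∈ X.basicOpen (f.appTop ((Scheme.ΓSpecIso (CommRingCat.of V)).inv r)) ↔
      f x ≠ s := by
    intro x
    rw [← Scheme.preimage_basicOpen_top, basicOpen_eq_of_affine]
    refine (PrimeSpectrum.mem_basicOpen r (f x)).trans ?_
    constructor
    · intro h1 h2
      apply h1
      rw [h2, hs]
      exact hrm
    · intro h1 h2
      rcases htwo (f x) with h | h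
      · rw [h, hη] at h2
        exact hr0 (Ideal.mem_bot.1 h2)
      · exact h1 h
  constructor
  · -- quotient map ⇒ S-subtrusive
    intro hq y y' hyy'
    by_cases hyeq : y' = y
    · obtain ⟨x, hx⟩ := hq.surjective y
      exact ⟨x, x, specializes_rfl, hx, hx.trans hyeq.symm⟩
    -- now `y' = η` and `y = s`
    have hy : y = s := by
      rcases htwo y with h | h
      · exfalso
        apply hyeq
        rcases htwo y' with h' | h'
        · rw [h, h']
        · -- `s ⤳ η` is impossible
          rw [h, h'] at hyy'
          exact (hne (hηs.antisymm hyy').eq).elim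
      · exact h
    have hy' : y' = η := by
      rcases htwo y' with h | h
      · exact h
      · exact absurd (h.trans hy.symm) hyeq
    subst hy hy'
    by_contra hcon
    push Not at hcon
    -- the closed fibre is open
    have hopen : IsOpen (f ⁻¹' ({y} : Set ↥(Spec (CommRingCat.of V)))) := by
      rw [isOpen_iff_forall_mem_open]
      intro x hx
      have hfx : f x = y := hx
      have hgen : ∀ x' : X, x' ⤳ x →
          x' ∉ X.basicOpen (f.appTop ((Scheme.ΓSpecIso (CommRingCat.of V)).inv r)) := by
        intro x' hx' hmem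
        rw [hbasic] at hmem
        rcases htwo (f x') with h | h
        · exact hcon x x' hx' hfx h
        · exact hmem h
      obtain ⟨W, hxW, hW⟩ := exists_nhd_disjoint_basicOpen _ x hgen
      refine ⟨W, ?_, W.isOpen, hxW⟩
      intro w hw
      have := hW w hw
      rw [hbasic] at this
      push Not at this
      exact this
    have hopen' : IsOpen ({y} : Set ↥(Spec (CommRingCat.of V))) := hq.isOpen_preimage.1 hopen
    have : y' ∈ ({y} : Set ↥(Spec (CommRingCat.of V))) := hηs.mem_open hopen' rfl
    exact hne this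
  · -- S-subtrusive ⇒ quotient map
    intro hS
    rw [Topology.isQuotientMap_iff]
    refine ⟨.of_isOpen_preimage_iff_isOpen fun T => ?_, ?_⟩
    rotate_left
    · intro y
      obtain ⟨x, x', -, hx, -⟩ := hS (specializes_rfl : y ⤳ y)
      exact ⟨x, hx⟩
    · refine ⟨?_, fun hT => hT.preimage f.continuous⟩
      intro hT
      by_cases hsT : s ∈ T
      · -- then `T` is everything
        have hηT : η ∈ T := by
          obtain ⟨x, x', hxx', hx, hx'⟩ := hS hηs
          have : x' ∈ f ⁻¹' T := hxx'.mem_open hT (by change f x ∈ T; rw [hx]; exact hsT)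
          have : f x' ∈ T := this
          rwa [hx'] at this
        have : T = Set.univ := by
          ext y
          simp only [Set.mem_univ, iff_true]
          rcases htwo y with h | h <;> rw [h] <;> assumption
        rw [this]
        exact isOpen_univ
      · by_cases hηT : η ∈ T
        · have : T = ({s} : Set ↥(Spec (CommRingCat.of V)))ᶜ := by
            ext y
            simp only [Set.mem_compl_iff, Set.mem_singleton_iff]
            rcases htwo y with h | h
            · rw [h]; exact ⟨fun _ => hne, fun _ => hηT⟩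
            · rw [h]; exact ⟨fun h' => absurd h' hsT, fun h' => absurd rfl h'⟩
          rw [this]
          exact hsclosed.isOpen_compl
        · have : T = ∅ := by
            ext y
            simp only [Set.mem_empty_iff_false, iff_false]
            rcases htwo y with h | h <;> rw [h] <;> assumption
          rw [this]
          exact isOpen_empty

end Groth.Agent.S14766
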