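import Groth.Statements.S14770
import Groth.Agent.Lib.Helper10.SubtrSub2
import Groth.Agent.S14766

set_option autoImplicit false
universe u
open CategoryTheory CategoryTheory.Limits AlgebraicGeometry
open Subtr

namespace Groth.Agent.S14770

/-- Let Y be a locally Noetherian scheme and f : X ⟶ Y a quasi-compact morphism. Then f is universally
submersive if and only if every base change of f has the lifting property for ordered pairs of
points. (The published statement assumes f universally submersive for the constructible topologies
rather than quasi-compact; for quasi-compact morphisms both sides force surjectivity and that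
condition follows.) -/
theorem result {X Y : Scheme.{u}}
    [IsLocallyNoetherian Y] (f : X ⟶ Y) [QuasiCompact f] :
    SGA1.UnivSubmersive f ↔ Subtr.UnivSSubtrusive f := by
  open Groth.Agent.Lib.Helper10.SubtrFS in
  constructor
  · intro hf
    have hq : ∀ {T : Scheme.{u}} (h : T ⟶ Y), Topology.IsQuotientMap (pullback.snd f h) :=
      fun h => hf _ _ _ (IsPullback.of_hasPullback f h).flip
    have hfq : Topology.IsQuotientMap f := MorphismProperty.universally_le _ _ hf
    haveI : Surjective f := ⟨hfq.surjective⟩
    apply univSSubtrusive_of_stage_pairs
    intro V _ _ _ Y0 hY0 _ s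
    haveI : IsNoetherianRing Γ(Y, Y0) := IsLocallyNoetherian.component_noetherian ⟨Y0, hY0⟩
    apply stage_pair_of_dvr f hY0.fromSpec
    intro R _ _ _ h
    have h1 : Subtr.IsSSubtrusive (pullback.snd f h) :=
      (Groth.Agent.S14766.result R _).mp (hq h)
    have hsp : (⟨⊥, Ideal.isPrime_bot⟩ : PrimeSpectrum R) ⤳ IsLocalRing.closedPoint R :=
      IsLocalRing.specializes_closedPoint _
    obtain ⟨x, x', hxx', hx, hx'⟩ := h1 hsp
    exact ⟨x, x', hxx', hx, hx'⟩
  · exact univSubmersive_of_univSSubtrusive f

end Groth.Agent.S14770
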