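import Groth.Statements.S14272
import Groth.Agent.Lib.Helper25.HartogsExt
import Groth.Agent.S14271

set_option autoImplicit false
universe u
open FlatPur

namespace Groth.Agent.S14272

open Groth.Agent.Lib.Helper25.Hartogs in
open AlgebraicGeometry CategoryTheory CategoryTheory.Limits in
/-- Let X be a scheme and U an open subscheme whose inclusion is quasi-compact, such that for every
point z of X outside U the maximal ideal of O_{X,z} contains two elements forming a weakly regular
sequence on that local ring. Then for every X-scheme Y that is affine and of finite presentation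
over X, the restriction map from X-sections of Y to U-sections of Y is bijective: every morphism U
-> Y over X extends uniquely to a section X -> Y. -/
theorem result (X : Scheme.{u}) (U : X.Opens) [QuasiCompact U.ι]
    (hZ : ∀ z : X, z ∉ U → ∃ a b : X.presheaf.stalk z, a ∈ IsLocalRing.maximalIdeal (X.presheaf.stalk z) ∧
      b ∈ IsLocalRing.maximalIdeal (X.presheaf.stalk z) ∧ RingTheory.Sequence.IsWeaklyRegular (X.presheaf.stalk z) [a, b])
    (Y : Scheme.{u}) (f : Y ⟶ X) [IsAffineHom f] [LocallyOfFinitePresentation f]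
    (t : (U : Scheme.{u}) ⟶ Y) (ht : t ≫ f = U.ι) :
    ∃! s : X ⟶ Y, s ≫ f = 𝟙 X ∧ U.ι ≫ s = t := by
  have hU : Depth2 U := fun z hz => by
    obtain ⟨a, b, ha, hb, hab⟩ := hZ z hz
    exact ⟨a, ha, b, hb, reg2_of_isWeaklyRegular hab⟩
  have hqc : QuasiCompact t := by
    have : QuasiCompact (t ≫ f) := by rw [ht]; infer_instance
    exact QuasiCompact.of_comp t f
  have hfac : t.toImage ≫ (t.imageι ≫ f) = U.ι := by
    rw [← Category.assoc, t.toImage_imageι, ht]
  have hiso : IsIso (t.imageι ≫ f) := by
    refine isIso_of_depth2 U hU (t.imageι ≫ f) t.toImage hfac ?_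
    intro V
    have hVaff : IsAffineOpen (f ⁻¹ᵁ V.1) := V.2.preimage f
    exact t.toImage_app_injective ⟨f ⁻¹ᵁ V.1, hVaff⟩
  refine ⟨inv (t.imageι ≫ f) ≫ t.imageι, ⟨?_, ?_⟩, ?_⟩
  · rw [Category.assoc, IsIso.inv_hom_id]
  · have : U.ι ≫ inv (t.imageι ≫ f) = t.toImage := by
      rw [← hfac, Category.assoc, IsIso.hom_inv_id, Category.comp_id]
    rw [← Category.assoc, this, t.toImage_imageι]
  · rintro s ⟨hs1, hs2⟩
    have hsep : IsSeparated f := inferInstance
    refine Groth.Agent.S14271.result X U hU.depth1 Y f s _ hs1 ?_ ?_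
    · rw [Category.assoc, IsIso.inv_hom_id]
    · rw [hs2]
      have : U.ι ≫ inv (t.imageι ≫ f) = t.toImage := by
        rw [← hfac, Category.assoc, IsIso.hom_inv_id, Category.comp_id]
      rw [← Category.assoc, this, t.toImage_imageι]


end Groth.Agent.S14272
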