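import Groth.Statements.S15426
import Groth.Agent.Lib.Helper16.LocCohBasic

set_option autoImplicit false
universe u
open LocCoh

namespace Groth.Agent.S15426

section helpers

open Groth.Agent.Lib.Helper16.LC CategoryTheory

theorem smul_E_eq_zero {A : Type u} [CommRing A] (I : Ideal A) (i : ℕ) (M : ModuleCat.{u} A)
    (k : ℕ) (a : A) (ha : a ∈ I ^ k) (e : E I i M k) : a • e = 0 := by
  have hid : a • 𝟙 (Q I k) = 0 := by
    apply ModuleCat.hom_ext
    apply LinearMap.ext
    intro y
    obtain ⟨x, rfl⟩ := Ideal.Quotient.mk_surjective y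
    change a • (Ideal.Quotient.mk (I ^ k) x) = 0
    rw [Algebra.smul_def]
    have : (algebraMap A (A ⧸ I ^ k)) a = 0 := Ideal.Quotient.eq_zero_iff_mem.mpr ha
    rw [this, zero_mul]
  have : a • e = (Abelian.Ext.mk₀ (a • 𝟙 (Q I k))).comp e (zero_add i) := by
    simp [Abelian.Ext.mk₀_smul]
  rw [this, hid, Abelian.Ext.mk₀_zero, Abelian.Ext.zero_comp]

theorem result_aux (A : Type u) [CommRing A] (I : Ideal A) (i : ℕ)
    (M : Type u) [AddCommGroup M] [Module A M] :
    LocCoh.IsPowerTorsion I (LocCoh.H I i M) := by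
  intro x
  obtain ⟨k, e, rfl⟩ := ι_jointly_surjective I i (ModuleCat.of A M) x
  refine ⟨k, fun a ha => ?_⟩
  rw [← map_smul, smul_E_eq_zero I i _ k a ha e, map_zero]

end helpers

/-- Let A be a commutative ring, I an ideal, M an A-module and i ≥ 0. Every element of the local
cohomology module H^i_I(M), the direct limit over n of Ext^i_A(A/I^n, M), is annihilated by some
power of I. -/
theorem result (A : Type u) [CommRing A] (I : Ideal A) (i : ℕ)
    (M : Type u) [AddCommGroup M] [Module A M] :
    LocCoh.IsPowerTorsion I (LocCoh.H I i M) := by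
  exact result_aux A I i M

end Groth.Agent.S15426
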