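import Groth.Statements.S9319
import Mathlib
import Groth.Agent.S4571
import Groth.Agent.Lib.Helper23.FieldSmooth

set_option autoImplicit false
universe u
open CAlg

namespace Groth.Agent.S9319
open Algebra KaehlerDifferential TensorProduct MvPolynomial

section
variable (R S T T' : Type u) [CommRing R] [CommRing S] [CommRing T] [CommRing T']
  [Algebra R S] [Algebra S T] [Algebra S T'] [Algebra T T'] [IsScalarTower S T T']
  [Algebra R T] [Algebra R T'] [IsScalarTower R S T] [IsScalarTower R S T']

/-- the change of rings map `T ⊗ Ω → T' ⊗ Ω`. -/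
noncomputable def phi : T ⊗[S] Ω[S⁄R] →ₗ[T] T' ⊗[S] Ω[S⁄R] :=
  AlgebraTensorModule.map (Algebra.linearMap T T') LinearMap.id

lemma phi_tmul (t : T) (w : Ω[S⁄R]) : phi R S T T' (t ⊗ₜ w) = algebraMap T T' t ⊗ₜ w := rfl

lemma toAlgHom_defaultHom :
    (Generators.defaultHom (Generators.self S T) (Generators.self S T')).toAlgHom =
      MvPolynomial.rename (algebraMap T T') := by
  apply MvPolynomial.algHom_ext
  intro i
  rw [Generators.Hom.toAlgHom_X, rename_X]
  rfl

lemma δAux_natural (x : (Generators.self S T).Ring) :
    Generators.H1Cotangent.δAux R (Generators.self S T')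
      ((Generators.defaultHom (Generators.self S T) (Generators.self S T')).toAlgHom x) =
    phi R S T T' (Generators.H1Cotangent.δAux R (Generators.self S T) x) := by
  rw [toAlgHom_defaultHom]
  induction x using MvPolynomial.induction_on' with
  | monomial n r =>
    rw [rename_monomial, Generators.H1Cotangent.δAux_monomial,
      Generators.H1Cotangent.δAux_monomial, phi_tmul]
    congr 1
    rw [Finsupp.prod_mapDomain_index (fun _ => pow_zero _) (fun _ _ _ => pow_add _ _ _),
      map_finsuppProd]
    simp only [map_pow]
    rfl
  | add x y hx hy => simp only [map_add, hx, hy]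

set_option backward.isDefEq.respectTransparency false in
lemma δ_natural (x : H1Cotangent S T) :
    H1Cotangent.δ R S T' (H1Cotangent.map S S T T' x) = phi R S T T' (H1Cotangent.δ R S T x) := by
  obtain ⟨x, hx⟩ := x
  obtain ⟨⟨y, hy⟩, rfl⟩ := Extension.Cotangent.mk_surjective x
  change Generators.H1Cotangent.δ _ _ ⟨_, _⟩ = phi R S T T' (Generators.H1Cotangent.δ _ _ _)
  simp only [LinearMap.domRestrict_apply, Extension.Cotangent.map_mk,
    Generators.H1Cotangent.δ_eq_δAux]
  exact δAux_natural R S T T' y

end

theorem main {K L M : Type u} [Field K] [Field L]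
    [Field M] [Algebra K L] [Algebra L M] [Algebra K M] [IsScalarTower K L M] :
    Function.Injective ((Algebra.H1Cotangent.map K K L M).liftBaseChange M) := by
  obtain ⟨Λ, _, _, -, hperf⟩ := Groth.Agent.S4571.exists_primeField K
  letI : Algebra Λ L := ((algebraMap K L).comp (algebraMap Λ K)).toAlgebra
  haveI : IsScalarTower Λ K L := IsScalarTower.of_algebraMap_eq (fun _ => rfl)
  letI : Algebra Λ M := ((algebraMap K M).comp (algebraMap Λ K)).toAlgebra
  haveI : IsScalarTower Λ K M := IsScalarTower.of_algebraMap_eq (fun _ => rfl)
  haveI : Algebra.FormallySmooth Λ L :=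
    Groth.Agent.Lib.Helper23.FieldSmooth.formallySmooth_of_perfectField Λ L
  -- δ_L is injective
  have hδL : Function.Injective (H1Cotangent.δ Λ K L) := by
    rw [← LinearMap.ker_eq_bot, (H1Cotangent.exact_map_δ Λ K L).linearMap_ker_eq,
      LinearMap.range_eq_bot]
    refine LinearMap.ext fun x => ?_
    rw [Subsingleton.elim x 0, map_zero, map_zero]
  have h1 : Function.Injective ((H1Cotangent.δ Λ K L).baseChange M) :=
    Module.Flat.lTensor_preserves_injective_linearMap (M := M) _ hδL
  let Φ := AlgebraTensorModule.cancelBaseChange K L M M Ω[K⁄Λ]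
  have hΦ : ∀ (m : M) (z : L ⊗[K] Ω[K⁄Λ]), Φ (m ⊗ₜ z) = m • phi Λ K L M z := by
    intro m z
    induction z with
    | zero => simp
    | tmul l w =>
      rw [AlgebraTensorModule.cancelBaseChange_tmul, phi_tmul, smul_tmul', smul_eq_mul,
        Algebra.smul_def, mul_comm]
    | add a b ha hb => rw [tmul_add, map_add, ha, hb, map_add, smul_add]
  have hcomp : (H1Cotangent.δ Λ K M) ∘ₗ ((Algebra.H1Cotangent.map K K L M).liftBaseChange M) =
      Φ.toLinearMap ∘ₗ ((H1Cotangent.δ Λ K L).baseChange M) := by
    ext x
    simp only [AlgebraTensorModule.curry_apply, LinearMap.restrictScalars_comp, curry_apply,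
      LinearMap.coe_comp, LinearMap.coe_restrictScalars, Function.comp_apply,
      LinearMap.liftBaseChange_tmul, one_smul, LinearMap.baseChange_tmul, LinearEquiv.coe_coe]
    rw [hΦ, one_smul]
    exact δ_natural Λ K L M x
  have h2 : Function.Injective ((H1Cotangent.δ Λ K M) ∘ₗ
      ((Algebra.H1Cotangent.map K K L M).liftBaseChange M)) := by
    rw [hcomp]
    exact Φ.injective.comp h1
  rw [LinearMap.coe_comp] at h2
  exact Function.Injective.of_comp h2


open TensorProduct in
/-- For a tower of fields `K ⊆ L ⊆ M`, the first map of the Jacobi–Zariski sequence, from `H_1(L_{L/K})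
⊗_L M` to `H_1(L_{M/K})`, is injective; here `H_1(L)` denotes the first homology of the naive
cotangent complex and the map is the `M`-linear extension of the functoriality map. (The rest of the
six-term sequence is exact for any three rings, so for fields it is exact with a zero on the left.) -/
theorem result {K L M : Type u} [Field K] [Field L]
    [Field M] [Algebra K L] [Algebra L M] [Algebra K M] [IsScalarTower K L M] :
    Function.Injective ((Algebra.H1Cotangent.map K K L M).liftBaseChange M) := by
  exact main

end Groth.Agent.S9319
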