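import Groth.Statements.S2108
import Groth.Agent.Lib.Helper25.StandardElement

set_option autoImplicit false
universe u
open Smoothing

namespace Groth.Agent.S2108

/-- Let `A = R[x_1, …, x_n]/(f_1, …, f_m)` and `𝔮` a prime of `A` at which `R → A` is smooth. Then there
are `a ∈ A ∖ 𝔮`, an integer `c` and injections picking `c` relations and `c` variables such that `a`
is a multiple of the image of the corresponding Jacobian minor and `a f_ℓ` lies in the ideal
generated by the chosen relations plus the square of the relation ideal, for every `ℓ`. -/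
theorem result {R A : Type u} [CommRing R] [CommRing A] [Algebra R A] {n m : ℕ}
    (f : Fin m → MvPolynomial (Fin n) R) (φ : MvPolynomial (Fin n) R →ₐ[R] A) (hφ : Function.Surjective φ)
    (hker : RingHom.ker φ.toRingHom = Ideal.span (Set.range f)) (q : Ideal A) [q.IsPrime] [Algebra.IsSmoothAt R q] :
    ∃ a : A, a ∉ q ∧ ∃ (c : ℕ) (rows : Fin c ↪ Fin m) (cols : Fin c ↪ Fin n) (a' : A),
      a = a' * φ (Smoothing.jacobianMinor f rows cols) ∧
      ∀ a₁ : MvPolynomial (Fin n) R, φ a₁ = a → ∀ ℓ : Fin m,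
        a₁ * f ℓ ∈ Ideal.span (Set.range (f ∘ rows)) ⊔ Ideal.span (Set.range f) ^ 2 := by
  classical
  have hker' : RingHom.ker φ = Ideal.span (Set.range f) := hker
  let e : (MvPolynomial (Fin n) R ⧸ RingHom.ker φ) ≃ₐ[R] A :=
    Ideal.quotientKerAlgEquivOfSurjective hφ
  let q' : Ideal (MvPolynomial (Fin n) R ⧸ RingHom.ker φ) := q.comap e
  haveI : q'.IsPrime := Ideal.comap_isPrime _ _
  haveI : Algebra.IsSmoothAt R q' :=
    Algebra.FormallySmooth.of_equiv (Localization.localAlgEquiv q' q e rfl).symm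
  let 𝔔 : Ideal (MvPolynomial (Fin n) R) := q'.comap (Ideal.Quotient.mk (RingHom.ker φ))
  haveI : 𝔔.IsPrime := Ideal.comap_isPrime _ _
  haveI : Algebra.Smooth R (MvPolynomial (Fin n) R) := ⟨inferInstance, inferInstance⟩
  haveI : Algebra.IsSmoothAt R 𝔔 := by
    have h : (⟨𝔔, inferInstance⟩ : PrimeSpectrum (MvPolynomial (Fin n) R)) ∈
        Algebra.smoothLocus R (MvPolynomial (Fin n) R) := by
      rw [Algebra.smoothLocus_eq_univ]; trivial
    exact h
  have h𝔔 : ∀ x, x ∈ 𝔔 ↔ φ x ∈ q := fun x => Iff.rfl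
  obtain ⟨c, rows, hli, s, hs, hs'⟩ :=
    Groth.Agent.Lib.Helper25.JacobianCrit.exists_rows_of_isSmoothAt_quotient R f (RingHom.ker φ) hker'
      q' 𝔔 rfl
  obtain ⟨cols, hdet⟩ := Groth.Agent.Lib.Helper25.JacobianCrit.exists_cols_jacobian_det_notMem
    (fun i => f (rows i)) 𝔔 hli
  have hminor : Smoothing.jacobianMinor f rows cols ∉ 𝔔 := hdet
  refine ⟨φ (s * Smoothing.jacobianMinor f rows cols), ?_, c, rows, cols, φ s, map_mul _ _ _, ?_⟩
  · rw [← h𝔔]
    intro hmem
    rcases Ideal.IsPrime.mem_or_mem inferInstance hmem with h | h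
    · exact hs h
    · exact hminor h
  · intro a₁ ha₁ ℓ
    have h1 : a₁ - s * Smoothing.jacobianMinor f rows cols ∈ Ideal.span (Set.range f) := by
      rw [← hker', RingHom.mem_ker, map_sub, ha₁, sub_self]
    have h2 : a₁ * f ℓ = Smoothing.jacobianMinor f rows cols * (s * f ℓ) +
        (a₁ - s * Smoothing.jacobianMinor f rows cols) * f ℓ := by ring
    rw [h2]
    refine add_mem (Ideal.mem_sup_left (Ideal.mul_mem_left _ _ (hs' ℓ))) (Ideal.mem_sup_right ?_)
    rw [pow_two]
    exact Ideal.mul_mem_mul h1 (Ideal.subset_span ⟨ℓ, rfl⟩)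


end Groth.Agent.S2108
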