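import Groth.Statements.S4521
import Mathlib
import Groth.Agent.Lib.Helper23.PBasisField
-- import your own Groth.Agent.* helpers here

set_option autoImplicit false
universe u
open EGA41

namespace Groth.Agent.S4521

open Groth.Agent.Lib.Helper23.PBasisField

theorem adjoin_coe_eq (p : ℕ) [Fact p.Prime] {k K : Type u} [Field k] [Field K]
    [Algebra k K] (U : Set K) :
    (IntermediateField.adjoin k ((Set.range fun y : K => y ^ p) ∪ U) : Set K)
      = (IntermediateField.adjoin (pPowerSubfield p k K) U : Set K) := by
  have h1 : (IntermediateField.adjoin k ((Set.range fun y : K => y ^ p) ∪ U)).toSubfield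
      = (IntermediateField.adjoin (pPowerSubfield p k K) U).toSubfield := by
    rw [IntermediateField.adjoin_toSubfield, IntermediateField.adjoin_toSubfield]
    apply le_antisymm
    · rw [Subfield.closure_le]
      rintro m (⟨c, rfl⟩ | ⟨y, rfl⟩ | hm)
      · have h1 : algebraMap k K c ∈ pPowerSubfield p k K :=
          (pPowerSubalgebra p k K).algebraMap_mem c
        exact Subfield.subset_closure (Or.inl ⟨⟨_, h1⟩, rfl⟩)
      · have h1 : y ^ p ∈ pPowerSubfield p k K := Algebra.subset_adjoin ⟨y, rfl⟩
        exact Subfield.subset_closure (Or.inl ⟨⟨_, h1⟩, rfl⟩)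
      · exact Subfield.subset_closure (Or.inr hm)
    · rw [Subfield.closure_le]
      rintro m (⟨c, rfl⟩ | hm)
      · have h1 : (c : K) ∈ pPowerSubalgebra p k K := c.2
        have hle : (pPowerSubalgebra p k K).toSubring ≤
            (Subfield.closure (Set.range (algebraMap k K) ∪
              ((Set.range fun y : K => y ^ p) ∪ U))).toSubring := by
          unfold pPowerSubalgebra
          rw [Algebra.adjoin_eq_ring_closure, Subring.closure_le]
          rintro m (hm | hm)
          · exact Subfield.subset_closure (Or.inl hm)
          · exact Subfield.subset_closure (Or.inr (Or.inl hm))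
        exact hle h1
      · exact Subfield.subset_closure (Or.inr (Or.inr hm))
  exact congrArg (fun S : Subfield K => (S : Set K)) h1


/-- Let k ⊆ K be fields of characteristic p > 0 and (x_α) a family of elements of K. Then (x_α) is
p-independent over k if and only if, for every α, x_α does not lie in the subfield generated over k
by K^p and the x_β with β ≠ α. -/
theorem result (p : ℕ) [Fact p.Prime] {k K : Type u} [Field k] [Field K]
    [Algebra k K] [CharP K p] {ι : Type u} (x : ι → K) :
    EGA41.IsPIndependent p k x ↔
      ∀ a : ι, x a ∉ IntermediateField.adjoin k ((Set.range fun y : K => y ^ p) ∪ x '' {b | b ≠ a}) := by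
  rw [isPIndependent_iff]
  refine forall_congr' fun a => ?_
  rw [← SetLike.mem_coe, ← SetLike.mem_coe, adjoin_coe_eq]

end Groth.Agent.S4521
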