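import Groth.Statements.S2468
import Mathlib
import Groth.Agent.Lib.Helper23.PBasisDer
import Groth.Agent.Lib.Helper23.PBasisField
import Groth.Agent.S4521
-- import your own Groth.Agent.* helpers here

set_option autoImplicit false
universe u
open EGA41

namespace Groth.Agent.S2468


open Groth.Agent.Lib.Helper23.PBasis Groth.Agent.Lib.Helper23.PBasisDer
  Groth.Agent.Lib.Helper23.PBasisField

variable (p : ℕ) [Fact p.Prime] {k K : Type u} [Field k] [Field K] [Algebra k K] [CharP K p]

/-- elements of `k[K^p](S)` have differential in the span of the `d s`, `s ∈ S`. -/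
theorem D_mem_span_of_mem_adjoin (S : Set K) (m : K)
    (hm : m ∈ IntermediateField.adjoin (pPowerSubfield p k K) S) :
    KaehlerDifferential.D k K m ∈ Submodule.span K ((KaehlerDifferential.D k K) '' S) := by
  induction hm using IntermediateField.adjoin_induction with
  | mem x hx => exact Submodule.subset_span ⟨x, hx, rfl⟩
  | algebraMap r =>
    have : KaehlerDifferential.D k K (r : K) = 0 :=
      derivation_eq_zero_of_mem_pPower p (KaehlerDifferential.D k K) r.1 r.2
    show KaehlerDifferential.D k K (r : K) ∈ _
    rw [this]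
    exact Submodule.zero_mem _
  | add x y _ _ hx hy => rw [map_add]; exact Submodule.add_mem _ hx hy
  | inv x _ hx =>
    rw [Derivation.leibniz_inv]
    exact Submodule.smul_mem _ _ hx
  | mul x y _ _ hx hy =>
    rw [Derivation.leibniz]
    exact Submodule.add_mem _ (Submodule.smul_mem _ _ hy) (Submodule.smul_mem _ _ hx)

variable {ι : Type u} (x : ι → K)

theorem indep_of_linearIndependent
    (h : LinearIndependent K (fun i => KaehlerDifferential.D k K (x i))) :
    IsPIndependent p k x := by
  rw [isPIndependent_iff]
  intro a hmem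
  have h1 := D_mem_span_of_mem_adjoin p _ _ hmem
  rw [Set.image_image] at h1
  exact h.notMem_span_image (s := {b | b ≠ a}) (x := a) (by simp) h1

theorem span_of_generating (h : IsPGenerating p k x) :
    Submodule.span K (Set.range fun i => KaehlerDifferential.D k K (x i)) = ⊤ := by
  rw [isPGenerating_iff] at h
  rw [eq_top_iff, ← KaehlerDifferential.span_range_derivation, Submodule.span_le]
  rintro _ ⟨m, rfl⟩
  have hm : m ∈ IntermediateField.adjoin (pPowerSubfield p k K) (Set.range x) := by
    rw [h]; trivial
  have := D_mem_span_of_mem_adjoin p _ _ hm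
  rw [← Set.range_comp] at this
  exact this

theorem injective_of_indep (h : IsPIndependent p k x) : Function.Injective x := by
  rw [isPIndependent_iff] at h
  intro a b hab
  by_contra hne
  apply h a
  apply IntermediateField.subset_adjoin
  exact ⟨b, fun hba => hne hba.symm, hab.symm⟩

theorem linearIndependent_of_indep (h : IsPIndependent p k x) :
    LinearIndependent K (fun i => KaehlerDifferential.D k K (x i)) := by
  have hinj := injective_of_indep p x h
  have hT : IsPIndependent p k (Subtype.val : Set.range x → K) := by
    rw [isPIndependent_val_iff]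
    rw [isPIndependent_iff] at h
    rintro _ ⟨a, rfl⟩ hmem
    apply h a
    refine IntermediateField.adjoin.mono _ _ _ ?_ hmem
    rintro _ ⟨⟨b, rfl⟩, hb⟩
    exact ⟨b, fun hba => hb (by rw [hba]; rfl), rfl⟩
  obtain ⟨B₂, hTB, -, hB₂⟩ := exists_isPBasis p k (Set.univ : Set K) (Set.range x)
    (Set.subset_univ _)
    ((isPGenerating_val_iff p k _).mpr (by
      rw [eq_top_iff]; intro m _; exact IntermediateField.subset_adjoin _ _ (Set.mem_univ m)))
    hT
  obtain ⟨b, hb⟩ := exists_basis_kaehler p (Subtype.val : B₂ → K) hB₂
  have hli := b.linearIndependent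
  have := hli.comp (fun i : ι => (⟨x i, hTB ⟨i, rfl⟩⟩ : B₂))
    (fun i j hij => hinj (congrArg Subtype.val hij))
  have h2 : (fun i => KaehlerDifferential.D k K (x i))
      = b ∘ fun i : ι => (⟨x i, hTB ⟨i, rfl⟩⟩ : B₂) := by
    ext i
    simp [hb]
  rw [h2]
  exact this



open Groth.Agent.Lib.Helper23.PBasis Groth.Agent.Lib.Helper23.PBasisDer
  Groth.Agent.Lib.Helper23.PBasisField

variable (p : ℕ) [Fact p.Prime] {k K : Type u} [Field k] [Field K] [Algebra k K] [CharP K p]

variable {ι : Type u} (x : ι → K)

theorem generating_of_span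
    (h : Submodule.span K (Set.range fun i => KaehlerDifferential.D k K (x i)) = ⊤) :
    IsPGenerating p k x := by
  rw [isPGenerating_iff]
  have hcoe := Groth.Agent.S4521.adjoin_coe_eq p (k := k) (K := K) (Set.range x)
  generalize hF : IntermediateField.adjoin k ((Set.range fun y : K => y ^ p) ∪ Set.range x) = F''
    at hcoe
  suffices hF' : F'' = ⊤ by
    rw [eq_top_iff]
    intro m _
    have : m ∈ (F'' : Set K) := by rw [hF']; trivial
    rw [hcoe] at this
    exact this
  by_contra hne
  have hpowF : ∀ b : K, b ^ p ∈ Set.range (algebraMap F'' K) := fun b =>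
    ⟨⟨b ^ p, by rw [← hF]; exact IntermediateField.subset_adjoin _ _ (Or.inl ⟨b, rfl⟩)⟩, rfl⟩
  have hxF : ∀ i, x i ∈ F'' := fun i => by
    rw [← hF]; exact IntermediateField.subset_adjoin _ _ (Or.inr ⟨i, rfl⟩)
  obtain ⟨B₃, hB₃⟩ := exists_isPBasis' p F'' (K := K)
  have hne' : B₃.Nonempty := by
    by_contra hemp
    rw [Set.not_nonempty_iff_eq_empty] at hemp
    subst hemp
    apply hne
    rw [eq_top_iff]
    intro m _
    have hgen := hB₃.2
    rw [isPGenerating_val_iff] at hgen
    have hm : m ∈ IntermediateField.adjoin (pPowerSubfield p F'' K) (∅ : Set K) := by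
      rw [hgen]; trivial
    rw [IntermediateField.adjoin_empty, IntermediateField.mem_bot] at hm
    obtain ⟨r, rfl⟩ := hm
    obtain ⟨f, hf⟩ := (mem_pPower_iff p hpowF r.1).mp r.2
    show (r : K) ∈ F''
    rw [← hf]
    exact f.2
  obtain ⟨t, ht⟩ := hne'
  obtain ⟨b, hb⟩ := exists_basis_kaehler p (Subtype.val : B₃ → K) hB₃
  have h0 : KaehlerDifferential.D F'' K t = 0 := by
    have h1 : KaehlerDifferential.D F'' K t
        = KaehlerDifferential.map k F'' K K (KaehlerDifferential.D k K t) := by simp
    have h2 : ∀ ω : Ω[K⁄k], KaehlerDifferential.map k F'' K K ω = 0 := by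
      intro ω
      have hω : ω ∈ Submodule.span K (Set.range fun i => KaehlerDifferential.D k K (x i)) := by
        rw [h]; trivial
      induction hω using Submodule.span_induction with
      | mem ω hω =>
        obtain ⟨i, rfl⟩ := hω
        rw [KaehlerDifferential.map_D]
        exact (KaehlerDifferential.D F'' K).map_algebraMap ⟨x i, hxF i⟩
      | zero => simp
      | add ω₁ ω₂ _ _ h₁ h₂ => rw [map_add, h₁, h₂, add_zero]
      | smul c ω _ h => rw [map_smul, h, smul_zero]
    rw [h1, h2]
  exact b.ne_zero ⟨t, ht⟩ (by rw [hb]; exact h0)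


/-- Let k ⊆ K be fields of characteristic p > 0 and (x_α) a family of elements of K. Then (x_α) is
p-free over k if and only if the d_{K/k} x_α are linearly independent over K; it is a system of
p-generators of K over k if and only if the d x_α span Ω_{K/k}; and it is a p-basis if and only if
the d x_α form a basis of Ω_{K/k} (stated as the existence of a K-basis of Ω_{K/k} indexed by the
same index set whose members are the d x_α). (With the empty family the second equivalence
specializes to: Ω_{K/k} = 0 iff K = k(K^p).) -/
theorem result (p : ℕ) [Fact p.Prime] {k K : Type u} [Field k] [Field K] [Algebra k K] [CharP K p]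
    {ι : Type u} (x : ι → K) :
    (EGA41.IsPIndependent p k x ↔ LinearIndependent K (fun i => KaehlerDifferential.D k K (x i))) ∧
    (EGA41.IsPGenerating p k x ↔ Submodule.span K (Set.range fun i => KaehlerDifferential.D k K (x i)) = ⊤) ∧
    (EGA41.IsPBasis p k x ↔ ∃ b : Module.Basis ι K (Ω[K⁄k]), ∀ i, b i = KaehlerDifferential.D k K (x i)) := by
  refine ⟨⟨linearIndependent_of_indep p x, indep_of_linearIndependent p x⟩,
    ⟨span_of_generating p x, generating_of_span p x⟩, ⟨exists_basis_kaehler p x, ?_⟩⟩
  rintro ⟨b, hb⟩
  have hfun : (fun i => KaehlerDifferential.D k K (x i)) = b := by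
    ext i; rw [hb]
  constructor
  · apply indep_of_linearIndependent
    rw [hfun]
    exact b.linearIndependent
  · apply generating_of_span
    rw [hfun]
    exact b.span_eq

end Groth.Agent.S2468
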