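import Groth.Statements.S2043
import Mathlib
import Groth.Agent.Lib.Helper4.SmoothSection
import Groth.Agent.Lib.Helper4.EtLift
import Groth.Agent.Lib.Helper12.HzPairNbhd

set_option autoImplicit false
universe u
open CAlg

namespace Groth.Agent.S2043

open Groth.Agent.Lib.Helper4 in
/-- Let `I ⊆ A` be an ideal, `B` a smooth `A`-algebra and `B → A/I` an `A`-algebra map. Then there is an
étale `A`-algebra `A'` with `A/I → A'/IA'` bijective and an `A`-algebra map `B → A'` lifting the
given map. -/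
theorem result {A B : Type u} [CommRing A] [CommRing B] [Algebra A B]
    [Algebra.Smooth A B] (I : Ideal A) (σ : B →ₐ[A] A ⧸ I) :
    ∃ (A' : Type u) (_ : CommRing A') (_ : Algebra A A'), Algebra.Etale A A' ∧
      Function.Bijective (algebraMap (A ⧸ I) (A' ⧸ I.map (algebraMap A A'))) ∧
      ∃ τ : B →ₐ[A] A', ∀ b : B,
        Ideal.Quotient.mk (I.map (algebraMap A A')) (τ b) =
          algebraMap (A ⧸ I) (A' ⧸ I.map (algebraMap A A')) (σ b) := by
  classical
  have hσalg : ∀ a : A, σ (algebraMap A B a) = Ideal.Quotient.mk I a := fun a => σ.commutes a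
  have hsurj : ∀ b : B, ∃ a : A, b - algebraMap A B a ∈ RingHom.ker σ := by
    intro b
    obtain ⟨a, ha⟩ := Ideal.Quotient.mk_surjective (σ b)
    refine ⟨a, ?_⟩
    rw [RingHom.mem_ker, map_sub, hσalg, ha, sub_self]
  obtain ⟨K, c, hKq, hc, hEt⟩ := SmoothSection.exists_etale_quotient_away (A := A) (RingHom.ker σ) hsurj
  let σ₁ : B ⧸ K →ₐ[A] A ⧸ I := Ideal.Quotient.liftₐ K σ (fun x hx => hKq hx)
  have hσ₁ : ∀ b : B, σ₁ (Ideal.Quotient.mk K b) = σ b := fun b => rfl
  have hσ₁c : σ₁ c = 1 := by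
    have hle : (RingHom.ker σ).map (Ideal.Quotient.mk K) ≤ RingHom.ker σ₁ := by
      rw [Ideal.map_le_iff_le_comap]
      intro x hx
      rw [Ideal.mem_comap, RingHom.mem_ker, hσ₁]
      exact hx
    have := hle hc
    rw [RingHom.mem_ker, map_sub, map_one, sub_eq_zero] at this
    exact this
  have hunit : IsUnit (σ₁ c) := by rw [hσ₁c]; exact isUnit_one
  let σ₂ : Localization.Away c →ₐ[A] A ⧸ I := IsLocalization.Away.liftAlgHom (f := σ₁) c hunit
  have hσ₂ : ∀ x : B ⧸ K, σ₂ (algebraMap (B ⧸ K) (Localization.Away c) x) = σ₁ x := fun x =>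
    IsLocalization.Away.lift_eq c hunit x
  obtain ⟨A', _, _, _, _, hA'et, φ', hφ', hker⟩ :=
    EtLift.exists_etale_shrink I (Localization.Away c) σ₂
  have hnb : Groth.Agent.Lib.Helper12.HzPair.IsNbhd I A' := ⟨hA'et, φ', hker⟩
  have hbij := (Groth.Agent.Lib.Helper12.HzPair.isNbhd_iff_bijective A').mp hnb
  let τ : B →ₐ[A] A' :=
    ((IsScalarTower.toAlgHom A (Localization.Away c) A').comp
      (IsScalarTower.toAlgHom A (B ⧸ K) (Localization.Away c))).comp (Ideal.Quotient.mkₐ A K)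
  have hτ : ∀ b : B, φ' (τ b) = σ b := by
    intro b
    show φ' (algebraMap (Localization.Away c) A' (algebraMap (B ⧸ K) (Localization.Away c)
      (Ideal.Quotient.mk K b))) = σ b
    rw [hφ', hσ₂, hσ₁]
  refine ⟨A', inferInstance, inferInstance, hA'et, hbij, τ, fun b => ?_⟩
  obtain ⟨a, ha⟩ := Ideal.Quotient.mk_surjective (σ b)
  rw [← ha]
  show _ = Ideal.Quotient.mk _ (algebraMap A A' a)
  rw [Ideal.Quotient.eq, ← hker]
  show φ' (τ b - algebraMap A A' a) = 0
  rw [map_sub, hτ, φ'.commutes, ← ha]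
  exact sub_self _

end Groth.Agent.S2043
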