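import Groth.Statements.S0536
import Mathlib
import Groth.Agent.S2043
import Groth.Agent.Lib.Helper4.HenselPairS

set_option autoImplicit false
universe u
open Hensel

namespace Groth.Agent.S0536

open TensorProduct in
open Groth.Agent.Lib.Helper4 in
/-- Let `S` be a smooth `R`-algebra and `A` an `R`-algebra Henselian at an ideal `I`. Every `R`-algebra
map `S → A/I` lifts to an `R`-algebra map `S → A`. -/
theorem result (R : Type u) [CommRing R] (S : Type u) [CommRing S]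
    [Algebra R S] [Algebra.Smooth R S] (A : Type u) [CommRing A] [Algebra R A] (I : Ideal A)
    [HenselianRing A I] (σ : S →ₐ[R] A ⧸ I) :
    ∃ τ : S →ₐ[R] A, (Ideal.Quotient.mkₐ R I).comp τ = σ := by
  classical
  let σA : A ⊗[R] S →ₐ[A] A ⧸ I :=
    Algebra.TensorProduct.lift (Algebra.ofId A (A ⧸ I)) σ (fun _ _ => Commute.all _ _)
  have hσA : ∀ s : S, σA (1 ⊗ₜ s) = σ s := by
    intro s
    simp [σA]
  obtain ⟨A', _, _, hA'et, hbij, τ', hτ'⟩ := Groth.Agent.S2043.result (A := A) (B := A ⊗[R] S) I σA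
  let e : (A ⧸ I) ≃ₐ[A] (A' ⧸ I.map (algebraMap A A')) :=
    AlgEquiv.ofBijective (IsScalarTower.toAlgHom A (A ⧸ I) (A' ⧸ I.map (algebraMap A A'))) hbij
  have he : ∀ x, e x = algebraMap (A ⧸ I) (A' ⧸ I.map (algebraMap A A')) x := fun x => rfl
  let ρ : A' →ₐ[A] A ⧸ I := e.symm.toAlgHom.comp (Ideal.Quotient.mkₐ A _)
  obtain ⟨ρ', hρ'⟩ := HenselPair.exists_lift_of_etale_algebra (R := A) (E := A') (C := A) I ρ
  have hρ'' : ∀ x : A', Ideal.Quotient.mk I (ρ' x) = ρ x := fun x => DFunLike.congr_fun hρ' x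
  refine ⟨((ρ'.comp τ').restrictScalars R).comp Algebra.TensorProduct.includeRight, ?_⟩
  ext s
  show Ideal.Quotient.mk I (ρ' (τ' (1 ⊗ₜ s))) = σ s
  rw [hρ'']
  show e.symm (Ideal.Quotient.mk _ (τ' (1 ⊗ₜ s))) = σ s
  rw [hτ', ← he, e.symm_apply_apply, hσA]

end Groth.Agent.S0536
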