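import Groth.Statements.S18656
-- import your own Groth.Agent.* helpers here
import Groth.Agent.Lib27.LD9

set_option autoImplicit false
universe u
open GrLC

namespace Groth.Agent.S18656

/-- Let R be a graded ring defined over a field k = R_0, generated over k by R_1, of dimension r ≥ 1,
and let a(R) be its a-invariant. Then the homogeneous piece H^r_m(R)_n is nonzero for every n ≤
a(R). Here 'graded ring defined over a field' means R = ⊕_{n ≥ 0} R_n is Noetherian with R_0 a
field, and m = R_+ is its unique graded maximal ideal. The a-invariant a(R) is the largest degree in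
which the graded local cohomology H^n_m(R) (n = dim R, m = R_+), computed from a *injective
resolution of R in the graded category, is nonzero. -/
theorem result (R : Type u) [CommRing R] [IsNoetherianRing R] (𝒜 : ℤ → AddSubgroup R) [GradedRing 𝒜] (hpos : ∀ n : ℤ, n < 0 → 𝒜 n = ⊥) (h0 : IsField (GrLC.deg0 𝒜)) (m : HomogeneousIdeal 𝒜) (hm : GrLC.IsStarLocal 𝒜 m) (hmsp : m.toIdeal = Ideal.span (⋃ n ∈ Set.Ioi (0 : ℤ), (𝒜 n : Set R))) (hstd : Ideal.span (⋃ n ∈ Set.Ioi (0 : ℤ), (𝒜 n : Set R)) = Ideal.span ((𝒜 1 : AddSubgroup R) : Set R)) (r : ℕ) (hr : ringKrullDim R = r) (h1 : 1 ≤ r) (I : GrLC.StarInjRes 𝒜 𝒜) (a : ℤ) (ha : GrLC.endDeg (I.Hgr m r) = ((a : WithTop ℤ) : WithBot (WithTop ℤ))) (n : ℤ) (hn : n ≤ a) : I.Hcomp m r n ≠ ⊥ := by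
  classical
  have hmspan : m.toIdeal = Ideal.span ((𝒜 1 : AddSubgroup R) : Set R) := hmsp.trans hstd
  have hfg : (Submodule.span R ((𝒜 1 : AddSubgroup R) : Set R)).FG := IsNoetherian.noetherian _
  obtain ⟨s, hs1, hs2⟩ := (Submodule.fg_span_iff_fg_span_finset_subset _).1 hfg
  let x : Fin s.card → R := fun b => (s.equivFin.symm b : R)
  have hx : ∀ b, x b ∈ 𝒜 1 := fun b => hs1 (s.equivFin.symm b).2
  have hrange : Set.range x = (s : Set R) := by
    ext y
    constructor
    · rintro ⟨b, rfl⟩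
      exact (s.equivFin.symm b).2
    · intro hy
      exact ⟨s.equivFin ⟨y, hy⟩, by simp [x]⟩
  have hspan : m.toIdeal = Ideal.span (Set.range x) := by
    rw [hrange, hmspan]
    exact hs2
  have hmax := Groth.Agent.Lib.Helper11.GrLes.isMaximal_of_isCoatom 𝒜 hpos hm.1
  have hht : m.toIdeal.height = r := by
    have := Groth.Agent.Lib.Helper11.GrLes.ringKrullDim_eq_height 𝒜 hpos hm
    rw [hr] at this
    exact_mod_cast this.symm
  have hvan : ∀ (X : Type u) [AddCommGroup X] [Module R X] (𝒳 : ℤ → AddSubgroup X)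
      [DirectSum.Decomposition 𝒳] [SetLike.GradedSMul 𝒜 𝒳] (EX : StarInjRes 𝒜 𝒳),
      Subsingleton (EX.H m (r + 1)) := fun X _ _ 𝒳 _ _ EX =>
    Groth.Agent.Lib.Helper11.GrVan.subsingleton_H_of_height_lt hm.1 EX r hht (r + 1)
      (Nat.lt_succ_self r)
  have hstep := fun n' => Groth.Agent.Lib27.LD.top_step m hmax s.card x hx hspan r h1 hvan I n'
  have htop := Groth.Agent.Lib.Helper11.GrCan.isTopDeg_of_endDeg_eq ha
  have key : ∀ k : ℕ, ¬ (∀ z, z ∈ I.Hgr m r (a - k) → z = 0) := by
    intro k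
    induction k with
    | zero =>
      intro h
      apply htop.1
      rw [eq_bot_iff]
      intro z hz
      have := h z (by simpa using hz)
      rw [this]
      exact zero_mem _
    | succ k ih =>
      intro h
      apply ih
      have := hstep (a - ((k + 1 : ℕ) : ℤ)) h
      have e : a - ((k + 1 : ℕ) : ℤ) + 1 = a - (k : ℤ) := by push_cast; ring
      rwa [e] at this
  intro hbot
  obtain ⟨k, hk⟩ : ∃ k : ℕ, n = a - k := ⟨(a - n).toNat, by omega⟩
  apply key k
  intro z hz
  rw [← hk] at hz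
  have hz2 : z ∈ I.Hcomp m r n := hz
  rw [hbot] at hz2
  exact (Submodule.mem_bot _).1 hz2

end Groth.Agent.S18656
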