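import Groth.Statements.S18672
import Mathlib
import Groth.Agent.Lib.Helper11.GrStd

set_option autoImplicit false
universe u
open GrLC

namespace Groth.Agent.S18672

/-- Let R be a graded ring defined over a field k = R_0 which is Cohen–Macaulay and generated over k by
R_1 (the standing hypotheses of this section; only generation in degree one is used), q ≥ 1, R' =
R^(q), and a an integer. Then the Veronese submodule [R(a)]^(q) = ⊕_j R_{a+jq} is generated over R'
by its piece R(a)_n = R_{a+n}, where n is the smallest multiple of q with n + a ≥ 0. Here 'graded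
ring defined over a field' means R = ⊕_{n ≥ 0} R_n is Noetherian with R_0 a field, and m = R_+ is
its unique graded maximal ideal. The Veronese subring R^(q) = ⊕_j R_{jq}, regraded by (R^(q))_j =
R_{jq}, is presented abstractly as a ℤ-graded ring R' with an injective ring homomorphism φ : R' → R
carrying R'_j onto R_{jq} for every j. The module [R(a)]^(q) is presented as a graded R'-module M'
with an injective additive map g : M' → R, semilinear over φ, carrying M'_j onto R_{a+jq} for every
j; with n = j₀q, the conclusion is that the R'-span of M'_{j₀} is all of M'. -/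
theorem result (R : Type u) [CommRing R] [LocCoh.IsCohenMacaulayRing R] (𝒜 : ℤ → AddSubgroup R) [GradedRing 𝒜] (hpos : ∀ n : ℤ, n < 0 → 𝒜 n = ⊥) (h0 : IsField (GrLC.deg0 𝒜)) (hstd : Ideal.span (⋃ n ∈ Set.Ioi (0 : ℤ), (𝒜 n : Set R)) = Ideal.span ((𝒜 1 : AddSubgroup R) : Set R)) (q : ℕ) (hq : 0 < q) (R' : Type u) [CommRing R'] (𝒜' : ℤ → AddSubgroup R') [GradedRing 𝒜'] (φ : R' →+* R) (hφ : Function.Injective φ) (hdeg : ∀ j : ℤ, (𝒜' j).map (φ : R' →+ R) = 𝒜 (j * q)) (a : ℤ) (M' : Type u) [AddCommGroup M'] [Module R' M'] (ℳ' : ℤ → AddSubgroup M') [DirectSum.Decomposition ℳ'] [SetLike.GradedSMul 𝒜' ℳ'] (g : M' →ₛₗ[φ] R) (hg : Function.Injective g) (hgdeg : ∀ j : ℤ, (ℳ' j).map (g : M' →+ R) = 𝒜 (a + j * q)) (j₀ : ℤ) (hj₀ : 0 ≤ a + j₀ * q) (hj₀' : a + (j₀ - 1) * q < 0) : Submodule.span R' ((ℳ' j₀ : AddSubgroup M') : Set M') = ⊤ := by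
  classical
  set T : Submodule R' M' := Submodule.span R' ((ℳ' j₀ : AddSubgroup M') : Set M') with hT
  -- homogeneous elements lie in `T`
  have hb : 0 ≤ a + j₀ * q := hj₀
  have hhom : ∀ (j : ℤ) (x : M'), x ∈ ℳ' j → x ∈ T := by
    intro j x hx
    have hgx : g x ∈ 𝒜 (a + j * q) := by
      rw [← hgdeg j]
      exact ⟨x, hx, rfl⟩
    by_cases hj : j < j₀
    · have hneg : a + j * (q : ℤ) < 0 := by
        have h1 : j ≤ j₀ - 1 := by omega
        have h2 : j * (q : ℤ) ≤ (j₀ - 1) * q :=
          mul_le_mul_of_nonneg_right h1 (by exact_mod_cast hq.le)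
        omega
      rw [hpos _ hneg, AddSubgroup.mem_bot] at hgx
      have : x = 0 := hg (by rw [hgx, map_zero])
      rw [this]
      exact zero_mem _
    · rw [not_lt] at hj
      obtain ⟨t, ht⟩ : ∃ t : ℕ, j = j₀ + t := ⟨(j - j₀).toNat, by omega⟩
      have hdegeq : a + j * (q : ℤ) = (a + j₀ * q) + ((t * q : ℕ) : ℤ) := by
        rw [ht]
        push_cast
        ring
      rw [hdegeq] at hgx
      have key := Groth.Agent.Lib.Helper11.GrStd.mem_prodGrp_add 𝒜 hstd (t * q) (a + j₀ * q) hb
        (g x) hgx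
      -- the product group lies in `g(T)`
      have hsub : Groth.Agent.Lib.Helper11.GrStd.prodGrp (𝒜 (a + j₀ * q)) (𝒜 ((t * q : ℕ) : ℤ)) ≤
          T.toAddSubgroup.map (g : M' →+ R) := by
        unfold Groth.Agent.Lib.Helper11.GrStd.prodGrp
        rw [AddSubgroup.closure_le]
        rintro _ ⟨z, hz, y, hy, rfl⟩
        rw [← hgdeg j₀] at hz
        obtain ⟨w, hw, rfl⟩ := hz
        have hy' : y ∈ 𝒜 ((t : ℤ) * q) := by
          have : ((t * q : ℕ) : ℤ) = (t : ℤ) * q := by push_cast; ring
          rwa [this] at hy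
        rw [← hdeg t] at hy'
        obtain ⟨r, hr, rfl⟩ := hy'
        refine ⟨r • w, ?_, ?_⟩
        · exact T.smul_mem r (Submodule.subset_span hw)
        · show g (r • w) = g w * φ r
          rw [map_smulₛₗ, smul_eq_mul, mul_comm]
      obtain ⟨w, hw, hgw⟩ := hsub key
      have : x = w := hg hgw.symm
      rw [this]
      exact hw
  rw [eq_top_iff]
  intro x _
  rw [← DirectSum.sum_support_decompose ℳ' x]
  refine Submodule.sum_mem _ fun j _ => ?_
  exact hhom j _ (DirectSum.decompose ℳ' x j).2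

end Groth.Agent.S18672
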