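import Groth.Statements.S5836
import Mathlib.Tactic
import Mathlib.LinearAlgebra.Dimension.RankNullity
-- import your own Groth.Agent.* helpers here

set_option autoImplicit false
universe u u' u'' w
open scoped TensorProduct
open EGA41

namespace Groth.Agent.S5836

section tower

variable {k : Type u} {k' : Type u'} {K L : Type w}
    [Field k] [Field k'] [Field K] [Field L]
    [Algebra k k'] [Algebra k K] [Algebra k' K] [IsScalarTower k k' K]
    [Algebra K L] [Algebra k L] [Algebra k' L]
    [IsScalarTower k K L] [IsScalarTower k' K L]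

/-- functoriality of differentials on elements -/
theorem map_map_eq [IsScalarTower k k' L] (ω : Ω[K⁄k]) :
    KaehlerDifferential.map k k' L L (KaehlerDifferential.map k k K L ω) =
      KaehlerDifferential.map k' k' K L (KaehlerDifferential.map k k' K K ω) := by
  have hω : ω ∈ Submodule.span K (Set.range (KaehlerDifferential.D k K)) := by
    rw [KaehlerDifferential.span_range_derivation]; trivial
  induction hω using Submodule.span_induction with
  | mem x hx =>
    obtain ⟨x, rfl⟩ := hx
    simp
  | zero => simp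
  | add x y _ _ hx hy => simp only [map_add, hx, hy]
  | smul c x _ hx =>
    have e1 : KaehlerDifferential.map k k K L (c • x) = c • KaehlerDifferential.map k k K L x :=
      map_smul _ _ _
    have e2 : KaehlerDifferential.map k k' K K (c • x) = c • KaehlerDifferential.map k k' K K x :=
      map_smul _ _ _
    have e3 : KaehlerDifferential.map k' k' K L (c • KaehlerDifferential.map k k' K K x) =
        c • KaehlerDifferential.map k' k' K L (KaehlerDifferential.map k k' K K x) :=
      map_smul _ _ _
    rw [e1, e2, e3, ← hx, ← algebraMap_smul L c (KaehlerDifferential.map k k K L x), map_smul,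
      algebraMap_smul]

/-- naturality of `mapBaseChange` with respect to the base field -/
theorem naturality [IsScalarTower k k' L] (z : L ⊗[K] Ω[K⁄k]) :
    KaehlerDifferential.map k k' L L (KaehlerDifferential.mapBaseChange k K L z) =
      KaehlerDifferential.mapBaseChange k' K L
        ((KaehlerDifferential.map k k' K K).baseChange L z) := by
  induction z using TensorProduct.induction_on with
  | zero => simp
  | tmul l ω =>
    rw [KaehlerDifferential.mapBaseChange_tmul, LinearMap.baseChange_tmul,
      KaehlerDifferential.mapBaseChange_tmul, map_smul, map_map_eq]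
  | add x y hx hy => simp only [map_add, hx, hy]

/-- the kernel of `Ω[L⁄k] → Ω[L⁄k']` comes from the kernel of `L ⊗ Ω[K⁄k] → L ⊗ Ω[K⁄k']` -/
theorem ker_le [IsScalarTower k k' L] :
    LinearMap.ker (KaehlerDifferential.map k k' L L) ≤
      (LinearMap.ker ((KaehlerDifferential.map k k' K K).baseChange L)).map
        (KaehlerDifferential.mapBaseChange k K L) := by
  rw [← KaehlerDifferential.range_mapBaseChange]
  rintro _ ⟨t, rfl⟩
  induction t using TensorProduct.induction_on with
  | zero => simp
  | tmul l ω =>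
    rw [KaehlerDifferential.mapBaseChange_tmul]
    apply Submodule.smul_mem
    have hω : ω ∈ Submodule.span k' (Set.range (KaehlerDifferential.D k k')) := by
      rw [KaehlerDifferential.span_range_derivation]; trivial
    induction hω using Submodule.span_induction with
    | mem x hx =>
      obtain ⟨x, rfl⟩ := hx
      refine ⟨1 ⊗ₜ KaehlerDifferential.D k K (algebraMap k' K x), ?_, ?_⟩
      · rw [SetLike.mem_coe, LinearMap.mem_ker, LinearMap.baseChange_tmul, KaehlerDifferential.map_D]
        simp
      · rw [KaehlerDifferential.mapBaseChange_tmul, one_smul, KaehlerDifferential.map_D,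
          KaehlerDifferential.map_D, ← IsScalarTower.algebraMap_apply]
    | zero => simp
    | add x y _ _ hx hy =>
      rw [map_add]; exact Submodule.add_mem _ hx hy
    | smul c x _ hx =>
      rw [map_smul, ← algebraMap_smul L c]
      exact Submodule.smul_mem _ _ hx
  | add x y hx hy =>
    rw [map_add]; exact Submodule.add_mem _ hx hy

end tower

/-- For fields k ⊆ k' ⊆ k'' ⊆ K ⊆ L put Δ(L/K, a/b) = ker(Υ_{L/K/b} → Υ_{L/K/a}) ⊆ L ⊗_K Ω_{K/b}. Then 0
→ Δ(L/K, k'/k) → Δ(L/K, k''/k) → Δ(L/K, k''/k') → 0 is exact: stated as the surjectivity of the map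
induced by L ⊗_K Ω_{K/k} → L ⊗_K Ω_{K/k'} (exactness on the left and in the middle hold by
construction), together with the resulting identity of ranks d(L/K, k''/k) = d(L/K, k''/k') + d(L/K,
k'/k). -/
theorem result {k : Type u} {k' : Type u'} {k'' : Type u''} {K L : Type w}
    [Field k] [Field k'] [Field k''] [Field K] [Field L]
    [Algebra k k'] [Algebra k k''] [Algebra k' k''] [IsScalarTower k k' k'']
    [Algebra k K] [Algebra k' K] [Algebra k'' K] [IsScalarTower k k' K] [IsScalarTower k' k'' K]
    [IsScalarTower k k'' K] [Algebra K L] [Algebra k L] [Algebra k' L] [Algebra k'' L]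
    [IsScalarTower k K L] [IsScalarTower k' K L] [IsScalarTower k'' K L] :
    (∀ w : L ⊗[K] Ω[K⁄k'], w ∈ EGA41.imperfection k' K L →
        (KaehlerDifferential.map k' k'' K K).baseChange L w = 0 →
          ∃ z : L ⊗[K] Ω[K⁄k], z ∈ EGA41.imperfection k K L ∧
            (KaehlerDifferential.map k k'' K K).baseChange L z = 0 ∧
              (KaehlerDifferential.map k k' K K).baseChange L z = w) ∧
      Module.rank L ↥(EGA41.imperfection k K L ⊓
            LinearMap.ker ((KaehlerDifferential.map k k'' K K).baseChange L)) =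
        Module.rank L ↥(EGA41.imperfection k' K L ⊓
              LinearMap.ker ((KaehlerDifferential.map k' k'' K K).baseChange L)) +
          Module.rank L ↥(EGA41.imperfection k K L ⊓
              LinearMap.ker ((KaehlerDifferential.map k k' K K).baseChange L)) := by
  have hkL : IsScalarTower k k' L := by
    refine IsScalarTower.of_algebraMap_eq fun x => ?_
    rw [IsScalarTower.algebraMap_apply k K L, IsScalarTower.algebraMap_apply k' K L,
      ← IsScalarTower.algebraMap_apply k k' K]
  obtain ⟨a, ha⟩ : ∃ a, a = (KaehlerDifferential.map k k' K K).baseChange L := ⟨_, rfl⟩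
  obtain ⟨b, hb⟩ : ∃ b, b = (KaehlerDifferential.map k' k'' K K).baseChange L := ⟨_, rfl⟩
  obtain ⟨c, hc⟩ : ∃ c, c = (KaehlerDifferential.map k k'' K K).baseChange L := ⟨_, rfl⟩
  rw [← ha, ← hb, ← hc]
  -- functoriality `c = b ∘ a`
  have hcomp : ∀ z, c z = b (a z) := by
    intro z
    rw [ha, hb, hc]
    induction z using TensorProduct.induction_on with
    | zero => simp
    | tmul l ω =>
      rw [LinearMap.baseChange_tmul, LinearMap.baseChange_tmul, LinearMap.baseChange_tmul]
      congr 1
      have hω : ω ∈ Submodule.span K (Set.range (KaehlerDifferential.D k K)) := by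
        rw [KaehlerDifferential.span_range_derivation]; trivial
      induction hω using Submodule.span_induction with
      | mem x hx =>
        obtain ⟨x, rfl⟩ := hx
        simp
      | zero => simp
      | add x y _ _ hx hy => simp only [map_add, hx, hy]
      | smul c x _ hx => simp only [map_smul, hx]
    | add x y hx hy => simp only [map_add, hx, hy]
  have hasurj : Function.Surjective a := by
    rw [ha]
    exact LinearMap.baseChange_surjective L (KaehlerDifferential.map_surjective k k' K)
  -- `a` maps `Υ_k` into `Υ_{k'}`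
  have hamap : ∀ z, KaehlerDifferential.map k k' L L (KaehlerDifferential.mapBaseChange k K L z) =
      KaehlerDifferential.mapBaseChange k' K L (a z) := by
    intro z; rw [ha]; exact naturality z
  have hpart1 : ∀ w : L ⊗[K] Ω[K⁄k'], w ∈ EGA41.imperfection k' K L → b w = 0 →
      ∃ z : L ⊗[K] Ω[K⁄k], z ∈ EGA41.imperfection k K L ∧ c z = 0 ∧ a z = w := by
    intro w hw hbw
    obtain ⟨z₀, hz₀⟩ := hasurj w
    have hη : KaehlerDifferential.mapBaseChange k K L z₀ ∈
        LinearMap.ker (KaehlerDifferential.map k k' L L) := by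
      rw [LinearMap.mem_ker, hamap, hz₀]
      exact hw
    obtain ⟨z₁, hz₁, hz₁'⟩ := ker_le (K := K) hη
    rw [SetLike.mem_coe, LinearMap.mem_ker, ← ha] at hz₁
    refine ⟨z₀ - z₁, ?_, ?_, ?_⟩
    · change z₀ - z₁ ∈ LinearMap.ker (KaehlerDifferential.mapBaseChange k K L)
      rw [LinearMap.mem_ker, map_sub, hz₁', sub_self]
    · rw [hcomp, map_sub, hz₁, sub_zero, hz₀, hbw]
    · rw [map_sub, hz₁, sub_zero, hz₀]
  refine ⟨hpart1, ?_⟩
  -- the rank identity
  obtain ⟨Δ1, hΔ1⟩ : ∃ Δ1, Δ1 = EGA41.imperfection k K L ⊓ LinearMap.ker a := ⟨_, rfl⟩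
  obtain ⟨Δ2, hΔ2⟩ : ∃ Δ2, Δ2 = EGA41.imperfection k K L ⊓ LinearMap.ker c := ⟨_, rfl⟩
  obtain ⟨Δ3, hΔ3⟩ : ∃ Δ3, Δ3 = EGA41.imperfection k' K L ⊓ LinearMap.ker b := ⟨_, rfl⟩
  rw [← hΔ1, ← hΔ2, ← hΔ3]
  have hmaps : ∀ z ∈ Δ2, a z ∈ Δ3 := by
    intro z hz
    rw [hΔ2] at hz
    rw [hΔ3]
    refine ⟨?_, ?_⟩
    · change a z ∈ LinearMap.ker (KaehlerDifferential.mapBaseChange k' K L)
      rw [LinearMap.mem_ker, ← hamap]
      have : KaehlerDifferential.mapBaseChange k K L z = 0 := hz.1
      rw [this, map_zero]
    · change b (a z) = 0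
      rw [← hcomp]
      exact hz.2
  let f : Δ2 →ₗ[L] Δ3 := a.restrict hmaps
  have hfsurj : Function.Surjective f := by
    rintro ⟨w, hw⟩
    rw [hΔ3] at hw
    obtain ⟨z, hz1, hz2, hz3⟩ := hpart1 w hw.1 hw.2
    refine ⟨⟨z, ?_⟩, ?_⟩
    · rw [hΔ2]; exact ⟨hz1, hz2⟩
    · apply Subtype.ext
      exact hz3
  have h12 : Δ1 ≤ Δ2 := by
    rw [hΔ1, hΔ2]
    refine inf_le_inf_left _ ?_
    intro z hz
    rw [LinearMap.mem_ker] at hz ⊢
    rw [hcomp, hz, map_zero]
  have hker : LinearMap.ker f = Submodule.comap Δ2.subtype Δ1 := by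
    ext ⟨z, hz⟩
    rw [LinearMap.mem_ker, Submodule.mem_comap]
    change f ⟨z, hz⟩ = 0 ↔ z ∈ Δ1
    rw [hΔ1]
    constructor
    · intro h0
      have : a z = 0 := congrArg Subtype.val h0
      rw [hΔ2] at hz
      exact ⟨hz.1, this⟩
    · intro h1
      apply Subtype.ext
      exact h1.2
  have hrn := LinearMap.rank_range_add_rank_ker (R := L) (M := ↥Δ2) (M₁ := ↥Δ3) f
  rw [rank_range_of_surjective f hfsurj, hker,
    (Submodule.comapSubtypeEquivOfLe h12).rank_eq] at hrn
  exact hrn.symm

end Groth.Agent.S5836
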