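import Groth.Statements.S12908
import Mathlib
import Groth.Agent.S12906
import Groth.Agent.Lib.Helper9.McCoy
-- import your own Groth.Agent.* helpers here

set_option autoImplicit false
universe u
open CAlgX

namespace Groth.Agent.S12908

section helpers

open Matrix

variable {R : Type u} [CommRing R]

/-- the signed-free maximal minors of a `(t+1) × t` matrix. -/
noncomputable def δ {t : ℕ} (Ψ : Matrix (Fin (t + 1)) (Fin t) R) (i : Fin (t + 1)) : R :=
  (Ψ.submatrix i.succAbove id).det

theorem det_submatrix_rows_mem {t : ℕ} (Ψ : Matrix (Fin (t + 1)) (Fin t) R)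
    (f : Fin t → Fin (t + 1)) :
    (Ψ.submatrix f id).det ∈ Ideal.span (Set.range (δ Ψ)) := by
  classical
  by_cases hf : Function.Injective f
  · -- some index is missed
    obtain ⟨i, hi⟩ : ∃ i, i ∉ Set.range f := by
      by_contra hcon
      push Not at hcon
      have hsurj : Function.Surjective f := hcon
      have := Fintype.card_le_of_surjective f hsurj
      simp at this
    have hne : ∀ k, f k ≠ i := fun k hk => hi ⟨k, hk⟩
    choose τ hτ using fun k => Fin.exists_succAbove_eq (hne k)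
    have hτinj : Function.Injective τ := by
      intro k k' hkk'
      apply hf
      rw [← hτ k, ← hτ k', hkk']
    obtain ⟨σ, hσ⟩ : ∃ σ : Equiv.Perm (Fin t), ⇑σ = τ :=
      ⟨Equiv.ofBijective τ (Finite.injective_iff_bijective.mp hτinj), rfl⟩
    have h1 : Ψ.submatrix f id = (Ψ.submatrix i.succAbove id).submatrix σ id := by
      ext k l
      simp only [submatrix_apply, id_eq, hσ, hτ]
    rw [h1, Matrix.det_permute]
    exact Ideal.mul_mem_left _ _ (Ideal.subset_span ⟨i, rfl⟩)
  · rw [Function.Injective] at hf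
    push Not at hf
    obtain ⟨k, k', hkk', hne⟩ := hf
    rw [Matrix.det_zero_of_row_eq hne (by ext l; simp [hkk'])]
    exact zero_mem _

theorem minorIdeal_eq_span {t : ℕ} (Ψ : Matrix (Fin (t + 1)) (Fin t) R) :
    CAlgX.minorIdeal Ψ t = Ideal.span (Set.range (δ Ψ)) := by
  classical
  apply le_antisymm
  · rw [CAlgX.minorIdeal, Ideal.span_le]
    rintro _ ⟨⟨f, g⟩, rfl⟩
    by_cases hg : Function.Injective g
    · obtain ⟨σ, hσ⟩ : ∃ σ : Equiv.Perm (Fin t), ⇑σ = g :=
        ⟨Equiv.ofBijective g (Finite.injective_iff_bijective.mp hg), rfl⟩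
      have h1 : Ψ.submatrix f g = (Ψ.submatrix f id).submatrix id σ := by
        ext k l
        simp only [submatrix_apply, id_eq, hσ]
      show (Ψ.submatrix f g).det ∈ _
      rw [h1, Matrix.det_permute']
      exact Ideal.mul_mem_left _ _ (det_submatrix_rows_mem Ψ f)
    · show (Ψ.submatrix f g).det ∈ _
      rw [Groth.Agent.Lib.Helper9.McCoy.det_submatrix_eq_zero_of_not_injective Ψ f g hg]
      exact zero_mem _
  · rw [Ideal.span_le]
    rintro _ ⟨i, rfl⟩
    exact Ideal.subset_span ⟨(i.succAbove, id), rfl⟩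

/-- the elementary form of `2 ≤ idealDepth I R`. -/
def HasRegPair (I : Ideal R) : Prop :=
  (1 : R) ∈ I ∨ ∃ x ∈ I, ∃ y ∈ I, (∀ c, x * c = 0 → c = 0) ∧
    ∀ c d, y * c = x * d → ∃ d', c = x * d'

theorem hasRegPair_of_depth (I : Ideal R) (h : 2 ≤ LocCoh.idealDepth I R) : HasRegPair I := by
  classical
  unfold LocCoh.idealDepth at h
  split_ifs at h with htop
  · left
    have : I = ⊤ := by
      rw [smul_eq_mul, Ideal.mul_top] at htop
      exact htop
    rw [this]
    trivial
  · right
    obtain ⟨rs, ⟨hreg, hmem⟩, hlen⟩ : ∃ rs : List R,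
        (RingTheory.Sequence.IsWeaklyRegular R rs ∧ ∀ r ∈ rs, r ∈ I) ∧ 2 ≤ rs.length := by
      by_contra hcon
      push Not at hcon
      have hle : (⨆ (rs : List R) (_ : RingTheory.Sequence.IsWeaklyRegular R rs ∧ ∀ r ∈ rs, r ∈ I),
          (rs.length : ℕ∞)) ≤ 1 := by
        refine iSup₂_le fun rs hrs => ?_
        have := hcon rs hrs
        have h1 : rs.length ≤ 1 := by omega
        exact_mod_cast h1
      have := h.trans hle
      exact absurd this (by decide)
    match rs, hreg, hmem, hlen with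
    | x :: y :: rest, hreg, hmem, _ =>
      rw [RingTheory.Sequence.isWeaklyRegular_cons_iff] at hreg
      obtain ⟨hx, hreg'⟩ := hreg
      rw [RingTheory.Sequence.isWeaklyRegular_cons_iff] at hreg'
      obtain ⟨hy, -⟩ := hreg'
      refine ⟨x, hmem x (by simp), y, hmem y (by simp), ?_, ?_⟩
      · intro c hc
        apply hx
        simpa using hc
      · intro c d hcd
        have h0 : y • (Submodule.Quotient.mk c : QuotSMulTop x R) = y • 0 := by
          rw [smul_zero, ← Submodule.Quotient.mk_smul, Submodule.Quotient.mk_eq_zero,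
            Submodule.mem_smul_pointwise_iff_exists]
          exact ⟨d, trivial, by simpa [eq_comm] using hcd⟩
        have h1 := hy h0
        rw [Submodule.Quotient.mk_eq_zero, Submodule.mem_smul_pointwise_iff_exists] at h1
        obtain ⟨d', -, hd'⟩ := h1
        exact ⟨d', by simpa [eq_comm] using hd'⟩

theorem HasRegPair.eq_zero_of_kill {I : Ideal R} (h : HasRegPair I) (w : R)
    (hw : ∀ z ∈ I, z * w = 0) : w = 0 := by
  rcases h with h1 | ⟨x, hx, -, -, hreg, -⟩
  · simpa using hw 1 h1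
  · exact hreg w (hw x hx)

theorem HasRegPair.glue {I : Ideal R} (h : HasRegPair I) {ι : Type} [Fintype ι] (d : ι → R)
    (hI : I = Ideal.span (Set.range d)) (u : ι → R) (hu : ∀ i j, d j * u i = d i * u j) :
    ∃ w, ∀ i, u i = d i * w := by
  classical
  have hcomb : ∀ z ∈ I, ∃ c : ι → R, ∑ i, c i * d i = z := by
    intro z hz
    rw [hI] at hz
    exact Ideal.mem_span_range_iff_exists_fun.mp hz
  have hkey : ∀ (c : ι → R) (j : ι), d j * ∑ i, c i * u i = (∑ i, c i * d i) * u j := by
    intro c j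
    rw [Finset.mul_sum, Finset.sum_mul]
    refine Finset.sum_congr rfl fun i _ => ?_
    rw [mul_left_comm, hu i j]
    ring
  rcases h with h1 | ⟨x, hx, y, hy, hreg, hreg2⟩
  · obtain ⟨c, hc⟩ := hcomb 1 h1
    refine ⟨∑ i, c i * u i, fun j => ?_⟩
    rw [hkey c j, hc, one_mul]
  · obtain ⟨a, ha⟩ := hcomb x hx
    obtain ⟨b, hb⟩ := hcomb y hy
    have h1 : ∀ j, d j * ∑ i, a i * u i = x * u j := fun j => by rw [hkey a j, ha]
    have h2 : ∀ j, d j * ∑ i, b i * u i = y * u j := fun j => by rw [hkey b j, hb]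
    have h3 : y * ∑ i, a i * u i = x * ∑ i, b i * u i := by
      rw [← hb, Finset.sum_mul, Finset.mul_sum]
      refine Finset.sum_congr rfl fun j _ => ?_
      rw [mul_assoc, h1 j]
      ring
    obtain ⟨w, hw⟩ := hreg2 _ _ h3
    refine ⟨w, fun j => ?_⟩
    have h4 : x * (u j - d j * w) = 0 := by
      rw [mul_sub, ← h1 j, hw]
      ring
    exact sub_eq_zero.mp (hreg _ h4)

theorem minor_smul_eq_zero {t : ℕ} (Ψ : Matrix (Fin (t + 1)) (Fin t) R) (w : Fin t → R)
    (hw : Ψ.mulVec w = 0) (i : Fin (t + 1)) : δ Ψ i • w = 0 := by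
  have h1 : (Ψ.submatrix i.succAbove id).mulVec w = 0 := by
    ext k
    have := congrFun hw (i.succAbove k)
    simpa [Matrix.mulVec, dotProduct] using this
  have h2 := congrArg ((Ψ.submatrix i.succAbove id).adjugate.mulVec) h1
  rw [Matrix.mulVec_mulVec, Matrix.adjugate_mul, Matrix.smul_mulVec, Matrix.one_mulVec,
    Matrix.mulVec_zero] at h2
  exact h2

/-- the bordered matrix `[v | Ψ]`. -/
def bordered {t : ℕ} (Ψ : Matrix (Fin (t + 1)) (Fin t) R) (v : Fin (t + 1) → R) :
    Matrix (Fin (t + 1)) (Fin (t + 1)) R :=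
  Matrix.of fun i => Fin.cons (v i) (Ψ i)

theorem bordered_submatrix {t : ℕ} (Ψ : Matrix (Fin (t + 1)) (Fin t) R) (v : Fin (t + 1) → R)
    (i : Fin (t + 1)) :
    (bordered Ψ v).submatrix i.succAbove Fin.succ = Ψ.submatrix i.succAbove id := by
  ext k l
  simp [bordered]

theorem det_bordered {t : ℕ} (Ψ : Matrix (Fin (t + 1)) (Fin t) R) (v : Fin (t + 1) → R) :
    (bordered Ψ v).det = ∑ i, v i * ((-1) ^ (i : ℕ) * δ Ψ i) := by
  rw [Matrix.det_succ_column_zero]
  refine Finset.sum_congr rfl fun i _ => ?_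
  rw [bordered_submatrix, δ]
  simp only [bordered, Matrix.of_apply, Fin.cons_zero]
  ring

theorem bordered_zero {t : ℕ} (Ψ : Matrix (Fin (t + 1)) (Fin t) R) (v : Fin (t + 1) → R)
    (i : Fin (t + 1)) : bordered Ψ v i 0 = v i := rfl

theorem bordered_succ {t : ℕ} (Ψ : Matrix (Fin (t + 1)) (Fin t) R) (v : Fin (t + 1) → R)
    (i : Fin (t + 1)) (k : Fin t) : bordered Ψ v i k.succ = Ψ i k := rfl

theorem cramer_minor {t : ℕ} (Ψ : Matrix (Fin (t + 1)) (Fin t) R) (v : Fin (t + 1) → R)
    (hv : ∑ i, v i * ((-1) ^ (i : ℕ) * δ Ψ i) = 0) (j : Fin (t + 1)) :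
    ∃ u : Fin t → R, δ Ψ j • v = Ψ.mulVec u := by
  have hdet : (bordered Ψ v).det = 0 := by rw [det_bordered, hv]
  have hmul := Matrix.mul_adjugate (bordered Ψ v)
  rw [hdet, zero_smul] at hmul
  have hadj0 : (bordered Ψ v).adjugate 0 j = (-1) ^ (j : ℕ) * δ Ψ j := by
    rw [Matrix.adjugate_fin_succ_eq_det_submatrix]
    have : (bordered Ψ v).submatrix j.succAbove (Fin.succAbove 0) =
        Ψ.submatrix j.succAbove id := by
      rw [← bordered_submatrix Ψ v j]
      ext k l
      simp
    rw [this, δ]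
    simp
  obtain ⟨B, hB⟩ : ∃ B, B = (bordered Ψ v).adjugate := ⟨_, rfl⟩
  rw [← hB] at hmul hadj0
  refine ⟨fun k => -((-1) ^ (j : ℕ) * B k.succ j), ?_⟩
  ext i
  have h1 := congrFun (congrFun hmul i) j
  rw [Matrix.mul_apply, Fin.sum_univ_succ, hadj0] at h1
  simp only [bordered_zero, bordered_succ, Matrix.zero_apply] at h1
  simp only [Pi.smul_apply, smul_eq_mul, Matrix.mulVec, dotProduct, mul_neg, Finset.sum_neg_distrib]
  have h2 : ∑ k : Fin t, Ψ i k * ((-1) ^ (j : ℕ) * B k.succ j) =
      (-1) ^ (j : ℕ) * ∑ k : Fin t, Ψ i k * B k.succ j := by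
    rw [Finset.mul_sum]
    refine Finset.sum_congr rfl fun k _ => ?_
    ring
  rw [h2]
  have h3 : ∑ k : Fin t, Ψ i k * B k.succ j = -(v i * ((-1) ^ (j : ℕ) * δ Ψ j)) := by
    linear_combination h1
  rw [h3]
  have hsq : ((-1 : R) ^ (j : ℕ)) * ((-1 : R) ^ (j : ℕ)) = 1 := by
    rw [← pow_add, ← two_mul, pow_mul]
    simp
  linear_combination (- v i * δ Ψ j) * hsq

theorem kill_of_minors {t : ℕ} (Ψ : Matrix (Fin (t + 1)) (Fin t) R)
    (hpair : HasRegPair (CAlgX.minorIdeal Ψ t)) (w : R) (hw : ∀ i, δ Ψ i * w = 0) : w = 0 := by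
  apply hpair.eq_zero_of_kill w
  intro z hz
  rw [minorIdeal_eq_span] at hz
  have hle : Ideal.span (Set.range (δ Ψ)) ≤ LinearMap.ker (LinearMap.mulRight R w) := by
    rw [Ideal.span_le]
    rintro _ ⟨i, rfl⟩
    simpa using hw i
  simpa using hle hz

theorem mulVec_injective_of_regPair {t : ℕ} (Ψ : Matrix (Fin (t + 1)) (Fin t) R)
    (hpair : HasRegPair (CAlgX.minorIdeal Ψ t)) (w : Fin t → R) (hw : Ψ.mulVec w = 0) : w = 0 := by
  funext k
  apply kill_of_minors Ψ hpair
  intro i
  have := congrFun (minor_smul_eq_zero Ψ w hw i) k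
  simpa using this

theorem mem_range_of_regPair {t : ℕ} (Ψ : Matrix (Fin (t + 1)) (Fin t) R)
    (hpair : HasRegPair (CAlgX.minorIdeal Ψ t)) (v : Fin (t + 1) → R)
    (hv : ∑ i, v i * ((-1) ^ (i : ℕ) * δ Ψ i) = 0) : ∃ w : Fin t → R, Ψ.mulVec w = v := by
  choose u hu using cramer_minor Ψ v hv
  have hcompat : ∀ i j, δ Ψ j • u i = δ Ψ i • u j := by
    intro i j
    have h1 : Ψ.mulVec (δ Ψ j • u i - δ Ψ i • u j) = 0 := by
      rw [Matrix.mulVec_sub, Matrix.mulVec_smul, Matrix.mulVec_smul, ← hu i, ← hu j, smul_smul,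
        smul_smul, mul_comm, sub_self]
    exact sub_eq_zero.mp (mulVec_injective_of_regPair Ψ hpair _ h1)
  have hglue : ∀ k : Fin t, ∃ w : R, ∀ i, u i k = δ Ψ i * w := by
    intro k
    refine hpair.glue (δ Ψ) (minorIdeal_eq_span Ψ) (fun i => u i k) fun i j => ?_
    have := congrFun (hcompat i j) k
    simpa using this
  choose w hw using hglue
  refine ⟨w, ?_⟩
  funext l
  have h2 : ∀ i, δ Ψ i * (Ψ.mulVec w l - v l) = 0 := by
    intro i
    have h3 : δ Ψ i • w = u i := by
      funext k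
      simp [hw k i]
    have h4 : δ Ψ i • Ψ.mulVec w = δ Ψ i • v := by
      rw [← Matrix.mulVec_smul, h3, ← hu i]
    have := congrFun h4 l
    simp only [Pi.smul_apply, smul_eq_mul] at this
    rw [mul_sub, this, sub_self]
  exact sub_eq_zero.mp (kill_of_minors Ψ hpair _ h2)

theorem hilbert_burch_exact {t : ℕ} (Ψ : Matrix (Fin (t + 1)) (Fin t) R)
    (hpair : HasRegPair (CAlgX.minorIdeal Ψ t)) (a : R) (ha : a ∈ nonZeroDivisors R) :
    LinearMap.ker Ψ.mulVecLin = ⊥ ∧
      LinearMap.ker (Fintype.linearCombination R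
          (fun i : Fin (t + 1) => a * ((-1 : R) ^ (i : ℕ) * (Ψ.submatrix i.succAbove id).det))) =
        LinearMap.range Ψ.mulVecLin ∧
      LinearMap.range (Fintype.linearCombination R
          (fun i : Fin (t + 1) => a * ((-1 : R) ^ (i : ℕ) * (Ψ.submatrix i.succAbove id).det))) =
        Ideal.span {a} * CAlgX.minorIdeal Ψ t := by
  refine ⟨?_, ?_, ?_⟩
  · rw [LinearMap.ker_eq_bot']
    intro w hw
    exact mulVec_injective_of_regPair Ψ hpair w hw
  · ext v
    rw [LinearMap.mem_ker, Fintype.linearCombination_apply, LinearMap.mem_range]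
    have hΔ : ∑ i, v i • (a * ((-1 : R) ^ (i : ℕ) * (Ψ.submatrix i.succAbove id).det)) =
        a * ∑ i, v i * ((-1) ^ (i : ℕ) * δ Ψ i) := by
      rw [Finset.mul_sum]
      refine Finset.sum_congr rfl fun i _ => ?_
      rw [δ, smul_eq_mul]
      ring
    rw [hΔ]
    constructor
    · intro h
      have h0 : ∑ i, v i * ((-1) ^ (i : ℕ) * δ Ψ i) = 0 :=
        (mem_nonZeroDivisors_iff.mp ha).1 _ h
      obtain ⟨w, hw⟩ := mem_range_of_regPair Ψ hpair v h0
      exact ⟨w, hw⟩
    · rintro ⟨w, rfl⟩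
      have h1 : ∑ i : Fin (t + 1), Ψ.mulVecLin w i * ((-1) ^ (i : ℕ) * δ Ψ i) =
          ∑ j, w j * ∑ i : Fin (t + 1),
            (-1 : R) ^ (i : ℕ) * (Ψ.submatrix i.succAbove id).det * Ψ i j := by
        simp only [Matrix.mulVecLin_apply, Matrix.mulVec, dotProduct, Finset.sum_mul,
          Finset.mul_sum, δ]
        rw [Finset.sum_comm]
        refine Finset.sum_congr rfl fun j _ => Finset.sum_congr rfl fun i _ => ?_
        ring
      rw [h1]
      simp only [Groth.Agent.S12906.result t Ψ, mul_zero, Finset.sum_const_zero]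
  · rw [Fintype.range_linearCombination, minorIdeal_eq_span]
    apply le_antisymm
    · rw [Submodule.span_le]
      rintro _ ⟨i, rfl⟩
      refine Ideal.mul_mem_mul (Ideal.mem_span_singleton_self a) ?_
      exact Ideal.mul_mem_left _ _ (Ideal.subset_span ⟨i, rfl⟩)
    · rw [Ideal.span_singleton_mul_le_iff]
      intro z hz
      have hle : Ideal.span (Set.range (δ Ψ)) ≤ Submodule.comap (LinearMap.mulLeft R a)
          (Submodule.span R (Set.range fun i : Fin (t + 1) =>
            a * ((-1 : R) ^ (i : ℕ) * (Ψ.submatrix i.succAbove id).det))) := by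
        rw [Ideal.span_le]
        rintro _ ⟨i, rfl⟩
        rw [SetLike.mem_coe, Submodule.mem_comap, LinearMap.mulLeft_apply]
        have hsq : ((-1 : R) ^ (i : ℕ)) * ((-1 : R) ^ (i : ℕ)) = 1 := by
          rw [← pow_add, ← two_mul, pow_mul]
          simp
        have h2 : a * δ Ψ i = (-1 : R) ^ (i : ℕ) •
            (a * ((-1 : R) ^ (i : ℕ) * (Ψ.submatrix i.succAbove id).det)) := by
          rw [δ, smul_eq_mul]
          linear_combination (- a * (Ψ.submatrix i.succAbove id).det) * hsq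
        rw [h2]
        exact Submodule.smul_mem _ _ (Submodule.subset_span ⟨i, rfl⟩)
      exact hle hz

end helpers

/-- Let R be a Noetherian ring, t a natural number, Ψ a (t+1) × t matrix over R such that the
I_t(Ψ)-depth of R is at least 2, where I_t(Ψ) is the ideal generated by the t × t minors of Ψ, and a
a non-zero-divisor of R. Put Δ_i = a · (-1)^i det Ψ_i, where Ψ_i is Ψ with row i deleted. Then 0 →
R^t → R^{t+1} → R, with first map Ψ and second map v ↦ Σ_i Δ_i v_i, is exact: Ψ is injective and the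
kernel of the second map equals the image of Ψ; moreover the image of the second map is the ideal a
· I_t(Ψ). (The published statement adds that this ideal has depth 2 exactly when a is a unit; that
clause is not stated here.) -/
theorem result {R : Type u} [CommRing R] [IsNoetherianRing R] (t : ℕ)
    (Ψ : Matrix (Fin (t + 1)) (Fin t) R) (hdepth : 2 ≤ LocCoh.idealDepth (CAlgX.minorIdeal Ψ t) R)
    (a : R) (ha : a ∈ nonZeroDivisors R) :
    LinearMap.ker Ψ.mulVecLin = ⊥ ∧
      LinearMap.ker (Fintype.linearCombination R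
          (fun i : Fin (t + 1) => a * ((-1 : R) ^ (i : ℕ) * (Ψ.submatrix i.succAbove id).det))) =
        LinearMap.range Ψ.mulVecLin ∧
      LinearMap.range (Fintype.linearCombination R
          (fun i : Fin (t + 1) => a * ((-1 : R) ^ (i : ℕ) * (Ψ.submatrix i.succAbove id).det))) =
        Ideal.span {a} * CAlgX.minorIdeal Ψ t := by
  exact hilbert_burch_exact Ψ (hasRegPair_of_depth _ hdepth) a ha

end Groth.Agent.S12908
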