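import Groth.Statements.S3866
import Mathlib.RingTheory.AdicCompletion.Noetherian
import Mathlib.RingTheory.AdicCompletion.Exactness
import Mathlib.RingTheory.AdicCompletion.Functoriality
-- import your own Groth.Agent.* helpers here

set_option autoImplicit false
universe u
open AdicRing

namespace Groth.Agent.S3866


lemma precomplete_pi (A : Type u) [CommRing A] (J : Ideal A) [IsPrecomplete J A] (n : ℕ) :
    IsPrecomplete J (Fin n → A) := by
  rw [← AdicCompletion.of_surjective_iff]
  intro y
  have hz : ∀ j, ∃ a : A, AdicCompletion.of J A a = AdicCompletion.piEquivOfFintype J (fun _ : Fin n => A) y j :=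
    fun j => AdicCompletion.of_surjective J A _
  choose a ha using hz
  refine ⟨a, ?_⟩
  apply (AdicCompletion.piEquivOfFintype J (fun _ : Fin n => A)).injective
  funext j
  rw [← ha j, AdicCompletion.piEquivOfFintype_apply]
  simp [AdicCompletion.pi, AdicCompletion.map_of]

lemma precomplete_of_surjective {A : Type u} [CommRing A] (J : Ideal A)
    {M N : Type u} [AddCommGroup M] [Module A M] [AddCommGroup N] [Module A N]
    [IsPrecomplete J M] (f : M →ₗ[A] N) (hf : Function.Surjective f) : IsPrecomplete J N := by
  rw [← AdicCompletion.of_surjective_iff]
  intro y
  obtain ⟨x', rfl⟩ := AdicCompletion.map_surjective J hf y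
  obtain ⟨x, rfl⟩ := AdicCompletion.of_surjective J M x'
  exact ⟨f x, (AdicCompletion.map_of J f x).symm⟩

/-- Let A be a Noetherian ring that is complete and separated for the J-adic topology, where J is an
ideal of A. Then every finite A-module M is itself complete and separated for the J-adic topology.
(This is the algebraic fact behind the statement that the global sections of the sheaf M^Δ on the
formal spectrum of A recover M.) -/
theorem result (A : Type u) [CommRing A] [IsNoetherianRing A]
    (J : Ideal A) [IsAdicComplete J A] (M : Type u) [AddCommGroup M] [Module A M] [Module.Finite A M] :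
    IsAdicComplete J M := by
  have hH : IsHausdorff J M := IsHausdorff.of_le_jacobson J M (IsAdicComplete.le_jacobson_bot J)
  obtain ⟨n, f, hf⟩ := Module.Finite.exists_fin' A M
  have h1 : IsPrecomplete J (Fin n → A) := precomplete_pi A J n
  have hP : IsPrecomplete J M := precomplete_of_surjective J f hf
  exact { toIsHausdorff := hH, toIsPrecomplete := hP }

end Groth.Agent.S3866
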