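import Groth.Statements.S9405
import Groth.Agent.Lib.Helper9.SemiLocalProd
import Groth.Agent.Lib.Helper25.CompleteDVR

set_option autoImplicit false
universe u
open CAlg

namespace Groth.Agent.S9405

/-- A module-finite algebra S over a complete Noetherian local ring R is a finite product of complete
Noetherian local rings; precisely, S has finitely many maximal ideals, S maps bijectively onto the
product of its localizations at them, and each of these localizations is Noetherian and complete for
its maximal ideal. -/
theorem result (R : Type u) [CommRing R]
    [IsLocalRing R] [IsNoetherianRing R] [IsAdicComplete (IsLocalRing.maximalIdeal R) R]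
    (S : Type u) [CommRing S] [Algebra R S] [Module.Finite R S] :
    Finite (MaximalSpectrum S) ∧
      Function.Bijective
        (algebraMap S ((m : MaximalSpectrum S) → Localization.AtPrime m.asIdeal)) ∧
      ∀ m : MaximalSpectrum S, IsNoetherianRing (Localization.AtPrime m.asIdeal) ∧
        IsAdicComplete (IsLocalRing.maximalIdeal (Localization.AtPrime m.asIdeal))
          (Localization.AtPrime m.asIdeal) := by
  classical
  have hH : HenselianLocalRing R :=
    Groth.Agent.Lib.Helper25.henselianLocalRing_of_isAdicComplete R
  obtain ⟨ι, hι, A, hA, hloc, ⟨e⟩⟩ :=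
    Groth.Agent.Lib.Helper4.exists_pi_isLocalRing_of_finite_of_henselian (R := R) S
  let φ : ∀ i, S →+* A i := fun i => (Pi.evalRingHom A i).comp e.toRingHom
  have hΦ : Function.Bijective (RingHom.pi φ) := by
    have : (RingHom.pi φ : S → ∀ i, A i) = e := by
      funext s i
      rfl
    rw [this]
    exact e.bijective
  have hNS : IsNoetherianRing S := IsNoetherianRing.of_finite R S
  refine ⟨Groth.Agent.Lib.Helper9.SemiLocalProd.finite_maximalSpectrum hΦ,
    Groth.Agent.Lib.Helper9.SemiLocalProd.algebraMap_pi_localization_bijective hΦ, fun m => ?_⟩
  have hN : IsNoetherianRing (Localization.AtPrime m.asIdeal) :=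
    IsLocalization.isNoetherianRing m.asIdeal.primeCompl _ hNS
  refine ⟨hN, ?_⟩
  have hsurj : Function.Surjective (algebraMap S (Localization.AtPrime m.asIdeal)) :=
    Groth.Agent.Lib.Helper9.SemiLocalProd.algebraMap_localization_surjective' hΦ m.asIdeal
  have hfin : Module.Finite R (Localization.AtPrime m.asIdeal) :=
    Module.Finite.of_surjective
      (IsScalarTower.toAlgHom R S (Localization.AtPrime m.asIdeal)).toLinearMap hsurj
  exact Groth.Agent.Lib.Helper9.SemiLocalProd.isAdicComplete_maximalIdeal_of_finite R _

end Groth.Agent.S9405
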