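import Groth.Statements.S10904
import Mathlib

set_option autoImplicit false
universe u
open Polynomial
open ProjDeg

namespace Groth.Agent.S10904

open DirectSum

theorem poly_diff (P : ℚ[X]) (d : ℚ) (hd : d ≠ 0) (hp : 1 ≤ P.natDegree) :
    (P - P.comp (X - C d)).natDegree + 1 = P.natDegree ∧
      (P - P.comp (X - C d)).leadingCoeff = d * (P.natDegree * P.leadingCoeff) := by
  set p := P.natDegree with hpdef
  have hT : P.comp (X - C d) = taylor (-d) P := by
    rw [taylor_apply, map_neg, sub_eq_add_neg]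
  have hcoeff : ∀ j, (P - P.comp (X - C d)).coeff j = P.coeff j - (hasseDeriv j P).eval (-d) := by
    intro j
    rw [coeff_sub, hT, taylor_coeff]
  have hge : ∀ j, p < j → (P - P.comp (X - C d)).coeff j = 0 := by
    intro j hj
    rw [hcoeff, hasseDeriv_eq_zero_of_lt_natDegree _ _ hj, eval_zero, sub_zero,
      coeff_eq_zero_of_natDegree_lt hj]
  have hp0 : (P - P.comp (X - C d)).coeff p = 0 := by
    rw [hcoeff]
    have h1 : (hasseDeriv p P).natDegree ≤ 0 := by
      have := natDegree_hasseDeriv_le P p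
      omega
    rw [eq_C_of_natDegree_le_zero h1, eval_C, hasseDeriv_coeff]
    simp [hpdef]
  have hp1 : (P - P.comp (X - C d)).coeff (p - 1) = d * (p * P.leadingCoeff) := by
    rw [hcoeff]
    have h1 : (hasseDeriv (p - 1) P).natDegree ≤ 1 := by
      have := natDegree_hasseDeriv_le P (p - 1)
      omega
    rw [eq_X_add_C_of_natDegree_le_one h1, eval_add, eval_mul, eval_C, eval_C, eval_X,
      hasseDeriv_coeff, hasseDeriv_coeff]
    have h2 : 1 + (p - 1) = p := by omega
    have h3 : 0 + (p - 1) = p - 1 := by omega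
    have h4 : p.choose (p - 1) = p := by
      obtain ⟨q, hq⟩ : ∃ q, p = q + 1 := ⟨p - 1, by omega⟩
      rw [hq, Nat.add_sub_cancel, Nat.choose_succ_self_right]
    rw [h2, h3, Nat.choose_self, h4]
    simp only [Nat.cast_one, one_mul, leadingCoeff, ← hpdef]
    ring
  have hne : (P - P.comp (X - C d)).coeff (p - 1) ≠ 0 := by
    rw [hp1]
    have : P.leadingCoeff ≠ 0 := by
      rw [Ne, leadingCoeff_eq_zero]
      rintro rfl
      simp [hpdef] at hp
    have hp' : (p : ℚ) ≠ 0 := by
      have : p ≠ 0 := by omega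
      exact_mod_cast this
    positivity
  have hle : (P - P.comp (X - C d)).natDegree ≤ p - 1 := by
    rw [natDegree_le_iff_coeff_eq_zero]
    intro N hN
    rcases Nat.lt_or_ge p N with h | h
    · exact hge N h
    · have : N = p := by omega
      rw [this]; exact hp0
  have hdeg : (P - P.comp (X - C d)).natDegree = p - 1 :=
    natDegree_eq_of_le_of_coeff_ne_zero hle hne
  refine ⟨by omega, ?_⟩
  rw [leadingCoeff, hdeg, hp1]


section
variable (k : Type u) [Field k] (n : ℕ)

instance finDimPiece (m : ℕ) : FiniteDimensional k ↥(CohB1.polyGrading n k m) :=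
  Module.Finite.iff_fg.mpr (MvPolynomial.homogeneousSubmodule_fg _ _ m)

variable {k n}

theorem dim_count (I : Ideal (MvPolynomial (Fin (n + 1)) k))
    (hIh : I.IsHomogeneous (CohB1.polyGrading n k)) [I.IsPrime]
    (f : MvPolynomial (Fin (n + 1)) k) (d : ℕ) (hf : f.IsHomogeneous d) (hfI : f ∉ I)
    (m : ℕ) (hm : d ≤ m) :
    Module.finrank k ↥(Submodule.restrictScalars k (I ⊔ Ideal.span {f}) ⊓ CohB1.polyGrading n k m) +
      Module.finrank k ↥(Submodule.restrictScalars k I ⊓ CohB1.polyGrading n k (m - d)) =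
    Module.finrank k ↥(Submodule.restrictScalars k I ⊓ CohB1.polyGrading n k m) +
      Module.finrank k ↥(CohB1.polyGrading n k (m - d)) := by
  classical
  set 𝒜 := CohB1.polyGrading n k with h𝒜
  have hfmem : f ∈ 𝒜 d := hf
  have hf0 : f ≠ 0 := fun h => hfI (h ▸ I.zero_mem)
  let μ : MvPolynomial (Fin (n + 1)) k →ₗ[k] MvPolynomial (Fin (n + 1)) k := LinearMap.mulLeft k f
  have hμ : ∀ g, μ g = f * g := fun g => rfl
  have hμinj : Function.Injective μ := fun a b hab => mul_left_cancel₀ hf0 hab
  set U := Submodule.restrictScalars k I ⊓ 𝒜 m with hU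
  set V := (𝒜 (m - d)).map μ with hV
  set W := (Submodule.restrictScalars k I ⊓ 𝒜 (m - d)).map μ with hW
  have hVle : V ≤ 𝒜 m := by
    rintro _ ⟨g, hg, rfl⟩
    have : d + (m - d) = m := by omega
    rw [hμ, ← this]
    exact SetLike.GradedMul.mul_mem hfmem hg
  have h1 : Submodule.restrictScalars k (I ⊔ Ideal.span {f}) ⊓ 𝒜 m = U ⊔ V := by
    apply le_antisymm
    · rintro x ⟨hx1, hx2⟩
      obtain ⟨a, ha, b, hb, rfl⟩ := Submodule.mem_sup.mp hx1
      obtain ⟨g, rfl⟩ := Ideal.mem_span_singleton'.mp hb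
      have hxm : ((decompose 𝒜 (a + g * f) m : 𝒜 m) : MvPolynomial (Fin (n + 1)) k) = a + g * f :=
        decompose_of_mem_same 𝒜 hx2
      rw [← hxm, decompose_add, DirectSum.add_apply, Submodule.coe_add]
      refine Submodule.add_mem_sup ⟨hIh m ha, Subtype.mem _⟩ ?_
      rw [mul_comm g f, coe_decompose_mul_of_left_mem_of_le 𝒜 hfmem hm]
      exact ⟨_, Subtype.mem _, rfl⟩
    · refine sup_le ?_ ?_
      · exact inf_le_inf_right _ (fun x hx => Submodule.mem_sup_left hx)
      · refine le_inf ?_ hVle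
        rintro _ ⟨g, -, rfl⟩
        refine Submodule.mem_sup_right ?_
        rw [hμ]
        exact Ideal.mul_mem_right _ _ (Ideal.subset_span rfl)
  have h2 : U ⊓ V = W := by
    apply le_antisymm
    · rintro _ ⟨⟨hx1, hx2⟩, ⟨g, hg, rfl⟩⟩
      refine ⟨g, ⟨?_, hg⟩, rfl⟩
      rw [hμ] at hx1
      exact (Ideal.IsPrime.mem_or_mem inferInstance hx1).resolve_left hfI
    · rintro _ ⟨g, ⟨hg1, hg2⟩, rfl⟩
      refine ⟨⟨?_, hVle ⟨g, hg2, rfl⟩⟩, ⟨g, hg2, rfl⟩⟩
      rw [hμ]
      exact Ideal.mul_mem_left _ _ hg1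
  have hVdim : Module.finrank k V = Module.finrank k ↥(𝒜 (m - d)) :=
    (LinearEquiv.finrank_eq (Submodule.equivMapOfInjective μ hμinj _)).symm
  have hWdim : Module.finrank k W =
      Module.finrank k ↥(Submodule.restrictScalars k I ⊓ 𝒜 (m - d)) :=
    (LinearEquiv.finrank_eq (Submodule.equivMapOfInjective μ hμinj _)).symm
  have : FiniteDimensional k ↥(𝒜 m) := finDimPiece k n m
  have : FiniteDimensional k ↥(𝒜 (m - d)) := finDimPiece k n (m - d)
  have : FiniteDimensional k U := Submodule.finiteDimensional_inf_right _ _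
  have : FiniteDimensional k V := inferInstance
  have := Submodule.finrank_sup_add_finrank_inf_eq U V
  rw [← h1, h2, hWdim, hVdim] at this
  exact this
end


/-- Let k be a field, R = k[X_0, …, X_n] graded by degree, I a homogeneous prime ideal of R, f a
homogeneous element of degree d ≥ 1 not in I, and I' = I + (f). Let P be the Hilbert polynomial of
R/I and Q that of R/I': rational polynomials whose value at every large integer m is the k-dimension
of the degree-m piece, i.e. dim R_m − dim (I ∩ R_m). Assume P has degree at least 1, i.e. the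
projective variety V(I) ⊆ P^n_k has dimension ≥ 1. Then Q has degree deg P − 1, and the degrees of
the projective schemes, (degree of the Hilbert polynomial)! times its leading coefficient, satisfy
deg V(I') = d · deg V(I). (The published statement has no dimension hypothesis; for V(I) a single
point the left side is 0 and the right side is d · deg V(I) ≠ 0, and the printed proof uses dim
V(I') = dim V(I) − 1.) -/
theorem result (k : Type u) [Field k] (n : ℕ)
    (I : Ideal (MvPolynomial (Fin (n + 1)) k)) (hIh : I.IsHomogeneous (CohB1.polyGrading n k)) [I.IsPrime]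
    (f : MvPolynomial (Fin (n + 1)) k) (d : ℕ) (hd : 0 < d) (hf : f.IsHomogeneous d) (hfI : f ∉ I)
    (P Q : ℚ[X])
    (hP : ∃ m₀ : ℕ, ∀ m : ℕ, m₀ ≤ m → P.eval (m : ℚ) =
      (Module.finrank k ↥(CohB1.polyGrading n k m) : ℚ) -
        Module.finrank k ↥(Submodule.restrictScalars k I ⊓ CohB1.polyGrading n k m))
    (hQ : ∃ m₀ : ℕ, ∀ m : ℕ, m₀ ≤ m → Q.eval (m : ℚ) =
      (Module.finrank k ↥(CohB1.polyGrading n k m) : ℚ) -
        Module.finrank k ↥(Submodule.restrictScalars k (I ⊔ Ideal.span {f}) ⊓ CohB1.polyGrading n k m))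
    (hdim : 1 ≤ P.natDegree) :
    Q.natDegree + 1 = P.natDegree ∧
      (Q.natDegree.factorial : ℚ) * Q.leadingCoeff =
        d * ((P.natDegree.factorial : ℚ) * P.leadingCoeff) := by
  obtain ⟨mP, hP⟩ := hP
  obtain ⟨mQ, hQ⟩ := hQ
  have hd0 : (d : ℚ) ≠ 0 := by exact_mod_cast hd.ne'
  have hQD : Q = P - P.comp (Polynomial.X - Polynomial.C (d : ℚ)) := by
    apply Polynomial.eq_of_infinite_eval_eq
    set M := max mQ (mP + d) with hM
    refine Set.infinite_of_injective_forall_mem (f := fun i : ℕ => ((i + M : ℕ) : ℚ)) ?_ ?_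
    · intro a b hab
      have hab' : ((a + M : ℕ) : ℚ) = ((b + M : ℕ) : ℚ) := hab
      have : a + M = b + M := by exact_mod_cast hab'
      omega
    · intro i
      have h1 : mQ ≤ i + M := by omega
      have h2 : mP ≤ i + M := by omega
      have h3 : mP ≤ i + M - d := by omega
      have h4 : d ≤ i + M := by omega
      have hc := dim_count I hIh f d hf hfI (i + M) h4
      have hc' := congrArg (fun x : ℕ => (x : ℚ)) hc
      simp only [Nat.cast_add] at hc'
      have hcast : ((i + M - d : ℕ) : ℚ) = ((i + M : ℕ) : ℚ) - d := by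
        rw [Nat.cast_sub h4]
      simp only [Set.mem_ofPred_eq, Polynomial.eval_sub, Polynomial.eval_comp, Polynomial.eval_X,
        Polynomial.eval_C]
      rw [hQ _ h1, hP _ h2, ← hcast, hP _ h3]
      linarith
  obtain ⟨h1, h2⟩ := poly_diff P (d : ℚ) hd0 hdim
  rw [← hQD] at h1 h2
  refine ⟨h1, ?_⟩
  rw [h2, ← h1, Nat.factorial_succ]
  push_cast
  ring

end Groth.Agent.S10904
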