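import Groth.Statements.S12212
import Mathlib
import Groth.Agent.Lib.Helper11.HSPrimes

set_option autoImplicit false
universe u
open IntMult

namespace Groth.Agent.S12212

section helpers
open IntMult

open Groth.Agent.Lib.Helper11.HS Filter Topology

section helpers12212
set_option linter.unusedSectionVars false

variable {A : Type u} [CommRing A] [IsNoetherianRing A]

/-- the length of the localization at `p` -/
noncomputable def lam (p : PrimeSpectrum A) (N : Type u) [AddCommGroup N] [Module A N] : ℕ :=
  (Module.length (Localization.AtPrime p.asIdeal) (LocalizedModule p.asIdeal.primeCompl N)).toNat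

/-- the summand at `p` -/
noncomputable def Tterm (d : ℕ) (e : PrimeSpectrum A → ℝ) (N : Type u) [AddCommGroup N] [Module A N]
    (p : PrimeSpectrum A) : ℝ :=
  ∑ᶠ (_ : ringKrullDim (A ⧸ p.asIdeal) = d), (lam p N : ℝ) * e p

theorem Tterm_pos (d : ℕ) (e : PrimeSpectrum A → ℝ) (N : Type u) [AddCommGroup N] [Module A N]
    (p : PrimeSpectrum A) (hp : ringKrullDim (A ⧸ p.asIdeal) = d) :
    Tterm d e N p = (lam p N : ℝ) * e p := by
  classical
  unfold Tterm
  rw [finsum_eq_if, if_pos hp]

theorem Tterm_neg (d : ℕ) (e : PrimeSpectrum A → ℝ) (N : Type u) [AddCommGroup N] [Module A N]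
    (p : PrimeSpectrum A) (hp : ¬ ringKrullDim (A ⧸ p.asIdeal) = d) :
    Tterm d e N p = 0 := by
  classical
  unfold Tterm
  rw [finsum_eq_if, if_neg hp]

theorem Tterm_of_lam_eq_zero (d : ℕ) (e : PrimeSpectrum A → ℝ) (N : Type u) [AddCommGroup N]
    [Module A N] (p : PrimeSpectrum A) (h : lam p N = 0) : Tterm d e N p = 0 := by
  by_cases hp : ringKrullDim (A ⧸ p.asIdeal) = d
  · rw [Tterm_pos d e N p hp, h]; simp
  · exact Tterm_neg d e N p hp

theorem lam_eq_zero_of_notMem_support (p : PrimeSpectrum A) (N : Type u) [AddCommGroup N]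
    [Module A N] (h : p ∉ Module.support A N) : lam p N = 0 := by
  unfold lam
  rw [Module.notMem_support_iff] at h
  rw [Module.length_eq_zero_iff.2 h]
  rfl

theorem hasFiniteSupport_Tterm (d : ℕ) (e : PrimeSpectrum A → ℝ) (N : Type u) [AddCommGroup N]
    [Module A N] [Module.Finite A N] (hd : Module.supportDim A N ≤ d) :
    Function.HasFiniteSupport (Tterm d e N) := by
  have hfin := Ideal.finite_minimalPrimes_of_isNoetherianRing A (Module.annihilator A N)
  have hfin2 : {p : PrimeSpectrum A | p.asIdeal ∈ (Module.annihilator A N).minimalPrimes}.Finite :=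
    hfin.preimage (fun p _ q _ h => PrimeSpectrum.ext h)
  refine hfin2.subset ?_
  intro p hp
  rw [Function.mem_support] at hp
  have hdim : ringKrullDim (A ⧸ p.asIdeal) = d := by
    by_contra h
    exact hp (Tterm_neg d e N p h)
  have hsupp : p ∈ Module.support A N := by
    by_contra h
    exact hp (Tterm_of_lam_eq_zero d e N p (lam_eq_zero_of_notMem_support p N h))
  have hmin := eq_of_mem_support_of_le N d hd p hdim
  show p.asIdeal ∈ (Module.annihilator A N).minimalPrimes
  refine ⟨⟨p.isPrime, Module.mem_support_iff_of_finite.1 hsupp⟩, ?_⟩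
  rintro q ⟨hq1, hq2⟩ hqp
  have := hmin ⟨q, hq1⟩ (Module.mem_support_iff_of_finite.2 hq2) hqp
  rw [← this]

variable [IsLocalRing A] (I : Ideal A)
  (hI : I ≤ IsLocalRing.maximalIdeal A ∧ ∃ n : ℕ, IsLocalRing.maximalIdeal A ^ n ≤ I)
  (d : ℕ) (e : PrimeSpectrum A → ℝ)

/-- the normalized Samuel function -/
noncomputable def Lfun (N : Type u) [AddCommGroup N] [Module A N] (t : ℕ) : ℝ :=
  (d.factorial : ℝ) * ((Module.length A (N ⧸ (I ^ t • (⊤ : Submodule A N)))).toNat : ℝ) / (t : ℝ) ^ d

/-- the statement proved by induction on prime filtrations -/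
def Mot (N : Type u) [AddCommGroup N] [Module A N] : Prop :=
  Module.supportDim A N ≤ d → Tendsto (Lfun I d N) atTop (𝓝 (∑ᶠ p, Tterm d e N p))

theorem Mot_subsingleton (N : Type u) [AddCommGroup N] [Module A N] [Subsingleton N] :
    Mot I d e N := by
  intro _
  have h1 : ∀ p, Tterm d e N p = 0 := fun p => by
    apply Tterm_of_lam_eq_zero
    apply lam_eq_zero_of_notMem_support
    rw [Module.support_eq_empty]
    exact Set.notMem_empty p
  have h2 : ∀ t, Lfun I d N t = 0 := fun t => by
    unfold Lfun
    rw [Module.length_eq_zero_iff.2 inferInstance]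
    simp
  simp only [h1, finsum_zero]
  exact (tendsto_const_nhds (x := (0 : ℝ))).congr (fun t => (h2 t).symm)

theorem lam_add (p : PrimeSpectrum A) {N₁ N₂ N₃ : Type u}
    [AddCommGroup N₁] [Module A N₁] [Module.Finite A N₁]
    [AddCommGroup N₂] [Module A N₂] [Module.Finite A N₂]
    [AddCommGroup N₃] [Module A N₃] [Module.Finite A N₃]
    (f : N₁ →ₗ[A] N₂) (g : N₂ →ₗ[A] N₃) (hf : Function.Injective f) (hg : Function.Surjective g)
    (hfg : Function.Exact f g) (h2 : Module.supportDim A N₂ ≤ d)
    (hp : ringKrullDim (A ⧸ p.asIdeal) = d) :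
    lam p N₂ = lam p N₁ + lam p N₃ := by
  have h1 : Module.supportDim A N₁ ≤ d := (Module.supportDim_le_of_injective f hf).trans h2
  have h3 : Module.supportDim A N₃ ≤ d := (Module.supportDim_le_of_surjective g hg).trans h2
  have e1 := Module.length_ne_top_iff.2
    (isFiniteLength_localizedModule N₁ p (eq_of_mem_support_of_le N₁ d h1 p hp))
  have e3 := Module.length_ne_top_iff.2
    (isFiniteLength_localizedModule N₃ p (eq_of_mem_support_of_le N₃ d h3 p hp))
  unfold lam
  rw [length_localizedModule_add p f g hf hg hfg, ENat.toNat_add e1 e3]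

include hI in
theorem Mot_exact {N₁ N₂ N₃ : Type u}
    [AddCommGroup N₁] [Module A N₁] [Module.Finite A N₁]
    [AddCommGroup N₂] [Module A N₂] [Module.Finite A N₂]
    [AddCommGroup N₃] [Module A N₃] [Module.Finite A N₃]
    (f : N₁ →ₗ[A] N₂) (g : N₂ →ₗ[A] N₃) (hf : Function.Injective f) (hg : Function.Surjective g)
    (hfg : Function.Exact f g) (m1 : Mot I d e N₁) (m3 : Mot I d e N₃) : Mot I d e N₂ := by
  intro h2
  have h1 : Module.supportDim A N₁ ≤ d := (Module.supportDim_le_of_injective f hf).trans h2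
  have h3 : Module.supportDim A N₃ ≤ d := (Module.supportDim_le_of_surjective g hg).trans h2
  have hsum : ∑ᶠ p, Tterm d e N₂ p = ∑ᶠ p, Tterm d e N₁ p + ∑ᶠ p, Tterm d e N₃ p := by
    rw [← finsum_add_distrib (hasFiniteSupport_Tterm d e N₁ h1) (hasFiniteSupport_Tterm d e N₃ h3)]
    refine finsum_congr fun p => ?_
    by_cases hp : ringKrullDim (A ⧸ p.asIdeal) = d
    · rw [Tterm_pos d e _ p hp, Tterm_pos d e _ p hp, Tterm_pos d e _ p hp,
        lam_add d p f g hf hg hfg h2 hp]
      push_cast
      ring
    · rw [Tterm_neg d e _ p hp, Tterm_neg d e _ p hp, Tterm_neg d e _ p hp, add_zero]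
  rw [hsum]
  have hFL : FL I N₂ := FL_of_pow_le I hI.2 N₂
  have hfg' : LinearMap.range f = LinearMap.ker g := (LinearMap.exact_iff.1 hfg).symm
  obtain ⟨i1, c, i2⟩ := samuel_exact_ineq I f g hf hg hfg' hFL
  refine tendsto_add_of_sandwich
    (fun t => ((Module.length A (N₁ ⧸ (I ^ t • (⊤ : Submodule A N₁)))).toNat : ℝ))
    (fun t => ((Module.length A (N₃ ⧸ (I ^ t • (⊤ : Submodule A N₃)))).toNat : ℝ))
    (fun t => ((Module.length A (N₂ ⧸ (I ^ t • (⊤ : Submodule A N₂)))).toNat : ℝ))
    (d.factorial : ℝ) (by positivity) c d _ _ ?_ ?_ (m1 h1) (m3 h3)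
  · intro t
    have := i1 t
    unfold samuel at this
    exact_mod_cast this
  · intro t
    have := i2 t
    unfold samuel at this
    exact_mod_cast this

omit [IsLocalRing A] in
theorem lam_congr (p : PrimeSpectrum A) {N N' : Type u} [AddCommGroup N] [Module A N]
    [AddCommGroup N'] [Module A N'] (eq : N ≃ₗ[A] N') : lam p N = lam p N' := by
  unfold lam
  rw [length_localizedModule_congr p eq]

omit [IsLocalRing A] in
theorem Tterm_congr {N N' : Type u} [AddCommGroup N] [Module A N]
    [AddCommGroup N'] [Module A N'] (eq : N ≃ₗ[A] N') (p : PrimeSpectrum A) :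
    Tterm d e N p = Tterm d e N' p := by
  by_cases hp : ringKrullDim (A ⧸ p.asIdeal) = d
  · rw [Tterm_pos d e _ p hp, Tterm_pos d e _ p hp, lam_congr p eq]
  · rw [Tterm_neg d e _ p hp, Tterm_neg d e _ p hp]

omit [IsNoetherianRing A] [IsLocalRing A] in
theorem Lfun_congr {N N' : Type u} [AddCommGroup N] [Module A N]
    [AddCommGroup N'] [Module A N'] (eq : N ≃ₗ[A] N') (t : ℕ) : Lfun I d N t = Lfun I d N' t := by
  unfold Lfun
  have := length_Sq_congr I eq t
  unfold Sq at this
  rw [this]

include hI in
theorem Mot_quotient (he : ∀ p : PrimeSpectrum A, ringKrullDim (A ⧸ p.asIdeal) = d →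
      Tendsto (Lfun I d (A ⧸ p.asIdeal)) atTop (𝓝 (e p)))
    (N : Type u) [AddCommGroup N] [Module A N] [Module.Finite A N]
    (q : PrimeSpectrum A) (eq : N ≃ₗ[A] A ⧸ q.asIdeal) : Mot I d e N := by
  intro hN
  have hdimN : Module.supportDim A N = ringKrullDim (A ⧸ q.asIdeal) := by
    rw [Module.supportDim_eq_of_equiv eq, Module.supportDim_quotient_eq_ringKrullDim]
  simp only [Tterm_congr d e eq]
  refine Tendsto.congr (fun t => (Lfun_congr I d eq t).symm) ?_
  by_cases hq : ringKrullDim (A ⧸ q.asIdeal) = d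
  · -- the top-dimensional case
    have hsum : ∑ᶠ p, Tterm d e (A ⧸ q.asIdeal) p = e q := by
      rw [finsum_eq_single _ q]
      · rw [Tterm_pos d e _ q hq]
        unfold lam
        rw [length_localizedModule_quot_self q]
        simp
      · intro p hpq
        by_cases hp : ringKrullDim (A ⧸ p.asIdeal) = d
        · apply Tterm_of_lam_eq_zero
          have hnle : ¬ q ≤ p := by
            intro hle
            have hlt : q < p := lt_of_le_of_ne hle (Ne.symm hpq)
            have h1 := ringKrullDim_quotient_succ_le_of_lt q p hlt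
            rw [hp, hq] at h1
            have h4 : ((d + 1 : ℕ) : WithBot ℕ∞) ≤ (d : ℕ) := by exact_mod_cast h1
            have h5 : d + 1 ≤ d := by exact_mod_cast h4
            omega
          unfold lam
          rw [length_localizedModule_quot_of_not_le q p hnle]
          rfl
        · exact Tterm_neg d e _ p hp
    rw [hsum]
    exact he q hq
  · -- the low-dimensional case
    have hlt : Module.supportDim A (A ⧸ q.asIdeal) < d := by
      rw [Module.supportDim_quotient_eq_ringKrullDim]
      rw [hdimN] at hN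
      exact lt_of_le_of_ne hN hq
    have hsum : ∑ᶠ p, Tterm d e (A ⧸ q.asIdeal) p = 0 := by
      rw [finsum_eq_zero_of_forall_eq_zero]
      intro p
      by_cases hp : ringKrullDim (A ⧸ p.asIdeal) = d
      · apply Tterm_of_lam_eq_zero
        have hnle : ¬ q ≤ p := by
          intro hle
          have h1 : ringKrullDim (A ⧸ p.asIdeal) ≤ ringKrullDim (A ⧸ q.asIdeal) :=
            ringKrullDim_le_of_surjective (Ideal.Quotient.factor hle)
              (Ideal.Quotient.factor_surjective hle)
          rw [hp] at h1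
          rw [Module.supportDim_quotient_eq_ringKrullDim] at hlt
          exact absurd (lt_of_le_of_lt h1 hlt) (lt_irrefl _)
        unfold lam
        rw [length_localizedModule_quot_of_not_le q p hnle]
        rfl
      · exact Tterm_neg d e _ p hp
    rw [hsum]
    exact tendsto_zero_of_supportDim_lt I hI (A ⧸ q.asIdeal) d hlt

include hI in
theorem Mot_all (he : ∀ p : PrimeSpectrum A, ringKrullDim (A ⧸ p.asIdeal) = d →
      Tendsto (Lfun I d (A ⧸ p.asIdeal)) atTop (𝓝 (e p)))
    (M : Type u) [AddCommGroup M] [Module A M] [Module.Finite A M] : Mot I d e M := by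
  induction ‹Module.Finite A M› using
    IsNoetherianRing.induction_on_isQuotientEquivQuotientPrime A with
  | subsingleton N => exact Mot_subsingleton I d e N
  | quotient N p f => exact Mot_quotient I hI d e he N p f
  | exact N₁ N₂ N₃ f g hf hg hfg h₁ h₃ => exact Mot_exact I hI d e f g hf hg hfg h₁ h₃

end helpers12212

end helpers

/-- Suppose A is a local Noetherian ring with an ideal of definition I, take M to be a finite A-module,
and fix d with dim Supp(M) ≤ d. Then e_I(M, d) equals Σ_p length_{A_p}(M_p) · e_I(A/p, d), where p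
ranges over the primes satisfying dim(A/p) = d (all but finitely many summands vanish); here e_I(N,
d) denotes the limit of d! · length_A(N/I^t N)/t^d, and the formal version says: assuming these
limits e_p exist for the A-modules A/p, the limit attached to M is the sum shown. -/
theorem result (A : Type u) [CommRing A] [IsNoetherianRing A] [IsLocalRing A]
    (I : Ideal A) (hI : I ≤ IsLocalRing.maximalIdeal A ∧ ∃ n : ℕ, IsLocalRing.maximalIdeal A ^ n ≤ I)
    (M : Type u) [AddCommGroup M] [Module A M] [Module.Finite A M]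
    (d : ℕ) (hd : Module.supportDim A M ≤ d) (e : PrimeSpectrum A → ℝ)
    (he : ∀ p : PrimeSpectrum A, ringKrullDim (A ⧸ p.asIdeal) = d →
      Filter.Tendsto (fun t : ℕ => (d.factorial : ℝ) *
        ((Module.length A ((A ⧸ p.asIdeal) ⧸ (I ^ t • (⊤ : Submodule A (A ⧸ p.asIdeal))))).toNat : ℝ) / (t : ℝ) ^ d)
        Filter.atTop (nhds (e p))) :
    Filter.Tendsto (fun t : ℕ => (d.factorial : ℝ) * ((Module.length A (M ⧸ (I ^ t • (⊤ : Submodule A M)))).toNat : ℝ) / (t : ℝ) ^ d) Filter.atTop
      (nhds (∑ᶠ (p : PrimeSpectrum A) (_ : ringKrullDim (A ⧸ p.asIdeal) = d),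
        ((Module.length (Localization.AtPrime p.asIdeal) (LocalizedModule p.asIdeal.primeCompl M)).toNat : ℝ) * e p)) := by
  exact Mot_all I hI d e he M hd

end Groth.Agent.S12212
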