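import Groth.Statements.S0491
import Groth.Agent.S0485
import Groth.Agent.Lib.Helper22.ExtCompare
import Groth.Agent.Lib.Helper17.ModSiteExact
import Groth.Agent.Lib.Helper5.ModAcyclic
import Groth.Agent.Lib.Helper5.FreeSheafify

set_option autoImplicit false
universe u
open CategoryTheory
open CohSite

namespace Groth.Agent.S0491

open CategoryTheory.Limits Opposite Abelian
open Groth.Agent.Lib.Helper22.ExtCompare

section
variable {C : Type u} [SmallCategory C]

/-- constant presheaf `ℤ` -/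
noncomputable abbrev Zp : Cᵒᵖ ⥤ AddCommGrpCat.{u} :=
  (Functor.const _).obj (AddCommGrpCat.of (ULift.{u} ℤ))

/-- evaluation at `1` -/
noncomputable abbrev ev1 (G : AddCommGrpCat.{u}) :
    (AddCommGrpCat.of (ULift.{u} ℤ) ⟶ G) ≃+ G :=
  AddCommGrpCat.uliftZMultiplesAddEquiv G

lemma ev1_comp {G H : AddCommGrpCat.{u}} (φ : AddCommGrpCat.of (ULift.{u} ℤ) ⟶ G) (g : G ⟶ H) :
    ev1 H (φ ≫ g) = g (ev1 G φ) := rfl

/-- compatible family of sections ↦ map from the constant presheaf -/
noncomputable def secHom (P : Cᵒᵖ ⥤ AddCommGrpCat.{u}) (s : ∀ X, P.obj X)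
    (hs : ∀ ⦃X Y : Cᵒᵖ⦄ (f : X ⟶ Y), P.map f (s X) = s Y) : Zp (C := C) ⟶ P where
  app X := (ev1 (P.obj X)).symm (s X)
  naturality X Y f := by
    apply (ev1 (P.obj Y)).injective
    change ev1 (P.obj Y) (𝟙 _ ≫ (ev1 (P.obj Y)).symm (s Y)) =
      ev1 (P.obj Y) ((ev1 (P.obj X)).symm (s X) ≫ P.map f)
    rw [Category.id_comp, ev1_comp, AddEquiv.apply_symm_apply, AddEquiv.apply_symm_apply, hs f]

lemma ev1_secHom_app (P : Cᵒᵖ ⥤ AddCommGrpCat.{u}) (s : ∀ X, P.obj X)
    (hs : ∀ ⦃X Y : Cᵒᵖ⦄ (f : X ⟶ Y), P.map f (s X) = s Y) (X : Cᵒᵖ) :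
    ev1 (P.obj X) ((secHom P s hs).app X) = s X :=
  AddEquiv.apply_symm_apply _ _

lemma secHom_surj (P : Cᵒᵖ ⥤ AddCommGrpCat.{u}) (τ : Zp (C := C) ⟶ P) :
    ∃ (s : ∀ X, P.obj X) (hs : ∀ ⦃X Y : Cᵒᵖ⦄ (f : X ⟶ Y), P.map f (s X) = s Y),
      secHom P s hs = τ := by
  refine ⟨fun X => ev1 (P.obj X) (τ.app X), fun X Y f => ?_, ?_⟩
  · rw [← ev1_comp, ← τ.naturality f]
    change ev1 (P.obj Y) (𝟙 _ ≫ τ.app Y) = _
    rw [Category.id_comp]
  · ext X : 2
    apply (ev1 (P.obj X)).injective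
    rw [ev1_secHom_app]

variable (J : GrothendieckTopology C) (R : Sheaf J RingCat.{u})

/-- the forgetful functor to abelian sheaves -/
noncomputable abbrev Φ : SheafOfModules.{u} R ⥤ Sheaf J AddCommGrpCat.{u} :=
  SheafOfModules.toSheaf.{u} R

/-- the constant sheaf `ℤ` -/
noncomputable abbrev Zc : Sheaf J AddCommGrpCat.{u} :=
  (presheafToSheaf J AddCommGrpCat.{u}).obj (Zp (C := C))

/-- sections of a sheaf of modules ↦ maps from the constant presheaf -/
noncomputable def T (G : SheafOfModules.{u} R) (s : G.sections) :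
    Zp (C := C) ⟶ ((Φ J R).obj G).obj :=
  secHom ((Φ J R).obj G).obj (fun X => s.1 X) (fun _ _ f => s.2 f)

lemma T_bijective (G : SheafOfModules.{u} R) : Function.Bijective (T J R G) := by
  constructor
  · intro s t h
    apply Subtype.ext
    funext X
    have h1 := ev1_secHom_app ((Φ J R).obj G).obj (fun X => s.1 X) (fun _ _ f => s.2 f) X
    have h2 := ev1_secHom_app ((Φ J R).obj G).obj (fun X => t.1 X) (fun _ _ f => t.2 f) X
    have h3 : (T J R G s).app X = (T J R G t).app X := by rw [h]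
    exact h1.symm.trans ((congrArg (ev1 _) h3).trans h2)
  · intro τ
    obtain ⟨s, hs, h⟩ := secHom_surj ((Φ J R).obj G).obj τ
    exact ⟨⟨s, fun f => hs f⟩, h⟩

lemma T_nat {M N : SheafOfModules.{u} R} (p : M ⟶ N) (s : M.sections) :
    T J R M s ≫ ((Φ J R).map p).hom = T J R N (SheafOfModules.sectionsMap p s) := by
  ext X : 2
  apply (ev1 (((Φ J R).obj N).obj.obj X)).injective
  rw [NatTrans.comp_app, ev1_comp]
  erw [ev1_secHom_app, ev1_secHom_app]
  rfl

/-- the unit section `ℤ → O` -/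
noncomputable def ι : Zc J ⟶ (Φ J R).obj (SheafOfModules.unit R) :=
  ((sheafificationAdjunction J AddCommGrpCat.{u}).homEquiv _ _).symm
    (T J R _ ((SheafOfModules.unit R).unitHomEquiv (𝟙 _)))

lemma key {G : SheafOfModules.{u} R} (f : SheafOfModules.unit R ⟶ G) :
    ι J R ≫ (Φ J R).map f =
      ((sheafificationAdjunction J AddCommGrpCat.{u}).homEquiv _ _).symm
        (T J R G (G.unitHomEquiv f)) := by
  apply ((sheafificationAdjunction J AddCommGrpCat.{u}).homEquiv _ _).injective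
  rw [Equiv.apply_symm_apply, Adjunction.homEquiv_naturality_right]
  unfold ι
  rw [Equiv.apply_symm_apply]
  refine (T_nat J R f _).trans ?_
  congr 1

lemma bij (G : SheafOfModules.{u} R) :
    Function.Bijective (fun f : SheafOfModules.unit R ⟶ G => ι J R ≫ (Φ J R).map f) := by
  have : (fun f : SheafOfModules.unit R ⟶ G => ι J R ≫ (Φ J R).map f) =
      ((sheafificationAdjunction J AddCommGrpCat.{u}).homEquiv _ _).symm ∘ (T J R G) ∘
        G.unitHomEquiv := by
    funext f
    exact key J R f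
  rw [this]
  exact (Equiv.bijective _).comp ((T_bijective J R G).comp (Equiv.bijective _))

/-- `Hom(O, G) ≃+ Hom(ℤ, G)` -/
noncomputable def homE (G : SheafOfModules.{u} R) :
    (SheafOfModules.unit R ⟶ G) ≃+ (Zc J ⟶ (Φ J R).obj G) :=
  AddEquiv.ofBijective
    (AddMonoidHom.mk' (fun f : SheafOfModules.unit R ⟶ G => ι J R ≫ (Φ J R).map f)
      (fun f g => by simp [Functor.map_add]))
    (bij J R G)

lemma homE_apply (G : SheafOfModules.{u} R) (f : SheafOfModules.unit R ⟶ G) :
    homE J R G f = ι J R ≫ (Φ J R).map f := rfl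

variable [HasExt.{u} (SheafOfModules.{u} R)]

/-- the degree zero comparison -/
noncomputable def deg0 : Deg0Iso (Φ J R) (SheafOfModules.unit R) (Zc J) where
  e G := Ext.addEquiv₀.trans ((homE J R G).trans Ext.addEquiv₀.symm)
  nat {G G'} g x := by
    obtain ⟨f, rfl⟩ := (Ext.mk₀_bijective _ _).2 x
    rw [Ext.mk₀_comp_mk₀]
    have h0 : ∀ {A B : SheafOfModules.{u} R} (h : A ⟶ B), Ext.addEquiv₀ (Ext.mk₀ h) = h :=
      fun h => Ext.addEquiv₀.apply_symm_apply h
    have h0' : ∀ {A B : Sheaf J AddCommGrpCat.{u}} (h : A ⟶ B), Ext.addEquiv₀.symm h = Ext.mk₀ h :=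
      fun h => rfl
    simp only [AddEquiv.trans_apply, h0, h0', homE_apply]
    rw [Ext.mk₀_comp_mk₀, Functor.map_comp, Category.assoc]

/-- the terminal sheaf of sets -/
noncomputable def Kt : Sheaf J (Type u) :=
  ⟨(Functor.const _).obj PUnit.{u+1}, Presheaf.isSheaf_of_isTerminal J Types.isTerminalPUnit⟩

/-- `ℤ ≅ ℤ[pt]` -/
noncomputable def e₀ : AddCommGrpCat.of (ULift.{u} ℤ) ≅ AddCommGrpCat.free.{u}.obj PUnit.{u+1} :=
  AddEquiv.toAddCommGrpIso (X := AddCommGrpCat.of (ULift.{u} ℤ))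
    (Y := AddCommGrpCat.free.{u}.obj PUnit.{u+1})
    (AddEquiv.ulift.trans (FreeAbelianGroup.uniqueEquiv PUnit.{u+1}).symm)

/-- the constant sheaf `ℤ` is the free abelian sheaf on the terminal sheaf -/
noncomputable def ZcIso : (presheafToSheaf J AddCommGrpCat.{u}).obj ((Kt J).obj ⋙ AddCommGrpCat.free.{u}) ≅
    Zc J :=
  (presheafToSheaf J AddCommGrpCat.{u}).mapIso
    (NatIso.ofComponents (fun _ => e₀.symm) (fun f => by
      change AddCommGrpCat.free.{u}.map (𝟙 PUnit.{u+1}) ≫ e₀.inv = e₀.inv ≫ 𝟙 _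
      rw [CategoryTheory.Functor.map_id, Category.id_comp, Category.comp_id]))

lemma vanish (I : SheafOfModules.{u} R) [Injective I] (n : ℕ)
    (x : Ext (Zc J) ((Φ J R).obj I) (n + 1)) : x = 0 := by
  have h := Groth.Agent.Lib.Helper5.ModAcyclic.isTotallyAcyclic_toSheaf R I (Kt J) n
  have := Groth.Agent.Lib.Helper5.FreeSheafify.subsingleton_ext_of_iso (ZcIso J) _ _ h
  exact Subsingleton.elim _ _

end

/-- For a sheaf of rings O on a small site and an O-module M, the Ext groups Ext^n_O(O, M) in the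
category of O-modules (= H^n(C, M) computed with O-module injective resolutions) are isomorphic to
H^n of the underlying abelian sheaf of M (existence of a group isomorphism). The Ext instance on
O-modules is taken as a hypothesis. -/
theorem result {C : Type u} [SmallCategory C] (J : GrothendieckTopology C)
    (R : Sheaf J RingCat.{u}) [HasExt.{u} (SheafOfModules.{u} R)] (M : SheafOfModules.{u} R) (n : ℕ) :
    Nonempty (Abelian.Ext (SheafOfModules.unit R) M n ≃+ Sheaf.H.{u} ((SheafOfModules.toSheaf R).obj M) n) := by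
  haveI : EnoughInjectives (SheafOfModules.{u} R) := Groth.Agent.S0485.result J R
  haveI := Groth.Agent.Lib.Helper17.ModSiteExact.toSheaf_preservesFiniteColimits R
  exact nonempty_ext_addEquiv (deg0 J R) (fun _ => True)
    (fun F _ => (injSC_shortExact F).map_of_exact (Φ J R))
    (fun _ _ => trivial)
    (fun F _ n x => vanish J R (injSC F).X₂ n x) n M trivial

end Groth.Agent.S0491
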