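import Groth.Statements.S0665
import Groth.Agent.Lib.Helper22.CechU.Transfer
import Groth.Agent.Lib.Helper22.Cech.Injective
import Groth.Agent.Lib.Helper22.Cech.OverInj

set_option autoImplicit false
open CategoryTheory CategoryTheory.Limits Opposite
universe w v u
open EtCore

namespace Groth.Agent.S0665

/-- Let C be a category whose Hom-sets are small relative to the coefficient universe, U an object, (U_i
-> U) a family of morphisms with target U such that the relevant fibre products exist (finite
products in the over category), and I an injective object of the category of abelian presheaves on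
C. Then the Cech cohomology of I with respect to the family vanishes in every positive degree. -/
theorem result {C : Type u} [Category.{v} C] [LocallySmall.{w} C] {U : C} [HasFiniteProducts (Over U)]
    {ι : Type w} (Uf : ι → Over U) (I : Cᵒᵖ ⥤ AddCommGrpCat.{w}) [Injective I] (p : ℕ) :
    IsZero (EtCech.cechH Uf I (p + 1)) := by
  classical
  let e := ShrinkHoms.equivalence.{w} C
  let U' : ShrinkHoms C := e.functor.obj U
  let E : Over U ≌ Over U' := Over.postEquiv U e
  have : HasFiniteProducts (Over U') :=
    ⟨fun n => Adjunction.hasLimitsOfShape_of_equivalence E.inverse⟩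
  let I' : (ShrinkHoms C)ᵒᵖ ⥤ AddCommGrpCat.{w} := e.inverse.op ⋙ I
  have : Injective I' := (Equivalence.map_injective_iff (e.op.congrLeft (E := AddCommGrpCat.{w})) I).2 inferInstance
  let Q' : (Over U')ᵒᵖ ⥤ AddCommGrpCat.{w} :=
    Groth.Agent.Lib.Helper22.Cech.OverInj.res (U := U') I'
  have h := Groth.Agent.Lib.Helper22.Cech.isZero_homology_succ_of_injective
    (Groth.Agent.Lib.Helper22.CechU.GU E.functor Uf) Q' p
  let α : E.functor.op ⋙ Q' ≅ (Over.forget U).op ⋙ I :=
    NatIso.ofComponents (fun X => I.mapIso (e.unitIso.app X.unop.left).op) (by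
      intro X Y f
      change I.map (e.inverse.map (e.functor.map f.unop.left)).op ≫
          I.map (e.unitIso.hom.app Y.unop.left).op =
        I.map (e.unitIso.hom.app X.unop.left).op ≫ I.map f.unop.left.op
      rw [← I.map_comp, ← I.map_comp, ← op_comp, ← op_comp]
      congr 2
      exact (e.unitIso.hom.naturality f.unop.left).symm)
  let β : Groth.Agent.Lib.Helper22.CechU.CK (Groth.Agent.Lib.Helper22.CechU.GU E.functor Uf) Q' ≅
      EtCech.cechComplex Uf I :=
    Groth.Agent.Lib.Helper22.CechU.transferIso E.functor Uf Q' ≪≫
      (cechComplexFunctor Uf).mapIso α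
  exact h.of_iso ((HomologicalComplex.homologyFunctor _ _ (p + 1)).mapIso β).symm

end Groth.Agent.S0665
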