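import Groth.Statements.S0489
import Mathlib

set_option autoImplicit false
universe v u
open CategoryTheory
open CohDer

namespace Groth.Agent.S0489

section
open CategoryTheory.Limits
variable {A : Type u} [Category.{v} A] [Abelian A]

theorem isKInjective_kernel_of_degreewise_splitEpi {X Y : CochainComplex A ℤ} (p : X ⟶ Y)
    (hp : ∀ n, IsSplitEpi (p.f n)) (hX : X.IsKInjective) (hY : Y.IsKInjective) :
    (kernel p).IsKInjective := by
  let S : ShortComplex (CochainComplex A ℤ) := ShortComplex.mk (kernel.ι p) p (kernel.condition p)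
  have hS : S.Exact := ShortComplex.exact_kernel p
  have hmono : ∀ n, Mono ((S.map (HomologicalComplex.eval A (ComplexShape.up ℤ) n)).f) := by
    intro n
    change Mono ((HomologicalComplex.eval A (ComplexShape.up ℤ) n).map (kernel.ι p))
    infer_instance
  let σ : ∀ n, (S.map (HomologicalComplex.eval A (ComplexShape.up ℤ) n)).Splitting := fun n =>
    ShortComplex.Splitting.ofExactOfSection _ (hS.map (HomologicalComplex.eval A (ComplexShape.up ℤ) n))
      (@section_ _ _ _ _ (p.f n) (hp n)) (@IsSplitEpi.id _ _ _ _ (p.f n) (hp n)) (hmono n)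
  have hT : CochainComplex.trianglehOfDegreewiseSplit S σ ∈
      Pretriangulated.distinguishedTriangles :=
    (HomotopyCategory.distinguished_iff_iso_trianglehOfDegreewiseSplit _).2 ⟨S, σ, ⟨Iso.refl _⟩⟩
  rw [CochainComplex.isKInjective_iff_rightOrthogonal] at hX hY ⊢
  exact ObjectProperty.ext_of_isTriangulatedClosed₁ _ _ hT hX hY

theorem eq_nullHomotopicMap_of_homotopy_zero {K X : CochainComplex A ℤ} {g : K ⟶ X}
    (h : Homotopy g 0) : g = Homotopy.nullHomotopicMap h.hom := by
  ext i
  have := h.comm i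
  rw [HomologicalComplex.zero_f, add_zero] at this
  exact this

/-- lifting a null-homotopy along a degreewise split epimorphism with K-injective kernel -/
theorem exists_lift_homotopy {X Y K : CochainComplex A ℤ} (p : X ⟶ Y)
    (hp : ∀ n, IsSplitEpi (p.f n)) (hX : X.IsKInjective) (hY : Y.IsKInjective)
    (hK : K.Acyclic) (g : K ⟶ X) (g' : K ⟶ Y) (e : g ≫ p = g') (hg' : Homotopy g' 0) :
    ∃ hg : Homotopy g 0, ∀ i j, hg.hom i j ≫ p.f j = hg'.hom i j := by
  let σ : ∀ j, Y.X j ⟶ X.X j := fun j => @section_ _ _ _ _ (p.f j) (hp j)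
  have hσ : ∀ j, σ j ≫ p.f j = 𝟙 _ := fun j => @IsSplitEpi.id _ _ _ _ (p.f j) (hp j)
  let h' : ∀ i j, K.X i ⟶ X.X j := fun i j => hg'.hom i j ≫ σ j
  have h'zero : ∀ i j, ¬ (ComplexShape.up ℤ).Rel j i → h' i j = 0 := fun i j hij => by
    change hg'.hom i j ≫ σ j = 0
    rw [hg'.zero i j hij, zero_comp]
  have h'p : ∀ i j, h' i j ≫ p.f j = hg'.hom i j := fun i j => by
    change (hg'.hom i j ≫ σ j) ≫ p.f j = _
    rw [Category.assoc, hσ, Category.comp_id]
  let g₁ : K ⟶ X := g - Homotopy.nullHomotopicMap h'
  have hg₁ : g₁ ≫ p = 0 := by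
    change (g - Homotopy.nullHomotopicMap h') ≫ p = 0
    rw [Preadditive.sub_comp, Homotopy.nullHomotopicMap_comp, e]
    rw [eq_nullHomotopicMap_of_homotopy_zero hg', sub_eq_zero]
    congr 1
    funext i j
    exact (h'p i j).symm
  let g₂ : K ⟶ kernel p := kernel.lift p g₁ hg₁
  have hker := isKInjective_kernel_of_degreewise_splitEpi p hp hX hY
  obtain ⟨h''⟩ := hker.nonempty_homotopy_zero g₂ hK
  have e1 : g = g₂ ≫ kernel.ι p + Homotopy.nullHomotopicMap h' := by
    rw [kernel.lift_ι]
    change g = (g - Homotopy.nullHomotopicMap h') + Homotopy.nullHomotopicMap h'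
    abel
  have e2 : (0 : K ⟶ kernel p) ≫ kernel.ι p + (0 : K ⟶ X) = 0 := by simp
  refine ⟨(Homotopy.ofEq e1).trans (((h''.compRight (kernel.ι p)).add
    (Homotopy.nullHomotopy h' h'zero)).trans (Homotopy.ofEq e2)), fun i j => ?_⟩
  simp only [Homotopy.trans_hom, Homotopy.ofEq_hom, Homotopy.add_hom, Homotopy.compRight_hom,
    Homotopy.nullHomotopy_hom, Pi.zero_apply, zero_add, add_zero]
  rw [Preadditive.add_comp, Category.assoc, h'p]
  have : (kernel.ι p).f j ≫ p.f j = 0 := by
    rw [← HomologicalComplex.comp_f, kernel.condition, HomologicalComplex.zero_f]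
  rw [this, comp_zero, zero_add]

/-- evaluation of cochain complexes preserves all limit cones -/
noncomputable def evalIsLimit' {J : Type*} [Category J] (F : J ⥤ CochainComplex A ℤ) (c : Cone F)
    (hc : IsLimit c) (n : ℤ) :
    IsLimit ((HomologicalComplex.eval A (ComplexShape.up ℤ) n).mapCone c) := by
  apply coyonedaJointlyReflectsLimits
  intro X
  induction X using Opposite.rec with
  | _ X =>
    exact isLimitOfPreserves (HomologicalComplex.eval A (ComplexShape.up ℤ) n ⋙
      coyoneda.obj (Opposite.op X)) hc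

end

open CategoryTheory.Limits Opposite in
/-- Let … → I_3 → I_2 → I_1 be an inverse system of K-injective cochain complexes in an abelian category
with sequential limits, such that each transition map is a split epimorphism in each degree. Then
the (termwise) limit complex is K-injective. -/
theorem result {A : Type u} [Category.{v} A] [Abelian A] [HasLimitsOfShape ℕᵒᵖ A]
    (I : ℕᵒᵖ ⥤ CochainComplex A ℤ) (h1 : ∀ n : ℕ, (I.obj (op n)).IsKInjective)
    (h2 : ∀ (n : ℕ) (m : ℤ), IsSplitEpi ((I.map (homOfLE (Nat.le_succ n)).op).f m)) :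
    (limit I).IsKInjective := by
  refine ⟨fun {K} f hK => ?_⟩
  let pn : ∀ n : ℕ, I.obj (op (n + 1)) ⟶ I.obj (op n) := fun n => I.map (homOfLE (Nat.le_succ n)).op
  let fn : ∀ n : ℕ, K ⟶ I.obj (op n) := fun n => f ≫ limit.π I (op n)
  have hfn : ∀ n, fn (n + 1) ≫ pn n = fn n := fun n => by
    change (f ≫ limit.π I (op (n + 1))) ≫ I.map _ = f ≫ limit.π I (op n)
    rw [Category.assoc, limit.w]
  -- the compatible sequence of homotopies
  have step : ∀ (n : ℕ) (hn : Homotopy (fn n) 0), ∃ hn1 : Homotopy (fn (n + 1)) 0,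
      ∀ i j, hn1.hom i j ≫ (pn n).f j = hn.hom i j := fun n hn =>
    exists_lift_homotopy (pn n) (h2 n) (h1 (n + 1)) (h1 n) hK (fn (n + 1)) (fn n) (hfn n) hn
  choose next hnext using step
  let h0 : Homotopy (fn 0) 0 := ((h1 0).nonempty_homotopy_zero (fn 0) hK).some
  let hseq : ∀ n : ℕ, Homotopy (fn n) 0 := fun n => Nat.rec h0 (fun n hn => next n hn) n
  have hseq_succ : ∀ n i j, (hseq (n + 1)).hom i j ≫ (pn n).f j = (hseq n).hom i j :=
    fun n i j => hnext n (hseq n) i j
  -- compatibility with all transition maps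
  have hcompat : ∀ (m n : ℕ) (hmn : m ≤ n) (i j : ℤ),
      (hseq n).hom i j ≫ (I.map (homOfLE hmn).op).f j = (hseq m).hom i j := by
    intro m n hmn i j
    induction n, hmn using Nat.le_induction with
    | base =>
      have : (homOfLE (le_refl m)).op = 𝟙 (op m) := Subsingleton.elim _ _
      rw [this, I.map_id, HomologicalComplex.id_f, Category.comp_id]
    | succ n hmn ih =>
      have : (homOfLE (Nat.le_succ_of_le hmn)).op =
          (homOfLE (Nat.le_succ n)).op ≫ (homOfLE hmn).op := Subsingleton.elim _ _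
      rw [this, I.map_comp, HomologicalComplex.comp_f, ← Category.assoc]
      change ((hseq (n + 1)).hom i j ≫ (pn n).f j) ≫ _ = _
      rw [hseq_succ, ih]
  -- limit cones in each degree
  let lim : ∀ n : ℤ, IsLimit ((HomologicalComplex.eval A (ComplexShape.up ℤ) n).mapCone
      (limit.cone I)) := fun n => evalIsLimit' _ _ (limit.isLimit _) n
  let s : ∀ i j : ℤ, Cone (I ⋙ HomologicalComplex.eval A (ComplexShape.up ℤ) j) :=
    fun i j =>
      { pt := K.X i
        π :=
          { app := fun n => (hseq n.unop).hom i j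
            naturality := fun a b φ => by
              have hle : b.unop ≤ a.unop := leOfHom φ.unop
              have hφ : φ = (homOfLE hle).op := Subsingleton.elim _ _
              subst hφ
              refine (Category.id_comp _).trans ?_
              exact (hcompat _ _ hle i j).symm } }
  let L : ∀ i j : ℤ, K.X i ⟶ (limit I).X j := fun i j => (lim j).lift (s i j)
  have hlift : ∀ (i j : ℤ) (n : ℕ), L i j ≫ (limit.π I (op n)).f j = (hseq n).hom i j :=
    fun i j n => (lim j).fac (s i j) (op n)
  have hext : ∀ (n : ℤ) {X : A} (a b : X ⟶ (limit I).X n),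
      (∀ t : ℕ, a ≫ (limit.π I (op t)).f n = b ≫ (limit.π I (op t)).f n) → a = b := by
    intro n X a b hab
    refine (lim n).hom_ext (fun t => ?_)
    exact hab t.unop
  clear_value L
  refine ⟨{ hom := L
            zero := fun i j hij => ?_
            comm := fun i => ?_ }⟩
  · refine hext j _ _ (fun t => ?_)
    rw [hlift, (hseq t).zero i j hij, zero_comp]
  · refine hext i _ _ (fun t => ?_)
    have hc := (hseq t).comm i
    rw [dNext_eq _ (show (ComplexShape.up ℤ).Rel i (i + 1) from rfl),
      prevD_eq _ (show (ComplexShape.up ℤ).Rel (i - 1) i by simp)] at hc ⊢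
    simp only [HomologicalComplex.zero_f, add_zero] at hc ⊢
    change f.f i ≫ (limit.π I (op t)).f i = _ at hc
    rw [hc, Preadditive.add_comp, Category.assoc, Category.assoc, hlift,
      ← (limit.π I (op t)).comm (i - 1) i, ← Category.assoc, hlift]

end Groth.Agent.S0489
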