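import Groth.Statements.S2004
-- import your own Groth.Agent.* helpers here
import Mathlib
import Groth.Agent.Lib.Helper12.BL5

set_option autoImplicit false
universe u
open TensorProduct
open EtAlg

namespace Groth.Agent.S2004

/-- Let R -> R' induce bijections R/f^n R -> R'/f^n R' for all n > 0. Then (R -> R', f) is a glueing
pair if and only if R -> R' maps the f-power torsion of R bijectively onto the f-power torsion of R'
(stated as: injective on f-power torsion elements, and every f-power torsion element of R' is the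
image of one of R). -/
theorem result (R R' : Type u) [CommRing R] [CommRing R'] [Algebra R R'] (f : R)
    (hq : EtGlue.QuotPowBijective R R' f) :
    EtGlue.IsGlueingPair R R' f ↔
      ((∀ x : R, (∃ n : ℕ, f ^ n * x = 0) → algebraMap R R' x = 0 → x = 0) ∧
       (∀ x' : R', (∃ n : ℕ, algebraMap R R' f ^ n * x' = 0) →
          ∃ x : R, (∃ n : ℕ, f ^ n * x = 0) ∧ algebraMap R R' x = x')) := by
  have hz : ∀ x : R, algebraMap R (Localization.Away f) x = 0 ↔ ∃ n : ℕ, f ^ n * x = 0 := by
    intro x
    rw [IsLocalization.map_eq_zero_iff (Submonoid.powers f)]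
    constructor
    · rintro ⟨⟨_, n, rfl⟩, h⟩
      exact ⟨n, h⟩
    · rintro ⟨n, h⟩
      exact ⟨⟨_, n, rfl⟩, h⟩
  have hz' : ∀ x : R', algebraMap R' (Localization.Away (algebraMap R R' f)) x = 0 ↔
      ∃ n : ℕ, algebraMap R R' f ^ n * x = 0 := by
    intro x
    rw [IsLocalization.map_eq_zero_iff (Submonoid.powers (algebraMap R R' f))]
    constructor
    · rintro ⟨⟨_, n, rfl⟩, h⟩
      exact ⟨n, h⟩
    · rintro ⟨n, h⟩
      exact ⟨⟨_, n, rfl⟩, h⟩
  constructor
  · rintro ⟨-, hinj, hmid, -⟩
    refine ⟨fun x hx h0 => ?_, fun x' hx' => ?_⟩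
    · apply hinj
      change (algebraMap R R' x, algebraMap R (Localization.Away f) x) =
        (algebraMap R R' 0, algebraMap R (Localization.Away f) 0)
      rw [h0, (hz x).mpr hx, map_zero, map_zero]
    · obtain ⟨r, hr1, hr2⟩ := hmid x' 0 (by rw [map_zero]; exact (hz' x').mpr hx')
      exact ⟨r, (hz r).mp hr2, hr1⟩
  · rintro ⟨t1, t2⟩
    refine ⟨hq, fun r s h => ?_, fun x y h => ?_, fun z => ?_⟩
    · have h1 : algebraMap R R' r = algebraMap R R' s := congrArg Prod.fst h
      have h2 : algebraMap R (Localization.Away f) r = algebraMap R (Localization.Away f) s :=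
        congrArg Prod.snd h
      rw [← sub_eq_zero]
      apply t1
      · rw [← hz, map_sub, h2, sub_self]
      · rw [map_sub, h1, sub_self]
    · obtain ⟨r₀, ⟨_, k, rfl⟩, rfl⟩ := IsLocalization.exists_mk'_eq (Submonoid.powers f) y
      rw [Localization.awayMap, IsLocalization.Away.map, IsLocalization.map_mk',
        IsLocalization.eq_mk'_iff_mul_eq, ← map_mul,
        IsLocalization.eq_iff_exists (Submonoid.powers (algebraMap R R' f))] at h
      obtain ⟨⟨_, j, rfl⟩, hj⟩ := h
      simp only at hj
      have e1 : algebraMap R R' (f ^ (j + 1) * r₀) = algebraMap R R' f ^ (j + k + 1) * x := by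
        rw [map_mul, map_pow, pow_succ, mul_assoc, mul_comm (algebraMap R R' f), ← mul_assoc, ← hj,
          map_pow]
        ring
      obtain ⟨r₂, hr₂⟩ := Groth.Agent.Lib.Helper12.BL.exists_eq_pow_mul hq (j + k + 1)
        (Nat.succ_pos _) _ _ e1
      have e2 : algebraMap R R' f ^ (j + k + 1) * (x - algebraMap R R' r₂) = 0 := by
        rw [mul_sub, ← e1, hr₂, map_mul, map_pow, sub_self]
      obtain ⟨t, ht, hxt⟩ := t2 _ ⟨_, e2⟩
      refine ⟨r₂ + t, ?_, ?_⟩
      · rw [map_add, hxt]
        ring
      · rw [map_add, (hz t).mpr ht, add_zero, IsLocalization.eq_mk'_iff_mul_eq, ← map_mul,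
          IsLocalization.eq_iff_exists (Submonoid.powers f)]
        refine ⟨⟨_, j + 1, rfl⟩, ?_⟩
        simp only
        rw [hr₂]
        ring
    · obtain ⟨x', s, rfl⟩ :=
        IsLocalization.exists_mk'_eq (Submonoid.powers (algebraMap R R' f)) z
      obtain ⟨k, hk⟩ := s.2
      obtain ⟨r, s', hs'⟩ := Groth.Agent.Lib.Helper12.BL.exists_approx hq (k + 1) (Nat.succ_pos _) x'
      let s₀ : Submonoid.powers f := ⟨f ^ k, k, rfl⟩
      have e0 : IsLocalization.mk' (Localization.Away f) r s₀ *
          algebraMap R (Localization.Away f) (f ^ k) = algebraMap R (Localization.Away f) r :=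
        IsLocalization.mk'_spec _ r s₀
      have e1 : algebraMap R' (Localization.Away (algebraMap R R' f)) (algebraMap R R' f ^ k) =
          Localization.awayMap (algebraMap R R') f (algebraMap R (Localization.Away f) (f ^ k)) := by
        rw [Localization.awayMap, IsLocalization.Away.map, IsLocalization.map_eq, map_pow, map_pow,
          map_pow]
      refine ⟨algebraMap R R' f * s', - IsLocalization.mk' (Localization.Away f) r s₀, ?_⟩
      rw [map_neg, sub_neg_eq_add, IsLocalization.eq_mk'_iff_mul_eq, add_mul]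
      have hk' : (s : R') = algebraMap R R' f ^ k := hk.symm
      rw [hk', ← map_mul, e1, ← map_mul, e0, Localization.awayMap, IsLocalization.Away.map,
        IsLocalization.map_eq, ← map_add]
      congr 1
      rw [hs']
      ring

end Groth.Agent.S2004
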