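import Groth.Statements.S4631
import Groth.Agent.Lib.Helper1.FPS5
import Groth.Agent.Lib.Helper6.AlgClosedTensor

set_option autoImplicit false
open CategoryTheory AlgebraicGeometry
universe u
open FBase

namespace Groth.Agent.S4631

/-- Let X be a scheme over an algebraically closed field k and x a point of X. Then X is geometrically
pointwise integral at x over k if and only if the local ring of X at x is a domain. -/
theorem result {k : Type u} [Field k] [IsAlgClosed k] {X : Scheme.{u}}
    (f : X ⟶ Spec (CommRingCat.of k)) (x : X) :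
    FBase.IsGeomPtIntegralAt f x ↔ IsDomain ↑(X.presheaf.stalk x) := by
  letI : X.Over (Spec (CommRingCat.of k)) := ⟨f⟩
  letI := Curv2.stalkAlgebra k X x
  constructor
  · intro h
    obtain ⟨𝔐, h𝔐, hu⟩ :=
      Groth.Agent.Lib.Helper1.FPS.exists_unique_closedPoint k ↥(X.presheaf.stalk x) k
    obtain ⟨x', hx', ⟨e⟩⟩ := Groth.Agent.Lib.Helper1.FPS.bc_exists_point k X x k 𝔐 h𝔐
    haveI : IsDomain ↥((Curv2.bc k X k).presheaf.stalk x') := h k x' hx'
    let e' : (TensorProduct k ↥(X.presheaf.stalk x) k) ≃ₐ[TensorProduct k ↥(X.presheaf.stalk x) k]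
        Localization.AtPrime 𝔐.asIdeal :=
      IsLocalization.atUnits _ 𝔐.asIdeal.primeCompl (fun t ht => hu t ht)
    let e'' : ↥(X.presheaf.stalk x) ≃+* ↥((Curv2.bc k X k).presheaf.stalk x') :=
      ((Algebra.TensorProduct.rid k k ↥(X.presheaf.stalk x)).symm.toRingEquiv.trans
        e'.toRingEquiv).trans e.symm
    exact e''.toMulEquiv.isDomain
  · intro h K _ _ x' hx'
    haveI := h
    obtain ⟨Q, -, ⟨e⟩⟩ := Groth.Agent.Lib.Helper1.FPS.bc_exists_prime k X x K x' hx'
    haveI : IsDomain (TensorProduct k ↥(X.presheaf.stalk x) K) :=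
      Groth.Agent.Lib.Helper6.isDomain_tensor_of_isAlgClosed
    haveI : IsDomain (Localization.AtPrime Q.asIdeal) :=
      IsLocalization.isDomain_localization Q.asIdeal.primeCompl_le_nonZeroDivisors
    exact e.toMulEquiv.isDomain

end Groth.Agent.S4631
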