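import Groth.Statements.S5094
import Groth.Agent.Lib.Helper25.BiratIso

set_option autoImplicit false
universe u
open CategoryTheory CategoryTheory.Limits AlgebraicGeometry TopologicalSpace
open Lim8

namespace Groth.Agent.S5094

/-- Let X and Y be integral schemes and f : X → Y a separated morphism, locally of finite type and
birational (f sends the generic point of X to the generic point of Y and its stalk map there, the
induced homomorphism of function fields, is an isomorphism). Let y be a normal point of Y (the local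
ring O_{Y,y} is integrally closed) and suppose that some point of the fibre f⁻¹(y) is isolated in
that fibre. Then y has an open neighbourhood U such that the restriction f⁻¹(U) → U of f is an
isomorphism. -/
theorem result {X Y : Scheme.{u}} [IsIntegral X]
    [IsIntegral Y] (f : X ⟶ Y) [IsSeparated f] [LocallyOfFiniteType f]
    (hgen : f (genericPoint X) = genericPoint Y) (hbir : IsIso (f.stalkMap (genericPoint X)))
    (y : ↥Y) (hy : IsIntegrallyClosed ↑(Y.presheaf.stalk y))
    (x : ↥(f.fiber y)) (hx : IsOpen ({x} : Set ↥(f.fiber y))) :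
    ∃ U : Y.Opens, y ∈ U ∧ IsIso (f ∣_ U) := by
  obtain ⟨V, hVd, hVIso⟩ := Groth.Agent.Lib.Helper25.BiratIso.exists_dense_open_isIso f hgen hbir
  -- the section over `V`
  let γ : (V : Scheme.{u}) ⟶ X := inv (f ∣_ V) ≫ (f ⁻¹ᵁ V).ι
  have hγ : γ ≫ f = V.ι := by
    rw [Category.assoc, ← morphismRestrict_ι, IsIso.inv_hom_id_assoc]
  -- `γ (f t) = t` for `t ∈ f⁻¹ V`
  have hγf : ∀ (t : X) (ht : f t ∈ V), γ ⟨f t, ht⟩ = t := by
    intro t ht
    have h1 : (f ∣_ V) ⟨t, ht⟩ = ⟨f t, ht⟩ := by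
      apply Subtype.ext
      have := congrArg (fun φ : (f ⁻¹ᵁ V : Scheme.{u}) ⟶ Y => φ ⟨t, ht⟩) (morphismRestrict_ι f V)
      exact this
    have h2 : inv (f ∣_ V) ⟨f t, ht⟩ = ⟨t, ht⟩ := by
      rw [← h1, ← Scheme.Hom.comp_apply, IsIso.hom_inv_id]
      rfl
    change (f ⁻¹ᵁ V).ι (inv (f ∣_ V) ⟨f t, ht⟩) = t
    rw [h2]
    rfl
  -- the generic point of `X` lies over `V`
  have hVne : (V : Set Y).Nonempty := hVd.nonempty
  have hηV : f (genericPoint X) ∈ V := by
    rw [hgen]
    exact (genericPoint_spec Y).mem_open_set_iff V.2 |>.mpr (by simpa using hVne)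
  have hcl : closure (Set.range γ) = Set.univ := by
    have : genericPoint X ∈ Set.range γ := ⟨⟨f (genericPoint X), hηV⟩, hγf _ hηV⟩
    rw [Set.eq_univ_iff_forall]
    intro t
    have h1 : closure {genericPoint X} ⊆ closure (Set.range γ) :=
      closure_mono (Set.singleton_subset_iff.mpr this)
    apply h1
    rw [(genericPoint_spec X).def]
    trivial
  -- the isolated point
  set z := f.fiberι y x with hzdef
  have hz : f z = y := by
    have : z ∈ Set.range (f.fiberι y) := ⟨x, rfl⟩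
    rw [f.range_fiberι] at this
    exact this
  obtain ⟨W, hW⟩ : ∃ W : X.Opens, (W : Set X) ∩ f ⁻¹' {y} = {z} := by
    obtain ⟨T, hT, hTx⟩ := ((f.fiberι y).isEmbedding.isInducing.isOpen_iff).mp hx
    refine ⟨⟨T, hT⟩, ?_⟩
    ext t
    constructor
    · rintro ⟨htT, hty⟩
      rw [← f.range_fiberι] at hty
      obtain ⟨t', rfl⟩ := hty
      have : t' ∈ (f.fiberι y) ⁻¹' T := htT
      rw [hTx] at this
      rw [Set.mem_singleton_iff] at this ⊢
      rw [this]
    · rintro rfl
      refine ⟨?_, hz⟩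
      have : x ∈ (f.fiberι y) ⁻¹' T := by rw [hTx]; rfl
      exact this
  obtain ⟨V₂, v, hyV₂, hv, hvγ⟩ :=
    Groth.Agent.Lib.Helper21.ZMTExt.exists_extension_of_isSeparated f V γ hγ y
      ⟨⊤, trivial, by
        have : Nonempty ((⊤ : Y.Opens) : Scheme.{u}) := ⟨⟨y, trivial⟩⟩
        exact isIntegral_of_isOpenImmersion (⊤ : Y.Opens).ι⟩ hy z hz (by rw [hcl]; trivial) W
      (by rw [hcl, Set.inter_univ]; exact hW)
  refine ⟨V₂, hyV₂, ?_⟩
  refine Groth.Agent.Lib.Helper25.BiratIso.isIso_morphismRestrict_of_section f V₂ v hv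
    (f ⁻¹ᵁ (V ⊓ V₂)) ?_ ?_
  · refine ⟨genericPoint X, ?_⟩
    change f (genericPoint X) ∈ V ⊓ V₂
    rw [hgen]
    have hne : ((V ⊓ V₂ : Y.Opens) : Set Y).Nonempty := by
      have := hVd.inter_open_nonempty V₂ V₂.2 ⟨y, hyV₂⟩
      obtain ⟨w, hw1, hw2⟩ := this
      exact ⟨w, hw2, hw1⟩
    exact (genericPoint_spec Y).mem_open_set_iff (V ⊓ V₂).2 |>.mpr (by simpa using hne)
  · intro t ht
    have htV : f t ∈ V := ht.1
    have htV₂ : f t ∈ V₂ := ht.2
    refine ⟨⟨f t, htV₂⟩, ?_⟩
    have h1 := congrArg (fun φ : ((V ⊓ V₂ : Y.Opens) : Scheme.{u}) ⟶ X => φ ⟨f t, ht⟩) hvγ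
    simp only [Scheme.Hom.comp_apply, Scheme.homOfLE_apply'] at h1
    rw [h1, hγf t htV]


end Groth.Agent.S5094
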