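import Groth.Statements.S2583
import Groth.Agent.Lib.Helper13.LimitDescent
import Groth.Agent.Lib.Helper13.QuasiFiniteBaseChange

set_option autoImplicit false
universe u
open CategoryTheory AlgebraicGeometry
open EGA43

namespace Groth.Agent.S2583


open Groth.Agent.Lib.Helper13.LimitDescent Groth.Agent.Lib.Helper5 Groth.Agent.Lib.Helper13 in
set_option backward.isDefEq.respectTransparency false in
theorem aux {I : Type u} [SmallCategory I] [IsCofiltered I]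
    (D : I ⥤ Scheme.{u}) (c : Limits.Cone D) (hc : Limits.IsLimit c)
    [∀ (i j : I) (f : i ⟶ j), IsAffineHom (D.map f)] (i₀ : I) [CompactSpace (D.obj i₀)]
    [QuasiSeparatedSpace (D.obj i₀)] {X₀ Y₀ : Scheme.{u}} (f₀ : X₀ ⟶ Y₀) (g₀ : Y₀ ⟶ D.obj i₀)
    [LocallyOfFinitePresentation g₀] [QuasiCompact g₀] [QuasiSeparated g₀]
    [LocallyOfFinitePresentation (f₀ ≫ g₀)] [QuasiCompact (f₀ ≫ g₀)] [QuasiSeparated (f₀ ≫ g₀)]
    {X Y : Scheme.{u}} (f : X ⟶ Y) (g : Y ⟶ c.pt) (qY : Y ⟶ Y₀) (qX : X ⟶ X₀)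
    (hY : IsPullback qY g g₀ (c.π.app i₀)) (hX : IsPullback qX f f₀ qY) [LocallyQuasiFinite f] :
    ∃ (i : I) (φ : i ⟶ i₀) (Xi Yi : Scheme.{u}) (fi : Xi ⟶ Yi) (gi : Yi ⟶ D.obj i) (pY : Yi ⟶ Y₀)
      (pX : Xi ⟶ X₀), IsPullback pY gi g₀ (D.map φ) ∧ IsPullback pX fi f₀ pY ∧ LocallyQuasiFinite fi := by
  have hf₀ : LocallyOfFiniteType f₀ := locallyOfFiniteType_of_comp f₀ g₀
  have : ∀ {i j : I} (f : i ⟶ j), IsAffineHom (D.map f) := fun f => inferInstance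
  let DX := bcDiagram D i₀ (f₀ ≫ g₀)
  let cX := bcCone D c i₀ (f₀ ≫ g₀)
  let hcX : Limits.IsLimit cX := isLimitBcCone D c hc i₀ (f₀ ≫ g₀)
  have : ∀ j, CompactSpace (DX.obj j) := fun j => compactSpace_Xj D i₀ f₀ g₀ j
  let j₀ : Over i₀ := Over.mk (𝟙 i₀)
  let U : (DX.obj j₀).Opens := (pXj D i₀ f₀ g₀ j₀) ⁻¹ᵁ f₀.quasiFiniteLocus
  have hU : cX.π.app j₀ ⁻¹ᵁ U = ⊤ := by
    rw [← top_le_iff]
    rintro z -
    obtain ⟨x, rfl⟩ := (isoX hY hX).hom.homeomorph.surjective z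
    change f₀.QuasiFiniteAt ((pXj D i₀ f₀ g₀ j₀) (cX.π.app j₀ ((isoX hY hX).hom x)))
    have h1 : (pXj D i₀ f₀ g₀ j₀) (cX.π.app j₀ ((isoX hY hX).hom x)) = qX x :=
      congr($(πX_pXj hY hX j₀) x)
    rw [h1]
    exact quasiFiniteAt_of_isPullback hX x (f.quasiFiniteAt x)
  obtain ⟨j, fj₀, hj⟩ := exists_map_eq_top DX cX hcX U hU
  refine conclusion D i₀ f₀ g₀ (fun f => LocallyQuasiFinite f) j ?_
  have : LocallyOfFiniteType (fj D i₀ f₀ g₀ j) :=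
    MorphismProperty.of_isPullback (isPullback_Xj D i₀ f₀ g₀ j) inferInstance
  rw [← Scheme.Hom.quasiFiniteLocus_eq_top_iff, ← top_le_iff]
  rintro z -
  apply quasiFiniteAt_of_isPullback' (isPullback_Xj D i₀ f₀ g₀ j) z
  have hz : z ∈ DX.map fj₀ ⁻¹ᵁ U := hj ▸ trivial
  have h2 : DX.map fj₀ ≫ pXj D i₀ f₀ g₀ j₀ = pXj D i₀ f₀ g₀ j := by
    simp [DX, bcDiagram]
  have h3 : (pXj D i₀ f₀ g₀ j₀) (DX.map fj₀ z) = (pXj D i₀ f₀ g₀ j) z := congr($h2 z)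
  rw [← h3]
  exact hz

/-- Let S = lim S_i be a cofiltered limit of schemes with affine transition morphisms, S_{i₀} a
quasi-compact quasi-separated stage (the source needs S_{i₀} only quasi-compact; quasi-separatedness
is assumed here), f₀ : X₀ ⟶ Y₀ an S_{i₀}-morphism between schemes of finite presentation over
S_{i₀}, and f : X ⟶ Y its base change to S (base changes expressed by pullback squares). If f is
quasi-finite, then the base change f_i : X_i ⟶ Y_i of f₀ to some stage S_i is quasi-finite. -/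
theorem result {I : Type u} [SmallCategory I] [IsCofiltered I]
    (D : I ⥤ Scheme.{u}) (c : Limits.Cone D) (hc : Limits.IsLimit c)
    [∀ (i j : I) (f : i ⟶ j), IsAffineHom (D.map f)] (i₀ : I) [CompactSpace (D.obj i₀)]
    [QuasiSeparatedSpace (D.obj i₀)] {X₀ Y₀ : Scheme.{u}} (f₀ : X₀ ⟶ Y₀) (g₀ : Y₀ ⟶ D.obj i₀)
    [LocallyOfFinitePresentation g₀] [QuasiCompact g₀] [QuasiSeparated g₀]
    [LocallyOfFinitePresentation (f₀ ≫ g₀)] [QuasiCompact (f₀ ≫ g₀)] [QuasiSeparated (f₀ ≫ g₀)]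
    {X Y : Scheme.{u}} (f : X ⟶ Y) (g : Y ⟶ c.pt) (qY : Y ⟶ Y₀) (qX : X ⟶ X₀)
    (hY : IsPullback qY g g₀ (c.π.app i₀)) (hX : IsPullback qX f f₀ qY) [LocallyQuasiFinite f] :
    ∃ (i : I) (φ : i ⟶ i₀) (Xi Yi : Scheme.{u}) (fi : Xi ⟶ Yi) (gi : Yi ⟶ D.obj i) (pY : Yi ⟶ Y₀)
      (pX : Xi ⟶ X₀), IsPullback pY gi g₀ (D.map φ) ∧ IsPullback pX fi f₀ pY ∧ LocallyQuasiFinite fi := by
  exact aux D c hc i₀ f₀ g₀ f g qY qX hY hX

end Groth.Agent.S2583
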