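import Groth.Statements.S2590
import Groth.Agent.Lib.Helper13.SurjectiveDescent
import Groth.Agent.Lib.Helper13.DiagonalBaseChange
import Mathlib.AlgebraicGeometry.Morphisms.UniversallyInjective

set_option autoImplicit false
universe u
open CategoryTheory AlgebraicGeometry
open EGA43

namespace Groth.Agent.S2590


open Groth.Agent.Lib.Helper13.LimitDescent Groth.Agent.Lib.Helper5 Groth.Agent.Lib.Helper13
  Limits in
set_option backward.isDefEq.respectTransparency false in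
theorem aux {I : Type u} [SmallCategory I] [IsCofiltered I]
    (D : I ⥤ Scheme.{u}) (c : Limits.Cone D) (hc : Limits.IsLimit c)
    [∀ (i j : I) (f : i ⟶ j), IsAffineHom (D.map f)] (i₀ : I) [CompactSpace (D.obj i₀)]
    [QuasiSeparatedSpace (D.obj i₀)] {X₀ Y₀ : Scheme.{u}} (f₀ : X₀ ⟶ Y₀) (g₀ : Y₀ ⟶ D.obj i₀)
    [LocallyOfFinitePresentation g₀] [QuasiCompact g₀] [QuasiSeparated g₀]
    [LocallyOfFinitePresentation (f₀ ≫ g₀)] [QuasiCompact (f₀ ≫ g₀)] [QuasiSeparated (f₀ ≫ g₀)]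
    {X Y : Scheme.{u}} (f : X ⟶ Y) (g : Y ⟶ c.pt) (qY : Y ⟶ Y₀) (qX : X ⟶ X₀)
    (hY : IsPullback qY g g₀ (c.π.app i₀)) (hX : IsPullback qX f f₀ qY) [UniversallyInjective f] :
    ∃ (i : I) (φ : i ⟶ i₀) (Xi Yi : Scheme.{u}) (fi : Xi ⟶ Yi) (gi : Yi ⟶ D.obj i) (pY : Yi ⟶ Y₀)
      (pX : Xi ⟶ X₀), IsPullback pY gi g₀ (D.map φ) ∧ IsPullback pX fi f₀ pY ∧ UniversallyInjective fi := by
  have : ∀ {i j : I} (f : i ⟶ j), IsAffineHom (D.map f) := fun f => inferInstance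
  have : LocallyOfFinitePresentation f₀ := locallyOfFinitePresentation_of_comp f₀ g₀
  have : QuasiCompact f₀ := QuasiCompact.of_comp f₀ g₀
  have : QuasiSeparated f₀ := QuasiSeparated.of_comp f₀ g₀
  let Δ₀ : X₀ ⟶ pullback f₀ f₀ := pullback.diagonal f₀
  let w₀ : pullback f₀ f₀ ⟶ D.obj i₀ := pullback.snd f₀ f₀ ≫ f₀ ≫ g₀
  have hΔw : Δ₀ ≫ w₀ = f₀ ≫ g₀ := by simp [Δ₀, w₀]
  have : LocallyOfFinitePresentation w₀ := by dsimp only [w₀]; infer_instance
  have : QuasiCompact w₀ := by dsimp only [w₀]; infer_instance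
  have : QuasiSeparated w₀ := by dsimp only [w₀]; infer_instance
  have : LocallyOfFinitePresentation (Δ₀ ≫ w₀) := by rw [hΔw]; infer_instance
  have : QuasiCompact (Δ₀ ≫ w₀) := by rw [hΔw]; infer_instance
  have hY' : IsPullback (diagMap hX) (pullback.snd f f ≫ f ≫ g) w₀ (c.π.app i₀) :=
    (isPullback_diagMap_snd hX).paste_vert (hX.paste_vert hY)
  have hX' : IsPullback qX (pullback.diagonal f) Δ₀ (diagMap hX) := isPullback_diagonal hX
  have : Surjective (pullback.diagonal f) := (UniversallyInjective.iff_diagonal f).mp inferInstance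
  obtain ⟨j, hj⟩ := exists_surjective_stage D c hc i₀ Δ₀ w₀ hY' hX'
  refine conclusion D i₀ f₀ g₀ (fun f => UniversallyInjective f) j ?_
  rw [UniversallyInjective.iff_diagonal]
  refine ⟨fun z => ?_⟩
  have hXj := isPullback_Xj D i₀ f₀ g₀ j
  let τ : pullback (fj D i₀ f₀ g₀ j) (fj D i₀ f₀ g₀ j) ⟶ Yj D i₀ w₀ j :=
    pullback.lift (pullback.snd _ _ ≫ fj D i₀ f₀ g₀ j ≫ gj D i₀ g₀ j) (diagMap hXj) (by
      dsimp only [w₀]
      rw [pullback.lift_snd_assoc, Category.assoc, Category.assoc, Category.assoc]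
      have h0 : gj D i₀ g₀ j ≫ D.map j.hom = pYj D i₀ g₀ j ≫ g₀ := pullback.condition
      rw [h0, fj_pYj_assoc])
  have hτ : τ ≫ pYj D i₀ w₀ j = diagMap hXj := pullback.lift_snd ..
  obtain ⟨x', hx'⟩ := hj.surj (τ z)
  have h1 : (diagMap hXj) z = Δ₀ ((pXj D i₀ Δ₀ w₀ j) x') := by
    rw [← hτ, Scheme.Hom.comp_apply, ← hx', ← Scheme.Hom.comp_apply, fj_pYj, Scheme.Hom.comp_apply]
  have h2 := (isPullback_diagonal hXj).range_snd_scheme
  change z ∈ Set.range (pullback.diagonal (fj D i₀ f₀ g₀ j))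
  rw [h2]
  exact ⟨_, h1.symm⟩

/-- Let S = lim S_i be a cofiltered limit of schemes with affine transition morphisms, S_{i₀} a
quasi-compact quasi-separated stage (the source needs S_{i₀} only quasi-compact; quasi-separatedness
is assumed here), f₀ : X₀ ⟶ Y₀ an S_{i₀}-morphism between schemes of finite presentation over
S_{i₀}, and f : X ⟶ Y its base change to S (base changes expressed by pullback squares). If f is
universally injective (radiciel), then the base change f_i : X_i ⟶ Y_i of f₀ to some stage S_i is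
universally injective (radiciel). -/
theorem result {I : Type u} [SmallCategory I] [IsCofiltered I]
    (D : I ⥤ Scheme.{u}) (c : Limits.Cone D) (hc : Limits.IsLimit c)
    [∀ (i j : I) (f : i ⟶ j), IsAffineHom (D.map f)] (i₀ : I) [CompactSpace (D.obj i₀)]
    [QuasiSeparatedSpace (D.obj i₀)] {X₀ Y₀ : Scheme.{u}} (f₀ : X₀ ⟶ Y₀) (g₀ : Y₀ ⟶ D.obj i₀)
    [LocallyOfFinitePresentation g₀] [QuasiCompact g₀] [QuasiSeparated g₀]
    [LocallyOfFinitePresentation (f₀ ≫ g₀)] [QuasiCompact (f₀ ≫ g₀)] [QuasiSeparated (f₀ ≫ g₀)]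
    {X Y : Scheme.{u}} (f : X ⟶ Y) (g : Y ⟶ c.pt) (qY : Y ⟶ Y₀) (qX : X ⟶ X₀)
    (hY : IsPullback qY g g₀ (c.π.app i₀)) (hX : IsPullback qX f f₀ qY) [UniversallyInjective f] :
    ∃ (i : I) (φ : i ⟶ i₀) (Xi Yi : Scheme.{u}) (fi : Xi ⟶ Yi) (gi : Yi ⟶ D.obj i) (pY : Yi ⟶ Y₀)
      (pX : Xi ⟶ X₀), IsPullback pY gi g₀ (D.map φ) ∧ IsPullback pX fi f₀ pY ∧ UniversallyInjective fi := by
  exact aux D c hc i₀ f₀ g₀ f g qY qX hY hX

end Groth.Agent.S2590
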