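import Groth.Statements.S3428
-- import your own Groth.Agent.* helpers here
import Mathlib
import Groth.Agent.Lib.Helper12.FibCl7

set_option autoImplicit false
open CategoryTheory AlgebraicGeometry
universe u
open EGA43

namespace Groth.Agent.S3428

/-- Let f : X ⟶ S be of finite presentation (locally of finite presentation, quasi-compact,
quasi-separated) and Z a locally constructible subset of X. Then the set of points s of S such that
Z ∩ f⁻¹(s) is closed in the fibre f⁻¹(s) (with the topology induced from X), the set of s such that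
it is open in the fibre, and the set of s such that it is locally closed in the fibre, are locally
constructible in S. -/
theorem result {X S : Scheme.{u}} (f : X ⟶ S)
    [LocallyOfFinitePresentation f] [QuasiCompact f] [QuasiSeparated f] (Z : Set X)
    (hZ : Topology.IsLocallyConstructible Z) :
    Topology.IsLocallyConstructible {s : S | IsClosed (Subtype.val ⁻¹' Z : Set ↥(f.base ⁻¹' {s}))} ∧
      Topology.IsLocallyConstructible {s : S | IsOpen (Subtype.val ⁻¹' Z : Set ↥(f.base ⁻¹' {s}))} ∧
      Topology.IsLocallyConstructible {s : S | IsLocallyClosed (Subtype.val ⁻¹' Z : Set ↥(f.base ⁻¹' {s}))} := by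
  have hZc : Topology.IsLocallyConstructible Zᶜ := by
    intro x
    obtain ⟨U, hxU, hU, hc⟩ := hZ x
    refine ⟨U, hxU, hU, ?_⟩
    have := hc.compl
    rwa [← Set.preimage_compl] at this
  refine ⟨?_, ?_, ?_⟩
  · exact Groth.Agent.Lib.Helper12.H12FibCl.isLocallyConstructible_fibSet
      Groth.Agent.Lib.Helper12.H12FibCl.isFamInv_Φc Groth.Agent.Lib.Helper12.H12FibCl.isGenConst_Φc
      f Z Z hZ hZ
  · have h := Groth.Agent.Lib.Helper12.H12FibCl.isLocallyConstructible_fibSet
      Groth.Agent.Lib.Helper12.H12FibCl.isFamInv_Φc Groth.Agent.Lib.Helper12.H12FibCl.isGenConst_Φc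
      f Zᶜ Z hZc hZ
    convert h using 1
    ext s
    change IsOpen (Subtype.val ⁻¹' Z : Set ↥(f.base ⁻¹' {s})) ↔
      IsClosed (Subtype.val ⁻¹' Zᶜ : Set ↥(f.base ⁻¹' {s}))
    rw [Set.preimage_compl, isClosed_compl_iff]
  · exact Groth.Agent.Lib.Helper12.H12FibCl.isLocallyConstructible_fibSet
      Groth.Agent.Lib.Helper12.H12FibCl.isFamInv_Φl Groth.Agent.Lib.Helper12.H12FibCl.isGenConst_Φl
      f Z Z hZ hZ

end Groth.Agent.S3428
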