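import Groth.Statements.S8872
import Mathlib
import Groth.Agent.Helper19.FittSheaf
import Groth.Agent.Lib.Helper29.QCohPullback
import Groth.Agent.Lib.Helper1.IdealSheafComap
-- import your own Groth.Agent.* helpers here

set_option autoImplicit false
universe u
open CategoryTheory CategoryTheory.Limits AlgebraicGeometry TopologicalSpace
open SDiv

namespace Groth.Agent.S8872

open Groth.Agent.Lib.Helper29.QCoh in

/-- Let f : T ⟶ S be a morphism of schemes and F a quasi-coherent O_S-module of finite type. Then for
every i the inverse image ideal sheaf on T of the i-th Fitting ideal of F is the i-th Fitting ideal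
of f^*F. -/
theorem result {T S : Scheme.{u}} (f : T ⟶ S) (F : S.Modules) (hF : Coh.IsQCoh F) (hft : CohB1.IsFT F)
    (i : ℕ) : (Fitt.sheafIdeal F i).comap f = Fitt.sheafIdeal ((Scheme.Modules.pullback f).obj F) i := by
  haveI : F.IsQuasicoherent := hF
  haveI : F.IsFiniteType := hft
  refine Scheme.IdealSheafData.ext_of_iSup_eq_top (fun p : AffinePairs f => p.1.1)
    (isOpenCover_affinePairs f) (fun p => ?_)
  rw [Groth.Agent.Lib.Helper1.ideal_comap _ f p.1.1 p.1.2 p.2,
    Groth.Agent.Helper19.FittSheaf.sheafIdeal_ideal F i p.1.2,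
    Groth.Agent.Helper19.FittSheaf.sheafIdeal_ideal ((Scheme.Modules.pullback f).obj F) i p.1.1]
  letI := (f.appLE p.1.2.1 p.1.1.1 p.2).hom.toAlgebra
  haveI := Groth.Agent.Helper19.FittSheaf.finite_sections F p.1.2.2
  rw [Groth.Agent.Helper19.FittLib.ideal_congr (pullbackSectionsEquiv f F p.1.1.2 p.1.2.2 p.2) i,
    Groth.Agent.Helper19.FittLib.ideal_baseChange]
  rfl

end Groth.Agent.S8872
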