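import Groth.Statements.S8875
import Mathlib
import Groth.Agent.Helper19.FittSheaf2
-- import your own Groth.Agent.* helpers here

set_option autoImplicit false
universe u
open CategoryTheory CategoryTheory.Limits AlgebraicGeometry TopologicalSpace
open SDiv

namespace Groth.Agent.S8875

open Groth.Agent.Lib.Helper29.QCoh Groth.Agent.Helper19.FittSheaf Groth.Agent.Helper19.FittLib in

/-- (1) ⇔ (3): let S be a scheme, F a quasi-coherent O_S-module of finite type and r ≥ 0. Then F is
finite locally free of rank r if and only if Fit_k(F) = 0 for every k < r and Fit_k(F) = O_S for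
every k ≥ r. -/
theorem result (S : Scheme.{u}) (F : S.Modules) (hF : Coh.IsQCoh F) (hft : CohB1.IsFT F)
    (r : ℕ) :
    FlatMod.IsFinLocFreeOfRank r F ↔
      (∀ k : ℕ, k < r → Fitt.sheafIdeal F k = ⊥) ∧ (∀ k : ℕ, r ≤ k → Fitt.sheafIdeal F k = ⊤) := by
  haveI : F.IsQuasicoherent := hF
  haveI : F.IsFiniteType := hft
  rw [isFinLocFreeOfRank_iff_exists_affine r F]
  constructor
  · intro h
    choose V hV hxV he using h
    have hcov : ⨆ x : S, ((⟨V x, hV x⟩ : S.affineOpens) : S.Opens) = ⊤ := by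
      rw [eq_top_iff]
      intro x _
      exact Opens.mem_iSup.mpr ⟨x, hxV x⟩
    have key : ∀ (k : ℕ) (x : S), (Fitt.sheafIdeal F k).ideal ⟨V x, hV x⟩ =
        if r ≤ k then ⊤ else ⊥ := by
      intro k x
      rw [sheafIdeal_ideal F k ⟨V x, hV x⟩]
      obtain ⟨e⟩ := he x
      exact ideal_of_basis (Module.Basis.ofRepr e) k
    constructor
    · intro k hk
      refine Scheme.IdealSheafData.ext_of_iSup_eq_top (fun x : S => ⟨V x, hV x⟩) hcov
        (fun x => ?_)
      rw [key k x, if_neg (by omega)]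
      rfl
    · intro k hk
      refine Scheme.IdealSheafData.ext_of_iSup_eq_top (fun x : S => ⟨V x, hV x⟩) hcov
        (fun x => ?_)
      rw [key k x, if_pos hk]
      rfl
  · rintro ⟨h0, h1⟩ x
    obtain ⟨V, hV, hxV, -⟩ := exists_isAffineOpen_mem_and_subset (x := x) (U := ⊤) trivial
    have hnot : ¬ Fitt.ideal Γ(S, V) Γ(F, V) r ≤ (hV.primeIdealOf ⟨x, hxV⟩).asIdeal := by
      rw [← sheafIdeal_ideal F r ⟨V, hV⟩, h1 r le_rfl]
      intro h
      exact (hV.primeIdealOf ⟨x, hxV⟩).2.ne_top (top_le_iff.mp h)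
    obtain ⟨d, hxd, g, hg⟩ := exists_basicOpen_span F r ⟨V, hV⟩ hxV hnot
    have hW : IsAffineOpen (S.basicOpen d) := hV.basicOpen d
    refine ⟨S.basicOpen d, hW, hxd, ?_⟩
    have hli : LinearIndependent Γ(S, S.basicOpen d) g := by
      refine linearIndependent_of_ideal_eq_bot g hg ?_
      by_cases hr : r = 0
      · exact Or.inl hr
      · right
        rw [← sheafIdeal_ideal F (r - 1) ⟨S.basicOpen d, hW⟩, h0 (r - 1) (by omega)]
        rfl
    exact ⟨(Module.Basis.mk hli (by rw [hg])).repr⟩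

end Groth.Agent.S8875
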