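import Groth.Statements.S10847
import Mathlib
import Groth.Agent.Helper19.FittSheaf2
import Groth.Agent.Lib.Helper29.QCohPullback
import Groth.Agent.S8872
import Groth.Agent.S8875
-- import your own Groth.Agent.* helpers here

set_option autoImplicit false
universe u
open FlatMod

namespace Groth.Agent.S10847

section helpers

open AlgebraicGeometry CategoryTheory Limits TopologicalSpace
open Groth.Agent.Helper19.FittSheaf Groth.Agent.Helper19.FittLib Groth.Agent.Lib.Helper29.QCoh

variable {X : Scheme.{u}}

lemma sheafIdeal_mono (F : X.Modules) [F.IsQuasicoherent] [F.IsFiniteType] {k l : ℕ}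
    (h : k ≤ l) : Fitt.sheafIdeal F k ≤ Fitt.sheafIdeal F l := by
  intro U
  rw [sheafIdeal_ideal, sheafIdeal_ideal]
  haveI := finite_sections F U.2
  exact ideal_mono h

/-- `f` factors through the closed subscheme of `I` iff `I.comap f = ⊥`. -/
lemma factors_subscheme_iff {T Y : Scheme.{u}} (I : Y.IdealSheafData) (h : T ⟶ Y) :
    (∃ g : T ⟶ I.subscheme, g ≫ I.subschemeι = h) ↔ I.comap h = ⊥ := by
  rw [← le_bot_iff, ← Scheme.IdealSheafData.le_map_iff_comap_le, Scheme.IdealSheafData.map_bot]
  constructor
  · rintro ⟨g, rfl⟩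
    have := Scheme.Hom.le_ker_comp g I.subschemeι
    rwa [Scheme.IdealSheafData.ker_subschemeι] at this
  · intro hle
    refine ⟨IsClosedImmersion.lift I.subschemeι h ?_, IsClosedImmersion.lift_fac _ _ _⟩
    rwa [Scheme.IdealSheafData.ker_subschemeι]

/-- `f` factors through the complement of the support of `I` iff `I.comap f = ⊤`. -/
lemma range_subset_compl_support_iff {T Y : Scheme.{u}} (I : Y.IdealSheafData) (h : T ⟶ Y) :
    (∀ x : T, h x ∉ I.support) ↔ I.comap h = ⊤ := by
  rw [← Scheme.IdealSheafData.support_eq_bot_iff, Scheme.IdealSheafData.support_comap]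
  constructor
  · intro H
    ext x
    simp only [Closeds.coe_preimage, Set.mem_preimage, SetLike.mem_coe, Closeds.coe_bot,
      Set.mem_empty_iff_false, iff_false]
    exact H x
  · intro H x hx
    have : x ∈ ((I.support.preimage h.continuous : Closeds T) : Set T) := hx
    rw [H] at this
    exact this

end helpers

open AlgebraicGeometry CategoryTheory in

open AlgebraicGeometry CategoryTheory in
/-- Let X be a scheme, F a finite-type quasi-coherent O_X-module and r a natural number. Then there is
an immersion i : Z → X (a subscheme of X) such that a morphism of schemes f : T → X factors through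
i if and only if the pullback f^*F is finite locally free of rank r. -/
theorem result {X : Scheme.{u}} (F : X.Modules)
    [Coh.IsQCoh F] (hF : CohB1.IsFT F) (r : ℕ) :
    ∃ (Z : Scheme.{u}) (i : Z ⟶ X), IsImmersion i ∧ ∀ (T : Scheme.{u}) (f : T ⟶ X),
      (∃ g : T ⟶ Z, g ≫ i = f) ↔ FlatMod.IsFinLocFreeOfRank r ((Scheme.Modules.pullback f).obj F) := by
  haveI : F.IsQuasicoherent := ‹Coh.IsQCoh F›
  haveI : F.IsFiniteType := hF
  let Ir : X.IdealSheafData := Fitt.sheafIdeal F r
  let J : X.IdealSheafData := if r = 0 then ⊥ else Fitt.sheafIdeal F (r - 1)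
  let W : X.Opens := ⟨(Ir.support : Set X)ᶜ, Ir.support.isClosed.isOpen_compl⟩
  let J' : (W : Scheme.{u}).IdealSheafData := J.comap W.ι
  refine ⟨J'.subscheme, J'.subschemeι ≫ W.ι, inferInstance, fun T f => ?_⟩
  -- (A) factorization criterion
  have hA : (∃ g : T ⟶ J'.subscheme, g ≫ J'.subschemeι ≫ W.ι = f) ↔
      (Ir.comap f = ⊤ ∧ J.comap f = ⊥) := by
    constructor
    · rintro ⟨g, rfl⟩
      constructor
      · rw [← range_subset_compl_support_iff]
        intro x hx
        have h1 : (g ≫ J'.subschemeι ≫ W.ι) x = W.ι ((g ≫ J'.subschemeι) x) := by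
          rw [← Scheme.Hom.comp_apply, Category.assoc]
        rw [h1] at hx
        exact ((g ≫ J'.subschemeι) x).2 hx
      · rw [← Category.assoc, Scheme.IdealSheafData.comap_comp]
        exact (factors_subscheme_iff J' (g ≫ J'.subschemeι)).mp ⟨g, rfl⟩
    · rintro ⟨h1, h2⟩
      rw [← range_subset_compl_support_iff] at h1
      have hrange : Set.range f ⊆ Set.range W.ι := by
        rintro _ ⟨x, rfl⟩
        rw [Scheme.Opens.range_ι]
        exact h1 x
      let h := IsOpenImmersion.lift W.ι f hrange
      have hh : h ≫ W.ι = f := IsOpenImmersion.lift_fac _ _ _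
      have h3 : J'.comap h = ⊥ := by
        rw [← Scheme.IdealSheafData.comap_comp, hh]
        exact h2
      obtain ⟨g, hg⟩ := (factors_subscheme_iff J' h).mpr h3
      exact ⟨g, by rw [← Category.assoc, hg, hh]⟩
  rw [hA]
  -- (B) Fitting criterion
  rw [Groth.Agent.S8875.result T ((Scheme.Modules.pullback f).obj F)
    (Groth.Agent.Lib.Helper29.QCoh.isQuasicoherent_pullback f F)
    (Groth.Agent.Lib.Helper29.QCoh.isFiniteType_pullback f F) r]
  have hcomap : ∀ k, Fitt.sheafIdeal ((Scheme.Modules.pullback f).obj F) k =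
      (Fitt.sheafIdeal F k).comap f := fun k =>
    (Groth.Agent.S8872.result f F ‹_› hF k).symm
  constructor
  · rintro ⟨h1, h2⟩
    constructor
    · intro k hk
      rw [hcomap, ← le_bot_iff, ← h2]
      have hr : r ≠ 0 := by omega
      have hJ : J = Fitt.sheafIdeal F (r - 1) := if_neg hr
      rw [hJ]
      exact Scheme.IdealSheafData.comap_mono f (sheafIdeal_mono F (by omega))
    · intro k hk
      rw [hcomap, ← top_le_iff, ← h1]
      exact Scheme.IdealSheafData.comap_mono f (sheafIdeal_mono F hk)
  · rintro ⟨h1, h2⟩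
    constructor
    · rw [← hcomap]
      exact h2 r le_rfl
    · by_cases hr : r = 0
      · have hJ : J = ⊥ := if_pos hr
        rw [hJ, Scheme.IdealSheafData.comap_bot]
      · have hJ : J = Fitt.sheafIdeal F (r - 1) := if_neg hr
        rw [hJ, ← hcomap]
        exact h1 (r - 1) (by omega)

end Groth.Agent.S10847
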