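import Groth.Statements.S14788
import Mathlib
import Groth.Agent.Lib.Lead.ProConsScheme

set_option autoImplicit false
universe u
open CategoryTheory CategoryTheory.Limits AlgebraicGeometry
open Subtr

namespace Groth.Agent.S14788

open Topology Set ProCons AlgebraicGeometry CategoryTheory Groth.Agent.Lib.Lead in
theorem isProConstructible_singleton (Y : Scheme.{u}) (y' : Y) :
    IsProConstructible ({y'} : Set Y) := by
  apply isProConstructible_of_forall_exists_spectral
  intro x
  obtain ⟨_, ⟨U, hU, rfl⟩, hxU, -⟩ := (Y.isBasis_affineOpens).exists_subset_of_mem_open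
    (mem_univ x) isOpen_univ
  haveI hsp : SpectralSpace ↥(U : Set Y) := spectralSpace_of_isAffineOpen hU
  refine ⟨U, U.isOpen, hxU, hsp, ?_⟩
  haveI : @T2Space ↥(U : Set Y) (constructibleTopology _) := t2Space_constructible
  by_cases h : y' ∈ (U : Set Y)
  · have : (Subtype.val ⁻¹' ({y'} : Set Y) : Set ↥(U : Set Y)) = {⟨y', h⟩} := by
      ext z
      simp only [mem_preimage, mem_singleton_iff]
      exact ⟨fun hz => Subtype.ext hz, fun hz => congrArg Subtype.val hz⟩
    rw [this]
    exact @isClosed_singleton _ (constructibleTopology _) _ _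
  · have : (Subtype.val ⁻¹' ({y'} : Set Y) : Set ↥(U : Set Y)) = ∅ := by
      ext z
      simp only [mem_preimage, mem_singleton_iff, mem_empty_iff_false, iff_false]
      intro hz
      exact h (hz ▸ z.2)
    rw [this]
    exact @isClosed_empty _ (constructibleTopology _)

open Topology Set ProCons AlgebraicGeometry CategoryTheory Groth.Agent.Lib.Lead in
theorem mem_closure_iff_of_isProConstructible (Y : Scheme.{u}) {Z : Set Y}
    (hZ : IsProConstructible Z) (y : Y) : y ∈ closure Z ↔ ∃ y' ∈ Z, y' ⤳ y := by
  have h := mem_interior_iff_of_isIndConstructible (locallySpectral_scheme Y)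
    (isIndConstructible_compl hZ) y
  rw [closure_eq_compl_interior_compl, mem_compl_iff, h]
  push_neg
  constructor
  · rintro ⟨x', hx', hxZ⟩
    exact ⟨x', not_not.mp hxZ, hx'⟩
  · rintro ⟨x', hxZ, hx'⟩
    exact ⟨x', hx', not_not.mpr hxZ⟩


/-- (i) ⇔ (iv): a morphism of schemes f : X ⟶ Y has the lifting property for ordered pairs of points if
and only if, for every pro-constructible subset Z ⊆ Y, the image under f of the closure of f⁻¹(Z) is
the closure of Z. (In the published item (iv) the right-hand side is printed as Z itself; the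
closure is meant, as the case of a non-closed point shows and as the proof uses.) -/
theorem result {X Y : Scheme.{u}} (f : X ⟶ Y) :
    Subtr.IsSSubtrusive f ↔
      ∀ Z : Set Y, ProCons.IsProConstructible Z → f '' closure (f ⁻¹' Z) = closure Z := by
  constructor
  · intro hf Z hZ
    apply Set.Subset.antisymm
    · calc f '' closure (f ⁻¹' Z) ⊆ closure (f '' (f ⁻¹' Z)) :=
            image_closure_subset_closure_image f.continuous
        _ ⊆ closure Z := closure_mono (Set.image_preimage_subset _ _)
    · intro y hy
      obtain ⟨y', hy'Z, hspec⟩ := (mem_closure_iff_of_isProConstructible Y hZ y).mp hy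
      obtain ⟨x, x', hxx', hx, hx'⟩ := hf hspec
      refine ⟨x, ?_, hx⟩
      have hx'mem : x' ∈ f ⁻¹' Z := by
        show f x' ∈ Z
        rw [hx']; exact hy'Z
      exact hxx'.mem_closed isClosed_closure (subset_closure hx'mem)
  · intro h y y' hspec
    have hZ := isProConstructible_singleton Y y'
    have hy : y ∈ closure ({y'} : Set Y) := hspec.mem_closure
    rw [← h _ hZ] at hy
    obtain ⟨x, hx, hfx⟩ := hy
    have hpre := Groth.Agent.Lib.Lead.isProConstructible_preimage f hZ
    obtain ⟨x', hx'mem, hx'x⟩ := (mem_closure_iff_of_isProConstructible X hpre x).mp hx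
    exact ⟨x, x', hx'x, hfx, hx'mem⟩

end Groth.Agent.S14788
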