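import Groth.Statements.S0500
import Mathlib.RingTheory.AdjoinRoot
import Mathlib.RingTheory.Nakayama
import Mathlib.Algebra.Polynomial.Identities
-- import your own Groth.Agent.* helpers here

set_option autoImplicit false
universe u
open Hensel

namespace Groth.Agent.S0500

/-- If every algebra over a local ring that is finitely generated as a module is ring-isomorphic to a
finite product of local rings, then the local ring is henselian. -/
theorem result (R : Type u) [CommRing R] [IsLocalRing R]
    (h : ∀ (S : Type u) [CommRing S] [Algebra R S], Module.Finite R S →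
      ∃ (ι : Type u) (_ : Fintype ι) (A : ι → Type u) (_ : ∀ i, CommRing (A i)),
        (∀ i, IsLocalRing (A i)) ∧ Nonempty (S ≃+* (∀ i, A i))) :
    HenselianLocalRing R := by
  classical
  open Polynomial in
  refine ⟨fun f hf a₀ h₁ h₂ => ?_⟩
  set res := IsLocalRing.residue R with hres
  set α := res a₀ with hα
  have hresev : ∀ (q : R[X]) (a : R), res (q.eval a) = (q.map res).eval (res a) := by
    intro q a
    rw [Polynomial.eval_map, Polynomial.eval₂_at_apply]
  have hroot : f.eval₂ res α = 0 := by
    rw [hα, Polynomial.eval₂_at_apply, hres, IsLocalRing.residue_eq_zero_iff]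
    exact h₁
  have hfin : Module.Finite R (AdjoinRoot f) := hf.finite_adjoinRoot
  obtain ⟨ι, _, A, _, hloc, ⟨e⟩⟩ := h (AdjoinRoot f) hfin
  set φ : AdjoinRoot f →+* IsLocalRing.ResidueField R := AdjoinRoot.lift res α hroot with hφ
  set φ' : (∀ i, A i) →+* IsLocalRing.ResidueField R := φ.comp e.symm.toRingHom with hφ'
  let ε : ι → (∀ i, A i) := fun i => Pi.single i 1
  have hεsum : ∑ i, ε i = 1 := Finset.univ_sum_single (1 : ∀ i, A i)
  obtain ⟨j, hj⟩ : ∃ j, φ' (ε j) ≠ 0 := by
    by_contra hcon
    push Not at hcon
    have : φ' (∑ i, ε i) = 0 := by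
      rw [map_sum]
      exact Finset.sum_eq_zero fun i _ => hcon i
    rw [hεsum, map_one] at this
    exact one_ne_zero this
  have hεj : φ' (ε j) = 1 := by
    have hidem : ε j * ε j = ε j := by
      ext i
      by_cases hij : i = j
      · subst hij; simp [ε]
      · simp [ε, hij]
    have := congrArg φ' hidem
    rw [map_mul] at this
    exact (mul_eq_right₀ hj).mp this
  have hlocj : IsLocalRing (A j) := hloc j
  set χ : AdjoinRoot f →+* A j := (Pi.evalRingHom A j).comp e.toRingHom with hχ
  set ρ : R →+* A j := χ.comp (algebraMap R (AdjoinRoot f)) with hρ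
  set T : A j := χ (AdjoinRoot.root f) with hT
  have hχsurj : Function.Surjective χ := by
    intro y
    refine ⟨e.symm (Pi.single j y), ?_⟩
    simp [hχ]
  have hχmk : ∀ p : R[X], χ (AdjoinRoot.mk f p) = p.eval₂ ρ T := by
    intro p
    rw [← AdjoinRoot.aeval_eq, Polynomial.aeval_def, Polynomial.hom_eval₂]
  have hfT : f.eval₂ ρ T = 0 := by
    rw [← hχmk, AdjoinRoot.mk_self, map_zero]
  set d : A j := T - ρ a₀ with hd
  have hdnu : ¬ IsUnit d := by
    intro hu
    obtain ⟨v, hv⟩ := hu.exists_right_inv
    have hw : e (AdjoinRoot.root f - AdjoinRoot.of f a₀) * Pi.single j v = ε j := by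
      ext i
      by_cases hij : i = j
      · subst hij
        simp only [Pi.mul_apply, Pi.single_eq_same, ε]
        rw [← hv, hd, hT, hρ, hχ]
        simp [AdjoinRoot.algebraMap_eq]
      · simp [ε, hij]
    have := congrArg φ' hw
    rw [map_mul, hεj, hφ'] at this
    simp only [RingHom.coe_comp, Function.comp_apply, RingEquiv.toRingHom_eq_coe,
      RingHom.coe_coe, RingEquiv.symm_apply_apply, map_sub] at this
    rw [hφ, AdjoinRoot.lift_root, AdjoinRoot.lift_of, show α - res a₀ = 0 from sub_self _,
      zero_mul] at this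
    exact zero_ne_one this
  set J : Ideal (A j) := (IsLocalRing.maximalIdeal R).map ρ with hJ
  have hdJ : d ∈ J := by
    obtain ⟨k, hk⟩ := Polynomial.binomExpansion (f.map ρ) (ρ a₀) d
    have hTd : ρ a₀ + d = T := by rw [hd]; ring
    rw [hTd, Polynomial.eval_map, hfT, Polynomial.derivative_map, Polynomial.eval_map,
      Polynomial.eval_map, Polynomial.eval₂_at_apply, Polynomial.eval₂_at_apply] at hk
    set u : A j := ρ (f.derivative.eval a₀) + k * d with hu
    have huu : IsUnit u := by
      by_contra hnu
      have h1 : u ∈ nonunits (A j) := hnu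
      have h2 : -(k * d) ∈ nonunits (A j) := by
        rw [mem_nonunits_iff, IsUnit.neg_iff]
        intro h3
        exact hdnu (isUnit_of_mul_isUnit_right h3)
      have h3 := IsLocalRing.nonunits_add h1 h2
      rw [hu, add_neg_cancel_right] at h3
      exact h3 (h₂.map ρ)
    have hdu : d * u = -ρ (f.eval a₀) := by
      rw [hu]
      linear_combination -hk
    obtain ⟨w, hw⟩ := huu.exists_right_inv
    have : d = -ρ (f.eval a₀) * w := by
      rw [← hdu, mul_assoc, hw, mul_one]
    rw [this]
    exact Ideal.mul_mem_right _ _ (neg_mem (Ideal.mem_map_of_mem _ h₁))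
  -- surjectivity of ρ by Nakayama
  have hsurj : ∀ y : A j, ∃ r : R, ρ r = y := by
    let _ : Algebra R (A j) := ρ.toAlgebra
    have halg : ∀ r, algebraMap R (A j) r = ρ r := fun _ => rfl
    let χₗ : AdjoinRoot f →ₗ[R] A j :=
      { toFun := χ
        map_add' := map_add χ
        map_smul' := fun r b => by
          rw [Algebra.smul_def, map_mul, RingHom.id_apply, Algebra.smul_def]
          rfl }
    have hfinA : Module.Finite R (A j) := Module.Finite.of_surjective χₗ hχsurj
    have hle : (⊤ : Submodule R (A j)) ≤ LinearMap.range (Algebra.linearMap R (A j)) := by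
      apply Submodule.le_of_le_smul_of_le_jacobson_bot (I := IsLocalRing.maximalIdeal R)
        hfinA.fg_top (IsLocalRing.maximalIdeal_le_jacobson ⊥)
      rintro y -
      obtain ⟨b, rfl⟩ := hχsurj y
      obtain ⟨p, rfl⟩ := AdjoinRoot.mk_surjective b
      have hp : p = C (p.eval a₀) + (X - C a₀) * (p /ₘ (X - C a₀)) := by
        rw [← Polynomial.modByMonic_X_sub_C_eq_C_eval, Polynomial.modByMonic_add_div]
      rw [hχmk, hp, Polynomial.eval₂_add, Polynomial.eval₂_mul, Polynomial.eval₂_C,
        Polynomial.eval₂_sub, Polynomial.eval₂_X, Polynomial.eval₂_C]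
      refine Submodule.add_mem_sup ⟨p.eval a₀, rfl⟩ ?_
      rw [Ideal.smul_top_eq_map, Submodule.restrictScalars_mem]
      exact Ideal.mul_mem_right _ _ hdJ
    intro y
    obtain ⟨r, hr⟩ := hle (Submodule.mem_top (x := y))
    exact ⟨r, hr⟩
  have hinj : ∀ r : R, ρ r = 0 → r = 0 := by
    intro r hr
    set bj : AdjoinRoot f := e.symm (ε j) with hbj
    have hφbj : φ bj = 1 := hεj
    have hrb : AdjoinRoot.of f r * bj = 0 := by
      apply e.injective
      rw [map_mul, map_zero, hbj, RingEquiv.apply_symm_apply]
      ext i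
      by_cases hij : i = j
      · subst hij
        simp only [Pi.mul_apply, ε, Pi.single_eq_same, mul_one, Pi.zero_apply]
        exact hr
      · simp [ε, hij]
    obtain ⟨p, hp⟩ := AdjoinRoot.mk_surjective bj
    set p₁ := p %ₘ f with hp₁
    have hmk : AdjoinRoot.mk f p₁ = bj := by
      rw [← hp, AdjoinRoot.mk_eq_mk]
      refine ⟨-(p /ₘ f), ?_⟩
      have := Polynomial.modByMonic_add_div p f
      rw [hp₁]
      linear_combination this
    have hdvd : f ∣ C r * p₁ := by
      rw [← AdjoinRoot.mk_eq_zero, map_mul, AdjoinRoot.mk_C, hmk]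
      exact hrb
    have hzero : C r * p₁ = 0 := by
      by_contra hne
      refine hf.not_dvd_of_degree_lt hne ?_ hdvd
      exact (Polynomial.degree_mul_le _ _).trans_lt (by
        have h3 := Polynomial.degree_modByMonic_lt p hf
        have h4 : (C r).degree ≤ 0 := Polynomial.degree_C_le
        calc (C r).degree + p₁.degree ≤ 0 + p₁.degree := by gcongr
          _ = p₁.degree := zero_add _
          _ < f.degree := h3)
    have hp₁map : p₁.map res ≠ 0 := by
      intro h0
      have : φ (AdjoinRoot.mk f p₁) = 0 := by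
        rw [hφ, AdjoinRoot.lift_mk, ← Polynomial.eval_map, h0, Polynomial.eval_zero]
      rw [hmk, hφbj] at this
      exact one_ne_zero this
    obtain ⟨i, hi⟩ : ∃ i, (p₁.map res).coeff i ≠ 0 := by
      by_contra hcon
      push Not at hcon
      exact hp₁map (Polynomial.ext (by simpa using hcon))
    rw [Polynomial.coeff_map, hres, Ne, IsLocalRing.residue_eq_zero_iff,
      IsLocalRing.notMem_maximalIdeal] at hi
    have := congrArg (fun p => p.coeff i) hzero
    simp only [Polynomial.coeff_C_mul, Polynomial.coeff_zero] at this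
    exact (hi.mul_left_eq_zero).mp this
  obtain ⟨a, ha⟩ := hsurj T
  refine ⟨a, ?_, ?_⟩
  · apply hinj
    rw [← Polynomial.eval₂_at_apply, ha, hfT]
  · rw [IsLocalRing.mem_maximalIdeal, mem_nonunits_iff]
    intro hu
    apply hdnu
    have := hu.map ρ
    rwa [map_sub, ha] at this

end Groth.Agent.S0500
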