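import Groth.Statements.S14620
import Groth.Agent.S0499
import Groth.Agent.S0500
import Mathlib

set_option autoImplicit false
universe u
open Hensel

namespace Groth.Agent.S14620

open Polynomial IntermediateField in
/-- An algebraic extension of a separably closed field is separably closed. -/
lemma isSepClosed_of_isAlgebraic (K L : Type u) [Field K] [Field L] [Algebra K L]
    [Algebra.IsAlgebraic K L] [IsSepClosed K] : IsSepClosed L := by
  refine IsSepClosed.of_exists_root L fun p hmon hirr hsep => ?_
  let Ω := AlgebraicClosure L
  have hdeg : (p.map (algebraMap L Ω)).degree ≠ 0 := by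
    rw [Polynomial.degree_map]
    exact (Polynomial.degree_pos_of_irreducible hirr).ne'
  obtain ⟨α, hα⟩ := IsAlgClosed.exists_root (p.map (algebraMap L Ω)) hdeg
  have hα' : Polynomial.aeval α p = 0 := by
    rw [Polynomial.aeval_def, ← Polynomial.eval_map]; exact hα
  have hsepα : IsSeparable L α := by
    have hdvd : minpoly L α ∣ p := minpoly.dvd L α hα'
    exact hsep.of_dvd hdvd
  have h1 : Algebra.IsSeparable L L⟮α⟯ :=
    (IntermediateField.isSeparable_adjoin_simple_iff_isSeparable L Ω).2 hsepα
  have h2 : Algebra.IsAlgebraic L L⟮α⟯ := inferInstance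
  have h3 : Algebra.IsAlgebraic K L⟮α⟯ := Algebra.IsAlgebraic.trans K L L⟮α⟯
  have h4 : IsPurelyInseparable K L⟮α⟯ := inferInstance
  have h5 : IsPurelyInseparable L L⟮α⟯ := IsPurelyInseparable.tower_top K L L⟮α⟯
  obtain ⟨x, hx⟩ := IsPurelyInseparable.surjective_algebraMap_of_isSeparable L L⟮α⟯
    ⟨α, IntermediateField.mem_adjoin_simple_self L α⟩
  refine ⟨x, ?_⟩
  have hx' : algebraMap L Ω x = α := by
    have := congrArg (fun t : L⟮α⟯ => (t : Ω)) hx
    simpa using this
  apply (algebraMap L Ω).injective
  rw [map_zero, ← Polynomial.eval₂_at_apply, hx', ← Polynomial.aeval_def]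
  exact hα'

/-- In the strictly henselian case, let f : A → B be a finite local homomorphism of local rings. If A is
strictly henselian (henselian local with separably closed residue field), then so is B. -/
theorem result {A B : Type u} [CommRing A] [IsLocalRing A]
    [CommRing B] [IsLocalRing B] (f : A →+* B) (hf : f.Finite) [IsLocalHom f]
    (hA : EtCoh.IsStrictlyHenselianLocalRing A) : EtCoh.IsStrictlyHenselianLocalRing B := by
  obtain ⟨hAh, hAs⟩ := hA
  algebraize [f]
  have hfin : Module.Finite A B := hf
  have hloc : IsLocalHom (algebraMap A B) := ‹IsLocalHom f›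
  have hBh : HenselianLocalRing B := by
    apply Groth.Agent.S0500.result B
    intro S _ _ hS
    let _ : Algebra A S := ((algebraMap B S).comp (algebraMap A B)).toAlgebra
    have : IsScalarTower A B S := IsScalarTower.of_algebraMap_eq fun x => rfl
    have : Module.Finite A S := Module.Finite.trans B S
    exact Groth.Agent.S0499.result A S
  refine ⟨hBh, ?_⟩
  have : Module.Finite (IsLocalRing.ResidueField A) (IsLocalRing.ResidueField B) := inferInstance
  have : Algebra.IsAlgebraic (IsLocalRing.ResidueField A) (IsLocalRing.ResidueField B) :=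
    inferInstance
  exact isSepClosed_of_isAlgebraic (IsLocalRing.ResidueField A) (IsLocalRing.ResidueField B)

end Groth.Agent.S14620
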