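import Groth.Statements.S16599
import Groth.Agent.Lib27.LGProj
-- import your own Groth.Agent.* helpers here

set_option autoImplicit false
open AlgebraicGeometry
universe u
open LGRing

namespace Groth.Agent.S16599

/-- Let R be an LG-ring, n ≥ 0, and U an open quasi-compact subscheme of affine n-space Spec R[X₁, …,
Xₙ]. If U has an (R ⧸ m)-valued point over R for every maximal ideal m of R, then U has an R-valued
point: some n-tuple x over R defines a section Spec R ⟶ Spec R[X₁, …, Xₙ] with image inside U. -/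
theorem result {R : Type u} [CommRing R] (hR : LGRing.IsLGRing R)
    (n : ℕ) (U : (Spec (CommRingCat.of (MvPolynomial (Fin n) R))).Opens)
    (hU : IsCompact (U : Set ↥(Spec (CommRingCat.of (MvPolynomial (Fin n) R)))))
    (h : ∀ (m : Ideal R) [m.IsMaximal], ∃ x : Fin n → R ⧸ m,
      Set.range (Spec.map (CommRingCat.ofHom (MvPolynomial.eval₂Hom (Ideal.Quotient.mk m) x))).base ⊆
        (U : Set ↥(Spec (CommRingCat.of (MvPolynomial (Fin n) R))))) :
    ∃ x : Fin n → R, Set.range (Spec.map (CommRingCat.ofHom (MvPolynomial.eval x))).base ⊆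
      (U : Set ↥(Spec (CommRingCat.of (MvPolynomial (Fin n) R)))) := by
  classical
  let s : Set (PrimeSpectrum (MvPolynomial (Fin n) R)) := U.carrier
  have hs : IsCompact s ∧ IsOpen s := ⟨hU, U.2⟩
  obtain ⟨T, hT⟩ := PrimeSpectrum.isCompact_isOpen_iff.1 hs
  have hmemU : ∀ q : PrimeSpectrum (MvPolynomial (Fin n) R),
      q ∈ s ↔ ∃ g ∈ T, g ∉ q.asIdeal := by
    intro q
    rw [← hT, Set.mem_compl_iff, PrimeSpectrum.mem_zeroLocus, Set.not_subset]
    rfl
  set r := T.card with hr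
  let f : Fin r → MvPolynomial (Fin n) R := fun i => (T.equivFin.symm i : MvPolynomial (Fin n) R)
  have hfT : ∀ g ∈ T, ∃ i, f i = g := fun g hg =>
    ⟨T.equivFin ⟨g, hg⟩, by simp [f]⟩
  have hfT' : ∀ i, f i ∈ T := fun i => (T.equivFin.symm i).2
  let P : MvPolynomial (Fin n ⊕ Fin r) R :=
    ∑ i, MvPolynomial.rename Sum.inl (f i) * MvPolynomial.X (Sum.inr i)
  have hP : ∀ (A : Type u) [CommRing A] [Algebra R A] (t : Fin n ⊕ Fin r → A),
      MvPolynomial.aeval t P = ∑ i, MvPolynomial.aeval (t ∘ Sum.inl) (f i) * t (Sum.inr i) := by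
    intro A _ _ t
    simp [P, map_sum, MvPolynomial.aeval_rename]
  have hrep : LGRing.RepresentsUnit P R := by
    apply Groth.Agent.Lib27.LGProj.representsUnit_of_finite hR
    intro m hm
    obtain ⟨x, hx⟩ := h m
    have hdom : IsDomain (R ⧸ m) := Ideal.Quotient.isDomain m
    let z : PrimeSpectrum (R ⧸ m) := ⟨⊥, Ideal.isPrime_bot⟩
    have hz : PrimeSpectrum.comap (MvPolynomial.eval₂Hom (Ideal.Quotient.mk m) x) z ∈ s :=
      hx ⟨z, rfl⟩
    rw [hmemU] at hz
    obtain ⟨g, hgT, hg⟩ := hz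
    obtain ⟨i, rfl⟩ := hfT g hgT
    have hne : MvPolynomial.eval₂Hom (Ideal.Quotient.mk m) x (f i) ≠ 0 := by
      intro h0
      apply hg
      change MvPolynomial.eval₂Hom (Ideal.Quotient.mk m) x (f i) ∈ (⊥ : Ideal (R ⧸ m))
      rw [h0]; exact Ideal.zero_mem _
    refine ⟨Sum.elim x (Pi.single i 1), ?_⟩
    rw [hP]
    have : ∑ j, MvPolynomial.aeval ((Sum.elim x (Pi.single i (1 : R ⧸ m))) ∘ Sum.inl) (f j) *
        (Sum.elim x (Pi.single i (1 : R ⧸ m))) (Sum.inr j) =
        MvPolynomial.eval₂Hom (Ideal.Quotient.mk m) x (f i) := by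
      simp [Pi.single_apply, MvPolynomial.aeval_def]
    rw [this]
    letI := Ideal.Quotient.field m
    exact isUnit_iff_ne_zero.2 hne
  obtain ⟨t, ht⟩ := hrep
  rw [hP] at ht
  refine ⟨t ∘ Sum.inl, ?_⟩
  rintro _ ⟨q, rfl⟩
  change PrimeSpectrum.comap (MvPolynomial.eval (t ∘ Sum.inl)) q ∈ s
  rw [hmemU]
  by_contra hcon
  push Not at hcon
  have hall : ∀ i, MvPolynomial.aeval (t ∘ Sum.inl) (f i) ∈ q.asIdeal := by
    intro i
    have := hcon (f i) (hfT' i)
    rw [PrimeSpectrum.comap_asIdeal, Ideal.mem_comap] at this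
    rw [MvPolynomial.aeval_def, Algebra.algebraMap_self]
    exact this
  have : (∑ i, MvPolynomial.aeval (t ∘ Sum.inl) (f i) * t (Sum.inr i)) ∈ q.asIdeal :=
    Ideal.sum_mem _ fun i _ => Ideal.mul_mem_right _ _ (hall i)
  exact q.isPrime.ne_top (Ideal.eq_top_of_isUnit_mem _ this ht)

end Groth.Agent.S16599
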