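import Groth.Statements.S15795
import Mathlib

set_option autoImplicit false
universe u v
open WildQuot

namespace Groth.Agent.S15795

/-- In a Noetherian local ring of dimension `n`, the maximal ideal is not generated by fewer than
`n` elements. -/
theorem not_le_span_image_ne
    (A : Type u) [CommRing A] [IsLocalRing A] [IsNoetherianRing A]
    (n : ℕ) (hn : ringKrullDim A = n) (u : Fin n → A)
    (hu : Ideal.span (Set.range u) = IsLocalRing.maximalIdeal A) (i : Fin n) :
    ¬ IsLocalRing.maximalIdeal A ≤ Ideal.span (u '' {j | j ≠ i}) := by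
  classical
  intro hle
  set J : Ideal A := Ideal.span (u '' {j | j ≠ i}) with hJ
  have hJm : J ≤ IsLocalRing.maximalIdeal A := by
    rw [hJ, Ideal.span_le, ← hu]
    rintro _ ⟨j, _, rfl⟩
    exact Ideal.subset_span ⟨j, rfl⟩
  have hmin : IsLocalRing.maximalIdeal A ∈ J.minimalPrimes := by
    refine ⟨⟨inferInstance, hJm⟩, ?_⟩
    rintro q ⟨hq, hJq⟩ _
    exact hle.trans hJq
  have hfin : (u '' {j | j ≠ i}).Finite := Set.toFinite _
  have h1 := Ideal.height_le_card_of_mem_minimalPrimes_span hfin hmin
  have h2 : (u '' {j | j ≠ i}).ncard ≤ n - 1 := by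
    calc (u '' {j | j ≠ i}).ncard ≤ ({j | j ≠ i} : Set (Fin n)).ncard := Set.ncard_image_le
      _ = n - 1 := by
        have : ({j | j ≠ i} : Set (Fin n)) = {i}ᶜ := by ext j; simp
        rw [this, Set.ncard_compl, Set.ncard_singleton, Nat.card_fin]
  have h3 : ((IsLocalRing.maximalIdeal A).height : WithBot ℕ∞) = n := by
    rw [IsLocalRing.maximalIdeal_height_eq_ringKrullDim, hn]
  have hn1 : 1 ≤ n := by
    have := i.2
    omega
  have h4 : (IsLocalRing.maximalIdeal A).height = (n : ℕ∞) := by
    have : ((IsLocalRing.maximalIdeal A).height : WithBot ℕ∞) = ((n : ℕ∞) : WithBot ℕ∞) := by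
      rw [h3]; rfl
    exact WithBot.coe_injective this
  rw [h4] at h1
  have h5 : (n : ℕ∞) ≤ ((n - 1 : ℕ) : ℕ∞) := h1.trans (by exact_mod_cast h2)
  have h6 : n ≤ n - 1 := by exact_mod_cast h5
  omega

/-- Nakayama: if `m ≤ N ⊔ m ^ 2` in a Noetherian local ring then `m ≤ N`. -/
theorem le_of_le_sup_sq
    (A : Type u) [CommRing A] [IsLocalRing A] [IsNoetherianRing A] (N : Ideal A)
    (h : IsLocalRing.maximalIdeal A ≤ N ⊔ IsLocalRing.maximalIdeal A ^ 2) :
    IsLocalRing.maximalIdeal A ≤ N := by
  apply Submodule.le_of_le_smul_of_le_jacobson_bot (I := IsLocalRing.maximalIdeal A)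
    (IsNoetherian.noetherian _)
  · rw [IsLocalRing.jacobson_eq_maximalIdeal ⊥ bot_ne_top]
  · rw [Ideal.smul_eq_mul, ← pow_two]
    exact h

/-- Let `A` be a regular local ring of Krull dimension `n` with maximal ideal `m`, let a finite group
`G` act on `A` by ring automorphisms inducing the identity on the residue field, and let `u_1, …,
u_n` generate `m`. Suppose that for every `σ ∈ G` and every `i`, `σ u_i ∈ (u_1, …, u_i) + m ^ 2`,
i.e. the induced linear maps of `m / m ^ 2` are upper triangular in the basis given by the `u_i`.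
Then the system `u` is admissible: for every choice `σ_1, …, σ_n ∈ G` the elements `σ_1 u_1, …, σ_n
u_n` generate `m`. (The published statement is for a complete regular local ring containing a
`G`-fixed field of representatives; this row drops completeness and asks only that `G` act trivially
on the residue field.) -/
theorem result
    (A : Type u) [CommRing A] [IsRegularLocalRing A]
    (G : Type v) [Group G] [Finite G] [MulSemiringAction G A]
    (hres : ∀ (σ : G) (a : A), σ • a - a ∈ IsLocalRing.maximalIdeal A)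
    (n : ℕ) (hn : ringKrullDim A = n) (u : Fin n → A)
    (hu : Ideal.span (Set.range u) = IsLocalRing.maximalIdeal A)
    (htri : ∀ (σ : G) (i : Fin n),
      σ • u i ∈ Ideal.span (u '' {j | j ≤ i}) ⊔ IsLocalRing.maximalIdeal A ^ 2) :
    ∀ τ : Fin n → G,
      Ideal.span (Set.range fun i => τ i • u i) = IsLocalRing.maximalIdeal A := by
  classical
  intro τ
  set m := IsLocalRing.maximalIdeal A with hm
  have hum : ∀ j, u j ∈ m := fun j => by
    rw [← hu]; exact Ideal.subset_span ⟨j, rfl⟩
  -- the group preserves `m`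
  have hGm : ∀ (ρ : G) (x : A), x ∈ m → ρ • x ∈ m := fun ρ x hx => by
    have : ρ • x = (ρ • x - x) + x := by ring
    rw [this]
    exact m.add_mem (hres ρ x) hx
  have hGm2 : ∀ (ρ : G) (x : A), x ∈ m ^ 2 → ρ • x ∈ m ^ 2 := fun ρ x hx => by
    have h1 : m ≤ Ideal.comap (MulSemiringAction.toRingHom G A ρ) m := fun y hy => by
      rw [Ideal.mem_comap, MulSemiringAction.toRingHom_apply]; exact hGm ρ y hy
    have h2 := (Ideal.pow_right_mono h1 2).trans (Ideal.le_comap_pow _ 2)
    have h3 := h2 hx
    rwa [Ideal.mem_comap, MulSemiringAction.toRingHom_apply] at h3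
  -- invariance of the flag
  have hflag : ∀ (i : Fin n) (ρ : G) (x : A),
      x ∈ Ideal.span (u '' {j | j < i}) ⊔ m ^ 2 → ρ • x ∈ Ideal.span (u '' {j | j < i}) ⊔ m ^ 2 := by
    intro i ρ x hx
    have h1 : Ideal.span (u '' {j | j < i}) ⊔ m ^ 2 ≤
        Ideal.comap (MulSemiringAction.toRingHom G A ρ) (Ideal.span (u '' {j | j < i}) ⊔ m ^ 2) := by
      apply sup_le
      · rw [Ideal.span_le]
        rintro _ ⟨j, hj, rfl⟩
        have h3 := htri ρ j
        have hsub : ({l | l ≤ j} : Set (Fin n)) ⊆ {l | l < i} := fun l hl =>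
          lt_of_le_of_lt (show l ≤ j from hl) (show j < i from hj)
        have h4 : Ideal.span (u '' {l | l ≤ j}) ⊔ m ^ 2 ≤ Ideal.span (u '' {j | j < i}) ⊔ m ^ 2 :=
          sup_le_sup_right (Ideal.span_mono (Set.image_mono hsub)) _
        rw [SetLike.mem_coe, Ideal.mem_comap, MulSemiringAction.toRingHom_apply]
        exact h4 h3
      · intro y hy
        rw [Ideal.mem_comap, MulSemiringAction.toRingHom_apply]
        exact Ideal.mem_sup_right (hGm2 ρ y hy)
    have h2 := h1 hx
    rwa [Ideal.mem_comap, MulSemiringAction.toRingHom_apply] at h2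
  set J : Ideal A := Ideal.span (Set.range fun i => τ i • u i) with hJ
  apply le_antisymm
  · rw [hJ, Ideal.span_le]
    rintro _ ⟨j, rfl⟩
    exact hGm _ _ (hum j)
  · apply le_of_le_sup_sq
    rw [← hm, ← hu, Ideal.span_le]
    rintro _ ⟨i, rfl⟩
    rw [hu]
    change u i ∈ J ⊔ m ^ 2
    -- strong induction
    have key : ∀ k : ℕ, ∀ i : Fin n, i.val < k → u i ∈ J ⊔ m ^ 2 := by
      intro k
      induction k with
      | zero => intro i hi; omega
      | succ k ih =>
        intro i hi
        by_cases hik : i.val < k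
        · exact ih i hik
        have hF : Ideal.span (u '' {j | j < i}) ⊔ m ^ 2 ≤ J ⊔ m ^ 2 := by
          apply sup_le _ le_sup_right
          rw [Ideal.span_le]
          rintro _ ⟨j, hj, rfl⟩
          exact ih j (by have : j.val < i.val := hj; omega)
        have hset : {j | j ≤ i} = insert i {j | j < i} := by
          ext j; simp [le_iff_eq_or_lt]
        have h1 := htri (τ i) i
        rw [hset, Set.image_insert_eq, Ideal.span_insert, sup_assoc] at h1
        obtain ⟨y, hy, f, hf, hyf⟩ := Submodule.mem_sup.mp h1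
        obtain ⟨c, rfl⟩ := Ideal.mem_span_singleton'.mp hy
        by_cases hc : c ∈ m
        · exfalso
          have h2 : τ i • u i ∈ Ideal.span (u '' {j | j < i}) ⊔ m ^ 2 := by
            rw [← hyf]
            refine Ideal.add_mem _ (Ideal.mem_sup_right ?_) hf
            rw [pow_two]
            exact Ideal.mul_mem_mul hc (hum i)
          have h3 := hflag i (τ i)⁻¹ _ h2
          rw [inv_smul_smul] at h3
          have hsub : ({l | l < i} : Set (Fin n)) ⊆ {l | l ≠ i} := fun l hl =>
            ne_of_lt (show l < i from hl)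
          have h4 : Ideal.span (u '' {j | j < i}) ⊔ m ^ 2 ≤ Ideal.span (u '' {j | j ≠ i}) ⊔ m ^ 2 :=
            sup_le_sup_right (Ideal.span_mono (Set.image_mono hsub)) _
          have h5 := h4 h3
          apply not_le_span_image_ne A n hn u hu i
          apply le_of_le_sup_sq
          rw [← hm, ← hu, Ideal.span_le]
          rintro _ ⟨j, rfl⟩
          rw [hu]
          by_cases hji : j = i
          · rw [hji]; exact h5
          · exact Ideal.mem_sup_left (Ideal.subset_span ⟨j, hji, rfl⟩)
        · have hcu : IsUnit c := by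
            by_contra h
            exact hc ((IsLocalRing.mem_maximalIdeal c).mpr h)
          obtain ⟨c', rfl⟩ := hcu
          have h2 : u i = (↑c'⁻¹ : A) * (τ i • u i) - (↑c'⁻¹ : A) * f := by
            rw [← hyf, mul_add, ← mul_assoc, Units.inv_mul, one_mul]
            ring
          rw [h2]
          refine Ideal.sub_mem _ (Ideal.mul_mem_left _ _ (Ideal.mem_sup_left ?_))
            (Ideal.mul_mem_left _ _ (hF hf))
          exact Ideal.subset_span ⟨i, rfl⟩
    exact key (i.val + 1) i (Nat.lt_succ_self _)

end Groth.Agent.S15795
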