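import Groth.Statements.S15586
import Mathlib
-- import your own Groth.Agent.* helpers here

set_option autoImplicit false
universe u v w
open scoped TensorProduct
open RInv

namespace Groth.Agent.S15586

/-- Let `R` be a commutative ring with an involution `lam` and fixed ring `S`, and let `S'` be a
commutative `S`-algebra. If `S'` is flat over `S`, or if `2` is invertible in `S`, then `S'` is the
fixed ring of the base-changed involution `id ⊗ lam` of `S' ⊗_S R`: the structure map `S' → S' ⊗_S
R` is injective with image the fixed elements. (In general the fixed ring does not commute with base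
change.) -/
theorem result (S : Type u) (R : Type v) (S' : Type w)
    [CommRing S] [CommRing R] [Algebra S R] [CommRing S'] [Algebra S S']
    (lam : R ≃ₐ[S] R) (hlam : Function.Involutive lam)
    (hS : RInv.IsFixedRing S R lam.toRingEquiv)
    (h : Module.Flat S S' ∨ IsUnit (2 : S)) :
    RInv.IsFixedRing S' (S' ⊗[S] R)
      (Algebra.TensorProduct.congr (AlgEquiv.refl : S' ≃ₐ[S] S') lam).toRingEquiv := by
  set ι : S →ₗ[S] R := Algebra.linearMap S R with hι
  set Λ := (Algebra.TensorProduct.congr (AlgEquiv.refl : S' ≃ₐ[S] S') lam) with hΛ
  have hΛl : ∀ x : S' ⊗[S] R, Λ x = LinearMap.lTensor S' lam.toLinearMap x := by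
    intro x
    induction x using TensorProduct.induction_on with
    | zero => simp
    | tmul a b => simp [hΛ]
    | add x y hx hy => rw [map_add, map_add, hx, hy]
  have halg : ∀ s' : S', algebraMap S' (S' ⊗[S] R) s' =
      LinearMap.lTensor S' ι ((TensorProduct.rid S S').symm s') := by
    intro s'
    simp [hι, Algebra.TensorProduct.algebraMap_apply]
  -- the two key facts
  have key : Function.Injective (LinearMap.lTensor S' ι) ∧
      ∀ x : S' ⊗[S] R, Λ x = x → x ∈ LinearMap.range (LinearMap.lTensor S' ι) := by
    rcases h with hflat | h2
    · refine ⟨Module.Flat.lTensor_preserves_injective_linearMap ι hS.1, ?_⟩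
      intro x hx
      have hex : Function.Exact ι (lam.toLinearMap - (LinearMap.id : R →ₗ[S] R)) := by
        intro r
        rw [LinearMap.sub_apply, sub_eq_zero]
        exact hS.2 r
      have hex' := Module.Flat.lTensor_exact S' hex
      refine (hex' x).1 ?_
      rw [LinearMap.lTensor_sub, LinearMap.sub_apply, ← hΛl, hx, LinearMap.lTensor_id,
        LinearMap.id_apply, sub_self]
    · obtain ⟨c, hc⟩ := h2.exists_left_inv
      let E : R →ₗ[S] R := c • (lam.toLinearMap + (LinearMap.id : R →ₗ[S] R))
      have hE : ∀ r, E r ∈ LinearMap.range ι := by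
        intro r
        have : lam (E r) = E r := by
          change lam (c • (lam r + r)) = c • (lam r + r)
          rw [map_smul, map_add, hlam r, add_comm]
        exact (hS.2 (E r)).1 this
      let π : R →ₗ[S] S :=
        (LinearEquiv.ofInjective ι hS.1).symm.toLinearMap ∘ₗ LinearMap.codRestrict _ E hE
      have hιπ : ι ∘ₗ π = E := by
        apply LinearMap.ext
        intro r
        exact congrArg Subtype.val ((LinearEquiv.ofInjective ι hS.1).apply_symm_apply ⟨E r, hE r⟩)
      have hπι : π ∘ₗ ι = LinearMap.id := by
        apply LinearMap.ext
        intro s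
        apply hS.1
        change (ι ∘ₗ π) (ι s) = ι s
        rw [hιπ]
        change c • (lam (algebraMap S R s) + algebraMap S R s) = algebraMap S R s
        rw [lam.commutes, ← two_smul S (algebraMap S R s), smul_smul]
        have : c * 2 = 1 := hc
        rw [this, one_smul]
      constructor
      · apply Function.LeftInverse.injective (g := LinearMap.lTensor S' π)
        intro x
        rw [← LinearMap.comp_apply, ← LinearMap.lTensor_comp, hπι, LinearMap.lTensor_id,
          LinearMap.id_apply]
      · intro x hx
        refine ⟨LinearMap.lTensor S' π x, ?_⟩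
        rw [← LinearMap.comp_apply, ← LinearMap.lTensor_comp, hιπ]
        change LinearMap.lTensor S' (c • (lam.toLinearMap + (LinearMap.id : R →ₗ[S] R))) x = x
        rw [LinearMap.lTensor_smul, LinearMap.lTensor_add, LinearMap.smul_apply, LinearMap.add_apply,
          ← hΛl, hx, LinearMap.lTensor_id, LinearMap.id_apply, ← two_smul S x, smul_smul]
        have : c * 2 = 1 := hc
        rw [this, one_smul]
  refine ⟨?_, ?_⟩
  · intro a b hab
    rw [halg, halg] at hab
    exact (TensorProduct.rid S S').symm.injective (key.1 hab)
  · intro x
    constructor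
    · intro hx
      obtain ⟨y, rfl⟩ := key.2 x hx
      refine ⟨TensorProduct.rid S S' y, ?_⟩
      rw [halg, LinearEquiv.symm_apply_apply]
    · rintro ⟨s', rfl⟩
      change Λ _ = _
      rw [Algebra.TensorProduct.algebraMap_apply]
      simp [hΛ]

end Groth.Agent.S15586
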