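import Groth.Statements.S7587
-- import your own Groth.Agent.* helpers here
import Groth.Agent.Lib.Helper12.ShBasisGerm

set_option autoImplicit false
universe u
open ShSp

namespace Groth.Agent.S7587

/-- Let X be a topological space, ℬ a basis for its topology, U ∈ ℬ and F a sheaf of sets on ℬ. Sending
a section over U to its germs at the points of U, a map from F(U) into the product of the stalks F_x
over x ∈ U, puts F(U) in bijection with those germ families (s_x)_{x ∈ U} that satisfy (*): each x ∈
U lies in some V ∈ ℬ contained in U carrying a section σ ∈ F(V) whose germ at every y ∈ V equals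
s_y. That is, the map is injective and its image is exactly the set of such families. -/
theorem result {X : Type u} [TopologicalSpace X] {B : Set (TopologicalSpace.Opens X)}
    (hB : TopologicalSpace.Opens.IsBasis B) (F : ShB.Pre B) (hF : ShB.IsSheaf F) (U : B) :
    Function.Injective (fun (s : F.obj U) (x : (U : TopologicalSpace.Opens X)) => ShB.germ F x.1 x.2 s) ∧
    ∀ f : ∀ x : (U : TopologicalSpace.Opens X), ShB.Stalk F x.1,
      (∃ s : F.obj U, ∀ x, ShB.germ F x.1 x.2 s = f x) ↔
      ∀ x : (U : TopologicalSpace.Opens X), ∃ (V : B) (hxV : x.1 ∈ (V : TopologicalSpace.Opens X))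
        (hVU : (V : TopologicalSpace.Opens X) ≤ (U : TopologicalSpace.Opens X)) (σ : F.obj V),
        ∀ (y : X) (hy : y ∈ (V : TopologicalSpace.Opens X)), ShB.germ F y hy σ = f ⟨y, hVU hy⟩ := by
  open Groth.Agent.Lib.Helper12.ShBasis in
  refine ⟨?_, ?_⟩
  · intro s t h
    apply eq_of_germ_eq hB F hF U s t
    intro x hx
    exact congrFun h ⟨x, hx⟩
  · intro f
    constructor
    · rintro ⟨s, hs⟩ x
      exact ⟨U, x.2, le_refl _, s, fun y hy => hs ⟨y, hy⟩⟩
    · intro h
      choose V hxV hVU σ hσ using h
      -- compatibility of the local sections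
      have hcompat : ∀ (x x' : (U : TopologicalSpace.Opens X)) (y : X)
          (hy : y ∈ (V x : TopologicalSpace.Opens X) ⊓ (V x' : TopologicalSpace.Opens X)),
          ∃ (W : B) (_ : y ∈ (W : TopologicalSpace.Opens X))
            (h1 : (W : TopologicalSpace.Opens X) ≤ (V x : TopologicalSpace.Opens X))
            (h2 : (W : TopologicalSpace.Opens X) ≤ (V x' : TopologicalSpace.Opens X)),
            F.res h1 (σ x) = F.res h2 (σ x') := by
        intro x x' y hy
        apply (germ_eq_iff hB F y hy.1 hy.2 (σ x) (σ x')).1
        rw [hσ x y hy.1, hσ x' y hy.2]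
      choose W hyW hW1 hW2 hWeq using hcompat
      let c : ShB.Cover B :=
        { U := U
          ι := (U : TopologicalSpace.Opens X)
          V := V
          V_le := hVU
          V_cover := by
            intro x hx
            rw [TopologicalSpace.Opens.mem_iSup]
            exact ⟨⟨x, hx⟩, hxV ⟨x, hx⟩⟩
          κ := fun x x' => {y : X // y ∈ (V x : TopologicalSpace.Opens X) ⊓ (V x' : TopologicalSpace.Opens X)}
          W := fun x x' y => W x x' y.1 y.2
          W_le_left := fun x x' y => hW1 x x' y.1 y.2
          W_le_right := fun x x' y => hW2 x x' y.1 y.2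
          W_cover := by
            intro x x' y hy
            rw [TopologicalSpace.Opens.mem_iSup]
            exact ⟨⟨y, hy⟩, hyW x x' y hy⟩ }
      obtain ⟨t, ht, -⟩ := hF c σ (fun x x' y => hWeq x x' y.1 y.2)
      refine ⟨t, fun x => ?_⟩
      have h1 : F.res (hVU x) t = σ x := ht x
      rw [← germ_res F (hVU x) x.1 (hxV x) t, h1]
      exact hσ x x.1 (hxV x)

end Groth.Agent.S7587
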