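import Groth.Statements.S1199
import Mathlib

set_option autoImplicit false
universe u
open FlatMor

namespace Groth.Agent.S1199

open TensorProduct in
theorem finite_tensor {R S : Type u} [CommRing R] [CommRing S] [Algebra R S]
    (N : Type u) [AddCommGroup N] [Module S N] [Module R N] [IsScalarTower R S N] [Module.Finite S N]
    (Q : Type u) [AddCommGroup Q] [Module R Q] [Module.Finite R Q] :
    Module.Finite S (N ⊗[R] Q) := by
  classical
  obtain ⟨k, g, hg⟩ := Module.Finite.exists_fin' R Q
  have hsurj : Function.Surjective (TensorProduct.AlgebraTensorModule.lTensor S N g) := by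
    have : ⇑(TensorProduct.AlgebraTensorModule.lTensor S N g) = ⇑(LinearMap.lTensor N g) := rfl
    rw [this]
    exact LinearMap.lTensor_surjective N hg
  exact Module.Finite.of_surjective
    ((TensorProduct.AlgebraTensorModule.lTensor S N g) ∘ₗ
      (TensorProduct.piScalarRight R S N (Fin k)).symm.toLinearMap)
    (hsurj.comp (TensorProduct.piScalarRight R S N (Fin k)).symm.surjective)

open TensorProduct in
theorem mem_pow_smul_top {R : Type u} [CommRing R] (I : Ideal R)
    (N : Type u) [AddCommGroup N] [Module R N]
    (Q : Type u) [AddCommGroup Q] [Module R Q] (n : ℕ)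
    (x : N ⊗[R] Q) (hx : (AdicCompletion.of I N).rTensor Q x = 0) :
    x ∈ (I ^ n • ⊤ : Submodule R (N ⊗[R] Q)) := by
  have h1 : (Submodule.mkQ (I ^ n • ⊤ : Submodule R N)).rTensor Q x = 0 := by
    rw [← AdicCompletion.eval_comp_of, LinearMap.rTensor_comp, LinearMap.comp_apply, hx, map_zero]
  have hex := rTensor_exact Q (LinearMap.exact_subtype_mkQ (I ^ n • ⊤ : Submodule R N))
    (Submodule.mkQ_surjective _)
  obtain ⟨y, rfl⟩ := (hex x).1 h1
  clear hx h1
  induction y using TensorProduct.induction_on with
  | zero => simp
  | tmul m q =>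
    obtain ⟨m, hm⟩ := m
    rw [LinearMap.rTensor_tmul]
    change m ⊗ₜ[R] q ∈ _
    refine Submodule.smul_induction_on hm ?_ ?_
    · intro r hr n₀ _
      rw [← TensorProduct.smul_tmul']
      exact Submodule.smul_mem_smul hr Submodule.mem_top
    · intro a b ha hb
      rw [TensorProduct.add_tmul]
      exact Submodule.add_mem _ ha hb
  | add y z hy hz =>
    rw [map_add]
    exact Submodule.add_mem _ hy hz

open TensorProduct in
theorem fin_case {R S : Type u} [CommRing R] [CommRing S] [Algebra R S] [IsNoetherianRing S]
    (I : Ideal R)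
    (N : Type u) [AddCommGroup N] [Module S N] [Module R N] [IsScalarTower R S N] [Module.Finite S N]
    (Q : Type u) [AddCommGroup Q] [Module R Q] [Module.Finite R Q]
    (hQ : ∀ q ∈ associatedPrimes S (N ⊗[R] Q), I.map (algebraMap R S) ⊔ q ≠ ⊤)
    (x : N ⊗[R] Q) (hx : (AdicCompletion.of I N).rTensor Q x = 0) : x = 0 := by
  haveI : Module.Finite S (N ⊗[R] Q) := finite_tensor N Q
  have hmem : x ∈ (⨅ n : ℕ, (I.map (algebraMap R S)) ^ n • ⊤ : Submodule S (N ⊗[R] Q)) := by
    rw [Submodule.mem_iInf]
    intro n
    have h1 := mem_pow_smul_top I N Q n x hx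
    refine Submodule.smul_induction_on h1 ?_ ?_
    · intro r hr p _
      rw [← algebraMap_smul S r p]
      refine Submodule.smul_mem_smul ?_ Submodule.mem_top
      rw [← Ideal.map_pow]
      exact Ideal.mem_map_of_mem _ hr
    · intro a b ha hb
      exact Submodule.add_mem _ ha hb
  rw [Ideal.mem_iInf_smul_pow_eq_bot_iff] at hmem
  obtain ⟨⟨a, ha⟩, hax⟩ := hmem
  by_contra hne
  obtain ⟨q, hq, hle⟩ := exists_le_isAssociatedPrime_of_isNoetherianRing S x hne
  apply hQ q hq
  rw [Ideal.eq_top_iff_one]
  have h1a : (1 - a) ∈ q := by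
    apply hle
    rw [Submodule.mem_colon_singleton, sub_smul, one_smul]
    change x - a • x ∈ (⊥ : Submodule S (N ⊗[R] Q))
    rw [hax, sub_self]
    exact Submodule.zero_mem _
  have : (1 : S) = a + (1 - a) := by ring
  rw [this]
  exact Submodule.add_mem_sup ha h1a


open TensorProduct in
/-- Let R → S be a map of Noetherian rings, I an ideal of R and N a finite S-module. Assume that for
every finite R-module Q and every associated prime q of the S-module N ⊗_R Q the ideal IS + q is
proper. Then the canonical map from N to its I-adic completion is universally injective as a map of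
R-modules. -/
theorem result {R S : Type u} [CommRing R] [CommRing S] [Algebra R S] [IsNoetherianRing R] [IsNoetherianRing S] (I : Ideal R)
    (N : Type u) [AddCommGroup N] [Module S N] [Module R N] [IsScalarTower R S N] [Module.Finite S N]
    (h : ∀ (Q : Type u) [AddCommGroup Q] [Module R Q], Module.Finite R Q →
      ∀ q ∈ associatedPrimes S (N ⊗[R] Q), I.map (algebraMap R S) ⊔ q ≠ ⊤) :
    FlatCA.UnivInj R (AdicCompletion.of I N) := by
  classical
  intro Q _ _
  rw [injective_iff_map_eq_zero]
  intro x hx
  -- reduce to a finitely generated submodule of Q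
  obtain ⟨P, hP, ⟨t, ht⟩⟩ := TensorProduct.exists_of_fg (R := R) (M := Q) (N := N) x
  -- image of t in P ⊗ N^
  set f := AdicCompletion.of I N with hf
  have h1 : LinearMap.rTensor (AdicCompletion I N) P.subtype (LinearMap.lTensor P f t) = 0 := by
    have : LinearMap.rTensor (AdicCompletion I N) P.subtype (LinearMap.lTensor P f t) =
        LinearMap.lTensor Q f (LinearMap.rTensor N P.subtype t) := by
      rw [← LinearMap.comp_apply, ← LinearMap.comp_apply, LinearMap.rTensor_comp_lTensor,
        LinearMap.lTensor_comp_rTensor]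
    rw [this, ht, hx]
  obtain ⟨P', hPP', hP', h2⟩ := TensorProduct.eq_zero_of_fg_of_subtype_eq_zero hP h1
  -- move to P'
  set t' := LinearMap.rTensor N (Submodule.inclusion hPP') t with ht'
  have h3 : LinearMap.lTensor P' f t' = 0 := by
    rw [ht', ← LinearMap.comp_apply, LinearMap.lTensor_comp_rTensor, ← LinearMap.rTensor_comp_lTensor,
      LinearMap.comp_apply, h2]
  haveI : Module.Finite R P' := Module.Finite.iff_fg.2 hP'
  have h4 : t' = 0 := by
    have hcomm : (TensorProduct.comm R P' N) t' = 0 := by
      apply fin_case I N P' (h P' inferInstance)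
      have : LinearMap.rTensor P' f ((TensorProduct.comm R P' N) t') =
          (TensorProduct.comm R P' (AdicCompletion I N)) (LinearMap.lTensor P' f t') := by
        exact LinearMap.rTensor_comm f t'
      rw [this, h3, map_zero]
    exact (TensorProduct.comm R P' N).injective (by rw [hcomm, map_zero])
  rw [← ht]
  have : LinearMap.rTensor N P.subtype t = LinearMap.rTensor N P'.subtype t' := by
    rw [ht', ← LinearMap.comp_apply, ← LinearMap.rTensor_comp]
    rfl
  rw [this, h4, map_zero]

end Groth.Agent.S1199
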