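import Groth.Statements.S11179
import Mathlib

set_option autoImplicit false
universe u
open CategoryTheory
attribute [local instance] HasDerivedCategory.standard
open Goren

namespace Groth.Agent.S11179

section helpers
open CategoryTheory
open Goren

open CategoryTheory.Abelian DerivedCategory in
/-- maps `M[0] → N[i]` in `D(A)` vanish for `i < 0` -/
theorem subsingleton_hom_neg {A : Type u} [CommRing A] (M N : ModuleCat.{u} A) (i : ℤ) (hi : i < 0) :
    Subsingleton ((singleFunctor (ModuleCat.{u} A) 0).obj M ⟶
      ((singleFunctor (ModuleCat.{u} A) 0).obj N)⟦i⟧) := by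
  refine ⟨fun f g => ?_⟩
  have : TStructure.t.IsGE (((singleFunctor (ModuleCat.{u} A) 0).obj N)⟦i⟧) (0 - i) :=
    TStructure.t.isGE_shift _ 0 i (0 - i) (by lia)
  rw [TStructure.t.zero f 0 (0 - i) (by lia), TStructure.t.zero g 0 (0 - i) (by lia)]

open CategoryTheory.Abelian DerivedCategory in
/-- maps `M[0] → N[i]` for `i = k ≥ 0` are `Ext^k` -/
theorem subsingleton_hom_iff {A : Type u} [CommRing A] (M N : ModuleCat.{u} A) (k : ℕ) :
    Subsingleton ((singleFunctor (ModuleCat.{u} A) 0).obj M ⟶
      ((singleFunctor (ModuleCat.{u} A) 0).obj N)⟦(k : ℤ)⟧) ↔ Subsingleton (Ext.{u} M N k) :=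
  (Ext.homEquiv (X := M) (Y := N) (n := k)).symm.subsingleton_congr

end helpers

/-- A Noetherian local ring A is Gorenstein (A has finite injective dimension as a module over itself)
if and only if the complex A[0] is a dualizing complex for A (finite injective dimension expressed
by vanishing of maps M[0] → A[i] in D(A) outside a bounded range, finite cohomology, A → End(A[0])
bijective and no self-maps of nonzero degree). -/
theorem result (A : Type u) [CommRing A] [IsLocalRing A] [IsNoetherianRing A] : LocCoh.IsGorensteinLocalRing A ↔ Dual.IsDualizing A (Dual.inD A A) := by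
  constructor
  · intro hG
    obtain ⟨n, hn⟩ := hG.exists_hasInjectiveDimensionLT
    refine ⟨inferInstance, ⟨0, n, ?_⟩, ?_, ?_, ?_⟩
    · intro M _ _ i hi
      rcases hi with hi | hi
      · exact subsingleton_hom_neg _ _ i hi
      · obtain ⟨k, rfl⟩ := Int.eq_ofNat_of_zero_le (le_trans (Int.natCast_nonneg n) hi.le)
        rw [subsingleton_hom_iff]
        exact HasInjectiveDimensionLT.subsingleton _ n k (by exact_mod_cast hi.le) _
    · intro i
      by_cases hi : i = 0
      · subst hi
        have hA : Module.Finite A ((𝟭 (ModuleCat.{u} A)).obj (ModuleCat.of A A)) :=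
          inferInstanceAs (Module.Finite A A)
        exact Module.Finite.equiv
          ((DerivedCategory.singleFunctorCompHomologyFunctorIso (ModuleCat.{u} A) 0).app
            (ModuleCat.of A A)).symm.toLinearEquiv
      · have hz : Limits.IsZero ((DerivedCategory.homologyFunctor (ModuleCat.{u} A) i).obj
            (Dual.inD A A)) := by
          rcases lt_or_gt_of_ne hi with h | h
          · exact DerivedCategory.isZero_of_isGE _ 0 i h
          · exact DerivedCategory.isZero_of_isLE _ 0 i h
        have := ModuleCat.subsingleton_of_isZero hz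
        infer_instance
    · -- A → End(A[0]) bijective
      have h1 : ∀ a : A, a • 𝟙 (Dual.inD A A) =
          (DerivedCategory.singleFunctor (ModuleCat.{u} A) 0).map (a • 𝟙 (ModuleCat.of A A)) := by
        intro a
        rw [Functor.map_smul, CategoryTheory.Functor.map_id]
      constructor
      · intro a b hab
        simp only [h1] at hab
        have := (DerivedCategory.singleFunctor (ModuleCat.{u} A) 0).map_injective hab
        have := congr($(this).hom (1 : A))
        simpa using this
      · intro φ
        obtain ⟨g, rfl⟩ := (DerivedCategory.singleFunctor (ModuleCat.{u} A) 0).map_surjective φ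
        refine ⟨g.hom (1 : A), ?_⟩
        show (g.hom (1 : A)) • 𝟙 (Dual.inD A A) = _
        rw [h1]
        congr 1
        ext
        simp
    · intro i hi
      rcases lt_or_gt_of_ne hi with h | h
      · exact subsingleton_hom_neg _ _ i h
      · obtain ⟨k, rfl⟩ := Int.eq_ofNat_of_zero_le h.le
        rw [subsingleton_hom_iff]
        have hk : 1 ≤ k := by exact_mod_cast h
        exact HasProjectiveDimensionLT.subsingleton (ModuleCat.of A A) 1 k hk _
  · intro hD
    obtain ⟨a, b, hab⟩ := hD.finite_injective_dimension
    refine { exists_hasInjectiveDimensionLT := ⟨b.toNat + 1, ?_⟩ }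
    rw [hasInjectiveDimensionLT_iff]
    intro k hk Y e
    have hs : Subsingleton (Abelian.Ext.{u} Y (ModuleCat.of A A) k) := by
      rw [← subsingleton_hom_iff]
      exact hab Y (k : ℤ) (Or.inr (by lia))
    exact Subsingleton.elim _ _

end Groth.Agent.S11179
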