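import Groth.Statements.S0367
import Groth.Agent.Lib.Helper13.DualBC16

set_option autoImplicit false
universe u v
open CategoryTheory
attribute [local instance] HasDerivedCategory.standard
open Dual

namespace Groth.Agent.S0367

/-- For a Noetherian local ring with normalized dualizing complex ω and a finite module M with mM ≠ M,
the depth of M is the least δ ≥ 0 with Hom(M, ω[−δ]) nonzero in D(A). -/
theorem result (A : Type u) [CommRing A] [IsLocalRing A] [IsNoetherianRing A] (ω : Dual.D A) (hω : Dual.IsDualizing A ω) (hn : Dual.IsNormalized A ω) (M : Type u) [AddCommGroup M] [Module A M] [Module.Finite A M] [Nontrivial M] (n : ℕ) : LocCoh.depth A M = n ↔ ((∀ δ : ℕ, δ < n → Subsingleton (Dual.inD A M ⟶ ω⟦(-(δ : ℤ))⟧)) ∧ Nontrivial (Dual.inD A M ⟶ ω⟦(-(n : ℤ))⟧)) := by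
  have haux := Groth.Agent.Lib.Helper13.DualBC.depth_ext_aux ω hω hn
  constructor
  · intro h
    exact haux n M h
  · rintro ⟨h1, h2⟩
    obtain ⟨n', hn'⟩ := ENat.ne_top_iff_exists.mp
      (Groth.Agent.Lib.Helper18.CM.depth_ne_top (R := A) M)
    obtain ⟨k1, k2⟩ := haux n' M hn'.symm
    rcases lt_trichotomy n n' with hlt | heq | hgt
    · exact absurd (k1 n hlt) (not_subsingleton_iff_nontrivial.2 h2)
    · rw [← hn', heq]
    · exact absurd (h1 n' hgt) (not_subsingleton_iff_nontrivial.2 k2)

end Groth.Agent.S0367
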