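import Groth.Statements.S0365
import Groth.Agent.Lib.Helper13.DualBC16
import Groth.Agent.S0367

set_option autoImplicit false
universe u v
open CategoryTheory
attribute [local instance] HasDerivedCategory.standard
open Dual

namespace Groth.Agent.S0365

/-- For a Noetherian local ring with normalized dualizing complex ω, the depth of the ring is the least
δ ≥ 0 with H^{-δ}(ω) nonzero. -/
theorem result (A : Type u) [CommRing A] [IsLocalRing A] [IsNoetherianRing A] (ω : Dual.D A) (hω : Dual.IsDualizing A ω) (hn : Dual.IsNormalized A ω) (n : ℕ) : LocCoh.depth A A = n ↔ ((∀ δ : ℕ, δ < n → Subsingleton (Dual.HD A ω (-(δ : ℤ)))) ∧ Nontrivial (Dual.HD A ω (-(n : ℤ)))) := by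
  have e : ∀ i : ℤ, (Dual.inD A A ⟶ ω⟦i⟧) ≃ Dual.HD A ω i := fun i =>
    (Groth.Agent.Lib.Helper13.HomBC.evHEquiv 0 (ω⟦i⟧)).toEquiv.trans
      (show ((DerivedCategory.homologyFunctor (ModuleCat.{u} A) 0).obj (ω⟦i⟧)) ≃
          (((DerivedCategory.homologyFunctor (ModuleCat.{u} A) 0).shift (i + 0)).obj ω) from
        (((DerivedCategory.homologyFunctor (ModuleCat.{u} A) 0).shiftIso i 0 (i + 0) rfl).app
          ω).toLinearEquiv.toEquiv) |>.trans (Equiv.cast (by rw [add_zero]; rfl))
  rw [Groth.Agent.S0367.result A ω hω hn A n]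
  constructor
  · rintro ⟨h1, h2⟩
    exact ⟨fun δ hδ => (e _).subsingleton_congr.1 (h1 δ hδ), (e _).nontrivial_congr.1 h2⟩
  · rintro ⟨h1, h2⟩
    exact ⟨fun δ hδ => (e _).subsingleton_congr.2 (h1 δ hδ), (e _).nontrivial_congr.2 h2⟩

end Groth.Agent.S0365
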