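import Groth.Statements.S0368
import Groth.Agent.Lib.Helper13.DualBC17

set_option autoImplicit false
universe u v
open CategoryTheory
attribute [local instance] HasDerivedCategory.standard
open Dual

namespace Groth.Agent.S0368

/-- (1)⇔(3): for a Noetherian local ring with normalized dualizing complex ω, a nonzero finite module M
with support of dimension d is Cohen–Macaulay exactly when Hom(M, ω[−i]) vanishes in D(A) for every
i ≠ d. -/
theorem result (A : Type u) [CommRing A] [IsLocalRing A] [IsNoetherianRing A] (ω : Dual.D A) (hω : Dual.IsDualizing A ω) (hn : Dual.IsNormalized A ω) (M : Type u) [AddCommGroup M] [Module A M] [Module.Finite A M] [Nontrivial M] (d : ℕ) (hd : Module.supportDim A M = d) : LocCoh.IsCohenMacaulayModule A M ↔ ∀ i : ℤ, i ≠ d → Subsingleton (Dual.inD A M ⟶ ω⟦(-i)⟧) := by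
  have haux := Groth.Agent.Lib.Helper13.DualBC.depth_ext_aux ω hω hn
  obtain ⟨n', hn'⟩ := ENat.ne_top_iff_exists.mp
    (Groth.Agent.Lib.Helper18.CM.depth_ne_top (R := A) M)
  obtain ⟨k1, k2⟩ := haux n' M hn'.symm
  unfold LocCoh.IsCohenMacaulayModule
  rw [hd, ← hn']
  constructor
  · intro h
    have hdn : d = n' := by exact_mod_cast h
    subst hdn
    intro i hi
    by_cases h0 : 0 ≤ i
    · by_cases hlt : i < d
      · obtain ⟨j, rfl⟩ := Int.eq_ofNat_of_zero_le h0
        exact k1 j (by exact_mod_cast hlt)
      · exact (Groth.Agent.Lib.Helper13.DualBC.extClaim ω hω hn d M (le_of_eq hd) (-i)).1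
          (by omega)
    · exact Groth.Agent.Lib.Helper13.DualBC.subsingleton_ext_pos ω hω hn M (-i) (by omega)
  · intro h
    by_contra hne
    have hne' : (n' : ℤ) ≠ d := by
      intro heq
      apply hne
      have : n' = d := by exact_mod_cast heq
      rw [this]
      rfl
    exact not_subsingleton _ (h n' hne')

end Groth.Agent.S0368
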