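import Groth.Statements.S11185
import Groth.Agent.Lib.Helper13.RegGlDim
import Groth.Agent.Lib.Helper13.DRingGlDim
import Mathlib.Algebra.Homology.DerivedCategory.Linear
import Mathlib.Algebra.Homology.DerivedCategory.FullyFaithful

set_option autoImplicit false
universe u
open CategoryTheory
attribute [local instance] HasDerivedCategory.standard
open Dual

namespace Groth.Agent.S11185

/-- Let A be a Noetherian ring all of whose local rings A_p at primes are regular and whose Krull
dimension is finite. Then the complex A[0] is a dualizing complex for A (finite injective dimension,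
finite cohomology, A → End(A[0]) bijective and no self-maps of nonzero degree). -/
theorem result (A : Type u) [CommRing A] [IsNoetherianRing A] (hreg : ∀ p : PrimeSpectrum A, IsRegularLocalRing (Localization.AtPrime p.asIdeal)) (hdim : ringKrullDim A < ⊤) : Dual.IsDualizing A (Dual.inD A A) := by
  open Groth.Agent.Lib.Helper13.DR Groth.Agent.Lib.Helper13.PC DerivedCategory in
  obtain ⟨d, hd⟩ : ∃ d : ℕ, ringKrullDim A ≤ d := by
    generalize ringKrullDim A = x at hdim
    induction x using WithBot.recBotCoe with
    | bot => exact ⟨0, bot_le⟩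
    | coe n =>
      have hn : n ≠ ⊤ := by
        rintro rfl
        exact lt_irrefl _ hdim
      obtain ⟨m, rfl⟩ := ENat.ne_top_iff_exists.1 hn
      exact ⟨m, le_rfl⟩
  have hgl := Groth.Agent.Lib.Helper13.RP.hasProjectiveDimensionLT_of_regular A hreg d hd
  let t := (DerivedCategory.TStructure.t : Triangulated.TStructure (Dual.D A))
  have hneg : ∀ (M : Type u) [AddCommGroup M] [Module A M] (i : ℤ), i < 0 →
      Subsingleton (Dual.inD A M ⟶ (Dual.inD A A)⟦i⟧) := by
    intro M _ _ i hi
    have h1 : t.IsLE (Dual.inD A M) 0 := (inferInstance : (Dual.inD A M).IsLE 0)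
    have h0 : t.IsGE (Dual.inD A A) 0 := (inferInstance : (Dual.inD A A).IsGE 0)
    have h2 : t.IsGE ((Dual.inD A A)⟦i⟧) (-i) := t.isGE_shift (Dual.inD A A) 0 i (-i) (by lia)
    refine ⟨fun f g => ?_⟩
    rw [t.zero_of_isLE_of_isGE f 0 (-i) (by lia) h1 h2,
      t.zero_of_isLE_of_isGE g 0 (-i) (by lia) h1 h2]
  refine ⟨inferInstance, ⟨0, d, fun M _ _ i hi => ?_⟩, fun i => ?_, ?_, fun i hi => ?_⟩
  · rcases hi with hi | hi
    · exact hneg M i hi
    · have := hgl (ModuleCat.of A M)
      exact subsingleton_hom_of_hasProjectiveDimensionLT (ModuleCat.of A M) (ModuleCat.of A A)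
        (d + 1) i (by push_cast; lia)
  · have h1 : DRing.IsPseudoCoherent' A (Dual.inD A A) :=
      (isPseudoCoherentModule'_iff_of_isNoetherianRing A).2 inferInstance
    have h2 := (isPseudoCoherent'_iff _).1 h1 i
    exact ((isPseudoCoherent_iff_of_isNoetherianRing i _).1 ((isPseudoCoherent_iff i _).2 h2)).2 i
      le_rfl
  · let F := DerivedCategory.singleFunctor (ModuleCat.{u} A) 0
    have h : ∀ a : A, a • 𝟙 (Dual.inD A A) = F.map (a • 𝟙 (ModuleCat.of A A)) := fun a => by
      rw [F.map_smul, F.map_id]
    constructor
    · intro a b hab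
      simp only [h] at hab
      have h1 := F.map_injective hab
      have h2 := congrArg (fun f => f.hom (1 : A)) h1
      simpa using h2
    · intro f
      obtain ⟨g, rfl⟩ := F.map_surjective f
      refine ⟨g.hom (1 : A), ?_⟩
      change g.hom (1 : A) • 𝟙 (Dual.inD A A) = _
      rw [h]
      congr 1
      ext
      simp
  · rcases lt_or_gt_of_ne hi with hi | hi
    · exact hneg A i hi
    · have : Projective (ModuleCat.of A A) := (projective_iff _).2 inferInstance
      exact subsingleton_hom_of_hasProjectiveDimensionLT (ModuleCat.of A A) (ModuleCat.of A A)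
        1 i (by push_cast; lia)

end Groth.Agent.S11185
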