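import Groth.Statements.S0376
import Groth.Agent.Lib.Helper13.DualBC18
import Groth.Agent.S11185
import Groth.Agent.Lib.Helper18.CST2
import Groth.Agent.Lib.Helper18.SerreReg2

set_option autoImplicit false
universe u v
open CategoryTheory
attribute [local instance] HasDerivedCategory.standard
open Dual

namespace Groth.Agent.S0376

/-- A complete Noetherian local ring has a dualizing complex. -/
theorem result (A : Type u) [CommRing A] [IsLocalRing A] [IsNoetherianRing A] [IsAdicComplete (IsLocalRing.maximalIdeal A) A] : ∃ ω : Dual.D A, Dual.IsDualizing A ω := by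
  obtain ⟨S, _, hS, f, hf⟩ := Groth.Agent.Lib.Helper18.CST.exists_regular_presentation A
  have hSn : IsNoetherianRing S := inferInstance
  have hωS : Dual.IsDualizing S (Dual.inD S S) :=
    Groth.Agent.S11185.result S
      (fun p => Groth.Agent.Lib.Helper18.SerreReg.isRegularLocalRing_localization_atPrime S
        p.asIdeal) ringKrullDim_lt_top
  let _ : Algebra S A := f.toAlgebra
  have hfin : Module.Finite S A := Module.Finite.of_surjective (Algebra.linearMap S A) hf
  exact ⟨_, Groth.Agent.Lib.Helper13.BD.isDualizing_Rco S A (Dual.inD S S) hωS⟩

end Groth.Agent.S0376
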