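import Groth.Statements.S1820
import Groth.Agent.Lib.Helper13.GlobalMix3
import Groth.Agent.Lib.Helper13.RelDual1

set_option autoImplicit false
universe u
open CategoryTheory
attribute [local instance] HasDerivedCategory.standard
open Dual2

namespace Groth.Agent.S1820

/-- For φ flat of finite type (a perfect ring map). Let R → A be a ring map between Noetherian rings
which is flat and of finite type, where φ^!(K) is formed from a presentation ψ : R[x_1, …, x_n] → A
as RHom_P(A, K ⊗^L_R P)[n], assuming the derived base change to P exists and taking for RHom_P(A, −)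
a right adjoint of restriction of scalars along ψ; let W be a complex of A-modules representing
ω_{A/R} = φ^!(R). Assuming the derived base change D(R) → D(A) and the derived tensor product −
⊗^L_A W exist, for every K in D(R) there is an isomorphism φ^!(K) ≅ (K ⊗^L_R A) ⊗^L_A W. -/
theorem result (R A : Type u) [CommRing R] [CommRing A] [IsNoetherianRing R] [IsNoetherianRing A] [Algebra R A] [Module.Flat R A] (n : ℕ) (ψ : MvPolynomial (Fin n) R →ₐ[R] A) (hψ : Function.Surjective ψ) [DRing.HasLBaseChange (algebraMap R (MvPolynomial (Fin n) R))] (Rψ : Dual.D (MvPolynomial (Fin n) R) ⥤ Dual.D A) (adj : DRing.restrictD ψ.toRingHom ⊣ Rψ) (W : DRing.Cx A) (hW : Nonempty (DRing.toD W ≅ Dual2.shriekVia n Rψ (Dual.inD R R))) [DRing.HasLBaseChange (algebraMap R A)] [DRing.HasLTensorCx A W] (K : Dual.D R) : Nonempty (Dual2.shriekVia n Rψ K ≅ (DRing.LTensorCx A W).obj ((DRing.LBaseChange (algebraMap R A)).obj K)) := by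
  classical
  let P := MvPolynomial (Fin n) R
  let _ : Algebra P A := ψ.toRingHom.toAlgebra
  have : IsScalarTower R P A := IsScalarTower.of_algebraMap_eq fun r => (ψ.commutes r).symm
  have hfinA : Module.Finite P A := Module.Finite.of_surjective (Algebra.linearMap P A) hψ
  have hperfA : DRing.IsPerfectModule P A :=
    Groth.Agent.Lib.Helper13.PS.isPerfectModule_of_hasFiniteTorDim R A n
      ((Groth.Agent.Lib.Helper13.DR.isPseudoCoherentModule'_iff_of_isNoetherianRing (A := P) A).2 hfinA)
      ⟨0, (Groth.Agent.Lib.Helper13.TB.hasTorDimLE_zero_iff_flat R A).2 inferInstance⟩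
  let X₀ := (Groth.Agent.Lib.Helper13.Coind.Rco (algebraMap P A)).obj (Dual.inD P P)
  let W₀ : DRing.Cx A := DerivedCategory.Q.objPreimage X₀
  let e₀ : DerivedCategory.Q.obj W₀ ≅ X₀ := DerivedCategory.Q.objObjPreimageIso X₀
  obtain ⟨eW⟩ := hW
  -- the shriek through the standard coinduction
  let sh : ∀ K : Dual.D R, Dual2.shriekVia n Rψ K ≅
      ((Groth.Agent.Lib.Helper13.Coind.Rco (algebraMap P A)).obj
        ((DRing.LBaseChange (algebraMap R P)).obj K))⟦(n : ℤ)⟧ := fun K =>
    (shiftFunctor (Dual.D A) (n : ℤ)).mapIso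
      ((Groth.Agent.Lib.Helper13.Coind.uniq ψ.toRingHom Rψ adj).app _)
  obtain ⟨i1⟩ := Groth.Agent.Lib.Helper13.GM.nonempty_Rco_iso_LTensorCx P A hperfA W₀ e₀
    ((DRing.LBaseChange (algebraMap R P)).obj K)
  let eW' : DerivedCategory.Q.obj W ≅ (DerivedCategory.Q.obj W₀)⟦(n : ℤ)⟧ :=
    eW ≪≫ sh (Dual.inD R R) ≪≫ (shiftFunctor (Dual.D A) (n : ℤ)).mapIso
      ((Groth.Agent.Lib.Helper13.Coind.Rco (algebraMap P A)).mapIso
        (Groth.Agent.Lib.Helper13.RelDual.LBaseChangeSelfIso R P) ≪≫ e₀.symm)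
  obtain ⟨i2⟩ := Groth.Agent.Lib.Helper13.GM.nonempty_LTensorCx_shift_iso W₀ W (n : ℤ) eW'
    ((DRing.LBaseChange (algebraMap P A)).obj ((DRing.LBaseChange (algebraMap R P)).obj K))
  let i3 : (DRing.LBaseChange (algebraMap P A)).obj ((DRing.LBaseChange (algebraMap R P)).obj K) ≅
      (DRing.LBaseChange (algebraMap R A)).obj K :=
    (Groth.Agent.Lib.Helper13.Shriek.LComp (algebraMap R P) (algebraMap P A) (algebraMap R A)
      (IsScalarTower.algebraMap_eq R P A)).app K
  exact ⟨sh K ≪≫ (shiftFunctor (Dual.D A) (n : ℤ)).mapIso i1 ≪≫ i2 ≪≫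
    (DRing.LTensorCx A W).mapIso i3⟩

end Groth.Agent.S1820
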