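import Groth.Statements.S6974
import Groth.Agent.Lib.Helper13.DRingGlobalSplit
import Groth.Agent.Lib.Helper13.DRingLDerived

set_option autoImplicit false
universe u
open CategoryTheory CategoryTheory.Limits
attribute [local instance] HasDerivedCategory.standard
open DRing

namespace Groth.Agent.S6974

/-- Let R be a commutative ring such that the derived base change D(R) → D(R/m) exists for every ideal
m, let K be a pseudo-coherent object of D(R) and a, b integers. If for every maximal ideal m of R
the cohomology H^i(K ⊗^L_R R/m) vanishes for all i outside [a, b], then K is perfect and has tor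
amplitude in [a, b]. -/
theorem result (R : Type u) [CommRing R]
    [∀ m : Ideal R, DRing.HasLBaseChange (Ideal.Quotient.mk m)] (K : Dual.D R)
    (hK : DRing.IsPseudoCoherent' R K) (a b : ℤ)
    (h : ∀ (m : Ideal R), m.IsMaximal → ∀ i : ℤ, (i < a ∨ b < i) →
      Subsingleton (Dual.HD (R ⧸ m) ((DRing.LBaseChange (Ideal.Quotient.mk m)).obj K) i)) :
    DRing.IsPerfect R K ∧ DRing.HasTorAmplitudeIn R a b K := by
  open Groth.Agent.Lib.Helper13.DR Groth.Agent.Lib.Helper13.PC DerivedCategory in
  obtain ⟨E, c, hc, hff, ⟨e⟩⟩ := hK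
  have hproj : ∀ i : ℤ, Projective (E.X i) := fun i => projective_of_Pfp (Pff_le_Pfp (hff i))
  have : E.IsKProjective := isKProjective_of_forall_projective E c hc hproj
  have key : DRing.HasTorAmplitudeIn R a b (Q.obj E) := by
    refine hasTorAmplitudeIn_of_fibres_vanishing R E c hc hff a b (fun m hm i hi => ?_)
    rw [HomologicalComplex.exactAt_iff_isZero_homology]
    have := h m hm i hi
    have hz : IsZero ((DerivedCategory.homologyFunctor (ModuleCat.{u} (R ⧸ m)) i).obj
        ((DRing.LBaseChange (Ideal.Quotient.mk m)).obj K)) := ModuleCat.isZero_of_subsingleton _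
    exact hz.of_iso ((homologyQIso _ i).symm ≪≫
      (DerivedCategory.homologyFunctor (ModuleCat.{u} (R ⧸ m)) i).mapIso
        ((LBaseChangeIso (Ideal.Quotient.mk m) E).symm ≪≫
          (DRing.LBaseChange (Ideal.Quotient.mk m)).mapIso e))
  have hperf : DRing.IsPerfect R (Q.obj E) :=
    isPerfect_of_isNPC_of_hasTorAmplitudeIn
      (isPC_Q_of_strictPCAll (P := Pff R) (E := E) ⟨⟨c, hc⟩, hff⟩ _) key
  refine ⟨?_, hasTorAmplitudeIn_of_iso e key⟩
  obtain ⟨E', a', b', hv, hfp, ⟨e'⟩⟩ := hperf
  exact ⟨E', a', b', hv, hfp, ⟨e' ≪≫ e⟩⟩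

end Groth.Agent.S6974
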