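import Groth.Statements.S7057
import Groth.Agent.Lib.Helper7.DerivedCompleteMT
import Groth.Agent.Lib.Helper7.FCompleteIdeal
import Groth.Agent.Lib.Helper7.HomologyExactFunctor

set_option autoImplicit false
universe u
attribute [local instance] HasDerivedCategory.standard
open DRing

namespace Groth.Agent.S7057

open Groth.Agent.Lib.Helper7 CategoryTheory

/-- `f`-completeness of a restricted module. -/
lemma isFComplete_restrictScalars_iff {A B : Type u} [CommRing A] [CommRing B] (φ : A →+* B)
    (N : ModuleCat.{u} B) (f : A) :
    FComplete.IsFComplete f ((ModuleCat.restrictScalars φ).obj N) ↔ FComplete.IsFComplete (φ f) N := by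
  have : (FComplete.Δ f ((ModuleCat.restrictScalars φ).obj N) :
      (ℕ → (ModuleCat.restrictScalars φ).obj N) → (ℕ → (ModuleCat.restrictScalars φ).obj N)) =
      (FComplete.Δ (φ f) N : (ℕ → N) → (ℕ → N)) := by
    funext m n
    rfl
  rw [FComplete.IsFComplete, FComplete.IsFComplete]
  exact Iff.of_eq (congrArg Function.Bijective this)


/-- For a homomorphism of commutative rings A → B, an ideal I of A and an object L of D(B), L is derived
complete with respect to the extended ideal IB if and only if L viewed in D(A) by restriction of
scalars is derived complete with respect to I. -/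
theorem result {A B : Type u} [CommRing A] [CommRing B] (φ : A →+* B)
    (I : Ideal A) (L : Dual.D B) :
    DRing.IsDerivedComplete (I.map φ) L ↔ DRing.IsDerivedComplete I ((DRing.restrictD φ).obj L) := by
  rw [DerivedCompleteMT.isDerivedComplete_iff, DerivedCompleteMT.isDerivedComplete_iff]
  have key : ∀ (f : A) (i : ℤ), FComplete.IsFComplete f (Dual.HD A ((DRing.restrictD φ).obj L) i) ↔
      FComplete.IsFComplete (φ f) (Dual.HD B L i) := by
    intro f i
    rw [← isFComplete_restrictScalars_iff φ]
    let e := (HomologyExactFunctor.homologyMapDerivedCategoryIso (ModuleCat.restrictScalars.{u} φ) L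
      i).toLinearEquiv
    exact ⟨fun h => h.of_linearEquiv e, fun h => h.of_linearEquiv e.symm⟩
  constructor
  · intro h f hf i
    rw [key]
    exact h (φ f) (Ideal.mem_map_of_mem φ hf) i
  · intro h g hg i
    refine FComplete.isFComplete_of_mem_span (S := φ '' I) ?_ hg
    rintro _ ⟨f, hf, rfl⟩
    rw [← key]
    exact h f hf i

end Groth.Agent.S7057
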