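import Groth.Statements.S2137
import Groth.Agent.Lib.Helper13.DRingPCBC

set_option autoImplicit false
universe u
open CategoryTheory
attribute [local instance] HasDerivedCategory.standard
open CAlg

namespace Groth.Agent.S2137

/-- Let `A → B` be a ring map and `K` an `m`-pseudo-coherent object of `D(A)`. Then `K ⊗^L_A B` is
`m`-pseudo-coherent in `D(B)`. (Stated assuming the total left derived functor of base change exists
on `D(A)`, a fact not available as a library result here.) -/
theorem result {A B : Type u} [CommRing A] [CommRing B] (φ : A →+* B) [DRing.HasLBaseChange φ]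
    (K : Dual.D A) (m : ℤ) (hK : DRing.IsPseudoCoherent A m K) :
    DRing.IsPseudoCoherent B m ((DRing.LBaseChange φ).obj K) := by
  open Groth.Agent.Lib.Helper13.DR Groth.Agent.Lib.Helper13.PC in
  obtain ⟨E, a, b, α, hv, hff, hiso, hepi⟩ := hK
  have hb' : ∀ i : ℤ, max b m < i →
      Limits.IsZero ((DerivedCategory.homologyFunctor (ModuleCat.{u} A) i).obj K) := fun i hi => by
    have := hiso i (by have := le_max_right b m; lia)
    refine Limits.IsZero.of_iso ?_ (asIso ((DerivedCategory.homologyFunctor (ModuleCat.{u} A) i).map α)).symm
    refine Limits.IsZero.of_iso ?_ (homologyQIso E i)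
    exact (HomologicalComplex.ExactAt.of_isZero
      (hv i (Or.inr (by have := le_max_left b m; lia)))).isZero_homology
  obtain ⟨P, hproj, hzP, ⟨e⟩⟩ := exists_projective_rep K (max b m) hb'
  have hEproj : E.IsKProjective := isKProjective_of_forall_projective E b
    (fun i hi => hv i (Or.inr hi)) (fun i => (projective_iff _).2 (by
      have := (hff i).1
      have := (hff i).2
      infer_instance))
  have hPproj : P.IsKProjective := isKProjective_of_forall_projective P _ hzP hproj
  obtain ⟨f, hf⟩ := exists_Q_map_eq (K := E) (L := P) (α ≫ e.inv)
  have h1 : ∀ i : ℤ, m < i → IsIso (HomologicalComplex.homologyMap f i) := fun i hi => by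
    rw [← isIso_homologyFunctor_map_Q_iff, hf, Functor.map_comp]
    have := hiso i hi
    infer_instance
  have h2 : Epi (HomologicalComplex.homologyMap f m) := by
    rw [← epi_homologyFunctor_map_Q_iff, hf, Functor.map_comp]
    infer_instance
  let _ := φ.toAlgebra
  have h3 := isNPC_extendCx A B f m (max b m)
    (fun i hi => hv i (Or.inr (by have := le_max_left b m; lia))) hzP hff
    (fun i => by
      have := (projective_iff _).1 (hproj i)
      infer_instance) h1 h2
  rw [isPseudoCoherent_iff]
  exact h3.of_iso ((LBaseChangeIso φ P).symm ≪≫ (DRing.LBaseChange φ).mapIso e)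

end Groth.Agent.S2137
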