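import Groth.Statements.S6971
import Groth.Agent.Lib.Helper13.DRingNilpPC
import Groth.Agent.Lib.Helper13.SemiFree4
import Groth.Agent.S2137

set_option autoImplicit false
universe u
open CategoryTheory CategoryTheory.Limits
attribute [local instance] HasDerivedCategory.standard
open DRing

namespace Groth.Agent.S6971

/-- Let R' → R be a surjective homomorphism of commutative rings whose kernel is a nilpotent ideal, such
that the derived base change D(R') → D(R) exists, and let K' be an object of D(R'). Then K' ⊗^L R is
pseudo-coherent over R (isomorphic in D(R) to a bounded above complex of finite free modules) if and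
only if K' is pseudo-coherent over R'. -/
theorem result {R' R : Type u} [CommRing R'] [CommRing R]
    (φ : R' →+* R) (hφ : Function.Surjective φ) (hnil : IsNilpotent (RingHom.ker φ))
    [DRing.HasLBaseChange φ] (K' : Dual.D R') :
    DRing.IsPseudoCoherent' R ((DRing.LBaseChange φ).obj K') ↔ DRing.IsPseudoCoherent' R' K' := by
  open Groth.Agent.Lib.Helper13.DR Groth.Agent.Lib.Helper13.PC Groth.Agent.Lib.Helper13.SF DRing in
  constructor
  · intro h
    obtain ⟨P', hK, hproj, ⟨e⟩⟩ := exists_kprojective_rep (R := R') K'
    let _ := φ.toAlgebra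
    rw [isPseudoCoherent'_iff] at h ⊢
    have h' : ∀ m : ℤ, IsNPC (Pff R) m (DerivedCategory.Q.obj ((extendCx R' R).obj P')) :=
      fun m => IsNPC.of_iso (P := Pff R) (h m) ((DRing.LBaseChange φ).mapIso e.symm ≪≫ LBaseChangeIso φ P')
    intro m
    exact (isPC_of_extendCx_nilpotent (A := R') (B := R) hφ hnil P' hproj h' m).of_iso e
  · intro h
    rw [isPseudoCoherent'_iff_forall] at h ⊢
    intro m
    exact Groth.Agent.S2137.result φ K' m (h m)

end Groth.Agent.S6971
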