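import Groth.Statements.S7069
import Groth.Agent.S7067
import Groth.Agent.Lib.Helper13.RegGlDim
import Groth.Agent.Lib.Helper13.DRingGlDim
import Groth.Agent.Lib.Helper13.TorBridge1

set_option autoImplicit false
universe u
attribute [local instance] HasDerivedCategory.standard
open MoreMor

namespace Groth.Agent.S7069

/-- A finite type homomorphism of commutative rings A → B, where A is a regular ring of finite Krull
dimension, is perfect: pseudo-coherent with B of finite tor dimension as an A-module. -/
theorem result (A B : Type u) [CommRing A] [CommRing B] [Algebra A B]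
    [IsRegularRing A] (hdim : ringKrullDim A < ⊤) [Algebra.FiniteType A B] : MoreMor.IsPerfectHom A B := by
  open Groth.Agent.Lib.Helper13.DR Groth.Agent.Lib.Helper13.PC DerivedCategory in
  obtain ⟨d, hd⟩ : ∃ d : ℕ, ringKrullDim A ≤ d := by
    generalize ringKrullDim A = x at hdim
    induction x using WithBot.recBotCoe with
    | bot => exact ⟨0, bot_le⟩
    | coe n =>
      have hn : n ≠ ⊤ := by
        rintro rfl
        exact lt_irrefl _ hdim
      obtain ⟨m, rfl⟩ := ENat.ne_top_iff_exists.1 hn
      exact ⟨m, le_rfl⟩
  refine ⟨Groth.Agent.S7067.result A B, d, ?_⟩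
  have hgl := Groth.Agent.Lib.Helper13.RP.hasProjectiveDimensionLT_of_regular A
    (fun p => IsRegularRing.isRegularLocalRing_localization p.asIdeal) d hd
  have hpa : HasProjAmp (Dual.inD A B) (0 - d) 0 := hasProjAmp_of_globalDim d hgl (Dual.inD A B) 0 0
    (fun i hi => by
      have hz : CategoryTheory.Limits.IsZero ((DerivedCategory.homologyFunctor (ModuleCat.{u} A) i).obj
          ((DerivedCategory.singleFunctor (ModuleCat.{u} A) 0).obj (ModuleCat.of A B))) := by
        rcases hi with hi | hi
        · exact DerivedCategory.isZero_of_isGE _ 0 i hi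
        · exact DerivedCategory.isZero_of_isLE _ 0 i hi
      exact ModuleCat.subsingleton_of_isZero hz)
  have htor := hasTorAmplitudeIn_of_hasProjAmp hpa
  rw [zero_sub] at htor
  exact (Groth.Agent.Lib.Helper13.TB.hasTorDimLE_iff_hasTorAmplitudeIn A B d).2 htor

end Groth.Agent.S7069
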