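import Groth.Statements.S13576
import Mathlib

set_option autoImplicit false
universe u
open CategoryTheory CategoryTheory.Limits MonoidalCategory
attribute [local instance] HasDerivedCategory.standard
open DTen

namespace Groth.Agent.S13576

/-- `braidCx` is an involution. -/
theorem braidCx_hom_hom {A : Type u} [CommRing A] (K L : DRing.Cx A) :
    (braidCx K L).hom ≫ (braidCx L K).hom = 𝟙 _ := by
  refine HomologicalComplex.hom_ext _ _ (fun n => HomologicalComplex.mapBifunctor.hom_ext (fun p q h => ?_))
  rw [HomologicalComplex.comp_f]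
  erw [ι_braidCx_hom_assoc K L p q n h]
  simp only [Linear.units_smul_comp, Category.assoc]
  erw [ι_braidCx_hom L K q p n (by rw [add_comm]; exact h)]
  simp only [Linear.comp_units_smul]
  rw [smul_smul, ← Int.negOnePow_add, mul_comm q p, Int.negOnePow_add, Int.units_mul_self, one_smul,
    ← Category.assoc, SymmetricCategory.symmetry, Category.id_comp]
  erw [HomologicalComplex.id_f, Category.comp_id]

/-- `symm ∘ symm`, as an endomorphism of the derived tensor product. -/
noncomputable def symmSq (A : Type u) [CommRing A] [DTen.HasLTen A] : LTen₂ A ⟶ LTen₂ A where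
  app X := (show (LTen₂ A).obj X ⟶ (LTen₂ A).obj (X.2, X.1) from (symm A).app (X.2, X.1)) ≫
    (show (LTen₂ A).obj (X.2, X.1) ⟶ (LTen₂ A).obj X from (symm A).app X)
  naturality X Y f := by
    have h1 := (symm A).naturality (X := (X.2, X.1)) (Y := (Y.2, Y.1)) (f.2, f.1)
    have h2 := (symm A).naturality f
    change (LTen₂ A).map f ≫ (symm A).app (Y.2, Y.1) ≫ (symm A).app Y =
      ((symm A).app (X.2, X.1) ≫ (symm A).app X) ≫ (LTen₂ A).map f
    rw [Category.assoc, ← h2]
    erw [← Category.assoc, ← Category.assoc]
    congr 1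

theorem symmSq_eq_id (A : Type u) [CommRing A] [DTen.HasLTen A] : symmSq A = 𝟙 _ := by
  apply Functor.leftDerived_ext (LTen₂ A) (ε A) (qis₂ A)
  ext ⟨K, L⟩
  simp only [NatTrans.comp_app, Functor.whiskerLeft_app, NatTrans.id_app]
  change ((symm A).app (DerivedCategory.Q.obj L, DerivedCategory.Q.obj K) ≫
    (symm A).app (DerivedCategory.Q.obj K, DerivedCategory.Q.obj L)) ≫ (ε A).app (K, L) =
      𝟙 _ ≫ (ε A).app (K, L)
  rw [Category.assoc, symm_fac, ← Category.assoc, symm_fac, Category.assoc, ← Functor.map_comp,
    braidCx_hom_hom]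
  erw [CategoryTheory.Functor.map_id, Category.comp_id, Category.id_comp]


/-- For a commutative ring `A` and objects `K`, `L` of `D(A)`, the canonical symmetry morphism `L ⊗^L K
⟶ K ⊗^L L` of the derived tensor product, the one compatible with the swap of complexes carrying the
sign `(-1)^{pq}` on `K^p ⊗ L^q`, is an isomorphism. -/
theorem result (A : Type u) [CommRing A] [DTen.HasLTen A] (K L : Dual.D A) :
    IsIso ((DTen.symm A).app (K, L)) := by
  have h1 : (symm A).app (L, K) ≫ (symm A).app (K, L) = 𝟙 _ :=
    congr_arg (fun t => t.app (K, L)) (symmSq_eq_id A)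
  have h2 : (symm A).app (K, L) ≫ (symm A).app (L, K) = 𝟙 _ :=
    congr_arg (fun t => t.app (L, K)) (symmSq_eq_id A)
  exact ⟨(symm A).app (L, K), h2, h1⟩

end Groth.Agent.S13576
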