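import Groth.Statements.S13892
import Groth.Agent.Lib.Helper13.DTenDev5


set_option autoImplicit false
universe u
open CategoryTheory CategoryTheory.Limits MonoidalCategory
attribute [local instance] HasDerivedCategory.standard
open DTen

namespace Groth.Agent.S13892

/-- For a commutative ring `A` (assuming the derived tensor product on `D(A)` with its triple version
exists, that its symmetry, unit and associativity maps are isomorphisms, and that every `- ⊗^L L`
has a right adjoint `RHom(L, -)`) and objects `K`, `L`, `M` of `D(A)` with `K` perfect, the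
canonical morphism `K ⊗^L RHom(M, L) ⟶ RHom(M, K ⊗^L L)` is an isomorphism. -/
theorem result (A : Type u) [CommRing A] [DTen.HasLTen A] [DTen.HasLTen₃ A]
    [DTen.IsSymMonoidal A] [DTen.HasRHom A] (K L M : Dual.D A)
    (hK : DRing.IsPerfect A K) :
    IsIso (DTen.evalTen K L M) := by

  open Groth.Agent.Lib.Helper13.DV CategoryTheory.Pretriangulated in
  classical
  let S : Dual.D A ⥤ Dual.D A := (LTen A).flip.obj ((RHomR A M).obj L)
  let T : Dual.D A ⥤ Dual.D A := (LTen A).flip.obj L ⋙ RHomR A M
  let η : S ⟶ T :=
    { app := fun K => evalTen K L M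
      naturality := fun K K' f => evalTen_naturality f L M }
  have hS : ∀ T₀ : Triangle (Dual.D A), T₀ ∈ distTriang (Dual.D A) →
      MidExact (S.map T₀.mor₁) (S.map T₀.mor₂) :=
    fun T₀ hT₀ => midExact_LTen₂_left T₀ hT₀ _
  have hT : ∀ T₀ : Triangle (Dual.D A), T₀ ∈ distTriang (Dual.D A) →
      MidExact (T.map T₀.mor₁) (T.map T₀.mor₂) :=
    fun T₀ hT₀ => (midExact_LTen₂_left T₀ hT₀ L).map_rightAdjoint (rhomAdj A M)
  have hbase : ∀ n : ℤ, IsIso (η.app
      ((shiftFunctor (Dual.D A) n).obj
        ((DerivedCategory.singleFunctor (ModuleCat.{u} A) 0).obj (ModuleCat.of A A)))) := by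
    intro n
    rw [NatTrans.isIso_app_iff_of_iso η (singleShiftIso n)]
    have := isEquivalence_of_isInvertible _ (isInvertible_shift_unit (A := A) n)
    exact isIso_evalTen_of_isEquivalence _ L M
  exact isIso_app_of_isPerfect η hS hT hbase K hK

end Groth.Agent.S13892
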