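import Groth.Statements.S7070
import Groth.Agent.Lib.Helper13.KoszulPerf2
import Groth.Agent.S7066

set_option autoImplicit false
universe u
attribute [local instance] HasDerivedCategory.standard
open MoreMor

namespace Groth.Agent.S7070

/-- A local complete intersection homomorphism of commutative rings A → B (finite type, with some
polynomial presentation whose kernel is a Koszul-regular ideal) is perfect: pseudo-coherent with B
of finite tor dimension over A. -/
theorem result (A B : Type u) [CommRing A] [CommRing B] [Algebra A B]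
    (h : LCI.IsLCI A B) : MoreMor.IsPerfectHom A B := by
  obtain ⟨-, n, f, hf, hI⟩ := h
  refine (Groth.Agent.S7066.result A B).2 ⟨n, f, hf, ?_⟩
  letI := f.toRingHom.toAlgebra
  have h1 := Groth.Agent.Lib.Helper13.KP.isPerfectModule_quotient_of_isKoszulRegularIdeal
    (MvPolynomial (Fin n) A) (RingHom.ker f.toRingHom) hI
  have h1' : Groth.Agent.Lib.Helper13.PC.IsPerf
      (Groth.Agent.Lib.Helper13.DR.Pfp (MvPolynomial (Fin n) A))
      (Dual.inD (MvPolynomial (Fin n) A)
        (MvPolynomial (Fin n) A ⧸ RingHom.ker f.toRingHom)) := h1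
  let e : (MvPolynomial (Fin n) A ⧸ RingHom.ker f.toRingHom) ≃+* B :=
    RingHom.quotientKerEquivOfSurjective (f := f.toRingHom) hf
  have iso : ModuleCat.of (MvPolynomial (Fin n) A)
      (MvPolynomial (Fin n) A ⧸ RingHom.ker f.toRingHom) ≅
      ModuleCat.of (MvPolynomial (Fin n) A) B :=
    Groth.Agent.Lib.Helper13.DR.isoOfAddEquiv _ _ e.toAddEquiv (fun p x => by
      obtain ⟨y, rfl⟩ := Ideal.Quotient.mk_surjective x
      change e (p • Ideal.Quotient.mk _ y) = p • e (Ideal.Quotient.mk _ y)
      rw [Algebra.smul_def, Algebra.smul_def, map_mul]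
      rfl)
  exact h1'.of_iso ((DerivedCategory.singleFunctor
    (ModuleCat.{u} (MvPolynomial (Fin n) A)) 0).mapIso iso)

end Groth.Agent.S7070
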