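import Groth.Statements.S7068
import Mathlib
import Groth.Agent.Lib.Helper11.PCFlatBC
import Groth.Agent.Lib.Helper13.TorBridge1
import Groth.Agent.S9456

set_option autoImplicit false
universe u
attribute [local instance] HasDerivedCategory.standard
open MoreMor

namespace Groth.Agent.S7068

/-- If A → B is a flat homomorphism of commutative rings of finite presentation, then A → B is a perfect
ring map: pseudo-coherent, with B of finite tor dimension as an A-module. -/
theorem result (A B : Type u) [CommRing A] [CommRing B] [Algebra A B]
    [Module.Flat A B] [Algebra.FinitePresentation A B] : MoreMor.IsPerfectHom A B := by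
  refine ⟨?_, ⟨0, (Groth.Agent.Lib.Helper13.TB.hasTorDimLE_zero_iff_flat A B).2 inferInstance⟩⟩
  haveI : Module.FinitePresentation B B := inferInstance
  obtain ⟨R₀, _, _, S₀, _, _, _, _, _, _, M₀, _, _, _, _, instSB, hT, f, hR₀, hS₀, hM₀, hfl, hpo, hf⟩ :=
    Groth.Agent.S9456.result A B B
  have hinst : instSB = Algebra.toModule := by
    refine Module.ext' _ _ fun s b => ?_
    have h1 := hT.smul_assoc s (1 : B) b
    simp only [smul_eq_mul, one_mul] at h1
    rw [← h1, Algebra.smul_def, mul_one, Algebra.smul_def]
  subst hinst
  haveI : IsNoetherianRing R₀ := Algebra.FiniteType.isNoetherianRing ℤ R₀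
  exact Groth.Agent.Lib.Helper11.PCFlatBC.isPseudoCoherentHom_of_model R₀ A S₀ B M₀ f hf

end Groth.Agent.S7068
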