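import Groth.Statements.S0590
import Groth.Agent.Lib.Helper1.NAMain

set_option autoImplicit false
universe u
open CategoryTheory AlgebraicGeometry
open Lim
open Groth.Agent.Lib.Helper1.NA Opposite

namespace Groth.Agent.S0590

/-- Every quasi-compact quasi-separated scheme is the limit of an inverse system, indexed by a nonempty
directed preorder, of quasi-compact schemes locally of finite type over the integers with affine
transition morphisms. -/
theorem result (S : Scheme.{u}) [CompactSpace S] [QuasiSeparatedSpace S] :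
    ∃ (I : Type u) (_ : Preorder I) (_ : IsDirected I (fun a b => a ≤ b)) (_ : Nonempty I)
      (D : Iᵒᵖ ⥤ Scheme.{u}) (c : Limits.Cone D) (_ : Limits.IsLimit c),
      (∀ (i j : Iᵒᵖ) (f : i ⟶ j), IsAffineHom (D.map f)) ∧
      (∀ i, CompactSpace (D.obj i) ∧
        LocallyOfFiniteType (Limits.IsTerminal.from specULiftZIsTerminal (D.obj i))) ∧
      Nonempty (c.pt ≅ S) := by
  classical
  let DV : (PUnit.{u+1})ᵒᵖ ⥤ Scheme.{u} := (Functor.const _).obj (∅ : Scheme.{u})
  let cV : Limits.Cone DV := { pt := (∅ : Scheme.{u}), π := 𝟙 _ }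
  have hcV : Limits.IsLimit cV :=
    { lift := fun s => s.π.app (op PUnit.unit)
      fac := fun s j => by
        have : j = op PUnit.unit := rfl
        subst this
        exact Category.comp_id _
      uniq := fun s m hm => by
        have := hm (op PUnit.unit)
        rw [← this]
        exact (Category.comp_id _).symm }
  have haff : ∀ (i i' : (PUnit.{u+1})ᵒᵖ) (a : i ⟶ i'), IsAffineHom (DV.map a) := by
    intro i i' a
    change IsAffineHom (𝟙 (∅ : Scheme.{u}))
    infer_instance
  have hft : ∀ i, FTZ (DV.obj i) := by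
    intro i
    change FTZ (∅ : Scheme.{u})
    refine ⟨inferInstance, inferInstance⟩
  let v : cV.pt ⟶ S := Scheme.emptyTo S
  have hv : IsOpenImmersion v := by
    change IsOpenImmersion (Scheme.emptyTo S)
    infer_instance
  obtain ⟨E⟩ := nonempty_ext_of_qcqs DV haff hft cV hcV v
  exact ⟨E.J, E.preJ, E.dirJ, E.neJ, E.DS, Limits.Cone.mk S E.π, E.hlim, E.haff, E.hft,
    ⟨Iso.refl S⟩⟩

end Groth.Agent.S0590
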