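import Groth.Statements.S2076
import Groth.Agent.Lib.Helper13.ClosedSubschemeLimit

set_option autoImplicit false
universe u
open CategoryTheory AlgebraicGeometry
open Lim

namespace Groth.Agent.S2076

/-- Let `X = lim X_i` be a cofiltered limit of quasi-compact schemes over `S` with affine transition
morphisms and `h : Y → X` a closed immersion with `Y → S` locally of finite type. Then `Y → X_i` is
a closed immersion for some `i`. -/
theorem result {I : Type u} [SmallCategory I] [IsCofiltered I] (S : Scheme.{u})
    (D : I ⥤ Over S) (c : Limits.Cone D) (hc : Limits.IsLimit c)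
    [∀ (i j : I) (f : i ⟶ j), IsAffineHom (D.map f).left] [∀ i, CompactSpace (D.obj i).left]
    {Y : Scheme.{u}} (h : Y ⟶ c.pt.left) [IsClosedImmersion h] [LocallyOfFiniteType (h ≫ c.pt.hom)] :
    ∃ i : I, IsClosedImmersion (h ≫ (c.π.app i).left) := by
  have i₀ : I := IsCofiltered.nonempty.some
  have e : (h ≫ (c.π.app i₀).left) ≫ (D.obj i₀).hom = h ≫ c.pt.hom := by
    rw [Category.assoc, Over.w]
    rfl
  have h0 : LocallyOfFiniteType (h ≫ (c.π.app i₀).left) := by
    have : LocallyOfFiniteType ((h ≫ (c.π.app i₀).left) ≫ (D.obj i₀).hom) := by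
      rw [e]; infer_instance
    exact locallyOfFiniteType_of_comp _ (D.obj i₀).hom
  have h1 : ∀ {i j : I} (f : i ⟶ j), IsAffineHom ((D ⋙ Over.forget S).map f) := fun f =>
    inferInstanceAs (IsAffineHom (D.map f).left)
  have h2 : ∀ i, CompactSpace ((D ⋙ Over.forget S).obj i) := fun i =>
    inferInstanceAs (CompactSpace (D.obj i).left)
  have h3 : IsClosedImmersion (show Y ⟶ ((Over.forget S).mapCone c).pt from h) :=
    inferInstanceAs (IsClosedImmersion h)
  have h4 : LocallyOfFiniteType
      ((show Y ⟶ ((Over.forget S).mapCone c).pt from h) ≫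
        ((Over.forget S).mapCone c).π.app i₀) := h0
  exact Groth.Agent.Lib.Helper13.exists_isClosedImmersion_comp_π (D ⋙ Over.forget S)
    ((Over.forget S).mapCone c) (Limits.isLimitOfPreserves (Over.forget S) hc)
    (show Y ⟶ ((Over.forget S).mapCone c).pt from h) i₀

end Groth.Agent.S2076
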