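import Groth.Statements.S9207
-- import your own Groth.Agent.* helpers here

set_option autoImplicit false
universe u
open CategoryTheory CategoryTheory.Limits AlgebraicGeometry
open Lim

namespace Groth.Agent.S9207

/-- Let S = lim S_i be a cofiltered limit of quasi-compact quasi-separated schemes with affine
transition morphisms, let i be an index and T → S_i a morphism of schemes with T quasi-compact. If
the fibre product T ×_{S_i} S is empty, then T ×_{S_i} S_{i'} is empty for some index i' over i (and
then for every index over i'). -/
theorem result {I : Type u} [SmallCategory I] [IsCofiltered I]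
    (D : I ⥤ Scheme.{u}) (c : Limits.Cone D) (hc : Limits.IsLimit c)
    [∀ (i j : I) (f : i ⟶ j), IsAffineHom (D.map f)] [∀ i, CompactSpace (D.obj i)]
    [∀ i, QuasiSeparatedSpace (D.obj i)] (i : I) {T : Scheme.{u}} (a : T ⟶ D.obj i) [CompactSpace T]
    (h : IsEmpty ↥(pullback a (c.π.app i))) :
    ∃ (i' : I) (φ : i' ⟶ i), IsEmpty ↥(pullback a (D.map φ)) := by
  by_contra! H
  let F : Over i ⥤ Scheme.{u} := Over.post D ⋙ Over.pullback a ⋙ Over.forget _
  let c1 := (Over.conePost D i).obj c
  have hc1 : IsLimit c1 := Over.isLimitConePost i hc
  let c2 : Cone F := (Over.pullback a ⋙ Over.forget _).mapCone c1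
  have hc2 : IsLimit c2 := isLimitOfPreserves _ hc1
  have hne (j : Over i) : Nonempty (F.obj j) := by
    have := H j.left j.hom
    exact this.map (pullbackSymmetry a (D.map j.hom)).hom.base
  have hsnd (j : Over i) : IsAffineHom (pullback.snd (D.map j.hom) a) :=
    MorphismProperty.pullback_snd _ _ inferInstance
  have haff {j k : Over i} (f : j ⟶ k) : IsAffineHom (F.map f) := by
    have e : F.map f ≫ pullback.snd (D.map k.hom) a = pullback.snd (D.map j.hom) a := by
      simp only [F, Functor.comp_map, Over.forget_map]
      exact pullback.lift_snd _ _ _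
    have h1 : IsAffineHom (F.map f ≫ pullback.snd (D.map k.hom) a) := e ▸ hsnd j
    have h2 : IsSeparated (pullback.snd (D.map k.hom) a) := inferInstance
    exact @IsAffineHom.of_comp _ _ _ (F.map f) (pullback.snd (D.map k.hom) a) h1 h2
  have hcpt (j : Over i) : CompactSpace (F.obj j) := by
    have := QuasiCompact.compactSpace_of_compactSpace (pullback.snd (D.map j.hom) a)
    exact this
  have := Scheme.nonempty_of_isLimit F c2 hc2
  obtain ⟨x⟩ := this
  exact h.elim' ((pullbackSymmetry (c.π.app i) a).hom.base x)

end Groth.Agent.S9207
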