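import Groth.Statements.S10215
import Mathlib
import Groth.Agent.Lib.Helper8.AlgSpPres
import Groth.Agent.Lib.Helper8.MonoField

set_option autoImplicit false
universe u
open CategoryTheory CategoryTheory.Limits AlgebraicGeometry Topology TopologicalSpace
open AlgSp

namespace S10215aux
open Groth.Agent.Lib.Helper14.AS Groth.Agent.Lib.Helper8.AlgSpOpenSub Groth.Agent.Lib.Helper8.MonoField

variable {S : Scheme.{u}}

theorem main (X : AlgSp.Space S) (p q : AlgSp.FieldPt X.obj)
    (h : AlgSp.Points.mk p = AlgSp.Points.mk q) [Mono p.toHom] :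
    ∃! c : q.pt ⟶ p.pt, (AlgSp.yon S).map c ≫ p.toHom = q.toHom := by
  have hrep : Representable p.toHom := X.property.representable_from_yon p.toHom
  obtain ⟨Z, snd, fst, sq⟩ := hrep q.toHom
  obtain ⟨fst', rfl⟩ := (yon S).map_surjective fst
  have hmono1 : Mono ((yon S).map snd) := sq.mono_snd_of_mono
  have hmono2 : Mono snd := (yon S).mono_of_mono_map hmono1
  have hmono3 : Mono snd.left := inferInstance
  obtain ⟨Ω, _, w, a, b, hab⟩ := Points.mk_eq_mk_iff.mp h
  have hab' : (yon S).map a ≫ p.toHom = (yon S).map b ≫ q.toHom := by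
    apply yEquiv.injective
    rw [yEquiv_yon_map_comp, yEquiv_yon_map_comp]
    change X.obj.obj.map a.op ((AlgSp.J S).uliftYonedaEquiv p.toHom) =
      X.obj.obj.map b.op ((AlgSp.J S).uliftYonedaEquiv q.toHom)
    rw [FieldPt.uliftYonedaEquiv_toHom, FieldPt.uliftYonedaEquiv_toHom]
    exact hab
  obtain ⟨l, hl⟩ := (yon S).map_surjective (sq.lift _ _ hab')
  have hne : Nonempty Z.left := ⟨l.left.base (IsLocalRing.closedPoint Ω)⟩
  have hiso : IsIso snd.left := isIso_of_mono_of_field (L := q.K) snd.left
  have hiso' : IsIso snd := by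
    have : IsIso ((Over.forget S).map snd) := hiso
    exact isIso_of_reflects_iso snd (Over.forget S)
  refine ⟨inv snd ≫ fst', ?_, ?_⟩
  · change (yon S).map (inv snd ≫ fst') ≫ p.toHom = q.toHom
    rw [Functor.map_comp, Category.assoc, sq.w, ← Category.assoc, ← Functor.map_comp,
      IsIso.inv_hom_id, CategoryTheory.Functor.map_id, Category.id_comp]
  · intro c hc
    apply (yon S).map_injective
    rw [← cancel_mono p.toHom, hc, Functor.map_comp, Category.assoc, sq.w, ← Category.assoc,
      ← Functor.map_comp, IsIso.inv_hom_id, CategoryTheory.Functor.map_id, Category.id_comp]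

end S10215aux


namespace Groth.Agent.S10215

/-- Let X be an algebraic space over a scheme S and p : Spec K ⟶ X, q : Spec L ⟶ X morphisms from
spectra of fields over S which determine the same point of |X|, with p a monomorphism. Then q
factors uniquely through p. -/
theorem result {S : Scheme.{u}} (X : AlgSp.Space S) (p q : AlgSp.FieldPt X.obj)
    (h : AlgSp.Points.mk p = AlgSp.Points.mk q) [Mono p.toHom] :
    ∃! c : q.pt ⟶ p.pt, (AlgSp.yon S).map c ≫ p.toHom = q.toHom := by
  exact S10215aux.main X p q h

end Groth.Agent.S10215
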