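import Groth.Statements.S10339
import Groth.Agent.Lib.Helper24.Sober1
import Groth.Agent.Lib.Helper24.OpenSubSp
import Groth.Agent.Lib.Helper14.AlgSpDecent

set_option autoImplicit false
universe u
open CategoryTheory CategoryTheory.Limits AlgebraicGeometry Topology TopologicalSpace
open AlgSp

namespace Groth.Agent.S10339

open CategoryTheory CategoryTheory.Limits AlgebraicGeometry Opposite AlgSp
open Groth.Agent.Lib.Helper14.AS Groth.Agent.Lib.Helper24.Filt8 Groth.Agent.Lib.Helper24.Sober1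
open Groth.Agent.Lib.Helper24.OpenSubSp Groth.Agent.Lib.Helper24.ZarGlue


/-- For a scheme S and a decent algebraic space X over S, every irreducible closed subset of |X| is the
closure of some point. (The published statement says that |X| is sober; this row states only the
existence of generic points, their uniqueness being the Kolmogorov property of |X|, a separate
statement.) -/
theorem result {S : Scheme.{u}} (X : AlgSp.Space S) (hX : AlgSp.IsDecent X.obj) :
    QuasiSober (AlgSp.Points X.obj) := by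
  constructor
  intro T hT hTc
  obtain ⟨x, hx⟩ := hT.1
  obtain ⟨U₁, a₁, ha₁e, ha₁s⟩ := X.property.atlas
  obtain ⟨u₁, hu₁⟩ := ofPt_surjective_of_repWith ha₁s x
  obtain ⟨A, hA, hu₁A, -⟩ := exists_isAffineOpen_mem_and_subset (x := u₁) (U := ⊤) trivial
  have hUaff : IsAffine (resOpen U₁ A).left := hA
  obtain ⟨U, a, hUaff', hae, u, hu⟩ : ∃ (U : Over S) (a : (yon S).obj U ⟶ X.obj),
      IsAffine U.left ∧ RepWith @Etale a ∧ ∃ u : U.left, Points.ofPt a u = x := by
    refine ⟨resOpen U₁ A, (yon S).map (resOpenι U₁ A) ≫ a₁, hUaff,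
      repWith_comp _ ((repWith_yon_map_iff _ _).2 (inferInstanceAs (Etale A.ι))) ha₁e,
      ⟨u₁, hu₁A⟩, ?_⟩
    rw [ofPt_yon_map_comp]
    exact hu₁
  have hOo : IsOpen (Set.range (Points.ofPt a)) := (isOpenMap_ofPt a hae).isOpen_range
  obtain ⟨X₀, ι₀, hιo, hιr⟩ : ∃ (X₀ : Space S) (ι₀ : X₀ ⟶ X), RepWith @IsOpenImmersion ι₀.hom ∧
      Set.range (Points.map ι₀.hom) = Set.range (Points.ofPt a) :=
    ⟨⟨(openPred (Set.range (Points.ofPt a))).sheaf, isAlgSpace_openPred X.property hOo⟩,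
      ObjectProperty.homMk (openPred (Set.range (Points.ofPt a))).ι, repWith_openPred hOo,
      range_openPred hOo⟩
  have hιm : Mono ι₀.hom := mono_of_openImmersion hιo
  have hιinj := injective_of_openImmersion hιo
  have hιopen : IsOpenMap (Points.map ι₀.hom) :=
    isOpenMap_points_of_repWith_universallyOpen X.property (repWith_mono openImm_le_univOpen hιo)
  have hιc : Continuous (Points.map ι₀.hom) := Points.continuous_map _
  obtain ⟨a₀, ha₀⟩ := Groth.Agent.Lib.Helper8.AlgSpOpen.exists_factor_of_range_subset ι₀.hom hιo a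
    (by rw [hιr, Groth.Agent.Lib.Helper8.AlgSpPres.range_points_map_yon])
  have sqa : IsPullback (𝟙 _) a₀ a ι₀.hom := by
    have sq := isPullback_of_factor_mono a₀ ι₀.hom
    rw [ha₀] at sq
    exact sq
  have ha₀e : RepWith @Etale a₀ := repWith_of_isPullback _ sqa hae
  have ha₀surj : Function.Surjective (Points.map a₀) := by
    intro y
    have hy : Points.map ι₀.hom y ∈ Set.range (Points.map a) := by
      rw [Groth.Agent.Lib.Helper8.AlgSpPres.range_points_map_yon, ← hιr]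
      exact ⟨y, rfl⟩
    obtain ⟨z, hz⟩ := hy
    refine ⟨z, hιinj ?_⟩
    rw [← Points.map_comp, ha₀, hz]
  have ha₀s : RepWith @Surjective a₀ := repWith_surjective_of_isSurjectiveMor ha₀e.rep ha₀surj
  have hX₀ : IsDecent X₀.obj := isDecent_of_representable ι₀.hom hιo.rep hX
  have hxO : x ∈ Set.range (Points.map ι₀.hom) := by rw [hιr]; exact ⟨u, hu⟩
  have hne : (T ∩ Set.range (Points.map ι₀.hom)).Nonempty := ⟨x, hx, hxO⟩
  have hT₀c : IsClosed (Points.map ι₀.hom ⁻¹' T) := hTc.preimage hιc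
  have hT₀irr : IsIrreducible (Points.map ι₀.hom ⁻¹' T) := by
    constructor
    · obtain ⟨x₀, hx₀⟩ := hxO
      exact ⟨x₀, by change Points.map ι₀.hom x₀ ∈ T; rw [hx₀]; exact hx⟩
    · rintro W₁ W₂ hW₁ hW₂ ⟨w₁, hw₁E, hw₁W⟩ ⟨w₂, hw₂E, hw₂W⟩
      have hA₁ : (T ∩ (Points.map ι₀.hom '' W₁)).Nonempty := ⟨_, hw₁E, ⟨w₁, hw₁W, rfl⟩⟩
      have hA₂ : (T ∩ (Points.map ι₀.hom '' W₂)).Nonempty := ⟨_, hw₂E, ⟨w₂, hw₂W, rfl⟩⟩
      obtain ⟨y, hyT, ⟨v₁, hv₁W, rfl⟩, ⟨v₂, hv₂W, hv₂⟩⟩ :=
        hT.2 _ _ (hιopen W₁ hW₁) (hιopen W₂ hW₂) hA₁ hA₂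
      have hvv : v₂ = v₁ := hιinj hv₂
      exact ⟨v₁, hyT, hv₁W, hvv ▸ hv₂W⟩
  obtain ⟨η₀, hη₀⟩ := exists_generic_of_affine_chart X₀ hX₀ a₀ ha₀e ha₀s _ hT₀irr hT₀c
  refine ⟨Points.map ι₀.hom η₀, ?_⟩
  have hη₀T : η₀ ∈ Points.map ι₀.hom ⁻¹' T := by
    rw [← hη₀.def]
    exact subset_closure rfl
  change closure {Points.map ι₀.hom η₀} = T
  apply Set.Subset.antisymm
  · exact closure_minimal (Set.singleton_subset_iff.2 hη₀T) hTc
  · rw [← closure_inter_open_of_irreducible hT hTc hιopen.isOpen_range hne]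
    apply closure_minimal _ isClosed_closure
    rintro y ⟨hyT, ⟨y₀, rfl⟩⟩
    have hy₀ : y₀ ∈ closure ({η₀} : Set (Points X₀.obj)) := by rw [hη₀.def]; exact hyT
    have := image_closure_subset_closure_image hιc ⟨y₀, hy₀, rfl⟩
    rwa [Set.image_singleton] at this

end Groth.Agent.S10339
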