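import Groth.Statements.S10260
import Groth.Agent.Lib.Helper24.SlqfMain

set_option autoImplicit false
universe u
open CategoryTheory CategoryTheory.Limits AlgebraicGeometry
open AlgSp

namespace Groth.Agent.S10260

open CategoryTheory CategoryTheory.Limits AlgebraicGeometry
open AlgSp
open Groth.Agent.Lib.Helper24.Slqf Groth.Agent.Lib.Helper14.AS

set_option backward.isDefEq.respectTransparency.types false in
theorem core {S : Scheme.{u}} {X Y : Sp S} (hX : IsAlgSpace X) (hY : IsAlgSpace Y) (f : X ⟶ Y)
    (hqf : AlgSp.LocP (@LocallyQuasiFinite ⊓ @LocallyOfFiniteType) f)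
    (hsep : AlgSp.IsSeparatedMor f) : AlgSp.Representable f := by
  intro Z g
  have hg : Representable g := hY.representable_from_yon g
  let fst := pullback.fst f g
  let snd := pullback.snd f g
  have sq : IsPullback fst snd f g := IsPullback.of_hasPullback f g
  have hP : IsAlgSpace (pullback f g) := isAlgSpace_of_representable_to hX fst
    (MorphismProperty.of_isPullback (P := Representable) sq.flip hg)
  have hG : Good snd :=
    { alg := hP
      sep := MorphismProperty.of_isPullback
        (P := (RepWith (S := S) @IsClosedImmersion).diagonal) sq hsep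
      lqf := locP_baseChange etLocal_lqf_lft hX hY (IsAlgSpace.yon_obj Z) f g fst snd sq hqf }
  obtain ⟨W, ⟨ε⟩⟩ := exists_iso_yon_of_good snd hG
  obtain ⟨ρ, hρ⟩ := (yon S).map_surjective (ε.hom ≫ snd)
  refine ⟨W, ρ, ε.hom ≫ fst, ?_⟩
  rw [hρ]
  exact IsPullback.of_iso sq ε.symm (Iso.refl _) (Iso.refl _) (Iso.refl _) (by simp) (by simp)
    (by simp) (by simp)


/-- A locally quasi-finite separated morphism of algebraic spaces is representable by schemes. -/
theorem result {S : Scheme.{u}} {X Y : AlgSp.Space S} (f : X ⟶ Y)
    (hqf : AlgSp.LocP (@LocallyQuasiFinite ⊓ @LocallyOfFiniteType) f.hom) (hsep : AlgSp.IsSeparatedMor f.hom) :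
    AlgSp.Representable f.hom := by
  exact core X.property Y.property f.hom hqf hsep

end Groth.Agent.S10260
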