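import Groth.Statements.S10298
import Groth.Agent.Lib.Helper14.IntFinRep

set_option autoImplicit false
universe u
open CategoryTheory CategoryTheory.Limits AlgebraicGeometry
open AlgSp

namespace Groth.Agent.S10298

/-- For a quasi-compact quasi-separated morphism of schemes, the relative normalization of schemes is
the normalization in the sense of algebraic spaces. -/
theorem result {S : Scheme.{u}} {V U N : Over S} (g : V ⟶ U)
    [QuasiCompact g.left] [QuasiSeparated g.left] (f' : V ⟶ N) (ν : N ⟶ U)
    (e : N.left ≅ g.left.normalization) (he1 : f'.left ≫ e.hom = g.left.toNormalization)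
    (he2 : e.hom ≫ g.left.fromNormalization = ν.left) :
    AlgSp.IsRelNormalization ((AlgSp.yon S).map g) ((AlgSp.yon S).map ν) ((AlgSp.yon S).map f') := by
  classical
  open Groth.Agent.Lib.Helper14.AS in
  have hcomp : f' ≫ ν = g := by
    apply Over.OverMorphism.ext
    rw [Over.comp_left, ← he2, ← Category.assoc, he1]
    exact g.left.toNormalization_fromNormalization
  have hνint : IsIntegralHom ν.left := by
    rw [← he2]; infer_instance
  refine ⟨by rw [← Functor.map_comp, hcomp], ?_, ?_⟩
  · exact (integral_finite_iff_repWith ((AlgSp.ofScheme S).map ν)).1.2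
      ((AlgSp.repWith_yon_map_iff _ ν).2 hνint)
  · intro Z hZ π k hπ hk
    -- π is representable by integral morphisms
    have hr : AlgSp.RepWith @IsIntegralHom π :=
      (integral_finite_iff_repWith (X := ⟨Z, hZ⟩) (Y := (AlgSp.ofScheme S).obj U)
        (ObjectProperty.homMk π)).1.1 hπ
    let Z₀ : Over S := hr.rep.pullback (𝟙 ((AlgSp.yon S).obj U))
    let π₀ : Z₀ ⟶ U := hr.rep.snd (𝟙 _)
    let fst : (AlgSp.yon S).obj Z₀ ⟶ Z := hr.rep.fst (𝟙 _)
    have sq : IsPullback fst ((AlgSp.yon S).map π₀) π (𝟙 _) := hr.rep.isPullback (𝟙 _)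
    have hπ₀ : IsIntegralHom π₀.left := hr.property_snd (𝟙 _)
    have hfst : IsIso fst := sq.isIso_fst_of_isIso
    have hfstπ : fst ≫ π = (AlgSp.yon S).map π₀ := by rw [sq.w, Category.comp_id]
    obtain ⟨k₀, hk₀⟩ := (AlgSp.yon S).map_surjective (k ≫ inv fst)
    have hk₀π : k₀ ≫ π₀ = g := by
      apply (AlgSp.yon S).map_injective
      rw [Functor.map_comp, hk₀, Category.assoc, ← hfstπ, IsIso.inv_hom_id_assoc, hk]
    have H : g.left = k₀.left ≫ π₀.left := by rw [← Over.comp_left, hk₀π]
    let d : g.left.normalization ⟶ Z₀.left := g.left.normalizationDesc k₀.left π₀.left H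
    have hd1 : g.left.toNormalization ≫ d = k₀.left := g.left.toNormalization_normalizationDesc _ _ H
    have hd2 : d ≫ π₀.left = g.left.fromNormalization := g.left.normalizationDesc_comp _ _ H
    let h₀ : N ⟶ Z₀ := Over.homMk (e.hom ≫ d) (by
      rw [← Over.w π₀, Category.assoc, ← Category.assoc d, hd2, ← Category.assoc, he2, Over.w ν])
    have hh₀1 : f' ≫ h₀ = k₀ := by
      apply Over.OverMorphism.ext
      show f'.left ≫ (e.hom ≫ d) = k₀.left
      rw [← Category.assoc, he1, hd1]
    have hh₀2 : h₀ ≫ π₀ = ν := by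
      apply Over.OverMorphism.ext
      show (e.hom ≫ d) ≫ π₀.left = ν.left
      rw [Category.assoc, hd2, he2]
    refine ⟨(AlgSp.yon S).map h₀ ≫ fst, ⟨?_, ?_⟩, ?_⟩
    · rw [← Category.assoc, ← Functor.map_comp, hh₀1, hk₀, Category.assoc, IsIso.inv_hom_id,
        Category.comp_id]
    · rw [Category.assoc, hfstπ, ← Functor.map_comp, hh₀2]
    · rintro h' ⟨h'1, h'2⟩
      obtain ⟨h'₀, hh'₀⟩ := (AlgSp.yon S).map_surjective (h' ≫ inv fst)
      have e1 : f' ≫ h'₀ = k₀ := by
        apply (AlgSp.yon S).map_injective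
        rw [Functor.map_comp, hh'₀, hk₀, ← Category.assoc, h'1]
      have e2 : h'₀ ≫ π₀ = ν := by
        apply (AlgSp.yon S).map_injective
        rw [Functor.map_comp, hh'₀, Category.assoc, ← hfstπ, IsIso.inv_hom_id_assoc, h'2]
      have e3 : f'.left ≫ e.hom ≫ (e.inv ≫ h'₀.left) = k₀.left := by
        rw [Iso.hom_inv_id_assoc, ← Over.comp_left, e1]
      have key : e.inv ≫ h'₀.left = d := by
        have : IsAffineHom π₀.left := inferInstance
        refine AlgebraicGeometry.Scheme.Hom.normalization.hom_ext g.left _ _ π₀.left ?_ ?_ hd2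
        · rw [hd1, ← he1, Category.assoc, e3]
        · rw [Category.assoc, ← Over.comp_left, e2, ← he2, Iso.inv_hom_id_assoc]
      have key2 : h'₀ = h₀ := by
        apply Over.OverMorphism.ext
        show h'₀.left = e.hom ≫ d
        rw [← key, Iso.hom_inv_id_assoc]
      rw [← key2, hh'₀, Category.assoc, IsIso.inv_hom_id, Category.comp_id]

end Groth.Agent.S10298
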