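import Groth.Statements.S9722
import Mathlib.AlgebraicGeometry.Morphisms.Smooth
import Mathlib.AlgebraicGeometry.Morphisms.Etale
import Mathlib.RingTheory.Unramified.LocalStructure

set_option autoImplicit false
universe u
open CategoryTheory AlgebraicGeometry
open Mor

namespace Groth.Agent.S9722

lemma appLE_ι_comp {X S : Scheme.{u}} (f : X ⟶ S) (W : X.Opens) (V : S.Opens)
    (D : W.toScheme.Opens) (e : D ≤ (W.ι ≫ f) ⁻¹ᵁ V) :
    (W.ι ≫ f).appLE V D e = f.appLE V (W.ι ''ᵁ D) (by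
      rintro _ ⟨y, hy, rfl⟩
      exact e hy) := by
  rw [Scheme.Hom.comp_appLE]
  have := Scheme.Opens.ι_appLE W (f ⁻¹ᵁ V) D e
  rw [this]
  rfl

lemma transfer_std {R A : CommRingCat.{u}} {φ ψ : R ⟶ A} (h : φ = ψ)
    (H : letI := φ.hom.toAlgebra; Algebra.IsStandardEtale R A) :
    letI := ψ.hom.toAlgebra; Algebra.IsStandardEtale R A := by
  subst h; exact H

lemma etale_stable :
    RingHom.StableUnderCompositionWithLocalizationAwaySource.{u} RingHom.Etale :=
  (RingHom.Etale.stableUnderComposition.stableUnderCompositionWithLocalizationAway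
    (fun _ _ _ _ _ r _ => RingHom.etale_algebraMap.mpr (Algebra.Etale.of_isLocalizationAway r))).1

lemma ring_level {R A : Type u} [CommRing R] [CommRing A] (φ : R →+* A) (hφ : φ.Etale)
    (Q : Ideal A) [Q.IsPrime] :
    ∃ g, g ∉ Q ∧ ∀ (B : Type u) [CommRing B] (ψ : A →+* B),
      (letI := ψ.toAlgebra; IsLocalization.Away g B) →
      letI := (ψ.comp φ).toAlgebra; Algebra.IsStandardEtale R B := by
  algebraize [φ]
  have : Algebra.IsEtaleAt R Q := by
    have h := (Algebra.etaleLocus_eq_univ_iff (R := R) (A := A)).mpr inferInstance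
    have : (⟨Q, inferInstance⟩ : PrimeSpectrum A) ∈ Algebra.etaleLocus R A := h ▸ Set.mem_univ _
    exact this
  obtain ⟨g, hg, hstd⟩ := Algebra.IsEtaleAt.exists_isStandardEtale (R := R) Q
  refine ⟨g, hg, fun B _ ψ hloc => ?_⟩
  let := ψ.toAlgebra
  let := (ψ.comp φ).toAlgebra
  have : IsScalarTower R A B := .of_algebraMap_eq' rfl
  exact .of_equiv ((IsLocalization.algEquiv (.powers g) (Localization.Away g) B).restrictScalars R)


/-- Let f : X ⟶ S be a morphism, x a point of X and V an affine open neighbourhood of f(x) in S. Then f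
is étale on some open neighbourhood of x if and only if there is an affine open neighbourhood U of x
with f(U) ⊆ V such that Γ(X, U) is a standard étale algebra over Γ(S, V) through the induced ring
map. -/
theorem result {X S : Scheme.{u}} (f : X ⟶ S) (x : X)
    (V : S.Opens) (hV : IsAffineOpen V) (hxV : f x ∈ V) :
    (∃ W : X.Opens, x ∈ W ∧ Etale (W.ι ≫ f)) ↔
      ∃ (U : X.Opens) (_ : IsAffineOpen U) (_ : x ∈ U) (e : U ≤ f ⁻¹ᵁ V),
        letI := (f.appLE V U e).hom.toAlgebra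
        Algebra.IsStandardEtale Γ(S, V) Γ(X, U) := by
  constructor
  · rintro ⟨W, hxW, hW⟩
    obtain ⟨V', hV', hx', e'⟩ := TopologicalSpace.Opens.isBasis_iff_nbhd.mp
      W.toScheme.isBasis_affineOpens
      (show (⟨x, hxW⟩ : W) ∈ (W.ι ≫ f) ⁻¹ᵁ V from hxV)
    have het : ((W.ι ≫ f).appLE V V' e').hom.Etale := hW.etale_appLE hV hV' e'
    obtain ⟨r, hr, hstd⟩ := ring_level _ het (hV'.primeIdealOf ⟨⟨x, hxW⟩, hx'⟩).asIdeal
    have hrs : (⟨x, hxW⟩ : W) ∈ W.toScheme.basicOpen r := by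
      have h1 : hV'.primeIdealOf ⟨⟨x, hxW⟩, hx'⟩ ∈ hV'.fromSpec ⁻¹ᵁ W.toScheme.basicOpen r := by
        rw [hV'.fromSpec_preimage_basicOpen]
        exact hr
      have h2 := hV'.fromSpec_primeIdealOf ⟨⟨x, hxW⟩, hx'⟩
      have h3 : hV'.fromSpec (hV'.primeIdealOf ⟨⟨x, hxW⟩, hx'⟩) ∈ W.toScheme.basicOpen r := h1
      rw [h2] at h3
      exact h3
    have hloc : IsLocalization.Away r Γ(W.toScheme, W.toScheme.basicOpen r) :=
      hV'.isLocalization_basicOpen r
    have h3 := hstd Γ(W.toScheme, W.toScheme.basicOpen r)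
      (W.toScheme.presheaf.map (homOfLE (W.toScheme.basicOpen_le r)).op).hom hloc
    refine ⟨W.ι ''ᵁ (W.toScheme.basicOpen r), (hV'.basicOpen r).image_of_isOpenImmersion W.ι,
      ⟨⟨x, hxW⟩, hrs, rfl⟩, ?_, ?_⟩
    · rintro _ ⟨y, hy, rfl⟩
      exact e' (W.toScheme.basicOpen_le r hy)
    · refine transfer_std (φ := (W.ι ≫ f).appLE V (W.toScheme.basicOpen r)
        ((W.toScheme.basicOpen_le r).trans e')) (appLE_ι_comp f W V _ _) ?_
      rw [← (W.ι ≫ f).appLE_map e' (homOfLE (W.toScheme.basicOpen_le r)).op]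
      exact h3
  · rintro ⟨U, hU, hxU, e, hstd⟩
    refine ⟨U, hxU, ?_⟩
    rw [HasRingHomProperty.iff_exists_appLE (P := @Etale) etale_stable]
    intro y
    have : IsAffine U := hU
    have e' : (⊤ : U.toScheme.Opens) ≤ (U.ι ≫ f) ⁻¹ᵁ V := by
      intro z _
      have hz : U.ι z ∈ U := z.2
      exact e hz
    refine ⟨⟨V, hV⟩, ⟨⊤, isAffineOpen_top _⟩, trivial, e', ?_⟩
    rw [appLE_ι_comp f U V ⊤ e']
    let := (f.appLE V U e).hom.toAlgebra
    have h1 : (f.appLE V U e).hom.Etale := by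
      show Algebra.Etale _ _
      infer_instance
    exact (f.appLE_congr e rfl (U.ι_image_top).symm (fun φ => φ.hom.Etale)).mp h1

end Groth.Agent.S9722
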