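import Groth.Statements.S9955
import Groth.Agent.Lib.Helper14.LqfFib

set_option autoImplicit false
universe u
open CategoryTheory CategoryTheory.Limits AlgebraicGeometry
open AlgSp

namespace Groth.Agent.S9955

/-- A morphism locally of finite type is locally quasi-finite if and only if all its fibres over
field-valued points have discrete spaces of points. -/
theorem result {S : Scheme.{u}} {X Y : AlgSp.Space S} (f : X ⟶ Y)
    (hf : AlgSp.LocP @LocallyOfFiniteType f.hom) :
    AlgSp.LocP ((@LocallyQuasiFinite : MorphismProperty Scheme.{u}) ⊓ @LocallyOfFiniteType) f.hom ↔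
      ∀ (k : Type u) [Field k] (str : Spec (CommRingCat.of k) ⟶ S) (y : (AlgSp.yon S).obj (Over.mk str) ⟶ Y.obj)
        (P : AlgSp.Sp S) (fst : P ⟶ X.obj) (snd : P ⟶ (AlgSp.yon S).obj (Over.mk str)),
        IsPullback fst snd f.hom y → DiscreteTopology (AlgSp.Points P) := by
  constructor
  · intro h k _ str y P fst snd sq
    exact Groth.Agent.Lib.Helper14.AS.discrete_points_fibre_of_locP_lqf X.property Y.property
      f.hom h k str y P fst snd sq
  · intro h
    exact Groth.Agent.Lib.Helper14.AS.locP_lqf_of_discrete_fibres X.property Y.property f.hom hf h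

end Groth.Agent.S9955
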