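import Groth.Statements.S10649
import Groth.Agent.Lib.Helper24.ThickFinite
import Groth.Agent.Lib.Helper14.AlgSpUCQC
import Groth.Agent.S9955

set_option autoImplicit false
universe u
open CategoryTheory CategoryTheory.Limits AlgebraicGeometry
open AlgSp

namespace Groth.Agent.S10649

open CategoryTheory CategoryTheory.Limits AlgebraicGeometry Opposite AlgSp
open Groth.Agent.Lib.Helper14.AS Groth.Agent.Lib.Helper24.ThickSq

/-- the two forms of "all fibres over field-valued points are discrete" agree -/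
theorem fibres_iff {S : Scheme.{u}} {X Y : Sp S} (f : X ⟶ Y) :
    (∀ (k : FieldPt Y) (Xk : Sp S) (fst : Xk ⟶ X) (snd : Xk ⟶ (yon S).obj k.pt),
        IsPullback fst snd f k.toHom → DiscreteTopology (Points Xk)) ↔
    (∀ (k : Type u) [Field k] (str : Spec (CommRingCat.of k) ⟶ S)
        (y : (yon S).obj (Over.mk str) ⟶ Y) (P : Sp S) (fst : P ⟶ X)
        (snd : P ⟶ (yon S).obj (Over.mk str)), IsPullback fst snd f y →
        DiscreteTopology (Points P)) := by
  constructor
  · intro H k _ str y P fst snd sq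
    let p : FieldPt Y := ⟨k, str, (J S).uliftYonedaEquiv y⟩
    have hp : p.toHom = y := (J S).uliftYonedaEquiv.symm_apply_apply y
    exact H p P fst snd (by rw [hp]; exact sq)
  · intro H k Xk fst snd sq
    exact H k.K k.str k.toHom Xk fst snd sq


/-- The following conditions on a morphism f : X ⟶ Y of algebraic spaces over S are equivalent: (1)
finiteness of f; (2) f is locally quasi-finite as well as proper (locally quasi-finite and locally
of finite type etale locally); (3) f is proper and for every field k and every k-point Spec k ⟶ Y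
the fibre X_k (any pullback of f along it in fppf sheaves) has discrete space of points; (4) f is
universally closed, separated and locally of finite type, and every such fibre X_k has discrete
space of points. -/
theorem result {S : Scheme.{u}} {X Y : AlgSp.Space S} (f : X ⟶ Y) :
    [AlgSp.IsFiniteMor f.hom,
      AlgSp.IsProperMor f.hom ∧ AlgSp.LocP (@LocallyQuasiFinite ⊓ @LocallyOfFiniteType) f.hom,
      AlgSp.IsProperMor f.hom ∧
        ∀ (k : AlgSp.FieldPt Y.obj) (Xk : AlgSp.Sp S) (fst : Xk ⟶ X.obj) (snd : Xk ⟶ (AlgSp.yon S).obj k.pt),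
          IsPullback fst snd f.hom k.toHom → DiscreteTopology (AlgSp.Points Xk),
      AlgSp.IsUnivClosedMor f.hom ∧ AlgSp.IsSeparatedMor f.hom ∧ AlgSp.LocP @LocallyOfFiniteType f.hom ∧
        ∀ (k : AlgSp.FieldPt Y.obj) (Xk : AlgSp.Sp S) (fst : Xk ⟶ X.obj) (snd : Xk ⟶ (AlgSp.yon S).obj k.pt),
          IsPullback fst snd f.hom k.toHom → DiscreteTopology (AlgSp.Points Xk)].TFAE := by
  have h12 := isFiniteMor_iff_isProperMor_and_lqf f
  have h23 : ∀ hft : LocP @LocallyOfFiniteType f.hom,
      (LocP (@LocallyQuasiFinite ⊓ @LocallyOfFiniteType) f.hom ↔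
        ∀ (k : FieldPt Y.obj) (Xk : Sp S) (fst : Xk ⟶ X.obj) (snd : Xk ⟶ (yon S).obj k.pt),
          IsPullback fst snd f.hom k.toHom → DiscreteTopology (Points Xk)) := fun hft =>
    (Groth.Agent.S9955.result f hft).trans (fibres_iff f.hom).symm
  tfae_have 1 ↔ 2 := h12
  tfae_have 2 → 3 := fun h => ⟨h.1, (h23 h.1.2.1.1).1 h.2⟩
  tfae_have 3 → 4 := fun h => ⟨h.1.2.2, h.1.1, h.1.2.1.1, h.2⟩
  tfae_have 4 → 2 := fun h =>
    ⟨⟨h.2.1, ⟨h.2.2.1, isQuasiCompactMor_of_isUnivClosedMor X.property Y.property h.1⟩, h.1⟩,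
      (h23 h.2.2.1).2 h.2.2.2⟩
  tfae_finish

end Groth.Agent.S10649
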