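import Groth.Statements.S5161
import Groth.Agent.Lib.Helper5.AffinePunctured

set_option autoImplicit false
universe u
open AlgebraicGeometry
open LocCoh

namespace Groth.Agent.S5161

/-- Let A be a Noetherian ring, X = Spec A and Y ⊆ X a closed subset whose complement U is an affine
open. Then every irreducible component of Y has codimension ≤ 1 in X, i.e. the generic point of each
irreducible component of Y is a prime of height at most 1. -/
theorem result (A : Type u) [CommRing A] [IsNoetherianRing A] (U : (Spec (CommRingCat.of A)).Opens) (hU : IsAffineOpen U) (p : PrimeSpectrum A) (hpU : (p : (Spec (CommRingCat.of A) : Type u)) ∉ (U : Set (Spec (CommRingCat.of A) : Type u))) (hmin : ∀ q : PrimeSpectrum A, q.asIdeal ≤ p.asIdeal → (q : (Spec (CommRingCat.of A) : Type u)) ∉ (U : Set (Spec (CommRingCat.of A) : Type u)) → q = p) : p.asIdeal.height ≤ 1 := by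
  obtain ⟨Us, hUs⟩ : ∃ Us : Set (PrimeSpectrum A), Us = U.1 := ⟨U.1, rfl⟩
  have hpU' : p ∉ Us := by rw [hUs]; exact hpU
  have hmin'' : ∀ q : PrimeSpectrum A, q.asIdeal ≤ p.asIdeal → q ∉ Us → q = p := by
    intro q hq hqU
    exact hmin q hq (by rw [hUs] at hqU; exact hqU)
  have hclosed : IsClosed (Usᶜ) := by
    rw [hUs]
    exact U.2.isClosed_compl
  have hzl : PrimeSpectrum.zeroLocus
      ((PrimeSpectrum.vanishingIdeal (Usᶜ) : Ideal A) : Set A) = Usᶜ := by
    rw [PrimeSpectrum.zeroLocus_vanishingIdeal_eq_closure, hclosed.closure_eq]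
  have hUeq : LocCoh.puncturedOpen A (PrimeSpectrum.vanishingIdeal (Usᶜ)) = U := by
    apply TopologicalSpace.Opens.ext
    change (PrimeSpectrum.zeroLocus
      ((PrimeSpectrum.vanishingIdeal (Usᶜ) : Ideal A) : Set A))ᶜ = _
    rw [hzl, compl_compl, hUs]
    rfl
  have hmin' : p.asIdeal ∈ (PrimeSpectrum.vanishingIdeal (Usᶜ)).minimalPrimes := by
    refine ⟨⟨p.isPrime, ?_⟩, ?_⟩
    · intro f hf
      exact (PrimeSpectrum.mem_vanishingIdeal _ _).1 hf p hpU'
    · rintro q ⟨hqp, hIq⟩ hqle
      have hqU : (⟨q, hqp⟩ : PrimeSpectrum A) ∈ Usᶜ := by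
        rw [← hzl]
        exact hIq
      have := hmin'' ⟨q, hqp⟩ hqle hqU
      rw [← this]
  haveI := p.isPrime
  exact Groth.Agent.Lib.Helper5.AffinePunctured.height_le_one_of_isAffineOpen A _ p.asIdeal
    (by rw [hUeq]; exact hU) hmin'

end Groth.Agent.S5161
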