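import Groth.Statements.S7128
import Groth.Agent.Lib.Helper2.DiagFlat
import Groth.Agent.Lib.Helper2.AbsFlat
import Mathlib.RingTheory.LocalRing.ResidueField.Ideal
import Mathlib.RingTheory.Spectrum.Prime.Basic

set_option autoImplicit false
universe u
open EtAlg

namespace Groth.Agent.S7128

/-- A weakly étale algebra over a reduced ring is itself reduced. -/
theorem result (A B : Type u) [CommRing A] [CommRing B] [Algebra A B] [IsReduced A]
    [Algebra.WeaklyEtale A B] : IsReduced B := by
  classical
  let K := ∀ p : PrimeSpectrum A, p.asIdeal.ResidueField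
  have hKinj : Function.Injective (algebraMap A K) := by
    rw [injective_iff_map_eq_zero]
    intro a ha
    have h1 : ∀ p : PrimeSpectrum A, a ∈ p.asIdeal := by
      intro p
      have := congrFun ha p
      rwa [Pi.algebraMap_apply, Pi.zero_apply, Ideal.algebraMap_residueField_eq_zero] at this
    have h2 : a ∈ nilradical A := by
      rw [nilradical_eq_sInf, Ideal.mem_sInf]
      intro J hJ
      exact h1 ⟨J, hJ⟩
    exact (nilradical_eq_zero A ▸ h2 : a ∈ (0 : Ideal A))
  have hKv : ∀ a : K, ∃ c : K, a = a * a * c := by
    intro a
    refine ⟨fun i => (a i)⁻¹, ?_⟩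
    funext i
    change a i = a i * a i * (a i)⁻¹
    by_cases h : a i = 0
    · simp [h]
    · field_simp
  have hK1 := Groth.Agent.Lib.Helper2.isReduced_of_vnr hKv
  have hK2 := Groth.Agent.Lib.Helper2.isMaximal_of_vnr hKv
  have hKflat : ∀ (M : Type u) [AddCommGroup M] [Module K M], Module.Flat K M := fun M _ _ =>
    Groth.Agent.Lib.Helper2.flat_of_forall_isField_localization K
      (fun m hm => Groth.Agent.Lib.Helper2.isField_localization_of_isReduced hK2 m) M
  -- the base change
  have hTflat : ∀ a : TensorProduct A K B,
      Module.Flat (TensorProduct A K B) (TensorProduct A K B ⧸ Ideal.span {a}) := by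
    intro a
    have := hKflat (TensorProduct A K B ⧸ Ideal.span {a})
    exact Groth.Agent.Lib.Helper2.flat_of_flat_lmul' K (TensorProduct A K B) _
      (Algebra.WeaklyEtale.flat_lmul' K (TensorProduct A K B))
  have hTred : IsReduced (TensorProduct A K B) :=
    Groth.Agent.Lib.Helper2.isReduced_of_vnr (Groth.Agent.Lib.Helper2.vnr_of_forall_flat hTflat)
  exact isReduced_of_injective (Algebra.TensorProduct.includeRight : B →ₐ[A] TensorProduct A K B)
    (Algebra.TensorProduct.includeRight_injective hKinj)

end Groth.Agent.S7128
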