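import Groth.Statements.S9841
import Groth.Agent.S7128
import Mathlib.AlgebraicGeometry.Morphisms.Smooth
import Mathlib.AlgebraicGeometry.Sites.MorphismProperty
import Mathlib.RingTheory.Unramified.LocalStructure
import Mathlib.RingTheory.Etale.Weakly
import Mathlib.Algebra.MvPolynomial.Nilpotent
import Mathlib.RingTheory.LocalProperties.Reduced

set_option autoImplicit false
open CategoryTheory CategoryTheory.Limits AlgebraicGeometry Opposite
universe u
open Desc

namespace Groth.Agent.S9841

theorem isReduced_of_smooth_alg (R S : Type u) [CommRing R] [CommRing S] [Algebra R S]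
    [_root_.IsReduced R] [Algebra.Smooth R S] : _root_.IsReduced S := by
  refine ⟨fun s hs => ?_⟩
  by_contra hne
  have hI : (Ideal.span {s}).annihilator ≠ ⊤ := by
    intro h
    have h1 : (1 : S) ∈ (Ideal.span {s}).annihilator := h ▸ Submodule.mem_top
    rw [Submodule.mem_annihilator_span_singleton] at h1
    exact hne (by simpa using h1)
  obtain ⟨m, hm, hIm⟩ := Ideal.exists_le_maximal _ hI
  obtain ⟨f, hfm, n, _, _, _⟩ :=
    Algebra.IsSmoothAt.exists_isStandardEtale_mvPolynomial (R := R) (p := m)
  have : _root_.IsReduced (Localization.Away f) :=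
    Groth.Agent.S7128.result (MvPolynomial (Fin n) R) (Localization.Away f)
  have h0 : algebraMap S (Localization.Away f) s = 0 := (hs.map _).eq_zero
  obtain ⟨⟨_, k, rfl⟩, hk⟩ := (IsLocalization.map_eq_zero_iff (Submonoid.powers f) _ s).mp h0
  refine hfm (hm.isPrime.mem_of_pow_mem k (hIm ?_))
  rw [Submodule.mem_annihilator_span_singleton]
  exact hk

theorem isReduced_of_smooth_scheme {X S : Scheme.{u}} (f : X ⟶ S) [Smooth f] [IsReduced S] :
    IsReduced X := by
  have : ∀ x : X, _root_.IsReduced (X.presheaf.stalk x) := by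
    intro x
    obtain ⟨V, hV, hfxV, -⟩ := exists_isAffineOpen_mem_and_subset (x := f x) (U := ⊤) trivial
    obtain ⟨U, hU, hxU, hUV⟩ :=
      exists_isAffineOpen_mem_and_subset (x := x) (U := f ⁻¹ᵁ V) hfxV
    have hsm : (f.appLE V U hUV).hom.Smooth :=
      HasRingHomProperty.appLE (P := @Smooth) f inferInstance ⟨V, hV⟩ ⟨U, hU⟩ hUV
    algebraize [(f.appLE V U hUV).hom]
    have : _root_.IsReduced Γ(X, U) := isReduced_of_smooth_alg Γ(S, V) Γ(X, U)
    have hloc := hU.isLocalization_stalk ⟨x, hxU⟩
    exact @isReduced_localizationPreserves _ _ (hU.primeIdealOf ⟨x, hxU⟩).asIdeal.primeCompl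
      (X.presheaf.stalk x) _ (X.presheaf.algebra_section_stalk ⟨x, hxU⟩) hloc inferInstance
  exact isReduced_of_isReduced_stalk X

theorem stalkMap_injective_of_flat {X Y : Scheme.{u}} (f : X ⟶ Y) [Flat f] (x : X) :
    Function.Injective (f.stalkMap x).hom := by
  algebraize [(f.stalkMap x).hom]
  have : Module.FaithfullyFlat (Y.presheaf.stalk (f x)) (X.presheaf.stalk x) :=
    @Module.FaithfullyFlat.of_flat_of_isLocalHom _ _ _ _ _ _ _
      (Flat.stalkMap f x) (f.toLRSHom.prop x)
  exact ‹RingHom.FaithfullyFlat _›.injective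

/-- Being reduced is local in the smooth topology: for a jointly surjective family of smooth morphisms f
i : X i ⟶ S, the scheme S is reduced if and only if every X i is reduced. -/
theorem result {ι : Type u} {S : Scheme.{u}} {X : ι → Scheme.{u}} (f : ∀ i, X i ⟶ S)
    (hf : Presieve.ofArrows X f ∈ Scheme.precoverage @Smooth S) :
    IsReduced S ↔ ∀ i, IsReduced (X i) := by
  rw [Scheme.ofArrows_mem_precoverage_iff] at hf
  obtain ⟨hsurj, hsm⟩ := hf
  constructor
  · intro hS i
    have := hsm i
    exact isReduced_of_smooth_scheme (f i)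
  · intro hX
    have : ∀ s : S, _root_.IsReduced (S.presheaf.stalk s) := by
      intro s
      obtain ⟨i, x, rfl⟩ := hsurj s
      have := hsm i
      have := hX i
      exact isReduced_of_injective ((f i).stalkMap x).hom (stalkMap_injective_of_flat (f i) x)
    exact isReduced_of_isReduced_stalk S

end Groth.Agent.S9841
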