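import Groth.Statements.S3627
import Groth.Agent.Lib.Helper16.GorMor

set_option autoImplicit false
universe u
open CategoryTheory CategoryTheory.Limits AlgebraicGeometry
attribute [local instance] HasDerivedCategory.standard
open Dual3

namespace Groth.Agent.S3627

section helpers
open CategoryTheory CategoryTheory.Limits AlgebraicGeometry
attribute [local instance] HasDerivedCategory.standard
open Dual3

theorem result_aux (X Y Z : Scheme.{u}) (f : X ⟶ Y) (g : Y ⟶ Z) (hfibf : ∀ y, IsLocallyNoetherian (f.fiber y)) (hfibg : ∀ y, IsLocallyNoetherian (g.fiber y)) (hfibfg : ∀ z, IsLocallyNoetherian ((f ≫ g).fiber z)) (x : X) : (Dual3.IsGorensteinAt f x → Dual3.IsGorensteinAt g (f x) → Dual3.IsGorensteinAt (f ≫ g) x) ∧ (Dual3.IsGorensteinAt (f ≫ g) x → (f.stalkMap x).hom.Flat → Dual3.IsGorensteinAt f x ∧ Dual3.IsGorensteinAt g (f x)) := by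
  have := hfibf (f x)
  have := hfibg (g (f x))
  have := hfibfg ((f ≫ g) x)
  have hc : ((f ≫ g).stalkMap x).hom = (f.stalkMap x).hom.comp (g.stalkMap (f x)).hom := by
    rw [AlgebraicGeometry.Scheme.Hom.stalkMap_comp]
    rfl
  constructor
  · rintro ⟨hf1, hf2⟩ ⟨hg1, hg2⟩
    refine ⟨?_, ?_⟩
    · rw [hc]
      exact RingHom.Flat.comp hg1 hf1
    · rw [Groth.Agent.Lib.Helper16.GorMor.gor_fiber_stalk_iff,
        Groth.Agent.Lib.Helper16.GorMor.gor_CF_comp_iff f g x hf1]
      exact ⟨(Groth.Agent.Lib.Helper16.GorMor.gor_fiber_stalk_iff g (f x)).mp hg2,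
        (Groth.Agent.Lib.Helper16.GorMor.gor_fiber_stalk_iff f x).mp hf2⟩
  · rintro ⟨h1, h2⟩ hf
    rw [Groth.Agent.Lib.Helper16.GorMor.gor_fiber_stalk_iff,
      Groth.Agent.Lib.Helper16.GorMor.gor_CF_comp_iff f g x hf] at h2
    refine ⟨⟨hf, (Groth.Agent.Lib.Helper16.GorMor.gor_fiber_stalk_iff f x).mpr h2.2⟩,
      ⟨?_, (Groth.Agent.Lib.Helper16.GorMor.gor_fiber_stalk_iff g (f x)).mpr h2.1⟩⟩
    rw [hc] at h1
    exact Groth.Agent.Lib.Helper16.GorMor.flat_of_comp_of_flat_local _ _ hf h1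

end helpers

/-- Let f : X → Y and g : Y → Z be morphisms such that the fibres of f, g and g ∘ f are locally
Noetherian, and let x be a point of X. (1) The composite g ∘ f is Gorenstein at x provided f is so
at x and g is so at f(x). (3) Conversely, if f is flat at x and the composite is Gorenstein there,
then both factors are Gorenstein: f at x, and g at f(x). -/
theorem result (X Y Z : Scheme.{u}) (f : X ⟶ Y) (g : Y ⟶ Z) (hfibf : ∀ y, IsLocallyNoetherian (f.fiber y)) (hfibg : ∀ y, IsLocallyNoetherian (g.fiber y)) (hfibfg : ∀ z, IsLocallyNoetherian ((f ≫ g).fiber z)) (x : X) : (Dual3.IsGorensteinAt f x → Dual3.IsGorensteinAt g (f x) → Dual3.IsGorensteinAt (f ≫ g) x) ∧ (Dual3.IsGorensteinAt (f ≫ g) x → (f.stalkMap x).hom.Flat → Dual3.IsGorensteinAt f x ∧ Dual3.IsGorensteinAt g (f x)) := by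
  exact result_aux X Y Z f g hfibf hfibg hfibfg x

end Groth.Agent.S3627
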