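import Groth.Statements.S7476
import Groth.Agent.Lib.Helper10.ValSpec

set_option autoImplicit false
universe w u
open HTop

namespace Groth.Agent.S7476

open CategoryTheory CategoryTheory.Limits AlgebraicGeometry IsLocalRing
open Groth.Agent.Lib.Helper10.ValSpec

/-- A morphism from the spectrum of a local ring factors through any open containing the image of
the closed point. -/
lemma exists_lift_of_closedPoint_mem {R : CommRingCat.{u}} [IsLocalRing R] {X : Scheme.{u}}
    (g : Spec R ⟶ X) (U : X.Opens) (h : g (closedPoint R) ∈ U) :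
    ∃ g' : Spec R ⟶ (U : Scheme.{u}), g' ≫ U.ι = g := by
  have hr : Set.range g ⊆ Set.range U.ι := by
    rintro _ ⟨p, rfl⟩
    rw [Scheme.Opens.range_ι]
    have hs : p ⤳ closedPoint R := specializes_closedPoint p
    exact (hs.map g.continuous).mem_open U.isOpen h
  exact ⟨IsOpenImmersion.lift U.ι g hr, IsOpenImmersion.lift_fac _ _ _⟩

/-- The lifting property of a single morphism, free of index universes. -/
def Lift1 {X Y : Scheme.{u}} (f : X ⟶ Y) : Prop :=
  ∀ (V : CommRingCat.{u}) [IsDomain V] [ValuationRing V] (g : Spec V ⟶ Y),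
    ∃ (W : CommRingCat.{u}) (_ : IsDomain W) (_ : ValuationRing W) (φ : V ⟶ W),
      HTop.IsExtVal V W φ ∧ ∃ g' : Spec W ⟶ X, g' ≫ f = Spec.map φ ≫ g

lemma hasValLift_singleton_iff {X Y : Scheme.{u}} (f : X ⟶ Y) :
    HTop.HasValLift (PreZeroHypercover.singleton.{w} f) ↔ Lift1 f := by
  constructor
  · intro h V _ _ g
    obtain ⟨W, hWd, hWv, φ, hφ, j, g', hg'⟩ := h V g
    exact ⟨W, hWd, hWv, φ, hφ, g', hg'⟩
  · intro h V _ _ g
    obtain ⟨W, hWd, hWv, φ, hφ, g', hg'⟩ := h V g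
    exact ⟨W, hWd, hWv, φ, hφ, PUnit.unit, g', hg'⟩

lemma lift1_of_isVCover {X Y : Scheme.{u}} (f : X ⟶ Y)
    (h : HTop.IsVCover (PreZeroHypercover.singleton.{w} f)) : Lift1 f := by
  intro V _ _ g
  obtain ⟨U, hU, hyU, -⟩ : ∃ U : Y.Opens, U ∈ Y.affineOpens ∧ g (closedPoint V) ∈ U ∧ U ≤ ⊤ :=
    TopologicalSpace.Opens.isBasis_iff_nbhd.mp Y.isBasis_affineOpens
      (TopologicalSpace.Opens.mem_top (g (closedPoint V)))
  obtain ⟨g', hg'⟩ := exists_lift_of_closedPoint_mem g U hyU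
  obtain ⟨F, hF, href⟩ := h ⟨U, hU⟩
  obtain ⟨W, hWd, hWv, φ, hφ, j, g'', hg''⟩ := hF.lift V g'
  obtain ⟨i, k, hk⟩ := href j
  let k' : F.X j ⟶ X := k
  have hk' : k' ≫ f = F.f j ≫ U.ι := hk
  refine ⟨W, hWd, hWv, φ, hφ, g'' ≫ k', ?_⟩
  rw [Category.assoc, hk', ← Category.assoc, hg'', Category.assoc, hg']

lemma isVCover_of_lift1 {X Y : Scheme.{u}} (f : X ⟶ Y) [QuasiCompact f] (h : Lift1 f) :
    HTop.IsVCover (PreZeroHypercover.singleton.{w} f) := by
  rintro ⟨U, hU⟩
  have hUa : IsAffineOpen U := hU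
  have hc : IsCompact (f ⁻¹ᵁ U : Set X) := QuasiCompact.isCompact_preimage (f := f) _ U.isOpen
    hUa.isCompact
  obtain ⟨s, hs, hsU⟩ := (isCompact_iff_finite_and_eq_biUnion_affineOpens (U := f ⁻¹ᵁ U)).mp hc
  have hfin : Finite s := hs
  obtain ⟨n, ⟨e⟩⟩ := Finite.exists_equiv_fin s
  have hle : ∀ k : Fin n, ((e.symm k : X.affineOpens) : X.Opens) ≤ f ⁻¹ᵁ U := by
    intro k
    rw [hsU]
    exact le_iSup₂ (f := fun (i : X.affineOpens) (_ : i ∈ s) => (i : X.Opens)) _ (e.symm k).2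
  let F : PreZeroHypercover.{0} (U : Scheme.{u}) :=
    { I₀ := Fin n
      X := fun k => (((e.symm k : X.affineOpens) : X.Opens) : Scheme.{u})
      f := fun k => f.resLE U _ (hle k) }
  refine ⟨F, ⟨hUa, inferInstanceAs (Finite (Fin n)), fun k => (e.symm k : X.affineOpens).2, ?_⟩, ?_⟩
  · intro V _ _ g
    obtain ⟨W, hWd, hWv, φ, hφ, g', hg'⟩ := h V (g ≫ U.ι)
    have hmem : g' (closedPoint W : ↥(Spec W)) ∈ f ⁻¹ᵁ U := by
      have h1 : f (g' (closedPoint W : ↥(Spec W))) = (g' ≫ f) (closedPoint W : ↥(Spec W)) := rfl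
      change f (g' _) ∈ U
      rw [h1, hg']
      exact ((Spec.map φ ≫ g) (closedPoint W : ↥(Spec W))).2
    rw [hsU] at hmem
    simp only [TopologicalSpace.Opens.mem_iSup] at hmem
    obtain ⟨i, his, hi⟩ := hmem
    obtain ⟨k, hk⟩ : ∃ k, e.symm k = ⟨i, his⟩ := ⟨e ⟨i, his⟩, e.symm_apply_apply _⟩
    have hi' : g' (closedPoint W : ↥(Spec W)) ∈ ((e.symm k : X.affineOpens) : X.Opens) := by
      rw [hk]
      exact hi
    obtain ⟨g'', hg''⟩ := exists_lift_of_closedPoint_mem g'
      ((e.symm k : X.affineOpens) : X.Opens) hi'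
    refine ⟨W, hWd, hWv, φ, hφ, k, g'', ?_⟩
    rw [← cancel_mono U.ι]
    change (g'' ≫ f.resLE U _ (hle k)) ≫ U.ι = _
    rw [Category.assoc, Scheme.Hom.resLE_comp_ι, ← Category.assoc, hg'', hg', Category.assoc]
  · intro k
    exact ⟨PUnit.unit, ((e.symm k : X.affineOpens) : X.Opens).ι, (Scheme.Hom.resLE_comp_ι _ _).symm⟩

lemma spec_of_lift1 {X Y : Scheme.{u}} (f : X ⟶ Y) (h : Lift1 f) (Z : Scheme.{u}) (g : Z ⟶ Y)
    (z' z : Z) (hz : z' ⤳ z) :
    ∃ w' w : ↑(pullback g f), w' ⤳ w ∧ pullback.fst g f w' = z' ∧ pullback.fst g f w = z := by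
  obtain ⟨A, hAd, hAv, a, ha1, ha2⟩ := exists_valuationRing_of_specializes hz
  obtain ⟨W, hWd, hWv, φ, hφ, g', hg'⟩ := h A (a ≫ g)
  let b : Spec W ⟶ pullback g f := pullback.lift (Spec.map φ ≫ a) g'
    (by rw [Category.assoc, hg'])
  have hb : b ≫ pullback.fst g f = Spec.map φ ≫ a := pullback.lift_fst _ _ _
  have hlocal : IsLocalHom φ.hom := hφ.2
  refine ⟨b (genericPt W), b (closedPoint W : ↥(Spec W)),
    (genericPt_specializes W _).map b.continuous, ?_, ?_⟩
  · calc pullback.fst g f (b (genericPt W)) = (b ≫ pullback.fst g f) (genericPt W) := rfl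
      _ = a (Spec.map φ (genericPt W)) := by rw [hb]; rfl
      _ = z' := by rw [SpecMap_genericPt φ hφ.1, ha1]
  · calc pullback.fst g f (b (closedPoint W : ↥(Spec W)))
        = (b ≫ pullback.fst g f) (closedPoint W : ↥(Spec W)) := rfl
      _ = a (Spec.map φ (closedPoint W : ↥(Spec W))) := by rw [hb]; rfl
      _ = a (closedPoint A : ↥(Spec A)) := by
          congr 1
          exact comap_closedPoint φ.hom
      _ = z := ha2

lemma lift1_of_spec {X Y : Scheme.{u}} (f : X ⟶ Y)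
    (h : ∀ (Z : Scheme.{u}) (g : Z ⟶ Y) (z' z : Z), z' ⤳ z → ∃ w' w : ↑(pullback g f),
      w' ⤳ w ∧ pullback.fst g f w' = z' ∧ pullback.fst g f w = z) : Lift1 f := by
  intro V _ _ g
  obtain ⟨w', w, hw, hw1, hw2⟩ := h (Spec V) g (genericPt V) (closedPoint V : ↥(Spec V))
    (genericPt_specializes V _)
  obtain ⟨W, hWd, hWv, b, hb1, hb2⟩ := exists_valuationRing_of_specializes hw
  let φ : V ⟶ W := Spec.preimage (b ≫ pullback.fst g f)
  have hφ : Spec.map φ = b ≫ pullback.fst g f := Spec.map_preimage _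
  refine ⟨W, hWd, hWv, φ, ⟨?_, ?_⟩, b ≫ pullback.snd g f, ?_⟩
  · rw [RingHom.injective_iff_ker_eq_bot, RingHom.ker_eq_comap_bot]
    have h1 : Spec.map φ (genericPt W) = genericPt V := by
      rw [hφ]
      calc (b ≫ pullback.fst g f) (genericPt W) = pullback.fst g f (b (genericPt W)) := rfl
        _ = genericPt V := by rw [hb1, hw1]
    exact congrArg PrimeSpectrum.asIdeal h1
  · have h1 : Spec.map φ (closedPoint W : ↥(Spec W)) = (closedPoint V : ↥(Spec V)) := by
      have e : (b ≫ pullback.fst g f) (closedPoint W : ↥(Spec W)) =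
          pullback.fst g f (b (closedPoint W : ↥(Spec W))) := rfl
      rw [hφ, e, hb2, hw2]
    have h2 : (maximalIdeal W).comap φ.hom = maximalIdeal V :=
      congrArg PrimeSpectrum.asIdeal h1
    exact ((local_hom_TFAE φ.hom).out 0 4).mpr h2
  · rw [Category.assoc, ← pullback.condition, ← Category.assoc, hφ]

open CategoryTheory CategoryTheory.Limits AlgebraicGeometry in
/-- Let f : X -> Y be a quasi-compact morphism of schemes. Then the one-member family of f is a V
covering if and only if every morphism from the spectrum of a valuation ring to Y lifts to X after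
an extension of valuation rings; and the latter holds if and only if for every morphism Z -> Y and
every specialization z' ⤳ z of points of Z there is a specialization w' ⤳ w of points of Z x_Y X
mapping to z' ⤳ z. -/
theorem result {X Y : Scheme.{u}} (f : X ⟶ Y) [QuasiCompact f] : (HTop.IsVCover (PreZeroHypercover.singleton f) ↔ HTop.HasValLift (PreZeroHypercover.singleton f)) ∧ (HTop.HasValLift (PreZeroHypercover.singleton f) ↔ ∀ (Z : Scheme.{u}) (g : Z ⟶ Y) (z' z : Z), z' ⤳ z → ∃ w' w : ↑(pullback g f), w' ⤳ w ∧ pullback.fst g f w' = z' ∧ pullback.fst g f w = z) := by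
  refine ⟨⟨fun h => (hasValLift_singleton_iff f).mpr (lift1_of_isVCover f h),
    fun h => isVCover_of_lift1 f ((hasValLift_singleton_iff f).mp h)⟩,
    ⟨fun h => spec_of_lift1 f ((hasValLift_singleton_iff f).mp h),
    fun h => (hasValLift_singleton_iff f).mpr (lift1_of_spec f h)⟩⟩

end Groth.Agent.S7476
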