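import Groth.Statements.S9709
-- import your own Groth.Agent.* helpers here

set_option autoImplicit false
universe u
open CategoryTheory CategoryTheory.Limits AlgebraicGeometry
open Mor

namespace Groth.Agent.S9709

/-- Incomparability for integral morphisms of schemes: a specialization inside a fibre of an
integral morphism is trivial. -/
theorem eq_of_specializes_of_isIntegralHom {X S : Scheme.{u}} (f : X ⟶ S) [IsIntegralHom f]
    {x y : X} (hxy : x ⤳ y) (hf : f y = f x) : y = x := by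
  obtain ⟨V, hV, hxV, -⟩ := exists_isAffineOpen_mem_and_subset (x := f x) (U := ⊤) trivial
  have hU : IsAffineOpen (f ⁻¹ᵁ V) := IsAffineHom.isAffine_preimage V hV
  have hx : x ∈ f ⁻¹ᵁ V := hxV
  have hy : y ∈ f ⁻¹ᵁ V := by
    change f y ∈ V
    rw [hf]; exact hxV
  have hle : hU.primeIdealOf ⟨x, hx⟩ ⤳ hU.primeIdealOf ⟨y, hy⟩ := by
    have h1 : (⟨x, hx⟩ : (f ⁻¹ᵁ V : X.Opens)) ⤳ ⟨y, hy⟩ :=
      (subtype_specializes_iff _ _).mpr hxy
    exact h1.map hU.isoSpec.hom.continuous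
  rw [← PrimeSpectrum.le_iff_specializes] at hle
  have hcx := IsAffineOpen.comap_primeIdealOf_appLE (f := f) V hV (f ⁻¹ᵁ V) hU le_rfl hx
  have hcy := IsAffineOpen.comap_primeIdealOf_appLE (f := f) V hV (f ⁻¹ᵁ V) hU le_rfl hy
  have hint : (f.appLE V (f ⁻¹ᵁ V) le_rfl).hom.IsIntegral := by
    rw [Scheme.Hom.appLE_eq_app]
    exact IsIntegralHom.isIntegral_app f V hV
  have hc : (hU.primeIdealOf ⟨x, hx⟩).asIdeal.comap (f.appLE V (f ⁻¹ᵁ V) le_rfl).hom =
      (hU.primeIdealOf ⟨y, hy⟩).asIdeal.comap (f.appLE V (f ⁻¹ᵁ V) le_rfl).hom := by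
    have e1 := congrArg PrimeSpectrum.asIdeal hcx
    have e2 := congrArg PrimeSpectrum.asIdeal hcy
    simp only [PrimeSpectrum.comap_asIdeal] at e1 e2
    rw [e1, e2]
    congr 2
    exact Subtype.ext hf.symm
  have heq : hU.primeIdealOf ⟨x, hx⟩ = hU.primeIdealOf ⟨y, hy⟩ := by
    by_contra hne
    have hlt : (hU.primeIdealOf ⟨x, hx⟩).asIdeal < (hU.primeIdealOf ⟨y, hy⟩).asIdeal :=
      lt_of_le_of_ne hle (fun h => hne (PrimeSpectrum.ext h))
    algebraize [(f.appLE V (f ⁻¹ᵁ V) le_rfl).hom]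
    have : Algebra.IsIntegral Γ(S, V) Γ(X, f ⁻¹ᵁ V) := ⟨hint⟩
    have := Ideal.IsIntegral.comap_lt_comap (R := Γ(S, V)) hlt
    exact (ne_of_lt this) hc
  have e1 := hU.fromSpec_primeIdealOf ⟨x, hx⟩
  have e2 := hU.fromSpec_primeIdealOf ⟨y, hy⟩
  rw [heq] at e1
  exact e2.symm.trans e1

/-- Let f : X ⟶ S be an integral morphism. Then every point x of X is closed in its fibre: a point of
f⁻¹(f x) specialising from x equals x. -/
theorem result {X S : Scheme.{u}} (f : X ⟶ S) [IsIntegralHom f] (x : X) :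
    closure {x} ∩ f.base ⁻¹' {f.base x} = {x} := by
  ext y
  simp only [Set.mem_inter_iff, Set.mem_preimage, Set.mem_singleton_iff]
  constructor
  · rintro ⟨h1, h2⟩
    exact eq_of_specializes_of_isIntegralHom f (specializes_iff_mem_closure.mpr h1) h2
  · rintro rfl
    exact ⟨subset_closure rfl, rfl⟩

end Groth.Agent.S9709
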