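import Groth.Statements.S9683
import Groth.Agent.S9709
import Groth.Agent.Lib.Helper5.TopDim

set_option autoImplicit false
universe u
open CategoryTheory CategoryTheory.Limits AlgebraicGeometry
open Mor

namespace Groth.Agent.S9683

open Order Topology in
attribute [local instance] specializationOrder in
/-- A continuous map between sober T0 spaces whose fibres contain no nontrivial specializations
does not raise the dimension. -/
theorem topologicalKrullDim_le_of_fiber_incomparable {X Y : Type*} [TopologicalSpace X]
    [TopologicalSpace Y] [QuasiSober X] [T0Space X] [QuasiSober Y] [T0Space Y] (f : X → Y)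
    (hf : Continuous f) (hd : ∀ a b : X, a ⤳ b → f b = f a → b = a) :
    topologicalKrullDim X ≤ topologicalKrullDim Y := by
  rw [Groth.Agent.Lib.Helper5.topologicalKrullDim_eq_krullDim,
    Groth.Agent.Lib.Helper5.topologicalKrullDim_eq_krullDim]
  have hmono : Monotone f := fun _ _ h => h.map hf
  have := krullDim_le_of_krullDim_preimage_le' (m := 0) f hmono ?_
  · simpa using this
  intro y
  rw [Nat.cast_zero, krullDim_nonpos_iff_forall_isMax]
  intro a b hab
  have h1 : (b : X) ⤳ (a : X) := hab
  have h2 : f (a : X) = f (b : X) := by
    have ha : f (a : X) = y := a.2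
    have hb : f (b : X) = y := b.2
    rw [ha, hb]
  have : (a : X) = b := hd _ _ h1 h2
  exact le_of_eq (Subtype.ext this.symm)

/-- For any integral morphism of schemes f : X ⟶ Y, the dimension of X is at most that of Y, and if f is
surjective then dim X = dim Y (dimensions of the underlying topological spaces). -/
theorem result {X Y : Scheme.{u}} (f : X ⟶ Y) [IsIntegralHom f] :
    topologicalKrullDim ↥X ≤ topologicalKrullDim ↥Y ∧
      (Surjective f → topologicalKrullDim ↥X = topologicalKrullDim ↥Y) := by
  have h1 : topologicalKrullDim ↥X ≤ topologicalKrullDim ↥Y :=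
    topologicalKrullDim_le_of_fiber_incomparable f f.continuous
      (fun a b hab hfab => Groth.Agent.S9709.eq_of_specializes_of_isIntegralHom f hab hfab)
  refine ⟨h1, fun hs => le_antisymm h1 ?_⟩
  exact Groth.Agent.Lib.Helper5.topologicalKrullDim_le_of_specializingMap f
    f.isClosedMap.specializingMap hs.surj

end Groth.Agent.S9683
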