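import Groth.Statements.S2154
import Groth.Agent.Lib.Helper13.LimIntegral

set_option autoImplicit false
universe u
open CategoryTheory AlgebraicGeometry
open Lim

namespace Groth.Agent.S2154

/-- Let `S` be quasi-compact and quasi-separated and `X = lim X_i` a cofiltered limit of quasi-compact
quasi-separated `S`-schemes locally of finite type over `S`, with finite transition morphisms. If `X
→ S` is integral then `X_i → S` is finite for all `i` beyond some index. -/
theorem result {I : Type u} [SmallCategory I] [IsCofiltered I] (S : Scheme.{u}) [CompactSpace S]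
    [QuasiSeparatedSpace S] (D : I ⥤ Over S) (c : Limits.Cone D) (hc : Limits.IsLimit c)
    [∀ (i j : I) (f : i ⟶ j), IsFinite (D.map f).left] [∀ i, CompactSpace (D.obj i).left]
    [∀ i, QuasiSeparatedSpace (D.obj i).left] [∀ i, LocallyOfFiniteType (D.obj i).hom] [IsIntegralHom c.pt.hom] :
    ∃ i₀ : I, ∀ (i : I) (_ : i ⟶ i₀), IsFinite (D.obj i).hom := by
  let D' : I ⥤ Scheme.{u} := D ⋙ Over.forget S
  let t : D' ⟶ (Functor.const I).obj S := { app := fun i => (D.obj i).hom }
  have : ∀ {i j : I} (f : i ⟶ j), IsIntegralHom (D'.map f) := fun f => by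
    dsimp [D']; infer_instance
  have : ∀ i, CompactSpace (D'.obj i) := fun i => inferInstanceAs (CompactSpace (D.obj i).left)
  have : ∀ i, QuasiSeparatedSpace (D'.obj i) := fun i =>
    inferInstanceAs (QuasiSeparatedSpace (D.obj i).left)
  have : ∀ i, LocallyOfFiniteType (t.app i) := fun i =>
    inferInstanceAs (LocallyOfFiniteType (D.obj i).hom)
  have i₀ : I := IsCofiltered.nonempty.some
  have : IsIntegralHom (((Over.forget S).mapCone c).π.app i₀ ≫ t.app i₀) := by
    have : ((Over.forget S).mapCone c).π.app i₀ ≫ t.app i₀ = c.pt.hom := by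
      simp [t]
    rw [this]; exact inferInstanceAs (IsIntegralHom c.pt.hom)
  exact Groth.Agent.Lib.Helper13.exists_isFinite_app D' t ((Over.forget S).mapCone c)
    (Limits.isLimitOfPreserves (Over.forget S) hc) i₀

end Groth.Agent.S2154
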