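import Groth.Statements.S9208
import Mathlib.Algebra.Category.Ring.FilteredColimits
import Mathlib.RingTheory.FinitePresentation
import Mathlib.CategoryTheory.Limits.Types.Filtered

set_option autoImplicit false
universe u
open CategoryTheory AlgebraicGeometry
open Lim

namespace Groth.Agent.S9208

open CategoryTheory.Limits

lemma isColimit_of_surj_inj {J : Type u} [SmallCategory J] [IsFiltered J]
    (F : J ⥤ CommRingCat.{u}) (c : Cocone F)
    (hsurj : ∀ x : c.pt, ∃ (i : J) (xi : F.obj i), x = c.ι.app i xi)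
    (hinj : ∀ (i j : J) (xi : F.obj i) (xj : F.obj j), c.ι.app i xi = c.ι.app j xj →
      ∃ (k : J) (f : i ⟶ k) (g : j ⟶ k), F.map f xi = F.map g xj) : Nonempty (IsColimit c) := by
  have : ReflectsColimit F (forget CommRingCat) := reflectsColimit_of_reflectsIsomorphisms _ _
  refine ⟨isColimitOfReflects (forget CommRingCat) (Types.FilteredColimit.isColimitOf _ _ ?_ ?_)⟩
  · exact hsurj
  · exact hinj

/-- The lifting property (surjectivity of `colim Hom_A(B, F_j) → Hom_A(B, colim F_j)`). -/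
def LiftProp {A B : CommRingCat.{u}} (φ : A ⟶ B) : Prop :=
  ∀ (J : Type u) [Preorder J] [IsDirected J (· ≤ ·)] [Nonempty J] (F : J ⥤ CommRingCat.{u})
    (α : (Functor.const J).obj A ⟶ F) (c : Cocone F) (_ : IsColimit c) (j₀ : J) (g : B ⟶ c.pt),
    φ ≫ g = α.app j₀ ≫ c.ι.app j₀ →
    ∃ (j : J) (gj : B ⟶ F.obj j), φ ≫ gj = α.app j ∧ gj ≫ c.ι.app j = g

lemma finiteType_of_liftProp {A B : CommRingCat.{u}} (φ : A ⟶ B) (h : LiftProp φ) :
    φ.hom.FiniteType := by
  classical
  algebraize [φ.hom]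
  let F : Finset B ⥤ CommRingCat.{u} :=
    { obj σ := CommRingCat.of (Algebra.adjoin A (σ : Set B))
      map {σ τ} f := CommRingCat.ofHom (Subalgebra.inclusion
        (Algebra.adjoin_mono (by exact_mod_cast leOfHom f))).toRingHom
      map_id σ := rfl
      map_comp f g := rfl }
  let c : Cocone F :=
    { pt := B
      ι := { app σ := CommRingCat.ofHom (Algebra.adjoin A (σ : Set B)).val.toRingHom
             naturality σ τ f := rfl } }
  let α : (Functor.const _).obj A ⟶ F :=
    { app σ := CommRingCat.ofHom (algebraMap A (Algebra.adjoin A (σ : Set B)))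
      naturality σ τ f := rfl }
  obtain ⟨hc⟩ : Nonempty (IsColimit c) := by
    refine isColimit_of_surj_inj F c ?_ ?_
    · intro b
      exact ⟨{b}, ⟨b, Algebra.subset_adjoin (by simp)⟩, rfl⟩
    · intro σ τ x y hxy
      refine ⟨σ ∪ τ, homOfLE Finset.subset_union_left, homOfLE Finset.subset_union_right, ?_⟩
      exact Subtype.ext hxy
  obtain ⟨σ, gσ, h1, h2⟩ := h (Finset B) F α c hc ∅ (𝟙 B) (by
    ext a
    rfl)
  have : Algebra.adjoin A (σ : Set B) = ⊤ := by
    rw [eq_top_iff]
    intro b _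
    have := congr($h2 b)
    have h3 : ((gσ b : Algebra.adjoin A (σ : Set B)) : B) = b := this
    rw [← h3]
    exact (gσ b).2
  exact ⟨σ, this⟩

lemma finitePresentation_of_retract {A B C : Type u} [CommRing A] [CommRing B] [CommRing C]
    (φ : A →+* B) (ψ : A →+* C) (s : B →+* C) (π : C →+* B) (hψ : ψ.FinitePresentation)
    (h1 : s.comp φ = ψ) (h2 : π.comp s = RingHom.id B) : φ.FinitePresentation := by
  have hs : s.FiniteType := RingHom.FiniteType.of_comp_finiteType (f := φ) (h1 ▸ RingHom.FiniteType.of_finitePresentation hψ)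
  have hπ : π.FinitePresentation :=
    RingHom.FinitePresentation.of_comp_finiteType s (h2 ▸ RingHom.FinitePresentation.id B) hs
  have : φ = π.comp ψ := by
    rw [← h1, ← RingHom.comp_assoc, h2, RingHom.id_comp]
  rw [this]
  exact hπ.comp hψ

lemma finitePresentation_of_liftProp {A B : CommRingCat.{u}} (φ : A ⟶ B) (h : LiftProp φ) :
    φ.hom.FinitePresentation := by
  classical
  have hft := finiteType_of_liftProp φ h
  algebraize [φ.hom]
  obtain ⟨n, π, hπ⟩ := Algebra.FiniteType.iff_quotient_mvPolynomial''.mp ‹Algebra.FiniteType A B›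
  let P := MvPolynomial (Fin n) A
  let K : Ideal P := RingHom.ker π.toRingHom
  let J := {I : Ideal P // I.FG ∧ I ≤ K}
  have : Nonempty J := ⟨⟨⊥, Submodule.fg_bot, bot_le⟩⟩
  have : IsDirected J (· ≤ ·) := ⟨fun I₁ I₂ ↦ ⟨⟨I₁.1 ⊔ I₂.1, Submodule.FG.sup I₁.2.1 I₂.2.1, sup_le I₁.2.2 I₂.2.2⟩,
    le_sup_left (a := I₁.1), le_sup_right (b := I₂.1)⟩⟩
  let F : J ⥤ CommRingCat.{u} :=
    { obj I := CommRingCat.of (P ⧸ I.1)
      map {I₁ I₂} f := CommRingCat.ofHom (Ideal.Quotient.factor (leOfHom f))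
      map_id I := CommRingCat.hom_ext (Ideal.Quotient.ringHom_ext rfl)
      map_comp f g := CommRingCat.hom_ext (Ideal.Quotient.ringHom_ext rfl) }
  let c : Cocone F :=
    { pt := B
      ι := { app I := CommRingCat.ofHom (Ideal.Quotient.lift I.1 π.toRingHom (fun x hx ↦ I.2.2 hx))
             naturality I₁ I₂ f := CommRingCat.hom_ext (Ideal.Quotient.ringHom_ext rfl) } }
  let α : (Functor.const _).obj A ⟶ F :=
    { app I := CommRingCat.ofHom (algebraMap A (P ⧸ I.1))
      naturality I₁ I₂ f := by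
        ext x
        rfl }
  obtain ⟨hc⟩ : Nonempty (IsColimit c) := by
    refine isColimit_of_surj_inj F c ?_ ?_
    · intro b
      obtain ⟨p, rfl⟩ := hπ b
      exact ⟨⟨⊥, Submodule.fg_bot, bot_le⟩, Ideal.Quotient.mk _ p, rfl⟩
    · intro I₁ I₂ x y hxy
      obtain ⟨p, rfl⟩ := Ideal.Quotient.mk_surjective x
      obtain ⟨q, rfl⟩ := Ideal.Quotient.mk_surjective y
      have hpq : p - q ∈ K := by
        have : π p = π q := hxy
        simp [K, RingHom.mem_ker, this]
      let I₃ : J := ⟨I₁.1 ⊔ I₂.1 ⊔ Ideal.span {p - q},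
        Submodule.FG.sup (Submodule.FG.sup I₁.2.1 I₂.2.1) (Submodule.fg_span_singleton _),
        sup_le (sup_le I₁.2.2 I₂.2.2) (by rwa [Ideal.span_singleton_le_iff_mem])⟩
      refine ⟨I₃, homOfLE (show I₁.1 ≤ I₃.1 from le_sup_of_le_left le_sup_left),
        homOfLE (show I₂.1 ≤ I₃.1 from le_sup_of_le_left le_sup_right), ?_⟩
      show Ideal.Quotient.mk I₃.1 p = Ideal.Quotient.mk I₃.1 q
      rw [Ideal.Quotient.eq]
      exact Ideal.mem_sup_right (Ideal.subset_span rfl)
  obtain ⟨I, gI, h1, h2⟩ := h J F α c hc ⟨⊥, Submodule.fg_bot, bot_le⟩ (𝟙 B) (by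
    ext a
    show φ.hom a = π (algebraMap A P a)
    rw [AlgHom.commutes]
    rfl)
  have hψ : (algebraMap A (P ⧸ I.1)).FinitePresentation := by
    have : Algebra.FinitePresentation A (P ⧸ I.1) := Algebra.FinitePresentation.quotient I.2.1
    exact RingHom.finitePresentation_algebraMap.mpr this
  refine finitePresentation_of_retract φ.hom _ gI.hom (c.ι.app I).hom hψ ?_ ?_
  · exact congr($(h1).hom)
  · exact congr($(h2).hom)

lemma liftProp_appLE {X S : Scheme.{u}} (f : X ⟶ S)
    (h : ∀ (J : Type u) [Preorder J] [IsDirected J (· ≤ ·)] [Nonempty J] (D : Jᵒᵖ ⥤ Scheme.{u})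
      (t : D ⟶ (Functor.const Jᵒᵖ).obj S) (c : Limits.Cone D) (_ : Limits.IsLimit c),
      (∀ j, IsAffine (D.obj j)) → ∀ (j₀ : Jᵒᵖ) (g : c.pt ⟶ X), g ≫ f = c.π.app j₀ ≫ t.app j₀ →
        ∃ (j : Jᵒᵖ) (gj : D.obj j ⟶ X), gj ≫ f = t.app j ∧ c.π.app j ≫ gj = g)
    {U : X.Opens} (hU : IsAffineOpen U) {V : S.Opens} (hV : IsAffineOpen V) (e : U ≤ f ⁻¹ᵁ V) :
    LiftProp (f.appLE V U e) := by
  intro J _ _ _ F α c' hc' j₀ g hg
  let D : Jᵒᵖ ⥤ Scheme.{u} := F.op ⋙ Scheme.Spec
  let c : Cone D := Scheme.Spec.mapCone c'.op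
  have hc : IsLimit c := isLimitOfPreserves Scheme.Spec hc'.op
  let t : D ⟶ (Functor.const Jᵒᵖ).obj S :=
    { app j := Spec.map (α.app j.unop) ≫ hV.fromSpec
      naturality j j' a := by
        have := α.naturality a.unop
        simp only [Functor.const_obj_obj, Functor.const_obj_map, Category.id_comp] at this
        simp only [D, Functor.comp_map, Functor.op_map, Scheme.Spec_map, Quiver.Hom.unop_op,
          Functor.const_obj_map, ← Spec.map_comp_assoc, ← this]
        rfl }
  have haff : ∀ j, IsAffine (D.obj j) := fun j ↦ inferInstanceAs (IsAffine (Spec _))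
  obtain ⟨j, gj, h1, h2⟩ := h J D t c hc haff (Opposite.op j₀) (Spec.map g ≫ hU.fromSpec) (by
    rw [Category.assoc, ← IsAffineOpen.SpecMap_appLE_fromSpec f hV hU e, ← Spec.map_comp_assoc, hg,
      Spec.map_comp_assoc]
    rfl)
  have hW : c.π.app j ⁻¹ᵁ (gj ⁻¹ᵁ U) = ⊤ := by
    rw [← Scheme.Hom.comp_preimage, h2, Scheme.Hom.comp_preimage, hU.fromSpec_preimage_self]
    simp
  obtain ⟨j', a, ha⟩ := exists_map_eq_top D c hc (gj ⁻¹ᵁ U) hW
  have hrange : Set.range (D.map a ≫ gj).base ⊆ Set.range hU.fromSpec.base := by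
    rw [hU.range_fromSpec]
    rintro _ ⟨x, rfl⟩
    have : x ∈ D.map a ⁻¹ᵁ gj ⁻¹ᵁ U := ha ▸ trivial
    exact this
  let l : D.obj j' ⟶ Spec Γ(X, U) := IsOpenImmersion.lift hU.fromSpec (D.map a ≫ gj) hrange
  have hl : l ≫ hU.fromSpec = D.map a ≫ gj := IsOpenImmersion.lift_fac _ _ _
  refine ⟨j'.unop, Spec.preimage l, ?_, ?_⟩
  · apply Spec.map_injective
    rw [Spec.map_comp, Spec.map_preimage]
    rw [← cancel_mono hV.fromSpec, Category.assoc, IsAffineOpen.SpecMap_appLE_fromSpec f hV hU e,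
      reassoc_of% hl, h1]
    have := t.naturality a
    simp only [Functor.const_obj_obj, Functor.const_obj_map, Category.comp_id] at this
    exact this
  · apply Spec.map_injective
    rw [Spec.map_comp, Spec.map_preimage, ← cancel_mono hU.fromSpec, Category.assoc, hl, ← h2,
      ← Category.assoc]
    congr 1
    exact c.w a


/-- Let f : X → S be a morphism of schemes. Suppose that for every inverse system (T_j) of affine
schemes over S indexed by a nonempty directed preordered set, with limit T, the canonical map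
colim_j Mor_S(T_j, X) → Mor_S(T, X) is surjective: every S-morphism T → X is the composite of the
projection T → T_j with an S-morphism T_j → X for some j. Then f is locally of finite presentation
(surjectivity alone suffices; bijectivity is not required). -/
theorem result {X S : Scheme.{u}} (f : X ⟶ S)
    (h : ∀ (J : Type u) [Preorder J] [IsDirected J (· ≤ ·)] [Nonempty J] (D : Jᵒᵖ ⥤ Scheme.{u})
      (t : D ⟶ (Functor.const Jᵒᵖ).obj S) (c : Limits.Cone D) (_ : Limits.IsLimit c),
      (∀ j, IsAffine (D.obj j)) → ∀ (j₀ : Jᵒᵖ) (g : c.pt ⟶ X), g ≫ f = c.π.app j₀ ≫ t.app j₀ →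
        ∃ (j : Jᵒᵖ) (gj : D.obj j ⟶ X), gj ≫ f = t.app j ∧ c.π.app j ≫ gj = g) :
    LocallyOfFinitePresentation f := by
  rw [HasRingHomProperty.iff_appLE (P := @LocallyOfFinitePresentation)]
  intro V U e
  exact finitePresentation_of_liftProp _ (liftProp_appLE f h U.2 V.2 e)

end Groth.Agent.S9208
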