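import Groth.Statements.S7478
-- (no extra imports)

set_option autoImplicit false
universe w u
open HTop

namespace Groth.Agent.S7478

open CategoryTheory CategoryTheory.Limits AlgebraicGeometry in
/-- The base change of a standard ph covering along a morphism of affine schemes T' -> T is a standard
ph covering of T'. -/
theorem result {T T' : Scheme.{u}} [IsAffine T'] (g : T' ⟶ T) (E : PreZeroHypercover.{w} T) (hE : HTop.IsStandardPh E) : HTop.IsStandardPh (E.pullback₁ g) := by
  have hT : IsAffine T := hE.isAffine
  have hXa : ∀ j, IsAffine (E.X j) := hE.isAffine_obj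
  obtain ⟨U, f, ι, hprop, hsurj, hopen, hfac, hcov⟩ := hE.exists_proper
  refine ⟨inferInstance, hE.finite_index, fun j => ?_, ?_⟩
  · change IsAffine (pullback g (E.f j))
    have := hXa j
    exact Scheme.Pullback.isAffine_of_isAffine_isAffine_isAffine g (E.f j)
  · let ι' : ∀ j, pullback g (E.f j) ⟶ pullback g f := fun j =>
      pullback.lift (pullback.fst g (E.f j)) (pullback.snd g (E.f j) ≫ ι j)
        (by rw [Category.assoc, hfac j, pullback.condition])
    have hsq : ∀ j, IsPullback (pullback.snd g (E.f j)) (ι' j) (ι j) (pullback.snd g f) := by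
      intro j
      refine IsPullback.of_bot ?_ (pullback.lift_snd _ _ _).symm
        (IsPullback.of_hasPullback g f).flip
      have h1 : ι' j ≫ pullback.fst g f = pullback.fst g (E.f j) := pullback.lift_fst _ _ _
      rw [h1, hfac j]
      exact (IsPullback.of_hasPullback g (E.f j)).flip
    refine ⟨pullback g f, pullback.fst g f, ι', inferInstance, inferInstance, fun j => ?_,
      fun j => pullback.lift_fst _ _ _, fun x => ?_⟩
    · exact MorphismProperty.of_isPullback (P := @IsOpenImmersion) (hsq j) (hopen j)
    · obtain ⟨j, z, hz⟩ := hcov (pullback.snd g f x)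
      refine ⟨j, ?_⟩
      obtain ⟨w, hw1, hw2⟩ := Scheme.Pullback.exists_preimage_pullback
        (f := ι j) (g := pullback.snd g f) z x hz
      refine ⟨(hsq j).isoPullback.inv w, ?_⟩
      change ((hsq j).isoPullback.inv ≫ ι' j) w = x
      rw [(hsq j).isoPullback_inv_snd]
      exact hw2

end Groth.Agent.S7478
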