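import Groth.Statements.S18933
import Mathlib
-- import your own Groth.Agent.* helpers here

set_option autoImplicit false
universe u
open Synt

namespace Groth.Agent.S18933

section helpers

open TensorProduct

/-- a finite algebra over a field presented by `n` generators and `n` relations is a global
complete intersection, and so is its localization at `1`. -/
theorem isGlobalCI_away_one (κ : Type u) [Field κ] (F : Type u) [CommRing F] [Algebra κ F]
    [Module.Finite κ F] {n : ℕ} (P : Algebra.Presentation κ F (Fin n) (Fin n)) :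
    Synt.IsGlobalCI κ (Localization.Away (1 : F)) := by
  classical
  obtain ⟨e⟩ : Nonempty (F ≃ₐ[κ] Localization.Away (1 : F)) :=
    ⟨(IsLocalization.atOne F (Localization.Away (1 : F))).restrictScalars κ⟩
  by_cases hT : Subsingleton (Localization.Away (1 : F))
  · exact Or.inl hT
  · right
    haveI : Nontrivial (Localization.Away (1 : F)) := not_subsingleton_iff_nontrivial.mp hT
    haveI : Nontrivial F := e.toEquiv.nontrivial
    refine ⟨n, n, le_rfl, e.toAlgHom.comp (MvPolynomial.aeval P.val), P.relation,
      e.surjective.comp P.aeval_val_surjective, ?_, ?_⟩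
    · rw [P.span_range_relation_eq_ker, P.ker_eq_ker_aeval_val]
      ext x
      simp only [RingHom.mem_ker, AlgHom.toRingHom_eq_coe, RingHom.coe_coe, AlgHom.comp_apply]
      constructor
      · intro h
        have : e (MvPolynomial.aeval P.val x) = e 0 := by simpa using h
        simpa using e.injective this
      · intro h
        simp [h]
    · haveI : IsArtinianRing F := IsArtinianRing.of_finite κ F
      have h0 : ringKrullDim F = 0 :=
        (ringKrullDimZero_iff_ringKrullDim_eq_zero (R := F)).mp inferInstance
      rw [← ringKrullDim_eq_of_ringEquiv e.toRingEquiv, h0]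
      simp

/-- all fibres of a finite algebra with a presentation by `n` generators and `n` relations are
local complete intersections. -/
theorem isLCIOver_fiber (R B : Type u) [CommRing R] [CommRing B] [Algebra R B] [Module.Finite R B]
    {n : ℕ} (P : Algebra.Presentation R B (Fin n) (Fin n)) (q : PrimeSpectrum R) :
    Synt.IsLCIOver q.asIdeal.ResidueField (q.asIdeal.Fiber B) := by
  haveI : Algebra.FinitePresentation R B := P.finitePresentation_of_isFinite
  refine ⟨inferInstance, fun _ => ⟨1, ?_, ?_⟩⟩
  · intro h
    exact (Ideal.ne_top_iff_one _).mp (PrimeSpectrum.isPrime _).ne_top h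
  · exact isGlobalCI_away_one _ _ (P.baseChange q.asIdeal.ResidueField)

section twist

/-- `MvPolynomial (Fin m) A` viewed as an algebra over itself via `expand p`. -/
@[nolint unusedArguments]
def Tw (p : ℕ) (A : Type u) [CommRing A] (m : ℕ) : Type u := MvPolynomial (Fin m) A

variable (p : ℕ) (A : Type u) [CommRing A] (m : ℕ)

noncomputable instance : CommRing (Tw p A m) := inferInstanceAs (CommRing (MvPolynomial (Fin m) A))

noncomputable instance : Algebra (MvPolynomial (Fin m) A) (Tw p A m) :=
  (MvPolynomial.expand p (σ := Fin m) (R := A)).toRingHom.toAlgebra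

/-- the identity, as a ring isomorphism onto the twisted copy. -/
noncomputable def toTw : MvPolynomial (Fin m) A ≃+* Tw p A m := RingEquiv.refl _

variable {p A m}

theorem algebraMap_tw (r : MvPolynomial (Fin m) A) :
    algebraMap (MvPolynomial (Fin m) A) (Tw p A m) r = toTw p A m (MvPolynomial.expand p r) := rfl

theorem smul_tw (r : MvPolynomial (Fin m) A) (b : Tw p A m) :
    r • b = toTw p A m (MvPolynomial.expand p r) * b := rfl

theorem symm_smul_tw (r : MvPolynomial (Fin m) A) (b : Tw p A m) :
    (toTw p A m).symm (r • b) = MvPolynomial.expand p r * (toTw p A m).symm b := by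
  rw [smul_tw, map_mul, RingEquiv.symm_apply_apply]

theorem expand_monomial' (q : Fin m →₀ ℕ) (c : A) (hp : p ≠ 0) :
    MvPolynomial.expand p (MvPolynomial.monomial q c) = MvPolynomial.monomial (p • q) c := by
  rw [MvPolynomial.expand_monomial, MvPolynomial.monomial_eq, Finsupp.prod,
    Finsupp.support_smul_eq hp]

theorem coeff_key (hp : p ≠ 0) (e e₀ : Fin m →₀ ℕ) (he : ∀ i, e i < p) (he₀ : ∀ i, e₀ i < p)
    (q : Fin m →₀ ℕ) (r : MvPolynomial (Fin m) A) :
    MvPolynomial.coeff (p • q + e₀) (MvPolynomial.expand p r * MvPolynomial.monomial e 1) =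
      if e = e₀ then MvPolynomial.coeff q r else 0 := by
  classical
  rw [MvPolynomial.coeff_mul_monomial']
  split_ifs with h1 h2 h2
  · subst h2
    rw [add_tsub_cancel_right, MvPolynomial.coeff_expand_smul p hp, mul_one]
  · obtain ⟨i, hi⟩ : ∃ i, e i ≠ e₀ i := by
      by_contra hcon
      push Not at hcon
      exact h2 (Finsupp.ext hcon)
    rw [MvPolynomial.coeff_expand_of_not_dvd (i := i), zero_mul]
    rintro ⟨t, ht⟩
    have hle : e i ≤ (p • q + e₀) i := h1 i
    simp only [Finsupp.coe_tsub, Finsupp.coe_add, Finsupp.coe_smul, Pi.sub_apply, Pi.add_apply,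
      Pi.smul_apply, smul_eq_mul] at ht hle
    have h3 : p * q i + e₀ i = p * t + e i := by omega
    have h4 := congrArg (· % p) h3
    simp only [Nat.mul_add_mod] at h4
    rw [Nat.mod_eq_of_lt (he₀ i), Nat.mod_eq_of_lt (he i)] at h4
    exact hi h4.symm
  · subst h2
    exact absurd (fun i => by simp) h1
  · rfl

/-- the index set of the monomial basis. -/
abbrev E (p m : ℕ) : Type := {e : Fin m →₀ ℕ // ∀ i, e i < p}

instance (p m : ℕ) : Finite (E p m) := by
  classical
  refine Finite.of_injective (fun e : E p m => fun i : Fin m => (⟨e.1 i, e.2 i⟩ : Fin p)) ?_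
  intro e e' h
  apply Subtype.ext
  ext i
  have := congrFun h i
  simpa using congrArg Fin.val this

theorem linearIndependent_monomials (hp : p ≠ 0) :
    LinearIndependent (MvPolynomial (Fin m) A)
      (fun e : E p m => toTw p A m (MvPolynomial.monomial e.1 (1 : A))) := by
  classical
  rw [linearIndependent_iff']
  intro s g hsum e₀ he₀
  ext q
  have h0 := congrArg (toTw p A m).symm hsum
  rw [map_sum, map_zero] at h0
  have h1 := congrArg (MvPolynomial.coeff (p • q + e₀.1)) h0
  rw [MvPolynomial.coeff_zero, MvPolynomial.coeff_sum] at h1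
  have h2 : ∑ e ∈ s, MvPolynomial.coeff (p • q + e₀.1)
      ((toTw p A m).symm (g e • toTw p A m (MvPolynomial.monomial e.1 (1 : A)))) =
      ∑ e ∈ s, if e = e₀ then MvPolynomial.coeff q (g e) else 0 := by
    refine Finset.sum_congr rfl fun e _ => ?_
    rw [symm_smul_tw, RingEquiv.symm_apply_apply, coeff_key hp e.1 e₀.1 e.2 e₀.2]
    simp only [Subtype.ext_iff]
  rw [h2, Finset.sum_ite_eq' s e₀, if_pos he₀] at h1
  rw [h1, MvPolynomial.coeff_zero]

theorem span_monomials (hp : p ≠ 0) :
    ⊤ ≤ Submodule.span (MvPolynomial (Fin m) A)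
      (Set.range fun e : E p m => toTw p A m (MvPolynomial.monomial e.1 (1 : A))) := by
  classical
  intro b _
  obtain ⟨b, rfl⟩ := (toTw p A m).surjective b
  have key : ∀ (a : Fin m →₀ ℕ) (c : A), toTw p A m (MvPolynomial.monomial a c) ∈
      Submodule.span (MvPolynomial (Fin m) A)
        (Set.range fun e : E p m => toTw p A m (MvPolynomial.monomial e.1 (1 : A))) := by
    intro a c
    have hpos : 0 < p := Nat.pos_of_ne_zero hp
    have h1 : toTw p A m (MvPolynomial.monomial a c) =
        (MvPolynomial.monomial (a.mapRange (· / p) (Nat.zero_div p)) c : MvPolynomial (Fin m) A) •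
          toTw p A m (MvPolynomial.monomial (a.mapRange (· % p) (Nat.zero_mod p)) (1 : A)) := by
      have hidx : p • a.mapRange (· / p) (Nat.zero_div p) + a.mapRange (· % p) (Nat.zero_mod p)
          = a := by
        ext i
        rw [Finsupp.add_apply, Finsupp.smul_apply, Finsupp.mapRange_apply,
          Finsupp.mapRange_apply, smul_eq_mul]
        exact Nat.div_add_mod (a i) p
      rw [smul_tw, expand_monomial' _ _ hp, ← map_mul, MvPolynomial.monomial_mul, mul_one, hidx]
    rw [h1]
    refine Submodule.smul_mem _ _ (Submodule.subset_span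
      ⟨⟨a.mapRange (· % p) (Nat.zero_mod p), fun i => ?_⟩, rfl⟩)
    rw [Finsupp.mapRange_apply]
    exact Nat.mod_lt _ hpos
  rw [MvPolynomial.as_sum b, map_sum]
  exact Submodule.sum_mem _ fun a _ => key a _

/-- the monomial basis of `Tw p A m` over `MvPolynomial (Fin m) A`. -/
noncomputable def twBasis (hp : p ≠ 0) :
    Module.Basis (E p m) (MvPolynomial (Fin m) A) (Tw p A m) :=
  Module.Basis.mk (linearIndependent_monomials hp) (span_monomials hp)

end twist

section pres

open MvPolynomial

variable (p : ℕ) (A : Type u) [CommRing A] (m : ℕ)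

theorem aeval_val_map_C (b : MvPolynomial (Fin m) A) :
    MvPolynomial.aeval (R := MvPolynomial (Fin m) A)
      (fun i : Fin m => toTw p A m (MvPolynomial.X i)) (MvPolynomial.map MvPolynomial.C b)
      = toTw p A m b := by
  induction b using MvPolynomial.induction_on with
  | C a =>
    rw [MvPolynomial.map_C, MvPolynomial.aeval_C, algebraMap_tw, MvPolynomial.expand_C]
  | add f g hf hg => rw [map_add, map_add, hf, hg, map_add]
  | mul_X f i hf =>
    rw [map_mul, map_mul, hf, MvPolynomial.map_X, MvPolynomial.aeval_X, map_mul]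

theorem aeval_val_surjective :
    Function.Surjective (MvPolynomial.aeval (R := MvPolynomial (Fin m) A)
      (fun i : Fin m => toTw p A m (MvPolynomial.X i))) := by
  intro b
  obtain ⟨b, rfl⟩ := (toTw p A m).surjective b
  exact ⟨_, aeval_val_map_C p A m b⟩

/-- the generators `T_i` of the twisted copy. -/
noncomputable def twGens : Algebra.Generators (MvPolynomial (Fin m) A) (Tw p A m) (Fin m) :=
  Algebra.Generators.ofSurjective (fun i : Fin m => toTw p A m (MvPolynomial.X i))
    (aeval_val_surjective p A m)

/-- the relations `T_i ^ p - X_i`. -/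
noncomputable def twRel (i : Fin m) : MvPolynomial (Fin m) (MvPolynomial (Fin m) A) :=
  MvPolynomial.X i ^ p - MvPolynomial.C (MvPolynomial.X i)

/-- the retraction used to compute the kernel. -/
noncomputable def twTheta : MvPolynomial (Fin m) A →+*
    (MvPolynomial (Fin m) (MvPolynomial (Fin m) A) ⧸ Ideal.span (Set.range (twRel p A m))) :=
  MvPolynomial.eval₂Hom (R := A) (σ := Fin m)
    (S₁ := MvPolynomial (Fin m) (MvPolynomial (Fin m) A) ⧸ Ideal.span (Set.range (twRel p A m)))
    ((Ideal.Quotient.mk (Ideal.span (Set.range (twRel p A m)))).comp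
      ((MvPolynomial.C (σ := Fin m) (R := MvPolynomial (Fin m) A)).comp
        (MvPolynomial.C (σ := Fin m) (R := A))))
    (fun i => Ideal.Quotient.mk (Ideal.span (Set.range (twRel p A m))) (MvPolynomial.X i))

theorem twTheta_expand (r : MvPolynomial (Fin m) A) :
    twTheta p A m (MvPolynomial.expand p r) =
      Ideal.Quotient.mk (Ideal.span (Set.range (twRel p A m))) (MvPolynomial.C r) := by
  have h : (twTheta p A m).comp (MvPolynomial.expand p (σ := Fin m) (R := A)).toRingHom =
      (Ideal.Quotient.mk (Ideal.span (Set.range (twRel p A m)))).comp MvPolynomial.C := by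
    apply MvPolynomial.ringHom_ext
    · intro a
      simp [twTheta]
    · intro i
      simp only [twTheta, AlgHom.toRingHom_eq_coe, RingHom.coe_comp, RingHom.coe_coe,
        Function.comp_apply, MvPolynomial.expand_X, MvPolynomial.coe_eval₂Hom,
        MvPolynomial.eval₂_pow, MvPolynomial.eval₂_X]
      rw [← map_pow]
      apply Ideal.Quotient.eq.mpr
      exact Ideal.subset_span ⟨i, rfl⟩
  exact RingHom.congr_fun h r

theorem twTheta_aeval (P : MvPolynomial (Fin m) (MvPolynomial (Fin m) A)) :
    twTheta p A m ((toTw p A m).symm (MvPolynomial.aeval (R := MvPolynomial (Fin m) A)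
      (fun i : Fin m => toTw p A m (MvPolynomial.X i)) P)) =
      Ideal.Quotient.mk (Ideal.span (Set.range (twRel p A m))) P := by
  have h : ((twTheta p A m).comp (toTw p A m).symm.toRingHom).comp
      (MvPolynomial.aeval (R := MvPolynomial (Fin m) A)
        (fun i : Fin m => toTw p A m (MvPolynomial.X i))).toRingHom =
      Ideal.Quotient.mk (Ideal.span (Set.range (twRel p A m))) := by
    apply MvPolynomial.ringHom_ext
    · intro r
      simp only [AlgHom.toRingHom_eq_coe, RingEquiv.toRingHom_eq_coe, RingHom.coe_comp,
        RingHom.coe_coe, Function.comp_apply, MvPolynomial.aeval_C]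
      rw [algebraMap_tw, RingEquiv.symm_apply_apply, twTheta_expand]
    · intro i
      simp only [AlgHom.toRingHom_eq_coe, RingEquiv.toRingHom_eq_coe, RingHom.coe_comp,
        RingHom.coe_coe, Function.comp_apply, MvPolynomial.aeval_X]
      rw [RingEquiv.symm_apply_apply]
      simp [twTheta]
  exact RingHom.congr_fun h P

theorem span_twRel_eq_ker :
    Ideal.span (Set.range (twRel p A m)) =
      RingHom.ker (MvPolynomial.aeval (R := MvPolynomial (Fin m) A)
        (fun i : Fin m => toTw p A m (MvPolynomial.X i))) := by
  apply le_antisymm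
  · rw [Ideal.span_le]
    rintro _ ⟨i, rfl⟩
    simp only [SetLike.mem_coe, RingHom.mem_ker, twRel, map_sub, map_pow, MvPolynomial.aeval_X,
      MvPolynomial.aeval_C]
    rw [algebraMap_tw, MvPolynomial.expand_X, map_pow, sub_self]
  · intro P hP
    rw [RingHom.mem_ker] at hP
    have h := twTheta_aeval p A m P
    rw [hP, map_zero, map_zero] at h
    exact Ideal.Quotient.eq_zero_iff_mem.mp h.symm

/-- the presentation of the twisted copy by `T_i ^ p = X_i`. -/
noncomputable def twPres :
    Algebra.Presentation (MvPolynomial (Fin m) A) (Tw p A m) (Fin m) (Fin m) where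
  toGenerators := twGens p A m
  relation := twRel p A m
  span_range_relation_eq_ker := by
    rw [Algebra.Generators.ker_eq_ker_aeval_val]
    exact span_twRel_eq_ker p A m

end pres

section main

variable (p : ℕ) (A : Type u) [CommRing A] (m : ℕ)

theorem main (hp : p ≠ 0) :
    Synt.IsSyntomic (MvPolynomial (Fin m) A) (Tw p A m) ∧
      Module.FaithfullyFlat (MvPolynomial (Fin m) A) (Tw p A m) := by
  haveI : Module.Free (MvPolynomial (Fin m) A) (Tw p A m) := Module.Free.of_basis (twBasis hp)
  haveI : Module.Finite (MvPolynomial (Fin m) A) (Tw p A m) := Module.Finite.of_basis (twBasis hp)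
  refine ⟨⟨inferInstance, (twPres p A m).finitePresentation_of_isFinite, fun q =>
    isLCIOver_fiber _ _ (twPres p A m) q⟩, ?_⟩
  by_cases hA : Nontrivial A
  · haveI : Nontrivial (Tw p A m) :=
      inferInstanceAs (Nontrivial (MvPolynomial (Fin m) A))
    infer_instance
  · haveI : Subsingleton A := not_nontrivial_iff_subsingleton.mp hA
    refine ⟨fun I hI => ?_⟩
    exact absurd (Subsingleton.elim I ⊤) hI.ne_top

end main

end helpers

/-- Let p be a prime, A a Noetherian commutative ring and m a natural number, and let φ be the A-algebra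
endomorphism of the polynomial ring A[T_1, …, T_m] with φ(T_i) = T_i^p. Then φ is syntomic and
faithfully flat (so Spec φ is a covering for the syntomic topology). -/
theorem result (p : ℕ) [Fact p.Prime]
    (A : Type u) [CommRing A] [IsNoetherianRing A] (m : ℕ)
    (φ : MvPolynomial (Fin m) A →ₐ[A] MvPolynomial (Fin m) A)
    (hφ : ∀ i : Fin m, φ (MvPolynomial.X i) = MvPolynomial.X i ^ p) :
    @Synt.IsSyntomic (MvPolynomial (Fin m) A) _ (MvPolynomial (Fin m) A) _ φ.toRingHom.toAlgebra ∧
      φ.toRingHom.FaithfullyFlat := by
  have hφe : φ = MvPolynomial.expand p := by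
    apply MvPolynomial.algHom_ext
    intro i
    rw [hφ, MvPolynomial.expand_X]
  subst hφe
  exact main p A m (Fact.out : p.Prime).ne_zero

end Groth.Agent.S18933
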