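import Groth.Statements.S18934
import Mathlib
import Groth.Agent.S18933
-- import your own Groth.Agent.* helpers here

set_option autoImplicit false
universe u
open Synt

namespace Groth.Agent.S18934

section helpers

open Polynomial

variable (A : Type u) [CommRing A] (g : A[X])

theorem aeval_root_eq :
    (MvPolynomial.aeval (R := A) (fun _ : Fin 1 => AdjoinRoot.root g)) =
      (AdjoinRoot.mkₐ g).comp (MvPolynomial.uniqueAlgEquiv A (Fin 1)).toAlgHom := by
  apply MvPolynomial.algHom_ext
  intro i
  simp

theorem aeval_root_surjective :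
    Function.Surjective (MvPolynomial.aeval (R := A) (fun _ : Fin 1 => AdjoinRoot.root g)) := by
  rw [aeval_root_eq]
  exact (AdjoinRoot.mk_surjective (g := g)).comp (MvPolynomial.uniqueAlgEquiv A (Fin 1)).surjective

theorem span_eq_ker :
    Ideal.span (Set.range fun _ : Fin 1 => (MvPolynomial.uniqueAlgEquiv A (Fin 1)).symm g) =
      RingHom.ker (MvPolynomial.aeval (R := A) (fun _ : Fin 1 => AdjoinRoot.root g)) := by
  rw [Set.range_const]
  ext P
  rw [Ideal.mem_span_singleton, RingHom.mem_ker, aeval_root_eq]
  have h1 : ((AdjoinRoot.mkₐ g).comp (MvPolynomial.uniqueAlgEquiv A (Fin 1)).toAlgHom) P =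
      AdjoinRoot.mk g (MvPolynomial.uniqueAlgEquiv A (Fin 1) P) := rfl
  rw [h1, AdjoinRoot.mk_eq_zero]
  constructor
  · intro h
    have := _root_.map_dvd (MvPolynomial.uniqueAlgEquiv A (Fin 1)) h
    rwa [AlgEquiv.apply_symm_apply] at this
  · intro h
    have := _root_.map_dvd (MvPolynomial.uniqueAlgEquiv A (Fin 1)).symm h
    rwa [AlgEquiv.symm_apply_apply] at this

/-- the presentation of `A[X]/(g)` by one generator and one relation. -/
noncomputable def adjoinRootPres : Algebra.Presentation A (AdjoinRoot g) (Fin 1) (Fin 1) where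
  toGenerators := Algebra.Generators.ofSurjective (fun _ : Fin 1 => AdjoinRoot.root g)
    (aeval_root_surjective A g)
  relation := fun _ => (MvPolynomial.uniqueAlgEquiv A (Fin 1)).symm g
  span_range_relation_eq_ker := by
    rw [Algebra.Generators.ker_eq_ker_aeval_val]
    exact span_eq_ker A g

/-- `A[X]/(g)` for monic `g` of positive degree is syntomic and faithfully flat over `A`. -/
theorem isSyntomic_adjoinRoot (hg : g.Monic) (hdeg : Nontrivial A → 0 < g.natDegree) :
    Synt.IsSyntomic A (AdjoinRoot g) ∧ Module.FaithfullyFlat A (AdjoinRoot g) := by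
  have pb := AdjoinRoot.powerBasis' hg
  haveI : Module.Free A (AdjoinRoot g) := Module.Free.of_basis (AdjoinRoot.powerBasis' hg).basis
  haveI : Module.Finite A (AdjoinRoot g) := (AdjoinRoot.powerBasis' hg).finite
  refine ⟨⟨inferInstance, (adjoinRootPres A g).finitePresentation_of_isFinite, fun q =>
    Groth.Agent.S18933.isLCIOver_fiber _ _ (adjoinRootPres A g) q⟩, ?_⟩
  by_cases hA : Nontrivial A
  · haveI : Nontrivial (AdjoinRoot g) := by
      have hdim : 0 < (AdjoinRoot.powerBasis' hg).dim := by
        rw [AdjoinRoot.powerBasis'_dim]; exact hdeg hA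
      exact ⟨⟨(AdjoinRoot.powerBasis' hg).basis ⟨0, hdim⟩, 0,
        (AdjoinRoot.powerBasis' hg).basis.ne_zero _⟩⟩
    infer_instance
  · haveI : Subsingleton A := not_nontrivial_iff_subsingleton.mp hA
    refine ⟨fun I hI => ?_⟩
    exact absurd (Subsingleton.elim I ⊤) hI.ne_top

end helpers

open Polynomial in

open Polynomial in
/-- Let p be a prime, A a commutative ring and a an element of A. Then the A-algebra A[T]/(T^p − a) is
syntomic and faithfully flat over A. This is the step of the source's proof showing that adjoining a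
p-th root of any element is a covering for the syntomic topology. -/
theorem result (p : ℕ) [Fact p.Prime]
    (A : Type u) [CommRing A] (a : A) :
    Synt.IsSyntomic A (AdjoinRoot (X ^ p - C a)) ∧ Module.FaithfullyFlat A (AdjoinRoot (X ^ p - C a)) := by
  have hp : p ≠ 0 := (Fact.out : p.Prime).ne_zero
  refine isSyntomic_adjoinRoot A _ (Polynomial.monic_X_pow_sub_C a hp) ?_
  intro hA
  rw [Polynomial.natDegree_X_pow_sub_C]
  exact Nat.pos_of_ne_zero hp

end Groth.Agent.S18934
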