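import Groth.Statements.S7470
import Mathlib

set_option autoImplicit false
universe w u
open HTop

namespace Groth.Agent.S7470

open CategoryTheory CategoryTheory.Limits AlgebraicGeometry in
/-- Let E be a standard V covering of an affine scheme T and, for every member T_j of E, let F_j be a
standard V covering of T_j. Then the composite family of all T_ji -> T is a standard V covering. -/
theorem result {T : Scheme.{u}} (E : PreZeroHypercover.{w} T) (hE : HTop.IsStandardV E) (F : ∀ j, PreZeroHypercover.{w} (E.X j)) (hF : ∀ j, HTop.IsStandardV (F j)) : HTop.IsStandardV (E.bind F) := by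
  have := hE.isAffine
  have := hE.finite_index
  have := fun j => (hF j).finite_index
  refine ⟨inferInstance, ?_, ?_, ?_⟩
  · change Finite (Σ j, (F j).I₀)
    infer_instance
  · rintro ⟨j, i⟩
    exact (hF j).isAffine_obj i
  · intro V _ _ g
    obtain ⟨W, hW1, hW2, φ, hφ, j, h, hh⟩ := hE.lift V g
    obtain ⟨W', hW'1, hW'2, ψ, hψ, i, h', hh'⟩ := (hF j).lift W h
    refine ⟨W', hW'1, hW'2, φ ≫ ψ, ⟨?_, ?_⟩, ⟨j, i⟩, h', ?_⟩
    · rw [CommRingCat.hom_comp, RingHom.coe_comp]
      exact hψ.1.comp hφ.1
    · rw [CommRingCat.hom_comp]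
      have := hφ.2
      have := hψ.2
      exact RingHom.isLocalHom_comp _ _
    · change h' ≫ (F j).f i ≫ E.f j = _
      rw [← Category.assoc, hh', Category.assoc, hh, Spec.map_comp, Category.assoc]

end Groth.Agent.S7470
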