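import Groth.Statements.S7473
import Mathlib
import Groth.Agent.Lib.Lead.VLift
import Groth.Agent.Lib.Lead.VCover
-- import your own Groth.Agent.* helpers here

set_option autoImplicit false
universe u
open HTop

namespace Groth.Agent.S7473

open CategoryTheory CategoryTheory.Limits AlgebraicGeometry in
/-- An fpqc covering of a scheme T is a V covering. (Here an fpqc covering is a family in Mathlib's fpqc
precoverage: flat, jointly surjective, and every affine open of T is the union of the images of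
finitely many quasi-compact opens of the members. The further clauses for fppf, syntomic, smooth,
étale and Zariski coverings follow because those coverings are fpqc coverings; the clause for ph
coverings is the standard ph statement applied over each affine open.) -/
theorem result {T : Scheme.{u}} : ∀ 𝒰 : Scheme.Cover Scheme.fpqcPrecoverage T, HTop.IsVCover 𝒰.toPreZeroHypercover := by
  intro 𝒰 U
  have hU : IsAffineOpen (U : T.Opens) := U.2
  obtain ⟨n, a, V, hVaff, hVcov⟩ :=
    QuasiCompactCover.exists_isAffineOpen_of_isCompact 𝒰.toPreZeroHypercover hU.isCompact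
  have hrange : ∀ i, Set.range ((V i).ι ≫ 𝒰.f (a i)) ⊆ Set.range (U : T.Opens).ι := by
    intro i
    rintro _ ⟨v, rfl⟩
    rw [Scheme.Opens.range_ι, ← hVcov]
    refine Set.mem_iUnion.mpr ⟨i, (V i).ι v, ?_, rfl⟩
    have := (V i).range_ι
    rw [← this]
    exact ⟨v, rfl⟩
  let F : PreZeroHypercover.{0} ((U : T.Opens) : Scheme.{u}) :=
    { I₀ := Fin n
      X := fun i => (V i).toScheme
      f := fun i => IsOpenImmersion.lift (U : T.Opens).ι ((V i).ι ≫ 𝒰.f (a i)) (hrange i) }
  have hF : ∀ i, F.f i ≫ (U : T.Opens).ι = (V i).ι ≫ 𝒰.f (a i) :=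
    fun i => IsOpenImmersion.lift_fac _ _ _
  refine ⟨F, ⟨U.2, inferInstanceAs (Finite (Fin n)), fun i => hVaff i, ?_⟩,
    fun i => ⟨a i, (V i).ι, (hF i).symm⟩⟩
  intro R _ _ g
  have ht : (g ≫ (U : T.Opens).ι) (IsLocalRing.closedPoint R : ↥(Spec R)) ∈
      ((U : T.Opens) : Set T) := by
    have := (U : T.Opens).range_ι
    rw [← this]
    exact ⟨g (IsLocalRing.closedPoint R : ↥(Spec R)), rfl⟩
  rw [← hVcov] at ht
  obtain ⟨i, x, hxV, hx⟩ := Set.mem_iUnion.mp ht
  have hflat : Flat (𝒰.f (a i)) := 𝒰.forgetQc.map_prop (a i)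
  obtain ⟨W, hWd, hWv, φ, hφ, g', hg', hg'c⟩ :=
    Groth.Agent.Lib.Lead.exists_extVal_lift_of_flat (𝒰.f (a i)) R (g ≫ (U : T.Opens).ι) x hx
  have hr : Set.range g' ⊆ Set.range (V i).ι :=
    Groth.Agent.Lib.Lead.range_subset_of_closedPoint_mem W g' (V i) (by rw [hg'c]; exact hxV)
  let g'' : Spec W ⟶ (V i).toScheme := IsOpenImmersion.lift (V i).ι g' hr
  have hg'' : g'' ≫ (V i).ι = g' := IsOpenImmersion.lift_fac _ _ _
  refine ⟨W, hWd, hWv, φ, hφ, i, g'', ?_⟩
  rw [← cancel_mono (U : T.Opens).ι, Category.assoc, hF i, ← Category.assoc, hg'', hg',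
    Category.assoc]

end Groth.Agent.S7473
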