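import Groth.Statements.S17885
import Groth.Agent.Lib.Helper1.NABase

set_option autoImplicit false
universe u
open CategoryTheory AlgebraicGeometry
open Lim
open Groth.Agent.Lib.Helper1.NA Opposite

namespace Groth.Agent.S17885

/-- Let f : Y → X be a morphism of schemes with X and Y quasi-compact and quasi-separated. Then f is
affine if and only if the X-scheme Y is a limit, in the category of schemes over X, of a filtered
inverse system of X-schemes that are affine and of finite presentation over X. -/
theorem result {X Y : Scheme.{u}} (f : Y ⟶ X)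
    [CompactSpace X] [QuasiSeparatedSpace X] [CompactSpace Y] [QuasiSeparatedSpace Y] :
    IsAffineHom f ↔
      ∃ (I : Type u) (_ : SmallCategory I) (_ : IsFiltered I) (D : Iᵒᵖ ⥤ Over X)
        (c : Limits.Cone D) (_ : Limits.IsLimit c),
        (∀ i, IsAffineHom (D.obj i).hom ∧ LocallyOfFinitePresentation (D.obj i).hom) ∧
        Nonempty (c.pt ≅ Over.mk f) := by
  classical
  constructor
  · intro hf
    obtain ⟨I, hP, hD, hN, D, s, c, hc, e, h1, h2, h3, h4⟩ := exists_fp_limit f
    have : IsAffineHom (e.hom ≫ f) := inferInstance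
    obtain ⟨i₀, hi₀⟩ := exists_isAffineHom_strMap D s c hc (e.hom ≫ f) h1 h3
      (fun i => (h2 i).2.1) (fun i => (h2 i).2.2)
    let F := upF i₀
    let D' : (Up i₀)ᵒᵖ ⥤ Scheme.{u} := F ⋙ D
    let s' : D' ⟶ (Functor.const _).obj X :=
      { app := fun i => s.app (F.obj i)
        naturality := fun i j a => s.naturality (F.map a) }
    let c' : Limits.Cone D' := c.whisker F
    have hc' : Limits.IsLimit c' := (Functor.Initial.isLimitWhiskerEquiv F c).symm hc
    have hp' : ∀ i, c'.π.app i ≫ s'.app i = e.hom ≫ f := fun i => h1 _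
    refine ⟨Up i₀, inferInstance, inferInstance, Over.lift D' s',
      Over.liftCone D' s' c' (e.hom ≫ f) hp', Over.isLimitLiftCone D' s' c' (e.hom ≫ f) hp' hc',
      ?_, ⟨Over.isoMk e rfl⟩⟩
    intro i
    exact ⟨hi₀ i.unop.1 i.unop.2, (h2 _).1⟩
  · rintro ⟨I, hI, hF, D, c, hc, hD, ⟨e⟩⟩
    haveI : IsCofiltered Iᵒᵖ := inferInstance
    haveI : IsConnected Iᵒᵖ := IsCofiltered.isConnected _
    let DF : Iᵒᵖ ⥤ Scheme.{u} := D ⋙ Over.forget X
    let cF : Limits.Cone DF := (Over.forget X).mapCone c
    have hcF : Limits.IsLimit cF := Limits.isLimitOfPreserves (Over.forget X) hc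
    have hA : ∀ {i j : Iᵒᵖ} (a : i ⟶ j), IsAffineHom (DF.map a) := by
      intro i j a
      have h1 : (D.map a).left ≫ (D.obj j).hom = (D.obj i).hom := Over.w (D.map a)
      have hi := (hD i).1
      have hj := (hD j).1
      have : IsAffineHom ((D.map a).left ≫ (D.obj j).hom) := by rw [h1]; exact hi
      exact IsAffineHom.of_comp (D.map a).left (D.obj j).hom
    obtain ⟨i⟩ := IsCofiltered.nonempty (C := Iᵒᵖ)
    have h2 : IsAffineHom (cF.π.app i) := isAffineHom_π_app DF cF hcF i
    have h2' : IsAffineHom (c.π.app i).left := h2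
    have h3 : (c.π.app i).left ≫ (D.obj i).hom = c.pt.hom := Over.w (c.π.app i)
    have hi := (hD i).1
    have h5 : IsAffineHom c.pt.hom := by rw [← h3]; infer_instance
    have h4 : e.inv.left ≫ c.pt.hom = f := Over.w e.inv
    rw [← h4]
    infer_instance

end Groth.Agent.S17885
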