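import Groth.Statements.S14457
import Mathlib.RingTheory.Etale.StandardEtale
import Mathlib.Algebra.TrivSqZeroExt.Ideal
import Mathlib.RingTheory.Norm.Defs
import Mathlib.Tactic
-- import your own Groth.Agent.* helpers here

set_option autoImplicit false
universe u
open CAlg

namespace Groth.Agent.S14457


open Polynomial in
/-- If `f` is monic and `f' p₁ + f p₂ = 1` then `A[X]/(f)` is étale over `A`. -/
theorem etale_of_bezout {A : Type*} [CommRing A] (f : A[X]) (hf : f.Monic) (p₁ p₂ : A[X])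
    (h : derivative f * p₁ + f * p₂ = 1) : Algebra.Etale A (AdjoinRoot f) := by
  let P : StandardEtalePair A := ⟨f, hf, 1, p₁, p₂, 0, by simpa using h⟩
  have hmap : P.HasMap (AdjoinRoot.root f) := by
    refine ⟨?_, ?_⟩
    · change aeval (AdjoinRoot.root f) f = 0
      rw [AdjoinRoot.aeval_eq, AdjoinRoot.mk_self]
    · change IsUnit (aeval (AdjoinRoot.root f) (1 : A[X]))
      simp
  have hX : f.eval₂ (Algebra.ofId A P.Ring) P.X = 0 := P.hasMap_X.1
  let e : P.Ring ≃ₐ[A] AdjoinRoot f :=
    AlgEquiv.ofAlgHom (P.lift (AdjoinRoot.root f) hmap)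
      (AdjoinRoot.liftAlgHom f (Algebra.ofId A P.Ring) P.X hX)
      (by
        apply AdjoinRoot.algHom_ext
        simp)
      (by
        apply StandardEtalePair.hom_ext
        simp)
  exact Algebra.Etale.of_equiv e

open Polynomial in
/-- If `A[X]/(X^n - a)` is formally unramified over `A`, then `n x^(n-1)` is a unit. -/
theorem isUnit_of_unramified {A : Type u} [CommRing A] (a : A) (n : ℕ)
    [Algebra.FormallyUnramified A (AdjoinRoot ((X : A[X]) ^ n - C a))] :
    IsUnit ((n : AdjoinRoot ((X : A[X]) ^ n - C a)) *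
      (AdjoinRoot.root ((X : A[X]) ^ n - C a)) ^ (n - 1)) := by
  set f : A[X] := (X : A[X]) ^ n - C a with hf
  set B := AdjoinRoot f
  set x : B := AdjoinRoot.root f with hx
  have hxn : x ^ n = algebraMap A B a := by
    have h1 : aeval x f = 0 := by rw [AdjoinRoot.aeval_eq, AdjoinRoot.mk_self]
    simp only [hf, map_sub, map_pow, aeval_X, aeval_C] at h1
    exact sub_eq_zero.1 h1
  set J : Ideal B := Ideal.span {(n : B) * x ^ (n - 1)} with hJ
  let R' := B ⧸ J
  let y : TrivSqZeroExt R' R' :=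
    TrivSqZeroExt.inl (Ideal.Quotient.mk J x) + TrivSqZeroExt.inr 1
  have hy : f.eval₂ (Algebra.ofId A (TrivSqZeroExt R' R')) y = 0 := by
    change aeval y f = 0
    simp only [hf, map_sub, map_pow, aeval_X, aeval_C]
    apply TrivSqZeroExt.ext
    · simp only [TrivSqZeroExt.fst_sub, TrivSqZeroExt.fst_pow, TrivSqZeroExt.fst_zero, y,
        TrivSqZeroExt.fst_add, TrivSqZeroExt.fst_inl, TrivSqZeroExt.fst_inr, add_zero,
        TrivSqZeroExt.algebraMap_eq_inl']
      rw [← map_pow, hxn]
      exact sub_eq_zero.2 rfl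
    · simp only [TrivSqZeroExt.snd_sub, TrivSqZeroExt.snd_pow, TrivSqZeroExt.snd_zero, y,
        TrivSqZeroExt.fst_add, TrivSqZeroExt.fst_inl, TrivSqZeroExt.fst_inr, add_zero,
        TrivSqZeroExt.snd_add, TrivSqZeroExt.snd_inl, TrivSqZeroExt.snd_inr, zero_add,
        TrivSqZeroExt.algebraMap_eq_inl', sub_zero, Nat.pred_eq_sub_one, smul_eq_mul, mul_one]
      rw [nsmul_eq_mul, ← map_pow, ← map_natCast (Ideal.Quotient.mk J), ← map_mul]
      exact Ideal.Quotient.eq_zero_iff_mem.2 (Ideal.subset_span rfl)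
  let g₁ : B →ₐ[A] TrivSqZeroExt R' R' :=
    (TrivSqZeroExt.inlAlgHom A R' R').comp (Ideal.Quotient.mkₐ A J)
  let g₂ : B →ₐ[A] TrivSqZeroExt R' R' :=
    AdjoinRoot.liftAlgHom f (Algebra.ofId A (TrivSqZeroExt R' R')) y hy
  have hnil : IsNilpotent (RingHom.ker
      ((TrivSqZeroExt.fstHom A R' R' : TrivSqZeroExt R' R' →ₐ[A] R') :
        TrivSqZeroExt R' R' →+* R')) := by
    refine ⟨2, ?_⟩
    exact TrivSqZeroExt.kerIdeal_sq R' R'
  have hcomp : (TrivSqZeroExt.fstHom A R' R').comp g₁ = (TrivSqZeroExt.fstHom A R' R').comp g₂ := by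
    apply AdjoinRoot.algHom_ext
    simp [g₁, g₂, y]
    rfl
  have heq := Algebra.FormallyUnramified.lift_unique' (TrivSqZeroExt.fstHom A R' R') hnil g₁ g₂ hcomp
  have hg2 : g₂ x = y := AdjoinRoot.liftAlgHom_root _ _ _ _
  have hg1 : g₁ x = TrivSqZeroExt.inl (Ideal.Quotient.mk J x) := rfl
  have h0 : g₁ x = g₂ x := by rw [heq]
  rw [hg1, hg2] at h0
  have h1 := congrArg TrivSqZeroExt.snd h0
  simp only [y, TrivSqZeroExt.snd_inl, TrivSqZeroExt.snd_add,
    TrivSqZeroExt.snd_inr, zero_add] at h1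
  have h2 : (1 : B) ∈ J := by
    rw [← Ideal.Quotient.eq_zero_iff_mem, map_one]
    exact h1.symm
  have h3 : J = ⊤ := (Ideal.eq_top_iff_one J).2 h2
  exact Ideal.span_singleton_eq_top.1 h3

open Polynomial in
/-- Let A be a commutative ring, a an element of A and n ≥ 1 an integer. The A-algebra A[T]/(T^n − a) is
etale exactly when either n = 1 or the product n·a is a unit of A. (The exponent n is a positive
integer here; for n = 0 the quotient is (A/(1 − a))[T] and the equivalence fails.) -/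
theorem result (A : Type u) [CommRing A] (a : A) (n : ℕ) (hn : 1 ≤ n) :
    Algebra.Etale A (AdjoinRoot ((X : A[X]) ^ n - C a)) ↔ n = 1 ∨ IsUnit ((n : A) * a) := by
  have hn0 : n ≠ 0 := by omega
  have hmonic : ((X : A[X]) ^ n - C a).Monic := monic_X_pow_sub_C a hn0
  constructor
  · intro hE
    by_cases h1 : n = 1
    · exact Or.inl h1
    right
    nontriviality A
    haveI : Algebra.FormallyUnramified A (AdjoinRoot ((X : A[X]) ^ n - C a)) := inferInstance
    have hu := isUnit_of_unramified a n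
    set B := AdjoinRoot ((X : A[X]) ^ n - C a)
    set x : B := AdjoinRoot.root ((X : A[X]) ^ n - C a)
    have hxn : x ^ n = algebraMap A B a := by
      have h1 : aeval x ((X : A[X]) ^ n - C a) = 0 := by
        rw [AdjoinRoot.aeval_eq, AdjoinRoot.mk_self]
      simp only [map_sub, map_pow, aeval_X, aeval_C] at h1
      exact sub_eq_zero.1 h1
    have hun : IsUnit (n : B) := isUnit_of_mul_isUnit_left hu
    have hux : IsUnit x := by
      have : IsUnit (x ^ (n - 1)) := isUnit_of_mul_isUnit_right hu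
      exact (isUnit_pow_iff (by omega)).1 this
    have hua : IsUnit (algebraMap A B ((n : A) * a)) := by
      rw [map_mul, map_natCast, ← hxn]
      exact hun.mul (hux.pow n)
    have hnorm := hua.map (Algebra.norm A)
    rw [Algebra.norm_algebraMap_of_basis (AdjoinRoot.powerBasis' hmonic).basis] at hnorm
    refine (isUnit_pow_iff ?_).1 hnorm
    rw [Fintype.card_fin, AdjoinRoot.powerBasis'_dim, natDegree_X_pow_sub_C]
    exact hn0
  · rintro (rfl | hu)
    · refine etale_of_bezout _ hmonic 1 0 ?_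
      simp
    · obtain ⟨u, hu⟩ := hu
      refine etale_of_bezout _ hmonic (C (↑u⁻¹ : A) * X) (-C ((n : A) * (↑u⁻¹ : A))) ?_
      have hinv : (n : A) * a * (↑u⁻¹ : A) = 1 := by rw [← hu]; exact u.mul_inv
      obtain ⟨m, rfl⟩ : ∃ m, n = m + 1 := ⟨n - 1, by omega⟩
      simp only [derivative_sub, derivative_X_pow, derivative_C, sub_zero, Nat.add_sub_cancel]
      have : C ((((m + 1 : ℕ) : A)) * a * (↑u⁻¹ : A)) = (1 : A[X]) := by rw [hinv, C_1]
      rw [← this]
      simp only [C_mul, map_natCast, Nat.cast_add, Nat.cast_one, C_add, C_1]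
      ring

end Groth.Agent.S14457
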