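import Groth.Statements.S7109
import Mathlib.LinearAlgebra.Finsupp.LinearCombination
import Mathlib.RingTheory.Finiteness.Basic
import Mathlib.LinearAlgebra.FreeModule.Finite.Basic
import Mathlib.Tactic

set_option autoImplicit false
universe u
open CAlg

namespace Groth.Agent.S7109

theorem isCompl_range_ker_of_leftInverse {R E F : Type*} [Ring R] [AddCommGroup E] [Module R E]
    [AddCommGroup F] [Module R F] (j : E →ₗ[R] F) (r : F →ₗ[R] E) (h : r ∘ₗ j = LinearMap.id) :
    IsCompl (LinearMap.range j) (LinearMap.ker r) := by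
  have h' : ∀ x, r (j x) = x := fun x => congrArg (fun φ : E →ₗ[R] E => φ x) h
  constructor
  · rw [Submodule.disjoint_def]
    rintro x ⟨y, rfl⟩ hx
    rw [LinearMap.mem_ker, h'] at hx
    rw [hx, map_zero]
  · rw [codisjoint_iff, eq_top_iff]
    intro x _
    rw [Submodule.mem_sup]
    refine ⟨j (r x), LinearMap.mem_range_self _ _, x - j (r x), ?_, by abel⟩
    rw [LinearMap.mem_ker, map_sub, h', sub_self]

/-- Let P be a projective module over a ring R and s an element of P. Then there are a finite free
module R^n and a direct summand K of R^n ⊕ P which is finite free and contains (0, s). -/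
theorem result (R : Type u) [CommRing R] (P : Type u) [AddCommGroup P]
    [Module R P] [Module.Projective R P] (s : P) :
    ∃ (n : ℕ) (K K' : Submodule R ((Fin n → R) × P)), IsCompl K K' ∧ Module.Free R K ∧ Module.Finite R K ∧
      ((0, s) : (Fin n → R) × P) ∈ K := by
  classical
  obtain ⟨sec, hsec⟩ := Module.projective_def'.mp (inferInstance : Module.Projective R P)
  have hsec' : ∀ p, Finsupp.linearCombination R id (sec p) = p :=
    fun p => congrArg (fun φ : P →ₗ[R] P => φ p) hsec
  let t : Finset P := (sec s).support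
  let n := t.card
  let e : Fin n ≃ t := t.equivFin.symm
  let φ : (Fin n → R) →ₗ[R] P := Fintype.linearCombination R (fun i => ((e i : t) : P))
  let ψ : P →ₗ[R] (Fin n → R) :=
    LinearMap.pi fun i => (Finsupp.lapply ((e i : t) : P)) ∘ₗ sec
  have hφψ : φ (ψ s) = s := by
    conv_rhs => rw [← hsec' s]
    rw [Finsupp.linearCombination_apply, Finsupp.sum]
    simp only [φ, ψ, Fintype.linearCombination_apply, LinearMap.pi_apply, LinearMap.comp_apply,
      Finsupp.lapply_apply, id]
    rw [← Finset.sum_coe_sort (sec s).support (fun p => (sec s) p • p)]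
    exact Fintype.sum_equiv e _ _ (fun i => rfl)
  let j : (Fin n → R) →ₗ[R] (Fin n → R) × P :=
    LinearMap.prod (LinearMap.id - ψ ∘ₗ φ) φ
  let r : (Fin n → R) × P →ₗ[R] (Fin n → R) :=
    LinearMap.coprod LinearMap.id ψ
  have hrj : r ∘ₗ j = LinearMap.id := by
    ext x : 1
    simp [r, j]
  have hinj : Function.Injective j := by
    intro x y hxy
    have := congrArg r hxy
    have h' : ∀ x, r (j x) = x := fun x => congrArg (fun φ : (Fin n → R) →ₗ[R] (Fin n → R) => φ x) hrj
    rwa [h', h'] at this
  refine ⟨n, LinearMap.range j, LinearMap.ker r, isCompl_range_ker_of_leftInverse j r hrj,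
    Module.Free.of_equiv (LinearEquiv.ofInjective j hinj),
    Module.Finite.equiv (LinearEquiv.ofInjective j hinj), ⟨ψ s, ?_⟩⟩
  change (((LinearMap.id : (Fin n → R) →ₗ[R] (Fin n → R)) - ψ ∘ₗ φ) (ψ s), φ (ψ s)) = (0, s)
  rw [LinearMap.sub_apply, LinearMap.id_apply, LinearMap.comp_apply, hφψ, sub_self]

end Groth.Agent.S7109
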