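import Groth.Statements.S5720
import Groth.Agent.Lib.Helper15.AzumayaSpread3
import Groth.Agent.Lib.Helper15.PrimeFactors
-- import your own Groth.Agent.* helpers here

set_option autoImplicit false
universe u v
open TensorProduct
open Dix

namespace Groth.Agent.S5720

/-- (ii) ⇒ (iii), over an affine base X = Spec R. Let A be an Azumaya algebra over the commutative ring
R and p a prime ideal of R. Then there exist f ∈ R with f ∉ p, a finite étale and faithfully flat
R_f-algebra R' (a finite étale surjective cover of the neighbourhood D(f) of p) and an integer r ≥ 1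
such that R' ⊗_R A is isomorphic as an R'-algebra to the matrix algebra M_r(R'). (Existence of the
isomorphism only.) -/
theorem result (R : Type u) [CommRing R] (A : Type u) [Ring A] [Algebra R A] [IsAzumaya R A] (p : Ideal R) [p.IsPrime] : ∃ f : R, f ∉ p ∧ ∃ (R' : Type u) (_ : CommRing R') (_ : Algebra R R') (_ : Algebra (Localization.Away f) R') (_ : IsScalarTower R (Localization.Away f) R'), Module.Finite (Localization.Away f) R' ∧ Algebra.Etale (Localization.Away f) R' ∧ Module.FaithfullyFlat (Localization.Away f) R' ∧ ∃ r : ℕ, 1 ≤ r ∧ Nonempty ((R' ⊗[R] A) ≃ₐ[R'] Matrix (Fin r) (Fin r) R') := by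
  classical
  open Groth.Agent.Lib.Helper15.AzumayaSpread Groth.Agent.Lib.Helper15.Azumaya in
  haveI hAzp : IsAzumaya (Localization.AtPrime p) (Localization.AtPrime p ⊗[R] A) :=
    isAzumaya_baseChange R (Localization.AtPrime p) A
  haveI : Module.Free (Localization.AtPrime p) (Localization.AtPrime p ⊗[R] A) :=
    Module.free_of_flat_of_isLocalRing
  -- the rank is a square
  obtain ⟨r, hr2, hr⟩ : ∃ r : ℕ,
      Module.finrank (Localization.AtPrime p) (Localization.AtPrime p ⊗[R] A) = r ^ 2 ∧
        0 < r := by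
    have hAz : IsAzumaya (IsLocalRing.ResidueField (Localization.AtPrime p))
        (IsLocalRing.ResidueField (Localization.AtPrime p) ⊗[Localization.AtPrime p]
          (Localization.AtPrime p ⊗[R] A)) :=
      isAzumaya_baseChange (Localization.AtPrime p) _ _
    haveI := isCentral_of_isAzumaya (IsLocalRing.ResidueField (Localization.AtPrime p))
      (IsLocalRing.ResidueField (Localization.AtPrime p) ⊗[Localization.AtPrime p]
          (Localization.AtPrime p ⊗[R] A))
    haveI := isSimpleRing_of_isAzumaya (IsLocalRing.ResidueField (Localization.AtPrime p))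
      (IsLocalRing.ResidueField (Localization.AtPrime p) ⊗[Localization.AtPrime p]
          (Localization.AtPrime p ⊗[R] A))
    obtain ⟨n, hn⟩ := Groth.Agent.Lib.Helper15.CSA.exists_finrank_eq_sq
      (IsLocalRing.ResidueField (Localization.AtPrime p))
      (IsLocalRing.ResidueField (Localization.AtPrime p) ⊗[Localization.AtPrime p]
          (Localization.AtPrime p ⊗[R] A))
    have hpos : 0 < Module.finrank (IsLocalRing.ResidueField (Localization.AtPrime p))
      (IsLocalRing.ResidueField (Localization.AtPrime p) ⊗[Localization.AtPrime p]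
          (Localization.AtPrime p ⊗[R] A)) := Module.finrank_pos
    refine ⟨n, ?_, ?_⟩
    · rw [Module.finrank_baseChange] at hn
      exact hn
    · rcases Nat.eq_zero_or_pos n with h | h
      · rw [h] at hn
        rw [hn] at hpos
        simp at hpos
      · exact h
  obtain ⟨a, aj, P, hPm, hPd, hPξ, hbez, B, hB⟩ := exists_local_data R A p r hr2
  obtain ⟨g₁, hg₁, H₁⟩ := spread_basis R A p
    (fun ij : Fin r × Fin r => aj ij.2 * a ^ (ij.1 : ℕ)) B (fun ij => hB ij.1 ij.2)
  obtain ⟨g₂, hg₂, H₂⟩ := spread_poly R A p a r P hPm hPd hPξ hbez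
  have hf : g₁ * g₂ ∉ p := fun h => (Ideal.IsPrime.mem_or_mem inferInstance h).elim hg₁ hg₂
  obtain ⟨Bt, hBt⟩ := H₁ (g₁ * g₂) (dvd_mul_right g₁ g₂)
  obtain ⟨Pt, hPtm, hPtd, hPtξ, hbezt⟩ := H₂ (g₁ * g₂) hf (dvd_mul_left g₂ g₁)
  haveI : IsAzumaya (Localization.Away (g₁ * g₂)) (Localization.Away (g₁ * g₂) ⊗[R] A) :=
    isAzumaya_baseChange R _ A
  obtain ⟨het, hfin, hff, ⟨e⟩⟩ := split_of_data (Localization.Away (g₁ * g₂))
    (Localization.Away (g₁ * g₂) ⊗[R] A) r hr ((1 : Localization.Away (g₁ * g₂)) ⊗ₜ[R] a) Pt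
    hPtm hPtd hPtξ hbezt (fun j => (1 : Localization.Away (g₁ * g₂)) ⊗ₜ[R] aj j) Bt
    (fun i j => by
      rw [hBt, Algebra.TensorProduct.tmul_pow, one_pow, Algebra.TensorProduct.tmul_mul_tmul,
        one_mul])
  refine ⟨g₁ * g₂, hf, AdjoinRoot Pt, inferInstance, inferInstance, inferInstance, inferInstance,
    hfin, het, hff, r, hr, ⟨?_⟩⟩
  exact (cancelBaseChangeRing R (Localization.Away (g₁ * g₂)) A (AdjoinRoot Pt)
    (AdjoinRoot Pt)).symm.trans e

end Groth.Agent.S5720
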