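import Groth.Statements.S15587
-- import your own Groth.Agent.* helpers here
import Mathlib
import Groth.Agent.Lib.Helper12.RInvC
open Groth.Agent.Lib.Helper12.RInvB Groth.Agent.Lib.Helper12.RInvC Groth.Agent.Lib27.RInvL

set_option autoImplicit false
universe u v
open scoped TensorProduct
open RInv

namespace Groth.Agent.S15587

/-- (b) ⇔ (d): let `R` be a commutative ring with an involution `lam` and fixed ring `S`, so that `Spec
R → Spec S` is a good quotient by the involution, and let `p` be a prime of `S`. Then `p` is a
branch point, i.e. the localisation `S_p ⊗_S R` is not quadratic etale over `S_p`, if and only if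
exactly one prime `q` of `R` lies over `p` and `lam` induces the identity on the residue field of
`q` (equivalently `lam r - r ∈ q` for all `r`). This is the affine-local form of the statement for a
good quotient of schemes, to which the general case reduces since such quotients are affine
morphisms. -/
theorem result (S : Type u) (R : Type v) [CommRing S] [CommRing R]
    [Algebra S R] (lam : R ≃+* R) (hlam : Function.Involutive lam) (hS : RInv.IsFixedRing S R lam)
    (p : PrimeSpectrum S) :
    ¬ RInv.IsQuadEtale (Localization.AtPrime p.asIdeal) (Localization.AtPrime p.asIdeal ⊗[S] R) ↔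
      ∃ q : PrimeSpectrum R, q.asIdeal.comap (algebraMap S R) = p.asIdeal ∧
        (∀ q' : PrimeSpectrum R, q'.asIdeal.comap (algebraMap S R) = p.asIdeal → q' = q) ∧
        ∀ r : R, lam r - r ∈ q.asIdeal := by
  haveI := p.isPrime
  have hfix := isFixedRing_Λ lam hS (Localization.AtPrime p.asIdeal) hlam
  have hinv := Λ_involutive lam hS (Localization.AtPrime p.asIdeal) hlam
  have hΛf : ∀ r, Λ lam hS (Localization.AtPrime p.asIdeal) (f p.asIdeal r) =
      f p.asIdeal (lam r) := fun r => Λ_tmul lam hS _ _ _
  constructor
  · intro hnq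
    have hJ : ∀ x, Λ lam hS (Localization.AtPrime p.asIdeal) x - x ∈
        Ring.jacobson (Localization.AtPrime p.asIdeal ⊗[S] R) := by
      by_contra hcon
      push Not at hcon
      exact hnq (isQuadEtale_of_not_mem_jacobson _ hinv hfix hcon)
    obtain ⟨hloc, -⟩ := isLocalRing_and_not_isQuadEtale _ hinv hfix hJ
    haveI := hloc
    have hq : ((IsLocalRing.maximalIdeal (Localization.AtPrime p.asIdeal ⊗[S] R)).comap
        (f p.asIdeal)).comap (algebraMap S R) = p.asIdeal :=
      comap_comap_eq p.asIdeal lam hlam hS _
    have hlamq : ∀ r, lam r - r ∈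
        (IsLocalRing.maximalIdeal (Localization.AtPrime p.asIdeal ⊗[S] R)).comap (f p.asIdeal) := by
      intro r
      rw [Ideal.mem_comap, map_sub, ← hΛf]
      have := hJ (f _ r)
      rwa [← Ideal.jacobson_bot, IsLocalRing.jacobson_eq_maximalIdeal _ bot_ne_top] at this
    refine ⟨⟨_, Ideal.comap_isPrime _ _⟩, hq, ?_, hlamq⟩
    intro q' hq'
    have hle : q'.asIdeal ≤
        (IsLocalRing.maximalIdeal (Localization.AtPrime p.asIdeal ⊗[S] R)).comap (f p.asIdeal) := by
      haveI := q'.isPrime
      have hne := map_ne_top p.asIdeal q'.asIdeal hq'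
      exact Ideal.le_comap_map.trans (Ideal.comap_mono (IsLocalRing.le_maximalIdeal hne))
    by_contra hne
    have hlt : q'.asIdeal <
        (IsLocalRing.maximalIdeal (Localization.AtPrime p.asIdeal ⊗[S] R)).comap (f p.asIdeal) :=
      lt_of_le_of_ne hle (fun h => hne (PrimeSpectrum.ext h))
    obtain ⟨x, hxq, hxq'⟩ := SetLike.exists_of_lt hlt
    haveI := q'.isPrime
    have := Ideal.comap_lt_comap_of_integral_mem_sdiff hle ⟨hxq, hxq'⟩
      (isIntegral lam hlam hS x)
    rw [hq, hq'] at this
    exact lt_irrefl _ this
  · rintro ⟨q, hq, huniq, hlamq⟩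
    have hJ : ∀ x, Λ lam hS (Localization.AtPrime p.asIdeal) x - x ∈
        Ring.jacobson (Localization.AtPrime p.asIdeal ⊗[S] R) := by
      intro x
      rw [← Ideal.jacobson_bot, Ideal.jacobson, Ideal.mem_sInf]
      rintro N ⟨-, hN⟩
      haveI : N.IsMaximal := hN
      have hNq : N.comap (f p.asIdeal) = q.asIdeal :=
        congrArg PrimeSpectrum.asIdeal (huniq ⟨N.comap (f p.asIdeal), Ideal.comap_isPrime _ _⟩
          (comap_comap_eq p.asIdeal lam hlam hS N))
      obtain ⟨r, s, hrs⟩ := exists_rep p.asIdeal x
      have h1 : (algebraMap S (Localization.AtPrime p.asIdeal) s) •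
          (Λ lam hS (Localization.AtPrime p.asIdeal) x - x) = f p.asIdeal (lam r - r) := by
        rw [smul_sub, ← Λ_smul, hrs, hΛf, map_sub]
      have h2 : f p.asIdeal (lam r - r) ∈ N := by
        rw [← Ideal.mem_comap, hNq]
        exact hlamq r
      have hu : IsUnit (algebraMap S (Localization.AtPrime p.asIdeal) s) :=
        IsLocalization.map_units _ s
      rw [← h1, Algebra.smul_def] at h2
      exact (Ideal.unit_mul_mem_iff_mem N (hu.map _)).mp h2
    exact (isLocalRing_and_not_isQuadEtale _ hinv hfix hJ).2

end Groth.Agent.S15587
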