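import Groth.Statements.S17607
import Mathlib
import Groth.Agent.Lib.Helper4.HzPairBase
import Groth.Agent.Lib.Helper12.HzPairUniv

set_option autoImplicit false
universe u
open Hensel

namespace Groth.Agent.S17607

open Groth.Agent.Lib.Helper4 in
/-- Let (A, I) and (B, IB) be Henselian pairs with B an A-algebra. Then the following are equivalent:
(i) A → B is Henselian finitely presented, i.e. there are n, a Henselization P of the pair
(A[X₁,…,Xₙ], I·A[X₁,…,Xₙ]) (a Henselized polynomial ring) and a surjective A-algebra map P → B with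
finitely generated kernel; (ii) there are a finitely presented A-algebra R and an R-algebra
structure on B compatible with that of A for which B is a Henselization of the pair (R, IR). -/
theorem result (A : Type u) [CommRing A] (I : Ideal A)
    [HenselianRing A I] (B : Type u) [CommRing B] [Algebra A B]
    [HenselianRing B (I.map (algebraMap A B))] :
    (∃ (n : ℕ) (P : Type u) (_ : CommRing P) (_ : Algebra (MvPolynomial (Fin n) A) P) (_ : Algebra A P)
        (_ : IsScalarTower A (MvPolynomial (Fin n) A) P),
        Hens2.IsPairHenselization (MvPolynomial (Fin n) A)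
          (I.map (algebraMap A (MvPolynomial (Fin n) A))) P ∧
        ∃ φ : P →ₐ[A] B, Function.Surjective φ ∧ (RingHom.ker φ).FG) ↔
    ∃ (R : Type u) (_ : CommRing R) (_ : Algebra A R) (_ : Algebra R B) (_ : IsScalarTower A R B),
      Algebra.FinitePresentation A R ∧ Hens2.IsPairHenselization R (I.map (algebraMap A R)) B := by
  classical
  constructor
  · rintro ⟨n, P, _, _, _, _, hP, φ, hφ, hfg⟩
    obtain ⟨T, hT⟩ := hfg
    obtain ⟨E, _, _, hE, ψ, hψ⟩ := HzPairBase.exists_common_nbhd
      (I.map (algebraMap A (MvPolynomial (Fin n) A))) hP T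
    have hψ' : ∀ x ∈ T, ∃ y : E, ψ y = x := fun x hx => hψ x hx
    choose! σ hσ using hψ'
    let JE : Ideal E := Ideal.span (σ '' (T : Set P))
    have hJEfg : JE.FG := ⟨T.image σ, by simp [JE]⟩
    let _ : Algebra A E :=
      ((algebraMap (MvPolynomial (Fin n) A) E).comp (algebraMap A (MvPolynomial (Fin n) A))).toAlgebra
    have _ : IsScalarTower A (MvPolynomial (Fin n) A) E := IsScalarTower.of_algebraMap_eq (fun _ => rfl)
    let _ : Algebra E P := ψ.toRingHom.toAlgebra
    have _ : IsScalarTower (MvPolynomial (Fin n) A) E P :=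
      IsScalarTower.of_algebraMap_eq (fun q => (ψ.commutes q).symm)
    have hEP := HzPairBase.of_nbhd (I.map (algebraMap A (MvPolynomial (Fin n) A))) hE hP
    have hquot := HzPairBase.quotient _ hEP JE
    have hT' : Ideal.span (T : Set P) = RingHom.ker (φ : P →+* B) := hT
    have hmap : JE.map (algebraMap E P) = RingHom.ker (φ : P →+* B) := by
      rw [Ideal.map_span, ← hT']
      congr 1
      ext x
      simp only [Set.mem_image, Finset.mem_coe, exists_exists_and_eq_and]
      constructor
      · rintro ⟨y, hy, rfl⟩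
        have : algebraMap E P (σ y) = y := hσ y hy
        rwa [this]
      · intro hx
        exact ⟨x, hx, hσ x hx⟩
    let e₂ : (P ⧸ JE.map (algebraMap E P)) ≃+* B :=
      (Ideal.quotEquivOfEq hmap).trans
        (RingHom.quotientKerEquivOfSurjective (f := (φ : P →+* B)) hφ)
    have he₂ : ∀ p : P, e₂ (Ideal.Quotient.mk _ p) = φ p := fun p => rfl
    have _ : Algebra.Etale (MvPolynomial (Fin n) A) E := hE.etale
    have hfpE : Algebra.FinitePresentation A E :=
      Algebra.FinitePresentation.trans A (MvPolynomial (Fin n) A) E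
    have hfpR : Algebra.FinitePresentation A (E ⧸ JE) := Algebra.FinitePresentation.quotient hJEfg
    let _ : Algebra (E ⧸ JE) B :=
      ((e₂ : _ →+* B).comp (algebraMap (E ⧸ JE) (P ⧸ JE.map (algebraMap E P)))).toAlgebra
    have htower : IsScalarTower A (E ⧸ JE) B := IsScalarTower.of_algebraMap_eq (fun a => by
      show algebraMap A B a = e₂ (Ideal.Quotient.mk _ (algebraMap E P (algebraMap A E a)))
      rw [he₂, ← φ.commutes a]
      congr 1
      show algebraMap A P a = ψ (algebraMap (MvPolynomial (Fin n) A) E
        (algebraMap A (MvPolynomial (Fin n) A) a))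
      rw [ψ.commutes, ← IsScalarTower.algebraMap_apply])
    refine ⟨E ⧸ JE, inferInstance, inferInstance, inferInstance, htower, hfpR, ?_⟩
    have h3 := HzPairBase.transport_right _ hquot e₂ rfl
    have hid : ((I.map (algebraMap A (MvPolynomial (Fin n) A))).map
        (algebraMap (MvPolynomial (Fin n) A) E)).map (Ideal.Quotient.mk JE) =
        I.map (algebraMap A (E ⧸ JE)) := by
      rw [Ideal.map_map, Ideal.map_map]
      rfl
    rwa [hid] at h3
  · rintro ⟨R, _, _, _, _, hfp, hB⟩
    obtain ⟨n, f, hf, hfg⟩ := hfp.out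
    let K : Ideal (MvPolynomial (Fin n) A) := I.map (algebraMap A (MvPolynomial (Fin n) A))
    have hP : Hens2.IsPairHenselization (MvPolynomial (Fin n) A) K (Groth.Agent.Lib.Helper12.HzPair.Hz K) :=
      Groth.Agent.Lib.Helper12.HzPair.Hz.isPairHenselization K
    let _ : Algebra A (Groth.Agent.Lib.Helper12.HzPair.Hz K) :=
      ((algebraMap (MvPolynomial (Fin n) A) (Groth.Agent.Lib.Helper12.HzPair.Hz K)).comp
        (algebraMap A (MvPolynomial (Fin n) A))).toAlgebra
    have htower : IsScalarTower A (MvPolynomial (Fin n) A) (Groth.Agent.Lib.Helper12.HzPair.Hz K) :=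
      IsScalarTower.of_algebraMap_eq (fun _ => rfl)
    refine ⟨n, Groth.Agent.Lib.Helper12.HzPair.Hz K, inferInstance, inferInstance, inferInstance,
      htower, hP, ?_⟩
    have hquot := HzPairBase.quotient K hP (RingHom.ker f.toRingHom)
    let e₁ : (MvPolynomial (Fin n) A ⧸ RingHom.ker f.toRingHom) ≃+* R :=
      RingHom.quotientKerEquivOfSurjective hf
    have he₁ : ∀ q, e₁ (Ideal.Quotient.mk _ q) = f q := fun q => rfl
    let _ : Algebra (MvPolynomial (Fin n) A ⧸ RingHom.ker f.toRingHom) B :=
      ((algebraMap R B).comp (e₁ : _ →+* R)).toAlgebra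
    have halg : ∀ x, algebraMap (MvPolynomial (Fin n) A ⧸ RingHom.ker f.toRingHom) B x =
        algebraMap R B (e₁ x) := fun x => rfl
    have h3 := HzPairBase.transport_left _ hB e₁.symm (by
      refine RingHom.ext fun x => ?_
      show algebraMap _ B (e₁.symm x) = _
      rw [halg, e₁.apply_symm_apply])
    have hid : (I.map (algebraMap A R)).map (e₁.symm : R →+* _) =
        K.map (Ideal.Quotient.mk (RingHom.ker f.toRingHom)) := by
      rw [Ideal.map_map, Ideal.map_map]
      congr 1
      ext a
      show e₁.symm (algebraMap A R a) =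
        Ideal.Quotient.mk _ (algebraMap A (MvPolynomial (Fin n) A) a)
      rw [RingEquiv.symm_apply_eq, he₁, f.commutes]
    rw [hid] at h3
    obtain ⟨e⟩ := Groth.Agent.Lib.Helper12.HensCRT.nonempty_algEquiv_of_isPairHenselization
      _ _ B hquot h3
    have hcomm : ∀ a : A, e (Ideal.Quotient.mk _ (algebraMap (MvPolynomial (Fin n) A)
        (Groth.Agent.Lib.Helper12.HzPair.Hz K) (algebraMap A (MvPolynomial (Fin n) A) a))) =
        algebraMap A B a := by
      intro a
      have h4 := e.commutes (Ideal.Quotient.mk (RingHom.ker f.toRingHom)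
        (algebraMap A (MvPolynomial (Fin n) A) a))
      rw [halg, he₁, f.commutes, ← IsScalarTower.algebraMap_apply] at h4
      rw [← h4]
      rfl
    let φ : Groth.Agent.Lib.Helper12.HzPair.Hz K →ₐ[A] B :=
      { (e.toRingEquiv.toRingHom).comp (Ideal.Quotient.mk ((RingHom.ker f.toRingHom).map
              (algebraMap (MvPolynomial (Fin n) A) (Groth.Agent.Lib.Helper12.HzPair.Hz K)))) with
        commutes' := fun a => hcomm a }
    have hφ : ∀ p, φ p = e (Ideal.Quotient.mk _ p) := fun p => rfl
    refine ⟨φ, ?_, ?_⟩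
    · intro b
      obtain ⟨y, rfl⟩ := e.surjective b
      obtain ⟨p, rfl⟩ := Ideal.Quotient.mk_surjective y
      exact ⟨p, rfl⟩
    · have hker : RingHom.ker φ = (RingHom.ker f.toRingHom).map
          (algebraMap (MvPolynomial (Fin n) A) (Groth.Agent.Lib.Helper12.HzPair.Hz K)) := by
        ext p
        rw [RingHom.mem_ker, hφ, map_eq_zero_iff _ e.injective, Ideal.Quotient.eq_zero_iff_mem]
      rw [hker]
      exact Ideal.FG.map hfg _

end Groth.Agent.S17607
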