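import Groth.Statements.S8829
import Groth.Agent.S8822
import Groth.Agent.Lib.Helper15.RigClosed

set_option autoImplicit false
universe u
open AdicRing

namespace Groth.Agent.S8829

/-- In the case of adic Noetherian topological rings: let A be a Noetherian ring complete for the adic
topology of an ideal I, and B a Noetherian A-algebra complete for the IB-adic topology with B/IB of
finite type over A (so A → B is an adic morphism, topologically of finite type). Let q be a
rig-closed prime of B (IB ⊄ q and q maximal among the primes not containing IB) and p its inverse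
image in A. Three conditions turn out to be equivalent: (1) whenever m is a maximal ideal of B with
m ⊇ q, the quotient B/m is finite as an A-module (that is, residue fields of B/q are finite over A);
(2) p is rig-closed in A (I ⊄ p and p maximal among the primes not containing I); (3) B/q is a
finite A-module, i.e. A/p ⊆ B/q is a finite extension of rings. -/
theorem result (A : Type u) [CommRing A] [IsNoetherianRing A] (I : Ideal A) [IsAdicComplete I A] (B : Type u) [CommRing B] [Algebra A B] [IsNoetherianRing B] [IsAdicComplete (I.map (algebraMap A B)) B] (hft : Algebra.FiniteType A (B ⧸ (I.map (algebraMap A B)))) (q : PrimeSpectrum B) (hq : (¬ (I.map (algebraMap A B)) ≤ q.asIdeal ∧ ∀ y : PrimeSpectrum B, q ≤ y → ¬ (I.map (algebraMap A B)) ≤ y.asIdeal → y = q)) : List.TFAE [∀ m : Ideal B, m.IsMaximal → q.asIdeal ≤ m → Module.Finite A (B ⧸ m), (¬ I ≤ (PrimeSpectrum.comap (algebraMap A B) q).asIdeal ∧ ∀ y : PrimeSpectrum A, (PrimeSpectrum.comap (algebraMap A B) q) ≤ y → ¬ I ≤ y.asIdeal → y = (PrimeSpectrum.comap (algebraMap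 A B) q)), Module.Finite A (B ⧸ q.asIdeal)] := by
  set K : Ideal B := I.map (algebraMap A B) with hK
  set p : PrimeSpectrum A := PrimeSpectrum.comap (algebraMap A B) q with hp
  have hpdef : p.asIdeal = q.asIdeal.comap (algebraMap A B) := rfl
  have hKjac : ∀ m : Ideal B, m.IsMaximal → K ≤ m := by
    intro m hm
    have h1 : K ≤ (⊥ : Ideal B).jacobson := IsAdicComplete.le_jacobson_bot K
    exact h1.trans (sInf_le ⟨bot_le, hm⟩)
  have hftm : ∀ m : Ideal B, K ≤ m → Algebra.FiniteType A (B ⧸ m) := by
    intro m hKm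
    exact Algebra.FiniteType.of_surjective (Ideal.Quotient.factorₐ A hKm)
      (Ideal.Quotient.factor_surjective hKm)
  tfae_have 3 → 1 := by
    intro h3 m hm hqm
    exact Module.Finite.of_surjective (Ideal.Quotient.factorₐ A hqm).toLinearMap
      (Ideal.Quotient.factor_surjective hqm)
  tfae_have 1 → 3 := by
    intro h1
    have hcomplete : IsAdicComplete (I.map (algebraMap A (B ⧸ q.asIdeal))) (B ⧸ q.asIdeal) :=
      Groth.Agent.S8822.result A I B hft q.asIdeal
    have hH : IsHausdorff (I.map (algebraMap A (B ⧸ q.asIdeal))) (B ⧸ q.asIdeal) :=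
      hcomplete.toIsHausdorff
    apply Groth.Agent.Lib.Helper15.finite_of_finite_quotient_map I (B ⧸ q.asIdeal)
    set JC : Ideal (B ⧸ q.asIdeal) := I.map (algebraMap A (B ⧸ q.asIdeal)) with hJC
    apply Groth.Agent.Lib.Helper15.finite_of_forall_prime_quotient_finite
    intro p' hp'
    let φ : B →ₐ[A] ((B ⧸ q.asIdeal) ⧸ JC) ⧸ p' :=
      (Ideal.Quotient.mkₐ A p').comp ((Ideal.Quotient.mkₐ A JC).comp (Ideal.Quotient.mkₐ A q.asIdeal))
    have hφ : Function.Surjective φ :=
      (Ideal.Quotient.mkₐ_surjective A p').comp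
        ((Ideal.Quotient.mkₐ_surjective A JC).comp (Ideal.Quotient.mkₐ_surjective A q.asIdeal))
    let m : Ideal B := RingHom.ker φ.toRingHom
    have hmprime : m.IsPrime := RingHom.ker_isPrime φ.toRingHom
    have hqm : q.asIdeal ≤ m := by
      intro x hx
      change φ x = 0
      have : Ideal.Quotient.mk q.asIdeal x = 0 := Ideal.Quotient.eq_zero_iff_mem.mpr hx
      simp [φ, this]
    have hKm : K ≤ m := by
      rw [hK, Ideal.map_le_iff_le_comap]
      intro a ha
      change φ (algebraMap A B a) = 0
      have h2 : (Ideal.Quotient.mkₐ A JC) ((Ideal.Quotient.mkₐ A q.asIdeal) (algebraMap A B a)) = 0 := by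
        rw [Ideal.Quotient.mkₐ_eq_mk, Ideal.Quotient.mkₐ_eq_mk, Ideal.Quotient.eq_zero_iff_mem, hJC]
        exact Ideal.mem_map_of_mem _ ha
      simp only [φ, AlgHom.comp_apply, h2, map_zero]
    have hmne : m ≠ q.asIdeal := fun h => hq.1 (h ▸ hKm)
    have hmmax : m.IsMaximal :=
      Groth.Agent.Lib.Helper15.isMaximal_of_rigClosed K q hq m hqm hmne
    have hfin : Module.Finite A (B ⧸ m) := h1 m hmmax hqm
    let ψ : B ⧸ m →ₐ[A] ((B ⧸ q.asIdeal) ⧸ JC) ⧸ p' :=
      Ideal.Quotient.liftₐ m φ (fun a ha => ha)
    have hψ : Function.Surjective ψ := Ideal.Quotient.lift_surjective_of_surjective m _ hφ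
    exact Module.Finite.of_surjective ψ.toLinearMap (hψ : Function.Surjective ψ.toLinearMap)
  tfae_have 3 → 2 := by
    intro h3
    have hint : Algebra.IsIntegral A (B ⧸ q.asIdeal) := Algebra.IsIntegral.of_finite A _
    refine ⟨fun hIp => hq.1 ?_, fun y hpy hIy => ?_⟩
    · rw [hK, Ideal.map_le_iff_le_comap]
      exact hIp
    · have hker : RingHom.ker (algebraMap A (B ⧸ q.asIdeal)) ≤ y.asIdeal := by
        intro a ha
        have : a ∈ p.asIdeal := by
          rw [hpdef, Ideal.mem_comap]
          rw [RingHom.mem_ker, IsScalarTower.algebraMap_apply A B (B ⧸ q.asIdeal),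
            Ideal.Quotient.algebraMap_eq, Ideal.Quotient.eq_zero_iff_mem] at ha
          exact ha
        exact (PrimeSpectrum.asIdeal_le_asIdeal _ _).mpr hpy this
      obtain ⟨Q, hQprime, hQy⟩ :=
        Ideal.exists_ideal_over_prime_of_isIntegral_of_isDomain y.asIdeal hker
      let Q' : PrimeSpectrum B := ⟨Q.comap (Ideal.Quotient.mk q.asIdeal), inferInstance⟩
      have hqQ' : q ≤ Q' := by
        rw [← PrimeSpectrum.asIdeal_le_asIdeal]
        change q.asIdeal ≤ Q.comap (Ideal.Quotient.mk q.asIdeal)
        intro x hx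
        rw [Ideal.mem_comap, Ideal.Quotient.eq_zero_iff_mem.mpr hx]
        exact Q.zero_mem
      have hQ'y : Q'.asIdeal.comap (algebraMap A B) = y.asIdeal := by
        rw [← hQy]
        rfl
      have hKQ' : ¬ K ≤ Q'.asIdeal := by
        intro hle
        apply hIy
        rw [← hQ'y, ← Ideal.map_le_iff_le_comap]
        exact hle
      have hQ'q : Q' = q := hq.2 Q' hqQ' hKQ'
      apply PrimeSpectrum.ext
      rw [← hQ'y, hQ'q]
      rfl
  tfae_have 2 → 1 := by
    intro h2 m hm hqm
    have hKm : K ≤ m := hKjac m hm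
    set n : Ideal A := m.comap (algebraMap A B) with hn
    have hnprime : n.IsPrime := Ideal.comap_isPrime _ _
    have hIn : I ≤ n := by
      rw [hn, ← Ideal.map_le_iff_le_comap]
      exact hKm
    have hpn : p.asIdeal ≤ n := Ideal.comap_mono hqm
    have hnne : n ≠ p.asIdeal := fun h => h2.1 (h ▸ hIn)
    have hnmax : n.IsMaximal :=
      Groth.Agent.Lib.Helper15.isMaximal_of_rigClosed I p h2 n hpn hnne
    have hnm : n.map (algebraMap A B) ≤ m := Ideal.map_comap_le
    have : Algebra.FiniteType A (B ⧸ m) := hftm m hKm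
    let _ : Field (A ⧸ n) := Ideal.Quotient.field n
    have : IsJacobsonRing (A ⧸ n) := inferInstance
    exact Groth.Agent.Lib.Helper15.finite_quotient_of_isJacobsonRing n m hnm
  tfae_finish

end Groth.Agent.S8829
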