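import Groth.Statements.S8837
import Mathlib
import Groth.Agent.Lib.Helper21.AdicNoetherian

set_option autoImplicit false
universe u
open AdicRing

namespace Groth.Agent.S8837

/-- Let A be a Noetherian ring complete for the adic topology of an ideal I (an adic Noetherian
topological ring), p a prime ideal of A, and f ∈ A an element mapping to a unit in A/p. Let A_{f}
denote the completed principal localization, i.e. the I-adic completion of A_f = A[1/f]. Then the
ideal p A_{f} generated by p is prime, and the canonical map A/p → A_{f}/p A_{f} is bijective (so p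
A_{f} = p ⊗_A A_{f} is the completion of p_f, with quotient A/p). -/
theorem result (A : Type u) [CommRing A] [IsNoetherianRing A] (I : Ideal A) [IsAdicComplete I A] (p : Ideal A) [p.IsPrime] (f : A) (hf : IsUnit (Ideal.Quotient.mk p f)) : (p.map (algebraMap A (AdicCompletion (I.map (algebraMap A (Localization.Away f))) (Localization.Away f)))).IsPrime ∧ Function.Bijective (Ideal.quotientMap (p.map (algebraMap A (AdicCompletion (I.map (algebraMap A (Localization.Away f))) (Localization.Away f)))) (algebraMap A (AdicCompletion (I.map (algebraMap A (Localization.Away f))) (Localization.Away f))) Ideal.le_comap_map) := by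
  set R := Localization.Away f with hR
  set J : Ideal R := I.map (algebraMap A R) with hJ
  set Rh := AdicCompletion J R with hRh
  set P : Ideal Rh := p.map (algebraMap A Rh) with hP
  have hJfg : J.FG := Ideal.FG.map (IsNoetherian.noetherian I) _
  have hNR : IsNoetherianRing R := IsLocalization.isNoetherianRing (Submonoid.powers f) R inferInstance
  have hNRh : IsNoetherianRing Rh :=
    Groth.Agent.Lib.Helper21.isNoetherianRing_adicCompletion_of_fg J hJfg
  have hcomp : IsAdicComplete (J.map (algebraMap R Rh)) Rh := AdicCompletion.isAdicComplete_self J hJfg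
  have htower : IsScalarTower A R Rh := IsScalarTower.of_algebraMap_eq (fun a => rfl)
  have hJRh : J.map (algebraMap R Rh) = I.map (algebraMap A Rh) := by
    change (I.map (algebraMap A R)).map (algebraMap R Rh) = _
    rw [Ideal.map_map, ← IsScalarTower.algebraMap_eq]
  -- an inverse of `f` modulo `p`
  obtain ⟨gbar, hg⟩ := hf.exists_right_inv
  obtain ⟨g, rfl⟩ := Ideal.Quotient.mk_surjective gbar
  have hfgk : ∀ k : ℕ, (f * g) ^ k - 1 ∈ p := by
    intro k
    rw [← Ideal.Quotient.eq_zero_iff_mem, map_sub, map_pow, map_mul, hg, one_pow, map_one, sub_self]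
  -- injectivity
  have hinj : ∀ a : A, algebraMap A Rh a ∈ P → a ∈ p := by
    intro a ha
    have hstep : ∀ n : ℕ, a ∈ p ⊔ I ^ n := by
      intro n
      have h1 : (AdicCompletion.evalₐ J n) (algebraMap A Rh a) ∈
          P.map (AdicCompletion.evalₐ J n).toRingHom := Ideal.mem_map_of_mem _ ha
      have h2 : (AdicCompletion.evalₐ J n).toRingHom.comp (algebraMap A Rh) =
          (Ideal.Quotient.mk (J ^ n)).comp (algebraMap A R) := by
        ext b
        exact AdicCompletion.evalₐ_of J n (algebraMap A R b)
      have h3 : P.map (AdicCompletion.evalₐ J n).toRingHom =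
          (p.map (algebraMap A R)).map (Ideal.Quotient.mk (J ^ n)) := by
        rw [hP, Ideal.map_map, h2, ← Ideal.map_map]
      have h4 : (AdicCompletion.evalₐ J n) (algebraMap A Rh a) =
          Ideal.Quotient.mk (J ^ n) (algebraMap A R a) :=
        AdicCompletion.evalₐ_of J n (algebraMap A R a)
      rw [h3, h4, Ideal.mem_quotient_iff_mem_sup] at h1
      have h5 : p.map (algebraMap A R) ⊔ J ^ n = (p ⊔ I ^ n).map (algebraMap A R) := by
        rw [Ideal.map_sup, Ideal.map_pow]
      rw [h5, IsLocalization.algebraMap_mem_map_algebraMap_iff (Submonoid.powers f)] at h1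
      obtain ⟨m, ⟨k, rfl⟩, hm⟩ := h1
      have h6 : a = g ^ k * (f ^ k * a) - ((f * g) ^ k - 1) * a := by ring
      rw [h6]
      exact Ideal.sub_mem _ (Ideal.mul_mem_left _ _ hm)
        (Ideal.mem_sup_left (Ideal.mul_mem_right _ _ (hfgk k)))
    -- Krull intersection in `A ⧸ p`
    have hItop : I.map (Ideal.Quotient.mk p) ≠ ⊤ := by
      intro htop
      have h1 : Ideal.Quotient.mk p 1 ∈ I.map (Ideal.Quotient.mk p) := by
        rw [htop]; trivial
      rw [Ideal.mem_quotient_iff_mem_sup] at h1
      obtain ⟨i, hi, q, hq, hiq⟩ := Submodule.mem_sup.mp h1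
      have hjac : I ≤ (⊥ : Ideal A).jacobson := IsAdicComplete.le_jacobson_bot I
      have hunit : IsUnit (i * (-1) + 1) := Ideal.mem_jacobson_bot.mp (hjac hi) (-1)
      have hqe : q = i * (-1) + 1 := by linear_combination hiq
      rw [← hqe] at hunit
      exact (inferInstance : p.IsPrime).ne_top (Ideal.eq_top_of_isUnit_mem _ hq hunit)
    have hkrull := Ideal.iInf_pow_eq_bot_of_isDomain (I.map (Ideal.Quotient.mk p)) hItop
    have hmem : Ideal.Quotient.mk p a ∈ ⨅ i : ℕ, (I.map (Ideal.Quotient.mk p)) ^ i := by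
      rw [Ideal.mem_iInf]
      intro n
      rw [← Ideal.map_pow, Ideal.mem_quotient_iff_mem_sup, sup_comm]
      exact hstep n
    rw [hkrull, Ideal.mem_bot] at hmem
    exact Ideal.Quotient.eq_zero_iff_mem.mp hmem
  -- surjectivity
  have hPmap : (p.map (algebraMap A R)).map (algebraMap R Rh) = P := by
    rw [hP, Ideal.map_map, ← IsScalarTower.algebraMap_eq]
  -- approximation modulo `I`
  have happrox : ∀ x : Rh, ∃ a : A, x - algebraMap A Rh a ∈ I.map (algebraMap A Rh) ⊔ P := by
    intro x
    obtain ⟨r, hr⟩ := Ideal.Quotient.mk_surjective (AdicCompletion.evalOneₐ J x)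
    have h1 : x - algebraMap R Rh r ∈ I.map (algebraMap A Rh) := by
      rw [← hJRh, ← AdicCompletion.ker_evalOneₐ_eq_map J hJfg, RingHom.mem_ker]
      change AdicCompletion.evalOneₐ J (x - algebraMap R Rh r) = 0
      rw [map_sub, ← hr]
      exact sub_eq_zero.mpr (AdicCompletion.evalOneₐ_of J r).symm
    obtain ⟨k, a', ha'⟩ := IsLocalization.Away.surj f r
    refine ⟨a' * g ^ k, ?_⟩
    have h2 : r - algebraMap A R (a' * g ^ k) ∈ p.map (algebraMap A R) := by
      have e : r - algebraMap A R (a' * g ^ k) = - (r * algebraMap A R ((f * g) ^ k - 1)) := by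
        rw [map_mul, ← ha']
        simp only [map_sub, map_pow, map_mul, map_one]
        ring
      rw [e]
      exact Ideal.neg_mem_iff _ |>.mpr (Ideal.mul_mem_left _ _ (Ideal.mem_map_of_mem _ (hfgk k)))
    have h3 : algebraMap R Rh r - algebraMap A Rh (a' * g ^ k) ∈ P := by
      rw [← hPmap, IsScalarTower.algebraMap_apply A R Rh, ← map_sub]
      exact Ideal.mem_map_of_mem _ h2
    have e2 : x - algebraMap A Rh (a' * g ^ k) =
        (x - algebraMap R Rh r) + (algebraMap R Rh r - algebraMap A Rh (a' * g ^ k)) := by ring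
    rw [e2]
    exact Ideal.add_mem _ (Ideal.mem_sup_left h1) (Ideal.mem_sup_right h3)
  have hsurj : ∀ x : Rh, ∃ a : A, x - algebraMap A Rh a ∈ P := by
    have hjac : I.map (algebraMap A Rh) ≤ (⊥ : Ideal Rh).jacobson := by
      rw [← hJRh]
      exact IsAdicComplete.le_jacobson_bot _
    have hH1 : IsHausdorff (I.map (algebraMap A Rh)) (Rh ⧸ P) := IsHausdorff.of_le_jacobson _ _ hjac
    have hH : IsHausdorff I (Rh ⧸ P) := IsHausdorff.map_algebraMap_iff.mp hH1
    have hsurj' : Function.Surjective (Algebra.linearMap A (Rh ⧸ P)) := by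
      apply surjective_of_mkQ_comp_surjective (I := I)
      intro y
      obtain ⟨ybar, rfl⟩ := Submodule.mkQ_surjective _ y
      obtain ⟨x, rfl⟩ := Ideal.Quotient.mk_surjective ybar
      obtain ⟨a, ha⟩ := happrox x
      refine ⟨a, ?_⟩
      rw [LinearMap.comp_apply, Submodule.mkQ_apply, Submodule.mkQ_apply, Submodule.Quotient.eq,
        Ideal.smul_top_eq_map, Submodule.restrictScalars_mem, Algebra.linearMap_apply,
        IsScalarTower.algebraMap_apply A Rh (Rh ⧸ P), Ideal.Quotient.algebraMap_eq, ← map_sub,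
        IsScalarTower.algebraMap_eq A Rh (Rh ⧸ P), ← Ideal.map_map, Ideal.Quotient.algebraMap_eq,
        ← Ideal.neg_mem_iff, ← map_neg, neg_sub, Ideal.mem_quotient_iff_mem_sup]
      exact ha
    intro x
    obtain ⟨a, ha⟩ := hsurj' (Ideal.Quotient.mk P x)
    refine ⟨a, ?_⟩
    rw [Algebra.linearMap_apply, IsScalarTower.algebraMap_apply A Rh (Rh ⧸ P),
      Ideal.Quotient.algebraMap_eq] at ha
    exact Ideal.Quotient.eq.mp ha.symm
  have hbij : Function.Bijective (Ideal.quotientMap P (algebraMap A Rh) Ideal.le_comap_map) := by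
    constructor
    · rw [injective_iff_map_eq_zero]
      intro abar h0
      obtain ⟨a, rfl⟩ := Ideal.Quotient.mk_surjective abar
      rw [Ideal.quotientMap_mk, Ideal.Quotient.eq_zero_iff_mem] at h0
      exact Ideal.Quotient.eq_zero_iff_mem.mpr (hinj a h0)
    · intro xbar
      obtain ⟨x, rfl⟩ := Ideal.Quotient.mk_surjective xbar
      obtain ⟨a, ha⟩ := hsurj x
      refine ⟨Ideal.Quotient.mk p a, ?_⟩
      rw [Ideal.quotientMap_mk]
      exact (Ideal.Quotient.eq.mpr ha).symm
  refine ⟨?_, hbij⟩
  have hdom : IsDomain (Rh ⧸ P) :=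
    (RingEquiv.ofBijective _ hbij).symm.toMulEquiv.isDomain (A ⧸ p)
  exact (Ideal.Quotient.isDomain_iff_prime P).mp hdom

end Groth.Agent.S8837
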