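import Groth.Statements.S18251
import Mathlib

set_option autoImplicit false
universe u
open W4c5m1nsnscurves
open Curves

namespace Groth.Agent.S18251
section Aux
open MvPolynomial MonomialOrder

noncomputable def mo : MonomialOrder (Fin 2) := (MonomialOrder.lex : MonomialOrder (Fin 2)ᵒᵈ)

lemma mo_lt_iff (c d : Fin 2 →₀ ℕ) : c ≺[mo] d ↔ c 1 < d 1 ∨ (c 1 = d 1 ∧ c 0 < d 0) := by
  change toLex (show (Fin 2)ᵒᵈ →₀ ℕ from c) < toLex (show (Fin 2)ᵒᵈ →₀ ℕ from d) ↔ _
  rw [Finsupp.Lex.lt_iff]
  constructor
  · rintro ⟨i, hi, hlt⟩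
    obtain ⟨i', rfl⟩ : ∃ i' : Fin 2, OrderDual.toDual i' = i := ⟨OrderDual.ofDual i, rfl⟩
    fin_cases i'
    · right
      refine ⟨hi (OrderDual.toDual 1) ?_, hlt⟩
      show (0 : Fin 2) < 1
      decide
    · left
      exact hlt
  · rintro (h | ⟨h1, h0⟩)
    · refine ⟨OrderDual.toDual 1, ?_, h⟩
      intro j hj
      obtain ⟨j', rfl⟩ : ∃ j' : Fin 2, OrderDual.toDual j' = j := ⟨OrderDual.ofDual j, rfl⟩
      have : (1 : Fin 2) < j' := hj
      fin_cases j' <;> simp at this
    · refine ⟨OrderDual.toDual 0, ?_, h0⟩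
      intro j hj
      obtain ⟨j', rfl⟩ : ∃ j' : Fin 2, OrderDual.toDual j' = j := ⟨OrderDual.ofDual j, rfl⟩
      have : (0 : Fin 2) < j' := hj
      fin_cases j'
      · simp at this
      · exact h1

noncomputable def d0 : Fin 2 →₀ ℕ := Finsupp.single 0 1 + Finsupp.single 1 2

noncomputable def frel (R : Type u) [CommRing R] (a b c d : R) : MvPolynomial (Fin 2) R :=
  X 0 * X 1 ^ 2 - X 0 ^ 2 * X 1 - (C a * X 0 * X 1 + C b * X 0 + C c * X 1 + C d)

lemma frel_eq (R : Type u) [CommRing R] (a b c d : R) :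
    frel R a b c d = monomial d0 1 -
      (monomial (Finsupp.single 0 2 + Finsupp.single 1 1) 1 +
        (monomial (Finsupp.single 0 1 + Finsupp.single 1 1) a + monomial (Finsupp.single 0 1) b +
          monomial (Finsupp.single 1 1) c + monomial 0 d)) := by
  have hX : ∀ i : Fin 2, (X i : MvPolynomial (Fin 2) R) = monomial (Finsupp.single i 1) 1 := fun i => rfl
  have hC : ∀ r : R, (C r : MvPolynomial (Fin 2) R) = monomial 0 r := fun r => rfl
  unfold frel d0
  simp only [X_pow_eq_monomial]
  simp only [hX, hC, monomial_mul, mul_one, zero_add]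
  ring

lemma d0_pos : (0 : Fin 2 →₀ ℕ) ≺[mo] d0 := by
  rw [mo_lt_iff]
  left
  simp [d0]

lemma degree_frel (R : Type u) [CommRing R] [Nontrivial R] (a b c d : R) :
    mo.degree (frel R a b c d) = d0 ∧ mo.leadingCoeff (frel R a b c d) = 1 := by
  classical
  rw [frel_eq]
  have hd : mo.degree (monomial d0 (1 : R)) = d0 := by
    rw [degree_monomial, if_neg one_ne_zero]
  have hlt : ∀ (e : Fin 2 →₀ ℕ) (r : R), e ≺[mo] d0 → mo.toSyn (mo.degree (monomial e r)) < mo.toSyn d0 :=
    fun e r he => lt_of_le_of_lt (degree_monomial_le r) he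
  have hg : mo.degree (monomial (Finsupp.single 0 2 + Finsupp.single 1 1) (1 : R) +
        (monomial (Finsupp.single 0 1 + Finsupp.single 1 1) a + monomial (Finsupp.single 0 1) b +
          monomial (Finsupp.single 1 1) c + monomial 0 d)) ≺[mo] mo.degree (monomial d0 (1 : R)) := by
    rw [hd]
    refine lt_of_le_of_lt degree_add_le (max_lt (hlt _ _ ?_) ?_)
    · rw [mo_lt_iff]; left; simp [d0]
    refine lt_of_le_of_lt degree_add_le (max_lt ?_ (hlt _ _ d0_pos))
    refine lt_of_le_of_lt degree_add_le (max_lt ?_ (hlt _ _ ?_))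
    · refine lt_of_le_of_lt degree_add_le (max_lt (hlt _ _ ?_) (hlt _ _ ?_))
      · rw [mo_lt_iff]; left; simp [d0]
      · rw [mo_lt_iff]; left; simp [d0]
    · rw [mo_lt_iff]; left; simp [d0]
  refine ⟨by rw [degree_sub_of_lt hg, hd], ?_⟩
  rw [leadingCoeff_sub_of_lt hg, leadingCoeff_monomial]

/-- standardness -/
def Std (c : Fin 2 →₀ ℕ) : Prop := c 0 = 0 ∨ c 1 ≤ 1

lemma std_of_not_le (c : Fin 2 →₀ ℕ) (h : ¬ d0 ≤ c) : Std c := by
  unfold Std
  by_contra hc
  push_neg at hc
  apply h
  intro i
  fin_cases i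
  · simp [d0]; omega
  · simp [d0]; omega

lemma indep_core (R : Type u) [CommRing R] [Nontrivial R] (a b c d : R) (r : MvPolynomial (Fin 2) R)
    (hr : r ∈ Ideal.span {frel R a b c d}) (hstd : ∀ e ∈ r.support, Std e) : r = 0 := by
  classical
  obtain ⟨hdeg, hlc⟩ := degree_frel R a b c d
  rw [Ideal.mem_span_singleton] at hr
  obtain ⟨g, rfl⟩ := hr
  by_contra hne
  have hg : g ≠ 0 := by
    rintro rfl
    exact hne (mul_zero _)
  have hreg : IsRegular (mo.leadingCoeff (frel R a b c d)) := by
    rw [hlc]; exact isRegular_one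
  have hdm := degree_mul_of_isRegular_left (m := mo) hreg hg
  have hmem := mo.degree_mem_support hne
  have := hstd _ hmem
  rw [hdm, hdeg] at this
  unfold Std at this
  simp [d0] at this
  omega

lemma span_core (R : Type u) [CommRing R] [Nontrivial R] (a b c d : R) (p : MvPolynomial (Fin 2) R) :
    ∃ r, p - r ∈ Ideal.span {frel R a b c d} ∧ ∀ e ∈ r.support, Std e := by
  obtain ⟨hdeg, hlc⟩ := degree_frel R a b c d
  obtain ⟨g, r, hgr, _, h2⟩ := mo.div_single (b := frel R a b c d) (by rw [hlc]; exact isUnit_one) p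
  refine ⟨r, ?_, ?_⟩
  · rw [hgr, add_sub_cancel_right, Ideal.mem_span_singleton]
    exact Dvd.intro_left _ rfl
  · intro e he
    apply std_of_not_le
    rw [← hdeg]
    exact h2 e he

noncomputable def ex : Option (ℕ ⊕ (Fin 2 × ℕ)) → (Fin 2 →₀ ℕ)
  | none => 0
  | some (Sum.inl k) => Finsupp.single 0 (k + 1) + Finsupp.single 1 1
  | some (Sum.inr (y, k)) => Finsupp.single y (k + 1)

lemma ex_std (s : Option (ℕ ⊕ (Fin 2 × ℕ))) : Std (ex s) := by
  unfold Std
  rcases s with _ | (k | ⟨y, k⟩)
  · left; rfl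
  · right; simp [ex]
  · fin_cases y
    · right; simp [ex]
    · left; simp [ex]

lemma ex_inj : Function.Injective ex := by
  intro s s' h
  have h0 := DFunLike.congr_fun h 0
  have h1 := DFunLike.congr_fun h 1
  rcases s with _ | (k | ⟨y, k⟩) <;> rcases s' with _ | (k' | ⟨y', k'⟩)
  · rfl
  · simp [ex] at h0
  · fin_cases y' <;> simp [ex] at h0 h1
  · simp [ex] at h0
  · simp [ex] at h0
    rw [h0]
  · fin_cases y' <;> simp [ex] at h0 h1
  · fin_cases y <;> simp [ex] at h0 h1
  · fin_cases y <;> simp [ex] at h0 h1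
  · fin_cases y <;> fin_cases y' <;> simp [ex] at h0 h1
    · rw [h0]
    · rw [h1]

lemma ex_surj (c : Fin 2 →₀ ℕ) (hc : Std c) : ∃ s, ex s = c := by
  unfold Std at hc
  by_cases h0 : c 0 = 0
  · by_cases h1 : c 1 = 0
    · refine ⟨none, ?_⟩
      ext i; fin_cases i <;> simp [ex, h0, h1]
    · refine ⟨some (Sum.inr (1, c 1 - 1)), ?_⟩
      ext i; fin_cases i
      · simp [ex, h0]
      · simp [ex]; omega
  · have h1 : c 1 ≤ 1 := by
      rcases hc with h | h
      · exact absurd h h0
      · exact h
    by_cases h1' : c 1 = 0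
    · refine ⟨some (Sum.inr (0, c 0 - 1)), ?_⟩
      ext i; fin_cases i
      · simp [ex]; omega
      · simp [ex, h1']
    · refine ⟨some (Sum.inl (c 0 - 1)), ?_⟩
      ext i; fin_cases i
      · simp [ex]; omega
      · simp [ex]; omega

lemma cmon3_eq (R : Type u) [CommRing R] (a b c d : R) (s : Option (ℕ ⊕ (Fin 2 × ℕ))) :
    cmon3 R a b c d s = Ideal.Quotient.mk _ (monomial (ex s) (1 : R)) := by
  rcases s with _ | (k | ⟨y, k⟩)
  · rfl
  · unfold cmon3 ex
    simp only
    congr 1
    have hX : ∀ i : Fin 2, (X i : MvPolynomial (Fin 2) R) = monomial (Finsupp.single i 1) 1 := fun i => rfl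
    rw [X_pow_eq_monomial, hX, monomial_mul, mul_one]
  · unfold cmon3 ex
    simp only
    exact congrArg _ (X_pow_eq_monomial ..)

end Aux

open MvPolynomial MonomialOrder in

/-- Case n = 3: let R be a commutative ring and a, b, c, d elements of R (a point of U_3, which is
affine 4-space, so no condition is imposed). Then in the R-algebra R[x_2, x_3]/(x_2 x_3² − x_2² x_3
− a x_2 x_3 − b x_2 − c x_3 − d) the classes of the monomials 1, x_2^k x_3, x_2^k and x_3^k (k ≥ 1)
are linearly independent over R and span, i.e. form an R-basis. -/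
theorem result (R : Type u) [CommRing R] (a b c d : R) :
    LinearIndependent R (cmon3 R a b c d) ∧
      Submodule.span R (Set.range (cmon3 R a b c d)) = ⊤ := by
  classical
  rcases subsingleton_or_nontrivial R with hR | hR
  · have : Subsingleton (CurveAlg3 R a b c d) := Module.subsingleton R _
    refine ⟨?_, Subsingleton.elim _ _⟩
    exact linearIndependent_of_subsingleton
  set I : Ideal (MvPolynomial (Fin 2) R) := Ideal.span {X 0 * X 1 ^ 2 - X 0 ^ 2 * X 1 -
    (C a * X 0 * X 1 + C b * X 0 + C c * X 1 + C d)} with hI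
  have hIf : I = Ideal.span {frel R a b c d} := rfl
  have hfun : cmon3 R a b c d = (Ideal.Quotient.mkₐ R I).toLinearMap ∘ (fun s => monomial (ex s) (1 : R)) := by
    funext s
    rw [cmon3_eq]
    rfl
  constructor
  · rw [hfun]
    have hli : LinearIndependent R (fun s => (monomial (ex s) (1 : R) : MvPolynomial (Fin 2) R)) := by
      have h := (MvPolynomial.basisMonomials (Fin 2) R).linearIndependent.comp ex ex_inj
      rw [MvPolynomial.coe_basisMonomials] at h
      exact h
    refine hli.map ?_
    rw [Submodule.disjoint_def]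
    intro x hx
    have hstd : ∀ e ∈ x.support, Std e := by
      induction hx using Submodule.span_induction with
      | mem y hy =>
        obtain ⟨s, rfl⟩ := hy
        intro e he
        have := MvPolynomial.support_monomial_subset he
        rw [Finset.mem_singleton] at this
        rw [this]
        exact ex_std s
      | zero => intro e he; simp at he
      | add y z _ _ hy hz =>
        intro e he
        rcases Finset.mem_union.mp (MvPolynomial.support_add he) with h | h
        · exact hy e h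
        · exact hz e h
      | smul r y _ hy =>
        intro e he
        exact hy e (MvPolynomial.support_smul he)
    intro hker
    apply indep_core R a b c d x _ hstd
    rw [← hIf]
    rw [LinearMap.mem_ker] at hker
    exact Ideal.Quotient.eq_zero_iff_mem.mp hker
  · rw [eq_top_iff]
    rintro y -
    obtain ⟨p, rfl⟩ := Ideal.Quotient.mk_surjective y
    obtain ⟨r, hpr, hstd⟩ := span_core R a b c d p
    have hy : Ideal.Quotient.mk I p = Ideal.Quotient.mkₐ R I r := by
      rw [Ideal.Quotient.mkₐ_eq_mk, Ideal.Quotient.eq, hIf]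
      exact hpr
    rw [hy, ← MvPolynomial.support_sum_monomial_coeff r, map_sum]
    refine Submodule.sum_mem _ ?_
    intro e he
    obtain ⟨s, hs⟩ := ex_surj e (hstd e he)
    have : (monomial e (coeff e r) : MvPolynomial (Fin 2) R) = coeff e r • monomial (ex s) (1 : R) := by
      rw [hs, smul_monomial, smul_eq_mul, mul_one]
    rw [this, map_smul]
    refine Submodule.smul_mem _ _ (Submodule.subset_span ⟨s, ?_⟩)
    rw [cmon3_eq]
    rfl

end Groth.Agent.S18251
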