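import Groth.Statements.S18247
import Mathlib

set_option autoImplicit false
universe u
open W4c5m1nsnscurves
open Curves

namespace Groth.Agent.S18247
section Aux
open MvPolynomial

noncomputable def val : UGen 2 → MvPolynomial (Fin 6) ℤ
  | .a => X 0
  | .c => (X 0 + X 1 + X 2 + X 3 + X 4 - X 5) * X 3 + X 5 * X 1 - X 1 * X 3
  | .cb => (X 0 + X 1 + X 2 + X 3 + X 4 - X 5) * X 2 + X 5 * X 4 - X 2 * X 4
  | .ci i => if i = 0 then X 1 else X 3
  | .cbi i => if i = 0 then X 2 else X 4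
  | .cij i _ _ => if i = 0 then X 5 else X 0 + X 1 + X 2 + X 3 + X 4 - X 5

noncomputable def psi : MvPolynomial (UGen 2) ℤ →ₐ[ℤ] MvPolynomial (Fin 6) ℤ := aeval val

lemma psi_rel : ∀ p ∈ URel ℤ 2, psi p = 0 := by
  intro p hp
  rcases hp with ((hp | hp) | hp) | hp
  · obtain ⟨⟨⟨i, j⟩, h⟩, rfl⟩ := hp
    fin_cases i <;> fin_cases j <;> simp at h <;> simp [psi, val] <;> ring
  · obtain ⟨⟨⟨i, j⟩, h⟩, rfl⟩ := hp
    fin_cases i <;> fin_cases j <;> simp at h <;> simp [psi, val] <;> ring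
  · obtain ⟨⟨⟨i, j⟩, h⟩, rfl⟩ := hp
    fin_cases i <;> fin_cases j <;> simp at h <;> simp [psi, val] <;> ring
  · obtain ⟨⟨⟨i, j, k⟩, h1, h2, h3⟩, rfl⟩ := hp
    exfalso
    fin_cases i <;> fin_cases j <;> fin_cases k <;> simp at h1 h2 h3

noncomputable def psi' : URing ℤ 2 →ₐ[ℤ] MvPolynomial (Fin 6) ℤ :=
  Ideal.Quotient.liftₐ (Ideal.span (URel ℤ 2)) psi (by
    intro p hp
    have : Ideal.span (URel ℤ 2) ≤ RingHom.ker psi.toRingHom := by
      rw [Ideal.span_le]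
      intro q hq
      exact psi_rel q hq
    exact this hp)

lemma psi'_ugen (g : UGen 2) : psi' (ugen ℤ 2 g) = val g := by
  unfold psi' ugen
  rw [Ideal.Quotient.liftₐ_apply, Ideal.Quotient.lift_mk]
  simp [psi]

noncomputable def phi : MvPolynomial (Fin 6) ℤ →ₐ[ℤ] URing ℤ 2 :=
  MvPolynomial.aeval (R := ℤ) (S₁ := URing ℤ 2)
      ![ugen ℤ 2 .a, ugen ℤ 2 (.ci 0), ugen ℤ 2 (.cbi 0), ugen ℤ 2 (.ci 1), ugen ℤ 2 (.cbi 1),
        ugen ℤ 2 (.cij 0 1 Fin.zero_ne_one)]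

lemma rel_zero (p : MvPolynomial (UGen 2) ℤ) (hp : p ∈ URel ℤ 2) :
    Ideal.Quotient.mk (Ideal.span (URel ℤ 2)) p = 0 :=
  Ideal.Quotient.eq_zero_iff_mem.mpr (Ideal.subset_span hp)

lemma relL : ugen ℤ 2 (.cij 0 1 Fin.zero_ne_one) + ugen ℤ 2 (.cij 1 0 (Ne.symm Fin.zero_ne_one)) =
    ugen ℤ 2 .a + ugen ℤ 2 (.ci 0) + ugen ℤ 2 (.cbi 0) + ugen ℤ 2 (.ci 1) + ugen ℤ 2 (.cbi 1) := by
  have := rel_zero _ (Or.inl (Or.inl (Or.inl ⟨⟨(0, 1), Fin.zero_ne_one⟩, rfl⟩)))
  simp only [map_sub, map_add] at this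
  unfold ugen
  linear_combination this

lemma relQ1 : ugen ℤ 2 (.cij 1 0 (Ne.symm Fin.zero_ne_one)) * ugen ℤ 2 (.ci 1) +
    ugen ℤ 2 (.cij 0 1 Fin.zero_ne_one) * ugen ℤ 2 (.ci 0) - ugen ℤ 2 (.ci 0) * ugen ℤ 2 (.ci 1) =
    ugen ℤ 2 .c := by
  have := rel_zero _ (Or.inl (Or.inl (Or.inr ⟨⟨(0, 1), Fin.zero_ne_one⟩, rfl⟩)))
  simp only [map_sub, map_add, map_mul] at this
  unfold ugen
  linear_combination this

lemma relQ2 : ugen ℤ 2 (.cij 1 0 (Ne.symm Fin.zero_ne_one)) * ugen ℤ 2 (.cbi 0) +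
    ugen ℤ 2 (.cij 0 1 Fin.zero_ne_one) * ugen ℤ 2 (.cbi 1) - ugen ℤ 2 (.cbi 0) * ugen ℤ 2 (.cbi 1) =
    ugen ℤ 2 .cb := by
  have := rel_zero _ (Or.inl (Or.inr ⟨⟨(0, 1), Fin.zero_ne_one⟩, rfl⟩))
  simp only [map_sub, map_add, map_mul] at this
  unfold ugen
  linear_combination this

lemma phi_val (g : UGen 2) : phi (val g) = ugen ℤ 2 g := by
  have hL := relL
  have hQ1 := relQ1
  have hQ2 := relQ2
  rcases g with _ | _ | _ | i | i | ⟨i, j, h⟩
  · simp [phi, val]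
  · simp only [phi, val, map_sub, map_add, map_mul, aeval_X]
    simp only [Matrix.cons_val]
    linear_combination hQ1 - (ugen ℤ 2 (.ci 1)) * hL
  · simp only [phi, val, map_sub, map_add, map_mul, aeval_X]
    simp only [Matrix.cons_val]
    linear_combination hQ2 - (ugen ℤ 2 (.cbi 0)) * hL
  · fin_cases i <;> simp [phi, val]
  · fin_cases i <;> simp [phi, val]
  · fin_cases i <;> fin_cases j <;> simp at h
    · simp [phi, val]
    · simp only [phi, val, map_sub, map_add, aeval_X]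
      simp
      linear_combination (-1 : URing ℤ 2) * hL

end Aux

open MvPolynomial in

/-- Case n = 5: the coordinate ring of U_5 over ℤ (m = 2 indices, standing for the points 4 and 5;
generators a, c, c̄, c_4, c̄_4, c_5, c̄_5, c_{45}, c_{54} with the linear and the two quadratic
relations for the one pair of indices, and no triple) is the polynomial ring on a, c_4, c̄_4, c_5,
c̄_5, c_{45}: the ℤ-algebra map from the polynomial ring in six variables sending the variables to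
these six classes, in this order, is bijective. -/
theorem result :
    Function.Bijective (MvPolynomial.aeval (R := ℤ) (S₁ := URing ℤ 2)
      ![ugen ℤ 2 .a, ugen ℤ 2 (.ci 0), ugen ℤ 2 (.cbi 0), ugen ℤ 2 (.ci 1), ugen ℤ 2 (.cbi 1),
        ugen ℤ 2 (.cij 0 1 Fin.zero_ne_one)]) := by
  classical
  have h1 : psi'.comp phi = AlgHom.id ℤ _ := by
    apply MvPolynomial.algHom_ext
    intro i
    simp only [AlgHom.comp_apply, phi, aeval_X, AlgHom.id_apply]
    fin_cases i <;> simp [psi'_ugen, val]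
  have h2 : ∀ y : URing ℤ 2, phi (psi' y) = y := by
    intro y
    obtain ⟨p, rfl⟩ := Ideal.Quotient.mk_surjective y
    have : (phi.comp psi').comp (Ideal.Quotient.mkₐ ℤ (Ideal.span (URel ℤ 2))) =
        Ideal.Quotient.mkₐ ℤ (Ideal.span (URel ℤ 2)) := by
      apply MvPolynomial.algHom_ext
      intro g
      simp only [AlgHom.comp_apply, Ideal.Quotient.mkₐ_eq_mk]
      have : Ideal.Quotient.mk (Ideal.span (URel ℤ 2)) (X g) = ugen ℤ 2 g := rfl
      rw [this, psi'_ugen, phi_val]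
    exact DFunLike.congr_fun this p
  constructor
  · intro x y hxy
    have := congrArg psi' hxy
    have e : ∀ z, psi' (phi z) = z := fun z => DFunLike.congr_fun h1 z
    change psi' (phi x) = psi' (phi y) at this
    rwa [e, e] at this
  · intro y
    exact ⟨psi' y, h2 y⟩

end Groth.Agent.S18247
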