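import Groth.Statements.S7221
import Mathlib.Tactic
-- import your own Groth.Agent.* helpers here

set_option autoImplicit false
universe u
open CategoryTheory CategoryTheory.Limits TensorProduct
attribute [local instance] HasDerivedCategory.standard
open FlatMor

namespace Groth.Agent.S7221

section square
variable {R S R' S' : Type u} [CommRing R] [CommRing S] [CommRing R']
    [CommRing S'] [Algebra R S] [Algebra R' S'] [Algebra R R'] [Algebra S S'] [Algebra R S']
    [IsScalarTower R R' S'] [IsScalarTower R S S']
    {ι : Type u} (G : Algebra.Generators R S ι) (G' : Algebra.Generators R' S' ι)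
    (h : ∀ i, G'.val i = algebraMap S S' (G.val i))

theorem toAlgHom_eq (p : MvPolynomial ι R) :
    (NLCx.sameVarsHom G G' h).toExtensionHom.toAlgHom p =
      MvPolynomial.map (algebraMap R R') p := by
  show MvPolynomial.aeval (fun i => (MvPolynomial.X i : MvPolynomial ι R')) p = _
  induction p using MvPolynomial.induction_on with
  | C a => simp [MvPolynomial.algebraMap_eq, IsScalarTower.algebraMap_apply R R' (MvPolynomial ι R')]
  | add p q hp hq => simp [hp, hq]
  | mul_X p i hp => simp [hp]

include h in
theorem aeval_map (p : MvPolynomial ι R) :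
    MvPolynomial.aeval G'.val (MvPolynomial.map (algebraMap R R') p) =
      algebraMap S S' (MvPolynomial.aeval G.val p) := by
  induction p using MvPolynomial.induction_on with
  | C a =>
    simp only [MvPolynomial.map_C, MvPolynomial.aeval_C]
    rw [← IsScalarTower.algebraMap_apply, ← IsScalarTower.algebraMap_apply]
  | add p q hp hq => simp [hp, hq]
  | mul_X p i hp => simp [hp, h]

theorem mem_ker_iff {R S : Type u} [CommRing R] [CommRing S] [Algebra R S] {ι : Type u}
    (G : Algebra.Generators R S ι) (p : G.toExtension.Ring) :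
    p ∈ G.toExtension.ker ↔ MvPolynomial.aeval G.val (show MvPolynomial ι R from p) = 0 := by
  show algebraMap G.toExtension.Ring S p = 0 ↔ _
  rw [← Algebra.Generators.algebraMap_apply]
  rfl

include h in
theorem ker_le_map [Algebra.IsPushout R R' S S'] :
    RingHom.ker (MvPolynomial.aeval (R := R') G'.val) ≤
      Ideal.map (MvPolynomial.map (σ := ι) (algebraMap R R'))
        (RingHom.ker (MvPolynomial.aeval (R := R) G.val)) := by
  obtain ⟨I, hI⟩ : ∃ I, I = RingHom.ker (MvPolynomial.aeval (R := R) G.val) := ⟨_, rfl⟩
  obtain ⟨J, hJ⟩ : ∃ J, J = Ideal.map (MvPolynomial.map (σ := ι) (algebraMap R R')) I := ⟨_, rfl⟩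
  rw [← hI, ← hJ]
  let φ : MvPolynomial ι R →ₐ[R] MvPolynomial ι R' := MvPolynomial.mapAlgHom (Algebra.ofId R R')
  have hφ : ∀ p, φ p = MvPolynomial.map (algebraMap R R') p := fun p => rfl
  let g0 : MvPolynomial ι R →ₐ[R] (MvPolynomial ι R' ⧸ J) := (Ideal.Quotient.mkₐ R J).comp φ
  have hg0 : ∀ a ∈ RingHom.ker (MvPolynomial.aeval (R := R) G.val), g0 a = 0 := by
    intro a ha
    show Ideal.Quotient.mk J (φ a) = 0
    rw [Ideal.Quotient.eq_zero_iff_mem, hJ, hφ]
    exact Ideal.mem_map_of_mem _ (hI ▸ ha)
  let gS : S →ₐ[R] (MvPolynomial ι R' ⧸ J) :=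
    (Ideal.Quotient.liftₐ _ g0 hg0).comp
      (Ideal.quotientKerAlgEquivOfSurjective G.aeval_val_surjective).symm.toAlgHom
  have hgS : ∀ p, gS (MvPolynomial.aeval G.val p) = Ideal.Quotient.mk J (φ p) := by
    intro p
    have : (Ideal.quotientKerAlgEquivOfSurjective G.aeval_val_surjective).symm
        (MvPolynomial.aeval G.val p) = Ideal.Quotient.mk _ p := by
      rw [AlgEquiv.symm_apply_eq]
      rfl
    show (Ideal.Quotient.liftₐ _ g0 hg0) ((Ideal.quotientKerAlgEquivOfSurjective
      G.aeval_val_surjective).symm (MvPolynomial.aeval G.val p)) = _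
    rw [this]
    rfl
  let gR' : R' →ₐ[R] (MvPolynomial ι R' ⧸ J) := IsScalarTower.toAlgHom R R' _
  let ψ : S' →ₐ[R] (MvPolynomial ι R' ⧸ J) :=
    Algebra.pushoutDesc S' gR' gS (fun x y => mul_comm _ _)
  have hψ : ∀ p' : MvPolynomial ι R', ψ (MvPolynomial.aeval G'.val p') = Ideal.Quotient.mk J p' := by
    intro p'
    induction p' using MvPolynomial.induction_on with
    | C a =>
      rw [MvPolynomial.aeval_C, Algebra.pushoutDesc_left]
      rfl
    | add p q hp hq => rw [map_add, map_add, hp, hq, map_add]
    | mul_X p i hp =>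
      rw [map_mul, map_mul, hp, MvPolynomial.aeval_X, h i, Algebra.pushoutDesc_right, map_mul]
      congr 1
      have := hgS (MvPolynomial.X i)
      rw [MvPolynomial.aeval_X] at this
      rw [this, hφ, MvPolynomial.map_X]
  intro p' hp'
  rw [RingHom.mem_ker] at hp'
  have := hψ p'
  rw [hp', map_zero] at this
  exact Ideal.Quotient.eq_zero_iff_mem.mp this.symm

theorem beta_bijective :
    Function.Bijective (LinearMap.liftBaseChange S' (Algebra.Extension.CotangentSpace.map
      (NLCx.sameVarsHom G G' h).toExtensionHom)) := by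
  classical
  have hb : ∀ i, Algebra.Extension.CotangentSpace.map
      (NLCx.sameVarsHom G G' h).toExtensionHom (G.cotangentSpaceBasis i) =
      G'.cotangentSpaceBasis i := by
    intro i
    apply G'.cotangentSpaceBasis.repr.injective
    ext j
    rw [Algebra.Generators.repr_CotangentSpaceMap]
    simp [NLCx.sameVarsHom, MvPolynomial.pderiv_X, Pi.single_apply, Finsupp.single_apply]
  have heq : (LinearMap.liftBaseChange S' (Algebra.Extension.CotangentSpace.map
      (NLCx.sameVarsHom G G' h).toExtensionHom)) =
      ((G.cotangentSpaceBasis.baseChange S').equiv G'.cotangentSpaceBasis (Equiv.refl ι)).toLinearMap := by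
    apply (G.cotangentSpaceBasis.baseChange S').ext
    intro i
    rw [LinearEquiv.coe_coe, Module.Basis.equiv_apply, Module.Basis.baseChange_apply,
      LinearMap.liftBaseChange_tmul, one_smul, hb i]
    rfl
  rw [heq]
  exact LinearEquiv.bijective _

include h in
theorem alpha_surjective [Algebra.IsPushout R R' S S'] :
    Function.Surjective (LinearMap.liftBaseChange S' (Algebra.Extension.Cotangent.map
      (NLCx.sameVarsHom G G' h).toExtensionHom)) := by
  obtain ⟨α, hα⟩ : ∃ α, α = (LinearMap.liftBaseChange S' (Algebra.Extension.Cotangent.map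
      (NLCx.sameVarsHom G G' h).toExtensionHom)) := ⟨_, rfl⟩
  rw [← hα]
  -- the P'-submodule of elements of I' whose class is in the range
  let T : Submodule G'.toExtension.Ring G'.toExtension.Ring :=
    Submodule.map (Submodule.subtype G'.toExtension.ker)
      (Submodule.comap (Algebra.Extension.Cotangent.mk (P := G'.toExtension))
        ((LinearMap.range α).restrictScalars G'.toExtension.Ring))
  have hT : Ideal.map (MvPolynomial.map (σ := ι) (algebraMap R R'))
      (RingHom.ker (MvPolynomial.aeval (R := R) G.val)) ≤ T := by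
    rw [Ideal.map]
    apply Ideal.span_le.mpr
    rintro _ ⟨q, hq, rfl⟩
    have hqI : (show G.toExtension.Ring from q) ∈ G.toExtension.ker := by
      rw [mem_ker_iff]; exact hq
    have hq' : (show G'.toExtension.Ring from MvPolynomial.map (algebraMap R R') q) ∈
        G'.toExtension.ker := by
      rw [mem_ker_iff]
      show MvPolynomial.aeval G'.val (MvPolynomial.map (algebraMap R R') q) = 0
      rw [aeval_map G G' h, (show MvPolynomial.aeval G.val q = 0 from hq), map_zero]
    refine ⟨⟨_, hq'⟩, ?_, rfl⟩
    show Algebra.Extension.Cotangent.mk ⟨_, hq'⟩ ∈ LinearMap.range α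
    refine ⟨(1 : S') ⊗ₜ[S] Algebra.Extension.Cotangent.mk ⟨q, hqI⟩, ?_⟩
    rw [hα, LinearMap.liftBaseChange_tmul, one_smul, Algebra.Extension.Cotangent.map_mk]
    congr 1
    apply Subtype.ext
    exact toAlgHom_eq G G' h q
  intro y
  obtain ⟨⟨p', hp'⟩, rfl⟩ := Algebra.Extension.Cotangent.mk_surjective y
  have h1 : (show MvPolynomial ι R' from p') ∈ RingHom.ker (MvPolynomial.aeval (R := R') G'.val) :=
    (mem_ker_iff G' p').mp hp'
  obtain ⟨⟨y, hy⟩, hy2, hy3⟩ := hT (ker_le_map G G' h h1)
  have : (⟨y, hy⟩ : G'.toExtension.ker) = ⟨p', hp'⟩ := Subtype.ext hy3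
  rw [this] at hy2
  exact hy2

end square



section chase
variable {R S R' S' : Type u} [CommRing R] [CommRing S] [CommRing R']
    [CommRing S'] [Algebra R S] [Algebra R' S'] [Algebra R R'] [Algebra S S'] [Algebra R S']
    [IsScalarTower R R' S'] [IsScalarTower R S S']
    {P : Algebra.Extension.{u} R S} {P' : Algebra.Extension.{u} R' S'}

theorem comm_sq (f : P.Hom P') :
    P'.cotangentComplex ∘ₗ LinearMap.liftBaseChange S' (Algebra.Extension.Cotangent.map f) =
      LinearMap.liftBaseChange S' (Algebra.Extension.CotangentSpace.map f) ∘ₗ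
        P.cotangentComplex.baseChange S' := by
  ext y
  simpa using (Algebra.Extension.CotangentSpace.map_cotangentComplex f y).symm

theorem bcH1Map_val (f : P.Hom P') (x : NLCx.bcH1 P S') :
    (NLCx.bcH1Map f x).1 = LinearMap.liftBaseChange S' (Algebra.Extension.Cotangent.map f) x.1 := rfl

theorem bcH1Map_surjective_of (f : P.Hom P')
    (hα : Function.Surjective (LinearMap.liftBaseChange S' (Algebra.Extension.Cotangent.map f)))
    (hβ : Function.Injective (LinearMap.liftBaseChange S' (Algebra.Extension.CotangentSpace.map f))) :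
    Function.Surjective (NLCx.bcH1Map f) := by
  intro y
  obtain ⟨x, hx⟩ := hα y.1
  have hxk : x ∈ NLCx.bcH1 P S' := by
    show x ∈ LinearMap.ker (P.cotangentComplex.baseChange S')
    rw [LinearMap.mem_ker]
    apply hβ
    have := congr($(comm_sq f) x)
    simp only [LinearMap.coe_comp, Function.comp_apply] at this
    rw [← this, hx, map_zero]
    exact y.2
  refine ⟨⟨x, hxk⟩, ?_⟩
  apply Subtype.ext
  rw [bcH1Map_val]
  exact hx

theorem lift_sub (f g : P.Hom P') (z : S' ⊗[S] P.Cotangent) :
    LinearMap.liftBaseChange S' (Algebra.Extension.Cotangent.map f) z =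
      LinearMap.liftBaseChange S' (Algebra.Extension.Cotangent.map g) z +
        LinearMap.liftBaseChange S' (f.sub g) (P.cotangentComplex.baseChange S' z) := by
  induction z using TensorProduct.induction_on with
  | zero => simp
  | tmul s y =>
    simp only [LinearMap.liftBaseChange_tmul, LinearMap.baseChange_tmul]
    rw [← smul_add]
    congr 1
    have := congr($(Algebra.Extension.Cotangent.map_sub_map f g) y)
    simp only [LinearMap.sub_apply, LinearMap.coe_comp, Function.comp_apply] at this
    rw [← this]
    abel
  | add a b ha hb =>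
    simp only [map_add, ha, hb]
    abel

theorem bcH1Map_eq (f g : P.Hom P') : NLCx.bcH1Map f = NLCx.bcH1Map g := by
  refine LinearMap.ext fun x => Subtype.ext ?_
  rw [bcH1Map_val, bcH1Map_val, lift_sub f g]
  have hx : (P.cotangentComplex.baseChange S') x.1 = 0 := x.2
  rw [hx, map_zero, add_zero]

theorem bcH1Map_comp {P'' : Algebra.Extension.{u} R' S'} (f : P.Hom P') (g : P'.Hom P'')
    (x : NLCx.bcH1 P S') :
    NLCx.bcH1Map (g.comp f) x = Algebra.Extension.H1Cotangent.map g (NLCx.bcH1Map f x) := by
  apply Subtype.ext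
  rw [bcH1Map_val]
  show _ = Algebra.Extension.Cotangent.map g (NLCx.bcH1Map f x).1
  rw [bcH1Map_val]
  have : LinearMap.liftBaseChange S' (Algebra.Extension.Cotangent.map (g.comp f)) =
      (Algebra.Extension.Cotangent.map g) ∘ₗ
        LinearMap.liftBaseChange S' (Algebra.Extension.Cotangent.map f) := by
    refine LinearMap.ext fun z => ?_
    induction z using TensorProduct.induction_on with
    | zero => simp
    | tmul s y =>
      simp only [LinearMap.liftBaseChange_tmul, LinearMap.coe_comp, Function.comp_apply, map_smul]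
      rw [Algebra.Extension.Cotangent.map_comp]
      rfl
    | add a b ha hb => simp only [map_add, ha, hb]
  rw [this]
  rfl

end chase

theorem aeval_algebraMap_surjective (R S R' S' : Type u) [CommRing R] [CommRing S] [CommRing R']
    [CommRing S'] [Algebra R S] [Algebra R' S'] [Algebra R R'] [Algebra S S'] [Algebra R S']
    [IsScalarTower R R' S'] [IsScalarTower R S S'] [H : Algebra.IsPushout R R' S S'] :
    Function.Surjective (MvPolynomial.aeval (R := R') (fun s : S => algebraMap S S' s)) := by
  intro x
  refine H.out.inductionOn x _ ⟨0, map_zero _⟩ ?_ ?_ ?_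
  · intro m
    exact ⟨MvPolynomial.X m, by simp⟩
  · rintro s n ⟨p, rfl⟩
    exact ⟨MvPolynomial.C s * p, by simp [Algebra.smul_def]⟩
  · rintro _ _ ⟨p, rfl⟩ ⟨q, rfl⟩
    exact ⟨p + q, map_add _ _ _⟩

/-- Let R → S and R → R' be ring homomorphisms and let S' be an algebra over R' and over S making the
square cocartesian, S' = S ⊗_R R'. Let G be a presentation of S over R by a polynomial algebra and
G' the presentation of S' over R' on the same set of variables, each variable mapping to the image
of the corresponding generator (the base change of G). Then the canonical map H^{-1}(NL(G) ⊗_S S') →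
H^{-1}(NL(G')) is surjective. The same holds for the canonical map H^{-1}(NL_{S/R} ⊗_S S') →
H^{-1}(NL_{S'/R'}) between the complexes of the presentations on all elements. (In degree 0 the
corresponding map S' ⊗_S Ω_{S/R} → Ω_{S'/R'} is bijective; that part is not restated.) -/
theorem result (R S R' S' : Type u) [CommRing R] [CommRing S] [CommRing R']
    [CommRing S'] [Algebra R S] [Algebra R' S'] [Algebra R R'] [Algebra S S'] [Algebra R S']
    [IsScalarTower R R' S'] [IsScalarTower R S S'] [Algebra.IsPushout R R' S S']
    {ι : Type u} (G : Algebra.Generators R S ι) (G' : Algebra.Generators R' S' ι)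
    (h : ∀ i, G'.val i = algebraMap S S' (G.val i)) :
    Function.Surjective (NLCx.bcH1Map (NLCx.sameVarsHom G G' h).toExtensionHom) ∧
      Function.Surjective (NLCx.bcH1Map
        ((Algebra.Generators.self R S).defaultHom (Algebra.Generators.self R' S')).toExtensionHom) := by
  have part1 : ∀ {ι : Type u} (G : Algebra.Generators R S ι) (G' : Algebra.Generators R' S' ι)
      (h : ∀ i, G'.val i = algebraMap S S' (G.val i)),
      Function.Surjective (NLCx.bcH1Map (NLCx.sameVarsHom G G' h).toExtensionHom) :=
    fun G G' h => bcH1Map_surjective_of _ (alpha_surjective G G' h) (beta_bijective G G' h).1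
  refine ⟨part1 G G' h, ?_⟩
  let G0 := Algebra.Generators.self R S
  let G1' : Algebra.Generators R' S' S :=
    Algebra.Generators.ofSurjective (fun s : S => algebraMap S S' s)
      (aeval_algebraMap_surjective R S R' S')
  have h1 : ∀ i, G1'.val i = algebraMap S S' (G0.val i) := fun i => rfl
  let s := (NLCx.sameVarsHom G0 G1' h1).toExtensionHom
  let k := (G1'.defaultHom (Algebra.Generators.self R' S')).toExtensionHom
  rw [bcH1Map_eq _ (k.comp s)]
  intro y
  obtain ⟨z, hz⟩ := (Algebra.Generators.H1Cotangent.equiv G1' (Algebra.Generators.self R' S')).surjective y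
  obtain ⟨x, hx⟩ := part1 G0 G1' h1 z
  refine ⟨x, ?_⟩
  rw [bcH1Map_comp, hx]
  exact hz

end Groth.Agent.S7221
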