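import Groth.Statements.S11269
import Groth.Agent.Lib.Helper18.Hartshorne
import Groth.Agent.Lib.Helper16.Depth

set_option autoImplicit false
universe u
open W4bk4grassmannian

namespace Groth.Agent.S11269

/-- Let R be a Noetherian integral domain. Then R satisfies Serre's condition (S_2) (depth R_P ≥ min(2,
dim R_P) for all primes P) if and only if, for every nonzero a ∈ R, every associated prime of the
R-module R/(a) has height one. -/
theorem result (R : Type u) [CommRing R] [IsDomain R]
    [IsNoetherianRing R] :
    LocCoh.HasSk 2 R R ↔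
      ∀ a : R, a ≠ 0 → ∀ P : Ideal R, P ∈ associatedPrimes R (R ⧸ Ideal.span {a}) → P.height = 1 := by
  rw [Groth.Agent.Lib.Helper18.Serre.hasSk_self_iff 2]
  -- a nonzero element is regular on every localization
  have hreg : ∀ (P : Ideal R) [P.IsPrime] (a : R), a ≠ 0 →
      IsSMulRegular (Localization.AtPrime P) (algebraMap R (Localization.AtPrime P) a) := by
    intro P _ a ha
    have hinj : Function.Injective (algebraMap R (Localization.AtPrime P)) :=
      IsLocalization.injective (Localization.AtPrime P) P.primeCompl_le_nonZeroDivisors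
    have hne : algebraMap R (Localization.AtPrime P) a ≠ 0 := by
      intro h0
      exact ha (hinj (by rw [h0, map_zero]))
    exact (IsRegular.of_ne_zero hne).left.isSMulRegular
  -- height of a prime containing a nonzero element is positive
  have hpos : ∀ (P : Ideal R) [P.IsPrime] (a : R), a ≠ 0 → a ∈ P → (1 : ℕ∞) ≤ P.height := by
    intro P _ a ha haP
    rw [Order.one_le_iff_pos, pos_iff_ne_zero]
    intro h0
    rw [Ideal.height_eq_zero_iff] at h0
    have hbot : (⊥ : Ideal R) ∈ minimalPrimes R := by
      refine ⟨⟨Ideal.isPrime_bot, bot_le⟩, fun q _ _ => bot_le⟩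
    have : P = ⊥ := by
      have := h0.2 ⟨Ideal.isPrime_bot, bot_le⟩ bot_le
      exact le_antisymm this bot_le
    rw [this] at haP
    exact ha haP
  constructor
  · intro H a ha P hP
    have hPp : P.IsPrime := hP.isPrime
    have hd := Groth.Agent.Lib.Helper18.Hartshorne.depth_localization_eq_one_of_mem_associatedPrimes_quotient
      P a (hreg P a ha) hP
    have haP : a ∈ P := by
      obtain ⟨-, y, hy⟩ := (isAssociatedPrime_iff).1 hP
      rw [hy, Submodule.mem_colon_singleton, Submodule.mem_bot]
      obtain ⟨y, rfl⟩ := Ideal.Quotient.mk_surjective y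
      change Ideal.Quotient.mk _ (a * y) = 0
      rw [Ideal.Quotient.eq_zero_iff_mem]
      exact Ideal.mul_mem_right _ _ (Ideal.mem_span_singleton_self a)
    have h1 := H P
    rw [hd] at h1
    apply le_antisymm _ (hpos P a ha haP)
    by_contra hcon
    have h2 : (2 : ℕ∞) ≤ P.height := by
      have := not_le.mp hcon
      exact Order.add_one_le_of_lt this
    have h3 : min ((2 : ℕ) : WithBot ℕ∞) (P.height : WithBot ℕ∞) = ((2 : ℕ∞) : WithBot ℕ∞) := by
      rw [min_eq_left]
      · rfl
      · have : ((2 : ℕ) : WithBot ℕ∞) = ((2 : ℕ∞) : WithBot ℕ∞) := rfl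
        rw [this]
        exact_mod_cast h2
    rw [h3] at h1
    have h4 : (2 : ℕ∞) ≤ 1 := by exact_mod_cast h1
    exact absurd h4 (by decide)
  · intro H P _
    by_cases hP0 : P = ⊥
    · subst hP0
      have : (⊥ : Ideal R).height = 0 := by
        rw [Ideal.height_eq_zero_iff]
        exact ⟨⟨Ideal.isPrime_bot, bot_le⟩, fun q _ _ => bot_le⟩
      rw [this]
      exact (min_le_right _ _).trans (by exact_mod_cast bot_le)
    · obtain ⟨a, haP, ha⟩ : ∃ a ∈ P, a ≠ 0 := by
        by_contra hcon
        push Not at hcon
        exact hP0 (eq_bot_iff.mpr fun x hx => by rw [Ideal.mem_bot]; exact hcon x hx)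
      have hr := hreg P a ha
      have ham : algebraMap R (Localization.AtPrime P) a ∈
          IsLocalRing.maximalIdeal (Localization.AtPrime P) := by
        have h3 : (IsLocalRing.maximalIdeal (Localization.AtPrime P)).under R = P :=
          Localization.AtPrime.under_maximalIdeal
        have h4 : a ∈ (IsLocalRing.maximalIdeal (Localization.AtPrime P)).under R := by
          rw [h3]; exact haP
        exact h4
      -- depth ≥ 1
      have hd1 : (1 : ℕ∞) ≤ LocCoh.depth (Localization.AtPrime P) (Localization.AtPrime P) := by
        unfold LocCoh.depth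
        have h1 := Groth.Agent.Lib.Helper16.Depth.le_idealDepth_iff
          (IsLocalRing.maximalIdeal (Localization.AtPrime P)) (Localization.AtPrime P) 1
        rw [Nat.cast_one] at h1
        rw [h1]
        right
        refine ⟨[algebraMap R (Localization.AtPrime P) a], rfl, ?_, fun s hs => by
          rw [List.mem_singleton.mp hs]; exact ham⟩
        rw [RingTheory.Sequence.isWeaklyRegular_cons_iff]
        exact ⟨hr, RingTheory.Sequence.IsWeaklyRegular.nil _ _⟩
      by_cases hd2 : (2 : ℕ∞) ≤ LocCoh.depth (Localization.AtPrime P) (Localization.AtPrime P)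
      · have h22 : ((2 : ℕ) : WithBot ℕ∞) = ((2 : ℕ∞) : WithBot ℕ∞) := rfl
        exact (min_le_left _ _).trans (h22 ▸ WithBot.coe_le_coe.mpr hd2)
      · have hd : LocCoh.depth (Localization.AtPrime P) (Localization.AtPrime P) = 1 := by
          apply le_antisymm _ hd1
          have := not_le.mp hd2
          exact Order.le_of_lt_add_one this
        have hass := Groth.Agent.Lib.Helper18.NorOpen.mem_associatedPrimes_quotient_of_depth_eq_one
          P a haP hr hd
        have hht := H a ha P hass
        rw [hd, hht]
        exact (min_le_right _ _).trans (le_of_eq rfl)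

end Groth.Agent.S11269
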