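import Groth.Statements.S0323
import Groth.Agent.Lib.Helper16.LocCohTorsion

set_option autoImplicit false
universe u v
open LocCoh

namespace Groth.Agent.S0323

section helpers

open Groth.Agent.Lib.Helper16.LC

theorem result_aux (R : Type u) [CommRing R] [IsNoetherianRing R] (I : Ideal R) (N : Type u) [AddCommGroup N] [Module R N] (hN : LocCoh.IsPowerTorsion I N) : Nonempty (LocCoh.H I 0 N ≃ₗ[R] N) ∧ ∀ p : ℕ, 0 < p → Subsingleton (LocCoh.H I p N) := by
  have hN' : ∀ m : N, m ∈ DRing.torsionSub I N := fun m => hN m
  constructor
  · have htop : DRing.torsionSub I N = ⊤ := by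
      rw [eq_top_iff]
      intro m _
      exact hN' m
    exact ⟨(H0equiv I (ModuleCat.of R N)).trans (LinearEquiv.ofTop _ htop)⟩
  · intro p hp
    obtain ⟨q, rfl⟩ : ∃ q, p = q + 1 := ⟨p - 1, by omega⟩
    exact subsingleton_H_succ_of_torsion I q N hN'

end helpers

/-- Noetherian case, torsion part: let R be a Noetherian ring, I an ideal and N an R-module every
element of which is killed by a power of I. Then the local cohomology of N with support in I is N in
degree 0 (there is an R-linear isomorphism H⁰_I(N) ≅ N) and vanishes in positive degrees. (The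
comparison between a module M and M modulo its I-power torsion is not stated; Noetherian rings
only.) -/
theorem result (R : Type u) [CommRing R] [IsNoetherianRing R] (I : Ideal R) (N : Type u) [AddCommGroup N] [Module R N] (hN : LocCoh.IsPowerTorsion I N) : Nonempty (LocCoh.H I 0 N ≃ₗ[R] N) ∧ ∀ p : ℕ, 0 < p → Subsingleton (LocCoh.H I p N) := by
  exact result_aux R I N hN

end Groth.Agent.S0323
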