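import Groth.Statements.S2116
import Groth.Agent.Lib.Helper25.RegularSmooth

set_option autoImplicit false
universe u
open CAlg

namespace Groth.Agent.S2116

open TensorProduct
/-- Let `k` be algebraically closed, `S` of finite type over `k` and `𝔪` a maximal ideal of `S`. Then
the local ring `S_𝔪` is regular if and only if `S` is smooth over `k` at `𝔪`. -/
theorem result {k S : Type u} [Field k] [IsAlgClosed k] [CommRing S] [Algebra k S]
    [Algebra.FiniteType k S] (m : Ideal S) [m.IsMaximal] :
    IsRegularLocalRing (Localization.AtPrime m) ↔ Algebra.IsSmoothAt k m := by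
  have htfae := (Groth.Agent.Lib.Helper23.SmoothField.tfae_atPrime (k₀ := k) (k := k) (C := S) m).out 0 3
  change _ ↔ Algebra.FormallySmooth k (Localization.AtPrime m)
  rw [htfae]
  constructor
  · intro h k' _ _ hfin
    have : Module.Finite k k' := hfin
    have hbij : Function.Bijective (algebraMap k k') :=
      IsAlgClosed.algebraMap_bijective_of_isIntegral
    let e : k ≃ₐ[k] k' := AlgEquiv.ofBijective (Algebra.ofId k k') hbij
    have : IsRegularRing (Localization.AtPrime m) :=
      Groth.Agent.Lib.Helper25.RegularSmooth.isRegularRing_of_isRegularLocalRing _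
    exact IsRegularRing.of_ringEquiv
      ((Algebra.TensorProduct.lid k (Localization.AtPrime m)).symm.trans
        (Algebra.TensorProduct.congr e AlgEquiv.refl)).toRingEquiv
  · intro h
    have := Groth.Agent.Lib.Helper23.RegularHom.isRegularRing_of_geomRegular _ _ h
    exact IsRegularLocalRing.of_isRegularRing_of_isLocalRing _


end Groth.Agent.S2116
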