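import Groth.Statements.S3820
import Mathlib
import Groth.Agent.Lib.Helper23.SymPow
import Groth.Agent.Lib.Helper23.SymGr
import Groth.Agent.Lib.Helper23.AdicSmoothSym
-- import your own Groth.Agent.* helpers here

set_option autoImplicit false
universe u
open scoped TensorProduct
open PP16

namespace Groth.Agent.S3820


open Groth.Agent.Lib.Helper23

section restrict

variable {B R : Type u} [CommRing B] [CommRing R] [Algebra B R] (μ : R →+* B)
  (hμ : ∀ b, μ (algebraMap B R b) = b)
  {M : Type u} [AddCommGroup M] [Module R M] [Module B M] [IsScalarTower B R M]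
  (hM : ∀ (r : R) (m : M), r • m = μ r • m)
  (ι : Type u)

/-- `B`-module structure on `Sym[R] ι M` through `B → R`. -/
@[reducible] noncomputable def modB : Module B (SymmetricPower R ι M) :=
  Module.compHom _ (algebraMap B R)

/-- `R`-module structure on `Sym[B] ι M` through `μ : R → B`. -/
@[reducible] noncomputable def modR : Module R (SymmetricPower B ι M) :=
  Module.compHom _ μ

lemma towerB : letI := modB (B := B) (R := R) (M := M) ι
    IsScalarTower B R (SymmetricPower R ι M) := by
  letI := modB (B := B) (R := R) (M := M) ι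
  refine ⟨fun b r z => ?_⟩
  change (b • r) • z = algebraMap B R b • r • z
  rw [Algebra.smul_def, mul_smul]

/-- the comparison map `Sym[B] ι M → Sym[R] ι M`. -/
noncomputable def psi : letI := modB (B := B) (R := R) (M := M) ι
    SymmetricPower B ι M →ₗ[B] SymmetricPower R ι M :=
  letI := modB (B := B) (R := R) (M := M) ι
  haveI := towerB (B := B) (R := R) (M := M) ι
  SymPow.lift ((SymmetricPower.tprod R (ι := ι) (M := M)).restrictScalars B) (by
    intro e x
    exact SymmetricPower.tprod_equiv e x)

lemma psi_tprod (x : ι → M) :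
    psi (B := B) (R := R) ι (SymmetricPower.tprod B x) = SymmetricPower.tprod R x := by
  letI := modB (B := B) (R := R) (M := M) ι
  haveI := towerB (B := B) (R := R) (M := M) ι
  unfold psi
  rw [SymPow.lift_tprod]
  rfl

include hM in
/-- the inverse comparison map. -/
noncomputable def theta [DecidableEq ι] : letI := modR (B := B) (R := R) (M := M) μ ι
    SymmetricPower R ι M →ₗ[R] SymmetricPower B ι M :=
  letI := modR (B := B) (R := R) (M := M) μ ι
  SymPow.lift
    { toFun := fun x => SymmetricPower.tprod B x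
      map_update_add' := fun {_} x i a b => by
        convert (SymmetricPower.tprod B (ι := ι) (M := M)).map_update_add x i a b
      map_update_smul' := fun {_} x i r a => by
        rw [hM]
        have := (SymmetricPower.tprod B (ι := ι) (M := M)).map_update_smul x i (μ r) a
        convert this using 1 <;> rfl }
    (by
      intro e x
      exact SymmetricPower.tprod_equiv e x)

end restrict



open Groth.Agent.Lib.Helper23

section restrict

variable {B R : Type u} [CommRing B] [CommRing R] [Algebra B R] (μ : R →+* B)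
  (hμ : ∀ b, μ (algebraMap B R b) = b)
  {M : Type u} [AddCommGroup M] [Module R M] [Module B M] [IsScalarTower B R M]
  (hM : ∀ (r : R) (m : M), r • m = μ r • m)
  (ι : Type u)

lemma theta_tprod [DecidableEq ι] (x : ι → M) :
    theta μ hM ι (SymmetricPower.tprod R x) = SymmetricPower.tprod B x := by
  letI := modR (B := B) (R := R) (M := M) μ ι
  unfold theta
  rw [SymPow.lift_tprod]
  rfl

include hμ in
lemma theta_psi [DecidableEq ι] (z : SymmetricPower B ι M) :
    theta μ hM ι (psi (B := B) (R := R) ι z) = z := by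
  letI := modB (B := B) (R := R) (M := M) ι
  letI := modR (B := B) (R := R) (M := M) μ ι
  induction z using SymPow.induction_on with
  | tprod b x =>
    rw [map_smul, psi_tprod]
    change theta μ hM ι (algebraMap B R b • SymmetricPower.tprod R x) = _
    rw [map_smul, theta_tprod]
    change μ (algebraMap B R b) • SymmetricPower.tprod B x = _
    rw [hμ]
  | add a b ha hb => rw [map_add, map_add, ha, hb]

include hμ in
lemma psi_theta [DecidableEq ι] [Nonempty ι] (z : SymmetricPower R ι M) :
    psi (B := B) (R := R) ι (theta μ hM ι z) = z := by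
  letI := modB (B := B) (R := R) (M := M) ι
  letI := modR (B := B) (R := R) (M := M) μ ι
  induction z using SymPow.induction_on with
  | tprod r x =>
    rw [map_smul, theta_tprod]
    change psi (B := B) (R := R) ι (μ r • SymmetricPower.tprod B x) = _
    rw [map_smul, psi_tprod]
    change algebraMap B R (μ r) • SymmetricPower.tprod R x = _
    have h0 : (r - algebraMap B R (μ r)) • SymmetricPower.tprod R x = 0 := by
      apply SymPow.smul_eq_zero_of_forall
      intro m
      rw [hM, map_sub, hμ, sub_self, zero_smul]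
    rw [sub_smul, sub_eq_zero] at h0
    exact h0.symm
  | add a b ha hb => rw [map_add, map_add, ha, hb]

include hμ hM in
lemma psi_bijective [Nonempty ι] : Function.Bijective (psi (B := B) (R := R) (M := M) ι) := by
  classical
  refine ⟨?_, ?_⟩
  · intro a b hab
    have := congrArg (theta μ hM ι) hab
    rwa [theta_psi μ hμ hM, theta_psi μ hμ hM] at this
  · intro z
    exact ⟨theta μ hM ι z, psi_theta μ hμ hM ι z⟩

end restrict



open Groth.Agent.Lib.Helper23

section concrete

variable (A B : Type u) [CommRing A] [CommRing B] [Algebra A B]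

/-- multiplication `B ⊗ B → B` as a ring hom. -/
noncomputable def mu : B ⊗[A] B →+* B :=
  (Algebra.TensorProduct.lmul' A : B ⊗[A] B →ₐ[A] B).toRingHom

lemma mu_alg (b : B) : mu A B (algebraMap B (B ⊗[A] B) b) = b := by
  simp [mu, Algebra.TensorProduct.algebraMap_apply]

lemma mem_ideal_iff (r : B ⊗[A] B) : r ∈ KaehlerDifferential.ideal A B ↔ mu A B r = 0 := Iff.rfl

lemma sub_mem (r : B ⊗[A] B) :
    r - algebraMap B (B ⊗[A] B) (mu A B r) ∈ KaehlerDifferential.ideal A B := by
  rw [mem_ideal_iff, map_sub, mu_alg, sub_self]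

lemma smul_eq (r : B ⊗[A] B) (m : Ω[B⁄A]) : r • m = mu A B r • m := by
  have h := Ideal.Cotangent.smul_eq_zero_of_mem (sub_mem A B r)
    (show (KaehlerDifferential.ideal A B).Cotangent from m)
  rw [sub_smul, sub_eq_zero] at h
  rw [← algebraMap_smul (B ⊗[A] B) (mu A B r) m]
  exact h

/-- `B ≃ (B ⊗ B)/I` as `B`-algebras. -/
noncomputable def quotEquiv : B ≃ₐ[B] (B ⊗[A] B) ⧸ KaehlerDifferential.ideal A B :=
  AlgEquiv.ofBijective (Algebra.ofId B ((B ⊗[A] B) ⧸ KaehlerDifferential.ideal A B)) (by
    refine ⟨?_, ?_⟩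
    · rw [injective_iff_map_eq_zero]
      intro b hb
      have h1 : Ideal.Quotient.mk (KaehlerDifferential.ideal A B) (algebraMap B (B ⊗[A] B) b) = 0 := hb
      rw [Ideal.Quotient.eq_zero_iff_mem, mem_ideal_iff, mu_alg] at h1
      exact h1
    · intro x
      obtain ⟨r, rfl⟩ := Ideal.Quotient.mk_surjective x
      refine ⟨mu A B r, ?_⟩
      change Ideal.Quotient.mk (KaehlerDifferential.ideal A B) (algebraMap B (B ⊗[A] B) (mu A B r)) = _
      rw [eq_comm, Ideal.Quotient.eq]
      exact sub_mem A B r)

instance formallySmooth_quot : Algebra.FormallySmooth B ((B ⊗[A] B) ⧸ KaehlerDifferential.ideal A B) :=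
  Algebra.FormallySmooth.of_equiv (quotEquiv A B)

lemma adic [Algebra.FormallySmooth A B] :
    CAlgX.IsAdicFormallySmooth B (B ⊗[A] B) (KaehlerDifferential.ideal A B) := by
  intro T _ _ J hJ ψ _
  obtain ⟨χ, hχ⟩ := Algebra.FormallySmooth.comp_surjective B (B ⊗[A] B) J hJ ψ
  exact ⟨χ, hχ⟩

lemma can_bijective [Algebra.FormallySmooth A B] (ι : Type u) [Fintype ι] [Nonempty ι] :
    Function.Bijective (SymGr.can (B ⊗[A] B) (KaehlerDifferential.ideal A B) ι) :=
  ⟨AdicSmoothSym.can_injective_of_smooth (A := B) _ (adic A B) ι, SymGr.can_surjective _ _ ι⟩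

end concrete



open Groth.Agent.Lib.Helper23

section gr

variable (A B : Type u) [CommRing A] [CommRing B] [Algebra A B] (n : ℕ)

/-- `I^n` as `B`-submodule vs `R`-submodule. -/
noncomputable def e0 : ↥((KaehlerDifferential.ideal A B ^ n).restrictScalars B) ≃ₗ[B]
    ↥(KaehlerDifferential.ideal A B ^ n) where
  toFun x := ⟨x.1, x.2⟩
  invFun x := ⟨x.1, x.2⟩
  map_add' _ _ := rfl
  map_smul' _ _ := rfl
  left_inv _ := rfl
  right_inv _ := rfl

/-- `grI ≃ grJ` as `B`-modules. -/
noncomputable def gEquiv : grI A B n ≃ₗ[B] grJ (B ⊗[A] B) (KaehlerDifferential.ideal A B) n :=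
  (Submodule.Quotient.equiv _
    ((Submodule.comap (KaehlerDifferential.ideal A B ^ n).subtype
      (KaehlerDifferential.ideal A B ^ (n + 1))).restrictScalars B) (e0 A B n) (by
      ext x
      constructor
      · rintro ⟨y, hy, rfl⟩
        exact hy
      · intro hx
        exact ⟨(e0 A B n).symm x, hx, by simp⟩)).trans
  (Submodule.Quotient.restrictScalarsEquiv B _)

lemma gEquiv_mk (y : B ⊗[A] B) (hy : y ∈ KaehlerDifferential.ideal A B ^ n) :
    gEquiv A B n (Submodule.Quotient.mk ⟨y, hy⟩) = Submodule.Quotient.mk ⟨y, hy⟩ := rfl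

end gr



open Groth.Agent.Lib.Helper23

section main

variable (A B : Type u) [CommRing A] [CommRing B] [Algebra A B]

lemma exists_phi_nonempty [Algebra.FormallySmooth A B] (ι : Type u) [Fintype ι] [Nonempty ι] :
    ∃ φ : SymmetricPower B ι (KaehlerDifferential A B) →ₗ[B] grI A B (Fintype.card ι),
      (∀ b : ι → B, φ (SymmetricPower.tprod B (fun i => KaehlerDifferential.D A B (b i))) = zetaProd A B b) ∧
        Function.Bijective φ := by
  letI := modB (B := B) (R := B ⊗[A] B) (M := Ω[B⁄A]) ι
  haveI := towerB (B := B) (R := B ⊗[A] B) (M := Ω[B⁄A]) ι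
  let c : SymmetricPower (B ⊗[A] B) ι Ω[B⁄A] →ₗ[B ⊗[A] B]
      grJ (B ⊗[A] B) (KaehlerDifferential.ideal A B) (Fintype.card ι) :=
    SymGr.can (B ⊗[A] B) (KaehlerDifferential.ideal A B) ι
  have hc : Function.Bijective c := can_bijective A B ι
  refine ⟨(gEquiv A B (Fintype.card ι)).symm.toLinearMap ∘ₗ (c.restrictScalars B) ∘ₗ
    psi (B := B) (R := B ⊗[A] B) (M := Ω[B⁄A]) ι, ?_, ?_⟩
  · intro b
    simp only [LinearMap.coe_comp, LinearEquiv.coe_coe, Function.comp_apply, LinearMap.coe_restrictScalars]
    rw [psi_tprod, LinearEquiv.symm_apply_eq]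
    have := SymGr.can_tprod (B ⊗[A] B) (KaehlerDifferential.ideal A B) ι
      (fun i => ⟨(1 : B) ⊗ₜ[A] b i - b i ⊗ₜ[A] (1 : B),
        KaehlerDifferential.one_smul_sub_smul_one_mem_ideal A (b i)⟩)
    exact this
  · simp only [LinearMap.coe_comp, LinearEquiv.coe_coe, LinearMap.coe_restrictScalars]
    exact (gEquiv A B (Fintype.card ι)).symm.bijective.comp
      (hc.comp (psi_bijective (mu A B) (mu_alg A B) (smul_eq A B) ι))

end main



open Groth.Agent.Lib.Helper23

section main

variable (A B : Type u) [CommRing A] [CommRing B] [Algebra A B]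

lemma zetaProd_empty (ι : Type u) [Fintype ι] [IsEmpty ι] (b : ι → B) (c : B) :
    c • zetaProd A B b = (Submodule.Quotient.mk
      ⟨algebraMap B (B ⊗[A] B) c, by simp [Fintype.card_eq_zero]⟩ : grI A B (Fintype.card ι)) := by
  unfold zetaProd
  rw [← Submodule.Quotient.mk_smul]
  congr 1
  apply Subtype.ext
  simp [Algebra.smul_def]

lemma mk_eq_zero_iff (n : ℕ) (y : B ⊗[A] B) (hy : y ∈ KaehlerDifferential.ideal A B ^ n) :
    (Submodule.Quotient.mk ⟨y, hy⟩ : grI A B n) = 0 ↔ y ∈ KaehlerDifferential.ideal A B ^ (n + 1) := by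
  rw [Submodule.Quotient.mk_eq_zero]
  rfl

lemma exists_phi_empty (ι : Type u) [Fintype ι] [IsEmpty ι] :
    ∃ φ : SymmetricPower B ι (KaehlerDifferential A B) →ₗ[B] grI A B (Fintype.card ι),
      (∀ b : ι → B, φ (SymmetricPower.tprod B (fun i => KaehlerDifferential.D A B (b i))) = zetaProd A B b) ∧
        Function.Bijective φ := by
  have hcard : Fintype.card ι = 0 := Fintype.card_eq_zero
  let b0 : ι → B := isEmptyElim
  let t0 : SymmetricPower B ι (KaehlerDifferential A B) := SymmetricPower.tprod B isEmptyElim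
  have ht0 : ∀ x : ι → KaehlerDifferential A B, SymmetricPower.tprod B x = t0 := by
    intro x
    congr 1
    exact Subsingleton.elim _ _
  have hspan : ∀ z : SymmetricPower B ι (KaehlerDifferential A B), ∃ c : B, z = c • t0 := by
    intro z
    induction z using SymPow.induction_on with
    | tprod r x => exact ⟨r, by rw [ht0]⟩
    | add a b ha hb =>
      obtain ⟨c, rfl⟩ := ha
      obtain ⟨d, rfl⟩ := hb
      exact ⟨c + d, (add_smul _ _ _).symm⟩
  let φ : SymmetricPower B ι (KaehlerDifferential A B) →ₗ[B] grI A B (Fintype.card ι) :=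
    SymPow.lift (MultilinearMap.constOfIsEmpty B _ (zetaProd A B b0)) (by
      intro e x
      rfl)
  have hφ : φ t0 = zetaProd A B b0 := by
    change φ (SymmetricPower.tprod B isEmptyElim) = _
    rw [SymPow.lift_tprod]
    rfl
  refine ⟨φ, ?_, ?_, ?_⟩
  · intro b
    rw [ht0, hφ]
    congr 1
    exact Subsingleton.elim _ _
  · rw [injective_iff_map_eq_zero]
    intro z hz
    obtain ⟨c, rfl⟩ := hspan z
    rw [map_smul, hφ, zetaProd_empty, mk_eq_zero_iff, hcard, zero_add, pow_one, mem_ideal_iff, mu_alg] at hz
    rw [hz, zero_smul]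
  · intro y
    obtain ⟨⟨y, hy⟩, rfl⟩ := Submodule.Quotient.mk_surjective _ y
    refine ⟨mu A B y • t0, ?_⟩
    rw [map_smul, hφ, zetaProd_empty, eq_comm, ← sub_eq_zero, ← Submodule.Quotient.mk_sub,
      Submodule.Quotient.mk_eq_zero]
    change y - algebraMap B (B ⊗[A] B) (mu A B y) ∈ KaehlerDifferential.ideal A B ^ (Fintype.card ι + 1)
    rw [hcard, zero_add, pow_one]
    exact sub_mem A B y

end main


/-- Let B be an A-algebra which is formally smooth (for the discrete topologies). Then Spec B is
differentially smooth over Spec A: the module of differentials is projective and the canonical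
surjections Sym^n(Ω_{B/A}) → I^n/I^(n+1) are bijective for all n. -/
theorem result (A B : Type u) [CommRing A] [CommRing B] [Algebra A B]
    [Algebra.FormallySmooth A B] : PP16.IsDiffSmooth A B := by
  refine ⟨inferInstance, ?_⟩
  intro ι _
  rcases isEmpty_or_nonempty ι with h | h
  · exact exists_phi_empty A B ι
  · exact exists_phi_nonempty A B ι

end Groth.Agent.S3820
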