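import Groth.Statements.S4801
import Mathlib
import Groth.Agent.Lib.Helper9.GenExact

set_option autoImplicit false
universe u
open TensorProduct
open Cons9

namespace Groth.Agent.S4801

open Groth.Agent.Lib.Helper9.GenExact
open Groth.Agent.Lib.Helper25.GFMod

/-- moving a power of `f` across the tensor sign -/
lemma tmul_eq_inv_pow_tmul {R : Type*} [CommRing R] (f : R) (κ : Type*) [Field κ] [Algebra R κ]
    (hf : algebraMap R κ f ≠ 0) {X : Type*} [AddCommGroup X] [Module R X] (c : κ) (x : X) (m : ℕ) :
    c ⊗ₜ[R] x = (c * ((algebraMap R κ f) ^ m)⁻¹) ⊗ₜ[R] (f ^ m • x) := by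
  rw [← TensorProduct.smul_tmul, Algebra.smul_def, map_pow, mul_comm _ (c * _), mul_assoc,
    inv_mul_cancel₀ (pow_ne_zero _ hf), mul_one]


/-- Let R be an integral domain with fraction field K, B an R-algebra of finite presentation, F, G, H
three B-modules of finite presentation and u : F → G, v : G → H homomorphisms of B-modules such that
the generic fibre sequence K ⊗_R F → K ⊗_R G → K ⊗_R H is exact. Then there is a nonzero f ∈ R such
that, for every prime ideal p of R with f ∉ p, the fibre sequence κ(p) ⊗_R F → κ(p) ⊗_R G → κ(p) ⊗_R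
H is exact. Affine form: S = Spec R, X = Spec B with B a finitely presented R-algebra, the modules
finitely presented B-modules, and the fibre of a module M at a prime p taken as κ(p) ⊗_R M; the
published statement, for a morphism of finite presentation and quasi-coherent modules of finite
presentation, is local on S and on X and reduces to this one. -/
theorem result {R B : Type u} [CommRing R] [IsDomain R]
    [CommRing B] [Algebra R B] [Algebra.FinitePresentation R B]
    {F G H : Type u} [AddCommGroup F] [Module B F] [Module R F] [IsScalarTower R B F] [Module.FinitePresentation B F]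
    [AddCommGroup G] [Module B G] [Module R G] [IsScalarTower R B G] [Module.FinitePresentation B G]
    [AddCommGroup H] [Module B H] [Module R H] [IsScalarTower R B H] [Module.FinitePresentation B H]
    (u : F →ₗ[B] G) (v : G →ₗ[B] H)
    (hgen : Function.Exact ((u.restrictScalars R).baseChange (FractionRing R)) ((v.restrictScalars R).baseChange (FractionRing R))) :
    ∃ f : R, f ≠ 0 ∧ ∀ p : PrimeSpectrum R, f ∉ p.asIdeal →
      Function.Exact ((u.restrictScalars R).baseChange p.asIdeal.ResidueField) ((v.restrictScalars R).baseChange p.asIdeal.ResidueField) := by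
  have hft : Algebra.FiniteType R B := inferInstance
  obtain ⟨g1, -, hg1, hGF1⟩ := exists_GF R B (G ⧸ LinearMap.range u) 1 one_ne_zero
  obtain ⟨g2, hd2, hg2, hGF2⟩ := exists_GF R B (H ⧸ LinearMap.range v) g1 hg1
  obtain ⟨f, hd3, hf, hGF3⟩ := exists_GF R B H g2 hg2
  have hfreeCu := (hGF1 f (hd2.trans hd3)).1
  have hfreeCv := (hGF2 f hd3).1
  have hfreeH := (hGF3 f dvd_rfl).1
  set uR := u.restrictScalars R with huR
  set vR := v.restrictScalars R with hvR
  -- Fact E
  have hE : ∀ x : F, ∃ m : ℕ, f ^ m • v (u x) = 0 := by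
    intro x
    have h0 := hgen.apply_apply_eq_zero ((1 : FractionRing R) ⊗ₜ[R] x)
    rw [LinearMap.baseChange_tmul, LinearMap.baseChange_tmul] at h0
    obtain ⟨s, hs, hs0⟩ := exists_smul_eq_zero_of_tmul_eq_zero _ h0
    exact exists_pow_smul_eq_zero f hf _ s hs hs0
  -- Fact D
  have hD : ∀ y : G, v y = 0 → ∃ (m : ℕ) (x : F), f ^ m • y = u x := by
    intro y hy
    have h0 : (vR.baseChange (FractionRing R)) ((1 : FractionRing R) ⊗ₜ[R] y) = 0 := by
      rw [LinearMap.baseChange_tmul]
      change (1 : FractionRing R) ⊗ₜ[R] v y = 0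
      rw [hy, tmul_zero]
    obtain ⟨z, hz⟩ := (hgen _).mp h0
    obtain ⟨s, x₀, hs, hsz⟩ := exists_smul_eq_tmul z
    have h1 : (1 : FractionRing R) ⊗ₜ[R] (s • y - u x₀) = 0 := by
      rw [tmul_sub, tmul_smul, ← hz, ← LinearMap.map_smul_of_tower, hsz, LinearMap.baseChange_tmul]
      exact sub_self _
    obtain ⟨s', hs', hs'0⟩ := exists_smul_eq_zero_of_tmul_eq_zero _ h1
    have h2 : (s' * s) • (Submodule.Quotient.mk y : G ⧸ LinearMap.range u) = 0 := by
      rw [← Submodule.Quotient.mk_smul, Submodule.Quotient.mk_eq_zero]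
      refine ⟨s' • x₀, ?_⟩
      rw [smul_sub, sub_eq_zero] at hs'0
      rw [mul_smul, hs'0]
      exact (uR.map_smul s' x₀)
    obtain ⟨m, hm⟩ := exists_pow_smul_eq_zero f hf _ (s' * s) (mul_ne_zero hs' hs) h2
    rw [← Submodule.Quotient.mk_smul, Submodule.Quotient.mk_eq_zero] at hm
    obtain ⟨x, hx⟩ := hm
    exact ⟨m, x, hx.symm⟩
  refine ⟨f, hf, fun p hp => ?_⟩
  set κ := p.asIdeal.ResidueField with hκ
  have hfκ : algebraMap R κ f ≠ 0 := by
    rw [Ne, Ideal.algebraMap_residueField_eq_zero]
    exact hp
  -- injectivity of κ ⊗ range v → κ ⊗ H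
  have hinj : Function.Injective (LinearMap.lTensor κ (LinearMap.range vR).subtype) := by
    set S := Submonoid.powers f
    let g₁ : LinearMap.range vR →ₗ[R] H := (LinearMap.range vR).subtype
    let g₂ : H →ₗ[R] (H ⧸ LinearMap.range v) := (LinearMap.range v).mkQ.restrictScalars R
    have hex : Function.Exact g₁ g₂ := by
      intro h
      change (Submodule.Quotient.mk h : H ⧸ LinearMap.range v) = 0 ↔ _
      rw [Submodule.Quotient.mk_eq_zero]
      constructor
      · rintro ⟨y, rfl⟩; exact ⟨⟨v y, ⟨y, rfl⟩⟩, rfl⟩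
      · rintro ⟨⟨_, ⟨y, rfl⟩⟩, rfl⟩; exact ⟨y, rfl⟩
    have hflat : Module.Flat R (LocalizedModule S (H ⧸ LinearMap.range v)) := by
      have : Module.Flat (Localization.Away f) (LocalizedModule S (H ⧸ LinearMap.range v)) :=
        inferInstance
      exact Module.Flat.trans R (Localization.Away f) _
    let G₁ : LocalizedModule S (LinearMap.range vR) →ₗ[R] LocalizedModule S H :=
      (LocalizedModule.map S g₁).restrictScalars R
    let G₂ : LocalizedModule S H →ₗ[R] LocalizedModule S (H ⧸ LinearMap.range v) :=
      (LocalizedModule.map S g₂).restrictScalars R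
    have hg₂s : Function.Surjective g₂ := fun c => by
      obtain ⟨h, rfl⟩ := Submodule.Quotient.mk_surjective _ c
      exact ⟨h, rfl⟩
    have hG₁i : Function.Injective G₁ := LocalizedModule.map_injective S g₁ Subtype.val_injective
    have hG₂s : Function.Surjective G₂ := LocalizedModule.map_surjective S g₂ hg₂s
    have hGex : Function.Exact G₁ G₂ := LocalizedModule.map_exact S g₁ g₂ hex
    have hB : Function.Injective (LinearMap.lTensor κ G₁) :=
      lTensor_injective_of_flat_coker G₁ G₂ hG₁i hGex hG₂s κ
    have hA := lTensor_mkLinearMap_injective f κ hfκ (LinearMap.range vR)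
    have hcomm : (LinearMap.lTensor κ (LocalizedModule.mkLinearMap S H)).comp
        (LinearMap.lTensor κ g₁) = (LinearMap.lTensor κ G₁).comp
        (LinearMap.lTensor κ (LocalizedModule.mkLinearMap S (LinearMap.range vR))) := by
      rw [← LinearMap.lTensor_comp, ← LinearMap.lTensor_comp]
      congr 1
      ext y
      simp [G₁, LocalizedModule.map_mk]
    have : Function.Injective ((LinearMap.lTensor κ (LocalizedModule.mkLinearMap S H)).comp
        (LinearMap.lTensor κ g₁)) := by
      rw [hcomm]; exact hB.comp hA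
    exact Function.Injective.of_comp this
  have hC := (exact_iff_injective κ vR).mpr hinj
  -- main exactness
  have hmain : Function.Exact (LinearMap.lTensor κ uR) (LinearMap.lTensor κ vR) := by
    intro z
    constructor
    · intro hz
      obtain ⟨w, rfl⟩ := (hC z).mp hz
      induction w using TensorProduct.induction_on with
      | zero => exact ⟨0, by simp⟩
      | add a b ha hb =>
        have ha' := ha ((hC _).mpr ⟨a, rfl⟩)
        have hb' := hb ((hC _).mpr ⟨b, rfl⟩)
        obtain ⟨a', ha'⟩ := ha'
        obtain ⟨b', hb'⟩ := hb'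
        exact ⟨a' + b', by rw [map_add, map_add, ha', hb']⟩
      | tmul c y =>
        obtain ⟨m, x, hx⟩ := hD (y : G) y.2
        refine ⟨(c * ((algebraMap R κ f) ^ m)⁻¹) ⊗ₜ[R] x, ?_⟩
        rw [LinearMap.lTensor_tmul, LinearMap.lTensor_tmul]
        change _ ⊗ₜ[R] u x = c ⊗ₜ[R] (y : G)
        rw [← hx]
        exact (tmul_eq_inv_pow_tmul f κ hfκ c (y : G) m).symm
    · rintro ⟨w, rfl⟩
      induction w using TensorProduct.induction_on with
      | zero => simp
      | add a b ha hb => rw [map_add, map_add, ha, hb, add_zero]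
      | tmul c x =>
        obtain ⟨m, hm⟩ := hE x
        rw [LinearMap.lTensor_tmul, LinearMap.lTensor_tmul]
        change c ⊗ₜ[R] v (u x) = 0
        rw [tmul_eq_inv_pow_tmul f κ hfκ c (v (u x)) m, hm, tmul_zero]
  intro z
  have := hmain z
  rw [LinearMap.baseChange_eq_ltensor, LinearMap.baseChange_eq_ltensor]
  exact this

end Groth.Agent.S4801
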