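import Groth.Statements.S2173
-- import your own Groth.Agent.* helpers here

set_option autoImplicit false
open Finset
open Models Models.NumericalType

namespace Groth.Agent.S2173

/-- For a numerical type the sum over i of m i * a i i is even; equivalently the rational number 1 + sum
m_i (w_i (g_i - 1) - a_ii / 2) defining the genus is an integer. -/
theorem result {n : ℕ} (T : Models.NumericalType n) : (2 : ℤ) ∣ ∑ i, T.m i * T.a i i := by
  classical
  have hrow : ∀ i : Fin n, ∑ k, T.a i k * T.m k = 0 := by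
    intro i
    have := congrFun T.mulVec_m i
    simpa [Matrix.mulVec, dotProduct] using this
  have hquad : ∑ i, ∑ j, T.m i * T.a i j * T.m j = 0 := by
    apply Finset.sum_eq_zero
    intro i _
    have : ∑ j, T.m i * T.a i j * T.m j = T.m i * ∑ j, T.a i j * T.m j := by
      rw [Finset.mul_sum]
      apply Finset.sum_congr rfl
      intro j _
      ring
    rw [this, hrow, mul_zero]
  have hgoal : ((∑ i, T.m i * T.a i i : ℤ) : ZMod 2) = 0 → (2 : ℤ) ∣ ∑ i, T.m i * T.a i i := by
    intro h
    have := (ZMod.intCast_zmod_eq_zero_iff_dvd (∑ i, T.m i * T.a i i) 2).mp h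
    exact_mod_cast this
  apply hgoal
  push_cast
  have hq2 : ∑ i, ∑ j, (T.m i : ZMod 2) * (T.a i j : ZMod 2) * (T.m j : ZMod 2) = 0 := by
    have := congrArg (Int.cast : ℤ → ZMod 2) hquad
    push_cast at this
    exact this
  rw [← Finset.sum_product', ← Finset.diag_union_offDiag,
    Finset.sum_union (Finset.disjoint_diag_offDiag _), Finset.sum_diag] at hq2
  have hoff : ∑ p ∈ (Finset.univ : Finset (Fin n)).offDiag,
      (T.m p.1 : ZMod 2) * (T.a p.1 p.2 : ZMod 2) * (T.m p.2 : ZMod 2) = 0 := by
    refine Finset.sum_involution (fun p _ => p.swap) ?_ ?_ ?_ ?_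
    · intro p _
      have hs : T.a p.2 p.1 = T.a p.1 p.2 := congrFun (congrFun T.symm p.1) p.2
      simp only [Prod.fst_swap, Prod.snd_swap, hs]
      have : (T.m p.2 : ZMod 2) * (T.a p.1 p.2 : ZMod 2) * (T.m p.1 : ZMod 2)
          = (T.m p.1 : ZMod 2) * (T.a p.1 p.2 : ZMod 2) * (T.m p.2 : ZMod 2) := by ring
      rw [this]
      exact CharTwo.add_self_eq_zero _
    · intro p hp _ h
      rw [Finset.mem_offDiag] at hp
      apply hp.2.2
      have := congrArg Prod.fst h
      simpa using this.symm
    · intro p hp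
      rw [Finset.mem_offDiag] at hp ⊢
      exact ⟨Finset.mem_univ _, Finset.mem_univ _, fun h => hp.2.2 h.symm⟩
    · intro p _
      exact Prod.swap_swap p
  rw [hoff, add_zero] at hq2
  have hsq : ∀ x : ZMod 2, x * x = x := by decide
  rw [← hq2]
  apply Finset.sum_congr rfl
  intro i _
  calc (T.m i : ZMod 2) * (T.a i i : ZMod 2)
      = ((T.m i : ZMod 2) * (T.m i : ZMod 2)) * (T.a i i : ZMod 2) := by rw [hsq]
    _ = (T.m i : ZMod 2) * (T.a i i : ZMod 2) * (T.m i : ZMod 2) := by ring

end Groth.Agent.S2173
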