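import Groth.Statements.S2174
-- import your own Groth.Agent.* helpers here

set_option autoImplicit false
open Finset
open Models Models.NumericalType

namespace Groth.Agent.S2174

/-- If a numerical type has n > 1 indices then every diagonal entry a i i of its matrix is negative. -/
theorem result {n : ℕ} (T : Models.NumericalType n) (hn : 1 < n) (i : Fin n) : T.a i i < 0 := by
  classical
  have hrow : ∑ j, T.a i j * T.m j = 0 := by
    have := congrFun T.mulVec_m i
    simpa [Matrix.mulVec, dotProduct] using this
  obtain ⟨i', hi', j, hj, hij⟩ := T.connected {i} (Finset.singleton_nonempty i) (by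
    intro h
    have hcard : (Finset.univ : Finset (Fin n)).card = 1 := by rw [← h]; simp
    rw [Finset.card_univ, Fintype.card_fin] at hcard
    omega)
  rw [Finset.mem_singleton] at hi'
  subst hi'
  have hji : j ≠ i' := by
    intro h; apply hj; rw [h]; exact Finset.mem_singleton_self _
  have hpos : 0 < T.a i' j := lt_of_le_of_ne (T.offDiag_nonneg i' j (Ne.symm hji)) (Ne.symm hij)
  rw [← Finset.add_sum_erase _ _ (Finset.mem_univ i')] at hrow
  have hrest : 0 < ∑ x ∈ Finset.univ.erase i', T.a i' x * T.m x := by
    apply Finset.sum_pos'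
    · intro k hk
      have hk' : k ≠ i' := (Finset.mem_erase.mp hk).1
      exact mul_nonneg (T.offDiag_nonneg i' k (Ne.symm hk')) (T.m_pos k).le
    · exact ⟨j, Finset.mem_erase.mpr ⟨hji, Finset.mem_univ _⟩, mul_pos hpos (T.m_pos j)⟩
  have h1 : T.a i' i' * T.m i' < 0 := by linarith
  have hm := T.m_pos i'
  by_contra hcon
  push Not at hcon
  have : 0 ≤ T.a i' i' * T.m i' := mul_nonneg hcon hm.le
  linarith

end Groth.Agent.S2174
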