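import Groth.Statements.S2176
import Groth.Agent.S2174
-- import your own Groth.Agent.* helpers here

set_option autoImplicit false
open Finset
open Models Models.NumericalType

namespace Groth.Agent.S2176

theorem term_nonneg {n : ℕ} (T : Models.NumericalType n) (hmin : T.IsMinimal) (hn : 1 < n)
    (i : Fin n) : 0 ≤ T.m i * (2 * (T.w i * (T.g i - 1)) - T.a i i) := by
  have hneg : T.a i i < 0 := Groth.Agent.S2174.result T hn i
  have hw := T.w_pos i
  have hg := T.g_nonneg i
  apply mul_nonneg (T.m_pos i).le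
  obtain ⟨k, hk⟩ := T.w_dvd i i
  have hk1 : k ≤ -1 := by
    by_contra hcon
    push Not at hcon
    have : 0 ≤ T.w i * k := mul_nonneg hw.le (by omega)
    omega
  rcases (lt_or_eq_of_le hg) with hg1 | hg0
  · have : 0 ≤ T.w i * (T.g i - 1) := mul_nonneg hw.le (by omega)
    omega
  · have hk2 : k ≠ -1 := by
      intro h
      apply hmin i
      refine ⟨hg0.symm, ?_⟩
      rw [hk, h]; ring
    have hk3 : k ≤ -2 := by omega
    rw [← hg0, hk]
    have : T.w i * k ≤ T.w i * (-2) := mul_le_mul_of_nonneg_left hk3 hw.le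
    nlinarith

/-- A minimal numerical type (no (-1)-index) with n > 1 indices has genus at least 1. -/
theorem result {n : ℕ} (T : Models.NumericalType n) (hmin : T.IsMinimal) (hn : 1 < n) : 1 ≤ T.genus := by
  have hsum : 0 ≤ ∑ i, T.m i * (2 * (T.w i * (T.g i - 1)) - T.a i i) :=
    Finset.sum_nonneg fun i _ => term_nonneg T hmin hn i
  have hsplit : ∑ i, T.m i * (2 * (T.w i * (T.g i - 1)) - T.a i i)
      = 2 * (∑ i, T.m i * T.w i * (T.g i - 1)) - ∑ i, T.m i * T.a i i := by
    rw [Finset.mul_sum, ← Finset.sum_sub_distrib]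
    apply Finset.sum_congr rfl
    intro i _
    ring
  rw [hsplit] at hsum
  unfold Models.NumericalType.genus
  omega

end Groth.Agent.S2176
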