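import Groth.Statements.S2178
import Mathlib

set_option autoImplicit false
open Finset
open Models Models.NumericalType

namespace Groth.Agent.S2178
open Finset

/-- The Picard group of a numerical type (the cokernel of the matrix (a i j / w i) acting on Z^n) has
free rank one: its rank as a Z-module is 1. -/
theorem result {n : ℕ} (T : Models.NumericalType n) : Module.finrank ℤ T.Pic = 1 := by
  classical
  set f := Matrix.mulVecLin T.picMatrix with hf
  -- kernel characterization
  have hker : ∀ x : Fin n → ℤ, x ∈ LinearMap.ker f ↔ T.a.mulVec x = 0 := by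
    intro x
    rw [LinearMap.mem_ker, hf, Matrix.mulVecLin_apply]
    constructor
    · intro h
      funext i
      have hi := congrFun h i
      simp only [Matrix.mulVec, dotProduct, Pi.zero_apply] at hi ⊢
      have : ∑ j, T.a i j * x j = T.w i * ∑ j, T.picMatrix i j * x j := by
        rw [Finset.mul_sum]
        refine Finset.sum_congr rfl fun j _ => ?_
        unfold Models.NumericalType.picMatrix
        rw [← mul_assoc, Int.mul_ediv_cancel' (T.w_dvd i j)]
      rw [this, hi, mul_zero]
    · intro h
      funext i
      have hi := congrFun h i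
      simp only [Matrix.mulVec, dotProduct, Pi.zero_apply] at hi ⊢
      have : ∑ j, T.a i j * x j = T.w i * ∑ j, T.picMatrix i j * x j := by
        rw [Finset.mul_sum]
        refine Finset.sum_congr rfl fun j _ => ?_
        unfold Models.NumericalType.picMatrix
        rw [← mul_assoc, Int.mul_ediv_cancel' (T.w_dvd i j)]
      rw [this] at hi
      rcases mul_eq_zero.mp hi with h0 | h0
      · exact absurd h0 (T.w_pos i).ne'
      · exact h0
  -- proportionality
  have hprop : ∀ x : Fin n → ℤ, T.a.mulVec x = 0 → ∀ i j, T.m j * x i = T.m i * x j := by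
    intro x hx
    let u : Fin n → ℚ := fun i => (x i : ℚ) / (T.m i : ℚ)
    have hm0 : ∀ i, (T.m i : ℚ) ≠ 0 := fun i => by exact_mod_cast (T.m_pos i).ne'
    have hmu : ∀ i, (T.m i : ℚ) * u i = x i := fun i => by
      simp only [u]; rw [mul_div_assoc', mul_div_assoc, mul_comm]; exact div_mul_cancel₀ _ (hm0 i)
    have ham : ∀ i, ∑ j, (T.a i j : ℚ) * (T.m j : ℚ) = 0 := by
      intro i
      have := congrFun T.mulVec_m i
      simp only [Matrix.mulVec, dotProduct, Pi.zero_apply] at this
      exact_mod_cast this
    have hax : ∀ i, ∑ j, (T.a i j : ℚ) * (x j : ℚ) = 0 := by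
      intro i
      have := congrFun hx i
      simp only [Matrix.mulVec, dotProduct, Pi.zero_apply] at this
      exact_mod_cast this
    have hsymm : ∀ i j, T.a i j = T.a j i := fun i j => (T.symm.apply i j).symm
    have key : ∑ i, ∑ j, (T.a i j : ℚ) * T.m i * T.m j * (u i - u j) ^ 2 = 0 := by
      have e1 : ∑ i, ∑ j, (T.a i j : ℚ) * T.m i * T.m j * (u i) ^ 2 = 0 := by
        refine Finset.sum_eq_zero fun i _ => ?_
        have : ∑ j, (T.a i j : ℚ) * T.m i * T.m j * (u i) ^ 2
            = (T.m i * (u i) ^ 2) * ∑ j, (T.a i j : ℚ) * T.m j := by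
          rw [Finset.mul_sum]; refine Finset.sum_congr rfl fun j _ => ?_; ring
        rw [this, ham, mul_zero]
      have e2 : ∑ i, ∑ j, (T.a i j : ℚ) * T.m i * T.m j * (u j) ^ 2 = 0 := by
        rw [Finset.sum_comm]
        refine Finset.sum_eq_zero fun j _ => ?_
        have : ∑ i, (T.a i j : ℚ) * T.m i * T.m j * (u j) ^ 2
            = (T.m j * (u j) ^ 2) * ∑ i, (T.a j i : ℚ) * T.m i := by
          rw [Finset.mul_sum]; refine Finset.sum_congr rfl fun i _ => ?_
          rw [hsymm i j]; ring
        rw [this, ham, mul_zero]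
      have e3 : ∑ i, ∑ j, (T.a i j : ℚ) * T.m i * T.m j * (u i * u j) = 0 := by
        refine Finset.sum_eq_zero fun i _ => ?_
        have : ∑ j, (T.a i j : ℚ) * T.m i * T.m j * (u i * u j)
            = (T.m i * u i) * ∑ j, (T.a i j : ℚ) * (x j : ℚ) := by
          rw [Finset.mul_sum]; refine Finset.sum_congr rfl fun j _ => ?_
          rw [← hmu j]; ring
        rw [this, hax, mul_zero]
      have : ∀ i j, (T.a i j : ℚ) * T.m i * T.m j * (u i - u j) ^ 2
          = (T.a i j : ℚ) * T.m i * T.m j * (u i) ^ 2 + (T.a i j : ℚ) * T.m i * T.m j * (u j) ^ 2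
            - 2 * ((T.a i j : ℚ) * T.m i * T.m j * (u i * u j)) := fun i j => by ring
      simp_rw [this, Finset.sum_sub_distrib, Finset.sum_add_distrib, ← Finset.mul_sum, e1, e2, e3]
      ring
    have hterm : ∀ i j, (T.a i j : ℚ) * T.m i * T.m j * (u i - u j) ^ 2 = 0 := by
      have hnn : ∀ i ∈ (univ : Finset (Fin n)), 0 ≤ ∑ j, (T.a i j : ℚ) * T.m i * T.m j * (u i - u j) ^ 2 := by
        intro i _
        refine Finset.sum_nonneg fun j _ => ?_
        by_cases hij : i = j
        · subst hij; simp
        · have h1 : (0 : ℚ) ≤ T.a i j := by exact_mod_cast T.offDiag_nonneg i j hij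
          have h2 : (0 : ℚ) ≤ T.m i := by exact_mod_cast (T.m_pos i).le
          have h3 : (0 : ℚ) ≤ T.m j := by exact_mod_cast (T.m_pos j).le
          positivity
      intro i j
      have h1 := (Finset.sum_eq_zero_iff_of_nonneg hnn).mp key i (mem_univ i)
      have hnn2 : ∀ j ∈ (univ : Finset (Fin n)), 0 ≤ (T.a i j : ℚ) * T.m i * T.m j * (u i - u j) ^ 2 := by
        intro j _
        by_cases hij : i = j
        · subst hij; simp
        · have h1 : (0 : ℚ) ≤ T.a i j := by exact_mod_cast T.offDiag_nonneg i j hij
          have h2 : (0 : ℚ) ≤ T.m i := by exact_mod_cast (T.m_pos i).le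
          have h3 : (0 : ℚ) ≤ T.m j := by exact_mod_cast (T.m_pos j).le
          positivity
      exact (Finset.sum_eq_zero_iff_of_nonneg hnn2).mp h1 j (mem_univ j)
    have hadj : ∀ i j, T.a i j ≠ 0 → u i = u j := by
      intro i j haij
      have := hterm i j
      have ha : (T.a i j : ℚ) ≠ 0 := by exact_mod_cast haij
      simp only [mul_eq_zero, ha, hm0 i, hm0 j, false_or, pow_eq_zero_iff (two_ne_zero)] at this
      exact sub_eq_zero.mp this
    have hconst : ∀ i j, u i = u j := by
      intro i0 j0
      let I : Finset (Fin n) := univ.filter fun i => u i = u i0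
      have hI : I.Nonempty := ⟨i0, by simp [I]⟩
      have hIu : I = univ := by
        by_contra hne
        obtain ⟨i, hi, j, hj, haij⟩ := T.connected I hI hne
        apply hj
        simp only [I, mem_filter, mem_univ, true_and] at hi ⊢
        rw [← hadj i j haij, hi]
      have : j0 ∈ I := hIu ▸ mem_univ j0
      simp only [I, mem_filter, mem_univ, true_and] at this
      exact this.symm
    intro i j
    have h := hconst i j
    simp only [u] at h
    rw [div_eq_div_iff (hm0 i) (hm0 j)] at h
    have : ((T.m j * x i : ℤ) : ℚ) = ((T.m i * x j : ℤ) : ℚ) := by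
      push_cast; linarith
    exact_mod_cast this
  -- finrank ker = 1
  have hn := T.pos
  let i0 : Fin n := ⟨0, hn⟩
  have hmker : T.m ∈ LinearMap.ker f := (hker _).mpr T.mulVec_m
  have hk1 : Module.finrank ℤ (LinearMap.ker f) = 1 := by
    apply le_antisymm
    · -- injective map to ℤ
      let g : LinearMap.ker f →ₗ[ℤ] ℤ := (LinearMap.proj i0).comp (LinearMap.ker f).subtype
      have hg : Function.Injective g := by
        rw [injective_iff_map_eq_zero]
        intro x hx0
        have hx0' : (x : Fin n → ℤ) i0 = 0 := hx0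
        have hx := hprop x ((hker _).mp x.2)
        apply Subtype.ext
        funext j
        have := hx j i0
        rw [hx0', mul_zero] at this
        rcases mul_eq_zero.mp this with h0 | h0
        · exact absurd h0 (T.m_pos i0).ne'
        · exact h0
      have := LinearMap.finrank_le_finrank_of_injective hg
      simpa using this
    · rw [Nat.succ_le_iff, Module.finrank_pos_iff_exists_ne_zero]
      refine ⟨⟨T.m, hmker⟩, fun h0 => ?_⟩
      have := congrArg (fun z : LinearMap.ker f => (z : Fin n → ℤ) i0) h0
      simp only [ZeroMemClass.coe_zero, Pi.zero_apply] at this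
      exact (T.m_pos i0).ne' this
  have h1 := (LinearMap.range f).finrank_quotient_add_finrank
  have h2 := (LinearMap.ker f).finrank_quotient_add_finrank
  have h3 : Module.finrank ℤ ((Fin n → ℤ) ⧸ LinearMap.ker f) = Module.finrank ℤ (LinearMap.range f) :=
    f.quotKerEquivRange.finrank_eq
  show Module.finrank ℤ ((Fin n → ℤ) ⧸ LinearMap.range f) = 1
  omega

end Groth.Agent.S2178
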