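import Groth.Statements.S9498
import Mathlib.Algebra.Homology.ShortComplex.ExactFunctor

set_option autoImplicit false
universe u
open AffSch

namespace Groth.Agent.S9498

section helpers

open AlgebraicGeometry CategoryTheory Limits TopologicalSpace

section
variable {R : Type u} [CommRing R] {M N : Type u} [AddCommGroup M] [Module R M]
  [AddCommGroup N] [Module R N]

open StructureSheaf in
theorem comapFun_injective (f : M →ₗ[R] N) (hf : Function.Injective f)
    (y : PrimeSpectrum.Top R) :
    Function.Injective (Localizations.comapFun (σ := RingHom.id R) f y) := by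
  rw [injective_iff_map_eq_zero]
  intro x hx
  induction x using LocalizedModule.induction_on with | h a b =>
  rw [Localizations.comapFun_mk] at hx
  rw [← LocalizedModule.zero_mk 1, LocalizedModule.mk_eq] at hx ⊢
  obtain ⟨u, hu⟩ := hx
  refine ⟨u, ?_⟩
  apply hf
  simp only [one_smul, smul_zero, map_zero, Submonoid.smul_def] at hu ⊢
  exact (map_smul f (u : R) a).trans hu

end


section
variable {R : CommRingCat.{u}}

open StructureSheaf in
theorem comapₗ_injective {M N : ModuleCat.{u} R} (f : M ⟶ N) (hf : Function.Injective f.hom)
    (U : Opens (PrimeSpectrum.Top R)) :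
    Function.Injective (StructureSheaf.comapₗ (σ := RingHom.id R) f.hom U U .rfl) := by
  intro s t hst
  apply Subtype.ext
  funext y
  have := congrFun (congrArg Subtype.val hst) y
  exact comapFun_injective f.hom hf y.1 this

set_option backward.isDefEq.respectTransparency.types false in
theorem mono_tilde_map {M N : ModuleCat.{u} R} (f : M ⟶ N) [Mono f] : Mono (tilde.map f) := by
  have hf : Function.Injective f.hom := (ModuleCat.mono_iff_injective f).mp inferInstance
  apply (modulesSpecToSheaf (R := R)).mono_of_mono_map
  apply (TopCat.Sheaf.forget _ _).mono_of_mono_map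
  let α : structurePresheafInModuleCat R M ⟶ structurePresheafInModuleCat R N :=
    { app U := ModuleCat.ofHom (StructureSheaf.comapₗ f.hom _ _ .rfl) }
  change Mono ((tilde.modulesSpecToSheafIso M).hom ≫ α ≫ (tilde.modulesSpecToSheafIso N).inv)
  have : Mono α := by
    apply (config := { allowSynthFailures := true }) NatTrans.mono_of_mono_app
    intro U
    rw [ModuleCat.mono_iff_injective]
    exact comapₗ_injective f hf U.unop
  have h2 : Mono (α ≫ (tilde.modulesSpecToSheafIso N).inv) := mono_comp _ _
  exact @mono_comp _ _ _ _ _ _ inferInstance _ h2

theorem aux (R : CommRingCat.{u}) :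
    PreservesFiniteLimits (tilde.functor R) ∧ PreservesFiniteColimits (tilde.functor R) := by
  have hcolim : PreservesFiniteColimits (tilde.functor R) := inferInstance
  refine ⟨?_, hcolim⟩
  rw [Functor.preservesFiniteLimits_iff_forall_exact_map_and_mono]
  intro S hS
  have h1 := (Functor.preservesFiniteColimits_iff_forall_exact_map_and_epi
    (tilde.functor R)).mp hcolim S hS
  refine ⟨h1.1, ?_⟩
  have : Mono S.f := hS.mono_f
  exact mono_tilde_map S.f

end

end helpers

open AlgebraicGeometry in
open CategoryTheory Limits in
/-- For a commutative ring A, the functor M ↦ M~ from the category of A-modules to the category of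
O-modules on Spec A is exact, i.e. it preserves finite limits and finite colimits. -/
theorem result
    (A : Type u) [CommRing A] :
    PreservesFiniteLimits (tilde.functor (CommRingCat.of A)) ∧
      PreservesFiniteColimits (tilde.functor (CommRingCat.of A)) := by
  exact aux (CommRingCat.of A)

end Groth.Agent.S9498
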