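import Groth.Statements.S7245
import Mathlib
import Groth.Agent.Lib.Helper17.QcSec
import Groth.Agent.Lib.Helper17.RFUnit

set_option autoImplicit false
universe u
open CategoryTheory CategoryTheory.Limits AlgebraicGeometry
attribute [local instance] HasDerivedCategory.standard
open Perf

namespace Groth.Agent.S7245

/-- Let f : X ⟶ S be an affine morphism of schemes and F a cochain complex of quasi-coherent
O_X-modules. Assuming Rf_* exists on the unbounded derived category, the canonical map f_*F ⟶ Rf_*F
in D(O_S) (the unit of the total right derived functor at F) is an isomorphism. -/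
theorem result {X S : Scheme.{u}} (f : X ⟶ S) [IsAffineHom f] [DCoh.HasRpush f]
    (F : CochainComplex X.Modules ℤ) (hq : ∀ n : ℤ, Coh.IsQCoh (F.X n)) :
    IsIso (((DCoh.pushKh f).totalRightDerivedUnit DerivedCategory.Qh (HomotopyCategory.quasiIso X.Modules (ComplexShape.up ℤ))).app
      ((HomotopyCategory.quotient X.Modules (ComplexShape.up ℤ)).obj F)) := by
  have hA : Groth.Agent.Lib.Helper17.DerKInj.HasKInjRes X.Modules :=
    Groth.Agent.Lib.Helper17.DerKInj.hasKInjRes_of_isGrothendieckAbelian
  obtain ⟨J, φ, hJ, hφ⟩ := hA F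
  haveI := hJ
  haveI : QuasiIso φ := hφ
  exact Groth.Agent.Lib.Helper17.RFUnit.isIso_unit_of_quasiIso (Scheme.Modules.pushforward f) hA φ
    (Groth.Agent.Lib.Helper17.QcSec.quasiIso_pushforward_of_affine f hq φ)

end Groth.Agent.S7245
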