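import Groth.Statements.S9705
import Mathlib

set_option autoImplicit false
universe u
open CategoryTheory CategoryTheory.Limits AlgebraicGeometry
open Mor

namespace Groth.Agent.S9705

section helpers

theorem algebraMap_gradeZero_surjective (n : ℕ) (R : Type u) [CommRing R] :
    Function.Surjective (algebraMap R (CohB1.polyGrading n R 0)) := by
  rintro ⟨x, hx⟩
  have hx' : x.IsHomogeneous 0 := hx
  rw [← MvPolynomial.totalDegree_zero_iff_isHomogeneous, MvPolynomial.totalDegree_eq_zero_iff_eq_C] at hx'
  refine ⟨MvPolynomial.coeff 0 x, ?_⟩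
  apply Subtype.ext
  change algebraMap R (MvPolynomial (Fin (n + 1)) R) _ = x
  rw [MvPolynomial.algebraMap_eq]
  exact hx'.symm

instance (n : ℕ) (R : Type u) [CommRing R] :
    IsScalarTower R (CohB1.polyGrading n R 0) (MvPolynomial (Fin (n + 1)) R) :=
  IsScalarTower.of_algebraMap_eq (R := R) (S := CohB1.polyGrading n R 0)
    (A := MvPolynomial (Fin (n + 1)) R) (fun x => by rfl)

instance (n : ℕ) (R : Type u) [CommRing R] :
    Algebra.FiniteType (CohB1.polyGrading n R 0) (MvPolynomial (Fin (n + 1)) R) :=
  Algebra.FiniteType.of_restrictScalars_finiteType R _ _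

instance isProper_toSpec (n : ℕ) (R : Type u) [CommRing R] : IsProper (CohB1.ProjSpace.toSpec n R) := by
  unfold CohB1.ProjSpace.toSpec
  have h1 : IsProper (Proj.toSpecZero (CohB1.polyGrading n R)) := inferInstance
  have h2 : IsClosedImmersion (Spec.map (CommRingCat.ofHom (algebraMap R (CohB1.polyGrading n R 0)))) :=
    IsClosedImmersion.spec_of_surjective _ (algebraMap_gradeZero_surjective n R)
  have h2' : IsProper (Spec.map (CommRingCat.ofHom (algebraMap R (CohB1.polyGrading n R 0)))) :=
    inferInstance
  exact MorphismProperty.comp_mem (W := @IsProper) _ _ h1 h2'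

instance isProper_toBase (n : ℕ) (S : Scheme.{u}) : IsProper (CohB1.ProjSpaceOver.toBase n S) := by
  have := isProper_toSpec n (ULift.{u} ℤ)
  change IsProper (pullback.snd (CohB1.ProjSpace.toSpec n (ULift.{u, 0} ℤ))
    (specULiftZIsTerminal.from S))
  infer_instance


end helpers

/-- Over a quasi-compact quasi-separated scheme S, a morphism f : X ⟶ S is H-projective if and only if
it is H-quasi-projective and proper. -/
theorem result {X S : Scheme.{u}} [CompactSpace ↥S]
    [QuasiSeparatedSpace ↥S] (f : X ⟶ S) :
    RelProj.IsHProjective f ↔ RelProj.IsHQuasiProjective f ∧ IsProper f := by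
  constructor
  · rintro ⟨n, i, hi, rfl⟩
    refine ⟨⟨n, i, inferInstance, inferInstance, rfl⟩, ?_⟩
    infer_instance
  · rintro ⟨⟨n, i, hi, hqc, rfl⟩, hp⟩
    have hsep : IsSeparated (CohB1.ProjSpaceOver.toBase n S) := inferInstance
    have hip : IsProper i := IsProper.of_comp i (CohB1.ProjSpaceOver.toBase n S)
    have hcl : IsClosed (Set.range i.base) := i.isClosedMap.isClosed_range
    exact ⟨n, i, IsClosedImmersion.of_isPreimmersion i hcl, rfl⟩

end Groth.Agent.S9705
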