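import Groth.Statements.S0101
import Groth.Agent.Lib.Helper10.LanFlat
import Mathlib.CategoryTheory.Sites.Pullback

set_option autoImplicit false
open CategoryTheory CategoryTheory.Limits AlgebraicGeometry Opposite
universe u
open EtBase

namespace Groth.Agent.S0101

open Groth.Agent.Lib.Helper10.LanFlat in
theorem main {X Y : Scheme.{u}} (f : X ⟶ Y) [EtCoh.BCCont f] :
    PreservesFiniteLimits (EtCoh.pull f) := by
  have h1 : ∀ K : (X.Etale)ᵒᵖ, HasColimitsOfShape (CostructuredArrow (EtCoh.bc f).op K)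
      AddCommGrpCat.{u + 1} :=
    fun K => hasColimitsOfShape_costructuredArrow_addCommGrp.{u, u, u + 1, u + 1, u + 1}
      (EtCoh.bc f) K
  have h2 : PreservesFiniteLimits ((EtCoh.bc f).op.lan :
      ((Y.Etale)ᵒᵖ ⥤ AddCommGrpCat.{u + 1}) ⥤ ((X.Etale)ᵒᵖ ⥤ AddCommGrpCat.{u + 1})) :=
    lan_preservesFiniteLimits_of_flat_addCommGrp.{u, u, u + 1, u + 1, u + 1} (EtCoh.bc f)
  exact Functor.sheafPullbackConstruction.preservesFiniteLimits (EtCoh.bc f) AddCommGrpCat.{u + 1}
    Y.smallEtaleTopology X.smallEtaleTopology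

/-- Part (1) — pullback of abelian étale sheaves along a morphism of schemes is exact (it is a left
adjoint and preserves finite limits). -/
theorem result {X Y : Scheme.{u}} (f : X ⟶ Y) [EtCoh.BCCont f] :
    PreservesFiniteLimits (EtCoh.pull f) := by
  exact main f

end Groth.Agent.S0101
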