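import Groth.Statements.S16344
import Mathlib

set_option autoImplicit false
universe u v
open IdeleMod

namespace Groth.Agent.S16344

section helpers

open Set

theorem exists_compatible {ι : Type u} [Preorder ι] [IsDirected ι (· ≤ ·)]
    (G : ι → Type v) [∀ i, TopologicalSpace (G i)] [∀ i, CompactSpace (G i)] [∀ i, T2Space (G i)]
    (f : ∀ ⦃i j : ι⦄, i ≤ j → (G j → G i)) (hf : ∀ i j (h : i ≤ j), Continuous (f h))
    (hcomp : ∀ i j k (hij : i ≤ j) (hjk : j ≤ k) (x : G k), f hij (f hjk x) = f (hij.trans hjk) x)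
    (S : ∀ i, Set (G i)) (hSc : ∀ i, IsClosed (S i)) (hSn : ∀ i, (S i).Nonempty)
    (hSf : ∀ i j (h : i ≤ j), ∀ x ∈ S j, f h x ∈ S i) :
    ∃ x : ∀ i, G i, (∀ i, x i ∈ S i) ∧ ∀ i j (h : i ≤ j), f h (x j) = x i := by
  classical
  rcases isEmpty_or_nonempty ι with hι | hι
  · exact ⟨fun i => isEmptyElim i, fun i => isEmptyElim i, fun i => isEmptyElim i⟩
  let T : {p : ι × ι // p.1 ≤ p.2} → Set (∀ i, G i) := fun p =>
    {x | f p.2 (x p.1.2) = x p.1.1 ∧ x p.1.1 ∈ S p.1.1}
  have hTc : ∀ p, IsClosed (T p) := by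
    intro p
    refine IsClosed.inter ?_ ?_
    · exact isClosed_eq ((hf _ _ p.2).comp (continuous_apply p.1.2)) (continuous_apply p.1.1)
    · exact (hSc p.1.1).preimage (continuous_apply p.1.1)
  have hfip : ∀ u : Finset {p : ι × ι // p.1 ≤ p.2}, (univ ∩ ⋂ p ∈ u, T p).Nonempty := by
    intro u
    obtain ⟨k, hk⟩ := Finset.exists_le (u.image fun p => p.1.2)
    choose s hs using hSn
    refine ⟨fun i => if h : i ≤ k then f h (s k) else s i, mem_univ _, ?_⟩
    rw [mem_iInter₂]
    intro p hp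
    have hjk : p.1.2 ≤ k := hk _ (Finset.mem_image_of_mem _ hp)
    have hik : p.1.1 ≤ k := p.2.trans hjk
    show f p.2 (if h : p.1.2 ≤ k then f h (s k) else s p.1.2) =
        (if h : p.1.1 ≤ k then f h (s k) else s p.1.1) ∧
      (if h : p.1.1 ≤ k then f h (s k) else s p.1.1) ∈ S p.1.1
    rw [dif_pos hjk, dif_pos hik]
    exact ⟨hcomp _ _ _ p.2 hjk (s k), hSf _ _ hik _ (hs k)⟩
  obtain ⟨x, -, hx⟩ := isCompact_univ.inter_iInter_nonempty T hTc hfip
  rw [mem_iInter] at hx
  refine ⟨x, fun i => (hx ⟨(i, i), le_refl i⟩).2, fun i j h => (hx ⟨(i, j), h⟩).1⟩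

theorem main
    {ι : Type u} [Preorder ι] [IsDirected ι (· ≤ ·)]
    (G : ι → Type v) [∀ i, AddCommGroup (G i)] [∀ i, TopologicalSpace (G i)]
    [∀ i, IsTopologicalAddGroup (G i)] [∀ i, CompactSpace (G i)] [∀ i, T2Space (G i)]
    (f : ∀ ⦃i j : ι⦄, i ≤ j → (G j →+ G i)) (hf : ∀ i j (h : i ≤ j), Continuous (f h))
    (hid : ∀ i (x : G i), f (le_refl i) x = x)
    (hcomp : ∀ i j k (hij : i ≤ j) (hjk : j ≤ k) (x : G k), f hij (f hjk x) = f (hij.trans hjk) x)
    (hsurj : ∀ i j (h : i ≤ j), Function.Surjective (f h)) (m : ℕ) :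
    (∀ x : ∀ i, G i, (∀ i j (h : i ≤ j), f h (x j) = x i) → (∀ i, ∃ y : G i, m • y = x i) →
        ∃ z : ∀ i, G i, (∀ i j (h : i ≤ j), f h (z j) = z i) ∧ ∀ i, m • z i = x i) ∧
    (∀ y : ∀ i, G i, (∀ i j (h : i ≤ j), ∃ w : G i, f h (y j) - y i = m • w) →
        ∃ x : ∀ i, G i, (∀ i j (h : i ≤ j), f h (x j) = x i) ∧ ∀ i, ∃ w : G i, x i - y i = m • w) := by
  refine ⟨?_, ?_⟩
  · intro x hx hdiv
    obtain ⟨z, hz1, hz2⟩ := exists_compatible G (fun i j h => (f h : G j → G i)) hf hcomp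
      (fun i => {z | m • z = x i})
      (fun i => isClosed_eq (continuous_nsmul m) continuous_const)
      (fun i => hdiv i)
      (fun i j h z hz => by
        show m • f h z = x i
        rw [← map_nsmul, show m • z = x j from hz, hx i j h])
    exact ⟨z, hz2, hz1⟩
  · intro y hy
    obtain ⟨x, hx1, hx2⟩ := exists_compatible G (fun i j h => (f h : G j → G i)) hf hcomp
      (fun i => Set.range fun w : G i => y i + m • w)
      (fun i => (isCompact_range (continuous_const.add (continuous_nsmul m))).isClosed)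
      (fun i => ⟨_, ⟨0, rfl⟩⟩)
      (fun i j h z hz => by
        obtain ⟨w, rfl⟩ := hz
        obtain ⟨w', hw'⟩ := hy i j h
        refine ⟨f h w + w', ?_⟩
        show y i + m • (f h w + w') = f h (y j + m • w)
        rw [map_add, map_nsmul, smul_add, ← hw']
        abel)
    refine ⟨x, hx2, fun i => ?_⟩
    obtain ⟨w, hw⟩ := hx1 i
    exact ⟨w, by rw [← hw]; exact add_sub_cancel_left _ _⟩

end helpers

/-- Let (G_i) be an inverse system, indexed by a directed preorder, of compact Hausdorff topological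
abelian groups with continuous surjective transition maps, let G be its limit (the group of
compatible families) and let m be a natural number. Then the canonical map G/mG → lim G_i/mG_i is
bijective: a compatible family that lies in mG_i at every index is m times a compatible family
(injectivity), and every family that is compatible modulo m agrees modulo m, index by index, with a
compatible family (surjectivity). -/
theorem result
    {ι : Type u} [Preorder ι] [IsDirected ι (· ≤ ·)]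
    (G : ι → Type v) [∀ i, AddCommGroup (G i)] [∀ i, TopologicalSpace (G i)]
    [∀ i, IsTopologicalAddGroup (G i)] [∀ i, CompactSpace (G i)] [∀ i, T2Space (G i)]
    (f : ∀ ⦃i j : ι⦄, i ≤ j → (G j →+ G i)) (hf : ∀ i j (h : i ≤ j), Continuous (f h))
    (hid : ∀ i (x : G i), f (le_refl i) x = x)
    (hcomp : ∀ i j k (hij : i ≤ j) (hjk : j ≤ k) (x : G k), f hij (f hjk x) = f (hij.trans hjk) x)
    (hsurj : ∀ i j (h : i ≤ j), Function.Surjective (f h)) (m : ℕ) :
    (∀ x : ∀ i, G i, (∀ i j (h : i ≤ j), f h (x j) = x i) → (∀ i, ∃ y : G i, m • y = x i) →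
        ∃ z : ∀ i, G i, (∀ i j (h : i ≤ j), f h (z j) = z i) ∧ ∀ i, m • z i = x i) ∧
    (∀ y : ∀ i, G i, (∀ i j (h : i ≤ j), ∃ w : G i, f h (y j) - y i = m • w) →
        ∃ x : ∀ i, G i, (∀ i j (h : i ≤ j), f h (x j) = x i) ∧ ∀ i, ∃ w : G i, x i - y i = m • w) := by
  exact main G f hf hid hcomp hsurj m

end Groth.Agent.S16344
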