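import Groth.Statements.S16921
import Mathlib
import Groth.Agent.Lib.Helper18.CL9b
import Groth.Agent.Lib.Helper18.FF4

set_option autoImplicit false
universe u
open CategoryTheory AlgebraicGeometry
open Cyc

namespace Groth.Agent.S16921

/-- Let p : X → Y be a dominant proper morphism of integral schemes with δX(η_X) ≠ δY(η_Y) (then the
δ-dimension of X exceeds that of Y, the function fields having positive transcendence degree), and f
a nonzero rational function on X. Then p_*(div_X f) = 0. Here a pair (X, δ) with Cyc.IsSetup plays
the role of a scheme locally of finite type over the base (S, δ) (X locally Noetherian with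
universally catenary local rings, δ a dimension function), and Cyc.DeltaCompat records that the
dimension function upstairs is the induced one. (The published statement is for a proper surjective
morphism of integral schemes of finite type over a field with dim Y < dim X; it is given here in the
setup of schemes with dimension functions. The companion assertion for equal dimensions, p_*(div f)
= div(Nm f), is a separate statement.) -/
theorem result (X Y : Scheme.{u}) [IsIntegral X] [IsIntegral Y] (δX : X → ℤ)
    (δY : Y → ℤ) (hX : Cyc.IsSetup X δX) (hY : Cyc.IsSetup Y δY) (p : X ⟶ Y) [IsProper p]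
    (hδ : Cyc.DeltaCompat p δX δY) (hdom : p (genericPoint X) = genericPoint Y)
    (hn : δX (genericPoint X) ≠ δY (genericPoint Y)) (f : X.residueField (genericPoint X)) (hf : f ≠ 0)
    (α : AlgebraicCycle X ℤ) (hα : ⇑α = Cyc.divFun δX (genericPoint X) f) :
    AlgebraicCycle.map p δX δY α = 0 := by
  classical
  haveI : IsLocallyNoetherian X := hX.1
  haveI : IsLocallyNoetherian Y := hY.1
  ext y
  simp only [AlgebraicCycle.map, Function.locallyFinsupp.map_apply]
  change ∑ᶠ x ∈ (p ⁻¹' {y} : Set X), α x * ((AlgebraicCycle.mapCoeff p δX δY x : ℕ) : ℤ) = 0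
  obtain ⟨n, hn1, hn2⟩ := hδ (genericPoint X)
  rw [hdom] at hn2
  have hn0 : n ≠ 0 := by
    rintro rfl
    apply hn
    simpa using hn2
  -- a nonzero term forces `y` to be the generic point and `n = 1`
  have hA : ∀ x, p x = y → α x * ((AlgebraicCycle.mapCoeff p δX δY x : ℕ) : ℤ) ≠ 0 →
      y = genericPoint Y ∧ n = 1 := by
    intro x hx hne
    have h2 : α x ≠ 0 := left_ne_zero_of_mul hne
    have h3 : ((AlgebraicCycle.mapCoeff p δX δY x : ℕ) : ℤ) ≠ 0 := right_ne_zero_of_mul hne
    rw [hα] at h2
    unfold Cyc.divFun at h2
    split_ifs at h2 with hc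
    swap
    · exact absurd rfl h2
    unfold AlgebraicCycle.mapCoeff at h3
    split_ifs at h3 with hd
    swap
    · exact absurd rfl h3
    have hd' : δX x = δY (p x) := hd
    rw [hx] at hd'
    by_cases hy : y = genericPoint Y
    · refine ⟨hy, ?_⟩
      rw [hy] at hd'
      have := hc.2
      omega
    · exfalso
      have hlt := (hY.2.2 (genericPoint Y) y (genericPoint_specializes y) (Ne.symm hy)).1
      have := hc.2
      omega
  by_cases hy : y = genericPoint Y ∧ n = 1
  swap
  · apply finsum_mem_eq_zero_of_forall_eq_zero
    intro x hx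
    by_contra hne
    exact hy (hA x hx hne)
  obtain ⟨rfl, rfl⟩ := hy
  have hδη : δX (genericPoint X) = δY (genericPoint Y) + 1 := by simpa using hn2
  -- the points of the generic fibre other than the generic point
  have hpts : ∀ x, p x = genericPoint Y → x ≠ genericPoint X →
      δX x + 1 = δX (genericPoint X) ∧ δX x = δY (p x) := by
    intro x hx hne
    have hlt := (hX.2.2 (genericPoint X) x (genericPoint_specializes x) (Ne.symm hne)).1
    obtain ⟨m, -, hm2⟩ := hδ x
    rw [hx] at hm2 ⊢
    constructor <;> omega
  have hfib : ∀ x x', p x = genericPoint Y → p x' = genericPoint Y → x ≠ genericPoint X →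
      x ⤳ x' → x = x' := by
    intro x x' hx hx' hne hsp
    by_contra hxx'
    have hlt := (hX.2.2 x x' hsp hxx').1
    have hne' : x' ≠ genericPoint X := by
      rintro rfl
      exact hne ((hsp.antisymm (genericPoint_specializes x)).eq)
    have h1 := (hpts x hx hne).1
    have h2 := (hpts x' hx' hne').1
    omega
  have hK : ∀ x, p x = genericPoint Y → x ≠ genericPoint X →
      Ring.KrullDimLE 1 (Cyc.LocQuot x (genericPoint X) (genericPoint_specializes x)) := by
    intro x hx hne
    exact Groth.Agent.Lib.Helper18.DivPull.krullDimLE_one_locQuot δX hX.2.2 x (genericPoint X)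
      (genericPoint_specializes x) (hpts x hx hne).1
  have htrans : letI := (p.residueFieldMap (genericPoint X)).hom.toAlgebra
      ∃ t : X.residueField (genericPoint X),
        Transcendental (Y.residueField (p (genericPoint X))) t := by
    letI := (p.residueFieldMap (genericPoint X)).hom.toAlgebra
    have h0 : Algebra.trdeg (Y.residueField (p (genericPoint X)))
        (X.residueField (genericPoint X)) ≠ 0 := by
      rw [hn1]
      simp
    exact (Algebra.transcendental_def).mp (trdeg_ne_zero_iff.mp h0)
  have hCL := Groth.Agent.Lib.Helper18.CL9b.sum_ordAt_eq_zero p hdom hfib hK htrans f hf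
  have e1 : ∑ᶠ x ∈ (p ⁻¹' {genericPoint Y} : Set X),
      α x * ((AlgebraicCycle.mapCoeff p δX δY x : ℕ) : ℤ) =
      ∑ᶠ x ∈ {x : X | p x = genericPoint Y ∧ x ≠ genericPoint X},
        α x * ((AlgebraicCycle.mapCoeff p δX δY x : ℕ) : ℤ) := by
    refine finsum_mem_inter_support_eq' _ _ _ (fun x hx => ⟨fun h => ⟨h, ?_⟩, fun h => h.1⟩)
    rintro rfl
    apply hx
    change α (genericPoint X) * _ = 0
    rw [hα]
    unfold Cyc.divFun
    rw [dif_neg (fun h => by have := h.2; omega), zero_mul]
  rw [e1, ← hCL]
  apply finsum_mem_congr rfl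
  rintro x ⟨hx1, hx2⟩
  obtain ⟨hc1, hc2⟩ := hpts x hx1 hx2
  rw [Groth.Agent.Lib.Helper18.FF4.mapCoeff_eq_residueDegree p δX δY hδ, hα]
  unfold Cyc.divFun Groth.Agent.Lib.Helper18.CL9b.term
  rw [dif_pos ⟨genericPoint_specializes x, hc1⟩]

end Groth.Agent.S16921
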