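import Groth.Statements.S6479
import Mathlib
import Groth.Agent.Lib.Helper18.FlatShift

set_option autoImplicit false
universe u
open CategoryTheory AlgebraicGeometry
open CategoryTheory.Limits
open Cyc

namespace Groth.Agent.S6479

/-- Let p : X' → X and p' : X'' → X' be flat with shifts c and c' on the dimension functions at generic
points of fibre components. Then the composite p' ≫ p has shift c + c' at generic points of its
fibre components, and g^* followed by (g')^* is (g ∘ g')^* on k-cycles: Cyc.pullFun (p' ≫ p) δ'' δ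
(c + c') α = Cyc.pullFun p' δ'' δ' c' (Cyc.pullFun p δ' δ c α). Setting: p : X' → X is flat (not
necessarily of finite type), (X, δ) and (X', δ') satisfy Cyc.IsSetup, and δ'(x') = δ(p x') + c
whenever x' is maximal under generalization inside its fibre p⁻¹(p x'); g^* : Z_k(X) → Z_{k+c}(X')
is the coefficientwise flat pullback Cyc.pullFun p δ' δ c. (The published statement takes both maps
to be base changes along flat S″ → S′ → S of one scheme locally of finite type over S, and has a
third part, the same composition on Chow groups, which follows; this row allows any two flat maps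
with the shift conditions.) -/
theorem result (X X' X'' : Scheme.{u}) (p : X' ⟶ X) (p' : X'' ⟶ X') [Flat p] [Flat p'] (δ : X → ℤ) (δ' : X' → ℤ) (δ'' : X'' → ℤ) (hX : Cyc.IsSetup X δ) (hX' : Cyc.IsSetup X' δ') (hX'' : Cyc.IsSetup X'' δ'') (c c' : ℤ) (hc : ∀ x' : X', (∀ y, p y = p x' → y ⤳ x' → y = x') → δ' x' = δ (p x') + c) (hc' : ∀ x'' : X'', (∀ y, p' y = p' x'' → y ⤳ x'' → y = x'') → δ'' x'' = δ' (p' x'') + c') (k : ℤ) (α : AlgebraicCycle X ℤ) (hα : α ∈ Cyc.Zk X δ k) : (∀ x'' : X'', (∀ y, (p' ≫ p) y = (p' ≫ p) x'' → y ⤳ x'' → y = x'') → δ'' x'' = δ ((p' ≫ p) x'') + (c + c')) ∧ Cyc.pullFun (p' ≫ p) δ'' δ (c + c') ⇑α = Cyc.pullFun p' δ'' δ' c' (Cyc.pullFun p δ' δ c ⇑α) := by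
  have hd' : Cyc.IsDimFun X' δ' := hX'.2.2
  have hd'' : Cyc.IsDimFun X'' δ'' := hX''.2.2
  have L3 := Groth.Agent.Lib.Helper18.FlatShift.delta_le_of_shift p δ δ' hd' c hc
  have L3' := Groth.Agent.Lib.Helper18.FlatShift.delta_le_of_shift p' δ' δ'' hd'' c' hc'
  have hgen : GeneralizingMap p' := Flat.generalizingMap p'
  refine ⟨?_, ?_⟩
  · intro x'' hmax
    have e0 : (p' ≫ p) x'' = p (p' x'') := rfl
    have h1 : δ'' x'' = δ' (p' x'') + c' := by
      apply hc'
      intro y hy1 hy2
      apply hmax y _ hy2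
      change p (p' y) = p (p' x'')
      rw [hy1]
    have h2 : δ' (p' x'') = δ (p (p' x'')) + c := by
      apply hc
      intro y' hy1 hy2
      obtain ⟨y'', hy''1, hy''2⟩ := hgen hy2
      have : y'' = x'' := by
        apply hmax y'' _ hy''1
        change p (p' y'') = p (p' x'')
        rw [hy''2, hy1]
      rw [← hy''2, this]
    rw [e0, h1, h2]; ring
  · funext x''
    have e0 : (p' ≫ p) x'' = p (p' x'') := rfl
    have hlen : Module.length (X''.presheaf.stalk x'')
        (X''.presheaf.stalk x'' ⧸ Ideal.map ((p' ≫ p).stalkMap x'').hom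
          (IsLocalRing.maximalIdeal (X.presheaf.stalk ((p' ≫ p) x'')))) =
        Module.length (X'.presheaf.stalk (p' x''))
          (X'.presheaf.stalk (p' x'') ⧸ Ideal.map (p.stalkMap (p' x'')).hom
            (IsLocalRing.maximalIdeal (X.presheaf.stalk (p (p' x''))))) *
        Module.length (X''.presheaf.stalk x'')
          (X''.presheaf.stalk x'' ⧸ Ideal.map (p'.stalkMap x'').hom
            (IsLocalRing.maximalIdeal (X'.presheaf.stalk (p' x'')))) := by
      have hcomp : ((p' ≫ p).stalkMap x'').hom =
          (p'.stalkMap x'').hom.comp (p.stalkMap (p' x'')).hom := by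
        rw [Scheme.Hom.stalkMap_comp]; rfl
      rw [hcomp]
      exact Groth.Agent.Lib.Helper18.FlatShift.length_quot_map_comp
        (p.stalkMap (p' x'')).hom (p'.stalkMap x'').hom (Flat.stalkMap p' x'')
    unfold Cyc.pullFun
    simp only []
    rw [hlen, ENat.toNat_mul]
    have hA := L3 (p' x'')
    have hB := L3' x''
    by_cases hb : δ'' x'' = δ' (p' x'') + c'
    · by_cases hcc : δ' (p' x'') = δ (p (p' x'')) + c
      · rw [if_pos (by rw [e0, hb, hcc]; ring), if_pos hb, if_pos hcc]
        push_cast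
        rw [e0]; ring
      · rw [if_neg (by rw [e0]; omega), if_pos hb, if_neg hcc, zero_mul]
    · rw [if_neg (by rw [e0]; omega), if_neg hb]

end Groth.Agent.S6479
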