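import Groth.Statements.S4271
-- import your own Groth.Agent.* helpers here
import Groth.Agent.Lib.Helper29.AmpFam2
import Groth.Agent.Lib.Helper29.EffC2
import Groth.Agent.Lib.Helper20.RegularUFD

set_option autoImplicit false
universe u
open CategoryTheory CategoryTheory.Limits AlgebraicGeometry
attribute [local instance] HasDerivedCategory.standard
open KSix

namespace Groth.Agent.S4271

/-- The published statement asserts that a separated regular Noetherian scheme is divisorial; stated
here in the following form: a quasi-compact locally Noetherian scheme all of whose local rings are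
regular and whose affine opens have pairwise affine intersections (affine diagonal) admits an ample
family of invertible modules. -/
theorem result (X : Scheme.{u}) [CompactSpace X] [IsLocallyNoetherian X]
    (hreg : ∀ x : X, IsRegularLocalRing (X.presheaf.stalk x))
    (hdiag : ∀ U V : X.Opens, IsAffineOpen U → IsAffineOpen V → IsAffineOpen (U ⊓ V)) : MoreMor.HasAmpleFamily X := by
  classical
  have hcX : CompactSpace X := inferInstance
  have hNoeth : IsNoetherian X := {}
  refine ⟨hcX, fun x => ?_⟩
  -- a maximal affine open containing an affine neighbourhood of `x` is dense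
  obtain ⟨U₀, hU₀, hxU₀, -⟩ := AlgebraicGeometry.exists_isAffineOpen_mem_and_subset
    (show x ∈ (⊤ : X.Opens) from trivial)
  let 𝒜 : Set X.Opens := {V | IsAffineOpen V ∧ U₀ ≤ V}
  have hne : 𝒜.Nonempty := ⟨U₀, hU₀, le_rfl⟩
  have hwf : WellFoundedGT X.Opens := inferInstance
  obtain ⟨V, ⟨hVaff, hUV⟩, hmax⟩ := hwf.wf.has_min 𝒜 hne
  have hdense : Dense (V : Set X) := by
    by_contra hnd
    have hne2 : ((closure (V : Set X))ᶜ).Nonempty := by
      rw [Set.nonempty_compl]
      intro h
      exact hnd (dense_iff_closure_eq.mpr h)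
    obtain ⟨y, hy⟩ := hne2
    let W : X.Opens := ⟨(closure (V : Set X))ᶜ, isClosed_closure.isOpen_compl⟩
    obtain ⟨V', hV', hyV', hV'W⟩ := AlgebraicGeometry.exists_isAffineOpen_mem_and_subset
      (show y ∈ W from hy)
    have hdisj : Disjoint V V' := by
      rw [← TopologicalSpace.Opens.coe_disjoint, Set.disjoint_left]
      intro z hzV hzV'
      exact hV'W hzV' (subset_closure hzV)
    have haff : IsAffineOpen (V ⊔ V') := hVaff.sup_of_disjoint hV' hdisj
    have hlt : V < V ⊔ V' := by
      refine lt_of_le_of_ne le_sup_left (fun h => ?_)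
      have hyV : y ∈ V := by rw [h]; exact Or.inr hyV'
      exact hy (subset_closure hyV)
    exact hmax (V ⊔ V') ⟨haff, hUV.trans le_sup_left⟩ hlt
  have h1 : IsAffineHom V.ι :=
    Groth.Agent.Lib.Helper29.EffC.isAffineHom_ι_of_inf V (fun V' hV' => hdiag V V' hVaff hV')
  obtain ⟨D, hD, hsupp⟩ := Groth.Agent.Lib.Helper29.EffC.exists_effCartier_compl V hdense
    (fun z _ => by
      have := hreg z
      exact Groth.Agent.Lib.Helper20.RegularUFD.ufd_of_isRegularLocalRing (X.presheaf.stalk z))
  obtain ⟨N, s₀, hN, hgen⟩ :=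
    Groth.Agent.Lib.Helper29.AmpFam.exists_invertible_section_of_effCartier D hD
  have hgV : CohB1.genLocus N s₀ = V := by
    rw [hgen]
    ext z
    show z ∈ ((D.support : Set X))ᶜ ↔ z ∈ (V : Set X)
    rw [hsupp, compl_compl]
  have hg := Groth.Agent.Lib.Helper29.QCoh.genLocus_comp_iso s₀
    (Groth.Agent.Lib.Helper29.QCoh.tensorPowOne N).symm
  rw [Iso.symm_hom] at hg
  refine ⟨N, 1, s₀ ≫ (Groth.Agent.Lib.Helper29.QCoh.tensorPowOne N).inv, hN, le_rfl, ?_, ?_⟩
  · rw [hg, hgV]; exact hUV hxU₀
  · rw [hg, hgV]; exact hVaff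

end Groth.Agent.S4271
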