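import Groth.Statements.S6482
import Mathlib

set_option autoImplicit false
universe u
open CategoryTheory AlgebraicGeometry
open CategoryTheory.Limits
open Cyc

namespace Groth.Agent.S6482

/-- Let f : Y → X be an envelope. Then f_* : Z_k(Y) → Z_k(X) is surjective, hence so is f_* : CH_k(Y) →
CH_k(X). An envelope is a proper, completely decomposed morphism (every point of the target has a
point over it with trivial residue field extension; this prelude's Cyc.IsCompletelyDecomposed). Here
a pair (X, δ) with Cyc.IsSetup plays the role of a scheme locally of finite type over the base (S,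
δ) (X locally Noetherian with universally catenary local rings, δ a dimension function), and
Cyc.DeltaCompat records that the dimension function upstairs is the induced one. -/
theorem result (X Y : Scheme.{u}) (δ : X → ℤ) (δY : Y → ℤ) (hX : Cyc.IsSetup X δ) (hY : Cyc.IsSetup Y δY) (f : Y ⟶ X) [IsProper f] (hcd : Cyc.IsCompletelyDecomposed f) (hδ : Cyc.DeltaCompat f δY δ) (k : ℤ) (α : AlgebraicCycle X ℤ) (hα : α ∈ Cyc.Zk X δ k) : ∃ β : AlgebraicCycle Y ℤ, β ∈ Cyc.Zk Y δY k ∧ AlgebraicCycle.map f δY δ β = α := by
  classical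
  choose σ hσ1 hσ2 using hcd
  -- trivial residue extension at σ x
  have hdeg : ∀ x : X, f.residueDegree (σ x) = 1 ∧ δY (σ x) = δ (f (σ x)) := by
    intro x
    let alg : Algebra (X.residueField (f (σ x))) (Y.residueField (σ x)) :=
      (f.residueFieldMap (σ x)).hom.toAlgebra
    have hsurj : Function.Surjective (algebraMap (X.residueField (f (σ x))) (Y.residueField (σ x))) :=
      hσ2 x
    have hinj : Function.Injective (algebraMap (X.residueField (f (σ x))) (Y.residueField (σ x))) :=
      RingHom.injective _
    constructor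
    · change Module.finrank (X.residueField (f (σ x))) (Y.residueField (σ x)) = 1
      have e : (X.residueField (f (σ x))) ≃ₗ[X.residueField (f (σ x))] (Y.residueField (σ x)) :=
        LinearEquiv.ofBijective (Algebra.linearMap _ _) ⟨hinj, hsurj⟩
      rw [← e.finrank_eq, Module.finrank_self]
    · obtain ⟨n, hn, hδn⟩ := hδ (σ x)
      have halg : Algebra.IsAlgebraic (X.residueField (f (σ x))) (Y.residueField (σ x)) :=
        ⟨fun y => by obtain ⟨z, rfl⟩ := hsurj y; exact isAlgebraic_algebraMap z⟩
      have h0 : Algebra.trdeg (X.residueField (f (σ x))) (Y.residueField (σ x)) = 0 :=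
        trdeg_eq_zero
      have hn0 : n = 0 := by
        have : ((n : ℕ) : Cardinal) = 0 := by rw [← hn]; exact h0
        exact_mod_cast this
      rw [hδn, hn0]; simp
  let βf : Y → ℤ := fun y => if σ (f y) = y then α (f y) else 0
  have hsupp : Function.support βf ⊆ σ '' (Function.support α) := by
    intro y hy
    simp only [Function.mem_support, βf] at hy
    split_ifs at hy with h
    · exact ⟨f y, hy, h⟩
    · exact absurd rfl hy
  have hlf : ∀ y ∈ (Set.univ : Set Y), ∃ t ∈ nhds y, Set.Finite (t ∩ Function.support βf) := by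
    intro y _
    obtain ⟨t, ht, hfin⟩ := α.supportLocallyFiniteWithinDomain' (f y) trivial
    refine ⟨f ⁻¹' t, f.continuous.continuousAt ht, ?_⟩
    refine (hfin.image σ).subset ?_
    rintro y' ⟨hy't, hy's⟩
    obtain ⟨x, hx, rfl⟩ := hsupp hy's
    refine ⟨x, ⟨?_, hx⟩, rfl⟩
    have : f (σ x) ∈ t := hy't
    rwa [hσ1 x] at this
  let β : AlgebraicCycle Y ℤ := ⟨βf, fun _ _ => trivial, hlf⟩
  refine ⟨β, ?_, ?_⟩
  · intro y hy
    change βf y = 0
    simp only [βf]
    split_ifs with h
    · apply hα
      intro hk
      apply hy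
      rw [← h, (hdeg (f y)).2, hσ1, hk]
    · rfl
  · ext x
    simp only [AlgebraicCycle.map, Function.locallyFinsupp.map_apply]
    have h1 : ∑ᶠ y ∈ (f : Y → X) ⁻¹' {x}, β y * ((AlgebraicCycle.mapCoeff f δY δ y : ℕ) : ℤ)
        = ∑ᶠ y ∈ ({σ x} : Set Y), β y * ((AlgebraicCycle.mapCoeff f δY δ y : ℕ) : ℤ) := by
      apply finsum_mem_inter_support_eq
      ext y
      simp only [Set.mem_inter_iff, Set.mem_preimage, Set.mem_singleton_iff, Function.mem_support]
      constructor
      · rintro ⟨hy1, hy2⟩
        refine ⟨?_, hy2⟩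
        have hb : βf y ≠ 0 := fun h => hy2 (by change βf y * _ = 0; rw [h, zero_mul])
        simp only [βf] at hb
        split_ifs at hb with h
        · rw [← h, hy1]
        · exact absurd rfl hb
      · rintro ⟨rfl, hy2⟩
        exact ⟨hσ1 x, hy2⟩
    rw [h1, finsum_mem_singleton]
    change βf (σ x) * _ = _
    have e2 : f.base (σ x) = f (σ x) := rfl
    simp only [βf, AlgebraicCycle.mapCoeff, e2]
    rw [if_pos (by rw [hσ1 x]), if_pos (hdeg x).2, (hdeg x).1, hσ1 x]
    simp

end Groth.Agent.S6482
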