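import Groth.Statements.S6484
import Mathlib

set_option autoImplicit false
universe u
open CategoryTheory AlgebraicGeometry
open CategoryTheory.Limits
open Cyc

namespace Groth.Agent.S6484

open AlgebraicGeometry CategoryTheory Limits in
theorem aux {Z X' : Scheme.{u}} {K : Type u} [Field K] (l : Spec (.of K) ⟶ Z) (p : Z ⟶ X') (x' : X')
    (φ : X'.residueField x' ⟶ .of K) (hφ : Function.Surjective φ.hom)
    (h : l ≫ p = Spec.map φ ≫ X'.fromSpecResidueField x') :
    p (l (IsLocalRing.closedPoint K)) = x' ∧
      Function.Surjective (p.residueFieldMap (l (IsLocalRing.closedPoint K))).hom := by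
  constructor
  · rw [← Scheme.Hom.comp_apply, h, Scheme.Hom.comp_apply]
    exact Scheme.fromSpecResidueField_apply _ _
  · let m := p.residueFieldMap (l (IsLocalRing.closedPoint K))
    let d := Scheme.descResidueField (Scheme.stalkClosedPointTo l)
    have h1 : Spec.map (m ≫ d) ≫ X'.fromSpecResidueField _ =
        Spec.map φ ≫ X'.fromSpecResidueField x' := by
      rw [Spec.map_comp, Category.assoc, Scheme.Hom.SpecMap_residueFieldMap_fromSpecResidueField,
        ← Category.assoc, Scheme.descResidueField_stalkClosedPointTo_fromSpecResidueField, h]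
    have h2 : (⟨_, m ≫ d⟩ : Σ x, X'.residueField x ⟶ .of K) = ⟨x', φ⟩ := by
      apply (Scheme.SpecToEquivOfField K X').symm.injective
      simp only [Scheme.SpecToEquivOfField_symm_apply]
      exact h1
    obtain ⟨e', he'⟩ := Scheme.SpecToEquivOfField_eq_iff.mp h2
    dsimp only at he'
    have hc : Function.Surjective (m ≫ d).hom := by
      rw [he']
      intro z
      obtain ⟨w, hw⟩ := hφ z
      obtain ⟨v, hv⟩ := (ConcreteCategory.bijective_of_isIso (X'.residueFieldCongr e').hom).2 w
      exact ⟨v, by rw [CommRingCat.hom_comp, RingHom.comp_apply]; erw [hv]; exact hw⟩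
    intro z
    obtain ⟨w, hw⟩ := hc (d.hom z)
    exact ⟨w, d.hom.injective hw⟩


/-- If f : Y → X is completely decomposed (this prelude's Cyc.IsCompletelyDecomposed: over every point
of X lies a point of Y with trivial residue field extension) and g : X' → X is any morphism of
schemes, then the base change Y ×_X X' → X' is completely decomposed. Consequently the base change
of an envelope (a proper completely decomposed morphism) is an envelope, properness being preserved
by base change. (The published envelope statement takes X′ → X between schemes locally of finite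
type over a base; this row allows any g.) -/
theorem result (X X' Y : Scheme.{u}) (f : Y ⟶ X) (g : X' ⟶ X) (hcd : Cyc.IsCompletelyDecomposed f) : Cyc.IsCompletelyDecomposed (pullback.snd f g) := by
  intro x'
  obtain ⟨y, hy, hsurj⟩ := hcd (g x')
  have hbij : Function.Bijective (f.residueFieldMap y).hom :=
    ⟨(f.residueFieldMap y).hom.injective, hsurj⟩
  let e : X.residueField (f y) ≃+* Y.residueField y := RingEquiv.ofBijective _ hbij
  let K : Type u := X'.residueField x'
  let φ : X'.residueField x' ⟶ .of K := 𝟙 _
  let ψ : Y.residueField y ⟶ .of K :=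
    CommRingCat.ofHom e.symm.toRingHom ≫ (X.residueFieldCongr hy).hom ≫ g.residueFieldMap x' ≫ φ
  have he : f.residueFieldMap y ≫ CommRingCat.ofHom e.symm.toRingHom = 𝟙 _ := by
    ext z
    exact e.symm_apply_apply z
  let s : Spec (.of K) ⟶ Y := Spec.map ψ ≫ Y.fromSpecResidueField y
  let t : Spec (.of K) ⟶ X' := Spec.map φ ≫ X'.fromSpecResidueField x'
  have hst : s ≫ f = t ≫ g := by
    dsimp only [s, t, ψ]
    rw [Category.assoc, Category.assoc, ← Scheme.Hom.SpecMap_residueFieldMap_fromSpecResidueField,
      ← Scheme.Hom.SpecMap_residueFieldMap_fromSpecResidueField, ← Spec.map_comp_assoc,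
      ← Spec.map_comp_assoc, ← Category.assoc (f.residueFieldMap y), he, Category.id_comp,
      Spec.map_comp, Category.assoc, Scheme.residueFieldCongr_fromSpecResidueField]
  let l : Spec (.of K) ⟶ pullback f g := pullback.lift s t hst
  have hl : l ≫ pullback.snd f g = t := pullback.lift_snd _ _ _
  obtain ⟨h1, h2⟩ := aux l (pullback.snd f g) x' φ (fun z => ⟨z, rfl⟩) hl
  exact ⟨_, h1, h2⟩

end Groth.Agent.S6484
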