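import Groth.Statements.S1384
import Mathlib
import Groth.Agent.Lib.Helper18.FlQ

set_option autoImplicit false
universe u
open FlatMor

namespace Groth.Agent.S1384

open AlgebraicGeometry CategoryTheory Limits in
/-- Let S ⟶ S' be an arbitrary thickening, let X' ⟶ Y' be a morphism of schemes over S' with X' flat and
locally of finite presentation over S' and Y' locally of finite type over S', and let X ⟶ Y be its
base change to S. Then X ⟶ Y is smooth if and only if X' ⟶ Y' is. -/
theorem result {X X' Y Y' S S' : Scheme.{u}} (iX : X ⟶ X') (iY : Y ⟶ Y') (iS : S ⟶ S')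
    (f : X ⟶ Y) (f' : X' ⟶ Y') (g : Y ⟶ S) (g' : Y' ⟶ S')
    (hS : MoreMor.IsThickening iS) (hcX : IsPullback iX (f ≫ g) (f' ≫ g') iS) (hcY : IsPullback iY g g' iS)
    (w : iX ≫ f' = f ≫ iY) [Flat (f' ≫ g')] [LocallyOfFinitePresentation (f' ≫ g')] [LocallyOfFiniteType g'] :
    Smooth f ↔ Smooth f' := by
  have hsq : IsPullback iX f f' iY := IsPullback.of_bot hcX w hcY
  haveI := hS.1
  haveI hiY : IsClosedImmersion iY :=
    MorphismProperty.of_isPullback (P := @IsClosedImmersion) hcY.flip hS.1
  have hsurjY : Surjective iY := MorphismProperty.of_isPullback (P := @Surjective) hcY.flip hS.2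
  haveI hlfp' : LocallyOfFinitePresentation f' :=
    Groth.Agent.Lib.Helper14.AS.locallyOfFinitePresentation_of_comp f' g' inferInstance
      inferInstance
  constructor
  · intro hf
    haveI : Flat f' :=
      Groth.Agent.Lib.Helper18.Fl.flat_of_flat_baseChange_thickening iX iY iS f f' g g' hS.2
        hcX hcY w inferInstance
    refine Smooth.of_smooth_fiberToSpecResidueField f' (fun y' => ?_)
    obtain ⟨y, rfl⟩ := hsurjY.surj y'
    obtain ⟨a, ha⟩ := Groth.Agent.Lib.Helper18.Fl.exists_fromSpecResidueField_factor iY y
    have sq1 := IsPullback.of_hasPullback f a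
    have hsnd : Smooth (pullback.snd f a) := MorphismProperty.of_isPullback sq1 hf
    have sq2 : IsPullback (pullback.fst f a ≫ iX) (pullback.snd f a) f'
        (Y'.fromSpecResidueField (iY y)) := by
      rw [← ha]; exact sq1.paste_horiz hsq
    have e : pullback.snd f' (Y'.fromSpecResidueField (iY y)) =
        sq2.isoPullback.inv ≫ pullback.snd f a := by
      rw [Iso.eq_inv_comp]
      exact sq2.isoPullback_hom_snd
    change Smooth (pullback.snd f' (Y'.fromSpecResidueField (iY y)))
    rw [e]
    infer_instance
  · intro hf'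
    exact MorphismProperty.of_isPullback (P := @Smooth) hsq hf'

end Groth.Agent.S1384
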