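import Groth.Statements.S1314
import Mathlib
import Groth.Agent.Lib.Helper10.Thick2

set_option autoImplicit false
universe u
open FlatMor

namespace Groth.Agent.S1314

open AlgebraicGeometry CategoryTheory Limits in
/-- Let Y ⟶ Y' be a thickening, let X be the base change to Y of a scheme X' over Y', and assume both X
⟶ Y and X' ⟶ Y' are locally of finite type. Then X ⟶ Y is formally unramified if and only if X' ⟶ Y'
is. (The source states this as the vanishing of the sheaf of relative differentials; formal
unramifiedness is the equivalent phrasing available here.) -/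
theorem result {X X' Y Y' : Scheme.{u}} (iX : X ⟶ X') (iY : Y ⟶ Y') (f : X ⟶ Y) (f' : X' ⟶ Y')
    (hY : MoreMor.IsThickening iY) (hc : IsPullback iX f f' iY) [LocallyOfFiniteType f] [LocallyOfFiniteType f'] :
    FormallyUnramified f ↔ FormallyUnramified f' := by
  obtain ⟨hcl, hsurj⟩ := hY
  haveI : IsClosedImmersion iY := hcl
  haveI : Surjective iY := hsurj
  haveI : IsClosedImmersion iX := MorphismProperty.of_isPullback (P := @IsClosedImmersion) hc.flip hcl
  constructor
  · intro hf
    rw [HasRingHomProperty.iff_appLE (P := @FormallyUnramified)]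
    intro U' V' e
    have hpo := Groth.Agent.Lib.Helper10.Thick.isPushout_sections hc U'.2 V'.2 e
    have hφ := Groth.Agent.Lib.Helper10.Thick.appLE_surjective (iY := iY) U'.2
    have hnil := Groth.Agent.Lib.Helper10.Thick.ker_appLE_le_nilradical (iY := iY) U'.2
    have hft : (f'.appLE U'.1 V'.1 e).hom.FiniteType :=
      HasRingHomProperty.appLE (P := @LocallyOfFiniteType) f' inferInstance U' V' e
    have hα : (f.appLE (iY ⁻¹ᵁ U'.1) (iX ⁻¹ᵁ V'.1)
        (Groth.Agent.Lib.Helper10.Thick.preimage_le hc e)).hom.FormallyUnramified :=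
      HasRingHomProperty.appLE (P := @FormallyUnramified) f hf
        ⟨_, U'.2.preimage iY⟩ ⟨_, V'.2.preimage iX⟩ _
    exact Groth.Agent.Lib.Helper10.Thick.formallyUnramified_of_isPushout _ _ _ _ hpo hφ
      (Or.inr ⟨hnil, hft⟩) hα
  · intro hf'
    exact MorphismProperty.of_isPullback (P := @FormallyUnramified) hc hf'

end Groth.Agent.S1314
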