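import Groth.Statements.S10593
import Groth.Agent.Lib.Helper24.ThickChart
import Groth.Agent.S1312
import Groth.Agent.S1314

set_option autoImplicit false
universe u
open CategoryTheory CategoryTheory.Limits AlgebraicGeometry
open AlgSp

namespace Groth.Agent.S10593

open CategoryTheory CategoryTheory.Limits AlgebraicGeometry Opposite AlgSp
open Groth.Agent.Lib.Helper14.AS Groth.Agent.Lib.Helper24.ThickSq


/-- Consider a morphism (f, f') from the thickening X ⊂ X' to the thickening Y ⊂ Y' of algebraic spaces
over S, meaning: i : X ⟶ X' and j : Y ⟶ Y' are thickenings (representable, every base change to a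
scheme a surjective closed immersion) and i ≫ f' = f ≫ j. Assume moreover that the square is
cartesian (X = Y ×_{Y'} X') and that f and f' are locally of finite type. Then f is locally
quasi-finite, resp. unramified, if and only if f' is (etale-local sense, both notions including
locally of finite type). -/
theorem result {S : Scheme.{u}} {X X' Y Y' : AlgSp.Space S} (i : X ⟶ X') (j : Y ⟶ Y')
    (f : X ⟶ Y) (f' : X' ⟶ Y')
    (hi : AlgSp.IsThickMor i.hom)
    (hj : AlgSp.IsThickMor j.hom) (w : i ≫ f' = f ≫ j)
    (hcart : IsPullback i.hom f.hom f'.hom j.hom)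
    (hft : AlgSp.LocP @LocallyOfFiniteType f.hom) (hft' : AlgSp.LocP @LocallyOfFiniteType f'.hom) :
    (AlgSp.LocP (@LocallyQuasiFinite ⊓ @LocallyOfFiniteType) f.hom ↔
      AlgSp.LocP (@LocallyQuasiFinite ⊓ @LocallyOfFiniteType) f'.hom) ∧
    (AlgSp.LocP (@LocallyOfFiniteType ⊓ @FormallyUnramified) f.hom ↔
      AlgSp.LocP (@LocallyOfFiniteType ⊓ @FormallyUnramified) f'.hom) := by
  obtain ⟨U, U', V, V', a, a', b, b', h, h', iU, iV, hae, has, ha'e, ha's, hbe, hbs, hb'e, hb's,
    comm, comm', sq, hiV, hiU, -, -⟩ :=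
    exists_cartesian_chart X'.property Y'.property hi hj hcart
  haveI : LocallyOfFiniteType h.left := hft a b h hae hbe comm
  haveI : LocallyOfFiniteType h'.left := hft' a' b' h' ha'e hb'e comm'
  refine ⟨?_, ?_⟩
  · rw [locP_iff_chart etLocal_lqf_lft f.hom a b h hae has hbe comm,
      locP_iff_chart etLocal_lqf_lft f'.hom a' b' h' ha'e ha's hb'e comm']
    have := Groth.Agent.S1312.result iU.left iV.left h.left h'.left hiV sq
    exact ⟨fun H => ⟨this.1 H.1, inferInstance⟩, fun H => ⟨this.2 H.1, inferInstance⟩⟩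
  · rw [locP_iff_chart etLocal_lft_fu f.hom a b h hae has hbe comm,
      locP_iff_chart etLocal_lft_fu f'.hom a' b' h' ha'e ha's hb'e comm']
    have := Groth.Agent.S1314.result iU.left iV.left h.left h'.left hiV sq
    exact ⟨fun H => ⟨inferInstance, this.1 H.2⟩, fun H => ⟨inferInstance, this.2 H.2⟩⟩

end Groth.Agent.S10593
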