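import Groth.Statements.S1313
import Mathlib
import Groth.Agent.Lib.Helper10.Thick2
import Groth.Agent.S1302
import Groth.Agent.S1305

set_option autoImplicit false
universe u
open FlatMor

namespace Groth.Agent.S1313

namespace Groth.Agent.S1313.Aux

open AlgebraicGeometry CategoryTheory CategoryTheory.Limits TopologicalSpace

theorem appLE_surjective_of_eq {X Y : Scheme.{u}} (g : X ⟶ Y) [IsClosedImmersion g]
    {U : Y.Opens} (hU : IsAffineOpen U) {V : X.Opens} (hV : V = g ⁻¹ᵁ U) (e : V ≤ g ⁻¹ᵁ U) :
    Function.Surjective (g.appLE U V e).hom := by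
  subst hV
  rw [Scheme.Hom.appLE_eq_app]
  exact g.app_surjective U hU

end Groth.Agent.S1313.Aux

open AlgebraicGeometry CategoryTheory Limits in
/-- Let Y ⟶ Y' be a thickening, let X be the base change to Y of a scheme X' over Y', and assume both X
⟶ Y and X' ⟶ Y' are locally of finite type. Then X ⟶ Y is a closed immersion if and only if X' ⟶ Y'
is. -/
theorem result {X X' Y Y' : Scheme.{u}} (iX : X ⟶ X') (iY : Y ⟶ Y') (f : X ⟶ Y) (f' : X' ⟶ Y')
    (hY : MoreMor.IsThickening iY) (hc : IsPullback iX f f' iY) [LocallyOfFiniteType f] [LocallyOfFiniteType f'] :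
    IsClosedImmersion f ↔ IsClosedImmersion f' := by
  have hY' := hY
  obtain ⟨hcl, hsurj⟩ := hY
  haveI : IsClosedImmersion iY := hcl
  haveI : Surjective iY := hsurj
  haveI : IsClosedImmersion iX := MorphismProperty.of_isPullback (P := @IsClosedImmersion) hc.flip hcl
  haveI : Surjective iX := MorphismProperty.of_isPullback (P := @Surjective) hc.flip hsurj
  have hX' : MoreMor.IsThickening iX := ⟨inferInstance, inferInstance⟩
  constructor
  · intro hf
    have haff : IsAffineHom f' :=
      (Groth.Agent.S1302.result iX iY f f' hX' hY' hc.w).mp inferInstance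
    have hint : IsIntegralHom f' :=
      (Groth.Agent.S1305.result iX iY f f' hX' hY' hc.w).mp inferInstance
    have hfin : IsFinite f' :=
      (IsFinite.iff_isIntegralHom_and_locallyOfFiniteType f').mpr ⟨hint, inferInstance⟩
    rw [isClosedImmersion_iff_isAffineHom]
    refine ⟨haff, fun U' hU' => ?_⟩
    have hV' : IsAffineOpen (f' ⁻¹ᵁ U') := hU'.preimage f'
    have hpo := Groth.Agent.Lib.Helper10.Thick.isPushout_sections hc hU' hV' le_rfl
    have hφ := Groth.Agent.Lib.Helper10.Thick.appLE_surjective (iY := iY) hU'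
    have hnil := Groth.Agent.Lib.Helper10.Thick.ker_appLE_le_nilradical (iY := iY) hU'
    have hψ : (f'.appLE U' (f' ⁻¹ᵁ U') le_rfl).hom.Finite := by
      rw [Scheme.Hom.appLE_eq_app]
      exact f'.finite_app U' hU'
    have hα : Function.Surjective (f.appLE (iY ⁻¹ᵁ U') (iX ⁻¹ᵁ (f' ⁻¹ᵁ U'))
        (Groth.Agent.Lib.Helper10.Thick.preimage_le hc le_rfl)).hom := by
      apply Groth.Agent.S1313.Aux.appLE_surjective_of_eq f (hU'.preimage iY)
      rw [← Scheme.Hom.comp_preimage, ← Scheme.Hom.comp_preimage, hc.w]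
    have key : Function.Surjective (f'.appLE U' (f' ⁻¹ᵁ U') le_rfl).hom :=
      Groth.Agent.Lib.Helper10.Thick.surjective_of_isPushout_nil _ _ _ _ hpo hφ hnil hψ hα
    rw [Scheme.Hom.appLE_eq_app] at key
    exact key
  · intro hf'
    exact MorphismProperty.of_isPullback (P := @IsClosedImmersion) hc hf'

end Groth.Agent.S1313
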