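import Groth.Statements.S1316
import Mathlib
import Groth.Agent.S1313

set_option autoImplicit false
universe u
open FlatMor

namespace Groth.Agent.S1316

open AlgebraicGeometry CategoryTheory Limits in
/-- Let Y ⟶ Y' be a thickening, let X be the base change to Y of a scheme X' over Y', and assume both X
⟶ Y and X' ⟶ Y' are locally of finite type. Then X ⟶ Y is an immersion if and only if X' ⟶ Y' is. -/
theorem result {X X' Y Y' : Scheme.{u}} (iX : X ⟶ X') (iY : Y ⟶ Y') (f : X ⟶ Y) (f' : X' ⟶ Y')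
    (hY : MoreMor.IsThickening iY) (hc : IsPullback iX f f' iY) [LocallyOfFiniteType f] [LocallyOfFiniteType f'] :
    IsImmersion f ↔ IsImmersion f' := by
  obtain ⟨hcl, hsurj⟩ := hY
  haveI : IsClosedImmersion iY := hcl
  haveI : Surjective iY := hsurj
  haveI : IsClosedImmersion iX := MorphismProperty.of_isPullback (P := @IsClosedImmersion) hc.flip hcl
  haveI : Surjective iX := MorphismProperty.of_isPullback (P := @Surjective) hc.flip hsurj
  constructor
  · intro hf
    have hcomm : ∀ x, f' (iX x) = iY (f x) := fun x => by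
      rw [← Scheme.Hom.comp_apply, hc.w, Scheme.Hom.comp_apply]
    -- the open V' of Y' corresponding to the coborder of range f
    let V' : Y'.Opens := ⟨(iY '' ((f.coborderRange : Set Y)ᶜ))ᶜ,
      (iY.isClosedEmbedding.isClosedMap _ f.coborderRange.2.isClosed_compl).isOpen_compl⟩
    have hV'mem : ∀ y, iY y ∈ V' ↔ y ∈ f.coborderRange := by
      intro y
      constructor
      · intro hy
        by_contra hny
        exact hy ⟨y, hny, rfl⟩
      · rintro hy ⟨v, hv, hvy⟩
        exact hv (iY.isClosedEmbedding.injective hvy ▸ hy)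
    have hfV : ∀ x, f x ∈ f.coborderRange := fun x => subset_coborder ⟨x, rfl⟩
    -- lifts
    have hr' : Set.range f' ⊆ Set.range V'.ι := by
      rintro _ ⟨x', rfl⟩
      obtain ⟨x, rfl⟩ := iX.surjective x'
      rw [Scheme.Opens.range_ι, hcomm]
      exact (hV'mem _).mpr (hfV x)
    have hr : Set.range f ⊆ Set.range (iY ⁻¹ᵁ V').ι := by
      rintro _ ⟨x, rfl⟩
      rw [Scheme.Opens.range_ι]
      exact (hV'mem _).mpr (hfV x)
    let g' : X' ⟶ V' := IsOpenImmersion.lift V'.ι f' hr'
    let g₀ : X ⟶ (iY ⁻¹ᵁ V' : Y.Opens) := IsOpenImmersion.lift (iY ⁻¹ᵁ V').ι f hr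
    have hg' : g' ≫ V'.ι = f' := IsOpenImmersion.lift_fac _ _ _
    have hg₀ : g₀ ≫ (iY ⁻¹ᵁ V').ι = f := IsOpenImmersion.lift_fac _ _ _
    -- g₀ is a closed immersion
    haveI : IsPreimmersion (g₀ ≫ (iY ⁻¹ᵁ V').ι) := by rw [hg₀]; infer_instance
    haveI : IsPreimmersion g₀ := .of_comp g₀ (iY ⁻¹ᵁ V').ι
    have hclosed : IsClosed (Set.range g₀) := by
      have h1 : Set.range g₀ = (iY ⁻¹ᵁ V').ι ⁻¹' (closure (Set.range f)) := by
        ext w
        constructor
        · rintro ⟨x, rfl⟩
          apply subset_closure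
          refine ⟨x, ?_⟩
          rw [← Scheme.Hom.comp_apply, hg₀]
        · intro hw
          have hw1 : (iY ⁻¹ᵁ V').ι w ∈ f.coborderRange := (hV'mem _).mp w.2
          have hw2 : (iY ⁻¹ᵁ V').ι w ∈ coborder (Set.range f) ∩ closure (Set.range f) :=
            ⟨hw1, hw⟩
          rw [coborder_inter_closure] at hw2
          obtain ⟨x, hx⟩ := hw2
          refine ⟨x, ?_⟩
          apply (iY ⁻¹ᵁ V').ι.isOpenEmbedding.injective
          rw [← Scheme.Hom.comp_apply, hg₀, hx]
      rw [h1]
      exact isClosed_closure.preimage (iY ⁻¹ᵁ V').ι.continuous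
    haveI : IsClosedImmersion g₀ := IsClosedImmersion.of_isPreimmersion g₀ hclosed
    -- the restricted thickening
    have hj : MoreMor.IsThickening (iY ∣_ V') := by
      refine ⟨inferInstance, ⟨fun v => ?_⟩⟩
      obtain ⟨y, hy⟩ := iY.surjective v.1
      have hyV : y ∈ iY ⁻¹ᵁ V' := by
        change iY y ∈ V'
        rw [hy]; exact v.2
      refine ⟨⟨y, hyV⟩, ?_⟩
      apply V'.ι.isOpenEmbedding.injective
      have h3 : ((iY ∣_ V') ≫ V'.ι) ⟨y, hyV⟩ = ((iY ⁻¹ᵁ V').ι ≫ iY) ⟨y, hyV⟩ := by
        rw [morphismRestrict_ι]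
      exact h3.trans hy
    have hbot : IsPullback (iY ∣_ V') (iY ⁻¹ᵁ V').ι V'.ι iY := isPullback_morphismRestrict iY V'
    have hw : iX ≫ g' = g₀ ≫ (iY ∣_ V') := by
      rw [← cancel_mono V'.ι, Category.assoc, Category.assoc, hg', morphismRestrict_ι,
        ← Category.assoc, hg₀, hc.w]
    have htop : IsPullback iX g₀ g' (iY ∣_ V') := by
      refine IsPullback.of_bot ?_ hw hbot
      rw [hg₀, hg']
      exact hc
    haveI : LocallyOfFiniteType g' := by
      haveI : LocallyOfFiniteType (g' ≫ V'.ι) := by rw [hg']; infer_instance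
      exact locallyOfFiniteType_of_comp g' V'.ι
    haveI : IsClosedImmersion g' :=
      (Groth.Agent.S1313.result iX (iY ∣_ V') g₀ g' hj htop).mp inferInstance
    rw [← hg']
    infer_instance
  · intro hf'
    exact MorphismProperty.of_isPullback (P := @IsImmersion) hc hf'

end Groth.Agent.S1316
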