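import Groth.Statements.S10594
import Groth.Agent.Lib.Helper24.ThickFinite
import Groth.Agent.Lib.Helper14.FppfLocal
import Groth.Agent.Lib.Helper14.FppfLocalInst2
import Groth.Agent.S1313
import Groth.Agent.S1316
import Groth.Agent.S1125
import Groth.Agent.S10593

set_option autoImplicit false
universe u
open CategoryTheory CategoryTheory.Limits AlgebraicGeometry
open AlgSp

namespace Groth.Agent.S10594

open CategoryTheory CategoryTheory.Limits AlgebraicGeometry Opposite AlgSp
open Groth.Agent.Lib.Helper14.AS Groth.Agent.Lib.Helper24.ThickSq Groth.Agent.Lib.Helper24.FpqcRep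

set_option backward.isDefEq.respectTransparency.types false in
/-- Transfer of a property fppf local on the target along a cartesian square of thickenings with
`f'` representable. -/
theorem repWith_of_cartesian {S : Scheme.{u}} {P : MorphismProperty Scheme.{u}}
    [P.IsStableUnderBaseChange] [P.IsLocalAtTarget Scheme.fppfPrecoverage]
    (HP : ∀ {A A' B B' : Scheme.{u}} (iA : A ⟶ A') (iB : B ⟶ B') (g : A ⟶ B) (g' : A' ⟶ B'),
      thick iB → IsPullback iA g g' iB → LocallyOfFiniteType g → LocallyOfFiniteType g' →
      P g → P g')
    {X X' Y Y' : Sp S} (hY : IsAlgSpace Y) (hY' : IsAlgSpace Y')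
    {i : X ⟶ X'} {j : Y ⟶ Y'} {f : X ⟶ Y} {f' : X' ⟶ Y'} (hj : IsThickMor j)
    (hcart : IsPullback i f f' j) (hf' : Representable f')
    (hft : LocP @LocallyOfFiniteType f) (hft' : LocP @LocallyOfFiniteType f')
    (h : RepWith P f) : RepWith P f' := by
  obtain ⟨W, W', V, V', c, c', b, b', g, g', iW, iV, hbe, hbs, hb'e, hb's, sq, sq', sqS, hiV⟩ :=
    exists_cartesian_base_chart hY' hj hcart hf'
  haveI := isLocallySurjective_of_etale_surjective b' hb'e hb's
  rw [repWith_iff_of_chart hf' b' sq' P]
  have hg : LocallyOfFiniteType g.left :=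
    (repWith_of_locP_of_representable etLocal_lft hY h.rep hft).property b c g sq
  have hg' : LocallyOfFiniteType g'.left :=
    (repWith_of_locP_of_representable etLocal_lft hY' hf' hft').property b' c' g' sq'
  exact HP iW.left iV.left g.left g'.left hiV sqS hg hg' (h.property b c g sq)


/-- Consider a morphism (f, f') from the thickening X ⊂ X' to the thickening Y ⊂ Y' of algebraic spaces
over S, meaning: i : X ⟶ X' and j : Y ⟶ Y' are thickenings (representable, every base change to a
scheme a surjective closed immersion) and i ≫ f' = f ≫ j. Assume moreover that the square is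
cartesian (X = Y ×_{Y'} X') and that f and f' are locally of finite type. Then f is finite, resp. a
closed immersion, resp. an immersion, resp. proper, if and only if f' is (immersions of algebraic
spaces being the representable ones). -/
theorem result {S : Scheme.{u}} {X X' Y Y' : AlgSp.Space S} (i : X ⟶ X') (j : Y ⟶ Y')
    (f : X ⟶ Y) (f' : X' ⟶ Y')
    (hi : AlgSp.IsThickMor i.hom)
    (hj : AlgSp.IsThickMor j.hom) (w : i ≫ f' = f ≫ j)
    (hcart : IsPullback i.hom f.hom f'.hom j.hom)
    (hft : AlgSp.LocP @LocallyOfFiniteType f.hom) (hft' : AlgSp.LocP @LocallyOfFiniteType f'.hom) :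
    (AlgSp.IsFiniteMor f.hom ↔ AlgSp.IsFiniteMor f'.hom) ∧
    (AlgSp.RepWith @IsClosedImmersion f.hom ↔ AlgSp.RepWith @IsClosedImmersion f'.hom) ∧
    (AlgSp.RepWith @IsImmersion f.hom ↔ AlgSp.RepWith @IsImmersion f'.hom) ∧
    (AlgSp.IsProperMor f.hom ↔ AlgSp.IsProperMor f'.hom) := by
  have w' : i.hom ≫ f'.hom = f.hom ≫ j.hom := by
    have := congrArg (fun k => k.hom) w
    exact this
  -- proper
  have hproper : IsProperMor f.hom ↔ IsProperMor f'.hom := by
    obtain ⟨ii, hii, hii1, hii2⟩ := exists_thick_fibreSquare hi hj w'
    have hXX : IsAlgSpace (pullback f.hom f.hom) :=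
      isAlgSpace_of_isPullback (repDiag_of_isAlgSpace Y.property) X.property X.property
        (IsPullback.of_hasPullback _ _)
    have hXX' : IsAlgSpace (pullback f'.hom f'.hom) :=
      isAlgSpace_of_isPullback (repDiag_of_isAlgSpace Y'.property) X'.property X'.property
        (IsPullback.of_hasPullback _ _)
    have wd : i.hom ≫ pullback.diagonal f'.hom = pullback.diagonal f.hom ≫ ii := by
      apply pullback.hom_ext
      · rw [Category.assoc, Category.assoc, pullback.diagonal_fst, hii1, ← Category.assoc,
          pullback.diagonal_fst, Category.comp_id, Category.id_comp]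
      · rw [Category.assoc, Category.assoc, pullback.diagonal_snd, hii2, ← Category.assoc,
          pullback.diagonal_snd, Category.comp_id, Category.id_comp]
    have h1 : IsSeparatedMor f.hom ↔ IsSeparatedMor f'.hom := by
      rw [isSeparatedMor_iff_isUnivClosedMor_diagonal X.property,
        isSeparatedMor_iff_isUnivClosedMor_diagonal X'.property]
      exact univSp_iff_of_thick homeoInv_isClosedMor X'.property hXX hXX' hi hii wd
    have h2 : IsQuasiCompactMor f.hom ↔ IsQuasiCompactMor f'.hom :=
      isQuasiCompactMor_iff_of_thick X.property X'.property Y.property Y'.property hi hj w'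
    have h3 : IsUnivClosedMor f.hom ↔ IsUnivClosedMor f'.hom :=
      univSp_iff_of_thick homeoInv_isClosedMor X'.property Y.property Y'.property hi hj w'
    unfold IsProperMor IsFiniteTypeMor
    rw [h1, h2, h3]
    exact ⟨fun ⟨a, ⟨_, b⟩, c⟩ => ⟨a, ⟨hft', b⟩, c⟩, fun ⟨a, ⟨_, b⟩, c⟩ => ⟨a, ⟨hft, b⟩, c⟩⟩
  have hlqf := (Groth.Agent.S10593.result i j f f' hi hj w hcart hft hft').1
  have hfinite : IsFiniteMor f.hom ↔ IsFiniteMor f'.hom := by
    rw [isFiniteMor_iff_isProperMor_and_lqf, isFiniteMor_iff_isProperMor_and_lqf, hproper, hlqf]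
  have hsep : IsSeparatedMor f.hom → IsSeparatedMor f'.hom := by
    intro h
    obtain ⟨ii, hii, hii1, hii2⟩ := exists_thick_fibreSquare hi hj w'
    have hXX : IsAlgSpace (pullback f.hom f.hom) :=
      isAlgSpace_of_isPullback (repDiag_of_isAlgSpace Y.property) X.property X.property
        (IsPullback.of_hasPullback _ _)
    have hXX' : IsAlgSpace (pullback f'.hom f'.hom) :=
      isAlgSpace_of_isPullback (repDiag_of_isAlgSpace Y'.property) X'.property X'.property
        (IsPullback.of_hasPullback _ _)
    have wd : i.hom ≫ pullback.diagonal f'.hom = pullback.diagonal f.hom ≫ ii := by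
      apply pullback.hom_ext
      · rw [Category.assoc, Category.assoc, pullback.diagonal_fst, hii1, ← Category.assoc,
          pullback.diagonal_fst, Category.comp_id, Category.id_comp]
      · rw [Category.assoc, Category.assoc, pullback.diagonal_snd, hii2, ← Category.assoc,
          pullback.diagonal_snd, Category.comp_id, Category.id_comp]
    rw [isSeparatedMor_iff_isUnivClosedMor_diagonal X.property] at h
    rw [isSeparatedMor_iff_isUnivClosedMor_diagonal X'.property]
    exact (univSp_iff_of_thick homeoInv_isClosedMor X'.property hXX hXX' hi hii wd).1 h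
  refine ⟨hfinite, ?_, ?_, hproper⟩
  · -- closed immersions
    refine ⟨fun h => ?_, fun h => repWith_of_isPullback _ hcart h⟩
    have hfin : RepWith @IsFinite f.hom :=
      repWith_mono (fun _ _ k (hk : IsClosedImmersion k) => (inferInstance : IsFinite k)) h
    have hfin' : RepWith @IsFinite f'.hom :=
      (integral_finite_iff_repWith f').2.1 (hfinite.1 ((integral_finite_iff_repWith f).2.2 hfin))
    exact repWith_of_cartesian (P := @IsClosedImmersion)
      (fun iA iB g g' hiB sq hg hg' hP =>
        haveI := hg; haveI := hg'
        (Groth.Agent.S1313.result iA iB g g' hiB sq).1 hP)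
      Y.property Y'.property hj hcart hfin'.rep hft hft' h
  · -- immersions
    refine ⟨fun h => ?_, fun h => repWith_of_isPullback _ hcart h⟩
    have hImm := Groth.Agent.S1125.result.{u}
    haveI : MorphismProperty.IsLocalAtTarget (@IsImmersion : MorphismProperty Scheme.{u})
        Scheme.fppfPrecoverage :=
      Groth.Agent.Lib.Helper14.FL.isLocalAtTarget_fppf _
    have hlqf0 : LocP (@LocallyQuasiFinite ⊓ @LocallyOfFiniteType) f.hom :=
      locP_of_repWith etale_le_lqf_lft (repWith_mono
        (fun _ _ k (hk : IsImmersion k) => ⟨(inferInstance : LocallyQuasiFinite k),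
          (inferInstance : LocallyOfFiniteType k)⟩) h)
    have hsep0 : IsSeparatedMor f.hom :=
      (isSeparatedMor_iff_of_representable X.property h.rep).1.2
        (repWith_mono (fun _ _ k (hk : IsImmersion k) => (inferInstance : IsSeparated k)) h)
    have hrep' : Representable f'.hom :=
      Groth.Agent.S10260.core X'.property Y'.property f'.hom (hlqf.1 hlqf0) (hsep hsep0)
    exact repWith_of_cartesian (P := @IsImmersion)
      (fun iA iB g g' hiB sq hg hg' hP =>
        haveI := hg; haveI := hg'
        (Groth.Agent.S1316.result iA iB g g' hiB sq).1 hP)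
      Y.property Y'.property hj hcart hrep' hft hft' h

end Groth.Agent.S10594
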