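import Groth.Statements.S10611
import Groth.Agent.Lib.Helper24.ThickFinite
import Groth.Agent.S10594

set_option autoImplicit false
universe u
open CategoryTheory CategoryTheory.Limits AlgebraicGeometry
open AlgSp

namespace Groth.Agent.S10611

open CategoryTheory CategoryTheory.Limits AlgebraicGeometry Opposite AlgSp
open Groth.Agent.Lib.Helper14.AS Groth.Agent.Lib.Helper24.ThickSq

theorem lfp_le_lft :
    (@LocallyOfFinitePresentation : MorphismProperty Scheme.{u}) ≤ @LocallyOfFiniteType :=
  fun _ _ f (_ : LocallyOfFinitePresentation f) => inferInstance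


/-- Let iB : B ⟶ B' be a thickening of algebraic spaces over S (representable, every base change to a
scheme a surjective closed immersion), f' : X' ⟶ Y' a morphism of algebraic spaces over B' (via g' :
Y' ⟶ B') with Y' locally of finite type over B' and X' flat and locally of finite presentation over
B', and f : X ⟶ Y, g : Y ⟶ B its base change to B (both squares to iB cartesian, iX ≫ f' = f ≫ iY).
Then f is proper if and only if f' is proper, and f is finite if and only if f' is finite. (The
published statement lists nine further properties with the same equivalence: representable by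
schemes, quasi-compact, universally closed, separated, quasi-separated, surjective, universally
injective, affine and universally open. Since iX and iY are again thickenings and X = Y ×_{Y'} X',
those cases follow from the corresponding statements for morphisms of thickenings and are not
restated here.) -/
theorem result {S : Scheme.{u}} {X X' Y Y' B B' : AlgSp.Space S} (iX : X ⟶ X') (iY : Y ⟶ Y') (iB : B ⟶ B')
    (f : X ⟶ Y) (f' : X' ⟶ Y') (g : Y ⟶ B) (g' : Y' ⟶ B')
    (hcX : IsPullback iX.hom (f ≫ g).hom (f' ≫ g').hom iB.hom) (hcY : IsPullback iY.hom g.hom g'.hom iB.hom)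
    (w : iX ≫ f' = f ≫ iY)
    (hB : AlgSp.IsThickMor iB.hom)
    (hg' : AlgSp.LocP @LocallyOfFiniteType g'.hom)
    (hflat : AlgSp.LocP @Flat (f' ≫ g').hom) (hfp : AlgSp.LocP @LocallyOfFinitePresentation (f' ≫ g').hom) :
    (AlgSp.IsProperMor f.hom ↔ AlgSp.IsProperMor f'.hom) ∧
    (AlgSp.IsFiniteMor f.hom ↔ AlgSp.IsFiniteMor f'.hom) := by
  have hiY : IsThickMor iY.hom := repWith_of_isPullback thick hcY.flip hB
  have hiX : IsThickMor iX.hom := repWith_of_isPullback thick hcX.flip hB
  have w' : iX.hom ≫ f'.hom = f.hom ≫ iY.hom := by
    have := congrArg (fun k => k.hom) w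
    exact this
  have hcart : IsPullback iX.hom f.hom f'.hom iY.hom := IsPullback.of_bot hcX w' hcY
  have hft' : LocP @LocallyOfFiniteType f'.hom :=
    locP_lft_of_comp B'.property f'.hom g'.hom
      (fun U V a b h ha hb comm => lfp_le_lft _ _ _ (hfp a b h ha hb comm))
  have hft : LocP @LocallyOfFiniteType f.hom :=
    locP_baseChange etLocal_lft X'.property Y'.property Y.property f'.hom iY.hom iX.hom f.hom
      hcart hft'
  have := Groth.Agent.S10594.result iX iY f f' hiX hiY w hcart hft hft'
  exact ⟨this.2.2.2, this.1⟩

end Groth.Agent.S10611
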