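import Groth.Statements.S2097
import Mathlib.RingTheory.Noetherian.Nilpotent
-- import your own Groth.Agent.* helpers here

set_option autoImplicit false
universe u
open CAlg

namespace Groth.Agent.S2097

/-- Let `R → S` be smooth, `A` an `R`-algebra and `I ⊆ A` an ideal all of whose elements are nilpotent.
Every `R`-algebra map `S → A/I` lifts to an `R`-algebra map `S → A`. -/
theorem result {R S A : Type u} [CommRing R] [CommRing S] [Algebra R S] [Algebra.Smooth R S]
    [CommRing A] [Algebra R A] (I : Ideal A) (hI : ∀ x ∈ I, IsNilpotent x) (g : S →ₐ[R] A ⧸ I) :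
    ∃ f : S →ₐ[R] A, (Ideal.Quotient.mkₐ R I).comp f = g := by
  obtain ⟨n, π, hπ, hK⟩ := (Algebra.Smooth.finitePresentation (R := R) (A := S)).out
  have hsurj := Ideal.Quotient.mk_surjective (I := I)
  choose a ha using fun i => hsurj (g (π (MvPolynomial.X i)))
  let φ : MvPolynomial (Fin n) R →ₐ[R] A := MvPolynomial.aeval a
  have hφ : (Ideal.Quotient.mkₐ R I).comp φ = g.comp π := by
    apply MvPolynomial.algHom_ext
    intro i
    simp [φ, ha]
  have hφ' : ∀ x, Ideal.Quotient.mk I (φ x) = g (π x) := fun x => AlgHom.congr_fun hφ x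
  let I' : Ideal A := (RingHom.ker π.toRingHom).map φ.toRingHom
  have hI'I : I' ≤ I := by
    rw [Ideal.map_le_iff_le_comap]
    intro x hx
    rw [Ideal.mem_comap, ← Ideal.Quotient.eq_zero_iff_mem]
    have hx' : π x = 0 := hx
    change Ideal.Quotient.mk I (φ x) = 0
    rw [hφ', hx', map_zero]
  have hI'fg : I'.FG := hK.map _
  have hI'nil : IsNilpotent I' :=
    (Ideal.FG.isNilpotent_iff_le_nilradical hI'fg).mpr (fun x hx => hI x (hI'I hx))
  have hker : RingHom.ker π.toRingHom ≤ RingHom.ker ((Ideal.Quotient.mkₐ R I').comp φ).toRingHom := by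
    intro x hx
    rw [RingHom.mem_ker]
    change Ideal.Quotient.mk I' (φ x) = 0
    rw [Ideal.Quotient.eq_zero_iff_mem]
    exact Ideal.mem_map_of_mem _ hx
  let g' : S →ₐ[R] A ⧸ I' := AlgHom.liftOfSurjective π hπ ((Ideal.Quotient.mkₐ R I').comp φ) hker
  obtain ⟨f, hf⟩ := Algebra.FormallySmooth.exists_lift I' hI'nil g'
  refine ⟨f, ?_⟩
  ext s
  obtain ⟨x, rfl⟩ := hπ s
  have h1 : Ideal.Quotient.mk I' (f (π x)) = Ideal.Quotient.mk I' (φ x) := by
    have := AlgHom.congr_fun hf (π x)
    simp only [g', AlgHom.liftOfSurjective_apply] at this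
    exact this
  rw [Ideal.Quotient.eq] at h1
  have h2 : Ideal.Quotient.mk I (f (π x)) = Ideal.Quotient.mk I (φ x) := by
    rw [Ideal.Quotient.eq]
    exact hI'I h1
  change Ideal.Quotient.mk I (f (π x)) = g (π x)
  rw [h2, hφ']

end Groth.Agent.S2097
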