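import Groth.Statements.S16455
import Groth.Agent.Lib.Helper21.AssocGrLib4
-- import your own Groth.Agent.* helpers here

set_option autoImplicit false
universe u
open EGA4

namespace Groth.Agent.S16455

open AssocGr Groth.Agent.Lib.Helper21.AG DirectSum

section
variable (A : Type u) [CommRing A] (I : Ideal A) (M : Type u) [AddCommGroup M] [Module A M]

/-- the `n`-th piece `IⁿM / I·IⁿM` -/
abbrev P (n : ℕ) : Type u :=
  ↥(I ^ n • (⊤ : Submodule A M)) ⧸ (I • (⊤ : Submodule A ↥(I ^ n • (⊤ : Submodule A M))))

/-- the identity `IⁿM → (powFilt I M).N n` -/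
noncomputable def cst (n : ℕ) : ↥(I ^ n • (⊤ : Submodule A M)) →ₗ[A] ↥((Rees.powFilt I M).N n) :=
  Submodule.inclusion (le_of_eq rfl)

theorem coe_cst (n : ℕ) (x : ↥(I ^ n • (⊤ : Submodule A M))) : ((cst A I M n x : ↥((Rees.powFilt I M).N n)) : M) = x :=
  rfl

theorem cst_surjective (n : ℕ) : Function.Surjective (cst A I M n) := fun y => ⟨⟨y.1, y.2⟩, rfl⟩

theorem smul_top_le_ker (n : ℕ) :
    (I • (⊤ : Submodule A ↥(I ^ n • (⊤ : Submodule A M)))) ≤
      LinearMap.ker ((inDegML (Rees.powFilt I M) n).comp (cst A I M n)) := by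
  rw [Submodule.smul_le]
  intro a ha x _
  rw [LinearMap.mem_ker, LinearMap.comp_apply, inDegML_eq_zero_iff]
  exact (Rees.powFilt I M).smul_le n (Submodule.smul_mem_smul ha x.2)

noncomputable def jbar (n : ℕ) : P A I M n →ₗ[A] GrMod (Rees.powFilt I M) :=
  Submodule.liftQ _ ((inDegML (Rees.powFilt I M) n).comp (cst A I M n)) (smul_top_le_ker A I M n)

theorem jbar_mk (n : ℕ) (x : ↥(I ^ n • (⊤ : Submodule A M))) :
    jbar A I M n (Submodule.Quotient.mk x) = inDegML (Rees.powFilt I M) n (cst A I M n x) := rfl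

theorem mk_eq_zero_of_mem (n : ℕ) (x : ↥(I ^ n • (⊤ : Submodule A M)))
    (hx : (x : M) ∈ (Rees.powFilt I M).N (n + 1)) :
    (Submodule.Quotient.mk x : P A I M n) = 0 := by
  rw [Submodule.Quotient.mk_eq_zero, Submodule.mem_smul_top_iff]
  change (x : M) ∈ I ^ (n + 1) • (⊤ : Submodule A M) at hx
  rwa [pow_succ', mul_smul] at hx

noncomputable def J : (⨁ n, P A I M n) →ₗ[A] GrMod (Rees.powFilt I M) :=
  DirectSum.toModule A ℕ _ (jbar A I M)

theorem J_of (n : ℕ) (p : P A I M n) : J A I M (DirectSum.of (P A I M) n p) = jbar A I M n p := by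
  rw [← DirectSum.lof_eq_of A, J, DirectSum.toModule_lof]

theorem J_injective : Function.Injective (J A I M) := by
  classical
  rw [injective_iff_map_eq_zero]
  intro z hz
  choose x hx using fun n => Submodule.Quotient.mk_surjective _ (z n)
  have h1 : J A I M z = ∑ n ∈ DFinsupp.support z,
      inDegML (Rees.powFilt I M) n (cst A I M n (x n)) := by
    conv_lhs => rw [← DirectSum.sum_support_of z, map_sum]
    refine Finset.sum_congr rfl fun n _ => ?_
    rw [J_of, ← hx n, jbar_mk]
  rw [hz] at h1
  have h2 := sum_inDegML_eq_zero (Rees.powFilt I M) _ (fun n => cst A I M n (x n)) h1.symm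
  refine DFinsupp.ext fun n => ?_
  by_cases hn : n ∈ DFinsupp.support z
  · rw [← hx n]
    exact mk_eq_zero_of_mem A I M n (x n) (h2 n hn)
  · rw [DFinsupp.notMem_support_iff] at hn
    rw [hn]
    rfl

theorem J_surjective : Function.Surjective (J A I M) := by
  classical
  intro y
  obtain ⟨s, x, rfl⟩ := exists_sum_inDegML (Rees.powFilt I M) y
  choose x' hx' using fun n => cst_surjective A I M n (x n)
  refine ⟨∑ n ∈ s, DirectSum.of (P A I M) n (Submodule.Quotient.mk (x' n)), ?_⟩
  rw [map_sum]
  refine Finset.sum_congr rfl fun n _ => ?_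
  rw [J_of, jbar_mk, hx']

noncomputable def eJ : (⨁ n, P A I M n) ≃ₗ[A ⧸ I] GrMod (Rees.powFilt I M) :=
  (LinearEquiv.ofBijective (J A I M) ⟨J_injective A I M, J_surjective A I M⟩).extendScalarsOfSurjective
    Ideal.Quotient.mk_surjective

end

/-- For a commutative ring A, an ideal I of A and an A-module M, the following are equivalent: every
quotient IⁿM/Iⁿ⁺¹M (n ≥ 0) is a flat A/I-module; the associated graded module gr_I(M) = ⊕ₙ
IⁿM/Iⁿ⁺¹M, as one module over A/I, is flat. Either condition says that M is normally flat along I.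
(The source defines normal flatness for a coherent module on a locally Noetherian scheme through the
second condition and notes it amounts to the first; the equivalence holds for every ring and
module.) -/
theorem result (A : Type u) [CommRing A] (I : Ideal A) (M : Type u)
    [AddCommGroup M] [Module A M] :
    EGA4.IsNormallyFlat I M ↔ Module.Flat (A ⧸ I) (AssocGr.GrMod (Rees.powFilt I M)) := by
  rw [← Module.Flat.equiv_iff (eJ A I M), Module.Flat.directSum_iff]
  rfl

end Groth.Agent.S16455
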