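import Groth.Statements.S1868
import Mathlib
import Groth.Agent.Lib.Helper18.FF4
import Groth.Agent.Lib.Helper18.TopDim

set_option autoImplicit false
universe u
open CategoryTheory AlgebraicGeometry
open Cyc

namespace Groth.Agent.S1868

/-- Let f : X → Y be finite locally free of constant degree d (finite, flat, rank function constantly
d). Then f has relative dimension 0 and for every k-cycle α on Y, f_*(f^*α) = d·α (for any cycle
f^*α on X with the flat-pullback coefficients). Here a pair (X, δ) with Cyc.IsSetup plays the role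
of a scheme locally of finite type over a fixed base with a dimension function (X locally Noetherian
with universally catenary local rings, δ a dimension function), and Cyc.DeltaCompat records that the
dimension function upstairs is the induced one. -/
theorem result (X Y : Scheme.{u}) (δX : X → ℤ) (δY : Y → ℤ) (hX : Cyc.IsSetup X δX) (hY : Cyc.IsSetup Y δY) (f : X ⟶ Y) [IsFinite f] [Flat f] (d : ℕ) (hd : ∀ y : Y, f.finrank y = d) (hδ : Cyc.DeltaCompat f δX δY) (k : ℤ) : Cyc.HasRelDim f 0 ∧ ∀ (α : AlgebraicCycle Y ℤ), α ∈ Cyc.Zk Y δY k → ∀ α' : AlgebraicCycle X ℤ, ⇑α' = Cyc.pullFun f δX δY 0 ⇑α → AlgebraicCycle.map f δX δY α' = d • α := by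
  refine ⟨?_, ?_⟩
  · -- relative dimension zero
    intro y T hT
    haveI : DiscreteTopology ↥(f.fiber y) := inferInstance
    haveI : Nonempty ↥T := hT.1.nonempty.to_subtype
    exact le_antisymm (topologicalKrullDim_zero_of_discreteTopology ↥T)
      Groth.Agent.Lib.Helper18.TopDim.zero_le_topologicalKrullDim
  · intro α _ α' hα'
    ext y
    simp only [AlgebraicCycle.map, Function.locallyFinsupp.map_apply]
    have hfin : (f ⁻¹' {y}).Finite := f.finite_preimage_singleton y
    have hterm : ∀ x ∈ f ⁻¹' {y}, α' x * ((AlgebraicCycle.mapCoeff f δX δY x : ℕ) : ℤ) =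
        α y * (((Groth.Agent.Lib.Helper18.FF3.fibLenAt f x).toNat : ℕ) : ℤ) := by
      intro x hx
      have hxy : f x = y := hx
      subst hxy
      rw [Groth.Agent.Lib.Helper18.FF4.mapCoeff_eq_residueDegree f δX δY hδ x, hα',
        Groth.Agent.Lib.Helper18.FF3.toNat_fibLenAt]
      unfold Cyc.pullFun
      by_cases h : δX x = δY (f x) + 0
      · rw [if_pos h]
        push_cast
        ring
      · rw [if_neg h, Groth.Agent.Lib.Helper18.FF4.residueDegree_eq_zero_of_ne f δX δY hδ x
          (by simpa using h)]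
        simp
    rw [finsum_mem_congr rfl hterm, ← mul_finsum_mem]
    have hG := Groth.Agent.Lib.Helper18.FF3.finsum_fibLenAt f y
    have hcast : ∑ᶠ x ∈ f ⁻¹' {y}, (((Groth.Agent.Lib.Helper18.FF3.fibLenAt f x).toNat : ℕ) : ℤ) =
        ((∑ᶠ x ∈ {g : X | f g = y}, (Groth.Agent.Lib.Helper18.FF3.fibLenAt f x).toNat : ℕ) : ℤ) :=
      ((Nat.castAddMonoidHom ℤ).map_finsum_mem _ hfin).symm
    rw [hcast, hG, hd y]
    simp [mul_comm]

end Groth.Agent.S1868
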