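import Groth.Statements.S10975
-- import your own Groth.Agent.* helpers here

set_option autoImplicit false
open FunFld

namespace Groth.Agent.S10975

/-- `A(D₁ ⊔ D₂) = A(D₁) + A(D₂)` for divisors of a function field of one variable. -/
theorem result (k K : Type*) [Field k] [Field K] [Algebra k K] (D₁ D₂ : FunFld.Divisor k K) :
    FunFld.AD (D₁ ⊔ D₂) = FunFld.AD D₁ ⊔ FunFld.AD D₂ := by
  classical
  apply le_antisymm
  · intro a ha
    have ha' : ∀ P : Place k K, P.1 (a P) ≤ WithZero.exp ((D₁ ⊔ D₂) P) := ha
    let b : Place k K → K := fun P => if P.1 (a P) ≤ WithZero.exp (D₁ P) then a P else 0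
    have hb : b ∈ AD D₁ := by
      intro P
      simp only [b]
      split_ifs with h
      · exact h
      · simp
    have hc : a - b ∈ AD D₂ := by
      intro P
      simp only [b, Pi.sub_apply]
      split_ifs with h
      · simp
      · rw [sub_zero]
        have h1 := ha' P
        rw [Finsupp.sup_apply] at h1
        rcases le_total (D₁ P) (D₂ P) with h2 | h2
        · rwa [sup_eq_right.2 h2] at h1
        · rw [sup_eq_left.2 h2] at h1
          exact absurd h1 h
    have : a = b + (a - b) := by abel
    rw [this]
    exact Submodule.add_mem_sup hb hc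
  · apply sup_le
    · intro a ha P
      refine (ha P).trans ?_
      rw [WithZero.exp_le_exp, Finsupp.sup_apply]
      exact le_sup_left
    · intro a ha P
      refine (ha P).trans ?_
      rw [WithZero.exp_le_exp, Finsupp.sup_apply]
      exact le_sup_right

end Groth.Agent.S10975
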