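import Groth.Statements.S10986
-- import your own Groth.Agent.* helpers here

set_option autoImplicit false
open FunFld

namespace Groth.Agent.S10986

/-- `L(D) · W(C) ⊆ W(C - D)`: if `x ∈ L(D)` and `ω` vanishes on `A(C) + K` then `xω` vanishes on `A(C -
D) + K`. -/
theorem result (k K : Type*) [Field k] [Field K] [Algebra k K]
    (C D : FunFld.Divisor k K) (x : K) (hxD : x ∈ FunFld.L D)
    (hx : ∀ a ∈ FunFld.adele k K, x • a ∈ FunFld.adele k K)
    (ω : Module.Dual k (FunFld.adele k K)) (hω : ω ∈ FunFld.WD C) :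
    FunFld.mulW x hx ω ∈ FunFld.WD (C - D) := by
  rw [WD, Submodule.mem_dualAnnihilator] at hω ⊢
  intro a ha
  have ha' : (a : Place k K → K) ∈ AD (C - D) ⊔ LinearMap.range (diag k K) := ha
  obtain ⟨b, hb, c, ⟨y, rfl⟩, hbc⟩ := Submodule.mem_sup.1 ha'
  have key : x • (a : Place k K → K) ∈ AD C ⊔ LinearMap.range (diag k K) := by
    rw [← hbc, smul_add]
    refine Submodule.add_mem_sup ?_ ?_
    · intro P
      have h1 : P.1 ((x • b) P) = P.1 x * P.1 (b P) := by
        rw [Pi.smul_apply, smul_eq_mul, map_mul]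
      rw [h1]
      have h2 : WithZero.exp (C P) = WithZero.exp (D P) * WithZero.exp ((C - D) P) := by
        rw [← WithZero.exp_add, Finsupp.sub_apply]; congr 1; ring
      rw [h2]
      exact mul_le_mul' (hxD P) (hb P)
    · refine ⟨x * y, ?_⟩
      ext P
      simp [diag]
  have := hω ⟨x • (a : Place k K → K), hx _ a.2⟩ key
  convert this using 1
  simp only [mulW, LinearMap.comp_apply]
  congr 1

end Groth.Agent.S10986
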