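import Groth.Statements.S0481
import Mathlib

set_option autoImplicit false
universe v u
open CategoryTheory
open CohDer

namespace Groth.Agent.S0481

open CategoryTheory.Limits in
theorem acyclic_map_of_exact {A : Type u} [Category.{v} A] [Abelian A]
    {B : Type u} [Category.{v} B] [Abelian B] (w : B ⥤ A) [w.Additive]
    [PreservesFiniteLimits w] [PreservesFiniteColimits w]
    (K : CochainComplex B ℤ) (hK : K.Acyclic) :
    ((w.mapHomologicalComplex (ComplexShape.up ℤ)).obj K).Acyclic := by
  intro i
  have h := (hK i)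
  have : (K.sc i).Exact := h
  exact this.map w

open CategoryTheory.Limits in
/-- Let u : A ⥤ B be right adjoint to an exact additive functor w : B ⥤ A between abelian categories.
Then u applied termwise sends K-injective complexes to K-injective complexes. -/
theorem result {A : Type u} [Category.{v} A] [Abelian A]
    {B : Type u} [Category.{v} B] [Abelian B] (u : A ⥤ B) (w : B ⥤ A) (adj : w ⊣ u)
    [u.Additive] [w.Additive] [PreservesFiniteLimits w] [PreservesFiniteColimits w]
    (I : CochainComplex A ℤ) (h : I.IsKInjective) :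
    CochainComplex.IsKInjective ((u.mapHomologicalComplex (ComplexShape.up ℤ)).obj I) := by
  refine ⟨fun {K} f hK => ?_⟩
  let g : ∀ n, K.X n ⟶ u.obj (I.X n) := fun n => f.f n
  have hg : ∀ i j, g i ≫ u.map (I.d i j) = K.d i j ≫ g j := fun i j => f.comm i j
  -- the adjoint morphism
  let f' : (w.mapHomologicalComplex (ComplexShape.up ℤ)).obj K ⟶ I :=
    { f := fun n => (adj.homEquiv (K.X n) (I.X n)).symm (g n)
      comm' := fun i j _ => by
        change (adj.homEquiv (K.X i) (I.X i)).symm (g i) ≫ I.d i j =
          w.map (K.d i j) ≫ (adj.homEquiv (K.X j) (I.X j)).symm (g j)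
        rw [← adj.homEquiv_naturality_left_symm, ← adj.homEquiv_naturality_right_symm, hg] }
  have hK' := acyclic_map_of_exact w K hK
  obtain ⟨H⟩ := h.nonempty_homotopy_zero f' hK'
  let Hh : ∀ i j, w.obj (K.X i) ⟶ I.X j := fun i j => H.hom i j
  have hc : ∀ i, (adj.homEquiv (K.X i) (I.X i)).symm (g i) =
      w.map (K.d i (i + 1)) ≫ Hh (i + 1) i + Hh i (i - 1) ≫ I.d (i - 1) i := by
    intro i
    have hc := H.comm i
    rw [dNext_eq _ (show (ComplexShape.up ℤ).Rel i (i + 1) from rfl),
      prevD_eq _ (show (ComplexShape.up ℤ).Rel (i - 1) i by simp)] at hc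
    simp only [HomologicalComplex.zero_f, add_zero] at hc
    exact hc
  refine ⟨{ hom := fun i j => (adj.homEquiv _ _ (Hh i j) :
                K.X i ⟶ ((u.mapHomologicalComplex (ComplexShape.up ℤ)).obj I).X j)
            zero := fun i j hij => ?_
            comm := fun i => ?_ }⟩
  · change adj.homEquiv _ _ (H.hom i j) = 0
    rw [H.zero i j hij]
    exact (adj.homAddEquiv _ _).map_zero
  · erw [dNext_eq _ (show (ComplexShape.up ℤ).Rel i (i + 1) from rfl),
      prevD_eq _ (show (ComplexShape.up ℤ).Rel (i - 1) i by simp)]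
    simp only [HomologicalComplex.zero_f, add_zero]
    change g i = K.d i (i + 1) ≫ adj.homEquiv _ _ (Hh (i + 1) i) +
        adj.homEquiv _ _ (Hh i (i - 1)) ≫ u.map (I.d (i - 1) i)
    have e1 : g i = adj.homEquiv _ _ ((adj.homEquiv (K.X i) (I.X i)).symm (g i)) :=
      ((adj.homEquiv _ _).apply_symm_apply (g i)).symm
    rw [e1, hc i, ← adj.homAddEquiv_apply, map_add, adj.homAddEquiv_apply, adj.homAddEquiv_apply,
      adj.homEquiv_naturality_left, adj.homEquiv_naturality_right]

end Groth.Agent.S0481
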