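import Groth.Statements.S0016
import Mathlib
import Groth.Agent.Lib.Helper8.MVVanish
import Groth.Agent.Lib.Helper8.QcqsInduction
import Groth.Agent.Lib.Helper22.Cech.SchemeLeray

set_option autoImplicit false
universe u
open Coherent

open AlgebraicGeometry

namespace S0016aux
open AlgebraicGeometry CategoryTheory TopologicalSpace
open Groth.Agent.Lib.Helper8 Groth.Agent.Lib.Helper22.Cech

theorem main (X : Scheme.{u}) [CompactSpace X] [QuasiSeparatedSpace X] :
    ∃ d : ℕ, ∀ (M : X.Modules), Coh.IsQCoh M → ∀ p : ℕ, d ≤ p → Subsingleton (Coh.HH X M p) := by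
  let P : X.Opens → Prop := fun U => ∃ d : ℕ, ∀ (M : X.Modules), Coh.IsQCoh M → ∀ p : ℕ, d ≤ p →
    Subsingleton (CohTop.HU (X := X.carrier) (Coh.toAb M) p U)
  have hP : P ⊤ := by
    apply QcqsInduction.main X P
    · intro U hU
      refine ⟨1, fun M hM p hp => ?_⟩
      obtain ⟨q, rfl⟩ : ∃ q, p = q + 1 := ⟨p - 1, by omega⟩
      have : M.IsQuasicoherent := hM
      exact subsingleton_HU_succ_of_isAffineOpen X M U hU q
    · intro U V _ _ ⟨dU, hdU⟩ ⟨dV, hdV⟩ ⟨dUV, hdUV⟩
      refine ⟨max (max dU dV) (dUV + 1), fun M hM p hp => ?_⟩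
      obtain ⟨q, rfl⟩ : ∃ q, p = q + 1 := ⟨p - 1, by omega⟩
      apply MVVanish.subsingleton_HU_sup (X := X.carrier)
      · exact hdUV M hM q (by omega)
      · exact hdU M hM _ (by omega)
      · exact hdV M hM _ (by omega)
    · exact isCompact_univ
  obtain ⟨d, hd⟩ := hP
  refine ⟨d, fun M hM p hp => ?_⟩
  obtain ⟨e⟩ := nonempty_HU_top_addEquiv_H (X := X.carrier) (Coh.toAb M) p
  have := hd M hM p hp
  exact e.symm.toEquiv.subsingleton

end S0016aux

namespace Groth.Agent.S0016

open AlgebraicGeometry in
/-- For a quasi-compact quasi-separated scheme X there is a natural number d such that H^p(X, F) = 0 for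
every quasi-coherent F and every p ≥ d; vanishing is stated as Subsingleton of the cohomology group.
(The published statement gives an explicit d in terms of a covering by quasi-compact separated
opens; here only existence of some d is asserted.) -/
theorem result (X : Scheme.{u}) [CompactSpace X]
    [QuasiSeparatedSpace X] :
    ∃ d : ℕ, ∀ (M : X.Modules), Coh.IsQCoh M → ∀ p : ℕ, d ≤ p → Subsingleton (Coh.HH X M p) := by
  exact S0016aux.main X

end Groth.Agent.S0016
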