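import Groth.Statements.S1524
import Groth.Agent.S0002
import Groth.Agent.S0016
import Groth.Agent.Lib.Lead.LinLES.Basic
import Groth.Agent.Lib.Helper2.CohEuler.Length

set_option autoImplicit false
universe u
open CategoryTheory CategoryTheory.Limits AlgebraicGeometry
open Variety

namespace Groth.Agent.S1524

/-- If three coherent modules on a proper scheme over a field form a short exact sequence, the Euler
characteristic of the middle one is the sum of those of the two outer ones. -/
theorem result (k : Type u) [Field k] (X : Scheme.{u}) [X.Over (Spec (CommRingCat.of k))] [IsProper (X ↘ (Spec (CommRingCat.of k)))]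
    (S : ShortComplex X.Modules) (hS : S.ShortExact)
    (h₁ : Coh.IsCoh S.X₁) (h₂ : Coh.IsCoh S.X₂) (h₃ : Coh.IsCoh S.X₃) :
    Curv2.euler k X S.X₂ = Curv2.euler k X S.X₁ + Curv2.euler k X S.X₃ := by
  haveI : IsLocallyNoetherian X :=
    LocallyOfFiniteType.isLocallyNoetherian (X ↘ Spec (CommRingCat.of k))
  haveI : CompactSpace X := by
    have : QuasiCompact (X ↘ Spec (CommRingCat.of k)) := inferInstance
    exact (quasiCompact_iff_compactSpace (X ↘ Spec (CommRingCat.of k))).mp this
  obtain ⟨d, hd⟩ := Groth.Agent.S0016.result X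
  have hfin : ∀ (M : X.Modules), Coh.IsCoh M → ∀ q, Module.Finite k (Coh.HH X M q) :=
    fun M hM q => Groth.Agent.S0002.result k X M hM q
  have heul : ∀ M : X.Modules, Coh.IsCoh M → Curv2.euler k X M =
      ∑ i ∈ Finset.range (d + 1),
        (-1 : ℤ) ^ i * (Groth.Agent.Lib.Helper2.CohEuler.ℓ k (Coh.HH X M i) : ℤ) := by
    intro M hM
    unfold Curv2.euler
    rw [finsum_eq_sum_of_support_subset (s := Finset.range (d + 1))]
    · refine Finset.sum_congr rfl (fun i _ => ?_)
      have := hfin M hM i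
      unfold Groth.Agent.Lib.Helper2.CohEuler.ℓ
      rw [Module.length_eq_finrank, ENat.toNat_coe]
    · intro i hi
      by_contra hni
      apply hi
      have hdi : d ≤ i := by
        have : ¬ i < d + 1 := fun h => hni (Finset.mem_coe.mpr (Finset.mem_range.mpr h))
        omega
      have := hd M hM.1 i hdi
      change (-1 : ℤ) ^ i * (Module.finrank k (Coh.HH X M i) : ℤ) = 0
      rw [Module.finrank_zero_of_subsingleton]
      simp
  have hN1 : ∀ (M : X.Modules), Coh.IsCoh M → ∀ q, IsNoetherian k (Coh.HH X M q) := by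
    intro M hM q
    have := hfin M hM q
    exact isNoetherian_of_isNoetherianRing_of_finite k _
  have hA1 : ∀ (M : X.Modules), Coh.IsCoh M → ∀ q, IsArtinian k (Coh.HH X M q) := by
    intro M hM q
    have := hfin M hM q
    exact isArtinian_of_fg_of_artinian'
  have : ∀ i, IsNoetherian k (Coh.HH X S.X₁ i) := hN1 _ h₁
  have : ∀ i, IsNoetherian k (Coh.HH X S.X₂ i) := hN1 _ h₂
  have : ∀ i, IsNoetherian k (Coh.HH X S.X₃ i) := hN1 _ h₃
  have : ∀ i, IsArtinian k (Coh.HH X S.X₁ i) := hA1 _ h₁
  have : ∀ i, IsArtinian k (Coh.HH X S.X₂ i) := hA1 _ h₂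
  have : ∀ i, IsArtinian k (Coh.HH X S.X₃ i) := hA1 _ h₃
  have h₀ : Function.Injective (Canon.HHlin k S.f 0) := by
    have : CategoryTheory.Mono (Groth.Agent.Lib.Lead.LinLES.abMap S.f) :=
      (Groth.Agent.Lib.Lead.LinLES.abS_shortExact S hS).mono_f
    exact CategoryTheory.Abelian.Ext.postcomp_mk₀_injective_of_mono _
      (Groth.Agent.Lib.Lead.LinLES.abMap S.f)
  rw [heul _ h₁, heul _ h₂, heul _ h₃]
  exact Groth.Agent.Lib.Helper2.CohEuler.euler_additive
    (fun i => Coh.HH X S.X₁ i) (fun i => Coh.HH X S.X₂ i) (fun i => Coh.HH X S.X₃ i)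
    (fun i => Canon.HHlin k S.f i) (fun i => Canon.HHlin k S.g i)
    (fun i => Groth.Agent.Lib.Lead.LinLES.δlin k S hS i)
    (fun i => Groth.Agent.Lib.Lead.LinLES.exact₂ k S hS i)
    (fun i => Groth.Agent.Lib.Lead.LinLES.exact₃ k S hS i)
    (fun i => Groth.Agent.Lib.Lead.LinLES.exact₁ k S hS i) h₀ d (hd _ h₁.1 (d + 1) (by omega))

end Groth.Agent.S1524
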