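import Groth.Statements.S12579
import Mathlib
import Groth.Agent.Lib.Helper2.Tate.T9

set_option autoImplicit false
universe u v w
open FunFld

namespace Groth.Agent.S12579
open Groth.Agent.Lib.Helper2

/-- For a function field of one variable `K/k` and `u, v ∈ K`, the local residues `Res_P(u dv)` vanish
for almost all places `P` and `∑_P Res_P(u dv) = 0`; stated through Laurent expansions over `k` at
every place (so for function fields all of whose places are separable), the residue at `P` being the
trace to `k` of the coefficient of `X⁻¹`. -/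
theorem result (k : Type u) (K : Type v) [Field k] [Field K] [Algebra k K] (hK : FunFld.IsFunctionField k K)
    (F : FunFld.Place k K → Type w) [∀ P, Field (F P)] [∀ P, Algebra k (F P)] [∀ P, FiniteDimensional k (F P)]
    (φ : ∀ P, K →ₐ[k] LaurentSeries (F P)) (hφ : ∀ P, LocRes.IsExpansionAt P.1 (φ P))
    (u v : K) :
    (Function.support fun P => LocRes.locRes (φ P) u v).Finite ∧ ∑ᶠ P, LocRes.locRes (φ P) u v = 0 := by
  classical
  have hOP : ∀ P : FunFld.Place k K, (Tate.Fil k (F := F P) 0).comap (Tate.phiL (φ P)) = Tate.OP P := by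
    intro P
    ext x
    rw [Tate.comap_phiL_Fil (hφ P)]
    rfl
  have hE : ∀ (P : FunFld.Place k K) (x : K), Tate.mulK k x ∈ Tate.EE (Tate.OP P) := by
    intro P x
    rw [← hOP P]
    exact (Tate.res_eq_locRes (hφ P) x x).1
  have hloc : ∀ P : FunFld.Place k K,
      Tate.res (Tate.OP P) (Tate.mulK k u) (Tate.mulK k v) = LocRes.locRes (φ P) u v := by
    intro P
    rw [← hOP P]
    exact (Tate.res_eq_locRes (hφ P) u v).2
  have hfin : {P : FunFld.Place k K | ¬ (P.1 u ≤ 1 ∧ P.1 v ≤ 1)}.Finite := by
    refine ((FF.finite_not_le_one hK u).union (FF.finite_not_le_one hK v)).subset fun P hP => ?_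
    simp only [Set.mem_ofPred_eq, Set.mem_union] at hP ⊢
    by_contra h
    push Not at h
    exact hP ⟨h.1, h.2⟩
  set S := hfin.toFinset with hS
  have hSmem : ∀ P, P ∉ S → P.1 u ≤ 1 ∧ P.1 v ≤ 1 := by
    intro P hP
    by_contra h
    apply hP
    rw [hS, Set.Finite.mem_toFinset]
    exact h
  have hzero : ∀ P, P ∉ S → LocRes.locRes (φ P) u v = 0 := by
    intro P hP
    obtain ⟨h1, h2⟩ := hSmem P hP
    unfold LocRes.locRes
    rw [FF.resExp_eq_zero_of_val_le_one (φ P) u v (by rw [(hφ P).1]; exact h1)
      (by rw [(hφ P).1]; exact h2), map_zero]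
  have hsupp : Function.support (fun P => LocRes.locRes (φ P) u v) ⊆ ↑S := by
    intro P hP
    by_contra h
    exact hP (hzero P h)
  refine ⟨S.finite_toSet.subset hsupp, ?_⟩
  rw [finsum_eq_sum_of_support_subset _ hsupp, ← Tate.sum_res_eq_zero hK hE u v S hSmem]
  exact Finset.sum_congr rfl (fun P _ => (hloc P).symm)

end Groth.Agent.S12579
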