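import Groth.Statements.S11006
import Mathlib
import Groth.Agent.Lib.Helper9.FunFld

set_option autoImplicit false
universe u v
open FunFld

namespace Groth.Agent.S11006

/-- For `K/k` a geometric function field of one variable and `k'/k` finite, the field `K' = k' ⊗_k K` is
a geometric function field of one variable over `k'`: some element of `K'` is transcendental over
`k'` with `K'` of finite degree over the subfield it generates over `k'`, `k'` is algebraically
closed in `K'`, and `K'` stays a field after tensoring over `k'` with any finite field extension of
`k'`. -/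
theorem result (k k' : Type u) (K K' : Type v) [Field k] [Field k'] [Field K] [Field K']
    [Algebra k k'] [FiniteDimensional k k'] [Algebra k K] [Algebra K K'] [Algebra k' K'] [Algebra k K']
    [IsScalarTower k k' K'] [IsScalarTower k K K']
    (h : Function.Bijective (Algebra.TensorProduct.productMap
      (IsScalarTower.toAlgHom k k' K') (IsScalarTower.toAlgHom k K K')))
    (hK : FunFld.IsFunctionField k K) (hg : FunFld.IsGeometric k K) :
    FunFld.IsFunctionField k' K' ∧ FunFld.IsGeometric k' K' := by
  classical
  obtain ⟨⟨x, hx, hfin⟩, hclosed⟩ := hK
  -- the `k'`-algebra isomorphism `k' ⊗ K ≃ K'`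
  let e₀ : TensorProduct k k' K →ₐ[k'] K' :=
    Algebra.TensorProduct.productLeftAlgHom (Algebra.ofId k' K') (IsScalarTower.toAlgHom k K K')
  have he₀ : Function.Bijective e₀ := h
  let e : TensorProduct k k' K ≃ₐ[k'] K' := AlgEquiv.ofBijective e₀ he₀
  -- geometric
  have hgeom : FunFld.IsGeometric k' K' := by
    intro k'' _ _ hfd
    let _ : Algebra k k'' := ((algebraMap k' k'').comp (algebraMap k k')).toAlgebra
    have : IsScalarTower k k' k'' := IsScalarTower.of_algebraMap_eq (fun _ => rfl)
    have hfd' : FiniteDimensional k k'' := FiniteDimensional.trans k k' k''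
    have hF : IsField (TensorProduct k k'' K) := hg k'' hfd'
    let E₁ : TensorProduct k' k'' K' ≃ₐ[k'] TensorProduct k' k'' (TensorProduct k k' K) :=
      Algebra.TensorProduct.congr AlgEquiv.refl e.symm
    let E₂ : TensorProduct k' k'' (TensorProduct k k' K) ≃ₐ[k''] TensorProduct k k'' K :=
      Algebra.TensorProduct.cancelBaseChange k k' k'' k'' K
    exact (E₁.toMulEquiv.trans E₂.toMulEquiv).isField hF
  refine ⟨⟨?_, fun y hy => Groth.Agent.Lib.Helper9.FunFld.mem_range_of_isGeometric hgeom y hy⟩,
    hgeom⟩
  refine ⟨algebraMap K K' x, ?_, ?_⟩
  · -- transcendental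
    intro halg
    have : Algebra.IsAlgebraic k k' := Algebra.IsAlgebraic.of_finite k k'
    have h1 : IsAlgebraic k (algebraMap K K' x) := halg.restrictScalars k
    exact hx ((isAlgebraic_algebraMap_iff (A := K') (algebraMap K K').injective).mp h1)
  · -- finiteness
    set x' : K' := algebraMap K K' x with hx'
    set F' : IntermediateField k' K' := IntermediateField.adjoin k' ({x'} : Set K') with hF'
    set F : IntermediateField k K := IntermediateField.adjoin k ({x} : Set K) with hF
    -- essentially finite type
    have hessK : Algebra.EssFiniteType k K :=
      Groth.Agent.Lib.Helper9.FunFld.essFiniteType_of_finite_adjoin hfin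
    have hess' : Algebra.EssFiniteType k' K' :=
      Algebra.EssFiniteType.of_surjective e.toAlgHom e.surjective
    have hessF' : Algebra.EssFiniteType F' K' := Algebra.EssFiniteType.of_comp k' F' K'
    -- the map `F → F'`
    have hle : F ≤ (F'.restrictScalars k).comap (IsScalarTower.toAlgHom k K K') := by
      rw [hF, IntermediateField.adjoin_le_iff]
      intro z hz
      rw [Set.mem_singleton_iff] at hz
      subst hz
      exact IntermediateField.mem_adjoin_simple_self k' x'
    let f : F →+* F' :=
      RingHom.codRestrict ((algebraMap K K').comp (algebraMap F K)) F'.toSubfield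
        (fun z => hle z.2)
    have hf : (algebraMap F' K').comp f = (algebraMap K K').comp (algebraMap F K) := rfl
    -- integrality
    have hint : Algebra.IsIntegral F' K' := by
      refine ⟨fun z => ?_⟩
      obtain ⟨t, rfl⟩ := e.surjective z
      induction t using TensorProduct.induction_on with
      | zero => simpa using isIntegral_zero
      | tmul a b =>
        have h1 : e (a ⊗ₜ[k] b) = algebraMap k' K' a * algebraMap K K' b := by
          simp [e, e₀]
        rw [h1]
        refine IsIntegral.mul ?_ ?_
        · rw [IsScalarTower.algebraMap_apply k' F' K']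
          exact isIntegral_algebraMap
        · have hb : IsIntegral F b := Algebra.IsIntegral.isIntegral b
          exact hb.map_of_comp_eq f (algebraMap K K') hf
      | add t₁ t₂ h₁ h₂ =>
        rw [map_add]
        exact h₁.add h₂
    exact Algebra.finite_of_essFiniteType_of_isAlgebraic

end Groth.Agent.S11006
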