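import Groth.Statements.S12597
import Groth.Agent.Lib.Helper3.Jumps

set_option autoImplicit false
open FunFld

namespace Groth.Agent.S12597

open Groth.Agent.Lib.Helper3.Jumps in
theorem aux
    (k K : Type*) [Field k] [Field K] [Algebra k K]
    {n : ℕ} (φ : Fin (n + 1) → K)
    (τ : K →ₐ[k] K) (s : K) (H : K →ₐ[k] PowerSeries K) (hH : LocRes.IsHasseFamily s H) (y : K) (hy : y ≠ 0) :
    (∀ J : Fin n → ℕ, FunFld.IsOrders K (FunFld.hcol τ H (y • φ)) J ↔ FunFld.IsOrders K (FunFld.hcol τ H φ) J) ∧
    ∀ J : Fin n → ℕ, FunFld.IsOrders K (FunFld.hcol τ H φ) J →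
      (FunFld.wrMat τ H (y • φ) J).det = τ y * y ^ n * (FunFld.wrMat τ H φ J).det := by
  constructor
  · intro J
    apply isOrders_congr
    intro j
    apply isJump_iff_of_triangular (R := K) (FunFld.hcol τ H φ) (FunFld.hcol τ H (y • φ))
      (fun j => (Nat.casesOn j (τ y) (fun _ => y) : K))
    · intro j
      cases j with
      | zero => exact (map_ne_zero τ).2 hy
      | succ j => exact hy
    · intro j
      exact hcol_smul_sub_mem τ H hH.2 φ y j
  · intro J hJ
    have key := det_eq_of_triangular_cols (R := K) (FunFld.wrMat τ H φ J)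
      (FunFld.wrMat τ H (y • φ) J)
      (fun i => Fin.cases (motive := fun _ => K) (τ y) (fun _ => y) i) ?_
    · rw [key, Fin.prod_univ_succ]
      simp
    · intro i
      have hcolA : (FunFld.wrMat τ H φ J).col = fun i : Fin (n + 1) =>
          FunFld.hcol τ H φ (Fin.cases (motive := fun _ => ℕ) 0 (fun l => J l + 1) i) := by
        funext i
        exact wrMat_col τ H φ J i
      cases i using Fin.cases with
      | zero =>
        rw [wrMat_col, wrMat_col]
        simp only [Fin.cases_zero]
        rw [hcol_smul_zero, sub_self]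
        exact Submodule.zero_mem _
      | succ l =>
        rw [hcolA]
        simp only [wrMat_col, Fin.cases_succ]
        exact span_Iio_le_of_isOrders (R := K) (FunFld.hcol τ H φ) J hJ l
          (hcol_smul_sub_mem τ H hH.2 φ y (J l + 1))



/-- Over an algebraically closed constant field, multiplying a projective map `φ = (φ₀, …, φₙ)` by a
nonzero function `y` does not change its `τ`-order sequence `J`, and multiplies the Wronskian `det
[τ(φ) | D^(j₁) φ | ⋯ | D^(jₙ) φ]` taken at that sequence by `τ(y) yⁿ`. -/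
theorem result
    (k K : Type*) [Field k] [IsAlgClosed k] [Field K] [Algebra k K]
    (hK : FunFld.IsFunctionField k K) {n : ℕ} (φ : Fin (n + 1) → K) (hφ : LinearIndependent k φ)
    (τ : K →ₐ[k] K) (s : K) (H : K →ₐ[k] PowerSeries K) (hH : LocRes.IsHasseFamily s H) (y : K) (hy : y ≠ 0) :
    (∀ J : Fin n → ℕ, FunFld.IsOrders K (FunFld.hcol τ H (y • φ)) J ↔ FunFld.IsOrders K (FunFld.hcol τ H φ) J) ∧
    ∀ J : Fin n → ℕ, FunFld.IsOrders K (FunFld.hcol τ H φ) J →
      (FunFld.wrMat τ H (y • φ) J).det = τ y * y ^ n * (FunFld.wrMat τ H φ J).det := by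
  exact aux k K φ τ s H hH y hy

end Groth.Agent.S12597
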