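import Groth.Statements.S12599
import Mathlib
import Groth.Agent.Lib.Helper26.HasseLocal2

set_option autoImplicit false
open FunFld

namespace Groth.Agent.S12599

open scoped WithZero IntermediateField PowerSeries
open Groth.Agent.Lib.Helper2.FF
open Groth.Agent.Lib.Helper26.HasseLocal
open Groth.Agent.Lib.Helper26.HasseLocal2

/-- Over an algebraically closed constant field, for a place `P` with local parameter `t`, and a
linearly independent tuple `φ = (φ₀, …, φₙ)` of functions integral at `P`, the matrix of values at
`P` of the Hasse derivatives `D_t^(j)(φᵢ)`, `j = 0, 1, …`, has rank `n + 1`: its rows are linearly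
independent over the residue field. -/
theorem result
    (k K : Type*) [Field k] [IsAlgClosed k] [Field K] [Algebra k K]
    (hK : FunFld.IsFunctionField k K) {n : ℕ} (φ : Fin (n + 1) → K) (hφ : LinearIndependent k φ)
    (P : FunFld.Place k K) (hint : ∀ i, P.1 (φ i) ≤ 1) (t : K) (ht : P.1 t = WithZero.exp (-1))
    (Ht : K →ₐ[k] PowerSeries K) (hHt : LocRes.IsHasseFamily t Ht) :
    LinearIndependent (IsLocalRing.ResidueField P.O)
      (fun i : Fin (n + 1) => fun j : ℕ => FunFld.evalP P (LocRes.hasseD Ht j (φ i))) := by
  classical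
  have ht' : v P t = WithZero.exp (-1 : ℤ) := ht
  have hfin := finiteDimensional_residueField P hK
  have hfin1 : @Module.Finite k (IsLocalRing.ResidueField P.O) _ _ Algebra.toModule := hfin
  have hint' : Algebra.IsIntegral k (IsLocalRing.ResidueField P.O) :=
    Algebra.IsIntegral.of_finite k _
  have hbij : Function.Bijective (algebraMap k (IsLocalRing.ResidueField P.O)) :=
    IsAlgClosed.algebraMap_bijective_of_isIntegral
  obtain ⟨z, hz⟩ : ∃ z : Fin (n + 1) → P.O, ∀ i, (z i).1 = φ i :=
    ⟨fun i => ⟨φ i, (mem_O_iff P _).2 (hint i)⟩, fun i => rfl⟩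
  have hrow : ∀ i j, FunFld.evalP P (LocRes.hasseD Ht j (φ i)) =
      PowerSeries.coeff j (expand hK P t ht' Ht hHt (z i)) := by
    intro i j; rw [coeff_expand, hz]
  rw [Fintype.linearIndependent_iff]
  intro c hc
  choose a ha using fun i => hbij.2 (c i)
  have hE : expand hK P t ht' Ht hHt (∑ i, a i • z i) = 0 := by
    ext j
    rw [map_sum, map_sum, map_zero]
    have := congrFun hc j
    rw [Finset.sum_apply, Pi.zero_apply] at this
    rw [← this]
    refine Finset.sum_congr rfl (fun i _ => ?_)
    rw [Algebra.smul_def, map_mul, expand_algebraMap, PowerSeries.coeff_C_mul, ha, Pi.smul_apply,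
      hrow, smul_eq_mul]
  have h0 := expand_injective hK P t ht' Ht hHt (hE.trans (map_zero _).symm)
  have h1 : ∑ i, a i • φ i = 0 := by
    have := congrArg (fun w : P.O => (w : K)) h0
    change ((∑ i, a i • z i : P.O) : K) = ((0 : P.O) : K) at this
    rw [ZeroMemClass.coe_zero] at this
    rw [← this]
    rw [AddSubmonoidClass.coe_finsetSum]
    refine Finset.sum_congr rfl (fun i _ => ?_)
    rw [← hz i]
    rw [Algebra.smul_def, Algebra.smul_def]; rfl
  have h2 := Fintype.linearIndependent_iff.1 hφ a h1
  intro i
  rw [← ha i, h2 i, map_zero]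

end Groth.Agent.S12599
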