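import Groth.Statements.S12596
import Groth.Agent.Lib.Helper3.Jumps

set_option autoImplicit false
open FunFld

namespace Groth.Agent.S12596

theorem coeff_H_smul {k K : Type*} [Field k] [Field K] [Algebra k K]
    (H : K →ₐ[k] PowerSeries K) (a : k) (x : K) (m : ℕ) :
    PowerSeries.coeff m (H (a • x)) = algebraMap k K a * PowerSeries.coeff m (H x) := by
  rw [map_smul, Algebra.smul_def]
  rw [PowerSeries.algebraMap_apply, PowerSeries.coeff_C_mul]

theorem hcol_linear {k K : Type*} [Field k] [Field K] [Algebra k K] {n : ℕ}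
    (φ : Fin (n + 1) → K) (τ : K →ₐ[k] K) (H : K →ₐ[k] PowerSeries K)
    (A : Matrix (Fin (n + 1)) (Fin (n + 1)) k)
    (φ' : Fin (n + 1) → K) (hφ' : ∀ i, φ' i = ∑ j, A i j • φ j) (m : ℕ) :
    FunFld.hcol τ H φ' m = (A.map (algebraMap k K)).mulVecLin (FunFld.hcol τ H φ m) := by
  funext i
  rw [Matrix.mulVecLin_apply]
  cases m with
  | zero =>
    change τ (φ' i) = _
    rw [hφ', map_sum]
    simp only [Matrix.mulVec, dotProduct, Matrix.map_apply]
    apply Finset.sum_congr rfl
    intro j _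
    rw [map_smul, Algebra.smul_def]
    rfl
  | succ m =>
    change PowerSeries.coeff m (H (φ' i)) = _
    rw [hφ', map_sum, map_sum]
    simp only [Matrix.mulVec, dotProduct, Matrix.map_apply]
    apply Finset.sum_congr rfl
    intro j _
    rw [coeff_H_smul]
    rfl

theorem aux
    (k K : Type*) [Field k] [Field K] [Algebra k K]
    {n : ℕ} (φ : Fin (n + 1) → K)
    (τ : K →ₐ[k] K) (H : K →ₐ[k] PowerSeries K)
    (A : Matrix (Fin (n + 1)) (Fin (n + 1)) k) (hA : A.det ≠ 0)
    (φ' : Fin (n + 1) → K) (hφ' : ∀ i, φ' i = ∑ j, A i j • φ j) :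
    (∀ J : Fin n → ℕ, FunFld.IsOrders K (FunFld.hcol τ H φ') J ↔ FunFld.IsOrders K (FunFld.hcol τ H φ) J) ∧
    ∀ I : Fin n → ℕ, (FunFld.wrMat τ H φ' I).det = algebraMap k K A.det * (FunFld.wrMat τ H φ I).det := by
  have hdet : (A.map (algebraMap k K)).det = algebraMap k K A.det := by
    rw [RingHom.map_det]
    rfl
  have hdet0 : (A.map (algebraMap k K)).det ≠ 0 := by
    rw [hdet]
    exact (map_ne_zero _).2 hA
  constructor
  · intro J
    apply Groth.Agent.Lib.Helper3.Jumps.isOrders_congr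
    intro j
    have h1 : FunFld.hcol τ H φ' = fun m => (A.map (algebraMap k K)).mulVecLin (FunFld.hcol τ H φ m) := by
      funext m
      exact hcol_linear φ τ H A φ' hφ' m
    rw [h1]
    exact Groth.Agent.Lib.Helper3.Jumps.isJump_map_injective _ _
      (Matrix.mulVec_injective_of_det_ne_zero hdet0) _
  · intro I
    have hmul : FunFld.wrMat τ H φ' I = A.map (algebraMap k K) * FunFld.wrMat τ H φ I := by
      ext i c
      have h1 := congrFun (Groth.Agent.Lib.Helper3.Jumps.wrMat_col τ H φ' I c) i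
      rw [hcol_linear φ τ H A φ' hφ' _, ← Groth.Agent.Lib.Helper3.Jumps.wrMat_col τ H φ I c] at h1
      rw [Matrix.mul_apply]
      exact h1
    rw [hmul, Matrix.det_mul, hdet]



/-- Over an algebraically closed constant field, replacing a projective map `φ` by `Aφ` for an
invertible matrix `A` over `k` does not change the `τ`-order sequence, and multiplies every
generalized Wronskian determinant `det [τ(φ) | D^(I₁) φ | ⋯ | D^(Iₙ) φ]` (Hasse derivatives taken
with `H`) by `det A`. -/
theorem result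
    (k K : Type*) [Field k] [IsAlgClosed k] [Field K] [Algebra k K]
    (hK : FunFld.IsFunctionField k K) {n : ℕ} (φ : Fin (n + 1) → K) (hφ : LinearIndependent k φ)
    (τ : K →ₐ[k] K) (s : K) (H : K →ₐ[k] PowerSeries K) (hH : LocRes.IsHasseFamily s H)
    (A : Matrix (Fin (n + 1)) (Fin (n + 1)) k) (hA : A.det ≠ 0)
    (φ' : Fin (n + 1) → K) (hφ' : ∀ i, φ' i = ∑ j, A i j • φ j) :
    (∀ J : Fin n → ℕ, FunFld.IsOrders K (FunFld.hcol τ H φ') J ↔ FunFld.IsOrders K (FunFld.hcol τ H φ) J) ∧
    ∀ I : Fin n → ℕ, (FunFld.wrMat τ H φ' I).det = algebraMap k K A.det * (FunFld.wrMat τ H φ I).det := by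
  exact aux k K φ τ H A hA φ' hφ'

end Groth.Agent.S12596
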