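import Groth.Statements.S12614
import Mathlib
import Groth.Agent.Lib.Helper26.DiffDiv
import Groth.Agent.Lib.Helper26.FunFldLinEq
import Groth.Agent.S12596
import Groth.Agent.S12597
import Groth.Agent.S12598

set_option autoImplicit false
open FunFld

namespace Groth.Agent.S12614

open scoped WithZero IntermediateField PowerSeries LaurentSeries
open Groth.Agent.Lib.Helper2.FF
open Groth.Agent.Lib.Helper26.HasseLocal
open Groth.Agent.Lib.Helper26.HasseLocal7
open Groth.Agent.Lib.Helper26.HasseChange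
open Groth.Agent.Lib.Helper26.DiffDiv
open Groth.Agent.Lib.Helper26.FunFldLinEq

/-- Over an algebraically closed constant field, the Weierstrass divisor `W_s(φ, τ) = [w_s(φ, τ)] +
[τ(φ)] + n[φ] + j(φ, τ)[ds]` does not depend on the separating variable `s` and does not change when
`φ` is replaced by an equivalent map `y · Aφ` (`A` invertible over `k`, `y ≠ 0`). Divisors of
differentials are read through a fixed family of Laurent expansions. -/
theorem result
    (k K : Type*) [Field k] [IsAlgClosed k] [Field K] [Algebra k K]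
    (hK : FunFld.IsFunctionField k K) {n : ℕ} (φ : Fin (n + 1) → K) (hφ : LinearIndependent k φ)
    (τ : K →ₐ[k] K) (s : K) (Hs : K →ₐ[k] PowerSeries K) (hHs : LocRes.IsHasseFamily s Hs)
    (t : K) (Ht : K →ₐ[k] PowerSeries K) (hHt : LocRes.IsHasseFamily t Ht)
    (J : Fin n → ℕ) (hJ : FunFld.IsOrders K (FunFld.hcol τ Hs φ) J)
    (A : Matrix (Fin (n + 1)) (Fin (n + 1)) k) (hA : A.det ≠ 0) (y : K) (hy : y ≠ 0)
    (φ' : Fin (n + 1) → K) (hφ' : ∀ i, φ' i = y * ∑ j, A i j • φ j)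
    (Φ : FunFld.Place k K → (K →ₐ[k] LaurentSeries k))
    (hΦ : ∀ P : FunFld.Place k K, LocRes.IsExpansionAt P.1 (Φ P)) :
    FunFld.wDiv τ Ht Φ t φ' J = FunFld.wDiv τ Hs Φ s φ J := by
  classical
  obtain ⟨ψ, hψ⟩ : ∃ ψ : Fin (n + 1) → K, ψ = fun i => ∑ j, A i j • φ j := ⟨_, rfl⟩
  have hψ' : ∀ i, ψ i = ∑ j, A i j • φ j := fun i => by rw [hψ]
  have hφ'ψ : φ' = y • ψ := by
    funext i; rw [hφ' i, Pi.smul_apply, smul_eq_mul, hψ' i]
  have hspanψ := span_linear_change A hA φ ψ hψ'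
  have hψli : LinearIndependent k ψ := by
    have h1 := linearIndependent_iff_card_eq_finrank_span.1 hφ
    rw [linearIndependent_iff_card_eq_finrank_span]
    simp only [Set.finrank] at h1 ⊢
    rw [hspanψ]
    exact h1
  have hφ0 : ∀ i, φ i ≠ 0 := fun i => hφ.ne_zero i
  have hψ0 : ∀ i, ψ i ≠ 0 := fun i => hψli.ne_zero i
  -- order sequences
  obtain ⟨h96a, h96b⟩ := Groth.Agent.S12596.result k K hK φ hφ τ s Hs hHs A hA ψ hψ'
  have hJψ : IsOrders K (hcol τ Hs ψ) J := (h96a J).2 hJ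
  obtain ⟨h97a, h97b⟩ := Groth.Agent.S12597.result k K hK ψ hψli τ s Hs hHs y hy
  have hJyψ : IsOrders K (hcol τ Hs (y • ψ)) J := (h97a J).2 hJψ
  have hyψli : LinearIndependent k (y • ψ) := by
    have : (y • ψ) = (LinearMap.mulLeft k y) ∘ ψ := rfl
    rw [this]
    apply hψli.map'
    rw [LinearMap.ker_eq_bot]
    intro a b hab
    exact mul_left_cancel₀ hy hab
  obtain ⟨-, h98b⟩ := Groth.Agent.S12598.result k K hK (y • ψ) hyψli τ s Hs hHs t Ht hHt
  have hdet : (wrMat τ Ht φ' J).det = LocRes.hasseD Ht 1 s ^ (∑ l, J l) *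
      (τ y * y ^ n * (algebraMap k K A.det * (wrMat τ Hs φ J).det)) := by
    rw [hφ'ψ, h98b J hJyψ, h97b J hJψ, h96b J]
  haveI : Algebra.IsSeparable k⟮s⟯ K := isSeparable_of_isHasseFamily hK s Hs hHs
  have hd0 : LocRes.hasseD Ht 1 s ≠ 0 := by
    intro h0
    have := hasseD_one_mul s t Hs Ht hHs hHt
    rw [h0, mul_zero] at this
    exact zero_ne_one this
  have hw0 := det_wrMat_ne_zero_of_isOrders τ Hs φ ⟨0, hφ0 0⟩ J hJ
  have hτy : τ y ≠ 0 := (map_ne_zero τ).2 hy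
  have hc0 : algebraMap k K A.det ≠ 0 := (map_ne_zero _).2 hA
  have hdiv : FunFld.div k (wrMat τ Ht φ' J).det =
      (∑ l, J l) • FunFld.div k (LocRes.hasseD Ht 1 s) + (FunFld.div k (τ y) + n • FunFld.div k y +
        FunFld.div k (wrMat τ Hs φ J).det) := by
    rw [hdet, div_mul hK (pow_ne_zero _ hd0)
      (mul_ne_zero (mul_ne_zero hτy (pow_ne_zero _ hy)) (mul_ne_zero hc0 hw0)),
      div_pow hK hd0, div_mul hK (mul_ne_zero hτy (pow_ne_zero _ hy)) (mul_ne_zero hc0 hw0),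
      div_mul hK hτy (pow_ne_zero _ hy), div_pow hK hy, div_mul hK hc0 hw0,
      div_algebraMap' hK hA, zero_add]
  -- the divisors of the maps
  have hm1 : mapDiv k φ' = mapDiv k φ - FunFld.div k y := by
    rw [hφ'ψ, mapDiv_smul hK hy ψ hψ0, mapDiv_eq_of_span_eq hK φ hφ0 ψ hψ0 hspanψ]
  have hτψ : ∀ i, (τ ∘ ψ) i = ∑ j, A i j • (τ ∘ φ) j := by
    intro i
    simp only [Function.comp_apply, hψ' i, map_sum, map_smul]
  have hm2 : mapDiv k (τ ∘ φ') = mapDiv k (τ ∘ φ) - FunFld.div k (τ y) := by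
    have e : τ ∘ φ' = τ y • (τ ∘ ψ) := by
      funext i
      simp only [Function.comp_apply, Pi.smul_apply, smul_eq_mul, hφ'ψ, map_mul]
    rw [e, mapDiv_smul hK hτy (τ ∘ ψ) (fun i => (map_ne_zero τ).2 (hψ0 i)),
      mapDiv_eq_of_span_eq hK (τ ∘ φ) (fun i => (map_ne_zero τ).2 (hφ0 i)) (τ ∘ ψ)
        (fun i => (map_ne_zero τ).2 (hψ0 i)) (span_linear_change A hA (τ ∘ φ) (τ ∘ ψ) hτψ)]
  have hdd := divDiff_change hK Φ hΦ s Hs hHs t Ht hHt
  have hcast : (∑ l, (J l : ℤ)) = ((∑ l, J l : ℕ) : ℤ) := (Nat.cast_sum _ _).symm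
  unfold wDiv
  rw [hdiv, hm1, hm2, hdd, hcast]
  simp only [smul_add, smul_sub, natCast_zsmul]
  abel

end Groth.Agent.S12614
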