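import Groth.Statements.S12600
import Groth.Agent.Lib.Helper3.Jumps
import Groth.Agent.Lib.Helper3.HasseIndep

set_option autoImplicit false
open FunFld

namespace Groth.Agent.S12600

open Groth.Agent.Lib.Helper3.Jumps Groth.Agent.Lib.Helper3.HasseIndep in
theorem aux
    (k K : Type*) [Field k] [IsAlgClosed k] [Field K] [Algebra k K]
    (hK : FunFld.IsFunctionField k K) {n : ℕ} (φ : Fin (n + 1) → K) (hφ : LinearIndependent k φ)
    (τ : K →ₐ[k] K) (s : K) (H : K →ₐ[k] PowerSeries K) (hH : LocRes.IsHasseFamily s H) :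
    ∃ J : Fin n → ℕ, FunFld.IsOrders K (FunFld.hcol τ H φ) J ∧ (FunFld.wrMat τ H φ J).det ≠ 0 := by
  have hspan : Submodule.span K (Set.range (FunFld.hcol τ H φ)) = ⊤ := by
    rw [eq_top_iff, ← span_hcol_eq_top hK s H hH φ hφ τ]
    apply Submodule.span_mono
    rintro _ ⟨j, rfl⟩
    exact ⟨j + 1, rfl⟩
  have hc0 : FunFld.IsJump K (FunFld.hcol τ H φ) 0 := by
    unfold FunFld.IsJump
    have : Set.Iio (0 : ℕ) = ∅ := by ext; simp
    rw [this, Set.image_empty, Submodule.span_empty, Submodule.mem_bot]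
    intro h
    have h1 : τ (φ 0) = 0 := congrFun h 0
    exact hφ.ne_zero 0 ((map_eq_zero τ).1 h1)
  obtain ⟨J, hJ, hind⟩ := exists_isOrders_of_span_eq_top (R := K) (n := n) (FunFld.hcol τ H φ)
    (by simp) hc0 hspan
  refine ⟨J, hJ, ?_⟩
  have hcols : LinearIndependent K (FunFld.wrMat τ H φ J).col := by
    have h2 : (FunFld.wrMat τ H φ J).col = fun i : Fin (n + 1) =>
        FunFld.hcol τ H φ (Fin.cases (motive := fun _ => ℕ) 0 (fun l => J l + 1) i) := by
      funext i
      exact wrMat_col τ H φ J i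
    rw [h2]
    exact hind
  have hunit := Matrix.linearIndependent_cols_iff_isUnit.1 hcols
  exact ((Matrix.isUnit_iff_isUnit_det _).1 hunit).ne_zero



/-- Over an algebraically closed constant field, for a linearly independent tuple `φ = (φ₀, …, φₙ)`, a
`k`-endomorphism `τ` and a total Hasse derivative `H`, there are exactly `n` `τ`-orders `j₁ < ⋯ <
jₙ` and the Wronskian `det [τ(φ) | D^(j₁) φ | ⋯ | D^(jₙ) φ]` is nonzero. -/
theorem result
    (k K : Type*) [Field k] [IsAlgClosed k] [Field K] [Algebra k K]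
    (hK : FunFld.IsFunctionField k K) {n : ℕ} (φ : Fin (n + 1) → K) (hφ : LinearIndependent k φ)
    (τ : K →ₐ[k] K) (s : K) (H : K →ₐ[k] PowerSeries K) (hH : LocRes.IsHasseFamily s H) :
    ∃ J : Fin n → ℕ, FunFld.IsOrders K (FunFld.hcol τ H φ) J ∧ (FunFld.wrMat τ H φ J).det ≠ 0 := by
  exact aux k K hK φ hφ τ s H hH

end Groth.Agent.S12600
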