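import Groth.Statements.S12605
import Mathlib
import Groth.Agent.Lib.Helper26.HasseLocal5

set_option autoImplicit false
open FunFld

namespace Groth.Agent.S12605

open scoped WithZero IntermediateField PowerSeries
open Groth.Agent.Lib.Helper2.FF
open Groth.Agent.Lib.Helper26.FunFldAlgClosed
open Groth.Agent.Lib.Helper26.LocRing
open Groth.Agent.Lib.Helper26.HasseLocal
open Groth.Agent.Lib.Helper26.HasseLocal2
open Groth.Agent.Lib.Helper26.HasseLocal3
open Groth.Agent.Lib.Helper26.HasseLocal4
open Groth.Agent.Lib.Helper26.HasseLocal5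

/-- Over an algebraically closed constant field, let `τ` be a `k`-endomorphism of `K`, `P` a fixed point
of `τ`, `φ = (φ₀, …, φₙ)` an effective projective map normalized at `P`, `t` a local parameter at
`P`, `J = (j₁ < ⋯ < jₙ)` the orders of `φ` at `P` and `I = (i₁ < ⋯ < iₙ)` strictly increasing. Then
the order at `P` of `det [τ(φ) | D_t^(i₁) φ | ⋯ | D_t^(iₙ) φ]` is at least `Σ (jₗ - iₗ)`; if all `iₗ
> 0` or `P` is a strong fixed point of `τ`, it equals `Σ (jₗ - iₗ)` exactly when the matrix of
binomial coefficients `(j_r choose i_s)`, read in `k`, has nonzero determinant. -/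
theorem result
    (k K : Type*) [Field k] [IsAlgClosed k] [Field K] [Algebra k K]
    (hK : FunFld.IsFunctionField k K) (τ : K →ₐ[k] K) (P : FunFld.Place k K) (hP : FunFld.IsFixedPt τ P)
    {n : ℕ} (φ : Fin (n + 1) → K) (hφ : LinearIndependent k φ)
    (heff : (1 : K) ∈ Submodule.span k (Set.range φ)) (hnorm : ∀ i, P.1 (φ i) ≤ 1)
    (t : K) (ht : P.1 t = WithZero.exp (-1))
    (Ht : K →ₐ[k] PowerSeries K) (hHt : LocRes.IsHasseFamily t Ht)
    (J : Fin n → ℕ) (hJ : FunFld.IsOrders (IsLocalRing.ResidueField P.O) (FunFld.hcolAt P Ht φ) J)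
    (I : Fin n → ℕ) (hI : StrictMono I) :
    P.1 (FunFld.wrMat τ Ht φ I).det ≤ WithZero.exp (-(∑ l, ((J l : ℤ) - I l))) ∧
    (((∀ l, 0 < I l) ∨ FunFld.IsStrongFixedPt τ P) →
      (P.1 (FunFld.wrMat τ Ht φ I).det = WithZero.exp (-(∑ l, ((J l : ℤ) - I l))) ↔
        (FunFld.binomMat k J I).det ≠ 0)) := by
  classical
  have ht' : v P t = WithZero.exp (-1 : ℤ) := ht
  have hnorm' : ∀ i, v P (φ i) ≤ 1 := hnorm
  obtain ⟨φ', hφ'0, hvg, hevg, hli, hspan⟩ :=
    exists_adapted_basis' hK P t ht' Ht hHt φ hφ heff hnorm' J hJ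
  have hJpos := one_le_of_isOrders hK P t ht' Ht hHt φ hnorm' J hJ
  obtain ⟨A, hAdet, hA⟩ := exists_matrix_of_span_eq φ φ' hli hspan
  have hdet : (wrMat τ Ht φ' I).det = algebraMap k K A.det * (wrMat τ Ht φ I).det := by
    rw [wrMat_change τ Ht φ _ A hA I, Matrix.det_mul]
    congr 1
    exact (RingHom.map_det (algebraMap k K) A).symm
  have hv : P.1 (wrMat τ Ht φ I).det = v P (wrMat τ Ht φ' I).det := by
    rw [hdet, map_mul, v_algebraMap P hAdet, one_mul]
  obtain ⟨W, hWdet, hW00, hW0s, hWr0, hWrs⟩ :=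
    exists_scaled_wronskian hK τ P hP t ht' Ht hHt J hJpos φ' hφ'0 hvg hevg I
  rw [hv, hWdet]
  have hWle : v P ((W.det : P.O) : K) ≤ 1 := (mem_O_iff P _).1 W.det.2
  constructor
  · exact mul_le_of_le_one_right' hWle
  · intro hcase
    have h1 : (WithZero.exp (-(∑ l, ((J l : ℤ) - I l))) * v P ((W.det : P.O) : K) =
        WithZero.exp (-(∑ l, ((J l : ℤ) - I l)))) ↔ v P ((W.det : P.O) : K) = 1 := by
      constructor
      · intro h
        exact mul_left_cancel₀ WithZero.exp_ne_zero (h.trans (mul_one _).symm)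
      · intro h; rw [h, mul_one]
    rw [h1]
    have h2 : v P ((W.det : P.O) : K) = 1 ↔ IsLocalRing.residue P.O W.det ≠ 0 := by
      rw [Ne, IsLocalRing.residue_eq_zero_iff, Valuation.mem_maximalIdeal_iff]
      constructor
      · intro h hlt
        change v P ((W.det : P.O) : K) < 1 at hlt
        rw [h] at hlt; exact lt_irrefl _ hlt
      · intro h; exact le_antisymm hWle (not_lt.1 h)
    rw [h2, RingHom.map_det]
    obtain ⟨Wb, hWb⟩ : ∃ Wb, Wb = (IsLocalRing.residue P.O).mapMatrix W := ⟨_, rfl⟩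
    rw [← hWb]
    have hWbapp : ∀ r c, Wb r c = IsLocalRing.residue P.O (W r c) := by
      intro r c; rw [hWb]; rfl
    have hsub : Wb.submatrix Fin.succ Fin.succ =
        (algebraMap k (IsLocalRing.ResidueField P.O)).mapMatrix (binomMat k J I) := by
      ext r s
      rw [Matrix.submatrix_apply, hWbapp, hWrs]
      simp [binomMat]
    have hdetWb : Wb.det = algebraMap k (IsLocalRing.ResidueField P.O) (binomMat k J I).det := by
      rw [RingHom.map_det, ← hsub]
      rcases hcase with hpos | hstrong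
      · rw [Matrix.det_succ_row_zero, Finset.sum_eq_single 0]
        · rw [hWbapp, hW00, Fin.succAbove_zero]; simp
        · intro c _ hc
          obtain ⟨s, rfl⟩ := Fin.exists_succ_eq.2 hc
          rw [hWbapp, hW0s, if_neg (hpos s).ne']; simp
        · intro h; exact absurd (Finset.mem_univ _) h
      · rw [Matrix.det_succ_column_zero, Finset.sum_eq_single 0]
        · rw [hWbapp, hW00, Fin.succAbove_zero]; simp
        · intro r _ hr
          obtain ⟨r', rfl⟩ := Fin.exists_succ_eq.2 hr
          rw [hWbapp, hWr0 hstrong]; simp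
        · intro h; exact absurd (Finset.mem_univ _) h
    rw [hdetWb]
    exact map_ne_zero_iff _ (algebraMap k (IsLocalRing.ResidueField P.O)).injective

end Groth.Agent.S12605
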