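import Groth.Statements.S12615
import Mathlib
import Groth.Agent.Lib.Helper26.HasseLocal7
import Groth.Agent.S12605

set_option autoImplicit false
open FunFld

namespace Groth.Agent.S12615

open scoped WithZero IntermediateField PowerSeries LaurentSeries
open Groth.Agent.Lib.Helper2.FF
open Groth.Agent.Lib.Helper26.FunFldAlgClosed
open Groth.Agent.Lib.Helper26.LocRing
open Groth.Agent.Lib.Helper26.HasseLocal
open Groth.Agent.Lib.Helper26.HasseLocal2
open Groth.Agent.Lib.Helper26.HasseLocal3
open Groth.Agent.Lib.Helper26.HasseLocal4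
open Groth.Agent.Lib.Helper26.HasseLocal5
open Groth.Agent.Lib.Helper26.HasseLocal6
open Groth.Agent.Lib.Helper26.HasseLocal7
open Groth.Agent.Lib.Helper3.Jumps

/-- Over an algebraically closed constant field, let `P` be a fixed point of the `k`-endomorphism `τ`,
`φ` an effective projective map normalized at `P` with `τ`-orders `j₁, …, jₙ` and orders `j'₁, …,
j'ₙ` at `P`. Then the coefficient of the Weierstrass divisor `W(φ, τ)` at `P` is at least `Σ (j'ₗ -
jₗ)`; if `τ = 1` or `P` is a strong fixed point, it equals `Σ (j'ₗ - jₗ)` exactly when the matrix of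
binomial coefficients `(j'_r choose j_s)`, read in `k`, has nonzero determinant. The divisor of `dt`
in `W` is read through a family of Laurent expansions. -/
theorem result
    (k K : Type*) [Field k] [IsAlgClosed k] [Field K] [Algebra k K]
    (hK : FunFld.IsFunctionField k K) (τ : K →ₐ[k] K) (P : FunFld.Place k K) (hP : FunFld.IsFixedPt τ P)
    {n : ℕ} (φ : Fin (n + 1) → K) (hφ : LinearIndependent k φ)
    (heff : (1 : K) ∈ Submodule.span k (Set.range φ)) (hnorm : ∀ i, P.1 (φ i) ≤ 1)
    (t : K) (ht : P.1 t = WithZero.exp (-1))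
    (Ht : K →ₐ[k] PowerSeries K) (hHt : LocRes.IsHasseFamily t Ht)
    (J : Fin n → ℕ) (hJ : FunFld.IsOrders K (FunFld.hcol τ Ht φ) J)
    (J' : Fin n → ℕ) (hJ' : FunFld.IsOrders (IsLocalRing.ResidueField P.O) (FunFld.hcolAt P Ht φ) J')
    (Φ : FunFld.Place k K → (K →ₐ[k] LaurentSeries k))
    (hΦ : ∀ P : FunFld.Place k K, LocRes.IsExpansionAt P.1 (Φ P)) :
    (∑ l, ((J' l : ℤ) - J l)) ≤ FunFld.wDiv τ Ht Φ t φ J P ∧
    ((τ = AlgHom.id k K ∨ FunFld.IsStrongFixedPt τ P) →
      (FunFld.wDiv τ Ht Φ t φ J P = ∑ l, ((J' l : ℤ) - J l) ↔ (FunFld.binomMat k J' J).det ≠ 0)) := by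
  classical
  have ht' : v P t = WithZero.exp (-1 : ℤ) := ht
  have hnorm' : ∀ i, v P (φ i) ≤ 1 := hnorm
  obtain ⟨h5a, h5b⟩ :=
    Groth.Agent.S12605.result k K hK τ P hP φ hφ heff hnorm t ht Ht hHt J' hJ' J hJ.1
  rw [wDiv_apply_fixedPt hK τ P hP φ heff hnorm' t ht' Ht Φ hΦ J]
  have hdet := det_wrMat_ne_zero_of_isOrders τ Ht φ ⟨0, hφ.ne_zero 0⟩ J hJ
  have hv : P.1 (wrMat τ Ht φ J).det = WithZero.exp (-P.ord (wrMat τ Ht φ J).det) :=
    v_eq_exp_neg_ord P hdet
  constructor
  · rw [hv, WithZero.exp_le_exp] at h5a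
    linarith
  · intro hcase
    have hcase' : (∀ l, 0 < J l) ∨ IsStrongFixedPt τ P := by
      rcases hcase with rfl | h
      · left
        intro l
        by_contra h0
        have h00 : J l = 0 := by omega
        have hj := (hJ.2 (J l)).1 ⟨l, rfl⟩
        rw [h00] at hj
        apply hj
        apply Submodule.subset_span
        refine ⟨0, by simp, ?_⟩
        funext i
        change (AlgHom.id k K) (φ i) = LocRes.hasseD Ht 0 (φ i)
        rw [hasseD_zero hK P t ht' Ht hHt]
        rfl
      · right; exact h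
    rw [← h5b hcase', hv, WithZero.exp_inj]
    constructor <;> intro h <;> linarith

end Groth.Agent.S12615
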