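import Groth.Statements.S12606
import Mathlib
import Groth.Agent.Lib.Helper26.HasseLocal6

set_option autoImplicit false
open FunFld

namespace Groth.Agent.S12606

open scoped WithZero IntermediateField PowerSeries
open Groth.Agent.Lib.Helper2.FF
open Groth.Agent.Lib.Helper26.FunFldAlgClosed
open Groth.Agent.Lib.Helper26.LocRing
open Groth.Agent.Lib.Helper26.HasseLocal
open Groth.Agent.Lib.Helper26.HasseLocal2
open Groth.Agent.Lib.Helper26.HasseLocal3
open Groth.Agent.Lib.Helper26.HasseLocal4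
open Groth.Agent.Lib.Helper26.HasseLocal5
open Groth.Agent.Lib.Helper26.HasseLocal6
open Groth.Agent.Lib.Helper3.Jumps

/-- Over an algebraically closed constant field, let `P` be a strong fixed point of the `k`-endomorphism
`τ`, `φ = (φ₀, …, φₙ)` (`n ≥ 1`) an effective projective map normalized at `P` with `τ(φ)` not a
`K`-multiple of `φ`, `t` a local parameter at `P`, `j₁, …, jₙ` the `τ`-orders of `φ` and `j'₁, …,
j'ₙ` the orders of `φ` at `P`. Then `jₗ ≤ j'ₗ - j'₁` for `1 ≤ l ≤ n`. -/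
theorem result
    (k K : Type*) [Field k] [IsAlgClosed k] [Field K] [Algebra k K]
    (hK : FunFld.IsFunctionField k K) (τ : K →ₐ[k] K) (P : FunFld.Place k K) (hP : FunFld.IsStrongFixedPt τ P)
    {n : ℕ} (hn : 0 < n) (φ : Fin (n + 1) → K) (hφ : LinearIndependent k φ)
    (heff : (1 : K) ∈ Submodule.span k (Set.range φ)) (hnorm : ∀ i, P.1 (φ i) ≤ 1)
    (hτφ : ¬ ∃ y : K, ∀ i, τ (φ i) = y * φ i)
    (t : K) (ht : P.1 t = WithZero.exp (-1))
    (Ht : K →ₐ[k] PowerSeries K) (hHt : LocRes.IsHasseFamily t Ht)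
    (J : Fin n → ℕ) (hJ : FunFld.IsOrders K (FunFld.hcol τ Ht φ) J)
    (J' : Fin n → ℕ) (hJ' : FunFld.IsOrders (IsLocalRing.ResidueField P.O) (FunFld.hcolAt P Ht φ) J') :
    ∀ l, J l + J' ⟨0, hn⟩ ≤ J' l := by
  classical
  have ht' : v P t = WithZero.exp (-1 : ℤ) := ht
  have hnorm' : ∀ i, v P (φ i) ≤ 1 := hnorm
  obtain ⟨φ', hφ'0, hvg, hevg, hli, hspan⟩ :=
    exists_adapted_basis' hK P t ht' Ht hHt φ hφ heff hnorm' J' hJ'
  have hJpos := one_le_of_isOrders hK P t ht' Ht hHt φ hnorm' J' hJ'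
  obtain ⟨A, hAdet, hA⟩ := exists_matrix_of_span_eq φ φ' hli hspan
  intro l
  obtain ⟨j0, hj0⟩ : ∃ j0, j0 = J' ⟨0, hn⟩ := ⟨_, rfl⟩
  rw [← hj0]
  have hmono : ∀ r : Fin n, j0 ≤ J' r := fun r => by
    rw [hj0]; exact hJ'.1.monotone (Fin.mk_le_of_le_val (Nat.zero_le _))
  obtain ⟨B, hB⟩ : ∃ B, J' l = j0 + B := ⟨J' l - j0, by have := hmono l; omega⟩
  suffices h : J l ≤ B by omega
  apply order_le_of_le_finrank (hcol τ Ht φ) J hJ l B
  have hle' : l.val + 1 ≤ n := l.isLt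
  have hle : l.val + 1 + 1 ≤ n + 1 := by omega
  obtain ⟨ψ, hψ⟩ : ∃ ψ : Fin (l.val + 1 + 1) → K, ψ = fun r => φ' (Fin.castLE hle r) := ⟨_, rfl⟩
  have hψs : ∀ r : Fin (l.val + 1), ψ r.succ = φ' (Fin.castLE hle' r).succ := by
    intro r; rw [hψ]; rfl
  have hindep := scaled_rows_indep hK τ P hP t ht' Ht hHt
    (fun r : Fin (l.val + 1) => J' (Fin.castLE hle' r))
    (fun r1 r2 h12 => hJ'.1 (by exact h12)) j0 B (by rw [hj0]; exact hJpos _)
    (fun r => hmono _)
    (fun r => by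
      rw [← hB]
      apply hJ'.1.monotone
      change r.val ≤ l.val
      have := r.isLt; omega)
    ψ (by rw [hψ]; exact hφ'0)
    (fun r => by rw [hψs]; exact hvg _)
    (fun r => by rw [hψs]; exact hevg _)
  obtain ⟨M, hM⟩ : ∃ M : Matrix (Fin (n + 1)) (Fin (B + 1 + 1)) K,
    M = Matrix.of fun r (c : Fin (B + 1 + 1)) => hcol τ Ht φ c.val r := ⟨_, rfl⟩
  obtain ⟨M', hM'⟩ : ∃ M' : Matrix (Fin (n + 1)) (Fin (B + 1 + 1)) K,
    M' = Matrix.of fun r (c : Fin (B + 1 + 1)) => hcol τ Ht φ' c.val r := ⟨_, rfl⟩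
  have hMM' : M' = A.map (algebraMap k K) * M := by
    ext r c
    rw [Matrix.mul_apply, hM', hM]
    simp only [Matrix.of_apply, Matrix.map_apply]
    exact hcol_change τ Ht φ φ' A hA c.val r
  have hrank1 : M'.rank = M.rank := by
    rw [hMM']
    apply Matrix.rank_mul_eq_right_of_isUnit_det
    have : (A.map (algebraMap k K)).det = algebraMap k K A.det :=
      (RingHom.map_det (algebraMap k K) A).symm
    rw [this]
    exact (isUnit_iff_ne_zero.2 hAdet).map _
  have hrank2 : (M'.submatrix (Fin.castLE hle) id).rank = l.val + 1 + 1 := by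
    rw [LinearIndependent.rank_matrix, Fintype.card_fin]
    convert hindep using 1
    funext r c
    rw [hM', hψ]
    simp only [Matrix.row, Matrix.submatrix_apply, Matrix.of_apply, id]
    cases (c : ℕ) <;> rfl
  have hrank3 := Matrix.rank_submatrix_le M' (Fin.castLE hle) (id : Fin (B + 1 + 1) → Fin (B + 1 + 1))
  rw [hrank2, hrank1, Matrix.rank_eq_finrank_span_cols] at hrank3
  have hrange : Set.range M.col = hcol τ Ht φ '' Set.Iio (B + 2) := by
    ext x
    constructor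
    · rintro ⟨c, rfl⟩
      refine ⟨c.val, c.isLt, ?_⟩
      rw [hM]; rfl
    · rintro ⟨m, hm, rfl⟩
      refine ⟨⟨m, hm⟩, ?_⟩
      rw [hM]; rfl
  rw [hrange] at hrank3
  exact hrank3

end Groth.Agent.S12606
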