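import Groth.Statements.S12612
import Groth.Agent.Lib.Helper14.ChainRule

set_option autoImplicit false
open FunFld

namespace Groth.Agent.S12612

/-- For a plane curve given by a homogeneous `f` of degree `e` with `f(1, x, y) = 0` and a change of
projective coordinates `X = AX'` (`A` invertible over `k`), with new affine coordinates `x' =
u₁/u₀`, `y' = u₂/u₀`, `z = 1/u₀ = X₀/X₀'` where `u = A⁻¹(1, x, y)ᵗ`, and `f'(X') = f(AX')`, the
differentials satisfy `dx/f̂_y = det(A) z^(e-3) dx'/f̂'_{y'}`, where `f̂_y = (∂f/∂X₂)(1, x, y)` and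
`f̂'_{y'} = (∂f'/∂X₂')(1, x', y')` are assumed nonzero. (Stated for any field `K` over `k`
containing such `x`, `y`; the published setting is a plane model of a function field over an
algebraically closed field, and the computation uses only the relation `f(1, x, y) = 0`.) -/
theorem result
    (k K : Type*) [Field k] [Field K] [Algebra k K]
    (f : MvPolynomial (Fin 3) k) (e : ℕ) (hf : f.IsHomogeneous e)
    (x y : K) (hfxy : MvPolynomial.aeval ![(1 : K), x, y] f = 0)
    (A : Matrix (Fin 3) (Fin 3) k) (hA : A.det ≠ 0)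
    (u : Fin 3 → K) (hu : ∀ i, ∑ j, algebraMap k K (A i j) * u j = ![(1 : K), x, y] i)
    (hu0 : u 0 ≠ 0)
    (hfy : MvPolynomial.aeval ![(1 : K), x, y] (MvPolynomial.pderiv 2 f) ≠ 0)
    (hfy' : MvPolynomial.aeval ![(1 : K), u 1 / u 0, u 2 / u 0]
      (MvPolynomial.pderiv 2
        (MvPolynomial.aeval (fun i : Fin 3 => ∑ j, MvPolynomial.C (A i j) * MvPolynomial.X j) f)) ≠ 0) :
    (MvPolynomial.aeval ![(1 : K), x, y] (MvPolynomial.pderiv 2 f))⁻¹ • KaehlerDifferential.D k K x =
      (algebraMap k K A.det * (u 0)⁻¹ ^ ((e : ℤ) - 3) *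
        (MvPolynomial.aeval ![(1 : K), u 1 / u 0, u 2 / u 0]
          (MvPolynomial.pderiv 2
            (MvPolynomial.aeval (fun i : Fin 3 => ∑ j, MvPolynomial.C (A i j) * MvPolynomial.X j) f)))⁻¹) •
        KaehlerDifferential.D k K (u 1 / u 0) := by
  classical
  set X : Fin 3 → K := ![(1 : K), x, y] with hXdef
  set Dk := KaehlerDifferential.D k K with hDk
  set a : Matrix (Fin 3) (Fin 3) K := A.map (algebraMap k K) with ha
  set Lm : Fin 3 → MvPolynomial (Fin 3) k :=
    fun i : Fin 3 => ∑ j, MvPolynomial.C (A i j) * MvPolynomial.X j with hLm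
  set v' : Fin 3 → K := ![(1 : K), u 1 / u 0, u 2 / u 0] with hv'def
  set z : K := (u 0)⁻¹ with hz
  have hz0 : z ≠ 0 := inv_ne_zero hu0
  -- the degree is positive
  have he : 1 ≤ e := by
    by_contra h
    have h0 : e = 0 := by omega
    subst h0
    apply hfy
    rw [← MvPolynomial.totalDegree_zero_iff_isHomogeneous,
      MvPolynomial.totalDegree_eq_zero_iff_eq_C] at hf
    rw [hf, MvPolynomial.pderiv_C, map_zero]
  let F : Fin 3 → K := fun i => MvPolynomial.aeval X (MvPolynomial.pderiv i f)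
  -- Euler
  have hE : F 0 + x * F 1 + y * F 2 = 0 := by
    have h1 := congrArg (MvPolynomial.aeval X) hf.sum_X_mul_pderiv
    rw [map_sum, map_nsmul, hfxy, smul_zero] at h1
    simp only [map_mul, MvPolynomial.aeval_X, Fin.sum_univ_three] at h1
    simpa [X, F] using h1
  -- tangent relation
  have hT : F 1 • Dk x + F 2 • Dk y = 0 := by
    have h1 := Groth.Agent.Lib.Helper14.derivation_aeval Dk X f
    rw [hfxy, map_zero, Fin.sum_univ_three] at h1
    have hX0 : X 0 = 1 := rfl
    have hX1 : X 1 = x := rfl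
    have hX2 : X 2 = y := rfl
    rw [hX0, hX1, hX2, Derivation.map_one_eq_zero, smul_zero, zero_add] at h1
    exact h1.symm
  -- linear change of coordinates
  have hXu : ∀ i, X i = ∑ j, a i j * u j := by
    intro i
    rw [← hu i]
    rfl
  have hW : ∀ i, Dk (X i) = ∑ j, a i j • Dk (u j) := by
    intro i
    rw [← hu i, map_sum]
    refine Finset.sum_congr rfl fun j _ => ?_
    rw [Derivation.leibniz, Derivation.map_algebraMap, smul_zero, add_zero]
    rfl
  have hdet : a.det = algebraMap k K A.det := by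
    rw [ha, RingHom.map_det]
    rfl
  have hC := Groth.Agent.Lib.Helper14.cross_cofactor_third a u (fun j => Dk (u j)) X
    (fun i => Dk (X i)) hXu hW
  have hX0 : X 0 = 1 := rfl
  have hX1 : X 1 = x := rfl
  have hX2 : X 2 = y := rfl
  simp only [hX0, hX1, hX2, Derivation.map_one_eq_zero, smul_zero, sub_zero, zero_sub,
    one_smul] at hC
  -- evaluate the transformed partial derivative
  have hv' : v' = fun j => z * u j := by
    funext j
    fin_cases j
    · simp [v', z, hu0]
    · simp [v', z, div_eq_inv_mul]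
    · simp [v', z, div_eq_inv_mul]
  have h1 : ∀ i, MvPolynomial.aeval v' (Lm i) = z * X i := by
    intro i
    simp only [Lm, map_sum, map_mul, MvPolynomial.aeval_C, MvPolynomial.aeval_X]
    rw [hv', hXu i, Finset.mul_sum]
    refine Finset.sum_congr rfl fun j _ => ?_
    simp only [a, Matrix.map_apply]
    ring
  have h2 : ∀ i, MvPolynomial.aeval v' (MvPolynomial.aeval Lm (MvPolynomial.pderiv i f))
      = z ^ (e - 1) * F i := by
    intro i
    have h3 : MvPolynomial.aeval v' (MvPolynomial.aeval Lm (MvPolynomial.pderiv i f))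
        = MvPolynomial.aeval (fun i => MvPolynomial.aeval v' (Lm i)) (MvPolynomial.pderiv i f) := by
      rw [← AlgHom.comp_apply, MvPolynomial.comp_aeval]
    rw [h3]
    simp only [h1]
    exact Groth.Agent.Lib.Helper14.aeval_smul_of_isHomogeneous hf.pderiv z X
  have h3 : MvPolynomial.pderiv 2 (MvPolynomial.aeval Lm f)
      = ∑ i, MvPolynomial.aeval Lm (MvPolynomial.pderiv i f) * MvPolynomial.C (A i 2) := by
    rw [Groth.Agent.Lib.Helper14.pderiv_aeval]
    refine Finset.sum_congr rfl fun i _ => ?_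
    congr 1
    simp [Lm, Fin.sum_univ_three, MvPolynomial.pderiv_X]
  set G2 : K := F 0 * a 0 2 + F 1 * a 1 2 + F 2 * a 2 2 with hG2
  have hG : MvPolynomial.aeval v' (MvPolynomial.pderiv 2 (MvPolynomial.aeval Lm f))
      = z ^ (e - 1) * G2 := by
    rw [h3, map_sum, Fin.sum_univ_three]
    simp only [map_mul, h2, MvPolynomial.aeval_C, a, Matrix.map_apply, hG2]
    ring
  have hG0 : G2 ≠ 0 := by
    intro h0
    apply hfy'
    rw [hG, h0, mul_zero]
  -- main identity
  have hmain : G2 • Dk x = (F 2 * a.det) • (u 0 • Dk (u 1) - u 1 • Dk (u 0)) := by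
    linear_combination (norm := module) (F 2) • hC + (a 1 2 - a 0 2 * x) • hT
      + (a 0 2) • hE • Dk x
  rw [hG, Derivation.leibniz_div, ← hdet]
  have hF2 : F 2 ≠ 0 := hfy
  change (F 2)⁻¹ • Dk x = _
  have hzp : z ^ ((e : ℤ) - 3) * (z ^ (e - 1) * G2)⁻¹ * z ^ 2 = G2⁻¹ := by
    have h5 : ((e - 1 : ℕ) : ℤ) = (e : ℤ) - 1 := by omega
    rw [mul_inv, ← zpow_natCast z (e - 1), h5, ← zpow_neg, ← zpow_natCast z 2]
    have h6 : z ^ ((e : ℤ) - 3) * (z ^ (-((e : ℤ) - 1)) * G2⁻¹) * z ^ ((2 : ℕ) : ℤ)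
        = (z ^ ((e : ℤ) - 3) * z ^ (-((e : ℤ) - 1)) * z ^ ((2 : ℕ) : ℤ)) * G2⁻¹ := by ring
    rw [h6, ← zpow_add₀ hz0, ← zpow_add₀ hz0]
    have h7 : (e : ℤ) - 3 + -((e : ℤ) - 1) + ((2 : ℕ) : ℤ) = 0 := by push_cast; ring
    rw [h7, zpow_zero, one_mul]
  have hgoal : (a.det * z ^ ((e : ℤ) - 3) * (z ^ (e - 1) * G2)⁻¹) •
      (z ^ 2 • (u 0 • Dk (u 1) - u 1 • Dk (u 0)))
      = (a.det * G2⁻¹) • (u 0 • Dk (u 1) - u 1 • Dk (u 0)) := by
    rw [smul_smul]
    congr 1
    rw [← hzp]
    ring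
  rw [hgoal]
  -- divide
  have h8 : (F 2)⁻¹ • Dk x = (F 2)⁻¹ • (G2⁻¹ • (G2 • Dk x)) := by
    rw [smul_smul G2⁻¹, inv_mul_cancel₀ hG0, one_smul]
  rw [h8, hmain, smul_smul, smul_smul]
  congr 1
  field_simp

end Groth.Agent.S12612
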