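import Groth.Statements.S12517
import Mathlib.FieldTheory.RatFunc.Basic
import Mathlib.FieldTheory.IntermediateField.Adjoin.Basic
import Mathlib.FieldTheory.Minpoly.Field
import Mathlib.FieldTheory.Separable
import Mathlib.FieldTheory.Perfect
import Mathlib.Tactic.LinearCombination
import Mathlib.Tactic.FieldSimp

set_option autoImplicit false
open FunFld

namespace Groth.Agent.S12517

open Polynomial in
/-- In a field extension of degree `2`, every element outside the base field generates and its
minimal polynomial is a monic quadratic. -/
theorem quad_facts (F K : Type*) [Field F] [Field K] [Algebra F K]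
    (hdeg : Module.finrank F K = 2) :
    (∀ y : K, y ∉ Set.range (algebraMap F K) → IntermediateField.adjoin F ({y} : Set K) = ⊤) ∧
    (∃ z : K, z ∉ Set.range (algebraMap F K)) ∧
    (∀ z : K, z ∉ Set.range (algebraMap F K) → ∃ b c : F,
      minpoly F z = X ^ 2 + C b * X + C c ∧
      z ^ 2 + algebraMap F K b * z + algebraMap F K c = 0) := by
  have hfd : FiniteDimensional F K := Module.finite_of_finrank_pos (by omega)
  have hsimple : IsSimpleOrder (IntermediateField F K) :=
    IntermediateField.isSimpleOrder_of_finrank_prime F K (by rw [hdeg]; exact Nat.prime_two)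
  have hadj : ∀ y : K, y ∉ Set.range (algebraMap F K) →
      IntermediateField.adjoin F ({y} : Set K) = ⊤ := by
    intro y hy
    rcases eq_bot_or_eq_top (IntermediateField.adjoin F ({y} : Set K)) with h | h
    · exfalso
      apply hy
      rw [IntermediateField.adjoin_simple_eq_bot_iff, IntermediateField.mem_bot] at h
      exact h
    · exact h
  refine ⟨hadj, ?_, ?_⟩
  · by_contra hcon
    push Not at hcon
    have h1 : (⊥ : IntermediateField F K) = ⊤ := by
      ext x
      simp only [IntermediateField.mem_bot, IntermediateField.mem_top, iff_true]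
      exact hcon x
    rw [IntermediateField.bot_eq_top_iff_finrank_eq_one] at h1
    omega
  · intro z hz
    have hint : IsIntegral F z := IsIntegral.of_finite F z
    have hdegm : (minpoly F z).natDegree = 2 := by
      rw [← IntermediateField.adjoin.finrank hint, hadj z hz, IntermediateField.finrank_top', hdeg]
    have hmonic := minpoly.monic hint
    have hc2 : (minpoly F z).coeff 2 = 1 := by
      rw [← hdegm]; exact hmonic.coeff_natDegree
    have hform : minpoly F z = X ^ 2 + C ((minpoly F z).coeff 1) * X + C ((minpoly F z).coeff 0) := by
      conv_lhs => rw [(minpoly F z).as_sum_range_C_mul_X_pow, hdegm]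
      simp only [Finset.sum_range_succ, Finset.sum_range_zero, zero_add, pow_zero, pow_one, mul_one,
        hc2, map_one, one_mul]
      ring
    refine ⟨(minpoly F z).coeff 1, (minpoly F z).coeff 0, hform, ?_⟩
    have hev := minpoly.aeval F z
    rw [hform] at hev
    simpa using hev

/-- If `k` is perfect of characteristic `2` and `K` is a separable extension of degree `2` of the
rational function field `k(x)`, then `K = k(x)(y)` for some `y` with `y² + y = f(x)`, `f ∈ k(x)`.
The correspondence between such extensions and cosets of `{a² + a}` in `k(x)` is not stated. -/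
theorem result (k K : Type*) [Field k] [Field K] [PerfectField k]
    (h2 : ringChar k = 2) [Algebra (RatFunc k) K] (hdeg : Module.finrank (RatFunc k) K = 2)
    [Algebra.IsSeparable (RatFunc k) K] :
    ∃ (y : K) (f : RatFunc k), y ^ 2 + y = algebraMap (RatFunc k) K f ∧
      IntermediateField.adjoin (RatFunc k) ({y} : Set K) = ⊤ := by
  classical
  obtain ⟨hadj, ⟨z, hz⟩, hquad⟩ := quad_facts (RatFunc k) K hdeg
  obtain ⟨b, c, hmin, hbc⟩ := hquad z hz
  have h2k : (2 : k) = 0 := by
    have := CharP.cast_eq_zero k (ringChar k)
    rw [h2] at this
    exact_mod_cast this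
  have h2F : (2 : RatFunc k) = 0 := by
    have : (2 : RatFunc k) = algebraMap k (RatFunc k) 2 := (map_ofNat _ 2).symm
    rw [this, h2k, map_zero]
  have hb0 : b ≠ 0 := by
    rintro rfl
    have hsep : (minpoly (RatFunc k) z).Separable := Algebra.IsSeparable.isSeparable (RatFunc k) z
    rw [hmin, Polynomial.separable_def] at hsep
    have hder : Polynomial.derivative
        (Polynomial.X ^ 2 + Polynomial.C (0 : RatFunc k) * Polynomial.X + Polynomial.C c) = 0 := by
      simp only [map_zero, zero_mul, add_zero, Polynomial.derivative_add, Polynomial.derivative_C,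
        Polynomial.derivative_X_pow]
      have h2n : ((2 : ℕ) : RatFunc k) = 0 := by rw [Nat.cast_ofNat]; exact h2F
      rw [h2n, map_zero, zero_mul]
    rw [hder, isCoprime_zero_right] at hsep
    have hdeg0 := Polynomial.natDegree_eq_zero_of_isUnit hsep
    rw [← hmin] at hdeg0
    have hfd : FiniteDimensional (RatFunc k) K := Module.finite_of_finrank_pos (by omega)
    have hpos := minpoly.natDegree_pos (IsIntegral.of_finite (RatFunc k) z)
    omega
  have hβ : algebraMap (RatFunc k) K b ≠ 0 :=
    (map_ne_zero_iff _ (algebraMap (RatFunc k) K).injective).2 hb0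
  refine ⟨z / algebraMap (RatFunc k) K b, -c / b ^ 2, ?_, ?_⟩
  · rw [map_div₀, map_neg, map_pow]
    field_simp
    linear_combination hbc
  · apply hadj
    rintro ⟨r, hr⟩
    apply hz
    refine ⟨r * b, ?_⟩
    rw [map_mul, hr]
    field_simp

end Groth.Agent.S12517
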