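import Groth.Statements.S12519
import Mathlib
import Groth.Agent.Lib.Helper26.FunFldRatPlace

set_option autoImplicit false
open FunFld

namespace Groth.Agent.S12519

open scoped WithZero
open Groth.Agent.Lib.Helper2.FF Groth.Agent.Lib.Helper26.FunFldRatPlace

/-- Let `k` be perfect of characteristic `2`, `K` separable of degree `2` over `k(x)`, and `y ∈ K \
k(x)` with `y² + y = f(x)`. At a place `p` of `k(x)/k` where `f` has a pole of odd order there is a
unique place `P` of `K` above `p`, with `e(P|p) = 2` and `deg P = deg p` (residue degree `1`); at a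
place where `f` has no pole, every place of `K` above it is unramified. The different is not stated. -/
theorem result (k K : Type*) [Field k] [Field K] [PerfectField k] (h2 : ringChar k = 2)
    [Algebra k K] [Algebra (RatFunc k) K] [IsScalarTower k (RatFunc k) K]
    (hdeg : Module.finrank (RatFunc k) K = 2) [Algebra.IsSeparable (RatFunc k) K]
    (y : K) (hy : y ∉ Set.range (algebraMap (RatFunc k) K))
    (f : RatFunc k) (heq : y ^ 2 + y = algebraMap (RatFunc k) K f)
    (P₀ : FunFld.Place k (RatFunc k)) :
    ((P₀.ord f < 0 ∧ Odd (P₀.ord f)) → (∃! P : FunFld.Place k K, FunFld.IsOver P P₀) ∧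
      ∀ P : FunFld.Place k K, FunFld.IsOver P P₀ → FunFld.IsOverWith P P₀ 2 ∧ P.deg = P₀.deg) ∧
    (0 ≤ P₀.ord f → ∀ P : FunFld.Place k K, FunFld.IsOver P P₀ → FunFld.IsOverWith P P₀ 1) := by
  classical
  haveI : FiniteDimensional (RatFunc k) K := Module.finite_of_finrank_pos (by omega)
  have hK0 : IsFunctionField k (RatFunc k) := isFunctionField_ratFunc
  haveI : CharP k 2 := ringChar.of_eq h2
  constructor
  · rintro ⟨hneg, hodd⟩
    apply unique_of_two_le hdeg hK0 P₀
    intro Q e he
    have he1 := isOverWith_one_le he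
    have hf0 : f ≠ 0 := by
      rintro rfl
      rw [ord_zero] at hneg
      exact lt_irrefl _ hneg
    have hfK0 : algebraMap (RatFunc k) K f ≠ 0 := by simpa using hf0
    have hy0 : y ≠ 0 := by
      rintro rfl
      exact hy ⟨0, by simp⟩
    have h1 := isOverWith_ord he f
    have hfneg : Q.ord (algebraMap (RatFunc k) K f) < 0 := by
      rw [h1]
      exact mul_neg_of_pos_of_neg (by exact_mod_cast he1) hneg
    have hvy : 1 < v Q y := by
      by_contra hcon
      push Not at hcon
      have h3 : v Q (y ^ 2 + y) ≤ 1 :=
        (Valuation.map_add _ _ _).trans (max_le (by rw [map_pow]; exact pow_le_one' hcon 2) hcon)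
      rw [heq, v_le_one_iff Q hfK0] at h3
      omega
    have h4 : v Q y < v Q (y ^ 2) := by
      rw [map_pow, sq]
      calc v Q y = v Q y * 1 := (mul_one _).symm
        _ < v Q y * v Q y := by
          apply mul_lt_mul_of_pos_left hvy
          exact lt_trans zero_lt_one hvy
    have h5 : v Q (y ^ 2 + y) = v Q (y ^ 2) := Valuation.map_add_eq_of_lt_left _ h4
    have h6 : Q.ord (algebraMap (RatFunc k) K f) = 2 * Q.ord y := by
      rw [← heq, ord_def, h5, ← ord_def, ord_pow]; norm_num
    rw [h1] at h6
    have hev : Even ((e : ℤ) * P₀.ord f) := ⟨Q.ord y, by linarith⟩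
    rw [Int.even_mul] at hev
    rcases hev with hev | hev
    · have : Even e := by exact_mod_cast hev
      obtain ⟨m, hm⟩ := this
      omega
    · exact absurd hev (Int.not_even_iff_odd.2 hodd)
  · rintro hf P ⟨e, he⟩
    have h1 := e_eq_one_of_artinSchreier hdeg hK0 P₀ y f heq hf hy P e he
    subst h1
    exact he

end Groth.Agent.S12519
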