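import Groth.Statements.S11075
import Mathlib
import Groth.Agent.Lib.Helper26.LocRing3
import Groth.Agent.Lib.Helper2.FunFld.Finite

set_option autoImplicit false
open FunFld

namespace Groth.Agent.S11075

open scoped IntermediateField
open Groth.Agent.Lib.Helper2.FF
open Groth.Agent.Lib.Helper26.FunFldAlgClosed
open Groth.Agent.Lib.Helper26.LocRing
open Groth.Agent.Lib.Helper26.LocRing2
open Groth.Agent.Lib.Helper26.LocRing3

theorem aeval_mul_of_isHomogeneous {k K σ : Type*} [Field k] [Field K] [Algebra k K]
    {g : MvPolynomial σ k} {m : ℕ} (hg : g.IsHomogeneous m) (a : K) (x : σ → K) :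
    MvPolynomial.aeval (fun i => a * x i) g = a ^ m * MvPolynomial.aeval x g := by
  classical
  rw [MvPolynomial.aeval_def, MvPolynomial.aeval_def, MvPolynomial.eval₂_eq,
    MvPolynomial.eval₂_eq, Finset.mul_sum]
  refine Finset.sum_congr rfl fun d hd => ?_
  have hdeg := hg.degree_eq_sum_deg_support hd
  simp only [mul_pow, Finset.prod_mul_distrib, Finset.prod_pow_eq_pow_sum]
  rw [← hdeg]; ring

theorem ne_smul_of_linearIndependent {k K ι : Type*} [Field k] [Field K] [Algebra k K]
    {φ : ι → K} (hφ : LinearIndependent k φ) {i j : ι} (hij : i ≠ j) (c : k) :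
    φ i - c • φ j ≠ 0 := by
  classical
  intro h
  have h1 := linearIndependent_iff'.1 hφ {i, j} (fun l => if l = i then 1 else -c) (by
    rw [Finset.sum_pair hij]
    simp [hij.symm]
    rw [← h]; ring) i (by simp)
  simp at h1

/-- Over an algebraically closed constant field, let `φ = (φ₀, …, φₙ)`, `n ≥ 1`, be a projective map
onto the curve `V`. (a) A homogeneous `g` not vanishing identically on `V` vanishes at the image
point of only finitely many places (so a closed set not containing `V` meets `V` in a finite set);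
(b) each fibre of `φ` is finite. Here `g` vanishes at `φ(P)` when `g(φ₀/φⱼ, …, φₙ/φⱼ)` lies in the
maximal ideal of `P` for an entry `φⱼ` of least order at `P`. Two places have the same image point
when some entry `φⱼ` has least order at both and each `φᵢ/φⱼ` is congruent to one constant modulo
both maximal ideals. -/
theorem result (k K : Type*) [Field k] [IsAlgClosed k] [Field K] [Algebra k K]
    (hK : FunFld.IsFunctionField k K) {n : ℕ} (hn : 1 ≤ n)
    (φ : Fin (n + 1) → K) (hφ : LinearIndependent k φ) :
    (∀ g : MvPolynomial (Fin (n + 1)) k, g.IsHomogeneous g.totalDegree →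
      MvPolynomial.aeval φ g ≠ 0 →
        {P : FunFld.Place k K | ∃ j, φ j ≠ 0 ∧ (∀ i, P.1 (φ i) ≤ P.1 (φ j)) ∧
          P.1 (MvPolynomial.aeval (fun i => φ i / φ j) g) < 1}.Finite) ∧
    ∀ P : FunFld.Place k K, {Q : FunFld.Place k K | FunFld.SameImage φ P Q}.Finite := by
  classical
  have hφ0 : ∀ i, φ i ≠ 0 := fun i => hφ.ne_zero i
  have hφL : ∀ i, φ i ∈ L (mapDiv k φ) := mem_L_mapDiv hK φ hφ0
  have hex : ∀ Q : FunFld.Place k K, ∃ i, v Q (φ i) = WithZero.exp (mapDiv k φ Q) :=
    exists_v_eq_mapDiv hK φ hφ0
  obtain ⟨D, hD⟩ : ∃ D, D = mapDiv k φ := ⟨_, rfl⟩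
  rw [← hD] at hφL hex
  have hlt_fin : ∀ x : K, x ≠ 0 → {Q : FunFld.Place k K | v Q x < 1}.Finite := by
    intro x hx
    apply Set.Finite.subset (finite_support_ord hK x)
    intro Q hQ
    simp only [Function.mem_support]
    have := (v_lt_one_iff Q hx).1 hQ
    omega
  constructor
  · intro g hg hgφ
    set m := g.totalDegree with hm
    set y := MvPolynomial.aeval φ g with hy
    apply Set.Finite.subset (m • D + FunFld.div k y).support.finite_toSet
    rintro P ⟨j, hj0, hj, hlt⟩
    have hvj : v P (φ j) = WithZero.exp (D P) := by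
      obtain ⟨i, hi⟩ := hex P
      exact le_antisymm (hφL j P) (by rw [← hi]; exact hj i)
    have e : MvPolynomial.aeval (fun i => φ i / φ j) g = (φ j)⁻¹ ^ m * y := by
      rw [hy, ← aeval_mul_of_isHomogeneous hg]
      have e2 : (fun i => φ i / φ j) = fun i => (φ j)⁻¹ * φ i := by
        funext i; rw [div_eq_inv_mul]
      rw [e2]
    change v P _ < 1 at hlt
    rw [e, map_mul, map_pow, map_inv₀, hvj, v_eq_exp_neg_ord P hgφ, ← WithZero.exp_neg,
      ← WithZero.exp_nsmul, ← WithZero.exp_add, ← WithZero.exp_zero, WithZero.exp_lt_exp] at hlt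
    simp only [Finset.mem_coe, Finsupp.mem_support_iff, Finsupp.add_apply, div_apply hK,
      Finsupp.smul_apply]
    simp only [nsmul_eq_mul] at hlt ⊢
    intro h0
    linarith
  · intro P
    have h01 : (1 : Fin (n + 1)) ≠ 0 := by
      intro h
      have := congrArg Fin.val h
      rw [Fin.val_one', Fin.val_zero] at this
      have h2 : 1 % (n + 1) = 1 := Nat.mod_eq_of_lt (by omega)
      omega
    let ι' : Fin (n + 1) → Fin (n + 1) := fun j => if j = 0 then 1 else 0
    have hι' : ∀ j, ι' j ≠ j := by
      intro j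
      by_cases hj : j = 0
      · simp [ι', hj, h01]
      · simp only [ι', hj, if_false]; exact fun h => hj h.symm
    have hZ : ∀ j, {Q : FunFld.Place k K | ∃ c : k,
        v P (φ (ι' j) / φ j - algebraMap k K c) < 1 ∧
        v Q (φ (ι' j) / φ j - algebraMap k K c) < 1}.Finite := by
      intro j
      by_cases hc : ∃ c₀ : k, v P (φ (ι' j) / φ j - algebraMap k K c₀) < 1
      · obtain ⟨c₀, hc₀⟩ := hc
        have hne : φ (ι' j) / φ j - algebraMap k K c₀ ≠ 0 := by
          have := ne_smul_of_linearIndependent hφ (hι' j) c₀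
          intro h
          apply this
          have e : φ (ι' j) - c₀ • φ j = (φ (ι' j) / φ j - algebraMap k K c₀) * φ j := by
            rw [Algebra.smul_def]; field_simp [hφ0 j]
          rw [e, h, zero_mul]
        apply Set.Finite.subset (hlt_fin _ hne)
        rintro Q ⟨c, hc1, hc2⟩
        have hcc : c = c₀ := by
          by_contra hne'
          have h1 : v P (algebraMap k K (c - c₀)) = 1 := v_algebraMap P (sub_ne_zero.2 hne')
          have e : algebraMap k K (c - c₀) =
              (φ (ι' j) / φ j - algebraMap k K c₀) - (φ (ι' j) / φ j - algebraMap k K c) := by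
            rw [map_sub]; ring
          rw [e] at h1
          have := (Valuation.map_sub _ _ _).trans_lt (max_lt hc₀ hc1)
          rw [h1] at this
          exact lt_irrefl _ this
        rw [hcc] at hc2
        exact hc2
      · convert Set.finite_empty
        ext Q
        simp only [Set.mem_ofPred_eq, Set.mem_empty_iff_false, iff_false]
        rintro ⟨c, hc1, -⟩
        exact hc ⟨c, hc1⟩
    apply Set.Finite.subset (Set.finite_iUnion hZ)
    rintro Q ⟨j, -, -, -, hc⟩
    simp only [Set.mem_iUnion, Set.mem_ofPred_eq]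
    exact ⟨j, hc (ι' j)⟩

end Groth.Agent.S11075
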