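import Groth.Statements.S11078
import Mathlib
import Groth.Agent.Lib.Helper26.LocRing2

set_option autoImplicit false
open FunFld

namespace Groth.Agent.S11078

open scoped IntermediateField
open Groth.Agent.Lib.Helper2.FF
open Groth.Agent.Lib.Helper26.FunFldAlgClosed
open Groth.Agent.Lib.Helper26.LocRing
open Groth.Agent.Lib.Helper26.LocRing2

/-- Over an algebraically closed constant field, for a projective map `φ = (φ₀, …, φₙ)`, `n ≥ 1`, and a
point `a = φ(P)` with local ring `O_a`, the fibre `φ⁻¹(a)` consists of the places `Q` with `O_a ⊆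
O_Q` and `m_Q ∩ O_a` equal to the maximal ideal of `O_a` (which is `m_P ∩ O_a`). Here `O_a` consists
of the quotients of polynomials over `k` in the ratios `φᵢ/φⱼ`, `φⱼ` of least order at `P`, with
denominator a unit at `P`; and `Q` has the same image point as `P` when some entry has least order
at both places and the ratios are congruent to common constants modulo both maximal ideals. -/
theorem result
    (k K : Type*) [Field k] [IsAlgClosed k] [Field K] [Algebra k K]
    (hK : FunFld.IsFunctionField k K) {n : ℕ} (hn : 1 ≤ n) (φ : Fin (n + 1) → K)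
    (hφ : LinearIndependent k φ) (P Q : FunFld.Place k K) :
    FunFld.SameImage φ P Q ↔
      ∀ z : K, FunFld.InLocRing φ P z → (Q.1 z ≤ 1 ∧ (Q.1 z < 1 ↔ P.1 z < 1)) := by
  classical
  have hφ0 : ∀ i, φ i ≠ 0 := fun i => hφ.ne_zero i
  have hPdeg : P.deg = 1 := deg_eq_one hK P
  constructor
  · rintro ⟨j, hj0, hjP, hjQ, hc⟩ z hz
    choose c hcP hcQ using hc
    obtain ⟨u, hu, w₀, hw₀, hw1, hzw⟩ := (inLocRing_iff φ P j hj0 hjP z).1 hz
    obtain ⟨cu, hcu1, hcu2⟩ := common_residue P Q _ c hcP hcQ hu
    obtain ⟨cw, hcw1, hcw2⟩ := common_residue P Q _ c hcP hcQ hw₀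
    have hcw : cw ≠ 0 := by
      intro h
      have := (v_lt_one_iff_of_residue P hcw1).2 h
      rw [hw1] at this
      exact lt_irrefl _ this
    have hwQ : v Q w₀ = 1 := v_eq_one_of_residue Q hcw2 hcw
    have hzQ : v Q z = v Q u := by rw [← hzw, map_mul, hwQ, mul_one]
    have hzP : v P z = v P u := by rw [← hzw, map_mul, hw1, mul_one]
    change v Q z ≤ 1 ∧ (v Q z < 1 ↔ v P z < 1)
    rw [hzQ, hzP]
    exact ⟨v_le_one_of_residue Q hcu2,
      (v_lt_one_iff_of_residue Q hcu2).trans (v_lt_one_iff_of_residue P hcu1).symm⟩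
  · intro h
    obtain ⟨j, -, hj⟩ := Finset.exists_max_image Finset.univ (fun i => v P (φ i))
      Finset.univ_nonempty
    have hjP : ∀ i, v P (φ i) ≤ v P (φ j) := fun i => hj i (Finset.mem_univ i)
    have hj0 := hφ0 j
    have hin : ∀ a ∈ Algebra.adjoin k (Set.range fun i => φ i / φ j), InLocRing φ P a := by
      intro a ha
      exact ⟨j, hj0, hjP, a, ha, 1, one_mem _, map_one _, mul_one a⟩
    have hψ : ∀ i, φ i / φ j ∈ Algebra.adjoin k (Set.range fun i => φ i / φ j) :=
      fun i => Algebra.subset_adjoin ⟨i, rfl⟩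
    refine ⟨j, hj0, hjP, ?_, ?_⟩
    · intro i
      have := (h _ (hin _ (hψ i))).1
      change v Q (φ i / φ j) ≤ 1 at this
      rw [map_div₀] at this
      exact (div_le_one₀ (lt_of_le_of_ne zero_le ((Valuation.ne_zero_iff _).2 hj0).symm)).1 this
    · intro i
      have hle : v P (φ i / φ j) ≤ 1 := by
        rw [map_div₀]; exact div_le_one_of_le₀ (hjP i) zero_le
      obtain ⟨c, hc⟩ := exists_sub_lt_one P hPdeg hle
      refine ⟨c, hc, ?_⟩
      have := h _ (hin _ (sub_mem (hψ i) (Subalgebra.algebraMap_mem _ c)))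
      exact this.2.2 hc

end Groth.Agent.S11078
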