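import Groth.Statements.S11000
import Mathlib

set_option autoImplicit false
universe u v
open FunFld

namespace Groth.Agent.S11000

open Polynomial TensorProduct

/-- If every element of `K` algebraic over `k` lies in `k`, then monic irreducible polynomials over
`k` stay irreducible over `K`. -/
theorem irreducible_map_of_algClosedIn {k : Type u} {K : Type v} [Field k] [Field K] [Algebra k K]
    (hcl : ∀ y : K, IsAlgebraic k y → y ∈ Set.range (algebraMap k K))
    {f : k[X]} (hf : f.Monic) (hirr : Irreducible f) :
    Irreducible (f.map (algebraMap k K)) := by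
  have hlift : ∀ a : K[X], a.Monic → a ∣ f.map (algebraMap k K) →
      ∃ a₀ : k[X], a₀.map (algebraMap k K) = a ∧ a₀.Monic := by
    intro a ha hdvd
    have h1 := integralClosure.mem_lifts_of_monic_of_dvd_map K hf ha hdvd
    have h2 : a ∈ lifts (algebraMap k K) := by
      rw [lifts_iff_coeff_lifts]
      intro n
      obtain ⟨a', ha'⟩ := (mem_lifts a).mp h1
      have : a.coeff n = ((a'.coeff n : integralClosure k K) : K) := by
        rw [← ha', coeff_map]; rfl
      rw [this]
      exact hcl _ (a'.coeff n).2.isAlgebraic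
    obtain ⟨a₀, h3, -, h4⟩ := lifts_and_degree_eq_and_monic h2 ha
    exact ⟨a₀, h3, h4⟩
  have hf1 : f.map (algebraMap k K) ≠ 1 := by
    intro h
    have : f = 1 := by
      apply map_injective (algebraMap k K) (algebraMap k K).injective
      rw [h, Polynomial.map_one]
    exact hirr.not_isUnit (this ▸ isUnit_one)
  rw [irreducible_of_monic (hf.map _) hf1]
  intro a b ha hb hab
  obtain ⟨a₀, rfl, ha₀⟩ := hlift a ha ⟨b, hab.symm⟩
  obtain ⟨b₀, rfl, hb₀⟩ := hlift b hb ⟨a₀.map (algebraMap k K), by rw [← hab, mul_comm]⟩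
  have hfab : a₀ * b₀ = f := by
    apply map_injective (algebraMap k K) (algebraMap k K).injective
    rw [Polynomial.map_mul, hab]
  have hf1' : f ≠ 1 := fun h => hirr.not_isUnit (h ▸ isUnit_one)
  rcases (irreducible_of_monic hf hf1').mp hirr a₀ b₀ ha₀ hb₀ hfab with h | h
  · left; rw [h, Polynomial.map_one]
  · right; rw [h, Polynomial.map_one]

/-- Over a perfect ground field every function field of one variable is geometric (`k' ⊗_k K` is a field
for all finite `k'/k`). -/
theorem result (k : Type u) (K : Type v) [Field k] [Field K] [Algebra k K] [PerfectField k]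
    (hK : FunFld.IsFunctionField k K) : FunFld.IsGeometric k K := by
  intro k' _ _ hfin
  haveI : FiniteDimensional k k' := hfin
  haveI : Algebra.IsSeparable k k' := inferInstance
  obtain ⟨α, hα⟩ := Field.exists_primitive_element k k'
  have hint : IsIntegral k α := Algebra.IsIntegral.isIntegral α
  set f := minpoly k α with hf
  have hfm : f.Monic := minpoly.monic hint
  have hfi : Irreducible f := minpoly.irreducible hint
  have hg : Irreducible (f.map (algebraMap k K)) := irreducible_map_of_algClosedIn hK.2 hfm hfi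
  haveI : Fact (Irreducible (f.map (algebraMap k K))) := ⟨hg⟩
  -- `k' ≃ AdjoinRoot f`
  let e0 : AdjoinRoot f ≃ₐ[k] k' :=
    (IntermediateField.adjoinRootEquivAdjoin k hint).trans
      ((IntermediateField.equivOfEq hα).trans IntermediateField.topEquiv)
  let e1 : k' ⊗[k] K ≃+* K ⊗[k] k' := (Algebra.TensorProduct.comm k k' K).toRingEquiv
  let e2 : K ⊗[k] k' ≃+* K ⊗[k] AdjoinRoot f :=
    (Algebra.TensorProduct.congr (AlgEquiv.refl : K ≃ₐ[k] K) e0.symm).toRingEquiv
  let q : (K ⊗[k] k)[X] := f.map (Algebra.TensorProduct.includeRight : k →ₐ[k] K ⊗[k] k).toRingHom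
  let e3 : K ⊗[k] AdjoinRoot f ≃+* AdjoinRoot q := (AdjoinRoot.tensorAlgEquiv f q rfl).toRingEquiv
  let r : K ⊗[k] k ≃+* K := (Algebra.TensorProduct.rid k K K).toRingEquiv
  have hq : q.map (r : K ⊗[k] k →+* K) = f.map (algebraMap k K) := by
    rw [Polynomial.map_map]
    congr 1
    ext c
    simp [r, Algebra.algebraMap_eq_smul_one]
  let e4 : AdjoinRoot q ≃+* AdjoinRoot (f.map (algebraMap k K)) :=
    AdjoinRoot.mapRingEquiv r q _ (by rw [hq])
  exact MulEquiv.isField (Field.toIsField (AdjoinRoot (f.map (algebraMap k K))))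
    (((e1.trans e2).trans e3).trans e4).toMulEquiv

end Groth.Agent.S11000
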