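import Groth.Statements.S12534
import Mathlib
import Groth.Agent.Lib.Helper2.FunFld.NS3

set_option autoImplicit false
universe u v
open FunFld

namespace Groth.Agent.S12534
open Groth.Agent.Lib.Helper2.FF

/-- Let `K/k` be a geometric function field of one variable, `P` a place of `K`, and `k ⊆ k' ⊆ k''`
finite extensions, `K' = k' ⊗_k K`, `K'' = k'' ⊗_{k'} K'`. Then `P` is nonsingular with respect to
`k''` if and only if `P` is nonsingular with respect to `k'` and every place `Q` of `K'` above `P`
is nonsingular with respect to `k''`. Here 'nonsingular with respect to `k'`' means that the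
integral closure of the valuation ring in `K'` is the ring generated over it by `k'`, both taken
inside `K'` over the image of the valuation ring. -/
theorem result (k k' k'' : Type u) (K K' K'' : Type v) [Field k] [Field k'] [Field k''] [Field K] [Field K'] [Field K'']
    [Algebra k k'] [Algebra k' k''] [Algebra k k''] [IsScalarTower k k' k'']
    [FiniteDimensional k k'] [FiniteDimensional k' k'']
    [Algebra k K] [Algebra K K'] [Algebra k' K'] [Algebra k K'] [IsScalarTower k k' K'] [IsScalarTower k K K']
    [Algebra K' K''] [Algebra k'' K''] [Algebra k' K''] [Algebra k K''] [Algebra K K'']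
    [IsScalarTower k' k'' K''] [IsScalarTower k' K' K''] [IsScalarTower K K' K''] [IsScalarTower k K K'']
    (h1 : Function.Bijective (Algebra.TensorProduct.productMap
      (IsScalarTower.toAlgHom k k' K') (IsScalarTower.toAlgHom k K K')))
    (h2 : Function.Bijective (Algebra.TensorProduct.productMap
      (IsScalarTower.toAlgHom k' k'' K'') (IsScalarTower.toAlgHom k' K' K'')))
    (hK : FunFld.IsFunctionField k K) (hg : FunFld.IsGeometric k K) (P : FunFld.Place k K) :
    (integralClosure (P.O.toSubring.map (algebraMap K K'')) K'' =
        Algebra.adjoin (P.O.toSubring.map (algebraMap K K'')) (Set.range (algebraMap k'' K''))) ↔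
      (integralClosure (P.O.toSubring.map (algebraMap K K')) K' =
          Algebra.adjoin (P.O.toSubring.map (algebraMap K K')) (Set.range (algebraMap k' K')) ∧
        ∀ Q : FunFld.Place k K', FunFld.IsOver Q P →
          integralClosure (Q.O.toSubring.map (algebraMap K' K'')) K'' =
            Algebra.adjoin (Q.O.toSubring.map (algebraMap K' K'')) (Set.range (algebraMap k'' K''))) := by
  classical
  haveI : FiniteDimensional K K' := finiteDimensional_cExt (k := k) (k' := k') h1
  haveI : FiniteDimensional K' K'' := finiteDimensional_cExt (k := k') (k' := k'') h2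
  haveI : FiniteDimensional K K'' := Module.Finite.trans K' K''
  have hK' : IsFunctionField k' K' := (Groth.Agent.S11006.result k k' K K' h1 hK hg).1
  haveI I1 : IsScalarTower k k' K'' := IsScalarTower.of_algebraMap_eq fun c => by
    rw [IsScalarTower.algebraMap_apply k K K'', IsScalarTower.algebraMap_apply K K' K'',
      ← IsScalarTower.algebraMap_apply k K K', IsScalarTower.algebraMap_apply k k' K',
      ← IsScalarTower.algebraMap_apply k' K' K'']
  haveI I2 : IsScalarTower k k'' K'' := IsScalarTower.of_algebraMap_eq fun c => by
    rw [IsScalarTower.algebraMap_apply k k' K'', IsScalarTower.algebraMap_apply k k' k'',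
      ← IsScalarTower.algebraMap_apply k' k'' K'']
  haveI : FiniteDimensional k k'' := Module.Finite.trans k' k''
  have hk'R : ∀ (R : FunFld.Place k K'') (c : k'), R.1 (algebraMap k' K'' c) ≤ 1 :=
    fun R c => v_algebraMap_const_le (k := k) (k' := k') R c
  have hk'Q : ∀ (Q : FunFld.Place k K') (c : k'), Q.1 (algebraMap k' K' c) ≤ 1 :=
    fun Q c => v_algebraMap_const_le (k := k) (k' := k') Q c
  let b' := Module.finBasis k k'
  let b'' := Module.finBasis k' k''
  have hB' := isConstBasis_cBasis (K := K) (K' := K') b' h1
  have hB'' := isConstBasis_cBasis (K := K') (K' := K'') b'' h2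
  have hB3 := hB'.smulTower hB''
  rw [ns_iff hK hB3 P, ns_iff hK hB' P, ns_tower_val hK hK' hk'R hk'Q hB' hB'' P]
  refine and_congr Iff.rfl (forall_congr' fun Q => forall_congr' fun hQ => ?_)
  have hQ' := ns_iff (k := k') hK' hB'' (upPlace (k := k) (k' := k') Q)
  refine Iff.trans ?_ hQ'.symm
  refine forall_congr' fun z => ?_
  refine imp_congr ?_ Iff.rfl
  constructor
  · intro h R' hR'
    exact h ⟨R'.1, fun c => by
      rw [IsScalarTower.algebraMap_apply k k' K'']; exact R'.2.1 _, R'.2.2⟩ hR'
  · intro h R hR
    exact h ⟨R.1, hk'R R, R.2.2⟩ hR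
end Groth.Agent.S12534
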