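import Groth.Statements.S11039
import Mathlib
import Groth.Agent.Lib.Helper2.FunFld.Zeta8

set_option autoImplicit false
open FunFld

namespace Groth.Agent.S11039

/-- The numerator `L_K(t) = ∑ aᵢ tⁱ` of the zeta function of a function field of one variable of genus
`g` over a finite field with `q` elements has degree exactly `2g` and its coefficients satisfy
`a_{2g-i} = q^{g-i} aᵢ` for `0 ≤ i ≤ 2g`. -/
theorem result
    (k K : Type*) [Field k] [Finite k] [Field K] [Algebra k K]
    (hK : FunFld.IsFunctionField k K) :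
    (∀ n : ℕ, 2 * FunFld.genus k K < n → PowerSeries.coeff n (FunFld.numerZ k K) = 0) ∧
    PowerSeries.coeff (2 * FunFld.genus k K) (FunFld.numerZ k K) ≠ 0 ∧
    ∀ i : ℕ, i ≤ 2 * FunFld.genus k K →
      (((PowerSeries.coeff (2 * FunFld.genus k K - i) (FunFld.numerZ k K) : ℤ)) : ℚ) =
        (Nat.card k : ℚ) ^ ((FunFld.genus k K : ℤ) - i) *
          (((PowerSeries.coeff i (FunFld.numerZ k K) : ℤ)) : ℚ) := by
  have hq1 : (1 : ℚ) < Nat.card k := by exact_mod_cast (Finite.one_lt_card : 1 < Nat.card k)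
  have hq0 : (Nat.card k : ℚ) ≠ 0 := by positivity
  have hFE := Groth.Agent.Lib.Helper2.FF.Lc_functional hK
  have hco := Groth.Agent.Lib.Helper2.FF.coeff_numerZ_eq_Lc (k := k) (K := K)
  refine ⟨fun n hn => ?_, ?_, fun i hi => ?_⟩
  · have h1 := hFE (2 * (FunFld.genus k K : ℤ) - n)
    have hneg : Groth.Agent.Lib.Helper2.FF.Lc k K (2 * (FunFld.genus k K : ℤ) - n) = 0 :=
      Groth.Agent.Lib.Helper2.FF.Lc_neg (by omega)
    rw [sub_sub_cancel, hneg, mul_zero] at h1
    have h2 := hco n
    rw [h1] at h2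
    exact_mod_cast h2
  · have h1 := hFE 0
    rw [sub_zero, sub_zero] at h1
    have h2 := hco (2 * FunFld.genus k K)
    have h3 := hco 0
    push_cast at h2 h3
    rw [h1, ← h3] at h2
    have h4 : PowerSeries.coeff 0 (FunFld.numerZ k K) = 1 := by
      rw [Groth.Agent.Lib.Helper2.FF.numerZ_def]
      simp [Groth.Agent.Lib.Helper2.FF.effDivCount_zero hK]
    rw [h4] at h2
    intro h0
    rw [h0] at h2
    have : (Nat.card k : ℚ) ^ (FunFld.genus k K : ℤ) ≠ 0 := zpow_ne_zero _ hq0
    apply this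
    simpa using h2.symm
  · have h1 := hFE i
    have h2 := hco (2 * FunFld.genus k K - i)
    have h3 := hco i
    have e : ((2 * FunFld.genus k K - i : ℕ) : ℤ) = 2 * (FunFld.genus k K : ℤ) - i := by
      rw [Nat.cast_sub hi]; push_cast; ring
    rw [e, h1, ← h3] at h2
    exact h2

end Groth.Agent.S11039
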