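import Groth.Statements.S18382
import Groth.Agent.Lib.Helper8.MTree7

set_option autoImplicit false
universe u
open PhiStab
open Groth.Agent.Lib.Helper8.MTree

namespace Groth.Agent.S18382

section aux
variable {V E : Type u} [Fintype V] [Fintype E] [DecidableEq V] [DecidableEq E]
  (ends : E → V × V)

theorem acyc_univ (hF : DualGr.IsForest ends) : Acyc ends (Finset.univ : Finset E) := by
  intro C _ hpar
  exact (isForest_iff ends).mp hF C ((par_eq_zero_iff ends C).mp hpar)

theorem conn_of_mem_side (e : E) (v : V) (hv : v ∈ side ends e) :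
    Conn ends (Finset.univ.erase e) (ends e).1 v := by
  classical
  unfold side at hv
  rw [Finset.mem_filter] at hv
  refine Relation.ReflTransGen.mono ?_ _ _ hv.2
  rintro a b ⟨e', he'⟩
  exact ⟨e'.1, e'.2, he'⟩

theorem fst_mem_side (e : E) : (ends e).1 ∈ side ends e := by
  classical
  unfold side
  rw [Finset.mem_filter]
  exact ⟨Finset.mem_univ _, Relation.ReflTransGen.refl⟩

theorem snd_notMem_side (hF : DualGr.IsForest ends) (e : E) : (ends e).2 ∉ side ends e := by
  classical
  intro hmem
  have hc := conn_of_mem_side ends e _ hmem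
  obtain ⟨P, hPF, hP⟩ := exists_par_of_conn ends hc
  have heP : e ∉ P := fun h => (Finset.mem_erase.mp (hPF h)).1 rfl
  have hpar : par ends (insert e P) = 0 := by
    rw [par_insert ends heP, hP,
      pe_of_joins ends (Or.inl rfl : Joins ends e (ends e).1 (ends e).2)]
    exact zmod2_add_self _
  have := acyc_univ ends hF (insert e P) (Finset.subset_univ _) hpar
  exact Finset.insert_ne_empty e P this

theorem mem_side_iff_of_ne (e e' : E) (hne : e ≠ e') :
    (ends e).1 ∈ side ends e' ↔ (ends e).2 ∈ side ends e' := by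
  classical
  unfold side
  simp only [Finset.mem_filter, Finset.mem_univ, true_and]
  have hadj : LabGraph.Adj (spanEnds ends (Finset.univ.erase e')) (ends e).1 (ends e).2 :=
    ⟨⟨e, Finset.mem_erase.mpr ⟨hne, Finset.mem_univ _⟩⟩, Or.inl rfl⟩
  have hadj' : LabGraph.Adj (spanEnds ends (Finset.univ.erase e')) (ends e).2 (ends e).1 :=
    ⟨⟨e, Finset.mem_erase.mpr ⟨hne, Finset.mem_univ _⟩⟩, Or.inr rfl⟩
  constructor
  · intro h; exact h.tail hadj
  · intro h; exact h.tail hadj'

/-- the linear map -/
noncomputable def L : (V → ℝ) →ₗ[ℝ] (E → ℝ) × ℝ where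
  toFun φ := (fun e => ∑ v ∈ side ends e, φ v, ∑ v, φ v)
  map_add' φ ψ := by
    ext
    · simp [Finset.sum_add_distrib]
    · simp [Finset.sum_add_distrib]
  map_smul' a φ := by
    ext
    · simp [Finset.mul_sum]
    · simp [Finset.mul_sum]

theorem L_apply (φ : V → ℝ) :
    L ends φ = (fun e => ∑ v ∈ side ends e, φ v, ∑ v, φ v) := rfl

/-- the difference of indicator functions at the endpoints of `e` -/
noncomputable def dv (e : E) : V → ℝ := Pi.single (ends e).1 1 - Pi.single (ends e).2 1

theorem sum_side_single (S : Finset V) (a : V) :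
    ∑ v ∈ S, (Pi.single a (1:ℝ) : V → ℝ) v = if a ∈ S then 1 else 0 := by
  simp [Pi.single_apply]

theorem L_dv (hF : DualGr.IsForest ends) (e : E) :
    L ends (dv ends e) = (Pi.single e 1, 0) := by
  classical
  rw [L_apply]
  refine Prod.ext ?_ ?_
  · funext e'
    simp only [dv, Pi.sub_apply, Finset.sum_sub_distrib, sum_side_single]
    by_cases h : e' = e
    · subst h
      rw [if_pos (fst_mem_side ends e'), if_neg (snd_notMem_side ends hF e')]
      simp
    · rw [Pi.single_apply, if_neg h]
      by_cases h1 : (ends e).1 ∈ side ends e'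
      · rw [if_pos h1, if_pos ((mem_side_iff_of_ne ends e e' (Ne.symm h)).mp h1)]; ring
      · rw [if_neg h1, if_neg (fun h2 => h1 ((mem_side_iff_of_ne ends e e' (Ne.symm h)).mpr h2))]
        ring
  · simp only [dv, Pi.sub_apply, Finset.sum_sub_distrib]
    simp

theorem L_surjective (hT : DualGr.IsTree ends) : Function.Surjective (L ends) := by
  classical
  obtain ⟨⟨⟨v₀⟩, _⟩, hF⟩ := hT
  rintro ⟨c, c₀⟩
  set s : E → ℝ := (L ends (Pi.single v₀ 1)).1 with hs
  have h1 : (L ends (Pi.single v₀ 1)).2 = 1 := by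
    rw [L_apply]; simp
  refine ⟨∑ e, (c e - c₀ * s e) • dv ends e + c₀ • Pi.single v₀ 1, ?_⟩
  rw [map_add, map_sum, map_smul]
  simp_rw [map_smul, L_dv ends hF]
  refine Prod.ext ?_ ?_
  · funext e'
    simp only [Prod.fst_add, Prod.fst_sum, Prod.smul_fst, Pi.add_apply, Finset.sum_apply,
      Pi.smul_apply, smul_eq_mul, Pi.single_apply, mul_ite, mul_one, mul_zero]
    rw [Finset.sum_ite_eq]
    simp only [Finset.mem_univ, if_true]
    rw [hs]; ring
  · simp only [Prod.snd_add, Prod.snd_sum, Prod.smul_snd, smul_eq_mul, mul_zero,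
      Finset.sum_const_zero, zero_add, h1, mul_one]

/-- the coboundary-with-basepoint map, injective for connected graphs -/
noncomputable def Cb (v₀ : V) : (V → ℝ) →ₗ[ℝ] (E → ℝ) × ℝ where
  toFun φ := (fun e => φ (ends e).2 - φ (ends e).1, φ v₀)
  map_add' φ ψ := by
    ext
    · simp; ring
    · simp
  map_smul' a φ := by
    ext
    · simp; ring
    · simp

theorem Cb_injective (hG : LabGraph.Connected ends) (v₀ : V) : Function.Injective (Cb ends v₀) := by
  rw [← LinearMap.ker_eq_bot, LinearMap.ker_eq_bot']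
  intro φ hφ
  have h1 : ∀ e, φ (ends e).2 - φ (ends e).1 = 0 := fun e => congrFun (congrArg Prod.fst hφ) e
  have h2 : φ v₀ = 0 := congrArg Prod.snd hφ
  have hadj : ∀ a b, LabGraph.Adj ends a b → φ a = φ b := by
    rintro a b ⟨e, he | he⟩
    · have := h1 e; rw [he] at this; simp only at this; linarith
    · have := h1 e; rw [he] at this; simp only at this; linarith
  have hconst : ∀ w, φ v₀ = φ w := by
    intro w
    have := hG.2 v₀ w
    induction this with
    | refl => rfl
    | tail _ hbc ih => rw [ih]; exact hadj _ _ hbc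
  funext w
  rw [← hconst w, h2]; rfl

end aux

open PhiStab in
theorem result {V E : Type u} [Fintype V] [Fintype E] [DecidableEq V] [DecidableEq E]
    (ends : E → V × V) (hT : DualGr.IsTree ends)
    (c : E → ℝ) (c₀ : ℝ) :
    ∃! φ : V → ℝ, (∀ e : E, (∑ v ∈ side ends e, φ v) = c e) ∧ (∑ v : V, φ v) = c₀ := by
  classical
  have hsurj := L_surjective ends hT
  obtain ⟨v₀⟩ := hT.1.1
  have hcb := Cb_injective ends hT.1 v₀
  have hle1 : Module.finrank ℝ (V → ℝ) ≤ Module.finrank ℝ ((E → ℝ) × ℝ) :=
    LinearMap.finrank_le_finrank_of_injective hcb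
  have hle2 : Module.finrank ℝ ((E → ℝ) × ℝ) ≤ Module.finrank ℝ (V → ℝ) :=
    LinearMap.finrank_le_finrank_of_surjective hsurj
  have heq : Module.finrank ℝ (V → ℝ) = Module.finrank ℝ ((E → ℝ) × ℝ) := le_antisymm hle1 hle2
  have hinj : Function.Injective (L ends) :=
    (LinearMap.injective_iff_surjective_of_finrank_eq_finrank heq).mpr hsurj
  obtain ⟨φ, hφ⟩ := hsurj (c, c₀)
  refine ⟨φ, ?_, ?_⟩
  · rw [L_apply] at hφ
    exact ⟨fun e => congrFun (congrArg Prod.fst hφ) e, congrArg Prod.snd hφ⟩
  · intro ψ hψ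
    apply hinj
    rw [hφ, L_apply]
    exact Prod.ext (funext hψ.1) hψ.2

end Groth.Agent.S18382
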