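import Groth.Statements.S19560
import Mathlib

set_option autoImplicit false
universe u
open W4c1limliniiii

namespace Groth.Agent.S19560

open Polynomial
section Aux

variable {k : Type u} [Field k]

theorem wronskian_order (a : k) (s0 s1 : k[X]) (h0 : s0.eval a ≠ 0) (h1 : s1 ≠ 0)
    (hW : wronskian s0 s1 ≠ 0) :
    (((rootMultiplicity a s1 : ℕ) : k) ≠ 0 →
        rootMultiplicity a (wronskian s0 s1) + 1 = rootMultiplicity a s1) ∧
    (((rootMultiplicity a s1 : ℕ) : k) = 0 →
        rootMultiplicity a s1 ≤ rootMultiplicity a (wronskian s0 s1)) := by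
  classical
  obtain ⟨q, hq, hqd⟩ := exists_eq_pow_rootMultiplicity_mul_and_not_dvd s1 h1 a
  set m := rootMultiplicity a s1 with hm
  have hqa : q.eval a ≠ 0 := by
    intro h
    exact hqd (dvd_iff_isRoot.mpr h)
  have hder : derivative s1 = C (m : k) * (X - C a) ^ (m - 1) * q + (X - C a) ^ m * derivative q := by
    conv_lhs => rw [hq]
    rw [derivative_mul, derivative_X_sub_C_pow]
  constructor
  · intro hmk
    have hm0 : m ≠ 0 := by
      rintro h
      rw [h] at hmk
      simp at hmk
    obtain ⟨m', hm'⟩ : ∃ m', m = m' + 1 := ⟨m - 1, by omega⟩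
    set B : k[X] := s0 * (C (m : k) * q + (X - C a) * derivative q) - derivative s0 * (X - C a) * q
      with hB
    have hWB : wronskian s0 s1 = (X - C a) ^ m' * B := by
      rw [wronskian, hder]
      conv_lhs => rw [hq]
      rw [hm']
      simp only [Nat.add_sub_cancel, hB]
      rw [hm']
      ring
    have hBa : B.eval a ≠ 0 := by
      simp only [hB, eval_sub, eval_mul, eval_add, eval_C, eval_X, sub_self, zero_mul, mul_zero,
        add_zero, sub_zero]
      exact mul_ne_zero h0 (mul_ne_zero hmk hqa)
    have hW' : (X - C a) ^ m' * B ≠ 0 := by rw [← hWB]; exact hW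
    rw [hWB, rootMultiplicity_mul hW', rootMultiplicity_X_sub_C_pow,
      rootMultiplicity_eq_zero (by simpa [IsRoot] using hBa), hm']
  · intro hmk
    have hWB : wronskian s0 s1 = (X - C a) ^ m * (s0 * derivative q - derivative s0 * q) := by
      rw [wronskian, hder, hmk]
      conv_lhs => rw [hq]
      simp only [map_zero, zero_mul, zero_add]
      ring
    rw [le_rootMultiplicity_iff hW, hWB]
    exact dvd_mul_right _ _

end Aux

theorem rootMultiplicity_C_mul' {k : Type u} [Field k] (a c : k) (hc : c ≠ 0) (P : k[X]) :
    rootMultiplicity a (C c * P) = rootMultiplicity a P := by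
  by_cases hP : P = 0
  · simp [hP]
  · rw [rootMultiplicity_mul (mul_ne_zero (by simpa using hc) hP), rootMultiplicity_C, zero_add]



open Polynomial in
/-- Let k be an algebraically closed field of characteristic p (a prime or zero) and let F, G be
polynomials spanning a base-point-free pencil V of degree d (a two-dimensional space of polynomials
of degree at most d containing one of degree d and with no common zero in k), so that V encodes a
degree-d self-map F/G of the projective line up to automorphisms of the target. Suppose the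
Wronskian W = F′G − FG′ is non-zero and vanishes at the point a to order exactly e − 1 with e ≥ 1,
and that p = 0 or e − 1 < p. Then the map is tamely ramified at a with index e: the largest order of
vanishing at a of a non-zero member of V is e, and p does not divide e. (The hypothesis W ≠ 0 makes
the order of vanishing meaningful; for W = 0 the map is inseparable.) -/
theorem result
    (k : Type u) [Field k] [IsAlgClosed k] (p : ℕ) [CharP k p]
    (d : ℕ) (F G : k[X]) (hV : W4c1limliniiii.IsPencil d (Submodule.span k {F, G}))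
    (hW : Polynomial.wronskian F G ≠ 0) (a : k) (e : ℕ)
    (he : (Polynomial.wronskian F G).rootMultiplicity a + 1 = e) (hp : p = 0 ∨ e - 1 < p) :
    W4c1limliniiii.HasRamIdx (Submodule.span k {F, G}) a e ∧ ¬ p ∣ e := by
  classical
  set u := F.eval a with hu
  set v := G.eval a with hv
  have huv : ¬ (u = 0 ∧ v = 0) := by
    rintro ⟨h1, h2⟩
    obtain ⟨s, hs, hsa⟩ := hV.2.2.2 a
    rw [Submodule.mem_span_pair] at hs
    obtain ⟨α, β, rfl⟩ := hs
    apply hsa
    simp [← hu, ← hv, h1, h2]
  set s1 : k[X] := C v * F - C u * G with hs1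
  have hs1a : s1.eval a = 0 := by
    simp [hs1, ← hu, ← hv, mul_comm]
  have hWF : wronskian F s1 = C (-u) * wronskian F G := by
    simp only [wronskian, hs1, derivative_sub, derivative_mul, derivative_C, zero_mul, zero_add, map_neg]
    ring
  have hWG : wronskian G s1 = C (-v) * wronskian F G := by
    simp only [wronskian, hs1, derivative_sub, derivative_mul, derivative_C, zero_mul, zero_add, map_neg]
    ring
  obtain ⟨s0, c, hs0a, hc, hWs⟩ : ∃ (s0 : k[X]) (c : k), s0.eval a ≠ 0 ∧ c ≠ 0 ∧
      wronskian s0 s1 = C c * wronskian F G := by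
    by_cases h : u = 0
    · have hv0 : v ≠ 0 := fun h' => huv ⟨h, h'⟩
      exact ⟨G, -v, hv0, neg_ne_zero.mpr hv0, hWG⟩
    · exact ⟨F, -u, h, neg_ne_zero.mpr h, hWF⟩
  have hWs0 : wronskian s0 s1 ≠ 0 := by
    rw [hWs]; exact mul_ne_zero (by simpa using hc) hW
  have hs1ne : s1 ≠ 0 := by
    rintro h
    rw [h, wronskian_zero_right] at hWs0
    exact hWs0 rfl
  have hmult : rootMultiplicity a (wronskian s0 s1) = rootMultiplicity a (wronskian F G) := by
    rw [hWs, rootMultiplicity_C_mul' a c hc]
  obtain ⟨hA, hB⟩ := wronskian_order a s0 s1 hs0a hs1ne hWs0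
  rw [hmult] at hA hB
  set m := rootMultiplicity a s1 with hm
  have hmpos : 0 < m := (rootMultiplicity_pos hs1ne).mpr hs1a
  have hme : m = e ∧ ¬ p ∣ e := by
    by_cases hmk : ((m : ℕ) : k) = 0
    · exfalso
      have h1 := hB hmk
      have hpm : p ∣ m := (CharP.cast_eq_zero_iff k p m).mp hmk
      rcases hp with hp | hp
      · rw [hp, zero_dvd_iff] at hpm; omega
      · have := Nat.le_of_dvd hmpos hpm
        omega
    · have h1 := hA hmk
      have : m = e := by omega
      refine ⟨this, ?_⟩
      rw [← this]
      intro hpm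
      exact hmk ((CharP.cast_eq_zero_iff k p m).mpr hpm)
  refine ⟨⟨⟨s1, ?_, hs1ne, hme.1 ▸ le_refl _⟩, ?_⟩, hme.2⟩
  · rw [Submodule.mem_span_pair]
    refine ⟨v, -u, ?_⟩
    rw [hs1, smul_eq_C_mul, smul_eq_C_mul, map_neg]; ring
  · intro s hs hsne
    rw [Submodule.mem_span_pair] at hs
    obtain ⟨α, β, rfl⟩ := hs
    by_cases hsa : (α • F + β • G).eval a = 0
    · have hlin : α * u + β * v = 0 := by
        simpa [← hu, ← hv] using hsa
      obtain ⟨c', hc'⟩ : ∃ c' : k, α • F + β • G = C c' * s1 := by
        by_cases h : u = 0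
        · have hv0 : v ≠ 0 := fun h' => huv ⟨h, h'⟩
          have hβ : β = 0 := by
            rw [h, mul_zero, zero_add] at hlin
            exact (mul_eq_zero.mp hlin).resolve_right hv0
          refine ⟨α / v, ?_⟩
          rw [hs1, h, hβ, smul_eq_C_mul, smul_eq_C_mul]
          simp only [map_zero, zero_mul, add_zero, sub_zero]
          rw [← mul_assoc, ← C_mul, div_mul_cancel₀ _ hv0]
        · refine ⟨-β / u, ?_⟩
          have hα : α = -β / u * v := by
            field_simp
            linear_combination hlin
          rw [hs1, smul_eq_C_mul, smul_eq_C_mul, mul_sub, ← mul_assoc, ← mul_assoc, ← C_mul, ← C_mul,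
            ← hα, div_mul_cancel₀ _ h, map_neg]
          ring
      have hc'0 : c' ≠ 0 := by
        rintro rfl
        apply hsne
        rw [hc']; simp
      rw [hc', rootMultiplicity_C_mul' a c' hc'0, ← hm, hme.1]
    · rw [rootMultiplicity_eq_zero hsa]
      exact Nat.zero_le _

end Groth.Agent.S19560
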