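import Groth.Statements.S1405
import Groth.Agent.Lib.Helper3.Noetherian

set_option autoImplicit false
universe u
open FlatMor

namespace Groth.Agent.S1405

open AlgebraicGeometry CategoryTheory Limits in
/-- Let Y' → Y be flat, locally of finite presentation and surjective and f' the base change of f : X →
Y. Then all fibres of f are locally Noetherian if and only if all fibres of f' are. -/
theorem result {X Y X' Y' : Scheme.{u}} (f : X ⟶ Y) (f' : X' ⟶ Y') (g' : X' ⟶ X) (g : Y' ⟶ Y) [Flat g] [LocallyOfFinitePresentation g] [Surjective g]
    (hc : IsPullback g' f' f g) :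
    (∀ y : Y, IsLocallyNoetherian (f.fiber y)) ↔ ∀ y' : Y', IsLocallyNoetherian (f'.fiber y') := by
  have key : ∀ y' : Y', IsLocallyNoetherian (f.fiber (g y')) ↔ IsLocallyNoetherian (f'.fiber y') := by
    intro y'
    obtain ⟨c, hp⟩ : ∃ c, IsPullback c (f'.fiberToSpecResidueField y')
        (f.fiberToSpecResidueField (g y')) (Spec.map (g.residueFieldMap y')) :=
      ⟨_, isPullback_fiberToSpecResidueField_of_isPullback hc y'⟩
    constructor
    · intro h
      exact Groth.Agent.Lib.Helper3.isLocallyNoetherian_of_isPullback_essFiniteType _
        (Groth.Agent.Lib.Helper3.essFiniteType_residueFieldMap g y') _ _ _ hp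
    · intro h
      have : Surjective (Spec.map (g.residueFieldMap y')) :=
        ⟨fun x => ⟨default, Subsingleton.elim _ _⟩⟩
      have h1 : Flat c := MorphismProperty.of_isPullback hp.flip inferInstance
      have h2 : Surjective c := MorphismProperty.of_isPullback hp.flip inferInstance
      have h3 : UniversallyOpen c := MorphismProperty.of_isPullback hp.flip inferInstance
      exact Groth.Agent.Lib.Helper3.isLocallyNoetherian_of_flat_surjective c
  constructor
  · intro h y'
    exact (key y').mp (h _)
  · intro h y
    obtain ⟨y', rfl⟩ := g.surjective y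
    exact (key y').mpr (h _)

end Groth.Agent.S1405
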