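import Groth.Statements.S7661
import Mathlib

set_option autoImplicit false
universe u
open CategoryTheory CategoryTheory.Limits AlgebraicGeometry
open Variety

namespace Groth.Agent.S7661

theorem avoid_aux {A : Type u} [CommRing A] (I : Ideal A) (f₀ : A) :
    ∀ (n : ℕ) (s : Finset (Ideal A)), s.card = n → (∀ p ∈ s, p.IsPrime) → (∀ p ∈ s, ¬ I ≤ p) →
      ∃ g ∈ I, ∀ p ∈ s, f₀ + g ∉ p := by
  classical
  intro n
  induction n with
  | zero =>
    intro s hs _ _
    rw [Finset.card_eq_zero] at hs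
    subst hs
    exact ⟨0, I.zero_mem, by simp⟩
  | succ n ih =>
    intro s hs hp hI
    have hne : s.Nonempty := by
      rw [← Finset.card_pos]; omega
    obtain ⟨p, hps, hmin⟩ := s.exists_minimal hne
    have hmin' : ∀ q ∈ s, q ≠ p → ¬ q ≤ p := by
      intro q hq hqp hle
      exact hqp (le_antisymm hle (hmin hq hle))
    have hcard : (s.erase p).card = n := by
      rw [Finset.card_erase_of_mem hps, hs]; rfl
    obtain ⟨g', hg'I, hg'⟩ := ih (s.erase p) hcard
      (fun q hq => hp q (Finset.mem_of_mem_erase hq)) (fun q hq => hI q (Finset.mem_of_mem_erase hq))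
    by_cases hfp : f₀ + g' ∈ p
    · obtain ⟨x, hxI, hxp⟩ := Set.not_subset.mp (hI p hps)
      have hy : ∀ q ∈ s.erase p, ∃ y ∈ q, y ∉ p := by
        intro q hq
        have := hmin' q (Finset.mem_of_mem_erase hq) (Finset.ne_of_mem_erase hq)
        exact Set.not_subset.mp this
      choose! y hyq hyp using hy
      have hprime := hp p hps
      have hprod : (∏ q ∈ s.erase p, y q) ∉ p := by
        intro h
        obtain ⟨q, hq, hqp⟩ := (Ideal.IsPrime.prod_mem_iff (hp := hprime)).mp h
        exact hyp q hq hqp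
      refine ⟨g' + x * ∏ q ∈ s.erase p, y q, I.add_mem hg'I (I.mul_mem_right _ hxI), ?_⟩
      intro q hq
      by_cases hqp : q = p
      · subst hqp
        intro h
        have h2 : x * ∏ q' ∈ s.erase q, y q' ∈ q := by
          have : f₀ + (g' + x * ∏ q' ∈ s.erase q, y q') - (f₀ + g') ∈ q := q.sub_mem h hfp
          convert this using 1; ring
        rcases hprime.mem_or_mem h2 with h3 | h3
        · exact hxp h3
        · exact hprod h3
      · have hqe : q ∈ s.erase p := Finset.mem_erase.mpr ⟨hqp, hq⟩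
        intro h
        have h2 : x * ∏ q' ∈ s.erase p, y q' ∈ q :=
          q.mul_mem_left _ (Ideal.mem_of_dvd q (Finset.dvd_prod_of_mem y hqe) (hyq q hqe))
        have h3 : f₀ + g' ∈ q := by
          have : f₀ + (g' + x * ∏ q' ∈ s.erase p, y q') - x * ∏ q' ∈ s.erase p, y q' ∈ q :=
            q.sub_mem h h2
          convert this using 1; ring
        exact hg' q hqe h3
    · refine ⟨g', hg'I, fun q hq => ?_⟩
      by_cases hqp : q = p
      · subst hqp; exact hfp
      · exact hg' q (Finset.mem_erase.mpr ⟨hqp, hq⟩)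


/-- Let A be a ring, I an ideal, p_1, …, p_r prime ideals with I ⊄ p_i for all i, and let f̄ ∈ A/I. Then
f̄ lifts to an element f ∈ A with f ∉ p_i for all i. -/
theorem result (A : Type u) [CommRing A] (I : Ideal A)
    (s : Finset (Ideal A)) (hs : ∀ p ∈ s, p.IsPrime) (hI : ∀ p ∈ s, ¬ I ≤ p) (fbar : A ⧸ I) :
    ∃ f : A, Ideal.Quotient.mk I f = fbar ∧ ∀ p ∈ s, f ∉ p := by
  obtain ⟨f₀, rfl⟩ := Ideal.Quotient.mk_surjective fbar
  obtain ⟨g, hgI, hg⟩ := avoid_aux I f₀ s.card s rfl hs hI
  refine ⟨f₀ + g, ?_, hg⟩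
  rw [map_add, Ideal.Quotient.eq_zero_iff_mem.mpr hgI, add_zero]

end Groth.Agent.S7661
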