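import Groth.Statements.S4961
import Mathlib
import Groth.Agent.Lib.Helper6.CMChart3
-- import your own Groth.Agent.* helpers here

set_option autoImplicit false
open CategoryTheory AlgebraicGeometry
universe u v w
open EGA43

namespace Groth.Agent.S4961

/-- Let f : X ⟶ Y be a morphism locally of finite presentation. The set of points x of X at which f is
Cohen–Macaulay (f flat at x and the local ring at x of the fibre through x Cohen–Macaulay) is open
in X. -/
theorem result {X Y : Scheme.{u}} (f : X ⟶ Y)
    [LocallyOfFinitePresentation f] : IsOpen {x : X | MoreMor.IsCMAt f x} := by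
  haveI : LocallyOfFiniteType f := inferInstance
  rw [isOpen_iff_forall_mem_open]
  intro x hx
  obtain ⟨N, hN⟩ := Groth.Agent.Lib.Helper6.CMChart.exists_nat_fibreDimAt f x
  obtain ⟨U, g, hxU, hg, hfl, hlqf⟩ :=
    Groth.Agent.Lib.Helper6.CMChart.exists_flat_chart_nhd_of_isCMAt f x hx N hN
  haveI := hlqf
  haveI := hfl
  refine ⟨U, ?_, U.2, hxU⟩
  intro z hz
  exact Groth.Agent.Lib.Helper6.CMChart.isCMAt_of_flat_chart f N U g hg ⟨z, hz⟩
    ((AlgebraicGeometry.Flat.iff_flat_stalkMap g).mp inferInstance _)

end Groth.Agent.S4961
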