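import Groth.Statements.S18890
import Mathlib
-- import your own Groth.Agent.* helpers here

set_option autoImplicit false
universe u v w w'
open CAlg

namespace Groth.Agent.S18890

open TensorProduct


/-- Let R be a commutative ring, G a finite group whose order is invertible in R, M an R-module with an
R-linear action ρ of G and N an arbitrary R-module. Then the natural map M^G ⊗_R N → M ⊗_R N induced
by the inclusion of the invariants is injective, and its image is the submodule of invariants of M
⊗_R N under the action ρ ⊗ 1 (G acting on the first factor). (The source lets G be a group of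
R-automorphisms of M; a possibly non-faithful linear action changes nothing.) -/
theorem result {R : Type u} [CommRing R]
    {G : Type v} [Group G] [Finite G] (hG : IsUnit ((Nat.card G : ℕ) : R))
    {M : Type w} {N : Type w'} [AddCommGroup M] [Module R M] [AddCommGroup N] [Module R N]
    (ρ : Representation R G M) :
    Function.Injective (LinearMap.rTensor N ρ.invariants.subtype) ∧
      LinearMap.range (LinearMap.rTensor N ρ.invariants.subtype) =
        (ρ.tprod (Representation.trivial R G N)).invariants := by
  classical
  have : Fintype G := Fintype.ofFinite G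
  obtain ⟨c, hc⟩ := hG.exists_left_inv
  rw [Nat.card_eq_fintype_card] at hc
  let e : M →ₗ[R] M := c • ∑ g : G, ρ g
  have he1 : ∀ v, e v ∈ ρ.invariants := by
    intro v h
    simp only [e, LinearMap.smul_apply, LinearMap.sum_apply, map_smul, map_sum]
    congr 1
    rw [← Function.Bijective.sum_comp (Group.mulLeft_bijective h) (fun g => ρ g v)]
    refine Finset.sum_congr rfl fun g _ => ?_
    rw [map_mul]; rfl
  have he2 : ∀ v ∈ ρ.invariants, e v = v := by
    intro v hv
    simp only [e, LinearMap.smul_apply, LinearMap.sum_apply]
    rw [Finset.sum_congr rfl (fun g _ => hv g), Finset.sum_const, Finset.card_univ,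
      ← Nat.cast_smul_eq_nsmul R, smul_smul, hc, one_smul]
  let e' : M →ₗ[R] ρ.invariants := e.codRestrict _ he1
  have h1 : e' ∘ₗ ρ.invariants.subtype = LinearMap.id := by
    ext ⟨v, hv⟩
    exact he2 v hv
  have h2 : ρ.invariants.subtype ∘ₗ e' = e := by
    ext v; rfl
  constructor
  · apply Function.LeftInverse.injective (g := LinearMap.rTensor N e')
    intro x
    rw [← LinearMap.comp_apply, ← LinearMap.rTensor_comp, h1, LinearMap.rTensor_id,
      LinearMap.id_apply]
  · apply le_antisymm
    · rintro _ ⟨x, rfl⟩ g
      rw [Representation.tprod_apply]
      have : TensorProduct.map (ρ g) (Representation.trivial R G N g) =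
          LinearMap.rTensor N (ρ g) := rfl
      rw [this, ← LinearMap.comp_apply, ← LinearMap.rTensor_comp]
      congr 2
      ext ⟨v, hv⟩
      exact hv g
    · intro y hy
      have hy' : ∀ g : G, LinearMap.rTensor N (ρ g) y = y := hy
      have : LinearMap.rTensor N e y = y := by
        have hsum : LinearMap.rTensor N (∑ g : G, ρ g) = ∑ g : G, LinearMap.rTensor N (ρ g) :=
          map_sum (LinearMap.rTensorHom N) _ _
        simp only [e, LinearMap.rTensor_smul, hsum, LinearMap.smul_apply,
          LinearMap.sum_apply]
        rw [Finset.sum_congr rfl (fun g _ => hy' g), Finset.sum_const, Finset.card_univ,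
          ← Nat.cast_smul_eq_nsmul R, smul_smul, hc, one_smul]
      rw [← this, ← h2, LinearMap.rTensor_comp]
      exact ⟨_, rfl⟩

end Groth.Agent.S18890
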