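import Groth.Statements.S3791
import Mathlib

set_option autoImplicit false
universe v u
open CategoryTheory CategoryTheory.Limits AlgebraicGeometry
attribute [local instance] HasDerivedCategory.standard
open KRR

namespace Groth.Agent.S3791

section helpers

variable {K : Type v} [CommRing K] [LambdaRing.LambdaOps K]

theorem lamSeries_add (x y : K) :
    LambdaRing.lamSeries (x + y) = LambdaRing.lamSeries x * LambdaRing.lamSeries y := by
  ext k
  rw [PowerSeries.coeff_mul, LambdaRing.lamSeries, PowerSeries.coeff_mk, LambdaRing.LambdaOps.lam_add,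
    Finset.Nat.sum_antidiagonal_eq_sum_range_succ
      (fun i j => PowerSeries.coeff i (LambdaRing.lamSeries x) * PowerSeries.coeff j (LambdaRing.lamSeries y))]
  simp [LambdaRing.lamSeries]

theorem constantCoeff_lamSeries (x : K) : PowerSeries.constantCoeff (LambdaRing.lamSeries x) = 1 := by
  rw [← PowerSeries.coeff_zero_eq_constantCoeff_apply, LambdaRing.lamSeries, PowerSeries.coeff_mk]
  exact LambdaRing.LambdaOps.lam_zero x

theorem lamSeries_zero : LambdaRing.lamSeries (0 : K) = 1 := by
  have h1 : LambdaRing.lamSeries (0 : K) = LambdaRing.lamSeries (0 : K) * LambdaRing.lamSeries (0 : K) := by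
    conv_lhs => rw [← add_zero (0 : K)]
    exact lamSeries_add 0 0
  have hu : IsUnit (LambdaRing.lamSeries (0 : K)) := by
    rw [PowerSeries.isUnit_iff_constantCoeff, constantCoeff_lamSeries]
    exact isUnit_one
  obtain ⟨w, hw⟩ := hu
  have h2 : (w : PowerSeries K) * 1 = w * w := by rw [mul_one, hw]; exact h1
  have := w.isUnit.mul_left_cancel h2
  rw [← hw]
  exact this.symm

theorem lamSeries_of_isLine (P : LambdaRing.PosStructure K) (l : K) (hl : P.IsLine l) :
    LambdaRing.lamSeries l = 1 + PowerSeries.C l * PowerSeries.X := by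
  obtain ⟨hpos, haug⟩ := hl
  ext n
  rw [LambdaRing.lamSeries, PowerSeries.coeff_mk]
  rcases n with _ | _ | n
  · simp [LambdaRing.LambdaOps.lam_zero]
  · simp [LambdaRing.LambdaOps.lam_one, PowerSeries.coeff_one]
  · rw [P.lam_eq_zero l hpos (n + 2) (by rw [haug]; exact_mod_cast (by omega : 1 < n + 2))]
    simp [PowerSeries.coeff_one, PowerSeries.coeff_X]

theorem isLine_one (P : LambdaRing.PosStructure K) : P.IsLine (1 : K) := by
  refine ⟨?_, map_one _⟩
  have := P.natCast_mem 1 Nat.one_pos
  simpa using this

theorem isLine_mul (P : LambdaRing.PosStructure K) {a b : K} (ha : P.IsLine a) (hb : P.IsLine b) :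
    P.IsLine (a * b) :=
  ⟨P.mul_mem a b ha.1 hb.1, by rw [map_mul, ha.2, hb.2, mul_one]⟩

theorem isLine_pow (P : LambdaRing.PosStructure K) {a : K} (ha : P.IsLine a) (n : ℕ) :
    P.IsLine (a ^ n) := by
  induction n with
  | zero => rw [pow_zero]; exact isLine_one P
  | succ n ih => rw [pow_succ]; exact isLine_mul P ih ha

theorem isUnit_of_isLine (P : LambdaRing.PosStructure K) {l : K} (hl : P.IsLine l) : IsUnit l := by
  have := P.isUnit_lam l hl.1
  rw [hl.2] at this
  simpa [LambdaRing.LambdaOps.lam_one] using this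

theorem lamSeries_natCast (P : LambdaRing.PosStructure K) (m : ℕ) :
    LambdaRing.lamSeries ((m : ℕ) : K) = (1 + PowerSeries.X) ^ m := by
  induction m with
  | zero => simp [lamSeries_zero]
  | succ m ih =>
    rw [Nat.cast_succ, lamSeries_add, ih, lamSeries_of_isLine P 1 (isLine_one P), pow_succ]
    simp

/-- Key lemma: if `e + l = m` with `e` positive and `l` a line element, then `(l - 1) ^ m = 0`. -/
theorem pow_sub_one_eq_zero (P : LambdaRing.PosStructure K) (l e : K) (m : ℕ) (hl : P.IsLine l)
    (he : e ∈ P.pos) (hsum : e + l = (m : K)) : (l - 1) ^ m = 0 := by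
  classical
  have hser : LambdaRing.lamSeries e * (1 + PowerSeries.C l * PowerSeries.X) =
      (1 + PowerSeries.X) ^ m := by
    rw [← lamSeries_of_isLine P l hl, ← lamSeries_add, hsum, lamSeries_natCast P]
  have haug : P.aug e + 1 = (m : ℤ) := by
    have := congrArg P.aug hsum
    rw [map_add, hl.2, map_natCast] at this
    exact this
  have hpos : 0 < P.aug e := P.aug_pos e he
  set a : ℕ := (P.aug e).toNat with ha
  have haa : (a : ℤ) = P.aug e := Int.toNat_of_nonneg hpos.le
  let p : Polynomial K := ∑ i ∈ Finset.range (a + 1),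
    Polynomial.C (LambdaRing.LambdaOps.lam i e) * Polynomial.X ^ i
  have hp : (p : PowerSeries K) = LambdaRing.lamSeries e := by
    ext i
    rw [Polynomial.coeff_coe, LambdaRing.lamSeries, PowerSeries.coeff_mk]
    simp only [p, Polynomial.finsetSum_coeff, Polynomial.coeff_C_mul, Polynomial.coeff_X_pow]
    by_cases hi : i < a + 1
    · rw [Finset.sum_eq_single i]
      · simp
      · intro j _ hji
        simp [Ne.symm hji]
      · intro h
        exact absurd (Finset.mem_range.mpr hi) h
    · rw [Finset.sum_eq_zero]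
      · symm
        apply P.lam_eq_zero e he i
        rw [← haa]
        exact_mod_cast (by omega : a < i)
      · intro j hj
        have : j < a + 1 := Finset.mem_range.mp hj
        have hne : i ≠ j := by omega
        simp [hne]
  have hpoly : p * (1 + Polynomial.C l * Polynomial.X) = (1 + Polynomial.X) ^ m := by
    apply Polynomial.coe_injective
    rw [Polynomial.coe_mul, hp]
    simp only [Polynomial.coe_add, Polynomial.coe_one, Polynomial.coe_mul, Polynomial.coe_C,
      Polynomial.coe_X, Polynomial.coe_pow]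
    exact hser
  obtain ⟨l', hl'⟩ := (isUnit_of_isLine P hl).exists_right_inv
  have heval := congrArg (Polynomial.eval (-l')) hpoly
  simp only [Polynomial.eval_mul, Polynomial.eval_add, Polynomial.eval_one, Polynomial.eval_C,
    Polynomial.eval_X, Polynomial.eval_pow] at heval
  have h0 : (1 : K) + l * -l' = 0 := by rw [mul_neg, hl']; ring
  rw [h0, mul_zero] at heval
  have h1 : l - 1 = l * (1 + -l') := by rw [mul_add, mul_one, mul_neg, hl']; ring
  rw [h1, mul_pow, ← heval, mul_zero]

end helpers

/-- Let K be a λ-ring with positive structure P and u an ample line element (for every x, u^n x is a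
positive element minus a natural number for all large n). Then for every line element v, the element
v - 1 is nilpotent. -/
theorem result (K : Type v) [CommRing K] [LambdaRing.LambdaOps K] (P : LambdaRing.PosStructure K)
    (u : K) (hu : KRR.IsAmpleElt P u) (w : K) (hw : P.IsLine w) : IsNilpotent (w - 1) := by
  obtain ⟨huline, hamp⟩ := hu
  obtain ⟨n₀, h₀⟩ := hamp (-w)
  obtain ⟨n₁, h₁⟩ := hamp (-1)
  set n := max n₀ n₁ with hn
  obtain ⟨e, m, he, hem⟩ := h₀ n (le_max_left _ _)
  obtain ⟨e', m', he', hem'⟩ := h₁ n (le_max_right _ _)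
  have hun : P.IsLine (u ^ n) := isLine_pow P huline n
  have hl : P.IsLine (u ^ n * w) := isLine_mul P hun hw
  have h1 : (u ^ n * w - 1) ^ m = 0 :=
    pow_sub_one_eq_zero P (u ^ n * w) e m hl he (by linear_combination -hem)
  have h2 : (u ^ n - 1) ^ m' = 0 :=
    pow_sub_one_eq_zero P (u ^ n) e' m' hun he' (by linear_combination -hem')
  have hn1 : IsNilpotent (u ^ n * w - 1) := ⟨m, h1⟩
  have hn2 : IsNilpotent (u ^ n - 1) := ⟨m', h2⟩
  have hn3 : IsNilpotent (u ^ n * (w - 1)) := by
    have : u ^ n * (w - 1) = (u ^ n * w - 1) - (u ^ n - 1) := by ring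
    rw [this]
    exact (Commute.all _ _).isNilpotent_sub hn1 hn2
  obtain ⟨N, hN⟩ := hn3
  refine ⟨N, ?_⟩
  rw [mul_pow] at hN
  exact ((isUnit_of_isLine P hun).pow N).mul_right_eq_zero.mp hN

end Groth.Agent.S3791
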