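import Groth.Statements.S3291
import Groth.Agent.Lib27.Gamma
-- import your own Groth.Agent.* helpers here

set_option autoImplicit false
universe u
open Finset
open LambdaRing

namespace Groth.Agent.S3291

variable {K : Type u} [CommRing K] [LambdaRing.LambdaOps K]

/-- the generating set of the `n`-th term. -/
def gens (P : LambdaRing.PosStructure K) (n : ℕ) : Set K :=
  {y | ∃ (l : List (ℕ × K)), (∀ p ∈ l, P.aug p.2 = 0) ∧ n ≤ (l.map Prod.fst).sum ∧
    y = (l.map fun p => LambdaRing.gamma p.1 p.2).prod}

lemma fil_pos (P : LambdaRing.PosStructure K) {n : ℕ} (hn : n ≠ 0) :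
    LambdaRing.gammaFiltration P n = AddSubgroup.closure (gens P n) := by
  unfold LambdaRing.gammaFiltration gens
  rw [if_neg hn]

lemma fil_zero (P : LambdaRing.PosStructure K) : LambdaRing.gammaFiltration P 0 = ⊤ := by
  unfold LambdaRing.gammaFiltration
  rw [if_pos rfl]

lemma mul_gen_mem (P : LambdaRing.PosStructure K) {n : ℕ} (a y : K) (hy : y ∈ gens P n) :
    a * y ∈ AddSubgroup.closure (gens P n) := by
  obtain ⟨l, hl, hn, rfl⟩ := hy
  have ha : a = (a - ((P.aug a : ℤ) : K)) + ((P.aug a : ℤ) : K) := by ring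
  rw [ha, add_mul]
  refine add_mem ?_ ?_
  · apply AddSubgroup.subset_closure
    refine ⟨(1, a - ((P.aug a : ℤ) : K)) :: l, ?_, ?_, ?_⟩
    · intro p hp
      rcases List.mem_cons.1 hp with rfl | hp
      · simp
      · exact hl p hp
    · simp only [List.map_cons, List.sum_cons]; omega
    · simp only [List.map_cons, List.prod_cons, Groth.Agent.Lib27.Gamma.gamma_one]
  · rw [← zsmul_eq_mul]
    exact zsmul_mem (AddSubgroup.subset_closure (show _ ∈ gens P n from ⟨l, hl, hn, rfl⟩)) _

lemma mul_mem_closure (P : LambdaRing.PosStructure K) {n : ℕ} (a x : K)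
    (hx : x ∈ AddSubgroup.closure (gens P n)) : a * x ∈ AddSubgroup.closure (gens P n) := by
  induction hx using AddSubgroup.closure_induction with
  | mem y hy => exact mul_gen_mem P a y hy
  | zero => rw [mul_zero]; exact zero_mem _
  | add x y _ _ hx hy => rw [mul_add]; exact add_mem hx hy
  | neg x _ hx => rw [mul_neg]; exact neg_mem hx

lemma ideal_prop (P : LambdaRing.PosStructure K) (n : ℕ) (a x : K)
    (hx : x ∈ LambdaRing.gammaFiltration P n) : a * x ∈ LambdaRing.gammaFiltration P n := by
  rcases Nat.eq_zero_or_pos n with rfl | hn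
  · rw [fil_zero]; trivial
  · rw [fil_pos P (by omega)] at hx ⊢
    exact mul_mem_closure P a x hx

lemma gen_mul_gen (P : LambdaRing.PosStructure K) {m n : ℕ} (x y : K) (hx : x ∈ gens P m)
    (hy : y ∈ gens P n) : x * y ∈ gens P (m + n) := by
  obtain ⟨l, hl, hm, rfl⟩ := hx
  obtain ⟨l', hl', hn, rfl⟩ := hy
  refine ⟨l ++ l', ?_, ?_, ?_⟩
  · intro p hp
    rcases List.mem_append.1 hp with hp | hp
    · exact hl p hp
    · exact hl' p hp
  · simp only [List.map_append, List.sum_append]; omega
  · simp only [List.map_append, List.prod_append]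


/-- The γ-filtration F^n K of a λ-ring with positive structure (F^0 = K, F^n for n ≥ 1 generated
additively by products γ^(r₁)(x₁)⋯γ^(r_k)(x_k) with ε(x_i) = 0 and Σ r_i ≥ n) consists of ideals,
and F^m · F^n ⊆ F^(m+n). -/
theorem result (K : Type u) [CommRing K] [LambdaRing.LambdaOps K] (P : LambdaRing.PosStructure K) :
    (∀ (n : ℕ) (a x : K), x ∈ LambdaRing.gammaFiltration P n → a * x ∈ LambdaRing.gammaFiltration P n) ∧
    ∀ (m n : ℕ) (x y : K), x ∈ LambdaRing.gammaFiltration P m → y ∈ LambdaRing.gammaFiltration P n →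
      x * y ∈ LambdaRing.gammaFiltration P (m + n) := by
  refine ⟨ideal_prop P, ?_⟩
  intro m n x y hx hy
  rcases Nat.eq_zero_or_pos m with rfl | hm
  · rw [Nat.zero_add]; exact ideal_prop P n x y hy
  rcases Nat.eq_zero_or_pos n with rfl | hn
  · rw [Nat.add_zero, mul_comm]; exact ideal_prop P m y x hx
  rw [fil_pos P (by omega)] at hx hy ⊢
  induction hx using AddSubgroup.closure_induction with
  | mem x hx =>
    induction hy using AddSubgroup.closure_induction with
    | mem y hy => exact AddSubgroup.subset_closure (gen_mul_gen P x y hx hy)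
    | zero => rw [mul_zero]; exact zero_mem _
    | add y z _ _ hy hz => rw [mul_add]; exact add_mem hy hz
    | neg y _ hy => rw [mul_neg]; exact neg_mem hy
  | zero => rw [zero_mul]; exact zero_mem _
  | add x z _ _ hx hz => rw [add_mul]; exact add_mem hx hz
  | neg x _ hx => rw [neg_mul]; exact neg_mem hx

end Groth.Agent.S3291
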