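import Groth.Statements.S3792
import Mathlib
import Groth.Agent.Lib.Helper20.LamPsiGr

set_option autoImplicit false
universe v u
open CategoryTheory CategoryTheory.Limits AlgebraicGeometry
attribute [local instance] HasDerivedCategory.standard
open KRR

namespace Groth.Agent.S3792


open Groth.Agent.Lib.Helper20.LamPsiGr Groth.Agent.Lib.Helper20.LamAdams Groth.Agent.Lib.Helper20.LamSplit
  Groth.Agent.Lib.Helper20.LamDet Groth.Agent.Lib.Helper20.LamFil LambdaRing LambdaRing.LambdaOps

theorem lam_sum_eq_esymm {K : Type v} [CommRing K] [LambdaRing.LambdaOps K] (s : Multiset K)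
    (hs : ∀ v ∈ s, IsLineLike v) (i : ℕ) : lam i s.sum = s.esymm i := by
  induction s using Multiset.induction_on generalizing i with
  | empty =>
    rcases Nat.eq_zero_or_pos i with rfl | hi
    · simp [lam_zero, multiset_esymm_zero']
    · obtain ⟨k, rfl⟩ : ∃ k, i = k + 1 := ⟨i - 1, by omega⟩
      rw [Multiset.sum_zero]
      have h := congrArg (PowerSeries.coeff (k + 1)) (Groth.Agent.S3791.lamSeries_zero (K := K))
      rw [lamSeries, PowerSeries.coeff_mk, PowerSeries.coeff_one, if_neg (by omega)] at h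
      rw [h]
      simp [Multiset.esymm]
  | cons a t ih =>
    have ht : ∀ v ∈ t, IsLineLike v := fun v hv => hs v (Multiset.mem_cons_of_mem hv)
    rcases Nat.eq_zero_or_pos i with rfl | hi
    · rw [lam_zero, multiset_esymm_zero']
    · obtain ⟨k, rfl⟩ : ∃ k, i = k + 1 := ⟨i - 1, by omega⟩
      rw [lam_cons_sum a (hs a (Multiset.mem_cons_self a t)), multiset_esymm_cons, ih ht, ih ht]
      ring

theorem sum_neg_one_pow_esymm {R : Type*} [CommRing R] (s : Multiset R) :
    ∑ i ∈ Finset.range (Multiset.card s + 1), (-1 : R) ^ i * s.esymm i = (s.map fun a => 1 - a).prod := by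
  have h := congrArg (Polynomial.eval (1 : R)) (Multiset.prod_X_sub_X_eq_sum_esymm s)
  rw [Polynomial.eval_multiset_prod, Multiset.map_map, Polynomial.eval_finset_sum] at h
  have h1 : (Polynomial.eval (1 : R) ∘ fun t => Polynomial.X - Polynomial.C t) = fun a => 1 - a := by
    funext a; simp
  rw [h1] at h
  rw [h]
  refine Finset.sum_congr rfl fun i _ => ?_
  simp

/-- Let K be a λ-ring with positive structure having the splitting property, e a positive element and j
≥ 1. Then ψ^j(λ_{-1}(e)) = λ_{-1}(e) · θ^j(e), where λ_{-1}(e) = Σ_{i ≤ ε(e)} (-1)^i λ^i(e), ψ^j is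
the Adams operation and θ^j(e) is Bott's cannibalistic class (the universal polynomial in the λ^i(e)
which is Π (1 + u_i + ⋯ + u_i^{j-1}) on a splitting e = Σ u_i). -/
theorem result (K : Type v) [CommRing K] [LambdaRing.LambdaOps K] (P : LambdaRing.PosStructure K) (hK : LambdaRing.HasSplitting K P) (e : K) (he : e ∈ P.pos) (j : ℕ) (hj : 1 ≤ j) :
    LambdaRing.adams P j (KRR.lamAlt P e) = KRR.lamAlt P e * KRR.bott P j e := by
  obtain ⟨L, φ, hL, hφ, s, hs, hsum⟩ := exists_split' P hK e he
  have hcard : Multiset.card s = (P.aug e).toNat := by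
    have h1 := aug_sum L.posStr s hs
    rw [hsum, hφ.aug_comp] at h1
    have h2 : (P.aug e) = ((P.aug e).toNat : ℤ) := by rw [Int.toNat_of_nonneg (P.aug_pos e he).le]
    rw [h2] at h1
    exact_mod_cast h1.symm
  obtain ⟨u, hu⟩ := exists_fin_enum s (P.aug e).toNat hcard
  have hlines : ∀ v ∈ s, IsLineLike v := fun v hv => isLineLike_of_isLine L.posStr (hs v hv)
  -- image of lamAlt
  have hφlam : φ (KRR.lamAlt P e) = (s.map fun a => 1 - a).prod := by
    rw [KRR.lamAlt, map_sum, ← sum_neg_one_pow_esymm, hcard]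
    refine Finset.sum_congr rfl fun i _ => ?_
    rw [map_mul, map_pow, map_neg, map_one, hφ.isLambdaHom, ← hsum, lam_sum_eq_esymm s hlines]
  -- image of bott
  have hφbott : φ (KRR.bott P j e) = (s.map fun a => ∑ k ∈ Finset.range j, a ^ k).prod := by
    rw [KRR.bott, ringHom_aeval φ]
    have h1 : (fun a : Fin (P.aug e).toNat => φ (lam ((a : ℕ) + 1) e)) =
        fun a : Fin (P.aug e).toNat =>
          MvPolynomial.aeval u (MvPolynomial.esymm (Fin (P.aug e).toNat) ℤ ((a : ℕ) + 1)) := by
      funext a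
      rw [hφ.isLambdaHom, ← hsum, lam_sum_eq_esymm s hlines, MvPolynomial.aeval_esymm_eq_multiset_esymm, hu]
    rw [h1]
    have h3 : MvPolynomial.aeval (fun a : Fin (P.aug e).toNat =>
          MvPolynomial.aeval u (MvPolynomial.esymm (Fin (P.aug e).toNat) ℤ ((a : ℕ) + 1)))
          (KRR.bottPoly j (P.aug e).toNat) =
        MvPolynomial.aeval u (MvPolynomial.aeval (fun k : Fin (P.aug e).toNat =>
          MvPolynomial.esymm (Fin (P.aug e).toNat) ℤ ((k : ℕ) + 1)) (KRR.bottPoly j (P.aug e).toNat)) :=
      (MvPolynomial.comp_aeval_apply (f := fun k : Fin (P.aug e).toNat =>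
        MvPolynomial.esymm (Fin (P.aug e).toNat) ℤ ((k : ℕ) + 1)) (MvPolynomial.aeval u) _).symm
    rw [h3, ← MvPolynomial.esymmAlgHom_apply, KRR.bottPoly, ← MvPolynomial.esymmAlgEquiv_apply (Fin (P.aug e).toNat) ℤ
      (Fintype.card_fin _), AlgEquiv.apply_symm_apply]
    simp only [KRR.bottSym, map_prod, map_sum, map_pow, MvPolynomial.aeval_X]
    rw [← hu, Multiset.map_map]
    rfl
  apply hφ.injective
  rw [map_adams P L.posStr φ hφ, map_mul, hφlam, hφbott, ← adamsHom_apply L.posStr hL, map_multiset_prod,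
    Multiset.map_map, ← Multiset.prod_map_mul]
  congr 1
  refine Multiset.map_congr rfl fun a ha => ?_
  simp only [Function.comp_apply, adamsHom_apply]
  rw [adams_sub, adams_one, Groth.Agent.S3287.result _ L.posStr a (hs a ha) j]
  have := mul_neg_geom_sum a j
  linear_combination -this

end Groth.Agent.S3792
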