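import Groth.Statements.S9672
import Groth.Agent.Lib.Helper26.QuasiCompactClosure

set_option autoImplicit false
universe u
open CategoryTheory CategoryTheory.Limits AlgebraicGeometry
open Mor

namespace Groth.Agent.S9672

open CategoryTheory CategoryTheory.Limits AlgebraicGeometry

/-- A quasi-compact dominant morphism hits every generic point of an irreducible component, and one
can choose a preimage that is itself generic in an irreducible component. -/
lemma exists_generic_mapsTo {Y Z : Scheme.{u}} (g : Y ⟶ Z) [QuasiCompact g] [IsDominant g] (z : Z)
    (hz : closure {z} ∈ irreducibleComponents ↥Z) :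
    ∃ y : Y, closure {y} ∈ irreducibleComponents ↥Y ∧ g.base y = z := by
  have hmax : ∀ w : Z, w ⤳ z → w = z := by
    intro w hw
    have h1 : closure {z} ⊆ closure {w} := by
      rw [← specializes_iff_closure_subset]; exact hw
    have h2 : closure ({w} : Set Z) ≤ closure {z} :=
      hz.2 (isIrreducible_singleton.closure) h1
    have h3 : closure ({w} : Set Z) = closure {z} := le_antisymm h2 h1
    have : Inseparable w z := by
      rw [inseparable_iff_closure_eq]; exact h3
    exact this.eq
  obtain ⟨y₀, -, hy₀⟩ := Groth.Agent.Lib.Helper26.exists_specializes_of_mem_closure_image g Set.univ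
    isClosed_univ z (by rw [Set.image_univ, g.denseRange.closure_range]; trivial)
  have hy₀z : g.base y₀ = z := hmax _ hy₀
  -- choose an irreducible component through y₀
  obtain ⟨C, hC, hy₀C⟩ := exists_mem_irreducibleComponents_subset_of_isIrreducible {y₀}
    isIrreducible_singleton
  have hCclosed : IsClosed C := isClosed_of_mem_irreducibleComponents C hC
  obtain ⟨y, hy⟩ := QuasiSober.sober hC.1 hCclosed
  refine ⟨y, ?_, ?_⟩
  · rw [hy]; exact hC
  · apply hmax
    rw [← hy₀z]
    have : y ⤳ y₀ := by
      rw [specializes_iff_mem_closure, hy]
      exact hy₀C rfl
    exact this.map g.continuous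


/-- Let f : Y ⟶ X be quasi-compact and quasi-separated, and write X' for the normalization of X relative
to Y. If x' ∈ X' is the generic point of some irreducible component of X', then there is a point y ∈
Y that is generic in an irreducible component of Y and is sent to x' by the canonical morphism Y ⟶
X'. -/
theorem result {X Y : Scheme.{u}} (f : Y ⟶ X)
    [QuasiCompact f] [QuasiSeparated f] (x' : ↥f.normalization)
    (hx' : closure {x'} ∈ irreducibleComponents ↥f.normalization) :
    ∃ y : Y, closure {y} ∈ irreducibleComponents ↥Y ∧ f.toNormalization.base y = x' := by
  exact exists_generic_mapsTo f.toNormalization x' hx'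

end Groth.Agent.S9672
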