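import Groth.Statements.S3563
-- import your own Groth.Agent.* helpers here

set_option autoImplicit false
universe u
open CategoryTheory CategoryTheory.Limits AlgebraicGeometry
open EGA2

namespace Groth.Agent.S3563

theorem awayMap_surjective {R A : Type u} [CommRing R] [CommRing A] [Algebra R A]
    (𝒜 : ℕ → Submodule R A) [GradedAlgebra 𝒜]
    {B : Type u} [CommRing B] [Algebra R B] (ℬ : ℕ → Submodule R B) [GradedAlgebra ℬ]
    (φ : 𝒜 →+*ᵍ ℬ) (hsurj : Function.Surjective φ) (s : A) {d : ℕ} (hs : s ∈ 𝒜 d) :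
    Function.Surjective (HomogeneousLocalization.Away.map φ s) := by
  classical
  intro y
  obtain ⟨n, b, hb, rfl⟩ := HomogeneousLocalization.Away.mk_surjective ℬ (φ.2 hs) y
  obtain ⟨a', ha'⟩ := hsurj b
  refine ⟨HomogeneousLocalization.Away.mk 𝒜 hs n (DirectSum.decompose 𝒜 a' (n • d))
    (SetLike.coe_mem _), ?_⟩
  rw [HomogeneousLocalization.Away.map_mk]
  congr 1
  rw [GradedRingHom.map_directSumDecompose, ha', DirectSum.decompose_of_mem_same ℬ hb]

/-- Let φ : S → S' be a surjective homomorphism of graded rings (graded algebras over a base ring R).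
Then the induced morphism Proj S' → Proj S is defined everywhere and is a closed immersion. The
hypothesis that the irrelevant ideal of S' is contained in the extension of the irrelevant ideal of
S, needed to define the morphism on all of Proj S', is carried explicitly; it follows from
surjectivity. This is the case of a surjective φ; the published statement is more general. -/
theorem result {R A : Type u} [CommRing R] [CommRing A] [Algebra R A] (𝒜 : ℕ → Submodule R A) [GradedAlgebra 𝒜]
    {B : Type u} [CommRing B] [Algebra R B] (ℬ : ℕ → Submodule R B) [GradedAlgebra ℬ]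
    (φ : 𝒜 →+*ᵍ ℬ) (hsurj : Function.Surjective φ)
    (hφ : HomogeneousIdeal.irrelevant ℬ ≤ (HomogeneousIdeal.irrelevant 𝒜).map φ) :
    IsClosedImmersion (Proj.map φ hφ) := by
  let U : (Proj.affineOpenCover 𝒜).I₀ → (Proj 𝒜).affineOpens := fun i =>
    ⟨Proj.basicOpen 𝒜 i.2.1, Proj.isAffineOpen_basicOpen 𝒜 _ i.2.2 i.1.2⟩
  have hU : ⨆ i, (U i : (Proj 𝒜).Opens) = ⊤ := by
    refine top_le_iff.mp fun x _ => TopologicalSpace.Opens.mem_iSup.mpr ?_
    refine ⟨(Proj.affineOpenCover 𝒜).idx x, ?_⟩
    have hx := (Proj.affineOpenCover 𝒜).covers x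
    set s := (Proj.affineOpenCover 𝒜).idx x
    change x ∈ Proj.basicOpen 𝒜 s.2.1
    rw [← Proj.opensRange_awayι 𝒜 _ s.2.2 s.1.2]
    exact hx
  refine HasAffineProperty.of_iSup_eq_top (P := @IsClosedImmersion) U hU fun i => ⟨?_, ?_⟩
  · exact Proj.isAffineOpen_basicOpen ℬ _ (φ.2 i.2.2) i.1.2
  · have key := Proj.awayToSection_comp_appLE φ hφ i.2.2
    have h2 : IsIso (Proj.awayToSection ℬ (φ i.2.1)) :=
      (Proj.basicOpenIsoAway ℬ (φ i.2.1) (φ.2 i.2.2) i.1.2).isIso_hom
    have h3 : Function.Surjective ((Proj.map φ hφ).appLE (Proj.basicOpen 𝒜 i.2.1)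
        (Proj.basicOpen ℬ (φ i.2.1)) (by rfl)) := by
      intro y
      obtain ⟨y', rfl⟩ := (ConcreteCategory.bijective_of_isIso (Proj.awayToSection ℬ (φ i.2.1))).2 y
      obtain ⟨x', rfl⟩ := awayMap_surjective 𝒜 ℬ φ hsurj _ i.2.2 y'
      exact ⟨Proj.awayToSection 𝒜 i.2.1 x', congr($key x')⟩
    rw [Scheme.Hom.appTop, morphismRestrict_app']
    refine ((Proj.map φ hφ).appLE_congr _ ?_ ?_ (fun ψ => Function.Surjective ψ)).mp h3
    · simp [U]
    · simp [U]

end Groth.Agent.S3563
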