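import Groth.Statements.S15451
import Mathlib
import Groth.Agent.Lib.Helper20.WeilCohPt

set_option autoImplicit false
universe u v
open CategoryTheory AlgebraicGeometry
open WeilCoh

namespace Groth.Agent.S15451


open Groth.Agent.Lib.Helper20.WeilCohLib

/-- Let H^* be a Weil cohomology theory (coefficients in K of characteristic zero, on nonsingular
connected projective varieties over an algebraically closed field k), φ an endomorphism of such a
variety X of dimension n, p, q the projections of X × X and Γ_φ the graph of φ. If (e^r_i)_i is a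
basis of H^r(X) and (f^{2n−r}_i)_i the dual basis of H^{2n−r}(X) for Poincaré duality,
Tr_X(f^{2n−r}_ℓ ∪ e^r_i) = δ_{i,ℓ}, for every 0 ≤ r ≤ 2n, then cl(Γ_φ) = Σ_{r=0}^{2n} Σ_i
p^*(φ^*(e^r_i)) ∪ q^*(f^{2n−r}_i) in H^{2n}(X × X). Here X × X is any object P with a cartesian
square p, q : P → X over Spec k, Γ_φ is the closure of the image of the generic point of X under the
section j = (id, φ) of p, and the f^{2n−r}_i are any family satisfying the duality relations. -/
theorem result (k : Type u) [Field k] [IsAlgClosed k] (K : Type v) [Field K] [CharZero K]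
    (T : WeilCoh.Theory k K)
    (X P : WeilCoh.Var k) [IrreducibleSpace ↥X.obj.left] (φ : X ⟶ X)
    (p q : P ⟶ X) (hP : WeilCoh.IsProd p q) (j : X ⟶ P) (hjp : j ≫ p = 𝟙 X) (hjq : j ≫ q = φ)
    (ι : ℕ → Type) [∀ r, Fintype (ι r)] [∀ r, DecidableEq (ι r)]
    (e : (r : ℕ) → Module.Basis (ι r) K ↥(T.gr X (r : ℤ)))
    (f : (r : ℕ) → ι r → ↥(T.gr X (2 * (WeilCoh.dim X.obj.left : ℤ) - r)))
    (hef : ∀ r, r ≤ 2 * WeilCoh.dim X.obj.left → ∀ i l : ι r,
      T.tr X ((f r l : T.H X) * (e r i : T.H X)) = if i = l then 1 else 0) :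
    T.cl P (WeilCoh.sm j (genericPoint ↥X.obj.left)) =
      ∑ r ∈ Finset.range (2 * WeilCoh.dim X.obj.left + 1), ∑ i : ι r,
        T.pull p (T.pull φ (e r i : T.H X)) * T.pull q (f r i : T.H X) := by
  have hd := dim_prod T p q hP
  have hd' : (dim P.obj.left : ℤ) = dim X.obj.left + dim X.obj.left := by exact_mod_cast hd
  have hcod : (codim P.obj.left (sm j (genericPoint ↥X.obj.left)) : ℤ) = dim X.obj.left := by
    unfold codim
    rw [pdim_section j p hjp, hd]
    simp
  set Γ := T.cl P (WeilCoh.sm j (genericPoint ↥X.obj.left)) with hΓ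
  have hΓmem : Γ ∈ T.gr P (2 * (dim X.obj.left : ℤ)) := by
    have := T.cl_mem P (sm j (genericPoint ↥X.obj.left))
    rwa [hcod] at this
  have hterm : ∀ (r : ℕ) (i : ι r),
      T.pull p (T.pull φ (e r i : T.H X)) * T.pull q (f r i : T.H X) ∈ T.gr P (2 * (dim X.obj.left : ℤ)) := by
    intro r i
    have h := SetLike.mul_mem_graded (T.pull_mem p _ _ (T.pull_mem φ _ _ (e r i).2))
      (T.pull_mem q _ _ (f r i).2)
    convert h using 2
    ring
  refine eq_of_forall_tr_mul T (2 * (dim X.obj.left : ℤ)) (2 * (dim X.obj.left : ℤ)) (by rw [hd']; ring) _ _ hΓmem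
    (Submodule.sum_mem _ fun r _ => Submodule.sum_mem _ fun i _ => hterm r i) ?_
  intro c _
  -- prove it for all `c` by Künneth induction
  refine kunneth_induction T p q hP (fun c => T.tr P (Γ * c) =
    T.tr P ((∑ r ∈ Finset.range (2 * dim X.obj.left + 1), ∑ i : ι r,
        T.pull p (T.pull φ (e r i : T.H X)) * T.pull q (f r i : T.H X)) * c)) ?_ ?_ ?_ c
  · simp
  · intro x y hx hy
    simp only [mul_add, map_add, hx, hy]
  intro s t a b ha hb
  -- the right-hand side, termwise
  have hR : ∀ (r : ℕ) (i : ι r),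
      T.tr P (T.pull p (T.pull φ (e r i : T.H X)) * T.pull q (f r i : T.H X) *
        (T.pull p a * T.pull q b)) =
      ((-1 : K) ^ ((2 * (dim X.obj.left : ℤ) - r).natAbs * s.natAbs)) *
        T.tr P (T.pull p (T.pull φ (e r i : T.H X) * a) * T.pull q ((f r i : T.H X) * b)) := by
    intro r i
    rw [pull_mul_pull_mul T p q (2 * (dim X.obj.left : ℤ) - r) s _ a _ b (f r i).2 ha, map_smul, smul_eq_mul]
  rw [Finset.sum_mul, map_sum]
  simp_rw [Finset.sum_mul, map_sum, hR]
  by_cases hst : s + t = 2 * (dim X.obj.left : ℤ)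
  · -- main case
    rw [tr_cl_section_mul T j p hjp _ (by
      have h := SetLike.mul_mem_graded (T.pull_mem p _ _ ha) (T.pull_mem q _ _ hb)
      rwa [hst] at h)]
    rw [map_mul, ← AlgHom.comp_apply, ← AlgHom.comp_apply, ← T.pull_comp, ← T.pull_comp, hjp, hjq,
      T.pull_id]
    show T.tr X (a * T.pull φ b) = _
    by_cases ht0 : t < 0
    · have := T.vanish X t (Or.inl ht0)
      rw [this] at hb
      rw [(Submodule.mem_bot K).mp hb]
      simp
    by_cases ht1 : 2 * (dim X.obj.left : ℤ) < t
    · have := T.vanish X t (Or.inr ht1)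
      rw [this] at hb
      rw [(Submodule.mem_bot K).mp hb]
      simp
    push Not at ht0 ht1
    obtain ⟨t', rfl⟩ := Int.eq_ofNat_of_zero_le ht0
    have ht'le : t' ≤ 2 * dim X.obj.left := by exact_mod_cast ht1
    have hs : s = 2 * (dim X.obj.left : ℤ) - t' := by omega
    rw [Finset.sum_eq_single t']
    · -- the `r = t'` term
      have hsum : ∀ i : ι t',
          T.tr P (T.pull p (T.pull φ (e t' i : T.H X) * a) * T.pull q ((f t' i : T.H X) * b)) =
          T.tr X (T.pull φ (e t' i : T.H X) * a) * T.tr X ((f t' i : T.H X) * b) := by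
        intro i
        refine T.tr_prod p q hP _ _ ?_ ?_
        · have h := SetLike.mul_mem_graded (T.pull_mem φ _ _ (e t' i).2) ha
          convert h using 2
          omega
        · have h := SetLike.mul_mem_graded (f t' i).2 hb
          convert h using 2
          omega
      simp_rw [hsum]
      -- expand `b` in the basis
      have hbexp : b = ∑ l : ι t', ((e t').repr ⟨b, hb⟩ l) • (e t' l : T.H X) := by
        have h := (e t').sum_repr ⟨b, hb⟩
        have h2 := congrArg (Subtype.val) h
        simp only [AddSubmonoidClass.coe_finsetSum, SetLike.val_smul] at h2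
        exact h2.symm
      have hcoef : ∀ i : ι t', T.tr X ((f t' i : T.H X) * b) = (e t').repr ⟨b, hb⟩ i := by
        intro i
        conv_lhs => rw [hbexp]
        rw [Finset.mul_sum, map_sum]
        simp_rw [mul_smul_comm, map_smul, smul_eq_mul, hef t' ht'le]
        simp
      simp_rw [hcoef]
      -- sum up
      have hsum2 : ∑ i : ι t', T.tr X (T.pull φ (e t' i : T.H X) * a) * (e t').repr ⟨b, hb⟩ i =
          T.tr X (T.pull φ b * a) := by
        conv_rhs => rw [hbexp]
        rw [map_sum, Finset.sum_mul, map_sum]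
        refine Finset.sum_congr rfl fun i _ => ?_
        rw [map_smul, smul_mul_assoc, map_smul, smul_eq_mul, mul_comm]
      rw [← Finset.mul_sum, hsum2]
      have hcomm := T.gradedComm X s (t' : ℤ) a (T.pull φ b) ha (T.pull_mem φ _ _ hb)
      rw [hcomm, map_smul, smul_eq_mul]
      congr 1
      rw [← hs]
      have hpar : Even (s.natAbs * (t' : ℤ).natAbs + s.natAbs * s.natAbs) := by
        rw [← mul_add]
        have : (t' : ℤ).natAbs + s.natAbs = 2 * dim X.obj.left := by omega
        rw [this]
        exact (even_two_mul (dim X.obj.left)).mul_left _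
      rcases Nat.even_or_odd (s.natAbs * (t' : ℤ).natAbs) with hA | hA <;>
        rcases Nat.even_or_odd (s.natAbs * s.natAbs) with hB | hB
      · rw [hA.neg_one_pow, hB.neg_one_pow]
      · exact absurd hpar (Nat.not_even_iff_odd.mpr (hA.add_odd hB))
      · exact absurd hpar (Nat.not_even_iff_odd.mpr (hA.add_even hB))
      · rw [hA.neg_one_pow, hB.neg_one_pow]
    · intro r _ hr
      refine Finset.sum_eq_zero fun i _ => ?_
      rw [tr_pull_mul_pull_eq_zero T p q hP ((r : ℤ) + s) (2 * (dim X.obj.left : ℤ) - r + t') _ _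
        (SetLike.mul_mem_graded (T.pull_mem φ _ _ (e r i).2) ha)
        (SetLike.mul_mem_graded (f r i).2 hb) (by
          right
          intro h
          apply hr
          have : (r : ℤ) = t' := by omega
          exact_mod_cast this), mul_zero]
    · intro h
      exact absurd (Finset.mem_range.mpr (by omega)) h
  · -- degrees do not match: both sides vanish
    have hL : T.tr P (Γ * (T.pull p a * T.pull q b)) = 0 := by
      refine T.tr_vanish P (2 * (dim X.obj.left : ℤ) + (s + t)) _
        (SetLike.mul_mem_graded hΓmem (SetLike.mul_mem_graded (T.pull_mem p _ _ ha)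
          (T.pull_mem q _ _ hb))) ?_
      rw [hd']
      intro h
      apply hst
      omega
    rw [hL]
    symm
    refine Finset.sum_eq_zero fun r _ => Finset.sum_eq_zero fun i _ => ?_
    rw [tr_pull_mul_pull_eq_zero T p q hP ((r : ℤ) + s) (2 * (dim X.obj.left : ℤ) - r + t) _ _
      (SetLike.mul_mem_graded (T.pull_mem φ _ _ (e r i).2) ha)
      (SetLike.mul_mem_graded (f r i).2 hb) (by
        by_contra hcon
        push Not at hcon
        apply hst
        omega), mul_zero]

end Groth.Agent.S15451
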