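import Groth.Statements.S15450
import Mathlib
import Groth.Agent.Lib.Helper20.WeilCohPt
import Groth.Agent.S15451

set_option autoImplicit false
universe u v
open CategoryTheory AlgebraicGeometry
open WeilCoh

namespace Groth.Agent.S15450


open Groth.Agent.Lib.Helper20.WeilCohLib

/-- Let H^* be a Weil cohomology theory (coefficients in K of characteristic zero, on nonsingular
connected projective varieties over an algebraically closed field k), φ an endomorphism of such a
variety X, and Γ_φ, Δ ⊂ X × X the graph of φ and the diagonal. Then (Γ_φ · Δ) = Σ_{i=0}^{2 dim X}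
(−1)^i trace(φ^* | H^i(X)). The intersection number is written in the form Tr_{X×X}(cl(Γ_φ) ∪ cl(Δ))
that the argument establishes (it equals the Chow-ring intersection number once the cycle class map
is known to be a ring homomorphism compatible with degrees); X × X is any object P with a cartesian
square p, q : P → X over Spec k, Γ_φ and Δ are the closures of the images of the generic point of X
under the sections j = (id, φ) and d = (id, id) of p. -/
theorem result (k : Type u) [Field k] [IsAlgClosed k] (K : Type v) [Field K] [CharZero K]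
    (T : WeilCoh.Theory k K)
    (X P : WeilCoh.Var k) [IrreducibleSpace ↥X.obj.left] (φ : X ⟶ X)
    (p q : P ⟶ X) (hP : WeilCoh.IsProd p q) (j d : X ⟶ P)
    (hjp : j ≫ p = 𝟙 X) (hjq : j ≫ q = φ) (hdp : d ≫ p = 𝟙 X) (hdq : d ≫ q = 𝟙 X) :
    T.tr P (T.cl P (WeilCoh.sm j (genericPoint ↥X.obj.left)) * T.cl P (WeilCoh.sm d (genericPoint ↥X.obj.left))) =
      ∑ i ∈ Finset.range (2 * WeilCoh.dim X.obj.left + 1),
        (-1 : K) ^ i * LinearMap.trace K ↥(T.gr X (i : ℤ)) (T.pullDeg φ (i : ℤ)) := by
  classical
  have hd := dim_prod T p q hP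
  have hd' : (dim P.obj.left : ℤ) = dim X.obj.left + dim X.obj.left := by exact_mod_cast hd
  -- bases and dual families
  let ι : ℕ → Type := fun r => Fin (Module.finrank K (T.gr X (r : ℤ)))
  let e : (r : ℕ) → Module.Basis (ι r) K ↥(T.gr X (r : ℤ)) := fun r => Module.finBasis K _
  have hperf : ∀ r : ℕ, (pairing K (T.gr X (2 * (dim X.obj.left : ℤ) - r)) (T.gr X (r : ℤ))
      (T.tr X)).IsPerfPair := fun r => T.duality X _ _ (by ring)
  let f : (r : ℕ) → ι r → ↥(T.gr X (2 * (WeilCoh.dim X.obj.left : ℤ) - r)) := fun r l =>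
    haveI := hperf r
    (pairing K (T.gr X (2 * (dim X.obj.left : ℤ) - r)) (T.gr X (r : ℤ))
      (T.tr X)).toPerfPair.symm ((e r).coord l)
  have hef : ∀ r, r ≤ 2 * WeilCoh.dim X.obj.left → ∀ i l : ι r,
      T.tr X ((f r l : T.H X) * (e r i : T.H X)) = if i = l then 1 else 0 := by
    intro r _ i l
    haveI := hperf r
    have h := LinearMap.apply_symm_toPerfPair_self
      (pairing K (T.gr X (2 * (dim X.obj.left : ℤ) - r)) (T.gr X (r : ℤ)) (T.tr X)) ((e r).coord l)
    have h2 := LinearMap.congr_fun h (e r i)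
    have h3 : T.tr X ((f r l : T.H X) * (e r i : T.H X)) = (e r).coord l (e r i) := h2
    rw [h3, Module.Basis.coord_apply, Module.Basis.repr_self, Finsupp.single_apply]
  have hΓ := Groth.Agent.S15451.result k K T X P φ p q hP j hjp hjq ι e f hef
  -- degrees
  have hcodj : (codim P.obj.left (sm j (genericPoint ↥X.obj.left)) : ℤ) = dim X.obj.left := by
    unfold codim
    rw [pdim_section j p hjp, hd]
    simp
  have hcodd : (codim P.obj.left (sm d (genericPoint ↥X.obj.left)) : ℤ) = dim X.obj.left := by
    unfold codim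
    rw [pdim_section d p hdp, hd]
    simp
  have hΓmem : T.cl P (sm j (genericPoint ↥X.obj.left)) ∈ T.gr P (2 * (dim X.obj.left : ℤ)) := by
    have := T.cl_mem P (sm j (genericPoint ↥X.obj.left))
    rwa [hcodj] at this
  have hΔmem : T.cl P (sm d (genericPoint ↥X.obj.left)) ∈ T.gr P (2 * (dim X.obj.left : ℤ)) := by
    have := T.cl_mem P (sm d (genericPoint ↥X.obj.left))
    rwa [hcodd] at this
  rw [mul_comm_of_even T _ _ _ _ hΓmem hΔmem (Or.inl (even_two_mul _)),
    tr_cl_section_mul T d p hdp _ hΓmem, hΓ]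
  simp only [map_sum, map_mul]
  refine Finset.sum_congr rfl fun r hr => ?_
  have hr' : r ≤ 2 * dim X.obj.left := by
    have := Finset.mem_range.mp hr; omega
  have hpp : ∀ a : T.H X, T.pull d (T.pull p a) = a := by
    intro a
    rw [← AlgHom.comp_apply, ← T.pull_comp, hdp, T.pull_id]; rfl
  have hqq : ∀ a : T.H X, T.pull d (T.pull q a) = a := by
    intro a
    rw [← AlgHom.comp_apply, ← T.pull_comp, hdq, T.pull_id]; rfl
  simp_rw [hpp, hqq]
  -- sign
  have hsign : ∀ i : ι r, T.tr X (T.pull φ (e r i : T.H X) * (f r i : T.H X)) =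
      (-1 : K) ^ r * T.tr X ((f r i : T.H X) * T.pull φ (e r i : T.H X)) := by
    intro i
    have hc := T.gradedComm X (r : ℤ) (2 * (dim X.obj.left : ℤ) - r) _ _
      (T.pull_mem φ _ _ (e r i).2) (f r i).2
    rw [hc, map_smul, smul_eq_mul]
    congr 1
    have h1 : ((r : ℤ)).natAbs = r := Int.natAbs_natCast r
    have h2 : (2 * (dim X.obj.left : ℤ) - r).natAbs = 2 * dim X.obj.left - r := by omega
    rw [h1, h2]
    rcases Nat.even_or_odd r with hev | hodd
    · rw [hev.neg_one_pow, (hev.mul_right _).neg_one_pow]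
    · have : Odd (2 * dim X.obj.left - r) := by
        obtain ⟨m, hm⟩ := hodd
        exact ⟨dim X.obj.left - m - 1, by omega⟩
      rw [hodd.neg_one_pow, (hodd.mul this).neg_one_pow]
  simp_rw [hsign]
  rw [← Finset.mul_sum]
  congr 1
  -- the trace
  rw [LinearMap.trace_eq_matrix_trace K (e r), Matrix.trace]
  refine Finset.sum_congr rfl fun i _ => ?_
  rw [Matrix.diag_apply, LinearMap.toMatrix_apply]
  -- expand `φ^* e_i` in the basis
  have hexp : T.pull φ (e r i : T.H X) =
      ∑ l : ι r, ((e r).repr (T.pullDeg φ (r : ℤ) (e r i)) l) • (e r l : T.H X) := by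
    have h := (e r).sum_repr (T.pullDeg φ (r : ℤ) (e r i))
    have h2 := congrArg (Subtype.val) h
    simp only [AddSubmonoidClass.coe_finsetSum, SetLike.val_smul] at h2
    exact h2.symm
  rw [hexp, Finset.mul_sum, map_sum]
  simp_rw [mul_smul_comm, map_smul, smul_eq_mul, hef r hr']
  rw [Finset.sum_eq_single i]
  · simp
  · intro l _ hl
    simp [hl]
  · intro h
    exact absurd (Finset.mem_univ i) h

end Groth.Agent.S15450
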