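import Groth.Statements.S17984
import Mathlib

set_option autoImplicit false
universe u
open MvPolynomial
open WeilNum

namespace Groth.Agent.S17984



section Helpers
open scoped Polynomial Pointwise

local notation "BB" => MvPolynomial (Fin 2) ℤ

/-- the relation `FV - n` -/
noncomputable def rr (n : ℕ) : MvPolynomial (Fin 2) ℤ := X 0 * X 1 - C ((n : ℤ))

/-- `F ↦ X` (outer), `V ↦ C X` (inner) -/
noncomputable def Gam : MvPolynomial (Fin 2) ℤ →ₐ[ℤ] (ℤ[X])[X] :=
  MvPolynomial.aeval ![Polynomial.X, Polynomial.C Polynomial.X]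

theorem Gam_X0 : Gam (X 0) = Polynomial.X := by simp [Gam]
theorem Gam_X1 : Gam (X 1) = Polynomial.C Polynomial.X := by simp [Gam]
theorem Gam_C (a : ℤ) : Gam (C a) = Polynomial.C (Polynomial.C a) := by
  simp [Gam]

/-- `F ↦ 0`, `V ↦ X` -/
noncomputable def ev0 : MvPolynomial (Fin 2) ℤ →+* ℤ[X] :=
  (Polynomial.evalRingHom (0 : ℤ[X])).comp Gam.toRingHom

theorem ev0_apply (b : MvPolynomial (Fin 2) ℤ) : ev0 b = (Gam b).coeff 0 := by
  simp [ev0, Polynomial.coeff_zero_eq_eval_zero]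

theorem ev0_X0 : ev0 (X 0) = 0 := by simp [ev0, Gam_X0]
theorem ev0_X1 : ev0 (X 1) = Polynomial.X := by simp [ev0, Gam_X1]
theorem ev0_C (a : ℤ) : ev0 (C a) = Polynomial.C a := by simp [ev0, Gam_C]

theorem elim (n : ℕ) (b : MvPolynomial (Fin 2) ℤ) : ∃ (N : ℕ) (u : ℤ[X]),
    X 0 ^ N * b - Polynomial.aeval (X 0 : MvPolynomial (Fin 2) ℤ) u ∈ Ideal.span {rr n} := by
  induction b using MvPolynomial.induction_on with
  | C a =>
    refine ⟨0, Polynomial.C a, ?_⟩
    have : X 0 ^ 0 * (C a : MvPolynomial (Fin 2) ℤ) -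
        Polynomial.aeval (X 0 : MvPolynomial (Fin 2) ℤ) (Polynomial.C a) = 0 := by
      simp
    rw [this]; exact Ideal.zero_mem _
  | add b₁ b₂ h₁ h₂ =>
    obtain ⟨N₁, u₁, h₁⟩ := h₁
    obtain ⟨N₂, u₂, h₂⟩ := h₂
    refine ⟨N₁ + N₂, Polynomial.X ^ N₂ * u₁ + Polynomial.X ^ N₁ * u₂, ?_⟩
    have : X 0 ^ (N₁ + N₂) * (b₁ + b₂) -
        Polynomial.aeval (X 0 : MvPolynomial (Fin 2) ℤ)
          (Polynomial.X ^ N₂ * u₁ + Polynomial.X ^ N₁ * u₂) =
        X 0 ^ N₂ * (X 0 ^ N₁ * b₁ - Polynomial.aeval (X 0 : MvPolynomial (Fin 2) ℤ) u₁) +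
        X 0 ^ N₁ * (X 0 ^ N₂ * b₂ - Polynomial.aeval (X 0 : MvPolynomial (Fin 2) ℤ) u₂) := by
      simp only [map_add, map_mul, map_pow, Polynomial.aeval_X]
      ring
    rw [this]
    exact Ideal.add_mem _ (Ideal.mul_mem_left _ _ h₁) (Ideal.mul_mem_left _ _ h₂)
  | mul_X b i hb =>
    obtain ⟨N, u, hb⟩ := hb
    fin_cases i
    · refine ⟨N, u * Polynomial.X, ?_⟩
      have : X 0 ^ N * (b * X (0 : Fin 2)) -
          Polynomial.aeval (X 0 : MvPolynomial (Fin 2) ℤ) (u * Polynomial.X) =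
          (X 0 ^ N * b - Polynomial.aeval (X 0 : MvPolynomial (Fin 2) ℤ) u) * X 0 := by
        simp only [map_mul, Polynomial.aeval_X]
        ring
      simp only [Fin.zero_eta]
      rw [this]
      exact Ideal.mul_mem_right _ _ hb
    · refine ⟨N + 1, Polynomial.C (n : ℤ) * u, ?_⟩
      have : X 0 ^ (N + 1) * (b * X (1 : Fin 2)) -
          Polynomial.aeval (X 0 : MvPolynomial (Fin 2) ℤ) (Polynomial.C (n : ℤ) * u) =
          (X 0 ^ N * b - Polynomial.aeval (X 0 : MvPolynomial (Fin 2) ℤ) u) * (X 0 * X 1) +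
          Polynomial.aeval (X 0 : MvPolynomial (Fin 2) ℤ) u * rr n := by
        simp only [map_mul, Polynomial.aeval_C, rr, algebraMap_eq]
        ring
      simp only [Fin.mk_one]
      rw [this]
      exact Ideal.add_mem _ (Ideal.mul_mem_right _ _ hb)
        (Ideal.mul_mem_left _ _ (Ideal.subset_span rfl))

theorem sub_incl_ev0 (b : MvPolynomial (Fin 2) ℤ) :
    b - Polynomial.aeval (X 1 : MvPolynomial (Fin 2) ℤ) (ev0 b) ∈
      Ideal.span {(X 0 : MvPolynomial (Fin 2) ℤ)} := by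
  induction b using MvPolynomial.induction_on with
  | C a =>
    have : (C a : MvPolynomial (Fin 2) ℤ) -
        Polynomial.aeval (X 1 : MvPolynomial (Fin 2) ℤ) (ev0 (C a)) = 0 := by
      rw [ev0_C]; simp
    rw [this]; exact Ideal.zero_mem _
  | add b₁ b₂ h₁ h₂ =>
    have : b₁ + b₂ - Polynomial.aeval (X 1 : MvPolynomial (Fin 2) ℤ) (ev0 (b₁ + b₂)) =
        (b₁ - Polynomial.aeval (X 1 : MvPolynomial (Fin 2) ℤ) (ev0 b₁)) +
        (b₂ - Polynomial.aeval (X 1 : MvPolynomial (Fin 2) ℤ) (ev0 b₂)) := by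
      rw [map_add, map_add]; ring
    rw [this]
    exact Ideal.add_mem _ h₁ h₂
  | mul_X b i hb =>
    fin_cases i
    · simp only [Fin.zero_eta]
      rw [map_mul, ev0_X0, mul_zero, map_zero, sub_zero]
      exact Ideal.mul_mem_left _ _ (Ideal.subset_span rfl)
    · simp only [Fin.mk_one]
      have : b * X 1 - Polynomial.aeval (X 1 : MvPolynomial (Fin 2) ℤ) (ev0 (b * X 1)) =
          (b - Polynomial.aeval (X 1 : MvPolynomial (Fin 2) ℤ) (ev0 b)) * X 1 := by
        rw [map_mul, ev0_X1, map_mul, Polynomial.aeval_X]; ring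
      rw [this]
      exact Ideal.mul_mem_right _ _ hb

theorem mem_span_X0_of_ev0 (b : MvPolynomial (Fin 2) ℤ) (hb : ev0 b = 0) :
    b ∈ Ideal.span {(X 0 : MvPolynomial (Fin 2) ℤ)} := by
  have := sub_incl_ev0 b
  rwa [hb, map_zero, sub_zero] at this

theorem ev0_rr (n : ℕ) : ev0 (rr n) = - Polynomial.C (n : ℤ) := by
  rw [rr, map_sub, map_mul, ev0_X0, zero_mul, ev0_C, zero_sub]

/-- `F` is a nonzerodivisor modulo `FV - n`. -/
theorem mem_of_X0_mul_mem (n : ℕ) (hn : n ≠ 0) (z : MvPolynomial (Fin 2) ℤ)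
    (hz : X 0 * z ∈ Ideal.span {rr n}) : z ∈ Ideal.span {rr n} := by
  obtain ⟨c, hc⟩ := Ideal.mem_span_singleton'.mp hz
  have h1 : ev0 c * ev0 (rr n) = 0 := by
    rw [← map_mul, hc, map_mul, ev0_X0, zero_mul]
  rw [ev0_rr] at h1
  have h2 : ev0 c = 0 := by
    rcases mul_eq_zero.mp h1 with h | h
    · exact h
    · exfalso
      rw [neg_eq_zero, Polynomial.C_eq_zero] at h
      exact hn (by exact_mod_cast h)
  obtain ⟨c₁, hc₁⟩ := Ideal.mem_span_singleton'.mp (mem_span_X0_of_ev0 c h2)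
  rw [Ideal.mem_span_singleton']
  refine ⟨c₁, ?_⟩
  have hX : (X 0 : MvPolynomial (Fin 2) ℤ) ≠ 0 := X_ne_zero 0
  apply mul_left_cancel₀ hX
  rw [← hc, ← hc₁]; ring

/-- `F ↦ 0`, `V ↦ X`, coefficients mod `n`. -/
noncomputable def chi (n : ℕ) : MvPolynomial (Fin 2) ℤ →+* (ZMod n)[X] :=
  (Polynomial.mapRingHom (Int.castRingHom (ZMod n))).comp ev0

theorem chi_X0 (n : ℕ) : chi n (X 0) = 0 := by
  simp [chi, ev0_X0]

theorem chi_rr (n : ℕ) : chi n (rr n) = 0 := by
  simp [chi, ev0_rr]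

theorem exists_of_chi_eq_zero (n : ℕ) (y : MvPolynomial (Fin 2) ℤ) (hy : chi n y = 0) :
    ∃ y₁ y₂ : MvPolynomial (Fin 2) ℤ, y = X 0 * y₁ + rr n * y₂ := by
  have h1 : Polynomial.C (n : ℤ) ∣ ev0 y := by
    rw [Polynomial.C_dvd_iff_dvd_coeff]
    intro i
    have h2 : (((ev0 y).coeff i : ℤ) : ZMod n) = 0 := by
      have := congrArg (fun f => f.coeff i) hy
      simpa [chi, Polynomial.coeff_map] using this
    exact (ZMod.intCast_zmod_eq_zero_iff_dvd _ _).mp h2
  obtain ⟨w, hw⟩ := h1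
  obtain ⟨y₀, hy₀⟩ := Ideal.mem_span_singleton'.mp (sub_incl_ev0 y)
  refine ⟨y₀ + X 1 * Polynomial.aeval (X 1 : MvPolynomial (Fin 2) ℤ) w,
    - Polynomial.aeval (X 1 : MvPolynomial (Fin 2) ℤ) w, ?_⟩
  have h3 : y = y₀ * X 0 + Polynomial.aeval (X 1 : MvPolynomial (Fin 2) ℤ) (ev0 y) := by
    rw [hy₀]; ring
  have h4 : Polynomial.aeval (X 1 : MvPolynomial (Fin 2) ℤ) (ev0 y) =
      C (n : ℤ) * Polynomial.aeval (X 1 : MvPolynomial (Fin 2) ℤ) w := by
    rw [hw, map_mul, Polynomial.aeval_C, algebraMap_eq]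
  rw [h4] at h3
  rw [h3, rr]
  ring

theorem coeff_rec (n : ℕ) (hn : n ≠ 0) (D : ℕ) (P : ℤ[X]) (H c' : (ℤ[X])[X])
    (hG : Polynomial.X ^ D * H - P.map Polynomial.C =
      c' * (Polynomial.X * Polynomial.C Polynomial.X - Polynomial.C (Polynomial.C (n : ℤ)))) :
    ∀ k, k < D → (c'.coeff k).natDegree ≤ k ∧
      (n : ℤ) ^ (k + 1) * (c'.coeff k).coeff k = P.coeff 0 := by
  have hn' : (Polynomial.C (n : ℤ) : ℤ[X]) ≠ 0 := by
    rw [Ne, Polynomial.C_eq_zero]; exact_mod_cast hn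
  have hnz : (n : ℤ) ≠ 0 := by exact_mod_cast hn
  have hcoef : ∀ k, k < D → (c'.coeff k) * Polynomial.C (n : ℤ) =
      (if k = 0 then 0 else c'.coeff (k - 1) * Polynomial.X) + Polynomial.C (P.coeff k) := by
    intro k hk
    have h1 := congrArg (fun f => f.coeff k) hG
    simp only [Polynomial.coeff_sub, Polynomial.coeff_map] at h1
    rw [Polynomial.coeff_X_pow_mul', if_neg (by omega), mul_sub, Polynomial.coeff_sub,
      Polynomial.coeff_mul_C, ← mul_assoc, Polynomial.coeff_mul_C] at h1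
    rcases Nat.eq_zero_or_pos k with rfl | hkpos
    · rw [Polynomial.coeff_mul_X_zero] at h1
      rw [if_pos rfl]
      linear_combination h1
    · obtain ⟨j, rfl⟩ : ∃ j, k = j + 1 := ⟨k - 1, by omega⟩
      rw [Polynomial.coeff_mul_X] at h1
      rw [if_neg (by omega), Nat.add_sub_cancel]
      linear_combination h1
  intro k
  induction k with
  | zero =>
    intro hk
    have h1 := hcoef 0 hk
    rw [if_pos rfl, zero_add] at h1
    constructor
    · have := congrArg Polynomial.natDegree h1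
      rw [Polynomial.natDegree_mul_C hnz, Polynomial.natDegree_C] at this
      omega
    · have := congrArg (fun f => f.coeff 0) h1
      simp only [Polynomial.coeff_mul_C, Polynomial.coeff_C_zero] at this
      rw [zero_add, pow_one, mul_comm]; exact this
  | succ k ih =>
    intro hk
    obtain ⟨ih1, ih2⟩ := ih (by omega)
    have h1 := hcoef (k + 1) hk
    rw [if_neg (by omega), Nat.add_sub_cancel] at h1
    constructor
    · have := congrArg Polynomial.natDegree h1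
      rw [Polynomial.natDegree_mul_C hnz] at this
      rw [this]
      refine (Polynomial.natDegree_add_le _ _).trans ?_
      rw [Polynomial.natDegree_C]
      have h2 : (c'.coeff k * Polynomial.X).natDegree ≤ k + 1 :=
        (Polynomial.natDegree_mul_le).trans (by rw [Polynomial.natDegree_X]; omega)
      omega
    · have := congrArg (fun f => f.coeff (k + 1)) h1
      simp only [Polynomial.coeff_mul_C, Polynomial.coeff_add, Polynomial.coeff_mul_X,
        Polynomial.coeff_C_succ, add_zero] at this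
      rw [pow_succ, mul_assoc, mul_comm (n : ℤ), this]
      exact ih2

theorem Gam_rr (n : ℕ) : Gam (rr n) =
    Polynomial.X * Polynomial.C Polynomial.X - Polynomial.C (Polynomial.C (n : ℤ)) := by
  rw [rr, map_sub, map_mul, Gam_X0, Gam_X1, Gam_C]

theorem Gam_aeval (P : ℤ[X]) :
    Gam (Polynomial.aeval (X 0 : MvPolynomial (Fin 2) ℤ) P) = P.map Polynomial.C := by
  rw [← Polynomial.aeval_algHom_apply, Gam_X0, Polynomial.aeval_X_left_eq_map]
  rfl

theorem chi_h_coeff (n : ℕ) (hn : n ≠ 0) (D : ℕ) (P : ℤ[X]) (ε : ℤ)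
    (hP0 : P.coeff 0 = ε * (n : ℤ) ^ D) (h : MvPolynomial (Fin 2) ℤ)
    (hh : X 0 ^ D * h - Polynomial.aeval (X 0 : MvPolynomial (Fin 2) ℤ) P ∈ Ideal.span {rr n}) :
    (chi n h).natDegree ≤ D ∧ (chi n h).coeff D = (ε : ZMod n) := by
  obtain ⟨c, hc⟩ := Ideal.mem_span_singleton'.mp hh
  have hG : Polynomial.X ^ D * Gam h - P.map Polynomial.C =
      Gam c * (Polynomial.X * Polynomial.C Polynomial.X - Polynomial.C (Polynomial.C (n : ℤ))) := by
    have := congrArg Gam hc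
    rw [map_mul, Gam_rr, map_sub, map_mul, map_pow, Gam_X0, Gam_aeval] at this
    exact this.symm
  have hnz : (n : ℤ) ≠ 0 := by exact_mod_cast hn
  have hrec := coeff_rec n hn D P (Gam h) (Gam c) hG
  have hD := congrArg (fun f => f.coeff D) hG
  simp only [Polynomial.coeff_sub, Polynomial.coeff_map] at hD
  rw [Polynomial.coeff_X_pow_mul', if_pos le_rfl, Nat.sub_self, mul_sub, Polynomial.coeff_sub,
    Polynomial.coeff_mul_C, ← mul_assoc, Polynomial.coeff_mul_C] at hD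
  have hchi : chi n h = Polynomial.map (Int.castRingHom (ZMod n)) ((Gam h).coeff 0) := by
    rw [chi, RingHom.comp_apply, ev0_apply]; rfl
  have hncast : Polynomial.map (Int.castRingHom (ZMod n)) (Polynomial.C (n : ℤ)) = 0 := by
    simp
  rcases Nat.eq_zero_or_pos D with rfl | hDpos
  · rw [Polynomial.coeff_mul_X_zero] at hD
    have h0 : (Gam h).coeff 0 = Polynomial.C (P.coeff 0) - (Gam c).coeff 0 * Polynomial.C (n : ℤ) := by
      linear_combination hD
    rw [hchi, h0, Polynomial.map_sub, Polynomial.map_mul, hncast, mul_zero, sub_zero,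
      Polynomial.map_C, hP0, pow_zero, mul_one]
    constructor
    · rw [Polynomial.natDegree_C]
    · rw [Polynomial.coeff_C_zero]; rfl
  · obtain ⟨j, rfl⟩ : ∃ j, D = j + 1 := ⟨D - 1, by omega⟩
    rw [Polynomial.coeff_mul_X] at hD
    obtain ⟨r1, r2⟩ := hrec j (by omega)
    have h0 : (Gam h).coeff 0 = Polynomial.C (P.coeff (j + 1)) + (Gam c).coeff j * Polynomial.X -
        (Gam c).coeff (j + 1) * Polynomial.C (n : ℤ) := by
      linear_combination hD
    have hε : ((Gam c).coeff j).coeff j = ε := by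
      rw [hP0] at r2
      have : (n : ℤ) ^ (j + 1) * ((Gam c).coeff j).coeff j = (n : ℤ) ^ (j + 1) * ε := by
        rw [r2]; ring
      exact mul_left_cancel₀ (pow_ne_zero _ hnz) this
    rw [hchi, h0, Polynomial.map_sub, Polynomial.map_mul, hncast, mul_zero, sub_zero,
      Polynomial.map_add, Polynomial.map_mul, Polynomial.map_C, Polynomial.map_X]
    constructor
    · refine (Polynomial.natDegree_add_le _ _).trans ?_
      rw [Polynomial.natDegree_C]
      have h2 : (Polynomial.map (Int.castRingHom (ZMod n)) ((Gam c).coeff j) *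
          Polynomial.X).natDegree ≤ j + 1 := by
        refine (Polynomial.natDegree_mul_le).trans ?_
        have := Polynomial.natDegree_map_le (f := Int.castRingHom (ZMod n)) (p := (Gam c).coeff j)
        have hx : (Polynomial.X : (ZMod n)[X]).natDegree ≤ 1 := Polynomial.natDegree_X_le
        omega
      omega
    · rw [Polynomial.coeff_add, Polynomial.coeff_C_succ, zero_add, Polynomial.coeff_mul_X,
        Polynomial.coeff_map, hε]
      rfl

theorem chi_h_regular (n : ℕ) (hn : n ≠ 0) (D : ℕ) (P : ℤ[X]) (ε : ℤ) (hε : ε * ε = 1)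
    (hP0 : P.coeff 0 = ε * (n : ℤ) ^ D) (h : MvPolynomial (Fin 2) ℤ)
    (hh : X 0 ^ D * h - Polynomial.aeval (X 0 : MvPolynomial (Fin 2) ℤ) P ∈ Ideal.span {rr n})
    (y : (ZMod n)[X]) (hy : chi n h * y = 0) : y = 0 := by
  obtain ⟨h1, h2⟩ := chi_h_coeff n hn D P ε hP0 h hh
  by_contra hy0
  have h3 := Polynomial.coeff_mul_add_eq_of_natDegree_le h1 (le_refl y.natDegree)
  rw [hy, Polynomial.coeff_zero, h2] at h3
  have h4 : y.leadingCoeff = 0 := by
    have h5 : ((ε : ZMod n)) * ((ε : ZMod n) * y.coeff y.natDegree) = 0 := by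
      rw [← h3, mul_zero]
    rw [← mul_assoc, ← Int.cast_mul, hε, Int.cast_one, one_mul] at h5
    exact h5
  exact hy0 (Polynomial.leadingCoeff_eq_zero.mp h4)

/-- `F` is a nonzerodivisor modulo `(FV - n, h)`. -/
theorem key (n : ℕ) (hn : n ≠ 0) (D : ℕ) (P : ℤ[X]) (ε : ℤ) (hε : ε * ε = 1)
    (hP0 : P.coeff 0 = ε * (n : ℤ) ^ D) (h : MvPolynomial (Fin 2) ℤ)
    (hh : X 0 ^ D * h - Polynomial.aeval (X 0 : MvPolynomial (Fin 2) ℤ) P ∈ Ideal.span {rr n})
    (x : MvPolynomial (Fin 2) ℤ) (hx : X 0 * x ∈ Ideal.span {rr n, h}) :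
    x ∈ Ideal.span {rr n, h} := by
  obtain ⟨c₀, y, hxy⟩ := Ideal.mem_span_pair.mp hx
  have h1 : chi n h * chi n y = 0 := by
    have := congrArg (chi n) hxy
    rw [map_add, map_mul, map_mul, map_mul, chi_rr, chi_X0, mul_zero, zero_mul, zero_add] at this
    rw [mul_comm]; exact this
  have h2 := chi_h_regular n hn D P ε hε hP0 h hh _ h1
  obtain ⟨y₁, y₂, hy⟩ := exists_of_chi_eq_zero n y h2
  have h3 : X 0 * (x - y₁ * h) ∈ Ideal.span {rr n} := by
    rw [Ideal.mem_span_singleton']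
    refine ⟨c₀ + y₂ * h, ?_⟩
    rw [mul_sub, ← hxy, hy]; ring
  have h4 := mem_of_X0_mul_mem n hn _ h3
  have h5 : x = (x - y₁ * h) + y₁ * h := by ring
  rw [h5]
  refine Ideal.add_mem _ ?_ (Ideal.mul_mem_left _ _ (Ideal.subset_span (by simp)))
  exact (Ideal.span_mono (by simp) : Ideal.span {rr n} ≤ Ideal.span {rr n, h}) h4

theorem key_pow (n : ℕ) (hn : n ≠ 0) (D : ℕ) (P : ℤ[X]) (ε : ℤ) (hε : ε * ε = 1)
    (hP0 : P.coeff 0 = ε * (n : ℤ) ^ D) (h : MvPolynomial (Fin 2) ℤ)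
    (hh : X 0 ^ D * h - Polynomial.aeval (X 0 : MvPolynomial (Fin 2) ℤ) P ∈ Ideal.span {rr n})
    (N : ℕ) (x : MvPolynomial (Fin 2) ℤ) (hx : X 0 ^ N * x ∈ Ideal.span {rr n, h}) :
    x ∈ Ideal.span {rr n, h} := by
  induction N with
  | zero => simpa using hx
  | succ N ih =>
    apply ih
    apply key n hn D P ε hε hP0 h hh
    rw [← mul_assoc, ← pow_succ']; exact hx

theorem mem_of_pow_mul_mem (n : ℕ) (hn : n ≠ 0) (N : ℕ) (z : MvPolynomial (Fin 2) ℤ)
    (hz : X 0 ^ N * z ∈ Ideal.span {rr n}) : z ∈ Ideal.span {rr n} := by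
  induction N with
  | zero => simpa using hz
  | succ N ih =>
    apply ih
    apply mem_of_X0_mul_mem n hn
    rw [← mul_assoc, ← pow_succ']; exact hz

/-- `F ↦ C X` (inner), `V ↦ X` (outer) -/
noncomputable def Gam2 : MvPolynomial (Fin 2) ℤ →ₐ[ℤ] (ℤ[X])[X] :=
  MvPolynomial.aeval ![Polynomial.C Polynomial.X, Polynomial.X]

theorem eq_zero_of_aeval_mem (n : ℕ) (u : ℤ[X])
    (hu : Polynomial.aeval (X 0 : MvPolynomial (Fin 2) ℤ) u ∈ Ideal.span {rr n}) : u = 0 := by
  obtain ⟨c, hc⟩ := Ideal.mem_span_singleton'.mp hu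
  have h1 := congrArg Gam2 hc
  have h2 : Gam2 (X 0) = Polynomial.C Polynomial.X := by simp [Gam2]
  have h3 : Gam2 (rr n) =
      Polynomial.C Polynomial.X * Polynomial.X - Polynomial.C (Polynomial.C (n : ℤ)) := by
    simp [Gam2, rr]
  have h4 : Polynomial.aeval (Polynomial.C Polynomial.X : (ℤ[X])[X]) u = Polynomial.C u := by
    have := Polynomial.aeval_algebraMap_apply (A := ℤ[X]) (B := (ℤ[X])[X]) (Polynomial.X : ℤ[X]) u
    rw [Polynomial.aeval_X_left_apply] at this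
    exact this
  rw [map_mul, ← Polynomial.aeval_algHom_apply, h2, h3, h4] at h1
  by_cases hc0 : Gam2 c = 0
  · rw [hc0, zero_mul] at h1
    exact Polynomial.C_eq_zero.mp h1.symm
  · exfalso
    have hr : (Polynomial.C Polynomial.X * Polynomial.X -
        Polynomial.C (Polynomial.C (n : ℤ)) : (ℤ[X])[X]).natDegree = 1 := by
      rw [Polynomial.natDegree_sub_C, Polynomial.natDegree_C_mul_X _ Polynomial.X_ne_zero]
    have hr0 : (Polynomial.C Polynomial.X * Polynomial.X -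
        Polynomial.C (Polynomial.C (n : ℤ)) : (ℤ[X])[X]) ≠ 0 := by
      intro h0; rw [h0] at hr; simp at hr
    have := congrArg Polynomial.natDegree h1
    rw [Polynomial.natDegree_mul hc0 hr0, hr, Polynomial.natDegree_C] at this
    omega

/-- `h` is a nonzerodivisor modulo `FV - n`. -/
theorem h_regular (n : ℕ) (hn : n ≠ 0) (D : ℕ) (P : ℤ[X]) (hP : P ≠ 0)
    (h : MvPolynomial (Fin 2) ℤ)
    (hh : X 0 ^ D * h - Polynomial.aeval (X 0 : MvPolynomial (Fin 2) ℤ) P ∈ Ideal.span {rr n})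
    (b : MvPolynomial (Fin 2) ℤ) (hb : h * b ∈ Ideal.span {rr n}) : b ∈ Ideal.span {rr n} := by
  obtain ⟨N, u, hu⟩ := elim n b
  have h1 : Polynomial.aeval (X 0 : MvPolynomial (Fin 2) ℤ) (P * u) ∈ Ideal.span {rr n} := by
    have : Polynomial.aeval (X 0 : MvPolynomial (Fin 2) ℤ) (P * u) =
        X 0 ^ (D + N) * (h * b) -
        (X 0 ^ D * h - Polynomial.aeval (X 0 : MvPolynomial (Fin 2) ℤ) P) *
          Polynomial.aeval (X 0 : MvPolynomial (Fin 2) ℤ) u -
        X 0 ^ D * h * (X 0 ^ N * b - Polynomial.aeval (X 0 : MvPolynomial (Fin 2) ℤ) u) := by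
      rw [map_mul]; ring
    rw [this]
    exact Ideal.sub_mem _ (Ideal.sub_mem _ (Ideal.mul_mem_left _ _ hb)
      (Ideal.mul_mem_right _ _ hh)) (Ideal.mul_mem_left _ _ hu)
  have h2 := eq_zero_of_aeval_mem n _ h1
  have hu0 : u = 0 := by
    rcases mul_eq_zero.mp h2 with h | h
    · exact absurd h hP
    · exact h
  rw [hu0, map_zero, sub_zero] at hu
  exact mem_of_pow_mul_mem n hn N b hu

theorem rr_ne_zero (n : ℕ) (hn : n ≠ 0) : rr n ≠ 0 := by
  intro h0
  have := congrArg ev0 h0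
  rw [ev0_rr, map_zero, neg_eq_zero, Polynomial.C_eq_zero] at this
  exact hn (by exact_mod_cast this)

theorem weaklyRegular_pair (n : ℕ) (hn : n ≠ 0) (h : MvPolynomial (Fin 2) ℤ)
    (hreg : ∀ b : MvPolynomial (Fin 2) ℤ, h * b ∈ Ideal.span {rr n} → b ∈ Ideal.span {rr n}) :
    RingTheory.Sequence.IsWeaklyRegular (MvPolynomial (Fin 2) ℤ) [rr n, h] := by
  rw [RingTheory.Sequence.isWeaklyRegular_cons_iff, RingTheory.Sequence.isWeaklyRegular_cons_iff]
  refine ⟨?_, ?_, ?_⟩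
  · intro a b hab
    exact mul_left_cancel₀ (rr_ne_zero n hn) hab
  · rw [isSMulRegular_quotient_iff_mem_of_smul_mem]
    intro x hx
    have hmem : ∀ y : MvPolynomial (Fin 2) ℤ,
        y ∈ rr n • (⊤ : Submodule (MvPolynomial (Fin 2) ℤ) (MvPolynomial (Fin 2) ℤ)) ↔
          y ∈ Ideal.span {rr n} := by
      intro y
      rw [Submodule.mem_smul_pointwise_iff_exists, Ideal.mem_span_singleton']
      constructor
      · rintro ⟨b, _, hb⟩
        exact ⟨b, by rw [← hb, smul_eq_mul, mul_comm]⟩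
      · rintro ⟨b, hb⟩
        exact ⟨b, Submodule.mem_top, by rw [← hb, smul_eq_mul, mul_comm]⟩
    rw [hmem] at hx ⊢
    exact hreg x hx
  · exact RingTheory.Sequence.IsWeaklyRegular.nil _ _

section Final
variable (p e : ℕ) [Fact p.Prime] (ι : Type) [Fintype ι] (K : ι → Type u) [∀ i, Field (K i)]
  [∀ i, CharZero (K i)] (π : ∀ i, K i)

theorem prod_minpoly_dvd (hint : ∀ i, IsIntegral ℤ (π i))
    (hinj : ∀ i j, minpoly ℤ (π i) = minpoly ℤ (π j) → i = j) (u : ℤ[X])
    (hu : ∀ i, Polynomial.aeval (π i) u = 0) : ∏ i, minpoly ℤ (π i) ∣ u := by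
  apply Fintype.prod_dvd_of_isRelPrime
  · intro i j hij
    show IsRelPrime (minpoly ℤ (π i)) (minpoly ℤ (π j))
    have hi := minpoly.irreducible (hint i)
    have hj := minpoly.irreducible (hint j)
    rw [hi.isRelPrime_iff_not_dvd]
    intro hdvd
    have hassoc : Associated (minpoly ℤ (π i)) (minpoly ℤ (π j)) :=
      hi.associated_of_dvd hj hdvd
    have := Polynomial.eq_of_monic_of_associated (minpoly.monic (hint i))
      (minpoly.monic (hint j)) hassoc
    exact hij (hinj i j this)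
  · intro i
    exact minpoly.isIntegrallyClosed_dvd (hint i) (hu i)

theorem coeff_zero_prod (hint : ∀ i, IsIntegral ℤ (π i))
    (hweil : ∀ i, ∀ z ∈ (minpoly ℤ (π i)).aroots ℂ, ‖z‖ = Real.sqrt ((p : ℝ) ^ e))
    (D : ℕ) (hD : ∑ i, (minpoly ℤ (π i)).natDegree = 2 * D) :
    ∃ ε : ℤ, ε * ε = 1 ∧ (∏ i, minpoly ℤ (π i)).coeff 0 = ε * ((p ^ e : ℕ) : ℤ) ^ D := by
  classical
  obtain ⟨P, hPdef⟩ : ∃ P : ℤ[X], P = ∏ i, minpoly ℤ (π i) := ⟨_, rfl⟩
  rw [← hPdef]
  have hmonic : P.Monic := by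
    rw [hPdef]; exact Polynomial.monic_prod_of_monic _ _ (fun i _ => minpoly.monic (hint i))
  have hdeg : P.natDegree = 2 * D := by
    rw [hPdef, Polynomial.natDegree_prod_of_monic _ _ (fun i _ => minpoly.monic (hint i)), hD]
  obtain ⟨Pc, hPc⟩ : ∃ Pc : ℂ[X], Pc = P.map (algebraMap ℤ ℂ) := ⟨_, rfl⟩
  have hPc_monic : Pc.Monic := by rw [hPc]; exact hmonic.map _
  have hsplit : Pc.Splits := IsAlgClosed.splits Pc
  have hc0 : Pc.coeff 0 = (-1) ^ Pc.natDegree * Pc.roots.prod :=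
    hsplit.coeff_zero_eq_prod_roots_of_monic hPc_monic
  have hdegc : Pc.natDegree = 2 * D := by rw [hPc, hmonic.natDegree_map, hdeg]
  have hcard : Pc.roots.card = 2 * D := by rw [← hsplit.natDegree_eq_card_roots, hdegc]
  have hroots : ∀ z ∈ Pc.roots, ‖z‖ = Real.sqrt ((p : ℝ) ^ e) := by
    intro z hz
    have hz' : Pc.eval z = 0 := ((Polynomial.mem_roots hPc_monic.ne_zero).mp hz)
    have hPc' : Pc = ∏ i, (minpoly ℤ (π i)).map (algebraMap ℤ ℂ) := by
      rw [hPc, hPdef, Polynomial.map_prod]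
    rw [hPc', Polynomial.eval_prod, Finset.prod_eq_zero_iff] at hz'
    obtain ⟨i, _, hi⟩ := hz'
    apply hweil i z
    rw [Polynomial.mem_aroots]
    exact ⟨(minpoly.monic (hint i)).ne_zero, by
      rw [Polynomial.aeval_def, ← Polynomial.eval_map]; exact hi⟩
  have hnorm : ‖Pc.roots.prod‖ = (Real.sqrt ((p : ℝ) ^ e)) ^ (2 * D) := by
    rw [← hcard]
    have h1 : ‖Pc.roots.prod‖ = (Pc.roots.map (fun z => ‖z‖)).prod :=
      map_multiset_prod (normHom : ℂ →*₀ ℝ) _
    have h2 : ∀ x ∈ Pc.roots.map (fun z => ‖z‖), x = Real.sqrt ((p : ℝ) ^ e) := by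
      intro x hx
      obtain ⟨z, hz, rfl⟩ := Multiset.mem_map.mp hx
      exact hroots z hz
    rw [h1, Multiset.eq_replicate_of_mem h2, Multiset.prod_replicate, Multiset.card_map]
  have hq : (Real.sqrt ((p : ℝ) ^ e)) ^ (2 * D) = ((p : ℝ) ^ e) ^ D := by
    rw [pow_mul, Real.sq_sqrt (by positivity)]
  have hcoef : Pc.coeff 0 = ((P.coeff 0 : ℤ) : ℂ) := by
    rw [hPc, Polynomial.coeff_map]; simp
  have habs : |(P.coeff 0 : ℝ)| = ((p : ℝ) ^ e) ^ D := by
    rw [← hq, ← hnorm, ← Complex.norm_intCast, ← hcoef, hc0, hdegc, pow_mul]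
    simp
  have habs' : |P.coeff 0| = ((p ^ e : ℕ) : ℤ) ^ D := by
    have : ((|P.coeff 0| : ℤ) : ℝ) = ((((p ^ e : ℕ) : ℤ) ^ D : ℤ) : ℝ) := by
      rw [Int.cast_abs, habs]; push_cast; ring
    exact_mod_cast this
  rcases abs_eq (by positivity : (0 : ℤ) ≤ ((p ^ e : ℕ) : ℤ) ^ D) |>.mp habs' with h | h
  · exact ⟨1, by norm_num, by rw [h, one_mul]⟩
  · exact ⟨-1, by norm_num, by rw [h]; ring⟩

theorem final (he : 0 < e)
    (hint : ∀ i, IsIntegral ℤ (π i))
    (hweil : ∀ i, ∀ z ∈ (minpoly ℤ (π i)).aroots ℂ, ‖z‖ = Real.sqrt ((p : ℝ) ^ e))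
    (hinj : ∀ i j, minpoly ℤ (π i) = minpoly ℤ (π j) → i = j)
    (D : ℕ) (hD : ∑ i, (minpoly ℤ (π i)).natDegree = 2 * D)
    (h : MvPolynomial (Fin 2) ℤ)
    (hh : X 0 ^ D * h - Polynomial.aeval (X 0 : MvPolynomial (Fin 2) ℤ) (∏ i, minpoly ℤ (π i)) ∈
      Ideal.span ({X 0 * X 1 - C ((p : ℤ) ^ e)} : Set (MvPolynomial (Fin 2) ℤ))) :
    RingHom.ker (MvPolynomial.aeval ![fun i => π i, fun i => ((p : K i) ^ e) / π i] :
        MvPolynomial (Fin 2) ℤ →ₐ[ℤ] ((i : ι) → K i)) =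
        Ideal.span {X 0 * X 1 - C ((p : ℤ) ^ e), h} ∧
      RingTheory.Sequence.IsWeaklyRegular (MvPolynomial (Fin 2) ℤ) [X 0 * X 1 - C ((p : ℤ) ^ e), h] := by
  obtain ⟨n, hn_def⟩ : ∃ n : ℕ, n = p ^ e := ⟨_, rfl⟩
  have hp : p.Prime := Fact.out
  have hn0 : n ≠ 0 := by rw [hn_def]; exact pow_ne_zero _ hp.ne_zero
  have hr : (X 0 * X 1 - C ((p : ℤ) ^ e) : MvPolynomial (Fin 2) ℤ) = rr n := by
    rw [rr, hn_def]; push_cast; rfl
  rw [hr] at hh ⊢
  obtain ⟨ε, hε, hP0⟩ := coeff_zero_prod p e ι K π hint hweil D hD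
  rw [← hn_def] at hP0
  obtain ⟨P, hPdef⟩ : ∃ P : ℤ[X], P = ∏ i, minpoly ℤ (π i) := ⟨_, rfl⟩
  rw [← hPdef] at hh hP0
  have hPmonic : P.Monic := by
    rw [hPdef]; exact Polynomial.monic_prod_of_monic _ _ (fun i _ => minpoly.monic (hint i))
  obtain ⟨φ, hφ⟩ : ∃ φ : MvPolynomial (Fin 2) ℤ →ₐ[ℤ] ((i : ι) → K i),
      φ = MvPolynomial.aeval ![fun i => π i, fun i => ((p : K i) ^ e) / π i] := ⟨_, rfl⟩
  rw [← hφ]
  have hπ0 : ∀ i, π i ≠ 0 := by
    intro i h0
    have h1 : (minpoly ℤ (π i)).coeff 0 = 0 := by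
      have h5 := minpoly.aeval ℤ (π i)
      rw [h0] at h5
      rw [Polynomial.aeval_def, Polynomial.eval₂_at_zero] at h5
      rw [h0]
      apply (algebraMap ℤ (K i)).injective_int
      rw [h5, map_zero]
    have h2 : P.coeff 0 = 0 := by
      rw [hPdef, Polynomial.coeff_zero_eq_eval_zero, Polynomial.eval_prod]
      apply Finset.prod_eq_zero (Finset.mem_univ i)
      rw [← Polynomial.coeff_zero_eq_eval_zero]; exact h1
    rw [hP0] at h2
    have hnz : (n : ℤ) ≠ 0 := by exact_mod_cast hn0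
    rcases mul_eq_zero.mp h2 with h3 | h3
    · rw [h3] at hε; simp at hε
    · exact pow_ne_zero _ hnz h3
  have hφF : φ (X 0) = fun i => π i := by rw [hφ]; simp
  have hφV : φ (X 1) = fun i => ((p : K i) ^ e) / π i := by rw [hφ]; simp
  have hφr : φ (rr n) = 0 := by
    rw [rr, map_sub, map_mul, hφF, hφV]
    funext i
    have : (algebraMap ℤ ((i : ι) → K i) (n : ℤ)) i = (p : K i) ^ e := by
      rw [hn_def]; simp
    simp only [Pi.sub_apply, Pi.mul_apply, Pi.zero_apply, MvPolynomial.algHom_C]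
    rw [this, mul_div_cancel₀ _ (hπ0 i), sub_self]
  have hφP : ∀ u : ℤ[X], φ (Polynomial.aeval (X 0 : MvPolynomial (Fin 2) ℤ) u) =
      fun i => Polynomial.aeval (π i) u := by
    intro u
    rw [← Polynomial.aeval_algHom_apply, hφF]
    funext i
    exact (Polynomial.aeval_algHom_apply (Pi.evalAlgHom ℤ K i) (fun i => π i) u).symm
  have hle : Ideal.span {rr n} ≤ Ideal.span {rr n, h} := Ideal.span_mono (by simp)
  have hker_r : ∀ x ∈ Ideal.span {rr n}, φ x = 0 := by
    intro x hx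
    obtain ⟨c, hc⟩ := Ideal.mem_span_singleton'.mp hx
    rw [← hc, map_mul, hφr, mul_zero]
  have hφh : φ h = 0 := by
    have h1 := hker_r _ hh
    rw [map_sub, map_mul, map_pow, hφF, hφP] at h1
    funext i
    have h2 := congrFun h1 i
    simp only [Pi.sub_apply, Pi.mul_apply, Pi.pow_apply, Pi.zero_apply] at h2
    have h3 : Polynomial.aeval (π i) P = 0 := by
      rw [hPdef, map_prod]
      exact Finset.prod_eq_zero (Finset.mem_univ i) (minpoly.aeval ℤ (π i))
    rw [h3, sub_zero] at h2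
    rcases mul_eq_zero.mp h2 with h4 | h4
    · exact absurd h4 (pow_ne_zero _ (hπ0 i))
    · exact h4
  constructor
  · apply le_antisymm
    · intro b hb
      rw [RingHom.mem_ker] at hb
      obtain ⟨N, u, hu⟩ := elim n b
      have h1 : φ (Polynomial.aeval (X 0 : MvPolynomial (Fin 2) ℤ) u) = 0 := by
        have := hker_r _ hu
        rw [map_sub, map_mul, hb, mul_zero, zero_sub, neg_eq_zero] at this
        exact this
      rw [hφP] at h1
      have h2 : P ∣ u := by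
        rw [hPdef]
        exact prod_minpoly_dvd ι K π hint hinj u (fun i => congrFun h1 i)
      obtain ⟨g, hg⟩ := h2
      apply key_pow n hn0 D P ε hε hP0 h hh N
      have : X 0 ^ N * b =
          (X 0 ^ N * b - Polynomial.aeval (X 0 : MvPolynomial (Fin 2) ℤ) u) -
          (X 0 ^ D * h - Polynomial.aeval (X 0 : MvPolynomial (Fin 2) ℤ) P) *
            Polynomial.aeval (X 0 : MvPolynomial (Fin 2) ℤ) g +
          X 0 ^ D * Polynomial.aeval (X 0 : MvPolynomial (Fin 2) ℤ) g * h := by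
        rw [hg, map_mul]; ring
      rw [this]
      exact Ideal.add_mem _ (Ideal.sub_mem _ (hle hu) (Ideal.mul_mem_right _ _ (hle hh)))
        (Ideal.mul_mem_left _ _ (Ideal.subset_span (by simp)))
    · rw [Ideal.span_le]
      intro x hx
      rcases hx with rfl | rfl
      · exact hφr
      · exact hφh
  · exact weaklyRegular_pair n hn0 h (h_regular n hn0 D P hPmonic.ne_zero h hh)

end Final

end Helpers

/-- Let p be a prime, e ≥ 1 and q = p^e. Let (π_i) be a finite family of pairwise nonconjugate Weil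
q-numbers: π_i is an element of a field K_i of characteristic zero, integral over ℤ with minimal
polynomial P_i, every complex root of P_i has absolute value √q, and P_i ≠ P_j for i ≠ j. Suppose
the total degree Σ_i deg P_i is even, equal to 2D (equivalently, the family contains either none or
both of the rational Weil q-numbers ±q^{1/2}). Put P_w = ∏_i P_i and let h ∈ ℤ[F, V] (F = X_0, V =
X_1) be any polynomial with F^D · h ≡ P_w(F) modulo FV − q; such an h exists, is unique modulo FV −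
q, and the product of the symmetric polynomials h_{π_i} is one. Then the kernel of the ring map ℤ[F,
V] → ∏_i K_i, F ↦ (π_i), V ↦ (q/π_i), whose image is the minimal central order R_w, is the ideal
generated by FV − q and h, and (FV − q, h) is a regular sequence in ℤ[F, V]: R_w is the complete
intersection ℤ[F, V]/(FV − q, h). -/
theorem result (p e : ℕ) [Fact p.Prime] (he : 0 < e)
    (ι : Type) [Fintype ι] (K : ι → Type u) [∀ i, Field (K i)] [∀ i, CharZero (K i)] (π : ∀ i, K i)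
    (hint : ∀ i, IsIntegral ℤ (π i))
    (hweil : ∀ i, ∀ z ∈ (minpoly ℤ (π i)).aroots ℂ, ‖z‖ = Real.sqrt ((p : ℝ) ^ e))
    (hinj : ∀ i j, minpoly ℤ (π i) = minpoly ℤ (π j) → i = j)
    (D : ℕ) (hD : ∑ i, (minpoly ℤ (π i)).natDegree = 2 * D)
    (h : MvPolynomial (Fin 2) ℤ)
    (hh : X 0 ^ D * h - Polynomial.aeval (X 0 : MvPolynomial (Fin 2) ℤ) (∏ i, minpoly ℤ (π i)) ∈
      Ideal.span ({X 0 * X 1 - C ((p : ℤ) ^ e)} : Set (MvPolynomial (Fin 2) ℤ))) :
    RingHom.ker (MvPolynomial.aeval ![fun i => π i, fun i => ((p : K i) ^ e) / π i] :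
        MvPolynomial (Fin 2) ℤ →ₐ[ℤ] ((i : ι) → K i)) =
        Ideal.span {X 0 * X 1 - C ((p : ℤ) ^ e), h} ∧
      RingTheory.Sequence.IsWeaklyRegular (MvPolynomial (Fin 2) ℤ) [X 0 * X 1 - C ((p : ℤ) ^ e), h] := by

  exact final p e ι K π he hint hweil hinj D hD h hh

end Groth.Agent.S17984
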