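import Groth.Statements.S17999
import Mathlib
import Groth.Agent.Lib.Helper20.WeilOrd
import Groth.Agent.Lib.Helper20.PicMilnor

set_option autoImplicit false
universe u
open MvPolynomial
open WeilNum

namespace Groth.Agent.S17999



section Helpers
open scoped Polynomial
open Groth.Agent.Lib.Helper20.WeilOrd Groth.Agent.Lib.Helper20.WeilFE
  Groth.Agent.Lib.Helper26.WeilSym Groth.Agent.Lib.Helper20.PicMilnor

theorem finite_maxSpec (A : Type*) [CommRing A] [Finite A] : Finite (MaximalSpectrum A) :=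
  Finite.of_injective (fun m : MaximalSpectrum A => (m.asIdeal : Set A))
    (fun a b h => MaximalSpectrum.ext (SetLike.coe_injective h))

/-- clearing denominators in a Bezout relation -/
theorem exists_int_combination (P₁ P₂ : ℤ[X])
    (h : IsCoprime (P₁.map (algebraMap ℤ ℚ)) (P₂.map (algebraMap ℤ ℚ))) :
    ∃ (n : ℤ) (U W : ℤ[X]), n ≠ 0 ∧ U * P₁ + W * P₂ = Polynomial.C n := by
  obtain ⟨u, w, huw⟩ := h
  obtain ⟨b₁, hb₁⟩ := IsLocalization.integerNormalization_map_to_map (nonZeroDivisors ℤ) u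
  obtain ⟨b₂, hb₂⟩ := IsLocalization.integerNormalization_map_to_map (nonZeroDivisors ℤ) w
  refine ⟨(b₁ : ℤ) * (b₂ : ℤ),
    Polynomial.C (b₂ : ℤ) * IsLocalization.integerNormalization (nonZeroDivisors ℤ) u,
    Polynomial.C (b₁ : ℤ) * IsLocalization.integerNormalization (nonZeroDivisors ℤ) w,
    mul_ne_zero (nonZeroDivisors.coe_ne_zero b₁) (nonZeroDivisors.coe_ne_zero b₂), ?_⟩
  apply Polynomial.map_injective (algebraMap ℤ ℚ) (algebraMap ℤ ℚ).injective_int
  simp only [Polynomial.map_add, Polynomial.map_mul, Polynomial.map_C, hb₁, hb₂]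
  rw [Algebra.smul_def, Algebra.smul_def]
  simp only [Polynomial.algebraMap_apply, map_mul, Polynomial.map_C]
  linear_combination (Polynomial.C ((algebraMap ℤ ℚ) (b₁ : ℤ)) *
    Polynomial.C ((algebraMap ℤ ℚ) (b₂ : ℤ))) * huw

theorem finite_quot (n : ℤ) (hn : n ≠ 0) (I : Ideal (MvPolynomial (Fin 2) ℤ)) (Pm : ℤ[X])
    (hPm : Pm.Monic)
    (h0 : Polynomial.aeval (X 0 : MvPolynomial (Fin 2) ℤ) Pm ∈ I)
    (h1 : Polynomial.aeval (X 1 : MvPolynomial (Fin 2) ℤ) Pm ∈ I)
    (hnI : (C n : MvPolynomial (Fin 2) ℤ) ∈ I) : Finite (MvPolynomial (Fin 2) ℤ ⧸ I) := by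
  have hfin : Module.Finite ℤ (MvPolynomial (Fin 2) ℤ ⧸ I) := by
    have hadj : Algebra.adjoin ℤ (Set.range (fun i : Fin 2 =>
        Ideal.Quotient.mkₐ ℤ I (X i))) = ⊤ := by
      have h2 := congrArg (Subalgebra.map (Ideal.Quotient.mkₐ ℤ I))
        (MvPolynomial.adjoin_range_X (R := ℤ) (σ := Fin 2))
      rw [AlgHom.map_adjoin, Algebra.map_top, ← Set.range_comp] at h2
      rw [show (fun i : Fin 2 => Ideal.Quotient.mkₐ ℤ I (X i)) =
        (Ideal.Quotient.mkₐ ℤ I) ∘ X from rfl, h2, AlgHom.range_eq_top]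
      exact Ideal.Quotient.mkₐ_surjective ℤ I
    have hfg : (Algebra.adjoin ℤ (Set.range (fun i : Fin 2 =>
        Ideal.Quotient.mkₐ ℤ I (X i)))).toSubmodule.FG := by
      apply fg_adjoin_of_finite (Set.finite_range _)
      rintro x ⟨k, rfl⟩
      refine ⟨Pm, hPm, ?_⟩
      show Polynomial.eval₂ (algebraMap ℤ _) (Ideal.Quotient.mkₐ ℤ I (X k)) Pm = 0
      rw [← Polynomial.aeval_def, Polynomial.aeval_algHom_apply]
      show Ideal.Quotient.mk I _ = 0
      rw [Ideal.Quotient.eq_zero_iff_mem]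
      fin_cases k
      · exact h0
      · exact h1
    rw [hadj, Algebra.top_toSubmodule] at hfg
    exact Module.finite_def.mpr hfg
  apply Module.finite_of_fg_torsion
  intro x
  refine ⟨⟨n, mem_nonZeroDivisors_of_ne_zero hn⟩, ?_⟩
  obtain ⟨y, rfl⟩ := Ideal.Quotient.mk_surjective x
  show n • Ideal.Quotient.mk I y = 0
  rw [← map_zsmul, Ideal.Quotient.eq_zero_iff_mem, zsmul_eq_mul]
  have : ((n : ℤ) : MvPolynomial (Fin 2) ℤ) = C n := by simp
  rw [this]
  exact I.mul_mem_right _ hnI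

variable (p e : ℕ) [Fact p.Prime] (J : Type) [Fintype J] (K : J → Type u) [∀ j, Field (K j)]
  [∀ j, CharZero (K j)] (ϖ : ∀ j, K j)

noncomputable abbrev psi (j : J) : MvPolynomial (Fin 2) ℤ →ₐ[ℤ] K j :=
  MvPolynomial.aeval ![ϖ j, ((p : K j) ^ e) / ϖ j]

noncomputable abbrev phi : MvPolynomial (Fin 2) ℤ →ₐ[ℤ] ((j : J) → K j) :=
  MvPolynomial.aeval ![fun j => ϖ j, fun j => ((p : K j) ^ e) / ϖ j]

theorem phi_apply (x : MvPolynomial (Fin 2) ℤ) (j : J) :
    phi p e J K ϖ x j = psi p e J K ϖ j x := by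
  have h := congrArg (fun f => f x) (MvPolynomial.comp_aeval (R := ℤ)
    (f := ![fun j => ϖ j, fun j => ((p : K j) ^ e) / ϖ j]) (Pi.evalAlgHom ℤ K j))
  simp only [AlgHom.comp_apply] at h
  have h2 : (fun i => (Pi.evalAlgHom ℤ K j) ((![fun j => ϖ j, fun j => ((p : K j) ^ e) / ϖ j] :
      Fin 2 → ((j : J) → K j)) i)) = ![ϖ j, ((p : K j) ^ e) / ϖ j] := by
    funext i
    fin_cases i <;> rfl
  rw [h2] at h
  exact h

theorem mem_ker_iff (x : MvPolynomial (Fin 2) ℤ) :
    x ∈ RingHom.ker (phi p e J K ϖ) ↔ ∀ j, psi p e J K ϖ j x = 0 := by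
  rw [RingHom.mem_ker]
  constructor
  · intro h j
    rw [← phi_apply, h]
    rfl
  · intro h
    funext j
    rw [phi_apply, h j]
    rfl

theorem pi_ne_zero' (hweil : ∀ j, ∀ z ∈ (minpoly ℤ (ϖ j)).aroots ℂ,
    ‖z‖ = Real.sqrt ((p : ℝ) ^ e)) (j : J) : ϖ j ≠ 0 := by
  intro h0
  have hmin : minpoly ℤ (ϖ j) = Polynomial.X := by
    have h := minpoly.eq_X_sub_C_of_algebraMap_inj (A := ℤ) (B := K j) 0
      (algebraMap ℤ (K j)).injective_int
    rw [map_zero, map_zero, sub_zero] at h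
    rw [h0]; exact h
  have hmem : (0 : ℂ) ∈ (minpoly ℤ (ϖ j)).aroots ℂ := by
    rw [hmin]; simp
  have h1 := hweil j 0 hmem
  rw [norm_zero] at h1
  have hpos : 0 < Real.sqrt ((p : ℝ) ^ e) :=
    Real.sqrt_pos.mpr (pow_pos (Nat.cast_pos.mpr (Fact.out : p.Prime).pos) e)
  linarith

theorem aeval_V (hint : ∀ j, IsIntegral ℤ (ϖ j))
    (hweil : ∀ j, ∀ z ∈ (minpoly ℤ (ϖ j)).aroots ℂ, ‖z‖ = Real.sqrt ((p : ℝ) ^ e)) (j : J) :
    Polynomial.aeval (((p : K j) ^ e) / ϖ j) (∏ i, minpoly ℤ (ϖ i)) = 0 := by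
  have hm := prod_monic J K ϖ hint
  have hw := prod_weil p e J K ϖ hint hweil
  have h1 := refl_eq (∏ i, minpoly ℤ (ϖ i)) hm (p ^ e) hw
  have hne := pi_ne_zero' p e J K ϖ hweil j
  have h2 := aeval_refl_field (∏ i, minpoly ℤ (ϖ i)) ((p ^ e : ℕ) : ℤ) (ϖ j) hne
  rw [h1, map_mul, aeval_pi_prod J K ϖ j, mul_zero] at h2
  have h3 := (mul_eq_zero.mp h2.symm).resolve_left (pow_ne_zero _ hne)
  have hc : (((p ^ e : ℕ) : ℤ) : K j) = (p : K j) ^ e := by push_cast; rfl
  rw [hc] at h3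
  exact h3

theorem psi_aeval (j : J) (i : Fin 2) (Q : ℤ[X]) :
    psi p e J K ϖ j (Polynomial.aeval (X i : MvPolynomial (Fin 2) ℤ) Q) =
      Polynomial.aeval (psi p e J K ϖ j (X i)) Q :=
  (Polynomial.aeval_algHom_apply (psi p e J K ϖ j) (X i) Q).symm

theorem psi_X0 (j : J) : psi p e J K ϖ j (X 0) = ϖ j := by simp [psi]
theorem psi_X1 (j : J) : psi p e J K ϖ j (X 1) = ((p : K j) ^ e) / ϖ j := by simp [psi]

/-- distinct minimal polynomials are coprime over `ℚ` -/
theorem coprime_minpoly (hint : ∀ j, IsIntegral ℤ (ϖ j)) (i j : J)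
    (hij : minpoly ℤ (ϖ i) ≠ minpoly ℤ (ϖ j)) :
    IsCoprime ((minpoly ℤ (ϖ i)).map (algebraMap ℤ ℚ)) ((minpoly ℤ (ϖ j)).map (algebraMap ℤ ℚ)) := by
  have hi : Irreducible ((minpoly ℤ (ϖ i)).map (algebraMap ℤ ℚ)) :=
    ((minpoly.monic (hint i)).irreducible_iff_irreducible_map_fraction_map).mp
      (minpoly.irreducible (hint i))
  have hj : Irreducible ((minpoly ℤ (ϖ j)).map (algebraMap ℤ ℚ)) :=
    ((minpoly.monic (hint j)).irreducible_iff_irreducible_map_fraction_map).mp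
      (minpoly.irreducible (hint j))
  rw [hi.coprime_iff_not_dvd]
  intro hdvd
  have hassoc := hi.associated_of_dvd hj hdvd
  have := Polynomial.eq_of_monic_of_associated ((minpoly.monic (hint i)).map _)
    ((minpoly.monic (hint j)).map _) hassoc
  exact hij (Polynomial.map_injective _ (algebraMap ℤ ℚ).injective_int this)

theorem main_aux (J' J2 : Type) [Fintype J'] [Fintype J2] (emb : J' → J) (emb2 : J2 → J)
    (hcover : ∀ j, (∃ j', emb j' = j) ∨ (∃ j2, emb2 j2 = j))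
    (hdisj : ∀ j' j2, emb j' ≠ emb2 j2)
    (hint : ∀ j, IsIntegral ℤ (ϖ j))
    (hweil : ∀ j, ∀ z ∈ (minpoly ℤ (ϖ j)).aroots ℂ, ‖z‖ = Real.sqrt ((p : ℝ) ^ e))
    (hinj : ∀ i j, minpoly ℤ (ϖ i) = minpoly ℤ (ϖ j) → i = j)
    (hle : RingHom.ker (phi p e J K ϖ) ≤
      RingHom.ker (phi p e J' (fun j' => K (emb j')) (fun j' => ϖ (emb j')))) :
    Function.Surjective (CommRing.Pic.mapRingHom (Ideal.Quotient.factor hle)) := by
  classical
  have h2 : RingHom.ker (phi p e J K ϖ) ≤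
      RingHom.ker (phi p e J2 (fun j => K (emb2 j)) (fun j => ϖ (emb2 j))) := by
    intro x hx
    rw [mem_ker_iff] at hx ⊢
    intro j
    exact hx (emb2 j)
  have hinf : RingHom.ker (phi p e J' (fun j' => K (emb j')) (fun j' => ϖ (emb j'))) ⊓
      RingHom.ker (phi p e J2 (fun j => K (emb2 j)) (fun j => ϖ (emb2 j))) ≤
      RingHom.ker (phi p e J K ϖ) := by
    intro x hx
    have hx1 := hx.1
    have hx2 := hx.2
    rw [SetLike.mem_coe, mem_ker_iff] at hx1 hx2
    rw [mem_ker_iff]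
    intro j
    rcases hcover j with ⟨j', rfl⟩ | ⟨j2, rfl⟩
    · exact hx1 j'
    · exact hx2 j2
  have hfinA : Finite (MvPolynomial (Fin 2) ℤ ⧸
      (RingHom.ker (phi p e J' (fun j' => K (emb j')) (fun j' => ϖ (emb j'))) ⊔
      RingHom.ker (phi p e J2 (fun j => K (emb2 j)) (fun j => ϖ (emb2 j))))) := by
    have hcop : IsCoprime ((∏ j', minpoly ℤ (ϖ (emb j'))).map (algebraMap ℤ ℚ))
        ((∏ j2, minpoly ℤ (ϖ (emb2 j2))).map (algebraMap ℤ ℚ)) := by
      rw [Polynomial.map_prod, Polynomial.map_prod]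
      apply IsCoprime.prod_left
      intro j' _
      apply IsCoprime.prod_right
      intro j2 _
      apply coprime_minpoly J K ϖ hint
      intro heq
      exact hdisj j' j2 (hinj _ _ heq)
    obtain ⟨n, U, W, hn, hUW⟩ := exists_int_combination _ _ hcop
    apply finite_quot n hn _ (∏ i, minpoly ℤ (ϖ i)) (prod_monic J K ϖ hint)
    · apply Ideal.mem_sup_left
      apply hle
      rw [mem_ker_iff]
      intro j
      rw [psi_aeval, psi_X0]
      exact aeval_pi_prod J K ϖ j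
    · apply Ideal.mem_sup_left
      apply hle
      rw [mem_ker_iff]
      intro j
      rw [psi_aeval, psi_X1]
      exact aeval_V p e J K ϖ hint hweil j
    · have hC : (C n : MvPolynomial (Fin 2) ℤ) =
          Polynomial.aeval (X 0 : MvPolynomial (Fin 2) ℤ)
            (U * (∏ j', minpoly ℤ (ϖ (emb j'))) + W * (∏ j2, minpoly ℤ (ϖ (emb2 j2)))) := by
        rw [hUW, Polynomial.aeval_C]
        rfl
      rw [hC, map_add, map_mul, map_mul]
      apply Ideal.add_mem
      · apply Ideal.mem_sup_left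
        apply Ideal.mul_mem_left
        rw [mem_ker_iff]
        intro j'
        rw [psi_aeval, psi_X0]
        exact aeval_pi_prod J' (fun j' => K (emb j')) (fun j' => ϖ (emb j')) j'
      · apply Ideal.mem_sup_right
        apply Ideal.mul_mem_left
        rw [mem_ker_iff]
        intro j2
        rw [psi_aeval, psi_X0]
        exact aeval_pi_prod J2 (fun j => K (emb2 j)) (fun j => ϖ (emb2 j)) j2
  haveI : Finite (MaximalSpectrum (MvPolynomial (Fin 2) ℤ ⧸
      (RingHom.ker (phi p e J' (fun j' => K (emb j')) (fun j' => ϖ (emb j'))) ⊔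
      RingHom.ker (phi p e J2 (fun j => K (emb2 j)) (fun j => ϖ (emb2 j)))))) :=
    finite_maxSpec _
  exact pic_surjective_of_ideals _ _ _ hle h2 hinf

end Helpers

/-- The case of finite sets of Weil numbers; let p be a prime, e ≥ 1 and q = p^e; let (π_j)_{j ∈ J} be a
finite family of pairwise nonconjugate Weil q-numbers (π_j in a field K_j of characteristic zero,
integral over ℤ with minimal polynomial P_j, all complex roots of P_j of absolute value √q, P_i ≠
P_j for i ≠ j), and let e : J' → J be an injective map selecting a subfamily. Let I_w, resp. I_v, be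
the kernel of ℤ[F, V] → ∏_{j ∈ J} K_j, resp. → ∏_{j' ∈ J'} K_{e(j')}, sending F ↦ (π_j) and V ↦
(q/π_j); then I_w ⊆ I_v and ℤ[F,V]/I_w → ℤ[F,V]/I_v is the natural surjection R_w → R_v of minimal
central orders. Then the induced homomorphism of Picard groups Pic(R_w) → Pic(R_v) is surjective.
The published statement concerns the Picard groups of the pro-rings attached to arbitrary subsets V
⊆ W of Weil q-number classes; only the case of finite sets is stated here. -/
theorem result (p e : ℕ) [Fact p.Prime] (he : 0 < e)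
    (J J' : Type) [Fintype J] [Fintype J'] (emb : J' → J) (hemb : Function.Injective emb)
    (K : J → Type u) [∀ j, Field (K j)] [∀ j, CharZero (K j)] (ϖ : ∀ j, K j)
    (hint : ∀ j, IsIntegral ℤ (ϖ j))
    (hweil : ∀ j, ∀ z ∈ (minpoly ℤ (ϖ j)).aroots ℂ, ‖z‖ = Real.sqrt ((p : ℝ) ^ e))
    (hinj : ∀ i j, minpoly ℤ (ϖ i) = minpoly ℤ (ϖ j) → i = j)
    (hle : RingHom.ker (MvPolynomial.aeval ![fun j => ϖ j, fun j => ((p : K j) ^ e) / ϖ j] :
          MvPolynomial (Fin 2) ℤ →ₐ[ℤ] ((j : J) → K j)) ≤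
        RingHom.ker (MvPolynomial.aeval ![fun j' => ϖ (emb j'), fun j' => ((p : K (emb j')) ^ e) / ϖ (emb j')] :
          MvPolynomial (Fin 2) ℤ →ₐ[ℤ] ((j' : J') → K (emb j')))) :
    Function.Surjective (CommRing.Pic.mapRingHom (Ideal.Quotient.factor hle)) := by

  classical
  refine main_aux p e J K ϖ J' {j : J // j ∉ Set.range emb} emb Subtype.val ?_ ?_ hint hweil hinj hle
  · intro j
    by_cases hj : j ∈ Set.range emb
    · exact Or.inl hj
    · exact Or.inr ⟨⟨j, hj⟩, rfl⟩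
  · intro j' j2 h
    exact j2.2 ⟨j', h⟩

end Groth.Agent.S17999
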