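import Groth.Statements.S17987
import Mathlib
import Groth.Agent.Lib.Helper26.WeilSym

set_option autoImplicit false
universe u
open scoped Classical
open WeilNum

namespace Groth.Agent.S17987



section Helpers
open scoped Polynomial
open Polynomial

theorem norm_intCast_le_one (p : ℕ) [Fact p.Prime] (a : ℤ) : ‖(a : PadicAlgCl p)‖ ≤ 1 := by
  have h : (a : PadicAlgCl p) = ((a : ℚ_[p]) : PadicAlgCl p) :=
    (map_intCast (algebraMap ℚ_[p] (PadicAlgCl p)) a).symm
  rw [h, PadicAlgCl.norm_extends]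
  exact Padic.norm_int_le_one a

theorem norm_intCast_lt_one_iff (p : ℕ) [Fact p.Prime] (a : ℤ) :
    ‖(a : PadicAlgCl p)‖ < 1 ↔ (p : ℤ) ∣ a := by
  have h : (a : PadicAlgCl p) = ((a : ℚ_[p]) : PadicAlgCl p) :=
    (map_intCast (algebraMap ℚ_[p] (PadicAlgCl p)) a).symm
  rw [h, PadicAlgCl.norm_extends]
  exact Padic.norm_intCast_lt_one_iff

theorem norm_intCast_eq_one_iff (p : ℕ) [Fact p.Prime] (a : ℤ) :
    ‖(a : PadicAlgCl p)‖ = 1 ↔ ¬ (p : ℤ) ∣ a := by
  rw [← norm_intCast_lt_one_iff]
  constructor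
  · intro h; rw [h]; exact lt_irrefl _
  · intro h; exact le_antisymm (norm_intCast_le_one p a) (not_lt.mp h)

section Ultra
variable {K : Type*} [NormedField K] [IsUltrametricDist K]

theorem norm_sub_le_one_of {a b : K} (ha : ‖a‖ ≤ 1) (hb : ‖b‖ ≤ 1) : ‖a - b‖ ≤ 1 := by
  have := IsUltrametricDist.norm_add_le_max a (-b)
  rw [norm_neg, ← sub_eq_add_neg] at this
  exact this.trans (max_le ha hb)

theorem norm_sub_lt_one_of {a b : K} (ha : ‖a‖ < 1) (hb : ‖b‖ < 1) : ‖a - b‖ < 1 := by
  have := IsUltrametricDist.norm_add_le_max a (-b)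
  rw [norm_neg, ← sub_eq_add_neg] at this
  exact lt_of_le_of_lt this (max_lt ha hb)

theorem norm_sub_eq_one_left {a b : K} (ha : ‖a‖ = 1) (hb : ‖b‖ < 1) : ‖a - b‖ = 1 := by
  have hne : ‖a‖ ≠ ‖-b‖ := by rw [norm_neg, ha]; exact (ne_of_lt hb).symm
  have := IsUltrametricDist.norm_add_eq_max_of_norm_ne_norm hne
  rw [norm_neg, ← sub_eq_add_neg, ha, max_eq_left hb.le] at this
  exact this

theorem norm_sub_eq_one_right {a b : K} (ha : ‖a‖ < 1) (hb : ‖b‖ = 1) : ‖a - b‖ = 1 := by
  rw [← norm_neg, neg_sub]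
  exact norm_sub_eq_one_left hb ha

/-- first vertex of the Newton polygon -/
theorem newton (R : Multiset K) (hR : ∀ z ∈ R, ‖z‖ ≤ 1) :
    (∀ k, ‖((R.map (fun z => X - C z)).prod).coeff k‖ ≤ 1) ∧
    (∀ k < Multiset.card (R.filter (fun z => ‖z‖ < 1)),
      ‖((R.map (fun z => X - C z)).prod).coeff k‖ < 1) ∧
    ‖((R.map (fun z => X - C z)).prod).coeff
      (Multiset.card (R.filter (fun z => ‖z‖ < 1)))‖ = 1 := by
  induction R using Multiset.induction_on with
  | empty =>
    refine ⟨?_, ?_, ?_⟩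
    · intro k
      simp only [Multiset.map_zero, Multiset.prod_zero, coeff_one]
      split_ifs <;> simp
    · intro k hk; simp at hk
    · simp
  | cons z R ih =>
    have hz : ‖z‖ ≤ 1 := hR z (Multiset.mem_cons_self z R)
    obtain ⟨h1, h2, h3⟩ := ih (fun w hw => hR w (Multiset.mem_cons_of_mem hw))
    obtain ⟨P, hP⟩ : ∃ P : K[X], P = (R.map (fun z => X - C z)).prod := ⟨_, rfl⟩
    obtain ⟨n, hn⟩ : ∃ n : ℕ, n = Multiset.card (R.filter (fun z => ‖z‖ < 1)) := ⟨_, rfl⟩
    rw [← hP] at h1 h2 h3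
    rw [← hn] at h2 h3
    have hprod : ((z ::ₘ R).map (fun z => X - C z)).prod = (X - C z) * P := by
      rw [Multiset.map_cons, Multiset.prod_cons, hP]
    have hc0 : ((X - C z) * P).coeff 0 = - (z * P.coeff 0) := by
      rw [sub_mul, coeff_sub, coeff_C_mul, mul_comm X P, coeff_mul_X_zero, zero_sub]
    have hcs : ∀ k, ((X - C z) * P).coeff (k + 1) = P.coeff k - z * P.coeff (k + 1) := by
      intro k
      rw [sub_mul, coeff_sub, coeff_C_mul, coeff_X_mul]
    have hall : ∀ k, ‖((X - C z) * P).coeff k‖ ≤ 1 := by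
      intro k
      rcases k with _ | k
      · rw [hc0, norm_neg, norm_mul]
        exact mul_le_one₀ hz (norm_nonneg _) (h1 0)
      · rw [hcs]
        apply norm_sub_le_one_of (h1 k)
        rw [norm_mul]
        exact mul_le_one₀ hz (norm_nonneg _) (h1 (k + 1))
    rw [hprod, Multiset.filter_cons]
    refine ⟨hall, ?_, ?_⟩
    · by_cases hzlt : ‖z‖ < 1
      · rw [if_pos hzlt, Multiset.card_add, Multiset.card_singleton, ← hn]
        intro k hk
        rcases k with _ | k
        · rw [hc0, norm_neg, norm_mul]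
          calc ‖z‖ * ‖P.coeff 0‖ ≤ ‖z‖ * 1 := mul_le_mul_of_nonneg_left (h1 0) (norm_nonneg _)
            _ < 1 := by rw [mul_one]; exact hzlt
        · rw [hcs]
          apply norm_sub_lt_one_of (h2 k (by omega))
          rw [norm_mul]
          calc ‖z‖ * ‖P.coeff (k + 1)‖ ≤ ‖z‖ * 1 :=
                mul_le_mul_of_nonneg_left (h1 _) (norm_nonneg _)
            _ < 1 := by rw [mul_one]; exact hzlt
      · have hz1 : ‖z‖ = 1 := le_antisymm hz (not_lt.mp hzlt)
        rw [if_neg hzlt, Multiset.card_add, Multiset.card_zero, zero_add, ← hn]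
        intro k hk
        rcases k with _ | k
        · rw [hc0, norm_neg, norm_mul, hz1, one_mul]
          exact h2 0 hk
        · rw [hcs]
          apply norm_sub_lt_one_of (h2 k (by omega))
          rw [norm_mul, hz1, one_mul]
          exact h2 (k + 1) hk
    · by_cases hzlt : ‖z‖ < 1
      · rw [if_pos hzlt, Multiset.card_add, Multiset.card_singleton, ← hn, add_comm, hcs]
        apply norm_sub_eq_one_left h3
        rw [norm_mul]
        calc ‖z‖ * ‖P.coeff (n + 1)‖ ≤ ‖z‖ * 1 :=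
              mul_le_mul_of_nonneg_left (h1 _) (norm_nonneg _)
          _ < 1 := by rw [mul_one]; exact hzlt
      · have hz1 : ‖z‖ = 1 := le_antisymm hz (not_lt.mp hzlt)
        rw [if_neg hzlt, Multiset.card_add, Multiset.card_zero, zero_add, ← hn]
        rcases n with _ | n
        · rw [hc0, norm_neg, norm_mul, hz1, one_mul]
          exact h3
        · rw [hcs]
          apply norm_sub_eq_one_right (h2 n (by omega))
          rw [norm_mul, hz1, one_mul]
          exact h3

end Ultra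

theorem norm_le_one_of_root (p : ℕ) [Fact p.Prime] (Q : ℤ[X]) (hQ : Q.Monic) (z : PadicAlgCl p)
    (hz : aeval z Q = 0) : ‖z‖ ≤ 1 := by
  by_contra hlt
  rw [not_le] at hlt
  have h1 := hQ.as_sum
  rw [h1, map_add, map_pow, aeval_X, map_sum] at hz
  have h2 : z ^ Q.natDegree = - ∑ i ∈ Finset.range Q.natDegree, aeval z (C (Q.coeff i) * X ^ i) :=
    eq_neg_of_add_eq_zero_left hz
  have h3 := congrArg norm h2
  rw [norm_pow, norm_neg] at h3
  rcases Nat.eq_zero_or_pos Q.natDegree with h0 | hpos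
  · rw [h0] at h3
    simp at h3
  · have h4 : ‖∑ i ∈ Finset.range Q.natDegree, aeval z (C (Q.coeff i) * X ^ i)‖ ≤
        ‖z‖ ^ (Q.natDegree - 1) := by
      apply IsUltrametricDist.norm_sum_le_of_forall_le_of_nonneg (by positivity)
      intro i hi
      rw [Finset.mem_range] at hi
      rw [map_mul, aeval_C, map_pow, aeval_X, norm_mul, norm_pow]
      have h5 : ‖(algebraMap ℤ (PadicAlgCl p)) (Q.coeff i)‖ ≤ 1 := by
        have : (algebraMap ℤ (PadicAlgCl p)) (Q.coeff i) = ((Q.coeff i : ℤ) : PadicAlgCl p) := by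
          simp
        rw [this]; exact norm_intCast_le_one p _
      calc ‖(algebraMap ℤ (PadicAlgCl p)) (Q.coeff i)‖ * ‖z‖ ^ i ≤ 1 * ‖z‖ ^ i :=
            mul_le_mul_of_nonneg_right h5 (by positivity)
        _ = ‖z‖ ^ i := one_mul _
        _ ≤ ‖z‖ ^ (Q.natDegree - 1) := pow_le_pow_right₀ hlt.le (by omega)
    rw [← h3] at h4
    have h6 : ‖z‖ ^ (Q.natDegree - 1) < ‖z‖ ^ Q.natDegree :=
      pow_lt_pow_right₀ hlt (by omega)
    exact absurd h4 (not_le.mpr h6)

/-- the single polynomial case -/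
theorem single (p : ℕ) [Fact p.Prime] (Q : ℤ[X]) (hQ : Q.Monic) (d : ℕ) (hd : Q.natDegree = 2 * d)
    (hsym : ∀ k < d, (p : ℤ) ∣ Q.coeff k) :
    2 * Multiset.card ((Q.aroots (PadicAlgCl p)).filter (fun z => ‖z‖ = 1)) = Q.natDegree ↔
      ¬ ((p : ℤ) ∣ Q.coeff d) := by
  obtain ⟨R, hRdef⟩ : ∃ R : Multiset (PadicAlgCl p), R = Q.aroots (PadicAlgCl p) := ⟨_, rfl⟩
  rw [← hRdef]
  have hsplit : (Q.map (algebraMap ℤ (PadicAlgCl p))).Splits := IsAlgClosed.splits _
  have hcard : Multiset.card R = 2 * d := by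
    rw [hRdef, aroots, ← hsplit.natDegree_eq_card_roots, hQ.natDegree_map, hd]
  have hfac : Q.map (algebraMap ℤ (PadicAlgCl p)) = (R.map (fun z => X - C z)).prod := by
    rw [hRdef, aroots]
    exact hsplit.eq_prod_roots_of_monic (hQ.map _)
  have hR : ∀ z ∈ R, ‖z‖ ≤ 1 := by
    intro z hz
    rw [hRdef, mem_aroots] at hz
    exact norm_le_one_of_root p Q hQ z hz.2
  obtain ⟨h1, h2, h3⟩ := newton R hR
  rw [← hfac] at h1 h2 h3
  obtain ⟨n, hn⟩ : ∃ n : ℕ, n = Multiset.card (R.filter (fun z => ‖z‖ < 1)) := ⟨_, rfl⟩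
  rw [← hn] at h2 h3
  have hcoef : ∀ k, (Q.map (algebraMap ℤ (PadicAlgCl p))).coeff k = ((Q.coeff k : ℤ) : PadicAlgCl p) := by
    intro k; rw [coeff_map]; simp
  have hsplitR : Multiset.card (R.filter (fun z => ‖z‖ = 1)) + n = 2 * d := by
    rw [hn, ← hcard, ← Multiset.card_add]
    congr 1
    have := Multiset.filter_add_not (fun z : PadicAlgCl p => ‖z‖ = 1) R
    conv_rhs => rw [← this]
    congr 1
    apply Multiset.filter_congr
    intro z hz
    constructor
    · intro h; exact ne_of_lt h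
    · intro h; exact lt_of_le_of_ne (hR z hz) h
  have hnd : d ≤ n := by
    by_contra hlt
    rw [not_le] at hlt
    have h4 := hsym n hlt
    rw [← norm_intCast_lt_one_iff, ← hcoef, h3] at h4
    exact lt_irrefl _ h4
  rw [hd]
  constructor
  · intro h
    have hnd' : n = d := by omega
    rw [← norm_intCast_eq_one_iff, ← hcoef, ← hnd']
    exact h3
  · intro h
    rw [← norm_intCast_eq_one_iff, ← hcoef] at h
    have : ¬ d < n := by
      intro hlt
      have := h2 d hlt
      rw [h] at this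
      exact lt_irrefl _ this
    omega

end Helpers

/-- Let p be a prime, e ≥ 1 and q = p^e, and let (π_i) be a finite family of nonreal Weil q-numbers: π_i
lies in a field K_i of characteristic zero, is integral over ℤ with minimal polynomial P_i, every
complex root of P_i has absolute value √q, and no complex root of P_i is real; in particular deg P_i
= 2d_i is even. Call π_i ordinary when exactly half of the roots of P_i in an algebraic closure of
ℚ_p, counted with multiplicity, are p-adic units (have absolute value 1). Then all π_i are ordinary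
if and only if p does not divide ∏_i a_{d_i}, the product of the middle coefficients of the P_i
(this product is the value at F = V = 0 of the symmetric polynomial h_w of the family). -/
theorem result (p e : ℕ) [Fact p.Prime] (he : 0 < e)
    (ι : Type) [Fintype ι] (K : ι → Type u) [∀ i, Field (K i)] [∀ i, CharZero (K i)] (π : ∀ i, K i)
    (hint : ∀ i, IsIntegral ℤ (π i))
    (hweil : ∀ i, ∀ z ∈ (minpoly ℤ (π i)).aroots ℂ, ‖z‖ = Real.sqrt ((p : ℝ) ^ e))
    (hnr : ∀ i, ∀ z ∈ (minpoly ℤ (π i)).aroots ℂ, z.im ≠ 0) :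
    (∀ i, 2 * Multiset.card (((minpoly ℤ (π i)).aroots (PadicAlgCl p)).filter (fun z => ‖z‖ = 1)) = (minpoly ℤ (π i)).natDegree) ↔
      ¬ ((p : ℤ) ∣ ∏ i, (minpoly ℤ (π i)).coeff ((minpoly ℤ (π i)).natDegree / 2)) := by

  have hp : p.Prime := Fact.out
  have hpZ : Prime (p : ℤ) := Nat.prime_iff_prime_int.mp hp
  rw [Prime.dvd_finsetProd_iff hpZ]
  push Not
  have key : ∀ i, (2 * Multiset.card (((minpoly ℤ (π i)).aroots (PadicAlgCl p)).filter (fun z => ‖z‖ = 1)) = (minpoly ℤ (π i)).natDegree) ↔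
      ¬ ((p : ℤ) ∣ (minpoly ℤ (π i)).coeff ((minpoly ℤ (π i)).natDegree / 2)) := by
    intro i
    obtain ⟨heven, hsymm⟩ := Groth.Agent.Lib.Helper26.WeilSym.main p e he (K i) (π i) (hint i)
      (hweil i) (hnr i)
    obtain ⟨d, hd⟩ := heven
    have hd2 : (minpoly ℤ (π i)).natDegree / 2 = d := by omega
    rw [hd2] at hsymm ⊢
    apply single p (minpoly ℤ (π i)) (minpoly.monic (hint i)) d (by omega)
    intro k hk
    have h1 := hsymm (d - k) (by omega)
    have e1 : d - (d - k) = k := by omega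
    rw [e1] at h1
    rw [h1]
    apply Dvd.dvd.mul_right
    apply dvd_pow_self
    have : 0 < e * (d - k) := Nat.mul_pos he (by omega)
    omega
  constructor
  · intro h i _
    exact (key i).mp (h i)
  · intro h i
    exact (key i).mpr (h i (Finset.mem_univ i))

end Groth.Agent.S17987
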