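import Groth.Statements.S17985
import Mathlib
import Groth.Agent.Lib.Helper20.WeilOrd
import Groth.Agent.Lib.Helper16.GorBC2
import Groth.Agent.Lib.Helper12.IntegralDim

set_option autoImplicit false
universe u
open MvPolynomial
open WeilNum

namespace Groth.Agent.S17985



section Helpers
open scoped Polynomial
open Groth.Agent.Lib.Helper20.WeilOrd

variable (p e : ℕ) [Fact p.Prime] (ι : Type) [Fintype ι] (K : ι → Type u) [∀ i, Field (K i)]
  [∀ i, CharZero (K i)] (π : ∀ i, K i)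

noncomputable abbrev phi : MvPolynomial (Fin 2) ℤ →ₐ[ℤ] ((i : ι) → K i) :=
  MvPolynomial.aeval ![fun i => π i, fun i => ((p : K i) ^ e) / π i]

theorem phi_X0 : phi p e ι K π (X 0) = fun i => π i := by simp [phi]
theorem phi_X1 : phi p e ι K π (X 1) = fun i => ((p : K i) ^ e) / π i := by simp [phi]

theorem aeval_pi (x : (i : ι) → K i) (u : ℤ[X]) :
    Polynomial.aeval x u = fun i => Polynomial.aeval (x i) u := by
  funext i
  exact (Polynomial.aeval_algHom_apply (Pi.evalAlgHom ℤ K i) x u).symm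

theorem aeval_F_prod :
    Polynomial.aeval (fun i => π i : (i : ι) → K i) (∏ j, minpoly ℤ (π j)) = 0 := by
  rw [aeval_pi]; funext i; exact aeval_pi_prod ι K π i

theorem finite_range (he : 0 < e) (hint : ∀ i, IsIntegral ℤ (π i))
    (hweil : ∀ i, ∀ z ∈ (minpoly ℤ (π i)).aroots ℂ, ‖z‖ = Real.sqrt ((p : ℝ) ^ e))
    (ε : ℤ) (hε : ε * ε = 1) (D : ℕ)
    (h0 : (∏ i, minpoly ℤ (π i)).coeff 0 = ε * ((p : ℤ) ^ e) ^ D) :
    Module.Finite ℤ (phi p e ι K π).range := by
  have hP_F := aeval_F_prod ι K π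
  have hP_V : Polynomial.aeval (fun i => ((p : K i) ^ e) / π i : (i : ι) → K i)
      (∏ j, minpoly ℤ (π j)) = 0 := by
    rw [aeval_pi]; funext i; exact aeval_V_prod p e ι K π he hint hweil ε hε D h0 i
  have hmonic := prod_monic ι K π hint
  have hrange : (phi p e ι K π).range = Algebra.adjoin ℤ
      (Set.range ![(fun i => π i : (i : ι) → K i), fun i => ((p : K i) ^ e) / π i]) :=
    (Algebra.adjoin_range_eq_range_aeval ℤ _).symm
  have hfg : (Algebra.adjoin ℤ (Set.range ![(fun i => π i : (i : ι) → K i),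
      fun i => ((p : K i) ^ e) / π i])).toSubmodule.FG := by
    apply fg_adjoin_of_finite (Set.finite_range _)
    rintro x ⟨k, rfl⟩
    fin_cases k
    · exact ⟨_, hmonic, hP_F⟩
    · exact ⟨_, hmonic, hP_V⟩
  rw [hrange]
  exact Module.Finite.iff_fg.mpr hfg

theorem le_finrank (hint : ∀ i, IsIntegral ℤ (π i))
    (hinj : ∀ i j, minpoly ℤ (π i) = minpoly ℤ (π j) → i = j)
    (D : ℕ) (hD : ∑ i, (minpoly ℤ (π i)).natDegree = 2 * D)
    [Module.Finite ℤ (phi p e ι K π).range] :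
    2 * D ≤ Module.finrank ℤ (phi p e ι K π).range := by
  have hmonic := prod_monic ι K π hint
  have hdeg := prod_natDegree ι K π hint D hD
  obtain ⟨Fw, hFw⟩ : ∃ Fw : (phi p e ι K π).range, (Fw : (i : ι) → K i) = fun i => π i :=
    ⟨⟨phi p e ι K π (X 0), AlgHom.mem_range_self _ _⟩, phi_X0 p e ι K π⟩
  have hli : LinearIndependent ℤ (fun k : Fin (2 * D) => Fw ^ (k : ℕ)) := by
    apply LinearIndependent.of_comp (phi p e ι K π).range.val.toLinearMap
    rw [Fintype.linearIndependent_iff]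
    intro g hg k
    obtain ⟨u, hu⟩ : ∃ u : ℤ[X],
        u = ∑ i : Fin (2 * D), Polynomial.C (g i) * Polynomial.X ^ (i : ℕ) := ⟨_, rfl⟩
    have hu_aeval : Polynomial.aeval (fun i => π i : (i : ι) → K i) u = 0 := by
      rw [hu, map_sum, ← hg]
      apply Finset.sum_congr rfl
      intro i _
      rw [map_mul, Polynomial.aeval_C, map_pow, Polynomial.aeval_X, Algebra.smul_def]
      simp only [Function.comp_apply, AlgHom.toLinearMap_apply, map_pow]
      rw [← hFw]
      rfl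
    have hdvd : ∏ i, minpoly ℤ (π i) ∣ u := by
      apply Groth.Agent.S17984.prod_minpoly_dvd ι K π hint hinj u
      intro i
      have := congrFun hu_aeval i
      rw [aeval_pi] at this
      exact this
    have hu0 : u = 0 := by
      apply Polynomial.eq_zero_of_dvd_of_degree_lt hdvd
      rw [hu, Polynomial.degree_eq_natDegree hmonic.ne_zero, hdeg]
      exact Polynomial.degree_sum_fin_lt g
    have h1 : u.coeff (k : ℕ) = g k := by
      rw [hu, Polynomial.finset_sum_coeff, Finset.sum_eq_single k]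
      · rw [Polynomial.coeff_C_mul_X_pow, if_pos rfl]
      · intro j _ hjk
        rw [Polynomial.coeff_C_mul_X_pow, if_neg]
        intro h2
        exact hjk (Fin.ext h2.symm)
      · intro h2; exact absurd (Finset.mem_univ k) h2
    rw [← h1, hu0, Polynomial.coeff_zero]
  have := hli.fintype_card_le_finrank
  simpa using this

theorem exists_pow_smul_mem (he : 0 < e) (hint : ∀ i, IsIntegral ℤ (π i))
    (ε : ℤ) (hε : ε * ε = 1) (D : ℕ)
    (h0 : (∏ i, minpoly ℤ (π i)).coeff 0 = ε * ((p : ℤ) ^ e) ^ D)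
    (b : MvPolynomial (Fin 2) ℤ) :
    ∃ M : ℕ, (((p : ℤ) ^ e) ^ M) • (phi p e ι K π b) ∈
      (Polynomial.aeval (fun i => π i : (i : ι) → K i) : ℤ[X] →ₐ[ℤ] ((i : ι) → K i)).range := by
  obtain ⟨R0, hR0⟩ : ∃ R0 : Subalgebra ℤ ((i : ι) → K i), R0 =
      (Polynomial.aeval (fun i => π i : (i : ι) → K i) : ℤ[X] →ₐ[ℤ] ((i : ι) → K i)).range :=
    ⟨_, rfl⟩
  rw [← hR0]
  have hπ0 := pi_ne_zero p e ι K π he hint ε hε D h0
  obtain ⟨P, hPdef⟩ : ∃ P : ℤ[X], P = ∏ i, minpoly ℤ (π i) := ⟨_, rfl⟩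
  rw [← hPdef] at h0
  have hF : (fun i => π i : (i : ι) → K i) ∈ R0 := by
    rw [hR0]; exact ⟨Polynomial.X, by simp⟩
  -- q^D • V ∈ R0
  have hV : (((p : ℤ) ^ e) ^ D) • (fun i => ((p : K i) ^ e) / π i : (i : ι) → K i) ∈ R0 := by
    rw [hR0]
    refine ⟨Polynomial.C (-ε * (p : ℤ) ^ e) * P.divX, ?_⟩
    show Polynomial.aeval (fun i => π i : (i : ι) → K i) (Polynomial.C (-ε * (p : ℤ) ^ e) * P.divX) = _
    rw [aeval_pi]
    funext i
    have hdiv : P.divX * Polynomial.X + Polynomial.C (P.coeff 0) = P := Polynomial.divX_mul_X_add P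
    have h1 : Polynomial.aeval (π i) P = 0 := by rw [hPdef]; exact aeval_pi_prod ι K π i
    rw [← hdiv, map_add, map_mul, Polynomial.aeval_X, Polynomial.aeval_C, h0] at h1
    have h2 : Polynomial.aeval (π i) P.divX * π i = - ((ε : K i) * (((p : K i) ^ e) ^ D)) := by
      have : (algebraMap ℤ (K i)) (ε * ((p : ℤ) ^ e) ^ D) = (ε : K i) * (((p : K i) ^ e) ^ D) := by
        simp
      rw [this] at h1
      linear_combination h1
    have hεK : (ε : K i) * (ε : K i) = 1 := by exact_mod_cast congrArg (Int.cast : ℤ → K i) hε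
    rw [map_mul, Polynomial.aeval_C]
    simp only [Pi.smul_apply, zsmul_eq_mul]
    have : (algebraMap ℤ (K i)) (-ε * (p : ℤ) ^ e) = -(ε : K i) * ((p : K i) ^ e) := by simp
    rw [this]
    have hπi := hπ0 i
    field_simp
    push_cast
    linear_combination (-(ε : K i) * ((p : K i) ^ e)) * h2 + ((p : K i) ^ e) ^ D * ((p : K i) ^ e) * hεK
  induction b using MvPolynomial.induction_on with
  | C a =>
    refine ⟨0, ?_⟩
    rw [pow_zero, one_smul, MvPolynomial.algHom_C]
    exact R0.algebraMap_mem a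
  | add b1 b2 h1 h2 =>
    obtain ⟨M1, hM1⟩ := h1
    obtain ⟨M2, hM2⟩ := h2
    refine ⟨M1 + M2, ?_⟩
    rw [map_add, smul_add]
    apply R0.add_mem
    · rw [pow_add, mul_comm, mul_smul]
      exact R0.smul_mem hM1 _
    · rw [pow_add, mul_smul]
      exact R0.smul_mem hM2 _
  | mul_X b i hb =>
    obtain ⟨M, hM⟩ := hb
    fin_cases i
    · refine ⟨M, ?_⟩
      rw [map_mul]
      show ((p : ℤ) ^ e) ^ M • (phi p e ι K π b * phi p e ι K π (X 0)) ∈ R0
      rw [phi_X0, ← smul_mul_assoc]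
      exact R0.mul_mem hM hF
    · refine ⟨M + D, ?_⟩
      rw [map_mul]
      show ((p : ℤ) ^ e) ^ (M + D) • (phi p e ι K π b * phi p e ι K π (X 1)) ∈ R0
      rw [phi_X1, pow_add, mul_smul, ← smul_mul_assoc]
      have : ((p : ℤ) ^ e) ^ M • (((p : ℤ) ^ e) ^ D • phi p e ι K π b *
          fun i => ((p : K i) ^ e) / π i) =
          (((p : ℤ) ^ e) ^ M • phi p e ι K π b) *
          (((p : ℤ) ^ e) ^ D • fun i => ((p : K i) ^ e) / π i) := by
        rw [smul_mul_assoc, smul_mul_assoc, mul_smul_comm, smul_comm]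
      rw [this]
      exact R0.mul_mem hM hV

theorem finrank_le (he : 0 < e) (hint : ∀ i, IsIntegral ℤ (π i))
    (ε : ℤ) (hε : ε * ε = 1) (D : ℕ)
    (hD : ∑ i, (minpoly ℤ (π i)).natDegree = 2 * D)
    (h0 : (∏ i, minpoly ℤ (π i)).coeff 0 = ε * ((p : ℤ) ^ e) ^ D)
    [Module.Finite ℤ (phi p e ι K π).range] :
    Module.finrank ℤ (phi p e ι K π).range ≤ 2 * D := by
  have hp : p.Prime := Fact.out
  have hmonic := prod_monic ι K π hint
  have hdeg := prod_natDegree ι K π hint D hD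
  obtain ⟨P, hPdef⟩ : ∃ P : ℤ[X], P = ∏ i, minpoly ℤ (π i) := ⟨_, rfl⟩
  rw [← hPdef] at hmonic hdeg
  obtain ⟨Fv, hFv⟩ : ∃ Fv : (i : ι) → K i, Fv = fun i => π i := ⟨_, rfl⟩
  have hPF : Polynomial.aeval Fv P = 0 := by rw [hFv, hPdef]; exact aeval_F_prod ι K π
  obtain ⟨N, hN⟩ : ∃ N : Submodule ℤ ((i : ι) → K i),
      N = Submodule.span ℤ (Set.range (fun k : Fin (2 * D) => Fv ^ (k : ℕ))) := ⟨_, rfl⟩
  have hR0N : ∀ x ∈ (Polynomial.aeval Fv : ℤ[X] →ₐ[ℤ] ((i : ι) → K i)).range, x ∈ N := by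
    rintro x ⟨u, rfl⟩
    have h1 : u %ₘ P + P * (u /ₘ P) = u := Polynomial.modByMonic_add_div u P
    have h2 : Polynomial.aeval Fv u = Polynomial.aeval Fv (u %ₘ P) := by
      conv_lhs => rw [← h1]
      rw [map_add, map_mul, hPF, zero_mul, add_zero]
    show Polynomial.aeval Fv u ∈ N
    rw [h2]
    have hlt : (u %ₘ P).natDegree < 2 * D ∨ u %ₘ P = 0 := by
      by_cases h3 : u %ₘ P = 0
      · exact Or.inr h3
      · left
        have := Polynomial.degree_modByMonic_lt u hmonic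
        rw [← hdeg]
        exact Polynomial.natDegree_lt_natDegree h3 this
    rcases hlt with hlt | hz
    · rw [Polynomial.as_sum_range' (u %ₘ P) (2 * D) hlt, map_sum]
      apply Submodule.sum_mem
      intro k hk
      rw [Finset.mem_range] at hk
      rw [← Polynomial.C_mul_X_pow_eq_monomial, map_mul, Polynomial.aeval_C, map_pow,
        Polynomial.aeval_X, ← Algebra.smul_def, hN]
      exact Submodule.smul_mem _ _ (Submodule.subset_span ⟨⟨k, hk⟩, rfl⟩)
    · rw [hz, map_zero]; exact N.zero_mem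
  -- generators
  obtain ⟨n, s, hs⟩ := Module.Finite.exists_fin (R := ℤ) (M := (phi p e ι K π).range)
  have hMj : ∀ j : Fin n, ∃ M : ℕ, (((p : ℤ) ^ e) ^ M) • ((s j : (phi p e ι K π).range) :
      (i : ι) → K i) ∈ (Polynomial.aeval Fv : ℤ[X] →ₐ[ℤ] ((i : ι) → K i)).range := by
    intro j
    obtain ⟨b, hb⟩ := (s j).2
    rw [← hb, hFv]
    exact exists_pow_smul_mem p e ι K π he hint ε hε D h0 b
  obtain ⟨Mj, hMj'⟩ : ∃ Mj : Fin n → ℕ, ∀ j, (((p : ℤ) ^ e) ^ (Mj j)) •
      ((s j : (phi p e ι K π).range) : (i : ι) → K i) ∈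
      (Polynomial.aeval Fv : ℤ[X] →ₐ[ℤ] ((i : ι) → K i)).range :=
    ⟨fun j => (hMj j).choose, fun j => (hMj j).choose_spec⟩
  obtain ⟨M, hMdef⟩ : ∃ M : ℕ, M = ∑ j, Mj j := ⟨_, rfl⟩
  have hall : ∀ x : (phi p e ι K π).range, (((p : ℤ) ^ e) ^ M) • (x : (i : ι) → K i) ∈ N := by
    intro x
    have hx : x ∈ Submodule.span ℤ (Set.range s) := by rw [hs]; exact Submodule.mem_top
    induction hx using Submodule.span_induction with
    | mem y hy =>
      obtain ⟨j, rfl⟩ := hy
      apply hR0N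
      have hle : Mj j ≤ M := by
        rw [hMdef]; exact Finset.single_le_sum (fun _ _ => Nat.zero_le _) (Finset.mem_univ j)
      obtain ⟨c, hc⟩ := Nat.exists_eq_add_of_le hle
      rw [hc, pow_add, mul_comm, mul_smul]
      exact Subalgebra.smul_mem _ (hMj' j) _
    | zero => simp
    | add y z _ _ hy hz =>
      rw [Subalgebra.coe_add, smul_add]; exact N.add_mem hy hz
    | smul a y _ hy =>
      rw [Subalgebra.coe_smul, smul_comm]; exact N.smul_mem a hy
  obtain ⟨L, hL⟩ : ∃ L : (phi p e ι K π).range →ₗ[ℤ] N,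
      ∀ x, ((L x : N) : (i : ι) → K i) = (((p : ℤ) ^ e) ^ M) • (x : (i : ι) → K i) :=
    ⟨LinearMap.codRestrict N ((((p : ℤ) ^ e) ^ M) • (phi p e ι K π).range.val.toLinearMap) hall,
      fun x => rfl⟩
  have hLinj : Function.Injective L := by
    rw [← LinearMap.ker_eq_bot, LinearMap.ker_eq_bot']
    intro x hx
    have h1 := hL x
    rw [hx] at h1
    have h2 : (((p : ℤ) ^ e) ^ M) • (x : (i : ι) → K i) = 0 := by rw [← h1]; rfl
    have hq0 : (((p : ℤ) ^ e) ^ M) ≠ 0 := pow_ne_zero _ (pow_ne_zero _ (by exact_mod_cast hp.ne_zero))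
    rcases smul_eq_zero.mp h2 with h3 | h3
    · exact absurd h3 hq0
    · exact Subtype.ext h3
  haveI : Module.Finite ℤ N := by
    rw [hN]; exact Module.Finite.span_of_finite ℤ (Set.finite_range _)
  have h1 := LinearMap.finrank_le_finrank_of_injective hLinj
  have h2 : Module.finrank ℤ N ≤ 2 * D := by
    rw [hN]
    have := finrank_range_le_card (R := ℤ) (fun k : Fin (2 * D) => Fv ^ (k : ℕ))
    simpa [Set.finrank] using this
  exact h1.trans h2

theorem krull (he : 0 < e) [Nonempty ι] [Module.Finite ℤ (phi p e ι K π).range] :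
    ringKrullDim (phi p e ι K π).range = 1 := by
  haveI : Algebra.IsIntegral ℤ (phi p e ι K π).range := Algebra.IsIntegral.of_finite ℤ _
  have hinj : Function.Injective (algebraMap ℤ (phi p e ι K π).range) := by
    rw [injective_iff_map_eq_zero]
    intro n hn
    have h1 : algebraMap ℤ ((i : ι) → K i) n = 0 := congrArg Subtype.val hn
    obtain ⟨i⟩ := (inferInstance : Nonempty ι)
    have h2 := congrFun h1 i
    simpa using h2
  rw [← Groth.Agent.Lib.Helper12.ringKrullDim_eq_of_isIntegral_of_injective ℤ _ hinj]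
  exact IsPrincipalIdealRing.ringKrullDim_eq_one ℤ Int.not_isField

theorem gor_step (B : Type u) [CommRing B] (hB : LocCoh.IsGorensteinRing B) (x : B)
    (hx : x ∈ nonZeroDivisors B) :
    ∃ (B' : Type u) (_ : CommRing B') (m : B →+* B'), Function.Surjective m ∧
      (∀ y, m y = 0 ↔ y ∈ Ideal.span {x}) ∧ LocCoh.IsGorensteinRing B' :=
  ⟨B ⧸ Ideal.span {x}, inferInstance, Ideal.Quotient.mk _, Ideal.Quotient.mk_surjective,
    fun _ => Ideal.Quotient.eq_zero_iff_mem,
    Groth.Agent.Lib.Helper16.GorBC.gorRing_quot B hB x hx _ rfl⟩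

theorem gor (hker_data : ∃ h : MvPolynomial (Fin 2) ℤ,
      RingHom.ker (phi p e ι K π) = Ideal.span {X 0 * X 1 - C ((p : ℤ) ^ e), h} ∧
      (∀ b : MvPolynomial (Fin 2) ℤ,
        h * b ∈ Ideal.span ({X 0 * X 1 - C ((p : ℤ) ^ e)} : Set (MvPolynomial (Fin 2) ℤ)) →
        b ∈ Ideal.span ({X 0 * X 1 - C ((p : ℤ) ^ e)} : Set (MvPolynomial (Fin 2) ℤ)))) :
    LocCoh.IsGorensteinRing (phi p e ι K π).range := by
  have hp : p.Prime := Fact.out
  obtain ⟨h, hker, hreg⟩ := hker_data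
  obtain ⟨a, ha⟩ : ∃ a : MvPolynomial (Fin 2) ℤ, a = X 0 * X 1 - C ((p : ℤ) ^ e) := ⟨_, rfl⟩
  rw [← ha] at hker hreg
  have ha0 : a ≠ 0 := by
    have hr : a = Groth.Agent.S17984.rr (p ^ e) := by
      rw [ha, Groth.Agent.S17984.rr]; push_cast; rfl
    rw [hr]
    exact Groth.Agent.S17984.rr_ne_zero _ (pow_pos hp.pos e).ne'
  -- lift to universe u
  let eZ : ℤ ≃+* ULift.{u} ℤ := ULift.ringEquiv.symm
  haveI : IsRegularRing (ULift.{u} ℤ) := IsRegularRing.of_ringEquiv eZ
  haveI : IsRegularRing (MvPolynomial (Fin 2) (ULift.{u} ℤ)) := inferInstance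
  have hPuG : LocCoh.IsGorensteinRing (MvPolynomial (Fin 2) (ULift.{u} ℤ)) :=
    Groth.Agent.Lib.Helper16.GorBC.gorRing_of_isRegularRing _
  obtain ⟨eP, -⟩ : ∃ eP : MvPolynomial (Fin 2) ℤ ≃+* MvPolynomial (Fin 2) (ULift.{u} ℤ), True :=
    ⟨MvPolynomial.mapEquiv (Fin 2) eZ, trivial⟩
  haveI : IsDomain (MvPolynomial (Fin 2) (ULift.{u} ℤ)) :=
    Function.Injective.isDomain eP.symm.toRingHom eP.symm.injective
  have hau : eP a ∈ nonZeroDivisors (MvPolynomial (Fin 2) (ULift.{u} ℤ)) :=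
    mem_nonZeroDivisors_of_ne_zero (by
      intro h1; exact ha0 (by simpa using h1))
  obtain ⟨B1, _, m1, hm1s, hm1k, hB1⟩ := gor_step _ hPuG (eP a) hau
  have hmemI1 : ∀ y : MvPolynomial (Fin 2) (ULift.{u} ℤ), m1 y = 0 ↔ eP.symm y ∈ Ideal.span {a} := by
    intro y
    rw [hm1k, Ideal.mem_span_singleton', Ideal.mem_span_singleton']
    constructor
    · rintro ⟨c, hc⟩
      exact ⟨eP.symm c, by rw [← hc, map_mul, RingEquiv.symm_apply_apply]⟩
    · rintro ⟨c, hc⟩
      refine ⟨eP c, ?_⟩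
      rw [← map_mul, hc, RingEquiv.apply_symm_apply]
  have hhbar : m1 (eP h) ∈ nonZeroDivisors B1 := by
    rw [mem_nonZeroDivisors_iff_right]
    intro y hy
    obtain ⟨y', rfl⟩ := hm1s y
    rw [← map_mul, hmemI1, map_mul, RingEquiv.symm_apply_apply, mul_comm] at hy
    rw [hmemI1]
    exact hreg _ hy
  obtain ⟨B2, _, m2, hm2s, hm2k, hB2⟩ := gor_step B1 hB1 (m1 (eP h)) hhbar
  -- the ring equivalence
  obtain ⟨g, hg⟩ : ∃ g : MvPolynomial (Fin 2) (ULift.{u} ℤ) →+* (phi p e ι K π).range,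
      ∀ x, g x = (phi p e ι K π).rangeRestrict (eP.symm x) :=
    ⟨(phi p e ι K π).rangeRestrict.toRingHom.comp eP.symm.toRingHom, fun x => rfl⟩
  have hg0 : ∀ x, g x = 0 ↔ eP.symm x ∈ Ideal.span {a, h} := by
    intro x
    rw [hg, ← hker, RingHom.mem_ker]
    constructor
    · intro h1; exact congrArg Subtype.val h1
    · intro h1; exact Subtype.ext h1
  have hm21 : ∀ x, m2 (m1 x) = 0 ↔ eP.symm x ∈ Ideal.span {a, h} := by
    intro x
    rw [hm2k, Ideal.mem_span_singleton', Ideal.mem_span_pair]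
    constructor
    · rintro ⟨c, hc⟩
      obtain ⟨c', rfl⟩ := hm1s c
      rw [← map_mul, ← sub_eq_zero, ← map_sub, hmemI1, Ideal.mem_span_singleton'] at hc
      obtain ⟨d, hd⟩ := hc
      rw [map_sub, map_mul, RingEquiv.symm_apply_apply] at hd
      exact ⟨-d, eP.symm c', by linear_combination -hd⟩
    · rintro ⟨c1, c2, hc⟩
      refine ⟨m1 (eP c2), ?_⟩
      rw [← map_mul, ← sub_eq_zero, ← map_sub, hmemI1, Ideal.mem_span_singleton']
      refine ⟨-c1, ?_⟩
      rw [map_sub, map_mul, RingEquiv.symm_apply_apply, RingEquiv.symm_apply_apply, ← hc]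
      ring
  have hsurj : Function.Surjective (m2.comp m1) := hm2s.comp hm1s
  have hkerle : RingHom.ker (m2.comp m1) ≤ RingHom.ker g := by
    intro x hx
    rw [RingHom.mem_ker] at hx ⊢
    rw [hg0]
    exact (hm21 x).mp hx
  obtain ⟨g2, hg2⟩ : ∃ g2 : B2 →+* (phi p e ι K π).range, ∀ x, g2 (m2 (m1 x)) = g x :=
    ⟨RingHom.liftOfSurjective (m2.comp m1) hsurj ⟨g, hkerle⟩,
      fun x => RingHom.liftOfSurjective_comp_apply (m2.comp m1) hsurj ⟨g, hkerle⟩ x⟩
  have hbij : Function.Bijective g2 := by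
    constructor
    · rw [injective_iff_map_eq_zero]
      intro z hz
      obtain ⟨x, rfl⟩ := hsurj z
      show m2 (m1 x) = 0
      rw [hm21, ← hg0, ← hg2]
      exact hz
    · intro y
      obtain ⟨b, hb⟩ := (phi p e ι K π).rangeRestrict_surjective y
      refine ⟨m2 (m1 (eP b)), ?_⟩
      rw [hg2, hg, RingEquiv.symm_apply_apply, hb]
  exact Groth.Agent.Lib.Helper16.GorBC.gorRing_of_ringEquiv (RingEquiv.ofBijective g2 hbij) hB2

end Helpers

/-- Let p be a prime, e ≥ 1 and q = p^e. Let (π_i) be a nonempty finite family of pairwise nonconjugate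
Weil q-numbers: π_i is an element of a field K_i of characteristic zero, integral over ℤ with
minimal polynomial P_i, every complex root of P_i has absolute value √q, and P_i ≠ P_j for i ≠ j.
Suppose the total degree Σ_i deg P_i is even, equal to 2D. Let R_w be the minimal central order, the
image of ℤ[F, V] → ∏_i K_i, F ↦ (π_i), V ↦ (q/π_i). Then R_w is free of rank 2D as a ℤ-module, has
Krull dimension 1, and is a Gorenstein ring (Noetherian, with all localizations at primes of finite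
injective dimension over themselves). -/
theorem result (p e : ℕ) [Fact p.Prime] (he : 0 < e)
    (ι : Type) [Fintype ι] (K : ι → Type u) [∀ i, Field (K i)] [∀ i, CharZero (K i)] (π : ∀ i, K i)
    (hint : ∀ i, IsIntegral ℤ (π i))
    (hweil : ∀ i, ∀ z ∈ (minpoly ℤ (π i)).aroots ℂ, ‖z‖ = Real.sqrt ((p : ℝ) ^ e))
    (hinj : ∀ i j, minpoly ℤ (π i) = minpoly ℤ (π j) → i = j)
    [Nonempty ι] (D : ℕ) (hD : ∑ i, (minpoly ℤ (π i)).natDegree = 2 * D) :
    Module.Free ℤ (MvPolynomial.aeval ![fun i => π i, fun i => ((p : K i) ^ e) / π i] :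
        MvPolynomial (Fin 2) ℤ →ₐ[ℤ] ((i : ι) → K i)).range ∧
      Module.finrank ℤ (MvPolynomial.aeval ![fun i => π i, fun i => ((p : K i) ^ e) / π i] :
        MvPolynomial (Fin 2) ℤ →ₐ[ℤ] ((i : ι) → K i)).range = 2 * D ∧
      ringKrullDim (MvPolynomial.aeval ![fun i => π i, fun i => ((p : K i) ^ e) / π i] :
        MvPolynomial (Fin 2) ℤ →ₐ[ℤ] ((i : ι) → K i)).range = 1 ∧
      LocCoh.IsGorensteinRing (MvPolynomial.aeval ![fun i => π i, fun i => ((p : K i) ^ e) / π i] :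
        MvPolynomial (Fin 2) ℤ →ₐ[ℤ] ((i : ι) → K i)).range := by

  obtain ⟨ε, h, hε, h0, hh, hker, hreg⟩ :=
    Groth.Agent.Lib.Helper20.WeilOrd.data p e ι K π he hint hweil hinj D hD
  haveI hfin := finite_range p e ι K π he hint hweil ε hε D h0
  have hle := le_finrank p e ι K π hint hinj D hD
  have hge := finrank_le p e ι K π he hint ε hε D hD h0
  refine ⟨?_, le_antisymm hge hle, krull p e ι K π he, gor p e ι K π ⟨h, hker, hreg⟩⟩
  exact Module.free_of_finite_type_torsion_free'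

end Groth.Agent.S17985
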