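import Groth.Statements.S13055
import Groth.Agent.Lib27.ZetaFormal

set_option autoImplicit false
universe u
open CategoryTheory AlgebraicGeometry
open Zeta

namespace Groth.Agent.S13055

/-- Let X be a scheme of finite type over a finite field k with q elements and P = a_d y^d + ⋯ + a_0 ∈
ℤ[y] with N_m = P(q^m) for every m ≥ 1 (X is of polynomial count). Then Z(X, t) = ∏_{i = 0}^{d} (1 −
q^i t)^{−a_i}; stated cleared of denominators, with the factors of positive exponent moved to the
left. -/
theorem result {k : Type u} [Field k] [Finite k] {X : Scheme.{u}}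
    (f : X ⟶ Spec (CommRingCat.of k)) [LocallyOfFiniteType f] [QuasiCompact f] (P : Polynomial ℤ)
    (hP : ∀ m : ℕ, 1 ≤ m → (Zeta.nPts f m : ℤ) = P.eval ((Nat.card k : ℤ) ^ m)) :
    Zeta.zetaFun f * ∏ i ∈ Finset.range (P.natDegree + 1),
        (1 - PowerSeries.C ((Nat.card k : ℚ) ^ i) * PowerSeries.X) ^ (P.coeff i).toNat =
      ∏ i ∈ Finset.range (P.natDegree + 1),
        (1 - PowerSeries.C ((Nat.card k : ℚ) ^ i) * PowerSeries.X) ^ (-P.coeff i).toNat := by
  classical
  set q : ℚ := (Nat.card k : ℚ) with hq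
  set d := P.natDegree with hd
  let g : ℕ → PowerSeries ℚ := fun i => 1 - PowerSeries.C (q ^ i) * PowerSeries.X
  let e : ℕ → PowerSeries ℚ := fun i => PowerSeries.mk fun m => (q ^ i) ^ (m + 1)
  let c : ℕ → PowerSeries ℚ := fun i => - e i
  have he : ∀ i, e i * g i = PowerSeries.C (q ^ i) := by
    intro i
    ext m
    cases m with
    | zero => simp [e, g, mul_sub]
    | succ m =>
      simp only [e, g, mul_sub, mul_one, map_sub, PowerSeries.coeff_mk, PowerSeries.coeff_C,
        Nat.succ_ne_zero, if_false]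
      rw [← mul_assoc, PowerSeries.coeff_succ_mul_X, mul_comm, PowerSeries.coeff_C_mul,
        PowerSeries.coeff_mk]
      ring
  have hg : ∀ i ∈ Finset.range (d + 1), PowerSeries.derivative ℚ (g i) = c i * g i := by
    intro i _
    simp only [g, c, map_sub, PowerSeries.derivative_one, Derivation.leibniz,
      PowerSeries.derivative_C, PowerSeries.derivative_X, smul_eq_mul, mul_one, mul_zero, add_zero,
      zero_sub, neg_mul]
    rw [he i]
  have hA := Lib27.ZetaFormal.derivative_prod_pow (Finset.range (d + 1)) g c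
    (fun i => (P.coeff i).toNat) hg
  have hB := Lib27.ZetaFormal.derivative_prod_pow (Finset.range (d + 1)) g c
    (fun i => (-P.coeff i).toNat) hg
  have hL : PowerSeries.derivative ℚ (Zeta.logZeta f) =
      ∑ i ∈ Finset.range (d + 1), ((P.coeff i : ℤ) : PowerSeries ℚ) * e i := by
    ext m
    rw [Lib27.ZetaFormal.coeff_derivative_logZeta, map_sum]
    have h1 := hP (m + 1) (by omega)
    have h2 : (Zeta.nPts f (m + 1) : ℚ) = ((P.eval ((Nat.card k : ℤ) ^ (m + 1)) : ℤ) : ℚ) := by
      rw [← h1]; simp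
    rw [h2, Polynomial.eval_eq_sum_range]
    push_cast
    refine Finset.sum_congr rfl fun i _ => ?_
    have h3 : ((P.coeff i : ℤ) : PowerSeries ℚ) = PowerSeries.C ((P.coeff i : ℤ) : ℚ) := by
      simp
    rw [h3, PowerSeries.coeff_C_mul, PowerSeries.coeff_mk, ← pow_mul, ← pow_mul, mul_comm i]
  apply Lib27.ZetaFormal.eq_of_derivative_eq_mul (H := ∑ i ∈ Finset.range (d + 1),
    (((-P.coeff i).toNat : ℕ) : PowerSeries ℚ) * c i)
  · change PowerSeries.derivative ℚ (Zeta.zetaFun f * ∏ i ∈ Finset.range (d + 1),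
      g i ^ (P.coeff i).toNat) = _
    rw [Derivation.leibniz, smul_eq_mul, smul_eq_mul, hA, Lib27.ZetaFormal.derivative_zetaFun, hL]
    have key : ∑ i ∈ Finset.range (d + 1), ((P.coeff i : ℤ) : PowerSeries ℚ) * e i +
        ∑ i ∈ Finset.range (d + 1), (((P.coeff i).toNat : ℕ) : PowerSeries ℚ) * c i =
        ∑ i ∈ Finset.range (d + 1), (((-P.coeff i).toNat : ℕ) : PowerSeries ℚ) * c i := by
      rw [← Finset.sum_add_distrib]
      refine Finset.sum_congr rfl fun i _ => ?_
      have h4 : (P.coeff i : ℤ) = ((P.coeff i).toNat : ℤ) - ((-P.coeff i).toNat : ℤ) := by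
        omega
      have h5 : ((P.coeff i : ℤ) : PowerSeries ℚ) =
          (((P.coeff i).toNat : ℕ) : PowerSeries ℚ) - (((-P.coeff i).toNat : ℕ) : PowerSeries ℚ) := by
        conv_lhs => rw [h4]
        push_cast
        rfl
      rw [h5]
      simp only [c]
      ring
    rw [← key]
    ring
  · exact hB
  · rw [map_mul, Lib27.ZetaFormal.constantCoeff_zetaFun, map_prod, map_prod]
    simp

end Groth.Agent.S13055
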