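import Groth.Statements.S13052
import Groth.Agent.Lib27.Sch.ZetaPartition

set_option autoImplicit false
universe u
open CategoryTheory AlgebraicGeometry
open Zeta

namespace Groth.Agent.S13052

/-- If X is a scheme of finite type over a finite field k, Y ↪ X a closed subscheme and U = X ∖ Y its
open complement, then Z(X, t) = Z(Y, t) · Z(U, t). Here Y is any scheme with a closed immersion into
X whose image is the complement of U (its scheme structure plays no role), and Y, U are k-schemes
through X. -/
theorem result {k : Type u} [Field k] [Finite k]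
    {X Y : Scheme.{u}} (f : X ⟶ Spec (CommRingCat.of k)) [LocallyOfFiniteType f] [QuasiCompact f]
    (U : X.Opens) (i : Y ⟶ X) [IsClosedImmersion i] (hY : Set.range i.base = (U : Set X)ᶜ) :
    Zeta.zetaFun f = Zeta.zetaFun (i ≫ f) * Zeta.zetaFun (U.ι ≫ f) := by
  classical
  let Y' : ULift.{u} Bool → Scheme.{u} := fun b => cond b.down Y (U : Scheme.{u})
  let g' : ∀ b, Y' b ⟶ X := fun b =>
    match b with
    | ⟨true⟩ => i
    | ⟨false⟩ => U.ι
  have hg' : ∀ b, IsImmersion (g' b) := by
    rintro ⟨_ | _⟩
    · change IsImmersion U.ι; infer_instance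
    · change IsImmersion i; infer_instance
  have hpart : ∀ x : X, IsClosed ({x} : Set X) → ∃! b, x ∈ Set.range (g' b).base := by
    intro x _
    by_cases hx : x ∈ U
    · refine ⟨⟨false⟩, ?_, ?_⟩
      · change x ∈ Set.range U.ι.base
        rw [Scheme.Opens.range_ι]; exact hx
      · rintro ⟨_ | _⟩ hb
        · rfl
        · exfalso
          have h1 : x ∈ Set.range i.base := hb
          rw [hY] at h1
          exact h1 hx
    · refine ⟨⟨true⟩, ?_, ?_⟩
      · change x ∈ Set.range i.base
        rw [hY]; exact hx
      · rintro ⟨_ | _⟩ hb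
        · exfalso
          have h1 : x ∈ Set.range U.ι.base := hb
          rw [Scheme.Opens.range_ι] at h1
          exact hx h1
        · rfl
  have h := Groth.Agent.Lib27.ZetaPartition.zetaFun_eq_prod f Y' g' hpart
  rw [h]
  have h2 : ∏ b : ULift.{u} Bool, Zeta.zetaFun (g' b ≫ f) =
      ∏ b : Bool, Zeta.zetaFun (g' ⟨b⟩ ≫ f) :=
    Fintype.prod_equiv Equiv.ulift _ _ (fun _ => rfl)
  rw [h2, Fintype.prod_bool]

end Groth.Agent.S13052
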