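import Groth.Statements.S3694
import Mathlib.AlgebraicGeometry.Morphisms.FlatMono
-- import your own Groth.Agent.* helpers here

set_option autoImplicit false
universe u
open SGA1

namespace Groth.Agent.S3694

open AlgebraicGeometry CategoryTheory CategoryTheory.Limits in
/-- A morphism which is etale and universally injective (radicial) is an open immersion. (The converse
is immediate.) -/
theorem result {X Y : Scheme.{u}} (f : X ⟶ Y) [Etale f] [UniversallyInjective f] :
    IsOpenImmersion f := by
  have hs : Surjective (pullback.diagonal f) := (UniversallyInjective.iff_diagonal f).mp inferInstance
  have hoi : IsOpenImmersion (pullback.diagonal f) := inferInstance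
  have hiso : IsIso (pullback.diagonal f) := by
    apply isIso_of_isOpenImmersion_of_opensRange_eq_top
    apply TopologicalSpace.Opens.ext
    simp [Set.range_eq_univ.mpr hs.surj]
  have : Mono f := (pullback.isIso_diagonal_iff f).mp hiso
  exact IsOpenImmersion.of_flat_of_mono f

end Groth.Agent.S3694
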