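import Groth.Statements.S4454
import Groth.Agent.Lib.Helper21.VarNorm2
-- import your own Groth.Agent.* helpers here

set_option autoImplicit false
universe u
open CategoryTheory CategoryTheory.Limits AlgebraicGeometry
open EGA2

namespace Groth.Agent.S4454

/-- Case of an integral curve and a single field: let X be an integral algebraic curve over a field k, K
a finite extension of its field of rational functions and X' the integral closure of X in K (the
normalization of X along the morphism g : Spec K ⟶ X through the generic point). Then the canonical
morphism X' ⟶ X is finite and X' is a normal algebraic curve over k (local rings integrally closed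
domains, of dimension one at closed points). -/
theorem result (k : Type u) [Field k] (X : Scheme.{u})
    [X.Over (Spec (CommRingCat.of k))] [LocallyOfFiniteType (X ↘ (Spec (CommRingCat.of k)))]
    [QuasiCompact (X ↘ (Spec (CommRingCat.of k)))] [IsSeparated (X ↘ (Spec (CommRingCat.of k)))] [IsIntegral X]
    (hX : ∀ x : X, IsClosed ({x} : Set X) → ringKrullDim (X.presheaf.stalk x) = 1)
    (K : Type u) [Field K] (φ : X.functionField →+* K) (hφ : φ.Finite) (g : Spec (CommRingCat.of K) ⟶ X)
    (hg : g = Spec.map (CommRingCat.ofHom φ) ≫ X.fromSpecStalk (genericPoint X)) [QuasiCompact g] [QuasiSeparated g] :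
    IsFinite g.fromNormalization ∧ Pi1.IsNormalScheme g.normalization ∧
      ∀ x' : g.normalization, IsClosed ({x'} : Set g.normalization) → ringKrullDim (g.normalization.presheaf.stalk x') = 1 := by
  subst hg
  refine ⟨?_, ?_, ?_⟩
  · exact Groth.Agent.Lib.Helper6.GU.isFinite_fromNormalization _
      (Groth.Agent.Lib.Helper21.VarNorm.finite_genHom X K (CommRingCat.ofHom φ)
        (fun U hU hne => Groth.Agent.Lib.Helper21.VarNorm.isN2_sections k X U hU hne) hφ)
  · exact Groth.Agent.Lib.Helper21.VarNorm.isNormalScheme_normalization_genHom X K
      (CommRingCat.ofHom φ)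
  · exact Groth.Agent.Lib.Helper21.VarNorm.ringKrullDim_stalk_normalization_genHom X K
      (CommRingCat.ofHom φ) hX

end Groth.Agent.S4454
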