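import Groth.Statements.S2345
import Groth.Agent.Lib.Helper21.P1b
import Groth.Agent.Lib.Helper21.NormGen
import Groth.Agent.S4454
import Groth.Agent.Lib.Helper6.NormIsoC
-- import your own Groth.Agent.* helpers here

set_option autoImplicit false
universe u
open CategoryTheory CategoryTheory.Limits AlgebraicGeometry
attribute [local instance] Curv2.stalkAlgebra
open EGA2

namespace Groth.Agent.S2345

/-- Let K be a finitely generated field extension of k of transcendence degree one. Then there is an
integral normal algebraic curve X, proper over k, whose function field is isomorphic to K compatibly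
with the maps from k. -/
theorem result (k : Type u) [Field k] (K : Type u) [Field K] [Algebra k K]
    (hfg : (⊤ : IntermediateField k K).FG) (htr : Algebra.trdeg k K = 1) :
    ∃ (X : Scheme.{u}) (_ : X.Over (Spec (CommRingCat.of k))) (_ : IsIntegral X), IsProper (X ↘ (Spec (CommRingCat.of k))) ∧ Pi1.IsNormalScheme X ∧
      (∀ x : X, IsClosed ({x} : Set X) → ringKrullDim (X.presheaf.stalk x) = 1) ∧
      ∃ e : X.presheaf.stalk (genericPoint X) ≃+* K, ∀ c : k, e (algebraMap k (X.presheaf.stalk (genericPoint X)) c) = algebraMap k K c := by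
  classical
  -- a transcendental element
  have hT : Algebra.Transcendental k K := by
    rw [← trdeg_ne_zero_iff, htr]
    exact one_ne_zero
  obtain ⟨t, ht⟩ := hT.transcendental
  set φ := Groth.Agent.Lib.Helper21.P1.funFieldHom k t ht with hφ
  letI algFK : Algebra (CohB1.ProjSpace 1 k).functionField K := φ.toAlgebra
  haveI : IsScalarTower k (CohB1.ProjSpace 1 k).functionField K :=
    IsScalarTower.of_algebraMap_eq
      (fun c => (Groth.Agent.Lib.Helper21.P1.funFieldHom_algebraMap k t ht c).symm)
  have hfinM : Module.Finite (CohB1.ProjSpace 1 k).functionField K := by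
    refine Groth.Agent.Lib.Helper21.P1.finite_of_trdeg_one hfg htr
      (((CohB1.ProjSpace 1 k).presheaf.germ (Groth.Agent.Lib.Helper21.P1.stdOpen k 0)
      (genericPoint (CohB1.ProjSpace 1 k))
      (Groth.Agent.Lib.Helper21.P1.genericPoint_mem_stdOpen k 0)).hom
        (Groth.Agent.Lib.Helper21.P1.sectionEquiv k 0
          (Groth.Agent.Lib.Helper29.QCoh.xFrac 1 k 0 1))) ?_
    have : algebraMap (CohB1.ProjSpace 1 k).functionField K
        (((CohB1.ProjSpace 1 k).presheaf.germ (Groth.Agent.Lib.Helper21.P1.stdOpen k 0)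
        (genericPoint (CohB1.ProjSpace 1 k))
        (Groth.Agent.Lib.Helper21.P1.genericPoint_mem_stdOpen k 0)).hom
          (Groth.Agent.Lib.Helper21.P1.sectionEquiv k 0
            (Groth.Agent.Lib.Helper29.QCoh.xFrac 1 k 0 1))) = t :=
      Groth.Agent.Lib.Helper21.P1.funFieldHom_X k t ht
    rw [this]
    exact ht
  have hfin : φ.Finite := hfinM
  haveI hprop : IsProper ((CohB1.ProjSpace 1 k) ↘ Spec (CommRingCat.of k)) :=
    Groth.Agent.S9705.isProper_toSpec 1 k
  set g := Groth.Agent.Lib.Helper6.GU.genHom (CohB1.ProjSpace 1 k) K (CommRingCat.ofHom φ) with hg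
  haveI : QuasiCompact g := Groth.Agent.Lib.Helper6.NormIso.quasiCompact_of_field_source g
  haveI : QuasiSeparated g := inferInstance
  obtain ⟨hfinν, hnorm, hdim⟩ := Groth.Agent.S4454.result k (CohB1.ProjSpace 1 k)
    (Groth.Agent.Lib.Helper21.P1.ringKrullDim_stalk_of_isClosed k) K φ hfin g rfl
  letI ovX : g.normalization.Over (Spec (CommRingCat.of k)) :=
    ⟨g.fromNormalization ≫ ((CohB1.ProjSpace 1 k) ↘ Spec (CommRingCat.of k))⟩
  refine ⟨g.normalization, ovX, inferInstance, ?_, hnorm, hdim, ?_⟩
  · change IsProper (g.fromNormalization ≫ ((CohB1.ProjSpace 1 k) ↘ Spec (CommRingCat.of k)))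
    infer_instance
  · have heq := Groth.Agent.Lib.Helper21.NormGen.toNormalization_apply (CohB1.ProjSpace 1 k) K
      (CommRingCat.ofHom φ) (IsLocalRing.closedPoint K)
    have key : ∀ (y : g.normalization) (_ : g.toNormalization (IsLocalRing.closedPoint K) = y),
        ∃ e : g.normalization.presheaf.stalk y ≃+* K,
          ∀ c : k, e (algebraMap k (g.normalization.presheaf.stalk y) c) = algebraMap k K c := by
      rintro _ rfl
      set σ := (Scheme.stalkClosedPointTo g.toNormalization).hom with hσ
      have hinj : Function.Injective σ :=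
        Groth.Agent.Lib.Helper21.NormGen.injective_stalkClosedPointTo (CohB1.ProjSpace 1 k) K
          (CommRingCat.ofHom φ)
      have hsurj : Function.Surjective σ := by
        intro y
        haveI : Algebra.IsIntegral (CohB1.ProjSpace 1 k).functionField K :=
          Algebra.IsIntegral.of_finite _ _
        have hy : IsIntegral (CohB1.ProjSpace 1 k).functionField y :=
          Algebra.IsIntegral.isIntegral y
        exact Groth.Agent.Lib.Helper21.NormGen.le_range_stalkClosedPointTo (CohB1.ProjSpace 1 k) K
          (CommRingCat.ofHom φ) y hy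
      refine ⟨RingEquiv.ofBijective σ ⟨hinj, hsurj⟩, ?_⟩
      intro c
      change σ _ = _
      have hη : genericPoint (CohB1.ProjSpace 1 k) ∈ (⊤ : (CohB1.ProjSpace 1 k).Opens) := trivial
      have h1 := Groth.Agent.Lib.Helper21.NormGen.secToL_app (CohB1.ProjSpace 1 k) K
        (CommRingCat.ofHom φ) ⊤ hη
        (Coh.toGlobal ((CohB1.ProjSpace 1 k) ↘ Spec (CommRingCat.of k)) c)
      refine Eq.trans ?_ (h1.trans (Groth.Agent.Lib.Helper21.P1.funFieldHom_algebraMap k t ht c))
      rfl
    obtain ⟨e, he⟩ := key _ heq
    exact ⟨e, he⟩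

end Groth.Agent.S2345
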