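import Groth.Statements.S4442
import Groth.Agent.Lib.Helper21.ChartPt3
import Groth.Agent.Lib.Helper21.CoheightOne
import Groth.Agent.Lib.Helper21.NagFin7
-- import your own Groth.Agent.* helpers here

set_option autoImplicit false
universe u
open CategoryTheory CategoryTheory.Limits AlgebraicGeometry
attribute [local instance] Curv2.resAlgebra
open EGA2

namespace Groth.Agent.S4442

/-- (a) ⇔ (b): let X be a scheme of finite type over a field k. The residue fields of the generic points
of the irreducible components of X all have transcendence degree one over k if and only if the local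
ring of X at every closed point has dimension one. (The published statement has a third equivalent
condition: the irreducible closed subsets of X other than the irreducible components are exactly the
closed points of X. This row states only the equivalence of the first two.) -/
theorem result (k : Type u) [Field k] (X : Scheme.{u})
    [X.Over (Spec (CommRingCat.of k))] [LocallyOfFiniteType (X ↘ (Spec (CommRingCat.of k)))]
    [QuasiCompact (X ↘ (Spec (CommRingCat.of k)))] :
    (∀ x : X, closure ({x} : Set X) ∈ irreducibleComponents (X : Type u) → Algebra.trdeg k (X.residueField x) = 1) ↔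
      ∀ x : X, IsClosed ({x} : Set X) → ringKrullDim (X.presheaf.stalk x) = 1 := by
  have hcompact : CompactSpace X :=
    QuasiCompact.compactSpace_of_compactSpace (X ↘ Spec (CommRingCat.of k))
  constructor
  · intro ha x hx
    rw [ringKrullDim_stalk_eq_coheight]
    have hco : Order.coheight x = 1 := by
      rw [Groth.Agent.Lib.Helper21.coheight_eq_one_iff]
      obtain ⟨η, hη, hηx⟩ := Groth.Agent.Lib.Helper21.NagFin.exists_generic_specializes x
      have hK := Groth.Agent.Lib.Helper21.ChartPt.eq_or_eq_of_trdeg_eq_one k X (ha η hη) hx hηx
      constructor
      · intro hmax
        have h1 : x ⤳ η := hmax (b := η) hηx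
        exact hK.1 ((hηx.antisymm h1).eq)
      · intro y hxy
        obtain ⟨η', hη', hη'y⟩ := Groth.Agent.Lib.Helper21.NagFin.exists_generic_specializes y
        have hyx : y ⤳ x := hxy.le
        have hK' := Groth.Agent.Lib.Helper21.ChartPt.eq_or_eq_of_trdeg_eq_one k X (ha η' hη') hx
          (hη'y.trans hyx)
        rcases hK'.2 y hη'y hyx with h | h
        · rw [h]
          exact Groth.Agent.Lib.Helper21.isMax_of_closure_singleton_mem_irreducibleComponents hη'
        · exfalso
          subst h
          exact lt_irrefl _ hxy
    rw [hco]
    rfl
  · intro hb η hη
    have hmax : IsMax η :=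
      Groth.Agent.Lib.Helper21.isMax_of_closure_singleton_mem_irreducibleComponents hη
    obtain ⟨x, hxη, hxc⟩ := (isClosed_closure (s := ({η} : Set X))).exists_closed_singleton
      (Set.singleton_nonempty η).closure
    have hηx : η ⤳ x := specializes_iff_mem_closure.mpr hxη
    have hco : Order.coheight x = 1 := by
      have h1 := hb x hxc
      rw [ringKrullDim_stalk_eq_coheight] at h1
      exact_mod_cast h1
    rw [Groth.Agent.Lib.Helper21.coheight_eq_one_iff] at hco
    apply Groth.Agent.Lib.Helper21.ChartPt.trdeg_eq_one_of_forall_eq_or_eq k X hxc hηx
    · rintro rfl
      exact hco.1 hmax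
    · intro z hηz hzx
      by_cases hz : z = x
      · right; exact hz
      · left
        have hlt : x < z := lt_of_le_not_ge hzx (fun h => hz ((Specializes.antisymm hzx h).eq))
        have hzmax := hco.2 z hlt
        have h1 : z ⤳ η := hzmax (b := η) hηz
        exact ((Specializes.antisymm hηz h1).eq).symm

end Groth.Agent.S4442
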