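import Groth.Statements.S0593
import Groth.Agent.Lib.Helper21.Chev12
-- import your own Groth.Agent.* helpers here

set_option autoImplicit false
universe u
open CategoryTheory AlgebraicGeometry
open Lim

namespace Groth.Agent.S0593

/-- If `f : X → S` is surjective and universally closed with `X` affine, then `S` is affine. -/
theorem result (X S : Scheme.{u}) (f : X ⟶ S)
    [IsAffine X] [Surjective f] [UniversallyClosed f] : IsAffine S := by
  have hcomp : CompactSpace S := by
    constructor
    rw [← f.surjective.range_eq]
    exact isCompact_range f.continuous
  have hsepS : S.IsSeparated := by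
    constructor
    have : IsSeparated (f ≫ Limits.terminal.from S) := by
      rw [Limits.terminal.comp_from]
      infer_instance
    exact Groth.Agent.Lib.Helper6.UHDesc.isSeparated_of_comp_of_surjective f
      (Limits.terminal.from S)
  have hqs : QuasiSeparatedSpace S := inferInstance
  have haff : IsAffineHom f := by
    have : IsAffineHom (f ≫ Limits.terminal.from S) := by
      rw [Limits.terminal.comp_from]
      infer_instance
    exact MorphismProperty.of_postcomp (W := @IsAffineHom) (W' := @IsSeparated) f
      (Limits.terminal.from S) inferInstance inferInstance
  have hint : IsIntegralHom f :=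
    IsIntegralHom.iff_universallyClosed_and_isAffineHom.mpr ⟨inferInstance, inferInstance⟩
  obtain ⟨T, p, q, hpq, hfin, hfp, hT⟩ :=
    Groth.Agent.Lib.Helper21.Chev.exists_finite_affine_factorization f
  have hsurj : Surjective q := by
    have : Surjective (p ≫ q) := by rw [hpq]; infer_instance
    exact Surjective.of_comp p q
  exact Groth.Agent.Lib.Helper21.Chev.isAffine_of_finite_fp_surjective q

end Groth.Agent.S0593
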