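import Groth.Statements.S1585
import Groth.Agent.Lib.Helper21.VarNorm
import Groth.Agent.Lib.Helper21.CurveMor
-- import your own Groth.Agent.* helpers here

set_option autoImplicit false
universe u
open CategoryTheory CategoryTheory.Limits AlgebraicGeometry
open Variety

namespace Groth.Agent.S1585

/-- Part (1): and (4), for an integral scheme locally of finite type over a field: the normalization
morphism ν (normalization of X in its function field) is finite, dominant and an isomorphism over a
nonempty open, and the normalization is an integral scheme all of whose local rings are integrally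
closed domains. (The quasi-compactness/quasi-separatedness binders on Spec K(X) → X always hold;
they are needed only to form Mathlib's relative normalization.) -/
theorem result (k : Type u) [Field k] (X : Scheme.{u}) [X.Over (Spec (CommRingCat.of k))] [IsIntegral X] [LocallyOfFiniteType (X ↘ (Spec (CommRingCat.of k)))]
    [QuasiCompact (X.fromSpecStalk (genericPoint X))] [QuasiSeparated (X.fromSpecStalk (genericPoint X))] :
    IsFinite (Curv2.normalizationι X) ∧ IsDominant (Curv2.normalizationι X) ∧
      (∃ V : X.Opens, (V : Set X).Nonempty ∧ IsIso (Curv2.normalizationι X ∣_ V)) ∧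
      IsIntegral (Curv2.normalization X) ∧ Pi1.IsNormalScheme (Curv2.normalization X) := by
  have hh : X.fromSpecStalk (genericPoint X) =
      Groth.Agent.Lib.Helper6.GU.genHom X X.functionField (𝟙 _) := by
    simp only [Groth.Agent.Lib.Helper6.GU.genHom]; erw [Spec.map_id]
    exact (Category.id_comp _).symm
  have hfin : IsFinite (Curv2.normalizationι X) :=
    Groth.Agent.Lib.Helper6.GU.isFinite_fromNormalization_of_isN2 X
      (fun U hU hne => Groth.Agent.Lib.Helper21.VarNorm.isN2_sections k X U hU hne)
      (X.fromSpecStalk (genericPoint X)) hh
  obtain ⟨hN, hint, hirr, hfib, hiso⟩ :=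
    Groth.Agent.Lib.Helper6.NormIso.good_fromNormalization X (X.fromSpecStalk (genericPoint X)) hh
  have : IrreducibleSpace (Curv2.normalization X) := hirr
  have hI : IsIntegral (Curv2.normalization X) :=
    Groth.Agent.Lib.Helper6.NormIso.isIntegral_of_normal_irreducible _ hN
  have hgen : (Curv2.normalizationι X).base (genericPoint (Curv2.normalization X)) =
      genericPoint X :=
    Groth.Agent.Lib.Helper6.NormIso.fromNormalization_genericPoint X _ hh
  have hd0 := Groth.Agent.Lib.Helper21.RatExt.isDominant_fromSpecStalk_genericPoint (X := X)
  have hd1 : IsDominant ((X.fromSpecStalk (genericPoint X)).toNormalization ≫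
      (X.fromSpecStalk (genericPoint X)).fromNormalization) := by
    rw [Scheme.Hom.toNormalization_fromNormalization]
    exact hd0
  have hdom0 : IsDominant (X.fromSpecStalk (genericPoint X)).fromNormalization :=
    IsDominant.of_comp (X.fromSpecStalk (genericPoint X)).toNormalization _
  have hdom : IsDominant (Curv2.normalizationι X) := hdom0
  have hiso' : IsIso ((Curv2.normalizationι X).stalkMap
      (genericPoint (Curv2.normalization X))) := hiso
  have hst : Function.Bijective ((Curv2.normalizationι X).stalkMap
      (genericPoint (Curv2.normalization X))).hom :=
    (ConcreteCategory.isIso_iff_bijective _).mp hiso'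
  exact ⟨hfin, hdom, Groth.Agent.Lib.Helper21.BirIso.exists_isIso_morphismRestrict
    (Curv2.normalizationι X) hgen hst, hI, hN⟩

end Groth.Agent.S1585
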