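import Groth.Statements.S2351
import Groth.Agent.Lib.Helper6.NormIsoB
import Groth.Agent.Lib.Helper21.CurveMor
-- import your own Groth.Agent.* helpers here

set_option autoImplicit false
universe u
open CategoryTheory CategoryTheory.Limits AlgebraicGeometry
open EGA2

namespace Groth.Agent.S2351

/-- Let X be an integral scheme and X' → X its normalization (integral closure of X in its function
field). Then X' is integral with integrally closed local rings, the morphism X' → X is surjective,
maps the generic point to the generic point and induces a bijection between the residue fields of
the generic points. (The quasi-compactness/quasi-separatedness binders on Spec K(X) → X always hold;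
they are only needed to form Mathlib's relative normalization.) -/
theorem result (X : Scheme.{u}) [IsIntegral X]
    [QuasiCompact (X.fromSpecStalk (genericPoint X))] [QuasiSeparated (X.fromSpecStalk (genericPoint X))] :
    ∃ (_ : IsIntegral (Curv2.normalization X)), Pi1.IsNormalScheme (Curv2.normalization X) ∧ Surjective (Curv2.normalizationι X) ∧
      ∃ hgen : (Curv2.normalizationι X).base (genericPoint (Curv2.normalization X)) = genericPoint X,
        Function.Bijective ((Curv2.normalizationι X).residueFieldMap (genericPoint (Curv2.normalization X))).hom := by
  have hh : X.fromSpecStalk (genericPoint X) =
      Groth.Agent.Lib.Helper6.GU.genHom X X.functionField (𝟙 _) := by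
    simp only [Groth.Agent.Lib.Helper6.GU.genHom]; erw [Spec.map_id]
    exact (Category.id_comp _).symm
  obtain ⟨hN, hint, hirr, hfib, hiso⟩ :=
    Groth.Agent.Lib.Helper6.NormIso.good_fromNormalization X (X.fromSpecStalk (genericPoint X)) hh
  have : IrreducibleSpace (Curv2.normalization X) := hirr
  have hI : IsIntegral (Curv2.normalization X) :=
    Groth.Agent.Lib.Helper6.NormIso.isIntegral_of_normal_irreducible _ hN
  have hgen : (Curv2.normalizationι X).base (genericPoint (Curv2.normalization X)) =
      genericPoint X :=
    Groth.Agent.Lib.Helper6.NormIso.fromNormalization_genericPoint X _ hh
  refine ⟨hI, hN, ?_, hgen, ?_⟩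
  · have hd0 := Groth.Agent.Lib.Helper21.RatExt.isDominant_fromSpecStalk_genericPoint (X := X)
    have hd1 : IsDominant ((X.fromSpecStalk (genericPoint X)).toNormalization ≫
        (X.fromSpecStalk (genericPoint X)).fromNormalization) := by
      rw [Scheme.Hom.toNormalization_fromNormalization]
      exact hd0
    have hdom0 : IsDominant (X.fromSpecStalk (genericPoint X)).fromNormalization :=
      IsDominant.of_comp (X.fromSpecStalk (genericPoint X)).toNormalization _
    have hdom : IsDominant (Curv2.normalizationι X) := hdom0
    have hint' : IsIntegralHom (Curv2.normalizationι X) := hint
    exact surjective_of_isDominant_of_isClosed_range _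
      (Curv2.normalizationι X).isClosedMap.isClosed_range
  · constructor
    · exact RingHom.injective _
    · have h1 := Scheme.residue_residueFieldMap (Curv2.normalizationι X)
        (genericPoint (Curv2.normalization X))
      have hiso' : IsIso ((Curv2.normalizationι X).stalkMap
          (genericPoint (Curv2.normalization X))) := hiso
      have hs1 : Function.Surjective ((Curv2.normalizationι X).stalkMap
          (genericPoint (Curv2.normalization X))).hom :=
        ((ConcreteCategory.isIso_iff_bijective _).mp hiso').2
      have hs2 := (Curv2.normalization X).residue_surjective
        (genericPoint (Curv2.normalization X))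
      have hs3 : Function.Surjective (((Curv2.normalizationι X).stalkMap
          (genericPoint (Curv2.normalization X))) ≫ (Curv2.normalization X).residue
            (genericPoint (Curv2.normalization X))).hom := by
        rw [CommRingCat.hom_comp]
        exact hs2.comp hs1
      rw [← h1, CommRingCat.hom_comp, RingHom.coe_comp] at hs3
      exact Function.Surjective.of_comp hs3

end Groth.Agent.S2351
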