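import Groth.Statements.S4562
import Mathlib
-- import your own Groth.Agent.* helpers here

set_option autoImplicit false
universe u
open CAlg

namespace Groth.Agent.S4562


open IntermediateField Polynomial

/-- For a normal extension `N/K`, the fixed field of `Aut(N/K)` is purely inseparable over `K`. -/
theorem isPurelyInseparable_fixedField (K N : Type*) [Field K] [Field N] [Algebra K N] [Normal K N] :
    IsPurelyInseparable K (fixedField (⊤ : Subgroup Gal(N/K))) := by
  classical
  rw [isPurelyInseparable_iff_natSepDegree_eq_one]
  intro x
  have hx : IsAlgebraic K (x : N) := (Normal.isIntegral ‹Normal K N› (x : N)).isAlgebraic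
  have hmin : minpoly K x = minpoly K (x : N) :=
    (minpoly.algebraMap_eq (algebraMap (fixedField (⊤ : Subgroup Gal(N/K))) N).injective x).symm
  rw [hmin, natSepDegree_eq_of_splits (minpoly K (x : N)) (Normal.splits ‹Normal K N› (x : N))]
  have hroots : (Polynomial.aroots (minpoly K (x : N)) N).toFinset = {(x : N)} := by
    ext y
    rw [Multiset.mem_toFinset, Polynomial.mem_aroots, Finset.mem_singleton]
    constructor
    · rintro ⟨-, hy⟩
      obtain ⟨σ, hσ⟩ := minpoly.exists_algEquiv_of_root' hx hy
      rw [← hσ]
      exact (mem_fixedField_iff _ _).mp x.2 σ (Subgroup.mem_top σ)
    · rintro rfl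
      exact ⟨minpoly.ne_zero hx.isIntegral, minpoly.aeval K _⟩
  rw [hroots, Finset.card_singleton]



open IntermediateField Polynomial

/-- Main step: for a finite normal extension `N/K`, finiteness of the integral closure in the
(purely inseparable) fixed field implies finiteness of the integral closure in `N`. -/
theorem finite_integralClosure_of_normal (A K N : Type u) [CommRing A] [IsDomain A] [IsNoetherianRing A]
    [Field K] [Algebra A K] [IsFractionRing A K] [Field N] [Algebra K N] [Algebra A N]
    [IsScalarTower A K N] [FiniteDimensional K N] [Normal K N]
    (hfin : Module.Finite A (integralClosure A (fixedField (⊤ : Subgroup Gal(N/K))))) :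
    Module.Finite A (integralClosure A N) := by
  set K' := fixedField (⊤ : Subgroup Gal(N/K)) with hK'
  set A' := integralClosure A K' with hA'
  haveI : IsGalois K' N := IsGalois.of_fixed_field N (⊤ : Subgroup Gal(N/K))
  haveI : IsNoetherianRing A' := IsNoetherianRing.of_finite A A'
  haveI : IsFractionRing A' K' := integralClosure.isFractionRing_of_finite_extension K K'
  haveI : IsIntegrallyClosed A' := integralClosure.isIntegrallyClosedOfFiniteExtension K
  haveI : FiniteDimensional K' N := FiniteDimensional.right K K' N
  haveI : IsScalarTower A K' N := IsScalarTower.of_algebraMap_eq (fun a => rfl)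
  haveI : IsScalarTower A A' N := IsScalarTower.of_algebraMap_eq (fun a => rfl)
  have hC : Module.Finite A' (integralClosure A' N) :=
    IsIntegralClosure.finite A' K' N (integralClosure A' N)
  have hC' : Module.Finite A (integralClosure A' N) := Module.Finite.trans A' _
  haveI : IsNoetherian A (integralClosure A' N) := isNoetherian_of_isNoetherianRing_of_finite A _
  -- inject `integralClosure A N` into `integralClosure A' N`
  let f : integralClosure A N →ₗ[A] integralClosure A' N :=
    { toFun := fun x => ⟨x.1, IsIntegral.tower_top x.2⟩
      map_add' := fun _ _ => rfl
      map_smul' := fun _ _ => rfl }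
  have hf : Function.Injective f := by
    intro x y hxy
    apply Subtype.ext
    exact congrArg (fun z : integralClosure A' N => (z : N)) hxy
  exact Module.Finite.of_injective f hf



open IntermediateField Polynomial


/-- Let A be a Noetherian domain with fraction field K. If the integral closure of A in every finite
purely inseparable extension of K is a finitely generated A-module, then A is Japanese (N-2). -/
theorem result (A : Type u) [CommRing A] [IsDomain A]
    [IsNoetherianRing A]
    (h : ∀ (K' : Type u) [Field K'] [Algebra A K'] [Algebra (FractionRing A) K']
      [IsScalarTower A (FractionRing A) K'], FiniteDimensional (FractionRing A) K' →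
      IsPurelyInseparable (FractionRing A) K' → Module.Finite A (integralClosure A K')) :
    CAlg.IsN2 A := by
  intro L _ _ _ _ hL
  let N := IntermediateField.normalClosure (FractionRing A) L (AlgebraicClosure L)
  letI : Algebra A N := ((algebraMap (FractionRing A) N).comp (algebraMap A (FractionRing A))).toAlgebra
  haveI : IsScalarTower A (FractionRing A) N := IsScalarTower.of_algebraMap_eq' rfl
  haveI : IsScalarTower A L N := IsScalarTower.of_algebraMap_eq (fun a => by
    rw [IsScalarTower.algebraMap_apply A (FractionRing A) N,
      IsScalarTower.algebraMap_apply (FractionRing A) L N,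
      ← IsScalarTower.algebraMap_apply A (FractionRing A) L])
  have hN : Module.Finite A (integralClosure A N) := by
    apply finite_integralClosure_of_normal A (FractionRing A) N
    exact h (fixedField (⊤ : Subgroup Gal(N/(FractionRing A)))) inferInstance
      (isPurelyInseparable_fixedField (FractionRing A) N)
  haveI : IsNoetherian A (integralClosure A N) := isNoetherian_of_isNoetherianRing_of_finite A _
  let f : integralClosure A L →ₗ[A] integralClosure A N :=
    ((IsScalarTower.toAlgHom A L N).mapIntegralClosure).toLinearMap
  have hf : Function.Injective f := by
    intro x y hxy
    apply Subtype.ext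
    have := congrArg (fun z : integralClosure A N => (z : N)) hxy
    exact (algebraMap L N).injective this
  exact Module.Finite.of_injective f hf

end Groth.Agent.S4562
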