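import Groth.Statements.S9811
import Groth.Agent.S9810
import Groth.Agent.Helper19.BrnchProd
-- import your own Groth.Agent.* helpers here

set_option autoImplicit false
universe u
open Brnch

namespace Groth.Agent.S9811

open Groth.Agent.Helper19.BrnchLib Groth.Agent.Helper19.BrnchProd Groth.Agent.S9810

section helpers

section transport

variable {A A₂ : Type u} [CommRing A] [CommRing A₂] [IsLocalRing A] [IsLocalRing A₂]
  (q : A →+* A₂) (hq : Function.Surjective q)
  (M : MaximalSpectrum (CAlg2.normRed A)) (m : MaximalSpectrum (CAlg2.normRed A₂))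
  (r : CAlg2.normRed A →+* CAlg2.normRed A₂) (hr : Function.Surjective r)
  (hM : M.asIdeal = m.asIdeal.comap r)
  (hcomp : ∀ a : A, r (algebraMap (CAlg2.red A) (CAlg2.normRed A) (Ideal.Quotient.mk (nilradical A) a)) =
    algebraMap (CAlg2.red A₂) (CAlg2.normRed A₂) (Ideal.Quotient.mk (nilradical A₂) (q a)))

include hM in
/-- the induced map on residue fields of the normalizations -/
noncomputable def theta : (CAlg2.normRed A ⧸ M.asIdeal) →+* (CAlg2.normRed A₂ ⧸ m.asIdeal) :=
  Ideal.quotientMap m.asIdeal r (le_of_eq hM)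

theorem theta_mk (x : CAlg2.normRed A) :
    theta M m r hM (Ideal.Quotient.mk M.asIdeal x) = Ideal.Quotient.mk m.asIdeal (r x) := by
  unfold theta
  rw [Ideal.quotientMap_mk]

include hr in
theorem theta_bijective : Function.Bijective (theta M m r hM) := by
  constructor
  · unfold theta
    rw [injective_iff_map_eq_zero]
    intro x hx
    obtain ⟨y, rfl⟩ := Ideal.Quotient.mk_surjective x
    rw [Ideal.quotientMap_mk, Ideal.Quotient.eq_zero_iff_mem] at hx
    rw [Ideal.Quotient.eq_zero_iff_mem, hM]
    exact hx
  · exact Ideal.quotientMap_surjective hr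

/-- theta as an equivalence -/
noncomputable def thetaE : (CAlg2.normRed A ⧸ M.asIdeal) ≃+* (CAlg2.normRed A₂ ⧸ m.asIdeal) :=
  RingEquiv.ofBijective (theta M m r hM) (theta_bijective M m r hr hM)

include hcomp in
theorem theta_toResidue :
    (theta M m r hM).comp (toResidue A M) = (toResidue A₂ m).comp q := by
  ext a
  simp only [toResidue, RingHom.comp_apply]
  rw [theta_mk, hcomp]

include hq in
theorem isLocalHom_q : IsLocalHom q := IsLocalHom.of_surjective q hq

/-- the map of residue fields -/
noncomputable def resMap : IsLocalRing.ResidueField A →+* IsLocalRing.ResidueField A₂ :=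
  haveI := isLocalHom_q q hq
  IsLocalRing.ResidueField.map q

theorem resMap_residue (a : A) :
    resMap q hq (IsLocalRing.residue A a) = IsLocalRing.residue A₂ (q a) := by
  haveI := isLocalHom_q q hq
  unfold resMap
  exact IsLocalRing.ResidueField.map_residue q a

theorem resMap_bijective : Function.Bijective (resMap q hq) := by
  refine ⟨(resMap q hq).injective, ?_⟩
  intro z
  obtain ⟨b, rfl⟩ := IsLocalRing.residue_surjective z
  obtain ⟨a, rfl⟩ := hq b
  exact ⟨IsLocalRing.residue A a, resMap_residue q hq a⟩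

/-- the equivalence of residue fields -/
noncomputable def resE : IsLocalRing.ResidueField A ≃+* IsLocalRing.ResidueField A₂ :=
  RingEquiv.ofBijective (resMap q hq) (resMap_bijective q hq)

/-- the induced equivalence of algebraic closures -/
noncomputable def lam : AlgebraicClosure (IsLocalRing.ResidueField A) ≃+*
    AlgebraicClosure (IsLocalRing.ResidueField A₂) :=
  IsAlgClosure.equivOfEquiv (AlgebraicClosure (IsLocalRing.ResidueField A))
    (AlgebraicClosure (IsLocalRing.ResidueField A₂)) (resE q hq)

theorem lam_toClosure :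
    ((lam q hq : _ ≃+* _) : _ →+* _).comp (toClosure A) = (toClosure A₂).comp q := by
  unfold toClosure
  rw [← RingHom.comp_assoc]
  unfold lam
  have := IsAlgClosure.equivOfEquiv_comp_algebraMap (AlgebraicClosure (IsLocalRing.ResidueField A))
    (AlgebraicClosure (IsLocalRing.ResidueField A₂)) (resE q hq)
  rw [this]
  ext a
  simp only [RingHom.comp_apply]
  congr 1

include hcomp in
theorem theta_toResidue_apply (a : A) :
    theta M m r hM (toResidue A M a) = toResidue A₂ m (q a) :=
  RingHom.congr_fun (theta_toResidue q M m r hM hcomp) a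

theorem lam_toClosure_apply (a : A) :
    lam q hq (toClosure A a) = toClosure A₂ (q a) :=
  RingHom.congr_fun (lam_toClosure q hq) a

include hq hr hcomp in
/-- transport of embeddings -/
noncomputable def embEquiv : Emb A M ≃ Emb A₂ m where
  toFun σ := ⟨((lam q hq : _ ≃+* _) : _ →+* _).comp
      (σ.1.comp ((thetaE M m r hr hM).symm : _ ≃+* _)), by
    obtain ⟨σ, hσ⟩ := σ
    have hσ' : ∀ a, σ (toResidue A M a) = toClosure A a := fun a => RingHom.congr_fun hσ a
    apply RingHom.cancel_right hq |>.mp
    ext a
    simp only [RingHom.comp_apply, RingHom.coe_coe]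
    rw [← theta_toResidue_apply q M m r hM hcomp, ← lam_toClosure_apply q hq, ← hσ']
    congr 2
    exact (thetaE M m r hr hM).symm_apply_apply (toResidue A M a)⟩
  invFun τ := ⟨(((lam q hq).symm : _ ≃+* _) : _ →+* _).comp
      (τ.1.comp ((thetaE M m r hr hM : _ ≃+* _) : _ →+* _)), by
    obtain ⟨τ, hτ⟩ := τ
    have hτ' : ∀ a, τ (toResidue A₂ m a) = toClosure A₂ a := fun a => RingHom.congr_fun hτ a
    ext a
    simp only [RingHom.comp_apply, RingHom.coe_coe]
    rw [RingEquiv.symm_apply_eq, lam_toClosure_apply q hq, ← hτ',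
      ← theta_toResidue_apply q M m r hM hcomp]
    rfl⟩
  left_inv σ := by
    apply Subtype.ext
    ext x
    simp only [RingHom.comp_apply, RingHom.coe_coe]
    rw [(lam q hq).symm_apply_apply, (thetaE M m r hr hM).symm_apply_apply]
  right_inv τ := by
    apply Subtype.ext
    ext x
    simp only [RingHom.comp_apply, RingHom.coe_coe]
    rw [(lam q hq).apply_symm_apply, (thetaE M m r hr hM).apply_symm_apply]

end transport

section main

variable (A : Type u) [CommRing A] [IsLocalRing A] [Fintype (minimalPrimes A)]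

instance isPrime_of_minimal (p : minimalPrimes A) : p.1.IsPrime := p.2.1.1

theorem rho_algebraMap (p : minimalPrimes A) (a : A) :
    rho (cond_gg A) p
        (algebraMap (CAlg2.red A) (CAlg2.normRed A) (Ideal.Quotient.mk (nilradical A) a)) =
      algebraMap (CAlg2.red (A ⧸ p.1)) (CAlg2.normRed (A ⧸ p.1))
        (Ideal.Quotient.mk (nilradical (A ⧸ p.1)) (Ideal.Quotient.mk p.1 a)) := by
  apply Subtype.ext
  rw [rho_coe]
  change proj (cond_gg A) p (algebraMap (CAlg2.red A) (FractionRing (CAlg2.red A)) _) = _
  rw [proj_algebraMap, gg_mk]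
  rfl

/-- the embeddings at `Phi (p, m)` and at `m` correspond -/
noncomputable def embEquivPhi (p : minimalPrimes A) (m : MaximalSpectrum (CAlg2.normRed (A ⧸ p.1))) :
    Emb A (Phi (cond_gg A) ⟨p, m⟩) ≃ Emb (A ⧸ p.1) m :=
  embEquiv (Ideal.Quotient.mk p.1) Ideal.Quotient.mk_surjective (Phi (cond_gg A) ⟨p, m⟩) m
    (rho (cond_gg A) p) (rho_surjective (cond_gg A) p) rfl (rho_algebraMap A p)

/-- the bijection on maximal spectra -/
noncomputable def PhiE :
    (Σ p : minimalPrimes A, MaximalSpectrum (CAlg2.normRed (A ⧸ p.1))) ≃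
      MaximalSpectrum (CAlg2.normRed A) :=
  Equiv.ofBijective (Phi (cond_gg A)) ⟨Phi_injective (cond_gg A), Phi_surjective (cond_gg A)⟩

theorem PhiE_apply (x : Σ p : minimalPrimes A, MaximalSpectrum (CAlg2.normRed (A ⧸ p.1))) :
    PhiE A x = Phi (cond_gg A) x := rfl

/-- step 1 -/
noncomputable def equiv1 :
    (Σ x : (Σ p : minimalPrimes A, MaximalSpectrum (CAlg2.normRed (A ⧸ p.1))), Emb A (PhiE A x)) ≃
    (Σ m' : MaximalSpectrum (CAlg2.normRed A), Emb A m') :=
  Equiv.sigmaCongrLeft (β := fun m' : MaximalSpectrum (CAlg2.normRed A) => Emb A m') (PhiE A)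

/-- step 2 -/
noncomputable def equiv2 :
    (Σ x : (Σ p : minimalPrimes A, MaximalSpectrum (CAlg2.normRed (A ⧸ p.1))), Emb A (PhiE A x)) ≃
    (Σ x : (Σ p : minimalPrimes A, MaximalSpectrum (CAlg2.normRed (A ⧸ p.1))), Emb (A ⧸ x.1.1) x.2) :=
  Equiv.sigmaCongrRight fun x => embEquivPhi A x.1 x.2

/-- step 3 -/
noncomputable def equiv3 :=
  Equiv.sigmaAssoc (fun (p : minimalPrimes A) (m : MaximalSpectrum (CAlg2.normRed (A ⧸ p.1))) => Emb (A ⧸ p.1) m)

/-- the total equivalence -/
noncomputable def totalEquiv :
    (Σ m' : MaximalSpectrum (CAlg2.normRed A), Emb A m') ≃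
      Σ p : minimalPrimes A, Σ m : MaximalSpectrum (CAlg2.normRed (A ⧸ p.1)), Emb (A ⧸ p.1) m :=
  ((equiv1 A).symm.trans (equiv2 A)).trans (equiv3 A)

end main

end helpers

/-- Geometric branches, in terms of the local ring: for a local ring A with finitely many minimal prime
ideals, the number of geometric branches of A is the sum over the minimal primes p of the numbers of
geometric branches of the local domains A/p. -/
theorem result (A : Type u) [CommRing A] [IsLocalRing A]
    (h : (minimalPrimes A).Finite) :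
    Brnch.numGeomBranches A =
      ∑ᶠ p : minimalPrimes A,
        haveI : p.1.IsPrime := p.2.1.1
        Brnch.numGeomBranches (A ⧸ p.1) := by
  classical
  haveI : Fintype (minimalPrimes A) := h.fintype
  rw [finsum_eq_sum_of_fintype]
  unfold Brnch.numGeomBranches
  rw [if_pos h, ENat.card_congr (totalEquiv A), enat_card_sigma]
  refine Finset.sum_congr rfl fun p _ => ?_
  have hfinp : (minimalPrimes (A ⧸ p.1)).Finite := by
    rw [IsDomain.minimalPrimes_eq_singleton_bot (A ⧸ p.1)]
    exact Set.finite_singleton _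
  rw [if_pos hfinp]

end Groth.Agent.S9811
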