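import Groth.Statements.S4934
import Mathlib
import Groth.Agent.Lib.Helper6.PUO7
-- import your own Groth.Agent.* helpers here

set_option autoImplicit false
open CategoryTheory AlgebraicGeometry
universe u v w
open EGA43

namespace Groth.Agent.S4934

/-- Let Y be a locally Noetherian scheme, f : X ⟶ Y a morphism locally of finite type, x a maximal point
of its fibre X_y, and suppose y = f x is a geometrically unibranch point of Y (so that y lies on
exactly one irreducible component Y₀ of Y, with generic point η). The following are equivalent: a) f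
is universally open at x; b) there is an irreducible component Z of X containing x and dominating Y₀
with dim_x(Z ∩ X_y) = dim(Z ∩ X_η); b') for every open neighbourhood U of x and every generization
y' of y, dim(U ∩ X_{y'}) ≥ dim_x(X_y); c) f is open at x. (The published statement asserts a) ⇔ b) ⇔
b') over an arbitrary base and adds c) for a locally Noetherian one; over the spectrum Y of an
infinite product of copies of a field, the inclusion of a non-open closed point satisfies b) and not
a), and the published proof of b) ⇒ a) uses the openness criterion by lifting of generizations and a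
finiteness of irreducible components, both available over a locally Noetherian base, which is
assumed here throughout.) -/
theorem result {X Y : Scheme.{u}} [IsLocallyNoetherian Y] (f : X ⟶ Y)
    [LocallyOfFiniteType f] (x : X) (hmax : ∀ x' : X, f.base x' = f.base x → x ∈ closure {x'} → x' = x)
    (hy : CAlg2.IsGeomUnibranch (Y.presheaf.stalk (f.base x))) :
    List.TFAE [EGA43.IsUnivOpenAt f x,
      (∀ Y₀ ∈ irreducibleComponents (Y : Type u), f.base x ∈ Y₀ →
        ∃ Z ∈ irreducibleComponents (X : Type u), ∃ hx : x ∈ Z, closure (f.base '' Z) = Y₀ ∧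
          ∀ η : Y, closure ({η} : Set Y) = Y₀ →
            FlatMor.localDim ↥(Z ∩ f.base ⁻¹' {f.base x}) ⟨x, ⟨hx, rfl⟩⟩ =
              topologicalKrullDim ↥(Z ∩ f.base ⁻¹' {η})),
      (∀ U : X.Opens, x ∈ U → ∀ y' : Y, y' ⤳ f.base x →
        FlatMor.fibreDimAt f x ≤ topologicalKrullDim ↥((U : Set X) ∩ f.base ⁻¹' {y'})),
      EGA43.IsOpenAt f.base x] := by
  have hnil := Groth.Agent.Lib.Helper6.PUO.nilradical_isPrime_of_isGeomUnibranch _ hy
  have hmax' : ∀ τ : X, τ ⤳ x → f.base τ = f.base x → τ = x := fun τ hτ hfτ =>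
    hmax τ hfτ hτ.mem_closure
  tfae_have 1 → 4 := fun h => Groth.Agent.Lib.Helper6.PUO.isOpenAt_of_isUnivOpenAt f x h
  tfae_have 4 → 2 := by
    intro hop Y₀ hY₀ hyY₀
    obtain ⟨ξ, hξx, hξmax, hfξmax, N, hN, hFN⟩ :=
      Groth.Agent.Lib.Helper6.PUO.exists_maximal_of_isOpenAt f x (fun ζ hζx hfζ => by
        have := hmax' ζ hζx hfζ
        subst this
        exact hop)
    have hY' := Groth.Agent.Lib.Helper21.FibDim.closure_mem_irreducibleComponents_of_maximal
      (f.base ξ) hfξmax
    have hyY' : f.base x ∈ closure {f.base ξ} := (hξx.map f.continuous).mem_closure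
    have hY₀eq := Groth.Agent.Lib.Helper6.PUO.eq_of_mem_irreducibleComponents (f.base x) hnil _ _
      hY' hY₀ hyY' hyY₀
    exact Groth.Agent.Lib.Helper6.PUO.exists_component_of_maximal f x ξ hξx hξmax hfξmax N hN hFN
      Y₀ hY₀eq
  tfae_have 2 → 1 := by
    intro hb
    have hY₀ : irreducibleComponent (f.base x) ∈ irreducibleComponents (Y : Type u) :=
      irreducibleComponent_mem_irreducibleComponents _
    obtain ⟨Z, hZ, hxZ, hcl, hdim⟩ := hb _ hY₀ mem_irreducibleComponent
    refine Groth.Agent.Lib.Helper6.PUO.isUnivOpenAt_of_component f x hy Z hZ.1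
      (isClosed_of_mem_irreducibleComponents Z hZ) hxZ ?_ (fun η hη => hdim η (hη.trans hcl))
    rw [hcl]
    exact hY₀
  tfae_have 4 → 3 := by
    intro hop U hxU y' hy'
    obtain ⟨n, hn⟩ := Groth.Agent.Lib.Helper21.FibDim.exists_nat_trdeg_residueFieldMap f x
    have hFx : FlatMor.fibreDimAt f x = n :=
      Groth.Agent.Lib.Helper21.OpenAt.fibreDimAt_eq_trdeg_of_maximal f x hmax' n hn
    obtain ⟨ξ, hξx, hfξ, hξn⟩ :=
      Groth.Agent.Lib.Helper21.OpenAt.exists_generization_of_isOpenAt_maximal f x hmax' hop n hn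
        y' hy'
    have hξU : ξ ∈ U := hξx.mem_open U.isOpen hxU
    rw [hFx, ← hfξ]
    exact (Groth.Agent.Lib.Helper6.PUO.rtd_le_fibreDimAt f ξ n hξn).trans
      (Groth.Agent.Lib.Helper6.PUO.fibreDimAt_le_topologicalKrullDim_inter f U ξ hξU)
  tfae_have 3 → 2 := by
    intro hb' Y₀ hY₀ hyY₀
    obtain ⟨η, hη⟩ :=
      Groth.Agent.Lib.Helper21.FibDim.exists_isGenericPoint_of_mem_irreducibleComponents Y₀ hY₀
    have hηmax : ∀ t : Y, t ⤳ η → t = η := fun t ht =>
      Groth.Agent.Lib.Helper21.FibDim.eq_of_specializes_isGenericPoint Y₀ hY₀ η t hη ht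
    have hηx : η ⤳ f.base x := by
      rw [specializes_iff_mem_closure, hη.def]
      exact hyY₀
    obtain ⟨ξ, hξx, hξmax, hfξ, N, hN, hFN⟩ :=
      Groth.Agent.Lib.Helper6.PUO.exists_maximal_of_dim_le f x η hηmax
        (fun U hxU => hb' U hxU η hηx)
    refine Groth.Agent.Lib.Helper6.PUO.exists_component_of_maximal f x ξ hξx hξmax
      (by rw [hfξ]; exact hηmax) N hN hFN Y₀ ?_
    rw [hfξ]
    exact hη.def
  tfae_finish

end Groth.Agent.S4934
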