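import Groth.Statements.S0389
import Groth.Agent.Lib.Helper25.GFMod

set_option autoImplicit false
universe u
open FlatMor

namespace Groth.Agent.S0389

open TensorProduct in
/-- Generic freeness: over a domain, for a finite type algebra and a finite module over it, after
inverting one nonzero element of the base the algebra and the module become free over the base, the
algebra becomes finitely presented over the base and the module finitely presented over the algebra. -/
theorem result {R S M : Type u} [CommRing R] [IsDomain R] [CommRing S] [Algebra R S] [Algebra.FiniteType R S] [AddCommGroup M] [Module S M] [Module R M] [IsScalarTower R S M] [Module.Finite S M] :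
    ∃ f : R, f ≠ 0 ∧ Module.Free (Localization.Away f) (Localization.Away f ⊗[R] M) ∧
      Module.Free (Localization.Away f) (Localization.Away f ⊗[R] S) ∧
      Algebra.FinitePresentation (Localization.Away f) (Localization.Away f ⊗[R] S) ∧
      Module.FinitePresentation (Localization.Away (algebraMap R S f)) (LocalizedModule (Submonoid.powers (algebraMap R S f)) M) := by
  obtain ⟨g1, -, hg1, hGF1⟩ :=
    Groth.Agent.Lib.Helper25.GFMod.exists_GF R S M 1 one_ne_zero
  obtain ⟨g2, hd2, hg2, hGF2⟩ :=
    Groth.Agent.Lib.Helper25.GFMod.exists_GF R S S g1 hg1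
  obtain ⟨g3, hd3, hg3, hFP⟩ :=
    Groth.Agent.Lib.Helper25.GFMod.exists_algFP R S g2 hg2
  obtain ⟨hM1, hM2⟩ := hGF1 g3 (hd2.trans hd3)
  obtain ⟨hS1, -⟩ := hGF2 g3 hd3
  refine ⟨g3, hg3, ?_, ?_, hFP g3 dvd_rfl, hM2⟩
  · exact Module.Free.of_equiv
      (IsLocalizedModule.isBaseChange (Submonoid.powers g3) (Localization.Away g3)
        (LocalizedModule.mkLinearMap (Submonoid.powers g3) M)).equiv.symm
  · exact Module.Free.of_equiv
      (IsLocalizedModule.isBaseChange (Submonoid.powers g3) (Localization.Away g3)
        (LocalizedModule.mkLinearMap (Submonoid.powers g3) S)).equiv.symm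


end Groth.Agent.S0389
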