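import Groth.Statements.S3458
import Groth.Agent.Lib.Helper21.SecBC1
import Groth.Agent.Lib.Helper21.DvrFin8
-- import your own Groth.Agent.* helpers here

set_option autoImplicit false
open CategoryTheory AlgebraicGeometry
universe u
open EGA43

namespace Groth.Agent.S3458

/-- Let Y be locally Noetherian, f : X ⟶ Y locally of finite type, g a section of f, and X⁰_y the
connected component of f⁻¹(y) containing g(y). Suppose that every X⁰_y is geometrically irreducible:
for every field extension K of κ(y), the preimage of X⁰_y in the base change of the fibre X_y to K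
is irreducible. Then for every point y such that z ↦ dim X⁰_z is constant on a neighbourhood of y, f
is universally open at every point of X⁰_y. -/
theorem result {X Y : Scheme.{u}} [IsLocallyNoetherian Y]
    (f : X ⟶ Y) [LocallyOfFiniteType f] (g : Y ⟶ X) (hg : g ≫ f = 𝟙 Y)
    (hgi : ∀ (y : Y) (K : Type u) [Field K] [Algebra (IsLocalRing.ResidueField (Y.presheaf.stalk y)) K],
      IsIrreducible ((FBase.bcπ (f.fiberToSpecResidueField y) K ≫ f.fiberι y).base ⁻¹' (connectedComponentIn (f.base ⁻¹' {y}) (g.base y))))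
    (y : Y)
    (hc : ∃ V ∈ nhds y, ∀ z ∈ V, topologicalKrullDim ↥(connectedComponentIn (f.base ⁻¹' {z}) (g.base z)) = topologicalKrullDim ↥(connectedComponentIn (f.base ⁻¹' {y}) (g.base y))) :
    ∀ x ∈ connectedComponentIn (f.base ⁻¹' {y}) (g.base y), EGA43.IsUnivOpenAt f x := by
  classical
  intro x hx
  have hfx' : x ∈ f.base ⁻¹' {y} := connectedComponentIn_subset _ _ hx
  have hfx : f.base x = y := hfx'
  obtain ⟨V, hV, hVeq⟩ := hc
  refine Groth.Agent.Lib.Helper21.DvrFin.isUnivOpenAt_of_complete_dvr f x
    (fun A _ _ _ _ _ a ha x' hx'1 hx'2 => ?_)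
  have hay : a.base (IsLocalRing.closedPoint A) = y := ha.trans hfx
  -- the base change
  let fst := CategoryTheory.Limits.pullback.fst f a
  let snd := CategoryTheory.Limits.pullback.snd f a
  have hsq : IsPullback fst snd f a := IsPullback.of_hasPullback f a
  let gT : Spec (CommRingCat.of A) ⟶ CategoryTheory.Limits.pullback f a :=
    CategoryTheory.Limits.pullback.lift (a ≫ g) (𝟙 _)
      (by rw [Category.assoc, hg, Category.comp_id, Category.id_comp])
  have hgT1 : gT ≫ fst = a ≫ g := CategoryTheory.Limits.pullback.lift_fst _ _ _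
  have hgT2 : gT ≫ snd = 𝟙 _ := CategoryTheory.Limits.pullback.lift_snd _ _ _
  have : LocallyOfFiniteType snd := MorphismProperty.of_isPullback (P := @LocallyOfFiniteType)
    hsq inferInstance
  have hfacts := fun t => Groth.Agent.Lib.Helper21.SecBC.baseChange_facts f g hg hgi a fst snd hsq
    gT hgT1 hgT2 t
  have hirrP : ∀ t, IsIrreducible (connectedComponentIn (snd.base ⁻¹' {t}) (gT.base t)) :=
    fun t => (hfacts t).2.1
  -- all points of the trait map into `V`
  have haV : ∀ t : ↥(Spec (CommRingCat.of A)), a.base t ∈ V := by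
    intro t
    have h1 : t ⤳ IsLocalRing.closedPoint A := IsLocalRing.specializes_closedPoint t
    have h2 : a.base t ⤳ y := by
      rw [← hay]
      exact h1.map a.continuous
    exact mem_of_mem_nhds (h2 hV)
  have hdimP : ∀ t, topologicalKrullDim ↥(connectedComponentIn (snd.base ⁻¹' {t}) (gT.base t)) =
      topologicalKrullDim ↥(connectedComponentIn (f.base ⁻¹' {y}) (g.base y)) := by
    intro t
    rw [(hfacts t).2.2]
    exact hVeq _ (haV t)
  have hcl := (Groth.Agent.Lib.Helper21.OpenAt.sectionComponent_usc_and_closure snd gT hgT2 hirrP).2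
    (IsLocalRing.closedPoint A) ⟨Set.univ, Filter.univ_mem, fun z _ => by rw [hdimP, hdimP]⟩
    (Groth.Agent.Lib.Helper21.DvrCrit.genPt A)
    (Groth.Agent.Lib.Helper21.DvrCrit.genPt_specializes A _)
  -- `x'` lies in the component over the closed point
  have hx'mem : x' ∈ connectedComponentIn (snd.base ⁻¹' {IsLocalRing.closedPoint A})
      (gT.base (IsLocalRing.closedPoint A)) := by
    refine (Set.ext_iff.mp (hfacts (IsLocalRing.closedPoint A)).1 x').mpr ⟨?_, hx'2⟩
    change fst.base x' ∈ connectedComponentIn (f.base ⁻¹' {a.base (IsLocalRing.closedPoint A)})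
      (g.base (a.base (IsLocalRing.closedPoint A)))
    rw [hx'1, hay]
    exact hx
  have hx'cl := hcl hx'mem
  -- the generic point of the component over the generic point
  set Z := connectedComponentIn (snd.base ⁻¹' {Groth.Agent.Lib.Helper21.DvrCrit.genPt A})
    (gT.base (Groth.Agent.Lib.Helper21.DvrCrit.genPt A)) with hZ
  have hZirr : IsIrreducible Z := hirrP _
  obtain ⟨ζ, hζ⟩ := QuasiSober.sober hZirr.closure isClosed_closure
  have hζx' : ζ ⤳ x' := by
    rw [specializes_iff_mem_closure, hζ.def]
    exact hx'cl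
  refine ⟨ζ, hζx', ?_⟩
  obtain ⟨z, hz⟩ := hZirr.nonempty
  have hzF' : z ∈ snd.base ⁻¹' {Groth.Agent.Lib.Helper21.DvrCrit.genPt A} :=
    connectedComponentIn_subset _ _ hz
  have hzF : snd.base z = Groth.Agent.Lib.Helper21.DvrCrit.genPt A := hzF'
  have hζz : ζ ⤳ z := by
    rw [specializes_iff_mem_closure, hζ.def]
    exact subset_closure hz
  have h3 : snd.base ζ ⤳ Groth.Agent.Lib.Helper21.DvrCrit.genPt A := by
    rw [← hzF]
    exact hζz.map snd.continuous
  intro hcon
  rw [hcon] at h3
  have h4 : Groth.Agent.Lib.Helper21.DvrCrit.genPt A ∈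
      closure ({IsLocalRing.closedPoint A} : Set ↥(Spec (CommRingCat.of A))) :=
    specializes_iff_mem_closure.mp h3
  have h5 : closure ({IsLocalRing.closedPoint A} : Set ↥(Spec (CommRingCat.of A))) =
      {IsLocalRing.closedPoint A} :=
    IsClosed.closure_eq (IsLocalRing.isClosed_singleton_closedPoint A)
  rw [h5] at h4
  exact Groth.Agent.Lib.Helper21.DvrCrit.genPt_ne_closedPoint A h4

end Groth.Agent.S3458
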