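import Groth.Statements.S1539
import Groth.Agent.Lib.Helper1.GeomIrrFinSep

set_option autoImplicit false
universe u
open CategoryTheory CategoryTheory.Limits AlgebraicGeometry
open Variety

namespace Groth.Agent.S1539

/-- If X_{k'} is irreducible for every finite separable field extension k' of k, then X is geometrically
irreducible over k. -/
theorem result (k : Type u) [Field k] (X : Scheme.{u}) [X.Over (Spec (CommRingCat.of k))]
    (h : ∀ (k' : Type u) [Field k'] [Algebra k k'] [FiniteDimensional k k'] [Algebra.IsSeparable k k'],
      IrreducibleSpace (Curv2.bc k X k')) :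
    GeometricallyIrreducible (X ↘ (Spec (CommRingCat.of k))) := by
  haveI : IrreducibleSpace ↥(pullback (X ↘ Spec (CommRingCat.of k))
      (Spec.map (CommRingCat.ofHom (algebraMap k (SeparableClosure k))))) :=
    Groth.Agent.Lib.Helper1.GeomIrrFinSep.irreducibleSpace_of_forall_finite
      (X ↘ Spec (CommRingCat.of k)) (SeparableClosure k) (fun F hF => by
        haveI := hF
        haveI : Algebra.IsSeparable k F :=
          Algebra.isSeparable_tower_bot_of_isSeparable k F (SeparableClosure k)
        exact h F)
  exact Groth.Agent.Lib.Helper1.GeomIrrSep.geometricallyIrreducible_of_sepClosed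
    (X ↘ Spec (CommRingCat.of k))
    (Spec.map (CommRingCat.ofHom (algebraMap k (SeparableClosure k))))

end Groth.Agent.S1539
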