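import Groth.Statements.S6370
import Groth.Agent.Lib.Helper21.KA4
-- import your own Groth.Agent.* helpers here

set_option autoImplicit false
universe u
open CAlg

namespace Groth.Agent.S6370

/-- For a one-dimensional Noetherian domain A with fraction field K, a finite field extension L of K
(separable or not) and B the integral closure of A in L: B is a Dedekind domain, Spec B → Spec A is
surjective and has finite fibres, and at every maximal ideal Q of B the residue field B/Q is finite
over A/(Q ∩ A). -/
theorem result (A K L B : Type u) [CommRing A] [IsDomain A]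
    [IsNoetherianRing A] (hdim : ringKrullDim A = 1) [Field K] [Algebra A K] [IsFractionRing A K]
    [Field L] [Algebra K L] [FiniteDimensional K L] [Algebra A L] [IsScalarTower A K L]
    [CommRing B] [IsDomain B] [Algebra A B] [Algebra B L] [IsScalarTower A B L] [IsIntegralClosure B A L] :
    IsDedekindDomain B ∧ Function.Surjective (PrimeSpectrum.comap (algebraMap A B)) ∧
      (∀ p : PrimeSpectrum A, (PrimeSpectrum.comap (algebraMap A B) ⁻¹' {p}).Finite) ∧
      ∀ Q : Ideal B, Q.IsMaximal → Module.Finite (A ⧸ Q.comap (algebraMap A B)) (B ⧸ Q) := by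
  classical
  have hKD : Ring.KrullDimLE 1 A := Ring.krullDimLE_iff.mpr (le_of_eq hdim)
  have hinjBL : Function.Injective (algebraMap B L) :=
    IsIntegralClosure.algebraMap_injective B A L
  have hBN : IsNoetherianRing B :=
    Groth.Agent.Lib.Helper21.KA.isNoetherianRing_of_injective A K L B hinjBL
  have hBKD : Ring.KrullDimLE 1 B :=
    Groth.Agent.Lib.Helper21.KA.krullDimLE_one_of_injective A K L B hinjBL
  have hFr : IsFractionRing B L := IsIntegralClosure.isFractionRing_of_finite_extension A K L B
  have hint : Algebra.IsIntegral A B := IsIntegralClosure.isIntegral_algebra A L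
  have hinjAL : Function.Injective (algebraMap A L) := by
    rw [IsScalarTower.algebraMap_eq A K L]
    exact (algebraMap K L).injective.comp (IsFractionRing.injective A K)
  have hinjAB : Function.Injective (algebraMap A B) := by
    rw [IsScalarTower.algebraMap_eq A B L] at hinjAL
    exact Function.Injective.of_comp hinjAL
  have hdimB : Ring.DimensionLEOne B :=
    ⟨fun hp0 hp => (Ring.krullDimLE_one_iff_of_noZeroDivisors.mp hBKD) _ hp0 hp⟩
  have hDed : IsDedekindDomain B :=
    { hBN, hdimB,
      (isIntegrallyClosed_iff L).mpr fun {x} hx =>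
        ⟨IsIntegralClosure.mk' B x (isIntegral_trans (R := A) _ hx),
          IsIntegralClosure.algebraMap_mk' _ _ _⟩ with }
  -- finite length of `B/xB`
  have hquot : ∀ x : A, x ≠ 0 →
      IsFiniteLength A (B ⧸ Ideal.span {algebraMap A B x}) := fun x hx =>
    Module.length_ne_top_iff.mp
      (Groth.Agent.Lib.Helper21.KA.length_quotient_span_algebraMap_ne_top A K L B hinjBL x hx)
  refine ⟨hDed, ?_, ?_, ?_⟩
  · intro p
    have hker : RingHom.ker (algebraMap A B) ≤ p.asIdeal := by
      rw [(RingHom.injective_iff_ker_eq_bot _).mp hinjAB]; exact bot_le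
    obtain ⟨Q, hQ, hQp⟩ := Ideal.exists_ideal_over_prime_of_isIntegral_of_isDomain p.asIdeal hker
    exact ⟨⟨Q, hQ⟩, PrimeSpectrum.ext hQp⟩
  · intro p
    by_cases hp0 : p.asIdeal = ⊥
    · refine Set.Finite.subset (Set.finite_singleton (⊥ : PrimeSpectrum B)) ?_
      intro Q hQ
      have hQ' : Q.asIdeal.comap (algebraMap A B) = ⊥ := by
        have := congrArg PrimeSpectrum.asIdeal (Set.mem_singleton_iff.mp hQ)
        rw [hp0] at this
        exact this
      have := Ideal.eq_bot_of_comap_eq_bot hQ'
      exact PrimeSpectrum.ext this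
    · obtain ⟨x, hxp, hx0⟩ := Submodule.exists_mem_ne_zero_of_ne_bot hp0
      let J : Ideal B := Ideal.span {algebraMap A B x}
      have hfin := hquot x hx0
      have hart : IsArtinian A (B ⧸ J) := (isFiniteLength_iff_isNoetherian_isArtinian.mp hfin).2
      have hartB : IsArtinian B (B ⧸ J) := isArtinian_of_tower A hart
      have hartring : IsArtinianRing (B ⧸ J) :=
        isArtinian_of_tower B (inferInstance : IsArtinian B (B ⧸ J))
      have hfinSpec : Finite (PrimeSpectrum (B ⧸ J)) := inferInstance
      refine Set.Finite.subset (Set.finite_range (PrimeSpectrum.comap (Ideal.Quotient.mk J))) ?_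
      intro Q hQ
      rw [range_comap_of_surjective _ _ Ideal.Quotient.mk_surjective, Ideal.mk_ker,
        PrimeSpectrum.mem_zeroLocus, SetLike.coe_subset_coe, Ideal.span_singleton_le_iff_mem]
      have := congrArg PrimeSpectrum.asIdeal (Set.mem_singleton_iff.mp hQ)
      have hx : x ∈ Q.asIdeal.comap (algebraMap A B) := by
        change x ∈ (PrimeSpectrum.comap (algebraMap A B) Q).asIdeal
        rw [this]; exact hxp
      exact hx
  · intro Q hQ
    have hQ0 : Q ≠ ⊥ := by
      rintro rfl
      have hBf : IsField B := Ring.isField_iff_maximal_bot.mpr hQ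
      have hAf : IsField A := isField_of_isIntegral_of_isField hinjAB hBf
      have := ringKrullDim_eq_zero_of_isField hAf
      rw [hdim] at this
      exact one_ne_zero this
    have hP0 : Q.comap (algebraMap A B) ≠ ⊥ := fun h0 => hQ0 (Ideal.eq_bot_of_comap_eq_bot h0)
    obtain ⟨x, hxP, hx0⟩ := Submodule.exists_mem_ne_zero_of_ne_bot hP0
    let J : Ideal B := Ideal.span {algebraMap A B x}
    have hJQ : J ≤ Q := by
      rw [Ideal.span_singleton_le_iff_mem]; exact hxP
    have hfin := hquot x hx0
    have hnoeth : IsNoetherian A (B ⧸ J) := (isFiniteLength_iff_isNoetherian_isArtinian.mp hfin).1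
    have hfg : Module.Finite A (B ⧸ J) := inferInstance
    let π : (B ⧸ J) →ₐ[A] (B ⧸ Q) := Ideal.Quotient.factorₐ A hJQ
    have hπ : Function.Surjective π := Ideal.Quotient.factor_surjective hJQ
    have hfgQ : Module.Finite A (B ⧸ Q) := Module.Finite.of_surjective π.toLinearMap hπ
    exact Module.Finite.of_restrictScalars_finite A (A ⧸ Q.comap (algebraMap A B)) (B ⧸ Q)

end Groth.Agent.S6370
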