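import Groth.Statements.S1640
import Groth.Agent.Lib.Helper21.KA11
-- import your own Groth.Agent.* helpers here

set_option autoImplicit false
universe u
open Variety

namespace Groth.Agent.S1640

/-- Let K be a field, A ⊆ K a subring with fraction field K, and B_1, …, B_r ⊆ K Noetherian
one-dimensional subrings with finitely many maximal ideals and fraction field K, such that for each
i the subring generated by A and B_i is all of K. Then some nonzero x ∈ A has x⁻¹ lying in B_i and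
in the Jacobson radical of B_i for every i. -/
theorem result (K : Type u) [Field K] (A : Subring K) [IsFractionRing A K]
    (r : ℕ) (B : Fin r → Subring K) [∀ i, IsNoetherianRing (B i)] [∀ i, IsFractionRing (B i) K]
    (hdim : ∀ i, ringKrullDim (B i) = 1) (hsl : ∀ i, Finite (MaximalSpectrum (B i)))
    (hgen : ∀ i, A ⊔ B i = ⊤) :
    ∃ x : K, x ∈ A ∧ x ≠ 0 ∧ ∀ i, ∃ hx : x⁻¹ ∈ B i, (⟨x⁻¹, hx⟩ : B i) ∈ (⊥ : Ideal (B i)).jacobson := by
  classical
  have hKD : ∀ i, Ring.KrullDimLE 1 (B i) := fun i =>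
    Ring.krullDimLE_iff.mpr (le_of_eq (hdim i))
  have hfacts := fun i => Groth.Agent.Lib.Helper21.KA.normalization_facts (B i) K (hdim i)
  haveI hDed : ∀ i, IsDedekindDomain (integralClosure (B i) K) := fun i => (hfacts i).1
  have hnf : ∀ i, ¬ IsField (integralClosure (B i) K) := fun i => (hfacts i).2.1
  haveI hfinM : ∀ i, Finite (MaximalSpectrum (integralClosure (B i) K)) := fun i =>
    (hfacts i).2.2 (hsl i)
  haveI hfinH : ∀ i, Finite (IsDedekindDomain.HeightOneSpectrum (integralClosure (B i) K)) :=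
    fun i => Groth.Agent.Lib.Helper21.KA.finite_heightOneSpectrum_of_finite_maximalSpectrum _
  let ι := Σ i : Fin r, IsDedekindDomain.HeightOneSpectrum (integralClosure (B i) K)
  haveI : Finite ι := inferInstance
  haveI : Fintype ι := Fintype.ofFinite ι
  let w : ι → Valuation K (WithZero (Multiplicative ℤ)) := fun p => p.2.valuation K
  have hw : ∀ p ∈ (Finset.univ : Finset ι), ∃ a ∈ A, 1 < w p a := by
    rintro ⟨i, v⟩ -
    refine Groth.Agent.Lib.Helper21.KA.exists_one_lt_valuation_of_sup_eq_top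
      (integralClosure (B i) K) K A ?_ v
    rw [eq_top_iff, ← hgen i]
    refine sup_le_sup_left ?_ A
    intro b hb
    exact ⟨algebraMap (B i) (integralClosure (B i) K) ⟨b, hb⟩, rfl⟩
  obtain ⟨x, hxA, hx0, hx⟩ :=
    Groth.Agent.Lib.Helper21.KA.exists_forall_one_lt_valuation A Finset.univ w hw
  let b : K := x⁻¹
  have hbv : ∀ i (v : IsDedekindDomain.HeightOneSpectrum (integralClosure (B i) K)),
      v.valuation K b < 1 := by
    intro i v
    have h1 := hx ⟨i, v⟩ (Finset.mem_univ _)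
    change 1 < v.valuation K x at h1
    change v.valuation K x⁻¹ < 1
    rw [map_inv₀]
    exact inv_lt_one_of_one_lt₀ h1
  have hi : ∀ i, ∃ b' : integralClosure (B i) K, (b' : K) = b ∧
      (∀ 𝔑 : Ideal (integralClosure (B i) K), 𝔑.IsMaximal → b' ∈ 𝔑) ∧
      ∃ n : ℕ, ∀ m, n ≤ m → b ^ m ∈ B i := by
    intro i
    obtain ⟨b', hb', hb'J⟩ := Groth.Agent.Lib.Helper21.KA.mem_maximal_of_valuation_lt_one
      (integralClosure (B i) K) K (hnf i) b (hbv i)
    replace hb' : (b' : K) = b := hb'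
    have hbint : IsIntegral (B i) b := by rw [← hb']; exact b'.2
    have hJ : ∀ 𝔑 : Ideal (integralClosure (B i) K), 𝔑.IsMaximal →
        (⟨b, hbint⟩ : integralClosure (B i) K) ∈ 𝔑 := by
      intro 𝔑 h𝔑
      have : (⟨b, hbint⟩ : integralClosure (B i) K) = b' := Subtype.ext hb'.symm
      rw [this]; exact hb'J 𝔑 h𝔑
    obtain ⟨n, hn⟩ := Groth.Agent.Lib.Helper21.KA.exists_forall_pow_mul_mem_range (B i) K b 1
      hbint isIntegral_one hJ
    refine ⟨b', hb', hb'J, n, fun m hm => ?_⟩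
    obtain ⟨c, hc⟩ := hn m hm
    rw [mul_one] at hc
    rw [← hc]
    exact c.2
  choose b' hb' hb'J nf hnf' using hi
  let N : ℕ := Finset.univ.sup nf + 1
  have hNle : ∀ i, nf i ≤ N := fun i =>
    (Finset.le_sup (f := nf) (Finset.mem_univ i)).trans (Nat.le_succ _)
  refine ⟨x ^ N, A.pow_mem hxA N, pow_ne_zero N hx0, fun i => ?_⟩
  have hmem : (x ^ N)⁻¹ ∈ B i := by
    rw [← inv_pow]
    exact hnf' i N (hNle i)
  refine ⟨hmem, ?_⟩
  rw [Ideal.jacobson, Ideal.mem_sInf]
  rintro 𝔪 ⟨-, h𝔪⟩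
  have hinj : Function.Injective (algebraMap (B i) (integralClosure (B i) K)) := by
    have h1 : Function.Injective (algebraMap (B i) K) := IsFractionRing.injective (B i) K
    rw [IsScalarTower.algebraMap_eq (B i) (integralClosure (B i) K) K, RingHom.coe_comp] at h1
    exact Function.Injective.of_comp h1
  have hker : RingHom.ker (algebraMap (B i) (integralClosure (B i) K)) ≤ 𝔪 := by
    rw [(RingHom.injective_iff_ker_eq_bot _).mp hinj]; exact bot_le
  obtain ⟨𝔑, h𝔑max, h𝔑⟩ := Ideal.exists_ideal_over_maximal_of_isIntegral 𝔪 hker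
  have h1 : (b' i) ^ N ∈ 𝔑 := Ideal.pow_mem_of_mem 𝔑 (hb'J i 𝔑 h𝔑max) N (Nat.succ_pos _)
  have h2 : algebraMap (B i) (integralClosure (B i) K) ⟨(x ^ N)⁻¹, hmem⟩ = (b' i) ^ N := by
    apply Subtype.ext
    change (x ^ N)⁻¹ = ((b' i : K)) ^ N
    rw [hb' i, inv_pow]
  rw [← h𝔑]
  change algebraMap (B i) (integralClosure (B i) K) ⟨(x ^ N)⁻¹, hmem⟩ ∈ 𝔑
  rw [h2]
  exact h1

end Groth.Agent.S1640
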