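import Groth.Statements.S1419
import Mathlib
import Groth.Agent.Lib.Helper6.Wt6
-- import your own Groth.Agent.* helpers here

set_option autoImplicit false
universe u
open FlatMor

namespace Groth.Agent.S1419

open AlgebraicGeometry CategoryTheory Limits in
/-- Let f be locally quasi-finite with a weighting w, and let f' : X' → Y' be a base change of f with
projection h : X' → X. Then w ∘ h is a weighting of f'. -/
theorem result {X Y : Scheme.{u}} (f : X ⟶ Y) [LocallyQuasiFinite f] [LocallyOfFiniteType f] (w : ↑X → ℤ) (hw : MoreMor.IsWeighting f w)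
    {X' Y' : Scheme.{u}} (f' : X' ⟶ Y') (h : X' ⟶ X) (g : Y' ⟶ Y) (hc : IsPullback h f' f g) :
    MoreMor.IsWeighting f' (w ∘ ⇑h) := by
  intro V' g' _ U' hfin
  haveI := hfin
  have h1 : (MoreMor.fibreIntegral (U'.ι ≫ Limits.pullback.snd f' g')
      (fun u => (w ∘ ⇑h) (Limits.pullback.fst f' g' (U'.ι u)))) =
      Groth.Agent.Lib.Helper6.Wt.ptSum (Limits.pullback.snd f' g')
        (w ∘ ⇑(Limits.pullback.fst f' g' ≫ h)) U' := by
    funext t
    exact Groth.Agent.Lib.Helper6.Wt.fibreIntegral_opens (Limits.pullback.snd f' g')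
      (w ∘ ⇑(Limits.pullback.fst f' g' ≫ h)) U' t
  rw [h1]
  exact Groth.Agent.Lib.Helper6.Wt.locConst_of_isPullback f w hw (g' ≫ g)
    (Limits.pullback.fst f' g' ≫ h) (Limits.pullback.snd f' g')
    ((CategoryTheory.IsPullback.of_hasPullback f' g').paste_horiz hc) U'

end Groth.Agent.S1419
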