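import Groth.Statements.S7185
import Mathlib.Tactic
-- import your own Groth.Agent.* helpers here

set_option autoImplicit false
universe u
open FlatMor

namespace Groth.Agent.S7185

open AlgebraicGeometry CategoryTheory Limits


theorem finSep_eq {A B V : Scheme.{u}} (e : A ≅ B) (πB : B ⟶ V) (a : A) :
    (letI := ((e.hom ≫ πB).residueFieldMap a).hom.toAlgebra
     Field.finSepDegree (V.residueField ((e.hom ≫ πB) a)) (A.residueField a)) =
    (letI := (πB.residueFieldMap (e.hom a)).hom.toAlgebra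
     Field.finSepDegree (V.residueField (πB (e.hom a))) (B.residueField (e.hom a))) := by
  letI alg2 : Algebra (V.residueField (πB (e.hom a))) (B.residueField (e.hom a)) :=
    (πB.residueFieldMap (e.hom a)).hom.toAlgebra
  letI alg1 : Algebra (V.residueField (πB (e.hom a))) (A.residueField a) :=
    ((e.hom ≫ πB).residueFieldMap a).hom.toAlgebra
  let r : B.residueField (e.hom a) ≃+* A.residueField a :=
    (asIso (e.hom.residueFieldMap a)).commRingCatIsoToRingEquiv
  let i : B.residueField (e.hom a) ≃ₐ[V.residueField (πB (e.hom a))] A.residueField a :=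
    { r with
      commutes' := by
        intro k
        show (e.hom.residueFieldMap a) ((πB.residueFieldMap (e.hom a)) k) =
          ((e.hom ≫ πB).residueFieldMap a) k
        rw [Scheme.residueFieldMap_comp]
        rfl }
  exact (Field.finSepDegree_eq_of_equiv _ _ _ i).symm

theorem fibreIntegral_iso {A B V : Scheme.{u}} (e : A ≅ B) (πB : B ⟶ V) (wB : B → ℤ) (v : V) :
    MoreMor.fibreIntegral (e.hom ≫ πB) (fun a => wB (e.hom a)) v = MoreMor.fibreIntegral πB wB v := by
  unfold MoreMor.fibreIntegral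
  let σ : {a : A // (e.hom ≫ πB) a = v} → {b : B // πB b = v} := fun a => ⟨e.hom a.1, a.2⟩
  have hσ : Function.Bijective σ := by
    constructor
    · intro a a' h
      have h1 : e.hom a.1 = e.hom a'.1 := congrArg Subtype.val h
      have h2 := congrArg e.inv h1
      rw [Scheme.hom_inv_apply, Scheme.hom_inv_apply] at h2
      exact Subtype.ext h2
    · intro b
      refine ⟨⟨e.inv b.1, ?_⟩, ?_⟩
      · show πB (e.hom (e.inv b.1)) = v
        rw [Scheme.inv_hom_apply]
        exact b.2
      · apply Subtype.ext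
        show e.hom (e.inv b.1) = b.1
        rw [Scheme.inv_hom_apply]
  refine finsum_eq_of_bijective σ hσ ?_
  intro a
  show wB (e.hom a.1) * _ = wB (e.hom a.1) * _
  congr 2
  exact finSep_eq e πB a.1

theorem fibreIntegral_iso' {A B V : Scheme.{u}} (e : A ≅ B) (πA : A ⟶ V) (πB : B ⟶ V)
    (wA : A → ℤ) (wB : B → ℤ) (hπ : πA = e.hom ≫ πB) (hw : ∀ a, wA a = wB (e.hom a)) :
    MoreMor.fibreIntegral πA wA = MoreMor.fibreIntegral πB wB := by
  subst hπ
  obtain rfl : wA = fun a => wB (e.hom a) := funext hw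
  funext v
  exact fibreIntegral_iso e πB wB v

open AlgebraicGeometry CategoryTheory Limits in
/-- The restriction of a weighting of a locally quasi-finite morphism f : X → Y (locally of finite type
with discrete fibres) to an open subscheme X' of X is a weighting of X' → Y. -/
theorem result {X Y : Scheme.{u}} (f : X ⟶ Y) [LocallyQuasiFinite f] [LocallyOfFiniteType f] (w : X → ℤ)
    (hw : MoreMor.IsWeighting f w) (X' : X.Opens) : MoreMor.IsWeighting (X'.ι ≫ f) (fun x => w (X'.ι x)) := by
  intro V g _ U hfin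
  obtain ⟨j, hj⟩ : ∃ j : pullback (X'.ι ≫ f) g ⟶ pullback f g, j =
    (pullbackRightPullbackFstIso f g X'.ι).inv ≫ pullback.snd X'.ι (pullback.fst f g) := ⟨_, rfl⟩
  have hj1 : j ≫ pullback.fst f g = pullback.fst (X'.ι ≫ f) g ≫ X'.ι := by
    simp only [hj, Category.assoc, ← pullback.condition, pullbackRightPullbackFstIso_inv_fst_assoc]
  have hj2 : j ≫ pullback.snd f g = pullback.snd (X'.ι ≫ f) g := by
    simp only [hj, Category.assoc, pullbackRightPullbackFstIso_inv_snd_snd]
  haveI : IsOpenImmersion j := by rw [hj]; infer_instance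
  obtain ⟨U₂, hU₂⟩ : ∃ U₂ : (pullback f g).Opens, U₂ = j ''ᵁ U := ⟨_, rfl⟩
  obtain ⟨e, he⟩ : ∃ e : (U : Scheme.{u}) ≅ (U₂ : Scheme.{u}), e.hom ≫ U₂.ι = U.ι ≫ j := by
    subst hU₂
    exact ⟨j.isoImage U, j.isoImage_hom_ι U⟩
  have hπ : U.ι ≫ pullback.snd (X'.ι ≫ f) g = e.hom ≫ (U₂.ι ≫ pullback.snd f g) := by
    rw [← Category.assoc, he, Category.assoc, hj2]
  have hfin2 : IsFinite (U₂.ι ≫ pullback.snd f g) := by
    have : U₂.ι ≫ pullback.snd f g = e.inv ≫ (U.ι ≫ pullback.snd (X'.ι ≫ f) g) := by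
      rw [hπ, Iso.inv_hom_id_assoc]
    rw [this]
    haveI := hfin
    infer_instance
  have h2 := hw V g U₂ hfin2
  rw [fibreIntegral_iso' e _ (U₂.ι ≫ pullback.snd f g) _
    (fun u₂ => w (pullback.fst f g (U₂.ι u₂))) hπ ?_]
  · exact h2
  · intro u
    show w ((U.ι ≫ pullback.fst (X'.ι ≫ f) g ≫ X'.ι) u) = w ((e.hom ≫ U₂.ι ≫ pullback.fst f g) u)
    rw [← hj1, ← Category.assoc e.hom, he, Category.assoc]

end Groth.Agent.S7185
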