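import Groth.Statements.S3556
-- import your own Groth.Agent.* helpers here

set_option autoImplicit false
universe u
open CategoryTheory CategoryTheory.Limits AlgebraicGeometry
open EGA2

namespace Groth.Agent.S3556

theorem isReduced_away {R A : Type u} [CommRing R] [CommRing A] [Algebra R A]
    (𝒜 : ℕ → Submodule R A) [GradedAlgebra 𝒜]
    (hred : ∀ f ∈ (HomogeneousIdeal.irrelevant 𝒜).toIdeal, IsNilpotent f → f = 0)
    (f : A) {m : ℕ} (hm : 0 < m) (hf : f ∈ 𝒜 m) :
    _root_.IsReduced (HomogeneousLocalization.Away 𝒜 f) := by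
  constructor
  intro x hx
  obtain ⟨k, hk⟩ := hx
  obtain ⟨n, a, ha, rfl⟩ := HomogeneousLocalization.Away.mk_surjective 𝒜 hf x
  apply HomogeneousLocalization.val_injective
  have h1 := congrArg HomogeneousLocalization.val hk
  rw [HomogeneousLocalization.val_pow, HomogeneousLocalization.Away.val_mk,
    HomogeneousLocalization.val_zero, Localization.mk_pow, Localization.mk_eq_mk',
    IsLocalization.mk'_eq_zero_iff] at h1
  obtain ⟨⟨_, j, rfl⟩, hj⟩ := h1
  simp only at hj
  have hfa : f * a ∈ (HomogeneousIdeal.irrelevant 𝒜).toIdeal :=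
    HomogeneousIdeal.mem_irrelevant_of_mem 𝒜 (i := m + n • m) (by omega)
      (SetLike.mul_mem_graded hf ha)
  have hnil : IsNilpotent (f * a) := by
    refine ⟨j + k, ?_⟩
    rw [mul_pow, pow_add, pow_add]
    calc f ^ j * f ^ k * (a ^ j * a ^ k) = (f ^ j * a ^ k) * (f ^ k * a ^ j) := by ring
      _ = 0 := by rw [hj, zero_mul]
  have h0 := hred _ hfa hnil
  rw [HomogeneousLocalization.Away.val_mk, HomogeneousLocalization.val_zero,
    Localization.mk_eq_mk', IsLocalization.mk'_eq_zero_iff]
  exact ⟨⟨f, 1, pow_one f⟩, h0⟩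

/-- Let S be a graded ring which is essentially reduced, i.e. its irrelevant ideal S_+ contains no
nonzero nilpotent element. Then Proj S is a reduced scheme. -/
theorem result {R A : Type u} [CommRing R] [CommRing A] [Algebra R A] (𝒜 : ℕ → Submodule R A) [GradedAlgebra 𝒜]
    (hred : ∀ f ∈ (HomogeneousIdeal.irrelevant 𝒜).toIdeal, IsNilpotent f → f = 0) :
    AlgebraicGeometry.IsReduced (Proj 𝒜) := by
  have : ∀ i, AlgebraicGeometry.IsReduced ((Proj.affineOpenCover 𝒜).openCover.X i) := by
    intro i
    have := isReduced_away 𝒜 hred i.2.1 i.1.2 i.2.2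
    exact inferInstanceAs (AlgebraicGeometry.IsReduced (Spec (.of (HomogeneousLocalization.Away 𝒜 i.2.1))))
  exact AlgebraicGeometry.IsReduced.of_openCover _ (Proj.affineOpenCover 𝒜).openCover

end Groth.Agent.S3556
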