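import Groth.Statements.S3558
-- import your own Groth.Agent.* helpers here

set_option autoImplicit false
universe u
open CategoryTheory CategoryTheory.Limits AlgebraicGeometry
open EGA2

namespace Groth.Agent.S3558

/-- homogeneous positive-degree element is nilpotent if Proj empty -/
theorem isNilpotent_of_isEmpty {R A : Type u} [CommRing R] [CommRing A] [Algebra R A]
    (𝒜 : ℕ → Submodule R A) [GradedAlgebra 𝒜] [IsEmpty (Proj 𝒜)]
    (f : A) {m : ℕ} (hm : 0 < m) (hf : f ∈ 𝒜 m) : IsNilpotent f := by
  have h1 : IsEmpty (Spec (.of <| HomogeneousLocalization.Away 𝒜 f)) :=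
    Function.isEmpty (Proj.awayι 𝒜 f hf hm).base
  have h2 : Subsingleton (HomogeneousLocalization.Away 𝒜 f) := by
    by_contra h
    rw [not_subsingleton_iff_nontrivial] at h
    exact h1.false (Classical.arbitrary (PrimeSpectrum _))
  have h3 : Subsingleton (Localization.Away f) := by
    have : (1 : HomogeneousLocalization.Away 𝒜 f) = 0 := Subsingleton.elim _ _
    have := congrArg HomogeneousLocalization.val this
    rw [HomogeneousLocalization.val_one, HomogeneousLocalization.val_zero] at this
    exact subsingleton_of_zero_eq_one this.symm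
  rw [IsLocalization.subsingleton_iff (M := Submonoid.powers f)] at h3
  obtain ⟨n, hn⟩ := h3
  exact ⟨n, hn⟩

/-- For a graded ring S, Proj S is empty if and only if every element of the irrelevant ideal S_+ is
nilpotent. -/
theorem result {R A : Type u} [CommRing R] [CommRing A] [Algebra R A] (𝒜 : ℕ → Submodule R A) [GradedAlgebra 𝒜] :
    IsEmpty (Proj 𝒜) ↔ ∀ f ∈ (HomogeneousIdeal.irrelevant 𝒜).toIdeal, IsNilpotent f := by
  classical
  constructor
  · intro h f hf
    rw [← DirectSum.sum_support_decompose 𝒜 f]
    refine isNilpotent_sum (fun i _ => ?_)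
    by_cases hi : i = 0
    · subst hi
      have : (DirectSum.decompose 𝒜 f 0 : A) = 0 := hf
      rw [this]
      exact IsNilpotent.zero
    · exact isNilpotent_of_isEmpty 𝒜 _ (Nat.pos_of_ne_zero hi) (SetLike.coe_mem _)
  · intro h
    refine ⟨fun x => ?_⟩
    apply x.not_irrelevant_le
    intro f hf
    obtain ⟨n, hn⟩ := h f hf
    have : f ^ n ∈ x.asHomogeneousIdeal.toIdeal := by rw [hn]; exact zero_mem _
    exact x.isPrime.mem_of_pow_mem n this

end Groth.Agent.S3558
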