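import Groth.Statements.S3557
import Groth.Agent.S3556
import Groth.Agent.S3558

set_option autoImplicit false
universe u
open CategoryTheory CategoryTheory.Limits AlgebraicGeometry
open EGA2

namespace Groth.Agent.S3557

theorem exists_mem_basicOpen_of_not_isNilpotent {R A : Type u} [CommRing R] [CommRing A] [Algebra R A]
    (𝒜 : ℕ → Submodule R A) [GradedAlgebra 𝒜]
    (f : A) {m : ℕ} (hm : 0 < m) (hf : f ∈ 𝒜 m) (hn : ¬ IsNilpotent f) :
    ∃ x : Proj 𝒜, x ∈ Proj.basicOpen 𝒜 f := by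
  have h2 : Nontrivial (HomogeneousLocalization.Away 𝒜 f) := by
    rw [← not_subsingleton_iff_nontrivial]
    intro h2
    apply hn
    have h3 : Subsingleton (Localization.Away f) := by
      have : (1 : HomogeneousLocalization.Away 𝒜 f) = 0 := Subsingleton.elim _ _
      have := congrArg HomogeneousLocalization.val this
      rw [HomogeneousLocalization.val_one, HomogeneousLocalization.val_zero] at this
      exact subsingleton_of_zero_eq_one this.symm
    rw [IsLocalization.subsingleton_iff (M := Submonoid.powers f)] at h3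
    obtain ⟨n, hn⟩ := h3
    exact ⟨n, hn⟩
  let z : Spec (.of <| HomogeneousLocalization.Away 𝒜 f) :=
    Classical.arbitrary (PrimeSpectrum _)
  refine ⟨(Proj.awayι 𝒜 f hf hm).base z, ?_⟩
  rw [← Proj.opensRange_awayι 𝒜 f hf hm]
  exact ⟨z, rfl⟩

theorem exists_homogeneous_basicOpen {R A : Type u} [CommRing R] [CommRing A] [Algebra R A]
    (𝒜 : ℕ → Submodule R A) [GradedAlgebra 𝒜] (x : Proj 𝒜) (V : Set (Proj 𝒜)) (hV : IsOpen V)
    (hxV : x ∈ V) :
    ∃ (u : A) (m : ℕ), 0 < m ∧ u ∈ 𝒜 m ∧ x ∈ Proj.basicOpen 𝒜 u ∧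
      (Proj.basicOpen 𝒜 u : Set (Proj 𝒜)) ⊆ V := by
  classical
  obtain ⟨_, ⟨_, ⟨s, rfl⟩, rfl⟩, hxs, hsV⟩ :=
    (Proj.isBasis_basicOpen 𝒜).exists_subset_of_mem_open hxV hV
  have hxs' : x ∈ Proj.basicOpen 𝒜 s := hxs
  rw [Proj.basicOpen_eq_iSup_proj, TopologicalSpace.Opens.mem_iSup] at hxs'
  obtain ⟨i, hi⟩ := hxs'
  have hiV : (Proj.basicOpen 𝒜 (GradedRing.proj 𝒜 i s) : Set (Proj 𝒜)) ⊆ V := by
    refine subset_trans ?_ hsV
    intro y hy
    have : y ∈ Proj.basicOpen 𝒜 s := by
      rw [Proj.basicOpen_eq_iSup_proj, TopologicalSpace.Opens.mem_iSup]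
      exact ⟨i, hy⟩
    exact this
  have hx := (Proj.affineOpenCover 𝒜).covers x
  set t := (Proj.affineOpenCover 𝒜).idx x
  have hxt : x ∈ Proj.basicOpen 𝒜 t.2.1 := by
    rw [← Proj.opensRange_awayι 𝒜 _ t.2.2 t.1.2]
    exact hx
  refine ⟨GradedRing.proj 𝒜 i s * t.2.1, i + t.1, Nat.add_pos_right _ t.1.2,
    SetLike.mul_mem_graded (SetLike.coe_mem _) t.2.2, ?_, ?_⟩
  · rw [Proj.basicOpen_mul]
    exact ⟨hi, hxt⟩
  · refine subset_trans ?_ hiV
    rw [Proj.basicOpen_mul]
    exact Set.inter_subset_left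

theorem not_isNilpotent_of_mem_basicOpen {R A : Type u} [CommRing R] [CommRing A] [Algebra R A]
    (𝒜 : ℕ → Submodule R A) [GradedAlgebra 𝒜] (x : Proj 𝒜) (u : A)
    (hxu : x ∈ Proj.basicOpen 𝒜 u) : ¬ IsNilpotent u := by
  rintro ⟨n, hn⟩
  rw [Proj.mem_basicOpen] at hxu
  apply hxu
  have : u ^ n ∈ x.asHomogeneousIdeal.toIdeal := by rw [hn]; exact zero_mem _
  exact x.isPrime.mem_of_pow_mem n this

/-- Let S be a graded ring which is essentially reduced (S_+ contains no nonzero nilpotent). Then Proj S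
is an integral scheme if and only if S is essentially integral, i.e. S_+ is nonzero and the product
of two nonzero elements of S_+ is nonzero. -/
theorem result {R A : Type u} [CommRing R] [CommRing A] [Algebra R A] (𝒜 : ℕ → Submodule R A) [GradedAlgebra 𝒜]
    (hred : ∀ f ∈ (HomogeneousIdeal.irrelevant 𝒜).toIdeal, IsNilpotent f → f = 0) :
    AlgebraicGeometry.IsIntegral (Proj 𝒜) ↔
      ((∃ f ∈ (HomogeneousIdeal.irrelevant 𝒜).toIdeal, f ≠ 0) ∧
        ∀ f ∈ (HomogeneousIdeal.irrelevant 𝒜).toIdeal, ∀ g ∈ (HomogeneousIdeal.irrelevant 𝒜).toIdeal,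
          f * g = 0 → f = 0 ∨ g = 0) := by
  classical
  have hmemI : ∀ {u : A} {m : ℕ}, 0 < m → u ∈ 𝒜 m → u ∈ (HomogeneousIdeal.irrelevant 𝒜).toIdeal :=
    fun hm hu => HomogeneousIdeal.mem_irrelevant_of_mem 𝒜 hm hu
  constructor
  · intro hint
    have hne : Nonempty (Proj 𝒜) := inferInstance
    constructor
    · by_contra hcon
      push Not at hcon
      have : IsEmpty (Proj 𝒜) := (Groth.Agent.S3558.result 𝒜).mpr fun f hf => by
        rw [hcon f hf]; exact IsNilpotent.zero
      exact this.false hne.some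
    · intro f hf g hg hfg
      set η := genericPoint (Proj 𝒜) with hη
      have hgen : IsGenericPoint η Set.univ := genericPoint_spec _
      have hP : ∀ h ∈ η.asHomogeneousIdeal.toIdeal, h ∈ (HomogeneousIdeal.irrelevant 𝒜).toIdeal → h = 0 := by
        intro h hhP hhI
        rw [← DirectSum.sum_support_decompose 𝒜 h]
        refine Finset.sum_eq_zero fun i _ => ?_
        by_cases hi : i = 0
        · subst hi
          exact hhI
        · have hi' : 0 < i := Nat.pos_of_ne_zero hi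
          have hmem : (DirectSum.decompose 𝒜 h i : A) ∈ η.asHomogeneousIdeal.toIdeal :=
            η.asHomogeneousIdeal.isHomogeneous i hhP
          apply hred _ (hmemI hi' (SetLike.coe_mem _))
          by_contra hnil
          obtain ⟨y, hy⟩ := exists_mem_basicOpen_of_not_isNilpotent 𝒜 _ hi' (SetLike.coe_mem _) hnil
          have : η ∈ (Proj.basicOpen 𝒜 (DirectSum.decompose 𝒜 h i : A) : Set (Proj 𝒜)) :=
            (hgen.mem_open_set_iff (Proj.basicOpen 𝒜 _).isOpen).mpr ⟨y, trivial, hy⟩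
          exact (Proj.mem_basicOpen 𝒜 _ _).mp this hmem
      have : f * g ∈ η.asHomogeneousIdeal.toIdeal := by rw [hfg]; exact zero_mem _
      rcases η.isPrime.mem_or_mem this with h | h
      · exact Or.inl (hP f h hf)
      · exact Or.inr (hP g h hg)
  · rintro ⟨⟨f₀, hf₀, hf₀ne⟩, hdom⟩
    rw [isIntegral_iff_irreducibleSpace_and_isReduced]
    refine ⟨?_, Groth.Agent.S3556.result 𝒜 hred⟩
    have hne : Nonempty (Proj 𝒜) := by
      by_contra hcon
      rw [not_nonempty_iff] at hcon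
      exact hf₀ne (hred f₀ hf₀ ((Groth.Agent.S3558.result 𝒜).mp hcon f₀ hf₀))
    have hpre : PreirreducibleSpace (Proj 𝒜) := by
      constructor
      intro U V hU hV ⟨x, _, hxU⟩ ⟨y, _, hyV⟩
      obtain ⟨u, m, hm, hu, hxu, huU⟩ := exists_homogeneous_basicOpen 𝒜 x U hU hxU
      obtain ⟨v, n, hn, hv, hyv, hvV⟩ := exists_homogeneous_basicOpen 𝒜 y V hV hyV
      have hun := not_isNilpotent_of_mem_basicOpen 𝒜 x u hxu
      have hvn := not_isNilpotent_of_mem_basicOpen 𝒜 y v hyv
      have huv : ¬ IsNilpotent (u * v) := by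
        intro hnil
        have h0 := hred _ (hmemI (Nat.add_pos_left hm n) (SetLike.mul_mem_graded hu hv)) hnil
        rcases hdom u (hmemI hm hu) v (hmemI hn hv) h0 with h | h
        · exact hun (h ▸ IsNilpotent.zero)
        · exact hvn (h ▸ IsNilpotent.zero)
      obtain ⟨z, hz⟩ := exists_mem_basicOpen_of_not_isNilpotent 𝒜 (u * v)
        (Nat.add_pos_left hm n) (SetLike.mul_mem_graded hu hv) huv
      rw [Proj.basicOpen_mul] at hz
      exact ⟨z, trivial, huU hz.1, hvV hz.2⟩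
    exact { toPreirreducibleSpace := hpre, toNonempty := hne }

end Groth.Agent.S3557
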