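import Groth.Statements.S1556
import Groth.Agent.S4991
import Groth.Agent.Lib.Helper25.RegularSepSmooth
import Groth.Agent.Lib.Helper14.SchemeDim

set_option autoImplicit false
universe u
open CategoryTheory CategoryTheory.Limits AlgebraicGeometry
attribute [local instance] Curv2.resAlgebra
open Variety

namespace Groth.Agent.S1556

/-- Let X be a curve over k (integral, separated, of finite type, of dimension one) and x a closed point
whose residue field is separable over k. Then the local ring at x is a discrete valuation ring if
and only if x lies in the smooth locus of X → Spec k. -/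
theorem result (k : Type u) [Field k] (X : Scheme.{u}) [X.Over (Spec (CommRingCat.of k))] [IsIntegral X]
    [IsSeparated (X ↘ (Spec (CommRingCat.of k)))] [LocallyOfFinitePresentation (X ↘ (Spec (CommRingCat.of k)))] [QuasiCompact (X ↘ (Spec (CommRingCat.of k)))]
    (hdim : topologicalKrullDim X = 1) (x : X) (hx : IsClosed ({x} : Set X))
    [Algebra.IsSeparable k (X.residueField x)] :
    IsDiscreteValuationRing (X.presheaf.stalk x) ↔ x ∈ (X ↘ (Spec (CommRingCat.of k))).smoothLocus := by
  have : IsLocallyNoetherian X :=
    LocallyOfFiniteType.isLocallyNoetherian (X ↘ (Spec (CommRingCat.of k)))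
  have hNoeth : IsNoetherianRing (X.presheaf.stalk x) := inferInstance
  constructor
  · intro hdvr
    have reg : IsRegularLocalRing (X.presheaf.stalk x) := inferInstance
    let _ : Algebra k (X.presheaf.stalk x) := Curv2.stalkAlgebra k X x
    have halg : algebraMap k (X.presheaf.stalk x) =
        (Groth.Agent.Lib.Helper25.GrpTangent.τ ((X ↘ (Spec (CommRingCat.of k))) x) ≫
          (X ↘ (Spec (CommRingCat.of k))).stalkMap x).hom := by
      unfold Groth.Agent.Lib.Helper25.GrpTangent.τ
      rw [Category.assoc, Scheme.Hom.germ_stalkMap]
      rfl
    have hgr : Algebra.IsGeometricallyReduced k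
        (IsLocalRing.ResidueField (X.presheaf.stalk x)) := by
      have h1 := Groth.Agent.Lib.Helper25.RegularSepSmooth.isGeometricallyReduced_of_isSeparable k
        (X.residueField x)
      let g : IsLocalRing.ResidueField (X.presheaf.stalk x) →ₐ[k] X.residueField x :=
        { RingHom.id _ with commutes' := fun r => rfl }
      exact Algebra.IsGeometricallyReduced.of_injective g (fun a b h => h)
    exact Groth.Agent.Lib.Helper25.RegularSepSmooth.mem_smoothLocus_of_regular
      (X ↘ (Spec (CommRingCat.of k))) x halg
  · intro hsm
    have hN : IsLocallyNoetherian (Spec (CommRingCat.of k)) := inferInstance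
    have reg : IsRegularLocalRing (X.presheaf.stalk x) := by
      rw [Groth.Agent.S4991.result (X ↘ (Spec (CommRingCat.of k))) x
        ⟨(X ↘ (Spec (CommRingCat.of k))).smoothLocus, hsm,
          Groth.Agent.Lib.Helper13.smooth_ι_comp_of_le_smoothLocus _ _ le_rfl⟩]
      have hτ := Groth.Agent.Lib.Helper25.GrpTangent.bijective_τ
        ((X ↘ (Spec (CommRingCat.of k))) x)
      exact IsRegularLocalRing.of_ringEquiv (RingEquiv.ofBijective _ hτ)
    have hd : ringKrullDim (X.presheaf.stalk x) ≤ 1 := by
      rw [← hdim, Groth.Agent.Lib.Helper14.AS.topologicalKrullDim_eq_iSup_stalk]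
      exact le_iSup (fun y : X => ringKrullDim (X.presheaf.stalk y)) x
    have hfr : Module.finrank (IsLocalRing.ResidueField (X.presheaf.stalk x))
        (IsLocalRing.CotangentSpace (X.presheaf.stalk x)) ≤ 1 := by
      have h1 := (IsRegularLocalRing.iff_finrank_cotangentSpace (X.presheaf.stalk x)).mp reg
      rw [← h1] at hd
      exact_mod_cast hd
    have hpid : IsPrincipalIdealRing (X.presheaf.stalk x) :=
      ((tfae_of_isNoetherianRing_of_isLocalRing_of_isDomain (X.presheaf.stalk x)).out 0 5).mpr hfr
    have hne : IsLocalRing.maximalIdeal (X.presheaf.stalk x) ≠ ⊥ := by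
      intro h0
      have hfield : IsField (X.presheaf.stalk x) :=
        IsLocalRing.isField_iff_maximalIdeal_eq.mpr h0
      have hss : Subsingleton (Spec (X.presheaf.stalk x)) := by
        let _ := hfield.toField
        exact (inferInstance : Subsingleton (PrimeSpectrum (X.presheaf.stalk x)))
      have hgen : genericPoint X ⤳ x := genericPoint_specializes x
      obtain ⟨p, hp⟩ : genericPoint X ∈ Set.range (X.fromSpecStalk x) := by
        rw [Scheme.range_fromSpecStalk]
        exact hgen
      have hx' : X.fromSpecStalk x (IsLocalRing.closedPoint _) = x :=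
        Scheme.fromSpecStalk_closedPoint
      have hgx : genericPoint X = x := by
        rw [← hp, Subsingleton.elim p (IsLocalRing.closedPoint _)]
        exact hx'
      have h1 : closure ({x} : Set X) = Set.univ := by
        rw [← hgx]
        exact (genericPoint_spec X).def
      rw [hx.closure_eq] at h1
      have hall : ∀ y : X, y = x := fun y => by
        have : y ∈ ({x} : Set X) := h1 ▸ Set.mem_univ y
        exact this
      have h2 : topologicalKrullDim X ≤ 0 := by
        rw [Groth.Agent.Lib.Helper14.AS.topologicalKrullDim_eq_iSup_stalk]
        refine iSup_le fun y => ?_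
        rw [hall y]
        exact (ringKrullDim_eq_zero_of_isField hfield).le
      rw [hdim] at h2
      exact absurd h2 (by decide)
    exact { not_a_field' := hne }


end Groth.Agent.S1556
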