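import Groth.Statements.S1379
import Mathlib
import Groth.Agent.S1353
import Groth.Agent.Lib.Helper23.QFFlatSch
-- import your own Groth.Agent.* helpers here

set_option autoImplicit false
universe u
open FlatMor

namespace Groth.Agent.S1379

open AlgebraicGeometry CategoryTheory Limits MorphismProperty in

open AlgebraicGeometry CategoryTheory Limits in
/-- Let S₁ → S be flat, locally of finite presentation and surjective (an fppf cover by one morphism).
Then for every point s of S there are an étale morphism S' → S whose image contains s and a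
surjective, finite, flat morphism of finite presentation V → S' such that V → S factors through S₁
Zariski locally on V. -/
theorem result {S₁ S : Scheme.{u}} (g : S₁ ⟶ S) [Flat g] [LocallyOfFinitePresentation g] [Surjective g] (s : S) :
    ∃ (S' V : Scheme.{u}) (e : S' ⟶ S) (π : V ⟶ S'), Etale e ∧ s ∈ Set.range ⇑e ∧ Surjective π ∧ IsFinite π ∧ Flat π ∧ LocallyOfFinitePresentation π ∧
      ∀ v : ↑V, ∃ (W : V.Opens) (r : ↑W ⟶ S₁), v ∈ W ∧ r ≫ g = W.ι ≫ π ≫ e := by
  obtain ⟨Z, q, h, hq, hfl, hfp, hqf, hsurj, -⟩ :=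
    Groth.Agent.Lib.Helper23.QFFlatSch.exists_flat_quasiFinite_quasiSection g
  obtain ⟨z, hz⟩ := q.surjective s
  obtain ⟨U, gU, u, hnb, V, v, hvV, hfin, hsnd, -, hfst, -⟩ :=
    Groth.Agent.S1353.result q z (q.quasiFiniteAt z)
  haveI := hnb.etale
  let p : (V : Scheme.{u}) ⟶ U := V.ι ≫ pullback.snd q gU
  haveI : Flat p := inferInstanceAs (Flat (V.ι ≫ pullback.snd q gU))
  haveI : LocallyOfFinitePresentation p :=
    inferInstanceAs (LocallyOfFinitePresentation (V.ι ≫ pullback.snd q gU))
  haveI : IsFinite p := hfin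
  let O : U.Opens := ⟨Set.range p, p.isOpenMap.isOpen_range⟩
  have huO : u ∈ O := ⟨⟨v, hvV⟩, hsnd⟩
  have hrange : Set.range p ⊆ Set.range O.ι := by
    rw [Scheme.Opens.range_ι]
    exact subset_rfl
  let π : (V : Scheme.{u}) ⟶ (O : Scheme.{u}) := IsOpenImmersion.lift O.ι p hrange
  have hπ : π ≫ O.ι = p := IsOpenImmersion.lift_fac _ _ _
  refine ⟨O, V, O.ι ≫ gU, π, inferInstance, ⟨⟨u, huO⟩, ?_⟩, ⟨?_⟩, ?_, ?_, ?_, ?_⟩
  · rw [Scheme.Hom.comp_apply]
    change gU u = s
    rw [hnb.base_eq, hz]
  · rintro ⟨y, w, hw⟩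
    refine ⟨w, ?_⟩
    apply O.ι.isOpenEmbedding.injective
    rw [← Scheme.Hom.comp_apply, hπ, hw]
    rfl
  · exact of_postcomp (W := @IsFinite) (W' := @IsOpenImmersion) π O.ι inferInstance
      (by rw [hπ]; infer_instance)
  · exact of_postcomp (W := @Flat) (W' := @IsOpenImmersion) π O.ι inferInstance
      (by rw [hπ]; infer_instance)
  · exact of_postcomp (W := @LocallyOfFinitePresentation) (W' := @IsOpenImmersion) π O.ι
      inferInstance (by rw [hπ]; infer_instance)
  · intro w
    refine ⟨⊤, (⊤ : (V : Scheme.{u}).Opens).ι ≫ V.ι ≫ pullback.fst q gU ≫ h, trivial, ?_⟩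
    simp only [Category.assoc]
    rw [hq, pullback.condition, ← Category.assoc π, hπ]
    simp only [p, Category.assoc]

end Groth.Agent.S1379
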