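import Groth.Statements.S4646
import Groth.Agent.Lib.Helper1.GalFinLevel

set_option autoImplicit false
open CategoryTheory AlgebraicGeometry
universe u
open FBase

namespace Groth.Agent.S4646

/-- Let X be a scheme over a field k having finitely many irreducible components, such that for the
generic point x of each irreducible component the separable algebraic closure of k in κ(x) has
finite degree over k. Then there is a finite separable extension L of k such that all irreducible
components of X ⊗_k L are geometrically irreducible over L: for every extension field K of L and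
every irreducible component Z' of X ⊗_k L, the inverse image of Z' in (X ⊗_k L) ⊗_L K is
irreducible. (No finite-type hypothesis on X.) -/
theorem result {k : Type u} [Field k] {X : Scheme.{u}}
    (f : X ⟶ Spec (CommRingCat.of k)) [Finite ↥(irreducibleComponents ↥X)]
    (hx : ∀ (Z : Set ↥X) (hZ : Z ∈ irreducibleComponents ↥X),
      FBase.ResidueFieldProp f hZ.1.genericPoint (fun K _ _ => FiniteDimensional k (separableClosure k K))) :
    ∃ (L : Type u) (_ : Field L) (_ : Algebra k L), FiniteDimensional k L ∧ Algebra.IsSeparable k L ∧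
      ∀ (K : Type u) [Field K] [Algebra L K] (Z' : Set ↥(FBase.bc f L)), Z' ∈ irreducibleComponents ↥(FBase.bc f L) →
        IsIrreducible (⇑(FBase.bcπ (FBase.bcStr f L) K) ⁻¹' Z') := by
  classical
  letI : X.Over (Spec (CommRingCat.of k)) := ⟨f⟩
  have hfinX : (irreducibleComponents ↥X).Finite := Set.toFinite _
  have hgen : ∀ Z ∈ irreducibleComponents ↥X, ∃ ξ : X, IsGenericPoint ξ Z ∧
      Finite ((Curv2.bcFst k X (SeparableClosure k)).base ⁻¹' {ξ}) := by
    intro Z hZ
    refine ⟨hZ.1.genericPoint, ?_, ?_⟩
    · have := hZ.1.isGenericPoint_genericPoint_closure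
      rwa [(isClosed_of_mem_irreducibleComponents Z hZ).closure_eq] at this
    · obtain ⟨φ, hφ, hfd⟩ := hx Z hZ
      exact (Groth.Agent.Lib.Helper1.GalCount.fibre_finite f _ φ hφ (SeparableClosure k) hfd).1
  have hfinΩ := Groth.Agent.Lib.Helper1.GalFinLevel.finite_irreducibleComponents k X
    (SeparableClosure k) hfinX hgen
  haveI : Finite ↥(irreducibleComponents ↥(Curv2.bc k X (SeparableClosure k))) :=
    Set.finite_coe_iff.mpr hfinΩ
  obtain ⟨E, hE, hEs⟩ := Groth.Agent.Lib.Helper1.GalFinLevel.exists_common k (SeparableClosure k)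
    (ι := ↥(irreducibleComponents ↥(Curv2.bc k X (SeparableClosure k))))
    (fun C σ => (Curv2.galAct k X (SeparableClosure k) σ).base '' C.1 = C.1)
    (fun C => Groth.Agent.Lib.Helper1.GalFinLevel.exists_stabilizes_irreducibleComponent k X
      (SeparableClosure k) hfinΩ C.1 C.2)
  refine ⟨↥E, inferInstance, inferInstance, hE, ?_, ?_⟩
  · exact Algebra.isSeparable_tower_bot_of_isSeparable k E (SeparableClosure k)
  · intro K _ _ Z' hZ'
    letI := Groth.Agent.Lib.Helper1.GalLevel.overInst k X ↥E
    have h1 := Groth.Agent.Lib.Helper1.GalFinLevel.isIrreducible_trans_preimage k X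
      (SeparableClosure k) E (fun σ hσ C hC => hEs σ hσ ⟨C, hC⟩) Z' hZ'
    have h2 : IsIrreducible
        ((Curv2.bcFst E (Curv2.bc k X E) (SeparableClosure k)).base ⁻¹' Z') := by
      rw [Groth.Agent.Lib.Helper1.GalFinLevel.preimage_bcFst_eq]
      exact h1.image _ (Homeomorph.continuous _).continuousOn
    exact Groth.Agent.Lib.Helper1.GalClosed.isIrreducible_preimage_of_sepClosed
      (FBase.bcStr f E) (SeparableClosure k) Z'
      (isClosed_of_mem_irreducibleComponents Z' hZ') h2 K

end Groth.Agent.S4646
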