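import Groth.Statements.S7528
import Groth.Agent.Lib.Lead.Spectral
import Mathlib.Tactic.TFAE
-- import your own Groth.Agent.* helpers here

set_option autoImplicit false
universe u
open SpecSp

namespace Groth.Agent.S7528

/-- For a spectral space X the following are equivalent: (1) X is profinite, i.e. quasi-compact,
Hausdorff and totally disconnected (quasi-compactness being automatic); (2) X is Hausdorff; (3) X is
totally disconnected; (4) every quasi-compact open subset is closed; (5) there are no nontrivial
specializations between points; (6) every point is closed; (7) every point is the generic point of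
an irreducible component; (8) the constructible topology coincides with the topology of X. -/
theorem result (X : Type u) [tX : TopologicalSpace X] [SpectralSpace X] :
    List.TFAE [
      T2Space X ∧ TotallyDisconnectedSpace X,
      T2Space X,
      TotallyDisconnectedSpace X,
      ∀ U : Set X, IsOpen U → IsCompact U → IsClosed U,
      ∀ x y : X, x ⤳ y → x = y,
      ∀ x : X, IsClosed ({x} : Set X),
      ∀ x : X, closure ({x} : Set X) ∈ irreducibleComponents X,
      constructibleTopology X = tX] := by
  have hspec : ∀ {a b : X}, a ⤳ b → b ∈ closure ({a} : Set X) := fun h => h.mem_closure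
  tfae_have 1 → 2 := fun h => h.1
  tfae_have 1 → 3 := fun h => h.2
  tfae_have 2 → 6 := fun h x => isClosed_singleton
  tfae_have 6 → 5 := by
    intro h x y hxy
    have := hspec hxy
    rw [(h x).closure_eq] at this
    exact this.symm
  tfae_have 3 → 5 := by
    intro h x y hxy
    have hc : IsPreconnected (closure ({x} : Set X)) :=
      (isIrreducible_singleton.closure).isConnected.isPreconnected
    have := h.isTotallyDisconnected_univ _ (Set.subset_univ _) hc
    exact this (subset_closure rfl) (hspec hxy)
  tfae_have 5 → 4 := by
    intro h U hUo hUc
    apply Groth.Agent.Lib.Lead.isClosed_of_isClosed_constructible_of_stableUnderSpecialization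
    · exact Groth.Agent.Lib.Lead.isClosed_constructible_of_isOpen_isCompact hUo hUc
    · intro a b hab ha
      rwa [← h a b hab]
  tfae_have 4 → 8 := by
    intro h
    apply le_antisymm
    · exact Groth.Agent.Lib.Lead.constructible_le
    · apply le_generateFrom
      rintro s (⟨hso, -⟩ | ⟨hscl, hsc⟩)
      · exact hso
      · have := h sᶜ hscl.isOpen_compl hsc
        simpa using this.isOpen_compl
  tfae_have 8 → 2 := by
    intro h
    have := Groth.Agent.Lib.Lead.t2Space_constructible (X := X)
    rwa [h] at this
  tfae_have 2 → 1 := by
    intro h
    exact ⟨h, inferInstance⟩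
  tfae_have 5 → 7 := by
    intro h x
    have hirr : IsIrreducible (closure ({x} : Set X)) := isIrreducible_singleton.closure
    obtain ⟨Z, hZ, hsub⟩ := exists_mem_irreducibleComponents_subset_of_isIrreducible _ hirr
    have hZcl : IsClosed Z := isClosed_of_mem_irreducibleComponents Z hZ
    have hη := hZ.1.isGenericPoint_genericPoint hZcl
    have hηx : hZ.1.genericPoint ⤳ x := hη.specializes (hsub (subset_closure rfl))
    have := h _ _ hηx
    have hcl : closure ({x} : Set X) = Z := by
      rw [← this]; exact hη.def
    rwa [hcl]
  tfae_have 7 → 5 := by
    intro h x y hxy
    have hsub : closure ({y} : Set X) ⊆ closure {x} :=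
      closure_minimal (Set.singleton_subset_iff.mpr (hspec hxy)) isClosed_closure
    have heq : closure ({y} : Set X) = closure {x} :=
      (h y).eq_of_subset (isIrreducible_singleton.closure) hsub |>.symm ▸ rfl
    have h1 : IsGenericPoint x (closure {x}) := isGenericPoint_closure
    have h2 : IsGenericPoint y (closure {x}) := heq ▸ isGenericPoint_closure
    exact h1.eq h2
  tfae_finish

end Groth.Agent.S7528
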