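import Groth.Statements.S4497
import Mathlib
import Groth.Agent.Lib.Helper9.FlatCxArtin

set_option autoImplicit false
universe u
open FlatCx

namespace Groth.Agent.S4497

section helpers

open CategoryTheory CategoryTheory.Limits MonoidalCategory CohIII
open Groth.Agent.Lib.Helper28.FlatCx Groth.Agent.Lib.Helper9.FlatCxArtin

variable {A : Type u} [CommRing A]

lemma subsingleton_T (P : ChainComplex (ModuleCat.{u} A) ℤ) (p : ℤ) (M : ModuleCat.{u} A)
    [Subsingleton M] : Subsingleton (T P p M) := by
  have h0 : 𝟙 M = 0 := by
    ext x
    exact Subsingleton.elim _ _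
  have h1 := TFun_map_smul_id P p M 0
  rw [zero_smul, zero_smul] at h1
  have h2 : 𝟙 ((TFun P p).obj M) = 0 := by
    rw [← (TFun P p).map_id, h0]
    exact h1
  refine ⟨fun x y => ?_⟩
  have hx : x = (𝟙 ((TFun P p).obj M) : _ ⟶ _).hom x := rfl
  have hy : y = (𝟙 ((TFun P p).obj M) : _ ⟶ _).hom y := rfl
  rw [hx, hy, h2]
  rfl

lemma length_T_of_shortExact (P : ChainComplex (ModuleCat.{u} A) ℤ)
    (hP : ∀ i, Module.Flat A (P.X i)) (p : ℤ)
    (S₀ : ShortComplex (ModuleCat.{u} A)) (hS₀ : S₀.ShortExact)
    (hm : Mono ((TFun P p).map S₀.f)) (he : Epi ((TFun P p).map S₀.g)) :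
    Module.length A (T P p S₀.X₂) =
      Module.length A (T P p S₀.X₁) + Module.length A (T P p S₀.X₃) := by
  have hS := tensorSC_shortExact P hP S₀ hS₀
  have h2 := hS.homology_exact₂ p
  exact Module.length_eq_add_of_exact ((TFun P p).map S₀.f).hom ((TFun P p).map S₀.g).hom
    ((ModuleCat.mono_iff_injective _).mp hm) ((ModuleCat.epi_iff_surjective _).mp he)
    ((ShortComplex.ShortExact.moduleCat_exact_iff_function_exact _).mp h2)

lemma isSimpleModule_residueField [IsLocalRing A] :
    IsSimpleModule A (IsLocalRing.ResidueField A) :=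
  isSimpleModule_iff_quot_maximal.mpr
    ⟨IsLocalRing.maximalIdeal A, inferInstance, ⟨LinearEquiv.refl A _⟩⟩

lemma length_T_eq [IsLocalRing A] (P : ChainComplex (ModuleCat.{u} A) ℤ)
    (hP : ∀ i, Module.Flat A (P.X i)) (p : ℤ)
    (hm : (TFun P p).PreservesMonomorphisms) (he : (TFun P p).PreservesEpimorphisms)
    (M : Type u) [AddCommGroup M] [Module A M] (hM : IsFiniteLength A M) :
    Module.length A (T P p (ModuleCat.of A M)) =
      Module.length A (T P p (ModuleCat.of A (IsLocalRing.ResidueField A))) *
        Module.length A M := by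
  induction hM with
  | of_subsingleton =>
    rename_i M _ _ _
    have : Subsingleton (ModuleCat.of A M) := ‹_›
    have := subsingleton_T P p (ModuleCat.of A M)
    rw [Module.length_eq_zero (M := T P p (ModuleCat.of A M)),
      Module.length_eq_zero (M := M), mul_zero]
  | @of_simple_quotient M _ _ N hs hN ih =>
    let S₀ : ShortComplex (ModuleCat.{u} A) :=
      ShortComplex.mk (ModuleCat.ofHom N.subtype) (ModuleCat.ofHom N.mkQ) (by
        ext x
        simp)
    have hS₀ : S₀.ShortExact := by
      apply ModuleCat.shortComplex_shortExact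
      · exact LinearMap.exact_subtype_mkQ N
      · exact Submodule.injective_subtype _
      · exact Submodule.mkQ_surjective _
    have hmf : Mono S₀.f := hS₀.mono_f
    have heg : Epi S₀.g := hS₀.epi_g
    have h1 := length_T_of_shortExact P hP p S₀ hS₀ (hm.preserves _) (he.preserves _)
    obtain ⟨I, hI, ⟨e⟩⟩ := isSimpleModule_iff_quot_maximal.mp hs
    obtain rfl := IsLocalRing.eq_maximalIdeal hI
    let e' : ModuleCat.of A (M ⧸ N) ≅ ModuleCat.of A (IsLocalRing.ResidueField A) :=
      e.toModuleIso
    have h3 : Module.length A (T P p (ModuleCat.of A (M ⧸ N))) =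
        Module.length A (T P p (ModuleCat.of A (IsLocalRing.ResidueField A))) :=
      ((TFun P p).mapIso e').toLinearEquiv.length_eq
    change Module.length A (T P p (ModuleCat.of A M)) =
      Module.length A (T P p (ModuleCat.of A N)) +
        Module.length A (T P p (ModuleCat.of A (M ⧸ N))) at h1
    rw [h1, ih, h3, Module.length_eq_add_of_exact N.subtype N.mkQ (Submodule.injective_subtype _)
      (Submodule.mkQ_surjective _) (LinearMap.exact_subtype_mkQ N),
      Module.length_eq_one (R := A) (M := M ⧸ N), mul_add, mul_one]

lemma enat_arith (a b c d l : ℕ∞) (hd : d ≠ ⊤) (hl : l ≠ ⊤)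
    (h1 : d * (l + 1) = b + c) (h2 : d * l = a + b) (h3 : c ≤ d) : a = 0 ∧ c = d := by
  have hb : b ≠ ⊤ := by
    intro hb
    rw [hb, add_top] at h2
    exact WithTop.mul_ne_top hd hl h2
  have ha : a ≠ ⊤ := by
    intro ha
    rw [ha, top_add] at h2
    exact WithTop.mul_ne_top hd hl h2
  have hc : c ≠ ⊤ := fun hc => hd (top_le_iff.mp (hc ▸ h3))
  lift a to ℕ using ha
  lift b to ℕ using hb
  lift c to ℕ using hc
  lift d to ℕ using hd
  lift l to ℕ using hl
  norm_cast at h1 h2 h3 ⊢
  constructor <;> nlinarith

lemma length_eq_ker_add_range {M N : Type*} [AddCommGroup M] [Module A M] [AddCommGroup N]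
    [Module A N] (f : M →ₗ[A] N) :
    Module.length A M = Module.length A (LinearMap.ker f) + Module.length A (LinearMap.range f) :=
  Module.length_eq_add_of_exact (LinearMap.ker f).subtype f.rangeRestrict
    (Submodule.injective_subtype _) f.surjective_rangeRestrict (by
      rw [LinearMap.exact_iff]
      simp)

lemma eq_top_of_length_eq {M : Type*} [AddCommGroup M] [Module A M] (N : Submodule A M)
    (hM : Module.length A M ≠ ⊤) (h : Module.length A N = Module.length A M) : N = ⊤ := by
  by_contra hne
  have hfl := Module.length_ne_top_iff.mp hM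
  rw [isFiniteLength_iff_isNoetherian_isArtinian] at hfl
  obtain ⟨_, _⟩ := hfl
  exact (Submodule.length_lt hne).ne h

lemma surj_of_length [IsArtinianRing A] [IsLocalRing A] (P : ChainComplex (ModuleCat.{u} A) ℤ)
    (hP : ∀ i, Module.Flat A (P.X i)) (p q : ℤ) (hpq : p + 1 = q)
    (hd : Module.length A (T P p (ModuleCat.of A (IsLocalRing.ResidueField A))) ≠ ⊤)
    (h : ∀ M : ModuleCat.{u} A, Module.length A M ≠ ⊤ →
      Module.length A (T P p M) =
        Module.length A (T P p (ModuleCat.of A (IsLocalRing.ResidueField A))) *
          Module.length A M) :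
    Function.Surjective ((TFun P p).map
        (ModuleCat.ofHom (Algebra.linearMap A (IsLocalRing.ResidueField A)))).hom ∧
      Function.Surjective ((TFun P q).map
        (ModuleCat.ofHom (Algebra.linearMap A (IsLocalRing.ResidueField A)))).hom := by
  have hS₀ := residueSC_shortExact (A := A)
  have hS := tensorSC_shortExact P hP _ hS₀
  have h2 := hS.homology_exact₂ p
  have hrel : (ComplexShape.down ℤ).Rel q p := hpq
  have h1 := hS.homology_exact₁ q p hrel
  have h3 := hS.homology_exact₃ q p hrel
  set f := ((TFun P p).map (residueSC (A := A)).f).hom with hf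
  set g := ((TFun P p).map (residueSC (A := A)).g).hom with hg
  have hfg : Function.Exact f g :=
    (ShortComplex.ShortExact.moduleCat_exact_iff_function_exact _).mp h2
  have hsk := isSimpleModule_residueField (A := A)
  have hlm : Module.length A (IsLocalRing.maximalIdeal A) ≠ ⊤ := Module.length_ne_top
  have hlA : Module.length A A = Module.length A (IsLocalRing.maximalIdeal A) + 1 := by
    have := Module.length_eq_add_of_exact (residueSC (A := A)).f.hom (residueSC (A := A)).g.hom
      hS₀.moduleCat_injective_f hS₀.moduleCat_surjective_g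
      ((ShortComplex.ShortExact.moduleCat_exact_iff_function_exact _).mp hS₀.exact)
    rw [← Module.length_eq_one (R := A) (M := IsLocalRing.ResidueField A)]
    exact this
  have hTA := h (ModuleCat.of A A) Module.length_ne_top
  have hTm := h (ModuleCat.of A (IsLocalRing.maximalIdeal A)) hlm
  change Module.length A (T P p (ModuleCat.of A A)) = _ * Module.length A A at hTA
  change Module.length A (T P p (ModuleCat.of A (IsLocalRing.maximalIdeal A))) =
    _ * Module.length A (IsLocalRing.maximalIdeal A) at hTm
  rw [hlA] at hTA
  have e1 : Module.length A (T P p (ModuleCat.of A A)) =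
      Module.length A (LinearMap.ker g) + Module.length A (LinearMap.range g) :=
    length_eq_ker_add_range g
  have e2 : Module.length A (T P p (ModuleCat.of A (IsLocalRing.maximalIdeal A))) =
      Module.length A (LinearMap.ker f) + Module.length A (LinearMap.range f) :=
    length_eq_ker_add_range f
  rw [LinearMap.exact_iff.mp hfg] at e1
  have e3 : Module.length A (LinearMap.range g) ≤
      Module.length A (T P p (ModuleCat.of A (IsLocalRing.ResidueField A))) :=
    Module.length_le_of_injective (LinearMap.range g).subtype (Submodule.injective_subtype _)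
  obtain ⟨ha, hc⟩ := enat_arith _ _ _ _ _ hd hlm (hTA.symm.trans e1) (hTm.symm.trans e2) e3
  have hfinj : Function.Injective f := by
    rw [← LinearMap.ker_eq_bot, ← Submodule.subsingleton_iff_eq_bot]
    exact Module.length_eq_zero_iff.mp ha
  have hgsurj : Function.Surjective g := by
    rw [← LinearMap.range_eq_top]
    exact eq_top_of_length_eq _ hd hc
  refine ⟨hgsurj, ?_⟩
  have hmono : Mono (HomologicalComplex.homologyMap (tensorSC P (residueSC (A := A))).f p) :=
    (ModuleCat.mono_iff_injective _).mpr hfinj
  have hδ : hS.δ q p hrel = 0 := h1.mono_g_iff.mp hmono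
  have hepi : Epi (HomologicalComplex.homologyMap (tensorSC P (residueSC (A := A))).g q) :=
    h3.epi_f_iff.mpr hδ
  exact (ModuleCat.epi_iff_surjective _).mp hepi

end helpers

open CategoryTheory CategoryTheory.Limits in
/-- For the homological functor T_i(M) = H_i(P ⊗_A M) of a chain complex P of flat modules over a
commutative Artinian local ring A with residue field k; the terms of P need not be finitely
generated. With p + 1 = q: T_p takes injections to injections and surjections to surjections if and
only if the maps T_p(A) → T_p(k) and T_q(A) → T_q(k) induced by A → k are both surjective. If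
moreover T_p(k) has finite length d, these conditions are also equivalent to: length T_p(M) = d ·
length M for every A-module M of finite length (lengths valued in ℕ∞). -/
theorem result {A : Type u} [CommRing A] [IsArtinianRing A]
    [IsLocalRing A] (P : ChainComplex (ModuleCat.{u} A) ℤ) (hP : ∀ i, Module.Flat A (P.X i)) (p q : ℤ)
    (hpq : p + 1 = q) :
    (((CohIII.TFun P p).PreservesMonomorphisms ∧ (CohIII.TFun P p).PreservesEpimorphisms) ↔
      (Function.Surjective ((CohIII.TFun P p).map
          (ModuleCat.ofHom (Algebra.linearMap A (IsLocalRing.ResidueField A)))).hom ∧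
        Function.Surjective ((CohIII.TFun P q).map
          (ModuleCat.ofHom (Algebra.linearMap A (IsLocalRing.ResidueField A)))).hom)) ∧
    (Module.length A (CohIII.T P p (ModuleCat.of A (IsLocalRing.ResidueField A))) ≠ ⊤ →
      (((CohIII.TFun P p).PreservesMonomorphisms ∧ (CohIII.TFun P p).PreservesEpimorphisms) ↔
        ∀ M : ModuleCat.{u} A, Module.length A M ≠ ⊤ →
          Module.length A (CohIII.T P p M) =
            Module.length A (CohIII.T P p (ModuleCat.of A (IsLocalRing.ResidueField A))) * Module.length A M)) := by
  have hrel : (ComplexShape.down ℤ).Rel q p := hpq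
  have hrel' : (ComplexShape.down ℤ).Rel p (p - 1) := by
    change p - 1 + 1 = p
    ring
  have hepiπ : Epi (ModuleCat.ofHom (Algebra.linearMap A (IsLocalRing.ResidueField A))) := by
    rw [ModuleCat.epi_iff_surjective]
    exact Ideal.Quotient.mk_surjective
  have part1 : ((CohIII.TFun P p).PreservesMonomorphisms ∧
      (CohIII.TFun P p).PreservesEpimorphisms) ↔
      (Function.Surjective ((CohIII.TFun P p).map
          (ModuleCat.ofHom (Algebra.linearMap A (IsLocalRing.ResidueField A)))).hom ∧
        Function.Surjective ((CohIII.TFun P q).map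
          (ModuleCat.ofHom (Algebra.linearMap A (IsLocalRing.ResidueField A)))).hom) := by
    constructor
    · rintro ⟨hm, he⟩
      have heq : (CohIII.TFun P q).PreservesEpimorphisms :=
        (Groth.Agent.Lib.Helper28.FlatCx.preservesEpi_iff_preservesMono_of_rel P hP q p hrel).mpr hm
      exact ⟨(ModuleCat.epi_iff_surjective _).mp (he.preserves _),
        (ModuleCat.epi_iff_surjective _).mp (heq.preserves _)⟩
    · rintro ⟨h1, h2⟩
      refine ⟨?_, ?_⟩
      · exact (Groth.Agent.Lib.Helper28.FlatCx.preservesEpi_iff_preservesMono_of_rel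
          P hP q p hrel).mp
          (Groth.Agent.Lib.Helper9.FlatCxArtin.preservesEpi_of_surjective_residueField
            P hP q p hrel h2)
      · exact Groth.Agent.Lib.Helper9.FlatCxArtin.preservesEpi_of_surjective_residueField
          P hP p (p - 1) hrel' h1
  refine ⟨part1, fun hd => ?_⟩
  constructor
  · rintro ⟨hm, he⟩ M hM
    exact length_T_eq P hP p hm he M (Module.length_ne_top_iff.mp hM)
  · intro h
    exact part1.mpr (surj_of_length P hP p q hpq hd h)

end Groth.Agent.S4497
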