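import Groth.Statements.S3047
import Groth.Agent.Lib.Helper22.EtStalk.SetsFamily

set_option autoImplicit false
open CategoryTheory CategoryTheory.Limits AlgebraicGeometry Opposite
universe u
open EtDesc

namespace Groth.Agent.S3047

/-- For a surjective morphism of schemes f : X' -> X, the inverse image functor f^* on sheaves of sets
for the small etale sites is faithful and reflects isomorphisms. -/
theorem result {X' X : Scheme.{u}} (f : X' ⟶ X) [Surjective f] :
    (EtDesc.pullSh f).Faithful ∧ (EtDesc.pullSh f).ReflectsIsomorphisms := by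
  have hP := Groth.Agent.Lib.Helper22.EtStalk.Sets.covering_through f
  constructor
  · constructor
    intro F G a b hab
    refine Groth.Agent.Lib.Helper22.EtStalk.Sets.hom_ext_of_stalks hP a b ?_
    rintro Ω _ _ ξ ⟨ξ', rfl⟩
    let θ := Groth.Agent.Lib.Helper22.EtStalk.stalkPullIsoType f ξ'
    have na := θ.hom.naturality a
    have nb := θ.hom.naturality b
    rw [← cancel_epi (θ.hom.app F), ← na, ← nb, Functor.comp_map, Functor.comp_map, hab]
  · constructor
    intro F G a ha
    refine Groth.Agent.Lib.Helper22.EtStalk.Sets.isIso_of_stalks hP a ?_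
    rintro Ω _ _ ξ ⟨ξ', rfl⟩
    let θ := Groth.Agent.Lib.Helper22.EtStalk.stalkPullIsoType f ξ'
    have na := θ.hom.naturality a
    have h1 : IsIso ((EtDesc.pullSh f ⋙
        (Scheme.pointSmallEtale ξ').sheafFiber (A := Type (u + 1))).map a) := by
      rw [Functor.comp_map]
      infer_instance
    have h2 : ((Scheme.pointSmallEtale (ξ' ≫ f)).sheafFiber (A := Type (u + 1))).map a =
        inv (θ.hom.app F) ≫ (EtDesc.pullSh f ⋙
          (Scheme.pointSmallEtale ξ').sheafFiber (A := Type (u + 1))).map a ≫ θ.hom.app G := by
      rw [na, IsIso.inv_hom_id_assoc]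
    have h3 : IsIso (((Scheme.pointSmallEtale (ξ' ≫ f)).sheafFiber (A := Type (u + 1))).map a) := by
      rw [h2]
      infer_instance
    exact (isIso_iff_bijective _).1 h3

end Groth.Agent.S3047
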