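import Groth.Statements.S0633
import Mathlib
import Groth.Agent.S9722
import Groth.Agent.Lib.Helper13.StdEtaleLift

set_option autoImplicit false
open CategoryTheory CategoryTheory.Limits AlgebraicGeometry Opposite
universe u
open EtCore

namespace Groth.Agent.S0633

open TensorProduct in
set_option backward.isDefEq.respectTransparency.types false in
theorem local_step {X Y : Scheme.{u}} (f : X ⟶ Y) [IsClosedImmersion f] (U : X.Etale)
    (x : U.left) :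
    ∃ (V : Y.Etale) (h : pullback V.hom f ⟶ U.left),
      h ≫ U.hom = pullback.snd V.hom f ∧ IsOpenImmersion h ∧ ∃ y, h.base y = x := by
  obtain ⟨Y₀, hY₀, hxY₀⟩ : ∃ Y₀ : Y.Opens, IsAffineOpen Y₀ ∧ f (U.hom x) ∈ Y₀ := by
    obtain ⟨_, ⟨W, hW, rfl⟩, hx, -⟩ := Y.isBasis_affineOpens.exists_subset_of_mem_open
      (Set.mem_univ (f (U.hom x))) isOpen_univ
    exact ⟨W, hW, hx⟩
  have hX₀ : IsAffineOpen (f ⁻¹ᵁ Y₀) := hY₀.preimage f
  have hUet : Etale U.hom := U.prop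
  obtain ⟨U₁, hU₁, hxU₁, e, hstd⟩ :=
    (Groth.Agent.S9722.result U.hom x (f ⁻¹ᵁ Y₀) hX₀ hxY₀).mp
      ⟨⊤, trivial, inferInstance⟩
  let : Algebra Γ(Y, Y₀) Γ(X, f ⁻¹ᵁ Y₀) := (f.app Y₀).hom.toAlgebra
  let : Algebra Γ(X, f ⁻¹ᵁ Y₀) Γ(U.left, U₁) := (U.hom.appLE _ U₁ e).hom.toAlgebra
  have : Algebra.IsStandardEtale Γ(X, f ⁻¹ᵁ Y₀) Γ(U.left, U₁) := hstd
  have hsurj : Function.Surjective (algebraMap Γ(Y, Y₀) Γ(X, f ⁻¹ᵁ Y₀)) :=
    f.app_surjective Y₀ hY₀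
  obtain ⟨P, ⟨eq⟩⟩ := Groth.Agent.Lib.Helper13.exists_standardEtalePair_lift
    (A := Γ(Y, Y₀)) (k := Γ(X, f ⁻¹ᵁ Y₀)) (B := Γ(U.left, U₁)) hsurj
  -- the four ring maps
  let φ : Γ(Y, Y₀) ⟶ Γ(X, f ⁻¹ᵁ Y₀) := f.app Y₀
  let α : Γ(X, f ⁻¹ᵁ Y₀) ⟶ Γ(U.left, U₁) := U.hom.appLE _ U₁ e
  let ι : Γ(Y, Y₀) ⟶ CommRingCat.of P.Ring := CommRingCat.ofHom (algebraMap _ _)
  let ψ : CommRingCat.of P.Ring ⟶ Γ(U.left, U₁) :=
    CommRingCat.ofHom (eq.toRingEquiv.toRingHom.comp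
      (Algebra.TensorProduct.includeRight (R := Γ(Y, Y₀)) (A := Γ(X, f ⁻¹ᵁ Y₀))
        (B := P.Ring)).toRingHom)
  have hpo : IsPushout φ ι α ψ := by
    refine (CommRingCat.isPushout_tensorProduct Γ(Y, Y₀) Γ(X, f ⁻¹ᵁ Y₀) P.Ring).of_iso
      (Iso.refl _) (Iso.refl _) (Iso.refl _) eq.toRingEquiv.toCommRingCatIso
      (by simp; rfl) (by simp; rfl) ?_ ?_
    · ext a
      simp
      exact eq.commutes a
    · ext a
      simp
      rfl
  have hleft := isPullback_SpecMap_of_isPushout φ ι α ψ hpo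
  have hright : IsPullback (Spec.map φ) hX₀.fromSpec hY₀.fromSpec f := by
    refine IsOpenImmersion.isPullback _ _ _ _ ?_ ?_
    · have := IsAffineOpen.SpecMap_appLE_fromSpec f hY₀ hX₀ le_rfl
      rw [← this]
      show _ = Spec.map (f.app Y₀) ≫ _
      rw [Scheme.Hom.app_eq_appLE]
    · rw [hY₀.opensRange_fromSpec, hX₀.opensRange_fromSpec]
  have hbig := (hleft.paste_horiz hright.flip).flip
  have hVet : EtCoh.etaleMP (Spec.map ι ≫ hY₀.fromSpec) := by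
    have : Etale (Spec.map ι) := by
      rw [HasRingHomProperty.Spec_iff (P := @Etale)]
      exact RingHom.etale_algebraMap.mpr inferInstance
    show Etale _
    infer_instance
  refine ⟨MorphismProperty.Over.mk ⊤ (Spec.map ι ≫ hY₀.fromSpec) hVet,
    hbig.isoPullback.inv ≫ hU₁.fromSpec, ?_, inferInstance, ?_⟩
  · rw [Category.assoc, ← IsAffineOpen.SpecMap_appLE_fromSpec U.hom hX₀ hU₁ e]
    exact hbig.isoPullback_inv_snd
  · have hx : x ∈ Set.range hU₁.fromSpec := by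
      rw [hU₁.range_fromSpec]; exact hxU₁
    obtain ⟨z, hz⟩ := hx
    refine ⟨hbig.isoPullback.hom z, ?_⟩
    have h3 : hbig.isoPullback.hom ≫ (hbig.isoPullback.inv ≫ hU₁.fromSpec) = hU₁.fromSpec :=
      Iso.hom_inv_id_assoc _ _
    rw [← hz]
    exact (Scheme.Hom.comp_apply _ _ z).symm.trans
      (congrArg (fun g : Spec Γ(U.left, U₁) ⟶ U.left => g z) h3)

/-- Let X -> Y be a closed immersion and U -> X etale. Then there exist etale morphisms V_i -> Y and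
X-morphisms V_i x_Y X -> U which are open immersions whose images cover U. -/
theorem result {X Y : Scheme.{u}} (f : X ⟶ Y) [IsClosedImmersion f]
    (U : X.Etale) :
    ∃ (κ : Type u) (V : κ → Y.Etale) (h : ∀ j, pullback (V j).hom f ⟶ U.left),
      (∀ j, h j ≫ U.hom = pullback.snd (V j).hom f) ∧ (∀ j, IsOpenImmersion (h j)) ∧
      ∀ x : U.left, ∃ (j : κ) (y : ↥(pullback (V j).hom f)), (h j).base y = x := by
  choose V h h1 h2 h3 using local_step f U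
  exact ⟨U.left, V, h, h1, h2, fun x => ⟨x, h3 x⟩⟩

end Groth.Agent.S0633
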