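import Groth.Statements.S0124
import Groth.Agent.Lib.Helper22.ColimCohU.Etale
import Groth.Agent.Lib.Helper22.ColimCohU.IsColimit

set_option autoImplicit false
universe u
open CategoryTheory CategoryTheory.Limits AlgebraicGeometry Opposite
open EtPBC

namespace Groth.Agent.S0124

open Groth.Agent.Lib.Helper22.ColimCohU Groth.Agent.Lib.Helper22.ColimCohU.Etale
open Groth.Agent.Lib.Helper22.CechU.Etale

instance : PreservesColimitsOfShape ℕ (forget AddCommGrpCat.{u + 1}) := by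
  have : PreservesFilteredColimitsOfSize.{0, 0} (forget AddCommGrpCat.{u + 1}) :=
    preservesFilteredColimitsOfSize_shrink.{0, u + 1, 0, u + 1} _
  infer_instance

instance (X : Scheme.{u}) : HasExactColimitsOfShape ℕ (EtCoh.Ab X) := by
  have h := AB5OfSize_shrink.{0, 0, u + 1, u + 1} (EtCoh.Ab X)
  exact h.ofShape ℕ

variable {X : Scheme.{u}}

lemma nsmul_hom_app (m : ℕ) {P Q : EtCoh.Ab X} (φ : P ⟶ Q) (U : X.Etaleᵒᵖ) (s : P.obj.obj U) :
    (m • φ).hom.app U s = m • φ.hom.app U s := by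
  induction m with
  | zero =>
    rw [zero_smul, zero_smul]
    rfl
  | succ m ih =>
    rw [succ_nsmul, succ_nsmul, ← ih]
    rfl

lemma H_map_zero {P Q : EtCoh.Ab X} (n : ℕ) (x : EtCoh.H X P n) :
    Sheaf.H.map (0 : P ⟶ Q) n x = 0 := by
  rw [Sheaf.H.map_apply, Abelian.Ext.mk₀_zero, Abelian.Ext.comp_zero]

lemma H_map_nsmul (m : ℕ) {P Q : EtCoh.Ab X} (φ : P ⟶ Q) (n : ℕ) (x : EtCoh.H X P n) :
    Sheaf.H.map (m • φ) n x = m • Sheaf.H.map φ n x := by
  induction m with
  | zero => rw [zero_smul, zero_smul, H_map_zero]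
  | succ m ih => rw [succ_nsmul, succ_nsmul, Sheaf.H.map_add_apply, ih]

/-- The moduli `(k+1)!`. -/
def mm (k : ℕ) : ℕ := (k + 1).factorial

lemma mm_pos (k : ℕ) : 0 < mm k := Nat.factorial_pos _

lemma mm_dvd {k l : ℕ} (h : k ≤ l) : mm k ∣ mm l :=
  Nat.factorial_dvd_factorial (Nat.succ_le_succ h)

lemma dvd_mm (m : ℕ) (hm : 0 < m) : m ∣ mm (m - 1) := by
  unfold mm
  have : m - 1 + 1 = m := Nat.sub_add_cancel hm
  rw [this]
  exact Nat.dvd_factorial hm le_rfl

variable (F : EtCoh.Ab X)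

/-- Multiplication by `(k+1)!`. -/
noncomputable abbrev μ (k : ℕ) : F ⟶ F := mm k • 𝟙 F

lemma μ_app (k : ℕ) (U : X.Etaleᵒᵖ) (s : F.obj.obj U) : (μ F k).hom.app U s = mm k • s := by
  rw [nsmul_hom_app]
  rfl

lemma ι_μ_of_le {k l : ℕ} (h : k ≤ l) : kernel.ι (μ F k) ≫ μ F l = 0 := by
  obtain ⟨c, hc⟩ := mm_dvd h
  have : μ F l = μ F k ≫ (c • 𝟙 F) := by
    change mm l • 𝟙 F = (mm k • 𝟙 F) ≫ (c • 𝟙 F)
    rw [Preadditive.nsmul_comp, Preadditive.comp_nsmul, Category.id_comp, ← mul_nsmul, hc,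
      mul_comm]
  rw [this, ← Category.assoc, kernel.condition, zero_comp]

/-- The diagram of torsion subsheaves `F[(k+1)!]`. -/
noncomputable def D : ℕ ⥤ EtCoh.Ab X where
  obj k := kernel (μ F k)
  map {k l} h := kernel.lift (μ F l) (kernel.ι (μ F k)) (ι_μ_of_le F (leOfHom h))
  map_id k := by
    rw [← cancel_mono (kernel.ι (μ F k)), kernel.lift_ι, Category.id_comp]
  map_comp {k l m} f g := by
    rw [← cancel_mono (kernel.ι (μ F m)), kernel.lift_ι, Category.assoc, kernel.lift_ι,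
      kernel.lift_ι]

/-- The cocone of inclusions. -/
noncomputable def cD : Cocone (D F) where
  pt := F
  ι := { app := fun k => kernel.ι (μ F k)
         naturality := fun k l f => by
          change kernel.lift (μ F l) (kernel.ι (μ F k)) _ ≫ kernel.ι (μ F l) = kernel.ι (μ F k) ≫ 𝟙 F
          rw [kernel.lift_ι, Category.comp_id] }

open Groth.Agent.Lib.Helper22.CechU.Site in
lemma exists_lift_kernel (k : ℕ) (V : X.Etale) (t : F.obj.obj (op V)) (ht : mm k • t = 0) :
    ∃ t' : (kernel (μ F k)).obj.obj (op V), (kernel.ι (μ F k)).hom.app (op V) t' = t := by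
  let S : ShortComplex (EtCoh.Ab X) := ShortComplex.mk (kernel.ι (μ F k)) (μ F k)
    (kernel.condition _)
  have hS : S.Exact := ShortComplex.exact_of_f_is_kernel _ (kernelIsKernel (μ F k))
  have hm : Mono S.f := inferInstanceAs (Mono (kernel.ι (μ F k)))
  exact sections_exact_of_left_exact hS hm V t ((μ_app F k (op V) t).trans ht)

/-- The sieve of maps along which `s` becomes torsion. -/
def torsSieve {U : X.Etale} (s : F.obj.obj (op U)) : Sieve U where
  arrows V f := ∃ m : ℕ, 0 < m ∧ m • F.obj.map f.op s = 0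
  downward_closed := by
    rintro V W f ⟨m, hm, h⟩ g
    refine ⟨m, hm, ?_⟩
    rw [op_comp, Functor.map_comp, ConcreteCategory.comp_apply, ← map_nsmul, h, map_zero]

lemma torsSieve_mem (hF : EtCoh.IsTorsion F) {U : X.Etale} (s : F.obj.obj (op U)) :
    torsSieve F s ∈ X.smallEtaleTopology U := by
  rw [mem_smallEtaleTopology_iff]
  intro x
  obtain ⟨V, g, ⟨v, hv⟩, hfin⟩ := hF U s x
  obtain ⟨m, hm, h⟩ := isOfFinAddOrder_iff_nsmul_eq_zero.1 hfin
  exact ⟨V, g, v, ⟨m, hm, h⟩, hv⟩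

theorem isColimit_cD (hF : EtCoh.IsTorsion F) : Nonempty (IsColimit (cD F)) := by
  refine isColimit_of_local (J := X.smallEtaleTopology) (fun Q => isSheaf_forget Q) (cD F) ?_ ?_
  · intro U s
    refine ⟨torsSieve F s, torsSieve_mem F hF s, ?_⟩
    rintro V f ⟨m, hm, h⟩
    obtain ⟨c, hc⟩ := dvd_mm m hm
    have h' : mm (m - 1) • F.obj.map f.op s = 0 := by
      rw [hc, mul_nsmul, h, smul_zero]
    obtain ⟨t', ht'⟩ := exists_lift_kernel F (m - 1) V _ h'
    exact ⟨m - 1, t', ht'⟩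
  · intro U i t ht
    have hinj : Function.Injective ((kernel.ι (μ F i)).hom.app (op U)) :=
      Groth.Agent.Lib.Helper22.CechU.Site.injective_app_of_mono _ U
    have ht0 : t = 0 := hinj (ht.trans (map_zero _).symm)
    refine ⟨⊤, X.smallEtaleTopology.top_mem U, fun V f _ => ⟨i, 𝟙 i, ?_⟩⟩
    rw [ht0, map_zero, map_zero]

theorem result' (X : Scheme.{u}) [CompactSpace X] [QuasiSeparatedSpace X]
    (F : EtCoh.Ab X) (hF : EtCoh.IsTorsion F) (n : ℕ) :
    IsAddTorsion (EtCoh.H X F n) := by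
  intro x
  obtain ⟨hc⟩ := isColimit_cD F hF
  obtain ⟨k, y, hy⟩ := H_rep (cD F) hc n x
  rw [isOfFinAddOrder_iff_nsmul_eq_zero]
  refine ⟨mm k, mm_pos k, ?_⟩
  have h1 : Sheaf.H.map (kernel.ι (μ F k) ≫ μ F k) n y = 0 := by
    rw [kernel.condition, H_map_zero]
  rw [Sheaf.H.map_comp_apply] at h1
  have h2 : Sheaf.H.map (μ F k) n x = mm k • x := by
    change Sheaf.H.map (mm k • 𝟙 F) n x = mm k • x
    rw [H_map_nsmul, Sheaf.H.map_id_apply]
  rw [← h2, ← hy]
  exact h1


/-- Part (1): if X is quasi-compact and quasi-separated and F is a torsion abelian sheaf on X_et, then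
H^n(X_et, F) is a torsion abelian group for every n. -/
theorem result (X : Scheme.{u}) [CompactSpace X] [QuasiSeparatedSpace X]
    (F : EtCoh.Ab X) (hF : EtCoh.IsTorsion F) (n : ℕ) :
    IsAddTorsion (EtCoh.H X F n) :=
  result' X F hF n

end Groth.Agent.S0124
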