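import Groth.Statements.S0108
import Mathlib
import Groth.Agent.Lib.Helper10.Kummer
import Groth.Agent.Lib.Helper22.CechU.EtaleCov

set_option autoImplicit false
open CategoryTheory CategoryTheory.Limits AlgebraicGeometry Opposite
universe u
open EtBase

namespace Groth.Agent.S0108

section aux
open CategoryTheory CategoryTheory.Limits AlgebraicGeometry Opposite

theorem powMap_app (S : Scheme.{u}) (n : ℕ) (V : S.Etale)
    (s : ((EtCoh.Gm S).obj.obj (op V) : Type (u+1))) :
    ((EtCoh.powMap S n).hom.app (op V)) s = n • s := by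
  have h1 : (EtCoh.powMap S n).hom = n • 𝟙 (EtCoh.Gm S).obj := rfl
  rw [h1, NatTrans.app_nsmul]
  rfl

theorem Gm_map_down (S : Scheme.{u}) {U V : S.Etale} (f : V ⟶ U)
    (t : ((EtCoh.Gm S).obj.obj (op U) : Type (u+1))) :
    (((EtCoh.Gm S).obj.map f.op) t : ULift.{u+1} (Additive (Γ(V.left, ⊤))ˣ)).down.toMul =
      Units.map (f.left.appTop.hom : Γ(U.left, ⊤) →* Γ(V.left, ⊤))
        (t : ULift.{u+1} (Additive (Γ(U.left, ⊤))ˣ)).down.toMul := rfl

set_option backward.isDefEq.respectTransparency false in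
theorem fromSpec_appTop' {X : Scheme.{u}} {W : X.Opens} (hW : IsAffineOpen W) :
    hW.fromSpec.appTop = X.presheaf.map (homOfLE (le_top : W ≤ ⊤)).op ≫
      (Scheme.ΓSpecIso Γ(X, W)).inv := by
  rw [Scheme.Hom.appTop, hW.fromSpec_app_of_le ⊤ le_top]
  have h2 : (Spec Γ(X, W)).presheaf.map (homOfLE (le_top : hW.fromSpec ⁻¹ᵁ ⊤ ≤ ⊤)).op = 𝟙 _ :=
    (Spec Γ(X, W)).presheaf.map_id _
  rw [h2, Category.comp_id]

/-- The composite `Spec B → Spec Γ(X, W) → X` on global sections. -/
theorem comp_fromSpec_appTop {X : Scheme.{u}} {W : X.Opens} (hW : IsAffineOpen W)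
    {B : CommRingCat.{u}} (φ : Γ(X, W) ⟶ B) (τ : Γ(X, ⊤)) :
    (Spec.map φ ≫ hW.fromSpec).appTop τ =
      (Scheme.ΓSpecIso B).inv (φ (X.presheaf.map (homOfLE le_top).op τ)) := by
  have key : (Spec.map φ ≫ hW.fromSpec).appTop =
      X.presheaf.map (homOfLE (le_top : W ≤ ⊤)).op ≫ φ ≫ (Scheme.ΓSpecIso B).inv := by
    rw [Scheme.ΓSpecIso_inv_naturality, Scheme.Hom.comp_appTop, fromSpec_appTop' hW,
      Category.assoc]
  rw [key]
  rfl

theorem epi_powMap (S : Scheme.{u}) (n : ℕ) (hn : IsUnit (n : Γ(S, ⊤))) :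
    Epi (EtCoh.powMap S n) := by
  rw [← Sheaf.isLocallySurjective_iff_epi' (J := S.smallEtaleTopology)
    (A := AddCommGrpCat.{u + 1})]
  refine ⟨fun {U} t => ?_⟩
  rw [Groth.Agent.Lib.Helper22.CechU.Etale.mem_smallEtaleTopology_iff]
  intro x
  -- an affine neighbourhood of `x`
  obtain ⟨W, hW, hxW, -⟩ := TopologicalSpace.Opens.isBasis_iff_nbhd.mp
    U.left.isBasis_affineOpens (show x ∈ (⊤ : U.left.Opens) from trivial)
  have hW : IsAffineOpen W := hW
  let A : Type u := Γ(U.left, W)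
  let resW : Γ(U.left, ⊤) ⟶ Γ(U.left, W) := U.left.presheaf.map (homOfLE (le_top : W ≤ ⊤)).op
  let t' : (Γ(U.left, ⊤))ˣ := (t : ULift.{u+1} (Additive (Γ(U.left, ⊤))ˣ)).down.toMul
  let a : Aˣ := Units.map (resW.hom : Γ(U.left, ⊤) →* Γ(U.left, W)) t'
  -- `n` is invertible in `A`
  let ρ : Γ(S, ⊤) →+* A := resW.hom.comp U.hom.appTop.hom
  have hnA : IsUnit ((n : ℕ) : A) := by
    have := hn.map ρ
    rwa [map_natCast] at this
  obtain ⟨ν, hν⟩ := hnA.exists_right_inv
  have hn0 : n ≠ 0 := by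
    rintro rfl
    have h10 : (1 : A) = 0 := by
      have := hν
      simp only [Nat.cast_zero, zero_mul] at this
      exact this.symm
    have h2 := congrArg (U.left.presheaf.germ W x hxW).hom h10
    rw [map_one, map_zero] at h2
    exact one_ne_zero h2
  let P := Groth.Agent.Lib.Helper10.Kummer.pair A n hn0 a ν hν
  let B : CommRingCat.{u} := CommRingCat.of P.Ring
  let φ : Γ(U.left, W) ⟶ B := CommRingCat.ofHom (algebraMap A P.Ring)
  have hφ : Etale (Spec.map φ) := by
    rw [HasRingHomProperty.Spec_iff (P := @Etale)]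
    exact RingHom.etale_algebraMap.mpr inferInstance
  let g : Spec B ⟶ U.left := Spec.map φ ≫ hW.fromSpec
  have hg : Etale g := inferInstance
  have hgS : Etale (g ≫ U.hom) := inferInstance
  let V : S.Etale := MorphismProperty.Over.mk ⊤ (g ≫ U.hom) hgS
  let f : V ⟶ U := MorphismProperty.Over.homMk g rfl
  -- a point over `x`
  obtain ⟨q, hq⟩ := Groth.Agent.Lib.Helper10.Kummer.comap_surjective A n hn0 a ν hν
    (hW.primeIdealOf ⟨x, hxW⟩)
  refine ⟨V, f, q, ?_, ?_⟩
  · -- the section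
    obtain ⟨uX, huX⟩ := Groth.Agent.Lib.Helper10.Kummer.isUnit_pair_X A n hn0 a ν hν
    let uX' : (Γ(Spec B, ⊤))ˣ := Units.map ((Scheme.ΓSpecIso B).inv.hom : P.Ring →* Γ(Spec B, ⊤)) uX
    refine ⟨(ULift.up (Additive.ofMul uX') : ULift.{u+1} (Additive (Γ(Spec B, ⊤))ˣ)), ?_⟩
    refine (powMap_app S n V _).trans ?_
    apply ULift.ext
    apply Additive.toMul.injective
    rw [Gm_map_down]
    apply Units.ext
    change ((Scheme.ΓSpecIso B).inv (uX : P.Ring)) ^ n = g.appTop (t' : Γ(U.left, ⊤))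
    rw [comp_fromSpec_appTop hW φ, ← map_pow, huX,
      Groth.Agent.Lib.Helper10.Kummer.pair_X_pow A n hn0 a ν hν]
    rfl
  · change hW.fromSpec ((Spec.map φ) q) = x
    have h1 : (Spec.map φ) q = hW.primeIdealOf ⟨x, hxW⟩ := hq
    rw [h1, hW.fromSpec_primeIdealOf]

end aux

/-- The Kummer sequence — when n is invertible on S, the n-th power map on the multiplicative group
sheaf is an epimorphism of étale sheaves (its kernel μ_n is, by definition in the prelude, the sheaf
of n-th roots of unity, so the sequence 0 → μ_n → G_m → G_m → 0 is exact). -/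
theorem result (S : Scheme.{u}) (n : ℕ) (hn : IsUnit (n : Γ(S, ⊤))) : Epi (EtCoh.powMap S n) := by
  exact epi_powMap S n hn

end Groth.Agent.S0108
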