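import Groth.Statements.S18415
import Groth.Agent.S0108

set_option autoImplicit false
universe u
open CategoryTheory AlgebraicGeometry
open EtCoh

namespace Groth.Agent.S18415
open CategoryTheory.Limits Opposite Polynomial

section ring

lemma degree_lt_as (p : ℕ) (hp : p.Prime) (B : Type u) [CommRing B] [Nontrivial B] (b : B) :
    (X + C b : B[X]).degree < (X ^ p : B[X]).degree := by
  rw [degree_X_pow]
  have h2 := hp.two_le
  refine (degree_add_le _ _).trans_lt ?_
  rw [max_lt_iff]
  constructor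
  · exact degree_X_le.trans_lt (by exact_mod_cast (by omega : 1 < p))
  · exact degree_C_le.trans_lt (by exact_mod_cast (by omega : 0 < p))

lemma degree_as (p : ℕ) (hp : p.Prime) (B : Type u) [CommRing B] [Nontrivial B] (b : B) :
    (X ^ p - X - C b : B[X]).degree = p := by
  rw [sub_sub, degree_sub_eq_left_of_degree_lt (degree_lt_as p hp B b), degree_X_pow]

lemma monic_as (A : Type u) [CommRing A] (p : ℕ) (hp : p.Prime) (a : A) :
    (X ^ p - X - C a : A[X]).Monic := by
  have e : (X ^ p - X - C a : A[X]) = X ^ p - (X + C a) := sub_sub _ _ _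
  rw [e]
  apply monic_X_pow_sub
  have h2 := hp.two_le
  refine (degree_add_le _ _).trans_lt ?_
  rw [max_lt_iff]
  constructor
  · exact degree_X_le.trans_lt (by exact_mod_cast (by omega : 1 < p))
  · exact degree_C_le.trans_lt (by exact_mod_cast (by omega : 0 < p))

variable (A : Type u) [CommRing A] (p : ℕ) (hp : p.Prime) (h0 : (p : A) = 0) (a : A)

/-- The Artin–Schreier standard étale pair `(X^p - X - a, 1)`. -/
noncomputable def asPair : StandardEtalePair A where
  f := X ^ p - X - C a
  monic_f := monic_as A p hp a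
  g := 1
  cond := by
    refine ⟨-1, 0, 0, ?_⟩
    simp only [derivative_sub, derivative_X_pow, derivative_X, derivative_C, sub_zero, pow_zero,
      mul_zero, add_zero, h0, C_0, zero_mul, zero_sub, mul_neg, mul_one, neg_neg]

theorem asPair_X : (asPair A p hp h0 a).X ^ p - (asPair A p hp h0 a).X =
    algebraMap A (asPair A p hp h0 a).Ring a := by
  have h := (asPair A p hp h0 a).hasMap_X.1
  change aeval _ (X ^ p - X - C a) = 0 at h
  simpa [sub_eq_zero] using h

/-- `Spec A[X]/(X^p - X - a) → Spec A` is surjective. -/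
theorem comap_surjective :
    Function.Surjective (PrimeSpectrum.comap (algebraMap A (asPair A p hp h0 a).Ring)) := by
  intro q
  let k := q.asIdeal.ResidueField
  let K := AlgebraicClosure k
  let _ : Algebra A K := ((algebraMap k K).comp (algebraMap A k)).toAlgebra
  have hdeg : ((X ^ p - X - C (algebraMap A K a) : K[X])).degree ≠ 0 := by
    rw [degree_as p hp K]
    exact_mod_cast hp.ne_zero
  obtain ⟨x, hx⟩ := IsAlgClosed.exists_root _ hdeg
  have hmap : (asPair A p hp h0 a).HasMap x := by
    refine ⟨?_, ?_⟩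
    · change aeval x (X ^ p - X - C a) = 0
      have : eval x (X ^ p - X - C (algebraMap A K a) : K[X]) = 0 := hx
      simpa using this
    · change IsUnit (aeval x (1 : A[X]))
      simp
  let ψ := (asPair A p hp h0 a).lift x hmap
  refine ⟨⟨RingHom.ker ψ.toRingHom, RingHom.ker_isPrime _⟩, ?_⟩
  apply PrimeSpectrum.ext
  ext r
  change ψ (algebraMap A _ r) = 0 ↔ r ∈ q.asIdeal
  rw [ψ.commutes]
  change algebraMap k K (algebraMap A k r) = 0 ↔ _
  rw [map_eq_zero_iff _ (algebraMap k K).injective, Ideal.algebraMap_residueField_eq_zero]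

end ring


section sheaf

theorem as_app (X : Scheme.{u}) (p : ℕ) (hp : p.Prime) (h0 : (p : Γ(X, ⊤)) = 0) (V : X.Etale)
    (s : ((EtCoh.Ga X).obj.obj (op V) : Type (u+1))) :
    ULift.down (α := Γ(V.left, ⊤))
      (((W4c5etcohweilstudent.artinSchreierEndo X p hp h0).hom.app (op V)) s) =
      (ULift.down (α := Γ(V.left, ⊤)) s) ^ p - ULift.down (α := Γ(V.left, ⊤)) s := rfl

theorem Ga_map_down (S : Scheme.{u}) {U V : S.Etale} (f : V ⟶ U)
    (t : ((EtCoh.Ga S).obj.obj (op U) : Type (u+1))) :
    ULift.down (α := Γ(V.left, ⊤)) (((EtCoh.Ga S).obj.map f.op) t) =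
      f.left.appTop.hom (ULift.down (α := Γ(U.left, ⊤)) t) := rfl

theorem epi_as (p : ℕ) (hp : p.Prime) {S : Scheme.{u}} (h0 : (p : Γ(S, ⊤)) = 0) :
    Epi (W4c5etcohweilstudent.artinSchreierEndo S p hp h0) := by
  rw [← Sheaf.isLocallySurjective_iff_epi' (J := S.smallEtaleTopology)
    (A := AddCommGrpCat.{u + 1})]
  refine ⟨fun {U} t => ?_⟩
  rw [Groth.Agent.Lib.Helper22.CechU.Etale.mem_smallEtaleTopology_iff]
  intro x
  obtain ⟨W, hW, hxW, -⟩ := TopologicalSpace.Opens.isBasis_iff_nbhd.mp
    U.left.isBasis_affineOpens (show x ∈ (⊤ : U.left.Opens) from trivial)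
  have hW : IsAffineOpen W := hW
  let A : Type u := Γ(U.left, W)
  let resW : Γ(U.left, ⊤) ⟶ Γ(U.left, W) := U.left.presheaf.map (homOfLE (le_top : W ≤ ⊤)).op
  let t' : Γ(U.left, ⊤) := ULift.down (α := Γ(U.left, ⊤)) t
  let a : A := resW.hom t'
  have hpU : ((p : ℕ) : Γ(U.left, ⊤)) = 0 := W4c5etcohweilstudent.natCast_eq_zero_etale p h0 U
  have hpA : ((p : ℕ) : A) = 0 := by
    have := congrArg resW.hom hpU
    rwa [map_natCast, map_zero] at this
  let P := asPair A p hp hpA a
  let B : CommRingCat.{u} := CommRingCat.of P.Ring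
  let φ : Γ(U.left, W) ⟶ B := CommRingCat.ofHom (algebraMap A P.Ring)
  have hφ : Etale (Spec.map φ) := by
    rw [HasRingHomProperty.Spec_iff (P := @Etale)]
    exact RingHom.etale_algebraMap.mpr inferInstance
  let g : Spec B ⟶ U.left := Spec.map φ ≫ hW.fromSpec
  have hg : Etale g := inferInstance
  have hgS : Etale (g ≫ U.hom) := inferInstance
  let V : S.Etale := MorphismProperty.Over.mk ⊤ (g ≫ U.hom) hgS
  let f : V ⟶ U := MorphismProperty.Over.homMk g rfl
  obtain ⟨q, hq⟩ := comap_surjective A p hp hpA a (hW.primeIdealOf ⟨x, hxW⟩)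
  refine ⟨V, f, q, ?_, ?_⟩
  · let uX' : Γ(Spec B, ⊤) := (Scheme.ΓSpecIso B).inv.hom P.X
    refine ⟨(ULift.up uX' : ULift.{u+1} Γ(Spec B, ⊤)), ?_⟩
    apply ULift.ext
    refine (as_app S p hp h0 V _).trans ?_
    refine Eq.trans ?_ (Ga_map_down S f t).symm
    change ((Scheme.ΓSpecIso B).inv (P.X : P.Ring)) ^ p - (Scheme.ΓSpecIso B).inv (P.X : P.Ring) =
      g.appTop (t' : Γ(U.left, ⊤))
    rw [Groth.Agent.S0108.comp_fromSpec_appTop hW φ, ← map_pow, ← map_sub,
      asPair_X A p hp hpA a]
    rfl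
  · change hW.fromSpec ((Spec.map φ) q) = x
    have h1 : (Spec.map φ) q = hW.primeIdealOf ⟨x, hxW⟩ := hq
    rw [h1, hW.fromSpec_primeIdealOf]

end sheaf


/-- Let p be a prime and X a scheme with p = 0 in Γ(X, O_X). Then the Artin–Schreier endomorphism x ↦
x^p − x of the additive group sheaf G_a on the small étale site of X is an epimorphism of abelian
étale sheaves (the right-hand exactness of 0 → Z/p → G_a → G_a → 0 on X_et). (The published example
takes X a variety over a field of characteristic p; this row assumes only that p = 0 in Γ(X, O_X).) -/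
theorem result
    (p : ℕ) (hp : p.Prime) {X : Scheme.{u}} (h0 : (p : Γ(X, ⊤)) = 0) :
    Epi (W4c5etcohweilstudent.artinSchreierEndo X p hp h0) := by
  exact epi_as p hp h0

end Groth.Agent.S18415
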