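import Groth.Statements.S0105
import Groth.Agent.Lib.Helper22.EtLoc.LccPull
import Groth.Agent.Lib.Helper22.EtStalk.ConstStalk
import Groth.Agent.Lib.Helper22.EtStalk.AlgClosedPoints
import Groth.Agent.Lib.Helper22.EtStalk.Pull

set_option autoImplicit false
open CategoryTheory CategoryTheory.Limits AlgebraicGeometry Opposite
universe u
open EtBase

namespace Groth.Agent.S0105

open Groth.Agent.Lib.Helper22.EtLoc Groth.Agent.Lib.Helper22.EtStalk

/-- If `F|_U` is constant with value `M`, the stalk of `F` at a geometric point lifting to `U`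
is `M`. -/
lemma stalk_iso_of_restr {X : Scheme.{u}} (F : EtCoh.Ab X) (U : X.Etale) (M : AddCommGrpCat.{u + 1})
    (e : Nonempty (EtCoh.restr F U ≅
      (constantSheaf (X.smallEtaleTopology.over U) AddCommGrpCat.{u + 1}).obj M))
    {Ω : Type u} [Field Ω] [IsSepClosed Ω] (ξ : Spec (CommRingCat.of Ω) ⟶ X)
    (v : Spec (CommRingCat.of Ω) ⟶ U.left) (hv : v ≫ U.hom = ξ) :
    Nonempty ((EtCoh.stalk ξ).obj F ≅ M) := by
  subst hv
  obtain ⟨e'⟩ := (OverSite.restr_iso_const_iff U F M).1 e
  exact ⟨((stalkPullIso U.hom v).app F).symm ≪≫ (EtCoh.stalk v).mapIso e' ≪≫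
    ConstStalk.stalkConstIso v M⟩

/-- The canonical geometric point over a point of `X`. -/
noncomputable def gpt {X : Scheme.{u}} (x : X) :
    Spec (CommRingCat.of (AlgebraicClosure (X.residueField x))) ⟶ X :=
  (Scheme.SpecToEquivOfField (AlgebraicClosure (X.residueField x)) X).symm
    ⟨x, CommRingCat.ofHom (algebraMap (X.residueField x) (AlgebraicClosure (X.residueField x)))⟩

lemma gpt_default {X : Scheme.{u}} (x : X) : gpt x default = x := by simp [gpt]

/-- The stalk of `F` at the canonical geometric point over `x`. -/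
noncomputable def T {X : Scheme.{u}} (F : EtCoh.Ab X) (x : X) : AddCommGrpCat.{u + 1} :=
  (EtCoh.stalk (gpt x)).obj F

lemma T_iso {X : Scheme.{u}} (F : EtCoh.Ab X) (U : X.Etale) (M : AddCommGrpCat.{u + 1})
    (e : Nonempty (EtCoh.restr F U ≅
      (constantSheaf (X.smallEtaleTopology.over U) AddCommGrpCat.{u + 1}).obj M))
    (y : U.left) : Nonempty (T F (U.hom y) ≅ M) := by
  obtain ⟨v, -⟩ := Scheme.pointSmallEtaleFiberObjToPreimage_surjective (gpt (U.hom y))
    (gpt_default _) U ⟨y, rfl⟩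
  exact stalk_iso_of_restr F U M e (gpt (U.hom y)) v.left (Over.w v)


/-- On a connected scheme X, a finite locally constant abelian sheaf F on the small étale site is, étale
locally, constant with one and the same finite group everywhere: there are a finite abelian group M
and an étale covering (U_i) of X such that the restriction of F to every U_i is isomorphic to the
constant sheaf with value M. (The published statement covers arbitrary locally constant sheaves of
modules; stated here for finite locally constant abelian sheaves.) -/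
theorem result {X : Scheme.{u}} [ConnectedSpace X] (F : EtCoh.Ab X) (h : EtCoh.IsFiniteLocallyConstant F) :
    ∃ (M : Type) (_ : AddCommGroup M) (_ : Finite M) (ι : Type u) (U : ι → X.Etale), EtCoh.Covers U ∧
      ∀ i, Nonempty (EtCoh.restr F (U i) ≅
        (constantSheaf (X.smallEtaleTopology.over (U i)) AddCommGrpCat.{u + 1}).obj
          (AddCommGrpCat.of (ULift.{u + 1} M))) := by
  obtain ⟨ι, U, hU, hM⟩ := h
  choose M iM fM eM using hM
  obtain ⟨x₀⟩ : Nonempty X := inferInstance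
  -- the set of points with the same stalk type as `x₀`
  let S : Set X := {x | Nonempty (T F x ≅ T F x₀)}
  have hopen : ∀ i, IsOpen (Set.range (U i).hom.base) := fun i =>
    (U i).hom.isOpenMap.isOpen_range
  have hconst : ∀ i (x x' : X), x ∈ Set.range (U i).hom.base → x' ∈ Set.range (U i).hom.base →
      Nonempty (T F x ≅ T F x') := by
    rintro i _ _ ⟨y, rfl⟩ ⟨y', rfl⟩
    obtain ⟨a⟩ := T_iso F (U i) _ (eM i) y
    obtain ⟨b⟩ := T_iso F (U i) _ (eM i) y'
    exact ⟨a ≪≫ b.symm⟩
  have hS : IsClopen S := by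
    constructor
    · rw [← isOpen_compl_iff, isOpen_iff_forall_mem_open]
      intro x hx
      obtain ⟨i, y, hy⟩ := hU x
      refine ⟨Set.range (U i).hom.base, ?_, hopen i, ⟨y, hy⟩⟩
      intro x' hx' hx'S
      apply hx
      obtain ⟨a⟩ := hconst i x x' ⟨y, hy⟩ hx'
      obtain ⟨b⟩ := hx'S
      exact ⟨a ≪≫ b⟩
    · rw [isOpen_iff_forall_mem_open]
      intro x hx
      obtain ⟨i, y, hy⟩ := hU x
      refine ⟨Set.range (U i).hom.base, ?_, hopen i, ⟨y, hy⟩⟩
      intro x' hx'
      obtain ⟨a⟩ := hconst i x' x hx' ⟨y, hy⟩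
      obtain ⟨b⟩ := hx
      exact ⟨a ≪≫ b⟩
  have hSuniv : S = Set.univ := hS.eq_univ ⟨x₀, ⟨Iso.refl _⟩⟩
  obtain ⟨i₀, y₀, hy₀⟩ := hU x₀
  refine ⟨M i₀, iM i₀, fM i₀, {i : ι // Nonempty (U i).left}, fun i => U i.1, ?_, ?_⟩
  · intro x
    obtain ⟨i, y, hy⟩ := hU x
    exact ⟨⟨i, ⟨y⟩⟩, y, hy⟩
  · rintro ⟨i, ⟨y⟩⟩
    have hx : (U i).hom.base y ∈ S := hSuniv ▸ Set.mem_univ _
    obtain ⟨a⟩ := hx
    obtain ⟨b⟩ := T_iso F (U i) _ (eM i) y
    obtain ⟨c⟩ := T_iso F (U i₀) _ (eM i₀) y₀
    rw [hy₀] at c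
    obtain ⟨e⟩ := eM i
    exact ⟨e ≪≫ (constantSheaf (X.smallEtaleTopology.over (U i)) AddCommGrpCat.{u + 1}).mapIso
      (b.symm ≪≫ a ≪≫ c)⟩

end Groth.Agent.S0105
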