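import Groth.Statements.S13507
import Groth.Agent.S0108
import Groth.Agent.Lib.Helper22.EtStalk.ClosedStalk
import Groth.Agent.Lib.Helper22.EtStalk.ClosedPush

set_option autoImplicit false
universe u
open CategoryTheory CategoryTheory.Limits AlgebraicGeometry
open EtCore

namespace Groth.Agent.S13507
open Opposite Groth.Agent.Lib.Helper22.EtStalk Groth.Agent.Lib.Helper22.CechU.Etale
  Groth.Agent.Lib.Helper22.EtStalk.ClosedStalk

section Algebra

lemma pow_eq_one_of_cyclotomic {R : Type*} [CommRing R] (n : ℕ) (ζ : R)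
    (hζ : Polynomial.aeval ζ (Polynomial.cyclotomic n ℤ) = 0) : ζ ^ n = 1 := by
  obtain ⟨q, hq⟩ := Polynomial.cyclotomic.dvd_X_pow_sub_one n ℤ
  have h := congrArg (Polynomial.aeval ζ) hq
  rw [map_mul, hζ, zero_mul] at h
  simpa [sub_eq_zero] using h

lemma aeval_map_cyclotomic {R R' : Type*} [CommRing R] [CommRing R'] (f : R →+* R') (n : ℕ) (ζ : R)
    (hζ : Polynomial.aeval ζ (Polynomial.cyclotomic n ℤ) = 0) :
    Polynomial.aeval (f ζ) (Polynomial.cyclotomic n ℤ) = 0 := by
  have := Polynomial.aeval_algHom_apply f.toIntAlgHom ζ (Polynomial.cyclotomic n ℤ)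
  rw [hζ, map_zero] at this
  exact this

lemma isPrimitiveRoot_of_cyclotomic {K : Type*} [Field K] (n : ℕ) (hn : (n : K) ≠ 0) (ζ : K)
    (hζ : Polynomial.aeval ζ (Polynomial.cyclotomic n ℤ) = 0) : IsPrimitiveRoot ζ n := by
  have : NeZero (n : K) := ⟨hn⟩
  rw [← Polynomial.isRoot_cyclotomic_iff, Polynomial.IsRoot.def, ← Polynomial.map_cyclotomic_int n K,
    Polynomial.eval_map, ← algebraMap_int_eq, ← Polynomial.aeval_def]
  exact hζ

/-- In a nontrivial ring where `n` is invertible, a root of the cyclotomic polynomial has exact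
order `n`. -/
lemma dvd_of_pow_eq_one {R : Type*} [CommRing R] [Nontrivial R] (n : ℕ) (hn : IsUnit (n : R)) (ζ : R)
    (hζ : Polynomial.aeval ζ (Polynomial.cyclotomic n ℤ) = 0) (k : ℕ) (hk : ζ ^ k = 1) : n ∣ k := by
  obtain ⟨m, hm⟩ := Ideal.exists_maximal R
  let _ := Ideal.Quotient.field m
  let f : R →+* R ⧸ m := Ideal.Quotient.mk m
  have hn' : ((n : ℕ) : R ⧸ m) ≠ 0 := by
    have := hn.map f
    rw [map_natCast] at this
    exact this.ne_zero
  have hp := isPrimitiveRoot_of_cyclotomic n hn' (f ζ) (aeval_map_cyclotomic f n ζ hζ)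
  apply hp.dvd_of_pow_eq_one
  rw [← map_pow, hk, map_one]

/-- Local version: in a local ring where `n` is invertible, every `n`-th root of unity agrees with
a power of `ζ` up to an element `w` for which the geometric sum is a unit. -/
lemma exists_isUnit_geom_sum {A : Type*} [CommRing A] [IsLocalRing A] (n : ℕ) (hn0 : n ≠ 0)
    (hn : IsUnit (n : A)) (ζ : A)
    (hζ : Polynomial.aeval ζ (Polynomial.cyclotomic n ℤ) = 0) (a : A) (ha : a ^ n = 1) :
    ∃ k < n, IsUnit (∑ i ∈ Finset.range n, (a * ζ ^ (n - k)) ^ i) := by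
  let f : A →+* IsLocalRing.ResidueField A := IsLocalRing.residue A
  have hn' : ((n : ℕ) : IsLocalRing.ResidueField A) ≠ 0 := by
    have := hn.map f
    rw [map_natCast] at this
    exact this.ne_zero
  have hp := isPrimitiveRoot_of_cyclotomic n hn' (f ζ) (aeval_map_cyclotomic f n ζ hζ)
  have : NeZero n := ⟨hn0⟩
  obtain ⟨k, hk, hka⟩ := hp.eq_pow_of_pow_eq_one (ξ := f a) (by rw [← map_pow, ha, map_one])
  refine ⟨k, hk, ?_⟩
  rw [← IsLocalRing.residue_ne_zero_iff_isUnit]
  change f _ ≠ 0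
  rw [map_sum]
  have hw : f (a * ζ ^ (n - k)) = 1 := by
    rw [map_mul, map_pow, ← hka, ← pow_add, Nat.add_sub_cancel' hk.le, hp.pow_eq_one]
  simp only [map_pow, hw, one_pow, Finset.sum_const, Finset.card_range, nsmul_eq_mul, mul_one]
  exact hn'

lemma eq_one_of_isUnit_geom_sum {R : Type*} [CommRing R] (n : ℕ) (w : R) (hw : w ^ n = 1)
    (hc : IsUnit (∑ i ∈ Finset.range n, w ^ i)) : w = 1 := by
  have h : (∑ i ∈ Finset.range n, w ^ i) * (w - 1) = 0 := by rw [geom_sum_mul, hw, sub_self]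
  have := hc.mul_right_eq_zero.mp h
  exact sub_eq_zero.mp this

lemma eq_pow_of_mul_pow_eq_one {R : Type*} [CommRing R] (n k : ℕ) (hk : k ≤ n) (a z : R)
    (hz : z ^ n = 1) (h : a * z ^ (n - k) = 1) : a = z ^ k := by
  calc a = a * z ^ n := by rw [hz, mul_one]
    _ = (a * z ^ (n - k)) * z ^ k := by rw [mul_assoc, ← pow_add, Nat.sub_add_cancel hk]
    _ = z ^ k := by rw [h, one_mul]

lemma isUnit_appTop_ι_basicOpen {X : Scheme.{u}} (c : Γ(X, ⊤)) :
    IsUnit ((X.basicOpen c).ι.appTop c) := by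
  have h : ∀ y : (X.basicOpen c).toScheme,
      y ∈ (X.basicOpen c).toScheme.basicOpen ((X.basicOpen c).ι.appTop c) := by
    intro y
    rw [← Scheme.preimage_basicOpen_top]
    exact y.2
  apply RingedSpace.isUnit_of_isUnit_germ (X := (X.basicOpen c).toScheme.toRingedSpace) ⊤
  intro y hy
  exact (Scheme.mem_basicOpen_top _ _ _).1 (h y)

end Algebra


set_option linter.unusedSectionVars false

section Sheaf

variable (S : Scheme.{u}) (n : ℕ) [NeZero n]

/-- The additive map `k ↦ z ^ k` out of `ZMod n`, for `z ^ n = 1`. -/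
noncomputable def powHom {G : Type*} [CommGroup G] (z : G) (hz : z ^ n = 1) : ZMod n →+ Additive G :=
  ZMod.lift n ⟨zmultiplesHom (Additive G) (Additive.ofMul z), by
    rw [zmultiplesHom_apply, natCast_zsmul, ← ofMul_pow, hz, ofMul_one]⟩

lemma powHom_apply {G : Type*} [CommGroup G] (z : G) (hz : z ^ n = 1) (k : ZMod n) :
    powHom n z hz k = Additive.ofMul (z ^ k.val) := by
  have hk : k = (((k.val : ℕ) : ℤ) : ZMod n) := by simp
  rw [powHom]
  conv_lhs => rw [hk]
  rw [ZMod.lift_coe]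
  change zmultiplesHom (Additive G) (Additive.ofMul z) ((k.val : ℕ) : ℤ) = _
  rw [zmultiplesHom_apply, natCast_zsmul, ofMul_pow]

variable (ζu : (Γ(S, ⊤))ˣ) (hz : ζu ^ n = 1)

/-- Restriction of global functions to an étale `S`-scheme. -/
noncomputable def resHom (U : S.Etale) : Γ(S, ⊤) →+* Γ(U.left, ⊤) :=
  (Scheme.Hom.appTop (X := U.left) (Y := S) U.hom).hom

lemma resHom_map {U V : S.Etale} (f : V ⟶ U) (r : Γ(S, ⊤)) :
    f.left.appTop.hom (resHom S U r) = resHom S V r := by
  have h : f.left ≫ (U.hom : U.left ⟶ S) = V.hom := MorphismProperty.Over.w f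
  change (Scheme.Hom.appTop (X := U.left) (Y := S) U.hom ≫ f.left.appTop).hom r =
    (Scheme.Hom.appTop (X := V.left) (Y := S) V.hom).hom r
  rw [← Scheme.Hom.comp_appTop, h]

/-- `ζ` restricted to an étale `S`-scheme. -/
noncomputable def zetaAt (U : S.Etale) : (Γ(U.left, ⊤))ˣ :=
  Units.map (resHom S U : Γ(S, ⊤) →* Γ(U.left, ⊤)) ζu

lemma zetaAt_map {U V : S.Etale} (f : V ⟶ U) :
    Units.map (f.left.appTop.hom : Γ(U.left, ⊤) →* Γ(V.left, ⊤)) (zetaAt S ζu U) = zetaAt S ζu V := by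
  apply Units.ext
  exact resHom_map S f _

include hz in
lemma zetaAt_pow (U : S.Etale) : zetaAt S ζu U ^ n = 1 := by
  rw [zetaAt, ← map_pow, hz, map_one]

/-- The constant presheaf with value `ZMod n`. -/
abbrev P0 : S.Etaleᵒᵖ ⥤ AddCommGrpCat.{u + 1} :=
  (Functor.const _).obj (AddCommGrpCat.of (ULift.{u + 1} (ZMod n)))

/-- Sections of `G_m`. -/
abbrev GmSec (U : S.Etale) : Type (u + 1) := ULift.{u + 1} (Additive (Γ(U.left, ⊤))ˣ)

/-- The component of the presheaf map `k ↦ ζ ^ k`. -/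
noncomputable def psiApp (U : S.Etale) : ULift.{u + 1} (ZMod n) →+ GmSec S U :=
  (AddEquiv.ulift.{u, u + 1} (α := Additive (Γ(U.left, ⊤))ˣ)).symm.toAddMonoidHom.comp
    ((powHom n (zetaAt S ζu U) (zetaAt_pow S n ζu hz U)).comp
      (AddEquiv.ulift.{0, u + 1} (α := ZMod n)).toAddMonoidHom)

lemma psiApp_apply (U : S.Etale) (k : ULift.{u + 1} (ZMod n)) :
    psiApp S n ζu hz U k = ULift.up (Additive.ofMul (zetaAt S ζu U ^ k.down.val)) := by
  change ULift.up (powHom n (zetaAt S ζu U) (zetaAt_pow S n ζu hz U) k.down) = _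
  rw [powHom_apply]


/-- The presheaf map `k ↦ ζ ^ k`. -/
noncomputable def psiPre : P0 S n ⟶ (EtCoh.Gm S).obj where
  app U := AddCommGrpCat.ofHom (psiApp S n ζu hz U.unop)
  naturality U V f := by
    ext k
    change psiApp S n ζu hz V.unop k = ((EtCoh.Gm S).obj.map f) (psiApp S n ζu hz U.unop k)
    rw [psiApp_apply, psiApp_apply]
    apply ULift.ext
    apply Additive.toMul.injective
    refine Eq.trans ?_ (Groth.Agent.S0108.Gm_map_down S f.unop _).symm
    have h1 : Units.map (f.unop.left.appTop.hom : Γ(U.unop.left, ⊤) →* Γ(V.unop.left, ⊤))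
        (zetaAt S ζu U.unop ^ k.down.val) = zetaAt S ζu V.unop ^ k.down.val := by
      rw [map_pow, zetaAt_map]
    exact h1.symm

/-- The morphism `ℤ/n → G_m`, `1 ↦ ζ`. -/
noncomputable def psi : EtCoh.const S (ZMod n) ⟶ EtCoh.Gm S :=
  ⟨sheafifyLift S.smallEtaleTopology (psiPre S n ζu hz) (EtCoh.Gm S).property⟩

/-- The constant section with value `k`. -/
noncomputable def cst (U : S.Etale) (k : ZMod n) : (EtCoh.const S (ZMod n)).obj.obj (op U) :=
  (toSheafify S.smallEtaleTopology (P0 S n)).app (op U) (ULift.up k)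

lemma psi_cst (U : S.Etale) (k : ZMod n) :
    (psi S n ζu hz).hom.app (op U) (cst S n U k) =
      (ULift.up (Additive.ofMul (zetaAt S ζu U ^ k.val)) : GmSec S U) := by
  have h := toSheafify_sheafifyLift S.smallEtaleTopology (psiPre S n ζu hz) (EtCoh.Gm S).property
  have h2 := congrArg (fun φ => (ConcreteCategory.hom (φ.app (op U))) (ULift.up k)) h
  refine Eq.trans ?_ (h2.trans ?_)
  · rfl
  · exact psiApp_apply S n ζu hz U (ULift.up k)

lemma cst_map {U V : S.Etale} (f : V ⟶ U) (k : ZMod n) :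
    (EtCoh.const S (ZMod n)).obj.map f.op (cst S n U k) = cst S n V k := by
  have h := (toSheafify S.smallEtaleTopology (P0 S n)).naturality f.op
  have h2 := congrArg (fun φ => (ConcreteCategory.hom φ) (ULift.up k)) h
  exact h2.symm

lemma cst_zero (U : S.Etale) : cst S n U 0 = 0 :=
  map_zero (ConcreteCategory.hom ((toSheafify S.smallEtaleTopology (P0 S n)).app (op U)))


lemma psi_powMap : psi S n ζu hz ≫ EtCoh.powMap S n = 0 := by
  apply Sheaf.hom_ext
  apply sheafify_hom_ext S.smallEtaleTopology _ _ (EtCoh.Gm S).property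
  have h := toSheafify_sheafifyLift S.smallEtaleTopology (psiPre S n ζu hz) (EtCoh.Gm S).property
  change toSheafify S.smallEtaleTopology (P0 S n) ≫
    (sheafifyLift S.smallEtaleTopology (psiPre S n ζu hz) (EtCoh.Gm S).property ≫
      (EtCoh.powMap S n).hom) = toSheafify S.smallEtaleTopology (P0 S n) ≫ 0
  rw [← Category.assoc, h, comp_zero]
  ext U k
  change (EtCoh.powMap S n).hom.app U (psiApp S n ζu hz U.unop k) = 0
  have hk : n • (k : ULift.{u + 1} (ZMod n)) = 0 := by
    apply ULift.ext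
    change n • k.down = 0
    rw [nsmul_eq_mul, ZMod.natCast_self, zero_mul]
  have h3 : n • (psiApp S n ζu hz U.unop k) = 0 := by
    rw [← map_nsmul, hk, map_zero]
  exact (Groth.Agent.S0108.powMap_app S n U.unop _).trans h3

/-- The morphism `ℤ/n → μ_n`, `1 ↦ ζ`. -/
noncomputable def phi : EtCoh.const S (ZMod n) ⟶ EtCoh.mu S n :=
  kernel.lift (EtCoh.powMap S n) (psi S n ζu hz) (psi_powMap S n ζu hz)

lemma phi_ι : phi S n ζu hz ≫ EtCoh.muι S n = psi S n ζu hz :=
  kernel.lift_ι _ _ _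

/-- A monomorphism of abelian étale sheaves is injective on sections. -/
lemma injective_of_mono' {F G : EtCoh.Ab S} (a : F ⟶ G) [Mono a] (U : S.Etale) :
    Function.Injective (a.hom.app (op U)) := by
  have h1 : Mono a.hom := (Sheaf.Hom.mono_iff_presheaf_mono _ _ a).1 inferInstance
  have h2 := (NatTrans.mono_iff_mono_app a.hom).1 h1 (op U)
  exact (AddCommGrpCat.mono_iff_injective _).1 h2

lemma mono_of_injective' {F G : EtCoh.Ab S} (a : F ⟶ G)
    (h : ∀ U : S.Etale, Function.Injective (a.hom.app (op U))) : Mono a := by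
  rw [Sheaf.Hom.mono_iff_presheaf_mono, NatTrans.mono_iff_mono_app]
  intro U
  exact (AddCommGrpCat.mono_iff_injective _).2 (h U.unop)


variable (hunit : IsUnit ((n : ℕ) : Γ(S, ⊤)))
  (hζ : Polynomial.aeval (ζu : Γ(S, ⊤)) (Polynomial.cyclotomic n ℤ) = 0)

include hunit hζ in
lemma mono_psi : Mono (psi S n ζu hz) := by
  apply mono_of_injective'
  intro U
  rw [injective_iff_map_eq_zero]
  intro s hs
  refine eq_of_locally_eq s 0 ?_
  intro y
  have hmem := Presheaf.imageSieve_mem S.smallEtaleTopology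
    (toSheafify S.smallEtaleTopology (P0 S n)) s
  rw [mem_smallEtaleTopology_iff] at hmem
  obtain ⟨V, f, v, ⟨k, hk⟩, hv⟩ := hmem y
  refine ⟨V, f, ⟨v, hv⟩, ?_⟩
  rw [map_zero]
  have hk' : cst S n V k.down = (EtCoh.const S (ZMod n)).obj.map f.op s := hk
  have h1 : (psi S n ζu hz).hom.app (op V) (cst S n V k.down) = 0 := by
    rw [hk']
    have hnat := (psi S n ζu hz).hom.naturality f.op
    have h2 := congrArg (fun φ => (ConcreteCategory.hom φ) s) hnat
    refine h2.trans ?_
    change ((EtCoh.Gm S).obj.map f.op) ((psi S n ζu hz).hom.app (op U) s) = 0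
    rw [hs, map_zero]
  rw [psi_cst] at h1
  have h2 : zetaAt S ζu V ^ k.down.val = 1 := by
    have := congrArg (fun t : GmSec S V => t.down.toMul) h1
    exact this
  have hne : Nonempty (⊤ : V.left.Opens) := ⟨⟨v, trivial⟩⟩
  have hdvd := dvd_of_pow_eq_one n (by
      have := hunit.map (resHom S V)
      rwa [map_natCast] at this) ((zetaAt S ζu V : (Γ(V.left, ⊤))ˣ) : Γ(V.left, ⊤))
    (aeval_map_cyclotomic (resHom S V) n _ hζ) k.down.val (congrArg Units.val h2)
  have hk0 : k.down = 0 := by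
    have hlt := ZMod.val_lt k.down
    have := Nat.eq_zero_of_dvd_of_lt hdvd hlt
    exact (ZMod.val_eq_zero _).1 this
  rw [← hk', hk0, cst_zero]


instance : Mono (EtCoh.muι S n) := by
  unfold EtCoh.muι
  exact equalizer.ι_mono

include hunit hζ in
lemma epi_phi : Epi (phi S n ζu hz) := by
  have hn0 : n ≠ 0 := NeZero.ne n
  rw [← Sheaf.isLocallySurjective_iff_epi' (J := S.smallEtaleTopology)
    (A := AddCommGrpCat.{u + 1})]
  refine ⟨fun {U} s => ?_⟩
  rw [mem_smallEtaleTopology_iff]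
  intro x
  let t : GmSec S U := (EtCoh.muι S n).hom.app (op U) s
  have ht : n • t = 0 := by
    have h : EtCoh.muι S n ≫ EtCoh.powMap S n = 0 := kernel.condition (EtCoh.powMap S n)
    have h2 := congrArg (fun φ : EtCoh.mu S n ⟶ EtCoh.Gm S => φ.hom.app (op U) s) h
    exact (Groth.Agent.S0108.powMap_app S n U _).symm.trans h2
  let a : (Γ(U.left, ⊤))ˣ := t.down.toMul
  have ha : a ^ n = 1 := congrArg (fun t : GmSec S U => t.down.toMul) ht
  let zU : Γ(U.left, ⊤) := ((zetaAt S ζu U : (Γ(U.left, ⊤))ˣ) : Γ(U.left, ⊤))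
  have hzU : zU ^ n = 1 := by
    have := congrArg Units.val (zetaAt_pow S n ζu hz U)
    exact this
  have hzUc : Polynomial.aeval zU (Polynomial.cyclotomic n ℤ) = 0 :=
    aeval_map_cyclotomic (resHom S U) n _ hζ
  have hnU : IsUnit ((n : ℕ) : Γ(U.left, ⊤)) := by
    have := hunit.map (resHom S U)
    rwa [map_natCast] at this
  let g : Γ(U.left, ⊤) →+* U.left.presheaf.stalk x := (U.left.presheaf.germ ⊤ x trivial).hom
  obtain ⟨k, hk, hu⟩ := exists_isUnit_geom_sum (A := U.left.presheaf.stalk x) n hn0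
    (by have := hnU.map g; rwa [map_natCast] at this) (g zU)
    (aeval_map_cyclotomic g n _ hzUc) (g (a : Γ(U.left, ⊤)))
    (by rw [← map_pow]; rw [show ((a : Γ(U.left, ⊤)) ^ n) = 1 from congrArg Units.val ha, map_one])
  let w : Γ(U.left, ⊤) := (a : Γ(U.left, ⊤)) * zU ^ (n - k)
  let c : Γ(U.left, ⊤) := ∑ i ∈ Finset.range n, w ^ i
  have hgc : IsUnit (g c) := by
    simpa only [c, w, map_sum, map_pow, map_mul] using hu
  let W : U.left.Opens := U.left.basicOpen c
  have hxW : x ∈ W := (Scheme.mem_basicOpen_top _ c x).2 hgc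
  refine ⟨subOpen U W, subOpenι U W, ⟨x, hxW⟩, ?_, rfl⟩
  refine ⟨cst S n (subOpen U W) (k : ZMod n), ?_⟩
  apply injective_of_mono' S (EtCoh.muι S n) (subOpen U W)
  -- left side
  have hL : (EtCoh.muι S n).hom.app (op (subOpen U W))
      ((phi S n ζu hz).hom.app (op (subOpen U W)) (cst S n (subOpen U W) (k : ZMod n))) =
      (ULift.up (Additive.ofMul (zetaAt S ζu (subOpen U W) ^ k)) : GmSec S (subOpen U W)) := by
    have h1 := congrArg (fun φ : EtCoh.const S (ZMod n) ⟶ EtCoh.Gm S =>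
      φ.hom.app (op (subOpen U W)) (cst S n (subOpen U W) (k : ZMod n))) (phi_ι S n ζu hz)
    refine h1.trans ?_
    rw [psi_cst, ZMod.val_natCast_of_lt hk]
  -- right side
  have hR : (EtCoh.muι S n).hom.app (op (subOpen U W))
      ((EtCoh.mu S n).obj.map (subOpenι U W).op s) =
      (EtCoh.Gm S).obj.map (subOpenι U W).op t := by
    have hnat := (EtCoh.muι S n).hom.naturality (subOpenι U W).op
    exact congrArg (fun φ => (ConcreteCategory.hom φ) s) hnat
  refine hL.trans (Eq.trans ?_ hR.symm)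
  apply ULift.ext
  apply Additive.toMul.injective
  refine Eq.trans ?_ (Groth.Agent.S0108.Gm_map_down S (subOpenι U W) t).symm
  let ρ : Γ(U.left, ⊤) →+* Γ((subOpen U W).left, ⊤) := (subOpenι U W).left.appTop.hom
  change zetaAt S ζu (subOpen U W) ^ k = Units.map (ρ : Γ(U.left, ⊤) →* _) a
  apply Units.ext
  rw [← zetaAt_map S ζu (subOpenι U W)]
  change ρ zU ^ k = ρ (a : Γ(U.left, ⊤))
  have hρc : IsUnit (ρ c) := isUnit_appTop_ι_basicOpen c
  have hw1 : ρ w = 1 := by
    apply eq_one_of_isUnit_geom_sum n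
    · rw [← map_pow]
      have : w ^ n = 1 := by
        change ((a : Γ(U.left, ⊤)) * zU ^ (n - k)) ^ n = 1
        rw [mul_pow, show ((a : Γ(U.left, ⊤)) ^ n) = 1 from congrArg Units.val ha, one_mul,
          ← pow_mul, mul_comm, pow_mul, hzU, one_pow]
      rw [this, map_one]
    · simpa only [c, map_sum, map_pow] using hρc
  symm
  apply eq_pow_of_mul_pow_eq_one n k hk.le
  · rw [← map_pow, hzU, map_one]
  · rw [← map_pow, ← map_mul]
    exact hw1

end Sheaf



/-- Let S be a scheme and n ≥ 1 with n invertible in the ring of global functions Γ(S, O_S). If Γ(S,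
O_S) contains a root ζ of the n-th cyclotomic polynomial, then the sheaf μ_n of n-th roots of unity
on the small étale site of S is isomorphic to the constant sheaf with value Z/n (existence of an
isomorphism only; the published isomorphism is the one sending 1 to ζ). -/
theorem result (S : Scheme.{u}) (n : ℕ) (hn : 1 ≤ n)
    (hunit : IsUnit (n : Γ(S, ⊤))) (ζ : Γ(S, ⊤))
    (hζ : Polynomial.aeval ζ (Polynomial.cyclotomic n ℤ) = 0) :
    Nonempty (EtCoh.mu S n ≅ EtCoh.const S (ZMod n)) := by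
  have : NeZero n := ⟨by omega⟩
  have hzn : ζ ^ n = 1 := pow_eq_one_of_cyclotomic n ζ hζ
  let ζu : (Γ(S, ⊤))ˣ := Units.ofPowEqOne ζ n hzn (NeZero.ne n)
  have hz : ζu ^ n = 1 := Units.ext hzn
  have hζ' : Polynomial.aeval (ζu : Γ(S, ⊤)) (Polynomial.cyclotomic n ℤ) = 0 := hζ
  have := mono_psi S n ζu hz hunit hζ'
  have : Mono (phi S n ζu hz) := mono_of_mono_fac (phi_ι S n ζu hz)
  have := epi_phi S n ζu hz hunit hζ'
  have : IsIso (phi S n ζu hz) := isIso_of_mono_of_epi _
  exact ⟨(asIso (phi S n ζu hz)).symm⟩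

end Groth.Agent.S13507
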