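import Groth.Statements.S7134
import Mathlib
import Groth.Agent.Lib.Helper23.CohenSmooth
import Groth.Agent.Lib.Helper23.GeomRegular
import Groth.Agent.Lib.Helper23.FieldSep
import Groth.Agent.Lib.Helper21.RegularLocal
import Groth.Prelude.Def_EtRam

set_option autoImplicit false
universe u
open EtAlg

namespace Groth.Agent.S7134
open IsLocalRing

/-- from the two-sided adic notion to the one with discrete base, when `𝔞B ⊆ 𝔫`. -/
theorem adic_of_adic {A B : Type u} [CommRing A] [CommRing B] [Algebra A B] (𝔞 : Ideal A)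
    (𝔫 : Ideal B) (hle : 𝔞.map (algebraMap A B) ≤ 𝔫)
    (h : EGA41.IsFormallySmoothAdic A 𝔞 B 𝔫) : CAlgX.IsAdicFormallySmooth A B 𝔫 := by
  intro C _ _ J hJ ψ ⟨k, hk⟩
  refine h C J ⟨2, hJ⟩ ⟨2 * k, ?_⟩ ψ ⟨k, hk⟩
  have h1 : (𝔞 ^ k).map (algebraMap A C) ≤ J := by
    rw [Ideal.map_le_iff_le_comap]
    intro a ha
    rw [Ideal.mem_comap, ← Ideal.Quotient.eq_zero_iff_mem]
    have h2 : algebraMap A B a ∈ 𝔫 ^ k := by
      have : algebraMap A B a ∈ (𝔞.map (algebraMap A B)) ^ k := by
        rw [← Ideal.map_pow]; exact Ideal.mem_map_of_mem _ ha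
      exact Ideal.pow_right_mono hle k this
    have h3 := hk _ h2
    rw [AlgHom.commutes] at h3
    exact h3
  rw [pow_mul', Ideal.map_pow, eq_bot_iff, ← hJ]
  exact Ideal.pow_right_mono h1 2

theorem flat_of_dvr (A B : Type u) [CommRing A] [IsDomain A] [IsDiscreteValuationRing A]
    [CommRing B] [IsDomain B] [Algebra A B] (hinj : Function.Injective (algebraMap A B)) :
    Module.Flat A B := by
  haveI : FaithfulSMul A B := (faithfulSMul_iff_algebraMap_injective A B).mpr hinj
  infer_instance

/-- base change of adic formal smoothness to the quotient by an ideal of the base. -/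
theorem adic_quotient {A B : Type u} [CommRing A] [CommRing B] [Algebra A B] (𝔞 : Ideal A)
    (𝔫 : Ideal B) (h : CAlgX.IsAdicFormallySmooth A B 𝔫) :
    CAlgX.IsAdicFormallySmooth (A ⧸ 𝔞) (B ⧸ 𝔞.map (algebraMap A B))
      (𝔫.map (Ideal.Quotient.mk (𝔞.map (algebraMap A B)))) := by
  intro C _ _ J hJ ψ ⟨k, hk⟩
  letI : Algebra A C := ((algebraMap (A ⧸ 𝔞) C).comp (Ideal.Quotient.mk 𝔞)).toAlgebra
  haveI : IsScalarTower A (A ⧸ 𝔞) C := IsScalarTower.of_algebraMap_eq (fun _ => rfl)
  let ψ₀ : B →ₐ[A] C ⧸ J :=
    { toRingHom := (ψ : _ →+* _).comp (Ideal.Quotient.mk (𝔞.map (algebraMap A B)))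
      commutes' := fun a => by
        change ψ (Ideal.Quotient.mk _ (algebraMap A B a)) = algebraMap A (C ⧸ J) a
        have : Ideal.Quotient.mk (𝔞.map (algebraMap A B)) (algebraMap A B a) =
            algebraMap (A ⧸ 𝔞) (B ⧸ 𝔞.map (algebraMap A B)) (Ideal.Quotient.mk 𝔞 a) := rfl
        rw [this, AlgHom.commutes]
        rfl }
  obtain ⟨χ₀, hχ₀⟩ := h C J hJ ψ₀ ⟨k, fun x hx => by
    change ψ (Ideal.Quotient.mk _ x) = 0
    apply hk
    rw [← Ideal.map_pow]
    exact Ideal.mem_map_of_mem _ hx⟩
  have hkill : ∀ x ∈ 𝔞.map (algebraMap A B), (χ₀ : B →+* C) x = 0 := by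
    intro x hx
    have hle : 𝔞.map (algebraMap A B) ≤ RingHom.ker (χ₀ : B →+* C) := by
      rw [Ideal.map_le_iff_le_comap]
      intro a ha
      rw [Ideal.mem_comap, RingHom.mem_ker]
      change χ₀ (algebraMap A B a) = 0
      rw [AlgHom.commutes]
      change algebraMap (A ⧸ 𝔞) C (Ideal.Quotient.mk 𝔞 a) = 0
      rw [Ideal.Quotient.eq_zero_iff_mem.mpr ha, map_zero]
    exact hle hx
  let χ : B ⧸ 𝔞.map (algebraMap A B) →ₐ[A ⧸ 𝔞] C :=
    { toRingHom := Ideal.Quotient.lift _ (χ₀ : B →+* C) hkill
      commutes' := fun x => by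
        obtain ⟨a, rfl⟩ := Ideal.Quotient.mk_surjective x
        change Ideal.Quotient.lift _ (χ₀ : B →+* C) hkill
          (Ideal.Quotient.mk _ (algebraMap A B a)) = _
        rw [Ideal.Quotient.lift_mk]
        change χ₀ (algebraMap A B a) = _
        rw [AlgHom.commutes]
        rfl }
  refine ⟨χ, ?_⟩
  apply AlgHom.ext
  intro x
  obtain ⟨b, rfl⟩ := Ideal.Quotient.mk_surjective x
  change Ideal.Quotient.mk J (Ideal.Quotient.lift _ (χ₀ : B →+* C) hkill (Ideal.Quotient.mk _ b)) = _
  rw [Ideal.Quotient.lift_mk]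
  exact AlgHom.congr_fun hχ₀ b

section main
variable (A B : Type u) [CommRing A] [IsDomain A] [IsDiscreteValuationRing A] [CommRing B]
  [IsDomain B] [IsDiscreteValuationRing B] [Algebra A B]
  (hinj : Function.Injective (algebraMap A B)) [IsLocalHom (algebraMap A B)]

include hinj in
theorem weaklyUnramified_of_adic (h : CAlgX.IsAdicFormallySmooth A B (maximalIdeal B)) :
    (maximalIdeal A).map (algebraMap A B) = maximalIdeal B := by
  set I := (maximalIdeal A).map (algebraMap A B) with hI
  have hIle : I ≤ maximalIdeal B := map_maximalIdeal_le (algebraMap A B)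
  letI : Field (A ⧸ maximalIdeal A) := Ideal.Quotient.field _
  have h1 := adic_quotient (maximalIdeal A) (maximalIdeal B) h
  haveI : IsLocalRing (B ⧸ I) :=
    Groth.Agent.Lib.Helper21.isLocalRing_quotient_of_le_maximalIdeal hIle
  have hreg : IsRegularRing (B ⧸ I) := by
    refine Groth.Agent.Lib.Helper23.GeomRegular.isRegularRing_of_adic _ ?_ h1
    intro M hM
    rw [IsLocalRing.eq_maximalIdeal hM, Groth.Agent.Lib.Helper21.maximalIdeal_quotient_eq_map]
  haveI : IsRegularLocalRing (B ⧸ I) := IsRegularLocalRing.of_isRegularRing_of_isLocalRing _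
  haveI : IsDomain (B ⧸ I) := Groth.Agent.Lib.Helper21.isDomain_of_isRegularLocalRing _
  have hprime : I.IsPrime := (Ideal.Quotient.isDomain_iff_prime I).mp inferInstance
  have hne : I ≠ ⊥ := by
    intro h0
    have hA : maximalIdeal A ≠ ⊥ := IsDiscreteValuationRing.not_a_field A
    apply hA
    rw [eq_bot_iff]
    intro a ha
    have : algebraMap A B a ∈ I := Ideal.mem_map_of_mem _ ha
    rw [h0, Ideal.mem_bot] at this
    rw [Ideal.mem_bot]
    exact hinj (this.trans (map_zero _).symm)
  exact IsLocalRing.eq_maximalIdeal (hprime.isMaximal hne)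

include hinj in
theorem geomReduced_of_adic (h : CAlgX.IsAdicFormallySmooth A B (maximalIdeal B)) :
    Algebra.IsGeometricallyReduced (ResidueField A) (ResidueField B) := by
  have hmax := weaklyUnramified_of_adic A B hinj h
  rw [← Groth.Agent.Lib.Helper23.FieldSep.formallySmooth_iff_isGeometricallyReduced]
  apply Algebra.FormallySmooth.of_comp_surjective
  intro C _ _ J hJ ψ
  letI : Algebra A C := ((algebraMap (ResidueField A) C).comp (residue A)).toAlgebra
  haveI : IsScalarTower A (ResidueField A) C := IsScalarTower.of_algebraMap_eq (fun _ => rfl)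
  let ψ₀ : B →ₐ[A] C ⧸ J :=
    { toRingHom := (ψ : _ →+* _).comp (residue B)
      commutes' := fun a => by
        change ψ (residue B (algebraMap A B a)) = algebraMap A (C ⧸ J) a
        have : residue B (algebraMap A B a) =
            algebraMap (ResidueField A) (ResidueField B) (residue A a) := rfl
        rw [this, AlgHom.commutes]
        rfl }
  obtain ⟨χ₀, hχ₀⟩ := h C J hJ ψ₀ ⟨1, fun x hx => by
    change ψ (residue B x) = 0
    rw [pow_one] at hx
    rw [(residue_eq_zero_iff x).mpr hx, map_zero]⟩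
  have hkill : ∀ x ∈ maximalIdeal B, (χ₀ : B →+* C) x = 0 := by
    intro x hx
    have hle : (maximalIdeal A).map (algebraMap A B) ≤ RingHom.ker (χ₀ : B →+* C) := by
      rw [Ideal.map_le_iff_le_comap]
      intro a ha
      rw [Ideal.mem_comap, RingHom.mem_ker]
      change χ₀ (algebraMap A B a) = 0
      rw [AlgHom.commutes]
      change algebraMap (ResidueField A) C (residue A a) = 0
      rw [(residue_eq_zero_iff a).mpr ha, map_zero]
    exact hle (hmax ▸ hx)
  let χ : ResidueField B →ₐ[ResidueField A] C :=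
    { toRingHom := Ideal.Quotient.lift _ (χ₀ : B →+* C) hkill
      commutes' := fun x => by
        obtain ⟨a, rfl⟩ := residue_surjective x
        change Ideal.Quotient.lift _ (χ₀ : B →+* C) hkill
          (Ideal.Quotient.mk _ (algebraMap A B a)) = _
        rw [Ideal.Quotient.lift_mk]
        change χ₀ (algebraMap A B a) = _
        rw [AlgHom.commutes]
        rfl }
  refine ⟨χ, ?_⟩
  apply AlgHom.ext
  intro x
  obtain ⟨b, rfl⟩ := residue_surjective x
  change Ideal.Quotient.mk J (Ideal.Quotient.lift _ (χ₀ : B →+* C) hkill (Ideal.Quotient.mk _ b)) = _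
  rw [Ideal.Quotient.lift_mk]
  exact AlgHom.congr_fun hχ₀ b

include hinj in
theorem main :
    CAlgX.IsAdicFormallySmooth A B (IsLocalRing.maximalIdeal B) ↔
      EtRam.IsWeaklyUnramified A B ∧
        Algebra.IsGeometricallyReduced (IsLocalRing.ResidueField A) (IsLocalRing.ResidueField B) := by
  constructor
  · intro h
    exact ⟨weaklyUnramified_of_adic A B hinj h, geomReduced_of_adic A B hinj h⟩
  · rintro ⟨hmax, hgr⟩
    haveI := flat_of_dvr A B hinj
    have h1 := Groth.Agent.Lib.Helper23.CohenSmooth.formallySmoothAdic_of_flat (A := A) (B := B) hmax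
    exact adic_of_adic (maximalIdeal A) (maximalIdeal B) (le_of_eq hmax) h1

end main


/-- For an injective local homomorphism A → B of discrete valuation rings, A → B is formally smooth for
the adic topology of the maximal ideal of B if and only if A → B is weakly unramified and the
residue field of B is a separable (possibly transcendental, i.e. geometrically reduced) extension of
the residue field of A. -/
theorem result (A B : Type u) [CommRing A]
    [IsDomain A] [IsDiscreteValuationRing A] [CommRing B] [IsDomain B] [IsDiscreteValuationRing B] [Algebra A B]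
    (hinj : Function.Injective (algebraMap A B)) [IsLocalHom (algebraMap A B)] :
    CAlgX.IsAdicFormallySmooth A B (IsLocalRing.maximalIdeal B) ↔
      EtRam.IsWeaklyUnramified A B ∧
        Algebra.IsGeometricallyReduced (IsLocalRing.ResidueField A) (IsLocalRing.ResidueField B) := by
  exact main A B hinj

end Groth.Agent.S7134
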