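import Groth.Statements.S9227
-- import your own Groth.Agent.* helpers here
import Groth.Agent.Lib.Helper12.RegularQuot

set_option autoImplicit false
universe u
open CAlg

namespace Groth.Agent.S9227

/-- Let R be a regular ring, f an element of R and D a derivation of R with D(f) a unit of R. Then for
every polynomial p with integer coefficients the ring R[z]/(p(z) - f) is regular; in particular
R[z]/(z^n - f) is regular for every n ≥ 1. -/
theorem result (R : Type u) [CommRing R]
    [IsRegularRing R] (f : R) (D : Derivation ℤ R R) (hD : IsUnit (D f)) (p : Polynomial ℤ) :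
    IsRegularRing (Polynomial R ⧸
      Ideal.span ({Polynomial.map (Int.castRingHom R) p - Polynomial.C f} : Set (Polynomial R))) := by
  let _ : Differential R := ⟨D⟩
  let D₀ : Derivation ℤ (Polynomial R) (Polynomial R) := Differential.mapCoeffs
  let D' : @Derivation ℤ (Polynomial R) (Polynomial R) _ _ _ (Ring.toIntAlgebra _) _ _ :=
    @Derivation.mk' ℤ _ (Polynomial R) _ (Ring.toIntAlgebra _) (Polynomial R) _ _ _
      (D₀.toLinearMap.toAddMonoidHom.toIntLinearMap) (fun a b => D₀.leibniz a b)
  have hD' : ∀ q : Polynomial R, D' q = D₀ q := fun q => rfl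
  have key : D' (Polynomial.map (Int.castRingHom R) p - Polynomial.C f) = - Polynomial.C (D f) := by
    rw [hD']
    ext i
    change D (Polynomial.coeff (Polynomial.map (Int.castRingHom R) p - Polynomial.C f) i) = _
    rw [Polynomial.coeff_sub, map_sub, Polynomial.coeff_map, Polynomial.coeff_neg,
      Polynomial.coeff_C, Polynomial.coeff_C]
    have h0 : D ((Int.castRingHom R) (p.coeff i)) = 0 := by
      have : (Int.castRingHom R) (p.coeff i) = algebraMap ℤ R (p.coeff i) := rfl
      rw [this, Derivation.map_algebraMap]
    rw [h0, zero_sub]
    split_ifs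
    · rfl
    · rw [map_zero]
  apply Groth.Agent.Lib.Helper12.isRegularRing_quotient_of_derivation_unit (Polynomial R) _ D'
  rw [key, map_neg]
  exact ((hD.map Polynomial.C).map _).neg

end Groth.Agent.S9227
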