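import Groth.Statements.S2048
import Mathlib
import Groth.Agent.Lib.Helper23.DerivFT
import Groth.Agent.Lib.Helper18.CST3
import Groth.Agent.Lib.Helper9.SemiLocalProd
-- import your own Groth.Agent.* helpers here

set_option autoImplicit false
universe u
open CAlg

namespace Groth.Agent.S2048


open IsLocalRing


/-- Let `p` be a prime and `B` a domain of characteristic `p`, finitely generated as an algebra over
some complete Noetherian local ring. If `f ∈ B` has no `p`-th root in the fraction field of `B`,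
then some derivation `D : B → B` has `D(f) ≠ 0`. -/
theorem result {R B : Type u} [CommRing R] [IsLocalRing R]
    [IsNoetherianRing R] [IsAdicComplete (IsLocalRing.maximalIdeal R) R] [CommRing B] [IsDomain B]
    [Algebra R B] [Algebra.FiniteType R B] (p : ℕ) [Fact p.Prime] [CharP B p] (f : B)
    (hf : ∀ x : FractionRing B, x ^ p ≠ algebraMap B (FractionRing B) f) :
    ∃ D : Derivation ℤ B B, D f ≠ 0 := by
  set 𝔮 := RingHom.ker (algebraMap R B) with h𝔮
  haveI : 𝔮.IsPrime := RingHom.ker_isPrime _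
  letI : Algebra (R ⧸ 𝔮) B := (RingHom.kerLift (algebraMap R B)).toAlgebra
  haveI : IsScalarTower R (R ⧸ 𝔮) B := IsScalarTower.of_algebraMap_eq (fun _ => rfl)
  have hinj : Function.Injective (algebraMap (R ⧸ 𝔮) B) := RingHom.kerLift_injective _
  haveI : Algebra.FiniteType (R ⧸ 𝔮) B := Algebra.FiniteType.of_restrictScalars_finiteType R _ _
  haveI : Nontrivial (R ⧸ 𝔮) := Ideal.Quotient.nontrivial_iff.mpr (Ideal.IsPrime.ne_top inferInstance)
  haveI : IsLocalRing (R ⧸ 𝔮) :=
    IsLocalRing.of_surjective' (Ideal.Quotient.mk 𝔮) Ideal.Quotient.mk_surjective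
  haveI : IsAdicComplete (maximalIdeal (R ⧸ 𝔮)) (R ⧸ 𝔮) :=
    Groth.Agent.Lib.Helper9.SemiLocalProd.isAdicComplete_maximalIdeal_of_finite R (R ⧸ 𝔮)
  haveI : CharP (R ⧸ 𝔮) p := RingHom.charP _ hinj p
  obtain ⟨n, f₀, hf₀inj, hf₀fin, -⟩ :=
    Groth.Agent.Lib.Helper18.CST.exists_finite_injective_of_field (R ⧸ 𝔮)
      (ZMod.castHom (dvd_refl p) (R ⧸ 𝔮))
  haveI : CharP (MvPowerSeries (Fin n) (ResidueField (R ⧸ 𝔮))) p := RingHom.charP _ hf₀inj p
  haveI : CharP (ResidueField (R ⧸ 𝔮)) p :=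
    RingHom.charP _ (algebraMap (ResidueField (R ⧸ 𝔮))
      (MvPowerSeries (Fin n) (ResidueField (R ⧸ 𝔮)))).injective p
  letI : Algebra (MvPowerSeries (Fin n) (ResidueField (R ⧸ 𝔮))) B :=
    ((algebraMap (R ⧸ 𝔮) B).comp f₀).toAlgebra
  haveI : Algebra.FiniteType (MvPowerSeries (Fin n) (ResidueField (R ⧸ 𝔮))) B := by
    have h1 : (algebraMap (R ⧸ 𝔮) B).FiniteType := by
      rw [RingHom.finiteType_algebraMap]; infer_instance
    exact h1.comp hf₀fin.finiteType
  exact Groth.Agent.Lib.Helper23.DerivFT.core p (ResidueField (R ⧸ 𝔮)) n (hinj.comp hf₀inj) f hf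

end Groth.Agent.S2048
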