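import Groth.Statements.S2047
import Mathlib
import Groth.Prelude.Def_CAlg
import Groth.Prelude.Def_EGA4b
import Groth.Agent.Lib.Helper18.AdicHom
import Groth.Agent.Lib.Helper18.Exc3
import Groth.Agent.Lib.Helper18.PMor3
import Groth.Agent.Lib.Helper18.FibBridge2
import Groth.Agent.Lib.Helper23.CompleteGRing

set_option autoImplicit false
universe u
open CAlg

namespace Groth.Agent.S2047

open IsLocalRing TensorProduct

section L

variable (A : Type u) [CommRing A] [IsLocalRing A] [IsNoetherianRing A]

/-- **Key theorem**: a Noetherian local ring with regular completion map has regular completion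
maps at all its localizations. -/
theorem isRegularHom_cpl_atPrime (hA : CAlg.IsRegularHom A (EGA4.Cpl A)) (p : Ideal A) [p.IsPrime] :
    CAlg.IsRegularHom (Localization.AtPrime p) (EGA4.Cpl (Localization.AtPrime p)) := by
  haveI : IsNoetherianRing (EGA4.Cpl A) := inferInstance
  haveI : IsAdicComplete (maximalIdeal (EGA4.Cpl A)) (EGA4.Cpl A) := by
    rw [AdicCompletion.maximalIdeal_eq_map]
    exact AdicCompletion.isAdicComplete_self _ (IsNoetherian.noetherian _)
  have hGB : CAlg.IsGRing (EGA4.Cpl A) :=
    Groth.Agent.Lib.Helper23.CompleteGRing.t0598main (EGA4.Cpl A)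
  -- a prime of the completion over `p`
  obtain ⟨q, hq⟩ := PrimeSpectrum.comap_surjective_of_faithfullyFlat (A := A) (B := EGA4.Cpl A)
    ⟨p, inferInstance⟩
  have hqp : q.asIdeal.comap (algebraMap A (EGA4.Cpl A)) = p := congrArg PrimeSpectrum.asIdeal hq
  let Q : Ideal (EGA4.Cpl A) := q.asIdeal
  haveI : Q.IsPrime := q.isPrime
  haveI : IsNoetherianRing (Localization.AtPrime Q) :=
    IsLocalization.isNoetherianRing Q.primeCompl _ inferInstance
  haveI : IsNoetherianRing (Localization.AtPrime p) :=
    IsLocalization.isNoetherianRing p.primeCompl _ inferInstance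
  -- A → B_Q regular
  have h2 : CAlg.IsRegularHom (EGA4.Cpl A) (Localization.AtPrime Q) :=
    Groth.Agent.Lib.Helper18.LocHom.isRegularHom_of_isLocalization (EGA4.Cpl A) Q.primeCompl _
  have h3 : CAlg.IsRegularHom A (Localization.AtPrime Q) :=
    Groth.Agent.Lib.Helper18.PMor.isRegularHom_comp A (EGA4.Cpl A) (Localization.AtPrime Q) hA h2
  -- the algebra structure A_p → B_Q
  have hunit : ∀ s : p.primeCompl, IsUnit (algebraMap A (Localization.AtPrime Q) s) := by
    intro s
    rw [IsScalarTower.algebraMap_apply A (EGA4.Cpl A) (Localization.AtPrime Q)]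
    apply IsLocalization.map_units (Localization.AtPrime Q) (M := Q.primeCompl)
      ⟨algebraMap A (EGA4.Cpl A) s, ?_⟩
    intro hmem
    apply s.2
    have : (s : A) ∈ Q.comap (algebraMap A (EGA4.Cpl A)) := hmem
    rw [show Q.comap (algebraMap A (EGA4.Cpl A)) = p from hqp] at this
    exact this
  let f : Localization.AtPrime p →+* Localization.AtPrime Q :=
    IsLocalization.lift (M := p.primeCompl) (g := algebraMap A (Localization.AtPrime Q)) hunit
  letI : Algebra (Localization.AtPrime p) (Localization.AtPrime Q) := f.toAlgebra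
  haveI : IsScalarTower A (Localization.AtPrime p) (Localization.AtPrime Q) :=
    IsScalarTower.of_algebraMap_eq (fun a => (IsLocalization.lift_eq hunit a).symm)
  haveI : IsLocalization (Algebra.algebraMapSubmonoid (Localization.AtPrime Q) p.primeCompl)
      (Localization.AtPrime Q) := by
    apply IsLocalization.self
    rintro _ ⟨s, hs, rfl⟩
    exact hunit ⟨s, hs⟩
  have h4 : CAlg.IsRegularHom (Localization.AtPrime p) (Localization.AtPrime Q) :=
    Groth.Agent.Lib.Helper23.RegularHom2.isRegularHom_localization A (Localization.AtPrime Q) h3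
      p.primeCompl (Localization.AtPrime p) (Localization.AtPrime Q)
  have h5 : CAlg.IsRegularHom (Localization.AtPrime p) (EGA4.Cpl (Localization.AtPrime Q)) :=
    Groth.Agent.Lib.Helper18.PMor.isRegularHom_comp (Localization.AtPrime p)
      (Localization.AtPrime Q) (EGA4.Cpl (Localization.AtPrime Q)) h4 (hGB.2 Q)
  haveI : Module.Flat (Localization.AtPrime p) (Localization.AtPrime Q) := h4.1
  haveI hloc : IsLocalHom (algebraMap (Localization.AtPrime p) (Localization.AtPrime Q)) := by
    apply ((IsLocalRing.local_hom_TFAE (algebraMap (Localization.AtPrime p)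
      (Localization.AtPrime Q))).out 0 2).mpr
    have hmax : maximalIdeal (Localization.AtPrime p) =
        p.map (algebraMap A (Localization.AtPrime p)) :=
      (Localization.AtPrime.map_eq_maximalIdeal).symm
    have hmax' : maximalIdeal (Localization.AtPrime Q) =
        Q.map (algebraMap (EGA4.Cpl A) (Localization.AtPrime Q)) :=
      (Localization.AtPrime.map_eq_maximalIdeal).symm
    rw [hmax, Ideal.map_map, ← IsScalarTower.algebraMap_eq, hmax',
      IsScalarTower.algebraMap_eq A (EGA4.Cpl A) (Localization.AtPrime Q), ← Ideal.map_map]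
    apply Ideal.map_mono
    rw [Ideal.map_le_iff_le_comap]
    exact hqp.ge
  letI : Algebra (EGA4.Cpl (Localization.AtPrime p)) (EGA4.Cpl (Localization.AtPrime Q)) :=
    (Groth.Agent.Lib.Helper18.CplFlat.cplMap (Localization.AtPrime p)
      (Localization.AtPrime Q)).toAlgebra
  haveI : IsScalarTower (Localization.AtPrime p) (EGA4.Cpl (Localization.AtPrime p))
      (EGA4.Cpl (Localization.AtPrime Q)) :=
    IsScalarTower.of_algebraMap_eq (fun x => by
      rw [IsScalarTower.algebraMap_apply (Localization.AtPrime p) (Localization.AtPrime Q)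
        (EGA4.Cpl (Localization.AtPrime Q))]
      exact (Groth.Agent.Lib.Helper18.CplFlat.cplMap_of (Localization.AtPrime p)
        (Localization.AtPrime Q) x).symm)
  haveI : Module.Flat (EGA4.Cpl (Localization.AtPrime p)) (EGA4.Cpl (Localization.AtPrime Q)) :=
    RingHom.flat_algebraMap_iff.mp
      (Groth.Agent.Lib.Helper18.CplFlat.flat_cplMap (Localization.AtPrime p)
        (Localization.AtPrime Q))
  haveI : IsLocalHom (algebraMap (EGA4.Cpl (Localization.AtPrime p))
      (EGA4.Cpl (Localization.AtPrime Q))) :=
    Groth.Agent.Lib.Helper18.CplFlat.isLocalHom_cplMap (Localization.AtPrime p)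
      (Localization.AtPrime Q)
  haveI : Module.FaithfullyFlat (EGA4.Cpl (Localization.AtPrime p))
      (EGA4.Cpl (Localization.AtPrime Q)) := Module.FaithfullyFlat.of_flat_of_isLocalHom
  exact Groth.Agent.Lib.Helper18.PMor.isRegularHom_of_comp_of_faithfullyFlat
    (Localization.AtPrime p) (EGA4.Cpl (Localization.AtPrime p))
    (EGA4.Cpl (Localization.AtPrime Q)) h5

end L

theorem main {R : Type u} [CommRing R] [IsNoetherianRing R] :
    CAlg.IsGRing R ↔ ∀ (m : Ideal R) [m.IsMaximal],
      CAlg.IsRegularHom (Localization.AtPrime m)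
        (AdicCompletion (IsLocalRing.maximalIdeal (Localization.AtPrime m))
          (Localization.AtPrime m)) := by
  constructor
  · intro hG m hm
    exact hG.2 m
  · intro h
    refine ⟨inferInstance, fun p hp => ?_⟩
    obtain ⟨m, hm, hpm⟩ := Ideal.exists_le_maximal p hp.ne_top
    haveI : IsNoetherianRing (Localization.AtPrime m) :=
      IsLocalization.isNoetherianRing m.primeCompl _ inferInstance
    have hGm : CAlg.IsGRing (Localization.AtPrime m) := by
      refine ⟨inferInstance, fun P hP => ?_⟩
      exact isRegularHom_cpl_atPrime (Localization.AtPrime m) (h m) P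
    refine Groth.Agent.Lib.Helper18.Exc.isRegularHom_cpl_atPrime_of_isLocalization R m.primeCompl
      (Localization.AtPrime m) hGm p ?_
    rw [Set.disjoint_left]
    intro x hx hxp
    exact hx (hpm hxp)


/-- A Noetherian ring `R` is a G-ring if and only if for every maximal ideal `𝔪` the completion map of
`R_𝔪` is a regular ring map. -/
theorem result {R : Type u} [CommRing R] [IsNoetherianRing R] :
    CAlg.IsGRing R ↔ ∀ (m : Ideal R) [m.IsMaximal],
      CAlg.IsRegularHom (Localization.AtPrime m)
        (AdicCompletion (IsLocalRing.maximalIdeal (Localization.AtPrime m)) (Localization.AtPrime m)) := by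
  exact main

end Groth.Agent.S2047
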