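import Groth.Statements.S2045
import Mathlib
import Groth.Prelude.Def_CAlg
import Groth.Prelude.Def_EGA4b
import Groth.Prelude.Def_Hensel
import Groth.Agent.S2047
import Groth.Agent.S2772
import Groth.Agent.Lib.Helper18.Exc
import Groth.Agent.Lib.Helper4.HznNoethC

set_option autoImplicit false
universe u
open CAlg

namespace Groth.Agent.S2045

open IsLocalRing

/-- a local G-ring has a regular completion map -/
theorem isRegularHom_cpl_of_isGRing (R : Type u) [CommRing R] [IsLocalRing R] [IsNoetherianRing R]
    (hR : CAlg.IsGRing R) : CAlg.IsRegularHom R (EGA4.Cpl R) := by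
  have h1 := hR.2 (maximalIdeal R)
  let e : R ≃ₐ[R] (Localization.AtPrime (maximalIdeal R)) :=
    IsLocalization.atUnits R (maximalIdeal R).primeCompl (fun x ↦ by simpa using! fun a ↦ a)
  haveI : IsNoetherianRing (Localization.AtPrime (maximalIdeal R)) :=
    IsLocalization.isNoetherianRing (maximalIdeal R).primeCompl _ inferInstance
  exact Groth.Agent.Lib.Helper18.Exc.isRegularHom_cpl_of_ringEquiv e.symm.toRingEquiv h1

theorem main {R S : Type u} [CommRing R] [IsLocalRing R] [IsNoetherianRing R]
    (hR : CAlg.IsGRing R) [CommRing S] [IsLocalRing S] [Algebra R S] [IsLocalHom (algebraMap R S)]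
    [Hensel.IsHenselization R S] : CAlg.IsGRing S := by
  haveI : IsNoetherianRing S :=
    (Groth.Agent.Lib.Helper4.Hzn.isNoetherianRing_iff_of_isHenselization R S).mp inferInstance
  have h1 := isRegularHom_cpl_of_isGRing R hR
  have h2 : CAlg.IsRegularHom S (EGA4.Cpl S) := (Groth.Agent.S2772.result R S).mpr h1
  exact ⟨inferInstance, fun q _ => Groth.Agent.S2047.isRegularHom_cpl_atPrime S h2 q⟩


/-- If `R` is a Noetherian local G-ring then its henselization is a G-ring. -/
theorem result {R S : Type u} [CommRing R] [IsLocalRing R] [IsNoetherianRing R]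
    (hR : CAlg.IsGRing R) [CommRing S] [IsLocalRing S] [Algebra R S] [IsLocalHom (algebraMap R S)]
    [Hensel.IsHenselization R S] : CAlg.IsGRing S := by
  exact main hR

end Groth.Agent.S2045
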