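import Groth.Statements.S19864
import Mathlib
import Groth.Agent.Lib.Helper23.RegularHomLocal
-- import your own Groth.Agent.* helpers here

set_option autoImplicit false
universe u
open CAlg

namespace Groth.Agent.S19864

open Groth.Agent.Lib.Helper23.RegularHomLocal IsLocalRing Groth.Agent.Lib.Helper18.FibBridge


/-- Let A and B be Noetherian rings and B an A-algebra. Then A → B is a regular homomorphism (flat with
Noetherian, geometrically regular fibres) if and only if for every prime q of B lying over the prime
p of A the induced local homomorphism A_p → B_q is formally smooth for the adic topologies of the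
maximal ideals (equivalently, for the adic topology of the maximal ideal of B_q). -/
theorem result (A B : Type u)
    [CommRing A] [CommRing B] [Algebra A B] [IsNoetherianRing A] [IsNoetherianRing B] :
    CAlg.IsRegularHom A B ↔
      ∀ (q : Ideal B) [q.IsPrime],
        letI := (Localization.localRingHom (Ideal.comap (algebraMap A B) q) q (algebraMap A B) rfl).toAlgebra
        CAlgX.IsAdicFormallySmooth (Localization.AtPrime (Ideal.comap (algebraMap A B) q))
          (Localization.AtPrime q) (IsLocalRing.maximalIdeal (Localization.AtPrime q)) := by
  constructor
  · rintro ⟨hflat, hfib⟩ q _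
    letI := (Localization.localRingHom (Ideal.comap (algebraMap A B) q) q
      (algebraMap A B) rfl).toAlgebra
    haveI : IsScalarTower A (Localization.AtPrime (Ideal.comap (algebraMap A B) q))
        (Localization.AtPrime q) := IsScalarTower.of_algebraMap_eq (fun a => by
      rw [IsScalarTower.algebraMap_apply A B (Localization.AtPrime q)]
      exact (Localization.localRingHom_to_map _ _ _ rfl a).symm)
    haveI : IsLocalHom (algebraMap (Localization.AtPrime (Ideal.comap (algebraMap A B) q))
        (Localization.AtPrime q)) :=
      Localization.isLocalHom_localRingHom _ _ _ rfl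
    have h1 := Groth.Agent.Lib.Helper23.FlatFibreSmooth.formallySmoothAdic_of_geomRegular_fibre
      (Ideal.comap (algebraMap A B) q) q rfl (hfib (Ideal.comap (algebraMap A B) q)).2
    exact Groth.Agent.S7134.adic_of_adic _ _ (map_maximalIdeal_le _) h1
  · intro h
    have hloc : ∀ (q : Ideal B) [q.IsPrime], Module.Flat A (Localization.AtPrime q) := by
      intro q _
      letI := (Localization.localRingHom (Ideal.comap (algebraMap A B) q) q
        (algebraMap A B) rfl).toAlgebra
      haveI : IsScalarTower A (Localization.AtPrime (Ideal.comap (algebraMap A B) q))
          (Localization.AtPrime q) := IsScalarTower.of_algebraMap_eq (fun a => by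
        rw [IsScalarTower.algebraMap_apply A B (Localization.AtPrime q)]
        exact (Localization.localRingHom_to_map _ _ _ rfl a).symm)
      haveI : IsLocalHom (algebraMap (Localization.AtPrime (Ideal.comap (algebraMap A B) q))
          (Localization.AtPrime q)) :=
        Localization.isLocalHom_localRingHom _ _ _ rfl
      haveI : IsNoetherianRing (Localization.AtPrime (Ideal.comap (algebraMap A B) q)) :=
        IsLocalization.isNoetherianRing (Ideal.comap (algebraMap A B) q).primeCompl _ inferInstance
      haveI : IsNoetherianRing (Localization.AtPrime q) :=
        IsLocalization.isNoetherianRing q.primeCompl _ inferInstance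
      haveI : Module.Flat (Localization.AtPrime (Ideal.comap (algebraMap A B) q))
          (Localization.AtPrime q) :=
        Groth.Agent.Lib.Helper23.AdicSmoothFlat.flat_of_adic (h q)
      exact Module.Flat.trans A (Localization.AtPrime (Ideal.comap (algebraMap A B) q))
        (Localization.AtPrime q)
    refine ⟨?_, fun p _ => ⟨inferInstance, ?_⟩⟩
    · refine Module.flat_of_isLocalized_maximal B B (fun P _ => Localization.AtPrime P)
        (fun P _ => Algebra.linearMap B (Localization.AtPrime P)) ?_
      intro P hP
      exact hloc P
    · apply Groth.Agent.Lib.Helper23.SmoothField.geomRegular_of_atPrime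
      intro 𝔮 _
      letI := (Localization.localRingHom (Ideal.comap (algebraMap A B) (ctr p 𝔮)) (ctr p 𝔮)
        (algebraMap A B) rfl).toAlgebra
      haveI : IsScalarTower A (Localization.AtPrime (Ideal.comap (algebraMap A B) (ctr p 𝔮)))
          (Localization.AtPrime (ctr p 𝔮)) := IsScalarTower.of_algebraMap_eq (fun a => by
        rw [IsScalarTower.algebraMap_apply A B (Localization.AtPrime (ctr p 𝔮))]
        exact (Localization.localRingHom_to_map _ _ _ rfl a).symm)
      exact geomRegular_localization_of_adic' p (Ideal.comap (algebraMap A B) (ctr p 𝔮))
        (ctr_comap p 𝔮) 𝔮 (h (ctr p 𝔮))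

end Groth.Agent.S19864
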