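import Groth.Statements.S2461
import Mathlib
-- import your own Groth.Agent.* helpers here

set_option autoImplicit false
universe u
open EGA41

namespace Groth.Agent.S2461

lemma mem_map_of_evalₐ_eq_zero {B : Type*} [CommRing B] (𝔟 : Ideal B) (hfg : 𝔟.FG) (N : ℕ)
    (x : AdicCompletion 𝔟 B) (hx : AdicCompletion.evalₐ 𝔟 N x = 0) :
    x ∈ (𝔟 ^ N).map (algebraMap B (AdicCompletion 𝔟 B)) := by
  have h1 : AdicCompletion.eval 𝔟 B N x = 0 := by
    have h𝔟 : 𝔟 ^ N ≤ 𝔟 ^ N • (⊤ : Ideal B) := by simp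
    rw [← AdicCompletion.factor_evalₐ_eq_eval 𝔟 x h𝔟, hx, map_zero]
  have h2 : x ∈ LinearMap.ker (AdicCompletion.eval 𝔟 B N) := h1
  rw [← AdicCompletion.pow_smul_top_eq_ker_eval hfg, Ideal.smul_top_eq_map] at h2
  exact h2


/-- Let A carry the 𝔞-adic topology and let B be a Noetherian A-algebra with the 𝔟-adic topology. Then B
is formally smooth over A if and only if the 𝔟-adic completion of B, with the adic topology of the
extended ideal, is formally smooth over A. -/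
theorem result {A B : Type u} [CommRing A] (𝔞 : Ideal A) [CommRing B] [IsNoetherianRing B] [Algebra A B] (𝔟 : Ideal B) :
    EGA41.IsFormallySmoothAdic A 𝔞 B 𝔟 ↔
      EGA41.IsFormallySmoothAdic A 𝔞 (AdicCompletion 𝔟 B) (𝔟.map (algebraMap B (AdicCompletion 𝔟 B))) := by
  have hfg : 𝔟.FG := IsNoetherian.noetherian 𝔟
  haveI : IsScalarTower A B (AdicCompletion 𝔟 B) := IsScalarTower.of_algebraMap_eq fun a => rfl
  let ι : B →ₐ[A] AdicCompletion 𝔟 B := IsScalarTower.toAlgHom A B (AdicCompletion 𝔟 B)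
  have hι : ∀ b, ι b = AdicCompletion.of 𝔟 B b := fun b => rfl
  constructor
  · intro h C _ _ J hJ hdisc uh huh
    obtain ⟨k, hk⟩ := huh
    obtain ⟨n, hn⟩ := hJ
    have hu : ∀ x ∈ 𝔟 ^ k, (uh.comp ι) x = 0 := by
      intro x hx
      apply hk
      rw [← Ideal.map_pow]
      exact Ideal.mem_map_of_mem _ hx
    obtain ⟨v, hv⟩ := h C J ⟨n, hn⟩ hdisc (uh.comp ι) ⟨k, hu⟩
    have hvmk : ∀ b, Ideal.Quotient.mk J (v b) = uh (ι b) := fun b => congrArg (fun f => f b) hv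
    -- `v` kills `𝔟 ^ (k * n + k)`
    have hvJ : (𝔟 ^ k).map v.toRingHom ≤ J := by
      rw [Ideal.map_le_iff_le_comap]
      intro x hx
      show v x ∈ J
      rw [← Ideal.Quotient.eq_zero_iff_mem, hvmk]
      exact hu x hx
    have hv0 : ∀ x ∈ 𝔟 ^ (k * n + k), v x = 0 := by
      intro x hx
      have hx' : x ∈ 𝔟 ^ (k * n) := Ideal.pow_le_pow_right (Nat.le_add_right _ _) hx
      have : (𝔟 ^ (k * n)).map v.toRingHom ≤ ⊥ := by
        rw [pow_mul, Ideal.map_pow]
        refine (Ideal.pow_right_mono hvJ n).trans ?_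
        rw [hn]
        exact le_of_eq Ideal.zero_eq_bot
      exact (Ideal.mem_bot).1 (this (Ideal.mem_map_of_mem _ hx'))
    let vbar : (B ⧸ 𝔟 ^ (k * n + k)) →ₐ[A] C := Ideal.Quotient.liftₐ _ v hv0
    let vh : AdicCompletion 𝔟 B →ₐ[A] C :=
      vbar.comp ((AdicCompletion.evalₐ 𝔟 (k * n + k)).restrictScalars A)
    refine ⟨vh, ?_⟩
    ext x
    show Ideal.Quotient.mk J (vbar (AdicCompletion.evalₐ 𝔟 (k * n + k) x)) = uh x
    obtain ⟨b, hb⟩ := Ideal.Quotient.mk_surjective (AdicCompletion.evalₐ 𝔟 (k * n + k) x)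
    have h1 : x - ι b ∈ (𝔟 ^ (k * n + k)).map (algebraMap B (AdicCompletion 𝔟 B)) := by
      apply mem_map_of_evalₐ_eq_zero 𝔟 hfg
      rw [map_sub, hι, AdicCompletion.evalₐ_of, hb, sub_self]
    have h2 : uh (x - ι b) = 0 := by
      apply hk
      rw [← Ideal.map_pow]
      exact Ideal.map_mono (Ideal.pow_le_pow_right (Nat.le_add_left _ _)) h1
    rw [← hb]
    show Ideal.Quotient.mk J (v b) = uh x
    rw [hvmk]
    rw [map_sub, sub_eq_zero] at h2
    exact h2.symm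
  · intro h C _ _ J hJ hdisc u hu
    obtain ⟨k, hk⟩ := hu
    let ubar : (B ⧸ 𝔟 ^ k) →ₐ[A] C ⧸ J := Ideal.Quotient.liftₐ _ u hk
    let uh : AdicCompletion 𝔟 B →ₐ[A] C ⧸ J :=
      ubar.comp ((AdicCompletion.evalₐ 𝔟 k).restrictScalars A)
    have huh_of : ∀ b, uh (AdicCompletion.of 𝔟 B b) = u b := by
      intro b
      show ubar (AdicCompletion.evalₐ 𝔟 k (AdicCompletion.of 𝔟 B b)) = u b
      rw [AdicCompletion.evalₐ_of]
      rfl
    have huh : ∃ k : ℕ, ∀ x ∈ (𝔟.map (algebraMap B (AdicCompletion 𝔟 B))) ^ k, uh x = 0 := by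
      refine ⟨k, ?_⟩
      rw [← Ideal.map_pow]
      have : (𝔟 ^ k).map (algebraMap B (AdicCompletion 𝔟 B)) ≤ RingHom.ker uh := by
        rw [Ideal.map_le_iff_le_comap]
        intro b hb
        show uh (AdicCompletion.of 𝔟 B b) = 0
        rw [huh_of, hk b hb]
      exact fun x hx => this hx
    obtain ⟨vh, hvh⟩ := h C J hJ hdisc uh huh
    refine ⟨vh.comp ι, ?_⟩
    ext b
    show Ideal.Quotient.mk J (vh (ι b)) = u b
    have := congrArg (fun f => f (ι b)) hvh
    simp only [AlgHom.comp_apply] at this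
    rw [← huh_of b]
    exact this

end Groth.Agent.S2461
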