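import Groth.Statements.S9314
import Mathlib
import Groth.Agent.Lib.Helper23.Andre4
import Groth.Agent.Lib.Helper23.CplRegular
import Groth.Agent.S2461
import Groth.Agent.S4537
import Groth.Agent.S7134
-- import your own Groth.Agent.* helpers here

set_option autoImplicit false
universe u
open CAlg

namespace Groth.Agent.S9314

open IsLocalRing TensorProduct Function
open Groth.Agent.Lib.Helper18.CplFlat

set_option maxHeartbeats 1600000 in

/-- Let `A` and `B` be Noetherian local rings and `A → B` a local ring map, and suppose that the map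
from `A` to its completion along the maximal ideal is a regular ring map. If `A → B` is formally
smooth for the adic topology of the maximal ideal of `B`, then `A → B` is a regular ring map: flat,
with Noetherian fibres that are geometrically regular over the residue fields of `A`. -/
theorem result {A B : Type u}
    [CommRing A] [CommRing B] [IsLocalRing A] [IsLocalRing B] [IsNoetherianRing A]
    [IsNoetherianRing B] [Algebra A B] [IsLocalHom (algebraMap A B)]
    (hA : CAlg.IsRegularHom A (AdicCompletion (IsLocalRing.maximalIdeal A) A))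
    (h : CAlgX.IsAdicFormallySmooth A B (IsLocalRing.maximalIdeal B)) :
    CAlg.IsRegularHom A B := by
  haveI : Module.Flat A B := Groth.Agent.Lib.Helper23.AdicSmoothFlat.flat_of_adic h
  haveI : IsNoetherianRing (EGA4.Cpl A) :=
    Groth.Agent.Lib.Helper21.isNoetherianRing_adicCompletion_of_fg _
      (maximalIdeal A).fg_of_isNoetherianRing
  haveI : IsNoetherianRing (EGA4.Cpl B) :=
    Groth.Agent.Lib.Helper21.isNoetherianRing_adicCompletion_of_fg _
      (maximalIdeal B).fg_of_isNoetherianRing
  letI : Algebra (EGA4.Cpl A) (EGA4.Cpl B) := (cplMap A B).toAlgebra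
  haveI : IsScalarTower A (EGA4.Cpl A) (EGA4.Cpl B) :=
    IsScalarTower.of_algebraMap_eq (fun a => (cplMap_of A B a).symm)
  haveI : IsLocalHom (algebraMap (EGA4.Cpl A) (EGA4.Cpl B)) := isLocalHom_cplMap A B
  -- formal smoothness of the completion
  have h0 : EGA41.IsFormallySmoothAdic A ⊥ B (maximalIdeal B) := (Groth.Agent.S4537.result _).mp h
  have h1 := (Groth.Agent.S2461.result (⊥ : Ideal A) (maximalIdeal B)).mp h0
  rw [← AdicCompletion.maximalIdeal_eq_map] at h1
  have h2 : EGA41.IsFormallySmoothAdic A (maximalIdeal A) (EGA4.Cpl B)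
      (maximalIdeal (EGA4.Cpl B)) := by
    intro C _ _ J hJ _ u hu
    exact h1 C J hJ ⟨1, by rw [pow_one, Ideal.map_bot]⟩ u hu
  have h3 := Groth.Agent.Lib.Helper23.CplRegular.formallySmoothAdic_cpl A (EGA4.Cpl B) _ h2
  have h4 : CAlgX.IsAdicFormallySmooth (EGA4.Cpl A) (EGA4.Cpl B) (maximalIdeal (EGA4.Cpl B)) :=
    Groth.Agent.S7134.adic_of_adic (maximalIdeal (EGA4.Cpl A)) (maximalIdeal (EGA4.Cpl B))
      (map_maximalIdeal_le _) h3
  have h5 : CAlg.IsRegularHom (EGA4.Cpl A) (EGA4.Cpl B) :=
    Groth.Agent.Lib.Helper23.Andre4.isRegularHom_iff_adic.mpr h4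
  have h6 := Groth.Agent.Lib.Helper18.PMor.isRegularHom_comp A (EGA4.Cpl A) (EGA4.Cpl B) hA h5
  haveI : Module.FaithfullyFlat B (EGA4.Cpl B) := Module.FaithfullyFlat.of_flat_of_isLocalHom
  exact Groth.Agent.Lib.Helper18.PMor.isRegularHom_of_comp_of_faithfullyFlat A B (EGA4.Cpl B) h6

end Groth.Agent.S9314
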