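import Groth.Statements.S2195
import Mathlib
import Groth.Agent.Lib.Helper13.TraceForm

set_option autoImplicit false
universe u v
open Disc

namespace Groth.Agent.S2195

open Module in
theorem toMatrix_traceForm {A : Type u} {B : Type v} [CommRing A] [CommRing B]
    [Algebra A B] {ι : Type} [Fintype ι] [DecidableEq ι] (b : Module.Basis ι A B) :
    LinearMap.toMatrix b b.dualBasis (Algebra.traceForm A B) = Algebra.traceMatrix A b := by
  ext i j
  rw [LinearMap.toMatrix_apply, Basis.dualBasis_repr]
  simp [Algebra.traceMatrix, Algebra.traceForm_apply, mul_comm]

/-- Ring form of the statement: let B be an A-algebra which is finite free as an A-module with basis b.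
Then A -> B is etale if and only if the discriminant of b (the determinant of the matrix of traces
Tr(b_i b_j)) is a unit of A, i.e. the discriminant locus is empty. -/
theorem result {A : Type u} {B : Type v} [CommRing A] [CommRing B]
    [Algebra A B] {ι : Type} [Fintype ι] [DecidableEq ι] (b : Module.Basis ι A B) :
    Algebra.Etale A B ↔ IsUnit (Algebra.discr A b) := by
  have hfin : Module.Finite A B := Module.Finite.of_basis b
  have hfree : Module.Free A B := Module.Free.of_basis b
  constructor
  · intro h
    have hbij := Groth.Agent.Lib.Helper13.bijective_traceForm_of_formallyUnramified b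
    let Φ : B ≃ₗ[A] Module.Dual A B := LinearEquiv.ofBijective (Algebra.traceForm A B) hbij
    have h1 := LinearEquiv.isUnit_det Φ b b.dualBasis
    have h2 : LinearMap.toMatrix b b.dualBasis (Φ : B →ₗ[A] Module.Dual A B)
        = Algebra.traceMatrix A b := toMatrix_traceForm b
    rw [h2] at h1
    exact h1
  · intro h
    have h2 : IsUnit (LinearMap.toMatrix b b.dualBasis (Algebra.traceForm A B)).det := by
      rw [toMatrix_traceForm]; exact h
    let Φ := LinearEquiv.ofIsUnitDet h2
    have hbij : Function.Bijective (Algebra.traceForm A B) := by
      have h3 := Φ.bijective
      have h4 : (⇑Φ : B → Module.Dual A B) = ⇑(Algebra.traceForm A B) := by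
        funext x; rfl
      rw [← h4]; exact h3
    have hunr := Groth.Agent.Lib.Helper13.formallyUnramified_of_bijective_traceForm b hbij
    have hmfp : Module.FinitePresentation A B := Module.finitePresentation_of_projective A B
    have hfp : Algebra.FinitePresentation A B :=
      Algebra.FinitePresentation.of_finitePresentation A B
    exact Algebra.Etale.of_formallyUnramified_of_flat

end Groth.Agent.S2195
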