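import Groth.Statements.S16823
import Groth.Agent.Lib.Helper24.QuotSt17
import Groth.Agent.Lib.Helper24.AlgStLocQ6
import Groth.Agent.Lib.Helper24.AlgStSmLoc
import Groth.Agent.Lib.Helper24.AlgStAffLoc
import Groth.Agent.Lib.Helper24.AlgStQCProd
import Groth.Agent.Lib.Helper24.AlgStSmoothCoverEt
import Groth.Agent.Lib.Helper24.FibCatOverMap

set_option autoImplicit false
universe u
open AlgSt

namespace Groth.Agent.S16823

open AlgSt
open CategoryTheory CategoryTheory.Limits AlgebraicGeometry
open Groth.Agent.Lib.Helper24.QuotSt6 Groth.Agent.Lib.Helper24.QuotSt5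
open Groth.Agent.Lib.Helper24.QuotSt17 Groth.Agent.Lib.Helper24.EtSheaf
open Groth.Agent.Lib.Helper24.AlgStAffLoc Groth.Agent.Lib.Helper24.AlgStProps

theorem repByAlgSpWith_diagAff_to_selfOver {S : Scheme.{u}} {X : Over S}
    (hX : IsAffineHom (pullback.diagonal X.hom))
    (t : FibCat.overCat X ⥤ᵇ FibCat.selfOver (Over S)) :
    AlgSt.RepByAlgSpWith DiagAff t := by
  rw [Groth.Agent.Lib.Helper24.AlgStLC.repByAlgSpWith_conj DiagAff t (BasedFunctor.id _)
    (Groth.Agent.Lib.Helper24.StkSlice.P₁ (U := S))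
    (Groth.Agent.Lib.Helper24.AlgStRep.isEquivOver_id _)
    (Groth.Agent.Lib.Helper24.AlgStQCProd.isEquivOver_P₁ S)]
  obtain ⟨g, ⟨i⟩⟩ := Groth.Agent.Lib.Helper24.FibCatOverMap.exists_iso_overMapC
    (BasedFunctor.comp (BasedFunctor.id _)
      (BasedFunctor.comp t (Groth.Agent.Lib.Helper24.StkSlice.P₁ (U := S))))
  apply Groth.Agent.Lib.Helper24.AlgStGC.repByAlgSpWith_of_iso DiagAff i.symm
  change AlgSt.RepByAlgSpWith DiagAff (AlgSt.overMap g)
  rw [Groth.Agent.Lib.Helper24.AlgStSmLoc.repByAlgSpWith_overMap_iff DiagAff good_diagAff g]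
  change AlgSp.RepWith @IsAffineHom (pullback.diagonal ((AlgSp.yon S).map g))
  rw [AlgSp.repWith_diagonal_yon_map_iff]
  have hg : g.left = X.hom := by
    have := Over.w g
    simpa using this
  rw [hg]
  exact hX


open CategoryTheory AlgebraicGeometry Limits in
/-- Let S be an affine scheme, G a group scheme over S whose structure morphism is smooth and affine,
and X a scheme over S with an action of G whose structure morphism X → S has affine diagonal. Then
the quotient stack [X/G] over (Sch/S) (objects over T: a G-torsor over T locally trivial for the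
etale topology, with an equivariant morphism to X) has affine diagonal over S: the diagonal [X/G] →
[X/G] ×_{(Sch/S)} [X/G] is representable by algebraic spaces and affine. The source allows X to be
an algebraic space and also treats quasi-affine diagonals; X is a scheme here and only the affine
case is stated. -/
theorem result (S : Scheme.{u}) [IsAffine S]
    (G : Over S) [GrpObj G] (hGs : Smooth G.hom) (hGa : IsAffineHom G.hom)
    (X : Over S) (aX : AlgGrp.Action G X) (hX : IsAffineHom (pullback.diagonal X.hom)) :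
    AlgSt.RepByAlgSpWith AlgSp.IsAffineMor
      (FibCat.diag (FibCat.toSelf (AlgSt.QuotSt Scheme.etalePrecoverage G aX))) := by
  have hsm : ∀ (U : Over S)
      (y : FibCat.overCat U ⥤ᵇ AlgSt.QuotSt Scheme.etalePrecoverage G aX), Smooth (piU y).left :=
    fun U y => piU_left_prop @Smooth y
      (torsor_prop_of_le etalePrecoverage_le @Smooth hGs (tors y))
  have hfl : ∀ (U : Over S)
      (y : FibCat.overCat U ⥤ᵇ AlgSt.QuotSt Scheme.etalePrecoverage G aX), Flat (piU y).left :=
    fun U y => by have := hsm U y; infer_instance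
  have hlfp : ∀ (U : Over S)
      (y : FibCat.overCat U ⥤ᵇ AlgSt.QuotSt Scheme.etalePrecoverage G aX),
      LocallyOfFinitePresentation (piU y).left :=
    fun U y => by have := hsm U y; infer_instance
  have hsurj : ∀ (U : Over S)
      (y : FibCat.overCat U ⥤ᵇ AlgSt.QuotSt Scheme.etalePrecoverage G aX),
      Surjective (piU y).left :=
    fun U y => piU_left_prop @Surjective y
      (torsor_prop_of_le etalePrecoverage_le @Surjective surjective_hom_of_grpObj (tors y))
  have haff : ∀ (U : Over S)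
      (y : FibCat.overCat U ⥤ᵇ AlgSt.QuotSt Scheme.etalePrecoverage G aX),
      IsAffineHom (piU y).left :=
    fun U y => piU_left_prop @IsAffineHom y (isAffineHom_π etalePrecoverage_le (tors y))
  have h1 : AlgSt.RepByAlgSpWith (AlgSp.LocP @Smooth)
      (BasedFunctor.comp (AlgSt.ofOverCat X) (AlgSt.quotMap Scheme.etalePrecoverage G aX)) :=
    repByAlgSpWith_quotMap _ fun U y =>
      Groth.Agent.Lib.Helper24.AlgStLocQ6.locP_yon_map_of
        Groth.Agent.Lib.Helper14.AS.etLocal_smooth (hsm U y)
  have h1a : AlgSt.RepByAlgSpWith (AlgSp.LocP @Flat)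
      (BasedFunctor.comp (AlgSt.ofOverCat X) (AlgSt.quotMap Scheme.etalePrecoverage G aX)) :=
    repByAlgSpWith_quotMap _ fun U y =>
      Groth.Agent.Lib.Helper24.AlgStLocQ6.locP_yon_map_of
        Groth.Agent.Lib.Helper14.AS.etLocal_flat (hfl U y)
  have h1b : AlgSt.RepByAlgSpWith (AlgSp.LocP @LocallyOfFinitePresentation)
      (BasedFunctor.comp (AlgSt.ofOverCat X) (AlgSt.quotMap Scheme.etalePrecoverage G aX)) :=
    repByAlgSpWith_quotMap _ fun U y =>
      Groth.Agent.Lib.Helper24.AlgStLocQ6.locP_yon_map_of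
        Groth.Agent.Lib.Helper14.AS.etLocal_lfp (hlfp U y)
  have h2 : AlgSt.RepByAlgSpWith AlgSp.IsSurjectiveMor
      (BasedFunctor.comp (AlgSt.ofOverCat X) (AlgSt.quotMap Scheme.etalePrecoverage G aX)) :=
    repByAlgSpWith_quotMap _ fun U y =>
      Groth.Agent.Lib.Helper24.AlgStSmLoc.isSurjectiveMor_yon_map_of_surjective _ (hsurj U y)
  have h3 : AlgSt.RepByAlgSpWith AlgSp.IsAffineMor
      (BasedFunctor.comp (AlgSt.ofOverCat X) (AlgSt.quotMap Scheme.etalePrecoverage G aX)) :=
    repByAlgSpWith_quotMap _ fun U y =>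
      Groth.Agent.Lib.Helper14.AS.isAffineMor_of_repWith
        ((AlgSp.repWith_yon_map_iff @IsAffineHom (piU y)).2 (haff U y))
  have halg : AlgSt.IsAlgStack Scheme.etalePrecoverage
      (AlgSt.QuotSt Scheme.etalePrecoverage G aX) :=
    Groth.Agent.Lib.Helper24.AlgStSmoothCoverEt.isAlgStack_etale_of_hasAtlas _
      (isStack_quotSt_etale aX) ⟨X, _, h1, h2⟩
  have hU : AlgSt.RepByAlgSp (FibCat.overCat X) :=
    Groth.Agent.Lib.Helper24.AlgStCalc.repByAlgSp_overCat X
  exact repByAlgSpWith_diag_of_chart' (Groth.Agent.Lib.Helper24.StkFpCrit.isFibGrpd_overForget X)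
    Groth.Agent.Lib.Helper24.QuotSt8.isFibGrpd
    Groth.Agent.Lib.Helper24.FibCatInertia.isFibGrpd_selfOver
    AlgSp.IsAffineMor DiagAff good_isAffineMor good_diagAff.nice leftCancel_isAffineMor
    (FibCat.toSelf _) halg.diag _ hU
    (Groth.Agent.Lib.Helper24.AlgStDiag.repByAlgSp_fp_comp_toSelf hU hU _ _)
    (Groth.Agent.Lib.Helper24.AlgStBoot.repByAlgSpWith_fpFst DiagAff _ _
      (repByAlgSpWith_diagAff_to_selfOver hX _))
    h1a h1b h2 h3

end Groth.Agent.S16823
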