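import Groth.Statements.S12800
import Groth.Agent.Lib.Helper24.FibSetoid

set_option autoImplicit false
open CategoryTheory
universe v u
open FibCat

namespace Groth.Agent.S12800

open CategoryTheory CategoryTheory.Limits
open Groth.Agent.Lib.Helper24.FibCatFpGen Groth.Agent.Lib.Helper24.FibSetoid


/-- For categories `𝒮`, `𝒯` fibred in groupoids over `C`, a category `ℛ` fibred in setoids over `C`, a
functor `f : 𝒯 ⟶ 𝒮` over `C` with faithful underlying functor and a functor `g : ℛ ⟶ 𝒮` over `C`,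
the 2-fibre product `𝒯 ×_𝒮 ℛ` over `C` is fibred in setoids. (The published statement takes stacks
in groupoids over a site and concludes a stack in setoids; the stack property of the 2-fibre product
is the separate result on 2-fibre products of stacks in groupoids, and the setoid property stated
here needs no topology.) -/
theorem result {C : Type u} [Category.{v} C] {𝒮 𝒯 ℛ : BasedCategory.{v, max u v} C}
    (h𝒮 : FibCat.IsFibGrpd 𝒮.p) (h𝒯 : FibCat.IsFibGrpd 𝒯.p) (hℛ : FibCat.IsFibSetoid ℛ.p) (f : 𝒯 ⥤ᵇ 𝒮) [f.toFunctor.Faithful] (g : ℛ ⥤ᵇ 𝒮) :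
    FibCat.IsFibSetoid (FibCat.fp f g).p := by
  refine ⟨isFibGrpd_fp f g h𝒯 hℛ.1 h𝒮, fun U => fun X Y => ⟨fun m m' => ?_⟩⟩
  apply Functor.Fiber.hom_ext
  obtain ⟨μ, hμ⟩ : ∃ μ : X.1 ⟶ Y.1, μ = Functor.Fiber.fiberInclusion.map m := ⟨_, rfl⟩
  obtain ⟨μ', hμ'⟩ : ∃ μ' : X.1 ⟶ Y.1, μ' = Functor.Fiber.fiberInclusion.map m' := ⟨_, rfl⟩
  rw [← hμ, ← hμ']
  have hl : (FibCat.fp f g).p.IsHomLift (𝟙 U) μ := by rw [hμ]; exact m.2
  have hl' : (FibCat.fp f g).p.IsHomLift (𝟙 U) μ' := by rw [hμ']; exact m'.2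
  have h2 : ℛ.p.IsHomLift (𝟙 U) μ.hom.snd := isHomLift_snd (𝟙 U) μ
  have h2' : ℛ.p.IsHomLift (𝟙 U) μ'.hom.snd := isHomLift_snd (𝟙 U) μ'
  have e2 : μ.hom.snd = μ'.hom.snd := hom_ext_of_isFibSetoid ℛ.p hℛ (𝟙 U) _ _
  have w := hom_w μ
  have w' := hom_w μ'
  rw [e2] at w
  have e1 : μ.hom.fst = μ'.hom.fst := by
    apply f.toFunctor.map_injective
    have : f.toFunctor.map μ.hom.fst ≫ Y.1.obj.iso.hom = f.toFunctor.map μ'.hom.fst ≫ Y.1.obj.iso.hom :=
      w.trans w'.symm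
    exact (cancel_mono _).mp this
  exact hom_ext' e1 e2

end Groth.Agent.S12800
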