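import Groth.Statements.S12811
import Groth.Agent.Lib.Helper24.StkFp
import Groth.Agent.Lib.Helper24.FibSetoid

set_option autoImplicit false
open CategoryTheory
universe v u
open Stk

namespace Groth.Agent.S12811

open CategoryTheory
open Groth.Agent.Lib.Helper24.FibCatFpGen Groth.Agent.Lib.Helper24.FibSetoid

theorem isFibSetoid_fp {C : Type u} [Category.{v} C] {𝒳 𝒴 𝒮 : BasedCategory.{v, max u v} C}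
    (F : 𝒳 ⥤ᵇ 𝒮) (G : 𝒴 ⥤ᵇ 𝒮) (h𝒳 : FibCat.IsFibSetoid 𝒳.p) (h𝒴 : FibCat.IsFibSetoid 𝒴.p)
    (h𝒮 : FibCat.IsFibGrpd 𝒮.p) : FibCat.IsFibSetoid (FibCat.fp F G).p := by
  refine ⟨isFibGrpd_fp F G h𝒳.1 h𝒴.1 h𝒮, fun U => fun X Y => ⟨fun m m' => ?_⟩⟩
  apply Functor.Fiber.hom_ext
  obtain ⟨μ, hμ⟩ : ∃ μ : X.1 ⟶ Y.1, μ = Functor.Fiber.fiberInclusion.map m := ⟨_, rfl⟩
  obtain ⟨μ', hμ'⟩ : ∃ μ' : X.1 ⟶ Y.1, μ' = Functor.Fiber.fiberInclusion.map m' := ⟨_, rfl⟩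
  rw [← hμ, ← hμ']
  have hl : (FibCat.fp F G).p.IsHomLift (𝟙 U) μ := by rw [hμ]; exact m.2
  have hl' : (FibCat.fp F G).p.IsHomLift (𝟙 U) μ' := by rw [hμ']; exact m'.2
  have h1 : 𝒳.p.IsHomLift (𝟙 U) μ.hom.fst := isHomLift_fst (𝟙 U) μ
  have h1' : 𝒳.p.IsHomLift (𝟙 U) μ'.hom.fst := isHomLift_fst (𝟙 U) μ'
  have h2 : 𝒴.p.IsHomLift (𝟙 U) μ.hom.snd := isHomLift_snd (𝟙 U) μ
  have h2' : 𝒴.p.IsHomLift (𝟙 U) μ'.hom.snd := isHomLift_snd (𝟙 U) μ'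
  have e1 : μ.hom.fst = μ'.hom.fst := hom_ext_of_isFibSetoid 𝒳.p h𝒳 (𝟙 U) _ _
  have e2 : μ.hom.snd = μ'.hom.snd := hom_ext_of_isFibSetoid 𝒴.p h𝒴 (𝟙 U) _ _
  exact hom_ext' e1 e2


/-- For stacks in setoids `𝒳`, `𝒴`, `𝒮` over `C` for the topology `J` (stacks in groupoids that are
fibred in setoids) and functors `F : 𝒳 ⟶ 𝒮`, `G : 𝒴 ⟶ 𝒮` over `C`, the 2-fibre product `𝒳 ×_𝒮 𝒴`
over `C` is again a stack in setoids for `J`. -/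
theorem result {C : Type u} [Category.{v} C] (J : GrothendieckTopology C) {𝒳 𝒴 𝒮 : BasedCategory.{v, max u v} C}
    (F : 𝒳 ⥤ᵇ 𝒮) (G : 𝒴 ⥤ᵇ 𝒮) (h𝒳 : Stk.IsStack J 𝒳 ∧ FibCat.IsFibSetoid 𝒳.p) (h𝒴 : Stk.IsStack J 𝒴 ∧ FibCat.IsFibSetoid 𝒴.p)
    (h𝒮 : Stk.IsStack J 𝒮 ∧ FibCat.IsFibSetoid 𝒮.p) :
    Stk.IsStack J (FibCat.fp F G) ∧ FibCat.IsFibSetoid (FibCat.fp F G).p := by
  refine ⟨?_, isFibSetoid_fp F G h𝒳.2 h𝒴.2 h𝒮.1.1⟩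
  have hpre : Stk.IsPrestack J 𝒮 := by
    refine ⟨h𝒮.1.1, fun U R hR => ?_⟩
    have : (Stk.resSieve R 𝒮).IsEquivalence := h𝒮.1.2 R hR
    exact ⟨inferInstance, inferInstance⟩
  exact Groth.Agent.Lib.Helper24.StkFp.isStack_fp F G J h𝒳.1 h𝒴.1 hpre

end Groth.Agent.S12811
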