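import Groth.Statements.S13573
import Groth.Agent.Lib.Helper24.QuotSt6

set_option autoImplicit false
universe u
open CategoryTheory AlgebraicGeometry MonoidalCategory
open AlgSt

namespace Groth.Agent.S13573

open Groth.Agent.Lib.Helper24.QuotSt6 Groth.Agent.Lib.Helper24.QuotSt5


/-- For a group action: let `G` be a group scheme over `S` that is smooth and affine over `S`, acting on
a scheme `X` over `S`. Then the canonical morphism `X ⟶ [X/G]` (sending a `T`-point `x` of `X` to
the trivial torsor `G ×_S T` with the equivariant map `(g, t) ↦ g · x(t)`) is representable by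
algebraic spaces, smooth, and surjective. (The published statement is for a smooth groupoid in
algebraic spaces; this row is the action groupoid of a smooth affine group scheme.) -/
theorem result {S : Scheme.{u}} (G : Over S) [GrpObj G]
    [Smooth G.hom] [IsAffineHom G.hom] (X : Over S) (aX : AlgGrp.Action G X) :
    AlgSt.RepByAlgSpWith (AlgSp.LocP @Smooth)
        (BasedFunctor.comp (AlgSt.ofOverCat X) (AlgSt.quotMap Scheme.fppfPrecoverage G aX)) ∧
      AlgSt.RepByAlgSpWith AlgSp.IsSurjectiveMor
        (BasedFunctor.comp (AlgSt.ofOverCat X) (AlgSt.quotMap Scheme.fppfPrecoverage G aX)) := by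
  have hsm : ∀ (U : Over S)
      (y : FibCat.overCat U ⥤ᵇ AlgSt.QuotSt Scheme.fppfPrecoverage G aX), Smooth (piU y).left :=
    fun U y => piU_left_prop @Smooth y (torsor_prop @Smooth (inferInstanceAs (Smooth G.hom)) (tors y))
  have hsurj : ∀ (U : Over S)
      (y : FibCat.overCat U ⥤ᵇ AlgSt.QuotSt Scheme.fppfPrecoverage G aX),
      Surjective (piU y).left :=
    fun U y => piU_left_prop @Surjective y
      (torsor_prop @Surjective surjective_hom_of_grpObj (tors y))
  refine ⟨?_, ?_⟩
  · exact repByAlgSpWith_quotMap _ fun U y =>
      Groth.Agent.Lib.Helper24.AlgStLocQ6.locP_yon_map_of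
        Groth.Agent.Lib.Helper14.AS.etLocal_smooth (hsm U y)
  · exact repByAlgSpWith_quotMap _ fun U y =>
      Groth.Agent.Lib.Helper24.AlgStSmLoc.isSurjectiveMor_yon_map_of_surjective _ (hsurj U y)

end Groth.Agent.S13573
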