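import Groth.Statements.S12807
-- (no extra imports)

set_option autoImplicit false
open CategoryTheory CategoryTheory.Limits
universe v₃ u₃ v₂ u₂ v u
open FibCat

namespace Groth.Agent.S12807

open CategoryTheory CategoryTheory.Limits

lemma pi1_lift_iff {A B D : Type*} [Category A] [Category B] [Category D] (F : A ⥤ D) (G : B ⥤ D)
    {x y : CategoricalPullback F G} (m : x ⟶ y) (f : x.fst ⟶ y.fst) :
    (CategoricalPullback.π₁ F G).IsHomLift f m ↔ m.fst = f := by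
  constructor
  · intro h
    have h1 : m.fst = eqToHom (rfl : x.fst = x.fst) ≫ f ≫ eqToHom (rfl : y.fst = y.fst) :=
      IsHomLift.fac' (CategoricalPullback.π₁ F G) f m
    simpa using h1
  · intro h
    subst h
    exact IsHomLift.map (CategoricalPullback.π₁ F G) m


/-- Let `u : C ⥤ D` be a functor and `𝒮` a category over `D` whose structure functor is a fibred
category. Then the 2-fibre product `C ×_D 𝒮` of `u` and the structure functor (triples `(U, y, u U ≅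
p y)`), with its first projection, is a fibred category over `C`. (The published statement uses the
strict fibre product, pairs with `u U = p y`; for `𝒮` fibred over `D` it is equivalent over `C` to
the 2-fibre product used here.) -/
theorem result {C : Type u} [Category.{v} C] {D : Type u₂} [Category.{v₂} D] (u : C ⥤ D)
    (𝒮 : BasedCategory.{v₃, u₃} D) [𝒮.p.IsFibered] :
    (CategoricalPullback.π₁ u 𝒮.p).IsFibered := by
  apply Functor.IsFibered.of_exists_isStronglyCartesian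
  intro a R f₀
  obtain ⟨f, hf⟩ : ∃ f : R ⟶ a.fst, f = f₀ := ⟨f₀, rfl⟩
  subst hf
  obtain ⟨s', σ, hσ⟩ := CategoryTheory.IsPreFibered.exists_isCartesian 𝒮.p (a := a.snd) rfl
    (u.map f ≫ a.iso.hom)
  have hσs : 𝒮.p.IsStronglyCartesian (u.map f ≫ a.iso.hom) σ := inferInstance
  have hs' : 𝒮.p.obj s' = u.obj R := IsHomLift.domain_eq 𝒮.p (u.map f ≫ a.iso.hom) σ
  have hσmap : 𝒮.p.map σ = eqToHom hs' ≫ u.map f ≫ a.iso.hom := by
    have := IsHomLift.fac' 𝒮.p (u.map f ≫ a.iso.hom) σ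
    simpa using this
  let b : CategoricalPullback u 𝒮.p := ⟨R, s', eqToIso hs'.symm⟩
  let Φ : b ⟶ a := ⟨f, σ, by
    change u.map f ≫ a.iso.hom = eqToHom hs'.symm ≫ 𝒮.p.map σ
    rw [hσmap]; simp⟩
  refine ⟨b, Φ, ?_⟩
  have hΦl : (CategoricalPullback.π₁ u 𝒮.p).IsHomLift f Φ := (pi1_lift_iff u 𝒮.p Φ f).mpr rfl
  refine { toIsHomLift := hΦl, universal_property' := ?_ }
  intro a' g₀ Φ' hΦ'
  obtain ⟨g, hg⟩ : ∃ g : a'.fst ⟶ R, g = g₀ := ⟨g₀, rfl⟩
  subst hg
  have hf' : Φ'.fst = g ≫ f := (pi1_lift_iff u 𝒮.p Φ' (g ≫ f)).mp hΦ'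
  have w' := Φ'.w
  -- τ lifts g' ≫ h
  have hτ : 𝒮.p.IsHomLift ((a'.iso.inv ≫ u.map g) ≫ (u.map f ≫ a.iso.hom)) Φ'.snd := by
    apply IsHomLift.of_fac 𝒮.p _ _ rfl rfl
    rw [eqToHom_refl, eqToHom_refl, Category.id_comp, Category.comp_id, Category.assoc,
      ← Category.assoc (u.map g), ← u.map_comp, ← hf', w', Iso.inv_hom_id_assoc]
  obtain ⟨ρ, ⟨hρl, hρ⟩, hu⟩ := Functor.IsStronglyCartesian.universal_property 𝒮.p
    (u.map f ≫ a.iso.hom) σ (a'.iso.inv ≫ u.map g)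
    ((a'.iso.inv ≫ u.map g) ≫ (u.map f ≫ a.iso.hom)) rfl Φ'.snd
  have hρmap : 𝒮.p.map ρ = (a'.iso.inv ≫ u.map g) ≫ eqToHom hs'.symm := by
    have := IsHomLift.fac' 𝒮.p (a'.iso.inv ≫ u.map g) ρ
    simpa using this
  refine ⟨⟨g, ρ, ?_⟩, ⟨?_, ?_⟩, ?_⟩
  · change u.map g ≫ eqToHom hs'.symm = a'.iso.hom ≫ 𝒮.p.map ρ
    rw [hρmap]; simp
  · exact (pi1_lift_iff u 𝒮.p (x := a') (y := b) _ g).mpr rfl
  · apply CategoricalPullback.hom_ext
    · exact hf'.symm
    · exact hρ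
  · rintro χ' ⟨hχ'l, hχ'⟩
    have h1 : χ'.fst = g := (pi1_lift_iff u 𝒮.p χ' g).mp hχ'l
    have h2 : χ'.snd ≫ σ = Φ'.snd := congrArg (fun t => t.snd) hχ'
    have hw := χ'.w
    have h3 : 𝒮.p.IsHomLift (a'.iso.inv ≫ u.map g) χ'.snd := by
      apply IsHomLift.of_fac 𝒮.p _ _ rfl hs'
      have hw' : u.map χ'.fst ≫ eqToHom hs'.symm = a'.iso.hom ≫ 𝒮.p.map χ'.snd := hw
      rw [h1] at hw'
      rw [eqToHom_refl, Category.id_comp]
      have : 𝒮.p.map χ'.snd = a'.iso.inv ≫ u.map g ≫ eqToHom hs'.symm := by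
        rw [hw', Iso.inv_hom_id_assoc]
      rw [this]; simp
    apply CategoricalPullback.hom_ext
    · exact h1
    · exact hu χ'.snd ⟨h3, h2⟩

end Groth.Agent.S12807
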