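import Groth.Statements.S10337
import Groth.Agent.Lib.Helper24.Filt9
import Groth.Agent.Lib.Helper24.BaireSpec
import Groth.Agent.Lib.Helper24.SchLocus

set_option autoImplicit false
universe u
open CategoryTheory CategoryTheory.Limits AlgebraicGeometry Topology TopologicalSpace
open AlgSp

namespace Groth.Agent.S10337

open CategoryTheory CategoryTheory.Limits AlgebraicGeometry Opposite AlgSp
open Groth.Agent.Lib.Helper14.AS Groth.Agent.Lib.Helper24.Filt8 Groth.Agent.Lib.Helper24.Filt7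
open Groth.Agent.Lib.Helper24.Filt9 Groth.Agent.Lib.Helper24.Filt2 Groth.Agent.Lib.Helper24.Filt3
open Groth.Agent.Lib.Helper24.SchLocus Groth.Agent.Lib.Helper24.BaireSpec Groth.Agent.Lib.Helper24.ZarGlue

theorem ofPt_mem_om_zero {S : Scheme.{u}} {U : Over S} {X : Sp S} (a : (yon S).obj U ⟶ X)
    (u : ↥U.left) : Points.ofPt a u ∈ Om a (Idx 0) := by
  let τ : Tup a (Idx 0) U := unitTup a
  refine ⟨U, u, τ, ?_⟩
  rw [τ.base_eq default]
  change Points.ofPt ((yon S).map (𝟙 U) ≫ a) u = _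
  rw [CategoryTheory.Functor.map_id, Category.id_comp]


/-- For a scheme S, a decent algebraic space X over S contains a dense open subspace that is a scheme:
there is an open subspace X' ⟶ X whose underlying sheaf is representable by a scheme and whose set
of points is dense in |X|. -/
theorem result {S : Scheme.{u}} (X : AlgSp.Space S)
    (hX : AlgSp.IsDecent X.obj) :
    ∃ (X' : AlgSp.Space S) (j : X' ⟶ X), AlgSp.RepWith @IsOpenImmersion j.hom ∧ X'.obj.obj.IsRepresentable ∧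
      Dense (Set.range (AlgSp.Points.map j.hom)) := by
  obtain ⟨V, f, hfo, hfr⟩ := exists_largest_open_subscheme X.property
  refine ⟨(ofScheme S).obj V, ObjectProperty.homMk f, hfo,
    (representableByOfIso (Iso.refl _)).isRepresentable, ?_⟩
  change Dense (Set.range (Points.map f))
  rw [Groth.Agent.Lib.Helper8.AlgSpPres.range_points_map_yon, hfr]
  by_contra hnd
  have hN₀o : IsOpen (closure (SchLocus X.obj))ᶜ := isClosed_closure.isOpen_compl
  have hN₀ne : ((closure (SchLocus X.obj))ᶜ).Nonempty := by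
    rw [Set.nonempty_compl]
    intro h
    exact hnd (dense_iff_closure_eq.2 h)
  obtain ⟨x₀, hx₀⟩ := hN₀ne
  obtain ⟨U₁, a₁, ha₁e, ha₁s⟩ := X.property.atlas
  obtain ⟨u₁, hu₁⟩ := ofPt_surjective_of_repWith ha₁s x₀
  let O₁ : U₁.left.Opens := ⟨Points.ofPt a₁ ⁻¹' (closure (SchLocus X.obj))ᶜ,
    hN₀o.preimage (Points.continuous_ofPt a₁)⟩
  have hu₁O : u₁ ∈ O₁ := by
    change Points.ofPt a₁ u₁ ∈ (closure (SchLocus X.obj))ᶜ
    rw [hu₁]
    exact hx₀
  obtain ⟨A, hA, hu₁A, hAO⟩ := exists_isAffineOpen_mem_and_subset (x := u₁) (U := O₁) hu₁O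
  have hUaff : IsAffine (resOpen U₁ A).left := hA
  obtain ⟨U, a, hUaff', hae, har, hUne⟩ : ∃ (U : Over S) (a : (yon S).obj U ⟶ X.obj),
      IsAffine U.left ∧ RepWith @Etale a ∧
      (∀ u : U.left, Points.ofPt a u ∉ closure (SchLocus X.obj)) ∧ Nonempty ↥U.left := by
    refine ⟨resOpen U₁ A, (yon S).map (resOpenι U₁ A) ≫ a₁, hUaff,
      repWith_comp _ ((repWith_yon_map_iff _ _).2 (inferInstanceAs (Etale A.ι))) ha₁e, ?_,
      ⟨⟨u₁, hu₁A⟩⟩⟩
    intro u
    rw [ofPt_yon_map_comp]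
    exact hAO u.2
  have hUc : CompactSpace ↥U.left := inferInstance
  have hUno : ∀ n, IsOpen (Points.ofPt a ⁻¹' Om a (Idx n)) := fun n =>
    (isOpen_om X a hae n).preimage (Points.continuous_ofPt a)
  have hinter : ⋂ n, (Points.ofPt a ⁻¹' Om a (Idx n)) = ∅ := by
    rw [Set.eq_empty_iff_forall_notMem]
    intro u hu
    obtain ⟨p, hp, -, hq⟩ := hX (Points.ofPt a u)
    obtain ⟨N, hN⟩ := exists_not_mem_om hae p hq
    rw [hp] at hN
    exact hN (Set.mem_iInter.1 hu N)
  have hnd' : ∃ n, ¬ Dense (Points.ofPt a ⁻¹' Om a (Idx n)) := by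
    by_contra hall
    simp only [not_exists, not_not] at hall
    have h1 := nonempty_iInter_of_dense_open_affine U.left _ hUno hall
    rw [hinter] at h1
    exact Set.not_nonempty_empty h1
  obtain ⟨n, hn⟩ := hnd'
  have hVne : ((closure (Points.ofPt a ⁻¹' Om a (Idx n)))ᶜ).Nonempty := by
    rw [Set.nonempty_compl]
    intro h
    exact hn (dense_iff_closure_eq.2 h)
  obtain ⟨v₀, hv₀⟩ := hVne
  let O₂ : U.left.Opens := ⟨(closure (Points.ofPt a ⁻¹' Om a (Idx n)))ᶜ, isClosed_closure.isOpen_compl⟩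
  obtain ⟨B, hB, hv₀B, hBO⟩ := exists_isAffineOpen_mem_and_subset (x := v₀) (U := O₂) hv₀
  have hVaff : IsAffine (resOpen U B).left := hB
  have hmono : Mono (resOpenι U B).left := inferInstanceAs (Mono B.ι)
  have haVe : RepWith @Etale ((yon S).map (resOpenι U B) ≫ a) :=
    repWith_comp _ ((repWith_yon_map_iff _ _).2 (inferInstanceAs (Etale B.ι))) hae
  have hemp : Om ((yon S).map (resOpenι U B) ≫ a) (Idx n) = ∅ := by
    rw [Set.eq_empty_iff_forall_notMem]
    intro x hx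
    have hx1 : x ∈ Om a (Idx n) := om_comp_subset a (resOpenι U B) _ hx
    obtain ⟨v, rfl⟩ := om_subset_range _ _ hx
    rw [ofPt_yon_map_comp] at hx1
    exact hBO v.2 (subset_closure hx1)
  have hne0 : (Om ((yon S).map (resOpenι U B) ≫ a) (Idx 0)).Nonempty :=
    ⟨_, ofPt_mem_om_zero _ (⟨v₀, hv₀B⟩ : ↥B)⟩
  have hex : ∃ m, Om ((yon S).map (resOpenι U B) ≫ a) (Idx (m + 1)) = ∅ := by
    cases n with
    | zero => rw [hemp] at hne0; exact absurd hne0 Set.not_nonempty_empty
    | succ n' => exact ⟨n', hemp⟩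
  classical
  obtain ⟨m, hm1, hm2⟩ : ∃ m, Om ((yon S).map (resOpenι U B) ≫ a) (Idx (m + 1)) = ∅ ∧
      (Om ((yon S).map (resOpenι U B) ≫ a) (Idx m)).Nonempty := by
    refine ⟨Nat.find hex, Nat.find_spec hex, ?_⟩
    rcases Nat.eq_zero_or_pos (Nat.find hex) with h0 | hpos
    · rw [h0]; exact hne0
    · obtain ⟨m', hm'⟩ : ∃ m', Nat.find hex = m' + 1 := ⟨Nat.find hex - 1, by omega⟩
      rw [hm']
      rw [Set.nonempty_iff_ne_empty]
      exact Nat.find_min hex (by omega : m' < Nat.find hex)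
  obtain ⟨M, g, hgo, hgr⟩ := exists_open_subscheme_of_om_empty X _ haVe m hm1
  obtain ⟨x, hx⟩ := hm2
  have h1 : x ∈ SchLocus X.obj := ⟨M, g, hgo, by rw [hgr]; exact hx⟩
  obtain ⟨v, rfl⟩ := om_subset_range _ _ hx
  rw [ofPt_yon_map_comp] at h1
  exact har _ (subset_closure h1)

end Groth.Agent.S10337
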