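import Groth.Statements.S1936
import Mathlib
import Groth.Agent.Lib.Helper6.CMChart4
import Groth.Agent.Lib.Helper25.GrpdTrans
import Groth.Agent.S4961
-- import your own Groth.Agent.* helpers here

set_option autoImplicit false
universe u
open CategoryTheory CategoryTheory.Limits AlgebraicGeometry
open Grpd

namespace Groth.Agent.S1936

/-- Let (U, R, s, t, c) be a groupoid scheme over S with s, t flat and locally of finite presentation.
There is an open U' ⊆ U such that t⁻¹(U') is exactly the set of points of R at which s is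
Cohen–Macaulay, s⁻¹(U') is exactly the set of points at which t is Cohen–Macaulay, and both t
restricted to s⁻¹(U') and s restricted to t⁻¹(U') are surjective onto U. (Part (5), that the
restriction of R to U' is a groupoid with Cohen–Macaulay s', t', then follows and is not restated.)
Cohen–Macaulay at a point: flat there with Cohen–Macaulay fibre local ring (Grpd.IsCMAt). (A
groupoid scheme carries U, R, s, t, c, e, i over S with the groupoid axioms on T-points; 'finite
locally free' is finite, flat and locally of finite presentation; C ⊂ Γ(U) is the ring of functions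
a with s♯(a) = t♯(a) and M = Spec C.) -/
theorem result (S : Scheme.{u}) (G : Grpd.GroupoidScheme S) [Flat G.s] [LocallyOfFinitePresentation G.s] [Flat G.t] [LocallyOfFinitePresentation G.t] : ∃ U' : G.U.Opens, (G.t ⁻¹ᵁ U' : Set G.R) = {r | Grpd.IsCMAt G.s r} ∧ (G.s ⁻¹ᵁ U' : Set G.R) = {r | Grpd.IsCMAt G.t r} ∧ ⇑G.t '' (G.s ⁻¹ᵁ U' : Set G.R) = Set.univ ∧ ⇑G.s '' (G.t ⁻¹ᵁ U' : Set G.R) = Set.univ := by
  classical
  haveI : LocallyOfFiniteType G.s := inferInstance
  haveI : LocallyOfFiniteType G.t := inferInstance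
  -- dictionary between the two notions of Cohen–Macaulay at a point
  have hiff : ∀ {X Y : Scheme.{u}} (f : X ⟶ Y) (x : X), Grpd.IsCMAt f x ↔ MoreMor.IsCMAt f x := by
    intro X Y f x
    rw [Groth.Agent.Lib.Helper23.CMMor.isCMAt_iff]
    rfl
  -- the Cohen–Macaulay locus of `s`
  have hWs : IsOpen {r : G.R | MoreMor.IsCMAt G.s r} := Groth.Agent.S4961.result G.s
  let U' : G.U.Opens := ⟨G.e ⁻¹' {r : G.R | MoreMor.IsCMAt G.s r}, hWs.preimage G.e.continuous⟩
  -- invariance
  have hA := Groth.Agent.Lib.Helper23.CMMor.cmLocus_baseChange G.s (pullback.snd G.s G.t)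
    (pullback.fst G.s G.t) G.t (IsPullback.of_hasPullback G.s G.t)
  have hB := Groth.Agent.Lib.Helper23.CMMor.cmLocus_baseChange G.s (pullback.snd G.s G.t)
    G.c G.s (Groth.Agent.Lib.Helper25.GrpdTrans.isPullback_c_snd G)
  have hm0 : 𝟙 G.R ≫ G.s = (𝟙 G.R ≫ G.i) ≫ G.t := by
    rw [Category.assoc, G.i_t]
  have hmc : pullback.lift (𝟙 G.R) (𝟙 G.R ≫ G.i) hm0 ≫ G.c = 𝟙 G.R ≫ G.t ≫ G.e := G.comp_i (𝟙 G.R)
  have hmf : pullback.lift (𝟙 G.R) (𝟙 G.R ≫ G.i) hm0 ≫ pullback.fst G.s G.t = 𝟙 G.R :=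
    pullback.lift_fst _ _ _
  have h1 : ∀ r : G.R, MoreMor.IsCMAt G.s r ↔ G.t r ∈ U' := by
    intro r
    have e1 : (pullback.fst G.s G.t) ((pullback.lift (𝟙 G.R) (𝟙 G.R ≫ G.i) hm0) r) = r := by
      rw [← Scheme.Hom.comp_apply, hmf]
      rfl
    have e2 : G.c ((pullback.lift (𝟙 G.R) (𝟙 G.R ≫ G.i) hm0) r) = G.e (G.t r) := by
      rw [← Scheme.Hom.comp_apply, hmc]
      rfl
    have e3 : (pullback.lift (𝟙 G.R) (𝟙 G.R ≫ G.i) hm0) r ∈
        (pullback.fst G.s G.t) ⁻¹' {r : G.R | MoreMor.IsCMAt G.s r} ↔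
        (pullback.lift (𝟙 G.R) (𝟙 G.R ≫ G.i) hm0) r ∈ G.c ⁻¹' {r : G.R | MoreMor.IsCMAt G.s r} := by
      rw [← hA, ← hB]
    simp only [Set.mem_preimage, Set.mem_ofPred_eq] at e3
    rw [e1, e2] at e3
    exact e3
  -- the Cohen–Macaulay locus of `t` is the preimage under the inverse
  have h2 : ∀ r : G.R, MoreMor.IsCMAt G.t r ↔ MoreMor.IsCMAt G.s (G.i r) := by
    intro r
    haveI : IsIso G.i := inferInstance
    have sq : IsPullback G.i G.t G.s (𝟙 G.U) :=
      IsPullback.of_horiz_isIso ⟨by rw [G.i_s, Category.comp_id]⟩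
    have := Groth.Agent.Lib.Helper23.CMMor.cmLocus_baseChange G.s G.t G.i (𝟙 G.U) sq
    exact Set.ext_iff.mp this r
  have h3 : ∀ r : G.R, MoreMor.IsCMAt G.t r ↔ G.s r ∈ U' := by
    intro r
    rw [h2, h1]
    have : G.t (G.i r) = G.s r := by
      rw [← Scheme.Hom.comp_apply, G.i_t]
    rw [this]
  refine ⟨U', ?_, ?_, ?_, ?_⟩
  · ext r
    simp only [Set.mem_ofPred_eq]
    rw [hiff, h1]
    rfl
  · ext r
    simp only [Set.mem_ofPred_eq]
    rw [hiff, h3]
    rfl
  · -- `t` restricted to `s⁻¹ U'` is surjective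
    rw [Set.eq_univ_iff_forall]
    intro u
    have hd := Groth.Agent.Lib.Helper6.CMChart.dense_cmLocus_fiber G.t u
    have hne : Nonempty ↥(G.t.fiber u) := by
      have hu : G.e u ∈ Set.range (G.t.fiberι u) := by
        rw [Scheme.Hom.range_fiberι]
        show G.t (G.e u) = u
        rw [← Scheme.Hom.comp_apply, G.e_t]
        rfl
      obtain ⟨w, -⟩ := hu
      exact ⟨w⟩
    obtain ⟨w, hw⟩ := hd.nonempty
    refine ⟨G.t.fiberι u w, (h3 _).mp hw, (G.t.fiberHomeo u w).2⟩
  · rw [Set.eq_univ_iff_forall]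
    intro u
    have hd := Groth.Agent.Lib.Helper6.CMChart.dense_cmLocus_fiber G.s u
    have hne : Nonempty ↥(G.s.fiber u) := by
      have hu : G.e u ∈ Set.range (G.s.fiberι u) := by
        rw [Scheme.Hom.range_fiberι]
        show G.s (G.e u) = u
        rw [← Scheme.Hom.comp_apply, G.e_s]
        rfl
      obtain ⟨w, -⟩ := hu
      exact ⟨w⟩
    obtain ⟨w, hw⟩ := hd.nonempty
    refine ⟨G.s.fiberι u w, (h1 _).mp hw, (G.s.fiberHomeo u w).2⟩

end Groth.Agent.S1936
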