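import Groth.Statements.S10236
import Mathlib
import Mathlib
import Groth.Agent.Lib.Helper24.QuotBridge
import Groth.Agent.Lib.Helper14.AlgSpBase

set_option autoImplicit false
universe u
open CategoryTheory CategoryTheory.Limits AlgebraicGeometry Topology TopologicalSpace
open AlgSp

namespace Groth.Agent.S10236



section helpers
open MorphismProperty
set_option linter.style.haveILetI false
open Groth.Agent.Lib.Helper24.QuotBridge Groth.Agent.Lib.Helper14.AS in
lemma surjective_of_epi_repMap {S : Scheme.{u}} {A B : Over S} (k : A ⟶ B)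
    (h : Epi (QuotSh.repMap Scheme.fppfPrecoverage k)) : Surjective k.left := by
  have hnat := repIso_hom_naturality k
  have hk : (AlgSp.yon S).map k =
      (QuotSh.repIsoUliftYoneda Scheme.fppfPrecoverage A).inv ≫
        QuotSh.repMap Scheme.fppfPrecoverage k ≫
        (QuotSh.repIsoUliftYoneda Scheme.fppfPrecoverage B).hom := by
    rw [hnat, Iso.inv_hom_id_assoc]
  have hepi : Epi ((AlgSp.yon S).map k) := by
    rw [hk]
    infer_instance
  haveI : Sheaf.IsLocallySurjective ((AlgSp.yon S).map k) :=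
    (Sheaf.isLocallySurjective_iff_epi _).mpr hepi
  obtain ⟨R, hR, hlift⟩ := exists_cover_lift ((AlgSp.yon S).map k) (𝟙 ((AlgSp.yon S).obj B))
  constructor
  intro b
  rw [Precoverage.mem_comap_iff] at hR
  have hR1 := hR.1
  rw [Precoverage.mem_comap_iff] at hR1
  obtain ⟨Y, g, hg, hb⟩ := hR1 b
  obtain ⟨hg'⟩ := hg
  rename_i Y' g' 
  obtain ⟨hg''⟩ := hg'
  rename_i W w
  obtain ⟨l, hl⟩ := hlift w hg''
  obtain ⟨l', rfl⟩ := (AlgSp.yon S).map_surjective l
  rw [Category.comp_id, ← Functor.map_comp] at hl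
  have hl' : l' ≫ k = w := (AlgSp.yon S).map_injective hl
  obtain ⟨y, rfl⟩ := hb
  refine ⟨l'.left y, ?_⟩
  have := congrArg (fun f => f.left y) hl'
  exact this

set_option backward.isDefEq.respectTransparency.types false in
theorem cover_mm {U M X : Scheme.{u}} (m : U ⟶ M) (a : M ⟶ X)
    [IsFinite m] [Flat m] [Surjective m] :
    (@Surjective ⊓ @Flat ⊓ @QuasiCompact : MorphismProperty Scheme.{u})
      (pullback.map (m ≫ a) (m ≫ a) a a m m (𝟙 X) (Category.comp_id _) (Category.comp_id _)) := by
  have := MorphismProperty.pullbackMap (P := (@Surjective ⊓ @Flat ⊓ @QuasiCompact :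
    MorphismProperty Scheme.{u})) (f := m ≫ a) (g := m ≫ a) (f' := a) (g' := a) (i₁ := m) (i₂ := m)
    ⟨⟨inferInstance, inferInstance⟩, inferInstance⟩ ⟨⟨inferInstance, inferInstance⟩, inferInstance⟩
    rfl rfl
  exact this

set_option backward.isDefEq.respectTransparency.types false in
theorem isSeparated_descend {U M X : Scheme.{u}} (m : U ⟶ M) (a : M ⟶ X)
    [IsFinite m] [Flat m] [Surjective m] [IsSeparated (m ≫ a)] : IsSeparated a := by
  have hpb := pullback_map_diagonal_isPullback m m a
  have hmm := cover_mm m a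
  have e : pullback.map m m (m ≫ a) (m ≫ a) (𝟙 U) (𝟙 U) a (Category.id_comp _).symm
      (Category.id_comp _).symm ≫ pullback.fst (m ≫ a) (m ≫ a) = pullback.fst m m := by
    rw [pullback.lift_fst, Category.comp_id]
  have hj' : UniversallyClosed (pullback.map m m (m ≫ a) (m ≫ a) (𝟙 U) (𝟙 U) a
      (Category.id_comp _).symm (Category.id_comp _).symm) := by
    haveI : UniversallyClosed (pullback.map m m (m ≫ a) (m ≫ a) (𝟙 U) (𝟙 U) a
      (Category.id_comp _).symm (Category.id_comp _).symm ≫ pullback.fst (m ≫ a) (m ≫ a)) := by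
      rw [e]; infer_instance
    exact UniversallyClosed.of_comp_of_isSeparated _ (pullback.fst (m ≫ a) (m ≫ a))
  have hΔ : UniversallyClosed (pullback.diagonal a) :=
    of_isPullback_of_descendsAlong (P := @UniversallyClosed)
      (Q := (@Surjective ⊓ @Flat ⊓ @QuasiCompact : MorphismProperty Scheme.{u})) hpb.flip hmm hj'
  have : IsClosedImmersion (pullback.diagonal a) :=
    IsClosedImmersion.of_isPreimmersion _ (pullback.diagonal a).isClosedMap.isClosed_range
  exact ⟨this⟩

theorem quasiCompact_descend_of_isPullback {P X Y Z : Scheme.{u}} {fst : P ⟶ X} {snd : P ⟶ Y}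
    {f : X ⟶ Z} {g : Y ⟶ Z} (h : IsPullback fst snd f g) [Surjective f] [QuasiCompact f]
    [QuasiCompact fst] : QuasiCompact g := by
  constructor
  intro V hV hVc
  have h1 : IsCompact (f ⁻¹' V) := QuasiCompact.isCompact_preimage V hV hVc
  have h2 : IsCompact (fst ⁻¹' (f ⁻¹' V)) :=
    QuasiCompact.isCompact_preimage _ (hV.preimage f.continuous) h1
  have h3 := Scheme.image_preimage_eq_of_isPullback h (f ⁻¹' V)
  have h4 : f '' (f ⁻¹' V) = V := Set.image_preimage_eq V f.surjective
  have h5 : g ⁻¹' V = snd '' (fst ⁻¹' (f ⁻¹' V)) := by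
    rw [h4] at h3
    exact h3.symm
  rw [h5]
  exact h2.image snd.continuous

theorem quasiSeparated_descend {U M X : Scheme.{u}} (m : U ⟶ M) (a : M ⟶ X)
    [IsFinite m] [Flat m] [Surjective m] [QuasiSeparated (m ≫ a)] : QuasiSeparated a := by
  have hpb := pullback_map_diagonal_isPullback m m a
  obtain ⟨⟨hmm1, hmm2⟩, hmm3⟩ := cover_mm m a
  have e : pullback.map m m (m ≫ a) (m ≫ a) (𝟙 U) (𝟙 U) a (Category.id_comp _).symm
      (Category.id_comp _).symm ≫ pullback.fst (m ≫ a) (m ≫ a) = pullback.fst m m := by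
    rw [pullback.lift_fst, Category.comp_id]
  have hj' : QuasiCompact (pullback.map m m (m ≫ a) (m ≫ a) (𝟙 U) (𝟙 U) a
      (Category.id_comp _).symm (Category.id_comp _).symm) := by
    haveI : QuasiCompact (pullback.map m m (m ≫ a) (m ≫ a) (𝟙 U) (𝟙 U) a
      (Category.id_comp _).symm (Category.id_comp _).symm ≫ pullback.fst (m ≫ a) (m ≫ a)) := by
      rw [e]; infer_instance
    exact QuasiCompact.of_comp _ (pullback.fst (m ≫ a) (m ≫ a))
  haveI := hmm1
  haveI := hmm3
  have hΔ : QuasiCompact (pullback.diagonal a) := quasiCompact_descend_of_isPullback hpb.flip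
  exact ⟨hΔ⟩

end helpers

/-- Let (U, R, s, t, c) be a groupoid scheme over a scheme S with s, t finite locally free and j = (t,
s) an equivalence relation, such that in each nonempty closed subset of U some point has its whole
equivalence class inside an affine open of U; let U ⟶ M be a finite locally free morphism over S
with R = U ×_M U (the square with t, s cartesian) such that h_M is the quotient of h_U by h_R ⇉ h_U
in fppf sheaves. Then (1) if U ⟶ S is quasi-separated so is M ⟶ S; (2) if U is quasi-separated so is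
M; (3) if U ⟶ S is separated so is M ⟶ S; (4) if U is separated so is M. -/
theorem result {S : Scheme.{u}} (G : Grpd.GroupoidScheme S)
    (hs : Mor2.IsFinLocFree G.s) (ht : Mor2.IsFinLocFree G.t)
    (heq : AlgSp.IsEqvRel (Over.homMk G.s G.s_over : Over.mk G.pR ⟶ Over.mk G.pU) (Over.homMk G.t G.t_over : Over.mk G.pR ⟶ Over.mk G.pU))
    (h3 : ∀ Z : Set ↥G.U, IsClosed Z → Z.Nonempty →
      ∃ u ∈ Z, ∃ W : G.U.Opens, IsAffineOpen W ∧ ∀ r : ↥G.R, G.s r = u → G.t r ∈ W)
    (M : Over S) (m : Over.mk G.pU ⟶ M) (hm : Mor2.IsFinLocFree m.left) (hR : IsPullback G.t G.s m.left m.left)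
    (hq : QuotSh.IsQuotient Scheme.fppfPrecoverage (Over.homMk G.s G.s_over : Over.mk G.pR ⟶ Over.mk G.pU) (Over.homMk G.t G.t_over : Over.mk G.pR ⟶ Over.mk G.pU) m) :
    (QuasiSeparated G.pU → QuasiSeparated M.hom) ∧ (QuasiSeparatedSpace ↥G.U → QuasiSeparatedSpace ↥M.left) ∧
      (IsSeparated G.pU → IsSeparated M.hom) ∧ (G.U.IsSeparated → M.left.IsSeparated) := by

  obtain ⟨hm1, hm2, hm3⟩ := hm
  haveI := hm1
  haveI := hm2
  haveI := hm3
  obtain ⟨w, hiso⟩ := hq
  have hfac : QuotSh.repMap Scheme.fppfPrecoverage m =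
      QuotSh.quotπ Scheme.fppfPrecoverage _ _ ≫ QuotSh.quotDesc Scheme.fppfPrecoverage m w :=
    (coequalizer.π_desc _ _).symm
  have hepi : Epi (QuotSh.repMap Scheme.fppfPrecoverage m) := by
    rw [hfac]
    haveI : Epi (QuotSh.quotπ Scheme.fppfPrecoverage
      (Over.homMk G.s G.s_over : Over.mk G.pR ⟶ Over.mk G.pU)
      (Over.homMk G.t G.t_over : Over.mk G.pR ⟶ Over.mk G.pU)) := by
      unfold QuotSh.quotπ
      exact coequalizer.π_epi
    infer_instance
  haveI hsurj : Surjective m.left := surjective_of_epi_repMap m hepi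
  have hpU : G.pU = m.left ≫ M.hom := (Over.w m).symm
  refine ⟨?_, ?_, ?_, ?_⟩
  · intro h
    rw [hpU] at h
    exact quasiSeparated_descend m.left M.hom
  · intro h
    rw [quasiSeparatedSpace_iff_quasiSeparated] at h ⊢
    have e : terminal.from G.U = m.left ≫ terminal.from M.left := (terminal.comp_from m.left).symm
    rw [e] at h
    exact quasiSeparated_descend m.left (terminal.from M.left)
  · intro h
    rw [hpU] at h
    exact isSeparated_descend m.left M.hom
  · intro h
    rw [Scheme.isSeparated_iff] at h ⊢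
    have e : terminal.from G.U = m.left ≫ terminal.from M.left := (terminal.comp_from m.left).symm
    rw [e] at h
    exact isSeparated_descend m.left (terminal.from M.left)

end Groth.Agent.S10236
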