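import Groth.Statements.S10268
import Groth.Agent.Lib.Helper24.DescAffMor
import Groth.Agent.Lib.Helper24.IntegralDescent

set_option autoImplicit false
universe u
open CategoryTheory CategoryTheory.Limits AlgebraicGeometry
open AlgSp

namespace Groth.Agent.S10268

open CategoryTheory CategoryTheory.Limits AlgebraicGeometry
open AlgSp
open Groth.Agent.Lib.Helper24.DescBridge Groth.Agent.Lib.Helper24.DescAffMor Groth.Agent.Lib.Helper24.IntegralDescent

set_option backward.isDefEq.respectTransparency.types false in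
lemma isIntegralHom_iff_appTop {X Z : Scheme.{u}} [IsAffine X] [IsAffine Z] (f : X ⟶ Z) :
    IsIntegralHom f ↔ f.appTop.hom.IsIntegral := by
  rw [HasAffineProperty.iff_of_isAffine (P := @IsIntegralHom)]
  exact and_iff_right inferInstance

set_option backward.isDefEq.respectTransparency.types false in
lemma isFinite_iff_appTop {X Z : Scheme.{u}} [IsAffine X] [IsAffine Z] (f : X ⟶ Z) :
    IsFinite f ↔ f.appTop.hom.Finite := by
  rw [HasAffineProperty.iff_of_isAffine (P := @IsFinite)]
  exact and_iff_right inferInstance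


/-- (3) ⇒ (2): integrality and finiteness of a morphism of algebraic spaces descend along a surjective
etale base change from a scheme. -/
theorem result {S : Scheme.{u}} {X Y : AlgSp.Space S} (f : X ⟶ Y) (V : Over S)
    (p : (AlgSp.yon S).obj V ⟶ Y.obj) (hp : AlgSp.RepWith @Etale p) (hps : AlgSp.RepWith @Surjective p)
    {P : AlgSp.Sp S} (fst : P ⟶ X.obj) (snd : P ⟶ (AlgSp.yon S).obj V) (sq : IsPullback fst snd f.hom p) :
    (AlgSp.IsIntegralMor snd → AlgSp.IsIntegralMor f.hom) ∧ (AlgSp.IsFiniteMor snd → AlgSp.IsFiniteMor f.hom) := by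
  constructor
  · intro h Z hZ g
    obtain ⟨U₀, fstW, hW, hU₀, Z'l, W'l, c, r, a, hZ', hW', hcf, hcs, sqr, hr⟩ :=
      exists_affine_descent @IsIntegralHom f.hom p hp hps fst snd sq h hZ g
    refine ⟨descObj U₀, descProj U₀, fstW, hW, hU₀, ?_⟩
    change IsIntegralHom U₀.hom
    have : IsAffine Z.left := hZ
    rw [isIntegralHom_iff_appTop] at hr ⊢
    exact descends_affine isIntegral_codescendsAlong_faithfullyFlat sqr hr
  · intro h Z hZ g
    obtain ⟨U₀, fstW, hW, hU₀, Z'l, W'l, c, r, a, hZ', hW', hcf, hcs, sqr, hr⟩ :=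
      exists_affine_descent @IsFinite f.hom p hp hps fst snd sq h hZ g
    refine ⟨descObj U₀, descProj U₀, fstW, hW, hU₀, ?_⟩
    change IsFinite U₀.hom
    have : IsAffine Z.left := hZ
    rw [isFinite_iff_appTop] at hr ⊢
    exact descends_affine RingHom.Finite.codescendsAlong_faithfullyFlat sqr hr

end Groth.Agent.S10268
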