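import Groth.Statements.S10540
import Groth.Agent.Lib.Helper24.FpqcRep
import Groth.Agent.Lib.Helper14.IntFinRep
import Groth.Agent.S0084

set_option autoImplicit false
universe u
open CategoryTheory CategoryTheory.Limits AlgebraicGeometry
open AlgSp

namespace Groth.Agent.S10540

open CategoryTheory CategoryTheory.Limits AlgebraicGeometry
open AlgSp


/-- The property of morphisms of algebraic spaces over S given by f is finite (every base change to an
affine scheme is an affine scheme finite over it) is fpqc local on the base: for an fpqc covering of
an algebraic space Y by algebraic spaces Y_i, a morphism f : X ⟶ Y of algebraic spaces and cartesian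
squares X_i = Y_i ×_Y X, f has the property if and only if every X_i ⟶ Y_i has it. -/
theorem result (S : Scheme.{u}) :
    AlgSp.IsLocalOnBase (AlgSp.IsFpqcCover (S := S)) AlgSp.IsFiniteMor := by
  have := Groth.Agent.S0084.result.{u}
  have := Groth.Agent.Lib.Helper14.AS.isZariskiLocalAtTarget_isFinite.{u}
  have key : IsLocalOnBase (IsFpqcCover (S := S)) (RepWith @IsFinite) := by
    refine Groth.Agent.Lib.Helper24.FpqcRep.isLocalOnBase_fpqc_repWith (P := @IsFinite) ?_ ?_
    · intro X Y f hf
      have : IsFinite f := hf
      exact ⟨inferInstance, inferInstance⟩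
    · intro X Y f hf
      have : IsFinite f := hf
      show IsSeparated f
      infer_instance
  refine Groth.Agent.Lib.Helper14.AS.isLocalOnBase_congr (fun X Y hX hY f => ?_) key
  exact ((Groth.Agent.Lib.Helper14.AS.integral_finite_iff_repWith
    (X := ⟨X, hX⟩) (Y := ⟨Y, hY⟩) (ObjectProperty.homMk f)).2).symm

end Groth.Agent.S10540
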