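import Groth.Statements.S18285
import Groth.Agent.Lib.Helper10.MagnetDom

set_option autoImplicit false
universe u
open CategoryTheory MonoidalCategory CartesianMonoidalCategory MonObj AlgebraicGeometry Opposite
open Magnet

namespace Groth.Agent.S18285

/-- Let X be an S-scheme separated over S with an action of the diagonalizable monoid scheme A(M)_S of a
commutative monoid M, and N a submonoid of M. Then the canonical map from the attractor X^N to X
(evaluation at the unit section of A(N)_S) is a monomorphism: for every S-scheme T it is injective
on T-points. (The published statement allows X to be an algebraic space over S; here X is a scheme.) -/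
theorem result (S : Scheme.{u}) (M : Type) [AddCommMonoid M]
    (X : Over S) [IsSeparated X.hom] (a : Magnet.MonAct (Magnet.AMonS S M) X) (N : AddSubmonoid M) (T : Over S) :
    Function.Injective (fun φ => (Magnet.attrToX a N).app (op T) φ) := by
  intro φ ψ h
  have h' : lift (toUnit T ≫ η[AMonS S N]) (𝟙 T) ≫ φ.1 = lift (toUnit T ≫ η[AMonS S N]) (𝟙 T) ≫ ψ.1 := h
  apply Subtype.ext
  apply Groth.Agent.Lib.Helper10.MagnetDom.hom_ext_of_whiskerRight_map S N.subtype
    Subtype.val_injective T X
  rw [Groth.Agent.Lib.Helper10.MagnetDom.whiskerRight_comp_eq_orbit (AMonS.map S N.subtype) a φ.1 φ.2,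
    Groth.Agent.Lib.Helper10.MagnetDom.whiskerRight_comp_eq_orbit (AMonS.map S N.subtype) a ψ.1 ψ.2, h']

end Groth.Agent.S18285
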