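import Groth.Statements.S7440
import Groth.Agent.Lib.Helper6.BddFibEtale
-- import your own Groth.Agent.* helpers here

set_option autoImplicit false
universe u
open CategoryTheory AlgebraicGeometry
open BddFib

namespace Groth.Agent.S7440

/-- Let `f : X → Y` be étale and `n ≥ 0`. If for every field `k` and every `Spec k → Y` the base change
`X_k = Spec k ×_Y X` has finitely many, and at most `n`, points, then `n` bounds the degrees of the
fibres of `f`. (The converse implication holds for every morphism of schemes, étale or not, and is
not restated here.) -/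
theorem result {X Y : Scheme.{u}} (f : X ⟶ Y) [Etale f] (n : ℕ)
    (h : ∀ (k : Type u) [Field k] (g : Spec (CommRingCat.of k) ⟶ Y),
      Finite ↥(Limits.pullback f g) ∧ Nat.card ↥(Limits.pullback f g) ≤ n) :
    BddFib.FibreDegLE f n := by
  open Groth.Agent.Lib.Helper6.BddFibLib in
  intro y
  let k := AlgebraicClosure (Y.residueField y)
  let q : Spec (CommRingCat.of k) ⟶ Spec (Y.residueField y) :=
    Spec.map (CommRingCat.ofHom (algebraMap (Y.residueField y) k))
  let g : Spec (CommRingCat.of k) ⟶ Y := q ≫ Y.fromSpecResidueField y
  obtain ⟨hfin, hcard⟩ := h k g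
  have h1 : BddFib.FiniteOfDegLE (CommRingCat.of k) (Limits.pullback.snd f g) n :=
    finiteOfDegLE_of_etale_of_isAlgClosed _ n hcard
  let a : Limits.pullback f g ⟶ f.fiber y :=
    Limits.pullback.lift (Limits.pullback.fst f g) (Limits.pullback.snd f g ≫ q)
      (by rw [Category.assoc]; exact Limits.pullback.condition)
  have ha1 : a ≫ f.fiberι y = Limits.pullback.fst f g := Limits.pullback.lift_fst _ _ _
  have ha2 : Limits.pullback.snd f g ≫ q = a ≫ f.fiberToSpecResidueField y :=
    (Limits.pullback.lift_snd _ _ _).symm
  have hpb : IsPullback (Limits.pullback.snd f g) a q (f.fiberToSpecResidueField y) := by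
    refine IsPullback.of_bot (v₂₁ := f.fiberι y) (v₂₂ := Y.fromSpecResidueField y)
      (h₃₁ := f) ?_ ha2 (IsPullback.of_hasPullback f _).flip
    rw [ha1]
    exact (IsPullback.of_hasPullback f g).flip
  exact (finiteOfDegLE_baseChange_iff (K' := CommRingCat.of k)
    (Field.toIsField _) (Field.toIsField k) _ _ _ _ hpb n).mpr h1

end Groth.Agent.S7440
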