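import Groth.Statements.S10419
import Groth.Agent.Lib.Helper24.Filt8
import Groth.Agent.Lib.Helper24.UnivBdd2
import Groth.Agent.Lib.Helper14.AlgSpQC
import Groth.Agent.Lib.Helper14.AlgSpProdQC
import Groth.Agent.Lib.Helper14.SchImg1
import Groth.Agent.Lib.Helper14.AlgSpQCMor
import Groth.Agent.S7441

set_option autoImplicit false
universe u
open CategoryTheory CategoryTheory.Limits AlgebraicGeometry Topology TopologicalSpace
open AlgSp

namespace Groth.Agent.S10419

open CategoryTheory CategoryTheory.Limits AlgebraicGeometry Opposite AlgSp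
open Groth.Agent.Lib.Helper14.AS Groth.Agent.Lib.Helper24.Filt8 Groth.Agent.Lib.Helper24.Filt7
open Groth.Agent.Lib.Helper24.UnivBdd


/-- Let S be a scheme with quasi-separated underlying space and X an algebraic space over S that is
quasi-compact and quasi-separated (X quasi-separated over S). There are an integer n and open
subspaces X = U_1 ⊇ U_2 ⊇ ⋯ ⊇ U_{n+1} = ∅ such that, with T_p = U_p ∖ U_{p+1} (reduced induced
structure), there is a quasi-compact separated scheme V_p with a surjective etale f_p : V_p ⟶ U_p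
for which f_p⁻¹(T_p) ⟶ T_p is an isomorphism. -/
theorem result {S : Scheme.{u}} [QuasiSeparatedSpace ↥S] (X : AlgSp.Space S)
    (hqc : AlgSp.IsQuasiCompactSp X.obj) (hqs : AlgSp.IsQuasiSeparatedSp X.obj) :
    ∃ (n : ℕ) (Uo : ℕ → AlgSp.Space S) (j : ∀ p, Uo p ⟶ X) (k : ∀ p, Uo (p + 1) ⟶ Uo p)
      (T : ℕ → AlgSp.Space S) (i : ∀ p, T p ⟶ Uo p),
      (∀ p, AlgSp.RepWith @IsOpenImmersion (j p).hom) ∧ (∀ p, k p ≫ j p = j (p + 1)) ∧ IsIso (j 1) ∧
      IsEmpty (AlgSp.Points (Uo (n + 1)).obj) ∧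
      (∀ p, AlgSp.IsRedInduced (Set.range (AlgSp.Points.map (k p).hom))ᶜ (i p).hom) ∧
      (∀ p, 1 ≤ p → ∃ (V : Over S) (f : (AlgSp.yon S).obj V ⟶ (Uo p).obj), V.left.IsSeparated ∧ CompactSpace ↥V.left ∧
        AlgSp.RepWith @Etale f ∧ AlgSp.RepWith @Surjective f ∧
        ∀ (P : AlgSp.Sp S) (fst : P ⟶ (T p).obj) (snd : P ⟶ (AlgSp.yon S).obj V),
          IsPullback fst snd (i p).hom f → IsIso fst) := by
  obtain ⟨U, a, hU, hae, has⟩ := isQuasiCompactSp_iff_exists_affine_chart.1 hqc
  have hUc : CompactSpace ↥U.left := inferInstance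
  have hqca : IsQuasiCompactMor a :=
    isQuasiCompactMor_of_isQuasiSeparatedSp (IsAlgSpace.yon_obj _) (isQuasiCompactSp_yon _) hqs a
  have har := hae.rep
  have hqcr : RepWith @QuasiCompact a := (repWith_quasiCompact_iff_isQuasiCompactMor har).2 hqca
  have sq := har.isPullback' a
  have h1 : Etale (har.snd a).left := hae.property_snd a
  have h2 : QuasiCompact (har.snd a).left := hqcr.property_snd a
  have hRc : CompactSpace ↥(har.pullback a).left :=
    QuasiCompact.compactSpace_of_compactSpace (har.snd a).left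
  have h3 : LocallyQuasiFinite (har.snd a).left := locallyQuasiFinite_of_etale' _
  obtain ⟨N, hN⟩ := Groth.Agent.S7441.result (har.snd a).left
  have hdeg : W4dec.DegFibresLE N a :=
    degFibresLE_of_baseChange a a ((yon S).map (har.fst' a)) ((yon S).map (har.snd a)) sq
      (by rw [Groth.Agent.Lib.Helper8.AlgSpPres.range_points_map_yon])
      (degFibresLE_yon_map_of_fibreDegLE (har.snd a) hN)
  obtain ⟨Uo, j, k, T, i, g1, g2, g3, g4, g5, g6, -⟩ := main X a hae has
  refine ⟨N, Uo, j, k, T, i, g1, g2, g3, ?_, g4, ?_⟩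
  · refine ⟨fun y => ?_⟩
    have hy : Points.map (j (N + 1)).hom y ∈ Groth.Agent.Lib.Helper24.Filt2.Om a (Groth.Agent.Lib.Helper24.Filt3.Idx N) := by
      rw [← g6 N]
      exact ⟨y, rfl⟩
    exact not_mem_om_of_degFibresLE X.property hdeg _ hy
  · intro p hp
    obtain ⟨V, f, hV, hVc, hfe, hfs, hiso⟩ := g5 p hp
    exact ⟨V, f, hV, hVc hqcr, hfe, hfs, hiso⟩

end Groth.Agent.S10419
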