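import Groth.Statements.S8853
import Groth.Agent.Lib.Helper25.BlowUpReg

set_option autoImplicit false
universe u
open CategoryTheory CategoryTheory.Limits AlgebraicGeometry TopologicalSpace
open SDiv

namespace Groth.Agent.S8853

/-- Let Z be a locally principal closed subscheme of a scheme S, with ideal sheaf 𝓘 generated by a
single section on some affine open neighbourhood of each point of its support, and let U be the open
complement of Z. Then the inclusion U ⟶ S is an affine morphism. -/
theorem result {S : Scheme.{u}} (𝓘 : S.IdealSheafData) (h : Curv2.IsLocPrincipal 𝓘) :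
    IsAffineHom (Scheme.Opens.ι 𝓘.support.compl) := by
  let W : S.Opens := Groth.Agent.Lib.Helper25.BlowUpUP.complSupport 𝓘
  change IsAffineHom W.ι
  refine isAffineHom_of_forall_exists_isAffineOpen _ (fun x => ?_)
  by_cases hx : x ∈ 𝓘.support
  · obtain ⟨U, hxU, f, hI⟩ := h x hx
    refine ⟨U.1, hxU, U.2, ?_⟩
    rw [← W.ι.isAffineOpen_iff_of_isOpenImmersion, W.ι.image_preimage_eq_opensRange_inf,
      Scheme.Opens.opensRange_ι]
    have e : W ⊓ U.1 = S.basicOpen f := by
      ext y
      constructor
      · rintro ⟨hyW, hyU⟩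
        by_contra hyf
        apply hyW
        rw [SetLike.mem_coe, Scheme.IdealSheafData.mem_support_iff_of_mem hyU,
          Scheme.mem_zeroLocus_iff]
        intro g hg
        rw [SetLike.mem_coe, hI, Ideal.mem_span_singleton] at hg
        obtain ⟨c, rfl⟩ := hg
        rw [Scheme.basicOpen_mul]
        exact fun hy => hyf hy.1
      · intro hy
        exact ⟨Groth.Agent.Lib.Helper25.BlowUpUP.notMem_support_of_mem_basicOpen 𝓘 U f hI y hy,
          S.basicOpen_le f hy⟩
    rw [e]
    exact U.2.basicOpen f
  · obtain ⟨U, hxU, -, hUW⟩ :=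
      Groth.Agent.Lib.Helper25.BlowUpUP.exists_affineOpens_le_preimage (𝟙 S) x ⊤ trivial W hx
    refine ⟨U.1, hxU, U.2, ?_⟩
    rw [← W.ι.isAffineOpen_iff_of_isOpenImmersion, W.ι.image_preimage_eq_opensRange_inf,
      Scheme.Opens.opensRange_ι, inf_eq_right.2 hUW]
    exact U.2

end Groth.Agent.S8853
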