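import Groth.Statements.S10292
import Groth.Agent.Lib.Lead.VLift
import Groth.Agent.Lib.Helper14.AlgSpPoints

set_option autoImplicit false
universe u
open CategoryTheory CategoryTheory.Limits AlgebraicGeometry
open AlgSp

namespace Groth.Agent.S10292

open Groth.Agent.Lib.Helper14.AS in
/-- Type-level form of the valuation-ring lifting along a flat morphism of schemes. -/
lemma lift_flat_type {X Y : Scheme.{u}} (f : X ⟶ Y) [Flat f] (A : Type u) [CommRing A] [IsDomain A]
    [ValuationRing A] (g : Spec (.of A) ⟶ Y) (x : X)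
    (hx : f x = g (IsLocalRing.closedPoint A : ↥(Spec (.of A)))) :
    ∃ (A' : Type u) (_ : CommRing A') (_ : IsDomain A') (_ : ValuationRing A') (φ : A →+* A'),
      Function.Injective φ ∧ IsLocalHom φ ∧ ∃ g' : Spec (.of A') ⟶ X,
        g' ≫ f = Spec.map (CommRingCat.ofHom φ) ≫ g ∧
          g' (IsLocalRing.closedPoint A' : ↥(Spec (.of A'))) = x := by
  have hd : IsDomain ↑(CommRingCat.of A) := inferInstanceAs (IsDomain A)
  have hv : ValuationRing ↑(CommRingCat.of A) := inferInstanceAs (ValuationRing A)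
  obtain ⟨W, hWd, hWv, φ, ⟨hφ1, hφ2⟩, g', hg', hg'c⟩ :=
    Groth.Agent.Lib.Lead.exists_extVal_lift_of_flat f (.of A) g x hx
  exact ⟨↑W, inferInstance, hWd, hWv, φ.hom, hφ1, hφ2, g', hg', hg'c⟩

/-- Along a flat morphism of algebraic spaces, a morphism from the spectrum of a valuation ring to the
target whose closed point is hit lifts to the source after an extension of valuation rings
(injective and local). -/
theorem result {S : Scheme.{u}} {X Y : AlgSp.Space S} (f : X ⟶ Y)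
    (hf : AlgSp.LocP @Flat f.hom) (A : Type u) [CommRing A] [IsDomain A] [ValuationRing A]
    (str : Spec (.of A) ⟶ S) (b : (AlgSp.yon S).obj (Over.mk str) ⟶ Y.obj)
    (hb : AlgSp.Points.ofPt b (IsLocalRing.closedPoint A) ∈ Set.range (AlgSp.Points.map f.hom)) :
    ∃ (A' : Type u) (_ : CommRing A') (_ : IsDomain A') (_ : ValuationRing A') (φ : A →+* A'),
      Function.Injective φ ∧ IsLocalHom φ ∧
      ∃ l : (AlgSp.yon S).obj (Over.mk (Spec.map (CommRingCat.ofHom φ) ≫ str)) ⟶ X.obj,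
        l ≫ f.hom = (AlgSp.yon S).map (Over.homMk (Spec.map (CommRingCat.ofHom φ)) rfl :
          Over.mk (Spec.map (CommRingCat.ofHom φ) ≫ str) ⟶ Over.mk str) ≫ b := by
  obtain ⟨x, hx⟩ := hb
  obtain ⟨V, pY, hpYe, hpYs⟩ := Y.property.atlas
  obtain ⟨U₀, pX, hpXe, hpXs⟩ := X.property.atlas
  obtain ⟨u₀, rfl⟩ := Groth.Agent.Lib.Helper14.AS.ofPt_surjective_of_repWith hpXs x
  -- the chart `U` of `X` lying over `V`
  have hrepY := hpYe.rep
  let U : Over S := hrepY.pullback (pX ≫ f.hom)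
  let sndU : U ⟶ U₀ := hrepY.snd (pX ≫ f.hom)
  obtain ⟨h, hh⟩ := (yon S).map_surjective (hrepY.fst (pX ≫ f.hom))
  have sqU : IsPullback ((yon S).map h) ((yon S).map sndU) pY (pX ≫ f.hom) := by
    rw [hh]; exact hrepY.isPullback (pX ≫ f.hom)
  have hsndUe : Etale sndU.left := hpYe.property_snd (pX ≫ f.hom)
  have hsndUs : Surjective sndU.left := hpYs.property _ _ _ sqU
  have ha : RepWith @Etale ((yon S).map sndU ≫ pX) :=
    (RepWith (S := S) @Etale).comp_mem _ _ ((repWith_yon_map_iff _ _).2 hsndUe) hpXe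
  have hflat : Flat h.left :=
    hf ((yon S).map sndU ≫ pX) pY h ha hpYe (by rw [Category.assoc]; exact sqU.w.symm)
  obtain ⟨u, hu⟩ := sndU.left.surjective u₀
  -- the chart `T` of `Spec A` lying over `V`
  let ptA : Over S := Over.mk str
  let T : Over S := hrepY.pullback b
  let sndT : T ⟶ ptA := hrepY.snd b
  obtain ⟨k, hk⟩ := (yon S).map_surjective (hrepY.fst b)
  have sqT : IsPullback ((yon S).map k) ((yon S).map sndT) pY b := by
    rw [hk]; exact hrepY.isPullback b
  have hsndTe : Etale sndT.left := hpYe.property_snd b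
  -- the point `t`
  have hpt : Points.ofPt pY (h.left u) = Points.ofPt b (IsLocalRing.closedPoint A) := by
    rw [← Groth.Agent.Lib.Helper14.AS.ofPt_yon_map_comp, sqU.w,
      Groth.Agent.Lib.Helper14.AS.ofPt_yon_map_comp, hu, ← Points.map_ofPt]
    exact hx
  obtain ⟨t, ht1, ht2⟩ := Groth.Agent.Lib.Helper14.AS.exists_point_of_isPullback_yon sqT
    (h.left u) (IsLocalRing.closedPoint A) hpt
  -- first lift
  have hflatT : Flat sndT.left := inferInstance
  obtain ⟨A₁, _, _, _, φ₁, hφ₁i, hφ₁l, g₁, hg₁, hg₁c⟩ :=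
    lift_flat_type sndT.left A (𝟙 _) t ht2
  -- second lift
  obtain ⟨A₂, _, _, _, φ₂, hφ₂i, hφ₂l, g₂, hg₂, hg₂c⟩ :=
    lift_flat_type h.left A₁ (g₁ ≫ k.left) u (by
      rw [Scheme.Hom.comp_apply, hg₁c, ht1])
  have hstr : g₂ ≫ U.hom = Spec.map (CommRingCat.ofHom (φ₂.comp φ₁)) ≫ str := by
    rw [← Over.w h, ← Category.assoc, hg₂, Category.assoc, Category.assoc, Over.w k,
      ← Over.w sndT, ← Category.assoc g₁, hg₁, Category.comp_id, CommRingCat.ofHom_comp,
      Spec.map_comp, Category.assoc]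
    rfl
  refine ⟨A₂, inferInstance, inferInstance, inferInstance, φ₂.comp φ₁, hφ₂i.comp hφ₁i,
    RingHom.isLocalHom_comp _ _, ?_⟩
  let g₂' : Over.mk (Spec.map (CommRingCat.ofHom (φ₂.comp φ₁)) ≫ str) ⟶ U := Over.homMk g₂ hstr
  refine ⟨(yon S).map g₂' ≫ (yon S).map sndU ≫ pX, ?_⟩
  rw [Category.assoc, Category.assoc, ← sqU.w, ← Functor.map_comp_assoc]
  -- `g₂' ≫ h = (Spec φ₂ ≫ g₁) ≫ k` over `S`
  have hT : (Spec.map (CommRingCat.ofHom φ₂) ≫ g₁) ≫ T.hom =
      Spec.map (CommRingCat.ofHom (φ₂.comp φ₁)) ≫ str := by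
    rw [← Over.w sndT, Category.assoc, ← Category.assoc g₁, hg₁, Category.comp_id,
      CommRingCat.ofHom_comp, Spec.map_comp, Category.assoc]
    rfl
  let g₁' : Over.mk (Spec.map (CommRingCat.ofHom (φ₂.comp φ₁)) ≫ str) ⟶ T :=
    Over.homMk (Spec.map (CommRingCat.ofHom φ₂) ≫ g₁) hT
  have e1 : g₂' ≫ h = g₁' ≫ k := by
    ext
    simp only [Over.comp_left, g₂', g₁', Over.homMk_left, Category.assoc]
    exact hg₂
  have e2 : g₁' ≫ sndT = (Over.homMk (Spec.map (CommRingCat.ofHom (φ₂.comp φ₁))) rfl :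
      Over.mk (Spec.map (CommRingCat.ofHom (φ₂.comp φ₁)) ≫ str) ⟶ Over.mk str) := by
    ext
    simp only [Over.comp_left, g₁', Over.homMk_left, Category.assoc]
    rw [hg₁, Category.comp_id, CommRingCat.ofHom_comp, Spec.map_comp]
  rw [e1, Functor.map_comp_assoc, sqT.w, ← Functor.map_comp_assoc, e2]

end Groth.Agent.S10292
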