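import Groth.Statements.S2121
import Mathlib.AlgebraicGeometry.ValuativeCriterion
import Mathlib.AlgebraicGeometry.PullbackCarrier
-- import your own Groth.Agent.* helpers here

set_option autoImplicit false
universe u
open CategoryTheory AlgebraicGeometry
open Mor

namespace Groth.Agent.S2121


open Limits

theorem exists_specializes_affine {R S : CommRingCat.{u}} (φ : R ⟶ S) (z : Spec R)
    (hz : z ∈ closure (Set.range (Spec.map φ))) : ∃ x, (Spec.map φ) x ⤳ z := by
  have h1 : closure (Set.range (Spec.map φ)) = PrimeSpectrum.zeroLocus (RingHom.ker φ.hom) :=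
    PrimeSpectrum.closure_range_comap φ.hom
  rw [h1] at hz
  have hz' : (⊥ : Ideal S).comap φ.hom ≤ z.asIdeal := (PrimeSpectrum.mem_zeroLocus _ _).mp hz
  obtain ⟨Q, -, hQ, hle⟩ := Ideal.exists_ideal_comap_le_prime z.asIdeal ⊥ hz'
  refine ⟨⟨Q, hQ⟩, ?_⟩
  exact (PrimeSpectrum.le_iff_specializes (PrimeSpectrum.comap φ.hom ⟨Q, hQ⟩) z).mp hle

theorem exists_specializes {X Y : Scheme.{u}} (f : X ⟶ Y) [QuasiCompact f] (z : Y)
    (hz : z ∈ closure (Set.range f)) : ∃ x, f x ⤳ z := by
  wlog hY : ∃ R, Y = Spec R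
  · let 𝒰 := Y.affineCover
    obtain ⟨i, z', rfl⟩ := 𝒰.exists_eq z
    have _ : QuasiCompact (𝒰.pullbackHom f i) := MorphismProperty.pullback_snd _ _ ‹_›
    have hz' : z' ∈ closure (Set.range (𝒰.pullbackHom f i)) := by
      have : Set.range (𝒰.pullbackHom f i) = (𝒰.f i) ⁻¹' Set.range f :=
        Scheme.Pullback.range_snd _ _
      rw [this]
      exact (𝒰.f i).isOpenEmbedding.isOpenMap.preimage_closure_subset_closure_preimage hz
    obtain ⟨x', hx'⟩ := this (𝒰.pullbackHom f i) z' hz' ⟨_, rfl⟩
    refine ⟨(pullback.fst f (𝒰.f i)) x', ?_⟩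
    have := hx'.map (𝒰.f i).continuous
    have h3 : f ((pullback.fst f (𝒰.f i)) x') = (𝒰.f i) ((𝒰.pullbackHom f i) x') :=
      congrArg (fun h : pullback f (𝒰.f i) ⟶ Y => h.base x') pullback.condition
    rw [h3]
    exact this
  obtain ⟨R, rfl⟩ := hY
  wlog hX : ∃ S, X = Spec S
  · obtain ⟨S, g, hg⟩ := compactSpace_iff_exists.mp (QuasiCompact.compactSpace_of_compactSpace f)
    have inst : QuasiCompact (g ≫ f) := HasAffineProperty.iff_of_isAffine.mpr (by infer_instance)
    have hz' : z ∈ closure (Set.range (g ≫ f)) := by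
      simp only [Scheme.Hom.comp_base, TopCat.coe_comp]
      rw [Set.range_comp, Set.range_eq_univ.mpr hg, Set.image_univ]
      exact hz
    obtain ⟨x', hx'⟩ := this R (g ≫ f) z hz' ⟨_, rfl⟩
    exact ⟨g x', hx'⟩
  obtain ⟨S, rfl⟩ := hX
  obtain ⟨φ, rfl⟩ := Spec.homEquiv.symm.surjective f
  exact exists_specializes_affine φ z hz

open IsLocalRing in
theorem exists_valuation_square {X Y : Scheme.{u}} (f : X ⟶ Y) (x' : X) (y : Y) (h : f x' ⤳ y) :
    ∃ (A : Type u) (_ : CommRing A) (_ : IsDomain A) (_ : ValuationRing A)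
      (x : Spec (CommRingCat.of (FractionRing A)) ⟶ X) (y' : Spec (CommRingCat.of A) ⟶ Y),
      x ≫ f = Spec.map (CommRingCat.ofHom (algebraMap A (FractionRing A))) ≫ y' ∧
      y'.base (IsLocalRing.closedPoint A) = y := by
  let stalk_y_to_residue_x' : Y.presheaf.stalk y ⟶ X.residueField x' :=
    Y.presheaf.stalkSpecializes h ≫ f.stalkMap x' ≫ X.residue x'
  obtain ⟨A, hA, hA_local⟩ := exists_factor_valuationRing stalk_y_to_residue_x'.hom
  let stalk_y_to_A : Y.presheaf.stalk y ⟶ .of A :=
    CommRingCat.ofHom (stalk_y_to_residue_x'.hom.codRestrict _ hA)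
  have w : X.fromSpecResidueField x' ≫ f =
      Spec.map (CommRingCat.ofHom (algebraMap A (X.residueField x'))) ≫
        Spec.map stalk_y_to_A ≫ Y.fromSpecStalk y := by
    rw [Scheme.fromSpecResidueField, Category.assoc, ← Scheme.SpecMap_stalkMap_fromSpecStalk,
      ← Scheme.SpecMap_stalkSpecializes_fromSpecStalk h]
    simp_rw [← Spec.map_comp_assoc]
    rfl
  let e : FractionRing A ≃ₐ[A] X.residueField x' := FractionRing.algEquiv A (X.residueField x')
  refine ⟨A, inferInstance, inferInstance, inferInstance,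
    Spec.map (CommRingCat.ofHom (e.symm : X.residueField x' →+* FractionRing A)) ≫
      X.fromSpecResidueField x',
    Spec.map stalk_y_to_A ≫ Y.fromSpecStalk y, ?_, ?_⟩
  · have h4 : Spec.map (CommRingCat.ofHom (e.symm : X.residueField x' →+* FractionRing A)) ≫
        Spec.map (CommRingCat.ofHom (algebraMap A (X.residueField x'))) =
        Spec.map (CommRingCat.ofHom (algebraMap A (FractionRing A))) := by
      rw [← Spec.map_comp]
      congr 1
      ext a
      exact e.symm.commutes a
    rw [Category.assoc, w, reassoc_of% h4]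
  · simp only [Scheme.Hom.comp_base, TopCat.coe_comp, Function.comp_apply]
    have : Spec.map stalk_y_to_A (closedPoint A) = closedPoint (Y.presheaf.stalk y) :=
      comap_closedPoint (S := A) (stalk_y_to_residue_x'.hom.codRestrict A.toSubring hA)
    rw [this, Y.fromSpecStalk_closedPoint]

/-- Let `f : X → Y` be quasi-compact and `z` a point in the closure of `f(X)` (the underlying set of the
scheme theoretic image). Then there are a valuation ring `A` with fraction field `K` and morphisms
`Spec K → X`, `Spec A → Y` forming a commutative square with `f` and `Spec K → Spec A`, such that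
the closed point of `Spec A` maps to `z`. -/
theorem result {X Y : Scheme.{u}} (f : X ⟶ Y) [QuasiCompact f] (z : Y)
    (hz : z ∈ closure (Set.range f.base)) :
    ∃ (A : Type u) (_ : CommRing A) (_ : IsDomain A) (_ : ValuationRing A)
      (x : Spec (CommRingCat.of (FractionRing A)) ⟶ X) (y : Spec (CommRingCat.of A) ⟶ Y),
      x ≫ f = Spec.map (CommRingCat.ofHom (algebraMap A (FractionRing A))) ≫ y ∧
      y.base (IsLocalRing.closedPoint A) = z := by
  obtain ⟨x', hx'⟩ := exists_specializes f z hz
  exact exists_valuation_square f x' z hx'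

end Groth.Agent.S2121
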