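import Groth.Statements.S13709
-- import your own Groth.Agent.* helpers here
import Groth.Agent.Lib.Helper12.QCSpecialization
import Mathlib.AlgebraicGeometry.Morphisms.UniversallyOpen

set_option autoImplicit false
universe u
open CategoryTheory CategoryTheory.Limits AlgebraicGeometry
open ZeroCyc

namespace Groth.Agent.S13709

/-- Let f : X → Y be a quasi-compact morphism of schemes and g : Y' → Y a faithfully flat morphism, i.e.
flat and surjective, with no quasi-compactness assumption on g. If the base change X ×_Y Y' → Y' of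
f along g is a homeomorphism on underlying spaces, then so is f. -/
theorem result {X Y Y' : Scheme.{u}} (f : X ⟶ Y) (g : Y' ⟶ Y)
    [Flat g] [Surjective g] [QuasiCompact f] (h : IsHomeomorph (pullback.snd f g).base) :
    IsHomeomorph f.base := by
  have hcond : ∀ z : ↑(pullback f g), f ((pullback.fst f g) z) = g ((pullback.snd f g) z) := by
    intro z
    simp only [← Scheme.Hom.comp_apply, pullback.condition]
  have hgsurj : Function.Surjective g := g.surjective
  rw [isHomeomorph_iff_continuous_isClosedMap_bijective]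
  refine ⟨f.continuous, ?_, ?_, ?_⟩
  · intro T hT
    rw [← closure_subset_iff_isClosed]
    intro y0 hy0
    obtain ⟨x, hxT, hx⟩ :=
      Groth.Agent.Lib.Helper12.exists_specializes_of_mem_closure_image f T hT y0 hy0
    obtain ⟨y0', rfl⟩ := hgsurj y0
    obtain ⟨y', hy', hgy'⟩ := Flat.generalizingMap g hx
    have hcl : IsClosed ((pullback.snd f g) '' ((pullback.fst f g) ⁻¹' T)) :=
      h.isClosedMap _ (hT.preimage (pullback.fst f g).continuous)
    obtain ⟨z, hz1, hz2⟩ := Scheme.Pullback.exists_preimage_pullback x y' hgy'.symm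
    have hy'mem : y' ∈ (pullback.snd f g) '' ((pullback.fst f g) ⁻¹' T) :=
      ⟨z, by simpa [hz1] using hxT, hz2⟩
    have hy0'mem := hy'.mem_closed hcl hy'mem
    obtain ⟨z0, hz0T, rfl⟩ := hy0'mem
    exact ⟨(pullback.fst f g) z0, hz0T, hcond z0⟩
  · intro x1 x2 hx
    obtain ⟨y', hy'⟩ := hgsurj (f x1)
    obtain ⟨z1, hz1, hz1'⟩ := Scheme.Pullback.exists_preimage_pullback x1 y' hy'.symm
    obtain ⟨z2, hz2, hz2'⟩ := Scheme.Pullback.exists_preimage_pullback x2 y' (hx ▸ hy'.symm)
    have : z1 = z2 := h.injective (hz1'.trans hz2'.symm)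
    rw [← hz1, ← hz2, this]
  · intro y
    obtain ⟨y', rfl⟩ := hgsurj y
    obtain ⟨z, rfl⟩ := h.surjective y'
    exact ⟨(pullback.fst f g) z, hcond z⟩

end Groth.Agent.S13709
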