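import Groth.Statements.S13710
-- import your own Groth.Agent.* helpers here
import Groth.Agent.S13709
import Groth.Agent.Lib.Helper12.FlatCoverDescent
import Mathlib.AlgebraicGeometry.Morphisms.FlatDescent

set_option autoImplicit false
universe u
open CategoryTheory CategoryTheory.Limits AlgebraicGeometry
open ZeroCyc

namespace Groth.Agent.S13710


open TensorProduct in
theorem isIso_snd_iff_of_isPullback {P X Y Z : Scheme.{u}} {fst : P ⟶ X} {snd : P ⟶ Y}
    {f : X ⟶ Z} {g : Y ⟶ Z} (sq : IsPullback fst snd f g) :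
    IsIso snd ↔ IsIso (pullback.snd f g) := by
  have h : sq.isoPullback.hom ≫ pullback.snd f g = snd := sq.isoPullback_hom_snd
  constructor
  · intro hs
    have e : pullback.snd f g = sq.isoPullback.inv ≫ snd := by
      rw [Iso.eq_inv_comp]; exact h
    rw [e]; infer_instance
  · intro hs
    rw [← h]; infer_instance

theorem isIso_pullback_snd_comp {X Y Y' Z : Scheme.{u}} (f : X ⟶ Y) (g : Y' ⟶ Y) (k : Z ⟶ Y')
    [IsIso (pullback.snd f g)] : IsIso (pullback.snd f (k ≫ g)) := by
  have sq := (IsPullback.of_hasPullback (pullback.snd f g) k).paste_horiz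
    (IsPullback.of_hasPullback f g)
  exact (isIso_snd_iff_of_isPullback sq).mp inferInstance

theorem isIso_pullback_snd_iso_comp {X X' Y Z : Scheme.{u}} (e : X ⟶ X') [IsIso e] (f : X' ⟶ Z)
    (h : Y ⟶ Z) : IsIso (pullback.snd (e ≫ f) h) ↔ IsIso (pullback.snd f h) := by
  have sq : IsPullback (pullback.fst (e ≫ f) h ≫ e) (pullback.snd (e ≫ f) h) f h :=
    IsPullback.of_iso (IsPullback.of_hasPullback (e ≫ f) h) (Iso.refl _) (asIso e) (Iso.refl _)
      (Iso.refl _) (by simp) (by simp) (by simp) (by simp)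
  exact isIso_snd_iff_of_isPullback sq

open TensorProduct in
theorem isIso_of_flat_cover_affine {A : CommRingCat.{u}} {X : Scheme.{u}} [IsAffine X]
    (f : X ⟶ Spec A)
    (H : ∀ y : Spec A, ∃ (A' : CommRingCat.{u}) (ψ : A ⟶ A'), Flat (Spec.map ψ) ∧
      y ∈ Set.range (Spec.map ψ) ∧ IsIso (pullback.snd f (Spec.map ψ))) : IsIso f := by
  obtain ⟨φ, hφ⟩ := Spec.map_surjective (X.isoSpec.inv ≫ f)
  have hf : f = X.isoSpec.hom ≫ Spec.map φ := by rw [hφ, Iso.hom_inv_id_assoc]
  rw [hf]
  suffices IsIso (Spec.map φ) by infer_instance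
  rw [isIso_SpecMap_iff]
  algebraize [φ.hom]
  change Function.Bijective (algebraMap A Γ(X, ⊤))
  apply Groth.Agent.Lib.Helper12.bijective_of_flat_cover
  intro p hp
  obtain ⟨A', ψ, hflat, ⟨y', hy'⟩, hiso⟩ := H ⟨p, hp.isPrime⟩
  algebraize [ψ.hom]
  refine ⟨A', inferInstance, inferInstance, ?_, ⟨y'.asIdeal, y'.isPrime, ?_⟩, ?_⟩
  · exact (HasRingHomProperty.Spec_iff (P := @Flat)).mp hflat
  · have := congrArg PrimeSpectrum.asIdeal hy'
    exact this
  · rw [hf, isIso_pullback_snd_iso_comp] at hiso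
    have h2 : IsIso (pullback.fst (Spec.map ψ) (Spec.map φ)) := by
      rw [← pullbackSymmetry_hom_comp_snd]; infer_instance
    have h3 : (pullbackSpecIso A A' Γ(X, ⊤)).inv ≫ pullback.fst (Spec.map ψ) (Spec.map φ) =
        Spec.map (CommRingCat.ofHom (algebraMap A' (A' ⊗[A] Γ(X, ⊤)))) :=
      pullbackSpecIso_inv_fst' A A' Γ(X, ⊤)
    have h4 : IsIso (Spec.map (CommRingCat.ofHom (algebraMap A' (A' ⊗[A] Γ(X, ⊤))))) := by
      rw [← h3]; infer_instance
    exact isIso_SpecMap_iff.mp h4

theorem isIso_of_isIso_pullback_snd {X Y Y' : Scheme.{u}} (f : X ⟶ Y) (g : Y' ⟶ Y)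
    [Flat g] [Surjective g] [QuasiCompact f] [IsIso (pullback.snd f g)] : IsIso f := by
  have hhomeo : IsHomeomorph f.base :=
    Groth.Agent.S13709.result f g ((pullback.snd f g).homeomorph.isHomeomorph)
  have haff : IsAffineHom f :=
    isAffineHom_of_isInducing f hhomeo.isInducing hhomeo.isClosedEmbedding.isClosed_range
  change MorphismProperty.isomorphisms Scheme f
  apply IsZariskiLocalAtTarget.of_openCover (P := MorphismProperty.isomorphisms Scheme)
    Y.affineOpenCover.openCover
  intro i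
  change IsIso (pullback.snd f (Y.affineOpenCover.f i))
  set u := Y.affineOpenCover.f i with hu
  have : IsAffine (pullback f u) := isAffine_of_isAffineHom (pullback.snd f u)
  apply isIso_of_flat_cover_affine
  intro y
  obtain ⟨y', hy'⟩ := g.surjective (u y)
  obtain ⟨z, hz1, hz2⟩ := Scheme.Pullback.exists_preimage_pullback y' y hy'
  obtain ⟨j, w, hw⟩ := (pullback g u).affineOpenCover.openCover.exists_eq z
  obtain ⟨ψ, hψ⟩ := Spec.map_surjective
    ((pullback g u).affineOpenCover.f j ≫ pullback.snd g u)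
  have hiso1 : IsIso (pullback.snd (pullback.snd f u) (pullback.snd g u)) := by
    have sq := (IsPullback.of_hasPullback (pullback.snd f u) (pullback.snd g u)).paste_horiz
      (IsPullback.of_hasPullback f u)
    rw [isIso_snd_iff_of_isPullback sq, ← pullback.condition]
    exact isIso_pullback_snd_comp _ _ _
  refine ⟨_, ψ, ?_, ⟨w, ?_⟩, ?_⟩
  · rw [hψ]; infer_instance
  · rw [hψ, Scheme.Hom.comp_apply]
    change (pullback.snd g u) (((pullback g u).affineOpenCover.openCover.f j) w) = y
    rw [hw, hz2]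
  · rw [hψ]
    exact isIso_pullback_snd_comp _ _ _

/-- Let f : X → Y be a morphism of schemes and g : Y' → Y a faithfully flat morphism (flat and
surjective, not assumed quasi-compact). Then f is an isomorphism exactly when it is quasi-compact
and its base change X ×_Y Y' → Y' along g is an isomorphism. -/
theorem result {X Y Y' : Scheme.{u}} (f : X ⟶ Y) (g : Y' ⟶ Y)
    [Flat g] [Surjective g] :
    IsIso f ↔ QuasiCompact f ∧ IsIso (pullback.snd f g) := by
  constructor
  · intro h
    exact ⟨inferInstance, inferInstance⟩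
  · rintro ⟨h1, h2⟩
    exact isIso_of_isIso_pullback_snd f g

end Groth.Agent.S13710
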