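import Groth.Statements.S18944
import Mathlib

set_option autoImplicit false
universe u
open CategoryTheory AlgebraicGeometry
open RegImm

namespace Groth.Agent.S18944



theorem app_surj {Z X : Scheme.{u}} (i : Z ⟶ X) (U : X.Opens) (hU : IsAffineOpen U)
    [IsClosedImmersion (i ∣_ U)] :
    IsAffineOpen (i ⁻¹ᵁ U) ∧ Function.Surjective (i.app U) := by
  haveI : IsAffine U.toScheme := hU
  obtain ⟨h1, h2⟩ := IsClosedImmersion.isAffine_surjective_of_isAffine (i ∣_ U)
  refine ⟨h1, ?_⟩
  have key : ∀ O : X.Opens, O = U.ι ''ᵁ ⊤ → Function.Surjective (i.app O) := by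
    rintro _ rfl
    have h3 : Function.Surjective (i.app (U.ι ''ᵁ ⊤) ≫
        Z.presheaf.map (eqToHom (image_morphismRestrict_preimage i U ⊤)).op) := by
      rw [← morphismRestrict_appTop]; exact h2
    intro t
    obtain ⟨s, hs⟩ := h3 (Z.presheaf.map (eqToHom (image_morphismRestrict_preimage i U ⊤)).op t)
    refine ⟨s, ?_⟩
    rw [CommRingCat.comp_apply] at hs
    exact (ConcreteCategory.bijective_of_isIso
      (Z.presheaf.map (eqToHom (image_morphismRestrict_preimage i U ⊤)).op)).1 hs
  exact key U (by simp)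

theorem ker_stalkMap_eq {Z X : Scheme.{u}} (i : Z ⟶ X) (U : X.Opens) (hU : IsAffineOpen U)
    [IsClosedImmersion (i ∣_ U)] (z : Z) (hzU : i z ∈ U) :
    RingHom.ker (i.stalkMap z).hom =
      (RingHom.ker (i.app U).hom).map (X.presheaf.germ U (i z) hzU).hom := by
  obtain ⟨hV, hsurj⟩ := app_surj i U hU
  apply le_antisymm
  · intro a ha
    rw [RingHom.mem_ker] at ha
    letI := X.presheaf.algebra_section_stalk (U := U) ⟨i z, hzU⟩
    have hloc := hU.isLocalization_stalk ⟨i z, hzU⟩
    obtain ⟨⟨t, g⟩, hag⟩ :=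
      IsLocalization.surj (hU.primeIdealOf ⟨i z, hzU⟩).asIdeal.primeCompl a
    have hgu : IsUnit (X.presheaf.germ U (i z) hzU g.1) :=
      IsLocalization.map_units (X.presheaf.stalk (i z)) g
    have hag' : a * X.presheaf.germ U (i z) hzU g.1 = X.presheaf.germ U (i z) hzU t := hag
    have ht : (i.stalkMap z).hom (X.presheaf.germ U (i z) hzU t) = 0 := by
      rw [← hag', map_mul, ha, zero_mul]
    have ht' : Z.presheaf.germ (i ⁻¹ᵁ U) z hzU (i.app U t) = 0 := by
      rw [← Scheme.Hom.germ_stalkMap_apply]; exact ht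
    -- localization on Z side
    letI := Z.presheaf.algebra_section_stalk (U := i ⁻¹ᵁ U) ⟨z, hzU⟩
    have hlocZ := hV.isLocalization_stalk ⟨z, hzU⟩
    obtain ⟨m, hm⟩ := (IsLocalization.map_eq_zero_iff
      (hV.primeIdealOf ⟨z, hzU⟩).asIdeal.primeCompl (Z.presheaf.stalk z) (i.app U t)).mp ht'
    obtain ⟨h', hh'⟩ := hsurj m.1
    have hmu : IsUnit (Z.presheaf.germ (i ⁻¹ᵁ U) z hzU m.1) :=
      IsLocalization.map_units (Z.presheaf.stalk z) m
    have hh'u : IsUnit (X.presheaf.germ U (i z) hzU h') := by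
      have : IsUnit ((i.stalkMap z).hom (X.presheaf.germ U (i z) hzU h')) := by
        show IsUnit (i.stalkMap z (X.presheaf.germ U (i z) hzU h'))
        rw [Scheme.Hom.germ_stalkMap_apply, hh']; exact hmu
      exact isUnit_of_map_unit (i.stalkMap z).hom _ this
    have hmem : h' * t ∈ RingHom.ker (i.app U).hom := by
      rw [RingHom.mem_ker]
      show i.app U (h' * t) = 0
      rw [map_mul, hh']; exact hm
    have h1 : X.presheaf.germ U (i z) hzU (h' * t) ∈
        (RingHom.ker (i.app U).hom).map (X.presheaf.germ U (i z) hzU).hom :=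
      Ideal.mem_map_of_mem _ hmem
    rw [map_mul, ← hag'] at h1
    have h2 : X.presheaf.germ U (i z) hzU h' * (a * X.presheaf.germ U (i z) hzU g.1) =
        (X.presheaf.germ U (i z) hzU h' * X.presheaf.germ U (i z) hzU g.1) * a := by ring
    rw [h2] at h1
    exact (Ideal.unit_mul_mem_iff_mem _ (hh'u.mul hgu)).mp h1
  · rw [Ideal.map_le_iff_le_comap]
    intro t ht
    rw [RingHom.mem_ker] at ht
    rw [Ideal.mem_comap, RingHom.mem_ker]
    show i.stalkMap z (X.presheaf.germ U (i z) hzU t) = 0
    rw [Scheme.Hom.germ_stalkMap_apply]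
    have : i.app U t = 0 := ht
    rw [this, map_zero]

/-- Let i : Z → X be a regular immersion of schemes (kind: successive non-zero-divisors). Then for every
point z of Z the kernel of the induced map of local rings O_{X, i(z)} → O_{Z, z} is generated by a
regular sequence of O_{X, i(z)}. (No Noetherian hypothesis; over a locally Noetherian X the converse
also holds.) -/
theorem result {Z X : Scheme.{u}} (i : Z ⟶ X)
    (h : RegImm.IsRegularImmersion RegImm.Kind.regular i) (z : Z) :
    ∃ rs : List (X.presheaf.stalk (i z)),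
      RingTheory.Sequence.IsRegular (X.presheaf.stalk (i z)) rs ∧
        RingHom.ker (i.stalkMap z).hom = Ideal.ofList rs := by

  obtain ⟨U, hzU, hcl, rs, hreg, hker⟩ := h.2 z
  have hreg' : RingTheory.Sequence.IsRegular Γ(X, U.1) rs := hreg
  haveI := hcl
  have hkerst := ker_stalkMap_eq i U.1 U.2 z hzU
  letI := X.presheaf.algebra_section_stalk (U := U.1) ⟨i z, hzU⟩
  have hloc := U.2.isLocalization_stalk ⟨i z, hzU⟩
  have hmem : ∀ r ∈ rs, r ∈ (U.2.primeIdealOf ⟨i z, hzU⟩).asIdeal := by
    intro r hr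
    by_contra hnot
    have hu : IsUnit (X.presheaf.germ U.1 (i z) hzU r) :=
      IsLocalization.map_units (X.presheaf.stalk (i z))
        (⟨r, hnot⟩ : (U.2.primeIdealOf ⟨i z, hzU⟩).asIdeal.primeCompl)
    have hrk : r ∈ RingHom.ker (i.app U.1).hom := by
      rw [hker]; exact Ideal.subset_span (by simpa using hr)
    have h0 : (i.stalkMap z).hom (X.presheaf.germ U.1 (i z) hzU r) = 0 := by
      show i.stalkMap z (X.presheaf.germ U.1 (i z) hzU r) = 0
      rw [Scheme.Hom.germ_stalkMap_apply]
      have : i.app U.1 r = 0 := hrk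
      rw [this, map_zero]
    have := hu.map (i.stalkMap z).hom
    rw [h0] at this
    exact not_isUnit_zero this
  refine ⟨rs.map (algebraMap Γ(X, U.1) (X.presheaf.stalk (i z))),
    hreg'.1.isRegular_of_isLocalization_of_mem _ _ hmem, ?_⟩
  rw [← Ideal.map_ofList, ← hker, hkerst]
  rfl

end Groth.Agent.S18944
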