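import Groth.Statements.S1677
import Mathlib
import Groth.Agent.Helper19.CIBridge3
import Groth.Agent.Helper19.LciCancel
import Groth.Agent.Helper19.H1Flat9
import Groth.Agent.Helper19.RelRegImm11
import Groth.Agent.S8905
-- import your own Groth.Agent.* helpers here

set_option autoImplicit false
universe u
open CategoryTheory CategoryTheory.Limits AlgebraicGeometry TopologicalSpace
open SDiv

namespace Groth.Agent.S1677

open Groth.Agent.Helper19.KosLoc Groth.Agent.Helper19.LciMor Groth.Agent.Lib.Helper16.KzComp
  Groth.Agent.Helper19.CIBridge in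

/-- Let X ⟶ S be smooth, Y ⟶ S flat, locally of finite presentation with complete-intersection fibre
local rings (syntomic), and i : Y ⟶ X a closed immersion over S. Then i is a regular closed
immersion. -/
theorem result {X Y S : Scheme.{u}} (p : X ⟶ S) [Smooth p] (i : Y ⟶ X)
    [IsClosedImmersion i] (hY : CInt.IsCIMorphism (i ≫ p)) : Mor2.IsRegularClosedImmersion i := by
  obtain ⟨hfl, hfp, -⟩ := id hY
  haveI := hfl
  haveI := hfp
  have h1 : LCIMor (i ≫ p) := (isCIMorphism_iff_lciMor (i ≫ p)).mp hY
  have h2 : LCIMor i := Groth.Agent.Helper19.LciCancel.lciMor_of_comp_smooth i p h1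
  have h3 : RegImm.IsRegularImmersion .koszul i :=
    (isRegularImmersion_koszul_iff i).mpr ⟨inferInstance, h2⟩
  have h4 : RegImm.IsRegularImmersion .h1 i := (Groth.Agent.S8905.result i).2.1 h3
  have h5 : RegImm.IsRelRegularImmersion .h1 p i := ⟨h4, hfl⟩
  exact Groth.Agent.Helper19.RelRegImm.isRegularClosedImmersion_of_isTransRegularImmersionAt p i
    fun z => Groth.Agent.Helper19.H1Flat.isTransRegularImmersionAt_of_rel_h1 p i h5 z

end Groth.Agent.S1677
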