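import Groth.Statements.S1488
import Mathlib
import Groth.Agent.S1486
-- import your own Groth.Agent.* helpers here

set_option autoImplicit false
universe u
open FlatMor

namespace Groth.Agent.S1488

open AlgebraicGeometry CategoryTheory Limits in

open AlgebraicGeometry CategoryTheory Limits in
/-- A morphism f : X → S is smooth if and only if it is locally of finite presentation and formally
smooth, i.e. has the lifting property against first order thickenings of affine schemes (rings in
the same universe). -/
theorem result {X S : Scheme.{u}} (f : X ⟶ S) :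
    Smooth f ↔ LocallyOfFinitePresentation f ∧ MoreMor.IsFormallySmoothHom f := by
  rw [Groth.Agent.S1486.result f]
  constructor
  · intro hf
    refine ⟨⟨fun {U} hU {V} hV e => ?_⟩, fun U V hU hV hUV => ?_⟩
    · have h1 : (f.appLE U V e).hom.Smooth := f.smooth_appLE hU hV e
      letI := (f.appLE U V e).hom.toAlgebra
      have h2 : Algebra.Smooth Γ(S, U) Γ(X, V) := h1
      exact h2.finitePresentation
    · have h1 : (f.appLE V U hUV).hom.Smooth := f.smooth_appLE hV hU hUV
      letI := (f.appLE V U hUV).hom.toAlgebra
      have h2 : Algebra.Smooth Γ(S, V) Γ(X, U) := h1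
      exact h2.formallySmooth
  · rintro ⟨h1, h2⟩
    refine ⟨fun {U} hU {V} hV e => ?_⟩
    have h3 : (f.appLE U V e).hom.FinitePresentation := f.finitePresentation_appLE hU hV e
    have h4 := h2 V U hV hU e
    letI := (f.appLE U V e).hom.toAlgebra
    exact (⟨h4, h3⟩ : Algebra.Smooth Γ(S, U) Γ(X, V))

end Groth.Agent.S1488
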