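import Groth.Statements.S5020
import Mathlib
import Groth.Agent.Helper19.Conormal2
import Groth.Agent.Helper19.FSmooth
import Groth.Agent.S5976
-- import your own Groth.Agent.* helpers here

set_option autoImplicit false
universe u
open CategoryTheory CategoryTheory.Limits AlgebraicGeometry TopologicalSpace
open Unram17

namespace Groth.Agent.S5020

section helpers

open scoped TensorProduct
open Groth.Agent.Lib.Helper29.QCoh Groth.Agent.Helper19.OmegaD Groth.Agent.Helper19.OmegaLocal
open Groth.Agent.Helper19.OmegaAlg Groth.Agent.Helper19.Conormal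

variable {X' X Y : Scheme.{u}} (j : X' ⟶ X) [IsImmersion j] [QuasiCompact j] (f : X ⟶ Y)
  (hf : MoreMor.IsFormallySmoothHom (j ≫ f))
  (Ω' : X.Modules) (d : OmegaSh.Der f Ω') (hd : OmegaSh.IsUniversal d)
  (φ : Omega.conormal j ⟶ (Scheme.Modules.pullback j).obj Ω') (hφ : OmegaSh.IsConormalDiff j d φ)

set_option maxRecDepth 16000 in
include hf hd hφ in
theorem app_injective {U : X.Opens} (hU : IsAffineOpen U) {W : Y.Opens} (hW : IsAffineOpen W)
    (hUc : U ≤ j.coborderRange) (hUW : U ≤ f ⁻¹ᵁ W) :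
    Function.Injective (φ.app (j ⁻¹ᵁ U)) := by
  have hU' : IsAffineOpen (j ⁻¹ᵁ U) := isAffineOpen_preimage_of_le_coborder j hU hUc
  have hUU : j ⁻¹ᵁ U ≤ j ⁻¹ᵁ U := le_rfl
  have hU'W := le_comp_preimage f j hUU hUW
  letI := algΓ f hUW
  letI := algΓ (j ≫ f) hU'W
  letI := algΓ j hUU
  haveI := isScalarTower_tri f j hUU hUW
  have hsurj := algebraMap_surjective_of_le_coborder j hU hUc
  haveI : Algebra.FormallySmooth Γ(Y, W) Γ(X', j ⁻¹ᵁ U) :=
    Groth.Agent.Helper19.FSmooth.formallySmooth_appLE_of_isFormallySmoothHom (j ≫ f) hf _ _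
      hU' hW hU'W
  obtain ⟨P, Q, -, hPQ⟩ := exists_local_conormalDiff f j d hd φ hφ hU hW hUc hUW
  let μ : Γ(X', j ⁻¹ᵁ U) ⊗[Γ(X, U)] (RingHom.ker (algebraMap Γ(X, U) Γ(X', j ⁻¹ᵁ U))) →+
      Γ(X', j ⁻¹ᵁ U) ⊗[Γ(X, U)] Ω[Γ(X, U)⁄Γ(Y, W)] :=
    (P.toLinearMap ∘ₗ (appₗ φ _) ∘ₗ Q.symm.toLinearMap).toAddMonoidHom
  have hμ : ∀ x : RingHom.ker (algebraMap Γ(X, U) Γ(X', j ⁻¹ᵁ U)),
      μ ((1 : Γ(X', j ⁻¹ᵁ U)) ⊗ₜ[Γ(X, U)] x) =
        (1 : Γ(X', j ⁻¹ᵁ U)) ⊗ₜ[Γ(X, U)] KaehlerDifferential.D Γ(Y, W) Γ(X, U) x.1 :=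
    fun x => hPQ 1 x
  have hinj : Function.Injective μ :=
    injective_of_kerCotangentToTensor_injective hsurj μ hμ
      (kerCotangentToTensor_injective_of_formallySmooth hsurj)
  intro m₁ m₂ hm
  have h1 : μ (Q m₁) = μ (Q m₂) := by
    change P (φ.app _ (Q.symm (Q m₁))) = P (φ.app _ (Q.symm (Q m₂)))
    rw [LinearEquiv.symm_apply_apply, LinearEquiv.symm_apply_apply, hm]
  exact Q.injective (hinj h1)

end helpers

/-- Let j : X' ⟶ X be a quasi-compact immersion and f : X ⟶ Y a morphism with j ≫ f formally smooth. Let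
(Ω', d) be a sheaf of differentials of X over Y (d universal) and φ the canonical map from the
conormal sheaf of j to the pullback of Ω' along j (the O_{X'}-linear map sending the class of a
local section s of the ideal of j to the pullback of d s). Then φ is a monomorphism. (The published
statement allows any immersion j and also asserts that the sequence conormal sheaf → pullback of Ω'
→ differentials of X' over Y is short exact and locally split; this row assumes j quasi-compact, the
case in which the conormal sheaf used here is known to be the conormal sheaf of j, and states only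
that the first map is injective.) -/
theorem result {X' X Y : Scheme.{u}} (j : X' ⟶ X)
    [IsImmersion j] [QuasiCompact j] (f : X ⟶ Y) (hf : MoreMor.IsFormallySmoothHom (j ≫ f))
    (Ω' : X.Modules) (d : OmegaSh.Der f Ω') (hd : OmegaSh.IsUniversal d)
    (φ : Omega.conormal j ⟶ (Scheme.Modules.pullback j).obj Ω') (hφ : OmegaSh.IsConormalDiff j d φ) :
    Mono φ := by
  apply Groth.Agent.Helper19.OmegaD.mono_of_injective_on_basis φ (Groth.Agent.S5976.goodB f j)
    (Groth.Agent.S5976.isBasis_goodB f j)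
  rintro U' ⟨U, W, hU, hW, hUc, hUW, rfl⟩
  exact app_injective j f hf Ω' d hd φ hφ hU hW hUc hUW

end Groth.Agent.S5020
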