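import Groth.Statements.S9721
import Mathlib.AlgebraicGeometry.Morphisms.Smooth
import Mathlib.AlgebraicGeometry.Morphisms.Etale

set_option autoImplicit false
universe u
open CategoryTheory AlgebraicGeometry
open Mor

namespace Groth.Agent.S9721

lemma appLE_ι_comp {X S : Scheme.{u}} (f : X ⟶ S) (W : X.Opens) (V : S.Opens)
    (D : W.toScheme.Opens) (e : D ≤ (W.ι ≫ f) ⁻¹ᵁ V) :
    (W.ι ≫ f).appLE V D e = f.appLE V (W.ι ''ᵁ D) (by
      rintro _ ⟨y, hy, rfl⟩
      exact e hy) := by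
  rw [Scheme.Hom.comp_appLE]
  have := Scheme.Opens.ι_appLE W (f ⁻¹ᵁ V) D e
  rw [this]
  rfl

open RingHom in
/-- Let f : X ⟶ S be a morphism, x a point of X and V an affine open neighbourhood of f(x) in S. Then f
is smooth on some open neighbourhood of x if and only if there is an affine open neighbourhood U of
x with f(U) ⊆ V such that the induced ring map Γ(S, V) ⟶ Γ(X, U) is standard smooth. -/
theorem result {X S : Scheme.{u}} (f : X ⟶ S) (x : X)
    (V : S.Opens) (hV : IsAffineOpen V) (hxV : f x ∈ V) :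
    (∃ W : X.Opens, x ∈ W ∧ Smooth (W.ι ≫ f)) ↔
      ∃ (U : X.Opens) (_ : IsAffineOpen U) (_ : x ∈ U) (e : U ≤ f ⁻¹ᵁ V),
        (f.appLE V U e).hom.IsStandardSmooth := by
  have hP : HasRingHomProperty @Smooth.{u} (Locally IsStandardSmooth) := by
    convert! (inferInstance : HasRingHomProperty (@Smooth.{u}) RingHom.Smooth)
    ext f
    rw [RingHom.smooth_iff_locally_isStandardSmooth]
  constructor
  · rintro ⟨W, hxW, hW⟩
    -- an affine open neighbourhood of `x` in `W` mapping into `V`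
    obtain ⟨V', hV', hx', e'⟩ := TopologicalSpace.Opens.isBasis_iff_nbhd.mp
      W.toScheme.isBasis_affineOpens
      (show (⟨x, hxW⟩ : W) ∈ (W.ι ≫ f) ⁻¹ᵁ V from hxV)
    have hf := hW
    simp_rw [HasRingHomProperty.iff_appLE (P := @Smooth),
      locally_iff_isLocalization isStandardSmooth_respectsIso] at hf
    obtain ⟨s, hs, hfs⟩ := hf ⟨V, hV⟩ ⟨V', hV'⟩ e'
    apply iSup_basicOpen_of_span_eq_top at hs
    have h1 : (⟨x, hxW⟩ : W) ∈ (⨆ i ∈ s, W.toScheme.basicOpen i) := hs.symm ▸ hx'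
    obtain ⟨r, hr'⟩ := TopologicalSpace.Opens.mem_iSup.mp h1
    obtain ⟨hr, hrs⟩ := TopologicalSpace.Opens.mem_iSup.mp hr'
    have hloc : IsLocalization.Away r Γ(W.toScheme, W.toScheme.basicOpen r) :=
      hV'.isLocalization_basicOpen r
    have h3 := hfs r hr Γ(W.toScheme, W.toScheme.basicOpen r)
    refine ⟨W.ι ''ᵁ (W.toScheme.basicOpen r), (hV'.basicOpen r).image_of_isOpenImmersion W.ι,
      ⟨⟨x, hxW⟩, hrs, rfl⟩, ?_, ?_⟩
    · rintro _ ⟨y, hy, rfl⟩
      exact e' (W.toScheme.basicOpen_le r hy)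
    · rw [← appLE_ι_comp f W V (W.toScheme.basicOpen r)
        ((W.toScheme.basicOpen_le r).trans e'),
        ← (W.ι ≫ f).appLE_map e' (homOfLE (W.toScheme.basicOpen_le r)).op]
      exact h3
  · rintro ⟨U, hU, hxU, e, hstd⟩
    refine ⟨U, hxU, ?_⟩
    rw [Smooth.iff_forall_exists_isStandardSmooth]
    intro y
    have : IsAffine U := hU
    have e' : (⊤ : U.toScheme.Opens) ≤ (U.ι ≫ f) ⁻¹ᵁ V := by
      intro z _
      have hz : U.ι z ∈ U := z.2
      exact e hz
    refine ⟨V, hV, ⊤, isAffineOpen_top _, trivial, e', ?_⟩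
    rw [appLE_ι_comp f U V ⊤ e']
    have := (f.appLE_congr e rfl (U.ι_image_top).symm
      (fun φ => φ.hom.IsStandardSmooth)).mp hstd
    exact this

end Groth.Agent.S9721
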