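import Groth.Statements.S8874
import Mathlib
import Groth.Agent.Helper19.FittSheaf2
-- import your own Groth.Agent.* helpers here

set_option autoImplicit false
universe u
open CategoryTheory CategoryTheory.Limits AlgebraicGeometry TopologicalSpace
open SDiv

namespace Groth.Agent.S8874

open Groth.Agent.Lib.Helper29.QCoh Groth.Agent.Helper19.FittSheaf Groth.Agent.Helper19.FittLib in

/-- Let S be a scheme, F a quasi-coherent O_S-module of finite type, s a point of S and r a natural
number. Then F can be generated by r sections over some open neighbourhood of s if and only if the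
r-th Fitting ideal of F is the unit ideal at s, i.e. s does not lie in the closed subset cut out by
Fit_r(F). -/
theorem result (S : Scheme.{u}) (F : S.Modules) (hF : Coh.IsQCoh F) (hft : CohB1.IsFT F)
    (s : ↥S) (r : ℕ) :
    (∃ U : S.Opens, s ∈ U ∧ ∃ π : FlatMod.freeMod (↑U) r ⟶ F.restrict U.ι, Epi π) ↔
      s ∉ (Fitt.sheafIdeal F r).support := by
  haveI : F.IsQuasicoherent := hF
  haveI : F.IsFiniteType := hft
  constructor
  · rintro ⟨U, hsU, π, hπ⟩
    let π' : freeM (↑U) (ULift.{u} (Fin r)) ⟶ F.restrict U.ι := (freeModIso (↑U) r).inv ≫ π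
    have hπ' : Epi π' := epi_comp _ _
    let σ : (F.restrict U.ι).GeneratingSections :=
      { I := ULift.{u} (Fin r)
        s := (F.restrict U.ι).freeHomEquiv π'
        epi := by
          rw [Equiv.symm_apply_apply]
          exact hπ' }
    haveI : Finite σ.I := inferInstanceAs (Finite (ULift.{u} (Fin r)))
    obtain ⟨t, ht⟩ := exists_sections_span_eq_top_of_generatingSections F U σ
    rw [mem_support_iff_stalk F r s, not_not]
    refine ideal_eq_top_of_le (fun j : Fin r => F.presheaf.germ U s hsU (t ⟨j⟩)) ?_ le_rfl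
    rw [← ht s hsU]
    congr 1
    ext v
    constructor
    · rintro ⟨j, rfl⟩
      exact ⟨⟨j⟩, rfl⟩
    · rintro ⟨⟨j⟩, rfl⟩
      exact ⟨j, rfl⟩
  · intro hs
    obtain ⟨V, hV, hsV, -⟩ := exists_isAffineOpen_mem_and_subset (x := s) (U := ⊤) trivial
    rw [mem_support_sheafIdeal_iff F r ⟨V, hV⟩ hsV] at hs
    obtain ⟨d, hsd, g, hg⟩ := exists_basicOpen_span F r ⟨V, hV⟩ hsV hs
    have hW : IsAffineOpen (S.basicOpen d) := hV.basicOpen d
    refine ⟨S.basicOpen d, hsd, ?_⟩
    let t : ULift.{u} (Fin r) → Γ(F, S.basicOpen d) := fun i => g i.down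
    have ht : Submodule.span Γ(S, S.basicOpen d) (Set.range t) = ⊤ := by
      rw [← hg]
      congr 1
      ext v
      constructor
      · rintro ⟨⟨j⟩, rfl⟩
        exact ⟨j, rfl⟩
      · rintro ⟨j, rfl⟩
        exact ⟨⟨j⟩, rfl⟩
    let σ := generatingSectionsRestrictOfSpan F (S.basicOpen d) t
      (fun x hx => span_germ_eq_top_of_span_eq_top F hW t ht x hx)
    let p : freeM (↑(S.basicOpen d)) (ULift.{u} (Fin r)) ⟶ F.restrict (S.basicOpen d).ι := σ.π
    haveI : Epi p := σ.epi
    exact ⟨(freeModIso (↑(S.basicOpen d)) r).hom ≫ p, epi_comp _ _⟩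

end Groth.Agent.S8874
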