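import Groth.Statements.S0498
import Mathlib.Algebra.Polynomial.Reverse
import Mathlib.Algebra.Polynomial.Identities
-- import your own Groth.Agent.* helpers here

set_option autoImplicit false
universe u
open Hensel

namespace Groth.Agent.S0498

/-- Over a henselian local ring, a simple root in the residue field of the reduction of an arbitrary
polynomial (monic or not) lifts to a root in the ring. -/
theorem result (R : Type u) [CommRing R] [HenselianLocalRing R]
    (f : Polynomial R) (a₀ : IsLocalRing.ResidueField R)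
    (h₁ : Polynomial.eval₂ (IsLocalRing.residue R) a₀ f = 0)
    (h₂ : Polynomial.eval₂ (IsLocalRing.residue R) a₀ (Polynomial.derivative f) ≠ 0) :
    ∃ a : R, Polynomial.IsRoot f a ∧ IsLocalRing.residue R a = a₀ := by
  classical
  open Polynomial in
  obtain ⟨b, rfl⟩ := IsLocalRing.residue_surjective a₀
  rw [Polynomial.eval₂_at_apply] at h₁ h₂
  set c₀ := f.eval b with hc₀
  set c₁ := f.derivative.eval b with hc₁
  have hc₀m : IsLocalRing.residue R c₀ = 0 := h₁
  have hc₁u : IsLocalRing.residue R c₁ ≠ 0 := h₂
  -- polynomial Taylor expansion to second order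
  obtain ⟨k, hk⟩ := Polynomial.binomExpansion (f.map (C : R →+* R[X])) (C b) X
  have hexp : ∀ y : R, f.eval (b + y) = c₀ + c₁ * y + k.eval y * y ^ 2 := by
    intro y
    have := congrArg (Polynomial.eval y) hk
    simp only [Polynomial.eval_map, Polynomial.derivative_map, Polynomial.eval₂_at_apply,
      Polynomial.eval_add, Polynomial.eval_mul, Polynomial.eval_C, Polynomial.eval_X,
      Polynomial.eval_pow] at this
    rw [← this, ← Polynomial.comp, Polynomial.eval_comp]
    simp
  set P : R[X] := C 1 + C c₁ * X + C c₀ * X ^ 2 * k.comp (C c₀ * X) with hP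
  have hPeval : ∀ w : R, c₀ * P.eval w = f.eval (b + c₀ * w) := by
    intro w
    rw [hexp]
    simp [hP, Polynomial.eval_comp]
    ring
  have hPmap : P.map (IsLocalRing.residue R) = 1 + C (IsLocalRing.residue R c₁) * X := by
    simp [hP, hc₀m]
  have hN : 1 ≤ P.natDegree := by
    have h1 : (P.map (IsLocalRing.residue R)).natDegree = 1 := by
      rw [hPmap, add_comm, ← Polynomial.C_1]
      exact Polynomial.natDegree_linear hc₁u
    exact h1 ▸ Polynomial.natDegree_map_le
  obtain ⟨m, hm⟩ : ∃ m, P.natDegree = m + 1 := ⟨P.natDegree - 1, by omega⟩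
  set h : R[X] := Polynomial.reflect (m + 1) P with hh
  have hcoeff0 : P.coeff 0 = 1 := by
    rw [Polynomial.coeff_zero_eq_eval_zero]
    simp [hP]
  have hmonic : h.Monic := by
    apply Polynomial.monic_of_natDegree_le_of_coeff_eq_one (m + 1)
    · refine Polynomial.natDegree_reflect_le.trans ?_
      simp [hm]
    · rw [hh, Polynomial.coeff_reflect, Polynomial.revAt_le le_rfl]
      simpa using hcoeff0
  have hhmap : h.map (IsLocalRing.residue R) = X ^ m * (X + C (IsLocalRing.residue R c₁)) := by
    rw [hh, ← Polynomial.reflect_map, hPmap, Polynomial.reflect_add, Polynomial.reflect_one,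
      ← pow_one (X : (IsLocalRing.ResidueField R)[X]), Polynomial.reflect_C_mul_X_pow,
      Polynomial.revAt_le (by omega)]
    simp [pow_succ]
    ring
  have hres : ∀ (q : R[X]) (a : R), IsLocalRing.residue R (q.eval a) =
      (q.map (IsLocalRing.residue R)).eval (IsLocalRing.residue R a) := by
    intro q a
    rw [Polynomial.eval_map, Polynomial.eval₂_at_apply]
  have h1' : h.eval (-c₁) ∈ IsLocalRing.maximalIdeal R := by
    rw [← IsLocalRing.residue_eq_zero_iff, hres, hhmap]
    simp
  have h2' : IsUnit (h.derivative.eval (-c₁)) := by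
    rw [← IsLocalRing.notMem_maximalIdeal, ← IsLocalRing.residue_eq_zero_iff, hres,
      ← Polynomial.derivative_map, hhmap]
    simp [Polynomial.derivative_mul, hc₁u]
  obtain ⟨z, hz, hz'⟩ := HenselianLocalRing.is_henselian h hmonic (-c₁) h1' h2'
  have hzu : IsUnit z := by
    rw [← IsLocalRing.notMem_maximalIdeal, ← IsLocalRing.residue_eq_zero_iff]
    have : IsLocalRing.residue R z = IsLocalRing.residue R (-c₁) := by
      rw [← sub_eq_zero, ← map_sub, IsLocalRing.residue_eq_zero_iff]
      exact hz'
    rw [this, map_neg, neg_eq_zero]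
    exact hc₁u
  obtain ⟨u, rfl⟩ := hzu
  have hroot : P.eval (↑u⁻¹ : R) = 0 := by
    let _ : Invertible (↑u⁻¹ : R) := Units.invertible u⁻¹
    have hinv : ⅟(↑u⁻¹ : R) = ↑u := by
      rw [invOf_units, inv_inv]
    have := (Polynomial.eval₂_reflect_eq_zero_iff (RingHom.id R) (↑u⁻¹ : R) (m + 1) P hm.le).mp
    rw [hinv] at this
    exact this hz
  refine ⟨b + c₀ * ↑u⁻¹, ?_, ?_⟩
  · rw [Polynomial.IsRoot, ← hPeval, hroot, mul_zero]
  · rw [map_add, map_mul, hc₀m, zero_mul, add_zero]

end Groth.Agent.S0498
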