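import Groth.Statements.S12604
import Mathlib
import Groth.Agent.Lib.Helper26.WGlobal7

set_option autoImplicit false
open FunFld

namespace Groth.Agent.S12604

open scoped WithZero IntermediateField PowerSeries LaurentSeries
open Groth.Agent.Lib.Helper2.FF
open Groth.Agent.Lib.Helper26.WGlobal3
open Groth.Agent.Lib.Helper26.WGlobal6
open Groth.Agent.Lib.Helper26.WGlobal7

/-- Over an algebraically closed constant field, let `τ` be a `k`-endomorphism of the function field `K`
of genus `g`, of degree `deg τ = [K : τ(K)]`, and `φ = (φ₀, …, φₙ)` a projective map such that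
`τ(φ)` is not a `K`-multiple of `φ`, with `τ`-orders `j₁, …, jₙ`. Then the number `N` of strong
fixed points of `τ` (places whose maximal ideal `τ` maps into its square) is finite and `n N ≤ (n +
deg τ) deg φ + (2g - 2)(j₁ + ⋯ + jₙ)`, i.e. `N ≤ (1/n) deg W(φ, τ)`. -/
theorem result
    (k K : Type*) [Field k] [IsAlgClosed k] [Field K] [Algebra k K]
    (hK : FunFld.IsFunctionField k K) (τ : K →ₐ[k] K) {n : ℕ} (φ : Fin (n + 1) → K) (hφ : LinearIndependent k φ)
    (hτφ : ¬ ∃ y : K, ∀ i, τ (φ i) = y * φ i) (s : K) (H : K →ₐ[k] PowerSeries K) (hH : LocRes.IsHasseFamily s H)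
    (J : Fin n → ℕ) (hJ : FunFld.IsOrders K (FunFld.hcol τ H φ) J) :
    {P : FunFld.Place k K | FunFld.IsStrongFixedPt τ P}.Finite ∧
    (n : ℤ) * (Set.ncard {P : FunFld.Place k K | FunFld.IsStrongFixedPt τ P} : ℤ) ≤
      ((n : ℤ) + Module.finrank τ.fieldRange K) * (FunFld.mapDiv k φ).deg +
        (2 * (FunFld.genus k K : ℤ) - 2) * ∑ l, (J l : ℤ) := by
  classical
  obtain ⟨Φ, hΦ⟩ := exists_expansions hK s H hH
  have hn : 0 < n := by
    by_contra h
    have h0 : n = 0 := by omega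
    subst h0
    apply hτφ
    have hφ0 : φ 0 ≠ 0 := hφ.ne_zero 0
    refine ⟨τ (φ 0) / φ 0, fun i => ?_⟩
    have : i = 0 := by
      apply Fin.ext
      have := i.isLt
      simp only [Fin.val_zero]
      omega
    rw [this, div_mul_cancel₀ _ hφ0]
  have hW0 := wDiv_nonneg hK φ hφ τ s H hH J hJ Φ hΦ
  have hWdeg := deg_wDiv hK φ hφ τ s H J Φ
  rw [deg_divDiff hK s H hH Φ hΦ] at hWdeg
  have h := mul_ncard_le_deg hK (wDiv τ H Φ s φ J) hW0 (n : ℤ) (by exact_mod_cast hn)
    {P : FunFld.Place k K | IsStrongFixedPt τ P}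
    (fun P hP => le_wDiv_of_isStrongFixedPt hK τ φ hφ hτφ s H hH J hJ Φ hΦ P hP)
  refine ⟨h.1, ?_⟩
  have h2 := h.2
  rw [hWdeg] at h2
  linarith

end Groth.Agent.S12604
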