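import Groth.Statements.S12609
import Mathlib
import Groth.Agent.Lib.Helper26.HasseLocal7
import Groth.Agent.Lib.Helper2.FunFld.Gaps
import Groth.Agent.Lib.Helper2.FunFld.GenusOne

set_option autoImplicit false
open FunFld

namespace Groth.Agent.S12609

open scoped WithZero IntermediateField PowerSeries LaurentSeries
open Groth.Agent.Lib.Helper2.FF
open Groth.Agent.Lib.Helper26.FunFldAlgClosed
open Groth.Agent.Lib.Helper26.LocRing
open Groth.Agent.Lib.Helper26.HasseLocal
open Groth.Agent.Lib.Helper26.HasseLocal2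
open Groth.Agent.Lib.Helper26.HasseLocal3
open Groth.Agent.Lib.Helper26.HasseLocal4
open Groth.Agent.Lib.Helper26.HasseLocal5
open Groth.Agent.Lib.Helper26.HasseLocal6
open Groth.Agent.Lib.Helper26.HasseLocal7
open Groth.Agent.Lib.Helper3.Jumps

/-- Over an algebraically closed constant field, let `φ` be the canonical map (a basis of `L(C)`, `C`
canonical), normalized at the place `P` after multiplication by `y ≠ 0`, and `t` a local parameter
at `P`. For `j ≥ 1`: the canonical orders at `P` include `j` exactly when `j + 1` is a gap number at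
`P`, i.e. `L((j+1)P) = L(jP)`. -/
theorem result
    (k K : Type*) [Field k] [IsAlgClosed k] [Field K] [Algebra k K]
    (hK : FunFld.IsFunctionField k K) (C : FunFld.Divisor k K) (hC : FunFld.IsCanonical k K C)
    {n : ℕ} (φ : Fin (n + 1) → K) (hφ : LinearIndependent k φ)
    (hspan : Submodule.span k (Set.range φ) = FunFld.L C)
    (P : FunFld.Place k K) (y : K) (hy : y ≠ 0)
    (heff : (1 : K) ∈ Submodule.span k (Set.range (y • φ))) (hnorm : ∀ i, P.1 (y * φ i) ≤ 1)
    (t : K) (ht : P.1 t = WithZero.exp (-1))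
    (Ht : K →ₐ[k] PowerSeries K) (hHt : LocRes.IsHasseFamily t Ht) (j : ℕ) (hj : 1 ≤ j) :
    FunFld.IsJump (IsLocalRing.ResidueField P.O) (FunFld.hcolAt P Ht (y • φ)) (j + 1) ↔
      FunFld.L (Finsupp.single P ((j : ℤ) + 1)) = FunFld.L (Finsupp.single P (j : ℤ)) := by
  classical
  have ht' : v P t = WithZero.exp (-1 : ℤ) := ht
  have hint : ∀ i, v P ((y • φ) i) ≤ 1 := fun i => hnorm i
  rw [isJump_hcolAt_succ_iff hK P t ht' Ht hHt (y • φ) hint j]
  have hdeg : P.deg = 1 := deg_eq_one_of_isAlgClosed hK P
  have hell : ell C = n + 1 := by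
    rw [ell_def, ← hspan, finrank_span_eq_card hφ, Fintype.card_fin]
  have hg : 0 < genus k K := by rw [← ell_canonical hK hC, hell]; omega
  -- the span of `y • φ`
  have hspan' : ∀ f, f ∈ Submodule.span k (Set.range (y • φ)) ↔ y⁻¹ * f ∈ L C := by
    intro f
    have e1 : Set.range (y • φ) = (LinearMap.mulLeft k y) '' Set.range φ := by
      rw [← Set.range_comp]
      rfl
    rw [e1, ← Submodule.map_span, hspan, Submodule.mem_map]
    constructor
    · rintro ⟨g, hg, rfl⟩
      rw [LinearMap.mulLeft_apply, inv_mul_cancel_left₀ hy]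
      exact hg
    · intro h
      exact ⟨y⁻¹ * f, h, by rw [LinearMap.mulLeft_apply, mul_inv_cancel_left₀ hy]⟩
  have hy1 : y⁻¹ ∈ L C := by
    have := (hspan' 1).1 heff
    rwa [mul_one] at this
  -- a section of `L C` not vanishing at `P`
  have hlt := ell_sub_single_lt_ell hK hg C (Or.inr hC) P hdeg
  obtain ⟨g₁, hg₁L, hg₁⟩ : ∃ g₁ ∈ L C, g₁ ∉ L (C - (Finsupp.single P 1 : Divisor k K)) := by
    by_contra hcon
    push Not at hcon
    have hle : L C ≤ L (C - (Finsupp.single P 1 : Divisor k K)) := hcon
    have := finiteDimensional_L hK (C - (Finsupp.single P 1 : Divisor k K))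
    have h1 := Submodule.finrank_mono hle
    rw [← ell_def, ← ell_def] at h1
    omega
  obtain ⟨hg₁0, hg₁o⟩ := ord_eq_of_not_mem_L_sub P hg₁L hg₁
  have hyg : ∀ g ∈ L C, v P (y * g) ≤ 1 := by
    intro g hg
    rw [← hspan] at hg
    obtain ⟨c, rfl⟩ := (Submodule.mem_span_range_iff_exists_fun k).1 hg
    rw [Finset.mul_sum]
    apply Valuation.map_sum_le
    intro i _
    rw [mul_smul_comm]
    exact (v_smul_le P (c i) (y * φ i)).trans (hnorm i)
  have hordy : P.ord y = C P := by
    apply le_antisymm
    · have := (v_le_exp_iff P (inv_ne_zero hy) (C P)).1 (hy1 P)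
      rw [ord_inv] at this
      linarith
    · have := (v_le_one_iff P (mul_ne_zero hy hg₁0)).1 (hyg g₁ hg₁L)
      rw [ord_mul P hy hg₁0, hg₁o] at this
      linarith
  -- the divisor `C - jP`
  obtain ⟨D, hD⟩ : ∃ D : Divisor k K, D = C - nP P (j : ℤ) := ⟨_, rfl⟩
  have hDP : D P = C P - j := by rw [hD, Finsupp.sub_apply, nP_apply_self]
  have hDle : D ≤ C := by
    rw [hD]
    intro Q
    rw [Finsupp.sub_apply, nP, Finsupp.single_apply]
    split_ifs
    · have : (0 : ℤ) ≤ j := Int.natCast_nonneg j
      linarith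
    · simp
  have hDsub : D - (Finsupp.single P 1 : Divisor k K) = C - nP P ((j : ℤ) + 1) := by
    rw [hD, sub_sub, nP, nP, ← Finsupp.single_add]
  have hA : (∃ f ∈ Submodule.span k (Set.range (y • φ)), f ≠ 0 ∧ P.ord f = j) ↔
      ell (D - (Finsupp.single P 1 : Divisor k K)) < ell D := by
    have hfin := finiteDimensional_L hK D
    have hle : L (D - (Finsupp.single P 1 : Divisor k K)) ≤ L D := by
      apply L_mono
      intro Q
      rw [Finsupp.sub_apply, Finsupp.single_apply]
      split_ifs <;> simp
    constructor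
    · rintro ⟨f, hf, hf0, hfo⟩
      obtain ⟨g, hgdef⟩ : ∃ g, g = y⁻¹ * f := ⟨_, rfl⟩
      have hgL : g ∈ L C := by rw [hgdef]; exact (hspan' f).1 hf
      have hg0 : g ≠ 0 := by rw [hgdef]; exact mul_ne_zero (inv_ne_zero hy) hf0
      have hgo : P.ord g = j - C P := by
        rw [hgdef, ord_mul P (inv_ne_zero hy) hf0, ord_inv, hordy, hfo]; ring
      have hgD : g ∈ L D := by
        intro Q
        by_cases hQ : Q = P
        · subst hQ
          change v Q g ≤ _
          rw [v_eq_exp_neg_ord Q hg0, hgo, hDP, WithZero.exp_le_exp]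
          linarith
        · have : D Q = C Q := by
            rw [hD, Finsupp.sub_apply, nP, Finsupp.single_apply, if_neg (Ne.symm hQ), sub_zero]
          rw [this]
          exact hgL Q
      have hgn := not_mem_L_sub_of_ord_eq P (D := D) hg0 (by rw [hgo, hDP]; ring)
      have hlt' : L (D - (Finsupp.single P 1 : Divisor k K)) < L D :=
        lt_of_le_of_ne hle (fun h => hgn (h ▸ hgD))
      exact Submodule.finrank_lt_finrank_of_lt hlt'
    · intro hlt'
      obtain ⟨g, hgD, hgn⟩ : ∃ g ∈ L D, g ∉ L (D - (Finsupp.single P 1 : Divisor k K)) := by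
        by_contra hcon
        push Not at hcon
        have hle' : L D ≤ L (D - (Finsupp.single P 1 : Divisor k K)) := hcon
        have := finiteDimensional_L hK (D - (Finsupp.single P 1 : Divisor k K))
        have h1 := Submodule.finrank_mono hle'
        rw [← ell_def, ← ell_def] at h1
        omega
      obtain ⟨hg0, hgo⟩ := ord_eq_of_not_mem_L_sub P hgD hgn
      refine ⟨y * g, ?_, mul_ne_zero hy hg0, ?_⟩
      · rw [hspan', inv_mul_cancel_left₀ hy]
        exact L_mono hDle hgD
      · rw [ord_mul P hy hg0, hordy, hgo, hDP]; ring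
  have hB : ell (D - (Finsupp.single P 1 : Divisor k K)) < ell D ↔ IsGap P (j + 1) := by
    have h1 := riemann_roch hK C hC (nP P (j : ℤ))
    have h2 := riemann_roch hK C hC (nP P ((j : ℤ) + 1))
    have h3 := ell_nP_succ hK P hdeg j
    rw [← hD, deg_nP, hdeg] at h1
    rw [← hDsub, deg_nP, hdeg] at h2
    split_ifs at h3 with hgap
    · simp only [hgap, iff_true]
      have : (ell (D - (Finsupp.single P 1 : Divisor k K)) : ℤ) < ell D := by
        rw [h3] at h2
        push_cast at h1 h2
        linarith
      exact_mod_cast this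
    · simp only [hgap, iff_false, not_lt]
      have : (ell D : ℤ) ≤ ell (D - (Finsupp.single P 1 : Divisor k K)) := by
        rw [h3] at h2
        push_cast at h1 h2
        linarith
      exact_mod_cast this
  rw [hA, hB, isGap_succ_iff]
  simp only [hj, true_and]

end Groth.Agent.S12609
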