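import Groth.Statements.S12618
import Mathlib
import Groth.Agent.Lib.Helper26.Weier2

set_option autoImplicit false
open FunFld

namespace Groth.Agent.S12618

open scoped WithZero IntermediateField PowerSeries LaurentSeries
open Groth.Agent.Lib.Helper2.FF
open Groth.Agent.Lib.Helper26.Weier

/-- Over an algebraically closed constant field of characteristic `0` or greater than `2g - 2`, let `K`
have genus `g > 1` and let the Weierstrass points of `K` be the support of the Weierstrass divisor
`W(φ)` of the canonical map `φ` (a basis of `L(C)`, `C` canonical; the divisor of `ds` in `W` read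
through a family of Laurent expansions). Then either the number of Weierstrass points exceeds `2g +
2` and the automorphism group of `K/k` acts faithfully on them, or that number is exactly `2g + 2`
and the automorphisms fixing all of them are exactly those fixing some `x` with `[K : k(x)] = 2`. -/
theorem result
    (k K : Type*) [Field k] [IsAlgClosed k] [Field K] [Algebra k K]
    (hK : FunFld.IsFunctionField k K) (hg : 1 < FunFld.genus k K)
    (hchar : ringChar k = 0 ∨ 2 * FunFld.genus k K - 2 < ringChar k)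
    (C : FunFld.Divisor k K) (hC : FunFld.IsCanonical k K C)
    {n : ℕ} (φ : Fin (n + 1) → K) (hφ : LinearIndependent k φ)
    (hspan : Submodule.span k (Set.range φ) = FunFld.L C)
    (s : K) (H : K →ₐ[k] PowerSeries K) (hH : LocRes.IsHasseFamily s H)
    (J : Fin n → ℕ) (hJ : FunFld.IsOrders K (FunFld.hcol (AlgHom.id k K) H φ) J)
    (Φ : FunFld.Place k K → (K →ₐ[k] LaurentSeries k))
    (hΦ : ∀ P : FunFld.Place k K, LocRes.IsExpansionAt P.1 (Φ P)) :
    (2 * FunFld.genus k K + 2 < Set.ncard {P : FunFld.Place k K | FunFld.wDiv (AlgHom.id k K) H Φ s φ J P ≠ 0} ∧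
      ∀ σ : K ≃ₐ[k] K, (∀ P : FunFld.Place k K, FunFld.wDiv (AlgHom.id k K) H Φ s φ J P ≠ 0 →
        FunFld.IsFixedPt (σ : K →ₐ[k] K) P) → σ = AlgEquiv.refl) ∨
    (Set.ncard {P : FunFld.Place k K | FunFld.wDiv (AlgHom.id k K) H Φ s φ J P ≠ 0} = 2 * FunFld.genus k K + 2 ∧
      ∃ x : K, Module.finrank (IntermediateField.adjoin k ({x} : Set K)) K = 2 ∧
        ∀ σ : K ≃ₐ[k] K, (∀ P : FunFld.Place k K, FunFld.wDiv (AlgHom.id k K) H Φ s φ J P ≠ 0 →
          FunFld.IsFixedPt (σ : K →ₐ[k] K) P) ↔ σ x = x) := by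
  classical
  obtain ⟨hge, heq⟩ := card_support_wDiv hK hg hchar C hC φ hφ hspan s H hH J hJ Φ hΦ
  obtain ⟨W, hWdef⟩ : ∃ W, W = FunFld.wDiv (AlgHom.id k K) H Φ s φ J := ⟨_, rfl⟩
  rw [← hWdef] at hge heq ⊢
  have hset : {P : FunFld.Place k K | W P ≠ 0} = ↑W.support := by
    ext P
    simp [Finsupp.mem_support_iff]
  rw [hset, Set.ncard_coe_finset]
  rcases lt_or_eq_of_le hge with hlt | heq'
  · left
    refine ⟨hlt, ?_⟩
    intro σ hσ
    have h1 : σ = 1 := by
      apply algEquiv_eq_one_of_fixed hK σ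
      have hsub : (↑W.support : Set (FunFld.Place k K)) ⊆
          {P : FunFld.Place k K | ∀ x : K, P.1 x < 1 → P.1 (σ x) < 1} := by
        intro P hP
        have hP' : W P ≠ 0 := Finsupp.mem_support_iff.1 (Finset.mem_coe.1 hP)
        exact fun x hx => hσ P hP' x hx
      refine lt_of_lt_of_le ?_ (Set.encard_le_encard hsub)
      rw [Set.encard_coe_eq_coe_finsetCard]
      exact_mod_cast hlt
    exact h1
  · right
    refine ⟨heq'.symm, ?_⟩
    have hS := heq heq'.symm
    have hne : W.support.Nonempty := by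
      rw [← Finset.card_pos]; omega
    obtain ⟨P₀, hP₀⟩ := hne
    obtain ⟨x, hx0, hxL, hxo⟩ := (not_isGap_iff P₀ 2).1 (hS P₀ hP₀)
    obtain ⟨hfr, hiff⟩ := fixed_iff_of_hyperelliptic hK hg W.support hS (by omega) P₀ hP₀ x
      (by exact_mod_cast hxL) (by exact_mod_cast hxo)
    refine ⟨x, hfr, fun σ => ?_⟩
    rw [← hiff σ]
    constructor
    · intro h P hP
      exact h P (Finsupp.mem_support_iff.1 hP)
    · intro h P hP
      exact h P (Finsupp.mem_support_iff.2 hP)

end Groth.Agent.S12618
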