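import Groth.Statements.S18175
import Mathlib
import Groth.Agent.Lib.Helper26.FunFldLocal
import Groth.Agent.Lib.Helper2.FunFld.Rational

set_option autoImplicit false
open FunFld

namespace Groth.Agent.S18175

open Groth.Agent.Lib.Helper26.FunFldAlgClosed Groth.Agent.Lib.Helper26.FunFldSeries Groth.Agent.Lib.Helper26.FunFldLocal Groth.Agent.Lib.Helper2.FF

/-- Let `k` be an algebraically closed field of characteristic zero and `K/k` a function field of one
variable (the function field of a smooth projective curve over `k`). A `g^r_d` is a divisor `D` of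
degree `d` with a subspace `V ⊆ L(D)` of dimension `r + 1`; for a place `P` and `n ≥ 0`, `V(-nP) = V
∩ L(D - nP)` is the space of members vanishing to order at least `n` at `P`, so `dim V(-nP)` counts
the vanishing orders `m_0 < ⋯ < m_r` of `V` at `P` that are at least `n`, and the weight of `V` at
`P` is `∑_{n=1}^{d} dim V(-nP) - r(r+1)/2`. Assume `K` has genus `0` and the `g^r_d` `(D, V)` has at
least a cusp at the place `Q` (`dim V(-2Q) ≥ r`), and let `P, P'` be places other than `Q`. Then up
to a constant factor there is at most one member of `V` vanishing only at `P` and `P'`: if `f, g ∈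
V` are nonzero and the divisors `div f + D`, `div g + D` are both supported on `{P, P'}`, then `g =
c f` for some `c ∈ k`. (In the source `Q` is the point where the rational component `Y` meets a
chain of curves ending in a curve of positive genus, a situation that forces the cusp condition
assumed here.) (The source states this for curves over the complex numbers.) -/
theorem result
    (k : Type*) [Field k] [IsAlgClosed k] [CharZero k]
    (K : Type*) [Field K] [Algebra k K] (hK : FunFld.IsFunctionField k K) (hg0 : FunFld.genus k K = 0)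
    (d r : ℕ) (D : FunFld.Divisor k K) (hD : D.deg = d)
    (V : Submodule k K) (hV : V ≤ FunFld.L D) (hVr : Module.finrank k ↥V = r + 1)
    (Q : FunFld.Place k K) (hcusp : r ≤ Module.finrank k ↥(V ⊓ FunFld.L (D - Finsupp.single Q ((2 : ℤ)))))
    (P P' : FunFld.Place k K) (hP : P ≠ Q) (hP' : P' ≠ Q)
    (f g : K) (hf : f ∈ V) (hg : g ∈ V) (hf0 : f ≠ 0) (hg0' : g ≠ 0)
    (hfs : ∀ R : FunFld.Place k K, R ≠ P → R ≠ P' → (FunFld.div k f + D) R = 0)
    (hgs : ∀ R : FunFld.Place k K, R ≠ P → R ≠ P' → (FunFld.div k g + D) R = 0) :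
    ∃ c : k, g = c • f := by
  classical
  by_contra hnp
  have hVfin : Module.Finite k V := Module.finite_of_finrank_pos (by omega)
  -- linear independence of f, g
  have hli : LinearIndependent k ![f, g] := by
    rw [LinearIndependent.pair_iff]
    intro s t hst
    have ht : t = 0 := by
      by_contra ht
      apply hnp
      refine ⟨-(t⁻¹ * s), ?_⟩
      have : t • g = -(s • f) := eq_neg_of_add_eq_zero_right hst
      calc g = t⁻¹ • (t • g) := by rw [smul_smul, inv_mul_cancel₀ ht, one_smul]
        _ = -(t⁻¹ * s) • f := by rw [this, smul_neg, smul_smul, neg_smul]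
    subst ht
    rw [zero_smul, add_zero] at hst
    exact ⟨(smul_eq_zero.1 hst).resolve_right hf0, rfl⟩
  set S : Submodule k K := Submodule.span k (Set.range ![f, g]) with hS
  have hSdim : Module.finrank k S = 2 := by
    rw [hS, finrank_span_eq_card hli]; simp
  have hSV : S ≤ V := by
    rw [hS, Submodule.span_le]
    rintro x ⟨i, rfl⟩
    fin_cases i
    · exact hf
    · exact hg
  set W₂ : Submodule k K := V ⊓ FunFld.L (D - Finsupp.single Q ((2 : ℤ))) with hW₂
  haveI : Module.Finite k S := Module.Finite.of_injective (Submodule.inclusion hSV) (Submodule.inclusion_injective _)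
  haveI : Module.Finite k W₂ := finite_inf V _
  have hsum := Submodule.finrank_sup_add_finrank_inf_eq S W₂
  have hle : S ⊔ W₂ ≤ V := sup_le hSV inf_le_left
  have hle' := Submodule.finrank_mono hle
  have hpos : 0 < Module.finrank k ↥(S ⊓ W₂) := by omega
  haveI : Module.Finite k ↥(S ⊓ W₂) := finite_inf S _
  have hne : S ⊓ W₂ ≠ ⊥ := by
    intro h
    rw [h, finrank_bot] at hpos
    exact lt_irrefl _ hpos
  obtain ⟨h, hh, hh0⟩ := Submodule.exists_mem_ne_zero_of_ne_bot hne
  obtain ⟨c, hc⟩ := (Submodule.mem_span_range_iff_exists_fun k).1 hh.1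
  rw [Fin.sum_univ_two] at hc
  simp only [Matrix.cons_val_zero, Matrix.cons_val_one] at hc
  set α := c 0 with hα
  set β := c 1 with hβ
  -- valuations at Q
  have hQP : Q ≠ P := hP.symm
  have hQP' : Q ≠ P' := hP'.symm
  have hordf : Q.ord f = -D Q := by
    have := hfs Q hQP hQP'
    simp only [Finsupp.coe_add, Pi.add_apply, div_apply hK] at this
    omega
  have hvf : v Q f = WithZero.exp (D Q) := by
    rw [v_eq_exp_neg_ord Q hf0, hordf, neg_neg]
  have hvh : v Q h ≤ WithZero.exp (D Q - 2) := by
    have := hh.2.2 Q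
    simpa using this
  set φ : K := g * f⁻¹ with hφ
  have hφ0 : φ ≠ 0 := mul_ne_zero hg0' (inv_ne_zero hf0)
  have hψ : h * f⁻¹ = algebraMap k K α + algebraMap k K β * φ := by
    rw [← hc, hφ, Algebra.smul_def, Algebra.smul_def]
    field_simp
  have hvψ : v Q (algebraMap k K α + algebraMap k K β * φ) ≤ WithZero.exp (-2 : ℤ) := by
    rw [← hψ, map_mul, map_inv₀, hvf, ← WithZero.exp_neg]
    calc v Q h * WithZero.exp (-D Q) ≤ WithZero.exp (D Q - 2) * WithZero.exp (-D Q) :=
          mul_le_mul' hvh le_rfl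
      _ = WithZero.exp (-2 : ℤ) := by rw [← WithZero.exp_add]; congr 1; ring
  -- the divisor of φ
  set Δ : Divisor k K := FunFld.div k φ with hΔ
  have hΔeq : Δ = (FunFld.div k g + D) - (FunFld.div k f + D) := by
    rw [hΔ, hφ, div_mul hK hg0' (inv_ne_zero hf0), div_inv hK]; abel
  have hΔsupp : ∀ R : FunFld.Place k K, R ≠ P → R ≠ P' → Δ R = 0 := by
    intro R h1 h2
    rw [hΔeq]
    simp only [Finsupp.coe_sub, Pi.sub_apply]
    rw [hgs R h1 h2, hfs R h1 h2, sub_zero]
  have hΔdeg : Δ.deg = 0 := deg_div hK φ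
  -- sub-lemma
  have key : ∀ (w : K) (P₂ : FunFld.Place k K) (n : ℕ), 1 ≤ n → w ≠ 0 →
      w ∈ L (Finsupp.single P₂ 1 : Divisor k K) → Q ≠ P₂ → v Q w = 1 →
      w ∉ Set.range (algebraMap k K) → Δ = n • FunFld.div k w → False := by
    intro w P₂ n hn hw0 hwL hQP₂ hvw hwc hdiv
    have hdivpow : FunFld.div k (w ^ n) = n • FunFld.div k w := by
      ext R
      simp only [Finsupp.coe_smul, Pi.smul_apply, div_apply hK, ord_pow, smul_eq_mul, nsmul_eq_mul]
    have hwn0 : w ^ n ≠ 0 := pow_ne_zero _ hw0
    have h0 : FunFld.div k (φ * (w ^ n)⁻¹) = 0 := by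
      rw [div_mul hK hφ0 (inv_ne_zero hwn0), div_inv hK, hdivpow, ← hΔ, hdiv, add_neg_cancel]
    obtain ⟨c₀, hc₀⟩ := exists_eq_algebraMap_of_div_eq_zero hK (mul_ne_zero hφ0 (inv_ne_zero hwn0)) h0
    have hφw : φ = algebraMap k K c₀ * w ^ n := by
      rw [← hc₀, mul_assoc, inv_mul_cancel₀ hwn0, mul_one]
    have hc₀0 : c₀ ≠ 0 := by
      rintro rfl
      rw [map_zero, zero_mul] at hφw
      exact hφ0 hφw
    by_cases hβ0 : β = 0
    · rw [hβ0, map_zero, zero_mul, add_zero] at hvψ
      have hα0 : α ≠ 0 := by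
        intro hα0
        apply hh0
        rw [← hc, hα0, hβ0, zero_smul, zero_smul, add_zero]
      rw [v_algebraMap Q hα0] at hvψ
      have : (WithZero.exp (-2 : ℤ) : WithZero (Multiplicative ℤ)) < 1 := by
        rw [← WithZero.exp_zero, WithZero.exp_lt_exp]; norm_num
      exact absurd hvψ (not_le.2 this)
    · apply not_v_le_exp_neg_two hK hQP₂ hwL hwc hvw α (β * c₀) (mul_ne_zero hβ0 hc₀0) hn
      rw [map_mul, mul_assoc, ← hφw]
      exact hvψ
  -- the case Δ = 0
  by_cases hΔ0 : Δ = 0
  · obtain ⟨c₀, hc₀⟩ := exists_eq_algebraMap_of_div_eq_zero hK hφ0 hΔ0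
    apply hnp
    refine ⟨c₀, ?_⟩
    rw [Algebra.smul_def, ← hc₀, hφ, mul_assoc, inv_mul_cancel₀ hf0, mul_one]
  have hPP' : P ≠ P' := by
    intro hPP'
    apply hΔ0
    have h1 : Δ = Finsupp.single P (Δ P) := by
      ext R
      by_cases hR : R = P
      · subst hR; simp
      · rw [hΔsupp R hR (by rw [← hPP']; exact hR)]
        simp [Finsupp.single_apply, Ne.symm hR]
    have h2 : Δ P = 0 := by
      have := hΔdeg
      rw [h1, deg_single, deg_eq_one hK P] at this
      simpa using this
    rw [h1, h2, Finsupp.single_zero]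
  have hΔform : Δ = Finsupp.single P (Δ P) + Finsupp.single P' (Δ P') := by
    ext R
    by_cases hR : R = P
    · subst hR
      simp [Finsupp.single_apply, hPP'.symm]
    · by_cases hR' : R = P'
      · subst hR'
        simp [Finsupp.single_apply, hPP']
      · rw [hΔsupp R hR hR']
        simp [Finsupp.single_apply, Ne.symm hR, Ne.symm hR']
  have hsum0 : Δ P + Δ P' = 0 := by
    have := hΔdeg
    rw [hΔform, deg_add, deg_single, deg_single, deg_eq_one hK P, deg_eq_one hK P'] at this
    simpa using this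
  set m := Δ P with hm
  have hP'm : Δ P' = -m := by omega
  have hm0 : m ≠ 0 := by
    intro h
    apply hΔ0
    rw [hΔform, hP'm, h]
    simp
  -- the coordinate function
  set E : Divisor k K := Finsupp.single P' 1 - Finsupp.single P 1 with hE
  have hEdeg : E.deg = 0 := by
    rw [hE, deg_sub, deg_single, deg_single, deg_eq_one hK P, deg_eq_one hK P']; norm_num
  have hell : (ell E : ℤ) = 1 := by
    have := ell_eq_of_deg_ge hK E (by rw [hg0, hEdeg]; norm_num)
    rw [this, hEdeg, hg0]; norm_num
  obtain ⟨u, hu0, huE⟩ := exists_ne_zero_mem_L hK (D := E) (by omega)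
  have hdivu : FunFld.div k u = Finsupp.single P 1 - Finsupp.single P' 1 := by
    rw [div_eq_neg_of_mem_L hK hEdeg hu0 huE, hE]; abel
  have hordu : ∀ R : FunFld.Place k K, R.ord u = (Finsupp.single P 1 - Finsupp.single P' 1 : Divisor k K) R := by
    intro R
    rw [← hdivu, div_apply hK]
  have hvuQ : v Q u = 1 := by
    rw [v_eq_one_iff Q hu0, hordu Q]
    simp [Finsupp.single_apply, hP, hP']
  have hunc : u ∉ Set.range (algebraMap k K) := by
    rintro ⟨c, rfl⟩
    have h1 := hordu P
    rw [ord_algebraMap] at h1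
    simp [Finsupp.single_apply, hPP'.symm] at h1
  rcases lt_or_gt_of_ne hm0 with hneg | hpos'
  · -- m < 0: use w = u⁻¹ with pole at P
    refine key u⁻¹ P (-m).toNat (by omega) (inv_ne_zero hu0) ?_ hQP (by rw [map_inv₀, hvuQ, inv_one]) ?_ ?_
    · rw [mem_L_iff_div hK (inv_ne_zero hu0), div_inv hK, hdivu]
      intro R
      simp only [Finsupp.coe_zero, Pi.zero_apply, Finsupp.coe_add, Finsupp.coe_neg, Finsupp.coe_sub,
        Pi.add_apply, Pi.neg_apply, Pi.sub_apply, Finsupp.single_apply]
      split_ifs <;> norm_num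
    · rintro ⟨c, hc⟩
      apply hunc
      refine ⟨c⁻¹, ?_⟩
      rw [map_inv₀, hc, inv_inv]
    · rw [div_inv hK, hdivu, hΔform, hP'm]
      have : ((-m).toNat : ℤ) = -m := Int.toNat_of_nonneg (by omega)
      ext R
      simp only [Finsupp.coe_add, Pi.add_apply, Finsupp.coe_smul, Finsupp.coe_neg, Finsupp.coe_sub,
        Pi.smul_apply, Pi.neg_apply, Pi.sub_apply, Finsupp.single_apply, nsmul_eq_mul, this]
      split_ifs <;> ring
  · -- m > 0: use w = u with pole at P'
    refine key u P' m.toNat (by omega) hu0 ?_ hQP' hvuQ hunc ?_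
    · rw [mem_L_iff_div hK hu0, hdivu]
      intro R
      simp only [Finsupp.coe_zero, Pi.zero_apply, Finsupp.coe_add, Finsupp.coe_sub,
        Pi.add_apply, Pi.sub_apply, Finsupp.single_apply]
      split_ifs <;> norm_num
    · rw [hdivu, hΔform, hP'm]
      have : (m.toNat : ℤ) = m := Int.toNat_of_nonneg (by omega)
      ext R
      simp only [Finsupp.coe_add, Pi.add_apply, Finsupp.coe_smul, Finsupp.coe_sub,
        Pi.smul_apply, Pi.sub_apply, Finsupp.single_apply, nsmul_eq_mul, this]
      split_ifs <;> ring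

end Groth.Agent.S18175
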