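import Groth.Statements.S11053
import Mathlib
import Groth.Agent.Lib.Helper26.SFBound

set_option autoImplicit false
open FunFld

namespace Groth.Agent.S11053

/-- Over an algebraically closed constant field, let `τ` be a `k`-embedding of the function field `K` of
genus `g` into itself, of degree `deg τ = [K : τ(K)]`. A place is a strong fixed point of `τ` when
`τ` maps its maximal ideal into the square of that ideal. For every integer `n > g` there are at
most `1 + deg τ + (n + deg τ / n) g + 2g²(g-1)/n` strong fixed points. -/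
theorem result
    (k K : Type*) [Field k] [IsAlgClosed k] [Field K] [Algebra k K]
    (hK : FunFld.IsFunctionField k K) (τ : K →ₐ[k] K) (n : ℕ)
    (hn : FunFld.genus k K < n) :
    {P : FunFld.Place k K | ∀ x : K, P.1 x < 1 → P.1 (τ x) ≤ WithZero.exp (-2)}.Finite ∧
    (Set.ncard {P : FunFld.Place k K | ∀ x : K, P.1 x < 1 → P.1 (τ x) ≤ WithZero.exp (-2)} : ℝ) ≤
      1 + Module.finrank τ.fieldRange K +
        (n + (Module.finrank τ.fieldRange K : ℝ) / n) * FunFld.genus k K +
        2 * (FunFld.genus k K : ℝ) ^ 2 * (FunFld.genus k K - 1) / n := by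
  classical
  obtain ⟨hfin, hN⟩ := Groth.Agent.Lib.Helper26.SFBound.strongFixed_bound hK τ n hn
  refine ⟨hfin, ?_⟩
  change (Set.ncard {P : FunFld.Place k K | FunFld.IsStrongFixedPt τ P} : ℝ) ≤ _
  obtain ⟨N, hNdef⟩ : ∃ N : ℕ, N = Set.ncard {P : FunFld.Place k K | FunFld.IsStrongFixedPt τ P} :=
    ⟨_, rfl⟩
  rw [← hNdef] at hN ⊢
  obtain ⟨g, hg⟩ : ∃ g, g = FunFld.genus k K := ⟨_, rfl⟩
  obtain ⟨d, hd⟩ : ∃ d, d = Module.finrank τ.fieldRange K := ⟨_, rfl⟩
  rw [← hg, ← hd] at hN ⊢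
  have hn0 : (0 : ℝ) < n := by
    have : 0 < n := by omega
    exact_mod_cast this
  have hNr : (n : ℝ) * N ≤ (g : ℝ) * n * n + n + (d : ℝ) * n + (d : ℝ) * g +
      2 * (g : ℝ) * g * ((g : ℝ) - 1) := by
    exact_mod_cast hN
  have hX : (n : ℝ) * (1 + d + (n + (d : ℝ) / n) * g + 2 * (g : ℝ) ^ 2 * (g - 1) / n) =
      (g : ℝ) * n * n + n + (d : ℝ) * n + (d : ℝ) * g + 2 * (g : ℝ) * g * ((g : ℝ) - 1) := by
    field_simp
    ring
  rw [← hX] at hNr
  exact le_of_mul_le_mul_left hNr hn0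

end Groth.Agent.S11053
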