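import Groth.Statements.S9133
import Groth.Agent.Lib.Helper21.KA4
import Mathlib.RingTheory.KrullDimension.Field

set_option autoImplicit false
universe u
open CAlg

namespace Groth.Agent.S9133

open Groth.Agent.Lib.Helper21.KA


/-- Let R → S be a homomorphism of domains compatible with field maps K → L of their fraction fields (so
R → S is injective), where R is Noetherian local of dimension one and L is finite over K. Then each
prime n of S whose contraction to R is the maximal ideal of R is a maximal ideal of S, only finitely
many such n exist, and each quotient S/n is a finite R-module (its residue field is a finite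
extension of that of R). -/
theorem result (R S K L : Type u)
    [CommRing R] [IsDomain R] [IsNoetherianRing R] [IsLocalRing R] (hdim : ringKrullDim R = 1)
    [CommRing S] [IsDomain S] [Algebra R S] [Field K] [Field L] [Algebra R K] [IsFractionRing R K]
    [Algebra S L] [IsFractionRing S L] [Algebra K L] [Algebra R L] [IsScalarTower R K L]
    [IsScalarTower R S L] [FiniteDimensional K L] :
    (∀ n ∈ (IsLocalRing.maximalIdeal R).primesOver S, n.IsMaximal) ∧
      ((IsLocalRing.maximalIdeal R).primesOver S).Finite ∧
      ∀ n ∈ (IsLocalRing.maximalIdeal R).primesOver S, Module.Finite R (S ⧸ n) := by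
  have hd1 : Ring.KrullDimLE 1 R := by
    rw [Ring.krullDimLE_iff, hdim]
    rfl
  have hA : Function.Injective (algebraMap S L) := IsFractionRing.injective S L
  have hRS : Function.Injective (algebraMap R S) := by
    have h1 : Function.Injective (algebraMap R L) := by
      rw [IsScalarTower.algebraMap_eq R K L]
      exact (algebraMap K L).injective.comp (IsFractionRing.injective R K)
    rw [IsScalarTower.algebraMap_eq R S L] at h1
    exact Function.Injective.of_comp h1
  -- nonzero element of the maximal ideal
  have hnf : ¬ IsField R := by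
    intro hf
    have := ringKrullDim_eq_zero_of_isField hf
    rw [hdim] at this
    exact one_ne_zero this
  have hm0 : IsLocalRing.maximalIdeal R ≠ ⊥ := fun h =>
    hnf (IsLocalRing.isField_iff_maximalIdeal_eq.mpr h)
  obtain ⟨x, hxm, hx0⟩ := Submodule.exists_mem_ne_zero_of_ne_bot hm0
  have hlen := length_quotient_span_algebraMap_ne_top R K L S hA x hx0
  have hfl : IsFiniteLength R (S ⧸ Ideal.span {algebraMap R S x}) :=
    Module.length_ne_top_iff.mp hlen
  obtain ⟨hnoeth, hart⟩ := isFiniteLength_iff_isNoetherian_isArtinian.mp hfl
  have hfin : Module.Finite R (S ⧸ Ideal.span {algebraMap R S x}) := inferInstance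
  have hxS0 : algebraMap R S x ≠ 0 := fun h => hx0 (hRS (by rw [h, map_zero]))
  have hle : ∀ n ∈ (IsLocalRing.maximalIdeal R).primesOver S,
      Ideal.span {algebraMap R S x} ≤ n := by
    rintro n ⟨hn, hlo⟩
    rw [Ideal.span_singleton_le_iff_mem]
    have : x ∈ n.under R := by rw [← hlo.over]; exact hxm
    exact this
  have hdS : Ring.KrullDimLE 1 S := krullDimLE_one_of_injective R K L S hA
  refine ⟨?_, ?_, ?_⟩
  · rintro n hn
    have hn' := hn.1
    refine Ideal.IsPrime.isMaximal_of_ne_bot hn' ?_
    intro h0
    have := hle n hn
    rw [h0, le_bot_iff, Ideal.span_singleton_eq_bot] at this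
    exact hxS0 this
  · have hartS : IsArtinian S (S ⧸ Ideal.span {algebraMap R S x}) := isArtinian_of_tower R hart
    have hartring : IsArtinianRing (S ⧸ Ideal.span {algebraMap R S x}) :=
      isArtinian_of_tower S (inferInstance : IsArtinian S (S ⧸ Ideal.span {algebraMap R S x}))
    have hfinspec : Finite (PrimeSpectrum (S ⧸ Ideal.span {algebraMap R S x})) := inferInstance
    refine Set.Finite.subset (Set.finite_range
      (fun P : PrimeSpectrum (S ⧸ Ideal.span {algebraMap R S x}) =>
        P.asIdeal.comap (Ideal.Quotient.mk (Ideal.span {algebraMap R S x})))) ?_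
    intro n hn
    have hn' := hn.1
    have hker : RingHom.ker (Ideal.Quotient.mk (Ideal.span {algebraMap R S x})) ≤ n := by
      rw [Ideal.mk_ker]; exact hle n hn
    refine ⟨⟨n.map (Ideal.Quotient.mk _),
      Ideal.map_isPrime_of_surjective Ideal.Quotient.mk_surjective hker⟩, ?_⟩
    change (n.map (Ideal.Quotient.mk _)).comap (Ideal.Quotient.mk _) = n
    rw [Ideal.comap_map_of_surjective _ Ideal.Quotient.mk_surjective, ← RingHom.ker_eq_comap_bot]
    exact sup_eq_left.mpr hker
  · intro n hn
    let g : (S ⧸ Ideal.span {algebraMap R S x}) →ₗ[R] S ⧸ n :=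
      (Ideal.Quotient.factorₐ R (hle n hn)).toLinearMap
    exact Module.Finite.of_surjective g (Ideal.Quotient.factor_surjective (hle n hn))

end Groth.Agent.S9133
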