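import Groth.Statements.S11019
import Mathlib

set_option autoImplicit false
open FunFld

namespace Groth.Agent.S11019

open Polynomial IntermediateField in
theorem algClosed_in_adjoin_transcendental {k K : Type*} [Field k] [Field K] [Algebra k K]
    {x : K} (hx : Transcendental k x) (z : K) (hzF : z ∈ k⟮x⟯) (hz : IsAlgebraic k z) :
    z ∈ Set.range (algebraMap k K) := by
  let e : RatFunc k ≃ₐ[k] k⟮x⟯ := RatFunc.algEquivOfTranscendental x hx
  have hz' : IsAlgebraic k (⟨z, hzF⟩ : k⟮x⟯) :=
    (isAlgebraic_algebraMap_iff (A := K) (algebraMap k⟮x⟯ K).injective).mp hz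
  have hw : IsAlgebraic k (e.symm ⟨z, hzF⟩) :=
    (isAlgebraic_algHom_iff (e.symm : k⟮x⟯ →ₐ[k] RatFunc k) e.symm.injective).mpr hz'
  by_contra hcon
  apply RatFunc.transcendental_of_ne_C (f := e.symm ⟨z, hzF⟩) _ hw
  rintro ⟨c, hc⟩
  apply hcon
  refine ⟨c, ?_⟩
  have h1 : (⟨z, hzF⟩ : k⟮x⟯) = e (RatFunc.C c) := by rw [← hc, AlgEquiv.apply_symm_apply]
  have h2 : e (RatFunc.C c) = algebraMap k k⟮x⟯ c := by
    rw [← RatFunc.algebraMap_eq_C, AlgEquiv.commutes]
  have h3 := congrArg Subtype.val (h1.trans h2)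
  exact h3.symm

open Polynomial in
theorem parity_aux {k : Type*} [Field k] (f u v : k[X]) (d : k) (hf : Squarefree f)
    (hd : 1 ≤ f.natDegree) (hu : u ≠ 0) (hv : v ≠ 0) (hd0 : d ≠ 0)
    (h : f * u ^ 2 = C d * v ^ 2) : False := by
  have hf0 : f ≠ 0 := fun h0 => by simp [h0] at hd
  have hfu : ¬ IsUnit f := fun hU => by
    have := natDegree_eq_zero_of_isUnit hU
    omega
  obtain ⟨π, hπ, hπf⟩ := WfDvdMonoid.exists_irreducible_factor hfu hf0
  have hp : Prime π := hπ.prime
  have h1 : emultiplicity π f = 1 := by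
    apply le_antisymm
    · rcases (squarefree_iff_emultiplicity_le_one f).mp hf π with h | h
      · exact h
      · exact absurd h hπ.not_isUnit
    · have : π ^ 1 ∣ f := by simpa using hπf
      exact_mod_cast (pow_dvd_iff_le_emultiplicity.mp this)
  have hCd : emultiplicity π (C d) = 0 := by
    rw [emultiplicity_eq_zero]
    intro hdvd
    exact hπ.not_isUnit (isUnit_of_dvd_unit hdvd (isUnit_C.mpr (IsUnit.mk0 d hd0)))
  have h2 := congrArg (emultiplicity π) h
  rw [emultiplicity_mul hp, emultiplicity_mul hp, emultiplicity_pow hp, emultiplicity_pow hp,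
    h1, hCd] at h2
  have hfu' : FiniteMultiplicity π u := FiniteMultiplicity.of_prime_left hp hu
  have hfv' : FiniteMultiplicity π v := FiniteMultiplicity.of_prime_left hp hv
  rw [hfu'.emultiplicity_eq_multiplicity, hfv'.emultiplicity_eq_multiplicity] at h2
  have h3 : (1 + 2 * multiplicity π u : ℕ∞) = ((0 + 2 * multiplicity π v : ℕ) : ℕ∞) := by
    push_cast
    simpa using h2
  have h4 : 1 + 2 * multiplicity π u = 0 + 2 * multiplicity π v := by
    exact_mod_cast h3
  omega

/-- For `char k ≠ 2` and `K = k(x, y)` with `x` transcendental and `y² = f(x)`, `f` squarefree of degree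
`≥ 1`: the field `k` is algebraically closed in `K` (whatever in `K` is algebraic over `k` lies in
`k`), and `K/k` is a function field of one variable. -/
theorem result (k K : Type*) [Field k] [Field K] [Algebra k K] (h2 : ringChar k ≠ 2) (x y : K) (hx : Transcendental k x)
    (hxy : IntermediateField.adjoin k ({x, y} : Set K) = ⊤)
    (f : Polynomial k) (hf : Squarefree f) (hd : 1 ≤ f.natDegree)
    (heq : y ^ 2 = Polynomial.aeval x f) : FunFld.IsFunctionField k K := by
  open Polynomial IntermediateField in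
  have hf0 : f ≠ 0 := fun h0 => by simp [h0] at hd
  obtain ⟨F, hF⟩ : ∃ F : IntermediateField k K, F = k⟮x⟯ := ⟨_, rfl⟩
  have hxF : x ∈ F := hF ▸ mem_adjoin_simple_self k x
  have hFy : F⟮y⟯ = (⊤ : IntermediateField F K) := by
    apply IntermediateField.restrictScalars_injective k
    rw [hF, IntermediateField.adjoin_adjoin_left, IntermediateField.restrictScalars_top,
      Set.singleton_union]
    exact hxy
  -- `f(x)` as an element of `F`
  let fxF : F := aeval (⟨x, hxF⟩ : F) f
  have hfxF : (fxF : K) = aeval x f := by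
    have := Polynomial.aeval_algHom_apply F.val (⟨x, hxF⟩ : F) f
    simpa using this.symm
  let q : F[X] := X ^ 2 - C fxF
  have hqm : q.Monic := monic_X_pow_sub_C fxF (by norm_num)
  have hqy : aeval y q = 0 := by
    simp only [q, map_sub, map_pow, aeval_X, aeval_C]
    rw [heq, ← hfxF]
    exact sub_self _
  have hqdeg : q.natDegree = 2 := natDegree_X_pow_sub_C
  have hyint : IsIntegral F y := ⟨q, hqm, hqy⟩
  have hfinFy : FiniteDimensional F F⟮y⟯ := IntermediateField.adjoin.finiteDimensional hyint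
  have hfin : FiniteDimensional F K := by
    rw [hFy] at hfinFy
    exact Module.Finite.equiv (IntermediateField.topEquiv : (⊤ : IntermediateField F K) ≃ₐ[F] K).toLinearEquiv
  have hfr : Module.finrank F K ≤ 2 := by
    have h1 := IntermediateField.adjoin.finrank hyint
    rw [hFy, IntermediateField.finrank_top'] at h1
    rw [h1, ← hqdeg]
    exact natDegree_le_of_dvd (minpoly.dvd F y hqy) hqm.ne_zero
  refine ⟨⟨x, hx, hF ▸ hfin⟩, ?_⟩
  intro α hα
  have hFcl : ∀ z : K, z ∈ F → IsAlgebraic k z → z ∈ Set.range (algebraMap k K) := fun z hz hza =>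
    algClosed_in_adjoin_transcendental hx z (hF ▸ hz) hza
  -- write `α = a + b y`
  have hαmem : α ∈ F⟮y⟯ := hFy ▸ IntermediateField.mem_top
  have hsub : F⟮y⟯.toSubalgebra = Algebra.adjoin F {y} :=
    IntermediateField.adjoin_simple_toSubalgebra_of_isAlgebraic hyint.isAlgebraic
  have hαmem' : α ∈ Algebra.adjoin F {y} := by
    rw [← hsub]; exact hαmem
  rw [Algebra.adjoin_singleton_eq_range_aeval] at hαmem'
  obtain ⟨g, hg⟩ := hαmem'
  let r : F[X] := g %ₘ q
  have hr : aeval y r = α := by
    have h1 := Polynomial.modByMonic_add_div g q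
    have h2 : aeval y g = aeval y r + aeval y q * aeval y (g /ₘ q) := by
      conv_lhs => rw [← h1]
      simp [r]
    rw [hqy, zero_mul, add_zero] at h2
    rw [← h2]; exact hg
  have hrdeg : r.degree ≤ 1 := by
    have hq1 : q ≠ 1 := fun h => by rw [h] at hqdeg; simp at hqdeg
    have h1 : r.natDegree < q.natDegree := Polynomial.natDegree_modByMonic_lt g hqm hq1
    rw [hqdeg] at h1
    have h1' : r.natDegree ≤ 1 := by omega
    exact Polynomial.degree_le_of_natDegree_le h1'
  have hr' := Polynomial.eq_X_add_C_of_degree_le_one hrdeg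
  obtain ⟨a, ha⟩ : ∃ a : F, a = r.coeff 0 := ⟨_, rfl⟩
  obtain ⟨b, hb⟩ : ∃ b : F, b = r.coeff 1 := ⟨_, rfl⟩
  rw [← ha, ← hb] at hr'
  have hα' : α = (b : K) * y + (a : K) := by
    rw [← hr, hr']
    simp
  by_cases hyF : y ∈ F
  · exact hFcl α (hα' ▸ F.add_mem (F.mul_mem b.2 hyF) a.2) hα
  by_cases hb0 : b = 0
  · refine hFcl α ?_ hα
    rw [hα', hb0]
    simp
  exfalso
  have hbK : (b : K) ≠ 0 := fun h => hb0 (Subtype.ext h)
  have hαF : α ∉ F := by
    intro h
    apply hyF
    have : y = (α - a) * (b : K)⁻¹ := by rw [hα']; field_simp; ring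
    rw [this]; exact F.mul_mem (F.sub_mem h a.2) (F.inv_mem b.2)
  have hy2 : y ^ 2 = (fxF : K) := by rw [heq, hfxF]
  let m₀ : F[X] := X ^ 2 - C (a + a) * X + C (a ^ 2 - b ^ 2 * fxF)
  have hm₀deg : m₀.natDegree = 2 := by
    simp only [m₀]
    compute_degree!
  have hm₀monic : m₀.Monic := by
    simp only [m₀]
    monicity!
  have hm₀root : aeval α m₀ = 0 := by
    simp only [m₀, map_add, map_sub, map_mul, map_pow, aeval_X, aeval_C]
    rw [hα']
    simp only [IntermediateField.algebraMap_apply]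
    linear_combination (b : K) ^ 2 * hy2
  have hαint : IsIntegral F α := ⟨m₀, hm₀monic, hm₀root⟩
  have hmin : m₀ = minpoly F α := by
    have hdvd : minpoly F α ∣ m₀ := minpoly.dvd F α hm₀root
    have h2le : 2 ≤ (minpoly F α).natDegree := by
      rw [minpoly.two_le_natDegree_iff hαint]
      rintro ⟨z, hz⟩
      exact hαF (hz ▸ z.2)
    exact Polynomial.eq_of_monic_of_dvd_of_natDegree_le (minpoly.monic hαint) hm₀monic hdvd
      (hm₀deg ▸ h2le)
  -- coefficients of `m₀` are algebraic over `k`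
  have hdvd : minpoly F α ∣ (minpoly k α).map (algebraMap k F) :=
    minpoly.dvd_map_of_isScalarTower k F α
  have hlift := integralClosure.mem_lifts_of_monic_of_dvd_map F (minpoly.monic hα.isIntegral)
    (minpoly.monic hαint) hdvd
  rw [← hmin, lifts_iff_coeff_lifts] at hlift
  have hcoeff : ∀ n, ((m₀.coeff n : F) : K) ∈ Set.range (algebraMap k K) := by
    intro n
    obtain ⟨c, hc⟩ := hlift n
    have h1 : IsAlgebraic k (m₀.coeff n) := by
      rw [← hc]
      exact c.2.isAlgebraic
    exact hFcl _ (m₀.coeff n).2 (h1.algebraMap (A := K))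
  have hc1 : m₀.coeff 1 = -(a + a) := by
    simp only [m₀, coeff_add, coeff_sub, coeff_X_pow, coeff_C_mul, coeff_X, coeff_C]
    norm_num
  have hc0 : m₀.coeff 0 = a ^ 2 - b ^ 2 * fxF := by
    simp only [m₀, coeff_add, coeff_sub, coeff_X_pow, coeff_C_mul, coeff_X, coeff_C]
    norm_num
  obtain ⟨g₁, hg₁⟩ := hcoeff 1
  obtain ⟨g₀, hg₀⟩ := hcoeff 0
  rw [hc1] at hg₁
  rw [hc0] at hg₀
  have h2k : (2 : k) ≠ 0 := by
    intro h
    apply h2
    have : ringChar k ∣ 2 := (ringChar.spec k 2).mp (by exact_mod_cast h)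
    rcases (Nat.dvd_prime Nat.prime_two).mp this with h1 | h1
    · exfalso
      have := CharP.ringChar_ne_one (R := k)
      exact this h1
    · exact h1
  have h2K : (2 : K) ≠ 0 := by
    have := (map_ne_zero (algebraMap k K)).mpr h2k
    rwa [map_ofNat] at this
  -- `b² f(x) = d`
  let d : k := (g₁ / 2) ^ 2 - g₀
  have hdK : (b : K) ^ 2 * aeval x f = algebraMap k K d := by
    simp only [d, map_sub, map_pow, map_div₀, map_ofNat]
    rw [hg₁, hg₀, ← hfxF]
    push_cast
    field_simp
    ring
  have hbmem : (b : K) ∈ k⟮x⟯ := by rw [← hF]; exact b.2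
  obtain ⟨u, v, huv⟩ := (IntermediateField.mem_adjoin_simple_iff k (b : K)).mp hbmem
  have hvx : aeval x v ≠ 0 := by
    intro h
    rw [h, div_zero] at huv
    exact hbK huv
  have hux : aeval x u ≠ 0 := by
    intro h
    rw [h, zero_div] at huv
    exact hbK huv
  have hu0 : u ≠ 0 := fun h => hux (by rw [h, map_zero])
  have hv0 : v ≠ 0 := fun h => hvx (by rw [h, map_zero])
  have hinj : Function.Injective (aeval x : k[X] →ₐ[k] K) := transcendental_iff_injective.mp hx
  have hpoly : f * u ^ 2 = C d * v ^ 2 := by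
    apply hinj
    simp only [map_mul, map_pow, aeval_C]
    rw [← hdK, huv]
    field_simp
  have hd0 : d ≠ 0 := by
    intro h
    rw [h, map_zero, zero_mul] at hpoly
    exact mul_ne_zero hf0 (pow_ne_zero 2 hu0) hpoly
  exact parity_aux f u v d hf hd hu0 hv0 hd0 hpoly

end Groth.Agent.S11019
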