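import Groth.Statements.S0549
import Groth.Agent.S0548
import Groth.Agent.Lib.Helper21.RegularLocal
import Mathlib.RingTheory.DiscreteValuationRing.TFAE
-- import your own Groth.Agent.* helpers here

set_option autoImplicit false
universe u
open CAlg

namespace Groth.Agent.S0549

theorem dvr_iff_regular_dim_one (R : Type u) [CommRing R] [IsLocalRing R] [IsNoetherianRing R] :
    (∃ _ : IsDomain R, IsDiscreteValuationRing R) ↔ IsRegularLocalRing R ∧ ringKrullDim R = 1 := by
  constructor
  · rintro ⟨hdom, hdvr⟩
    exact ⟨inferInstance, IsDiscreteValuationRing.ringKrullDim_eq_one R⟩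
  · rintro ⟨hreg, hdim⟩
    have hdom : IsDomain R := Groth.Agent.Lib.Helper21.isDomain_of_isRegularLocalRing R
    refine ⟨hdom, ?_⟩
    have h1 := (IsRegularLocalRing.iff_finrank_cotangentSpace R).mp hreg
    rw [hdim] at h1
    have h2 : Module.finrank (IsLocalRing.ResidueField R) (IsLocalRing.CotangentSpace R) = 1 := by
      exact_mod_cast h1
    exact IsLocalRing.finrank_CotangentSpace_eq_one_iff.mp h2

/-- A Noetherian local ring is a discrete valuation ring exactly when its completion at the maximal
ideal is a discrete valuation ring. -/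
theorem result (A : Type u) [CommRing A] [IsLocalRing A]
    [IsNoetherianRing A] :
    (∃ _ : IsDomain A, IsDiscreteValuationRing A) ↔
      ∃ _ : IsDomain (AdicCompletion (IsLocalRing.maximalIdeal A) A),
        IsDiscreteValuationRing (AdicCompletion (IsLocalRing.maximalIdeal A) A) := by
  have hN : IsNoetherianRing (AdicCompletion (IsLocalRing.maximalIdeal A) A) :=
    Groth.Agent.Lib.Helper21.isNoetherianRing_adicCompletion_of_fg _ (IsNoetherian.noetherian _)
  rw [dvr_iff_regular_dim_one, dvr_iff_regular_dim_one, ← Groth.Agent.S0548.result A,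
    Groth.Agent.S0547.result A]

end Groth.Agent.S0549
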