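import Groth.Statements.S8772
import Mathlib

set_option autoImplicit false
universe u
open PureExt

namespace Groth.Agent.S8772

/-- For every `R`-module `M` the evaluation map `M → (M^∨)^∨` into the double character module is
universally injective; with the pure injectivity of character modules this gives a universally exact
embedding of `M` into a pure injective module. (The published statement asserts only the existence
of such an embedding; this row names the map.) -/
theorem result (R : Type u) [CommRing R] (M : Type u) [AddCommGroup M]
    [Module R M] : CAlgX.UniversallyInjective R (PureExt.charEval R M) := by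
  intro Q _ _
  rw [rTensor_injective_iff_lcomp_surjective]
  intro g
  -- transpose of g
  let g' : Q → CharacterModule M := fun q =>
    { toFun := fun m => g m q
      map_zero' := by rw [map_zero]; rfl
      map_add' := fun a b => by rw [map_add]; rfl }
  have hg'add : ∀ q q', g' (q + q') = g' q + g' q' := by
    intro q q'; ext m
    show g m (q + q') = g m q + g m q'
    exact map_add (g m) q q'
  have hg'zero : g' 0 = 0 := by
    ext m
    show g m 0 = 0
    exact map_zero (g m)
  have hg'smul : ∀ (r : R) q, g' (r • q) = r • g' q := by
    intro r q; ext m
    show g m (r • q) = g (r • m) q
    rw [LinearMap.map_smul]; rfl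
  refine ⟨{ toFun := fun φ => { toFun := fun q => φ (g' q), map_zero' := by rw [hg'zero, map_zero], map_add' := fun a b => by rw [hg'add, map_add] }, map_add' := fun a b => by ext q; rfl, map_smul' := fun r φ => ?_ }, ?_⟩
  · ext q
    show (r • φ) (g' q) = φ (g' (r • q))
    rw [hg'smul]; rfl
  · ext m q
    rfl

end Groth.Agent.S8772
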