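import Groth.Statements.S6302
import Groth.Agent.Lib.Helper18.PureFP
import Mathlib

set_option autoImplicit false
universe u
open CAlg

namespace Groth.Agent.S6302

/-- Let 0 → M₁ → M₂ → M₃ → 0 be a short exact sequence of R-modules with M₃ of finite presentation. If
the sequence is universally exact (its first map is universally injective) then it is split: M₂ → M₃
admits a section. (The converse, split implies universally exact, is elementary and not stated.) -/
theorem result {R : Type u} [CommRing R] {M₁ M₂ M₃ : Type u} [AddCommGroup M₁] [Module R M₁] [AddCommGroup M₂] [Module R M₂] [AddCommGroup M₃] [Module R M₃] [Module.FinitePresentation R M₃] (f : M₁ →ₗ[R] M₂) (g : M₂ →ₗ[R] M₃) (hexact : Function.Exact f g) (hg : Function.Surjective g) (hf : CAlgX.UniversallyInjective R f) : ∃ s : M₃ →ₗ[R] M₂, g.comp s = LinearMap.id := by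
  classical
  have hpure : Groth.Agent.Lib.Helper12.MatrixPure f :=
    Groth.Agent.Lib.Helper18.matrixPure_of_finitePresentation f (fun Q _ _ _ => hf Q)
  obtain ⟨n, m, π, ρ, hπ, hρπ⟩ := Module.FinitePresentation.exists_fin' R M₃
  -- lift π through g
  obtain ⟨y, hy⟩ := Module.projective_lifting_property g π hg
  -- elements a i of M₁ with f (a i) = y (ρ e_i)
  have hker : ∀ i : Fin m, ∃ a : M₁, f a = y (ρ (Pi.single i 1)) := by
    intro i
    apply (hexact _).mp
    have : g (y (ρ (Pi.single i 1))) = π (ρ (Pi.single i 1)) := by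
      rw [← hy]; rfl
    rw [this]
    exact (hρπ _).mpr ⟨_, rfl⟩
  choose a ha using hker
  -- purity
  obtain ⟨a', ha'⟩ := hpure m n (fun i j => ρ (Pi.single i 1) j) a (fun j => y (Pi.single j 1))
    (by
      intro i
      rw [ha i]
      conv_lhs => rw [← (Pi.basisFun R (Fin n)).sum_repr (ρ (Pi.single i 1))]
      simp only [Pi.basisFun_repr, Pi.basisFun_apply, map_sum, map_smul])
  -- corrected lift
  let A' : (Fin n → R) →ₗ[R] M₁ := (Pi.basisFun R (Fin n)).constr R a'
  have hA' : ∀ j, A' (Pi.single j 1) = a' j := by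
    intro j
    have := (Pi.basisFun R (Fin n)).constr_basis R a' j
    simpa [A'] using this
  let y' : (Fin n → R) →ₗ[R] M₂ := y - f.comp A'
  have hy'ρ : ∀ v, y' (ρ v) = 0 := by
    have : y'.comp ρ = 0 := by
      apply (Pi.basisFun R (Fin m)).ext
      intro i
      simp only [Pi.basisFun_apply, LinearMap.comp_apply, LinearMap.zero_apply, y',
        LinearMap.sub_apply]
      have hAa : A' (ρ (Pi.single i 1)) = a i := by
        rw [ha' i]
        conv_lhs => rw [← (Pi.basisFun R (Fin n)).sum_repr (ρ (Pi.single i 1))]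
        simp only [Pi.basisFun_repr, Pi.basisFun_apply, map_sum, map_smul, hA']
      rw [hAa, ha i, sub_self]
    intro v
    exact congrArg (fun l => l v) this
  have hy'ker : LinearMap.ker π ≤ LinearMap.ker y' := by
    intro v hv
    obtain ⟨w, rfl⟩ := (hρπ v).mp hv
    exact hy'ρ w
  let s : M₃ →ₗ[R] M₂ := ((LinearMap.ker π).liftQ y' hy'ker).comp
    (π.quotKerEquivOfSurjective hπ).symm.toLinearMap
  refine ⟨s, ?_⟩
  ext z
  obtain ⟨v, rfl⟩ := hπ z
  have hs : s (π v) = y' v := by
    simp only [s, LinearMap.comp_apply, LinearEquiv.coe_coe]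
    have : (π.quotKerEquivOfSurjective hπ).symm (π v) = (LinearMap.ker π).mkQ v := by
      rw [LinearEquiv.symm_apply_eq]
      rfl
    rw [this]
    rfl
  simp only [LinearMap.comp_apply, LinearMap.id_apply, hs, y', LinearMap.sub_apply, map_sub]
  have h1 : g (y v) = π v := by rw [← hy]; rfl
  have h2 : g (f (A' v)) = 0 := (hexact _).mpr ⟨_, rfl⟩
  rw [h1, h2, sub_zero]

end Groth.Agent.S6302
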