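import Groth.Statements.S6992
import Groth.Agent.Lib.Helper28.RelFP2

set_option autoImplicit false
set_option linter.style.haveILetI false
universe u
open CAlg

namespace Groth.Agent.S6992

/-- Let R be a commutative ring, A → B a finite homomorphism of finite type R-algebras, M a B-module,
and α : R[x_1, ..., x_n] → A, β : R[y_1, ..., y_k] → B surjective R-algebra homomorphisms. Then M is
finitely presented as an R[x_1, ..., x_n]-module through α and A → B (M is finitely presented
relative to R as an A-module) if and only if M is finitely presented as an R[y_1, ..., y_k]-module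
through β (M is finitely presented relative to R as a B-module). -/
theorem result {R A B : Type u} [CommRing R] [CommRing A] [CommRing B]
    [Algebra R A] [Algebra A B] [Algebra R B] [IsScalarTower R A B] [Algebra.FiniteType R A]
    [Algebra.FiniteType R B] [Module.Finite A B] (M : Type u) [AddCommGroup M] [Module B M] [Module A M]
    [IsScalarTower A B M] {n k : ℕ} (α : MvPolynomial (Fin n) R →ₐ[R] A) (hα : Function.Surjective α)
    (β : MvPolynomial (Fin k) R →ₐ[R] B) (hβ : Function.Surjective β) :
    @Module.FinitePresentation (MvPolynomial (Fin n) R) M _ _ (Module.compHom M α.toRingHom) ↔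
      @Module.FinitePresentation (MvPolynomial (Fin k) R) M _ _ (Module.compHom M β.toRingHom) := by
  classical
  let φ : MvPolynomial (Fin n) R →+* B := (algebraMap A B).comp α.toRingHom
  letI : Algebra (MvPolynomial (Fin n) R) A := α.toRingHom.toAlgebra
  letI : Algebra (MvPolynomial (Fin n) R) B := φ.toAlgebra
  haveI : IsScalarTower (MvPolynomial (Fin n) R) A B := IsScalarTower.of_algebraMap_eq (fun _ => rfl)
  haveI : IsScalarTower R (MvPolynomial (Fin n) R) B := IsScalarTower.of_algebraMap_eq (fun r => by
    change algebraMap R B r = algebraMap A B (α (algebraMap R (MvPolynomial (Fin n) R) r))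
    rw [AlgHom.commutes, ← IsScalarTower.algebraMap_apply])
  haveI : Module.Finite (MvPolynomial (Fin n) R) A :=
    Module.Finite.of_surjective (Algebra.linearMap (MvPolynomial (Fin n) R) A) hα
  haveI : Module.Finite (MvPolynomial (Fin n) R) B := Module.Finite.trans A B
  -- generators of `B` and their integral equations
  let b : Fin k → B := fun j => β (MvPolynomial.X j)
  have hint : ∀ j, IsIntegral (MvPolynomial (Fin n) R) (b j) :=
    fun j => IsIntegral.of_finite (MvPolynomial (Fin n) R) (b j)
  choose P hPmonic hPeval using hint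
  let θ : MvPolynomial (Fin k) (MvPolynomial (Fin n) R) →ₐ[MvPolynomial (Fin n) R] B :=
    MvPolynomial.aeval b
  let g : Fin k → MvPolynomial (Fin k) (MvPolynomial (Fin n) R) :=
    fun j => Polynomial.aeval
      (MvPolynomial.X j : MvPolynomial (Fin k) (MvPolynomial (Fin n) R)) (P j)
  have hθg : ∀ j, θ (g j) = 0 := by
    intro j
    change θ (Polynomial.aeval
      (MvPolynomial.X j : MvPolynomial (Fin k) (MvPolynomial (Fin n) R)) (P j)) = 0
    rw [← Polynomial.aeval_algHom_apply]
    have : θ (MvPolynomial.X j) = b j := MvPolynomial.aeval_X b j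
    rw [this]
    exact hPeval j
  have hJfg : (Ideal.span (Set.range g)).FG := Submodule.fg_span (Set.finite_range g)
  have hJ : ∀ x ∈ Ideal.span (Set.range g), θ x = 0 := by
    intro x hx
    have : Ideal.span (Set.range g) ≤ RingHom.ker θ.toRingHom := by
      rw [Ideal.span_le]
      rintro _ ⟨j, rfl⟩
      exact hθg j
    exact this hx
  -- `θ` is surjective
  have hθβ : ∀ q : MvPolynomial (Fin k) R,
      θ (MvPolynomial.map (algebraMap R (MvPolynomial (Fin n) R)) q) = β q := by
    intro q
    have h1 : β q = MvPolynomial.aeval b q := by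
      conv_lhs => rw [MvPolynomial.aeval_unique β]
      rfl
    rw [h1]
    change MvPolynomial.aeval b (MvPolynomial.map (algebraMap R (MvPolynomial (Fin n) R)) q) = _
    rw [MvPolynomial.aeval_def, MvPolynomial.eval₂_map, MvPolynomial.aeval_def,
      ← IsScalarTower.algebraMap_eq]
  have hθ : Function.Surjective θ := fun x => by
    obtain ⟨q, rfl⟩ := hβ x
    exact ⟨_, hθβ q⟩
  -- the finite cover `T ⧸ J`
  haveI : Algebra.FinitePresentation (MvPolynomial (Fin n) R)
      (MvPolynomial (Fin k) (MvPolynomial (Fin n) R) ⧸ Ideal.span (Set.range g)) :=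
    Algebra.FinitePresentation.quotient hJfg
  haveI : Module.Finite (MvPolynomial (Fin n) R)
      (MvPolynomial (Fin k) (MvPolynomial (Fin n) R) ⧸ Ideal.span (Set.range g)) := by
    let y : Fin k → (MvPolynomial (Fin k) (MvPolynomial (Fin n) R) ⧸ Ideal.span (Set.range g)) :=
      fun j => Ideal.Quotient.mk _ (MvPolynomial.X j)
    have hy : ∀ x ∈ Set.range y, IsIntegral (MvPolynomial (Fin n) R) x := by
      rintro _ ⟨j, rfl⟩
      refine ⟨P j, hPmonic j, ?_⟩
      change Polynomial.aeval (Ideal.Quotient.mkₐ (MvPolynomial (Fin n) R)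
        (Ideal.span (Set.range g)) (MvPolynomial.X j)) (P j) = 0
      rw [Polynomial.aeval_algHom_apply]
      exact Ideal.Quotient.eq_zero_iff_mem.mpr (Ideal.subset_span ⟨j, rfl⟩)
    have hadj : Algebra.adjoin (MvPolynomial (Fin n) R) (Set.range y) = ⊤ := by
      have h1 : Set.range y = (Ideal.Quotient.mkₐ (MvPolynomial (Fin n) R)
          (Ideal.span (Set.range g))) '' (Set.range (MvPolynomial.X :
            Fin k → MvPolynomial (Fin k) (MvPolynomial (Fin n) R))) := by
        rw [← Set.range_comp]; rfl
      rw [h1, ← AlgHom.map_adjoin, MvPolynomial.adjoin_range_X, Algebra.map_top,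
        AlgHom.range_eq_top]
      exact Ideal.Quotient.mkₐ_surjective _ _
    have h2 := fg_adjoin_of_finite (Set.finite_range y) hy
    rw [hadj] at h2
    exact ⟨h2⟩
  haveI : Module.FinitePresentation (MvPolynomial (Fin n) R)
      (MvPolynomial (Fin k) (MvPolynomial (Fin n) R) ⧸ Ideal.span (Set.range g)) :=
    Module.FinitePresentation.of_finite_of_finitePresentation (MvPolynomial (Fin n) R)
      (MvPolynomial (Fin k) (MvPolynomial (Fin n) R) ⧸ Ideal.span (Set.range g))
  let θ' : (MvPolynomial (Fin k) (MvPolynomial (Fin n) R) ⧸ Ideal.span (Set.range g))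
      →ₐ[MvPolynomial (Fin n) R] B := Ideal.Quotient.liftₐ _ θ hJ
  let θ'r : (MvPolynomial (Fin k) (MvPolynomial (Fin n) R) ⧸ Ideal.span (Set.range g)) →+* B :=
    θ'.toRingHom
  -- the chain of equivalences
  have c1 : Groth.Agent.Lib.Helper28.FPVia α.toRingHom M ↔ Groth.Agent.Lib.Helper28.FPVia φ M :=
    Groth.Agent.Lib.Helper28.fpVia_congr M α.toRingHom φ (fun s m => by
      change α s • m = algebraMap A B (α s) • m
      rw [algebraMap_smul])
  have c2 : Groth.Agent.Lib.Helper28.FPVia φ M ↔ Groth.Agent.Lib.Helper28.FPVia (S := MvPolynomial (Fin k) (MvPolynomial (Fin n) R) ⧸ Ideal.span (Set.range g)) θ'r M := by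
    have e : φ = θ'r.comp (algebraMap (MvPolynomial (Fin n) R) _) := by
      ext s
      · change algebraMap (MvPolynomial (Fin n) R) B (MvPolynomial.C s) =
          θ' (algebraMap (MvPolynomial (Fin n) R) _ (MvPolynomial.C s))
        rw [AlgHom.commutes]
      · change algebraMap (MvPolynomial (Fin n) R) B (MvPolynomial.X s) =
          θ' (algebraMap (MvPolynomial (Fin n) R) _ (MvPolynomial.X s))
        rw [AlgHom.commutes]
    rw [e]
    exact Groth.Agent.Lib.Helper28.fpVia_algebraMap_comp_iff (S := MvPolynomial (Fin n) R) (S' := MvPolynomial (Fin k) (MvPolynomial (Fin n) R) ⧸ Ideal.span (Set.range g)) M θ'r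
  have c3 : Groth.Agent.Lib.Helper28.FPVia (S := MvPolynomial (Fin k) (MvPolynomial (Fin n) R) ⧸ Ideal.span (Set.range g)) θ'r M ↔
      Groth.Agent.Lib.Helper28.FPVia θ.toRingHom M := by
    have e : θ.toRingHom = θ'r.comp (Ideal.Quotient.mk (Ideal.span (Set.range g))) :=
      RingHom.ext fun x => rfl
    rw [e]
    refine (Groth.Agent.Lib.Helper28.fpVia_comp_iff (S := MvPolynomial (Fin k) (MvPolynomial (Fin n) R) ⧸ Ideal.span (Set.range g)) M
      (Ideal.Quotient.mk (Ideal.span (Set.range g))) θ'r Ideal.Quotient.mk_surjective ?_).symm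
    rw [Ideal.mk_ker]; exact hJfg
  have c4 : Groth.Agent.Lib.Helper28.FPVia θ.toRingHom M ↔
      Groth.Agent.Lib.Helper28.FPVia (θ.toRingHom.comp
        (MvPolynomial.sumAlgEquiv R (Fin k) (Fin n)).toRingEquiv.toRingHom) M :=
    (Groth.Agent.Lib.Helper28.fpVia_comp_equiv M
      (MvPolynomial.sumAlgEquiv R (Fin k) (Fin n)).toRingEquiv θ.toRingHom).symm
  let γ : MvPolynomial (Fin k ⊕ Fin n) R →ₐ[R] B :=
    (θ.restrictScalars R).comp (MvPolynomial.sumAlgEquiv R (Fin k) (Fin n)).toAlgHom
  have hγ : Function.Surjective γ := hθ.comp (MvPolynomial.sumAlgEquiv R (Fin k) (Fin n)).surjective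
  have c5 : Groth.Agent.Lib.Helper28.FPVia γ.toRingHom M ↔
      Groth.Agent.Lib.Helper28.FPVia β.toRingHom M :=
    Groth.Agent.Lib.Helper28.fpVia_mvPolynomial_iff M γ hγ β hβ
  exact c1.trans (c2.trans (c3.trans (c4.trans c5)))

end Groth.Agent.S6992
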