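import Groth.Statements.S14729
import Mathlib
import Groth.Agent.Lib.Helper9.ValInter

set_option autoImplicit false
universe u
open ValPrufer

namespace Groth.Agent.S14729

open Groth.Agent.Lib.Helper9


/-- Let R be a semilocal Prüfer domain (an integral domain with finitely many maximal ideals whose
localisations at primes are valuation rings) with fraction field L, and let K ⊆ L be a subfield.
Then R ∩ K is again a semilocal Prüfer domain and its fraction field is K, i.e. every element of K
is a quotient of two elements of R ∩ K. -/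
theorem result
    (R L : Type u) [CommRing R] [IsDomain R] [Field L] [Algebra R L] [IsFractionRing R L]
    (hR : ∀ (p : Ideal R) [p.IsPrime], ValuationRing (Localization.AtPrime p))
    (hfin : Finite (MaximalSpectrum R)) (K : Subfield L) :
    (∀ (p : Ideal ↥((algebraMap R L).range ⊓ K.toSubring)) [p.IsPrime],
        ValuationRing (Localization.AtPrime p)) ∧
      Finite (MaximalSpectrum ↥((algebraMap R L).range ⊓ K.toSubring)) ∧
      ∀ x : L, x ∈ K → ∃ a b : L, a ∈ (algebraMap R L).range ⊓ K.toSubring ∧
        b ∈ (algebraMap R L).range ⊓ K.toSubring ∧ b ≠ 0 ∧ x = a / b := by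
  let W : MaximalSpectrum R → Subalgebra R L := fun m =>
    Localization.subalgebra.ofField L m.asIdeal.primeCompl m.asIdeal.primeCompl_le_nonZeroDivisors
  let V : MaximalSpectrum R → Subring L := fun m => (W m).toSubring
  have hne : Nonempty (MaximalSpectrum R) := by
    obtain ⟨m, hm⟩ := Ideal.exists_maximal R
    exact ⟨⟨m, hm⟩⟩
  have hlocW : ∀ m, IsLocalRing (W m) := fun m =>
    IsLocalization.AtPrime.isLocalRing (W m) m.asIdeal
  have hloc : ∀ m, IsLocalRing (V m) := fun m => hlocW m
  have hvalW : ∀ m, ValuationRing (W m) := by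
    intro m
    have := hR m.asIdeal
    let e := IsLocalization.algEquiv m.asIdeal.primeCompl (Localization.AtPrime m.asIdeal) (W m)
    exact Function.Surjective.valuationRing (e : Localization.AtPrime m.asIdeal →+* W m)
      e.surjective
  have hval : ∀ m (x : L), x ∈ V m ∨ x⁻¹ ∈ V m := by
    intro m x
    have := hvalW m
    rcases ValuationRing.isInteger_or_isInteger (W m) x with ⟨w, hw⟩ | ⟨w, hw⟩
    · left
      rw [← hw]
      exact w.2
    · right
      rw [← hw]
      exact w.2
  have hA : ∀ x, x ∈ (algebraMap R L).range ⊓ K.toSubring ↔ (∀ m, x ∈ V m) ∧ x ∈ K := by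
    intro x
    rw [Subring.mem_inf]
    refine and_congr ?_ Iff.rfl
    have h1 := MaximalSpectrum.iInf_localization_eq_bot R L
    have h2 : x ∈ (⊥ : Subalgebra R L) ↔ x ∈ (algebraMap R L).range := Algebra.mem_bot
    rw [← h2, ← h1, Algebra.mem_iInf]
    rfl
  refine ⟨fun p hp => ?_, ?_, ?_⟩
  · exact ValInter.valuationRing_localization V hval K _ hA p
  · exact ValInter.finite_maximalSpectrum V K _ hA
  · exact ValInter.exists_div_eq V hval K _ hA

end Groth.Agent.S14729
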