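import Groth.Statements.S14192
import Mathlib.RingTheory.PowerSeries.Log
import Mathlib.RingTheory.PowerSeries.Derivative
import Mathlib.Tactic.LinearCombination
import Mathlib.Tactic.FieldSimp
import Mathlib.Tactic.Positivity
import Mathlib.Algebra.BigOperators.Field

set_option autoImplicit false
open PowerSeries
open StackCount

namespace Groth.Agent.S14192

namespace ExpAux

/-- `exp` substituted at a series. -/
noncomputable def E (S : ℚ⟦X⟧) : ℚ⟦X⟧ := (PowerSeries.exp ℚ).subst S

lemma constantCoeff_E {S : ℚ⟦X⟧} (h : constantCoeff S = 0) : constantCoeff (E S) = 1 := by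
  have hS : HasSubst S := HasSubst.of_constantCoeff_zero' h
  have h1 : E S = (exp ℚ - 1).subst S + 1 := by
    rw [E, subst_sub hS, ← coe_substAlgHom hS, map_one]; ring
  have h2 : constantCoeff ((exp ℚ - 1).subst S) = 0 :=
    constantCoeff_subst_eq_zero (a := S) h (exp ℚ - 1) (by simp)
  rw [h1, map_add, h2, map_one, zero_add]

lemma derivative_E {S : ℚ⟦X⟧} (h : constantCoeff S = 0) :
    d⁄dX ℚ (E S) = E S * d⁄dX ℚ S := by
  have hS : HasSubst S := HasSubst.of_constantCoeff_zero' h
  rw [E, derivative_subst hS, derivative_exp]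

lemma ode_unique {F H G : ℚ⟦X⟧} (hF : d⁄dX ℚ F = F * G) (hH : d⁄dX ℚ H = H * G)
    (hc : constantCoeff F = constantCoeff H) : F = H := by
  rw [← sub_eq_zero]
  set D := F - H with hD
  have hD' : d⁄dX ℚ D = D * G := by rw [hD, map_sub, hF, hH, sub_mul]
  have hD0 : constantCoeff D = 0 := by rw [hD, map_sub, hc, sub_self]
  ext n
  induction n using Nat.strong_induction_on with
  | _ n ih =>
    cases n with
    | zero => simpa using hD0
    | succ n =>
      have h1 := congrArg (coeff n) hD'
      rw [coeff_derivative, coeff_mul] at h1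
      have h2 : ∑ p ∈ Finset.HasAntidiagonal.antidiagonal n, coeff p.1 D * coeff p.2 G = 0 := by
        refine Finset.sum_eq_zero fun p hp => ?_
        have : p.1 < n + 1 := by
          have := Finset.HasAntidiagonal.mem_antidiagonal.mp hp; lia
        rw [ih p.1 this]; simp
      rw [h2] at h1
      have h3 : ((n : ℚ) + 1) ≠ 0 := by positivity
      simpa [h3] using h1

lemma E_add {S₁ S₂ : ℚ⟦X⟧} (h₁ : constantCoeff S₁ = 0) (h₂ : constantCoeff S₂ = 0) :
    E (S₁ + S₂) = E S₁ * E S₂ := by
  have h12 : constantCoeff (S₁ + S₂) = 0 := by rw [map_add, h₁, h₂, add_zero]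
  apply ode_unique (G := d⁄dX ℚ S₁ + d⁄dX ℚ S₂)
  · rw [derivative_E h12, map_add]
  · rw [Derivation.leibniz, derivative_E h₁, derivative_E h₂]
    simp only [smul_eq_mul]; ring
  · rw [map_mul, constantCoeff_E h12, constantCoeff_E h₁, constantCoeff_E h₂, one_mul]

lemma E_zero : E 0 = 1 := by
  rw [E, subst_zero_eq_C_constantCoeff, constantCoeff_exp, map_one]
  simp

/-- the series `-log (1 - a X) = Σ_{v ≥ 1} a^v X^v / v`. -/
noncomputable def L (a : ℚ) : ℚ⟦X⟧ := PowerSeries.mk fun v : ℕ => if v = 0 then (0 : ℚ) else a ^ v / (v : ℚ)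

lemma constantCoeff_L (a : ℚ) : constantCoeff (L a) = 0 := by
  rw [← coeff_zero_eq_constantCoeff_apply, L, coeff_mk]; simp

lemma derivative_L_mul (a : ℚ) : d⁄dX ℚ (L a) * (1 - C a * X) = C a := by
  have h1 : d⁄dX ℚ (L a) = PowerSeries.mk fun n : ℕ => a ^ (n + 1) := by
    ext n
    rw [coeff_derivative, L, coeff_mk, coeff_mk, if_neg (Nat.succ_ne_zero n)]
    have : ((n : ℚ) + 1) ≠ 0 := by positivity
    push_cast
    field_simp
  rw [h1]
  ext n
  rw [mul_sub, mul_one, map_sub, ← mul_assoc, mul_comm _ (C a), mul_assoc, coeff_C_mul, coeff_mk]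
  cases n with
  | zero => simp
  | succ n => rw [coeff_succ_mul_X, coeff_mk, coeff_C, if_neg (Nat.succ_ne_zero n)]; ring

lemma E_L_mul (a : ℚ) : E (L a) * (1 - C a * X) = 1 := by
  apply derivative.ext
  · rw [Derivation.leibniz, derivative_E (constantCoeff_L a), derivative_one]
    have h2 : d⁄dX ℚ (1 - C a * X) = - C a := by
      rw [map_sub, derivative_one, Derivation.leibniz, derivative_C, derivative_X]; simp
    rw [h2]
    have := derivative_L_mul a
    simp only [smul_eq_mul]
    linear_combination (E (L a)) * this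
  · rw [map_mul, constantCoeff_E (constantCoeff_L a)]; simp

lemma E_nsmul {S : ℚ⟦X⟧} (h : constantCoeff S = 0) (m : ℕ) : E (m • S) = E S ^ m := by
  induction m with
  | zero => rw [zero_smul, E_zero, pow_zero]
  | succ m ih =>
    rw [succ_nsmul, E_add (by rw [map_nsmul, h, smul_zero]) h, ih, pow_succ]

lemma E_neg_mul {S : ℚ⟦X⟧} (h : constantCoeff S = 0) : E (-S) * E S = 1 := by
  rw [← E_add (by rw [map_neg, h, neg_zero]) h, neg_add_cancel, E_zero]

/-- the single factor identity. -/
lemma E_zsmul_L (a : ℚ) (r : ℤ) :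
    E (r • L a) * (1 - C a * X) ^ r.toNat = (1 - C a * X) ^ (-r).toNat := by
  have hL := constantCoeff_L a
  rcases le_total 0 r with hr | hr
  · obtain ⟨m, rfl⟩ := Int.eq_ofNat_of_zero_le hr
    have : (-(m : ℤ)).toNat = 0 := by simp
    rw [this, pow_zero, Int.toNat_natCast, natCast_zsmul, E_nsmul hL, ← mul_pow, E_L_mul, one_pow]
  · obtain ⟨m, hm⟩ := Int.eq_ofNat_of_zero_le (neg_nonneg.mpr hr)
    have hr' : r = -(m : ℤ) := by lia
    subst hr'
    have h0 : (-(m : ℤ)).toNat = 0 := by simp
    rw [h0, pow_zero, mul_one, neg_neg, Int.toNat_natCast, neg_smul, natCast_zsmul]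
    have h1 : E (-(m • L a)) * E (m • L a) = 1 := E_neg_mul (by rw [map_nsmul, hL, smul_zero])
    have h2 : E (m • L a) * (1 - C a * X) ^ m = 1 := by
      rw [E_nsmul hL, ← mul_pow, E_L_mul, one_pow]
    calc E (-(m • L a)) = E (-(m • L a)) * (E (m • L a) * (1 - C a * X) ^ m) := by rw [h2, mul_one]
      _ = (E (-(m • L a)) * E (m • L a)) * (1 - C a * X) ^ m := by ring
      _ = (1 - C a * X) ^ m := by rw [h1, one_mul]

lemma E_sum {ι : Type*} (s : Finset ι) (f : ι → ℚ⟦X⟧) (h : ∀ i ∈ s, constantCoeff (f i) = 0) :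
    E (∑ i ∈ s, f i) = ∏ i ∈ s, E (f i) := by
  classical
  induction s using Finset.induction_on with
  | empty => simp [E_zero]
  | insert i s hi ih =>
    rw [Finset.sum_insert hi, Finset.prod_insert hi, E_add (h i (Finset.mem_insert_self i s)), ih]
    · intro j hj; exact h j (Finset.mem_insert_of_mem hj)
    · rw [map_sum]
      exact Finset.sum_eq_zero fun j hj => h j (Finset.mem_insert_of_mem hj)

end ExpAux


open ExpAux in
/-- Let R = Σ_n r_n X^n be a Laurent polynomial with integer coefficients and q > 1 an integer. In the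
ring of formal power series in t over ℚ, the exponential of Σ_{v ≥ 1} R(q^v) t^v / v equals the
finite product Π_n (1 - q^n t)^(-r_n). Stated here with denominators cleared: the exponential series
multiplied by Π_{n : r_n > 0} (1 - q^n t)^(r_n) equals Π_{n : r_n < 0} (1 - q^n t)^(-r_n) (each
factor 1 - q^n t is a unit, so this is equivalent). -/
theorem result (R : LaurentPolynomial ℤ) (q : ℤ) (hq : 1 < q) :
    (PowerSeries.exp ℚ).subst
        (PowerSeries.mk fun v : ℕ => if v = 0 then (0 : ℚ)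
          else (R.coeff.sum fun (n : ℤ) (r : ℤ) => (r : ℚ) * (q : ℚ) ^ (n * (v : ℤ))) / (v : ℚ))
      * ∏ n ∈ R.coeff.support, (1 - PowerSeries.C ((q : ℚ) ^ n) * PowerSeries.X) ^ (R.coeff n).toNat
    = ∏ n ∈ R.coeff.support, (1 - PowerSeries.C ((q : ℚ) ^ n) * PowerSeries.X) ^ (-(R.coeff n)).toNat := by
  have hS : (PowerSeries.mk fun v : ℕ => if v = 0 then (0 : ℚ)
          else (R.coeff.sum fun (n : ℤ) (r : ℤ) => (r : ℚ) * (q : ℚ) ^ (n * (v : ℤ))) / (v : ℚ)) =
      ∑ n ∈ R.coeff.support, (R.coeff n) • L ((q : ℚ) ^ n) := by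
    ext v
    rw [coeff_mk, map_sum]
    by_cases hv : v = 0
    · subst hv
      rw [if_pos rfl]
      symm
      refine Finset.sum_eq_zero fun n _ => ?_
      rw [map_zsmul, coeff_zero_eq_constantCoeff_apply, constantCoeff_L, smul_zero]
    · rw [if_neg hv, Finsupp.sum, Finset.sum_div]
      refine Finset.sum_congr rfl fun n _ => ?_
      rw [map_zsmul, L, coeff_mk, if_neg hv, zpow_mul, zpow_natCast, zsmul_eq_mul]
      ring
  change E _ * _ = _
  rw [hS, E_sum _ _ (fun n _ => by rw [map_zsmul, constantCoeff_L, smul_zero]),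
    ← Finset.prod_mul_distrib]
  exact Finset.prod_congr rfl fun n _ => E_zsmul_L _ _

end Groth.Agent.S14192
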