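import Groth.Statements.S8914
import Mathlib
import Groth.Agent.Lib.Helper29.QCohLocFree
import Groth.Agent.Lib.Helper29.QCohIdealMod

set_option autoImplicit false
universe u
open CategoryTheory CategoryTheory.Limits AlgebraicGeometry TopologicalSpace
open SDiv

namespace Groth.Agent.S8914

/-- Let S be a scheme and D ⊆ S a closed subscheme with quasi-coherent ideal sheaf 𝓘. Then the ideal
sheaf of D is an invertible O_S-module (that is, D is an effective Cartier divisor) if and only if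
every point has an affine open neighbourhood Spec A in S with D ∩ Spec A = Spec A/(f) for a
nonzerodivisor f ∈ A. -/
theorem result {S : Scheme.{u}} (𝓘 : S.IdealSheafData) :
    PicF.IsInvertible (ClSub.idealMod 𝓘) ↔ BlowUp.IsEffCartierIdeal 𝓘 := by
  classical
  constructor
  · intro h x
    obtain ⟨V, hV, hxV, ⟨e⟩⟩ :=
      Groth.Agent.Lib.Helper29.QCoh.exists_affine_linearEquiv_of_isFinLocFreeOfRank
        ((Groth.Agent.Lib.Helper29.QCoh.isInvertible_iff_isFinLocFreeOfRank_one _).1 h) x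
    let U : S.affineOpens := ⟨V, hV⟩
    let e' : 𝓘.ideal U ≃ₗ[Γ(S, V)] (Fin 1 →₀ Γ(S, V)) :=
      (Groth.Agent.Lib.Helper29.QCoh.idealModSectionsEquiv 𝓘 U).symm ≪≫ₗ e
    let g : 𝓘.ideal U := e'.symm (Finsupp.single 0 1)
    refine ⟨U, hxV, (g : Γ(S, V)), ?_, ?_⟩
    · rw [mem_nonZeroDivisors_iff_right]
      intro c hc
      have h1 : c • g = 0 := Subtype.ext (by simpa using hc)
      have h2 : e'.symm (c • Finsupp.single 0 1) = 0 := by rw [map_smul]; exact h1
      have h3 : c • (Finsupp.single (0 : Fin 1) (1 : Γ(S, V))) = 0 := by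
        simpa using h2
      have h4 := DFunLike.congr_fun h3 (0 : Fin 1)
      simpa using h4
    · apply le_antisymm
      · intro a ha
        rw [Ideal.mem_span_singleton']
        refine ⟨e' ⟨a, ha⟩ 0, ?_⟩
        have h1 : e' ⟨a, ha⟩ = (e' ⟨a, ha⟩ 0) • Finsupp.single (0 : Fin 1) (1 : Γ(S, V)) := by
          refine Finsupp.ext (fun j => ?_)
          have hj : j = 0 := Subsingleton.elim _ _
          subst hj
          simp
        have h2 : (⟨a, ha⟩ : 𝓘.ideal U) = (e' ⟨a, ha⟩ 0) • g := by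
          rw [← map_smul, ← h1, LinearEquiv.symm_apply_apply]
        have h3 := congrArg Subtype.val h2
        simpa using h3.symm
      · rw [Ideal.span_singleton_le_iff_mem]
        exact g.2
  · intro h x
    obtain ⟨U, hxU, f, hf, hI⟩ := h x
    have hfI : ∀ a : Γ(S, U.1), a * f ∈ 𝓘.ideal U := by
      intro a
      rw [hI, Ideal.mem_span_singleton']
      exact ⟨a, rfl⟩
    let φ : Γ(S, U.1) →ₗ[Γ(S, U.1)] 𝓘.ideal U :=
      { toFun := fun a => ⟨a * f, hfI a⟩
        map_add' := fun a b => Subtype.ext (add_mul a b f)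
        map_smul' := fun r a => Subtype.ext (by simp [mul_assoc]) }
    have hφ : Function.Bijective φ := by
      constructor
      · rw [injective_iff_map_eq_zero]
        intro a ha
        have : a * f = 0 := congrArg Subtype.val ha
        exact (mem_nonZeroDivisors_iff_right.1 hf) a this
      · rintro ⟨b, hb⟩
        rw [hI, Ideal.mem_span_singleton'] at hb
        obtain ⟨a, rfl⟩ := hb
        exact ⟨a, rfl⟩
    let e : Γ(ClSub.idealMod 𝓘, U.1) ≃ₗ[Γ(S, U.1)] (Fin 1 →₀ Γ(S, U.1)) :=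
      Groth.Agent.Lib.Helper29.QCoh.idealModSectionsEquiv 𝓘 U ≪≫ₗ
        (LinearEquiv.ofBijective φ hφ).symm ≪≫ₗ
        (Finsupp.uniqueLinearEquiv Γ(S, U.1) Γ(S, U.1) (0 : Fin 1)).symm
    obtain ⟨ε⟩ := (Groth.Agent.Lib.Helper29.QCoh.isFreeAlong_iff_restrict _ U.1.ι 1).1
      (Groth.Agent.Lib.Helper29.QCoh.isFreeAlong_ι_of_linearEquiv (ClSub.idealMod 𝓘) U.2 e)
    exact ⟨U.1, hxU, ⟨ε ≪≫ Groth.Agent.Lib.Helper29.QCoh.freeModOneIso _⟩⟩

end Groth.Agent.S8914
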