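import Groth.Statements.S3549
import Mathlib

set_option autoImplicit false
universe u
open CategoryTheory CategoryTheory.Limits AlgebraicGeometry
open EGA2

namespace Groth.Agent.S3549

open CategoryTheory CategoryTheory.Limits AlgebraicGeometry TopologicalSpace Opposite

section
variable {R A : Type u} [CommRing R] [CommRing A] [Algebra R A] (𝒜 : ℕ → Submodule R A) [GradedAlgebra 𝒜]
variable {M : Type u} [AddCommGroup M] [Module R M] [Module A M] [IsScalarTower R A M]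
variable (ℳ : ℕ → Submodule R M) [DirectSum.Decomposition ℳ] [SetLike.GradedSMul 𝒜 ℳ]

omit [IsScalarTower R A M] [DirectSum.Decomposition ℳ] in
/-- every section of a zero module is zero -/
theorem section_eq_zero (h : IsZero (GrTilde.tilde 𝒜 ℳ 0)) (U : (Proj 𝒜).Opens)
    (s : GrTilde.sect 𝒜 ℳ 0 (op U)) : s = 0 := by
  have h1 : 𝟙 (GrTilde.tilde 𝒜 ℳ 0) = 0 := h.eq_of_src _ _
  have h2 := congrArg (fun φ : GrTilde.tilde 𝒜 ℳ 0 ⟶ GrTilde.tilde 𝒜 ℳ 0 =>
    (Scheme.Modules.Hom.app φ U).hom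
      (show ↑((Scheme.Modules.presheaf (GrTilde.tilde 𝒜 ℳ 0)).obj (op U)) from s)) h1
  exact h2

omit [IsScalarTower R A M] in
/-- if `u • z = 0` with `z` homogeneous then every homogeneous component of `u` kills `z` -/
theorem proj_smul_eq_zero {i : ℕ} {z : M} (hz : z ∈ ℳ i) (u : A) (hu : u • z = 0) (j : ℕ) :
    (GradedRing.proj 𝒜 j u) • z = 0 := by
  classical
  have h1 : u • z = ∑ k ∈ (DirectSum.decompose 𝒜 u).support, ((DirectSum.decompose 𝒜 u k : A)) • z := by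
    conv_lhs => rw [← DirectSum.sum_support_decompose 𝒜 u]
    rw [Finset.sum_smul]
  have h2 : ∀ k, ((DirectSum.decompose 𝒜 u k : A)) • z ∈ ℳ (k + i) := fun k =>
    SetLike.GradedSMul.smul_mem (DirectSum.decompose 𝒜 u k).2 hz
  have h3 := congrArg (fun m => ((DirectSum.decompose ℳ m (j + i) : ℳ (j + i)) : M)) (h1.symm.trans hu)
  simp only [DirectSum.decompose_sum, DirectSum.decompose_zero] at h3
  rw [DFinsupp.finsetSum_apply, AddSubmonoidClass.coe_finsetSum] at h3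
  have h4 : ∀ k ∈ (DirectSum.decompose 𝒜 u).support,
      ((DirectSum.decompose ℳ (((DirectSum.decompose 𝒜 u k : A)) • z) (j + i) : ℳ (j + i)) : M) =
        if k = j then ((DirectSum.decompose 𝒜 u k : A)) • z else 0 := by
    intro k _
    split_ifs with hk
    · subst hk
      exact DirectSum.decompose_of_mem_same ℳ (h2 k)
    · exact DirectSum.decompose_of_mem_ne ℳ (h2 k) (fun e => hk (by omega))
  rw [Finset.sum_congr rfl h4, Finset.sum_ite_eq'] at h3
  by_cases hj : j ∈ (DirectSum.decompose 𝒜 u).support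
  · simpa [hj, GradedRing.proj_apply] using h3
  · have : (DirectSum.decompose 𝒜 u j : A) = 0 := by
      simpa [DFinsupp.mem_support_iff] using hj
    simp [GradedRing.proj_apply, this]

omit [IsScalarTower R A M] [DirectSum.Decomposition ℳ] in
theorem exists_homogeneous_kill
    (hgen : (HomogeneousIdeal.irrelevant 𝒜).toIdeal = Ideal.span (𝒜 1 : Set A))
    (h : IsZero (GrTilde.tilde 𝒜 ℳ 0)) {i : ℕ} {z : M} (hz : z ∈ ℳ i)
    (x : ProjectiveSpectrum 𝒜) :
    ∃ c : A, c ∉ x.asHomogeneousIdeal ∧ c • z = 0 := by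
  -- a degree one element outside `x`
  obtain ⟨g, hg, hgx⟩ : ∃ g ∈ 𝒜 1, g ∉ x.asHomogeneousIdeal := by
    by_contra! hcon
    refine x.not_irrelevant_le ?_
    show (HomogeneousIdeal.irrelevant 𝒜).toIdeal ≤ x.asHomogeneousIdeal.toIdeal
    rw [hgen, Ideal.span_le]
    exact fun a ha => hcon a ha
  have hgi : g ^ i ∈ 𝒜 i := by simpa using SetLike.pow_mem_graded i hg
  let U : Opens (ProjectiveSpectrum.top 𝒜) := ProjectiveSpectrum.basicOpen 𝒜 g
  have hnin : ∀ y : U, g ^ i ∉ y.1.asHomogeneousIdeal := fun y hmem =>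
    y.2 (y.1.isPrime.mem_of_pow_mem i hmem)
  let s : GrTilde.sect 𝒜 ℳ 0 (op U) :=
    ⟨fun y => ⟨LocalizedModule.mk z ⟨g ^ i, hnin y⟩,
      Submodule.subset_span ⟨i, i, ⟨z, hz⟩, ⟨g ^ i, hgi⟩, hnin y, by simp, rfl⟩⟩,
     fun y => ⟨U, y.2, 𝟙 _, i, i, ⟨z, hz⟩, ⟨g ^ i, hgi⟩, hnin, Or.inl (by simp), fun _ => rfl⟩⟩
  have hs : s = 0 := section_eq_zero 𝒜 ℳ h U s
  have hsx : (s.1 ⟨x, hgx⟩).1 = 0 := by rw [hs]; rfl
  have hmk : LocalizedModule.mk z ⟨g ^ i, hnin ⟨x, hgx⟩⟩ =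
      (0 : LocalizedModule x.asHomogeneousIdeal.toIdeal.primeCompl M) := hsx
  rw [← LocalizedModule.zero_mk 1, LocalizedModule.mk_eq] at hmk
  obtain ⟨c, hc⟩ := hmk
  refine ⟨c.1, c.2, ?_⟩
  simpa [Submonoid.smul_def] using hc

omit [IsScalarTower R A M] in
theorem pow_smul_eq_zero_of_homogeneous
    (hgen : (HomogeneousIdeal.irrelevant 𝒜).toIdeal = Ideal.span (𝒜 1 : Set A))
    (h : IsZero (GrTilde.tilde 𝒜 ℳ 0)) {i : ℕ} {z : M} (hz : z ∈ ℳ i) {d : ℕ} (hd : 0 < d)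
    {f : A} (hf : f ∈ 𝒜 d) : ∃ k : ℕ, f ^ k • z = 0 := by
  classical
  let J : Ideal A := Ideal.span {u | SetLike.IsHomogeneousElem 𝒜 u ∧ u • z = 0}
  have hJhom : J.IsHomogeneous 𝒜 := Ideal.homogeneous_span 𝒜 _ (fun u hu => hu.1)
  have hJann : ∀ a ∈ J, a • z = 0 := by
    intro a ha
    refine Submodule.span_induction (p := fun a _ => a • z = 0) ?_ ?_ ?_ ?_ ha
    · intro u hu; exact hu.2
    · simp
    · intro a b _ _ ha hb; rw [add_smul, ha, hb, add_zero]
    · intro r a _ ha; rw [smul_eq_mul, mul_smul, ha, smul_zero]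
  have hfrad : f ∈ J.radical := by
    rw [hJhom.radical_eq, Ideal.mem_sInf]
    rintro P ⟨hPhom, hJP, hPprime⟩
    by_contra hfP
    have hirr : ¬ HomogeneousIdeal.irrelevant 𝒜 ≤ ⟨P, hPhom⟩ := by
      intro hle
      apply hfP
      apply hle
      show f ∈ HomogeneousIdeal.irrelevant 𝒜
      rw [HomogeneousIdeal.mem_irrelevant_iff, GradedRing.proj_apply,
        DirectSum.decompose_of_mem_ne 𝒜 hf (by omega)]
    let x : ProjectiveSpectrum 𝒜 := ⟨⟨P, hPhom⟩, hPprime, hirr⟩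
    obtain ⟨c, hcx, hcz⟩ := exists_homogeneous_kill 𝒜 ℳ hgen h hz x
    have : ∃ j, GradedRing.proj 𝒜 j c ∉ P := by
      by_contra! hall
      apply hcx
      show c ∈ P
      rw [← DirectSum.sum_support_decompose 𝒜 c]
      exact P.sum_mem (fun j _ => hall j)
    obtain ⟨j, hj⟩ := this
    apply hj
    apply hJP
    apply Ideal.subset_span
    exact ⟨⟨j, (DirectSum.decompose 𝒜 c j).2⟩, proj_smul_eq_zero 𝒜 ℳ hz c hcz j⟩
  obtain ⟨k, hk⟩ := hfrad
  exact ⟨k, hJann _ hk⟩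
end

/-- Let S be a graded ring whose irrelevant ideal S_+ is generated by the degree-one elements, M a
graded S-module and X = Proj S. If the O_X-module M~ is zero, then for every z in M and every
homogeneous f of positive degree some power of f annihilates z. -/
theorem result {R A : Type u} [CommRing R] [CommRing A] [Algebra R A] (𝒜 : ℕ → Submodule R A) [GradedAlgebra 𝒜]
    (hgen : (HomogeneousIdeal.irrelevant 𝒜).toIdeal = Ideal.span (𝒜 1 : Set A))
    {M : Type u} [AddCommGroup M] [Module R M] [Module A M] [IsScalarTower R A M] (ℳ : ℕ → Submodule R M) [DirectSum.Decomposition ℳ] [SetLike.GradedSMul 𝒜 ℳ]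
    (h : IsZero (GrTilde.tilde 𝒜 ℳ 0)) (z : M) (d : ℕ) (f : A) (hd : 0 < d) (hf : f ∈ 𝒜 d) :
    ∃ k : ℕ, f ^ k • z = 0 := by
  classical
  have key : ∀ i, ∃ k : ℕ, f ^ k • ((DirectSum.decompose ℳ z i : ℳ i) : M) = 0 := fun i =>
    pow_smul_eq_zero_of_homogeneous 𝒜 ℳ hgen h (DirectSum.decompose ℳ z i).2 hd hf
  choose k hk using key
  obtain ⟨K, hK⟩ : ∃ K, ∀ i ∈ (DirectSum.decompose ℳ z).support, k i ≤ K :=
    ⟨(DirectSum.decompose ℳ z).support.sup k, fun i hi => Finset.le_sup hi⟩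
  refine ⟨K, ?_⟩
  rw [← DirectSum.sum_support_decompose ℳ z, Finset.smul_sum]
  apply Finset.sum_eq_zero
  intro i hi
  obtain ⟨e, he⟩ := Nat.exists_eq_add_of_le (hK i hi)
  rw [he, pow_add, mul_comm, mul_smul, hk i, smul_zero]

end Groth.Agent.S3549
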