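import Groth.Statements.S3587
import Mathlib

set_option autoImplicit false
universe u
open CategoryTheory AlgebraicGeometry Opposite TopologicalSpace
open EGA2

namespace Groth.Agent.S3587

section helpers

variable {R A : Type u} [CommRing R] [CommRing A] [Algebra R A] (𝒜 : ℕ → Submodule R A) [GradedAlgebra 𝒜]
    {M : Type u} [AddCommGroup M] [Module R M] [Module A M] (ℳ : ℕ → Submodule R M)
    [DirectSum.Decomposition ℳ] [SetLike.GradedSMul 𝒜 ℳ]

/-- the annihilator of a homogeneous element is a homogeneous ideal -/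
theorem torsionOf_isHomogeneous (i : ℕ) (m : M) (hm : m ∈ ℳ i) :
    (Ideal.torsionOf A M m).IsHomogeneous 𝒜 := by
  classical
  intro j a ha
  rw [Ideal.mem_torsionOf_iff] at ha ⊢
  have hsum : a • m = ∑ k ∈ (DirectSum.decompose 𝒜 a).support, (DirectSum.decompose 𝒜 a k : A) • m := by
    conv_lhs => rw [← DirectSum.sum_support_decompose 𝒜 a]
    rw [Finset.sum_smul]
  have hmem : ∀ k, (DirectSum.decompose 𝒜 a k : A) • m ∈ ℳ (k + i) := fun k =>
    SetLike.GradedSMul.smul_mem (DirectSum.decompose 𝒜 a k).2 hm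
  have h0 : DirectSum.decompose ℳ (a • m) (j + i) = 0 := by rw [ha, DirectSum.decompose_zero]; rfl
  rw [hsum, DirectSum.decompose_sum, DFinsupp.finsetSum_apply] at h0
  have h1 : ∀ k ∈ (DirectSum.decompose 𝒜 a).support, 
      DirectSum.decompose ℳ ((DirectSum.decompose 𝒜 a k : A) • m) (j + i) = 
        if k = j then ⟨(DirectSum.decompose 𝒜 a j : A) • m, hmem j⟩ else 0 := by
    intro k _
    rw [DirectSum.decompose_of_mem ℳ (hmem k)]
    split_ifs with hk
    · subst hk
      rw [DirectSum.of_eq_same]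
    · rw [DirectSum.of_eq_of_ne]
      omega
  rw [Finset.sum_congr rfl h1, Finset.sum_ite_eq'] at h0
  split_ifs at h0 with hj
  · exact congrArg Subtype.val h0
  · rw [DFinsupp.notMem_support_iff] at hj
    rw [hj]
    simp

end helpers

/-- Let S be a graded ring, M a graded S-module, f a homogeneous element of degree d > 0 and m a
homogeneous element of M. If the fraction m/f^k vanishes in the localized module M_x for every point
x of D_+(f), then f^N m = 0 for some N (so m/f^k = 0 in M_(f)); this is the injectivity half of the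
identification of the sections of M~ over D_+(f) with M_(f). -/
theorem result {R A : Type u} [CommRing R] [CommRing A] [Algebra R A] (𝒜 : ℕ → Submodule R A) [GradedAlgebra 𝒜]
    {M : Type u} [AddCommGroup M] [Module R M] [Module A M] [IsScalarTower R A M] (ℳ : ℕ → Submodule R M) [DirectSum.Decomposition ℳ] [SetLike.GradedSMul 𝒜 ℳ] {d : ℕ} (hd : 0 < d) {f : A} (hf : f ∈ 𝒜 d) (k i : ℕ) (m : ℳ i)
    (h : ∀ x : ProjectiveSpectrum.basicOpen 𝒜 f,
      (LocalizedModule.mk m.1 ⟨f ^ k, fun h => (ProjectiveSpectrum.mem_basicOpen 𝒜 f x.1).mp x.2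
        (x.1.isPrime.mem_of_pow_mem k h)⟩ : GrTilde.LocMod 𝒜 (M := M) x.1) = 0) :
    ∃ N : ℕ, f ^ N • m.1 = 0 := by
  set I := Ideal.torsionOf A M m.1 with hI
  have hIh : I.IsHomogeneous 𝒜 := torsionOf_isHomogeneous 𝒜 ℳ i m.1 m.2
  suffices hrad : f ∈ I.radical by
    obtain ⟨N, hN⟩ := hrad
    exact ⟨N, (Ideal.mem_torsionOf_iff _ _).1 hN⟩
  by_contra hfr
  rw [Ideal.radical_eq_sInf, Submodule.mem_sInf] at hfr
  push Not at hfr
  obtain ⟨(P : Ideal A), ⟨hIP, hP⟩, hfP⟩ := hfr
  have hcore_prime : (P.homogeneousCore 𝒜).toIdeal.IsPrime := hP.homogeneousCore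
  have hcore_le : (P.homogeneousCore 𝒜).toIdeal ≤ P := Ideal.toIdeal_homogeneousCore_le 𝒜 P
  have hI_core : I ≤ (P.homogeneousCore 𝒜).toIdeal := by
    rw [← hIh.toIdeal_homogeneousCore_eq_self]
    exact Ideal.homogeneousCore_mono 𝒜 hIP
  have hf_core : f ∉ (P.homogeneousCore 𝒜).toIdeal := fun hh => hfP (hcore_le hh)
  have hrel : ¬ HomogeneousIdeal.irrelevant 𝒜 ≤ P.homogeneousCore 𝒜 := by
    intro hle
    apply hf_core
    apply hle
    rw [HomogeneousIdeal.mem_irrelevant_iff, GradedRing.proj_apply,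
      DirectSum.decompose_of_mem_ne 𝒜 hf (Nat.pos_iff_ne_zero.mp hd)]
  let x : ProjectiveSpectrum 𝒜 := ⟨P.homogeneousCore 𝒜, hcore_prime, hrel⟩
  have hx : x ∈ ProjectiveSpectrum.basicOpen 𝒜 f := hf_core
  have h0 := h ⟨x, hx⟩
  rw [← LocalizedModule.zero_mk (1 : x.asHomogeneousIdeal.toIdeal.primeCompl), LocalizedModule.mk_eq] at h0
  obtain ⟨⟨t, ht⟩, htm⟩ := h0
  simp only [smul_zero, one_smul, Submonoid.mk_smul] at htm
  exact ht (hI_core ((Ideal.mem_torsionOf_iff _ _).2 htm))

end Groth.Agent.S3587
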