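import Groth.Statements.S3586
import Mathlib
import Groth.Agent.S3587

set_option autoImplicit false
universe u
open CategoryTheory AlgebraicGeometry Opposite TopologicalSpace
open EGA2

namespace Groth.Agent.S3586

section helpers

variable {R A : Type u} [CommRing R] [CommRing A] [Algebra R A] (𝒜 : ℕ → Submodule R A) [GradedAlgebra 𝒜]
    {M : Type u} [AddCommGroup M] [Module R M] [Module A M] [IsScalarTower R A M]
    (ℳ : ℕ → Submodule R M) [DirectSum.Decomposition ℳ] [SetLike.GradedSMul 𝒜 ℳ]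

/-- projective Nullstellensatz, in the form needed -/
theorem mem_radical_span (H : Set A) (hH : ∀ h ∈ H, ∃ e, h ∈ 𝒜 e) {d : ℕ} (hd : 0 < d) {g : A}
    (hg : g ∈ 𝒜 d)
    (hcov : ∀ y : ProjectiveSpectrum 𝒜, g ∉ y.asHomogeneousIdeal →
      ∃ h ∈ H, h ∉ y.asHomogeneousIdeal) :
    g ∈ (Ideal.span H).radical := by
  by_contra hfr
  rw [Ideal.radical_eq_sInf, Submodule.mem_sInf] at hfr
  push Not at hfr
  obtain ⟨(P : Ideal A), ⟨hIP, hP⟩, hfP⟩ := hfr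
  have hcore_prime : (P.homogeneousCore 𝒜).toIdeal.IsPrime := hP.homogeneousCore
  have hcore_le : (P.homogeneousCore 𝒜).toIdeal ≤ P := Ideal.toIdeal_homogeneousCore_le 𝒜 P
  have hf_core : g ∉ (P.homogeneousCore 𝒜).toIdeal := fun hh => hfP (hcore_le hh)
  have hrel : ¬ HomogeneousIdeal.irrelevant 𝒜 ≤ P.homogeneousCore 𝒜 := by
    intro hle
    apply hf_core
    apply hle
    rw [HomogeneousIdeal.mem_irrelevant_iff, GradedRing.proj_apply,
      DirectSum.decompose_of_mem_ne 𝒜 hg (Nat.pos_iff_ne_zero.mp hd)]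
  let x : ProjectiveSpectrum 𝒜 := ⟨P.homogeneousCore 𝒜, hcore_prime, hrel⟩
  obtain ⟨h, hhH, hhx⟩ := hcov x hf_core
  apply hhx
  obtain ⟨e, he⟩ := hH h hhH
  exact Ideal.mem_homogeneousCore_of_homogeneous_of_mem ⟨e, he⟩ (hIP (Ideal.subset_span hhH))

omit [Module R M] [IsScalarTower R A M] in
theorem eq_mk_of_smul_eq (x : ProjectiveSpectrum 𝒜) (t : A) (ht : t ∉ x.asHomogeneousIdeal)
    (q : GrTilde.LocMod 𝒜 (M := M) x) (m : M)
    (h : t • q = LocalizedModule.mk m 1) :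
    q = LocalizedModule.mk m ⟨t, ht⟩ := by
  rw [LocalizedModule.smul_eq_iff_of_mem (hr := ht)] at h
  rw [h, LocalizedModule.mk_smul_mk, one_smul, mul_one]

omit [Module R M] [IsScalarTower R A M] in
theorem smul_mk_self (x : ProjectiveSpectrum 𝒜) (t : A) (ht : t ∉ x.asHomogeneousIdeal) (m : M) :
    t • (LocalizedModule.mk m ⟨t, ht⟩ : GrTilde.LocMod 𝒜 (M := M) x) = LocalizedModule.mk m 1 := by
  rw [LocalizedModule.smul'_mk]
  exact LocalizedModule.mk_cancel (⟨t, ht⟩ : x.asHomogeneousIdeal.toIdeal.primeCompl) m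

omit [Module R M] [IsScalarTower R A M] in
theorem smul_left_cancel' (x : ProjectiveSpectrum 𝒜) (t : A) (ht : t ∉ x.asHomogeneousIdeal)
    (q q' : GrTilde.LocMod 𝒜 (M := M) x) (h : t • q = t • q') : q = q' := by
  have h2 : t • (q - q') = 0 := by rw [smul_sub, h, sub_self]
  have := LocalizedModule.eq_zero_of_smul_eq_zero t ht _ h2
  exact sub_eq_zero.1 this

theorem local_frac (n : ℤ) {d : ℕ} (hd : 0 < d) {f : A} (hf : f ∈ 𝒜 d)
    (s : GrTilde.sect 𝒜 ℳ n (op (ProjectiveSpectrum.basicOpen 𝒜 f)))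
    (x : ProjectiveSpectrum.basicOpen 𝒜 f) :
    ∃ (V : Opens (ProjectiveSpectrum.top 𝒜)) (i' j : ℕ) (m : M) (t : A),
      x.1 ∈ V ∧ m ∈ ℳ i' ∧ t ∈ 𝒜 j ∧ (i' : ℤ) = j + n ∧
      ∀ y : ProjectiveSpectrum.basicOpen 𝒜 f, y.1 ∈ V → t ∉ y.1.asHomogeneousIdeal ∧
        t • ((s.1 y : GrTilde.tildeAt 𝒜 ℳ n y.1) : GrTilde.LocMod 𝒜 (M := M) y.1) =
          LocalizedModule.mk m 1 := by
  obtain ⟨V, hxV, iVU, i', j, ⟨m, hm⟩, ⟨t, ht⟩, nin, cond, w⟩ := s.2 x
  rcases cond with cond | cond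
  · refine ⟨V, i', j, m, t, hxV, hm, ht, cond, ?_⟩
    intro y hyV
    have hw : ((s.1 y : GrTilde.tildeAt 𝒜 ℳ n y.1) : GrTilde.LocMod 𝒜 (M := M) y.1) =
        LocalizedModule.mk m ⟨t, nin ⟨y.1, hyV⟩⟩ := w ⟨y.1, hyV⟩
    refine ⟨nin ⟨y.1, hyV⟩, ?_⟩
    rw [hw]
    exact smul_mk_self 𝒜 y.1 t _ m
  · have hm0 : m = 0 := cond
    subst hm0
    have hN : (0 : ℤ) ≤ ((n.natAbs + 1) • d : ℕ) + n := by
      have h1 : (n.natAbs + 1) ≤ (n.natAbs + 1) * d := Nat.le_mul_of_pos_right _ hd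
      rw [smul_eq_mul]
      generalize (n.natAbs + 1) * d = Q at h1 ⊢
      omega
    refine ⟨V, (((n.natAbs + 1) • d : ℕ) + n).toNat, (n.natAbs + 1) • d, 0, f ^ (n.natAbs + 1),
      hxV, zero_mem _, SetLike.pow_mem_graded _ hf, Int.toNat_of_nonneg hN, ?_⟩
    intro y hyV
    have hw : ((s.1 y : GrTilde.tildeAt 𝒜 ℳ n y.1) : GrTilde.LocMod 𝒜 (M := M) y.1) =
        LocalizedModule.mk 0 ⟨t, nin ⟨y.1, hyV⟩⟩ := w ⟨y.1, hyV⟩
    refine ⟨fun h => y.2 (y.1.isPrime.mem_of_pow_mem _ h), ?_⟩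
    rw [hw, LocalizedModule.zero_mk, LocalizedModule.zero_mk, smul_zero]

theorem local_form (n : ℤ) {d : ℕ} (hd : 0 < d) {f : A} (hf : f ∈ 𝒜 d)
    (s : GrTilde.sect 𝒜 ℳ n (op (ProjectiveSpectrum.basicOpen 𝒜 f)))
    (x : ProjectiveSpectrum.basicOpen 𝒜 f) :
    ∃ (e : ℕ) (h : A) (i : ℕ) (m : M), 0 < e ∧ h ∈ 𝒜 e ∧ m ∈ ℳ i ∧ (i : ℤ) = e + n ∧
      h ∉ x.1.asHomogeneousIdeal ∧
      (∀ y : ProjectiveSpectrum 𝒜, h ∉ y.asHomogeneousIdeal → f ∉ y.asHomogeneousIdeal) ∧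
      ∀ y : ProjectiveSpectrum.basicOpen 𝒜 f, h ∉ y.1.asHomogeneousIdeal →
        h • ((s.1 y : GrTilde.tildeAt 𝒜 ℳ n y.1) : GrTilde.LocMod 𝒜 (M := M) y.1) =
          LocalizedModule.mk m 1 := by
  classical
  obtain ⟨V, i', j, m, t, hxV, hm, ht, hij, hV⟩ := local_frac 𝒜 ℳ n hd hf s x
  obtain ⟨_, ⟨a, rfl⟩, hxa, haV⟩ :=
    (ProjectiveSpectrum.isTopologicalBasis_basic_opens 𝒜).exists_subset_of_mem_open hxV V.2
  have hex : ∃ k, (DirectSum.decompose 𝒜 a k : A) ∉ x.1.asHomogeneousIdeal := by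
    by_contra hcon
    push Not at hcon
    apply hxa
    rw [← DirectSum.sum_support_decompose 𝒜 a]
    exact Ideal.sum_mem _ (fun k _ => hcon k)
  obtain ⟨k, hk⟩ := hex
  obtain ⟨ak, hak_def⟩ : ∃ ak : A, ak = (DirectSum.decompose 𝒜 a k : A) := ⟨_, rfl⟩
  rw [← hak_def] at hk
  have hak : ak ∈ 𝒜 k := hak_def ▸ (DirectSum.decompose 𝒜 a k).2
  have hakf : ak * f ∈ 𝒜 (k + d) := SetLike.mul_mem_graded hak hf
  refine ⟨k + d + j, ak * f * t, k + d + i', (ak * f) • m, by omega,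
    SetLike.mul_mem_graded hakf ht, SetLike.GradedSMul.smul_mem hakf hm, by push_cast; omega, ?_,
    ?_, ?_⟩
  · intro hmem
    rcases x.1.isPrime.mem_or_mem hmem with h1 | h1
    · rcases x.1.isPrime.mem_or_mem h1 with h2 | h2
      · exact hk h2
      · exact x.2 h2
    · exact (hV x hxV).1 h1
  · intro y hy hfy
    exact hy (Ideal.mul_mem_right _ _ (Ideal.mul_mem_left _ _ hfy))
  · intro y hy
    have hak_y : ak ∉ y.1.asHomogeneousIdeal := fun h =>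
      hy (Ideal.mul_mem_right _ _ (Ideal.mul_mem_right _ _ h))
    have ha_y : a ∉ y.1.asHomogeneousIdeal := fun h =>
      hak_y (hak_def ▸ y.1.asHomogeneousIdeal.isHomogeneous k h)
    have hyV : y.1 ∈ V := haV ha_y
    obtain ⟨hty, hσ⟩ := hV y hyV
    rw [mul_smul, hσ, LocalizedModule.smul'_mk]

omit [Module R M] [IsScalarTower R A M] in
theorem mk_eq_zero_of_mk_one (x : ProjectiveSpectrum 𝒜) (w : M)
    (s : x.asHomogeneousIdeal.toIdeal.primeCompl)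
    (h : (LocalizedModule.mk w 1 : GrTilde.LocMod 𝒜 (M := M) x) = 0) :
    (LocalizedModule.mk w s : GrTilde.LocMod 𝒜 (M := M) x) = 0 := by
  rw [← LocalizedModule.zero_mk (1 : x.asHomogeneousIdeal.toIdeal.primeCompl),
    LocalizedModule.mk_eq] at h ⊢
  obtain ⟨u, hu⟩ := h
  refine ⟨u, ?_⟩
  simp only [one_smul, smul_zero] at hu ⊢
  exact hu

omit [Module R M] [IsScalarTower R A M] in
theorem mk_one_sub (x : ProjectiveSpectrum 𝒜) (a b : A) (m m' : M) :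
    (LocalizedModule.mk (a • m - b • m') 1 : GrTilde.LocMod 𝒜 (M := M) x) =
      a • LocalizedModule.mk m 1 - b • LocalizedModule.mk m' 1 := by
  have := (LocalizedModule.mkLinearMap x.asHomogeneousIdeal.toIdeal.primeCompl M).map_sub
    (a • m) (b • m')
  rw [LocalizedModule.mkLinearMap_apply, LocalizedModule.mkLinearMap_apply,
    LocalizedModule.mkLinearMap_apply] at this
  rw [this, LocalizedModule.smul'_mk, LocalizedModule.smul'_mk]

theorem pair_kill {f : A}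
    (σ : ∀ y : ProjectiveSpectrum.basicOpen 𝒜 f, GrTilde.LocMod 𝒜 (M := M) y.1)
    (n : ℤ) {e e' i i' : ℕ} {h h' : A} {m m' : M} (he : 0 < e) (hh : h ∈ 𝒜 e) (hh' : h' ∈ 𝒜 e')
    (hm : m ∈ ℳ i) (hm' : m' ∈ ℳ i') (hi : (i : ℤ) = e + n) (hi' : (i' : ℤ) = e' + n)
    (hU : ∀ y : ProjectiveSpectrum 𝒜, h ∉ y.asHomogeneousIdeal → f ∉ y.asHomogeneousIdeal)
    (hσ : ∀ y : ProjectiveSpectrum.basicOpen 𝒜 f, h ∉ y.1.asHomogeneousIdeal →
        h • σ y = LocalizedModule.mk m 1)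
    (hσ' : ∀ y : ProjectiveSpectrum.basicOpen 𝒜 f, h' ∉ y.1.asHomogeneousIdeal →
        h' • σ y = LocalizedModule.mk m' 1) :
    ∃ N : ℕ, (h * h') ^ N • (h' • m - h • m') = 0 := by
  have hw : h' • m - h • m' ∈ ℳ (e' + i) := by
    refine sub_mem (SetLike.GradedSMul.smul_mem hh' hm) ?_
    have : e' + i = e + i' := by omega
    rw [this]
    exact SetLike.GradedSMul.smul_mem hh hm'
  refine Groth.Agent.S3587.result 𝒜 ℳ (d := e + e') (by omega) (SetLike.mul_mem_graded hh hh')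
    0 (e' + i) ⟨_, hw⟩ ?_
  intro y
  have hy1 : h ∉ y.1.asHomogeneousIdeal := fun hc => y.2 (Ideal.mul_mem_right _ _ hc)
  have hy2 : h' ∉ y.1.asHomogeneousIdeal := fun hc => y.2 (Ideal.mul_mem_left _ _ hc)
  have hyU : f ∉ y.1.asHomogeneousIdeal := hU y.1 hy1
  have e1 := hσ ⟨y.1, hyU⟩ hy1
  have e2 := hσ' ⟨y.1, hyU⟩ hy2
  apply mk_eq_zero_of_mk_one
  rw [mk_one_sub, ← e1, ← e2, smul_comm, sub_self]

theorem glue {d : ℕ} (hd : 0 < d) {f : A} (hf : f ∈ 𝒜 d) (n : ℤ)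
    (σ : ∀ y : ProjectiveSpectrum.basicOpen 𝒜 f, GrTilde.LocMod 𝒜 (M := M) y.1)
    (hloc : ∀ x : ProjectiveSpectrum.basicOpen 𝒜 f,
      ∃ (e : ℕ) (h : A) (i : ℕ) (m : M), 0 < e ∧ h ∈ 𝒜 e ∧ m ∈ ℳ i ∧ (i : ℤ) = e + n ∧
      h ∉ x.1.asHomogeneousIdeal ∧
      (∀ y : ProjectiveSpectrum 𝒜, h ∉ y.asHomogeneousIdeal → f ∉ y.asHomogeneousIdeal) ∧
      ∀ y : ProjectiveSpectrum.basicOpen 𝒜 f, h ∉ y.1.asHomogeneousIdeal →
        h • σ y = LocalizedModule.mk m 1) :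
    ∃ (k i : ℕ) (m : M), m ∈ ℳ i ∧ (i : ℤ) = k * d + n ∧
      ∀ y : ProjectiveSpectrum.basicOpen 𝒜 f, f ^ k • σ y = LocalizedModule.mk m 1 := by
  classical
  choose e h i m he hh hm hi hx hU hσ using hloc
  -- pairwise compatibility up to a power
  have pair : ∀ x x' : ProjectiveSpectrum.basicOpen 𝒜 f,
      ∃ N : ℕ, (h x * h x') ^ N • (h x' • m x - h x • m x') = 0 := fun x x' =>
    pair_kill 𝒜 ℳ σ n (he x) (hh x) (hh x') (hm x) (hm x') (hi x) (hi x') (hU x) (hσ x) (hσ x')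
  choose Nf hNf using pair
  -- first Nullstellensatz: a finite subfamily covers
  have hrad := mem_radical_span 𝒜 (Set.range h) (by rintro _ ⟨x, rfl⟩; exact ⟨e x, hh x⟩) hd hf
    (fun y hy => ⟨h ⟨y, hy⟩, ⟨_, rfl⟩, hx ⟨y, hy⟩⟩)
  obtain ⟨K, hK⟩ := hrad
  rw [Ideal.span, Finsupp.mem_span_range_iff_exists_finsupp] at hK
  obtain ⟨c, hc⟩ := hK
  obtain ⟨S, hS⟩ : ∃ S : Finset (ProjectiveSpectrum.basicOpen 𝒜 f), S = c.support := ⟨_, rfl⟩
  have cover : ∀ y : ProjectiveSpectrum.basicOpen 𝒜 f, ∃ x ∈ S, h x ∉ y.1.asHomogeneousIdeal := by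
    intro y
    by_contra hcon
    push Not at hcon
    apply y.2
    apply y.1.isPrime.mem_of_pow_mem K
    rw [← hc]
    refine Ideal.sum_mem _ (fun x hxS => ?_)
    exact Ideal.mul_mem_left _ _ (hcon x (hS ▸ hxS))
  -- uniform exponent
  obtain ⟨N, hNdef⟩ : ∃ N : ℕ, N = S.sup (fun x => S.sup (fun x' => Nf x x')) := ⟨_, rfl⟩
  have hN : ∀ x ∈ S, ∀ x' ∈ S, (h x * h x') ^ N • (h x' • m x - h x • m x') = 0 := by
    intro x hxS x' hx'S
    have hle : Nf x x' ≤ N := by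
      rw [hNdef]
      exact le_trans (Finset.le_sup (f := fun x' => Nf x x') hx'S)
        (Finset.le_sup (f := fun x => S.sup (fun x' => Nf x x')) hxS)
    obtain ⟨r, hr⟩ := Nat.exists_eq_add_of_le hle
    rw [hr, pow_add, mul_comm, mul_smul, hNf, smul_zero]
  -- renormalised data
  have E1 : ∀ x ∈ S, ∀ x' ∈ S,
      h x' ^ (N + 1) • (h x ^ N • m x) = h x ^ (N + 1) • (h x' ^ N • m x') := by
    intro x hxS x' hx'S
    have h0 := hN x hxS x' hx'S
    rw [smul_sub, sub_eq_zero, smul_smul, smul_smul] at h0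
    rw [smul_smul, smul_smul]
    have e1 : h x' ^ (N + 1) * h x ^ N = (h x * h x') ^ N * h x' := by ring
    have e2 : h x ^ (N + 1) * h x' ^ N = (h x * h x') ^ N * h x := by ring
    rw [e1, e2]
    exact h0
  have E2 : ∀ x, ∀ y : ProjectiveSpectrum.basicOpen 𝒜 f, h x ∉ y.1.asHomogeneousIdeal →
      h x ^ (N + 1) • σ y = LocalizedModule.mk (h x ^ N • m x) 1 := by
    intro x y hy
    rw [pow_succ, mul_smul, hσ x y hy, LocalizedModule.smul'_mk]
  -- second Nullstellensatz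
  have hrad2 := mem_radical_span 𝒜 (Set.range (fun x : S => h x.1 ^ (N + 1)))
    (by rintro _ ⟨x, rfl⟩; exact ⟨(N + 1) • e x.1, SetLike.pow_mem_graded _ (hh x.1)⟩) hd hf
    (fun y hy => by
      obtain ⟨x, hxS, hxy⟩ := cover ⟨y, hy⟩
      exact ⟨h x ^ (N + 1), ⟨⟨x, hxS⟩, rfl⟩, fun hc => hxy (y.isPrime.mem_of_pow_mem _ hc)⟩)
  obtain ⟨K', hK'⟩ := hrad2
  rw [Ideal.mem_span_range_iff_exists_fun] at hK'
  obtain ⟨c', hc'⟩ := hK'
  -- homogenise the coefficients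
  have hfK : f ^ K' ∈ 𝒜 (K' • d) := SetLike.pow_mem_graded K' hf
  have hhE : ∀ x : S, h x.1 ^ (N + 1) ∈ 𝒜 ((N + 1) • e x.1) := fun x =>
    SetLike.pow_mem_graded _ (hh x.1)
  obtain ⟨c'', hc''def⟩ : ∃ c'' : S → A, c'' = fun x : S =>
      if (N + 1) • e x.1 ≤ K' • d then
        (DirectSum.decompose 𝒜 (c' x) (K' • d - (N + 1) • e x.1) : A) else 0 := ⟨_, rfl⟩
  have hc''mem : ∀ x : S, (N + 1) • e x.1 ≤ K' • d → c'' x ∈ 𝒜 (K' • d - (N + 1) • e x.1) := by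
    intro x hle
    rw [hc''def]
    simp only [hle, if_true]
    exact (DirectSum.decompose 𝒜 (c' x) _).2
  have hc''zero : ∀ x : S, ¬ (N + 1) • e x.1 ≤ K' • d → c'' x = 0 := by
    intro x hle
    rw [hc''def]
    simp only [hle, if_false]
  have hc'' : ∑ x : S, c'' x * h x.1 ^ (N + 1) = f ^ K' := by
    have h1 : (DirectSum.decompose 𝒜 (f ^ K') (K' • d) : A) = f ^ K' :=
      DirectSum.decompose_of_mem_same 𝒜 hfK
    conv_lhs at h1 => rw [← hc']
    rw [DirectSum.decompose_sum, DFinsupp.finsetSum_apply, AddSubmonoidClass.coe_finsetSum] at h1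
    rw [← h1]
    refine Finset.sum_congr rfl (fun x _ => ?_)
    rw [DirectSum.coe_decompose_mul_of_right_mem 𝒜 (K' • d) (hhE x), hc''def]
    by_cases hle : (N + 1) • e x.1 ≤ K' • d
    · simp only [hle, if_true]
    · simp only [hle, if_false, zero_mul]
  -- the glued element
  obtain ⟨mfin, hmfin⟩ : ∃ mfin : M, mfin = ∑ x : S, c'' x • (h x.1 ^ N • m x.1) := ⟨_, rfl⟩
  have key : ∀ x ∈ S, h x ^ (N + 1) • mfin = f ^ K' • (h x ^ N • m x) := by
    intro x hxS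
    rw [hmfin, Finset.smul_sum, ← hc'', Finset.sum_smul]
    refine Finset.sum_congr rfl (fun x' _ => ?_)
    rw [smul_comm, E1 x' x'.2 x hxS, smul_smul]
  have hfin : ∀ y : ProjectiveSpectrum.basicOpen 𝒜 f, f ^ K' • σ y = LocalizedModule.mk mfin 1 := by
    intro y
    obtain ⟨x, hxS, hxy⟩ := cover y
    have hxy' : h x ^ (N + 1) ∉ y.1.asHomogeneousIdeal := fun hc =>
      hxy (y.1.isPrime.mem_of_pow_mem _ hc)
    apply smul_left_cancel' 𝒜 y.1 (h x ^ (N + 1)) hxy'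
    rw [smul_comm, E2 x y hxy, LocalizedModule.smul'_mk, LocalizedModule.smul'_mk, key x hxS]
  have hnonneg : (0 : ℤ) ≤ (((K' + n.natAbs) * d : ℕ) : ℤ) + n := by
    have h1 : n.natAbs ≤ n.natAbs * d := Nat.le_mul_of_pos_right _ hd
    have h2 : (K' + n.natAbs) * d = K' * d + n.natAbs * d := Nat.add_mul _ _ _
    rw [h2]
    generalize n.natAbs * d = Q at h1 ⊢
    generalize K' * d = Q'
    omega
  refine ⟨K' + n.natAbs, (((K' + n.natAbs) * d : ℕ) + n).toNat, f ^ n.natAbs • mfin, ?_, ?_, ?_⟩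
  · rw [hmfin, Finset.smul_sum]
    refine Submodule.sum_mem _ (fun x _ => ?_)
    by_cases hle : (N + 1) • e x.1 ≤ K' • d
    · have h1 : f ^ n.natAbs • c'' x • (h x.1 ^ N • m x.1) ∈
          ℳ (n.natAbs • d + ((K' • d - (N + 1) • e x.1) + (N • e x.1 + i x.1))) :=
        SetLike.GradedSMul.smul_mem (SetLike.pow_mem_graded _ hf)
          (SetLike.GradedSMul.smul_mem (hc''mem x hle)
            (SetLike.GradedSMul.smul_mem (SetLike.pow_mem_graded _ (hh x.1)) (hm x.1)))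
      have hidx : n.natAbs • d + ((K' • d - (N + 1) • e x.1) + (N • e x.1 + i x.1)) =
          (((K' + n.natAbs) * d : ℕ) + n).toNat := by
        have hi' := hi x.1
        simp only [smul_eq_mul] at hle ⊢
        have h2 : (K' + n.natAbs) * d = K' * d + n.natAbs * d := Nat.add_mul _ _ _
        have h3 : (N + 1) * e x.1 = N * e x.1 + e x.1 := Nat.succ_mul _ _
        rw [h2]
        rw [h3] at hle ⊢
        generalize n.natAbs * d = Q
        generalize K' * d = Q' at hle ⊢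
        generalize N * e x.1 = Q'' at hle ⊢
        omega
      rw [← hidx]
      exact h1
    · rw [hc''zero x hle, zero_smul, smul_zero]
      exact zero_mem _
  · rw [Int.toNat_of_nonneg hnonneg]
    push_cast
    ring
  · intro y
    rw [pow_add, mul_comm, mul_smul, hfin y, LocalizedModule.smul'_mk]

end helpers

/-- Let S be a graded ring, M a graded S-module, f homogeneous of degree d > 0 and n an integer. Then
every section of the sheaf M(n)~ over D_+(f) is given on all of D_+(f) by one fraction m/f^k with m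
homogeneous of degree kd + n. (This is the surjectivity half of the identification of the sections
of M(n)~ over D_+(f) with M(n)_(f).) -/
theorem result {R A : Type u} [CommRing R] [CommRing A] [Algebra R A] (𝒜 : ℕ → Submodule R A) [GradedAlgebra 𝒜]
    {M : Type u} [AddCommGroup M] [Module R M] [Module A M] [IsScalarTower R A M] (ℳ : ℕ → Submodule R M) [DirectSum.Decomposition ℳ] [SetLike.GradedSMul 𝒜 ℳ] (n : ℤ) {d : ℕ} (hd : 0 < d) {f : A} (hf : f ∈ 𝒜 d)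
    (s : GrTilde.sect 𝒜 ℳ n (op (ProjectiveSpectrum.basicOpen 𝒜 f))) :
    ∃ (k i : ℕ) (m : ℳ i), (i : ℤ) = k * d + n ∧
      ∀ x : ProjectiveSpectrum.basicOpen 𝒜 f,
        ((s.1 x : GrTilde.tildeAt 𝒜 ℳ n x.1) : GrTilde.LocMod 𝒜 (M := M) x.1) =
          (LocalizedModule.mk m.1 ⟨f ^ k, fun h => (ProjectiveSpectrum.mem_basicOpen 𝒜 f x.1).mp x.2
            (x.1.isPrime.mem_of_pow_mem k h)⟩ : GrTilde.LocMod 𝒜 (M := M) x.1) := by
  obtain ⟨k, i, m, hm, hi, hσ⟩ := glue 𝒜 ℳ hd hf n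
    (fun y => ((s.1 y : GrTilde.tildeAt 𝒜 ℳ n y.1) : GrTilde.LocMod 𝒜 (M := M) y.1))
    (fun x => local_form 𝒜 ℳ n hd hf s x)
  exact ⟨k, i, ⟨m, hm⟩, hi, fun x => eq_mk_of_smul_eq 𝒜 x.1 (f ^ k) _ _ m (hσ x)⟩

end Groth.Agent.S3586
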