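import Groth.Statements.S2102
import Mathlib

set_option autoImplicit false
universe u
open CategoryTheory AlgebraicGeometry Opposite TopologicalSpace
open Mor

namespace Groth.Agent.S2102

/-- The ring of global sections of an integral normal scheme is an integrally closed domain. -/
theorem result (X : Scheme.{u}) [IsIntegral X] (hX : Pi1.IsNormalScheme X) :
    IsIntegrallyClosed (Γ(X, ⊤) : Type u) := by
  have hne : Nonempty (⊤ : X.Opens) := ⟨⟨(inferInstance : Nonempty X).some, trivial⟩⟩
  let K := X.functionField
  have hinj : Function.Injective (algebraMap Γ(X, ⊤) K) := X.germToFunctionField_injective ⊤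
  have : FaithfulSMul Γ(X, ⊤) K := (faithfulSMul_iff_algebraMap_injective _ _).mpr hinj
  let : Algebra (FractionRing Γ(X, ⊤)) K := FractionRing.liftAlgebra _ _
  rw [isIntegrallyClosed_iff (FractionRing Γ(X, ⊤))]
  intro x hx
  set x' : K := algebraMap (FractionRing Γ(X, ⊤)) K x with hx'
  obtain ⟨p, hpm, hp⟩ := hx
  have hp' : Polynomial.eval₂ (algebraMap Γ(X, ⊤) K) x' p = 0 := by
    have := congrArg (algebraMap (FractionRing Γ(X, ⊤)) K) hp
    rw [map_zero, Polynomial.hom_eval₂] at this
    rwa [← IsScalarTower.algebraMap_eq] at this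
  -- for each point, a local section
  have hloc : ∀ y : X, ∃ (W : X.Opens) (hW : Nonempty W) (_ : y ∈ W) (t : Γ(X, W)),
      X.germToFunctionField W t = x' := by
    intro y
    have := (hX y).2
    have hint : IsIntegral (X.presheaf.stalk y) x' := by
      refine ⟨p.map (X.presheaf.germ ⊤ y trivial).hom, hpm.map _, ?_⟩
      rw [Polynomial.eval₂_map]
      have : (algebraMap (X.presheaf.stalk y) K).comp (X.presheaf.germ ⊤ y trivial).hom =
          algebraMap Γ(X, ⊤) K := by
        ext f
        exact X.algebraMap_germ_eq_germToFunctionField (U := ⊤) (x := y) trivial f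
      rw [this]
      exact hp'
    obtain ⟨s, hs⟩ := IsIntegrallyClosed.isIntegral_iff.mp hint
    obtain ⟨W, hyW, t, ht⟩ := X.presheaf.exists_germ_eq s
    have hW : Nonempty W := ⟨⟨y, hyW⟩⟩
    refine ⟨W, hW, hyW, t, ?_⟩
    rw [← X.algebraMap_germ_eq_germToFunctionField hyW t, ht, hs]
  choose W hWne hyW t ht using hloc
  have hcompat : TopCat.Presheaf.IsCompatible X.sheaf.1 W t := by
    intro i j
    have hgen : genericPoint X ∈ W i ⊓ W j := by
      constructor
      · exact ((genericPoint_spec X).mem_open_set_iff (W i).isOpen).mpr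
          (by simpa using hWne i)
      · exact ((genericPoint_spec X).mem_open_set_iff (W j).isOpen).mpr
          (by simpa using hWne j)
    have hne' : Nonempty (W i ⊓ W j : X.Opens) := ⟨⟨_, hgen⟩⟩
    apply X.germToFunctionField_injective (W i ⊓ W j)
    have e1 : X.germToFunctionField (W i ⊓ W j) (X.presheaf.map (Opens.infLELeft (W i) (W j)).op (t i)) =
        X.germToFunctionField (W i) (t i) :=
      X.presheaf.germ_res_apply (Opens.infLELeft (W i) (W j)) (genericPoint X) hgen (t i)
    have e2 : X.germToFunctionField (W i ⊓ W j) (X.presheaf.map (Opens.infLERight (W i) (W j)).op (t j)) =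
        X.germToFunctionField (W j) (t j) :=
      X.presheaf.germ_res_apply (Opens.infLERight (W i) (W j)) (genericPoint X) hgen (t j)
    exact (e1.trans (ht i)).trans ((e2.trans (ht j)).symm)
  obtain ⟨s, hs, -⟩ := X.sheaf.existsUnique_gluing' W ⊤ (fun i => homOfLE le_top)
    (fun y _ => Opens.mem_iSup.mpr ⟨y, hyW y⟩) t hcompat
  let s' : Γ(X, ⊤) := s
  refine ⟨s', ?_⟩
  apply (algebraMap (FractionRing Γ(X, ⊤)) K).injective
  rw [← IsScalarTower.algebraMap_apply, ← hx']
  have y0 : X := (inferInstance : Nonempty X).some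
  have hgen : genericPoint X ∈ W y0 :=
    ((genericPoint_spec X).mem_open_set_iff (W y0).isOpen).mpr (by simpa using hWne y0)
  have e1 : X.germToFunctionField (W y0) (X.presheaf.map (homOfLE le_top).op s') =
      X.germToFunctionField ⊤ s' :=
    X.presheaf.germ_res_apply (homOfLE (le_top : W y0 ≤ ⊤)) (genericPoint X) hgen s'
  have e2 : X.presheaf.map (homOfLE (le_top : W y0 ≤ ⊤)).op s' = t y0 := hs y0
  rw [e2, ht] at e1
  exact e1.symm

end Groth.Agent.S2102
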