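import Groth.Statements.S9799
import Mathlib

set_option autoImplicit false
universe u
open CategoryTheory AlgebraicGeometry TopologicalSpace
open Props

namespace Groth.Agent.S9799


/-- the image of the generic point of `Spec O_x` when `O_x` is a domain -/
noncomputable def bpt (X : Scheme.{u}) (x : X) [IsDomain (X.presheaf.stalk x)] : X :=
  (X.fromSpecStalk x) (⟨⊥, Ideal.isPrime_bot⟩ : PrimeSpectrum (X.presheaf.stalk x))

/-- every irreducible component through `x` is the closure of `bpt x` -/
theorem eq_closure_bpt (X : Scheme.{u}) (x : X) [IsDomain (X.presheaf.stalk x)]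
    (Z : Set X) (hZ : Z ∈ irreducibleComponents X) (hx : x ∈ Z) :
    Z = closure {bpt X x} := by
  have hZc : IsClosed Z := isClosed_of_mem_irreducibleComponents Z hZ
  have hZi : IsIrreducible Z := hZ.1
  have hη : IsGenericPoint hZi.genericPoint Z := hZi.isGenericPoint_genericPoint hZc
  set η := hZi.genericPoint with hηdef
  -- `η ⤳ x`
  have hηx : η ⤳ x := by
    rw [specializes_iff_mem_closure, hη.def]
    exact hx
  have hrange : η ∈ Set.range (X.fromSpecStalk x) := by
    rw [Scheme.range_fromSpecStalk]; exact hηx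
  obtain ⟨p, hp⟩ := hrange
  have hbp : (⟨⊥, Ideal.isPrime_bot⟩ : PrimeSpectrum (X.presheaf.stalk x)) ⤳ p := by
    rw [← PrimeSpectrum.le_iff_specializes]
    exact bot_le (a := p.asIdeal)
  have hbη : bpt X x ⤳ η := by
    have := hbp.map (X.fromSpecStalk x).continuous
    rw [hp] at this
    exact this
  have hsub : Z ⊆ closure {bpt X x} := by
    rw [← hη.def]
    exact closure_minimal (Set.singleton_subset_iff.2 (specializes_iff_mem_closure.1 hbη))
      isClosed_closure
  have hirr : IsIrreducible (closure {bpt X x}) := isIrreducible_singleton.closure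
  exact le_antisymm hsub (hZ.2 hirr hsub)

theorem disjoint_aux (X : Scheme.{u}) (hN : Pi1.IsNormalScheme X)
    (Z : Set X) (hZ : Z ∈ irreducibleComponents X) (Z' : Set X) (hZ' : Z' ∈ irreducibleComponents X)
    (x : X) (hx : x ∈ Z) (hx' : x ∈ Z') : Z = Z' := by
  have : IsDomain (X.presheaf.stalk x) := (hN x).1
  rw [eq_closure_bpt X x Z hZ hx, eq_closure_bpt X x Z' hZ' hx']

theorem open_aux (X : Scheme.{u})
    (hfin : ∀ U : X.Opens, IsCompact (U : Set X) → (irreducibleComponents ↥U).Finite)
    (hN : Pi1.IsNormalScheme X) (Z : Set X) (hZ : Z ∈ irreducibleComponents X) : IsOpen Z := by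
  rw [isOpen_iff_forall_mem_open]
  intro x hx
  obtain ⟨U, hU, hxU, -⟩ := exists_isAffineOpen_mem_and_subset (x := x) (U := ⊤) trivial
  have hfinU := hfin U hU.isCompact
  -- the components of `U` not containing `x`
  let S : Set (Set U) := {T ∈ irreducibleComponents U | (⟨x, hxU⟩ : U) ∉ T}
  have hSfin : S.Finite := hfinU.subset (fun T hT => hT.1)
  have hclosed : IsClosed (⋃₀ S) := by
    rw [Set.sUnion_eq_biUnion]
    exact hSfin.isClosed_biUnion (fun T hT => isClosed_of_mem_irreducibleComponents T hT.1)
  let W : Set X := Subtype.val '' ((⋃₀ S)ᶜ : Set U)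
  have hWopen : IsOpen W := U.2.isOpenMap_subtype_val _ hclosed.isOpen_compl
  refine ⟨W, ?_, hWopen, ?_⟩
  · rintro _ ⟨y, hy, rfl⟩
    -- `y` lies in some component `T` of `U`
    have hyU : y ∈ ⋃₀ irreducibleComponents U := by
      rw [sUnion_irreducibleComponents]; trivial
    obtain ⟨T, hT, hyT⟩ := hyU
    have hxT : (⟨x, hxU⟩ : U) ∈ T := by
      by_contra hcon
      exact hy ⟨T, ⟨hT, hcon⟩, hyT⟩
    -- the image of `T` in `X` is irreducible, so lies in a component through `x`, which is `Z`
    have hTirr : IsIrreducible (Subtype.val '' T : Set X) :=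
      hT.1.image _ continuous_subtype_val.continuousOn
    obtain ⟨Z'', hZ'', hsub⟩ := exists_mem_irreducibleComponents_subset_of_isIrreducible _ hTirr
    have hxZ'' : x ∈ Z'' := hsub ⟨⟨x, hxU⟩, hxT, rfl⟩
    have : Z = Z'' := disjoint_aux X hN Z hZ Z'' hZ'' x hx hxZ''
    rw [this]
    exact hsub ⟨y, hyT, rfl⟩
  · refine ⟨⟨x, hxU⟩, ?_, rfl⟩
    rintro ⟨T, hT, hxT⟩
    exact hT.2 hxT

/-- Let X be a normal scheme (all local rings are integrally closed domains) such that every
quasi-compact open subset has finitely many irreducible components. Then the irreducible components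
of X are open and pairwise disjoint; hence X is the disjoint union of its irreducible components,
each an open subscheme which is normal and integral. -/
theorem result (X : Scheme.{u})
    (hfin : ∀ U : X.Opens, IsCompact (U : Set X) → (irreducibleComponents ↥U).Finite)
    (hN : Pi1.IsNormalScheme X) :
    (∀ Z ∈ irreducibleComponents X, IsOpen Z) ∧
      ∀ Z ∈ irreducibleComponents X, ∀ Z' ∈ irreducibleComponents X, Z ≠ Z' → Disjoint Z Z' := by
  refine ⟨fun Z hZ => open_aux X hfin hN Z hZ, ?_⟩
  intro Z hZ Z' hZ' hne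
  rw [Set.disjoint_left]
  intro x hx hx'
  exact hne (disjoint_aux X hN Z hZ Z' hZ' x hx hx')

end Groth.Agent.S9799
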