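import Groth.Statements.S9821
import Mathlib

set_option autoImplicit false
universe u
open CategoryTheory CategoryTheory.Limits AlgebraicGeometry TopologicalSpace Opposite
open Props

namespace Groth.Agent.S9821


theorem fwd (X : Scheme.{u}) [IsIntegral X] (hN : Pi1.IsNormalScheme X)
    (U : X.Opens) [Nonempty U] (hU : IsAffineOpen U) : IsIntegrallyClosed Γ(X, U) := by
  have hy : ∀ (P : Ideal Γ(X, U)) [P.IsPrime], hU.fromSpec ⟨P, inferInstance⟩ ∈ U := by
    intro P _
    have h1 : hU.fromSpec ⟨P, inferInstance⟩ ∈ (hU.fromSpec.opensRange : Set X) := ⟨_, rfl⟩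
    have h2 : (hU.fromSpec.opensRange : Set X) = U := congrArg _ hU.opensRange_fromSpec
    rw [h2] at h1
    exact h1
  refine @IsIntegrallyClosed.of_isLocalization_maximal Γ(X, U) _
    (fun P _ => X.presheaf.stalk (hU.fromSpec ⟨P, inferInstance⟩))
    (fun P _ => inferInstance)
    (fun P _ => TopCat.Presheaf.algebra_section_stalk X.presheaf ⟨hU.fromSpec ⟨P, inferInstance⟩, hy P⟩)
    (fun P _ => hU.isLocalization_stalk' ⟨P, inferInstance⟩ (hy P)) _ ?_
  intro P _
  exact (hN _).2

theorem bwd (X : Scheme.{u}) [IsIntegral X]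
    (h : ∀ (U : X.Opens) [Nonempty U], IsAffineOpen U → IsIntegrallyClosed Γ(X, U)) :
    Pi1.IsNormalScheme X := by
  intro x
  refine ⟨inferInstance, ?_⟩
  obtain ⟨U, hU, hxU, -⟩ := exists_isAffineOpen_mem_and_subset (x := x) (U := ⊤) trivial
  have : Nonempty U := ⟨⟨x, hxU⟩⟩
  have := h U hU
  let _hA := TopCat.Presheaf.algebra_section_stalk X.presheaf (⟨x, hxU⟩ : U)
  have := hU.isLocalization_stalk ⟨x, hxU⟩
  exact isIntegrallyClosed_of_isLocalization (X.presheaf.stalk x)
    (hU.primeIdealOf ⟨x, hxU⟩).asIdeal.primeCompl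
    (hU.primeIdealOf ⟨x, hxU⟩).asIdeal.primeCompl_le_nonZeroDivisors

/-- An integral scheme is normal if and only if the coordinate ring of every nonempty affine open is an
integrally closed domain. -/
theorem result (X : Scheme.{u}) [IsIntegral X] :
    Pi1.IsNormalScheme X ↔ ∀ (U : X.Opens) [Nonempty U], IsAffineOpen U → IsIntegrallyClosed Γ(X, U) := by
  exact ⟨fun hN U _ hU => fwd X hN U hU, bwd X⟩

end Groth.Agent.S9821
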