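import Groth.Statements.S3596
import Mathlib

set_option autoImplicit false
universe u
open CategoryTheory CategoryTheory.Limits AlgebraicGeometry
open EGA2

namespace Groth.Agent.S3596

section helpers

variable {R A : Type u} [CommRing R] [CommRing A] [Algebra R A] (𝒜 : ℕ → Submodule R A) [GradedAlgebra 𝒜]
    {B : Type u} [CommRing B] [Algebra R B] (ℬ : ℕ → Submodule R B) [GradedAlgebra ℬ] (φ : 𝒜 →+*ᵍ ℬ)

theorem chart_ι {d : ℕ} {f : A} (hf : f ∈ 𝒜 d) (hd : 0 < d) :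
    PCone.chart φ hf hd ≫ (PCone.dom φ).ι = Proj.awayι ℬ (φ f) (φ.2 hf) hd :=
  IsOpenImmersion.lift_fac _ _ _

instance isOpenImmersion_chart {d : ℕ} {f : A} (hf : f ∈ 𝒜 d) (hd : 0 < d) :
    IsOpenImmersion (PCone.chart φ hf hd) := by
  have : IsOpenImmersion (PCone.chart φ hf hd ≫ (PCone.dom φ).ι) := by
    rw [chart_ι]; infer_instance
  exact IsOpenImmersion.of_comp _ (PCone.dom φ).ι

theorem exists_chart_eq {d : ℕ} {f : A} (hf : f ∈ 𝒜 d) (hd : 0 < d) (x : (PCone.dom φ : Scheme.{u}))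
    (hx : (PCone.dom φ).ι x ∈ Proj.basicOpen ℬ (φ f)) : ∃ y, PCone.chart φ hf hd y = x := by
  rw [← Proj.opensRange_awayι ℬ (φ f) (φ.2 hf) hd] at hx
  obtain ⟨y, hy⟩ := hx
  refine ⟨y, ?_⟩
  apply (PCone.dom φ).ι.isOpenEmbedding.injective
  rw [← hy, ← chart_ι 𝒜 ℬ φ hf hd]
  rfl

theorem opensRange_chart {d : ℕ} {f : A} (hf : f ∈ 𝒜 d) (hd : 0 < d) :
    (PCone.chart φ hf hd).opensRange = (PCone.dom φ).ι ⁻¹ᵁ Proj.basicOpen ℬ (φ f) := by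
  have := isOpenImmersion_chart 𝒜 ℬ φ hf hd
  ext x
  constructor
  · rintro ⟨y, rfl⟩
    change (PCone.chart φ hf hd ≫ (PCone.dom φ).ι) y ∈ Proj.basicOpen ℬ (φ f)
    rw [chart_ι, ← Proj.opensRange_awayι ℬ (φ f) (φ.2 hf) hd]
    exact ⟨y, rfl⟩
  · intro hx
    exact exists_chart_eq 𝒜 ℬ φ hf hd x hx

end helpers

section helpers2

variable {R A : Type u} [CommRing R] [CommRing A] [Algebra R A] (𝒜 : ℕ → Submodule R A) [GradedAlgebra 𝒜]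
    {B : Type u} [CommRing B] [Algebra R B] (ℬ : ℕ → Submodule R B) [GradedAlgebra ℬ] (φ : 𝒜 →+*ᵍ ℬ)
    (p : (PCone.dom φ : Scheme.{u}) ⟶ Proj 𝒜) (hp : ∀ (d : ℕ) (f : A) (hd : 0 < d) (hf : f ∈ 𝒜 d),
        PCone.chart φ hf hd ≫ p =
          Spec.map (CommRingCat.ofHom (HomogeneousLocalization.Away.map φ f)) ≫ Proj.awayι 𝒜 f hf hd)

include hp in
theorem key {d e : ℕ} {f g : A} (hf : f ∈ 𝒜 d) (hd : 0 < d) (hg : g ∈ 𝒜 e) (he : 0 < e) :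
    PCone.chart φ hg he ⁻¹ᵁ (p ⁻¹ᵁ Proj.basicOpen 𝒜 f) =
      PCone.chart φ hg he ⁻¹ᵁ ((PCone.dom φ).ι ⁻¹ᵁ Proj.basicOpen ℬ (φ f)) := by
  have h1 : PCone.chart φ hg he ⁻¹ᵁ (p ⁻¹ᵁ Proj.basicOpen 𝒜 f) =
      (PCone.chart φ hg he ≫ p) ⁻¹ᵁ Proj.basicOpen 𝒜 f := rfl
  have h2 : PCone.chart φ hg he ⁻¹ᵁ ((PCone.dom φ).ι ⁻¹ᵁ Proj.basicOpen ℬ (φ f)) =
      (PCone.chart φ hg he ≫ (PCone.dom φ).ι) ⁻¹ᵁ Proj.basicOpen ℬ (φ f) := rfl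
  have h5 : Proj.awayι ℬ (φ g) (φ.2 hg) he ⁻¹ᵁ Proj.basicOpen ℬ (φ f) =
      PrimeSpectrum.basicOpen (HomogeneousLocalization.Away.isLocalizationElem (φ.2 hg) (φ.2 hf)) :=
    Proj.awayι_preimage_basicOpen ℬ (φ.2 hg) he (φ.2 hf) hd
  have h3 : (Spec.map (CommRingCat.ofHom (HomogeneousLocalization.Away.map φ g)) ≫ Proj.awayι 𝒜 g hg he) ⁻¹ᵁ
      Proj.basicOpen 𝒜 f = Spec.map (CommRingCat.ofHom (HomogeneousLocalization.Away.map φ g)) ⁻¹ᵁ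
        (Proj.awayι 𝒜 g hg he ⁻¹ᵁ Proj.basicOpen 𝒜 f) := rfl
  have h4 : HomogeneousLocalization.Away.map φ g (HomogeneousLocalization.Away.isLocalizationElem hg hf) =
      HomogeneousLocalization.Away.isLocalizationElem (φ.2 hg) (φ.2 hf) := by
    rw [HomogeneousLocalization.Away.isLocalizationElem, HomogeneousLocalization.Away.map_mk]
    simp only [map_pow]
    rfl
  rw [h1, h2, hp e g he hg, chart_ι, h5, h3, Proj.awayι_preimage_basicOpen 𝒜 hg he hf hd, ← h4]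
  rfl


include hp in
theorem preimage_basicOpen {d : ℕ} {f : A} (hf : f ∈ 𝒜 d) (hd : 0 < d) :
    p ⁻¹ᵁ Proj.basicOpen 𝒜 f = (PCone.dom φ).ι ⁻¹ᵁ Proj.basicOpen ℬ (φ f) := by
  ext x
  have hx : (PCone.dom φ).ι x ∈
      ⨆ f : {f : A // ∃ d : ℕ, 0 < d ∧ f ∈ 𝒜 d}, Proj.basicOpen ℬ (φ f.1) := x.2
  rw [TopologicalSpace.Opens.mem_iSup] at hx
  obtain ⟨⟨g, e, he, hg⟩, hxg⟩ := hx
  obtain ⟨y, rfl⟩ := exists_chart_eq 𝒜 ℬ φ hg he x hxg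
  have := key 𝒜 ℬ φ p hp hf hd hg he
  exact (SetLike.ext_iff.1 this y)

include hp in
theorem result' : IsAffineHom p := by
  apply isAffineHom_of_forall_exists_isAffineOpen
  intro x
  have hx : x ∈ (⊤ : (Proj 𝒜).Opens) := trivial
  have hcov : ∃ (i : Σ i : ℕ+, 𝒜 i), x ∈ Set.range (Proj.awayι 𝒜 i.2.1 i.2.2 i.1.2).base :=
    ⟨(Proj.affineOpenCover 𝒜).idx x, (Proj.affineOpenCover 𝒜).covers x⟩
  obtain ⟨i, y, hy⟩ := hcov
  have hxf : x ∈ Proj.basicOpen 𝒜 i.2.1 := by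
    rw [← Proj.opensRange_awayι 𝒜 i.2.1 i.2.2 i.1.2]
    exact ⟨y, hy⟩
  refine ⟨Proj.basicOpen 𝒜 i.2.1, hxf, Proj.isAffineOpen_basicOpen 𝒜 i.2.1 i.2.2 i.1.2, ?_⟩
  rw [preimage_basicOpen 𝒜 ℬ φ p hp i.2.2 i.1.2, ← opensRange_chart 𝒜 ℬ φ i.2.2 i.1.2]
  have := isOpenImmersion_chart 𝒜 ℬ φ i.2.2 i.1.2
  exact isAffineOpen_opensRange _

end helpers2

/-- For a homomorphism of graded rings φ : S' → S, the induced morphism p : G(φ) → Proj S'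
(characterised on the charts as in the previous result) is affine. -/
theorem result {R A : Type u} [CommRing R] [CommRing A] [Algebra R A] (𝒜 : ℕ → Submodule R A) [GradedAlgebra 𝒜]
    {B : Type u} [CommRing B] [Algebra R B] (ℬ : ℕ → Submodule R B) [GradedAlgebra ℬ] (φ : 𝒜 →+*ᵍ ℬ)
    (p : (PCone.dom φ : Scheme.{u}) ⟶ Proj 𝒜) (hp : ∀ (d : ℕ) (f : A) (hd : 0 < d) (hf : f ∈ 𝒜 d),
        PCone.chart φ hf hd ≫ p =
          Spec.map (CommRingCat.ofHom (HomogeneousLocalization.Away.map φ f)) ≫ Proj.awayι 𝒜 f hf hd) :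
    IsAffineHom p := by
  exact result' 𝒜 ℬ φ p hp

end Groth.Agent.S3596
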