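import Groth.Statements.S1740
import Groth.Agent.Lib.Helper3.TorFactor

set_option autoImplicit false
universe u
open CategoryTheory
attribute [local instance] HasDerivedCategory.standard
open LocCoh

namespace Groth.Agent.S1740

open Groth.Agent.Lib.Helper3.TorFactor in
theorem aux (R : Type u) [CommRing R] (M M' : Type u) [AddCommGroup M] [Module R M]
    [Module.FinitePresentation R M] [AddCommGroup M'] [Module R M'] (α : M →ₗ[R] M')
    (h : ∀ (N : Type u) [AddCommGroup N] [Module R N],
      ((CategoryTheory.Tor (ModuleCat.{u} R) 1).map (ModuleCat.ofHom α)).app (ModuleCat.of R N) = 0) :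
    ∃ (ι : Type u) (g : M →ₗ[R] (ι →₀ R)) (h : (ι →₀ R) →ₗ[R] M'), α = h ∘ₗ g := by
  classical
  obtain ⟨n, m, p, g, hp, hex⟩ := Module.FinitePresentation.exists_fin' R M
  obtain ⟨p', hp'⟩ : ∃ p' : (M' →₀ R) →ₗ[R] M', Function.Surjective p' :=
    ⟨Finsupp.linearCombination R id, Finsupp.linearCombination_id_surjective R M'⟩
  obtain ⟨a, ha⟩ : ∃ a : (Fin n → R) →ₗ[R] (M' →₀ R), p' ∘ₗ a = α ∘ₗ p := by
    choose c hc using fun i : Fin n => hp' (α (p (Pi.single i 1)))
    refine ⟨(Pi.basisFun R (Fin n)).constr R c, ?_⟩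
    apply (Pi.basisFun R (Fin n)).ext
    intro i
    simp [hc]
  obtain ⟨κ, hκ⟩ : ∃ κ : LinearMap.ker p →ₗ[R] LinearMap.ker p', ∀ x, (κ x : M' →₀ R) = a x := by
    have hmap : ∀ x : LinearMap.ker p, (a ∘ₗ (LinearMap.ker p).subtype) x ∈ LinearMap.ker p' := by
      intro x
      rw [LinearMap.mem_ker]
      have h1 := congrArg (fun t => t (x : Fin n → R)) ha
      simp only [LinearMap.comp_apply] at h1
      have h2 : p (x : Fin n → R) = 0 := x.2
      rw [LinearMap.comp_apply, Submodule.subtype_apply, h1, h2, map_zero]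
    exact ⟨(a ∘ₗ (LinearMap.ker p).subtype).codRestrict _ hmap, fun x => rfl⟩
  have h1 : (LinearMap.ker p').subtype ∘ₗ κ = a ∘ₗ (LinearMap.ker p).subtype := by
    ext x : 1
    exact hκ x
  have H : ∀ z : TensorProduct R (LinearMap.ker p) ((Fin m → R) ⧸ LinearMap.range (transp g)),
       (LinearMap.ker p).subtype.rTensor _ z = 0 → κ.rTensor _ z = 0 := by
    intro z hz
    have hh := h ((Fin m → R) ⧸ LinearMap.range (transp g))
    have key := rTensor_eq_zero_of_tor_map_eq_zero (K := LinearMap.ker p) (K' := LinearMap.ker p')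
      (F' := M' →₀ R) (LinearMap.ker p).subtype p
      (Submodule.injective_subtype _) hp (LinearMap.exact_subtype_ker_map p)
      (LinearMap.ker p').subtype p' (Submodule.injective_subtype _) hp'
      (LinearMap.exact_subtype_ker_map p') κ a α h1 ha
    have key2 := key ((Fin m → R) ⧸ LinearMap.range (transp g))
    have key3 := key2 hh
    exact key3 z hz
  obtain ⟨β, hβ⟩ := exists_factor α p g hp hex p' a ha κ hκ H
  exact ⟨M', β, p', hβ⟩

/-- Let α : M → M' be a map of R-modules with M finitely presented such that the induced map Tor_1(M, N)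
→ Tor_1(M', N) is zero for every R-module N. Then α is the composite of a map from M into a free
R-module and a map from that free module to M'. -/
theorem result (R : Type u) [CommRing R] (M M' : Type u) [AddCommGroup M] [Module R M] [Module.FinitePresentation R M] [AddCommGroup M'] [Module R M'] (α : M →ₗ[R] M') (h : ∀ (N : Type u) [AddCommGroup N] [Module R N], ((CategoryTheory.Tor (ModuleCat.{u} R) 1).map (ModuleCat.ofHom α)).app (ModuleCat.of R N) = 0) : ∃ (ι : Type u) (g : M →ₗ[R] (ι →₀ R)) (h : (ι →₀ R) →ₗ[R] M'), α = h ∘ₗ g := by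
  exact aux R M M' α h

end Groth.Agent.S1740
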