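import Groth.Statements.S15610
import Groth.Agent.Lib.Helper3.SpecConnected

set_option autoImplicit false
universe u
open SchFin SchFin.RSpace

namespace Groth.Agent.S15610

theorem aux (X : RSpace.{u}) (hpw : X.IsPwConnected) : X.IsConnected ↔ X.IsTopConnected := by
  classical
  have hnt : ∀ p : X.pt, Nontrivial (X.ring p) := fun p => (Groth.Agent.Lib.Helper3.SpecConnected.connectedSpace_iff.1 (hpw p)).1
  have hid : ∀ (p : X.pt) (a : X.ring p), IsIdempotentElem a → a = 0 ∨ a = 1 :=
    fun p => (Groth.Agent.Lib.Helper3.SpecConnected.connectedSpace_iff.1 (hpw p)).2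
  unfold RSpace.IsConnected RSpace.IsTopConnected
  rw [Groth.Agent.Lib.Helper3.SpecConnected.connectedSpace_iff]
  constructor
  · rintro ⟨hR, hidR⟩
    have hne : Nonempty X.pt := by
      by_contra hemp
      rw [not_nonempty_iff] at hemp
      obtain ⟨a, b, hab⟩ := hR
      apply hab
      apply Subtype.ext
      funext q
      exact (hemp.false q.1).elim
    refine ⟨hne, ?_⟩
    intro p q
    by_contra hpq
    let S : Set X.pt := {r | Relation.EqvGen (fun a b : X.pt => a ≤ b) p r}
    have hS : ∀ a b : X.pt, a ≤ b → (a ∈ S ↔ b ∈ S) := by
      intro a b hab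
      constructor
      · intro ha
        exact Relation.EqvGen.trans _ _ _ ha (Relation.EqvGen.rel _ _ hab)
      · intro hb
        exact Relation.EqvGen.trans _ _ _ hb (Relation.EqvGen.symm _ _ (Relation.EqvGen.rel _ _ hab))
    let e : X.sectRing Set.univ := ⟨fun r => if r.1 ∈ S then 1 else 0, by
      intro r r' hrr'
      by_cases hr : r.1 ∈ S
      · have hr' : r'.1 ∈ S := (hS _ _ hrr').1 hr
        simp only [hr, hr', if_true, map_one]
      · have hr' : r'.1 ∉ S := fun h => hr ((hS _ _ hrr').2 h)
        simp only [hr, hr', if_false, map_zero]⟩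
    have he : IsIdempotentElem e := by
      apply Subtype.ext
      funext r
      change (if r.1 ∈ S then (1 : X.ring r.1) else 0) * (if r.1 ∈ S then 1 else 0) =
        if r.1 ∈ S then 1 else 0
      split_ifs <;> simp
    have hp : p ∈ S := Relation.EqvGen.refl p
    have hq : q ∉ S := hpq
    rcases hidR e he with h0 | h1
    · have := congrFun (congrArg Subtype.val h0) ⟨p, trivial⟩
      change (if p ∈ S then (1 : X.ring p) else 0) = 0 at this
      rw [if_pos hp] at this
      exact (hnt p).exists_pair_ne.elim fun a ⟨b, hab⟩ => hab (by
        rw [← mul_one a, ← mul_one b, this, mul_zero, mul_zero])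
    · have := congrFun (congrArg Subtype.val h1) ⟨q, trivial⟩
      change (if q ∈ S then (1 : X.ring q) else 0) = 1 at this
      rw [if_neg hq] at this
      exact (hnt q).exists_pair_ne.elim fun a ⟨b, hab⟩ => hab (by
        rw [← mul_one a, ← mul_one b, ← this, mul_zero, mul_zero])
  · rintro ⟨⟨p₀⟩, hconn⟩
    constructor
    · refine ⟨⟨0, 1, ?_⟩⟩
      intro h01
      have := congrFun (congrArg Subtype.val h01) ⟨p₀, trivial⟩
      change (0 : X.ring p₀) = 1 at this
      exact (hnt p₀).exists_pair_ne.elim fun a ⟨b, hab⟩ => hab (by
        rw [← mul_one a, ← mul_one b, ← this, mul_zero, mul_zero])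
    · intro e he
      have hpt : ∀ r : (Set.univ : Set X.pt), e.1 r = 0 ∨ e.1 r = 1 := by
        intro r
        apply hid
        have := congrFun (congrArg Subtype.val he) r
        exact this
      let S : Set X.pt := {r | e.1 ⟨r, trivial⟩ = 1}
      have hS : ∀ a b : X.pt, a ≤ b → (a ∈ S ↔ b ∈ S) := by
        intro a b hab
        have hres := e.2 ⟨a, trivial⟩ ⟨b, trivial⟩ hab
        constructor
        · intro ha
          change e.1 ⟨a, trivial⟩ = 1 at ha
          change e.1 ⟨b, trivial⟩ = 1
          rw [← hres, ha, map_one]
        · intro hb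
          change e.1 ⟨b, trivial⟩ = 1 at hb
          change e.1 ⟨a, trivial⟩ = 1
          rcases hpt ⟨a, trivial⟩ with h0 | h1
          · exfalso
            rw [h0, map_zero] at hres
            rw [← hres] at hb
            exact (hnt b).exists_pair_ne.elim fun a' ⟨b', hab'⟩ => hab' (by
              rw [← mul_one a', ← mul_one b', ← hb, mul_zero, mul_zero])
          · exact h1
      have hall : ∀ a b : X.pt, Relation.EqvGen (fun a b : X.pt => a ≤ b) a b → (a ∈ S ↔ b ∈ S) := by
        intro a b hab
        induction hab with
        | rel a b h => exact hS a b h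
        | refl a => exact Iff.rfl
        | symm a b _ ih => exact ih.symm
        | trans a b c _ _ ih1 ih2 => exact ih1.trans ih2
      by_cases hp₀ : p₀ ∈ S
      · right
        apply Subtype.ext
        funext r
        exact (hall p₀ r.1 (hconn p₀ r.1)).1 hp₀
      · left
        apply Subtype.ext
        funext r
        have hr : r.1 ∉ S := fun h => hp₀ ((hall p₀ r.1 (hconn p₀ r.1)).2 h)
        rcases hpt r with h0 | h1
        · exact h0
        · exact absurd h1 hr



open SchFin in
/-- A schematic finite space is well-connected (the prime spectrum of its ring of global sections is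
connected and the prime spectrum of the ring of each point is connected) if and only if its poset of
points is non-empty and connected and the prime spectrum of the ring of each point is connected. -/
theorem result (X : RSpace.{u})
    (hX : X.IsSchematic) : X.IsWellConnected ↔ (X.IsTopConnected ∧ X.IsPwConnected) := by
  unfold RSpace.IsWellConnected
  constructor
  · rintro ⟨h1, h2⟩
    exact ⟨(aux X h2).1 h1, h2⟩
  · rintro ⟨h1, h2⟩
    exact ⟨(aux X h2).2 h1, h2⟩

end Groth.Agent.S15610
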