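import Groth.Statements.S9633
import Mathlib.RingTheory.Ideal.MinimalPrime.Localization
import Mathlib.Topology.Connected.Separation
import Mathlib.Topology.Separation.Profinite
-- import your own Groth.Agent.* helpers here

set_option autoImplicit false
universe u
open CAlg

namespace Groth.Agent.S9633

theorem exists_mul_pow_eq_zero {R : Type*} [CommRing R] {q : Ideal R} (hq : q ∈ minimalPrimes R)
    {f : R} (hf : f ∈ q) : ∃ s ∉ q, ∃ n : ℕ, s * f ^ n = 0 := by
  have hqp : q.IsPrime := Ideal.minimalPrimes_isPrime hq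
  have h1 := IsLocalization.AtPrime.radical_map_of_mem_minimalPrimes
    (A := Localization.AtPrime q) q ⊥ hq
  rw [Ideal.map_bot] at h1
  have h2 : algebraMap R (Localization.AtPrime q) f ∈ (⊥ : Ideal (Localization.AtPrime q)).radical := by
    rw [h1]
    exact Ideal.mem_map_of_mem _ hf
  obtain ⟨n, hn⟩ := h2
  rw [Ideal.mem_bot, ← map_pow, IsLocalization.map_eq_zero_iff q.primeCompl] at hn
  obtain ⟨m, hm⟩ := hn
  exact ⟨m.1, m.2, n, hm⟩

/-- For a ring R with spectrum X the following are equivalent: (1) X is profinite, i.e. compact,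
Hausdorff and totally disconnected; (2) X is Hausdorff; (3) X is totally disconnected; (4) every
quasi-compact open subset of X is closed; (5) there are no nontrivial inclusions among prime ideals
of R; (6) every prime ideal of R is maximal; (7) every prime ideal of R is a minimal prime; (8)
every standard open D(f) is closed. -/
theorem result {R : Type u} [CommRing R] :
    [CompactSpace (PrimeSpectrum R) ∧ T2Space (PrimeSpectrum R) ∧ TotallyDisconnectedSpace (PrimeSpectrum R),
      T2Space (PrimeSpectrum R),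
      TotallyDisconnectedSpace (PrimeSpectrum R),
      ∀ W : Set (PrimeSpectrum R), IsOpen W → IsCompact W → IsClosed W,
      ∀ p q : PrimeSpectrum R, p ≤ q → p = q,
      ∀ p : Ideal R, p.IsPrime → p.IsMaximal,
      ∀ p : Ideal R, p.IsPrime → p ∈ minimalPrimes R,
      ∀ f : R, IsClosed (PrimeSpectrum.basicOpen f : Set (PrimeSpectrum R))].TFAE := by
  tfae_have 1 → 2 := fun h => h.2.1
  tfae_have 1 → 3 := fun h => h.2.2
  tfae_have 2 → 5 := by
    intro h p q hpq
    rw [PrimeSpectrum.le_iff_specializes] at hpq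
    exact hpq.eq
  tfae_have 3 → 5 := by
    intro h p q hpq
    rw [PrimeSpectrum.le_iff_specializes] at hpq
    have hpre : IsPreconnected (closure ({p} : Set (PrimeSpectrum R))) :=
      (isPreconnected_singleton).closure
    have hsub := hpre.subsingleton
    exact hsub (subset_closure rfl) hpq.mem_closure
  tfae_have 5 → 6 := by
    intro h p hp
    obtain ⟨m, hm, hpm⟩ := Ideal.exists_le_maximal p hp.ne_top
    have := h ⟨p, hp⟩ ⟨m, hm.isPrime⟩ hpm
    have hpm' : p = m := congrArg PrimeSpectrum.asIdeal this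
    rw [hpm']
    exact hm
  tfae_have 6 → 7 := by
    intro h p hp
    obtain ⟨q, hq, hqp⟩ := Ideal.exists_minimalPrimes_le (I := ⊥) (J := p) bot_le
    have hqmax := h q (Ideal.minimalPrimes_isPrime hq)
    have : q = p := hqmax.eq_of_le hp.ne_top hqp
    rw [← this]
    exact hq
  tfae_have 7 → 8 := by
    intro h f
    rw [← isOpen_compl_iff, isOpen_iff_forall_mem_open]
    intro p hp
    have hfp : f ∈ p.asIdeal := by
      by_contra hcon
      exact hp hcon
    obtain ⟨s, hs, n, hsn⟩ := exists_mul_pow_eq_zero (h p.asIdeal p.2) hfp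
    refine ⟨PrimeSpectrum.basicOpen s, ?_, (PrimeSpectrum.basicOpen s).2, hs⟩
    intro x hx hxf
    have hx' : s ∉ x.asIdeal := hx
    have hxf' : f ∉ x.asIdeal := hxf
    have : s * f ^ n ∈ x.asIdeal := by rw [hsn]; exact zero_mem _
    rcases x.2.mem_or_mem this with h1 | h1
    · exact hx' h1
    · exact hxf' (x.2.mem_of_pow_mem n h1)
  tfae_have 8 → 4 := by
    intro h W hWo hWc
    obtain ⟨t, rfl⟩ := PrimeSpectrum.isCompact_isOpen_iff.mp ⟨hWc, hWo⟩
    have : (PrimeSpectrum.zeroLocus (t : Set R))ᶜ
        = ⋃ f ∈ t, (PrimeSpectrum.basicOpen f : Set (PrimeSpectrum R)) := by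
      ext x
      simp only [Set.mem_compl_iff, PrimeSpectrum.mem_zeroLocus, Set.mem_iUnion, SetLike.mem_coe,
        PrimeSpectrum.mem_basicOpen, exists_prop, Set.not_subset]
    rw [this]
    exact t.finite_toSet.isClosed_biUnion fun f _ => h f
  tfae_have 4 → 5 := by
    intro h p q hpq
    by_contra hne
    have hqp : ¬ q.asIdeal ≤ p.asIdeal := fun hle => hne (le_antisymm hpq hle)
    obtain ⟨f, hfq, hfp⟩ := Set.not_subset.mp hqp
    have hcl := h _ (PrimeSpectrum.basicOpen f).2 (PrimeSpectrum.isCompact_basicOpen f)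
    rw [PrimeSpectrum.le_iff_specializes] at hpq
    have : q ∈ (PrimeSpectrum.basicOpen f : Set (PrimeSpectrum R)) :=
      hpq.mem_closed hcl hfp
    exact this hfq
  tfae_have 8 → 1 := by
    intro h
    have hts : TotallySeparatedSpace (PrimeSpectrum R) := by
      rw [totallySeparatedSpace_iff_exists_isClopen]
      intro p q hpq
      by_cases hle : p.asIdeal ≤ q.asIdeal
      · have hqp : ¬ q.asIdeal ≤ p.asIdeal := fun hle' => hpq (PrimeSpectrum.ext (le_antisymm hle hle'))
        obtain ⟨f, hfq, hfp⟩ := Set.not_subset.mp hqp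
        exact ⟨PrimeSpectrum.basicOpen f, ⟨h f, (PrimeSpectrum.basicOpen f).2⟩, hfp,
          fun hq => hq hfq⟩
      · obtain ⟨f, hfp, hfq⟩ := Set.not_subset.mp hle
        refine ⟨(PrimeSpectrum.basicOpen f : Set (PrimeSpectrum R))ᶜ,
          IsClopen.compl (⟨h f, (PrimeSpectrum.basicOpen f).2⟩ : IsClopen _), fun hp => hp hfp, ?_⟩
        rw [compl_compl]
        exact hfq
    exact ⟨inferInstance, inferInstance, inferInstance⟩
  tfae_finish

end Groth.Agent.S9633
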