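import Groth.Statements.S0699
import Mathlib
import Groth.Agent.Lib.Helper20.SpecTop

set_option autoImplicit false
open CategoryTheory CategoryTheory.Limits AlgebraicGeometry Opposite Topology
universe u
open ProEtW

namespace Groth.Agent.S0699

set_option synthInstance.maxHeartbeats 400000 in
set_option maxHeartbeats 2000000 in
open Groth.Agent.Lib.Helper20 in
/-- Let A -> B identify local rings, with Spec A and Spec B w-local, Spec B -> Spec A w-local, and
pi_0(Spec B) -> pi_0(Spec A) bijective. Then A -> B is bijective. -/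
theorem result (A B : Type u) [CommRing A] [CommRing B]
    [Algebra A B] (h1 : EtPBC.IdentifiesLocalRings A B) (h2 : ProEtW.IsWLocal (PrimeSpectrum A))
    (h3 : ProEtW.IsWLocal (PrimeSpectrum B))
    (h4 : ProEtW.IsWLocalMap (PrimeSpectrum.comap (algebraMap A B)))
    (h5 : Function.Bijective
      (PrimeSpectrum.continuous_comap (algebraMap A B)).connectedComponentsMap) :
    Function.Bijective (algebraMap A B) := by
  classical
  set f : A →+* B := algebraMap A B with hf
  obtain ⟨hXs, hX0, hXu⟩ := h2
  obtain ⟨hYs, hY0, hYu⟩ := h3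
  obtain ⟨h4s, h4c⟩ := h4
  have hXb := SpecTop.closedPoints_bijective_of_wLocal (X := PrimeSpectrum A) hX0 hXu
  have hYb := SpecTop.closedPoints_bijective_of_wLocal (X := PrimeSpectrum B) hY0 hYu
  have hcont : Continuous (PrimeSpectrum.comap f) := PrimeSpectrum.continuous_comap f
  -- surjectivity on closed points
  have hsurj0 : ∀ m : PrimeSpectrum A, IsClosed ({m} : Set (PrimeSpectrum A)) →
      ∃ n : PrimeSpectrum B, IsClosed ({n} : Set (PrimeSpectrum B)) ∧
        PrimeSpectrum.comap f n = m := by
    intro m hm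
    obtain ⟨d, hd⟩ := h5.2 (ConnectedComponents.mk m)
    obtain ⟨⟨n, hn⟩, hnd⟩ := hYb.2 d
    refine ⟨n, hn, ?_⟩
    have h1 : ConnectedComponents.mk (PrimeSpectrum.comap f n) = ConnectedComponents.mk m := by
      rw [← hd, ← hnd]
      exact (Continuous.connectedComponentsMap_mk hcont n).symm
    have h2 := @hXb.1 ⟨PrimeSpectrum.comap f n, h4c n hn⟩ ⟨m, hm⟩ h1
    exact congrArg Subtype.val h2
  have hinj0 : ∀ n n' : PrimeSpectrum B, IsClosed ({n} : Set (PrimeSpectrum B)) →
      IsClosed ({n'} : Set (PrimeSpectrum B)) →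
      PrimeSpectrum.comap f n = PrimeSpectrum.comap f n' → n = n' := by
    intro n n' hn hn' h
    have h1 : (PrimeSpectrum.continuous_comap (algebraMap A B)).connectedComponentsMap
        (ConnectedComponents.mk n) =
        (PrimeSpectrum.continuous_comap (algebraMap A B)).connectedComponentsMap
        (ConnectedComponents.mk n') := by
      rw [Continuous.connectedComponentsMap_mk, Continuous.connectedComponentsMap_mk]
      exact congrArg _ h
    have h2 := h5.1 h1
    have h3 := @hYb.1 ⟨n, hn⟩ ⟨n', hn'⟩ h2
    exact congrArg Subtype.val h3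
  -- primes of B over generalizations of `comap n` lie under `n`
  have hunder : ∀ (n q : PrimeSpectrum B), IsClosed ({n} : Set (PrimeSpectrum B)) →
      PrimeSpectrum.comap f q ⤳ PrimeSpectrum.comap f n → q ⤳ n := by
    intro n q hn hq
    obtain ⟨n', ⟨hn'c, hqn'⟩, -⟩ := hYu q
    have h1 : PrimeSpectrum.comap f q ⤳ PrimeSpectrum.comap f n' := hqn'.map hcont
    obtain ⟨z, -, hzu⟩ := hXu (PrimeSpectrum.comap f q)
    have e1 := hzu _ ⟨h4c n' hn'c, h1⟩
    have e2 := hzu _ ⟨h4c n hn, hq⟩
    have : n' = n := hinj0 n' n hn'c hn (e1.trans e2.symm)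
    rw [← this]
    exact hqn'
  constructor
  · -- injective
    rw [injective_iff_map_eq_zero]
    intro a ha
    apply eq_zero_of_localization
    intro m hm
    obtain ⟨n, hn, hnm⟩ := hsurj0 ⟨m, hm.isPrime⟩
      ((PrimeSpectrum.isClosed_singleton_iff_isMaximal _).mpr hm)
    have hnm' : m = n.asIdeal.comap f := (congrArg PrimeSpectrum.asIdeal hnm).symm
    subst hnm'
    have hbij := h1 n
    apply hbij.1
    rw [Localization.localRingHom_to_map, map_zero]
    change algebraMap B (Localization.AtPrime n.asIdeal) (f a) = 0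
    rw [ha, map_zero]
  · -- surjective
    intro b
    let 𝔞 : Ideal A := (LinearMap.range (Algebra.linearMap A B)).colon ({b} : Set B)
    have hmem : ∀ a : A, a ∈ 𝔞 ↔ ∃ a' : A, f a' = f a * b := by
      intro a
      change a ∈ (LinearMap.range (Algebra.linearMap A B)).colon ({b} : Set B) ↔ _
      rw [Submodule.mem_colon_singleton, LinearMap.mem_range]
      constructor
      · rintro ⟨a', ha'⟩
        exact ⟨a', by rw [← Algebra.smul_def]; exact ha'⟩
      · rintro ⟨a', ha'⟩
        exact ⟨a', by rw [Algebra.smul_def]; exact ha'⟩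
    by_cases htop : 𝔞 = ⊤
    · have h1 : (1 : A) ∈ 𝔞 := by rw [htop]; trivial
      obtain ⟨a', ha'⟩ := (hmem 1).mp h1
      exact ⟨a', by rw [ha', map_one, one_mul]⟩
    · exfalso
      obtain ⟨m, hm, hle⟩ := Ideal.exists_le_maximal _ htop
      obtain ⟨n, hn, hnm⟩ := hsurj0 ⟨m, hm.isPrime⟩
        ((PrimeSpectrum.isClosed_singleton_iff_isMaximal _).mpr hm)
      have hnm' : m = n.asIdeal.comap f := (congrArg PrimeSpectrum.asIdeal hnm).symm
      subst hnm'
      obtain ⟨x, hx⟩ := (h1 n).2 (algebraMap B (Localization.AtPrime n.asIdeal) b)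
      obtain ⟨a', s, rfl⟩ := IsLocalization.exists_mk'_eq (n.asIdeal.comap f).primeCompl x
      rw [Localization.localRingHom_mk', IsLocalization.mk'_eq_iff_eq_mul,
        ← map_mul, IsLocalization.eq_iff_exists n.asIdeal.primeCompl] at hx
      obtain ⟨g, hg⟩ := hx
      -- hg : g * f a' = g * (b * f s)
      have hg' : ∃ (g' : B) (s' : A), s' ∉ n.asIdeal.comap f ∧ (g : B) * g' = f s' := by
        by_contra hcon
        push Not at hcon
        have hdisj : Disjoint ((Ideal.span {(g : B)} : Ideal B) : Set B)
            (((n.asIdeal.comap f).primeCompl.map f : Submonoid B) : Set B) := by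
          rw [Set.disjoint_left]
          rintro x hx ⟨s', hs', rfl⟩
          obtain ⟨g', hg'x⟩ := Ideal.mem_span_singleton'.mp hx
          exact hcon g' s' hs' (by rw [mul_comm]; exact hg'x)
        obtain ⟨p, hp, hgp, hpd⟩ := Ideal.exists_le_prime_disjoint _ _ hdisj
        have hqle : PrimeSpectrum.comap f ⟨p, hp⟩ ⤳ PrimeSpectrum.comap f n := by
          rw [← PrimeSpectrum.le_iff_specializes]
          intro a ha
          by_contra han
          exact Set.disjoint_left.mp hpd ha ⟨a, han, rfl⟩
        have hqn := hunder n ⟨p, hp⟩ hn hqle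
        rw [← PrimeSpectrum.le_iff_specializes] at hqn
        exact g.2 (hqn (hgp (Ideal.mem_span_singleton_self _)))
      obtain ⟨g', s', hs', hgg'⟩ := hg'
      have hss : s' * (s : A) ∈ 𝔞 := by
        rw [hmem]
        refine ⟨s' * a', ?_⟩
        rw [map_mul, map_mul, ← hgg']
        calc (g : B) * g' * f a' = g' * ((g : B) * f a') := by ring
          _ = g' * ((g : B) * (b * f s)) := by rw [hg]
          _ = (g : B) * g' * f s * b := by ring
      have := hle hss
      rcases (Ideal.IsPrime.comap f).mem_or_mem this with h | h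
      · exact hs' h
      · exact s.2 h

end Groth.Agent.S0699
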