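import Groth.Statements.S0693
import Mathlib
import Groth.Agent.Lib.Helper4.TensBig5

set_option autoImplicit false
open CategoryTheory CategoryTheory.Limits AlgebraicGeometry Opposite Topology
universe u
open ProEtW

namespace Groth.Agent.S0693

set_option synthInstance.maxHeartbeats 400000 in
set_option maxHeartbeats 2000000 in
open Groth.Agent.Lib.Helper4 in
/-- Every ring A admits a faithfully flat ind-etale extension C over which all faithfully flat etale
algebras have retractions. -/
theorem result (A : Type u) [CommRing A] :
    ∃ (C : Type u) (_ : CommRing C) (_ : Algebra A C),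
      Module.FaithfullyFlat A C ∧ EtPBC.IsIndEtale A C ∧ ProEtW.HasEtaleRetractions C := by
  exact ⟨TensBig.C A, inferInstance, inferInstance, TensBig.faithfullyFlat_C A,
    TensBig.isIndEtale_C A, TensBig.hasEtaleRetractions_C A⟩

end Groth.Agent.S0693
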