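import Groth.Statements.S0694
import Mathlib
import Groth.Agent.Lib.Helper4.LocSec6
import Groth.Agent.Lib.Helper4.ConsTop

set_option autoImplicit false
open CategoryTheory CategoryTheory.Limits AlgebraicGeometry Opposite Topology
universe u
open ProEtW

namespace Groth.Agent.S0694

set_option synthInstance.maxHeartbeats 400000 in
set_option maxHeartbeats 2000000 in
open Groth.Agent.Lib.Helper4 in
/-- For every ring A there is a faithfully flat ind-Zariski A-algebra A_w whose spectrum is w-local, the
closed points of Spec A_w mapping bijectively onto Spec A. (Part (4), reducedness of the particular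
closed subscheme structure of the construction, is not stated.) -/
theorem result (A : Type u) [CommRing A] :
    ∃ (Aw : Type u) (_ : CommRing Aw) (_ : Algebra A Aw),
      Module.FaithfullyFlat A Aw ∧ EtPBC.IsIndZariski A Aw ∧ ProEtW.IsWLocal (PrimeSpectrum Aw) ∧
      Set.BijOn (PrimeSpectrum.comap (algebraMap A Aw)) (ProEtW.closedPoints (PrimeSpectrum Aw))
        Set.univ := by
  let P : ConsTop.Cons A → PrimeSpectrum A := ConsTop.toSpec
  have hP : ∀ a : A, IsClopen {t | a ∈ (P t).asIdeal} := ConsTop.isClopen_zeroLocus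
  refine ⟨LocSec.Sec (LocSec.Sp P), inferInstance, inferInstance,
    LocSec.faithfullyFlat_sec P hP ConsTop.toSpec_bijective.2, LocSec.isIndZariski_sec_sp P hP,
    LocSec.isWLocal_sec P hP, ?_⟩
  rw [LocSec.closedPoints_eq_range P hP]
  refine ⟨fun _ _ => trivial, ?_, ?_⟩
  · rintro _ ⟨t, rfl⟩ _ ⟨t', rfl⟩ h
    rw [LocSec.comap_mpt, LocSec.comap_mpt] at h
    rw [ConsTop.toSpec_bijective.1 h]
  · intro p _
    obtain ⟨t, rfl⟩ := ConsTop.toSpec_bijective.2 p
    exact ⟨LocSec.mpt P t, ⟨t, rfl⟩, LocSec.comap_mpt P t⟩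

end Groth.Agent.S0694
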