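import Groth.Statements.S0698
import Mathlib
import Groth.Agent.Lib.Helper20.SpecTop
import Groth.Agent.Lib.Helper4.IndZar4

set_option autoImplicit false
open CategoryTheory CategoryTheory.Limits AlgebraicGeometry Opposite Topology
universe u
open ProEtW

namespace Groth.Agent.S0698

set_option synthInstance.maxHeartbeats 400000 in
set_option maxHeartbeats 2000000 in
open Groth.Agent.Lib.Helper4 in
/-- Let A be a ring, X = Spec A and T a closed subset of pi_0(X). Then A has an ind-Zariski quotient
ring B (the map A -> B is surjective) whose spectrum maps homeomorphically onto the preimage of T in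
X. -/
theorem result (A : Type u) [CommRing A]
    (T : Set (_root_.ConnectedComponents (PrimeSpectrum A))) (hT : IsClosed T) :
    ∃ (B : Type u) (_ : CommRing B) (_ : Algebra A B),
      EtPBC.IsIndZariski A B ∧ Function.Surjective (algebraMap A B) ∧
      Topology.IsEmbedding (PrimeSpectrum.comap (algebraMap A B)) ∧
      Set.range (PrimeSpectrum.comap (algebraMap A B)) = _root_.ConnectedComponents.mk ⁻¹' T := by
  classical
  let Z : Set (PrimeSpectrum A) := ConnectedComponents.mk ⁻¹' T
  let M := IndZar.idemSubmonoid Z
  refine ⟨Localization M, inferInstance, inferInstance, IndZar.isIndZariski_of_isLocalization M,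
    IndZar.surjective_of_idempotents M (fun e he => he.1),
    PrimeSpectrum.localization_comap_isEmbedding _ M, ?_⟩
  rw [PrimeSpectrum.localization_comap_range (Localization M) M]
  ext p
  simp only [Set.mem_setOf_eq]
  constructor
  · intro hdisj
    by_contra hp
    have : T2Space (_root_.ConnectedComponents (PrimeSpectrum A)) :=
      Groth.Agent.Lib.Helper20.SpecTop.t2Space_connectedComponents
    have hb := isTopologicalBasis_isClopen (X := _root_.ConnectedComponents (PrimeSpectrum A))
    obtain ⟨W, hW, hpW, hWT⟩ := hb.exists_subset_of_mem_open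
      (show ConnectedComponents.mk p ∈ Tᶜ from hp) hT.isOpen_compl
    have hW' : IsClopen W := hW
    have hclopen : IsClopen ((ConnectedComponents.mk : PrimeSpectrum A → _) ⁻¹' Wᶜ) :=
      (hW'.compl).preimage ConnectedComponents.continuous_coe
    obtain ⟨e, he, heq⟩ := PrimeSpectrum.isClopen_iff.mp hclopen
    have heM : e ∈ M := by
      refine ⟨he, fun x hx => ?_⟩
      rw [← heq]
      intro hxW
      exact hWT hxW hx
    have hep : e ∈ p.asIdeal := by
      by_contra hne
      have h1 : p ∈ (PrimeSpectrum.basicOpen e : Set (PrimeSpectrum A)) := hne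
      rw [← heq] at h1
      exact h1 hpW
    exact Set.disjoint_left.mp hdisj heM hep
  · intro hp
    rw [Set.disjoint_left]
    rintro e ⟨he, hZ⟩ hep
    exact hZ hp hep

end Groth.Agent.S0698
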