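import Groth.Statements.S0737
import Mathlib
import Groth.Agent.Lib.Helper4.WLocMisc
import Groth.Agent.S0705

set_option autoImplicit false
open CategoryTheory CategoryTheory.Limits AlgebraicGeometry Opposite Topology
universe u
open ProEtW

namespace Groth.Agent.S0737

set_option synthInstance.maxHeartbeats 400000 in
set_option maxHeartbeats 2000000 in
open Groth.Agent.Lib.Helper4 in
/-- Let Spec A be w-local with radical ideal I cutting out its closed points, and A -> B inducing
algebraic residue field extensions. Then (1) every point of V(IB) is closed in Spec B, and (2) there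
is an ind-Zariski B-algebra C with B/IB -> C/IC bijective, Spec C w-local, Spec C -> Spec A w-local,
and closed points of Spec C exactly the points over closed points of Spec A. -/
theorem result (A B : Type u) [CommRing A]
    [CommRing B] [Algebra A B] (hA : ProEtW.IsWLocal (PrimeSpectrum A)) (I : Ideal A) (hI : I.IsRadical)
    (hI0 : PrimeSpectrum.zeroLocus (R := A) I = ProEtW.closedPoints (PrimeSpectrum A))
    (h : ProEtW.AlgebraicResidueExtensions A B) :
    PrimeSpectrum.zeroLocus (R := B) (I.map (algebraMap A B)) ⊆ ProEtW.closedPoints (PrimeSpectrum B) ∧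
    ∃ (C : Type u) (_ : CommRing C) (_ : Algebra B C) (_ : Algebra A C) (_ : IsScalarTower A B C),
      EtPBC.IsIndZariski B C ∧
      Function.Bijective (Ideal.quotientMap ((I.map (algebraMap A B)).map (algebraMap B C))
        (algebraMap B C) Ideal.le_comap_map) ∧
      ProEtW.IsWLocal (PrimeSpectrum C) ∧
      ProEtW.IsWLocalMap (PrimeSpectrum.comap (algebraMap A C)) ∧
      ProEtW.closedPoints (PrimeSpectrum C) =
        PrimeSpectrum.comap (algebraMap A C) ⁻¹' ProEtW.closedPoints (PrimeSpectrum A) := by
  classical
  have hmaxA : ∀ p : PrimeSpectrum A, p ∈ PrimeSpectrum.zeroLocus (I : Set A) →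
      p.asIdeal.IsMaximal := by
    intro p hp
    rw [hI0] at hp
    exact (PrimeSpectrum.isClosed_singleton_iff_isMaximal p).mp hp
  have hmaxB : ∀ q : PrimeSpectrum B,
      q ∈ PrimeSpectrum.zeroLocus ((I.map (algebraMap A B) : Ideal B) : Set B) →
      q.asIdeal.IsMaximal := by
    intro q hq
    have hp : PrimeSpectrum.comap (algebraMap A B) q ∈ PrimeSpectrum.zeroLocus (I : Set A) := by
      intro a ha
      exact hq (Ideal.mem_map_of_mem _ ha)
    haveI : (q.asIdeal.comap (algebraMap A B)).IsPrime := inferInstance
    haveI hm : (q.asIdeal.comap (algebraMap A B)).IsMaximal := hmaxA _ hp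
    haveI halg : Algebra.IsAlgebraic (A ⧸ q.asIdeal.comap (algebraMap A B)) (B ⧸ q.asIdeal) :=
      h q.asIdeal
    letI : Field (A ⧸ q.asIdeal.comap (algebraMap A B)) := Ideal.Quotient.field _
    haveI : Algebra.IsIntegral (A ⧸ q.asIdeal.comap (algebraMap A B)) (B ⧸ q.asIdeal) :=
      Algebra.IsAlgebraic.isIntegral
    have hf : IsField (B ⧸ q.asIdeal) :=
      isField_of_isIntegral_of_isField' (R := A ⧸ q.asIdeal.comap (algebraMap A B))
        (Field.toIsField _)
    exact Ideal.Quotient.maximal_of_isField _ hf
  refine ⟨?_, ?_⟩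
  · intro q hq
    exact (PrimeSpectrum.isClosed_singleton_iff_isMaximal q).mpr (hmaxB q hq)
  · have hprof := WLocMisc.isProfinite_zeroLocus (I.map (algebraMap A B)) hmaxB
    obtain ⟨C, instC, algBC, hZ, hW, hcl, hbij⟩ :=
      Groth.Agent.S0705.result B (I.map (algebraMap A B)) hprof
    letI algAC : Algebra A C := ((algebraMap B C).comp (algebraMap A B)).toAlgebra
    have tower : IsScalarTower A B C := IsScalarTower.of_algebraMap_eq (fun _ => rfl)
    have hmapmap : (I.map (algebraMap A B)).map (algebraMap B C) = I.map (algebraMap A C) := by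
      rw [Ideal.map_map]
      rfl
    have hclA : ProEtW.closedPoints (PrimeSpectrum C) =
        PrimeSpectrum.comap (algebraMap A C) ⁻¹' ProEtW.closedPoints (PrimeSpectrum A) := by
      rw [hcl, hmapmap, ← hI0]
      ext 𝔮
      constructor
      · intro h𝔮 a ha
        exact h𝔮 (Ideal.mem_map_of_mem _ ha)
      · intro h𝔮
        have : I.map (algebraMap A C) ≤ 𝔮.asIdeal := by
          rw [Ideal.map_le_iff_le_comap]
          exact h𝔮
        exact this
    refine ⟨C, instC, algBC, algAC, tower, hZ, hbij, hW, ⟨?_, ?_⟩, hclA⟩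
    · exact WLocMisc.isSpectralMap_comap (algebraMap A C)
    · intro x hx
      have h1 : x ∈ ProEtW.closedPoints (PrimeSpectrum C) := hx
      rw [hclA] at h1
      exact h1

end Groth.Agent.S0737
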