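import Groth.Statements.S1997
-- import your own Groth.Agent.* helpers here
import Mathlib

set_option autoImplicit false
universe u
open CategoryTheory
open EtAlg

namespace Groth.Agent.S1997

open TensorProduct in
/-- Over a ring all of whose ideals are flat, submodules of flat modules are flat. -/
theorem flat_of_submodule {A : Type*} [CommRing A] (hA : ∀ I : Ideal A, Module.Flat A I)
    {M : Type*} [AddCommGroup M] [Module A M] [Module.Flat A M] (N : Submodule A M) :
    Module.Flat A N := by
  rw [Module.Flat.iff_lTensor_injective']
  intro I
  have h1 : Function.Injective (LinearMap.rTensor I N.subtype) :=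
    Module.Flat.rTensor_preserves_injective_linearMap _ N.injective_subtype
  have h2 : Function.Injective (LinearMap.lTensor M I.subtype) :=
    Module.Flat.lTensor_preserves_injective_linearMap _ I.injective_subtype
  have h3 : (LinearMap.rTensor A N.subtype) ∘ₗ (LinearMap.lTensor N I.subtype) =
      (LinearMap.lTensor M I.subtype) ∘ₗ (LinearMap.rTensor I N.subtype) := by
    rw [LinearMap.rTensor_comp_lTensor, LinearMap.lTensor_comp_rTensor]
  have h4 : Function.Injective ((LinearMap.rTensor A N.subtype) ∘ₗ
      (LinearMap.lTensor N I.subtype)) := by
    rw [h3]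
    exact h2.comp h1
  exact Function.Injective.of_comp h4

/-- Let A be a ring all of whose ideals are flat (weak dimension at most one) and A -> B a flat,
injective ring map which is an epimorphism in the category of commutative rings. Then A is
integrally closed in B. -/
theorem result (A B : Type u) [CommRing A] [CommRing B] [Algebra A B]
    (hA : ∀ I : Ideal A, Module.Flat A I) [Module.Flat A B] (hinj : Function.Injective (algebraMap A B))
    (hepi : Epi (CommRingCat.ofHom (algebraMap A B))) : IsIntegrallyClosedIn A B := by
  have hB : Algebra.IsEpi A B := CommRingCat.epi_iff_epi.1 hepi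
  refine ⟨hinj, fun {x} => ⟨fun hx => ?_, fun ⟨y, hy⟩ => hy ▸ isIntegral_algebraMap⟩⟩
  let A' := Algebra.adjoin A {x}
  have hfin : Module.Finite A A' := Module.Finite.iff_fg.2 hx.fg_adjoin_singleton
  have hflat : Module.Flat A A' := flat_of_submodule hA (Subalgebra.toSubmodule A')
  have hepi' : Algebra.IsEpi A A' := by
    rw [Algebra.isEpi_iff_forall_one_tmul_eq]
    intro a
    have hinj2 : Function.Injective
        (TensorProduct.map A'.val.toLinearMap A'.val.toLinearMap) :=
      TensorProduct.map_injective_of_flat_flat _ _ Subtype.val_injective Subtype.val_injective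
    apply hinj2
    simp only [TensorProduct.map_tmul, AlgHom.toLinearMap_apply, Subalgebra.coe_val, map_one]
    exact (Algebra.isEpi_iff_forall_one_tmul_eq A B).1 hB a
  have hsurj := (Algebra.isEpi_iff_surjective_algebraMap_of_finite).1 hepi'
  obtain ⟨y, hy⟩ := hsurj ⟨x, Algebra.subset_adjoin rfl⟩
  exact ⟨y, congrArg Subtype.val hy⟩

end Groth.Agent.S1997
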