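import Groth.Statements.S7143
-- import your own Groth.Agent.* helpers here
import Groth.Agent.Lib.Helper12.ProdVal

set_option autoImplicit false
universe u
open CategoryTheory
open EtAlg

namespace Groth.Agent.S7143

open Groth.Agent.Lib.Helper12.ProdVal

theorem isIntegrallyClosedIn_range (A K : Type*) [CommRing A] [IsDomain A] [Field K] [Algebra A K]
    [IsFractionRing A K] [IsIntegrallyClosed A] :
    IsIntegrallyClosedIn (algebraMap A K).range K := by
  rw [Subring.isIntegrallyClosedIn_iff]
  intro x hx
  let _ : Algebra A (algebraMap A K).range := (algebraMap A K).rangeRestrict.toAlgebra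
  have : IsScalarTower A (algebraMap A K).range K :=
    IsScalarTower.of_algebraMap_eq (fun a => rfl)
  have : Algebra.IsIntegral A (algebraMap A K).range :=
    Algebra.isIntegral_of_surjective (algebraMap A K).rangeRestrict_surjective
  have hx' : IsIntegral A x := isIntegral_trans x hx
  obtain ⟨y, hy⟩ := (isIntegrallyClosed_iff K).1 ‹_› hx'
  exact ⟨y, hy⟩

/-- Every normal domain A with fraction field K is the fibre product V ×_L K for suitable rings V and L
with maps A → V, V → L, K → L (together with the given A → K), where every ideal of V is flat (weak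
dimension at most one) and V → L is flat, injective and an epimorphism of rings. -/
theorem result (A K : Type u) [CommRing A] [IsDomain A] [Field K] [Algebra A K]
    [IsFractionRing A K] [IsIntegrallyClosed A] :
    ∃ (V L : Type u) (_ : CommRing V) (_ : CommRing L) (f : A →+* V) (g : V →+* L) (h : K →+* L),
      g.comp f = h.comp (algebraMap A K) ∧
      (∀ I : Ideal V, Module.Flat V I) ∧ g.Flat ∧ Function.Injective g ∧ Epi (CommRingCat.ofHom g) ∧
      ∀ (v : V) (k : K), g v = h k → ∃! a : A, f a = v ∧ algebraMap A K a = k := by
  classical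
  let R : Subring K := (algebraMap A K).range
  have hR : IsIntegrallyClosedIn R K := isIntegrallyClosedIn_range A K
  let ι : Type u := {x : K // x ∉ R}
  have hex : ∀ i : ι, ∃ W : ValuationSubring K, R ≤ W.toSubring ∧ i.1 ∉ W :=
    fun i => Subring.exists_le_valuationSubring_of_isIntegrallyClosedIn i.2
  choose W hW1 hW2 using hex
  let f : A →+* (Π i, W i) := Pi.ringHom fun i =>
    (algebraMap A K).codRestrict (W i).toSubring (fun a => hW1 i ⟨a, rfl⟩)
  refine ⟨Π i, W i, ι → K, inferInstance, inferInstance, f, gHom W,
    Pi.ringHom (fun _ => RingHom.id K), ?_, ?_, ?_, gHom_injective W, ?_, ?_⟩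
  · ext a i; rfl
  · exact fun I => flat_ideal I
  · let _ := (gHom W).toAlgebra
    have := isLocalization_pi W
    show Module.Flat (Π i, W i) (ι → K)
    exact IsLocalization.flat (ι → K) (S W)
  · let _ := (gHom W).toAlgebra
    have := isLocalization_pi W
    exact IsLocalization.epi (S W) (ι → K)
  · intro v k hvk
    have hk : k ∈ R := by
      by_contra hk
      have h1 : ((v ⟨k, hk⟩ : W ⟨k, hk⟩) : K) = k := congrFun hvk ⟨k, hk⟩
      apply hW2 ⟨k, hk⟩
      show k ∈ W ⟨k, hk⟩
      have key : ∀ (U : ValuationSubring K) (u : U), (u : K) = k → k ∈ U := by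
        intro U u hu
        rw [← hu]
        exact u.2
      exact key _ (v ⟨k, hk⟩) h1
    obtain ⟨a, rfl⟩ := hk
    refine ⟨a, ⟨?_, rfl⟩, fun a' ha' => IsFractionRing.injective A K ha'.2⟩
    apply gHom_injective W
    rw [hvk]
    funext i
    rfl

end Groth.Agent.S7143
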