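import Groth.Statements.S1967
-- import your own Groth.Agent.* helpers here
import Groth.Agent.S7143
import Groth.Agent.S1997
import Groth.Agent.Lib.Helper12.WEtAscent
import Groth.Agent.Lib.Helper12.IntClosedWE

set_option autoImplicit false
universe u
open TensorProduct
open EtAlg

namespace Groth.Agent.S1967

open CategoryTheory

/-- If A is an integrally closed domain with fraction field K and B is weakly etale over A, then every
element of B ⊗_A K that is integral over B (via b ↦ b ⊗ 1) already comes from B. -/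
theorem result (A : Type u) [CommRing A] [IsDomain A] [IsIntegrallyClosed A]
    (K : Type u) [Field K] [Algebra A K] [IsFractionRing A K] (B : Type u) [CommRing B] [Algebra A B]
    [Algebra.WeaklyEtale A B] :
    IsIntegrallyClosedIn B (B ⊗[A] K) := by
  classical
  obtain ⟨V, L, iV, iL, f, g, h, hcomm, hflatV, hgflat, hginj, hgepi, hcart⟩ :=
    Groth.Agent.S7143.result A K
  let _ : Algebra A V := f.toAlgebra
  let _ : Algebra A L := (g.comp f).toAlgebra
  let gA : V →ₐ[A] L := { g with commutes' := fun a => rfl }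
  let hA : K →ₐ[A] L := { h with commutes' := fun a => (RingHom.congr_fun hcomm a).symm }
  have hcart' : ∀ v k, gA v = hA k → ∃ a : A, algebraMap A V a = v ∧ algebraMap A K a = k := by
    intro v k hvk
    obtain ⟨a, ha, -⟩ := hcart v k hvk
    exact ⟨a, ha.1, ha.2⟩
  let γ : V ⊗[A] B →ₐ[A] L ⊗[A] B := Algebra.TensorProduct.map gA (AlgHom.id A B)
  let η : K ⊗[A] B →ₐ[A] L ⊗[A] B := Algebra.TensorProduct.map hA (AlgHom.id A B)
  have hC : ∀ I : Ideal (V ⊗[A] B), Module.Flat (V ⊗[A] B) I :=
    fun I => Groth.Agent.Lib.Helper12.WEtAscent.flat_ideal_of_weaklyEtale (V := V) hflatV I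
  let algγ : Algebra (V ⊗[A] B) (L ⊗[A] B) := γ.toRingHom.toAlgebra
  have hγflat : Module.Flat (V ⊗[A] B) (L ⊗[A] B) := by
    have hg1 : gA.Flat := hgflat
    have hg2 : (AlgHom.id A B).Flat := RingHom.Flat.of_bijective Function.bijective_id
    have : γ.Flat := RingHom.Flat.tensorProductMap hg1 hg2
    exact this
  have hγinj : Function.Injective (algebraMap (V ⊗[A] B) (L ⊗[A] B)) := by
    have h1 : Function.Injective (gA.toLinearMap.rTensor B) :=
      Module.Flat.rTensor_preserves_injective_linearMap _ hginj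
    intro c c' hcc
    apply h1
    rw [← Groth.Agent.Lib.Helper12.IntClosedWE.map_id_eq_rTensor,
      ← Groth.Agent.Lib.Helper12.IntClosedWE.map_id_eq_rTensor]
    exact hcc
  have hγepi : Epi (CommRingCat.ofHom (algebraMap (V ⊗[A] B) (L ⊗[A] B))) :=
    Groth.Agent.Lib.Helper12.IntClosedWE.epi_tensor_map gA hgepi
  have hIC : IsIntegrallyClosedIn (V ⊗[A] B) (L ⊗[A] B) :=
    Groth.Agent.S1997.result _ _ hC hγinj hγepi
  have hinjB : Function.Injective (algebraMap B (B ⊗[A] K)) := by
    have := Algebra.TensorProduct.includeLeft_injective (R := A) (S := A) (A := B) (B := K)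
      (IsFractionRing.injective A K)
    exact this
  refine isIntegrallyClosedIn_iff.2 ⟨hinjB, ?_⟩
  intro x hx
  let e : B ⊗[A] K ≃ₐ[A] K ⊗[A] B := Algebra.TensorProduct.comm A B K
  let φ : B ⊗[A] K →+* L ⊗[A] B := η.toRingHom.comp e.toAlgHom.toRingHom
  have hφ : φ.comp (algebraMap B (B ⊗[A] K)) =
      (algebraMap (V ⊗[A] B) (L ⊗[A] B)).comp
        (Algebra.TensorProduct.includeRight : B →ₐ[A] V ⊗[A] B).toRingHom := by
    ext b
    show η (e (b ⊗ₜ[A] (1 : K))) = γ ((1 : V) ⊗ₜ[A] b)
    simp [e, η, γ]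
  have hint : IsIntegral (V ⊗[A] B) (φ x) := by
    obtain ⟨p, hp, hpx⟩ := hx
    refine ⟨p.map (Algebra.TensorProduct.includeRight : B →ₐ[A] V ⊗[A] B).toRingHom,
      hp.map _, ?_⟩
    rw [Polynomial.eval₂_map, ← hφ, ← Polynomial.hom_eval₂, hpx, map_zero]
  obtain ⟨c, hc⟩ := IsIntegralClosure.isIntegral_iff (A := V ⊗[A] B) |>.1 hint
  have hcd : γ c = η (e x) := hc
  obtain ⟨b, -, hb⟩ := Groth.Agent.Lib.Helper12.IntClosedWE.cartesian_tensor gA hA hcart' c (e x) hcd
  refine ⟨b, ?_⟩
  apply e.injective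
  rw [← hb]
  simp [e]

end Groth.Agent.S1967
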