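import Groth.Statements.S7127
import Groth.Agent.Lib.Helper2.DiagFlat
import Mathlib.RingTheory.Etale.Weakly

set_option autoImplicit false
universe u
open EtAlg

namespace Groth.Agent.S7127

/-- Let A be a ring and B → C an A-algebra homomorphism between weakly étale A-algebras. Then C is
weakly étale over B. -/
theorem result (A B C : Type u) [CommRing A] [CommRing B] [CommRing C]
    [Algebra A B] [Algebra A C] [Algebra B C] [IsScalarTower A B C] [Algebra.WeaklyEtale A B]
    [Algebra.WeaklyEtale A C] : Algebra.WeaklyEtale B C := by
  have hBC : Module.Flat B C :=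
    Groth.Agent.Lib.Helper2.flat_of_flat_lmul' A B C (Algebra.WeaklyEtale.flat_lmul' A B)
  refine ⟨hBC, ?_⟩
  let ρ : TensorProduct A C C →ₐ[A] TensorProduct B C C :=
    Algebra.TensorProduct.mapOfCompatibleSMul B A A C C
  have hρ : Function.Surjective ρ :=
    Algebra.TensorProduct.mapOfCompatibleSMul_surjective B A A C C
  let algRS : Algebra (TensorProduct A C C) (TensorProduct B C C) := ρ.toRingHom.toAlgebra
  let algSC : Algebra (TensorProduct B C C) C :=
    (Algebra.TensorProduct.lmul' B (S := C)).toRingHom.toAlgebra
  let algRC : Algebra (TensorProduct A C C) C :=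
    (Algebra.TensorProduct.lmul' A (S := C)).toRingHom.toAlgebra
  have tower : @IsScalarTower (TensorProduct A C C) (TensorProduct B C C) C
      algRS.toSMul algSC.toSMul algRC.toSMul := by
    have hcomp : (Algebra.TensorProduct.lmul' A (S := C)) =
        ((Algebra.TensorProduct.lmul' B (S := C)).restrictScalars A).comp ρ := by
      ext <;> simp [ρ]
    refine @IsScalarTower.of_algebraMap_eq (TensorProduct A C C) (TensorProduct B C C) C
      _ _ _ algRS algSC algRC (fun x => ?_)
    exact congrArg (fun f => f x) hcomp
  have hRC : Module.Flat (TensorProduct A C C) C := Algebra.WeaklyEtale.flat_lmul' A C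
  have hbij : (Algebra.TensorProduct.lmul' (TensorProduct A C C) (S := TensorProduct B C C)).Flat :=
    RingHom.Flat.of_bijective (LinearMap.mul'_bijective_of_surjective _ _ hρ)
  exact Groth.Agent.Lib.Helper2.flat_of_flat_lmul' (TensorProduct A C C) (TensorProduct B C C) C hbij

end Groth.Agent.S7127
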