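import Groth.Statements.S0678
import Mathlib
import Groth.Agent.Lib.Helper4.WLocRetr2
import Groth.Agent.Lib.Helper4.WLocRetr3

set_option autoImplicit false
open CategoryTheory CategoryTheory.Limits AlgebraicGeometry Opposite Topology
universe u
open ProEtW

namespace Groth.Agent.S0678

set_option synthInstance.maxHeartbeats 400000 in
set_option maxHeartbeats 2000000 in
open Groth.Agent.Lib.Helper4 in
/-- For a ring A, every faithfully flat ind-Zariski A-algebra (filtered colimit of local isomorphisms)
has an A-algebra retraction if and only if Spec A is w-local and the space of connected components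
of Spec A is extremally disconnected. -/
theorem result (A : Type u) [CommRing A] :
    ProEtW.HasIndZariskiRetractions A ↔
      (ProEtW.IsWLocal (PrimeSpectrum A) ∧
        ExtremallyDisconnected (_root_.ConnectedComponents (PrimeSpectrum A))) := by
  constructor
  · intro h
    exact ⟨WLocRetr.isWLocal_of_retractions A h, WLocRetr.extremallyDisconnected_of_retractions A h⟩
  · rintro ⟨hA, hED⟩ B _ _ hff hZ
    exact WLocRetr.exists_retraction A hA hED B hff hZ

end Groth.Agent.S0678
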