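import Groth.Statements.S9436
import Mathlib
-- import your own Groth.Agent.* helpers here

set_option autoImplicit false
universe u
open CAlg

namespace Groth.Agent.S9436

open TensorProduct


open TensorProduct in
/-- Étale algebras lift along surjections: for an ideal I of R and an étale (R/I)-algebra S̄ there is an
étale R-algebra S with (R/I) ⊗_R S ≅ S̄ over R/I. -/
theorem result (R : Type u) [CommRing R] (I : Ideal R) (Sb : Type u)
    [CommRing Sb] [Algebra (R ⧸ I) Sb] [Algebra.Etale (R ⧸ I) Sb] :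
    ∃ (S : Type u) (_ : CommRing S) (_ : Algebra R S), Algebra.Etale R S ∧
      Nonempty (((R ⧸ I) ⊗[R] S) ≃ₐ[R ⧸ I] Sb) := by
  classical
  obtain ⟨ι, σ, _, _, P, hP⟩ :=
    (Algebra.Etale.iff_isStandardSmoothOfRelativeDimension_zero.mp
      ‹Algebra.Etale (R ⧸ I) Sb›).out
  let : Algebra R Sb := ((algebraMap (R ⧸ I) Sb).comp (algebraMap R (R ⧸ I))).toAlgebra
  have : IsScalarTower R (R ⧸ I) Sb := .of_algebraMap_eq fun _ => rfl
  have hc : P.HasCoeffs R :=
    ⟨fun x _ => by obtain ⟨y, rfl⟩ := Ideal.Quotient.mk_surjective x; exact ⟨y, rfl⟩⟩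
  let M := P.toPresentation.ModelOfHasCoeffs R
  let P' : Algebra.PreSubmersivePresentation R M ι σ :=
    P.toPreSubmersivePresentation.ofHasCoeffs R
  let Δ : M := P'.jacobian
  let T := Localization.Away Δ
  have hΔ : IsUnit (algebraMap M T Δ) := IsLocalization.Away.algebraMap_isUnit _
  let Q : Algebra.SubmersivePresentation R T _ _ :=
    { toPreSubmersivePresentation := .comp (.localizationAway T Δ) P'
      jacobian_isUnit := by simpa [Algebra.smul_def, -isUnit_map_iff, hΔ] }
  have hdim : P'.dimension = 0 := hP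
  have hT : Algebra.IsStandardSmoothOfRelativeDimension 0 R T :=
    ⟨_, _, _, inferInstance, Q, by
      simp only [Algebra.PreSubmersivePresentation.dimension_comp_eq_dimension_add_dimension, Q]
      rw [hdim, add_zero]
      exact Algebra.Presentation.localizationAway_dimension_zero Δ⟩
  refine ⟨T, inferInstance, inferInstance, inferInstance, ?_⟩
  let e := P.toPresentation.tensorModelOfHasCoeffsEquiv R
  have he : e (1 ⊗ₜ Δ) = P.jacobian := by
    have h1 : Δ = Ideal.Quotient.mk _ (P.jacobianOfHasCoeffs R) := by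
      let : DecidableEq σ := Classical.decEq σ
      let : Fintype σ := Fintype.ofFinite σ
      simp only [Δ]
      rw [Algebra.PreSubmersivePresentation.jacobian_eq_jacobiMatrix_det]
      rfl
    rw [h1, Algebra.Presentation.tensorModelOfHasCoeffsEquiv_tmul]
    simp
  have hu : IsUnit ((1 : R ⧸ I) ⊗ₜ[R] Δ) := by
    have := P.jacobian_isUnit
    rw [← he] at this
    simpa using this.map e.symm
  let e1 := IsLocalization.Away.tensorProductEquivTMulRight R (R ⧸ I) Δ T
  let e2 := (IsLocalization.atUnit ((R ⧸ I) ⊗[R] M) ((1 : R ⧸ I) ⊗ₜ[R] Δ) hu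
    (S := Localization.Away ((1 : R ⧸ I) ⊗ₜ[R] Δ))).symm.restrictScalars (R ⧸ I)
  exact ⟨(e1.trans e2).trans e⟩

end Groth.Agent.S9436
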