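import Groth.Statements.S0176
import Mathlib
import Groth.Agent.Lib.Helper4.WEtAlgRes
import Groth.Agent.Lib.Helper4.Wc2
import Groth.Agent.Lib.Helper4.HznWE
import Groth.Agent.S0692
import Groth.Agent.S0700
import Groth.Agent.S7127
import Groth.Agent.S0734

set_option autoImplicit false
universe u
open CategoryTheory CategoryTheory.Limits AlgebraicGeometry Opposite
open EtPBC

namespace Groth.Agent.S0176


open Groth.Agent.Lib.Helper4 in
/-- For a weakly etale ring map A -> B (Mathlib's Algebra.WeaklyEtale) one can enlarge B along a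
faithfully flat ind-etale extension B' so that B' is already ind-etale over A; here ind-etale means:
a filtered colimit of etale algebras. -/
theorem result (A B : Type u) [CommRing A] [CommRing B] [Algebra A B]
    [Algebra.WeaklyEtale A B] :
    ∃ (B' : Type u) (_ : CommRing B') (_ : Algebra B B') (_ : Algebra A B') (_ : IsScalarTower A B B'),
      Module.FaithfullyFlat B B' ∧ EtPBC.IsIndEtale B B' ∧ EtPBC.IsIndEtale A B' := by
  have h := Groth.Agent.Lib.Helper4.WEtAlgRes.algebraicResidueExtensions_of_weaklyEtale A B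
  obtain ⟨C, D, instC, instD, algAC, algBD, algCD, algAD, towerACD, towerABD, hffC, hEtC, hffD,
    hEtD, hWC, hWD, hWmap, hcl, -, -, hSH⟩ := Groth.Agent.S0692.result A B h
  haveI w1 : Algebra.WeaklyEtale A C := Groth.Agent.Lib.Helper4.IndEt.weaklyEtale_of_isIndEtale A C hEtC
  haveI w2 : Algebra.WeaklyEtale B D := Groth.Agent.Lib.Helper4.IndEt.weaklyEtale_of_isIndEtale B D hEtD
  haveI w3 : Algebra.WeaklyEtale A D := Algebra.WeaklyEtale.trans A B D
  haveI w4 : Algebra.WeaklyEtale C D := Groth.Agent.S7127.result A C D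
  have hmax : ∀ n : Ideal D, n.IsMaximal → (n.comap (algebraMap C D)).IsMaximal := by
    intro n hn
    have h1 : IsClosed ({(⟨n, hn.isPrime⟩ : PrimeSpectrum D)} : Set (PrimeSpectrum D)) :=
      (PrimeSpectrum.isClosed_singleton_iff_isMaximal _).mpr hn
    have h2 := hWmap.2 _ h1
    exact (PrimeSpectrum.isClosed_singleton_iff_isMaximal _).mp h2
  have hid := Groth.Agent.Lib.Helper4.Wc.identifies_of_strictlyHenselian C D hSH hmax
  have hZ : EtPBC.IsIndZariski C D := Groth.Agent.S0700.result C D hid hWC hWD hWmap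
  refine ⟨D, instD, algBD, algAD, towerABD, hffD, hEtD, ?_⟩
  exact Groth.Agent.S0734.result A C D hEtC
    (Groth.Agent.Lib.Helper4.Sq.isIndEtale_of_isIndZariski C D hZ)

end Groth.Agent.S0176
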