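import Groth.Statements.S14009
import Mathlib
import Groth.Agent.Lib.Helper4.DC15

set_option autoImplicit false
open CategoryTheory CategoryTheory.Limits AlgebraicGeometry Opposite
universe u
open EtModW

namespace Groth.Agent.S14009


open Groth.Agent.Lib.Helper4.DC in
/-- Let X be a scheme, Λ a commutative ring, I a finitely generated ideal of Λ and G = (G_n) an I-adic
inverse system of sheaves of Λ-modules on the small étale site of X: I^(n+1) kills G_n and each
transition map G_m ⟶ G_n is a quotient map modulo I^(n+1). Let F = lim_n ε⁻¹G_n be the limit, on the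
small pro-étale site, of the pulled-back system. Then for every n the limit projection F ⟶ ε⁻¹G_n is
a quotient map modulo I^(n+1): its target is killed by I^(n+1) and every morphism out of F killed by
I^(n+1) factors uniquely through it. In words, F/I^(n+1)F is identified with ε⁻¹G_n by the canonical
map, and F is complete for the I-adic topology. No constructibility of the G_n is needed.
(Continuity of the inclusion of the étale site into the pro-étale site is carried as a binder.) -/
theorem result
    (Λ : Type (u + 1)) [CommRing Λ] (I : Ideal Λ) (hI : I.FG)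
    (X : Scheme.{u}) [ProEtS.EpsCont X]
    (G : ARSys.PS (EtModW.Mod Λ X)) (hG : ARSys.IsAdic I G) (n : ℕ) :
    ARSys.IsQuot (I ^ (n + 1)) (limit.π (G ⋙ EtModW.epsPullMod Λ X) (op n)) := by
  let adj := (ProEtS.eps X).sheafAdjunctionContinuous (ModuleCat.{u + 1} Λ)
    X.smallEtaleTopology (Scheme.ProEt.topology X)
  have hR : ∀ (a : Λ) {A B : EtModW.ModP Λ X} (ψ : A ⟶ B),
      ((ProEtS.eps X).sheafPushforwardContinuous (ModuleCat.{u + 1} Λ)
        X.smallEtaleTopology (Scheme.ProEt.topology X)).map (a • ψ) =
      a • ((ProEtS.eps X).sheafPushforwardContinuous (ModuleCat.{u + 1} Λ)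
        X.smallEtaleTopology (Scheme.ProEt.topology X)).map ψ := fun _ _ _ _ => rfl
  have hL : ∀ (a : Λ) {A B : EtModW.Mod Λ X} (ψ : A ⟶ B),
      (EtModW.epsPullMod Λ X).map (a • ψ) = a • (EtModW.epsPullMod Λ X).map ψ :=
    fun a _ _ ψ => map_smul_of_adjunction adj hR a ψ
  have hAdic : ARSys.IsAdic I (G ⋙ EtModW.epsPullMod Λ X) := by
    constructor
    · intro k b hb
      have h1 := hG.1 k b hb
      have L0 : (EtModW.epsPullMod Λ X).map (0 : G.obj (op k) ⟶ G.obj (op k)) = 0 := by
        have := hL 0 (0 : G.obj (op k) ⟶ G.obj (op k))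
        rwa [zero_smul, zero_smul] at this
      have : b • 𝟙 ((G ⋙ EtModW.epsPullMod Λ X).obj (op k)) =
          (EtModW.epsPullMod Λ X).map (b • 𝟙 (G.obj (op k))) := by
        rw [hL, CategoryTheory.Functor.map_id]
        rfl
      rw [this, h1, L0]
    · intro k m h
      exact isQuot_map_of_adjunction adj hL hR _ _ (hG.2 k m h)
  exact isQuot_limit_π I hI _ hAdic n

end Groth.Agent.S14009
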