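import Groth.Statements.S14010
import Mathlib
import Groth.Agent.Lib.Helper4.DC17
import Groth.Agent.Lib.Helper4.MT6
import Groth.Agent.S14009

set_option autoImplicit false
open CategoryTheory CategoryTheory.Limits AlgebraicGeometry Opposite
universe u
open EtModW

namespace Groth.Agent.S14010


open Groth.Agent.Lib.Helper4.DC Groth.Agent.Lib.Helper4.MT in
/-- Let X be a scheme, Λ a commutative ring, I a finitely generated ideal of Λ and F a sheaf of
Λ-modules on the small pro-étale site of X. Call F an I-adic pro-étale sheaf when there is a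
compatible tower of quotient maps F ⟶ Q_n modulo I^(n+1) (Q_n = F/I^(n+1)F) such that every Q_n is
isomorphic to the pro-étale pullback ε⁻¹ of a constructible sheaf of Λ-modules on the small étale
site and the canonical map F ⟶ lim_n Q_n is an isomorphism. Then F is an I-adic pro-étale sheaf if
and only if F is isomorphic to lim_n ε⁻¹G_n for some I-adic inverse system (G_n) of constructible
étale sheaves of Λ-modules (I^(n+1) G_n = 0, transition maps quotient maps modulo I^(n+1)).
(Continuity of the inclusion of the étale site into the pro-étale site is carried as a binder.) -/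
theorem result
    (Λ : Type (u + 1)) [CommRing Λ] (I : Ideal Λ) (hI : I.FG)
    (X : Scheme.{u}) [ProEtS.EpsCont X] (F : EtModW.ModP Λ X) :
    (∃ (Q : ℕᵒᵖ ⥤ EtModW.ModP Λ X) (p : (Functor.const ℕᵒᵖ).obj F ⟶ Q),
        (∀ n : ℕ, ARSys.IsQuot (I ^ (n + 1)) (p.app (op n))) ∧
        (∀ n : ℕ, ∃ E : EtModW.Mod Λ X, EtModW.IsConstructible Λ E ∧
          Nonempty ((EtModW.epsPullMod Λ X).obj E ≅ Q.obj (op n))) ∧
        IsIso (limit.lift Q (Cone.mk F p))) ↔
      ∃ G : ARSys.PS (EtModW.Mod Λ X), ARSys.IsAdic I G ∧
        (∀ n : ℕ, EtModW.IsConstructible Λ (G.obj (op n))) ∧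
        Nonempty (limit (G ⋙ EtModW.epsPullMod Λ X) ≅ F) := by
  have hLin : ∀ (a : Λ) {A B : EtModW.Mod Λ X} (ψ : A ⟶ B),
      (EtModW.epsPullMod Λ X).map (a • ψ) = a • (EtModW.epsPullMod Λ X).map ψ :=
    fun a _ _ ψ => epsPullMod_map_smul a ψ
  constructor
  · rintro ⟨Q, p, hp, hE, hiso⟩
    choose E hEc hEi using hE
    have i : ∀ n : ℕ, (EtModW.epsPullMod Λ X).obj (E n) ≅ Q.obj (op n) := fun n => (hEi n).some
    let t : ∀ n : ℕ, E (n + 1) ⟶ E n := fun n =>
      (EtModW.epsPullMod Λ X).preimage
        ((i (n + 1)).hom ≫ Q.map (homOfLE (n.le_add_right 1)).op ≫ (i n).inv)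
    let G : ARSys.PS (EtModW.Mod Λ X) := Functor.ofOpSequence t
    let τ : G ⋙ EtModW.epsPullMod Λ X ⟶ Q :=
      NatTrans.ofOpSequence (fun n => (i n).hom) (by
        intro n
        show (EtModW.epsPullMod Λ X).map (G.map (homOfLE (n.le_add_right 1)).op) ≫ (i n).hom =
          (i (n + 1)).hom ≫ Q.map (homOfLE (n.le_add_right 1)).op
        have : G.map (homOfLE (n.le_add_right 1)).op = t n :=
          Functor.ofOpSequence_map_homOfLE_succ t n
        have ht : (EtModW.epsPullMod Λ X).map (t n) =
            (i (n + 1)).hom ≫ Q.map (homOfLE (n.le_add_right 1)).op ≫ (i n).inv :=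
          Functor.map_preimage _ _
        have h2 : (EtModW.epsPullMod Λ X).map (G.map (homOfLE (n.le_add_right 1)).op) =
            (EtModW.epsPullMod Λ X).map (t n) := congrArg _ this
        have h3 := h2.trans ht
        refine (congrArg (· ≫ (i n).hom) h3).trans ?_
        show ((i (n + 1)).hom ≫ Q.map (homOfLE (n.le_add_right 1)).op ≫ (i n).inv) ≫
                (i n).hom = _
        rw [Category.assoc, Category.assoc, Iso.inv_hom_id, Category.comp_id])
    let ν : G ⋙ EtModW.epsPullMod Λ X ≅ Q :=
      NatIso.ofComponents (fun k => i k.unop) (fun f => τ.naturality f)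
    have hpw : ∀ (n m : ℕ) (h : n ≤ m), p.app (op m) ≫ ARSys.tr Q h = p.app (op n) := by
      intro n m h
      have := p.naturality (homOfLE h).op
      simp only [Functor.const_obj_obj, Functor.const_obj_map, Category.id_comp] at this
      exact this.symm
    have hQtr : ∀ (n m : ℕ) (h : n ≤ m), ARSys.IsQuot (I ^ (n + 1)) (ARSys.tr Q h) := by
      intro n m h
      apply isQuot_of_comp (I ^ (n + 1)) (I ^ (m + 1)) (p.app (op m)) _ (hp m)
      rw [hpw n m h]
      exact hp n
    refine ⟨G, ⟨?_, ?_⟩, fun n => hEc n, ⟨?_⟩⟩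
    · intro n
      apply killedBy_of_map (EtModW.epsPullMod Λ X) hLin
      exact killedBy_of_iso _ (i n).symm (hp n).1
    · intro n m h
      apply isQuot_of_map (EtModW.epsPullMod Λ X) hLin
      have hnat : (EtModW.epsPullMod Λ X).map (ARSys.tr G h) =
          (ν.app (op m)).hom ≫ ARSys.tr Q h ≫ (ν.app (op n)).inv := by
        have := ν.hom.naturality (homOfLE h).op
        rw [← Category.assoc, Iso.eq_comp_inv]
        exact this
      rw [hnat]
      apply isQuot_iso_comp'
      exact isQuot_comp_iso' _ _ (ν.app (op n)).symm (hQtr n m h)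
    · haveI := hiso
      exact HasLimit.isoOfNatIso ν ≪≫ (asIso (limit.lift Q (Cone.mk F p))).symm
  · rintro ⟨G, hG, hGc, ⟨e⟩⟩
    let Q := G ⋙ EtModW.epsPullMod Λ X
    let p : (Functor.const ℕᵒᵖ).obj F ⟶ Q :=
      { app := fun k => e.inv ≫ limit.π Q k
        naturality := by
          intro k m f
          simp only [Functor.const_obj_obj, Functor.const_obj_map, Category.id_comp,
            Category.assoc]
          rw [limit.w] }
    refine ⟨Q, p, ?_, ?_, ?_⟩
    · intro n
      exact isQuot_iso_comp' _ e.symm _ (Groth.Agent.S14009.result Λ I hI X G hG n)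
    · intro n
      exact ⟨G.obj (op n), hGc n, ⟨Iso.refl _⟩⟩
    · have : limit.lift Q (Cone.mk F p) = e.inv := by
        apply limit.hom_ext
        intro k
        rw [limit.lift_π]
      rw [this]
      infer_instance

end Groth.Agent.S14010
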