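import Groth.Statements.S13618
import Mathlib
import Groth.Agent.Lib.Helper4.NC7
import Groth.Agent.Lib.Helper4.AR1
import Groth.Agent.Lib.Helper4.CM3
import Groth.Agent.Lib27.ARNoethCat
import Groth.Agent.Lib27.ARExt

set_option autoImplicit false
open CategoryTheory CategoryTheory.Limits AlgebraicGeometry Opposite
universe u
open EtModW

namespace Groth.Agent.S13618


open Groth.Agent.Lib.Helper4 Groth.Agent.Lib27.ARSys in
/-- For a Noetherian scheme X, a Noetherian coefficient ring Λ and an ideal I of Λ, let w : F → G be a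
morphism between I-adic inverse systems of constructible sheaves of Λ-modules on the small etale
site of X. Then the kernel and the cokernel of w in the abelian category of inverse systems
(computed termwise) are AR I-adic: I^(n+1) kills their n-th terms and each receives a morphism with
kernel and cokernel null up to translation from an I-adic system of constructible sheaves.
Consequently AR I-adic systems form an abelian subcategory of the category of systems up to
translation. (The published statement is for objects isomorphic up to translation to I-adic systems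
and morphisms up to translation; its argument first reduces to I-adic systems and a genuine morphism
of systems, the case stated here.) -/
theorem result
    (Λ : Type (u + 1)) [CommRing Λ] [IsNoetherianRing Λ] (I : Ideal Λ)
    {X : Scheme.{u}} [IsNoetherian X]
    (F G : ARSys.PS (EtModW.Mod Λ X)) (hF : ARSys.IsAdic I F) (hG : ARSys.IsAdic I G)
    (hFc : ∀ n : ℕ, EtModW.IsConstructible Λ (F.obj (op n)))
    (hGc : ∀ n : ℕ, EtModW.IsConstructible Λ (G.obj (op n))) (w : F ⟶ G) :
    (ARSys.TermKilled I (kernel w) ∧ ∃ (Y : ARSys.PS (EtModW.Mod Λ X)) (v : Y ⟶ (kernel w)), ARSys.IsAdic I Y ∧ (∀ n : ℕ, EtModW.IsConstructible Λ (Y.obj (op n))) ∧ ARSys.IsARIso v) ∧ (ARSys.TermKilled I (cokernel w) ∧ ∃ (Y : ARSys.PS (EtModW.Mod Λ X)) (v : Y ⟶ (cokernel w)), ARSys.IsAdic I Y ∧ (∀ n : ℕ, EtModW.IsConstructible Λ (Y.obj (op n))) ∧ ARSys.IsARIso v) := by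
  have hJ : I.FG := IsNoetherian.noetherian I
  let P : ObjectProperty (EtModW.Mod Λ X) := fun E => EtModW.IsConstructible Λ E
  have hFN : ARSys.IsARAdicNoeth I F :=
    ⟨isARAdic_of_isAdic I F hF, fun n => NC.isNoetherianObject_of_isConstructible Λ _ (hFc n)⟩
  have hGN : ARSys.IsARAdicNoeth I G :=
    ⟨isARAdic_of_isAdic I G hG, fun n => NC.isNoetherianObject_of_isConstructible Λ _ (hGc n)⟩
  obtain ⟨hK, hQ⟩ := isARAdicNoeth_kernel_cokernel I w hFN hGN
  have hKc : ∀ n : ℕ, P ((kernel w).obj (op n)) := by
    intro n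
    have e : (kernel w).obj (op n) ≅ kernel (w.app (op n)) :=
      PreservesKernel.iso ((evaluation ℕᵒᵖ (EtModW.Mod Λ X)).obj (op n)) w
    exact CM.isConstructible_of_iso Λ e.symm
      (CM.constructible_kernel_cokernel Λ (w.app (op n)) (hFc n) (hGc n)).1
  have hQc : ∀ n : ℕ, P ((cokernel w).obj (op n)) := by
    intro n
    have e : (cokernel w).obj (op n) ≅ cokernel (w.app (op n)) :=
      PreservesCokernel.iso ((evaluation ℕᵒᵖ (EtModW.Mod Λ X)).obj (op n)) w
    exact CM.isConstructible_of_iso Λ e.symm
      (CM.constructible_kernel_cokernel Λ (w.app (op n)) (hFc n) (hGc n)).2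
  constructor
  · obtain ⟨⟨hk, Y, v, hY, hv⟩, -⟩ := hK
    exact ⟨hk, Y, v, hY, fun n => AR.prop_of_isAdic_of_isARIso P I hJ hKc hY v hv n, hv⟩
  · obtain ⟨⟨hk, Y, v, hY, hv⟩, -⟩ := hQ
    exact ⟨hk, Y, v, hY, fun n => AR.prop_of_isAdic_of_isARIso P I hJ hQc hY v hv n, hv⟩

end Groth.Agent.S13618
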