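import Groth.Statements.S14013
import Mathlib
import Groth.Agent.Lib.Helper4.PA1
import Groth.Agent.Lib.Helper4.DC16
import Groth.Agent.S14010
import Groth.Agent.S14009

set_option autoImplicit false
open CategoryTheory CategoryTheory.Limits AlgebraicGeometry Opposite
universe u
open EtModW

namespace Groth.Agent.S14013


open Groth.Agent.Lib.Helper4 Groth.Agent.Lib.Helper4.DC Groth.Agent.Lib.Helper4.MT in
/-- Let X be a Noetherian scheme, Λ a Noetherian commutative ring and I an ideal of Λ. Call a sheaf of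
Λ-modules F on the small pro-étale site of X an I-adic pro-étale sheaf when it has a compatible
tower of quotient maps F ⟶ Q_n modulo I^(n+1), every Q_n being isomorphic to the pro-étale pullback
of a constructible étale sheaf of Λ-modules, and the canonical map F ⟶ lim_n Q_n is an isomorphism.
Then for every morphism w : F ⟶ G between I-adic pro-étale sheaves, the kernel and the cokernel of w
computed among all sheaves of Λ-modules are again I-adic pro-étale sheaves. (The published statement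
is that the I-adic pro-étale sheaves form an abelian subcategory of the category of all sheaves of
Λ-modules; this row states the closure under kernels and cokernels. Continuity of the inclusion of
the étale site into the pro-étale site is carried as a binder.) -/
theorem result
    (Λ : Type (u + 1)) [CommRing Λ] [IsNoetherianRing Λ] (I : Ideal Λ)
    (X : Scheme.{u}) [IsNoetherian X] [ProEtS.EpsCont X]
    (F G : EtModW.ModP Λ X)
    (hF : (∃ (Q : ℕᵒᵖ ⥤ EtModW.ModP Λ X) (p : (Functor.const ℕᵒᵖ).obj F ⟶ Q),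
        (∀ n : ℕ, ARSys.IsQuot (I ^ (n + 1)) (p.app (op n))) ∧
        (∀ n : ℕ, ∃ E : EtModW.Mod Λ X, EtModW.IsConstructible Λ E ∧
          Nonempty ((EtModW.epsPullMod Λ X).obj E ≅ Q.obj (op n))) ∧
        IsIso (limit.lift Q (Cone.mk F p))))
    (hG : (∃ (Q : ℕᵒᵖ ⥤ EtModW.ModP Λ X) (p : (Functor.const ℕᵒᵖ).obj G ⟶ Q),
        (∀ n : ℕ, ARSys.IsQuot (I ^ (n + 1)) (p.app (op n))) ∧
        (∀ n : ℕ, ∃ E : EtModW.Mod Λ X, EtModW.IsConstructible Λ E ∧
          Nonempty ((EtModW.epsPullMod Λ X).obj E ≅ Q.obj (op n))) ∧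
        IsIso (limit.lift Q (Cone.mk G p))))
    (w : F ⟶ G) :
    (∃ (Q : ℕᵒᵖ ⥤ EtModW.ModP Λ X) (p : (Functor.const ℕᵒᵖ).obj (kernel w) ⟶ Q),
      (∀ n : ℕ, ARSys.IsQuot (I ^ (n + 1)) (p.app (op n))) ∧
      (∀ n : ℕ, ∃ E : EtModW.Mod Λ X, EtModW.IsConstructible Λ E ∧
        Nonempty ((EtModW.epsPullMod Λ X).obj E ≅ Q.obj (op n))) ∧
      IsIso (limit.lift Q (Cone.mk (kernel w) p))) ∧
    (∃ (Q : ℕᵒᵖ ⥤ EtModW.ModP Λ X) (p : (Functor.const ℕᵒᵖ).obj (cokernel w) ⟶ Q),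
      (∀ n : ℕ, ARSys.IsQuot (I ^ (n + 1)) (p.app (op n))) ∧
      (∀ n : ℕ, ∃ E : EtModW.Mod Λ X, EtModW.IsConstructible Λ E ∧
        Nonempty ((EtModW.epsPullMod Λ X).obj E ≅ Q.obj (op n))) ∧
      IsIso (limit.lift Q (Cone.mk (cokernel w) p))) := by
  have hI : I.FG := IsNoetherian.noetherian I
  obtain ⟨G₁, h₁, c₁, ⟨e₁⟩⟩ := (Groth.Agent.S14010.result Λ I hI X F).1 hF
  obtain ⟨G₂, h₂, c₂, ⟨e₂⟩⟩ := (Groth.Agent.S14010.result Λ I hI X G).1 hG
  have key : ∀ (G' : ARSys.PS (EtModW.Mod Λ X)) (hG' : ARSys.IsAdic I G') (n : ℕ),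
      ARSys.IsQuot (I ^ (n + 1)) (limit.π (G' ⋙ EtModW.epsPullMod Λ X) (op n)) :=
    fun G' hG' n => Groth.Agent.S14009.result Λ I hI X G' hG' n
  obtain ⟨ω, hω⟩ := limMap_whiskerRight_surjective (EtModW.epsPullMod Λ X) I G₁ G₂
    (key G₁ h₁) (fun n => (key G₂ h₂ n).1) (e₁.hom ≫ w ≫ e₂.inv)
  obtain ⟨⟨YK, hYK, cYK, ⟨iK⟩⟩, ⟨YQ, hYQ, cYQ, ⟨iQ⟩⟩⟩ :=
    PA.exists_adic_kernel_cokernel Λ X I G₁ G₂ h₁ h₂ c₁ c₂ ω
  have hω' : (PA.LL Λ X).map ω = e₁.hom ≫ w ≫ e₂.inv := hω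
  have hsq : (PA.LL Λ X).map ω ≫ e₂.hom = e₁.hom ≫ w := by
    rw [hω', Category.assoc, Category.assoc, Iso.inv_hom_id, Category.comp_id]
  constructor
  · exact (Groth.Agent.S14010.result Λ I hI X (kernel w)).2
      ⟨YK, hYK, cYK, ⟨iK ≪≫ kernel.mapIso _ _ e₁ e₂ hsq⟩⟩
  · exact (Groth.Agent.S14010.result Λ I hI X (cokernel w)).2
      ⟨YQ, hYQ, cYQ, ⟨iQ ≪≫ cokernel.mapIso _ _ e₁ e₂ hsq⟩⟩

end Groth.Agent.S14013
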