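import Groth.Statements.S16448
import Mathlib
import Groth.Agent.Lib.Helper4.TotFrac

set_option autoImplicit false
universe u
open EGA4loc

namespace Groth.Agent.S16448

open Groth.Agent.Lib.Helper4 in
/-- Let A be a reduced local ring with finitely many minimal prime ideals and E a local ring which is an
essentially etale local A-algebra with local structure map. Then the total ring of fractions K_E of
E is the localization of E at the images of the non-zero-divisors of A — that is, K_E = E ⊗_A K_A —
and K_E is finite over K_A: for some finite subset t of K_E, every element of K_E multiplied by the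
image of a suitable non-zero-divisor of A lies in the A-span of t. (The published statement is for a
reduced semilocal ring and a semilocal etale extension; this row treats a local ring and a local
etale extension.) -/
theorem result
    (A E : Type u) [CommRing A] [IsLocalRing A] [IsReduced A] (hmin : (minimalPrimes A).Finite)
    [CommRing E] [IsLocalRing E] [Algebra A E] [IsLocalHom (algebraMap A E)]
    (hE : EGA4loc.IsEssentiallyEtale A E) :
    IsLocalization ((nonZeroDivisors A).map (algebraMap A E)) (FractionRing E) ∧
      ∃ t : Finset (FractionRing E), ∀ x : FractionRing E, ∃ a ∈ nonZeroDivisors A,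
        algebraMap A (FractionRing E) a * x ∈ Submodule.span A (t : Set (FractionRing E)) := by
  classical
  have hft := EssEtale.essFiniteType hE
  have hfe := EssEtale.formallyEtale hE
  have hflat : Module.Flat A E := by
    obtain ⟨C, _, _, q, hq, hC, hqA, ⟨e⟩⟩ := hE
    have h1 : Module.Flat A (Localization.AtPrime q) :=
      Module.Flat.trans A C (Localization.AtPrime q)
    exact Module.Flat.of_linearEquiv e.toLinearEquiv
  have hMN : ∀ a ∈ nonZeroDivisors A, algebraMap A E a ∈ nonZeroDivisors E := by
    intro a ha
    have hreg := Module.Flat.isSMulRegular_of_nonZeroDivisors (M := E) ha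
    rw [mem_nonZeroDivisors_iff_left]
    intro x hx
    apply hreg
    show a • x = a • 0
    rw [smul_zero, Algebra.smul_def]
    exact hx
  have hdvd : ∀ u ∈ nonZeroDivisors E, ∃ a ∈ nonZeroDivisors A, u ∣ algebraMap A E a := by
    intro u hu
    obtain ⟨a, ha, haI⟩ := TotFrac.exists_nonZeroDivisor_mem hmin
      ((Ideal.span {u}).comap (algebraMap A E)) (fun p hp hle => by
        have hpp : p.IsPrime := hp.1.1
        obtain ⟨s, hs, e', he'⟩ :=
          TotFrac.exists_mul_eq_algebraMap_of_mem_nonZeroDivisors p hp u hu
        exact hs (hle (by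
          rw [Ideal.mem_comap, ← he']
          exact Ideal.mul_mem_right _ _ (Ideal.mem_span_singleton_self u))))
    exact ⟨a, ha, Ideal.mem_span_singleton.mp haI⟩
  refine ⟨?_, ?_⟩
  · refine (isLocalization_iff _ _).mpr ⟨?_, ?_, ?_⟩
    · rintro ⟨m, a, ha, rfl⟩
      exact IsLocalization.map_units (FractionRing E)
        (⟨algebraMap A E a, hMN a ha⟩ : nonZeroDivisors E)
    · intro z
      obtain ⟨⟨e, n⟩, hz⟩ := IsLocalization.surj (nonZeroDivisors E) z
      obtain ⟨a, ha, c, hc⟩ := hdvd n.1 n.2
      refine ⟨⟨e * c, ⟨algebraMap A E a, a, ha, rfl⟩⟩, ?_⟩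
      show z * algebraMap E (FractionRing E) (algebraMap A E a) =
        algebraMap E (FractionRing E) (e * c)
      rw [hc, map_mul, ← mul_assoc, hz, map_mul]
    · intro x y hxy
      have := (IsFractionRing.injective E (FractionRing E)) hxy
      exact ⟨1, by rw [this]⟩
  · -- finiteness
    have hch : ∀ p : minimalPrimes A, ∃ σ : Finset E, ∀ e : E, ∃ s : A, s ∉ p.1 ∧
        s • e ∈ Submodule.span A (σ : Set E) := by
      intro p
      have hpp : p.1.IsPrime := p.2.1.1
      exact TotFrac.exists_finset_span (E := E) p.1 p.2
    choose σ hσ using hch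
    have : Fintype (minimalPrimes A) := hmin.fintype
    let τ : Finset E := Finset.univ.biUnion σ
    refine ⟨τ.image (algebraMap E (FractionRing E)), fun x => ?_⟩
    obtain ⟨⟨e, n⟩, hz⟩ := IsLocalization.surj (nonZeroDivisors E) x
    obtain ⟨a₀, ha₀, c, hc⟩ := hdvd n.1 n.2
    -- `a₀ x = e c`
    have h1 : algebraMap A (FractionRing E) a₀ * x = algebraMap E (FractionRing E) (e * c) := by
      rw [IsScalarTower.algebraMap_apply A E (FractionRing E), hc, map_mul, mul_comm, ← mul_assoc,
        hz, map_mul]
    -- an ideal of multipliers
    let J : Ideal A :=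
      { carrier := {a | a • (e * c) ∈ Submodule.span A (τ : Set E)}
        add_mem' := fun {a b} ha hb => by
          show (a + b) • (e * c) ∈ Submodule.span A (τ : Set E)
          rw [add_smul]; exact Submodule.add_mem _ ha hb
        zero_mem' := by
          show (0 : A) • (e * c) ∈ Submodule.span A (τ : Set E)
          rw [zero_smul]; exact Submodule.zero_mem _
        smul_mem' := fun r a ha => by
          show (r • a) • (e * c) ∈ Submodule.span A (τ : Set E)
          rw [smul_assoc]; exact Submodule.smul_mem _ _ ha }
    obtain ⟨a, ha, haJ⟩ := TotFrac.exists_nonZeroDivisor_mem hmin J (fun p hp hle => by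
      obtain ⟨s, hs, hmem⟩ := hσ ⟨p, hp⟩ (e * c)
      have hsub : Submodule.span A ((σ ⟨p, hp⟩ : Finset E) : Set E) ≤
          Submodule.span A (τ : Set E) := by
        apply Submodule.span_mono
        intro y hy
        simp only [τ, Finset.coe_biUnion, Set.mem_iUnion]
        exact ⟨⟨p, hp⟩, Finset.mem_coe.mpr (Finset.mem_univ _), hy⟩
      exact hs (hle (show s ∈ J from hsub hmem)))
    refine ⟨a * a₀, mul_mem ha ha₀, ?_⟩
    rw [map_mul, mul_assoc, h1]
    have h2 : algebraMap A (FractionRing E) a * algebraMap E (FractionRing E) (e * c) =
        (IsScalarTower.toAlgHom A E (FractionRing E)).toLinearMap (a • (e * c)) := by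
      rw [map_smul, Algebra.smul_def]
      rfl
    rw [h2, Finset.coe_image]
    have h3 : Submodule.span A ((algebraMap E (FractionRing E)) '' (τ : Set E)) =
        (Submodule.span A (τ : Set E)).map (IsScalarTower.toAlgHom A E (FractionRing E)).toLinearMap := by
      rw [Submodule.map_span]
      rfl
    rw [h3]
    exact Submodule.mem_map_of_mem haJ

end Groth.Agent.S16448
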