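import Groth.Statements.S0523
import Mathlib
import Groth.Agent.Lib.Helper4.HenselPairE

set_option autoImplicit false
universe u
open Hensel

namespace Groth.Agent.S0523

open Groth.Agent.Lib.Helper4.HenselPair in
/-- `A` is Henselian at `I` exactly when for every étale `A`-algebra `A'` every `A`-algebra map `A' →
A/I` lifts to an `A`-algebra map `A' → A`. -/
theorem result (A : Type u) [CommRing A] (I : Ideal A) :
    HenselianRing A I ↔ ∀ (A' : Type u) [CommRing A'] [Algebra A A'] [Algebra.Etale A A']
      (σ : A' →ₐ[A] A ⧸ I), ∃ τ : A' →ₐ[A] A, (Ideal.Quotient.mkₐ A I).comp τ = σ := by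
  constructor
  · intro h A' _ _ _ σ
    exact exists_lift_of_etale I σ
  · intro h
    refine ⟨?_, ?_⟩
    · intro a ha
      rw [Ideal.mem_jacobson_bot]
      intro y
      set f : A := a * y + 1 with hf
      have hmk : Ideal.Quotient.mkₐ A I f = 1 := by
        change Ideal.Quotient.mk I f = 1
        rw [hf, map_add, map_one, map_mul, Ideal.Quotient.eq_zero_iff_mem.mpr ha, zero_mul, zero_add]
      have hu : IsUnit (Ideal.Quotient.mkₐ A I f) := by rw [hmk]; exact isUnit_one
      let σ : Localization.Away f →ₐ[A] A ⧸ I :=
        IsLocalization.Away.liftAlgHom (S := Localization.Away f) f hu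
      obtain ⟨τ, -⟩ := h (Localization.Away f) σ
      have h1 : τ (algebraMap A (Localization.Away f) f) = f := τ.commutes f
      rw [← h1]
      exact (IsLocalization.Away.algebraMap_isUnit f).map τ
    · intro f hf a₀ h0 hu
      let P : StandardEtalePair A := ⟨f, hf, Polynomial.derivative f, ⟨1, 0, 1, by simp⟩⟩
      have hmap : P.HasMap (Ideal.Quotient.mk I a₀) := by
        refine ⟨?_, ?_⟩
        · change Polynomial.aeval (Ideal.Quotient.mk I a₀) f = 0
          rw [← Ideal.Quotient.algebraMap_eq, Polynomial.aeval_algebraMap_apply,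
            Ideal.Quotient.algebraMap_eq]
          exact Ideal.Quotient.eq_zero_iff_mem.mpr h0
        · change IsUnit (Polynomial.aeval (Ideal.Quotient.mk I a₀) (Polynomial.derivative f))
          rw [← Ideal.Quotient.algebraMap_eq, Polynomial.aeval_algebraMap_apply,
            Ideal.Quotient.algebraMap_eq]
          exact hu
      obtain ⟨τ, hτ⟩ := h P.Ring (P.lift _ hmap)
      refine ⟨τ P.X, ?_, ?_⟩
      · have := (P.hasMap_X.map τ).1
        change Polynomial.aeval (τ P.X) f = 0 at this
        rw [Polynomial.IsRoot, ← Polynomial.coe_aeval_eq_eval]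
        exact this
      · have h2 := congrArg (fun g => g P.X) hτ
        simp only [AlgHom.comp_apply, StandardEtalePair.lift_X] at h2
        rw [← Ideal.Quotient.eq_zero_iff_mem, map_sub, sub_eq_zero]
        exact h2

end Groth.Agent.S0523
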