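import Groth.Statements.S17609
import Mathlib
import Groth.Agent.Lib.Helper4.HzPairFactor

set_option autoImplicit false
universe u
open Hensel

namespace Groth.Agent.S17609

open TensorProduct in
open Groth.Agent.Lib.Helper4 in
/-- Let (A, I) be a Henselian pair and let B, C be Henselizations of the pairs (R, IR), (S, IS) for
finitely presented A-algebras R and S, with their induced A-algebra structures (so A → B and A → C
are Henselian finitely presented). Then every A-algebra map B → C (encoded as a B-algebra structure
on C compatible with that of A) is Henselian finitely presented: there are a finitely presented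
B-algebra T and a T-algebra structure on C compatible with that of B for which C is a Henselization
of the pair (T, IBT). -/
theorem result (A : Type u) [CommRing A] (I : Ideal A) [HenselianRing A I]
    (R : Type u) [CommRing R] [Algebra A R] [Algebra.FinitePresentation A R]
    (B : Type u) [CommRing B] [Algebra R B] [Algebra A B] [IsScalarTower A R B]
    (hB : Hens2.IsPairHenselization R (I.map (algebraMap A R)) B)
    (S : Type u) [CommRing S] [Algebra A S] [Algebra.FinitePresentation A S]
    (C : Type u) [CommRing C] [Algebra S C] [Algebra A C] [IsScalarTower A S C]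
    (hC : Hens2.IsPairHenselization S (I.map (algebraMap A S)) C)
    [Algebra B C] [IsScalarTower A B C] :
    ∃ (T : Type u) (_ : CommRing T) (_ : Algebra B T) (_ : Algebra T C) (_ : IsScalarTower B T C),
      Algebra.FinitePresentation B T ∧
      Hens2.IsPairHenselization T ((I.map (algebraMap A B)).map (algebraMap B T)) C := by
  classical
  let g : R →ₐ[A] C := (IsScalarTower.toAlgHom A B C).comp (IsScalarTower.toAlgHom A R B)
  obtain ⟨E, _, _, _, _, hE, ψ, g', hg'⟩ :=
    HzPairBase.exists_factor (I.map (algebraMap A S)) hC g
  let _ : Algebra R E := g'.toRingHom.toAlgebra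
  have _ : IsScalarTower A R E := IsScalarTower.of_algebraMap_eq (fun a => (g'.commutes a).symm)
  let _ : Algebra E C := ψ.toRingHom.toAlgebra
  have _ : IsScalarTower S E C := IsScalarTower.of_algebraMap_eq (fun s => (ψ.commutes s).symm)
  have hEC := HzPairBase.of_nbhd (I.map (algebraMap A S)) hE hC
  let _ : Algebra R C := ((algebraMap B C).comp (algebraMap R B)).toAlgebra
  have _ : IsScalarTower R B C := IsScalarTower.of_algebraMap_eq (fun _ => rfl)
  have _ : IsScalarTower R E C := IsScalarTower.of_algebraMap_eq (fun r => (hg' r).symm)
  have hid : (I.map (algebraMap A S)).map (algebraMap S E) =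
      (I.map (algebraMap A R)).map (algebraMap R E) := by
    rw [Ideal.map_map, Ideal.map_map, ← IsScalarTower.algebraMap_eq, ← IsScalarTower.algebraMap_eq]
  rw [hid] at hEC
  have hT := HzPairBase.tensor (I.map (algebraMap A R)) hB hEC
  have _ : Algebra.Etale S E := hE.etale
  have hfpE : Algebra.FinitePresentation A E := Algebra.FinitePresentation.trans A S E
  have hfpRE : Algebra.FinitePresentation R E :=
    Algebra.FinitePresentation.of_restrict_scalars_finitePresentation A R E
  let φ : B ⊗[R] E →ₐ[R] C := Algebra.TensorProduct.productMap (IsScalarTower.toAlgHom R B C)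
    (IsScalarTower.toAlgHom R E C)
  let _ : Algebra (B ⊗[R] E) C := φ.toRingHom.toAlgebra
  have htower : IsScalarTower B (B ⊗[R] E) C := IsScalarTower.of_algebraMap_eq (fun b => by
    show algebraMap B C b = φ (b ⊗ₜ 1)
    simp [φ])
  refine ⟨B ⊗[R] E, inferInstance, inferInstance, inferInstance, htower, inferInstance, ?_⟩
  have hid2 : (I.map (algebraMap A B)).map (algebraMap B (B ⊗[R] E)) =
      ((I.map (algebraMap A R)).map (algebraMap R B)).map (algebraMap B (B ⊗[R] E)) := by
    rw [Ideal.map_map (algebraMap A R), ← IsScalarTower.algebraMap_eq]
  rw [hid2]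
  exact hT

end Groth.Agent.S17609
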