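import Groth.Statements.S13199
import Mathlib
import Groth.Agent.Lib.Helper6.UBS3
import Groth.Agent.Lib.Helper4.HzsUnibr6
import Groth.Agent.Lib.Helper4.HzsUnibr
-- import your own Groth.Agent.* helpers here

set_option autoImplicit false
universe u
open Hensel

namespace Groth.Agent.S13199

/-- Let R be a Noetherian integral domain which is a strictly henselian local ring (henselian with
separably closed residue field), R' a smooth R-algebra and p a prime ideal of R' lying over the
maximal ideal of R (that is, containing its image). Then the local ring R'_p is an integral domain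
and is geometrically unibranch: the integral closure of R'_p in its fraction field is a local ring
whose residue field is purely inseparable over that of R'_p. (The published statement concludes that
every strict henselization of R'_p is an integral domain; for a local ring this is equivalent to
being an integral domain which is geometrically unibranch, the conclusion stated here.) -/
theorem result
    (R R' : Type u) [CommRing R] [IsDomain R] [IsNoetherianRing R] [HenselianLocalRing R]
    [IsSepClosed (IsLocalRing.ResidueField R)]
    [CommRing R'] [Algebra R R'] [Algebra.Smooth R R']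
    (p : Ideal R') [p.IsPrime] (hp : (IsLocalRing.maximalIdeal R).map (algebraMap R R') ≤ p) :
    IsDomain (Localization.AtPrime p) ∧ CAlg2.IsGeomUnibranch (Localization.AtPrime p) := by
  classical
  haveI hdomred : IsDomain (CAlg2.red R) := Groth.Agent.Lib.Helper6.GU.isDomain_red R
  haveI hint : Algebra.IsIntegral R (CAlg2.normRed R) := Algebra.IsIntegral.trans (CAlg2.red R)
  have hloc : IsLocalRing (CAlg2.normRed R) :=
    Groth.Agent.Lib.Helper4.Unibr.isLocalRing_of_isDomain_of_isIntegral R (CAlg2.normRed R)
  have hUni : CAlg2.IsUnibranch R := ⟨hdomred, hloc⟩
  have hGU : CAlg2.IsGeomUnibranch R :=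
    Groth.Agent.Lib.Helper4.Unibr.isGeomUnibranch_of_isSepClosed R hUni
  have hGU' : Groth.Agent.Lib.Helper6.GU.GU' R (FractionRing R) :=
    Groth.Agent.Lib.Helper6.GU.gu'_of_isGeomUnibranch R (FractionRing R) hGU
  have hq : p.comap (algebraMap R R') = IsLocalRing.maximalIdeal R := by
    have h1 : IsLocalRing.maximalIdeal R ≤ p.comap (algebraMap R R') :=
      Ideal.map_le_iff_le_comap.mp hp
    exact ((IsLocalRing.maximalIdeal.isMaximal R).eq_of_le
      (Ideal.IsPrime.ne_top (Ideal.IsPrime.comap _)) h1).symm
  exact Groth.Agent.Lib.Helper6.UB.isGeomUnibranch_localization_of_smooth R (FractionRing R) R'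
    hGU' p hq

end Groth.Agent.S13199
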