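import Groth.Statements.S17730
import Mathlib
import Groth.Agent.Lib.Helper4.HzsQuot
import Groth.Agent.Lib.Helper4.HznQF
import Groth.Agent.Lib.Helper4.HzsProps
import Groth.Agent.Lib.Helper4.HzsBC1
import Groth.Agent.Lib.Helper6.UB6
import Groth.Agent.S13199

set_option autoImplicit false
universe u
open Hensel

namespace Groth.Agent.S17730

open IsLocalRing in
open Groth.Agent.Lib.Helper4 in
/-- Let R be a Noetherian local ring which is strictly henselian (henselian with separably closed
residue field), Δ a prime element of R, R' a smooth R-algebra, q a prime ideal of R' containing the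
image of the maximal ideal of R, and T a strict henselization of the localization R'_q. Then the
image of Δ in T is a prime element of T. (This is the published statement, that a prime element of
the étale local ring of the base at a geometric point remains prime in the étale local ring of a
smooth scheme over it at a geometric point above, written for the base the spectrum of R; the
published hypothesis that the base be smooth-factorial, meaning that all its smooth schemes are
locally factorial, is not used by the argument and is omitted; R is taken Noetherian, which the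
published statement does not state and the argument requires.) -/
theorem result
    (R R' T : Type u) [CommRing R] [IsNoetherianRing R] [HenselianLocalRing R]
    [IsSepClosed (ResidueField R)]
    [CommRing R'] [Algebra R R'] [Algebra.Smooth R R']
    (q : Ideal R') [q.IsPrime] (hq : (maximalIdeal R).map (algebraMap R R') ≤ q)
    [CommRing T] [IsLocalRing T] [Algebra (Localization.AtPrime q) T]
    [IsLocalHom (algebraMap (Localization.AtPrime q) T)]
    [Hensel.IsStrictHenselization (Localization.AtPrime q) T]
    (Δ : R) (hΔ : Prime Δ) :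
    Prime (algebraMap (Localization.AtPrime q) T
      (algebraMap R' (Localization.AtPrime q) (algebraMap R R' Δ))) := by
  classical
  have hJprime : (Ideal.span {Δ} : Ideal R).IsPrime := (Ideal.span_singleton_prime hΔ.ne_zero).mpr hΔ
  have hJle : (Ideal.span {Δ} : Ideal R) ≤ maximalIdeal R := IsLocalRing.le_maximalIdeal hJprime.ne_top
  have hRbdom : IsDomain (R ⧸ (Ideal.span {Δ} : Ideal R)) :=
    (Ideal.Quotient.isDomain_iff_prime _).mpr hJprime
  have hRbloc : IsLocalRing (R ⧸ (Ideal.span {Δ} : Ideal R)) :=
    IsLocalRing.of_surjective' (Ideal.Quotient.mk _) Ideal.Quotient.mk_surjective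
  have hRblh : IsLocalHom (algebraMap R (R ⧸ (Ideal.span {Δ} : Ideal R))) :=
    IsLocalHom.of_surjective (Ideal.Quotient.mk _) Ideal.Quotient.mk_surjective
  have hRbint : Algebra.IsIntegral R (R ⧸ (Ideal.span {Δ} : Ideal R)) :=
    Algebra.IsIntegral.of_surjective (Algebra.ofId R _) Ideal.Quotient.mk_surjective
  have hRbh : HenselianLocalRing (R ⧸ (Ideal.span {Δ} : Ideal R)) :=
    Hzn.henselianLocalRing_of_isIntegral R _
  have hRbres := Hzs.isIntegral_residueField_of_isIntegral R (R ⧸ (Ideal.span {Δ} : Ideal R))
  have hRbsc : IsSepClosed (ResidueField (R ⧸ (Ideal.span {Δ} : Ideal R))) :=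
    Algebra.IsAlgebraic.isSepClosed (F := ResidueField R)
  have hsm : Algebra.Smooth (R ⧸ (Ideal.span {Δ} : Ideal R))
      (R' ⧸ (Ideal.span {Δ} : Ideal R).map (algebraMap R R')) :=
    Algebra.Smooth.of_equiv (Algebra.TensorProduct.quotIdealMapEquivQuotTensor R' _).symm
  have hI'q : (Ideal.span {Δ} : Ideal R).map (algebraMap R R') ≤ q :=
    (Ideal.map_mono hJle).trans hq
  have hqb : (q.map (Ideal.Quotient.mk ((Ideal.span {Δ} : Ideal R).map (algebraMap R R')))).IsPrime :=
    Ideal.map_isPrime_of_surjective Ideal.Quotient.mk_surjective (by rw [Ideal.mk_ker]; exact hI'q)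
  have hqb_comap : (q.map (Ideal.Quotient.mk ((Ideal.span {Δ} : Ideal R).map (algebraMap R R')))).comap
      (Ideal.Quotient.mk _) = q := by
    rw [Ideal.comap_map_of_surjective _ Ideal.Quotient.mk_surjective, ← RingHom.ker_eq_comap_bot,
      Ideal.mk_ker, sup_eq_left.mpr hI'q]
  have hqbm : (maximalIdeal (R ⧸ (Ideal.span {Δ} : Ideal R))).map
      (algebraMap _ (R' ⧸ (Ideal.span {Δ} : Ideal R).map (algebraMap R R'))) ≤
      q.map (Ideal.Quotient.mk _) := by
    rw [Ideal.map_le_iff_le_comap]
    intro x hx
    obtain ⟨r, rfl⟩ := Ideal.Quotient.mk_surjective x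
    have hr : r ∈ maximalIdeal R := by
      rw [mem_maximalIdeal, mem_nonunits_iff] at hx ⊢
      exact fun h => hx (h.map _)
    change Ideal.Quotient.mk ((Ideal.span {Δ} : Ideal R).map (algebraMap R R'))
      (algebraMap R R' r) ∈ q.map (Ideal.Quotient.mk _)
    exact Ideal.mem_map_of_mem _ (hq (Ideal.mem_map_of_mem _ hr))
  obtain ⟨hd1, hg1⟩ := Groth.Agent.S13199.result (R ⧸ (Ideal.span {Δ} : Ideal R))
    (R' ⧸ (Ideal.span {Δ} : Ideal R).map (algebraMap R R')) _ hqbm
  have hlocB : IsLocalization (Algebra.algebraMapSubmonoid
      (R' ⧸ (Ideal.span {Δ} : Ideal R).map (algebraMap R R')) q.primeCompl)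
      (Localization.AtPrime q ⧸ ((Ideal.span {Δ} : Ideal R).map (algebraMap R R')).map
        (algebraMap R' (Localization.AtPrime q))) := inferInstance
  have hsub : Algebra.algebraMapSubmonoid
      (R' ⧸ (Ideal.span {Δ} : Ideal R).map (algebraMap R R')) q.primeCompl =
      (q.map (Ideal.Quotient.mk ((Ideal.span {Δ} : Ideal R).map (algebraMap R R')))).primeCompl := by
    ext x
    constructor
    · rintro ⟨a, ha, rfl⟩ hmem
      have : a ∈ (q.map (Ideal.Quotient.mk ((Ideal.span {Δ} : Ideal R).map
          (algebraMap R R')))).comap (Ideal.Quotient.mk _) := hmem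
      rw [hqb_comap] at this
      exact ha this
    · intro hx
      obtain ⟨a, rfl⟩ := Ideal.Quotient.mk_surjective x
      exact ⟨a, fun ha => hx (Ideal.mem_map_of_mem _ ha), rfl⟩
  rw [hsub] at hlocB
  let e : Localization.AtPrime (q.map (Ideal.Quotient.mk ((Ideal.span {Δ} : Ideal R).map
      (algebraMap R R')))) ≃ₐ[R' ⧸ (Ideal.span {Δ} : Ideal R).map (algebraMap R R')]
      (Localization.AtPrime q ⧸ ((Ideal.span {Δ} : Ideal R).map (algebraMap R R')).map
        (algebraMap R' (Localization.AtPrime q))) :=
    IsLocalization.algEquiv (q.map (Ideal.Quotient.mk ((Ideal.span {Δ} : Ideal R).map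
      (algebraMap R R')))).primeCompl _ _
  have hBloc : IsLocalRing (Localization.AtPrime q ⧸ ((Ideal.span {Δ} : Ideal R).map
      (algebraMap R R')).map (algebraMap R' (Localization.AtPrime q))) := e.toRingEquiv.isLocalRing
  have hBdom : IsDomain (Localization.AtPrime q ⧸ ((Ideal.span {Δ} : Ideal R).map
      (algebraMap R R')).map (algebraMap R' (Localization.AtPrime q))) :=
    e.toRingEquiv.toMulEquiv.isDomain_iff.mp hd1
  have hBGU : CAlg2.IsGeomUnibranch (Localization.AtPrime q ⧸ ((Ideal.span {Δ} : Ideal R).map
      (algebraMap R R')).map (algebraMap R' (Localization.AtPrime q))) :=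
    Groth.Agent.Lib.Helper6.UB.isGeomUnibranch_of_ringEquiv e.toRingEquiv hg1
  have hprime := Hzs.isPrime_map_of_isGeomUnibranch_quotient (Localization.AtPrime q) T
    (((Ideal.span {Δ} : Ideal R).map (algebraMap R R')).map
      (algebraMap R' (Localization.AtPrime q))) inferInstance hBGU
  have hspan : (((Ideal.span {Δ} : Ideal R).map (algebraMap R R')).map
      (algebraMap R' (Localization.AtPrime q))).map (algebraMap (Localization.AtPrime q) T) =
      Ideal.span {algebraMap (Localization.AtPrime q) T
        (algebraMap R' (Localization.AtPrime q) (algebraMap R R' Δ))} := by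
    simp only [Ideal.map_span, Set.image_singleton]
  rw [hspan] at hprime
  have hflatRO : Module.Flat R (Localization.AtPrime q) := Module.Flat.trans R R' _
  have hlocRO : IsLocalHom (algebraMap R (Localization.AtPrime q)) := by
    refine ⟨fun a ha => ?_⟩
    by_contra hna
    have h1 : algebraMap R R' a ∈ q := hq (Ideal.mem_map_of_mem _ ((mem_maximalIdeal a).mpr hna))
    rw [IsScalarTower.algebraMap_apply R R' (Localization.AtPrime q)] at ha
    have h2 := (IsLocalization.AtPrime.to_map_mem_maximal_iff (Localization.AtPrime q) q _).mpr h1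
    exact (mem_maximalIdeal _).mp h2 ha
  have hffRO : Module.FaithfullyFlat R (Localization.AtPrime q) :=
    Module.FaithfullyFlat.of_flat_of_isLocalHom
  have hffOT : Module.FaithfullyFlat (Localization.AtPrime q) T :=
    Hzs.faithfullyFlat_of_isStrictHenselization _ T
  have hne : algebraMap (Localization.AtPrime q) T
      (algebraMap R' (Localization.AtPrime q) (algebraMap R R' Δ)) ≠ 0 := by
    rw [Ne, map_eq_zero_iff _ (FaithfulSMul.algebraMap_injective (Localization.AtPrime q) T),
      ← IsScalarTower.algebraMap_apply R R' (Localization.AtPrime q),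
      map_eq_zero_iff _ (FaithfulSMul.algebraMap_injective R (Localization.AtPrime q))]
    exact hΔ.ne_zero
  exact (Ideal.span_singleton_prime hne).mp hprime

end Groth.Agent.S17730
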