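import Groth.Statements.S1996
-- import your own Groth.Agent.* helpers here

set_option autoImplicit false
universe u
open EtAlg

namespace Groth.Agent.S1996

open TensorProduct in
/-- If `R → B → C` with `C` faithfully flat over `B` and `C` flat over `R` then `B` is flat
over `R`. -/
theorem flat_of_faithfullyFlat_comp (R B C : Type u) [CommRing R] [CommRing B] [CommRing C]
    [Algebra R B] [Algebra B C] [Algebra R C] [IsScalarTower R B C] [Module.FaithfullyFlat B C]
    [Module.Flat R C] : Module.Flat R B := by
  rw [Module.Flat.iff_lTensor_preserves_injective_linearMap]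
  intro N P _ _ _ _ f hf
  have h1 : Function.Injective (TensorProduct.AlgebraTensorModule.lTensor B B f) := by
    rw [← Module.FaithfullyFlat.lTensor_injective_iff_injective B C]
    have h2 := TensorProduct.AlgebraTensorModule.lTensor_comp_cancelBaseChange R B C (M := C) f
    have h3 : Function.Injective
        ((TensorProduct.AlgebraTensorModule.lTensor C C f) ∘ₗ
          (TensorProduct.AlgebraTensorModule.cancelBaseChange R B C C N).toLinearMap) := by
      rw [LinearMap.coe_comp]
      refine Function.Injective.comp ?_ (LinearEquiv.injective _)
      exact Module.Flat.lTensor_preserves_injective_linearMap f hf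
    rw [h2, LinearMap.coe_comp] at h3
    exact Function.Injective.of_comp h3
  exact h1

/-- Let A -> B -> C be ring maps with B -> C faithfully flat. Weak etaleness of A -> C then implies weak
etaleness of A -> B. -/
theorem result (A B C : Type u) [CommRing A] [CommRing B] [CommRing C] [Algebra A B]
    [Algebra B C] [Algebra A C] [IsScalarTower A B C] [Module.FaithfullyFlat B C] [Algebra.WeaklyEtale A C] :
    Algebra.WeaklyEtale A B := by
  have hAB : Module.Flat A B := flat_of_faithfullyFlat_comp A B C
  refine ⟨hAB, ?_⟩
  have hC : (Algebra.TensorProduct.lmul' A (S := C)).Flat := Algebra.WeaklyEtale.flat_lmul' A C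
  have hmap : (Algebra.TensorProduct.map (IsScalarTower.toAlgHom A B C)
      (IsScalarTower.toAlgHom A B C)).Flat := by
    refine RingHom.Flat.tensorProductMap ?_ ?_
    · exact RingHom.flat_algebraMap_iff.2 inferInstance
    · exact RingHom.flat_algebraMap_iff.2 inferInstance
  have hcomp : ((algebraMap B C).comp
      (Algebra.TensorProduct.lmul' A (S := B)).toRingHom).Flat := by
    have heq : (algebraMap B C).comp (Algebra.TensorProduct.lmul' A (S := B)).toRingHom =
        ((Algebra.TensorProduct.lmul' A (S := C)).toRingHom).comp
          (Algebra.TensorProduct.map (IsScalarTower.toAlgHom A B C)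
            (IsScalarTower.toAlgHom A B C)).toRingHom := by
      have : ((IsScalarTower.toAlgHom A B C).comp (Algebra.TensorProduct.lmul' A (S := B))) =
          (Algebra.TensorProduct.lmul' A (S := C)).comp
          (Algebra.TensorProduct.map (IsScalarTower.toAlgHom A B C)
            (IsScalarTower.toAlgHom A B C)) := by
        ext <;> simp
      exact congrArg AlgHom.toRingHom this
    rw [heq]
    exact RingHom.Flat.comp hmap hC
  let alg1 : Algebra (TensorProduct A B B) B :=
    (Algebra.TensorProduct.lmul' A (S := B)).toRingHom.toAlgebra
  let alg2 : Algebra (TensorProduct A B B) C :=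
    ((algebraMap B C).comp (Algebra.TensorProduct.lmul' A (S := B)).toRingHom).toAlgebra
  have : IsScalarTower (TensorProduct A B B) B C := IsScalarTower.of_algebraMap_eq (fun x => rfl)
  have : Module.Flat (TensorProduct A B B) C := hcomp
  exact flat_of_faithfullyFlat_comp (TensorProduct A B B) B C

end Groth.Agent.S1996
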