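import Groth.Statements.S9833
import Mathlib
import Groth.Agent.Lib.Helper20.Nagata

set_option autoImplicit false
universe u
open CategoryTheory AlgebraicGeometry TopologicalSpace
open Props

namespace Groth.Agent.S9833


open Groth.Agent.Lib.Helper11.Japanese Groth.Agent.Lib.Helper20.Nagata

/-- If a scheme has an affine open covering by spectra of Nagata rings, then the coordinate ring of
every affine open is Nagata. -/
theorem result (X : Scheme.{u}) {ι : Type u} (U : ι → X.Opens)
    (hU : iSup U = ⊤) (haff : ∀ i, IsAffineOpen (U i)) (hN : ∀ i, CAlg.IsNagata Γ(X, U i))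
    (V : X.Opens) (hV : IsAffineOpen V) : CAlg.IsNagata Γ(X, V) := by
  constructor
  · have : IsLocallyNoetherian X :=
      isLocallyNoetherian_of_affine_cover (S := fun i => (⟨U i, haff i⟩ : X.affineOpens)) hU
        (fun i => (hN i).1)
    exact IsLocallyNoetherian.component_noetherian ⟨V, hV⟩
  · let P : X.affineOpens → Prop := fun W =>
      ∀ (p : Ideal Γ(X, W)) [p.IsPrime], CAlg.IsN2 (Γ(X, W) ⧸ p)
    have key : P ⟨V, hV⟩ := by
      refine of_affine_open_cover (P := P) (fun i => ⟨U i, haff i⟩) hU ⟨V, hV⟩ ?_ ?_
        (fun i => (hN i).2)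
      · intro W f hW q hq
        have hloc : IsLocalization.Away f Γ(X, X.basicOpen f) := W.2.isLocalization_basicOpen f
        exact @isN2_quotient_of_away Γ(X, W) _ f Γ(X, X.basicOpen f) _
          (AlgebraicGeometry.Scheme.algebra_section_section_basicOpen f) hloc hW q hq
      · intro W s hs hP p hp
        have hloc : ∀ i : s, IsLocalization.Away i.1 Γ(X, X.basicOpen i.1) :=
          fun i => W.2.isLocalization_basicOpen i.1
        refine isN2_quotient_of_span (ι := s) (fun i => i.1) ?_
          (fun i => Γ(X, X.basicOpen i.1)) (fun i q hq => @hP i q hq) p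
        rw [Subtype.range_coe_subtype]
        exact hs
    exact key

end Groth.Agent.S9833
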