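import Groth.Statements.S4637
import Groth.Agent.S2510
import Groth.Agent.Lib.Helper17.ZClosDepth
import Mathlib.RingTheory.HopkinsLevitzki
import Mathlib.RingTheory.Support

set_option autoImplicit false
open CategoryTheory AlgebraicGeometry
universe u
open AssSch

namespace Groth.Agent.S4637

section aux

/-- Over a local ring, every element of the maximal ideal acts nilpotently on a module of finite
length. -/
theorem exists_pow_smul_eq_zero_of_isFiniteLength {B N : Type*} [CommRing B] [IsLocalRing B]
    [AddCommGroup N] [Module B N] (h : IsFiniteLength B N) (a : B)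
    (ha : a ∈ IsLocalRing.maximalIdeal B) : ∃ n : ℕ, ∀ t : N, a ^ n • t = 0 := by
  rw [isFiniteLength_iff_isNoetherian_isArtinian] at h
  obtain ⟨hN, hA⟩ := h
  let f : N →ₗ[B] N := LinearMap.lsmul B N a
  have hf : ∀ (k : ℕ) (t : N), (f ^ k) t = a ^ k • t := by
    intro k
    induction k with
    | zero => intro t; simp
    | succ k ih =>
      intro t
      rw [pow_succ', Module.End.mul_apply, ih, pow_succ', mul_smul]
      rfl
  obtain ⟨n, hn⟩ := IsArtinian.monotone_stabilizes f.iterateRange
  refine ⟨n, fun t => ?_⟩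
  let K : Submodule B N := LinearMap.range (f ^ n)
  have hK : K = ⊥ := by
    apply Submodule.eq_bot_of_le_smul_of_le_jacobson_bot (Ideal.span {a}) K
      (IsNoetherian.noetherian K)
    · intro x hx
      have hx' : x ∈ LinearMap.range (f ^ (n + 1)) := by
        have := hn (n + 1) (Nat.le_succ n)
        change LinearMap.range (f ^ n) = LinearMap.range (f ^ (n + 1)) at this
        rw [← this]; exact hx
      obtain ⟨y, rfl⟩ := hx'
      rw [pow_succ', Module.End.mul_apply]
      change a • ((f ^ n) y) ∈ _
      exact Submodule.smul_mem_smul (Ideal.subset_span rfl) ⟨y, rfl⟩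
    · rw [IsLocalRing.jacobson_eq_maximalIdeal ⊥ bot_ne_top, Ideal.span_le]
      rintro _ rfl
      exact ha
  have : (f ^ n) t ∈ K := ⟨t, rfl⟩
  rw [hK, Submodule.mem_bot, hf] at this
  exact this

/-- A finite module over a Noetherian local ring killed by a power of the maximal ideal has finite
length. -/
theorem isFiniteLength_of_pow_maximalIdeal_le_annihilator {B N : Type*} [CommRing B] [IsLocalRing B]
    [IsNoetherianRing B] [AddCommGroup N] [Module B N] [Module.Finite B N] (n : ℕ)
    (h : IsLocalRing.maximalIdeal B ^ n ≤ Module.annihilator B N) : IsFiniteLength B N := by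
  set I := IsLocalRing.maximalIdeal B ^ n with hI
  have hJ : Module.IsTorsionBySet B N I := fun x a => Module.mem_annihilator.mp (h a.2) x
  let _ := hJ.module
  have hArt : IsArtinianRing (B ⧸ I) := by
    rw [isArtinianRing_iff_krullDimLE_zero, Ring.krullDimLE_zero_iff]
    intro P hP
    have hcP : (P.comap (Ideal.Quotient.mk I)).IsPrime := Ideal.comap_isPrime _ _
    have hle : IsLocalRing.maximalIdeal B ≤ P.comap (Ideal.Quotient.mk I) := by
      apply hcP.le_of_pow_le (n := n)
      intro x hx
      rw [Ideal.mem_comap, Ideal.Quotient.eq_zero_iff_mem.mpr hx]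
      exact P.zero_mem
    have hmax : (P.comap (Ideal.Quotient.mk I)).IsMaximal := by
      rw [← (IsLocalRing.maximalIdeal.isMaximal B).eq_of_le hcP.ne_top hle]
      exact IsLocalRing.maximalIdeal.isMaximal B
    have := Ideal.map_eq_top_or_isMaximal_of_surjective (Ideal.Quotient.mk I)
      Ideal.Quotient.mk_surjective hmax
    rw [Ideal.map_comap_of_surjective _ Ideal.Quotient.mk_surjective] at this
    exact this.resolve_left hP.ne_top
  have hfin : Module.Finite (B ⧸ I) N :=
    (hJ.semilinearMap.finite_iff_of_bijective Function.bijective_id).mp ‹_›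
  have hfl : IsFiniteLength (B ⧸ I) N := ((IsArtinianRing.tfae (B ⧸ I) N).out 0 3).mp hfin
  rw [isFiniteLength_iff_isNoetherian_isArtinian] at hfl ⊢
  rw [hJ.semilinearMap.isNoetherian_iff_of_bijective Function.bijective_id,
    hJ.semilinearMap.isArtinian_iff_of_bijective Function.bijective_id]
  exact hfl


open Groth.Agent.Lib.Helper29.QCoh in
/-- The stalk of a quasi-coherent module at a point of an affine open vanishes iff the prime of the
point is outside the support of the module of sections. -/
theorem stalk_subsingleton_iff_notMem_support {X : Scheme.{u}} (F : X.Modules) [F.IsQuasicoherent]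
    {V : X.Opens} (hV : IsAffineOpen V) (y : X) (hy : y ∈ V) :
    Subsingleton (F.presheaf.stalk y) ↔ hV.primeIdealOf ⟨y, hy⟩ ∉ Module.support Γ(X, V) Γ(F, V) := by
  rw [stalk_subsingleton_iff F hV y hy, Module.notMem_support_iff']
  refine forall_congr' fun m => ?_
  constructor
  · rintro ⟨r, hr, hrm⟩
    exact ⟨r, (mem_basicOpen_iff_notMem_primeIdealOf hV y hy r).mp hr, hrm⟩
  · rintro ⟨r, hr, hrm⟩
    exact ⟨r, (mem_basicOpen_iff_notMem_primeIdealOf hV y hy r).mpr hr, hrm⟩

end aux

/-- Let X be a locally Noetherian scheme, F a coherent O_X-module and x a point of X. Then x is the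
generic point of an irreducible component of Supp F (F_x ≠ 0 and every point y with F_y ≠ 0 that
specialises to x equals x) if and only if F_x is a nonzero module of finite length over the local
ring O_{X,x}. -/
theorem result {X : Scheme.{u}} [IsLocallyNoetherian X] (F : X.Modules)
    (hF : Coh.IsCoh F) (x : X) :
    (Nontrivial ↑(F.presheaf.stalk x) ∧ ∀ y : X, Nontrivial ↑(F.presheaf.stalk y) → y ⤳ x → y = x) ↔
      (Nontrivial ↑(F.presheaf.stalk x) ∧ IsFiniteLength ↑(X.presheaf.stalk x) ↑(F.presheaf.stalk x)) := by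
  open Groth.Agent.Lib.Helper29.QCoh in
  obtain ⟨hQ, hFT⟩ := hF
  have : F.IsQuasicoherent := hQ
  have : F.IsFiniteType := hFT
  obtain ⟨V, hV, hxV, -⟩ := exists_isAffineOpen_mem_and_subset (x := x) (U := (⊤ : X.Opens)) trivial
  have hN : IsNoetherianRing Γ(X, V) :=
    IsLocallyNoetherian.component_noetherian (X := X) ⟨V, hV⟩
  have hfin : Module.Finite Γ(X, V) Γ(F, V) := module_finite_of_isFiniteType F hV
  have hfinst : Module.Finite (X.presheaf.stalk x) (F.presheaf.stalk x) :=
    Groth.Agent.Lib.Helper17.ZClosDepth.module_finite_stalk F x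
  refine and_congr_right fun hnt => ⟨fun hmax => ?_, fun hfl y hynt hyx => ?_⟩
  · have hxsupp : hV.primeIdealOf ⟨x, hxV⟩ ∈ Module.support Γ(X, V) Γ(F, V) := by
      by_contra hns
      exact (not_subsingleton_iff_nontrivial.mpr hnt)
        ((stalk_subsingleton_iff_notMem_support F hV x hxV).mpr hns)
    have hmin : (hV.primeIdealOf ⟨x, hxV⟩).asIdeal ∈
        (Module.annihilator Γ(X, V) Γ(F, V)).minimalPrimes := by
      refine ⟨⟨(hV.primeIdealOf ⟨x, hxV⟩).isPrime, Module.mem_support_iff_of_finite.mp hxsupp⟩,
        fun q hq hqp => ?_⟩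
      obtain ⟨hqq, hIq⟩ := hq
      obtain ⟨y, hy, hyq⟩ := exists_point_of_prime' hV ⟨q, hqq⟩
      have hynt : Nontrivial (F.presheaf.stalk y) := by
        rw [← not_subsingleton_iff_nontrivial, stalk_subsingleton_iff_notMem_support F hV y hy,
          not_not, hyq, Module.mem_support_iff_of_finite]
        exact hIq
      have hyx : y ⤳ x := Groth.Agent.S2510.specializes_of_primeIdealOf_le hV y x hy hxV
        (by rw [hyq]; exact hqp)
      have hyeq := hmax y hynt hyx
      have e : hV.primeIdealOf ⟨y, hy⟩ = hV.primeIdealOf ⟨x, hxV⟩ := by subst hyeq; rfl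
      rw [← e, hyq]
    let _ : Algebra Γ(X, V) (X.presheaf.stalk x) :=
      TopCat.Presheaf.algebra_section_stalk X.presheaf ⟨x, hxV⟩
    have hloc := hV.isLocalization_stalk ⟨x, hxV⟩
    have h1 := IsLocalization.AtPrime.radical_map_of_mem_minimalPrimes (A := X.presheaf.stalk x)
      (hV.primeIdealOf ⟨x, hxV⟩).asIdeal (Module.annihilator Γ(X, V) Γ(F, V)) hmin
    have h2 : Ideal.map (algebraMap Γ(X, V) (X.presheaf.stalk x))
        (hV.primeIdealOf ⟨x, hxV⟩).asIdeal = IsLocalRing.maximalIdeal (X.presheaf.stalk x) :=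
      IsLocalization.AtPrime.map_eq_maximalIdeal _ _
    obtain ⟨n, hn⟩ := Ideal.exists_radical_pow_le_of_fg
      ((Module.annihilator Γ(X, V) Γ(F, V)).map (algebraMap Γ(X, V) (X.presheaf.stalk x)))
      (IsNoetherian.noetherian _)
    rw [h1, h2] at hn
    refine isFiniteLength_of_pow_maximalIdeal_le_annihilator n (hn.trans ?_)
    rw [Ideal.map_le_iff_le_comap]
    intro a ha
    rw [Ideal.mem_comap, Module.mem_annihilator]
    intro t
    obtain ⟨r, m, hr, hrt⟩ := exists_smul_germ_eq F hV x hxV t
    have ham : a • m = 0 := Module.mem_annihilator.mp ha m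
    have h3 : X.presheaf.germ V x hxV r • (X.presheaf.germ V x hxV a • t) = 0 := by
      rw [smul_comm, hrt, ← germ_smul, ham, map_zero]
    exact eq_zero_of_isUnit_smul (isUnit_germ_of_mem_basicOpen r x hxV hr) h3
  · by_contra hne
    have hyV : y ∈ V := hyx.mem_open V.isOpen hxV
    have hex : ∃ a : Γ(X, V), a ∈ (hV.primeIdealOf ⟨x, hxV⟩).asIdeal ∧
        a ∉ (hV.primeIdealOf ⟨y, hyV⟩).asIdeal := by
      by_contra hcon
      push Not at hcon
      apply hne
      apply eq_of_primeIdealOf_eq hV y x hyV hxV
      apply PrimeSpectrum.ext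
      apply le_antisymm
      · intro r hr
        by_contra hrp
        have hxr : x ∈ X.basicOpen r := (mem_basicOpen_iff_notMem_primeIdealOf hV x hxV r).mpr hrp
        have hyr : y ∈ X.basicOpen r := hyx.mem_open (X.basicOpen r).isOpen hxr
        exact (mem_basicOpen_iff_notMem_primeIdealOf hV y hyV r).mp hyr hr
      · exact hcon
    obtain ⟨a, hap, haq⟩ := hex
    have hga : X.presheaf.germ V x hxV a ∈ IsLocalRing.maximalIdeal (X.presheaf.stalk x) := by
      rw [IsLocalRing.mem_maximalIdeal, mem_nonunits_iff, ← Scheme.mem_basicOpen _ _ _ hxV,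
        mem_basicOpen_iff_notMem_primeIdealOf hV x hxV a, not_not]
      exact hap
    obtain ⟨n, hn⟩ := exists_pow_smul_eq_zero_of_isFiniteLength hfl _ hga
    apply not_subsingleton_iff_nontrivial.mpr hynt
    rw [stalk_subsingleton_iff F hV y hyV]
    intro m
    have h0 : F.presheaf.germ V x hxV (a ^ n • m) = 0 := by
      rw [germ_smul, map_pow]; exact hn _
    obtain ⟨s, hs, hsm⟩ := exists_smul_eq_zero_of_germ_eq_zero F hV x hxV _ h0
    refine ⟨s * a ^ n, ?_, by rw [mul_smul]; exact hsm⟩
    rw [mem_basicOpen_iff_notMem_primeIdealOf hV y hyV]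
    intro hmem
    rcases (hV.primeIdealOf ⟨y, hyV⟩).isPrime.mem_or_mem hmem with h | h
    · exact (mem_basicOpen_iff_notMem_primeIdealOf hV y hyV s).mp
        (hyx.mem_open (X.basicOpen s).isOpen hs) h
    · exact haq ((hV.primeIdealOf ⟨y, hyV⟩).isPrime.mem_of_pow_mem n h)

end Groth.Agent.S4637
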