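import Groth.Statements.S0008
import Groth.Agent.Lib.Helper22.Cech.AffineCech

set_option autoImplicit false
universe u
open Coherent

namespace Groth.Agent.S0008

open AlgebraicGeometry in
/-- For a ring A, an A-module M and elements f_1, …, f_n generating the unit ideal, the Čech cohomology
of the associated module on Spec A with respect to the covering by the basic opens D(f_i) vanishes
in every positive degree. -/
theorem result (A : Type u) [CommRing A] (M : ModuleCat.{u} A)
    (n : ℕ) (f : ULift.{u} (Fin n) → A) (hf : Ideal.span (Set.range f) = ⊤) (p : ℕ) (hp : 0 < p) :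
    CategoryTheory.Limits.IsZero (CohB1.cechH (fun i => PrimeSpectrum.basicOpen (f i)) (tilde (R := CommRingCat.of A) M) p) := by
  obtain ⟨q, rfl⟩ : ∃ q, p = q + 1 := ⟨p - 1, by omega⟩
  have hM := isLocalizing_tilde (R := CommRingCat.of A) M
  have hacyc := Groth.Agent.Lib.Helper22.Cech.Affine.acyc_of_isLocalizing
    (R := CommRingCat.of A) (M := tilde (R := CommRingCat.of A) M) f hM (1 : A)
    (fun i => by
      change PrimeSpectrum.basicOpen (f i) ≤ PrimeSpectrum.basicOpen (1 : A)
      rw [PrimeSpectrum.basicOpen_one]
      exact le_top)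
    (by
      change PrimeSpectrum.basicOpen (1 : A) ≤ ⨆ i, PrimeSpectrum.basicOpen (f i)
      rw [PrimeSpectrum.iSup_basicOpen_eq_top_iff.2 hf]
      exact le_top) q
  exact (Groth.Agent.Lib.Helper22.Cech.isZero_homology_succ_iff_acyc _ _ q).2 hacyc

end Groth.Agent.S0008
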