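import Groth.Statements.S6031
import Mathlib
import Groth.Agent.Lib.Helper22.Cech.SchemeLeray

set_option autoImplicit false
universe u
open CategoryTheory CategoryTheory.Limits TopologicalSpace AlgebraicGeometry
open LocCohZ

namespace Groth.Agent.S6031

/-- Let Y be an affine scheme, U an open subset with closed complement Z and M a quasi-coherent
O_Y-module with underlying abelian sheaf F. Then 0 → H^0_Z(Y, F) → H^0(Y, F) → H^0(U, F) → H^1_Z(Y,
F) → 0 is exact, i.e. the connecting map H^0(U, F) → H^1_Z(Y, F) is surjective, and the connecting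
maps H^i(U, F) → H^{i+1}_Z(Y, F) are bijective for all i ≥ 1. (The published statement assumes U
quasi-compact; the printed proof of these two assertions only uses the vanishing of the higher
cohomology of F on the affine scheme Y, so U is an arbitrary open here.) -/
theorem result (Y : Scheme.{u}) [IsAffine Y] (M : Y.Modules)
    (hM : Coh.IsQCoh M) (U : Y.Opens) :
    Function.Surjective (LocCohZ.delta (X := Y.carrier) (Coh.toAb M) 0 (le_top : U ≤ ⊤)) ∧
      ∀ i : ℕ, 1 ≤ i →
        Function.Bijective (LocCohZ.delta (X := Y.carrier) (Coh.toAb M) i (le_top : U ≤ ⊤)) := by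
  haveI : Coh.IsQCoh M := hM
  have hS := LocCohZ.zqSeq_shortExact (X := Y.carrier) (le_top : U ≤ ⊤)
  have hvan : ∀ q : ℕ, Subsingleton (CohTop.HU (Coh.toAb M) (q + 1) (⊤ : Y.Opens)) := fun q =>
    Groth.Agent.Lib.Helper22.Cech.subsingleton_HU_succ_of_isAffineOpen Y M ⊤ (isAffineOpen_top Y) q
  have hvan' : ∀ q : ℕ, ∀ z : Abelian.Ext (LocCohZ.zqSeq (X := Y.carrier) (le_top : U ≤ ⊤)).X₂
      (Coh.toAb M) (q + 1), z = 0 := fun q z => by
    haveI : Subsingleton (Abelian.Ext (LocCohZ.zqSeq (X := Y.carrier) (le_top : U ≤ ⊤)).X₂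
      (Coh.toAb M) (q + 1)) := hvan q
    exact Subsingleton.elim _ _
  refine ⟨?_, ?_⟩
  · intro x
    obtain ⟨x₁, hx₁⟩ := Abelian.Ext.contravariant_sequence_exact₃ hS (Coh.toAb M)
      (n₁ := 1) x (hvan' 0 _) (n₀ := 0) (by omega)
    exact ⟨x₁, hx₁⟩
  · intro i hi
    obtain ⟨j, rfl⟩ : ∃ j, i = j + 1 := ⟨i - 1, by omega⟩
    refine ⟨?_, ?_⟩
    · rw [injective_iff_map_eq_zero]
      intro x hx
      obtain ⟨x₂, hx₂⟩ := Abelian.Ext.contravariant_sequence_exact₁ hS (Coh.toAb M)
        (n₀ := j + 1) x (n₁ := j + 1 + 1) (by omega) hx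
      rw [← hx₂, hvan' j x₂, Abelian.Ext.comp_zero]
      rfl
    · intro x
      obtain ⟨x₁, hx₁⟩ := Abelian.Ext.contravariant_sequence_exact₃ hS (Coh.toAb M)
        (n₁ := j + 1 + 1) x (hvan' (j + 1) _) (n₀ := j + 1) (by omega)
      exact ⟨x₁, hx₁⟩

end Groth.Agent.S6031
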