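import Groth.Statements.S5744
import Groth.Agent.Lib.Helper29.QCohPush
import Groth.Agent.Lib.Helper29.QCohCrit
import Groth.Agent.Lib.Helper29.QCohPullback

set_option autoImplicit false
universe u
open Coherent

namespace Groth.Agent.S5744

open AlgebraicGeometry CategoryTheory CategoryTheory.Limits in
lemma pi_opens_eq_iInf {X : Scheme.{u}} {J : Type} (f : J → X.Opens) : ∏ᶜ f = ⨅ j, f j :=
  le_antisymm (le_iInf fun j => leOfHom (Pi.π f j)) (leOfHom (Pi.lift fun j => homOfLE (iInf_le f j)))

open AlgebraicGeometry CategoryTheory CategoryTheory.Limits in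
lemma isQuasicoherent_pi_of_finite {X : Scheme.{u}} {J : Type u} [Finite J] (M : J → X.Modules)
    (h : ∀ j, (M j).IsQuasicoherent) : (∏ᶜ M).IsQuasicoherent := by
  haveI : HasFiniteBiproducts X.Modules := HasFiniteBiproducts.of_hasFiniteProducts
  haveI : HasBiproductsOfShape J X.Modules := hasBiproductsOfShape_finite _
  have e : ∏ᶜ M ≅ colimit (Discrete.functor M) :=
    (biproduct.isoProduct M).symm ≪≫ biproduct.isoCoproduct M
  have hc : (colimit (Discrete.functor M)).IsQuasicoherent :=
    Groth.Agent.Lib.Helper29.QCoh.isQuasicoherent_colimit (Discrete.functor M) (fun j => h j.as)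
  exact Groth.Agent.Lib.Helper29.QCoh.isQuasicoherent_of_iso e.symm
open AlgebraicGeometry CategoryTheory CategoryTheory.Limits in
lemma isQuasicoherent_pushRestr {X : Scheme.{u}} [X.IsSeparated] (W : X.Opens) (hW : IsAffineOpen W)
    (F : X.Modules) [F.IsQuasicoherent] : ((CechOX.pushRestr W).obj F).IsQuasicoherent := by
  haveI : IsAffine (W : Scheme) := hW
  haveI : IsAffineHom (W.ι ≫ Limits.terminal.from X) := isAffineHom_of_isAffine _
  haveI : IsAffineHom W.ι := IsAffineHom.of_comp _ (Limits.terminal.from X)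
  change ((Scheme.Modules.pushforward W.ι).obj ((Scheme.Modules.restrictFunctor W.ι).obj F)).IsQuasicoherent
  exact Groth.Agent.Lib.Helper29.QCoh.isQuasicoherent_pushforward_of_isAffineHom W.ι
    ((Scheme.Modules.restrictFunctor W.ι).obj F)

open AlgebraicGeometry CategoryTheory in
/-- For the Čech complex of sheaves indexed by all ordered tuples with products as terms; over a finite
index type these terms are finite direct sums. Let X be a separated scheme, (U_i)_{i ∈ ι} a finite
family of affine opens covering X, and F a quasi-coherent O_X-module. Then for every p the degree-p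
term of the Čech complex of sheaves 𝔠(𝒰, F), the product over ordered (p+1)-tuples of the direct
images (j_{i_0…i_p})_*(F|_{U_{i_0…i_p}}), is a quasi-coherent O_X-module. -/
theorem result {X : Scheme.{u}} [X.IsSeparated] {ι : Type u}
    [Finite ι] (𝒰 : ι → X.Opens) (h𝒰 : ∀ i, IsAffineOpen (𝒰 i)) (hcov : ⨆ i, 𝒰 i = ⊤)
    (F : X.Modules) [Coh.IsQCoh F] (p : ℕ) :
    Coh.IsQCoh (((CechOX.cechSh 𝒰).obj F).X p) := by
  have hW : ∀ τ : Fin (p + 1) → ι, IsAffineOpen (Limits.piObj (𝒰 ∘ τ)) := by
    intro τ
    rw [pi_opens_eq_iInf]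
    exact IsAffineOpen.iInf (fun j => h𝒰 (τ j))
  have hfac : ∀ τ : Fin (p + 1) → ι,
      ((CechOX.pushRestr (Limits.piObj (𝒰 ∘ τ))).obj F).IsQuasicoherent := by
    intro τ
    haveI : F.IsQuasicoherent := ‹Coh.IsQCoh F›
    exact isQuasicoherent_pushRestr _ (hW τ) F
  have e : ((CechOX.cechSh 𝒰).obj F).X p =
      Limits.piObj fun τ : Fin (p + 1) → ι => (CechOX.pushRestr (Limits.piObj (𝒰 ∘ τ))).obj F := by
    unfold CechOX.cechSh
    rw [Functor.comp_obj]
    unfold cechComplexFunctor
    rw [Limits.FormalCoproduct.cochainComplexFunctor_obj_X]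
    rfl
  rw [e]
  exact isQuasicoherent_pi_of_finite
    (fun τ : Fin (p + 1) → ι => (CechOX.pushRestr (Limits.piObj (𝒰 ∘ τ))).obj F) hfac

end Groth.Agent.S5744
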