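import Groth.Statements.S0487
import Mathlib
import Groth.Agent.Lib.Helper20.CohPresheafInj

set_option autoImplicit false
universe u
open CategoryTheory
open CohSite

namespace Groth.Agent.S0487

open CategoryTheory.Limits Opposite Groth.Agent.Lib.Helper20

theorem aux {C D : Type u} [SmallCategory C] [SmallCategory D]
    (J : GrothendieckTopology C) (K : GrothendieckTopology D) (u : D ⥤ C) [u.IsContinuous K J]
    (F : Sheaf J AddCommGrpCat.{u}) (i : ℕ) :
    Nonempty ((CohSite.Rpush J K u i).obj F ≅
      (presheafToSheaf K AddCommGrpCat.{u}).obj (u.op ⋙ F.cohomologyPresheaf i)) := by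
  let I : InjectiveResolution F := Classical.choice (HasInjectiveResolution.out)
  let p := (ComplexShape.up ℕ).prev i
  let e1 := I.isoRightDerivedObj (CohSite.push J K u) i
  let L := ((CohSite.push J K u).mapHomologicalComplex (ComplexShape.up ℕ)).obj I.cocomplex
  let e2 : L.homology i ≅ (L.sc' p i (i + 1)).homology :=
    L.homologyIsoSc' p i (i + 1) rfl (by simp)
  let sc := I.cocomplex.sc' p i (i + 1)
  let T : ShortComplex (Sheaf K AddCommGrpCat.{u}) := sc.map (CohSite.push J K u)
  let ι_K := sheafToPresheaf K AddCommGrpCat.{u}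
  let a_K := presheafToSheaf K AddCommGrpCat.{u}
  let e3 : T.homology ≅ ((T.map ι_K).map a_K).homology :=
    ShortComplex.homologyMapIso (T.mapNatIso (sheafificationNatIso K AddCommGrpCat.{u}))
  let e4 : ((T.map ι_K).map a_K).homology ≅ a_K.obj (T.map ι_K).homology :=
    (T.map ι_K).mapHomologyIso a_K
  let Wu := (Functor.whiskeringLeft Dᵒᵖ Cᵒᵖ AddCommGrpCat.{u}).obj u.op
  let Spre := CohPresheafInj.Spre J I p i
  let e5 : (Spre.map Wu).homology ≅ Wu.obj Spre.homology := Spre.mapHomologyIso Wu
  let e6 : Wu.obj Spre.homology ≅ u.op ⋙ F.cohomologyPresheaf i :=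
    Functor.isoWhiskerLeft u.op (CohPresheafInj.homologyIso J I p i rfl)
  exact ⟨e1 ≪≫ e2 ≪≫ e3 ≪≫ e4 ≪≫ a_K.mapIso (e5 ≪≫ e6)⟩


/-- Let u : D ⥤ C be a continuous functor between small sites (e.g. underlying a morphism of sites f),
with direct image f_* F = F ∘ u; only continuity is used. Then R^i f_* F is isomorphic to the
sheafification of the presheaf V ↦ H^i(u(V), F) (existence of an isomorphism of sheaves). -/
theorem result {C D : Type u} [SmallCategory C] [SmallCategory D]
    (J : GrothendieckTopology C) (K : GrothendieckTopology D) (u : D ⥤ C) [u.IsContinuous K J]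
    (F : Sheaf J AddCommGrpCat.{u}) (i : ℕ) :
    Nonempty ((CohSite.Rpush J K u i).obj F ≅
      (presheafToSheaf K AddCommGrpCat.{u}).obj (u.op ⋙ F.cohomologyPresheaf i)) := by
  exact aux J K u F i

end Groth.Agent.S0487
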