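import Groth.Statements.S6027
import Groth.Agent.Lib.Helper5.ExtDerived
import Groth.Agent.Lib.Helper5.SectSuppDim

set_option autoImplicit false
universe u
open CategoryTheory CategoryTheory.Limits TopologicalSpace
open LocCohZ

namespace Groth.Agent.S6027

open Groth.Agent.Lib.Helper5 Groth.Agent.Lib.Helper5.SectSupp Opposite Abelian

variable {X : TopCat.{u}} (U : Opens X)

/-- `Γ_Z(X, F) ≃+ Hom(ℤ_X/ℤ_U, F)`. -/
noncomputable def homEquiv (F : CohTop.Ab X) :
    ((LocCohZ.gammaZF U).obj F : AddCommGrpCat.{u}) ≃+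
      (LocCohZ.zq (inf_le_left : (⊤ : Opens X) ⊓ U ≤ ⊤) ⟶ F) :=
  ((sectEquiv U F ⊤).trans (LocCohZ.sect0Equiv F _).symm).trans Ext.addEquiv₀

lemma sect0Equiv_mk₀_homEquiv (F : CohTop.Ab X)
    (t : ((LocCohZ.gammaZF U).obj F : AddCommGrpCat.{u})) :
    (LocCohZ.sect0Equiv F _ (Ext.mk₀ (homEquiv U F t))).1 =
      ((ι U F).hom.app (op ⊤)).hom t := by
  have : Ext.mk₀ (homEquiv U F t) = (LocCohZ.sect0Equiv F _).symm (sectEquiv U F ⊤ t) :=
    Ext.mk₀_addEquiv₀_apply _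
  rw [this, AddEquiv.apply_symm_apply, sectEquiv_apply]

lemma homEquiv_naturality {F G : CohTop.Ab X} (φ : F ⟶ G)
    (t : ((LocCohZ.gammaZF U).obj F : AddCommGrpCat.{u})) :
    homEquiv U G (((LocCohZ.gammaZF U).map φ).hom t) = homEquiv U F t ≫ φ := by
  apply Ext.addEquiv₀.symm.injective
  apply (LocCohZ.sect0Equiv G _).injective
  apply Subtype.ext
  rw [Ext.addEquiv₀_symm_apply, Ext.addEquiv₀_symm_apply, ← Ext.mk₀_comp_mk₀,
    sect0Equiv_comp_mk₀, sect0Equiv_mk₀_homEquiv, sect0Equiv_mk₀_homEquiv]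
  exact sectSuppF_map_ι_apply U φ ⊤ t

/-- `Γ_Z(X, -) ≅ Hom(ℤ_X/ℤ_U, -)`. -/
noncomputable def gammaIso :
    LocCohZ.gammaZF U ≅ ExtDer.G (LocCohZ.zq (inf_le_left : (⊤ : Opens X) ⊓ U ≤ ⊤)) :=
  NatIso.ofComponents (fun F => (homEquiv U F).toAddCommGrpIso) (by
    intro F G φ
    ext t
    exact homEquiv_naturality U φ t)

/-- `zq` only depends on the opens. -/
noncomputable def zqCongr {W W' V : Opens X} (h : W ≤ V) (h' : W' ≤ V) (e : W = W') :
    LocCohZ.zq h ≅ LocCohZ.zq h' := by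
  subst e; exact Iso.refl _

/-- `ℤ_X/ℤ_{X ∩ U} ≅ ℤ/ℤ_U` (the topos-level object). -/
noncomputable def pIso : LocCohZ.zq (inf_le_left : (⊤ : Opens X) ⊓ U ≤ ⊤) ≅
    ToposFin.quotZ (LocCohZ.openSh U) :=
  zqCongr _ _ (top_inf_eq U) ≪≫ LocCohZ.zqIsoQuotZ U

/-- The case of a closed subset. Let X be a topological space and Z a closed subset with open complement
U. For every q the q-th right derived functor of F ↦ Γ_Z(X, F) is isomorphic to the functor F ↦
Ext^q(ℤ_{Z,X}, F), where ℤ_{Z,X} = ℤ_X/ℤ_U. (Existence of an isomorphism of functors for each q;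
compatibility with connecting maps is not asserted.) -/
theorem result {X : TopCat.{u}} (U : Opens X) (q : ℕ) :
    Nonempty (LocCohZ.RHZ U q ≅ ToposFin.HZFunctor (LocCohZ.openSh U) q) := by
  exact ⟨ExtDer.extIsoOfIso _ (LocCohZ.gammaZF U) (gammaIso U) q ≪≫
    ((Abelian.extFunctor q).mapIso (pIso U).symm.op)⟩

end Groth.Agent.S6027
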