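import Groth.Statements.S7402
import Groth.Agent.Lib.Helper6.UnivHomeoExplicit
-- import your own Groth.Agent.* helpers here

set_option autoImplicit false
universe u
open CategoryTheory AlgebraicGeometry
open Polynomial
open Mor

namespace Groth.Agent.S7402

/-- Let `A` be a ring and `x, y ∈ A` with `x^3 = y^2`. Then `A → B = A[t]/(t^2 - x, t^3 - y)` induces a
universal homeomorphism on spectra and isomorphisms on residue fields. -/
theorem result (A : Type u) [CommRing A] (x y : A) (h : x ^ 3 = y ^ 2) :
    FlatMor.IsUnivHomeo (Spec.map (CommRingCat.ofHom (algebraMap A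
      (A[X] ⧸ Ideal.span ({X ^ 2 - C x, X ^ 3 - C y} : Set A[X]))))) ∧
    ∀ q : Spec (CommRingCat.of (A[X] ⧸ Ideal.span ({X ^ 2 - C x, X ^ 3 - C y} : Set A[X]))),
      Function.Surjective ((Spec.map (CommRingCat.ofHom (algebraMap A
        (A[X] ⧸ Ideal.span ({X ^ 2 - C x, X ^ 3 - C y} : Set A[X]))))).residueFieldMap q) := by
  classical
  open Groth.Agent.Lib.Helper6.UnivHomeoRing in
  have hS2 : (X ^ 2 - C x : A[X]) ∈ ({X ^ 2 - C x, X ^ 3 - C y} : Set A[X]) := Or.inl rfl
  have hS3 : (X ^ 3 - C y : A[X]) ∈ ({X ^ 2 - C x, X ^ 3 - C y} : Set A[X]) := Or.inr rfl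
  have key : ∀ (K : Type u) [Field K] (g : A →+* K) (s : K),
      (∀ f ∈ ({X ^ 2 - C x, X ^ 3 - C y} : Set A[X]), f.eval₂ g s = 0) →
      s = if g x = 0 then 0 else g y / g x := by
    intro K _ g s hs
    have h2 := hs _ hS2
    have h3 := hs _ hS3
    simp only [eval₂_sub, eval₂_pow, eval₂_X, eval₂_C, sub_eq_zero] at h2 h3
    split_ifs with hx
    · rw [hx] at h2
      exact pow_eq_zero_iff (two_ne_zero) |>.mp h2
    · rw [← h2, ← h3]
      have hs0 : s ≠ 0 := by
        rintro rfl
        apply hx
        rw [← h2]; simp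
      field_simp
  refine ⟨?_, ?_⟩
  · apply isUnivHomeo_quotient_span _ _ hS2 (monic_X_pow_sub_C x (by norm_num))
    · intro K _ g s s' hs hs'
      rw [key K g s hs, key K g s' hs']
    · intro 𝔭
      refine ⟨𝔭.asIdeal.ResidueField, inferInstance, RingHom.id _,
        if algebraMap A 𝔭.asIdeal.ResidueField x = 0 then 0 else
          algebraMap A 𝔭.asIdeal.ResidueField y / algebraMap A 𝔭.asIdeal.ResidueField x, ?_⟩
      have hxy : (algebraMap A 𝔭.asIdeal.ResidueField x) ^ 3 =
          (algebraMap A 𝔭.asIdeal.ResidueField y) ^ 2 := by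
        rw [← map_pow, ← map_pow, h]
      intro f hf
      rcases hf with rfl | rfl
      · simp only [eval₂_sub, eval₂_pow, eval₂_X, eval₂_C, RingHom.id_comp]
        split_ifs with hx
        · rw [hx]; simp
        · rw [div_pow, ← hxy]
          field_simp
          ring
      · simp only [eval₂_sub, eval₂_pow, eval₂_X, eval₂_C, RingHom.id_comp]
        split_ifs with hx
        · rw [hx] at hxy
          have hy : algebraMap A 𝔭.asIdeal.ResidueField y = 0 := by
            have : (algebraMap A 𝔭.asIdeal.ResidueField y) ^ 2 = 0 := by rw [← hxy]; simp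
            exact pow_eq_zero_iff (two_ne_zero) |>.mp this
          rw [hy]; simp
        · rw [div_pow]
          have : (algebraMap A 𝔭.asIdeal.ResidueField y) ^ 3 =
              (algebraMap A 𝔭.asIdeal.ResidueField y) *
                (algebraMap A 𝔭.asIdeal.ResidueField x) ^ 3 := by
            rw [hxy]; ring
          rw [this]
          field_simp
          simp
  · rw [← trivRF_iff]
    apply trivRF_quotient_span
    intro q
    have e2 := eval₂_quotient_mk_X _ _ hS2
    have e3 := eval₂_quotient_mk_X _ _ hS3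
    simp only [eval₂_sub, eval₂_pow, eval₂_X, eval₂_C, sub_eq_zero] at e2 e3
    by_cases hx : algebraMap A (A[X] ⧸ Ideal.span ({X ^ 2 - C x, X ^ 3 - C y} : Set A[X])) x
        ∈ q.asIdeal
    · refine ⟨1, 0, ?_, ?_⟩
      · rw [map_one]; exact q.2.one_notMem
      · rw [map_one, one_mul, map_zero, sub_zero]
        rw [← e2] at hx
        exact q.2.mem_of_pow_mem 2 hx
    · refine ⟨x, y, hx, ?_⟩
      rw [← e2, ← e3]
      have : (Ideal.Quotient.mk (Ideal.span ({X ^ 2 - C x, X ^ 3 - C y} : Set A[X])) X) ^ 2 *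
          (Ideal.Quotient.mk _ X) - (Ideal.Quotient.mk _ X) ^ 3 = 0 := by ring
      rw [this]
      exact Ideal.zero_mem _

end Groth.Agent.S7402
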