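import Groth.Statements.S7403
import Groth.Agent.Lib.Helper6.UnivHomeoExplicit
-- import your own Groth.Agent.* helpers here

set_option autoImplicit false
universe u
open CategoryTheory AlgebraicGeometry
open Polynomial
open Mor

namespace Groth.Agent.S7403

/-- Let `A` be a ring, `p` a prime number and `x, y ∈ A` with `p^p x = y^p`. Then `A → B = A[t]/(t^p -
x, p t - y)` induces a universal homeomorphism on spectra. -/
theorem result (A : Type u) [CommRing A] (p : ℕ) (hp : p.Prime) (x y : A)
    (h : (p : A) ^ p * x = y ^ p) :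
    FlatMor.IsUnivHomeo (Spec.map (CommRingCat.ofHom (algebraMap A
      (A[X] ⧸ Ideal.span ({X ^ p - C x, C (p : A) * X - C y} : Set A[X]))))) := by
  classical
  open Groth.Agent.Lib.Helper6.UnivHomeoRing in
  have hS1 : (X ^ p - C x : A[X]) ∈ ({X ^ p - C x, C (p : A) * X - C y} : Set A[X]) := Or.inl rfl
  have hS2 : (C (p : A) * X - C y : A[X]) ∈ ({X ^ p - C x, C (p : A) * X - C y} : Set A[X]) :=
    Or.inr rfl
  apply isUnivHomeo_quotient_span _ _ hS1 (monic_X_pow_sub_C x hp.ne_zero)
  · intro K _ g s s' hs hs'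
    have h1 := hs _ hS1
    have h2 := hs _ hS2
    have h1' := hs' _ hS1
    have h2' := hs' _ hS2
    simp only [eval₂_sub, eval₂_pow, eval₂_mul, eval₂_X, eval₂_C, eval₂_natCast, sub_eq_zero, map_natCast]
      at h1 h2 h1' h2'
    by_cases hpK : (p : K) = 0
    · have : CharP K p := (CharP.charP_iff_prime_eq_zero hp).mpr hpK
      have : Fact p.Prime := ⟨hp⟩
      apply frobenius_inj K p
      change s ^ p = s' ^ p
      rw [h1, h1']
    · have : (p : K) * s = (p : K) * s' := by rw [h2, h2']
      exact mul_left_cancel₀ hpK this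
  · intro 𝔭
    have hxy : ((p : ℕ) : 𝔭.asIdeal.ResidueField) ^ p * algebraMap A 𝔭.asIdeal.ResidueField x =
        (algebraMap A 𝔭.asIdeal.ResidueField y) ^ p := by
      rw [← map_pow, ← h, map_mul, map_pow, map_natCast]
    by_cases hpK : ((p : ℕ) : 𝔭.asIdeal.ResidueField) = 0
    · obtain ⟨z, hz⟩ := IsAlgClosed.exists_pow_nat_eq
        (algebraMap 𝔭.asIdeal.ResidueField (AlgebraicClosure 𝔭.asIdeal.ResidueField)
          (algebraMap A 𝔭.asIdeal.ResidueField x)) hp.pos
      refine ⟨AlgebraicClosure 𝔭.asIdeal.ResidueField, inferInstance,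
        algebraMap 𝔭.asIdeal.ResidueField (AlgebraicClosure 𝔭.asIdeal.ResidueField), z, ?_⟩
      have hy : algebraMap A 𝔭.asIdeal.ResidueField y = 0 := by
        rw [hpK, zero_pow hp.ne_zero, zero_mul] at hxy
        exact (pow_eq_zero_iff hp.ne_zero).mp hxy.symm
      intro f hf
      rcases hf with rfl | rfl
      · simp only [eval₂_sub, eval₂_pow, eval₂_X, eval₂_C, RingHom.comp_apply]
        rw [hz, sub_self]
      · simp only [eval₂_sub, eval₂_mul, eval₂_X, eval₂_C, eval₂_natCast, RingHom.comp_apply, map_natCast]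
        rw [hy, map_zero, sub_zero]
        have : ((p : ℕ) : AlgebraicClosure 𝔭.asIdeal.ResidueField) = 0 := by
          rw [← map_natCast (algebraMap 𝔭.asIdeal.ResidueField
            (AlgebraicClosure 𝔭.asIdeal.ResidueField)), hpK, map_zero]
        rw [this, zero_mul]
    · refine ⟨𝔭.asIdeal.ResidueField, inferInstance, RingHom.id _,
        algebraMap A 𝔭.asIdeal.ResidueField y / (p : 𝔭.asIdeal.ResidueField), ?_⟩
      intro f hf
      rcases hf with rfl | rfl
      · simp only [eval₂_sub, eval₂_pow, eval₂_X, eval₂_C, RingHom.id_comp]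
        rw [div_pow, ← hxy]
        field_simp
        simp
      · simp only [eval₂_sub, eval₂_mul, eval₂_X, eval₂_C, eval₂_natCast, RingHom.id_comp, map_natCast]
        field_simp
        simp

end Groth.Agent.S7403
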