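import Groth.Statements.S7420
import Mathlib
import Groth.Agent.Lib.Lead.Seminormal
-- import your own Groth.Agent.* helpers here

set_option autoImplicit false
universe u
open CategoryTheory AlgebraicGeometry
open HTop

namespace Groth.Agent.S7420


open Groth.Agent.Lib.Lead.Seminormal in
theorem affine_local (X : Scheme.{u}) (P : ∀ (A : Type u) [CommRing A], Prop)
    (hloc : ∀ (A : Type u) [CommRing A] (f : A) (S : Type u) [CommRing S] [Algebra A S]
      [IsLocalization.Away f S], P A → P S)
    (hglue : ∀ (A : Type u) [CommRing A] (s : Finset A), Ideal.span (s : Set A) = ⊤ →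
      ∀ (S : A → Type u) [∀ f, CommRing (S f)] [∀ f, Algebra A (S f)],
      (∀ f ∈ s, IsLocalization.Away f (S f)) → (∀ f ∈ s, P (S f)) → P A) :
    (∀ x : X, ∃ U : X.affineOpens, x ∈ (U : X.Opens) ∧ P Γ(X, U)) ↔
      ∀ U : X.affineOpens, P Γ(X, U) := by
  constructor
  · intro h V
    choose U hxU hU using h
    have hsup : (⨆ x, (U x : X.Opens)) = ⊤ := by
      rw [eq_top_iff]
      intro x _
      exact TopologicalSpace.Opens.mem_iSup.mpr ⟨x, hxU x⟩
    refine of_affine_open_cover (P := fun U => P Γ(X, U)) U hsup V ?_ ?_ hU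
    · intro W f hW
      have := W.2.isLocalization_basicOpen f
      exact hloc Γ(X, W) f Γ(X, X.basicOpen f) hW
    · intro W s hs hP
      refine hglue Γ(X, W) s hs (fun f => Γ(X, X.basicOpen f))
        (fun f _ => W.2.isLocalization_basicOpen f) (fun f hf => hP ⟨f, hf⟩)
  · intro h x
    obtain ⟨_, ⟨U, hU, rfl⟩, hxU, -⟩ := (X.isBasis_affineOpens).exists_subset_of_mem_open
      (Set.mem_univ x) isOpen_univ
    exact ⟨⟨U, hU⟩, hxU, h ⟨U, hU⟩⟩

/-- A scheme `X` is seminormal if and only if `O_X(U)` is seminormal for every affine open `U ⊆ X`; the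
same holds with 'seminormal' replaced by 'absolutely weakly normal'. -/
theorem result (X : Scheme.{u}) :
    (HTop.IsSeminormal X ↔ ∀ U : X.affineOpens, HTop.IsSeminormalRing Γ(X, U)) ∧
    (HTop.IsAWN X ↔ ∀ U : X.affineOpens, HTop.IsAWNRing Γ(X, U)) := by
  constructor
  · exact affine_local X (fun A _ => HTop.IsSeminormalRing A)
      (fun A _ f S _ _ _ h =>
        Groth.Agent.Lib.Lead.Seminormal.isSeminormalRing_of_isLocalizationAway f S h)
      (fun A _ s hs S _ _ hS h =>
        Groth.Agent.Lib.Lead.Seminormal.isSeminormalRing_of_span' s hs S hS h)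
  · exact affine_local X (fun A _ => HTop.IsAWNRing A)
      (fun A _ f S _ _ _ h =>
        Groth.Agent.Lib.Lead.Seminormal.isAWNRing_of_isLocalizationAway f S h)
      (fun A _ s hs S _ _ hS h =>
        Groth.Agent.Lib.Lead.Seminormal.isAWNRing_of_span' s hs S hS h)

end Groth.Agent.S7420
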