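import Groth.Statements.S7422
import Groth.Agent.Lib.Helper6.AWNRing
-- import your own Groth.Agent.* helpers here

set_option autoImplicit false
universe u
open CategoryTheory AlgebraicGeometry
open HTop

namespace Groth.Agent.S7422

/-- Every ring `A` has an absolute weak normalization: a ring map `A → A^awn` which induces a universal
homeomorphism on spectra and is final among ring maps out of `A` with this property. -/
theorem result (A : Type u) [CommRing A] :
    ∃ (B : Type u) (_ : CommRing B) (φ : A →+* B), HTop.IsRingAWN φ := by
  obtain ⟨B', hB'⟩ := Groth.Agent.Lib.Helper6.AWN.exists_isRingAWN_subalgebra A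
  exact ⟨B', inferInstance, algebraMap A B', hB'⟩

end Groth.Agent.S7422
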