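import Groth.Statements.S7421
import Mathlib
-- import your own Groth.Agent.* helpers here

set_option autoImplicit false
universe u
open CategoryTheory AlgebraicGeometry
open HTop

namespace Groth.Agent.S7421


theorem isReduced_of_isSeminormalRing (A : Type u) [CommRing A] (h : HTop.IsSeminormalRing A) :
    IsReduced A := by
  rw [isReduced_iff_pow_one_lt 2 (by norm_num)]
  intro z hz
  obtain ⟨a, _, ha⟩ := h 0 0 (by simp)
  have h0 : (0 : A) = a := ha 0 ⟨by simp, by simp⟩
  have hz' : z = a := ha z ⟨hz.symm, by rw [pow_succ, hz, zero_mul]⟩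
  rw [hz', ← h0]

/-- A seminormal ring is reduced, and a seminormal scheme is reduced. -/
theorem result :
    (∀ (A : Type u) [CommRing A], HTop.IsSeminormalRing A → IsReduced A) ∧
    ∀ (X : Scheme.{u}), HTop.IsSeminormal X → AlgebraicGeometry.IsReduced X := by
  refine ⟨isReduced_of_isSeminormalRing, fun X hX => ?_⟩
  have : ∀ x : X, _root_.IsReduced (X.presheaf.stalk x) := by
    intro x
    obtain ⟨U, hxU, hU⟩ := hX x
    have hred : _root_.IsReduced Γ(X, U) := isReduced_of_isSeminormalRing _ hU
    letI := X.presheaf.algebra_section_stalk (⟨x, hxU⟩ : (U : X.Opens))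
    have hloc := U.2.isLocalization_stalk ⟨x, hxU⟩
    exact isReduced_localizationPreserves ((U.2.primeIdealOf ⟨x, hxU⟩).asIdeal.primeCompl) _ hred
  exact isReduced_of_isReduced_stalk X

end Groth.Agent.S7421
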