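import Groth.Statements.S11546
import Mathlib

set_option autoImplicit false
universe u
open AdicRing

namespace Groth.Agent.S11546

/-- Let R be a base ring of class (N) or (V) for the ideal I. Then the restricted power series ring
R⟨ζ_1, ..., ζ_n⟩ is flat over R. -/
theorem result
    (R : Type u) [CommRing R] (I : Ideal R) (hR : AdicRing.IsBase R I) (n : ℕ) :
    Module.Flat R (AdicRing.RPow R I n) := by
  obtain ⟨hc, h⟩ := hR
  rcases h with ⟨hN, -⟩ | ⟨hD, hV, hK, t, ht, rfl⟩
  · have h1 : Module.Flat (MvPolynomial (Fin n) R) (AdicRing.RPow R I n) :=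
      AdicCompletion.flat_of_isNoetherian _
    exact Module.Flat.trans R (MvPolynomial (Fin n) R) _
  · have hVR : ValuationRing R := { hV with }
    rw [Module.Flat.flat_iff_torsion_eq_bot_of_isBezout, eq_bot_iff]
    rintro x ⟨⟨r, hr⟩, hx⟩
    change r • x = 0 at hx
    have hr0 : r ≠ 0 := nonZeroDivisors.ne_zero hr
    rw [Submodule.mem_bot]
    set P := MvPolynomial (Fin n) R with hP
    set J : Ideal P := (Ideal.span {t}).map (MvPolynomial.C : R →+* P) with hJ
    have hJ' : J = Ideal.span {MvPolynomial.C t} := by
      rw [hJ, Ideal.map_span, Set.image_singleton]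
    by_cases htu : IsUnit t
    · -- completion is trivial
      have hJtop : J = ⊤ := by
        rw [hJ', Ideal.span_singleton_eq_top]
        exact htu.map MvPolynomial.C
      apply AdicCompletion.ext
      intro k
      obtain ⟨p, hp⟩ := Submodule.Quotient.mk_surjective _ (x.val k)
      rw [← hp, AdicCompletion.val_zero_apply, Submodule.Quotient.mk_eq_zero]
      change p ∈ J ^ k • (⊤ : Submodule P P)
      rw [hJtop, Ideal.top_pow]
      simp
    · -- t-torsion-free
      have htf : ∀ y : AdicCompletion J P, t • y = 0 → y = 0 := by
        intro y hy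
        apply AdicCompletion.ext
        intro k
        obtain ⟨p, hp⟩ := Submodule.Quotient.mk_surjective _ (y.val (k + 1))
        have h1 : (t • y).val (k + 1) = 0 := by rw [hy]; rfl
        rw [AdicCompletion.val_smul_apply, ← hp, ← Submodule.Quotient.mk_smul,
          Submodule.Quotient.mk_eq_zero, hJ', Ideal.span_singleton_pow, smul_eq_mul, Ideal.mul_top,
          Ideal.mem_span_singleton'] at h1
        obtain ⟨q, hq⟩ := h1
        have h2 : p = q * (MvPolynomial.C t) ^ k := by
          have hCt : (MvPolynomial.C t : P) ≠ 0 := by
            rw [Ne, MvPolynomial.C_eq_zero]; exact ht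
          apply mul_left_cancel₀ hCt
          rw [MvPolynomial.smul_eq_C_mul] at hq
          rw [← hq, pow_succ]; ring
        have h3 : y.val k = AdicCompletion.transitionMap J P (Nat.le_succ k) (y.val (k + 1)) :=
          (y.property (Nat.le_succ k)).symm
        rw [h3, ← hp, AdicCompletion.val_zero_apply]
        change Submodule.Quotient.mk p = 0
        rw [Submodule.Quotient.mk_eq_zero, hJ', Ideal.span_singleton_pow, smul_eq_mul, Ideal.mul_top,
          Ideal.mem_span_singleton', h2]
        exact ⟨q, rfl⟩
      have htf' : ∀ (k : ℕ) (y : AdicCompletion J P), t ^ k • y = 0 → y = 0 := by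
        intro k
        induction k with
        | zero => intro y hy; simpa using hy
        | succ k ih =>
          intro y hy
          rw [pow_succ, mul_smul] at hy
          exact htf y (ih _ hy)
      -- r divides a power of t
      have hrad : t ∈ (Ideal.span {r}).radical := by
        rw [Ideal.radical_eq_sInf, Ideal.mem_sInf]
        rintro p ⟨hrp, hp⟩
        have hpne : p ≠ ⊥ := by
          intro hbot
          rw [hbot, Ideal.span_singleton_le_iff_mem] at hrp
          exact hr0 (by simpa using hrp)
        have hpm : p.IsMaximal := hp.isMaximal_of_ne_bot hpne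
        rw [IsLocalRing.eq_maximalIdeal hpm]
        exact (IsLocalRing.mem_maximalIdeal t).mpr htu
      obtain ⟨k, hk⟩ := hrad
      obtain ⟨a, ha⟩ := Ideal.mem_span_singleton'.mp hk
      apply htf' k x
      rw [← ha, mul_smul, hx, smul_zero]

end Groth.Agent.S11546
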