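import Groth.Statements.S4853
import Groth.Agent.Lib.Helper9.FreeCover

set_option autoImplicit false
universe u
open TensorProduct
open EGA43

namespace Groth.Agent.S4853

/-- Let A be a commutative ring and M an A-module such that (A/J) ⊗_A M is free over A/J for some
nilpotent ideal J of A. Then among the ideals R of A such that (A/R) ⊗_A M is free over A/R there is
a least one, R₀, which is also the least ideal R such that (A/R) ⊗_A M is flat over A/R; and for
every commutative A-algebra A', the module A' ⊗_A M is free over A' if and only if it is flat over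
A', if and only if R₀ generates the zero ideal of A'. -/
theorem result {A : Type u} [CommRing A]
    (M : Type u) [AddCommGroup M] [Module A M]
    (J : Ideal A) (hJ : IsNilpotent J) (hfree : Module.Free (A ⧸ J) ((A ⧸ J) ⊗[A] M)) :
    ∃ R₀ : Ideal A,
      IsLeast {R : Ideal A | Module.Free (A ⧸ R) ((A ⧸ R) ⊗[A] M)} R₀ ∧
      IsLeast {R : Ideal A | Module.Flat (A ⧸ R) ((A ⧸ R) ⊗[A] M)} R₀ ∧
      ∀ (A' : Type u) [CommRing A'] [Algebra A A'],
        (Module.Free A' (A' ⊗[A] M) ↔ Ideal.map (algebraMap A A') R₀ = ⊥) ∧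
        (Module.Flat A' (A' ⊗[A] M) ↔ Ideal.map (algebraMap A A') R₀ = ⊥) := by
  classical
  obtain ⟨ι, φ, hφs, hφ⟩ := Groth.Agent.Lib.Helper9.FreeCover.exists_free_cover J (M := M) hJ
  let R₀ : Ideal A := Ideal.span {a | ∃ x : ι →₀ A, φ x = 0 ∧ ∃ i, x i = a}
  have key : ∀ (A' : Type u) [CommRing A'] [Algebra A A'],
      (Module.Flat A' (A' ⊗[A] M) → Ideal.map (algebraMap A A') R₀ = ⊥) ∧
      (Ideal.map (algebraMap A A') R₀ = ⊥ → Module.Free A' (A' ⊗[A] M)) := by
    intro A' _ _
    constructor
    · intro hflat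
      rw [Ideal.map_span, Ideal.span_eq_bot]
      rintro _ ⟨a, ⟨x, hx, i, rfl⟩, rfl⟩
      have h1 := hφ A' hflat x hx
      have h2 := congrArg (TensorProduct.finsuppScalarRight A A' A' ι) h1
      have h3 := congrArg (fun f => f i) h2
      simpa [Algebra.smul_def] using h3
    · intro hmap
      have hzero : ∀ x : ι →₀ A, φ x = 0 → (1 : A') ⊗ₜ[A] x = 0 := by
        intro x hx
        apply (TensorProduct.finsuppScalarRight A A' A' ι).injective
        rw [map_zero]
        ext i
        have h0 : algebraMap A A' (x i) = 0 := by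
          have : algebraMap A A' (x i) ∈ Ideal.map (algebraMap A A') R₀ :=
            Ideal.mem_map_of_mem _ (Ideal.subset_span ⟨x, hx, i, rfl⟩)
          rw [hmap] at this
          exact this
        simp [Algebra.smul_def, h0]
      let φ' := φ.baseChange A'
      have hs' : Function.Surjective φ' := LinearMap.lTensor_surjective A' hφs
      have hrange : ∀ z : A' ⊗[A] ↥(LinearMap.ker φ),
          (LinearMap.ker φ).subtype.lTensor A' z = 0 := by
        intro z
        induction z using TensorProduct.induction_on with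
        | zero => simp
        | tmul a c =>
          rw [LinearMap.lTensor_tmul]
          have h1 := hzero c.1 c.2
          have h2 : a ⊗ₜ[A] (c : ι →₀ A) = a • ((1 : A') ⊗ₜ[A] (c : ι →₀ A)) := by
            rw [smul_tmul', smul_eq_mul, mul_one]
          rw [Submodule.subtype_apply, h2, h1, smul_zero]
        | add a b ha hb => rw [map_add, ha, hb, add_zero]
      have hi' : Function.Injective φ' := by
        rw [injective_iff_map_eq_zero]
        intro y hy
        have hex := lTensor_exact (M := ↥(LinearMap.ker φ)) A'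
          (LinearMap.exact_subtype_ker_map φ) hφs
        obtain ⟨z, rfl⟩ := (hex y).mp hy
        exact hrange z
      exact Module.Free.of_equiv (LinearEquiv.ofBijective φ' ⟨hi', hs'⟩)
  have iff1 : ∀ (A' : Type u) [CommRing A'] [Algebra A A'],
      (Module.Free A' (A' ⊗[A] M) ↔ Ideal.map (algebraMap A A') R₀ = ⊥) ∧
      (Module.Flat A' (A' ⊗[A] M) ↔ Ideal.map (algebraMap A A') R₀ = ⊥) := by
    intro A' _ _
    obtain ⟨h1, h2⟩ := key A'
    refine ⟨⟨fun h => h1 inferInstance, h2⟩, ⟨h1, fun h => ?_⟩⟩
    have := h2 h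
    infer_instance
  have hquot : ∀ R : Ideal A, Ideal.map (algebraMap A (A ⧸ R)) R₀ = ⊥ ↔ R₀ ≤ R := by
    intro R
    rw [Ideal.map_eq_bot_iff_le_ker, Ideal.Quotient.algebraMap_eq, Ideal.mk_ker]
  refine ⟨R₀, ⟨?_, ?_⟩, ⟨?_, ?_⟩, iff1⟩
  · exact ((iff1 (A ⧸ R₀)).1).mpr ((hquot R₀).mpr le_rfl)
  · intro R hR
    exact (hquot R).mp (((iff1 (A ⧸ R)).1).mp hR)
  · exact ((iff1 (A ⧸ R₀)).2).mpr ((hquot R₀).mpr le_rfl)
  · intro R hR
    exact (hquot R).mp (((iff1 (A ⧸ R)).2).mp hR)

end Groth.Agent.S4853
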