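import Groth.Statements.S9636
import Mathlib.RingTheory.Unramified.Field
import Mathlib.RingTheory.Ideal.IdempotentFG
import Mathlib.RingTheory.Kaehler.Basic
import Mathlib.RingTheory.Localization.AtPrime.Basic
import Mathlib.FieldTheory.IntermediateField.Adjoin.Basic
-- import your own Groth.Agent.* helpers here

set_option autoImplicit false
universe u
open CAlg

namespace Groth.Agent.S9636

open TensorProduct

section
variable {k k' : Type*} [Field k] [Field k'] [Algebra k k']

theorem exists_finite_intermediateField [Algebra.IsAlgebraic k k'] (x : k' ⊗[k] k') :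
    ∃ E : IntermediateField k k', FiniteDimensional k E ∧
      x ∈ (Algebra.TensorProduct.map E.val E.val).range := by
  classical
  obtain ⟨Sx, hSx⟩ := TensorProduct.exists_finset x
  let T : Finset k' := Sx.image Prod.fst ∪ Sx.image Prod.snd
  let E : IntermediateField k k' := IntermediateField.adjoin k (T : Set k')
  have hfin : FiniteDimensional k E :=
    IntermediateField.finiteDimensional_adjoin (fun x _ => Algebra.IsIntegral.isIntegral x)
  refine ⟨E, hfin, ?_⟩
  rw [hSx]
  refine Subalgebra.sum_mem _ fun i hi => ?_
  have h1 : i.1 ∈ E := IntermediateField.subset_adjoin k _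
    (Finset.mem_coe.mpr (Finset.mem_union_left _ (Finset.mem_image_of_mem Prod.fst hi)))
  have h2 : i.2 ∈ E := IntermediateField.subset_adjoin k _
    (Finset.mem_coe.mpr (Finset.mem_union_right _ (Finset.mem_image_of_mem Prod.snd hi)))
  exact ⟨(⟨i.1, h1⟩ : E) ⊗ₜ[k] (⟨i.2, h2⟩ : E), rfl⟩

theorem lmul'_map_val (E : IntermediateField k k') (y : E ⊗[k] E) :
    Algebra.TensorProduct.lmul' (S := k') k (Algebra.TensorProduct.map E.val E.val y)
      = (Algebra.TensorProduct.lmul' (S := E) k y : E) := by
  induction y with
  | zero => simp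
  | tmul a b => simp
  | add a b ha hb => simp [ha, hb]

/-- Key: every element of the kernel of the multiplication map is killed by an element outside the
kernel. -/
theorem exists_mul_eq_zero [Algebra.IsSeparable k k'] (x : k' ⊗[k] k')
    (hx : Algebra.TensorProduct.lmul' (S := k') k x = 0) :
    ∃ c : k' ⊗[k] k', Algebra.TensorProduct.lmul' (S := k') k c = 1 ∧ c * x = 0 := by
  obtain ⟨E, hE, hxE⟩ := exists_finite_intermediateField x
  obtain ⟨x', rfl⟩ := (AlgHom.mem_range _).mp hxE
  have hx' : Algebra.TensorProduct.lmul' (S := E) k x' = 0 := by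
    have := lmul'_map_val E x'
    rw [hx] at this
    exact_mod_cast this.symm
  have hunr : Algebra.FormallyUnramified k E := Algebra.FormallyUnramified.of_isSeparable k E
  have hidem : ∃ e : E ⊗[k] E, IsIdempotentElem e ∧ KaehlerDifferential.ideal k E = Ideal.span {e} := by
    apply (Ideal.isIdempotentElem_iff_of_fg _ (KaehlerDifferential.ideal_fg k E)).mp
    apply (Ideal.cotangent_subsingleton_iff _).mp
    exact inferInstanceAs <| Subsingleton Ω[E⁄k]
  obtain ⟨e, he, hI⟩ := hidem
  have hxI : x' ∈ KaehlerDifferential.ideal k E := by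
    rw [KaehlerDifferential.ideal, RingHom.mem_ker]
    exact hx'
  rw [hI, Ideal.mem_span_singleton'] at hxI
  obtain ⟨y, rfl⟩ := hxI
  have heI : e ∈ KaehlerDifferential.ideal k E := by
    rw [hI]; exact Ideal.mem_span_singleton_self e
  have he0 : Algebra.TensorProduct.lmul' (S := E) k e = 0 := by
    rw [KaehlerDifferential.ideal, RingHom.mem_ker] at heI
    exact heI
  refine ⟨Algebra.TensorProduct.map E.val E.val (1 - e), ?_, ?_⟩
  · rw [lmul'_map_val, map_sub, map_one, he0, sub_zero]
    rfl
  · rw [← map_mul]
    have : (1 - e) * (y * e) = 0 := by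
      have := he.eq
      calc (1 - e) * (y * e) = y * (e - e * e) := by ring
        _ = 0 := by rw [this, sub_self, mul_zero]
    rw [this, map_zero]

end

open TensorProduct in
/-- Let k'/k be a separable algebraic field extension. Then for some multiplicative subset S of k' ⊗_k
k' the multiplication map k' ⊗_k k' → k' is a localization at S: there is a ring isomorphism S⁻¹(k'
⊗_k k') ≅ k' carrying the localization map to the multiplication map. -/
theorem result {k k' : Type u} [Field k] [Field k'] [Algebra k k'] [Algebra.IsSeparable k k'] :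
    ∃ (S : Submonoid (k' ⊗[k] k')) (e : Localization S ≃+* k'), ∀ x : k' ⊗[k] k', e (algebraMap (k' ⊗[k] k') (Localization S) x) = Algebra.TensorProduct.lmul' (S := k') k x := by
  let φ : k' ⊗[k] k' →+* k' := (Algebra.TensorProduct.lmul' (S := k') k).toRingHom
  have hsurj : Function.Surjective φ := fun z => ⟨z ⊗ₜ 1, by simp [φ]⟩
  let I : Ideal (k' ⊗[k] k') := RingHom.ker φ
  have hI : I.IsPrime := RingHom.ker_isPrime φ
  let _ : Algebra (k' ⊗[k] k') k' := φ.toAlgebra
  have hloc : IsLocalization I.primeCompl k' := by
    refine ⟨?_, ?_, ?_⟩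
    · rintro ⟨s, hs⟩
      have : φ s ≠ 0 := fun h => hs (RingHom.mem_ker.mpr h)
      exact isUnit_iff_ne_zero.mpr this
    · intro z
      obtain ⟨x, rfl⟩ := hsurj z
      refine ⟨⟨x, 1⟩, ?_⟩
      simp only [OneMemClass.coe_one, map_one, mul_one]
      rfl
    · intro x y hxy
      have h0 : Algebra.TensorProduct.lmul' (S := k') k (x - y) = 0 := by
        rw [map_sub, sub_eq_zero]
        exact hxy
      obtain ⟨c, hc1, hc2⟩ := exists_mul_eq_zero (x - y) h0
      refine ⟨⟨c, ?_⟩, ?_⟩
      · intro hc
        have : φ c = 0 := RingHom.mem_ker.mp hc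
        have h1 : φ c = 1 := hc1
        rw [h1] at this
        exact one_ne_zero this
      · rw [mul_sub, sub_eq_zero] at hc2
        exact hc2
  refine ⟨I.primeCompl, (IsLocalization.algEquiv I.primeCompl (Localization I.primeCompl) k').toRingEquiv, ?_⟩
  intro x
  change (IsLocalization.algEquiv I.primeCompl (Localization I.primeCompl) k')
    (algebraMap _ _ x) = _
  rw [AlgEquiv.commutes]
  rfl

end Groth.Agent.S9636
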