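import Groth.Statements.S15941
import Mathlib
import Groth.Agent.Lib.Lead.Seminormal
-- import your own Groth.Agent.* helpers here

set_option autoImplicit false
universe u
open HTop

namespace Groth.Agent.S15941

/-- An integrally closed integral domain is a seminormal ring, that is, whenever x^3 = y^2 there is
exactly one element a with x = a^2 and y = a^3. (The published statement is for a normal Noetherian
scheme and reduces at once to this affine integral case; the Noetherian hypothesis plays no role.) -/
theorem result (A : Type u) [CommRing A] [IsDomain A]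
    [IsIntegrallyClosed A] : HTop.IsSeminormalRing A := by
  intro x y hxy
  have huniq : ∀ a d : A, x = a ^ 2 ∧ y = a ^ 3 → x = d ^ 2 ∧ y = d ^ 3 → d = a := by
    rintro a d ⟨ha2, ha3⟩ ⟨hd2, hd3⟩
    exact Groth.Agent.Lib.Lead.Seminormal.eq_of_sq_eq_of_cube_eq (hd2.symm.trans ha2)
      (hd3.symm.trans ha3)
  by_cases hx : x = 0
  · subst hx
    have hy : y = 0 := by
      have : y ^ 2 = 0 := by rw [← hxy]; simp
      exact pow_eq_zero_iff (two_ne_zero) |>.mp this
    subst hy
    exact ⟨0, ⟨by simp, by simp⟩, fun d hd => huniq 0 d ⟨by simp, by simp⟩ hd⟩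
  · let K := FractionRing A
    have hxK : algebraMap A K x ≠ 0 := by
      intro h
      exact hx ((injective_iff_map_eq_zero (algebraMap A K)).mp (IsFractionRing.injective A K) x h)
    have hsq : (algebraMap A K y / algebraMap A K x) ^ 2 = algebraMap A K x := by
      rw [div_pow, ← map_pow, ← hxy, map_pow, pow_succ (algebraMap A K x) 2,
        mul_div_cancel_left₀ _ (pow_ne_zero 2 hxK)]
    obtain ⟨a, ha⟩ := IsIntegrallyClosed.exists_algebraMap_eq_of_isIntegral_pow (R := A) (K := K)
      (x := algebraMap A K y / algebraMap A K x) (n := 2) (by norm_num)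
      (by rw [hsq]; exact isIntegral_algebraMap)
    have ha2 : x = a ^ 2 := by
      apply IsFractionRing.injective A K
      rw [map_pow, ha, hsq]
    have ha3 : y = a ^ 3 := by
      apply IsFractionRing.injective A K
      rw [map_pow, ha]
      have : (algebraMap A K y / algebraMap A K x) ^ 3 =
          (algebraMap A K y / algebraMap A K x) ^ 2 * (algebraMap A K y / algebraMap A K x) := by
        ring
      rw [this, hsq, mul_div_cancel₀ _ hxK]
    exact ⟨a, ⟨ha2, ha3⟩, fun d hd => huniq a d ⟨ha2, ha3⟩ hd⟩

end Groth.Agent.S15941
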