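import Mathlib
import Groth.Statements.S5270
-- import your own Groth.Agent.* helpers here

set_option autoImplicit false
universe u
open TensorProduct SGA3b
open SGA3b

namespace Groth.Agent.S5270

/-- an element killed in every `(A/I^(n+1)) ⊗ B` lies in every `I^n • ⊤` -/
lemma mem_pow_smul_top_of_tmul_eq_zero {A : Type u} [CommRing A] (I : Ideal A)
    {B : Type u} [AddCommGroup B] [Module A B] (d : B)
    (h : ∀ n : ℕ, (1 : A ⧸ I ^ (n + 1)) ⊗ₜ[A] d = 0) (n : ℕ) :
    d ∈ (I ^ n • ⊤ : Submodule A B) := by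
  have h1 := h n
  have h2 := congrArg (TensorProduct.quotTensorEquivQuotSMul B (I ^ (n + 1))) h1
  rw [TensorProduct.quotTensorEquivQuotSMul_mk_one_tmul, map_zero,
    Submodule.Quotient.mk_eq_zero] at h2
  exact Submodule.smul_mono_left (Ideal.pow_le_pow_right (Nat.le_succ n)) h2

/-- linear maps preserve `J • ⊤` -/
lemma map_mem_smul_top {A : Type*} [CommRing A] (J : Ideal A)
    {B B' : Type*} [AddCommGroup B] [Module A B] [AddCommGroup B'] [Module A B']
    (g : B →ₗ[A] B') {d : B} (hd : d ∈ (J • ⊤ : Submodule A B)) :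
    g d ∈ (J • ⊤ : Submodule A B') := by
  have h1 : g d ∈ (J • ⊤ : Submodule A B).map g := Submodule.mem_map_of_mem hd
  rw [Submodule.map_smul''] at h1
  exact Submodule.smul_mono le_rfl le_top h1

/-- Injectivity of the map to formal homomorphisms. Let A be a Noetherian ring, separated and complete
for the I-adic topology, H = Spec B an isotrivial A-group of multiplicative type and G = Spec C an
affine A-group. If two homomorphisms H ⟶ G, given by bialgebra maps φ, ψ : C → B, have the same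
reduction modulo I^(n+1) for every n ≥ 0, then φ = ψ. (Affine group schemes over an affine base are
taken in Hopf-algebra form; base change is the tensor product; a homomorphism of groups Spec A ⟶
Spec C is a bialgebra map C → A.) -/
theorem result (A : Type u) [CommRing A] [IsNoetherianRing A] (I : Ideal A) [IsAdicComplete I A]
    (B : Type u) [CommRing B] [HopfAlgebra A B] (hH : IsIsotrivial A B)
    (C : Type u) [CommRing C] [HopfAlgebra A C] (φ ψ : C →ₐc[A] B)
    (h : ∀ (n : ℕ) (c : C), (1 : A ⧸ I ^ (n + 1)) ⊗ₜ[A] (φ c) = (1 : A ⧸ I ^ (n + 1)) ⊗ₜ[A] (ψ c)) :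
    φ = ψ := by
  classical
  obtain ⟨R', _, _, het, hfin, hff, M, _, ⟨e⟩⟩ := hH
  apply DFunLike.ext
  intro c
  rw [← sub_eq_zero]
  obtain ⟨d, hd⟩ : ∃ d, d = φ c - ψ c := ⟨_, rfl⟩
  rw [← hd]
  have hd0 : ∀ n : ℕ, (1 : A ⧸ I ^ (n + 1)) ⊗ₜ[A] d = 0 := by
    intro n
    rw [hd, TensorProduct.tmul_sub, h n c, sub_self]
  have hmem := mem_pow_smul_top_of_tmul_eq_zero I d hd0
  -- Krull intersection in R'
  have hkrull : (⨅ i : ℕ, I ^ i • ⊤ : Submodule A R') = ⊥ :=
    Ideal.iInf_pow_smul_eq_bot_of_le_jacobson I (IsAdicComplete.le_jacobson_bot I)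
  -- the map B → R' ⊗ B
  have hinj : Function.Injective (TensorProduct.mk A R' B 1) :=
    Module.FaithfullyFlat.tensorProduct_mk_injective (A := A) (B := R') B
  apply hinj
  rw [map_zero]
  apply e.injective
  rw [map_zero]
  apply MonoidAlgebra.coeff_injective
  rw [MonoidAlgebra.coeff_zero]
  ext m
  -- the coefficient map
  let g : B →ₗ[A] R' :=
    ((Finsupp.lapply m : (M →₀ R') →ₗ[R'] R').restrictScalars A) ∘ₗ
      (MonoidAlgebra.coeffLinearEquiv (M := M) (S := R') A).toLinearMap ∘ₗ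
      ((e : (R' ⊗[A] B) →ₗ[R'] MonoidAlgebra R' M).restrictScalars A) ∘ₗ
      (TensorProduct.mk A R' B 1)
  have hg : ∀ n, g d ∈ (I ^ n • ⊤ : Submodule A R') := fun n => map_mem_smul_top _ g (hmem n)
  have hg0 : g d ∈ (⨅ i : ℕ, I ^ i • ⊤ : Submodule A R') := by
    rw [Submodule.mem_iInf]
    exact hg
  rw [hkrull, Submodule.mem_bot] at hg0
  exact hg0

end Groth.Agent.S5270
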