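import Groth.Statements.S15893
import Groth.Prelude.Def_CartDual2

set_option autoImplicit false
universe u v w
open CartDual

namespace Groth.Agent.S15893

lemma eval_bijective (R : Type u) [CommRing R] (A : Type v) [CommRing A] [Bialgebra R A]
    [Module.Finite R A] [Module.Projective R A] : Function.Bijective (CartDual.eval R A) := by
  constructor
  · intro a b hab
    apply (Module.bijective_dual_eval R A).1
    apply LinearMap.ext
    intro x
    have h1 := congrArg (fun z : CartDual.D R (CartDual.D R A) => z (WithConv.toConv x)) hab
    exact h1
  · intro x
    obtain ⟨u, hu⟩ := (Module.bijective_dual_eval R A).2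
      (x.ofConv ∘ₗ (CartDual.toDual R A).symm.toLinearMap)
    refine ⟨u, ?_⟩
    apply WithConv.ext
    apply LinearMap.ext
    intro b
    have h1 := LinearMap.congr_fun hu b.ofConv
    rw [Module.Dual.eval_apply, LinearMap.comp_apply] at h1
    change b.ofConv u = x.ofConv b
    rw [h1]
    rfl


/-- the evaluation isomorphism. -/
noncomputable def evalEquiv (R : Type u) [CommRing R] (B : Type w) [CommRing B] [Bialgebra R B]
    [Module.Finite R B] [Module.Projective R B] : B ≃ₐc[R] CartDual.D R (CartDual.D R B) :=
  BialgEquiv.ofBijective (R := R) (A := B) (B := CartDual.D R (CartDual.D R B))
    (CartDual.eval R B) (eval_bijective R B)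

lemma evalEquiv_apply (R : Type u) [CommRing R] (B : Type w) [CommRing B] [Bialgebra R B]
    [Module.Finite R B] [Module.Projective R B] (b : B) :
    evalEquiv R B b = CartDual.eval R B b := rfl

/-- Let R be a commutative ring and A, B commutative and cocommutative Hopf algebras over R, each
finitely generated and projective as an R-module (finite locally free commutative group schemes G =
Spec A, H = Spec B over Spec R). Then Cartier duality is a fully faithful contravariant functor: the
map sending a bialgebra homomorphism f : A → B (a homomorphism of group schemes H → G) to its
transpose between the dual Hopf algebras, Hom_R(B, R) → Hom_R(A, R) (the dual homomorphism G^D →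
H^D), is a bijection between bialgebra homomorphisms A → B and bialgebra homomorphisms Hom_R(B, R) →
Hom_R(A, R). (The published statement also asserts that the canonical map to the double dual is an
isomorphism, which makes duality an involutory anti-equivalence; that part is not restated here. The
published notes work over a Noetherian base ring; the row allows any commutative base ring.) -/
theorem result (R : Type u) [CommRing R] (A : Type v) (B : Type w)
    [CommRing A] [HopfAlgebra R A] [Coalgebra.IsCocomm R A] [Module.Finite R A] [Module.Projective R A]
    [CommRing B] [HopfAlgebra R B] [Coalgebra.IsCocomm R B] [Module.Finite R B] [Module.Projective R B] :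
    Function.Bijective (fun f : A →ₐc[R] B => CartDual.transpose R f) := by
  constructor
  · intro f g hfg
    apply BialgHom.ext
    intro a
    apply (Module.bijective_dual_eval R B).1
    apply LinearMap.ext
    intro x
    have h1 := congrArg (fun φ : CartDual.D R B →ₐc[R] CartDual.D R A => φ (WithConv.toConv x) a) hfg
    exact h1
  · intro φ
    let eB : B ≃ₐc[R] CartDual.D R (CartDual.D R B) := evalEquiv R B
    let f : A →ₐc[R] B :=
      ((eB.symm : CartDual.D R (CartDual.D R B) →ₐc[R] B).comp (CartDual.transpose R φ)).comp
        (CartDual.eval R A)
    refine ⟨f, ?_⟩
    apply BialgHom.ext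
    intro x
    apply WithConv.ext
    apply LinearMap.ext
    intro a
    change x (f a) = (φ x) a
    have h1 : CartDual.eval R B (f a) = CartDual.transpose R φ (CartDual.eval R A a) := by
      change evalEquiv R B ((evalEquiv R B).symm (CartDual.transpose R φ (CartDual.eval R A a))) = _
      exact (evalEquiv R B).apply_symm_apply _
    have h2 := congrArg (fun z : CartDual.D R (CartDual.D R B) => z x) h1
    exact h2

end Groth.Agent.S15893
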