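import Groth.Statements.S2925
import Groth.Agent.Lib.Helper7.FiniteQuotient
import Groth.Agent.Lib.Helper7.DescendMorphism

set_option autoImplicit false
open CategoryTheory CategoryTheory.Limits AlgebraicGeometry
universe u
open SGA1

namespace Groth.Agent.S2925

/-- Let a finite group G act on a scheme X and let p : X ⟶ Y be a quotient of X by G. Then every
G-invariant morphism X ⟶ Z factors uniquely through p. -/
theorem result {X Y : Scheme.{u}} {G : Type u} [Group G] [Finite G] (ρ : G →* Aut X)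
    (p : X ⟶ Y) (hp : SGA1.IsQuot ρ p) (Z : Scheme.{u}) (h : X ⟶ Z) (hh : ∀ g : G, (ρ g).hom ≫ h = h) :
    ∃! h' : Y ⟶ Z, p ≫ h' = h := by
  refine Groth.Agent.Lib.Helper7.DescendMorphism.existsUnique_desc p (Groth.Agent.Lib.Helper7.FiniteQuotient.isQuotientMap hp) hp.injective h ?_ ?_
  · intro x x' hxx'
    obtain ⟨g, rfl⟩ := (Groth.Agent.Lib.Helper7.FiniteQuotient.app_eq_iff hp x x').mp hxx'
    rw [← Scheme.Hom.comp_apply, hh g]
  · intro V W e r
    rw [hp.range_iff]
    intro g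
    have h1 : h.appLE W (p ⁻¹ᵁ V) e ≫ (ρ g).hom.appLE (p ⁻¹ᵁ V) (p ⁻¹ᵁ V)
        (SGA1.preimage_le_of_inv ρ p hp.inv g V) = h.appLE W (p ⁻¹ᵁ V) e := by
      rw [Scheme.Hom.appLE_comp_appLE, Groth.Agent.Lib.Helper7.DescendMorphism.appLE_congr_hom' (hh g)]
    exact congrArg (fun f => f.hom r) h1

end Groth.Agent.S2925
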