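import Groth.Statements.S16985
import Mathlib

set_option autoImplicit false
universe u v
open Hoch

namespace Groth.Agent.S16985

section helpers
open Hoch

open TensorProduct

section general

variable (k : Type u) [CommRing k] (A : Type v) [CommRing A] [Bialgebra k A]

/-- naturality of `tail`. -/
theorem tail_natural {M M' : Type v} [AddCommGroup M] [Module k M] [AddCommGroup M'] [Module k M']
    (φ : M →ₗ[k] M') :
    tail k A M' ∘ₗ φ.rTensor A = (φ.rTensor A).rTensor A ∘ₗ tail k A M := by
  refine TensorProduct.ext' fun m a => ?_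
  simp only [LinearMap.comp_apply, LinearMap.rTensor_tmul]
  unfold tail
  simp only [LinearMap.comp_apply, LinearMap.lTensor_tmul, LinearEquiv.coe_coe]
  have := TensorProduct.map_map_assoc_symm φ (LinearMap.id : A →ₗ[k] A) (LinearMap.id : A →ₗ[k] A)
    (m ⊗ₜ[k] redComul k A a)
  simp only [TensorProduct.map_id, TensorProduct.map_tmul, LinearMap.id_apply] at this
  exact this.symm

theorem step {X : Type v} [AddCommGroup X] [Module k X] (D : X →ₗ[k] X ⊗[k] A)
    (D1 : X ⊗[k] A →ₗ[k] (X ⊗[k] A) ⊗[k] A) (S : X ⊗[k] A →ₗ[k] X) (c c' : k) (hcc : c + c' = 0)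
    (ih : D ∘ₗ S + S.rTensor A ∘ₗ D1 = LinearMap.id) :
    (D.rTensor A + c • tail k A X) ∘ₗ S.rTensor A +
      (S.rTensor A).rTensor A ∘ₗ (D1.rTensor A + c' • tail k A (X ⊗[k] A)) = LinearMap.id := by
  rw [LinearMap.add_comp, LinearMap.comp_add, LinearMap.smul_comp, LinearMap.comp_smul,
    tail_natural, ← LinearMap.rTensor_comp, ← LinearMap.rTensor_comp]
  have : ∀ (a b t : (X ⊗[k] A) ⊗[k] A →ₗ[k] (X ⊗[k] A) ⊗[k] A),
      a + c • t + (b + c' • t) = a + b + (c + c') • t := by
    intros; rw [add_smul]; abel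
  rw [this, hcc, zero_smul, add_zero, ← LinearMap.rTensor_add, ih, LinearMap.rTensor_id]

theorem base {V : Type v} [AddCommGroup V] [Module k V] (ρ : V →ₗ[k] V ⊗[k] A)
    (σ : V ⊗[k] A →ₗ[k] V)
    (H1 : σ ∘ₗ ρ = LinearMap.id)
    (H2 : ρ ∘ₗ σ = σ.rTensor A ∘ₗ (TensorProduct.assoc k V A A).symm.toLinearMap ∘ₗ
        (Coalgebra.comul (R := k) (A := A)).lTensor V) :
    (ρ - (TensorProduct.mk k V A).flip 1) ∘ₗ σ +
      σ.rTensor A ∘ₗ ((ρ - (TensorProduct.mk k V A).flip 1).rTensor A + ((-1 : k) ^ (0 + 1)) • tail k A V) =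
        LinearMap.id := by
  have e : ((-1 : k) ^ (0 + 1)) • tail k A V = - tail k A V := by
    rw [zero_add, pow_one]; exact neg_one_smul k (tail k A V)
  rw [e]
  refine TensorProduct.ext' fun v b => ?_
  have h1 : ∀ v, σ (ρ v) = v := fun v => LinearMap.congr_fun H1 v
  have h2 := LinearMap.congr_fun H2 (v ⊗ₜ[k] b)
  simp only [LinearMap.comp_apply, LinearMap.lTensor_tmul, LinearEquiv.coe_coe] at h2
  simp only [LinearMap.add_apply, LinearMap.comp_apply,
    LinearMap.sub_apply, LinearMap.neg_apply, LinearMap.rTensor_tmul, LinearMap.flip_apply,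
    TensorProduct.mk_apply, tail_tmul, map_sub, map_add, map_neg, TensorProduct.tmul_sub,
    TensorProduct.sub_tmul, TensorProduct.assoc_symm_tmul, h1, h2, LinearMap.id_apply]
  abel

variable (V : Type v) [AddCommGroup V] [Module k V] [HopfRep.Comod k A V]

/-- the contracting homotopy built from `σ : V ⊗ A → V`. -/
noncomputable def s (σ : V ⊗[k] A →ₗ[k] V) :
    (n : ℕ) → ((cochain k A V (n + 1) : Type v) →ₗ[k] (cochain k A V n : Type v))
  | 0 => σ
  | n + 1 => (s σ n).rTensor A

omit [HopfRep.Comod k A V] in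
theorem s_succ (σ : V ⊗[k] A →ₗ[k] V) (n : ℕ) : s k A V σ (n + 1) = (s k A V σ n).rTensor A := rfl

theorem homotopy (σ : V ⊗[k] A →ₗ[k] V)
    (H1 : σ ∘ₗ (HopfRep.Comod.coact (k := k) (A := A) : V →ₗ[k] V ⊗[k] A) = LinearMap.id)
    (H2 : (HopfRep.Comod.coact (k := k) (A := A) : V →ₗ[k] V ⊗[k] A) ∘ₗ σ =
      σ.rTensor A ∘ₗ (TensorProduct.assoc k V A A).symm.toLinearMap ∘ₗ
        (Coalgebra.comul (R := k) (A := A)).lTensor V) (n : ℕ) :
    d k A V n ∘ₗ s k A V σ n + s k A V σ (n + 1) ∘ₗ d k A V (n + 1) = LinearMap.id := by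
  induction n with
  | zero => exact base k A _ σ H1 H2
  | succ n ih =>
    have hc : (-1 : k) ^ (n + 1) + (-1 : k) ^ (n + 1 + 1) = 0 := by rw [pow_succ (-1 : k) (n + 1)]; ring
    exact step k A (d k A V n) (d k A V (n + 1)) (s k A V σ n) ((-1 : k) ^ (n + 1)) _ hc ih

theorem cocycles_le (σ : V ⊗[k] A →ₗ[k] V)
    (H1 : σ ∘ₗ (HopfRep.Comod.coact (k := k) (A := A) : V →ₗ[k] V ⊗[k] A) = LinearMap.id)
    (H2 : (HopfRep.Comod.coact (k := k) (A := A) : V →ₗ[k] V ⊗[k] A) ∘ₗ σ =
      σ.rTensor A ∘ₗ (TensorProduct.assoc k V A A).symm.toLinearMap ∘ₗ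
        (Coalgebra.comul (R := k) (A := A)).lTensor V) (n : ℕ) :
    cocycles k A V (n + 1) ≤ coboundaries k A V (n + 1) := by
  intro z hz
  have hz' : d k A V (n + 1) z = 0 := hz
  have := LinearMap.congr_fun (homotopy k A V σ H1 H2 n) z
  simp only [LinearMap.add_apply, LinearMap.comp_apply, hz', map_zero, add_zero,
    LinearMap.id_apply] at this
  exact ⟨_, this⟩

end general

section ind

variable (k : Type u) [CommRing k] (A : Type v) [CommRing A] [Bialgebra k A]
  (P : Type v) [AddCommGroup P] [Module k P]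

/-- `(p ⊗ a) ⊗ b ↦ ε(a) p ⊗ b`. -/
noncomputable def sig : (P ⊗[k] A) ⊗[k] A →ₗ[k] P ⊗[k] A :=
  ((TensorProduct.rid k P).toLinearMap ∘ₗ (Coalgebra.counit (R := k) (A := A)).lTensor P).rTensor A

@[simp] theorem sig_tmul (p : P) (a b : A) :
    sig k A P ((p ⊗ₜ[k] a) ⊗ₜ[k] b) = (Coalgebra.counit (R := k) a • p) ⊗ₜ[k] b := by
  simp [sig]

theorem sig_assoc_symm (p : P) (t : A ⊗[k] A) :
    sig k A P ((TensorProduct.assoc k P A A).symm (p ⊗ₜ[k] t)) =
      p ⊗ₜ[k] (TensorProduct.lid k A ((Coalgebra.counit (R := k) (A := A)).rTensor A t)) := by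
  induction t using TensorProduct.induction_on with
  | zero => simp
  | tmul a b => simp [TensorProduct.smul_tmul]
  | add x y hx hy => simp only [TensorProduct.tmul_add, map_add, hx, hy]

theorem sig_coactAux (x : P ⊗[k] A) : sig k A P (Ind.coactAux k A P x) = x := by
  induction x using TensorProduct.induction_on with
  | zero => simp
  | tmul p a =>
    rw [Ind.coactAux_tmul, sig_assoc_symm, Coalgebra.rTensor_counit_comul]
    simp
  | add x y hx hy => simp only [map_add, hx, hy]

theorem sig_rTensor_assoc_symm (p : P) (a : A) (t : A ⊗[k] A) :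
    (sig k A P).rTensor A ((TensorProduct.assoc k (P ⊗[k] A) A A).symm ((p ⊗ₜ[k] a) ⊗ₜ[k] t)) =
      (TensorProduct.assoc k P A A).symm ((Coalgebra.counit (R := k) a • p) ⊗ₜ[k] t) := by
  induction t using TensorProduct.induction_on with
  | zero => simp
  | tmul b c => simp
  | add x y hx hy => simp only [TensorProduct.tmul_add, map_add, hx, hy]

theorem H2_plain :
    Ind.coactAux k A P ∘ₗ sig k A P =
      (sig k A P).rTensor A ∘ₗ (TensorProduct.assoc k (P ⊗[k] A) A A).symm.toLinearMap ∘ₗ
        (Coalgebra.comul (R := k) (A := A)).lTensor (P ⊗[k] A) := by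
  refine TensorProduct.ext' fun v b => ?_
  induction v using TensorProduct.induction_on with
  | zero => simp
  | tmul p a =>
    simp only [LinearMap.comp_apply, LinearMap.lTensor_tmul, LinearEquiv.coe_coe, sig_tmul,
      Ind.coactAux_tmul, sig_rTensor_assoc_symm]
  | add x y hx hy => simp only [TensorProduct.add_tmul, map_add, hx, hy]

/-- `σ` on the induced comodule. -/
noncomputable def sigInd : (Ind k A P) ⊗[k] A →ₗ[k] Ind k A P := sig k A P

end ind

end helpers

open TensorProduct in
/-- Let k be a commutative ring, A a commutative k-bialgebra flat over k (the coordinate ring of a flat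
affine group scheme over Spec k; flatness and commutativity are the standing hypotheses of the
appendix and are not needed for the assertion) and P a k-module. Then the cochain complex of the
induced comodule P ⊗ A (coaction id ⊗ Δ), with n-cochains (P ⊗ A) ⊗ A ⊗ ⋯ ⊗ A, has every
(n+1)-cocycle an (n+1)-coboundary, for all n. (The published statement is the vanishing of the
higher derived functors of invariants on coinduced modules; this row states the vanishing in
positive degrees of the cohomology of the cochain complex above, which the same appendix identifies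
with those derived functors. P is taken in the universe of A, as the cochain modules require.) -/
theorem result (k : Type u) [CommRing k] (A : Type v) [CommRing A]
    [Bialgebra k A] [Module.Flat k A] (P : Type v) [AddCommGroup P] [Module k P] (n : ℕ) :
    Hoch.cocycles k A (Hoch.Ind k A P) (n + 1) ≤ Hoch.coboundaries k A (Hoch.Ind k A P) (n + 1) := by
  refine cocycles_le k A (Ind k A P) (sigInd k A P) ?_ ?_ n
  · exact LinearMap.ext (sig_coactAux k A P)
  · exact H2_plain k A P

end Groth.Agent.S16985
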