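import Groth.Statements.S18468
import Mathlib

set_option autoImplicit false
universe u
open OortTate

namespace Groth.Agent.S18468

section abstract
open Finset

variable {p : ℕ} [Fact p.Prime] {R : Type*} [CommRing R] (u : R) (hu : u * ((p - 1 : ℕ) : R) = 1)
  (χ : (ZMod p)ˣ →* Rˣ) (hχ : ∀ m : (ZMod p)ˣ, m ≠ 1 → IsUnit ((χ m : R) - 1))

include hχ in
theorem geom_zero (m : (ZMod p)ˣ) (hm : m ≠ 1) : ∑ i ∈ range (p - 1), ((χ m : Rˣ) : R) ^ i = 0 := by
  have h1 : (∑ i ∈ range (p - 1), ((χ m : Rˣ) : R) ^ i) * (((χ m : Rˣ) : R) - 1) = 0 := by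
    rw [geom_sum_mul, ← Units.val_pow_eq_pow_val, ← map_pow, ZMod.units_pow_card_sub_one_eq_one,
      map_one, Units.val_one, sub_self]
  exact (hχ m hm).mul_left_eq_zero.mp h1

include hχ in
theorem orth_zero (k : ℕ) (hk0 : 0 < k) (hk : k < p - 1) :
    ∑ m : (ZMod p)ˣ, ((χ m : Rˣ) : R) ^ k = 0 := by
  obtain ⟨g, hg⟩ := IsCyclic.exists_generator (α := (ZMod p)ˣ)
  have hgk : g ^ k ≠ 1 := by
    intro h
    have h1 : orderOf g ∣ k := orderOf_dvd_of_pow_eq_one h
    rw [orderOf_eq_card_of_forall_mem_zpowers hg, Nat.card_eq_fintype_card, ZMod.card_units] at h1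
    exact absurd (Nat.le_of_dvd hk0 h1) (not_le.mpr hk)
  have h2 : (((χ (g ^ k) : Rˣ) : R) - 1) * ∑ m : (ZMod p)ˣ, ((χ m : Rˣ) : R) ^ k = 0 := by
    rw [sub_mul, one_mul, sub_eq_zero, Finset.mul_sum]
    rw [← Fintype.sum_equiv (Equiv.mulLeft g) (fun m => ((χ (g ^ k) : Rˣ) : R) * ((χ m : Rˣ) : R) ^ k)
      (fun m => ((χ m : Rˣ) : R) ^ k)]
    intro m
    simp only [Equiv.coe_mulLeft, map_mul, map_pow, Units.val_mul, Units.val_pow_eq_pow_val, mul_pow]
  exact (hχ _ hgk).mul_right_eq_zero.mp h2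

include hu hχ in
theorem coef (i j : ℕ) (hi : i < p - 1) (hj : j < p - 1) :
    u * ∑ m : (ZMod p)ˣ, ((χ m⁻¹ : Rˣ) : R) ^ i * ((χ m : Rˣ) : R) ^ j = if i = j then 1 else 0 := by
  have hinv : ∀ m : (ZMod p)ˣ, ((χ m⁻¹ : Rˣ) : R) * ((χ m : Rˣ) : R) = 1 := by
    intro m
    rw [← Units.val_mul, ← map_mul, inv_mul_cancel, map_one, Units.val_one]
  rcases lt_trichotomy i j with h | h | h
  · rw [if_neg (ne_of_lt h)]
    obtain ⟨k, rfl⟩ := Nat.exists_eq_add_of_lt h
    have : ∀ m : (ZMod p)ˣ, ((χ m⁻¹ : Rˣ) : R) ^ i * ((χ m : Rˣ) : R) ^ (i + k + 1) =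
        ((χ m : Rˣ) : R) ^ (k + 1) := by
      intro m
      rw [add_assoc, pow_add, ← mul_assoc, ← mul_pow, hinv, one_pow, one_mul]
    simp only [this]
    rw [orth_zero χ hχ (k + 1) (by omega) (by omega), mul_zero]
  · subst h
    rw [if_pos rfl]
    simp only [← mul_pow, hinv, one_pow, sum_const, card_univ, ZMod.card_units, nsmul_eq_mul, mul_one]
    exact hu
  · rw [if_neg (ne_of_gt h)]
    obtain ⟨k, rfl⟩ := Nat.exists_eq_add_of_lt h
    have : ∀ m : (ZMod p)ˣ, ((χ m⁻¹ : Rˣ) : R) ^ (j + k + 1) * ((χ m : Rˣ) : R) ^ j =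
        ((χ m⁻¹ : Rˣ) : R) ^ (k + 1) := by
      intro m
      rw [add_assoc, pow_add, mul_comm (_ ^ j), mul_assoc, ← mul_pow, hinv, one_pow, mul_one]
    simp only [this]
    rw [Fintype.sum_equiv (Equiv.inv (ZMod p)ˣ) (fun m => ((χ m⁻¹ : Rˣ) : R) ^ (k + 1))
      (fun m => ((χ m : Rˣ) : R) ^ (k + 1)) (fun m => rfl)]
    rw [orth_zero χ hχ (k + 1) (by omega) (by omega), mul_zero]


section rep
variable {V : Type*} [AddCommGroup V] [Module R V] (ρ : (ZMod p)ˣ → (V →ₗ[R] V))
  (ρ_one : ρ 1 = LinearMap.id) (ρ_mul : ∀ a b, ρ (a * b) = ρ a ∘ₗ ρ b)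
  (W : Submodule R V) (hW : ∀ m, ∀ v ∈ W, ρ m v ∈ W)

/-- The averaging operator. -/
noncomputable def P (i : ℕ) : V →ₗ[R] V := u • ∑ m : (ZMod p)ˣ, (((χ m⁻¹ : Rˣ) : R) ^ i) • ρ m

/-- The eigen-submodules. -/
def E (i : ℕ) : Submodule R V :=
  W ⊓ ⨅ m : (ZMod p)ˣ, Module.End.eigenspace (ρ m) (((χ m : Rˣ) : R) ^ i)

theorem mem_E {i : ℕ} {v : V} :
    v ∈ E χ ρ W i ↔ v ∈ W ∧ ∀ m, ρ m v = (((χ m : Rˣ) : R) ^ i) • v := by
  simp [E, Submodule.mem_iInf]

theorem P_apply (i : ℕ) (v : V) :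
    P u χ ρ i v = u • ∑ m : (ZMod p)ˣ, (((χ m⁻¹ : Rˣ) : R) ^ i) • ρ m v := by
  simp [P, LinearMap.sum_apply]

include hW in
theorem P_mem_W (i : ℕ) {v : V} (hv : v ∈ W) : P u χ ρ i v ∈ W := by
  rw [P_apply]
  exact W.smul_mem _ (W.sum_mem fun m _ => W.smul_mem _ (hW m v hv))

include ρ_mul in
theorem rho_P (i : ℕ) (m' : (ZMod p)ˣ) (v : V) :
    ρ m' (P u χ ρ i v) = (((χ m' : Rˣ) : R) ^ i) • P u χ ρ i v := by
  rw [P_apply]
  simp only [map_smul, map_sum]
  rw [smul_comm _ u]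
  congr 1
  rw [Finset.smul_sum]
  refine Fintype.sum_equiv (Equiv.mulLeft m') _ _ (fun m => ?_)
  simp only [Equiv.coe_mulLeft, ρ_mul, LinearMap.comp_apply, smul_smul]
  congr 1
  rw [← mul_pow, ← Units.val_mul, ← map_mul, mul_inv_rev, mul_comm m', mul_assoc, inv_mul_cancel, mul_one]

include hu hχ in
theorem P_on_E {i j : ℕ} (hi : i < p - 1) (hj : j < p - 1) {v : V} (hv : v ∈ E χ ρ W j) :
    P u χ ρ i v = if i = j then v else 0 := by
  rw [mem_E] at hv
  rw [P_apply]
  simp only [hv.2, smul_smul]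
  rw [← Finset.sum_smul, smul_smul, coef u hu χ hχ i j hi hj]
  split_ifs <;> simp

include hu hχ ρ_one in
theorem sum_P (v : V) : ∑ i ∈ range (p - 1), P u χ ρ i v = v := by
  simp only [P_apply]
  rw [← Finset.smul_sum, Finset.sum_comm]
  simp only [← Finset.sum_smul]
  rw [Finset.sum_eq_single (1 : (ZMod p)ˣ)]
  · simp only [inv_one, map_one, Units.val_one, one_pow, sum_const, card_range, nsmul_eq_mul, mul_one,
      ρ_one, LinearMap.id_apply, smul_smul, hu, one_smul]
  · intro m _ hm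
    rw [geom_zero χ hχ m⁻¹ (inv_ne_one.mpr hm), zero_smul]
  · intro h; exact absurd (Finset.mem_univ _) h

include hu hχ ρ_one ρ_mul hW in
theorem main :
    iSupIndep (fun i : Fin (p - 1) => E χ ρ W (i : ℕ)) ∧
      (⨆ i : Fin (p - 1), E χ ρ W (i : ℕ)) = W ∧
      ∀ i : Fin (p - 1), E χ ρ W (i : ℕ) = Submodule.map (P u χ ρ (i : ℕ)) W := by
  have hPE : ∀ (i : ℕ) {v : V}, v ∈ W → P u χ ρ i v ∈ E χ ρ W i := by
    intro i v hv
    rw [mem_E]
    exact ⟨P_mem_W u χ ρ W hW i hv, fun m => rho_P u χ ρ ρ_mul i m v⟩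
  refine ⟨?_, ?_, ?_⟩
  · rw [iSupIndep_def]
    intro i
    rw [Submodule.disjoint_def]
    intro v hv1 hv2
    have h1 : P u χ ρ (i : ℕ) v = v := by
      rw [P_on_E u hu χ hχ ρ W i.2 i.2 hv1, if_pos rfl]
    have h2 : (⨆ j, ⨆ (_ : j ≠ i), E χ ρ W (j : ℕ)) ≤ LinearMap.ker (P u χ ρ (i : ℕ)) := by
      refine iSup₂_le fun j hj w hw => ?_
      rw [LinearMap.mem_ker, P_on_E u hu χ hχ ρ W i.2 j.2 hw, if_neg]
      intro h
      exact hj (Fin.ext h.symm)
    rw [← h1]
    exact h2 hv2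
  · apply le_antisymm
    · exact iSup_le fun i => inf_le_left
    · intro v hv
      rw [← sum_P u hu χ hχ ρ ρ_one v, Finset.sum_range]
      exact Submodule.sum_mem _ fun i _ =>
        Submodule.mem_iSup_of_mem i (hPE (i : ℕ) hv)
  · intro i
    apply le_antisymm
    · intro v hv
      refine ⟨v, ?_, ?_⟩
      · exact ((mem_E χ ρ W).mp hv).1
      · rw [P_on_E u hu χ hχ ρ W i.2 i.2 hv, if_pos rfl]
    · rintro _ ⟨v, hv, rfl⟩
      exact hPE (i : ℕ) hv

end rep


end abstract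

section conv
open WithConv

variable {R : Type*} [CommRing R] {A : Type*} [CommRing A] [Bialgebra R A]

theorem comp_convPow {B : Type*} [CommRing B] [Algebra R B] (h : A →ₐ[R] B)
    (f : WithConv (A →ₐ[R] A)) (n : ℕ) :
    h.comp (f ^ n).ofConv = ofConv ((toConv (h.comp f.ofConv)) ^ n) := by
  induction n with
  | zero =>
    rw [pow_zero, pow_zero]
    ext a
    simp [AlgHom.convOne_def]
  | succ n ih =>
    rw [pow_succ, pow_succ, AlgHom.comp_convMul_distrib, ih]


section hopf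
variable {R : Type u} [CommRing R] {A : Type u} [CommRing A] [HopfAlgebra R A]

theorem powConv_comp (a b : ℕ) :
    (SGA3b.powConv R A a).comp (SGA3b.powConv R A b) = SGA3b.powConv R A (a * b) := by
  unfold SGA3b.powConv
  rw [comp_convPow]
  simp only [AlgHom.comp_id, toConv_ofConv, ← pow_mul]

theorem counit_powConv (n : ℕ) (a : A) :
    Coalgebra.counit (R := R) (SGA3b.powConv R A n a) = Coalgebra.counit (R := R) a := by
  have h := comp_convPow (Bialgebra.counitAlgHom R A) (toConv (AlgHom.id R A)) n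
  have h1 : toConv ((Bialgebra.counitAlgHom R A).comp (toConv (AlgHom.id R A)).ofConv) =
      (1 : WithConv (A →ₐ[R] R)) := by
    rw [AlgHom.convOne_def]
    congr 1
  rw [h1, one_pow] at h
  have := AlgHom.congr_fun h a
  simpa [SGA3b.powConv] using this

theorem powConv_mod {p : ℕ} (hp : (toConv (AlgHom.id R A)) ^ p = 1) (n : ℕ) :
    SGA3b.powConv R A n = SGA3b.powConv R A (n % p) := by
  unfold SGA3b.powConv
  conv_lhs => rw [← Nat.div_add_mod n p, pow_add, pow_mul, hp, one_pow, one_mul]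

end hopf


end conv

/-- Let p be a prime, R a commutative ring containing u with u(p − 1) = 1, and χ a homomorphism from the
units of ℤ/p to the units of R such that χ(m) − 1 is a unit for every m ≠ 1 (the situation of an
algebra over the subring Λ_p of the p-adic integers generated by the Teichmüller values and 1/(p(p −
1)), with χ the Teichmüller character, which is the published setting). Let A be a commutative Hopf
algebra over R such that the p-th convolution power of the identity of A is the neutral element ε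
followed by the unit (the affine group G = Spec A is killed by p), so that for a unit m of ℤ/p the
power map [m] of A depends only on m. For 0 ≤ i < p − 1 let I_i ⊆ A be the submodule of those f with
ε(f) = 0 and [m]f = χ(m)^i f for every m. Then the augmentation ideal ker ε is the internal direct
sum of the I_i (the family is independent and its supremum is ker ε), and each I_i is the image of
ker ε under the averaging operator u Σ_m χ(m)^{−i}[m]. (The published statement is for the Hopf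
algebra of a group scheme of order p over a Λ_p-algebra, which is commutative and killed by p; the
hypotheses here are what the argument uses.) -/
theorem result
    (p : ℕ) [Fact p.Prime] (R : Type u) [CommRing R] (u : R) (hu : u * ((p - 1 : ℕ) : R) = 1)
    (χ : (ZMod p)ˣ →* Rˣ) (hχ : ∀ m : (ZMod p)ˣ, m ≠ 1 → IsUnit ((χ m : R) - 1))
    (A : Type u) [CommRing A] [HopfAlgebra R A]
    (hp : (WithConv.toConv (AlgHom.id R A)) ^ p = 1) :
    iSupIndep (fun i : Fin (p - 1) => OortTate.eigenAug R A p χ (i : ℕ)) ∧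
      (⨆ i : Fin (p - 1), OortTate.eigenAug R A p χ (i : ℕ)) =
        LinearMap.ker (Bialgebra.counitAlgHom R A).toLinearMap ∧
      ∀ i : Fin (p - 1), OortTate.eigenAug R A p χ (i : ℕ) =
        Submodule.map (OortTate.proj R A p u χ (i : ℕ))
          (LinearMap.ker (Bialgebra.counitAlgHom R A).toLinearMap) := by
  have hp1 : Fact (1 < p) := ⟨(Fact.out : p.Prime).one_lt⟩
  let ρ : (ZMod p)ˣ → (A →ₗ[R] A) := fun m => (SGA3b.powConv R A (m : ZMod p).val).toLinearMap
  have ρ_one : ρ 1 = LinearMap.id := by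
    change (SGA3b.powConv R A ((1 : (ZMod p)ˣ) : ZMod p).val).toLinearMap = LinearMap.id
    rw [Units.val_one, ZMod.val_one]
    unfold SGA3b.powConv
    rw [pow_one]
    rfl
  have ρ_mul : ∀ a b, ρ (a * b) = ρ a ∘ₗ ρ b := by
    intro a b
    change (SGA3b.powConv R A ((a * b : (ZMod p)ˣ) : ZMod p).val).toLinearMap =
      (SGA3b.powConv R A (a : ZMod p).val).toLinearMap ∘ₗ
        (SGA3b.powConv R A (b : ZMod p).val).toLinearMap
    rw [Units.val_mul, ZMod.val_mul, ← powConv_mod hp, ← powConv_comp]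
    rfl
  have hW : ∀ m, ∀ v ∈ LinearMap.ker (Bialgebra.counitAlgHom R A).toLinearMap,
      ρ m v ∈ LinearMap.ker (Bialgebra.counitAlgHom R A).toLinearMap := by
    intro m v hv
    rw [LinearMap.mem_ker] at hv ⊢
    change Coalgebra.counit (R := R) (SGA3b.powConv R A (m : ZMod p).val v) = 0
    rw [counit_powConv]
    exact hv
  exact main u hu χ hχ ρ ρ_one ρ_mul _ hW

end Groth.Agent.S18468
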