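import Groth.Statements.S18471
import Mathlib
import Groth.Prelude.Def_CartDual2
import Groth.Agent.S18468

set_option autoImplicit false
universe u
open OortTate

namespace Groth.Agent.S18471

section helpers
open TensorProduct WithConv Groth.Agent.S18468
section transp
variable (R : Type u) [CommRing R] (A : Type u) [CommRing A] [HopfAlgebra R A]
  [Module.Finite R A] [Module.Projective R A]

theorem ev_mul_map (φ ψ : A →ₗ[R] A) (y : CartDual.D R A ⊗[R] CartDual.D R A) (a : A) :
    (LinearMap.mul' R (CartDual.D R A)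
      (TensorProduct.map (CartDual.transposeLin R φ) (CartDual.transposeLin R ψ) y)).ofConv a
    = CartDual.ev₂ R A y (TensorProduct.map φ ψ (Coalgebra.comul (R := R) a)) := by
  induction y using TensorProduct.induction_on with
  | zero => simp
  | add y₁ y₂ h₁ h₂ => simp only [map_add, WithConv.ofConv_add, LinearMap.add_apply, h₁, h₂]
  | tmul y₁ y₂ =>
    rw [TensorProduct.map_tmul, LinearMap.mul'_apply, LinearMap.convMul_apply, CartDual.ev₂_tmul_eq']
    simp only [LinearMap.coe_comp, Function.comp_apply]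
    generalize Coalgebra.comul (R := R) a = t
    induction t using TensorProduct.induction_on with
    | zero => simp only [map_zero]
    | tmul b c => rfl
    | add t t' ht ht' => simp only [map_add, ht, ht']

theorem transpose_convMul (φ ψ : WithConv (A →ₗ[R] A)) :
    CartDual.transposeLin R (φ * ψ).ofConv =
      (toConv (CartDual.transposeLin R φ.ofConv) * toConv (CartDual.transposeLin R ψ.ofConv)).ofConv := by
  apply LinearMap.ext
  intro f
  apply WithConv.ext
  apply LinearMap.ext
  intro a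
  rw [LinearMap.convMul_apply]
  rw [ev_mul_map, CartDual.comul_def, CartDual.ev₂_comul]
  rfl

theorem transpose_convOne :
    CartDual.transposeLin R (1 : WithConv (A →ₗ[R] A)).ofConv = (1 : WithConv (CartDual.D R A →ₗ[R] CartDual.D R A)).ofConv := by
  apply LinearMap.ext
  intro f
  apply WithConv.ext
  apply LinearMap.ext
  intro a
  simp [LinearMap.convOne_def, CartDual.coe_apply, Algebra.algebraMap_eq_smul_one, mul_comm]

theorem transpose_convPow (φ : WithConv (A →ₗ[R] A)) (n : ℕ) :
    CartDual.transposeLin R (φ ^ n).ofConv =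
      ((toConv (CartDual.transposeLin R φ.ofConv)) ^ n).ofConv := by
  induction n with
  | zero => rw [pow_zero, pow_zero, transpose_convOne]
  | succ n ih => rw [pow_succ, pow_succ, transpose_convMul, ih, WithConv.toConv_ofConv]

theorem powConv_dual [Coalgebra.IsCocomm R A] (n : ℕ) (f : CartDual.D R A) (a : A) :
    (SGA3b.powConv R (CartDual.D R A) n f) a = f (SGA3b.powConv R A n a) := by
  have h1 := AlgHom.toLinearMap_convPow (toConv (AlgHom.id R A)) n
  have h2 := AlgHom.toLinearMap_convPow (toConv (AlgHom.id R (CartDual.D R A))) n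
  have h3 := transpose_convPow R A (toConv (AlgHom.id R A).toLinearMap) n
  simp only [WithConv.ofConv_toConv] at h1 h2 h3
  rw [← h1] at h3
  have h4 : CartDual.transposeLin R (AlgHom.id R A).toLinearMap = (AlgHom.id R (CartDual.D R A)).toLinearMap := by
    apply LinearMap.ext
    intro f
    rfl
  rw [h4, ← h2] at h3
  simp only [WithConv.ofConv_toConv] at h3
  have := LinearMap.congr_fun h3 f
  exact (congrArg (fun g : CartDual.D R A => g a) this).symm

end transp

section gen
variable (p : ℕ) [Fact p.Prime] (R : Type u) [CommRing R]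
  (χ : (ZMod p)ˣ →* Rˣ)
  (H : Type u) [CommRing H] [HopfAlgebra R H]

/-- the power maps as linear maps -/
noncomputable def ρ (m : (ZMod p)ˣ) : H →ₗ[R] H := (SGA3b.powConv R H (m : ZMod p).val).toLinearMap

theorem ρ_apply (m : (ZMod p)ˣ) (a : H) : ρ p R H m a = SGA3b.powConv R H (m : ZMod p).val a := rfl

theorem ρ_one : ρ p R H 1 = LinearMap.id := by
  have hp1 : Fact (1 < p) := ⟨(Fact.out : p.Prime).one_lt⟩
  change (SGA3b.powConv R H ((1 : (ZMod p)ˣ) : ZMod p).val).toLinearMap = LinearMap.id
  rw [Units.val_one, ZMod.val_one]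
  unfold SGA3b.powConv
  rw [pow_one]
  rfl

theorem ρ_mul (hp : (WithConv.toConv (AlgHom.id R H)) ^ p = 1) (a b : (ZMod p)ˣ) :
    ρ p R H (a * b) = ρ p R H a ∘ₗ ρ p R H b := by
  change (SGA3b.powConv R H ((a * b : (ZMod p)ˣ) : ZMod p).val).toLinearMap =
    (SGA3b.powConv R H (a : ZMod p).val).toLinearMap ∘ₗ
      (SGA3b.powConv R H (b : ZMod p).val).toLinearMap
  rw [Units.val_mul, ZMod.val_mul, ← powConv_mod hp, ← powConv_comp]
  rfl

theorem ρ_W (m : (ZMod p)ˣ) : ∀ v ∈ LinearMap.ker (Bialgebra.counitAlgHom R H).toLinearMap,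
    ρ p R H m v ∈ LinearMap.ker (Bialgebra.counitAlgHom R H).toLinearMap := by
  intro v hv
  rw [LinearMap.mem_ker] at hv ⊢
  change Coalgebra.counit (R := R) (SGA3b.powConv R H (m : ZMod p).val v) = 0
  rw [counit_powConv]
  exact hv

theorem eigenAug_eq (i : ℕ) : OortTate.eigenAug R H p χ i =
    E χ (ρ p R H) (LinearMap.ker (Bialgebra.counitAlgHom R H).toLinearMap) i := rfl

theorem chi_pow_mod (m : (ZMod p)ˣ) (i : ℕ) :
    ((χ m : Rˣ) : R) ^ i = ((χ m : Rˣ) : R) ^ (i % (p - 1)) := by
  apply pow_eq_pow_mod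
  rw [← Units.val_pow_eq_pow_val, ← map_pow, ZMod.units_pow_card_sub_one_eq_one, map_one, Units.val_one]

theorem eigenAug_mod (i : ℕ) : OortTate.eigenAug R H p χ i = OortTate.eigenAug R H p χ (i % (p - 1)) := by
  unfold OortTate.eigenAug
  congr 1
  refine iInf_congr fun m => ?_
  rw [chi_pow_mod]

end gen

section rep2
variable {p : ℕ} [Fact p.Prime] {R : Type*} [CommRing R] (u : R)
  (χ : (ZMod p)ˣ →* Rˣ)
variable {V : Type*} [AddCommGroup V] [Module R V] (ρ : (ZMod p)ˣ → (V →ₗ[R] V))
  (ρ_mul : ∀ a b, ρ (a * b) = ρ a ∘ₗ ρ b)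

include ρ_mul in
theorem P_rho (i : ℕ) (m' : (ZMod p)ˣ) (v : V) :
    P u χ ρ i (ρ m' v) = (((χ m' : Rˣ) : R) ^ i) • P u χ ρ i v := by
  rw [← rho_P u χ ρ ρ_mul i m' v, P_apply, P_apply]
  simp only [map_smul, map_sum]
  congr 1
  refine Finset.sum_congr rfl fun m _ => ?_
  congr 1
  have h1 : ρ m (ρ m' v) = (ρ m ∘ₗ ρ m') v := rfl
  have h2 : ρ m' (ρ m v) = (ρ m' ∘ₗ ρ m) v := rfl
  rw [h1, h2, ← ρ_mul, ← ρ_mul, mul_comm]

end rep2

section mainsec
variable (p : ℕ) [Fact p.Prime] (R : Type u) [CommRing R] (u : R) (hu : u * ((p - 1 : ℕ) : R) = 1)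
  (χ : (ZMod p)ˣ →* Rˣ) (hχ : ∀ m : (ZMod p)ˣ, m ≠ 1 → IsUnit ((χ m : R) - 1))
  (A : Type u) [CommRing A] [HopfAlgebra R A] [Coalgebra.IsCocomm R A]
  [Module.Finite R A] [Module.Projective R A]
  (hp : (WithConv.toConv (AlgHom.id R A)) ^ p = 1)

include hp in
theorem hpD : (WithConv.toConv (AlgHom.id R (CartDual.D R A))) ^ p = 1 := by
  apply WithConv.ofConv_injective
  apply AlgHom.ext
  intro f
  apply WithConv.ext
  apply LinearMap.ext
  intro a
  have h1 := powConv_dual R A p f a
  have h2 : SGA3b.powConv R A p = (1 : WithConv (A →ₐ[R] A)).ofConv := by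
    unfold SGA3b.powConv
    rw [hp]
  rw [h2] at h1
  refine Eq.trans h1 ?_
  simp [AlgHom.convOne_apply, CartDual.coe_apply, Algebra.algebraMap_eq_smul_one, LinearMap.convOne_def, mul_comm]

theorem ρD_apply (m : (ZMod p)ˣ) (f : CartDual.D R A) (a : A) :
    (ρ p R (CartDual.D R A) m f) a = f (ρ p R A m a) :=
  powConv_dual R A _ f a

theorem PD_apply (i : ℕ) (f : CartDual.D R A) (a : A) :
    (P u χ (ρ p R (CartDual.D R A)) i f) a = f (P u χ (ρ p R A) i a) := by
  rw [P_apply, P_apply, CartDual.coe_apply, WithConv.ofConv_smul, WithConv.ofConv_sum, LinearMap.smul_apply,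
    LinearMap.sum_apply, CartDual.coe_apply, map_smul, map_sum]
  congr 1
  refine Finset.sum_congr rfl fun m _ => ?_
  rw [WithConv.ofConv_smul, LinearMap.smul_apply, map_smul, ← CartDual.coe_apply, ρD_apply]

end mainsec

section mainsec2
variable (p : ℕ) [Fact p.Prime] (R : Type u) [CommRing R] (u : R) (hu : u * ((p - 1 : ℕ) : R) = 1)
  (χ : (ZMod p)ˣ →* Rˣ) (hχ : ∀ m : (ZMod p)ˣ, m ≠ 1 → IsUnit ((χ m : R) - 1))
  (A : Type u) [CommRing A] [HopfAlgebra R A] [Coalgebra.IsCocomm R A]
  [Module.Finite R A] [Module.Projective R A]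
  (hp : (WithConv.toConv (AlgHom.id R A)) ^ p = 1)

theorem mod_lt' : ∀ i : ℕ, i % (p - 1) < p - 1 := by
  intro i
  have := (Fact.out : p.Prime).two_le
  exact Nat.mod_lt _ (by omega)

/-- the augmentation-part of an element -/
noncomputable def aug (a : A) : A := a - algebraMap R A (Coalgebra.counit (R := R) a)

theorem aug_mem (a : A) : aug R A a ∈ LinearMap.ker (Bialgebra.counitAlgHom R A).toLinearMap := by
  rw [LinearMap.mem_ker]
  change Coalgebra.counit (R := R) (aug R A a) = 0
  unfold aug
  rw [map_sub, Bialgebra.counit_algebraMap, sub_self]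

include hu hχ hp in
theorem inj_part (i : ℕ) (f : CartDual.D R A) (hf : f ∈ OortTate.eigenAug R (CartDual.D R A) p χ i)
    (h0 : ∀ a ∈ OortTate.eigenAug R A p χ i, f a = 0) : f = 0 := by
  rw [eigenAug_mod, eigenAug_eq] at hf
  have hf1 : f 1 = 0 := by
    have := ((mem_E _ _ _).mp hf).1
    rw [LinearMap.mem_ker] at this
    exact this
  apply WithConv.ext
  apply LinearMap.ext
  intro a
  change f a = 0
  have ha : a = algebraMap R A (Coalgebra.counit (R := R) a) + aug R A a := by unfold aug; ring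
  have hw := aug_mem R A a
  rw [ha, CartDual.coe_apply, map_add, Algebra.algebraMap_eq_smul_one, map_smul, ← CartDual.coe_apply,
    ← CartDual.coe_apply, hf1, smul_zero, zero_add]
  rw [← sum_P u hu χ hχ (ρ p R A) (ρ_one p R A) (aug R A a), CartDual.coe_apply, map_sum]
  apply Finset.sum_eq_zero
  intro j hj
  rw [Finset.mem_range] at hj
  by_cases hji : j = i % (p - 1)
  · rw [← CartDual.coe_apply]
    apply h0
    rw [eigenAug_mod, eigenAug_eq, hji]
    have := (main u hu χ hχ (ρ p R A) (ρ_one p R A) (ρ_mul p R A hp) _ (ρ_W p R A)).2.2 ⟨i % (p - 1), mod_lt' p i⟩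
    rw [this]
    exact ⟨_, hw, rfl⟩
  · rw [← CartDual.coe_apply, ← PD_apply]
    rw [P_on_E u hu χ hχ (ρ p R (CartDual.D R A)) _ hj (mod_lt' p i) hf, if_neg hji]
    rfl

end mainsec2

section mainsec3
variable (p : ℕ) [Fact p.Prime] (R : Type u) [CommRing R] (u : R) (hu : u * ((p - 1 : ℕ) : R) = 1)
  (χ : (ZMod p)ˣ →* Rˣ) (hχ : ∀ m : (ZMod p)ˣ, m ≠ 1 → IsUnit ((χ m : R) - 1))
  (A : Type u) [CommRing A] [HopfAlgebra R A] [Coalgebra.IsCocomm R A]
  [Module.Finite R A] [Module.Projective R A]
  (hp : (WithConv.toConv (AlgHom.id R A)) ^ p = 1)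

/-- `aug` as a linear map -/
noncomputable def augL : A →ₗ[R] A :=
  LinearMap.id - (Algebra.linearMap R A) ∘ₗ (Bialgebra.counitAlgHom R A).toLinearMap

theorem augL_apply (a : A) : augL R A a = aug R A a := rfl

theorem aug_ρ (m : (ZMod p)ˣ) (a : A) : aug R A (ρ p R A m a) = ρ p R A m (aug R A a) := by
  unfold aug
  rw [map_sub, ρ_apply, ρ_apply, counit_powConv, AlgHom.commutes]

/-- the projector onto the eigenspace -/
noncomputable def Q (i : ℕ) : A →ₗ[R] A := P u χ (ρ p R A) (i % (p - 1)) ∘ₗ augL R A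

theorem Q_apply (i : ℕ) (a : A) : Q p R u χ A i a = P u χ (ρ p R A) (i % (p - 1)) (aug R A a) := rfl

include hu hχ hp in
theorem Q_mem (i : ℕ) (a : A) : Q p R u χ A i a ∈ OortTate.eigenAug R A p χ i := by
  rw [eigenAug_mod, eigenAug_eq]
  have := (main u hu χ hχ (ρ p R A) (ρ_one p R A) (ρ_mul p R A hp) _ (ρ_W p R A)).2.2 ⟨i % (p - 1), mod_lt' p i⟩
  rw [this]
  exact ⟨_, aug_mem R A a, rfl⟩

include hp in
theorem Q_ρ (i : ℕ) (m : (ZMod p)ˣ) (a : A) :
    Q p R u χ A i (ρ p R A m a) = (((χ m : Rˣ) : R) ^ i) • Q p R u χ A i a := by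
  rw [Q_apply, Q_apply, aug_ρ, P_rho u χ (ρ p R A) (ρ_mul p R A hp), ← chi_pow_mod]

include hu hχ in
theorem Q_of_mem (i : ℕ) (a : A) (ha : a ∈ OortTate.eigenAug R A p χ i) : Q p R u χ A i a = a := by
  rw [eigenAug_mod, eigenAug_eq] at ha
  have h0 : Coalgebra.counit (R := R) a = 0 := by
    have := ((mem_E _ _ _).mp ha).1
    rw [LinearMap.mem_ker] at this
    exact this
  have h1 : aug R A a = a := by unfold aug; rw [h0, map_zero, sub_zero]
  rw [Q_apply, h1, P_on_E u hu χ hχ (ρ p R A) _ (mod_lt' p i) (mod_lt' p i) ha, if_pos rfl]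

include hu hχ hp in
theorem surj_part (i : ℕ) (g : OortTate.eigenAug R A p χ i →ₗ[R] R) :
    ∃ f : CartDual.D R A, f ∈ OortTate.eigenAug R (CartDual.D R A) p χ i ∧
      ∀ a (ha : a ∈ OortTate.eigenAug R A p χ i), f a = g ⟨a, ha⟩ := by
  let Qc : A →ₗ[R] OortTate.eigenAug R A p χ i :=
    (Q p R u χ A i).codRestrict _ (Q_mem p R u hu χ hχ A hp i)
  let f : CartDual.D R A := toConv (g ∘ₗ Qc)
  have hf_apply : ∀ a, f a = g (Qc a) := fun a => rfl
  have hQc : ∀ a, ((Qc a : OortTate.eigenAug R A p χ i) : A) = Q p R u χ A i a := fun a => rfl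
  refine ⟨f, ?_, ?_⟩
  · rw [eigenAug_mod, eigenAug_eq, mem_E]
    constructor
    · rw [LinearMap.mem_ker]
      change f 1 = 0
      rw [hf_apply]
      have : Qc 1 = 0 := by
        apply Subtype.ext
        rw [hQc, Q_apply]
        have : aug R A (1 : A) = 0 := by
          unfold aug
          rw [Bialgebra.counit_one, map_one, sub_self]
        rw [this, map_zero]
        rfl
      rw [this, map_zero]
    · intro m
      apply WithConv.ext
      apply LinearMap.ext
      intro a
      change (ρ p R (CartDual.D R A) m f) a = ((((χ m : Rˣ) : R) ^ (i % (p - 1))) • f) a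
      rw [ρD_apply, hf_apply]
      have : Qc (ρ p R A m a) = (((χ m : Rˣ) : R) ^ i) • Qc a := by
        apply Subtype.ext
        rw [hQc, Q_ρ p R u χ A hp]
        rfl
      rw [this, map_smul, ← chi_pow_mod]
      rfl
  · intro a ha
    rw [hf_apply]
    congr 1
    apply Subtype.ext
    rw [hQc, Q_of_mem p R u hu χ hχ A i a ha]

end mainsec3

end helpers

/-- Let p be a prime, R a commutative ring containing u with u(p − 1) = 1, and χ a homomorphism from the
units of ℤ/p to the units of R such that χ(m) − 1 is a unit for every m ≠ 1 (the situation of an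
algebra over the subring Λ_p of the p-adic integers generated by the Teichmüller values and 1/(p(p −
1)), with χ the Teichmüller character, which is the published setting). Let A be a commutative and
cocommutative Hopf algebra over R, finitely generated and projective as an R-module, such that the
p-th convolution power of the identity of A is the neutral element (a finite locally free
commutative group killed by p), and let A^D = Hom_R(A, R) be its dual Hopf algebra (the Cartier
dual). For i ≥ 0 let I_i(A) ⊆ A and I_i(A^D) ⊆ A^D be the submodules of elements f of the respective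
augmentation ideals with [m]f = χ(m)^i f for every unit m of ℤ/p, [m] the power map. Then
restriction of linear forms to I_i(A) is a bijection from I_i(A^D) onto the dual module
Hom_R(I_i(A), R). (The published statement is for a group scheme of order p over a Λ_p-algebra and
asserts an isomorphism of R-modules; the map here is the one its proof uses.) -/
theorem result
    (p : ℕ) [Fact p.Prime] (R : Type u) [CommRing R] (u : R) (hu : u * ((p - 1 : ℕ) : R) = 1)
    (χ : (ZMod p)ˣ →* Rˣ) (hχ : ∀ m : (ZMod p)ˣ, m ≠ 1 → IsUnit ((χ m : R) - 1))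
    (A : Type u) [CommRing A] [HopfAlgebra R A] [Coalgebra.IsCocomm R A]
    [Module.Finite R A] [Module.Projective R A]
    (hp : (WithConv.toConv (AlgHom.id R A)) ^ p = 1) (i : ℕ) :
    Function.Bijective (fun f : OortTate.eigenAug R (CartDual.D R A) p χ i =>
      ((CartDual.toDual R A) (f : CartDual.D R A)).comp (OortTate.eigenAug R A p χ i).subtype) := by
  constructor
  · intro f f' h
    apply Subtype.ext
    have hsub : ((f : CartDual.D R A) - (f' : CartDual.D R A)) ∈
        OortTate.eigenAug R (CartDual.D R A) p χ i := Submodule.sub_mem _ f.2 f'.2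
    have h0 := inj_part p R u hu χ hχ A hp i ((f : CartDual.D R A) - (f' : CartDual.D R A)) hsub
      (fun a ha => by
        have := LinearMap.congr_fun h ⟨a, ha⟩
        simp only [LinearMap.coe_comp, Submodule.coe_subtype, Function.comp_apply,
          CartDual.toDual_apply] at this
        rw [CartDual.coe_apply, WithConv.ofConv_sub, LinearMap.sub_apply, this, sub_self])
    exact sub_eq_zero.mp h0
  · intro g
    obtain ⟨f, hf, hfg⟩ := surj_part p R u hu χ hχ A hp i g
    refine ⟨⟨f, hf⟩, ?_⟩
    apply LinearMap.ext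
    rintro ⟨a, ha⟩
    exact hfg a ha

end Groth.Agent.S18471
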