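import Groth.Statements.S15897
import Mathlib
-- import your own Groth.Agent.* helpers here

set_option autoImplicit false
universe u v
open CartDual

namespace Groth.Agent.S15897


open TensorProduct in
theorem ev₂_comm (R : Type u) [CommRing R] (A : Type v) [AddCommGroup A] [Module R A]
    [Module.Finite R A] [Module.Projective R A] (x y : CartDual.D R A) (t : A ⊗[R] A) :
    CartDual.ev₂ R A (x ⊗ₜ y) (TensorProduct.comm R A A t) = CartDual.ev₂ R A (y ⊗ₜ x) t := by
  induction t using TensorProduct.induction_on with
  | zero => simp
  | tmul a b => simp [mul_comm]
  | add t t' ht ht' => simp only [map_add, ht, ht']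

open TensorProduct in
theorem ev₂_comul_eq_mul (R : Type u) [CommRing R] (A : Type v) [CommRing A] [HopfAlgebra R A]
    [Module.Finite R A] [Module.Projective R A] (x y : CartDual.D R A) (a : A) :
    CartDual.ev₂ R A (x ⊗ₜ y) (Coalgebra.comul a) = (x * y) a := by
  rw [CartDual.ev₂_tmul_eq, LinearMap.convMul_apply]
  have : (TensorProduct.lid R R : R ⊗[R] R →ₗ[R] R) = LinearMap.mul' R R := by
    ext
    simp
  rw [this]
  rfl

/-- Let R be a commutative ring and A a commutative Hopf algebra over R which is finitely generated and
projective as an R-module (a finite locally free R-group scheme G = Spec A, not assumed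
commutative). If the convolution product on the dual Hopf algebra Hom_R(A, R) is commutative, then A
is cocommutative, i.e. G is a commutative group scheme. (The dual Hopf algebra is commutative
exactly when A is cocommutative; the other implication is immediate and not stated. The published
notes work over a Noetherian base ring; the row allows any commutative base ring.) -/
theorem result (R : Type u) [CommRing R] (A : Type v) [CommRing A] [HopfAlgebra R A]
    [Module.Finite R A] [Module.Projective R A] (h : ∀ x y : CartDual.D R A, x * y = y * x) :
    Coalgebra.IsCocomm R A := by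
  refine ⟨?_⟩
  apply LinearMap.ext
  intro a
  rw [← sub_eq_zero, ← Module.forall_dual_apply_eq_zero_iff R]
  intro φ
  obtain ⟨t, rfl⟩ := (CartDual.ev₂ R A).surjective φ
  rw [map_sub, sub_eq_zero]
  induction t using TensorProduct.induction_on with
  | zero => simp
  | tmul x y =>
    change CartDual.ev₂ R A (x ⊗ₜ y) (TensorProduct.comm R A A (Coalgebra.comul a)) = _
    rw [ev₂_comm, ev₂_comul_eq_mul, ev₂_comul_eq_mul, h x y]
  | add t t' ht ht' =>
    simp only [map_add, LinearMap.add_apply, ht, ht']

end Groth.Agent.S15897
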