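import Groth.Statements.S11268
import Mathlib
-- import your own Groth.Agent.* helpers here

set_option autoImplicit false
open W4bk4grassmannian

namespace Groth.Agent.S11268

open W4bk4grassmannian in

theorem val_le_of_strictMono {d n : ℕ} (a : Fin d → Fin n) (ha : StrictMono a) :
    ∀ (m : ℕ) (hm : m < d), m ≤ (a ⟨m, hm⟩).val := by
  intro m
  induction m with
  | zero => intro _; exact Nat.zero_le _
  | succ s ih =>
    intro hm
    have h1 := ih (by omega)
    have h2 : a ⟨s, by omega⟩ < a ⟨s + 1, hm⟩ := ha (by simp [Fin.lt_def])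
    have h3 : (a ⟨s, by omega⟩).val < (a ⟨s + 1, hm⟩).val := h2
    omega

/-- Let τ < w in I(d,n), the strictly increasing maps Fin d → Fin n ordered entrywise. Then there is a
Schubert divisor φ of w, i.e. φ < w with Σ_t (φ_t - t) + 1 = Σ_t (w_t - t), such that τ ≤ φ: every
proper Schubert subvariety of X(w) lies in a Schubert divisor of X(w). -/
theorem result (d n : ℕ) (τ w : Idx d n) (h : τ < w) :
    ∃ φ ∈ divisors w, τ ≤ φ := by
  classical
  have hle : ∀ t, τ.1 t ≤ w.1 t := fun t => (le_of_lt h) t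
  have hne : ∃ t, τ.1 t < w.1 t := by
    by_contra hcon
    push_neg at hcon
    have : w ≤ τ := fun t => hcon t
    exact (not_le_of_gt h) this
  -- minimal such index
  have hex : ∃ m : ℕ, ∃ t : Fin d, t.val = m ∧ τ.1 t < w.1 t := by
    obtain ⟨t, ht⟩ := hne
    exact ⟨t.val, t, rfl, ht⟩
  obtain ⟨t₀, ht₀m, ht₀⟩ := Nat.find_spec hex
  have hmin : ∀ s : Fin d, s < t₀ → τ.1 s = w.1 s := by
    intro s hs
    have hlt : s.val < Nat.find hex := by rw [← ht₀m]; exact hs
    have := Nat.find_min hex hlt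
    push_neg at this
    exact le_antisymm (hle s) (this s rfl)
  have hτt₀ : t₀.val ≤ (τ.1 t₀).val := val_le_of_strictMono τ.1 τ.2 t₀.val t₀.isLt
  have hwt₀ : (τ.1 t₀).val < (w.1 t₀).val := ht₀
  have hwn : (w.1 t₀).val < n := (w.1 t₀).isLt
  let φf : Fin d → Fin n := fun t =>
    if t = t₀ then ⟨(w.1 t₀).val - 1, by omega⟩ else w.1 t
  have hφt₀ : (φf t₀).val = (w.1 t₀).val - 1 := by simp [φf]
  have hφne : ∀ t, t ≠ t₀ → φf t = w.1 t := fun t ht => by simp [φf, ht]
  have hφmono : StrictMono φf := by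
    intro a b hab
    by_cases ha : a = t₀
    · subst ha
      have hb : b ≠ a := ne_of_gt hab
      rw [hφne b hb, Fin.lt_def, hφt₀]
      have : (w.1 a).val < (w.1 b).val := w.2 hab
      omega
    · by_cases hb : b = t₀
      · subst hb
        rw [hφne a ha, Fin.lt_def, hφt₀]
        have h1 : τ.1 a = w.1 a := hmin a hab
        have h2 : (τ.1 a).val < (τ.1 b).val := τ.2 hab
        rw [← h1]
        omega
      · rw [hφne a ha, hφne b hb]
        exact w.2 hab
  let φ : Idx d n := ⟨φf, hφmono⟩
  have hφle : φ ≤ w := by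
    intro t
    change φf t ≤ w.1 t
    by_cases ht : t = t₀
    · subst ht
      rw [Fin.le_def, hφt₀]
      omega
    · rw [hφne t ht]
  have hφlt : φ < w := by
    refine lt_of_le_of_ne hφle ?_
    intro heq
    have : φf t₀ = w.1 t₀ := congrFun (congrArg Subtype.val heq) t₀
    have := congrArg Fin.val this
    rw [hφt₀] at this
    omega
  have hτφ : τ ≤ φ := by
    intro t
    change τ.1 t ≤ φf t
    by_cases ht : t = t₀
    · subst ht
      rw [Fin.le_def, hφt₀]
      omega
    · rw [hφne t ht]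
      exact hle t
  refine ⟨φ, ⟨hφlt, ?_⟩, hτφ⟩
  unfold codeg
  change (Finset.univ.sum fun t : Fin d => (φf t).val - t.val) + 1 =
    Finset.univ.sum fun t : Fin d => (w.1 t).val - t.val
  rw [← Finset.add_sum_erase _ _ (Finset.mem_univ t₀), ← Finset.add_sum_erase _ (fun t : Fin d => (w.1 t).val - t.val) (Finset.mem_univ t₀)]
  have hrest : (Finset.univ.erase t₀).sum (fun t : Fin d => (φf t).val - t.val) =
      (Finset.univ.erase t₀).sum (fun t : Fin d => (w.1 t).val - t.val) := by
    apply Finset.sum_congr rfl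
    intro t ht
    rw [hφne t (Finset.ne_of_mem_erase ht)]
  rw [hrest, hφt₀]
  omega

end Groth.Agent.S11268
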