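import Groth.Statements.S11275
import Mathlib

set_option autoImplicit false
universe u
open W4bk4grassmannian

namespace Groth.Agent.S11275

open Matrix in
theorem laplace_mem {R : Type u} [CommRing R] (t : ℕ) : ∀ (k m : ℕ) (_ : m = t + k)
    (M : Matrix (Fin m) (Fin m) R) (ρ : Fin t → Fin m), Function.Injective ρ →
    M.det ∈ Ideal.span (Set.range fun γ : Fin t → Fin m => (M.submatrix ρ γ).det) := by
  intro k
  induction k with
  | zero =>
    intro m hm M ρ hρ
    have hbij : Function.Bijective ρ := by
      rw [Fintype.bijective_iff_injective_and_card]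
      exact ⟨hρ, by simp [hm]⟩
    apply Ideal.subset_span
    refine ⟨ρ, ?_⟩
    exact Matrix.det_submatrix_equiv_self (Equiv.ofBijective ρ hbij) M
  | succ k ih =>
    intro m hm M ρ hρ
    subst hm
    obtain ⟨s, hs⟩ : ∃ s : Fin (t + k + 1), ∀ u, ρ u ≠ s := by
      by_contra h
      push Not at h
      have hsurj : Function.Surjective ρ := h
      have := Fintype.card_le_of_surjective ρ hsurj
      simp at this
    have hch : ∀ u, ∃ z, s.succAbove z = ρ u := fun u => Fin.exists_succAbove_eq (hs u)
    choose ρ' hρ' using hch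
    have hρ'inj : Function.Injective ρ' := by
      intro u v huv
      apply hρ
      rw [← hρ' u, ← hρ' v, huv]
    rw [Matrix.det_succ_row M s]
    apply Ideal.sum_mem
    intro j _
    apply Ideal.mul_mem_left
    have := ih (t + k) rfl (M.submatrix s.succAbove j.succAbove) ρ' hρ'inj
    refine Ideal.span_le.mpr ?_ this
    rintro _ ⟨γ', rfl⟩
    apply Ideal.subset_span
    refine ⟨j.succAbove ∘ γ', ?_⟩
    simp only [Matrix.submatrix_submatrix]
    congr 1
    ext u v
    simp [Matrix.submatrix_apply, hρ']

open W4bk4grassmannian in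
theorem cellMatrix_lt (K : Type u) [CommRing K] (d r : ℕ) (i : Fin (d + r)) (j : Fin d)
    (h : i.val < d) : cellMatrix K d r i j = if i.val = j.val then 1 else 0 := by
  simp [cellMatrix, h]

open W4bk4grassmannian in
theorem cellMatrix_ge (K : Type u) [CommRing K] (d r : ℕ) (i : Fin (d + r)) (j : Fin d)
    (h : d ≤ i.val) :
    cellMatrix K d r i j = MvPolynomial.X (⟨i.val - d, by have := i.isLt; omega⟩, j) := by
  have : ¬ i.val < d := by omega
  simp [cellMatrix, this]

open W4bk4grassmannian in
/-- forward inclusion -/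
theorem fwd (K : Type u) [CommRing K] (d r t : ℕ) (hd : 0 < d)
    (ht : 0 < t) (htd : t ≤ d) (θ : Idx d (d + r))
    (hθ : d ≤ (θ.1 ⟨d - t, Nat.sub_lt hd ht⟩).val) :
    cellMinor K d r θ ∈ CAlgX.minorIdeal (genMatrix K r d) t := by
  unfold cellMinor
  have hρi : Function.Injective (fun u : Fin t => (⟨d - t + u.val, by have := u.isLt; omega⟩ : Fin d)) := by
    intro u v huv
    simp only [Fin.mk.injEq] at huv
    exact Fin.ext (by omega)
  have hge : ∀ u : Fin t, d ≤ (θ.1 ⟨d - t + u.val, by have := u.isLt; omega⟩).val := by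
    intro u
    refine le_trans hθ ?_
    have : (⟨d - t, Nat.sub_lt hd ht⟩ : Fin d) ≤ ⟨d - t + u.val, by have := u.isLt; omega⟩ := by
      simp [Fin.le_def]
    exact θ.2.monotone this
  have := laplace_mem t (d - t) d (by omega) ((cellMatrix K d r).submatrix θ.1 id) _ hρi
  refine Ideal.span_le.mpr ?_ this
  rintro _ ⟨γ, rfl⟩
  apply Ideal.subset_span
  refine ⟨(fun u : Fin t => (⟨(θ.1 ⟨d - t + u.val, by have := u.isLt; omega⟩).val - d, by
    have := (θ.1 ⟨d - t + u.val, by have := u.isLt; omega⟩).isLt; have := hge u; omega⟩ : Fin r), γ), ?_⟩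
  refine congrArg Matrix.det ?_
  ext u v
  simp only [Matrix.submatrix_apply, id_eq]
  rw [cellMatrix_ge K d r _ _ (hge u)]
  simp [genMatrix]

open W4bk4grassmannian Classical in
/-- the rows used for a minor of `Z` -/
noncomputable def rowsOf (d r t : ℕ) (f : Fin t → Fin r) (g : Fin t → Fin d) (j : Fin d) : Fin (d + r) :=
  if h : ∃ u, g u = j then ⟨d + (f h.choose).val, by have := (f h.choose).isLt; omega⟩
  else ⟨j.val, by have := j.isLt; omega⟩

theorem rowsOf_g (d r t : ℕ) (f : Fin t → Fin r) (g : Fin t → Fin d) (hg : Function.Injective g)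
    (u : Fin t) : rowsOf d r t f g (g u) = ⟨d + (f u).val, by have := (f u).isLt; omega⟩ := by
  have h : ∃ u', g u' = g u := ⟨u, rfl⟩
  have hu : h.choose = u := hg h.choose_spec
  unfold rowsOf
  rw [dif_pos h]
  simp [hu]

theorem rowsOf_not (d r t : ℕ) (f : Fin t → Fin r) (g : Fin t → Fin d)
    (j : Fin d) (hj : ¬ ∃ u, g u = j) : rowsOf d r t f g j = ⟨j.val, by have := j.isLt; omega⟩ := by
  unfold rowsOf
  rw [dif_neg hj]

theorem rowsOf_injective (d r t : ℕ) (f : Fin t → Fin r) (g : Fin t → Fin d)
    (hf : Function.Injective f) (hg : Function.Injective g) :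
    Function.Injective (rowsOf d r t f g) := by
  intro j j' h
  by_cases hj : ∃ u, g u = j
  · obtain ⟨u, rfl⟩ := hj
    by_cases hj' : ∃ u, g u = j'
    · obtain ⟨u', rfl⟩ := hj'
      rw [rowsOf_g d r t f g hg, rowsOf_g d r t f g hg] at h
      simp only [Fin.mk.injEq] at h
      have : f u = f u' := Fin.ext (by omega)
      rw [hf this]
    · rw [rowsOf_g d r t f g hg, rowsOf_not d r t f g j' hj'] at h
      simp only [Fin.mk.injEq] at h
      have := j'.isLt
      omega
  · by_cases hj' : ∃ u, g u = j'
    · obtain ⟨u', rfl⟩ := hj'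
      rw [rowsOf_g d r t f g hg, rowsOf_not d r t f g j hj] at h
      simp only [Fin.mk.injEq] at h
      have := j.isLt
      omega
    · rw [rowsOf_not d r t f g j hj, rowsOf_not d r t f g j' hj'] at h
      simp only [Fin.mk.injEq] at h
      exact Fin.ext h

open W4bk4grassmannian Classical in
theorem det_rowsOf (K : Type u) [CommRing K] (d r t : ℕ) (f : Fin t → Fin r) (g : Fin t → Fin d)
    (hg : Function.Injective g) :
    ((cellMatrix K d r).submatrix (rowsOf d r t f g) id).det = ((genMatrix K r d).submatrix f g).det := by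
  rw [Matrix.twoBlockTriangular_det _ (fun j : Fin d => j ∈ Set.range g)]
  · have h2 : Matrix.toSquareBlockProp ((cellMatrix K d r).submatrix (rowsOf d r t f g) id)
        (fun j : Fin d => ¬ j ∈ Set.range g) = 1 := by
      ext i j
      rw [Matrix.toSquareBlockProp_def]
      simp only [Matrix.of_apply, Matrix.submatrix_apply, id_eq]
      rw [rowsOf_not d r t f g i.1 (by simpa using i.2)]
      rw [cellMatrix_lt K d r _ _ (by simp)]
      rw [Matrix.one_apply]
      simp only [Fin.val_inj, Subtype.ext_iff]
    rw [h2, Matrix.det_one, mul_one]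
    have key : ((genMatrix K r d).submatrix f g) =
        (Matrix.toSquareBlockProp ((cellMatrix K d r).submatrix (rowsOf d r t f g) id)
        (fun j : Fin d => j ∈ Set.range g)).submatrix (Equiv.ofInjective g hg) (Equiv.ofInjective g hg) := by
      ext u v
      rw [Matrix.toSquareBlockProp_def]
      simp only [Matrix.of_apply, Matrix.submatrix_apply, id_eq, Equiv.ofInjective_apply]
      rw [rowsOf_g d r t f g hg, cellMatrix_ge K d r _ _ (by simp)]
      simp [genMatrix]
    rw [key]
    symm
    convert Matrix.det_submatrix_equiv_self (Equiv.ofInjective g hg)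
      (Matrix.toSquareBlockProp ((cellMatrix K d r).submatrix (rowsOf d r t f g) id)
        (fun j : Fin d => j ∈ Set.range g))
  · intro i hi j hj
    simp only [Matrix.submatrix_apply, id_eq]
    rw [rowsOf_not d r t f g i (by simpa using hi), cellMatrix_lt K d r _ _ (by simp)]
    rw [if_neg]
    simp only
    intro hij
    apply hi
    rw [Fin.ext hij]
    exact hj

open W4bk4grassmannian in
theorem bwd (K : Type u) [CommRing K] (d r t : ℕ) (hd : 0 < d) (ht : 0 < t)
    (f : Fin t → Fin r) (g : Fin t → Fin d) :
    ((genMatrix K r d).submatrix f g).det ∈ Ideal.span {F : CellRing K d r | ∃ θ : Idx d (d + r),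
        d ≤ (θ.1 ⟨d - t, Nat.sub_lt hd ht⟩).val ∧ F = cellMinor K d r θ} := by
  by_cases hg : Function.Injective g
  swap
  · rw [Function.Injective] at hg
    push Not at hg
    obtain ⟨u, v, huv, hne⟩ := hg
    rw [Matrix.det_zero_of_column_eq hne (fun k => by simp [huv])]
    exact zero_mem _
  by_cases hf : Function.Injective f
  swap
  · rw [Function.Injective] at hf
    push Not at hf
    obtain ⟨u, v, huv, hne⟩ := hf
    rw [Matrix.det_zero_of_row_eq hne (by ext k; simp [huv])]
    exact zero_mem _
  have ha := rowsOf_injective d r t f g hf hg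
  have hmono : Monotone (rowsOf d r t f g ∘ Tuple.sort (rowsOf d r t f g)) := Tuple.monotone_sort _
  have hstrict : StrictMono (rowsOf d r t f g ∘ Tuple.sort (rowsOf d r t f g)) :=
    hmono.strictMono_of_injective (ha.comp (Tuple.sort (rowsOf d r t f g)).injective)
  rw [← det_rowsOf K d r t f g hg]
  have hsub : (cellMatrix K d r).submatrix (rowsOf d r t f g) id =
      ((cellMatrix K d r).submatrix (rowsOf d r t f g ∘ Tuple.sort (rowsOf d r t f g)) id).submatrix
        ((Tuple.sort (rowsOf d r t f g))⁻¹ : Equiv.Perm (Fin d)) id := by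
    ext i j
    simp
  rw [hsub, Matrix.det_permute]
  apply Ideal.mul_mem_left
  apply Ideal.subset_span
  refine ⟨⟨_, hstrict⟩, ?_, rfl⟩
  by_contra hlt
  push Not at hlt
  replace hlt : ((rowsOf d r t f g ∘ Tuple.sort (rowsOf d r t f g))
    (⟨d - t, Nat.sub_lt hd ht⟩ : Fin d)).val < d := hlt
  have h1 : t ≤ (Finset.univ.filter (fun s : Fin d =>
      d ≤ ((rowsOf d r t f g ∘ Tuple.sort (rowsOf d r t f g)) s).val)).card := by
    have := Finset.card_le_card_of_injOn (s := (Finset.univ : Finset (Fin t)))
      (t := Finset.univ.filter (fun s : Fin d =>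
        d ≤ ((rowsOf d r t f g ∘ Tuple.sort (rowsOf d r t f g)) s).val))
      (fun u => (Tuple.sort (rowsOf d r t f g))⁻¹ (g u)) ?_ ?_
    · simpa using this
    · intro u _
      simp [rowsOf_g d r t f g hg]
    · intro u _ v _ h
      exact hg ((Tuple.sort (rowsOf d r t f g))⁻¹.injective h)
  have h2 : (Finset.univ.filter (fun s : Fin d =>
      d ≤ ((rowsOf d r t f g ∘ Tuple.sort (rowsOf d r t f g)) s).val)) ⊆
      Finset.Ioi (⟨d - t, Nat.sub_lt hd ht⟩ : Fin d) := by
    intro s hs
    simp only [Finset.mem_filter, Finset.mem_univ, true_and] at hs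
    rw [Finset.mem_Ioi]
    by_contra hle
    push Not at hle
    have := hmono hle
    rw [Fin.le_def] at this
    omega
  have h3 := Finset.card_le_card h2
  rw [Fin.card_Ioi] at h3
  simp only at h3
  omega

open W4bk4grassmannian in
/-- Ideal-theoretic form; determinantal ideals as ideals of opposite cells of Schubert varieties: let K
be a commutative ring, d, r ≥ 1, 1 ≤ t ≤ min(d, r), Z the generic r × d matrix over K[z_{ij}] and
[I_d ; Z] the (d + r) × d matrix with the identity block on top. For θ ∈ I(d, d + r) let q_θ be the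
d × d minor of [I_d ; Z] on the rows θ (the Plücker coordinate p_θ on the opposite big cell). Then
the ideal generated by the q_θ with θ_{d-t} ≥ d (0-indexed; these are the θ not below the index φ =
(t-1, …, d-1, d+r+1-t, …, d+r-1) of the Schubert variety whose opposite cell is D_t) equals the
ideal generated by the t × t minors of Z. (The published statement is over an algebraically closed
field and identifies the determinantal variety D_t with the opposite cell of the Schubert variety
X(φ); this row states the equality of ideals behind that identification, over any commutative ring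
K.) -/
theorem result (K : Type u) [CommRing K] (d r t : ℕ) (hd : 0 < d)
    (ht : 0 < t) (htd : t ≤ d) (htr : t ≤ r) :
    Ideal.span {f : CellRing K d r | ∃ θ : Idx d (d + r),
        d ≤ (θ.1 ⟨d - t, Nat.sub_lt hd ht⟩).val ∧ f = cellMinor K d r θ} =
      CAlgX.minorIdeal (genMatrix K r d) t := by
  apply le_antisymm
  · apply Ideal.span_le.mpr
    rintro _ ⟨θ, hθ, rfl⟩
    exact fwd K d r t hd ht htd θ hθ
  · unfold CAlgX.minorIdeal
    apply Ideal.span_le.mpr
    rintro _ ⟨fg, rfl⟩
    exact bwd K d r t hd ht fg.1 fg.2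

end Groth.Agent.S11275
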