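import Groth.Statements.S12909
import Mathlib
-- import your own Groth.Agent.* helpers here

set_option autoImplicit false
universe u
open CAlgX

namespace Groth.Agent.S12909

section helpers

open TensorProduct IsLocalRing

/-- `M` has a finite free resolution of length `≤ d` with Euler characteristic `χ`. -/
def HasFFR (S : Type u) [CommRing S] : ℕ → ℤ → ∀ (M : Type u) [AddCommGroup M] [Module S M], Prop
  | 0, χ, M, _, _ => ∃ r : ℕ, (r : ℤ) = χ ∧ Nonempty (Module.Basis (Fin r) S M)
  | d + 1, χ, M, _, _ => ∃ (r : ℕ) (F K : Type u) (_ : AddCommGroup F) (_ : Module S F)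
      (_ : AddCommGroup K) (_ : Module S K) (_ : Module.Basis (Fin r) S F)
      (i : K →ₗ[S] F) (f : F →ₗ[S] M),
      Function.Injective i ∧ Function.Exact i f ∧ Function.Surjective f ∧ HasFFR S d (r - χ) K

/-- over a local ring of depth zero, an injective map of finite free modules stays injective
modulo the maximal ideal. -/
theorem lTensor_residueField_injective_of_depth_zero {S : Type u} [CommRing S] [IsLocalRing S]
    (y : S) (hy : y ≠ 0) (hmy : ∀ t ∈ maximalIdeal S, t * y = 0)
    {K F : Type u} [AddCommGroup K] [Module S K] [AddCommGroup F] [Module S F]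
    {k r : ℕ} (bK : Module.Basis (Fin k) S K) (bF : Module.Basis (Fin r) S F)
    (i : K →ₗ[S] F) (hi : Function.Injective i) :
    Function.Injective (i.lTensor (ResidueField S)) := by
  rw [injective_iff_map_eq_zero]
  intro z hz
  obtain ⟨v, rfl⟩ := TensorProduct.mk_surjective S K (ResidueField S) residue_surjective z
  rw [TensorProduct.mk_apply] at hz ⊢
  rw [LinearMap.lTensor_tmul] at hz
  have hcoord : ∀ j, bF.repr (i v) j ∈ maximalIdeal S := by
    intro j
    have h1 := congrArg (fun w => TensorProduct.rid S (ResidueField S)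
      ((bF.coord j).lTensor (ResidueField S) w)) hz
    simp only [LinearMap.lTensor_tmul, TensorProduct.rid_tmul, map_zero,
      Module.Basis.coord_apply] at h1
    rw [Algebra.smul_def, mul_one] at h1
    exact (residue_eq_zero_iff _).mp h1
  have h1 : y • i v = 0 := by
    rw [← bF.sum_repr (i v), Finset.smul_sum]
    apply Finset.sum_eq_zero
    intro j _
    rw [smul_smul, mul_comm, hmy _ (hcoord j), zero_smul]
  have h2 : y • v = 0 := hi (by rw [map_smul, h1, map_zero])
  have hcoordK : ∀ j, bK.repr v j ∈ maximalIdeal S := by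
    intro j
    by_contra hu
    have hunit : IsUnit (bK.repr v j) := by
      rwa [mem_maximalIdeal, mem_nonunits_iff, not_not] at hu
    have h3 : y * bK.repr v j = 0 := by
      have := congrArg (fun w => bK.repr w j) h2
      simpa using this
    exact hy (hunit.mul_left_eq_zero.mp h3)
  rw [← bK.sum_repr v, TensorProduct.tmul_sum]
  apply Finset.sum_eq_zero
  intro j _
  rw [← TensorProduct.smul_tmul, Algebra.smul_def, mul_one]
  have : algebraMap S (ResidueField S) (bK.repr v j) = 0 := (residue_eq_zero_iff _).mpr (hcoordK j)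
  rw [this, TensorProduct.zero_tmul]

theorem HasFFR.exists_basis_of_depth_zero {S : Type u} [CommRing S] [IsLocalRing S]
    (y : S) (hy : y ≠ 0) (hmy : ∀ t ∈ maximalIdeal S, t * y = 0) :
    ∀ (d : ℕ) (χ : ℤ) (M : Type u) [AddCommGroup M] [Module S M], HasFFR S d χ M →
      ∃ r : ℕ, (r : ℤ) = χ ∧ Nonempty (Module.Basis (Fin r) S M)
  | 0, χ, M, _, _, h => h
  | d + 1, χ, M, _, _, h => by
    obtain ⟨r, F, K, _, _, _, _, bF, i, f, hi, hex, hf, hK⟩ := h
    obtain ⟨k, hk, ⟨bK⟩⟩ := HasFFR.exists_basis_of_depth_zero y hy hmy d _ K hK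
    haveI : Module.Finite S K := Module.Finite.of_basis bK
    haveI : Module.Free S K := Module.Free.of_basis bK
    haveI : Module.Finite S F := Module.Finite.of_basis bF
    haveI : Module.Free S F := Module.Free.of_basis bF
    haveI hfree : Module.Free S M := Module.free_of_lTensor_residueField_injective i f hf hex
      (lTensor_residueField_injective_of_depth_zero y hy hmy bK bF i hi)
    haveI : Module.Finite S M := Module.Finite.of_surjective f hf
    obtain ⟨s, hs⟩ := Module.projective_lifting_property f LinearMap.id hf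
    have e : F ≃ₗ[S] K × M := (hex.splitSurjectiveEquiv hi ⟨s, hs⟩).1
    have hrank : Module.finrank S F = Module.finrank S K + Module.finrank S M := by
      rw [e.finrank_eq, Module.finrank_prod]
    rw [Module.finrank_eq_card_basis bF, Module.finrank_eq_card_basis bK, Fintype.card_fin,
      Fintype.card_fin] at hrank
    refine ⟨Module.finrank S M, ?_, ⟨Module.finBasis S M⟩⟩
    omega

theorem HasFFR.localize {R : Type u} [CommRing R] (T : Submonoid R) :
    ∀ (d : ℕ) (χ : ℤ) (M : Type u) [AddCommGroup M] [Module R M]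
      (M' : Type u) [AddCommGroup M'] [Module R M'] [Module (Localization T) M']
      [IsScalarTower R (Localization T) M'] (g : M →ₗ[R] M') [IsLocalizedModule T g],
      HasFFR R d χ M → HasFFR (Localization T) d χ M'
  | 0, χ, M, _, _, M', _, _, _, _, g, _, h => by
    obtain ⟨r, hr, ⟨b⟩⟩ := h
    exact ⟨r, hr, ⟨b.ofIsLocalizedModule (Localization T) T g⟩⟩
  | d + 1, χ, M, _, _, M', _, _, _, _, g, _, h => by
    obtain ⟨r, F, K, _, _, _, _, bF, i, f, hi, hex, hf, hK⟩ := h
    refine ⟨r, LocalizedModule T F, LocalizedModule T K, inferInstance, inferInstance,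
      inferInstance, inferInstance,
      bF.ofIsLocalizedModule (Localization T) T (LocalizedModule.mkLinearMap T F),
      (IsLocalizedModule.map T (LocalizedModule.mkLinearMap T K)
        (LocalizedModule.mkLinearMap T F) i).extendScalarsOfIsLocalization T (Localization T),
      (IsLocalizedModule.map T (LocalizedModule.mkLinearMap T F) g
        f).extendScalarsOfIsLocalization T (Localization T), ?_, ?_, ?_, ?_⟩
    · exact IsLocalizedModule.map_injective T (LocalizedModule.mkLinearMap T K)
        (LocalizedModule.mkLinearMap T F) i hi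
    · exact IsLocalizedModule.map_exact T (LocalizedModule.mkLinearMap T K)
        (LocalizedModule.mkLinearMap T F) g i f hex
    · exact IsLocalizedModule.map_surjective T (LocalizedModule.mkLinearMap T F) g f hf
    · exact HasFFR.localize T d _ K (LocalizedModule T K) (LocalizedModule.mkLinearMap T K) hK

/-- one step of a resolution. -/
theorem HasFFR.step {R : Type u} [CommRing R] {a b : ℕ} {N : Type u} [AddCommGroup N] [Module R N]
    (φ : (Fin a → R) →ₗ[R] N) (ψ : (Fin b → R) →ₗ[R] (Fin a → R))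
    (hex : LinearMap.ker φ = LinearMap.range ψ) (d : ℕ) (χ' : ℤ)
    (h : HasFFR R d χ' (LinearMap.range ψ)) :
    HasFFR R (d + 1) (a - χ') (LinearMap.range φ) := by
  refine ⟨a, Fin a → R, LinearMap.range ψ, inferInstance, inferInstance, inferInstance,
    inferInstance, Pi.basisFun R (Fin a), (LinearMap.range ψ).subtype, φ.rangeRestrict,
    Subtype.val_injective, ?_, LinearMap.surjective_rangeRestrict φ, ?_⟩
  · intro x
    have h1 : x ∈ Set.range (LinearMap.range ψ).subtype ↔ x ∈ LinearMap.ker φ := by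
      rw [hex]
      constructor
      · rintro ⟨z, rfl⟩
        exact z.2
      · intro hx
        exact ⟨⟨x, hx⟩, rfl⟩
    rw [h1, LinearMap.mem_ker]
    constructor
    · intro hx
      simpa using congrArg Subtype.val hx
    · intro hx
      exact Subtype.ext (by simpa using hx)
  · rw [sub_sub_cancel]
    exact h

theorem hasFFR_of_resolution {R : Type u} [CommRing R]
    (e : ℕ) (he : 1 ≤ e) (n : ℕ → ℕ) (A : (i : ℕ) → Matrix (Fin (n i)) (Fin (n (i + 1))) R)
    (π : (Fin (n 0) → R) →ₗ[R] R)
    (h0 : LinearMap.ker π = LinearMap.range (A 0).mulVecLin)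
    (hA : ∀ i, i + 2 ≤ e → LinearMap.ker (A i).mulVecLin = LinearMap.range (A (i + 1)).mulVecLin)
    (hlast : LinearMap.ker (A (e - 1)).mulVecLin = ⊥) :
    ∃ χ : ℤ, HasFFR R e χ (LinearMap.range π) := by
  have key : ∀ d j : ℕ, d + j + 1 = e → ∃ χ : ℤ, HasFFR R d χ (LinearMap.range (A j).mulVecLin) := by
    intro d
    induction d with
    | zero =>
      intro j hj
      have hj' : j = e - 1 := by omega
      subst hj'
      have hinj : Function.Injective (A (e - 1)).mulVecLin := LinearMap.ker_eq_bot.mp hlast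
      exact ⟨_, _, rfl, ⟨(Pi.basisFun R (Fin (n (e - 1 + 1)))).map
        (LinearEquiv.ofInjective (A (e - 1)).mulVecLin hinj)⟩⟩
    | succ d ih =>
      intro j hj
      obtain ⟨χ', hχ'⟩ := ih (j + 1) (by omega)
      exact ⟨_, HasFFR.step (A j).mulVecLin (A (j + 1)).mulVecLin (hA j (by omega)) d χ' hχ'⟩
  obtain ⟨e', rfl⟩ : ∃ e', e = e' + 1 := ⟨e - 1, by omega⟩
  obtain ⟨χ', hχ'⟩ := key e' 0 (by omega)
  exact ⟨_, HasFFR.step π (A 0).mulVecLin h0 e' χ' hχ'⟩

theorem depth_zero_atPrime {R : Type u} [CommRing R] (Q : Ideal R) [Q.IsPrime] (x : R)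
    (hQ : ∀ r, r ∈ Q ↔ r * x = 0) :
    algebraMap R (Localization.AtPrime Q) x ≠ 0 ∧
      ∀ t ∈ maximalIdeal (Localization.AtPrime Q),
        t * algebraMap R (Localization.AtPrime Q) x = 0 := by
  constructor
  · intro h
    obtain ⟨s, hs⟩ := (IsLocalization.map_eq_zero_iff Q.primeCompl (Localization.AtPrime Q) x).mp h
    exact s.2 ((hQ s).mpr hs)
  · intro t ht
    obtain ⟨a, s, rfl⟩ := IsLocalization.exists_mk'_eq Q.primeCompl t
    rw [IsLocalization.AtPrime.mk'_mem_maximal_iff (Localization.AtPrime Q) Q] at ht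
    rw [mul_comm, IsLocalization.mul_mk'_eq_mk'_of_mul, mul_comm, (hQ a).mp ht,
      IsLocalization.mk'_zero]

theorem exists_basis_localized {R : Type u} [CommRing R] (Q : Ideal R) [Q.IsPrime] (x : R)
    (hQ : ∀ r, r ∈ Q ↔ r * x = 0) (I : Ideal R) (d : ℕ) (χ : ℤ) (h : HasFFR R d χ I) :
    ∃ r : ℕ, (r : ℤ) = χ ∧ Nonempty (Module.Basis (Fin r) (Localization.AtPrime Q)
      (LocalizedModule Q.primeCompl I)) := by
  obtain ⟨hy, hmy⟩ := depth_zero_atPrime Q x hQ
  exact HasFFR.exists_basis_of_depth_zero _ hy hmy d χ _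
    (HasFFR.localize Q.primeCompl d χ I (LocalizedModule Q.primeCompl I)
      (LocalizedModule.mkLinearMap Q.primeCompl I) h)

theorem rank_eq_zero_of_le {R : Type u} [CommRing R] (Q : Ideal R) [Q.IsPrime] (x : R)
    (hQ : ∀ r, r ∈ Q ↔ r * x = 0) (I : Ideal R) (hIQ : I ≤ Q) (r : ℕ)
    (b : Module.Basis (Fin r) (Localization.AtPrime Q) (LocalizedModule Q.primeCompl I)) :
    r = 0 := by
  by_contra hr
  have hpos : 0 < r := Nat.pos_of_ne_zero hr
  obtain ⟨hy, -⟩ := depth_zero_atPrime Q x hQ
  have hkill : ∀ m' : LocalizedModule Q.primeCompl I,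
      algebraMap R (Localization.AtPrime Q) x • m' = 0 := by
    intro m'
    induction m' using LocalizedModule.induction_on with
    | h m s =>
      rw [algebraMap_smul, LocalizedModule.smul'_mk]
      have : x • m = 0 := by
        apply Subtype.ext
        simp only [Submodule.coe_smul, smul_eq_mul, ZeroMemClass.coe_zero]
        rw [mul_comm]
        exact (hQ _).mp (hIQ m.2)
      rw [this, LocalizedModule.zero_mk]
  have h1 := hkill (b ⟨0, hpos⟩)
  have h2 : b.repr (algebraMap R (Localization.AtPrime Q) x • b ⟨0, hpos⟩) ⟨0, hpos⟩ = 0 := by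
    rw [h1, map_zero, Finsupp.zero_apply]
  rw [map_smul, Module.Basis.repr_self, Finsupp.smul_apply, Finsupp.single_eq_same, smul_eq_mul,
    mul_one] at h2
  exact hy h2

theorem exists_smul_eq_zero_of_rank_zero {R : Type u} [CommRing R] (Q : Ideal R) [Q.IsPrime]
    (I : Ideal R)
    (b : Module.Basis (Fin 0) (Localization.AtPrime Q) (LocalizedModule Q.primeCompl I))
    (a : R) (ha : a ∈ I) : ∃ s : R, s ∉ Q ∧ s * a = 0 := by
  haveI : Subsingleton (LocalizedModule Q.primeCompl I) := b.repr.toEquiv.subsingleton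
  have h0 : LocalizedModule.mkLinearMap Q.primeCompl I ⟨a, ha⟩ = 0 := Subsingleton.elim _ _
  obtain ⟨s, hs⟩ := (IsLocalizedModule.eq_zero_iff Q.primeCompl
    (LocalizedModule.mkLinearMap Q.primeCompl I)).mp h0
  refine ⟨s, s.2, ?_⟩
  have := congrArg Subtype.val hs
  simpa [Submonoid.smul_def] using this

end helpers

/-- Let R be a Noetherian ring and I a nonzero ideal with a finite free resolution 0 → R^{n_e} → … →
R^{n_1} → R^{n_0} → I → 0 with e ≥ 1: the map R^{n_{i+1}} → R^{n_i} is the matrix A_i, the map π :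
R^{n_0} → R is linear with image I, the kernel of π is the image of A_0, the kernel of A_i is the
image of A_{i+1} for 0 ≤ i ≤ e - 2, and A_{e-1} is injective. Then I contains a non-zero-divisor of
R. (The hypothesis that I is nonzero is implicit in the published statement: the zero ideal of a
domain has a finite free resolution and contains no non-zero-divisor.) -/
theorem result {R : Type u} [CommRing R] [IsNoetherianRing R]
    (e : ℕ) (he : 1 ≤ e) (n : ℕ → ℕ) (A : (i : ℕ) → Matrix (Fin (n i)) (Fin (n (i + 1))) R)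
    (π : (Fin (n 0) → R) →ₗ[R] R) (hI : LinearMap.range π ≠ ⊥)
    (h0 : LinearMap.ker π = LinearMap.range (A 0).mulVecLin)
    (hA : ∀ i, i + 2 ≤ e → LinearMap.ker (A i).mulVecLin = LinearMap.range (A (i + 1)).mulVecLin)
    (hlast : LinearMap.ker (A (e - 1)).mulVecLin = ⊥) :
    ∃ x : R, x ∈ LinearMap.range π ∧ x ∈ nonZeroDivisors R := by
  classical
  obtain ⟨χ, hχ⟩ := hasFFR_of_resolution e he n A π h0 hA hlast
  have hass : ∀ Q ∈ associatedPrimes R R, ∃ (_ : Q.IsPrime) (x : R), ∀ r, r ∈ Q ↔ r * x = 0 := by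
    intro Q hQ
    obtain ⟨hprime, x, hx⟩ := (isAssociatedPrime_iff).mp hQ
    refine ⟨hprime, x, fun r => ?_⟩
    rw [hx, Submodule.mem_colon_singleton, Submodule.mem_bot, smul_eq_mul]
  have hloc : ∀ Q ∈ associatedPrimes R R, ∀ hQp : Q.IsPrime, ∃ r : ℕ, (r : ℤ) = χ ∧
      Nonempty (Module.Basis (Fin r) (Localization.AtPrime Q)
        (LocalizedModule Q.primeCompl (LinearMap.range π : Ideal R))) := by
    intro Q hQ hQp
    obtain ⟨_, x, hx⟩ := hass Q hQ
    exact exists_basis_localized Q x hx _ e χ hχ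
  have havoid : ∀ J : Ideal R, (∀ Q ∈ associatedPrimes R R, ¬ J ≤ Q) →
      ∃ s ∈ J, s ∈ nonZeroDivisors R := by
    intro J hJ
    by_contra hcon
    push Not at hcon
    have hsub : (J : Set R) ⊆ ⋃ Q ∈ associatedPrimes R R, (Q : Set R) := by
      rw [biUnion_associatedPrimes_eq_compl_nonZeroDivisors]
      exact fun x hx => hcon x hx
    have hfin := associatedPrimes.finite R R
    have hsub' : (J : Set R) ⊆ ⋃ Q ∈ (↑hfin.toFinset : Set (Ideal R)), ((id Q : Ideal R) : Set R) := by
      simpa using hsub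
    obtain ⟨Q, hQ, hJQ⟩ := (Ideal.subset_union_prime (f := id) (⊥ : Ideal R) ⊥ (fun Q hQ _ _ =>
      ((hfin.mem_toFinset).mp hQ).isPrime)).mp hsub'
    exact hJ Q ((hfin.mem_toFinset).mp hQ) hJQ
  by_cases hχ0 : χ = 0
  · exfalso
    apply hI
    rw [eq_bot_iff]
    intro a ha
    obtain ⟨s, hs, hsnzd⟩ := havoid (LinearMap.ker (LinearMap.toSpanSingleton R R a)) (by
      intro Q hQ hle
      obtain ⟨hQp, x, hx⟩ := hass Q hQ
      obtain ⟨r, hr, ⟨b⟩⟩ := hloc Q hQ hQp
      have hr0 : r = 0 := by
        rw [hχ0] at hr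
        exact_mod_cast hr
      subst hr0
      obtain ⟨s, hsQ, hsa⟩ := exists_smul_eq_zero_of_rank_zero Q _ b a ha
      exact hsQ (hle (by simpa [LinearMap.mem_ker] using hsa)))
    have hsa : s * a = 0 := by simpa [LinearMap.mem_ker] using hs
    rw [Submodule.mem_bot]
    exact (mem_nonZeroDivisors_iff.mp hsnzd).2 a (by rwa [mul_comm] at hsa) |> fun h => h
  · obtain ⟨s, hs, hsnzd⟩ := havoid (LinearMap.range π : Ideal R) (by
      intro Q hQ hle
      obtain ⟨hQp, x, hx⟩ := hass Q hQ
      obtain ⟨r, hr, ⟨b⟩⟩ := hloc Q hQ hQp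
      have hr0 := rank_eq_zero_of_le Q x hx _ hle r b
      subst hr0
      exact hχ0 (by rw [← hr]; rfl))
    exact ⟨s, hs, hsnzd⟩

end Groth.Agent.S12909
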