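import Groth.Statements.S12907
import Mathlib
import Groth.Agent.S12909
import Groth.Agent.S12908
import Groth.Agent.Lib.Helper9.McCoy
-- import your own Groth.Agent.* helpers here

set_option autoImplicit false
universe u
open CAlgX

namespace Groth.Agent.S12907

section helpers

open Matrix Groth.Agent.S12909 Groth.Agent.S12908

variable {R : Type u} [CommRing R]

theorem assoc_prime_spec [IsNoetherianRing R] (Q : Ideal R) (hQ : Q ∈ associatedPrimes R R) :
    ∃ (_ : Q.IsPrime) (x : R), ∀ r, r ∈ Q ↔ r * x = 0 := by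
  obtain ⟨hprime, x, hx⟩ := (isAssociatedPrime_iff).mp hQ
  refine ⟨hprime, x, fun r => ?_⟩
  rw [hx, Submodule.mem_colon_singleton, Submodule.mem_bot, smul_eq_mul]

theorem avoid_associated [IsNoetherianRing R] (J : Ideal R)
    (hJ : ∀ Q ∈ associatedPrimes R R, ¬ J ≤ Q) : ∃ s ∈ J, s ∈ nonZeroDivisors R := by
  classical
  by_contra hcon
  push Not at hcon
  have hsub : (J : Set R) ⊆ ⋃ Q ∈ associatedPrimes R R, (Q : Set R) := by
    rw [biUnion_associatedPrimes_eq_compl_nonZeroDivisors]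
    exact fun x hx => hcon x hx
  have hfin := associatedPrimes.finite R R
  have hsub' : (J : Set R) ⊆ ⋃ Q ∈ (↑hfin.toFinset : Set (Ideal R)), ((id Q : Ideal R) : Set R) := by
    simpa using hsub
  obtain ⟨Q, hQ, hJQ⟩ := (Ideal.subset_union_prime (f := id) (⊥ : Ideal R) ⊥ (fun Q hQ _ _ =>
    ((hfin.mem_toFinset).mp hQ).isPrime)).mp hsub'
  exact hJ Q ((hfin.mem_toFinset).mp hQ) hJQ

/-- a faithful ideal of a Noetherian ring contains a nonzerodivisor. -/
theorem exists_nzd_of_annihilator_eq_bot [IsNoetherianRing R] (J : Ideal R)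
    (hJ : J.annihilator = ⊥) : ∃ s ∈ J, s ∈ nonZeroDivisors R := by
  apply avoid_associated
  intro Q hQ hle
  obtain ⟨hQp, x, hx⟩ := assoc_prime_spec Q hQ
  have hx0 : x ∈ J.annihilator := by
    rw [Submodule.mem_annihilator]
    intro z hz
    rw [smul_eq_mul, mul_comm]
    exact (hx z).mp (hle hz)
  rw [hJ, Submodule.mem_bot] at hx0
  have : (1 : R) ∈ Q := (hx 1).mpr (by rw [hx0, mul_zero])
  exact hQp.ne_top ((Ideal.eq_top_iff_one Q).mpr this)

theorem exists_nzd_of_hasFFR [IsNoetherianRing R] (I : Ideal R) (hI : I ≠ ⊥) (e : ℕ) (χ : ℤ)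
    (hχ : HasFFR R e χ I) : ∃ x ∈ I, x ∈ nonZeroDivisors R := by
  have hloc : ∀ Q ∈ associatedPrimes R R, ∀ hQp : Q.IsPrime, ∃ r : ℕ, (r : ℤ) = χ ∧
      Nonempty (Module.Basis (Fin r) (Localization.AtPrime Q)
        (LocalizedModule Q.primeCompl I)) := by
    intro Q hQ hQp
    obtain ⟨_, x, hx⟩ := assoc_prime_spec Q hQ
    exact exists_basis_localized Q x hx _ e χ hχ
  by_cases hχ0 : χ = 0
  · exfalso
    apply hI
    rw [eq_bot_iff]
    intro a ha
    obtain ⟨s, hs, hsnzd⟩ := avoid_associated (LinearMap.ker (LinearMap.toSpanSingleton R R a)) (by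
      intro Q hQ hle
      obtain ⟨hQp, x, hx⟩ := assoc_prime_spec Q hQ
      obtain ⟨r, hr, ⟨b⟩⟩ := hloc Q hQ hQp
      have hr0 : r = 0 := by
        rw [hχ0] at hr
        exact_mod_cast hr
      subst hr0
      obtain ⟨s, hsQ, hsa⟩ := exists_smul_eq_zero_of_rank_zero Q _ b a ha
      exact hsQ (hle (by simpa [LinearMap.mem_ker] using hsa)))
    have hsa : s * a = 0 := by simpa [LinearMap.mem_ker] using hs
    rw [Submodule.mem_bot]
    exact (mem_nonZeroDivisors_iff.mp hsnzd).2 a (by rwa [mul_comm] at hsa)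
  · exact avoid_associated I (by
      intro Q hQ hle
      obtain ⟨hQp, x, hx⟩ := assoc_prime_spec Q hQ
      obtain ⟨r, hr, ⟨b⟩⟩ := hloc Q hQ hQp
      have hr0 := rank_eq_zero_of_le Q x hx _ hle r b
      subst hr0
      exact hχ0 (by rw [← hr]; rfl))

theorem rank_eq_one (I : Ideal R) (x₀ : R) (hx₀I : x₀ ∈ I) (hx₀ : x₀ ∈ nonZeroDivisors R)
    (Q : Ideal R) [Q.IsPrime] (r : ℕ)
    (b : Module.Basis (Fin r) (Localization.AtPrime Q) (LocalizedModule Q.primeCompl I)) :
    r = 1 := by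
  have hr0 : r ≠ 0 := by
    rintro rfl
    obtain ⟨s, hsQ, hs⟩ := exists_smul_eq_zero_of_rank_zero Q I b x₀ hx₀I
    have : s = 0 := (mem_nonZeroDivisors_iff.mp hx₀).2 s hs
    exact hsQ (this ▸ Q.zero_mem)
  have hr1 : r ≤ 1 := by
    by_contra hlt
    push Not at hlt
    obtain ⟨ι, hι⟩ : ∃ ι : LocalizedModule Q.primeCompl I →ₗ[Localization.AtPrime Q]
        Localization.AtPrime Q, Function.Injective ι := by
      refine ⟨(IsLocalizedModule.map Q.primeCompl (LocalizedModule.mkLinearMap Q.primeCompl I)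
        (Algebra.linearMap R (Localization.AtPrime Q))
        I.subtype).extendScalarsOfIsLocalization Q.primeCompl (Localization.AtPrime Q), ?_⟩
      exact IsLocalizedModule.map_injective Q.primeCompl
        (LocalizedModule.mkLinearMap Q.primeCompl I)
        (Algebra.linearMap R (Localization.AtPrime Q)) I.subtype Subtype.val_injective
    have h01 : (⟨0, by omega⟩ : Fin r) ≠ ⟨1, by omega⟩ := by
      intro h
      simpa using congrArg Fin.val h
    have h1 : ι (b ⟨1, by omega⟩) • b ⟨0, by omega⟩ - ι (b ⟨0, by omega⟩) • b ⟨1, by omega⟩ = 0 := by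
      apply hι
      rw [map_sub, map_smul, map_smul, map_zero, smul_eq_mul, smul_eq_mul, mul_comm, sub_self]
    have h2 := congrArg (fun w => b.repr w ⟨0, by omega⟩) h1
    simp only [map_sub, map_smul, Module.Basis.repr_self, Finsupp.coe_sub, Finsupp.coe_smul,
      Pi.sub_apply, Pi.smul_apply, Finsupp.single_eq_same, smul_eq_mul, mul_one, map_zero,
      Finsupp.coe_zero, Pi.zero_apply] at h2
    rw [Finsupp.single_eq_of_ne h01, mul_zero, sub_zero] at h2
    have h3 : b ⟨1, by omega⟩ = 0 := hι (by rw [h2, map_zero])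
    exact b.ne_zero _ h3
  omega

theorem card_eq [IsNoetherianRing R] (m n : ℕ) (Ψ : Matrix (Fin n) (Fin m) R)
    (π : (Fin n → R) →ₗ[R] R) (hΨ : LinearMap.ker Ψ.mulVecLin = ⊥)
    (hex : LinearMap.ker π = LinearMap.range Ψ.mulVecLin) (hI : LinearMap.range π ≠ ⊥) :
    n = m + 1 ∧ ∃ x₀ ∈ LinearMap.range π, x₀ ∈ nonZeroDivisors R := by
  have hbase : HasFFR R 0 m (LinearMap.range Ψ.mulVecLin) :=
    ⟨m, rfl, ⟨(Pi.basisFun R (Fin m)).map
      (LinearEquiv.ofInjective Ψ.mulVecLin (LinearMap.ker_eq_bot.mp hΨ))⟩⟩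
  have hffr : HasFFR R 1 (n - m) (LinearMap.range π) := HasFFR.step π Ψ.mulVecLin hex 0 m hbase
  obtain ⟨x₀, hx₀I, hx₀⟩ := exists_nzd_of_hasFFR (LinearMap.range π : Ideal R) hI 1 _ hffr
  refine ⟨?_, x₀, hx₀I, hx₀⟩
  haveI : Nontrivial R := by
    by_contra hcon
    rw [not_nontrivial_iff_subsingleton] at hcon
    exact hI (Subsingleton.elim _ _)
  obtain ⟨Q, hQ⟩ := associatedPrimes.nonempty R R
  obtain ⟨hQp, x, hx⟩ := assoc_prime_spec Q hQ
  obtain ⟨r, hr, ⟨b⟩⟩ := exists_basis_localized Q x hx (LinearMap.range π : Ideal R) 1 _ hffr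
  have hr1 := rank_eq_one (LinearMap.range π : Ideal R) x₀ hx₀I hx₀ Q r b
  subst hr1
  omega

theorem minorIdeal_map_le {S : Type u} [CommRing S] (q : R →+* S) {m n : ℕ}
    (Ψ : Matrix (Fin n) (Fin m) R) (r : ℕ) :
    CAlgX.minorIdeal (Ψ.map q) r ≤ (CAlgX.minorIdeal Ψ r).map q := by
  rw [CAlgX.minorIdeal, Ideal.span_le]
  rintro _ ⟨⟨f, g⟩, rfl⟩
  have h1 : ((Ψ.map q).submatrix f g).det = q ((Ψ.submatrix f g).det) := by
    rw [RingHom.map_det]
    rfl
  show ((Ψ.map q).submatrix f g).det ∈ _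
  rw [h1]
  exact Ideal.mem_map_of_mem _ (Ideal.subset_span ⟨(f, g), rfl⟩)

theorem injective_mod_nzd (m : ℕ) (Ψ : Matrix (Fin (m + 1)) (Fin m) R)
    (π : (Fin (m + 1) → R) →ₗ[R] R) (hΨ : LinearMap.ker Ψ.mulVecLin = ⊥)
    (hex : LinearMap.ker π = LinearMap.range Ψ.mulVecLin) (x : R) (hx : x ∈ nonZeroDivisors R) :
    Function.Injective (Ψ.map (Ideal.Quotient.mk (Ideal.span {x}))).mulVecLin := by
  rw [injective_iff_map_eq_zero]
  intro wbar hw
  obtain ⟨w, rfl⟩ : ∃ w : Fin m → R, (fun k => Ideal.Quotient.mk (Ideal.span {x}) (w k)) = wbar := by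
    choose w hw using fun k => Ideal.Quotient.mk_surjective (wbar k)
    exact ⟨w, funext hw⟩
  have h1 : ∀ i, ∃ c, Ψ.mulVec w i = x * c := by
    intro i
    have h2 := congrFun hw i
    rw [Matrix.mulVecLin_apply] at h2
    have h3 : (Ψ.map (Ideal.Quotient.mk (Ideal.span {x}))).mulVec
        (fun k => Ideal.Quotient.mk (Ideal.span {x}) (w k)) i =
        Ideal.Quotient.mk (Ideal.span {x}) (Ψ.mulVec w i) := by
      simp [Matrix.mulVec, dotProduct]
    rw [h3, Pi.zero_apply, Ideal.Quotient.eq_zero_iff_mem, Ideal.mem_span_singleton'] at h2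
    obtain ⟨c, hc⟩ := h2
    exact ⟨c, by rw [← hc, mul_comm]⟩
  choose v' hv' using h1
  have h4 : Ψ.mulVec w = x • v' := funext fun i => by rw [hv' i]; rfl
  have h5 : π (x • v') = 0 := by
    rw [← h4, ← LinearMap.mem_ker, hex]
    exact ⟨w, rfl⟩
  rw [map_smul, smul_eq_mul] at h5
  have h6 : π v' = 0 := (mem_nonZeroDivisors_iff.mp hx).1 _ h5
  have h7 : v' ∈ LinearMap.range Ψ.mulVecLin := by rw [← hex]; exact h6
  obtain ⟨w', hw'⟩ := h7
  have h8 : Ψ.mulVecLin (w - x • w') = 0 := by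
    rw [map_sub, map_smul, hw', Matrix.mulVecLin_apply, h4, sub_self]
  have h9 : w - x • w' = 0 := by
    rw [← LinearMap.mem_ker, hΨ] at h8
    exact h8
  funext k
  have h10 : w k = x * w' k := by
    have := congrFun h9 k
    simp only [Pi.sub_apply, Pi.smul_apply, smul_eq_mul, Pi.zero_apply] at this
    exact sub_eq_zero.mp this
  show Ideal.Quotient.mk (Ideal.span {x}) (w k) = 0
  rw [h10, Ideal.Quotient.eq_zero_iff_mem]
  exact Ideal.mul_mem_right _ _ (Ideal.mem_span_singleton_self x)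

theorem hasRegPair_minorIdeal [IsNoetherianRing R] (m : ℕ) (Ψ : Matrix (Fin (m + 1)) (Fin m) R)
    (π : (Fin (m + 1) → R) →ₗ[R] R) (hΨ : LinearMap.ker Ψ.mulVecLin = ⊥)
    (hex : LinearMap.ker π = LinearMap.range Ψ.mulVecLin) :
    HasRegPair (CAlgX.minorIdeal Ψ m) := by
  have hann : (CAlgX.minorIdeal Ψ m).annihilator = ⊥ :=
    Groth.Agent.Lib.Helper9.McCoy.annihilator_eq_bot_of_injective Ψ (LinearMap.ker_eq_bot.mp hΨ)
  obtain ⟨x, hxI, hx⟩ := exists_nzd_of_annihilator_eq_bot _ hann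
  have hinj := injective_mod_nzd m Ψ π hΨ hex x hx
  have hann' := Groth.Agent.Lib.Helper9.McCoy.annihilator_eq_bot_of_injective _ hinj
  obtain ⟨ybar, hyI, hy⟩ := exists_nzd_of_annihilator_eq_bot _ hann'
  obtain ⟨y, hyI', rfl⟩ := (Ideal.mem_map_iff_of_surjective _ Ideal.Quotient.mk_surjective).mp
    (minorIdeal_map_le _ Ψ m hyI)
  refine Or.inr ⟨x, hxI, y, hyI', fun c hc => (mem_nonZeroDivisors_iff.mp hx).1 c hc,
    fun c d hcd => ?_⟩
  have h1 : Ideal.Quotient.mk (Ideal.span {x}) y * Ideal.Quotient.mk (Ideal.span {x}) c = 0 := by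
    rw [← map_mul, hcd, Ideal.Quotient.eq_zero_iff_mem]
    exact Ideal.mul_mem_right _ _ (Ideal.mem_span_singleton_self x)
  have h2 : Ideal.Quotient.mk (Ideal.span {x}) c = 0 :=
    (mem_nonZeroDivisors_iff.mp hy).1 _ h1
  rw [Ideal.Quotient.eq_zero_iff_mem, Ideal.mem_span_singleton'] at h2
  obtain ⟨d', hd'⟩ := h2
  exact ⟨d', by rw [← hd', mul_comm]⟩

theorem depth_of_hasRegPair (I : Ideal R) (h : HasRegPair I) : 2 ≤ LocCoh.idealDepth I R := by
  classical
  unfold LocCoh.idealDepth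
  split_ifs with htop
  · exact le_top
  · rcases h with h1 | ⟨x, hx, y, hy, hreg, hreg2⟩
    · exfalso
      apply htop
      rw [smul_eq_mul, Ideal.mul_top]
      exact (Ideal.eq_top_iff_one I).mpr h1
    · have hw : RingTheory.Sequence.IsWeaklyRegular R [x, y] := by
        rw [RingTheory.Sequence.isWeaklyRegular_cons_iff,
          RingTheory.Sequence.isWeaklyRegular_cons_iff]
        refine ⟨?_, ?_, RingTheory.Sequence.IsWeaklyRegular.nil _ _⟩
        · intro c c' hcc'
          have h0 : x * (c - c') = 0 := by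
            have : x * c = x * c' := by simpa using hcc'
            rw [mul_sub, this, sub_self]
          exact sub_eq_zero.mp (hreg _ h0)
        · intro q q' hqq'
          obtain ⟨c, rfl⟩ := Submodule.Quotient.mk_surjective _ q
          obtain ⟨c', rfl⟩ := Submodule.Quotient.mk_surjective _ q'
          have h0 : (Submodule.Quotient.mk (y • (c - c')) : QuotSMulTop x R) = 0 := by
            have : y • (Submodule.Quotient.mk c : QuotSMulTop x R) = y • Submodule.Quotient.mk c' :=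
              hqq'
            rw [smul_sub, Submodule.Quotient.mk_sub, Submodule.Quotient.mk_smul,
              Submodule.Quotient.mk_smul, this, sub_self]
          rw [Submodule.Quotient.mk_eq_zero, Submodule.mem_smul_pointwise_iff_exists] at h0
          obtain ⟨d, -, hd⟩ := h0
          obtain ⟨d', hd'⟩ := hreg2 (c - c') d (by simpa [eq_comm] using hd)
          rw [← sub_eq_zero, ← Submodule.Quotient.mk_sub, Submodule.Quotient.mk_eq_zero,
            Submodule.mem_smul_pointwise_iff_exists]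
          exact ⟨d', trivial, by simpa [eq_comm] using hd'⟩
      refine le_trans ?_ (le_iSup₂_of_le [x, y] ⟨hw, by simp [hx, hy]⟩ le_rfl)
      simp

theorem exists_factor (m : ℕ) (Ψ : Matrix (Fin (m + 1)) (Fin m) R)
    (π : (Fin (m + 1) → R) →ₗ[R] R) (hex : LinearMap.ker π = LinearMap.range Ψ.mulVecLin)
    (hpair : HasRegPair (CAlgX.minorIdeal Ψ m))
    (x₀ : R) (hx₀I : x₀ ∈ LinearMap.range π) (hx₀ : x₀ ∈ nonZeroDivisors R) :
    ∃ a : R, a ∈ nonZeroDivisors R ∧
      LinearMap.range π = Ideal.span {a} * CAlgX.minorIdeal Ψ m := by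
  obtain ⟨-, hker, hrange⟩ := hilbert_burch_exact Ψ hpair 1 (one_mem _)
  obtain ⟨Δ₁, hΔ₁⟩ : ∃ Δ₁ : (Fin (m + 1) → R) →ₗ[R] R, Δ₁ = Fintype.linearCombination R
      (fun i : Fin (m + 1) => (1 : R) * ((-1 : R) ^ (i : ℕ) * (Ψ.submatrix i.succAbove id).det)) :=
    ⟨_, rfl⟩
  rw [← hΔ₁] at hker hrange
  rw [Ideal.span_singleton_one, Ideal.top_mul] at hrange
  have hK : LinearMap.ker Δ₁ = LinearMap.ker π := by rw [hker, hex]
  have hstar : ∀ v v', Δ₁ v' * π v = Δ₁ v * π v' := by
    intro v v'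
    have h1 : Δ₁ v' • v - Δ₁ v • v' ∈ LinearMap.ker Δ₁ := by
      rw [LinearMap.mem_ker, map_sub, map_smul, map_smul, smul_eq_mul, smul_eq_mul, mul_comm,
        sub_self]
    rw [hK, LinearMap.mem_ker, map_sub, map_smul, map_smul, smul_eq_mul, smul_eq_mul] at h1
    exact sub_eq_zero.mp h1
  have hmemI : ∀ z ∈ CAlgX.minorIdeal Ψ m, ∃ v, Δ₁ v = z := by
    intro z hz
    rw [← hrange] at hz
    exact hz
  have hclaim : ∃ a, ∀ v, π v = a * Δ₁ v := by
    rcases hpair with h1 | ⟨x, hx, y, hy, hreg, hreg2⟩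
    · obtain ⟨v₁, hv₁⟩ := hmemI 1 h1
      refine ⟨π v₁, fun v => ?_⟩
      have := hstar v v₁
      rw [hv₁, one_mul] at this
      rw [this, mul_comm]
    · obtain ⟨vx, hvx⟩ := hmemI x hx
      obtain ⟨vy, hvy⟩ := hmemI y hy
      have h2 := hstar vx vy
      rw [hvx, hvy] at h2
      obtain ⟨a, ha⟩ := hreg2 _ _ h2
      refine ⟨a, fun v => ?_⟩
      have h3 := hstar v vx
      rw [hvx, ha] at h3
      have h4 : x * (π v - a * Δ₁ v) = 0 := by
        rw [mul_sub, h3]
        ring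
      exact sub_eq_zero.mp (hreg _ h4)
  obtain ⟨a, ha⟩ := hclaim
  refine ⟨a, ?_, ?_⟩
  · obtain ⟨v₀, hv₀⟩ := hx₀I
    have hleft : ∀ c, a * c = 0 → c = 0 := by
      intro c hc
      apply (mem_nonZeroDivisors_iff.mp hx₀).1
      rw [← hv₀, ha v₀, mul_assoc, mul_comm (Δ₁ v₀) c, ← mul_assoc, hc, zero_mul]
    rw [mem_nonZeroDivisors_iff]
    exact ⟨hleft, fun c hc => hleft c (by rwa [mul_comm])⟩
  · apply le_antisymm
    · rintro _ ⟨v, rfl⟩
      rw [ha v]
      refine Ideal.mul_mem_mul (Ideal.mem_span_singleton_self a) ?_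
      rw [← hrange]
      exact ⟨v, rfl⟩
    · rw [Ideal.span_singleton_mul_le_iff]
      intro z hz
      obtain ⟨v, rfl⟩ := hmemI z hz
      exact ⟨v, ha v⟩

end helpers

/-- Let R be a Noetherian ring and I a nonzero ideal admitting a free resolution 0 → R^m → R^n → I → 0:
an injective matrix Ψ with n rows and m columns, and a linear map π : R^n → R with image I whose
kernel is the image of Ψ. Then n = m + 1; there is a non-zero-divisor a with I = a · I_m(Ψ), where
I_m(Ψ) is the ideal generated by the m × m minors of Ψ; and the I_m(Ψ)-depth of R is at least 2.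
(The published statement also asserts that this depth is exactly 2; only the lower bound is stated
here. The hypothesis that I is nonzero is implicit in the published statement.) -/
theorem result {R : Type u} [CommRing R] [IsNoetherianRing R] (m n : ℕ)
    (Ψ : Matrix (Fin n) (Fin m) R) (π : (Fin n → R) →ₗ[R] R)
    (hΨ : LinearMap.ker Ψ.mulVecLin = ⊥) (hex : LinearMap.ker π = LinearMap.range Ψ.mulVecLin)
    (hI : LinearMap.range π ≠ ⊥) :
    n = m + 1 ∧
      (∃ a : R, a ∈ nonZeroDivisors R ∧ LinearMap.range π = Ideal.span {a} * CAlgX.minorIdeal Ψ m) ∧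
      2 ≤ LocCoh.idealDepth (CAlgX.minorIdeal Ψ m) R := by
  obtain ⟨hn, x₀, hx₀I, hx₀⟩ := card_eq m n Ψ π hΨ hex hI
  subst hn
  have hpair := hasRegPair_minorIdeal m Ψ π hΨ hex
  exact ⟨rfl, exists_factor m Ψ π hex hpair x₀ hx₀I hx₀, depth_of_hasRegPair _ hpair⟩

end Groth.Agent.S12907
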