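import Groth.Statements.S18404
import Mathlib

set_option autoImplicit false
universe u
open Cubic

namespace Groth.Agent.S18404

theorem aux0 (a b c x y z k : ℂ)
    (hH : a^3+b^3+c^3 - 3*k*(a*b*c) = 0)
    (hA : (a^2 - k*b*c)*x + (b^2 - k*a*c)*y + (c^2 - k*a*b)*z = 0)
    (hB : a*x^2 + b*y^2 + c*z^2 - k*(a*y*z + b*x*z + c*x*y) = 0) :
    (b*z - c*y)^2 * ((1-k^3)*(a*b*c)) = 0 := by
  linear_combination (1/8) * ((2*(2*(a*x^2 + b*y^2 + c*z^2 - k*(a*y*z + b*x*z + c*x*y))*(2*a) - (2*a*x - k*c*y - k*b*z)^2) + 2*k^2*(b*z-c*y)^2)) * hH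
      + (1/8) * (2*(-2*((a^2 - k*b*c)*x + (b^2 - k*a*c)*y + (c^2 - k*a*b)*z)*(2*a) + 2*(2*a*x - k*c*y - k*b*z)*(2*(a^2-k*b*c)))) * hA
      - (1/8) * (2*(2*(a^2-k*b*c))^2) * hB

theorem evalform (k : ℂ) (x : Fin 3 → ℂ) :
    MvPolynomial.eval x (HesseCubic.form k) =
      x 0 ^ 3 + x 1 ^ 3 + x 2 ^ 3 - 3 * k * (x 0 * x 1 * x 2) := by
  simp [HesseCubic.form]

theorem prod_zero (k : ℂ) (hk : k ^ 3 ≠ 1) (v w : Fin 3 → ℂ)
    (hCv : v 0 ^ 3 + v 1 ^ 3 + v 2 ^ 3 - 3 * k * (v 0 * v 1 * v 2) = 0)
    (hlin : LinearIndependent ℂ ![v, w])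
    (hw : ∀ t : ℂ, MvPolynomial.eval (v + t • w) (HesseCubic.form k) =
      t ^ 3 * MvPolynomial.eval w (HesseCubic.form k)) :
    v 0 * v 1 * v 2 = 0 := by
  have h1 := hw 1
  have h2 := hw (-1)
  simp only [evalform, Pi.add_apply, Pi.smul_apply, smul_eq_mul] at h1 h2
  have hA : (v 0 ^ 2 - k * v 1 * v 2) * w 0 + (v 1 ^ 2 - k * v 0 * v 2) * w 1 +
      (v 2 ^ 2 - k * v 0 * v 1) * w 2 = 0 := by
    linear_combination (1/6) * h1 - (1/6) * h2
  have hB : v 0 * w 0 ^ 2 + v 1 * w 1 ^ 2 + v 2 * w 2 ^ 2 -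
      k * (v 0 * w 1 * w 2 + v 1 * w 0 * w 2 + v 2 * w 0 * w 1) = 0 := by
    linear_combination (1/6) * h1 + (1/6) * h2 - (1/3) * hCv
  have hk' : (1 - k ^ 3) ≠ 0 := sub_ne_zero.mpr (Ne.symm hk)
  have hc := crossProduct_ne_zero_iff_linearIndependent.mpr hlin
  obtain ⟨i, hi⟩ := Function.ne_iff.mp hc
  have hfin : ∀ d : ℂ, d ≠ 0 → d ^ 2 * ((1 - k ^ 3) * (v 0 * v 1 * v 2)) = 0 →
      v 0 * v 1 * v 2 = 0 := by
    intro d hd h
    rcases mul_eq_zero.mp h with h | h
    · exact absurd (pow_eq_zero_iff (two_ne_zero)|>.mp h) hd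
    · exact (mul_eq_zero.mp h).resolve_left hk'
  fin_cases i
  · refine hfin (v 1 * w 2 - v 2 * w 1) (by simpa [cross_apply] using hi) ?_
    exact aux0 (v 0) (v 1) (v 2) (w 0) (w 1) (w 2) k hCv hA hB
  · refine hfin (v 2 * w 0 - v 0 * w 2) (by simpa [cross_apply] using hi) ?_
    have := aux0 (v 1) (v 2) (v 0) (w 1) (w 2) (w 0) k (by linear_combination hCv)
      (by linear_combination hA) (by linear_combination hB)
    linear_combination this
  · refine hfin (v 0 * w 1 - v 1 * w 0) (by simpa [cross_apply] using hi) ?_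
    have := aux0 (v 2) (v 0) (v 1) (w 2) (w 0) (w 1) k (by linear_combination hCv)
      (by linear_combination hA) (by linear_combination hB)
    linear_combination this

theorem cube_zero {a : ℂ} (h : a ^ 3 = 0) : a = 0 := by
  exact (pow_eq_zero_iff (by norm_num)).mp h

open MvPolynomial in
/-- Let k ∈ ℂ with k³ ≠ 1 and let h = X₀³ + X₁³ + X₂³ − 3k·X₀X₁X₂ be the Hesse cubic. For a nonzero
vector v with h(v) = 0, the corresponding point is a flex of the plane curve of h — some line
through it meets the curve there with multiplicity three, i.e. there is a vector w linearly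
independent from v with h(v + t·w) = t³·h(w) for every t — exactly when v is a scalar multiple of
one of the nine vectors (0, 1, −γ), (−γ, 0, 1), (1, −γ, 0) with γ³ = 1. -/
theorem result (k : ℂ) (hk : k ^ 3 ≠ 1) (v : Fin 3 → ℂ) (hv : v ≠ 0)
    (hCv : eval v (HesseCubic.form k) = 0) :
    (∃ w : Fin 3 → ℂ, LinearIndependent ℂ ![v, w] ∧
        ∀ t : ℂ, eval (v + t • w) (HesseCubic.form k) = t ^ 3 * eval w (HesseCubic.form k)) ↔
      ∃ γ c : ℂ, γ ^ 3 = 1 ∧ (v = c • ![0, 1, -γ] ∨ v = c • ![-γ, 0, 1] ∨ v = c • ![1, -γ, 0]) := by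
  rw [evalform] at hCv
  constructor
  · rintro ⟨w, hlin, hw⟩
    have hprod := prod_zero k hk v w hCv hlin hw
    rcases mul_eq_zero.mp hprod with h01 | h2
    · rcases mul_eq_zero.mp h01 with h0 | h1
      · -- v 0 = 0
        have h12 : v 1 ^ 3 + v 2 ^ 3 = 0 := by rw [h0] at hCv; linear_combination hCv
        have hv1 : v 1 ≠ 0 := by
          intro h1
          apply hv
          have h2 : v 2 = 0 := cube_zero (by rw [h1] at h12; linear_combination h12)
          ext i; fin_cases i <;> simp [h0, h1, h2]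
        refine ⟨-(v 2 / v 1), v 1, ?_, Or.inl ?_⟩
        · field_simp
          linear_combination (-1 : ℂ) * h12
        · ext i; fin_cases i
          · simp [h0]
          · simp
          · simp; field_simp
      · -- v 1 = 0
        have h02 : v 0 ^ 3 + v 2 ^ 3 = 0 := by rw [h1] at hCv; linear_combination hCv
        have hv2 : v 2 ≠ 0 := by
          intro h2
          apply hv
          have h0 : v 0 = 0 := cube_zero (by rw [h2] at h02; linear_combination h02)
          ext i; fin_cases i <;> simp [h0, h1, h2]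
        refine ⟨-(v 0 / v 2), v 2, ?_, Or.inr (Or.inl ?_)⟩
        · field_simp
          linear_combination (-1 : ℂ) * h02
        · ext i; fin_cases i
          · simp; field_simp
          · simp [h1]
          · simp
    · -- v 2 = 0
      have h01 : v 0 ^ 3 + v 1 ^ 3 = 0 := by rw [h2] at hCv; linear_combination hCv
      have hv0 : v 0 ≠ 0 := by
        intro h0
        apply hv
        have h1 : v 1 = 0 := cube_zero (by rw [h0] at h01; linear_combination h01)
        ext i; fin_cases i <;> simp [h0, h1, h2]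
      refine ⟨-(v 1 / v 0), v 0, ?_, Or.inr (Or.inr ?_)⟩
      · field_simp
        linear_combination (-1 : ℂ) * h01
      · ext i; fin_cases i
        · simp
        · simp; field_simp
        · simp [h2]
  · rintro ⟨γ, c, hγ, hvc⟩
    have hc : c ≠ 0 := by
      rintro rfl
      apply hv
      rcases hvc with h | h | h <;> simpa using h
    have hγ0 : γ ≠ 0 := by
      rintro rfl
      simp at hγ
    rcases hvc with h | h | h
    · refine ⟨![1, -(k * γ), 0], ?_, ?_⟩
      · apply crossProduct_ne_zero_iff_linearIndependent.mp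
        intro h0
        have := congrFun h0 2
        simp [cross_apply, h] at this
        exact hc this
      · intro t
        simp only [evalform, h, Pi.add_apply, Pi.smul_apply, smul_eq_mul]
        simp
        linear_combination (-c^3) * hγ
    · refine ⟨![0, 1, -(k * γ)], ?_, ?_⟩
      · apply crossProduct_ne_zero_iff_linearIndependent.mp
        intro h0
        have := congrFun h0 0
        simp [cross_apply, h] at this
        exact hc this
      · intro t
        simp only [evalform, h, Pi.add_apply, Pi.smul_apply, smul_eq_mul]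
        simp
        linear_combination (-c^3) * hγ
    · refine ⟨![-(k * γ), 0, 1], ?_, ?_⟩
      · apply crossProduct_ne_zero_iff_linearIndependent.mp
        intro h0
        have := congrFun h0 1
        simp [cross_apply, h] at this
        exact hc this
      · intro t
        simp only [evalform, h, Pi.add_apply, Pi.smul_apply, smul_eq_mul]
        simp
        linear_combination (-c^3) * hγ

end Groth.Agent.S18404
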