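import Groth.Statements.S0194
import Groth.Agent.Lib.Helper5.DoubleCentralizer

set_option autoImplicit false
universe u v w
open scoped TensorProduct
open Curves

namespace Groth.Agent.S0194

open Groth.Agent.Lib.Helper5.DoubleCentralizer Groth.Agent.Lib.Helper15.CSA

/-- A central simple subalgebra B of a finite central simple algebra A, together with its centralizer C,
decomposes A as B ⊗ C. -/
theorem result (k : Type u) [Field k] (A : Type v) [Ring A] [Algebra k A]
    [Algebra.IsCentral k A] [IsSimpleRing A] [FiniteDimensional k A]
    (B : Subalgebra k A) [IsSimpleRing B] [Algebra.IsCentral k B] :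
    Function.Bijective (Algebra.TensorProduct.lift B.val (Subalgebra.centralizer k (B : Set A)).val
      (fun x y => y.2 x.1 x.2)) := by
  haveI hC : IsSimpleRing (Subalgebra.centralizer k (B : Set A)) := isSimpleRing_centralizer k A B
  haveI : IsSimpleRing (B ⊗[k] Subalgebra.centralizer k (B : Set A)) := isSimpleRing_tensorProduct
  set f := Algebra.TensorProduct.lift B.val (Subalgebra.centralizer k (B : Set A)).val
      (fun x y => y.2 x.1 x.2) with hf
  have hinj : Function.Injective f := by
    have := RingHom.injective (f.toRingHom)
    exact this
  refine ⟨hinj, ?_⟩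
  have hrank : Module.finrank k (B ⊗[k] Subalgebra.centralizer k (B : Set A)) =
      Module.finrank k A := by
    rw [Module.finrank_tensorProduct, ← finrank_eq_mul_centralizer k A B]
  exact (LinearMap.injective_iff_surjective_of_finrank_eq_finrank hrank (f := f.toLinearMap)).mp hinj

end Groth.Agent.S0194
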