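import Groth.Statements.S13773
import Groth.Agent.Lib.Helper7.RPBW4


set_option autoImplicit false
universe u v w
open PLie

namespace Groth.Agent.S13773

/-- Let R be a commutative ring of prime characteristic p and L a Lie algebra over R, free as an
R-module with basis b indexed by ι, and let y : ι → L satisfy (ad (b i)) ^ p = ad (y i) in the
R-linear endomorphisms of L for every i. Then L carries exactly one p-mapping φ with φ (b i) = y i
for all i. -/
theorem result (R : Type u) [CommRing R] (p : ℕ) [Fact p.Prime] [CharP R p]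
    (L : Type v) [LieRing L] [LieAlgebra R L] {ι : Type w} (b : Module.Basis ι R L) (y : ι → L)
    (hy : ∀ i : ι, LieAlgebra.ad R L (b i) ^ p = LieAlgebra.ad R L (y i)) :
    ∃! φ : PLie.PMap R p L, ∀ i : ι, φ (b i) = y i := by
  classical
  letI : LinearOrder ι := IsWellOrder.linearOrder WellOrderingRel
  obtain ⟨φ, hφ⟩ := Groth.Agent.Lib.Helper2.PL.exists_pmap_of_embedding R p
    (Groth.Agent.Lib.Helper7.RPBW.ιu b p y hy) (Groth.Agent.Lib.Helper7.RPBW.ιu_lie b p y hy)
    (Groth.Agent.Lib.Helper7.RPBW.ιu_injective b p y hy) b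
    (fun i => ⟨y i, (Groth.Agent.Lib.Helper7.RPBW.ιu_pow b p y hy i).symm⟩)
  have hφb : ∀ i, φ (b i) = y i := by
    intro i
    apply Groth.Agent.Lib.Helper7.RPBW.ιu_injective b p y hy
    rw [hφ, Groth.Agent.Lib.Helper7.RPBW.ιu_pow]
  refine ⟨φ, hφb, ?_⟩
  intro ψ hψ
  have hp := (Fact.out : p.Prime)
  have hall : ∀ x : L, ψ x = φ x := by
    intro x
    have hx : x ∈ Submodule.span R (Set.range b) := by rw [b.span_eq]; trivial
    induction hx using Submodule.span_induction with
    | mem z hz =>
      obtain ⟨i, rfl⟩ := hz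
      rw [hψ, hφb]
    | zero =>
      have h1 : ψ (0 : L) = 0 := by
        have := ψ.map_smul 0 0
        rw [zero_smul, zero_pow hp.ne_zero, zero_smul] at this
        exact this
      have h2 : φ (0 : L) = 0 := by
        have := φ.map_smul 0 0
        rw [zero_smul, zero_pow hp.ne_zero, zero_smul] at this
        exact this
      rw [h1, h2]
    | add a c _ _ ha hc =>
      have h1 := ψ.map_add a c
      have h2 := φ.map_add a c
      rw [PLie.PMap.toFun_eq_coe] at h1 h2
      rw [h1, h2, ha, hc]
    | smul c a _ ha =>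
      have h1 := ψ.map_smul c a
      have h2 := φ.map_smul c a
      rw [PLie.PMap.toFun_eq_coe] at h1 h2
      rw [h1, h2, ha]
  cases ψ with
  | mk f h1 h2 h3 =>
    cases φ with
    | mk g g1 g2 g3 =>
      have : f = g := funext hall
      subst this
      rfl

end Groth.Agent.S13773
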