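import Groth.Statements.S4754
import Mathlib
import Groth.Agent.Lib.Helper18.FibQuot

set_option autoImplicit false
universe u
open EGA4

namespace Groth.Agent.S4754

/-- For the property 'geometrically normal', case of a local ring: if the formal fibres of a Noetherian
local ring A are geometrically normal, then so are the formal fibres of A/I for every proper ideal I
of A. -/
theorem result (A : Type u) [CommRing A] [IsNoetherianRing A] [IsLocalRing A]
    (hA : EGA4.HasGeomNormalFormalFibres A) (I : Ideal A) [Nontrivial (A ⧸ I)] :
    EGA4.HasGeomNormalFormalFibres (A ⧸ I) := by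
  intro qb hqb k' _ _ hfin
  letI alg : Algebra (qb.comap (algebraMap A (A ⧸ I))).ResidueField k' :=
    ((algebraMap qb.ResidueField k').comp (Groth.Agent.Lib.Helper18.FibQuot.resMap A I qb)).toAlgebra
  have hfin' : Module.Finite (qb.comap (algebraMap A (A ⧸ I))).ResidueField k' :=
    Groth.Agent.Lib.Helper18.FibQuot.finite_of_finite A I qb k'
  obtain ⟨e⟩ := Groth.Agent.Lib.Helper18.FibQuot.nonempty_ringEquiv_formalFibre A I qb k' rfl
  exact Groth.Agent.Lib.Helper18.FormFib.isNormalRing_of_ringEquiv e.symm
    (hA (qb.comap (algebraMap A (A ⧸ I))) k' hfin')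

end Groth.Agent.S4754
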