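import Groth.Statements.S9243
import Mathlib
import Groth.Agent.Lib.Helper4.BrnchCompl2
import Groth.Agent.Lib.Helper4.HznNoethC
import Groth.Agent.Lib.Helper21.AdicNoetherian
import Groth.Agent.S9237

set_option autoImplicit false
universe u
open Brnch

namespace Groth.Agent.S9243

open Groth.Agent.Lib.Helper4 in
/-- Let A be a Noetherian local ring with henselization S and completion A^, and ψ : S → A^ the ring map
compatible with the structure maps from A. Then A and A^ have the same number of branches if and
only if, for every minimal prime q of S, the radical of the extension of q along ψ is a prime ideal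
of A^. -/
theorem result (A S : Type u) [CommRing A] [IsLocalRing A]
    [IsNoetherianRing A] [CommRing S] [IsLocalRing S] [Algebra A S] [IsLocalHom (algebraMap A S)]
    [Hensel.IsHenselization A S] (ψ : S →+* AdicCompletion (IsLocalRing.maximalIdeal A) A)
    (hψ : ψ.comp (algebraMap A S) = algebraMap A (AdicCompletion (IsLocalRing.maximalIdeal A) A)) :
    Brnch.numBranches A = Brnch.numBranches (AdicCompletion (IsLocalRing.maximalIdeal A) A) ↔
      ∀ q ∈ minimalPrimes S, (Ideal.map ψ q).radical.IsPrime := by
  have hH := BrnchCompl.henselianLocalRing_adicCompletion A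
  have hidloc : IsLocalHom (algebraMap (AdicCompletion (IsLocalRing.maximalIdeal A) A)
      (AdicCompletion (IsLocalRing.maximalIdeal A) A)) := ⟨fun a ha => ha⟩
  have hself : Hensel.IsHenselization (AdicCompletion (IsLocalRing.maximalIdeal A) A)
      (AdicCompletion (IsLocalRing.maximalIdeal A) A) := Hzn.isHenselization_self _
  rw [← Groth.Agent.S9237.result A S,
    ← Groth.Agent.S9237.result (AdicCompletion (IsLocalRing.maximalIdeal A) A)
      (AdicCompletion (IsLocalRing.maximalIdeal A) A)]
  let _ : Algebra S (AdicCompletion (IsLocalRing.maximalIdeal A) A) := ψ.toAlgebra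
  have : IsScalarTower A S (AdicCompletion (IsLocalRing.maximalIdeal A) A) :=
    IsScalarTower.of_algebraMap_eq (fun a => (congrArg (fun F => F a) hψ).symm)
  have hff := Hzn.faithfullyFlat_completion_of_isHenselization A S
  have hSn : IsNoetherianRing S := (Hzn.isNoetherianRing_iff_of_isHenselization A S).mp inferInstance
  have hTn : IsNoetherianRing (AdicCompletion (IsLocalRing.maximalIdeal A) A) :=
    Groth.Agent.Lib.Helper21.isNoetherianRing_adicCompletion_of_fg _ (IsNoetherian.noetherian _)
  exact BrnchCompl.card_eq_iff_radical_isPrime (minimalPrimes.finite_of_isNoetherianRing S)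
    (minimalPrimes.finite_of_isNoetherianRing _)

end Groth.Agent.S9243
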