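import Groth.Statements.S9231
import Mathlib
import Groth.Agent.Lib.Helper9.FFDescent
import Groth.Agent.Lib.Helper9.FlatCrit
import Groth.Agent.Lib.Helper21.AdicNoetherian

set_option autoImplicit false
universe u
open CAlg

namespace Groth.Agent.S9231

open TensorProduct


/-- For a local ring map A → B between Noetherian local rings, let ψ be the induced map from the
completion of A at its maximal ideal to that of B (here: a ring map of the completions whose
composite with A → A^ is the composite A → B → B^; since A is Noetherian such a map is unique, hence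
is the canonical one). Then ψ is flat exactly when A → B is flat. -/
theorem result (A B : Type u) [CommRing A] [CommRing B] [IsLocalRing A]
    [IsLocalRing B] [IsNoetherianRing A] [IsNoetherianRing B] [Algebra A B]
    [IsLocalHom (algebraMap A B)]
    (ψ : AdicCompletion (IsLocalRing.maximalIdeal A) A →+* AdicCompletion (IsLocalRing.maximalIdeal B) B)
    (hψ : ψ.comp (algebraMap A (AdicCompletion (IsLocalRing.maximalIdeal A) A)) =
      (algebraMap B (AdicCompletion (IsLocalRing.maximalIdeal B) B)).comp (algebraMap A B)) :
    ψ.Flat ↔ (algebraMap A B).Flat := by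
  classical
  have hψ' : ψ.comp (algebraMap A (AdicCompletion (IsLocalRing.maximalIdeal A) A)) =
      algebraMap A (AdicCompletion (IsLocalRing.maximalIdeal B) B) := by
    rw [hψ, IsScalarTower.algebraMap_eq A B (AdicCompletion (IsLocalRing.maximalIdeal B) B)]
  have ffBBh : Module.FaithfullyFlat B (AdicCompletion (IsLocalRing.maximalIdeal B) B) :=
    Module.FaithfullyFlat.of_flat_of_isLocalHom
  rw [RingHom.flat_algebraMap_iff]
  constructor
  · intro h
    have h1 : (algebraMap A (AdicCompletion (IsLocalRing.maximalIdeal A) A)).Flat :=
      RingHom.flat_algebraMap_iff.mpr inferInstance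
    have h2 := h1.comp h
    rw [hψ', RingHom.flat_algebraMap_iff] at h2
    exact Groth.Agent.Lib.Helper9.FFDescent.flat_of_faithfullyFlat_comp A B
      (AdicCompletion (IsLocalRing.maximalIdeal B) B)
  · intro h
    have flatABh : Module.Flat A (AdicCompletion (IsLocalRing.maximalIdeal B) B) :=
      Module.Flat.trans A B _
    have nA : IsNoetherianRing (AdicCompletion (IsLocalRing.maximalIdeal A) A) :=
      Groth.Agent.Lib.Helper21.isNoetherianRing_adicCompletion_of_fg _ (IsNoetherian.noetherian _)
    have nB : IsNoetherianRing (AdicCompletion (IsLocalRing.maximalIdeal B) B) :=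
      Groth.Agent.Lib.Helper21.isNoetherianRing_adicCompletion_of_fg _ (IsNoetherian.noetherian _)
    show @Module.Flat _ _ _ _ ψ.toAlgebra.toModule
    let algψ : Algebra (AdicCompletion (IsLocalRing.maximalIdeal A) A)
      (AdicCompletion (IsLocalRing.maximalIdeal B) B) := ψ.toAlgebra
    have tower : IsScalarTower A (AdicCompletion (IsLocalRing.maximalIdeal A) A)
        (AdicCompletion (IsLocalRing.maximalIdeal B) B) :=
      IsScalarTower.of_algebraMap_eq (fun a => (RingHom.congr_fun hψ' a).symm)
    have hmax : (IsLocalRing.maximalIdeal A).map (algebraMap A (AdicCompletion (IsLocalRing.maximalIdeal A) A))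
        = IsLocalRing.maximalIdeal (AdicCompletion (IsLocalRing.maximalIdeal A) A) :=
      (AdicCompletion.maximalIdeal_eq_map).symm
    have hinj : Function.Injective ((IsLocalRing.maximalIdeal (AdicCompletion (IsLocalRing.maximalIdeal A) A)).subtype.rTensor
        (AdicCompletion (IsLocalRing.maximalIdeal B) B)) := by
      rw [← hmax]
      refine Groth.Agent.Lib.Helper9.rTensor_map_subtype_injective (R := A) (IsLocalRing.maximalIdeal A) ?_
      exact Module.Flat.rTensor_preserves_injective_linearMap _ (Submodule.injective_subtype _)
    have hjac : (IsLocalRing.maximalIdeal (AdicCompletion (IsLocalRing.maximalIdeal A) A)).map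
        (algebraMap (AdicCompletion (IsLocalRing.maximalIdeal A) A) (AdicCompletion (IsLocalRing.maximalIdeal B) B))
        ≤ Ideal.jacobson ⊥ := by
      rw [IsLocalRing.jacobson_eq_maximalIdeal _ bot_ne_top, ← hmax, Ideal.map_map]
      show Ideal.map (ψ.comp _) _ ≤ _
      rw [hψ, ← Ideal.map_map, AdicCompletion.maximalIdeal_eq_map (R := B)]
      exact Ideal.map_mono (((IsLocalRing.local_hom_TFAE (algebraMap A B)).out 0 2).mp ‹_›)
    let fld : Field (AdicCompletion (IsLocalRing.maximalIdeal A) A ⧸
        IsLocalRing.maximalIdeal (AdicCompletion (IsLocalRing.maximalIdeal A) A)) :=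
      Ideal.Quotient.field _
    have : Module.Flat (AdicCompletion (IsLocalRing.maximalIdeal A) A ⧸
        IsLocalRing.maximalIdeal (AdicCompletion (IsLocalRing.maximalIdeal A) A))
        ((AdicCompletion (IsLocalRing.maximalIdeal A) A ⧸
        IsLocalRing.maximalIdeal (AdicCompletion (IsLocalRing.maximalIdeal A) A)) ⊗[AdicCompletion (IsLocalRing.maximalIdeal A) A]
          (AdicCompletion (IsLocalRing.maximalIdeal B) B)) :=
      @Module.Flat.of_free _ _ _ _ _ (Module.Free.of_divisionRing _ _)
    exact Groth.Agent.Lib.Helper9.flat_of_rTensor_injective_of_le_jacobson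
      (S := AdicCompletion (IsLocalRing.maximalIdeal B) B)
      (IsLocalRing.maximalIdeal (AdicCompletion (IsLocalRing.maximalIdeal A) A)) hjac hinj

end Groth.Agent.S9231
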