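import Groth.Statements.S9525
import Mathlib
import Mathlib
import Groth.Agent.Lib.Helper29.QCohFinite
import Groth.Agent.Lib.Helper29.QCohRestrict
import Groth.Agent.Lib.Helper29.QCohCrit

set_option autoImplicit false
universe u
open Coherent

namespace Groth.Agent.S9525


open CategoryTheory CategoryTheory.Limits AlgebraicGeometry
section helpers

open CategoryTheory CategoryTheory.Limits AlgebraicGeometry TopologicalSpace Opposite
open Groth.Agent.Lib.Helper29.QCoh

variable {X : Scheme.{u}}

/-- Injectivity of the stalk map is equivalent to vanishing of the stalk of the kernel. -/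
theorem stalkMap_injective_iff {G F : X.Modules} (φ : G ⟶ F) (y : X) :
    Function.Injective (stalkMap φ y) ↔ Subsingleton ((kernel φ).presheaf.stalk y) := by
  have hex : (ShortComplex.mk (kernel.ι φ) φ (kernel.condition φ)).Exact :=
    ShortComplex.exact_of_f_is_kernel _ (kernelIsKernel φ)
  have h1 := (exact_iff_stalk_function_exact _).mp hex y
  have h2 : Function.Injective (stalkMap (kernel.ι φ) y) :=
    (mono_iff_stalkMap_injective (kernel.ι φ)).mp inferInstance y
  constructor
  · intro hinj
    refine ⟨fun a b => h2 ?_⟩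
    have ha : stalkMap φ y (stalkMap (kernel.ι φ) y a) = 0 := (h1 _).mpr ⟨a, rfl⟩
    have hb : stalkMap φ y (stalkMap (kernel.ι φ) y b) = 0 := (h1 _).mpr ⟨b, rfl⟩
    exact hinj (ha.trans hb.symm)
  · intro hs
    rw [injective_iff_map_eq_zero]
    intro a ha
    obtain ⟨k, rfl⟩ := (h1 a).mp ha
    rw [Subsingleton.elim k 0, map_zero]

/-- Surjectivity of the stalk map is equivalent to vanishing of the stalk of the cokernel. -/
theorem stalkMap_surjective_iff {G F : X.Modules} (φ : G ⟶ F) (y : X) :
    Function.Surjective (stalkMap φ y) ↔ Subsingleton ((cokernel φ).presheaf.stalk y) := by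
  have hex : (ShortComplex.mk φ (cokernel.π φ) (cokernel.condition φ)).Exact :=
    ShortComplex.exact_of_g_is_cokernel _ (cokernelIsCokernel φ)
  have h1 := (exact_iff_stalk_function_exact _).mp hex y
  have h2 : Function.Surjective (stalkMap (cokernel.π φ) y) :=
    (epi_iff_stalkMap_surjective (cokernel.π φ)).mp inferInstance y
  constructor
  · intro hsurj
    refine ⟨fun a b => ?_⟩
    obtain ⟨a', rfl⟩ := h2 a
    obtain ⟨b', rfl⟩ := h2 b
    rw [(h1 a').mpr (hsurj a'), (h1 b').mpr (hsurj b')]
  · intro hs b
    exact (h1 b).mp (Subsingleton.elim _ _)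

theorem stalkMap_restrict_iff {G F : X.Modules} (φ : G ⟶ F) (U : X.Opens) (y : U) :
    (Function.Injective (stalkMap ((Scheme.Modules.restrictFunctor U.ι).map φ) y) ↔
      Function.Injective (stalkMap φ (U.ι y))) ∧
    (Function.Surjective (stalkMap ((Scheme.Modules.restrictFunctor U.ι).map φ) y) ↔
      Function.Surjective (stalkMap φ (U.ι y))) := by
  have hnat := (Scheme.Modules.restrictStalkNatIso U.ι y).hom.naturality φ
  have hnat' : ∀ a, (restrictStalkIso U.ι F y).hom
      (stalkMap ((Scheme.Modules.restrictFunctor U.ι).map φ) y a) =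
      stalkMap φ (U.ι y) ((restrictStalkIso U.ι G y).hom a) := by
    intro a
    exact congrArg (fun k => k.hom a) hnat
  have bG : Function.Bijective (restrictStalkIso U.ι G y).hom :=
    ConcreteCategory.bijective_of_isIso (restrictStalkIso U.ι G y).hom
  have bF : Function.Bijective (restrictStalkIso U.ι F y).hom :=
    ConcreteCategory.bijective_of_isIso (restrictStalkIso U.ι F y).hom
  constructor
  · constructor
    · intro h a b hab
      obtain ⟨a', rfl⟩ := bG.2 a
      obtain ⟨b', rfl⟩ := bG.2 b
      rw [← hnat', ← hnat'] at hab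
      rw [h (bF.1 hab)]
    · intro h a b hab
      apply bG.1
      apply h
      rw [← hnat', ← hnat', hab]
  · constructor
    · intro h b
      obtain ⟨b', rfl⟩ := bF.2 b
      obtain ⟨a, rfl⟩ := h b'
      exact ⟨_, (hnat' a).symm⟩
    · intro h b
      obtain ⟨a, ha⟩ := h ((restrictStalkIso U.ι F y).hom b)
      obtain ⟨a', rfl⟩ := bG.2 a
      refine ⟨a', bF.1 ?_⟩
      rw [hnat', ha]

end helpers

open Groth.Agent.Lib.Helper29.QCoh TopologicalSpace Opposite

open CategoryTheory CategoryTheory.Limits AlgebraicGeometry in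
/-- Let X be a locally Noetherian scheme, F and G coherent O_X-modules, φ : G → F a morphism and x ∈ X.
(1) If F_x = 0 there is an open neighbourhood U of x with F|_U = 0. (2) If the stalk map φ_x : G_x →
F_x is injective there is an open neighbourhood U of x with φ|_U injective. (4) If φ_x is bijective
there is an open neighbourhood U of x with φ|_U an isomorphism. (Part (3), surjectivity, is the
finite-type statement valid on any ringed space and is not restated.) -/
theorem result (X : Scheme.{u}) [IsLocallyNoetherian X]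
    (F G : X.Modules) (hF : Coh.IsCoh F) (hG : Coh.IsCoh G) (φ : G ⟶ F) (x : X) :
    (Subsingleton ↑(F.presheaf.stalk x) →
      ∃ U : X.Opens, x ∈ U ∧ IsZero ((Scheme.Modules.restrictFunctor U.ι).obj F)) ∧
    (Function.Injective ((TopCat.Presheaf.stalkFunctor _ x).map φ.mapPresheaf).hom →
      ∃ U : X.Opens, x ∈ U ∧ Mono ((Scheme.Modules.restrictFunctor U.ι).map φ)) ∧
    (Function.Bijective ((TopCat.Presheaf.stalkFunctor _ x).map φ.mapPresheaf).hom →
      ∃ U : X.Opens, x ∈ U ∧ IsIso ((Scheme.Modules.restrictFunctor U.ι).map φ)) := by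

  haveI : F.IsQuasicoherent := hF.1
  haveI : F.IsFiniteType := hF.2
  haveI : G.IsQuasicoherent := hG.1
  haveI : G.IsFiniteType := hG.2
  haveI : (kernel φ).IsFiniteType := isFiniteType_kernel φ
  haveI : (cokernel φ).IsFiniteType := isFiniteType_cokernel φ
  have hOF := isOpen_setOf_subsingleton_stalk F
  have hOK := isOpen_setOf_subsingleton_stalk (kernel φ)
  have hOC := isOpen_setOf_subsingleton_stalk (cokernel φ)
  refine ⟨fun h => ?_, fun h => ?_, fun h => ?_⟩
  · refine ⟨⟨_, hOF⟩, h, ?_⟩
    rw [isZero_iff_stalk_subsingleton]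
    intro y
    have hy : Subsingleton (F.presheaf.stalk (Scheme.Opens.ι _ y)) := y.2
    exact (ConcreteCategory.bijective_of_isIso
      (restrictStalkIso (Scheme.Opens.ι _) F y).hom).1.subsingleton
  · have hx : Subsingleton ((kernel φ).presheaf.stalk x) :=
      (stalkMap_injective_iff φ x).mp h
    refine ⟨⟨_, hOK⟩, hx, ?_⟩
    rw [mono_iff_stalkMap_injective]
    intro y
    rw [(stalkMap_restrict_iff φ _ y).1, stalkMap_injective_iff]
    exact y.2
  · have hx1 : Subsingleton ((kernel φ).presheaf.stalk x) :=
      (stalkMap_injective_iff φ x).mp h.1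
    have hx2 : Subsingleton ((cokernel φ).presheaf.stalk x) :=
      (stalkMap_surjective_iff φ x).mp h.2
    refine ⟨⟨_, hOK.inter hOC⟩, ⟨hx1, hx2⟩, ?_⟩
    rw [isIso_iff_stalkMap_bijective]
    intro y
    refine ⟨?_, ?_⟩
    · rw [(stalkMap_restrict_iff φ _ y).1, stalkMap_injective_iff]
      exact y.2.1
    · rw [(stalkMap_restrict_iff φ _ y).2, stalkMap_surjective_iff]
      exact y.2.2

end Groth.Agent.S9525
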