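import Groth.Statements.S13136
import Groth.Agent.Lib.Helper9.TruncWitt
import Groth.Agent.Lib.Helper9.FlatCrit

set_option autoImplicit false
universe u v
open FrobAlg

namespace Groth.Agent.S13136

open TensorProduct


/-- For a perfect field k of characteristic p, a module M over the Witt vectors W₂(k) of length two is
flat if and only if every element of M annihilated by p lies in pM, i.e. the map M/pM → pM, m ↦ pm,
is injective. -/
theorem result
    (p : ℕ) [Fact p.Prime] (k : Type u) [Field k] [CharP k p] [PerfectRing k p]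
    (M : Type v) [AddCommGroup M] [Module (FrobAlg.W2 p k) M] :
    Module.Flat (FrobAlg.W2 p k) M ↔
      ∀ m : M, (p : FrobAlg.W2 p k) • m = 0 → ∃ m' : M, m = (p : FrobAlg.W2 p k) • m' := by
  have hp2 : (p : FrobAlg.W2 p k) * (p : FrobAlg.W2 p k) = 0 := by
    have := Groth.Agent.Lib.Helper9.TruncWitt.p_pow_eq_zero p k 1
    rw [pow_two] at this
    exact this
  have hmax : IsLocalRing.maximalIdeal (FrobAlg.W2 p k) = Ideal.span {(p : FrobAlg.W2 p k)} :=
    Groth.Agent.Lib.Helper9.TruncWitt.maximalIdeal_eq p k 1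
  have hpne : (p : FrobAlg.W2 p k) ≠ 0 := by
    intro h
    have h1 : (p : FrobAlg.W2 p k) = WittVector.truncate 2 (p : WittVector p k) := by
      rw [map_natCast]
    rw [h1] at h
    have h2 := congrArg (fun x => TruncatedWittVector.coeff (1 : Fin 2) x) h
    simp only [WittVector.coeff_truncate, TruncatedWittVector.coeff_zero] at h2
    rw [show ((1 : Fin 2) : ℕ) = 1 from rfl, WittVector.coeff_p_one] at h2
    exact one_ne_zero h2
  have hann : ∀ x : FrobAlg.W2 p k, (p : FrobAlg.W2 p k) * x = 0 →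
      ∃ y, x = (p : FrobAlg.W2 p k) * y := by
    intro x hx
    by_cases hu : IsUnit x
    · exact absurd (hu.mul_left_eq_zero.mp hx) hpne
    · have hx' : x ∈ IsLocalRing.maximalIdeal (FrobAlg.W2 p k) := hu
      rw [hmax, Ideal.mem_span_singleton'] at hx'
      obtain ⟨y, hy⟩ := hx'
      exact ⟨y, by rw [← hy, mul_comm]⟩
  constructor
  · intro hflat m hm
    let g : FrobAlg.W2 p k →ₗ[FrobAlg.W2 p k] FrobAlg.W2 p k :=
      (p : FrobAlg.W2 p k) • LinearMap.id
    have hex : Function.Exact g g := by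
      intro y
      change (p : FrobAlg.W2 p k) • y = 0 ↔ y ∈ Set.range g
      constructor
      · intro hy
        obtain ⟨z, rfl⟩ := hann y hy
        exact ⟨z, rfl⟩
      · rintro ⟨z, rfl⟩
        change (p : FrobAlg.W2 p k) • ((p : FrobAlg.W2 p k) • z) = 0
        rw [smul_smul, hp2, zero_smul]
    have hex' := Module.Flat.rTensor_exact M hex
    have hg : g.rTensor M = (p : FrobAlg.W2 p k) • LinearMap.id := by
      rw [LinearMap.rTensor_smul, LinearMap.rTensor_id]
    rw [hg] at hex'
    have h1 : ((p : FrobAlg.W2 p k) • LinearMap.id :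
        FrobAlg.W2 p k ⊗[FrobAlg.W2 p k] M →ₗ[FrobAlg.W2 p k] _) ((1 : FrobAlg.W2 p k) ⊗ₜ m) = 0 := by
      change (p : FrobAlg.W2 p k) • ((1 : FrobAlg.W2 p k) ⊗ₜ[FrobAlg.W2 p k] m) = 0
      rw [← tmul_smul, hm, tmul_zero]
    obtain ⟨z, hz⟩ := (hex' _).mp h1
    refine ⟨TensorProduct.lid _ M z, ?_⟩
    have h2 := congrArg (TensorProduct.lid (FrobAlg.W2 p k) M) hz
    change TensorProduct.lid (FrobAlg.W2 p k) M ((p : FrobAlg.W2 p k) • z) = _ at h2
    rw [map_smul, TensorProduct.lid_tmul, one_smul] at h2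
    exact h2.symm
  · intro h
    let I : Ideal (FrobAlg.W2 p k) := Ideal.span {(p : FrobAlg.W2 p k)}
    have hpI : (p : FrobAlg.W2 p k) ∈ I := Ideal.subset_span rfl
    have hnil : IsNilpotent I := ⟨2, by
      change Ideal.span {(p : FrobAlg.W2 p k)} ^ 2 = 0
      rw [Ideal.span_singleton_pow, pow_two, hp2]
      simp⟩
    have hform : ∀ x : I ⊗[FrobAlg.W2 p k] M, ∃ m : M, x = (⟨p, hpI⟩ : I) ⊗ₜ m := by
      intro x
      induction x using TensorProduct.induction_on with
      | zero => exact ⟨0, by simp⟩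
      | tmul a m =>
        obtain ⟨a, ha⟩ := a
        obtain ⟨w, rfl⟩ := Ideal.mem_span_singleton'.mp ha
        refine ⟨w • m, ?_⟩
        rw [← smul_tmul]
        rfl
      | add x y hx hy =>
        obtain ⟨m₁, rfl⟩ := hx
        obtain ⟨m₂, rfl⟩ := hy
        exact ⟨m₁ + m₂, by rw [tmul_add]⟩
    have hinj : Function.Injective (I.subtype.rTensor M) := by
      rw [injective_iff_map_eq_zero]
      intro x hx
      obtain ⟨m, rfl⟩ := hform x
      rw [LinearMap.rTensor_tmul] at hx
      have h1 := congrArg (TensorProduct.lid (FrobAlg.W2 p k) M) hx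
      rw [TensorProduct.lid_tmul, map_zero] at h1
      obtain ⟨m', rfl⟩ := h m h1
      rw [← smul_tmul]
      have : (p : FrobAlg.W2 p k) • (⟨p, hpI⟩ : I) = 0 := by
        apply Subtype.ext
        exact hp2
      rw [this, zero_tmul]
    have hfld : Module.Flat (FrobAlg.W2 p k ⧸ I) ((FrobAlg.W2 p k ⧸ I) ⊗[FrobAlg.W2 p k] M) := by
      have hImax : I.IsMaximal := by
        change (Ideal.span {(p : FrobAlg.W2 p k)}).IsMaximal
        rw [← hmax]
        infer_instance
      let _ : Field (FrobAlg.W2 p k ⧸ I) := Ideal.Quotient.field I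
      infer_instance
    exact Groth.Agent.Lib.Helper9.flat_of_isNilpotent_of_rTensor_injective I hnil hinj

end Groth.Agent.S13136
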