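import Groth.Statements.S17972
import Mathlib
import Groth.Agent.Lib.Helper4.HenselEtale
-- import your own Groth.Agent.* helpers here

set_option autoImplicit false
universe u
open Hensel

namespace Groth.Agent.S17972

open MvPolynomial

section helpers

variable {A : Type u} [CommRing A] (n : ℕ)

/-- the renaming into one more variable -/
noncomputable def ren : MvPolynomial (Fin n) A →ₐ[A] MvPolynomial (Fin (n+1)) A :=
  rename Fin.castSucc

/-- the Jacobian determinant polynomial -/
noncomputable def DD (P : Fin n → MvPolynomial (Fin n) A) : MvPolynomial (Fin n) A :=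
  (Matrix.of (fun i j => pderiv j (P i))).det

/-- the relations -/
noncomputable def vv (P : Fin n → MvPolynomial (Fin n) A) :
    Fin (n+1) → MvPolynomial (Fin (n+1)) A :=
  Fin.lastCases (X (Fin.last n) * ren n (DD n P) - 1) (fun i => ren n (P i))

lemma vv_last (P : Fin n → MvPolynomial (Fin n) A) :
    vv n P (Fin.last n) = X (Fin.last n) * ren n (DD n P) - 1 := by
  simp [vv]

lemma vv_castSucc (P : Fin n → MvPolynomial (Fin n) A) (i : Fin n) :
    vv n P i.castSucc = ren n (P i) := by
  simp [vv]

lemma pderiv_last_ren (p : MvPolynomial (Fin n) A) :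
    pderiv (Fin.last n) (ren n p) = 0 := by
  classical
  apply pderiv_eq_zero_of_notMem_vars
  intro h
  have := vars_rename (Fin.castSucc : Fin n → Fin (n+1)) p h
  simp only [Finset.mem_image] at this
  obtain ⟨j, -, hj⟩ := this
  exact (Fin.castSucc_lt_last j).ne hj

lemma pderiv_castSucc_ren (p : MvPolynomial (Fin n) A) (i : Fin n) :
    pderiv i.castSucc (ren n p) = ren n (pderiv i p) :=
  pderiv_rename (Fin.castSucc_injective n) i p

lemma det_jac (P : Fin n → MvPolynomial (Fin n) A) :
    (Matrix.of (fun i j : Fin (n+1) => pderiv i (vv n P j))).det =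
      ren n (DD n P) * ren n (DD n P) := by
  rw [Matrix.det_succ_row _ (Fin.last n), Fin.sum_univ_castSucc]
  have h1 : ∀ j : Fin n, (Matrix.of (fun i j : Fin (n+1) => pderiv i (vv n P j)))
      (Fin.last n) j.castSucc = 0 := by
    intro j
    simp only [Matrix.of_apply, vv_castSucc, pderiv_last_ren]
  have h2 : (Matrix.of (fun i j : Fin (n+1) => pderiv i (vv n P j)))
      (Fin.last n) (Fin.last n) = ren n (DD n P) := by
    simp only [Matrix.of_apply, vv_last]
    simp [pderiv_last_ren, Derivation.leibniz]
  have h3 : ((Matrix.of (fun i j : Fin (n+1) => pderiv i (vv n P j))).submatrix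
      (Fin.last n).succAbove (Fin.last n).succAbove) =
      Matrix.transpose ((ren n).mapMatrix (Matrix.of (fun i j => pderiv j (P i)))) := by
    ext i j
    simp only [Matrix.submatrix_apply, Fin.succAbove_last, Matrix.of_apply, vv_castSucc,
      pderiv_castSucc_ren, Matrix.transpose_apply, AlgHom.mapMatrix_apply, Matrix.map_apply]
  rw [h2, h3, Matrix.det_transpose, ← AlgHom.map_det]
  simp only [h1, mul_zero, zero_mul, Finset.sum_const_zero, zero_add]
  rw [← two_mul, pow_mul]
  simp [DD]


/-- the quotient ring -/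
abbrev RR (P : Fin n → MvPolynomial (Fin n) A) : Type u :=
  MvPolynomial (Fin (n+1)) A ⧸ Ideal.span (Set.range (vv n P))

lemma isUnit_mk_renD (P : Fin n → MvPolynomial (Fin n) A) :
    IsUnit (Ideal.Quotient.mk (Ideal.span (Set.range (vv n P))) (ren n (DD n P))) := by
  have h : Ideal.Quotient.mk (Ideal.span (Set.range (vv n P))) (vv n P (Fin.last n)) = 0 :=
    Ideal.Quotient.eq_zero_iff_mem.mpr (Ideal.subset_span ⟨_, rfl⟩)
  rw [vv_last, map_sub, map_mul, map_one, sub_eq_zero] at h
  exact IsUnit.of_mul_eq_one _ (by rw [mul_comm]; exact h)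

instance etale_RR (P : Fin n → MvPolynomial (Fin n) A) : Algebra.Etale A (RR n P) := by
  classical
  let Q₀ : Algebra.PreSubmersivePresentation A (RR n P) (Fin (n+1)) (Fin (n+1)) :=
    Algebra.PreSubmersivePresentation.naive (v := vv n P) id Function.injective_id
  have hjac : IsUnit Q₀.jacobian := by
    rw [Algebra.PreSubmersivePresentation.jacobian_eq_jacobiMatrix_det]
    have : Q₀.jacobiMatrix = Matrix.of (fun i j : Fin (n+1) => pderiv i (vv n P j)) := by
      funext i j
      exact Algebra.PreSubmersivePresentation.jacobiMatrix_naive (R := A) (v := vv n P) id Function.injective_id _ _ i j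
    rw [this, det_jac]
    change IsUnit (Ideal.Quotient.mk _ _)
    rw [map_mul]
    exact (isUnit_mk_renD n P).mul (isUnit_mk_renD n P)
  let Q : Algebra.SubmersivePresentation A (RR n P) (Fin (n+1)) (Fin (n+1)) :=
    { Q₀ with jacobian_isUnit := hjac }
  have : Algebra.IsStandardSmoothOfRelativeDimension 0 A (RR n P) :=
    Q.isStandardSmoothOfRelativeDimension (by simp [Algebra.Presentation.dimension])
  infer_instance

end helpers

/-- Let A be a henselian local ring with maximal ideal m, let P_1, …, P_n be polynomials over A in n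
variables and a₀ ∈ A^n a point with P_i(a₀) ∈ m for all i whose Jacobian determinant
det(∂P_i/∂T_j)(a₀) is a unit of A, i.e. nonzero in the residue field. Then there is a ∈ A^n
congruent to a₀ modulo m in each coordinate with P_i(a) = 0 for all i. -/
theorem result
    (A : Type u) [CommRing A] [HenselianLocalRing A] (n : ℕ)
    (P : Fin n → MvPolynomial (Fin n) A) (a₀ : Fin n → A)
    (h₀ : ∀ i, MvPolynomial.eval a₀ (P i) ∈ IsLocalRing.maximalIdeal A)
    (hJ : IsUnit (Matrix.of (fun i j => MvPolynomial.eval a₀ (MvPolynomial.pderiv j (P i)))).det) :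
    ∃ a : Fin n → A, (∀ i, MvPolynomial.eval a (P i) = 0) ∧
      ∀ j, a j - a₀ j ∈ IsLocalRing.maximalIdeal A := by
  classical
  obtain ⟨κ, hκ⟩ : ∃ κ, κ = IsLocalRing.ResidueField A := ⟨_, rfl⟩
  let res : A →+* IsLocalRing.ResidueField A := IsLocalRing.residue A
  -- the value of the jacobian determinant at `a₀`
  have hD : eval a₀ (DD n P) =
      (Matrix.of (fun i j => eval a₀ (pderiv j (P i)))).det := by
    rw [DD, RingHom.map_det]
    rfl
  have hd : res (eval a₀ (DD n P)) ≠ 0 := by
    rw [hD]
    exact (hJ.map res).ne_zero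
  -- the point of `RR` in the residue field
  let pt : Fin (n+1) → IsLocalRing.ResidueField A :=
    Fin.lastCases (res (eval a₀ (DD n P)))⁻¹ (fun i => res (a₀ i))
  let ψ₀ : MvPolynomial (Fin (n+1)) A →+* IsLocalRing.ResidueField A := eval₂Hom res pt
  have hψren : ∀ p : MvPolynomial (Fin n) A, ψ₀ (ren n p) = res (eval a₀ p) := by
    intro p
    change eval₂ res pt (rename Fin.castSucc p) = res (eval a₀ p)
    rw [eval₂_rename]
    have : pt ∘ Fin.castSucc = fun i => res (a₀ i) := by
      funext i
      simp [pt]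
    rw [this, eval₂_comp]
    rfl
  have hψv : ∀ i, ψ₀ (vv n P i) = 0 := by
    intro i
    refine Fin.lastCases ?_ (fun i => ?_) i
    · rw [vv_last, map_sub, map_mul, map_one, hψren]
      have : ψ₀ (X (Fin.last n)) = (res (eval a₀ (DD n P)))⁻¹ := by
        change eval₂ res pt (X (Fin.last n)) = _
        rw [eval₂_X]
        simp [pt]
      rw [this, inv_mul_cancel₀ hd, sub_self]
    · rw [vv_castSucc, hψren]
      exact (IsLocalRing.residue_eq_zero_iff _).mpr (h₀ i)
  have hle : Ideal.span (Set.range (vv n P)) ≤ RingHom.ker ψ₀ := by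
    rw [Ideal.span_le]
    rintro _ ⟨i, rfl⟩
    exact hψv i
  let ψ : RR n P →+* IsLocalRing.ResidueField A := Ideal.Quotient.lift _ ψ₀ (fun x hx => hle hx)
  have hψmk : ∀ x, ψ (Ideal.Quotient.mk _ x) = ψ₀ x := fun x => Ideal.Quotient.lift_mk _ _ _
  have hψalg : ∀ a : A, ψ (algebraMap A (RR n P) a) = res a := by
    intro a
    have : algebraMap A (RR n P) a = Ideal.Quotient.mk _ (C a) := rfl
    rw [this, hψmk]
    change eval₂ res pt (C a) = _
    rw [eval₂_C]
  have hψsurj : Function.Surjective ψ := by
    intro x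
    obtain ⟨a, rfl⟩ := IsLocalRing.residue_surjective x
    exact ⟨algebraMap A (RR n P) a, hψalg a⟩
  let PP : Ideal (RR n P) := RingHom.ker ψ
  have hPPmax : PP.IsMaximal := RingHom.ker_isMaximal_of_surjective ψ hψsurj
  have hPPprime : PP.IsPrime := hPPmax.isPrime
  have hsurj : Function.Surjective (algebraMap A PP.ResidueField) := by
    intro x
    obtain ⟨r, rfl⟩ := Ideal.algebraMap_residueField_surjective PP x
    obtain ⟨a, ha⟩ := IsLocalRing.residue_surjective (ψ r)
    refine ⟨a, ?_⟩
    rw [IsScalarTower.algebraMap_apply A (RR n P) PP.ResidueField, ← sub_eq_zero, ← map_sub,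
      Ideal.algebraMap_residueField_eq_zero]
    change ψ _ = 0
    rw [map_sub, hψalg, ha, sub_self]
  obtain ⟨σ, hσ⟩ := Groth.Agent.Lib.Helper4.exists_section_of_etale_of_henselian PP hsurj
  refine ⟨fun i => σ (Ideal.Quotient.mk _ (X i.castSucc)), ?_, ?_⟩
  · intro i
    have h1 : σ (Ideal.Quotient.mk _ (ren n (P i))) = 0 := by
      have : Ideal.Quotient.mk (Ideal.span (Set.range (vv n P))) (ren n (P i)) = 0 := by
        rw [← vv_castSucc]
        exact Ideal.Quotient.eq_zero_iff_mem.mpr (Ideal.subset_span ⟨_, rfl⟩)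
      rw [this, map_zero]
    rw [← h1]
    let τ : MvPolynomial (Fin (n+1)) A →ₐ[A] A := σ.comp (Ideal.Quotient.mkₐ A _)
    change _ = τ (ren n (P i))
    have : τ.comp (ren n) = aeval (fun i : Fin n => σ (Ideal.Quotient.mk _ (X i.castSucc))) := by
      apply MvPolynomial.algHom_ext
      intro j
      simp [τ, ren]
    rw [← AlgHom.comp_apply, this]
    rfl
  · intro j
    have h1 : (Ideal.Quotient.mk (Ideal.span (Set.range (vv n P))) (X j.castSucc)) -
        algebraMap A (RR n P) (a₀ j) ∈ PP := by
      change ψ _ = 0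
      rw [map_sub, hψalg, hψmk]
      change eval₂ res pt (X j.castSucc) - _ = 0
      rw [eval₂_X]
      simp [pt]
    rw [hσ, Ideal.mem_comap] at h1
    simpa using h1

end Groth.Agent.S17972
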