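import Groth.Statements.S19232
import Mathlib.LinearAlgebra.Dimension.Constructions
import Mathlib.LinearAlgebra.LinearIndependent.Lemmas
import Mathlib.LinearAlgebra.FiniteDimensional.Lemmas

set_option autoImplicit false
universe u v
open SigmaLin

namespace Groth.Agent.S19232

/-- auxiliary: existence of `n` with `e, Te, …, T^n e` independent and `T^(n+1) e` in their span. -/
lemma exists_minimal_relation {k : Type u} [Field k]
    {V : Type v} [AddCommGroup V] [Module k V] [FiniteDimensional k V] (w : ℕ → V) (h0 : w 0 ≠ 0) :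
    ∃ n : ℕ, LinearIndependent k (fun i : Fin (n + 1) => w i) ∧
      ∃ a : Fin (n + 1) → k, w (n + 1) = ∑ i : Fin (n + 1), a i • w i := by
  classical
  have hex : ∃ N, ¬ LinearIndependent k (fun i : Fin N => w i) := by
    refine ⟨Module.finrank k V + 1, fun h => ?_⟩
    have := h.fintype_card_le_finrank
    simp at this
  have hmin : ∀ m, m < Nat.find hex → ¬ ¬ LinearIndependent k (fun i : Fin m => w i) :=
    fun m hm => Nat.find_min hex hm
  have hspec := Nat.find_spec hex
  set N := Nat.find hex with hN
  rcases Nat.eq_zero_or_eq_succ_pred N with h | h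
  · rw [h] at hspec
    exact absurd linearIndependent_empty_type hspec
  set M := N.pred with hM
  have hLI : LinearIndependent k (fun i : Fin M => w i) := by
    have := hmin M (by lia)
    simpa using this
  rw [h, linearIndependent_finSucc'] at hspec
  have hinit : Fin.init (fun i : Fin (M + 1) => w i) = fun i : Fin M => w i := by
    ext i; simp [Fin.init]
  rw [hinit] at hspec
  have hmem : w M ∈ Submodule.span k (Set.range fun i : Fin M => w i) := by
    by_contra hcon
    exact hspec ⟨hLI, by simpa using hcon⟩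
  rcases Nat.eq_zero_or_eq_succ_pred M with h' | h'
  · exfalso
    rw [h'] at hmem
    have : (Set.range fun i : Fin 0 => w i) = ∅ := Set.range_eq_empty _
    rw [this, Submodule.span_empty, Submodule.mem_bot] at hmem
    exact h0 hmem
  · refine ⟨M.pred, ?_, ?_⟩
    · rw [← Nat.succ_eq_add_one, ← h']; exact hLI
    · rw [← Nat.succ_eq_add_one, ← h']
      obtain ⟨c, hc⟩ := (Submodule.mem_span_range_iff_exists_fun k).mp hmem
      exact ⟨c, hc.symm⟩

/-- Let k be a field with a ring endomorphism σ, and assume that for every n and every tuple (b_0, …,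
b_n) of elements of k, not all zero, the equation x = Σ_{i=0}^{n} σ^{i+1}(x) σ^{i}(b_{n-i}) has a
nonzero solution x in k. Let V be a finite-dimensional k-vector space, T : V → V additive with T (c
• v) = σ c • T v, and e ∈ V a vector no iterate of T sends to 0. Then the k-span of the orbit e, T
e, T² e, … contains a nonzero vector v with T v = v. -/
theorem result
    (k : Type u) [Field k] (σ : k →+* k)
    (V : Type v) [AddCommGroup V] [Module k V] [FiniteDimensional k V] (T : V →ₛₗ[σ] V)
    (h2 : ∀ (n : ℕ) (b : Fin (n + 1) → k), b ≠ 0 →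
      ∃ x : k, x ≠ 0 ∧ x = ∑ i : Fin (n + 1), (⇑σ)^[i.val + 1] x * (⇑σ)^[i.val] (b (Fin.rev i)))
    (e : V) (he : ∀ m : ℕ, (⇑T)^[m] e ≠ 0) :
    ∃ v ∈ Submodule.span k (Set.range (fun m : ℕ => (⇑T)^[m] e)), v ≠ 0 ∧ T v = v := by
  classical
  set w : ℕ → V := fun m => (⇑T)^[m] e with hw
  have hTw : ∀ m, T (w m) = w (m + 1) := fun m => (Function.iterate_succ_apply' _ _ _).symm
  obtain ⟨n, hLI, a, ha⟩ := exists_minimal_relation (k := k) w (he 0)
  have ha0 : a ≠ 0 := by
    rintro rfl
    simp only [Pi.zero_apply, zero_smul, Finset.sum_const_zero] at ha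
    exact he (n + 1) ha
  obtain ⟨y, hy0, hy⟩ := h2 n a ha0
  -- extend `a` to ℕ
  set a' : ℕ → k := fun i => if h : i < n + 1 then a ⟨i, h⟩ else 0 with ha'
  have ha'i : ∀ i : Fin (n + 1), a' i = a i := fun i => by
    simp only [ha']
    rw [dif_pos i.isLt]
  set x : ℕ → k := fun j => ∑ i ∈ Finset.range (j + 1), (⇑σ)^[i + 1] y * (⇑σ)^[i] (a' (j - i))
    with hx
  have hx0 : x 0 = σ y * a' 0 := by simp [hx]
  have hxs : ∀ j, x (j + 1) = σ (x j) + σ y * a' (j + 1) := by
    intro j
    simp only [hx]
    rw [Finset.sum_range_succ', map_sum]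
    congr 1
    · refine Finset.sum_congr rfl fun i _ => ?_
      rw [map_mul, ← Function.iterate_succ_apply' (⇑σ), ← Function.iterate_succ_apply' (⇑σ),
        Nat.add_sub_add_right]
  have hxn : x n = y := by
    rw [hy]
    simp only [hx]
    rw [← Fin.sum_univ_eq_sum_range
      (fun i => (⇑σ)^[i + 1] y * (⇑σ)^[i] (a' (n - i))) (n + 1)]
    refine Finset.sum_congr rfl fun i _ => ?_
    have : a' (n - i) = a (Fin.rev i) := by
      rw [← ha'i (Fin.rev i)]
      congr 1
      rw [Fin.val_rev]; lia
    rw [this]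
  have hwn : w (n + 1) = ∑ j ∈ Finset.range (n + 1), a' j • w j := by
    rw [ha, ← Fin.sum_univ_eq_sum_range (fun j => a' j • w j) (n + 1)]
    exact Finset.sum_congr rfl fun i _ => by rw [ha'i]
  set v : V := ∑ j ∈ Finset.range (n + 1), x j • w j with hv
  refine ⟨v, ?_, ?_, ?_⟩
  · exact Submodule.sum_mem _ fun j _ =>
      Submodule.smul_mem _ _ (Submodule.subset_span ⟨j, rfl⟩)
  · intro hv0
    rw [hv, ← Fin.sum_univ_eq_sum_range (fun j => x j • w j) (n + 1)] at hv0
    have := (Fintype.linearIndependent_iff.mp hLI) (fun j => x j) hv0 (Fin.last n)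
    simp only [Fin.val_last] at this
    exact hy0 (hxn ▸ this)
  · have h1 : T v = ∑ j ∈ Finset.range n, σ (x j) • w (j + 1) + σ y • w (n + 1) := by
      rw [hv, map_sum, Finset.sum_range_succ]
      simp only [map_smulₛₗ, hTw, hxn]
    have h2' : v = x 0 • w 0 + ∑ j ∈ Finset.range n, x (j + 1) • w (j + 1) := by
      rw [hv, Finset.sum_range_succ', add_comm]
    rw [h1, h2', hwn, Finset.sum_range_succ' (fun j => a' j • w j), hx0]
    simp only [hxs, add_smul, Finset.sum_add_distrib, Finset.smul_sum, smul_add, smul_smul]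
    abel

end Groth.Agent.S19232
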