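import Groth.Statements.S19233
import Mathlib.LinearAlgebra.Dimension.Constructions
import Mathlib.LinearAlgebra.LinearIndependent.Lemmas
import Mathlib.LinearAlgebra.FiniteDimensional.Lemmas
import Mathlib.LinearAlgebra.Quotient.Basic
import Mathlib.LinearAlgebra.Basis.VectorSpace
import Mathlib.Tactic.LinearCombination
import Mathlib.LinearAlgebra.Dimension.OrzechProperty
import Mathlib.LinearAlgebra.Dimension.StrongRankCondition
import Groth.Agent.S19232

set_option autoImplicit false
universe u v
open SigmaLin

namespace Groth.Agent.S19233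

section Aux

variable {k : Type u} [Field k] {σ : k →+* k} {V : Type v} [AddCommGroup V] [Module k V]

/-- a semilinear endomorphism of a finite-dimensional space whose image spans is injective. -/
lemma injective_of_span_range [FiniteDimensional k V] (T : V →ₛₗ[σ] V)
    (h1 : Submodule.span k (Set.range ⇑T) = ⊤) : Function.Injective T := by
  classical
  let b := Module.finBasis k V
  have hspan : ⊤ ≤ Submodule.span k (Set.range (fun i => T (b i))) := by
    rw [← h1]
    apply Submodule.span_le.mpr
    rintro _ ⟨v, rfl⟩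
    rw [← b.sum_repr v, map_sum]
    refine Submodule.sum_mem _ fun i _ => ?_
    rw [map_smulₛₗ]
    exact Submodule.smul_mem _ _ (Submodule.subset_span ⟨i, rfl⟩)
  have hli : LinearIndependent k (fun i => T (b i)) :=
    linearIndependent_of_top_le_span_of_card_eq_finrank hspan (by simp)
  rw [injective_iff_map_eq_zero]
  intro v hv
  rw [← b.sum_repr v, map_sum] at hv
  simp only [map_smulₛₗ] at hv
  have := Fintype.linearIndependent_iff.mp hli (fun i => σ (b.repr v i)) hv
  have hz : ∀ i, b.repr v i = 0 := fun i => (map_eq_zero σ).mp (this i)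
  rw [← b.sum_repr v]
  simp [hz]

/-- the span of the fixed vectors. -/
def fixedSpan (T : V →ₛₗ[σ] V) : Submodule k V := Submodule.span k {v | T v = v}

lemma fixedSpan_le_comap (T : V →ₛₗ[σ] V) : fixedSpan T ≤ (fixedSpan T).comap T := by
  intro w hw
  rw [Submodule.mem_comap]
  induction hw using Submodule.span_induction with
  | mem x hx => rw [show T x = x from hx]; exact Submodule.subset_span hx
  | zero => rw [map_zero]; exact zero_mem _
  | add x y _ _ hx hy => rw [map_add]; exact add_mem hx hy
  | smul a x _ hx => rw [map_smulₛₗ]; exact Submodule.smul_mem _ _ hx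

lemma exists_sub_eq_of_mem_fixedSpan (T : V →ₛₗ[σ] V) (h3 : ∀ c : k, ∃ y : k, σ y - y + c = 0)
    {w : V} (hw : w ∈ fixedSpan T) : ∀ c : k, ∃ w' ∈ fixedSpan T, w' - T w' = c • w := by
  induction hw using Submodule.span_induction with
  | mem x hx =>
    intro c
    obtain ⟨y, hy⟩ := h3 c
    refine ⟨y • x, Submodule.smul_mem _ _ (Submodule.subset_span hx), ?_⟩
    rw [map_smulₛₗ, show T x = x from hx, ← sub_smul]
    congr 1
    linear_combination -hy
  | zero => intro c; exact ⟨0, zero_mem _, by simp⟩
  | add x y _ _ hx hy =>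
    intro c
    obtain ⟨x', hx', hx''⟩ := hx c
    obtain ⟨y', hy', hy''⟩ := hy c
    refine ⟨x' + y', add_mem hx' hy', ?_⟩
    rw [map_add, smul_add, ← hx'', ← hy'']; abel
  | smul a x _ hx =>
    intro c
    obtain ⟨x', hx', hx''⟩ := hx (c * a)
    exact ⟨x', hx', by rw [hx'', mul_smul]⟩

end Aux

/-- Let k be a field with a ring endomorphism σ such that (i) for every n and every tuple (b_0, …, b_n)
in k, not all zero, the equation x = Σ_{i=0}^{n} σ^{i+1}(x) σ^{i}(b_{n-i}) has a nonzero solution x
in k, and (ii) for every c in k there is y in k with σ(y) − y + c = 0. Let V be a finite-dimensional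
k-vector space and T : V → V additive with T (c • v) = σ c • T v, such that the image of T spans V
over k. Then V admits a k-basis consisting of vectors fixed by T, and the map v ↦ v − T v is
surjective. -/
theorem result
    (k : Type u) [Field k] (σ : k →+* k)
    (V : Type v) [AddCommGroup V] [Module k V] [FiniteDimensional k V] (T : V →ₛₗ[σ] V)
    (h1 : Submodule.span k (Set.range ⇑T) = ⊤)
    (h2 : ∀ (n : ℕ) (b : Fin (n + 1) → k), b ≠ 0 →
      ∃ x : k, x ≠ 0 ∧ x = ∑ i : Fin (n + 1), (⇑σ)^[i.val + 1] x * (⇑σ)^[i.val] (b (Fin.rev i)))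
    (h3 : ∀ c : k, ∃ y : k, σ y - y + c = 0) :
    (∃ b : Module.Basis (Fin (Module.finrank k V)) k V, ∀ i, T (b i) = b i) ∧
    Function.Surjective (fun v : V => v - T v) := by
  classical
  set W := fixedSpan T with hW
  have hWtop : W = ⊤ := by
    by_contra hne
    have hlt : W < ⊤ := lt_top_iff_ne_top.mpr hne
    have : Nontrivial (V ⧸ W) := Submodule.Quotient.nontrivial_iff.mpr hne
    let Tq : (V ⧸ W) →ₛₗ[σ] (V ⧸ W) := W.mapQ W T (fixedSpan_le_comap T)
    have hTq : ∀ v : V, Tq (W.mkQ v) = W.mkQ (T v) := fun v => Submodule.mapQ_apply _ _ _ _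
    have hspanq : Submodule.span k (Set.range ⇑Tq) = ⊤ := by
      rw [eq_top_iff]
      intro q hq
      clear hq
      obtain ⟨v, rfl⟩ := W.mkQ_surjective q
      have hv : v ∈ Submodule.span k (Set.range ⇑T) := by rw [h1]; trivial
      induction hv using Submodule.span_induction with
      | mem x hx =>
        obtain ⟨x', rfl⟩ := hx
        exact Submodule.subset_span ⟨W.mkQ x', hTq x'⟩
      | zero => rw [map_zero]; exact zero_mem _
      | add x y _ _ hx hy => rw [map_add]; exact add_mem hx hy
      | smul a x _ hx => rw [map_smul]; exact Submodule.smul_mem _ _ hx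
    have hinj := injective_of_span_range Tq hspanq
    obtain ⟨ē, hē⟩ := exists_ne (0 : V ⧸ W)
    have hiter : ∀ m : ℕ, (⇑Tq)^[m] ē ≠ 0 := by
      intro m h
      apply hē
      apply hinj.iterate m
      rw [h, iterate_map_zero]
    obtain ⟨q, -, hq0, hqfix⟩ := Groth.Agent.S19232.result k σ (V ⧸ W) Tq h2 ē hiter
    obtain ⟨v, rfl⟩ := W.mkQ_surjective q
    rw [hTq] at hqfix
    have hw₀ : T v - v ∈ W := by
      have := (Submodule.Quotient.eq W).mp hqfix
      exact this
    obtain ⟨w', hw', hw''⟩ := exists_sub_eq_of_mem_fixedSpan T h3 hw₀ 1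
    rw [one_smul] at hw''
    have hfix : T (v + w') = v + w' := by
      rw [map_add]
      have : T w' = w' - (T v - v) := by rw [← hw'']; abel
      rw [this]; abel
    have hvW : v + w' ∈ W := Submodule.subset_span hfix
    have : v ∈ W := by
      have := sub_mem hvW hw'
      simpa using this
    exact hq0 ((Submodule.Quotient.mk_eq_zero W).mpr this)
  -- basis of fixed vectors
  obtain ⟨s, hsS, hsspan, hsli⟩ := exists_linearIndependent k {v : V | T v = v}
  have hsfin : s.Finite := hsli.setFinite
  have : Fintype s := hsfin.fintype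
  have hstop : ⊤ ≤ Submodule.span k (Set.range (Subtype.val : s → V)) := by
    rw [Subtype.range_coe, hsspan]
    exact hWtop.ge
  let B₀ : Module.Basis s k V := Module.Basis.mk hsli hstop
  have hcard : Fintype.card s = Module.finrank k V := (Module.finrank_eq_card_basis B₀).symm
  let B : Module.Basis (Fin (Module.finrank k V)) k V := B₀.reindex (Fintype.equivFinOfCardEq hcard)
  have hBfix : ∀ i, T (B i) = B i := by
    intro i
    have : B i = ((Fintype.equivFinOfCardEq hcard).symm i : V) := by
      simp [B, B₀]
    rw [this]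
    exact hsS (Subtype.mem _)
  refine ⟨⟨B, hBfix⟩, ?_⟩
  intro c
  have hc : c ∈ fixedSpan T := by rw [← hW, hWtop]; trivial
  obtain ⟨w', -, hw''⟩ := exists_sub_eq_of_mem_fixedSpan T h3 hc 1
  exact ⟨w', by simpa using hw''⟩

end Groth.Agent.S19233
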