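import Groth.Statements.S6917
import Mathlib
-- import your own Groth.Agent.* helpers here

set_option autoImplicit false
universe u
open CategoryTheory
open EtAlg

namespace Groth.Agent.S6917

section helpers
open CategoryTheory.Limits

/-- criterion for a square of topological spaces to be a pushout -/
theorem top_isPushout {W X Y Z : Type u} [TopologicalSpace W] [TopologicalSpace X]
    [TopologicalSpace Y] [TopologicalSpace Z]
    (f : C(W, X)) (g : C(W, Y)) (h : C(X, Z)) (k : C(Y, Z))
    (comm : ∀ w, h (f w) = k (g w))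
    (hsurj : ∀ z, (∃ x, h x = z) ∨ (∃ y, k y = z))
    (hinj : Function.Injective h)
    (hmix : ∀ x y, h x = k y → ∃ w, f w = x ∧ g w = y)
    (hk : ∀ y y', k y = k y' → y = y' ∨ ∃ w w', g w = y ∧ g w' = y' ∧ f w = f w')
    (hclosed : ∀ T : Set Z, IsClosed (h ⁻¹' T) → IsClosed (k ⁻¹' T) → IsClosed T) :
    IsPushout (TopCat.ofHom f) (TopCat.ofHom g) (TopCat.ofHom h) (TopCat.ofHom k) := by
  classical
  have key : ∀ (s : PushoutCocone (TopCat.ofHom f) (TopCat.ofHom g)),
      ∃ F : C(Z, s.pt), (∀ x, F (h x) = s.inl x) ∧ (∀ y, F (k y) = s.inr y) := by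
    intro s
    have hs : ∀ w, s.inl (f w) = s.inr (g w) := fun w =>
      ConcreteCategory.congr_hom s.condition w
    let F : Z → s.pt := fun z =>
      if hz : ∃ x, h x = z then s.inl hz.choose else s.inr ((hsurj z).resolve_left hz).choose
    have hF1 : ∀ x, F (h x) = s.inl x := by
      intro x
      have hz : ∃ x', h x' = h x := ⟨x, rfl⟩
      simp only [F, dif_pos hz]
      rw [hinj hz.choose_spec]
    have hF2 : ∀ y, F (k y) = s.inr y := by
      intro y
      by_cases hz : ∃ x, h x = k y
      · simp only [F, dif_pos hz]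
        obtain ⟨w, hw1, hw2⟩ := hmix _ _ hz.choose_spec
        rw [← hw1, ← hw2, hs]
      · simp only [F, dif_neg hz]
        have hc := ((hsurj (k y)).resolve_left hz).choose_spec
        rcases hk _ _ hc with h1 | ⟨w, w', h1, h2, h3⟩
        · rw [h1]
        · rw [← h1, ← h2, ← hs, ← hs, h3]
    have hFc : Continuous F := by
      rw [continuous_iff_isClosed]
      intro C hC
      apply hclosed
      · have : h ⁻¹' (F ⁻¹' C) = s.inl ⁻¹' C := by
          ext x
          simp only [Set.mem_preimage, hF1]
        rw [this]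
        exact hC.preimage s.inl.hom.continuous
      · have : k ⁻¹' (F ⁻¹' C) = s.inr ⁻¹' C := by
          ext x
          simp only [Set.mem_preimage, hF2]
        rw [this]
        exact hC.preimage s.inr.hom.continuous
    exact ⟨⟨F, hFc⟩, hF1, hF2⟩
  choose F hF1 hF2 using key
  refine ⟨⟨?_⟩, ⟨PushoutCocone.IsColimit.mk _ (fun s => TopCat.ofHom (F s)) ?_ ?_ ?_⟩⟩
  · ext w
    exact comm w
  · intro s
    ext x
    exact hF1 s x
  · intro s
    ext y
    exact hF2 s y
  · intro s m hm1 hm2
    ext z
    rcases hsurj z with ⟨x, rfl⟩ | ⟨y, rfl⟩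
    · have h1 : m (h x) = s.inl x := ConcreteCategory.congr_hom hm1 x
      have h2 : (TopCat.ofHom (F s)) (h x) = s.inl x := hF1 s x
      rw [h1, h2]
    · have h1 : m (k y) = s.inr y := ConcreteCategory.congr_hom hm2 y
      have h2 : (TopCat.ofHom (F s)) (k y) = s.inr y := hF2 s y
      rw [h1, h2]

variable {B' B A' A : Type u} [CommRing B'] [CommRing B] [CommRing A'] [CommRing A]
    [Algebra B' B] [Algebra B' A'] [Algebra B A] [Algebra A' A] [Algebra B' A]
    [IsScalarTower B' B A] [IsScalarTower B' A' A]

theorem sq_comm (B A' A : Type u) [CommRing B] [CommRing A'] [CommRing A]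
    [Algebra B' B] [Algebra B' A'] [Algebra B A] [Algebra A' A] [Algebra B' A]
    [IsScalarTower B' B A] [IsScalarTower B' A' A] (b' : B') :
    algebraMap B A (algebraMap B' B b') = algebraMap A' A (algebraMap B' A' b') := by
  rw [← IsScalarTower.algebraMap_apply, ← IsScalarTower.algebraMap_apply]

theorem exists_pair (hsq : EtMil.IsFibreSquare B' B A' A) (b : B) (a' : A')
    (h : algebraMap B A b = algebraMap A' A a') :
    ∃ b' : B', algebraMap B' B b' = b ∧ algebraMap B' A' b' = a' := (hsq.2 b a' h).exists

theorem pair_ext (hsq : EtMil.IsFibreSquare B' B A' A) (x y : B')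
    (h1 : algebraMap B' B x = algebraMap B' B y)
    (h2 : algebraMap B' A' x = algebraMap B' A' y) : x = y :=
  (hsq.2 (algebraMap B' B y) (algebraMap B' A' y) (sq_comm B A' A y)).unique ⟨h1, h2⟩ ⟨rfl, rfl⟩

theorem psi_surj (hsq : EtMil.IsFibreSquare B' B A' A) :
    Function.Surjective (algebraMap B' B) := by
  intro b
  obtain ⟨a', ha'⟩ := hsq.1 (algebraMap B A b)
  obtain ⟨b', h1, _⟩ := exists_pair hsq b a' ha'.symm
  exact ⟨b', h1⟩

/-- pairs of the form `(0, i a)` -/
theorem exists_zero_pair (hsq : EtMil.IsFibreSquare B' B A' A) (e : B')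
    (he : algebraMap B' B e = 0) (a : A') :
    ∃ u : B', algebraMap B' B u = 0 ∧ algebraMap B' A' u = algebraMap B' A' e * a := by
  apply exists_pair hsq
  rw [map_zero, map_mul, ← sq_comm B A' A, he, map_zero, zero_mul]

/-- primes of `B'` not containing `ker (B' → B)` come from `A'` -/
theorem exists_prime_over (hsq : EtMil.IsFibreSquare B' B A' A) (q : Ideal B') [hq : q.IsPrime]
    (e : B') (he : algebraMap B' B e = 0) (heq : e ∉ q) :
    ∃ y : Ideal A', y.IsPrime ∧ y.comap (algebraMap B' A') = q ∧
      ∀ J' : Ideal A', J'.comap (algebraMap B' A') ≤ q → J' ≤ y := by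
  classical
  have hmemq : ∀ u v : B', algebraMap B' B u = 0 → algebraMap B' B v = 0 →
      ∀ z : B', algebraMap B' B z = 0 →
      algebraMap B' A' z * algebraMap B' A' e = algebraMap B' A' u * algebraMap B' A' v →
      (u ∈ q ∨ v ∈ q) → z ∈ q := by
    intro u v hu hv z hz hzuv huv
    have h1 : z * e = u * v := by
      apply pair_ext hsq
      · rw [map_mul, map_mul, hz, hu, zero_mul, zero_mul]
      · rw [map_mul, map_mul, hzuv]
    have h2 : z * e ∈ q := by
      rw [h1]
      rcases huv with h | h
      · exact q.mul_mem_right _ h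
      · exact q.mul_mem_left _ h
    exact (hq.mem_or_mem h2).resolve_right heq
  let y : Ideal A' :=
    { carrier := {a | ∃ b' ∈ q, algebraMap B' B b' = 0 ∧
        algebraMap B' A' b' = algebraMap B' A' e * a}
      add_mem' := by
        rintro a a' ⟨x, hx, hx1, hx2⟩ ⟨z, hz, hz1, hz2⟩
        exact ⟨x + z, q.add_mem hx hz, by rw [map_add, hx1, hz1, add_zero],
          by rw [map_add, hx2, hz2, mul_add]⟩
      zero_mem' := ⟨0, q.zero_mem, map_zero _, by rw [map_zero, mul_zero]⟩
      smul_mem' := by
        rintro r a ⟨x, hx, hx1, hx2⟩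
        obtain ⟨z, hz1, hz2⟩ := exists_zero_pair hsq e he (r * a)
        obtain ⟨w, hw1, hw2⟩ := exists_zero_pair hsq e he r
        refine ⟨z, ?_, hz1, by rw [hz2, smul_eq_mul]⟩
        apply hmemq x w hx1 hw1 z hz1 _ (Or.inl hx)
        rw [hz2, hx2, hw2]
        ring }
  have hy : ∀ a, a ∈ y ↔ ∃ b' ∈ q, algebraMap B' B b' = 0 ∧
        algebraMap B' A' b' = algebraMap B' A' e * a := fun a => Iff.rfl
  refine ⟨y, ⟨?_, ?_⟩, ?_, ?_⟩
  · intro htop
    have h1 : (1 : A') ∈ y := by rw [htop]; trivial
    obtain ⟨x, hx, hx1, hx2⟩ := (hy 1).mp h1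
    have : x = e := by
      apply pair_ext hsq
      · rw [hx1, he]
      · rw [hx2, mul_one]
    exact heq (this ▸ hx)
  · intro a a' haa'
    obtain ⟨x, hx, hx1, hx2⟩ := (hy _).mp haa'
    obtain ⟨u, hu1, hu2⟩ := exists_zero_pair hsq e he a
    obtain ⟨u', hu'1, hu'2⟩ := exists_zero_pair hsq e he a'
    have h1 : u * u' = x * e := by
      apply pair_ext hsq
      · rw [map_mul, map_mul, hu1, hx1, zero_mul, zero_mul]
      · rw [map_mul, map_mul, hu2, hu'2, hx2]
        ring
    have h2 : u * u' ∈ q := by
      rw [h1]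
      exact q.mul_mem_right _ hx
    rcases hq.mem_or_mem h2 with h | h
    · exact Or.inl ((hy a).mpr ⟨u, h, hu1, hu2⟩)
    · exact Or.inr ((hy a').mpr ⟨u', h, hu'1, hu'2⟩)
  · ext b'
    rw [Ideal.mem_comap, hy]
    constructor
    · rintro ⟨x, hx, hx1, hx2⟩
      have : x = e * b' := by
        apply pair_ext hsq
        · rw [hx1, map_mul, he, zero_mul]
        · rw [hx2, map_mul]
      rw [this] at hx
      exact (hq.mem_or_mem hx).resolve_left heq
    · intro hb'
      exact ⟨e * b', q.mul_mem_left _ hb', by rw [map_mul, he, zero_mul], by rw [map_mul]⟩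
  · intro J' hJ' a ha
    obtain ⟨u, hu1, hu2⟩ := exists_zero_pair hsq e he a
    refine (hy a).mpr ⟨u, hJ' ?_, hu1, hu2⟩
    rw [Ideal.mem_comap, hu2]
    exact J'.mul_mem_left _ ha

end helpers

/-- Let `B' = B ×_A A'` be a fibre square of rings with `A' → A` surjective. Then `Spec(B') = Spec(B)
⨿_{Spec(A)} Spec(A')`: the square of prime spectra is a pushout of topological spaces. -/
theorem result (B' B A' A : Type u) [CommRing B'] [CommRing B] [CommRing A'] [CommRing A]
    [Algebra B' B] [Algebra B' A'] [Algebra B A] [Algebra A' A] [Algebra B' A] [IsScalarTower B' B A] [IsScalarTower B' A' A]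
    (hsq : EtMil.IsFibreSquare B' B A' A) :
    IsPushout (TopCat.ofHom (ContinuousMap.mk (PrimeSpectrum.comap (algebraMap B A)) (PrimeSpectrum.continuous_comap _))) (TopCat.ofHom (ContinuousMap.mk (PrimeSpectrum.comap (algebraMap A' A)) (PrimeSpectrum.continuous_comap _)))
      (TopCat.ofHom (ContinuousMap.mk (PrimeSpectrum.comap (algebraMap B' B)) (PrimeSpectrum.continuous_comap _)))
      (TopCat.ofHom (ContinuousMap.mk (PrimeSpectrum.comap (algebraMap B' A')) (PrimeSpectrum.continuous_comap _))) := by
  classical
  have hψ := psi_surj hsq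
  have hπ := hsq.1
  -- h injective
  have hinj : Function.Injective (PrimeSpectrum.comap (algebraMap B' B)) :=
    PrimeSpectrum.comap_injective_of_surjective _ hψ
  -- commutativity
  have hcomm : ∀ w : PrimeSpectrum A, PrimeSpectrum.comap (algebraMap B' B)
      (PrimeSpectrum.comap (algebraMap B A) w) =
      PrimeSpectrum.comap (algebraMap B' A') (PrimeSpectrum.comap (algebraMap A' A) w) := by
    intro w
    apply PrimeSpectrum.ext
    ext b'
    simp only [PrimeSpectrum.comap_asIdeal, Ideal.mem_comap]
    rw [sq_comm B A' A]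
  -- primes containing ker ψ come from B
  have hfromB : ∀ q : PrimeSpectrum B', RingHom.ker (algebraMap B' B) ≤ q.asIdeal →
      ∃ x : PrimeSpectrum B, PrimeSpectrum.comap (algebraMap B' B) x = q := by
    intro q hq
    have : q ∈ Set.range (PrimeSpectrum.comap (algebraMap B' B)) := by
      rw [range_comap_of_surjective _ _ hψ]
      exact hq
    exact this
  -- primes of A' containing ker π come from A
  have hfromA : ∀ y : PrimeSpectrum A', RingHom.ker (algebraMap A' A) ≤ y.asIdeal →
      ∃ w : PrimeSpectrum A, PrimeSpectrum.comap (algebraMap A' A) w = y := by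
    intro y hy
    have : y ∈ Set.range (PrimeSpectrum.comap (algebraMap A' A)) := by
      rw [range_comap_of_surjective _ _ hπ]
      exact hy
    exact this
  -- ker π ≤ y iff ker ψ ≤ k y
  have hker_iff : ∀ y : PrimeSpectrum A', RingHom.ker (algebraMap A' A) ≤ y.asIdeal ↔
      RingHom.ker (algebraMap B' B) ≤ (PrimeSpectrum.comap (algebraMap B' A') y).asIdeal := by
    intro y
    constructor
    · intro h b' hb'
      rw [RingHom.mem_ker] at hb'
      rw [PrimeSpectrum.comap_asIdeal, Ideal.mem_comap]
      apply h
      rw [RingHom.mem_ker, ← sq_comm B A' A, hb', map_zero]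
    · intro h a ha
      rw [RingHom.mem_ker] at ha
      obtain ⟨u, hu1, hu2⟩ := exists_pair hsq (0 : B) a (by rw [map_zero, ha])
      have := h (show u ∈ RingHom.ker (algebraMap B' B) from hu1)
      rw [PrimeSpectrum.comap_asIdeal, Ideal.mem_comap, hu2] at this
      exact this
  -- mixed
  have hmix : ∀ (x : PrimeSpectrum B) (y : PrimeSpectrum A'),
      PrimeSpectrum.comap (algebraMap B' B) x = PrimeSpectrum.comap (algebraMap B' A') y →
      ∃ w : PrimeSpectrum A, PrimeSpectrum.comap (algebraMap B A) w = x ∧
        PrimeSpectrum.comap (algebraMap A' A) w = y := by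
    intro x y hxy
    have h1 : RingHom.ker (algebraMap B' B) ≤
        (PrimeSpectrum.comap (algebraMap B' A') y).asIdeal := by
      rw [← hxy]
      intro b' hb'
      rw [RingHom.mem_ker] at hb'
      rw [PrimeSpectrum.comap_asIdeal, Ideal.mem_comap, hb']
      exact x.asIdeal.zero_mem
    obtain ⟨w, hw⟩ := hfromA y ((hker_iff y).mpr h1)
    refine ⟨w, ?_, hw⟩
    apply hinj
    rw [hcomm, hw, hxy]
  -- joint surjectivity
  have hsurj : ∀ q : PrimeSpectrum B', (∃ x, PrimeSpectrum.comap (algebraMap B' B) x = q) ∨
      (∃ y, PrimeSpectrum.comap (algebraMap B' A') y = q) := by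
    intro q
    by_cases hq : RingHom.ker (algebraMap B' B) ≤ q.asIdeal
    · exact Or.inl (hfromB q hq)
    · right
      obtain ⟨e, he, heq⟩ := SetLike.not_le_iff_exists.mp hq
      obtain ⟨y, hy, hyq, -⟩ := exists_prime_over hsq q.asIdeal e he heq
      exact ⟨⟨y, hy⟩, PrimeSpectrum.ext hyq⟩
  -- injectivity of k away from V(I)
  have hk : ∀ y y' : PrimeSpectrum A',
      PrimeSpectrum.comap (algebraMap B' A') y = PrimeSpectrum.comap (algebraMap B' A') y' →
      y = y' ∨ ∃ w w' : PrimeSpectrum A, PrimeSpectrum.comap (algebraMap A' A) w = y ∧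
        PrimeSpectrum.comap (algebraMap A' A) w' = y' ∧
        PrimeSpectrum.comap (algebraMap B A) w = PrimeSpectrum.comap (algebraMap B A) w' := by
    intro y y' hyy'
    by_cases hy : RingHom.ker (algebraMap A' A) ≤ y.asIdeal
    · right
      have hy' : RingHom.ker (algebraMap A' A) ≤ y'.asIdeal := by
        rw [hker_iff, ← hyy', ← hker_iff]
        exact hy
      obtain ⟨w, hw⟩ := hfromA y hy
      obtain ⟨w', hw'⟩ := hfromA y' hy'
      refine ⟨w, w', hw, hw', ?_⟩
      apply hinj
      rw [hcomm, hcomm, hw, hw', hyy']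
    · left
      obtain ⟨i, hi, hiy⟩ := SetLike.not_le_iff_exists.mp hy
      rw [RingHom.mem_ker] at hi
      obtain ⟨e, he1, he2⟩ := exists_pair hsq (0 : B) i (by rw [map_zero, hi])
      have hiy' : i ∉ y'.asIdeal := by
        intro h
        apply hiy
        have : e ∈ (PrimeSpectrum.comap (algebraMap B' A') y').asIdeal := by
          rw [PrimeSpectrum.comap_asIdeal, Ideal.mem_comap, he2]
          exact h
        rw [← hyy', PrimeSpectrum.comap_asIdeal, Ideal.mem_comap, he2] at this
        exact this
      have hsub : ∀ z z' : PrimeSpectrum A',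
          PrimeSpectrum.comap (algebraMap B' A') z = PrimeSpectrum.comap (algebraMap B' A') z' →
          i ∉ z'.asIdeal → z.asIdeal ≤ z'.asIdeal := by
        intro z z' hzz' hiz' a ha
        obtain ⟨u, hu1, hu2⟩ := exists_zero_pair hsq e he1 a
        rw [he2] at hu2
        have h1 : u ∈ (PrimeSpectrum.comap (algebraMap B' A') z).asIdeal := by
          rw [PrimeSpectrum.comap_asIdeal, Ideal.mem_comap, hu2]
          exact z.asIdeal.mul_mem_left _ ha
        rw [hzz', PrimeSpectrum.comap_asIdeal, Ideal.mem_comap, hu2] at h1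
        exact (z'.isPrime.mem_or_mem h1).resolve_left hiz'
      exact PrimeSpectrum.ext (le_antisymm (hsub y y' hyy' hiy') (hsub y' y hyy'.symm hiy))
  -- closedness
  have hclosed : ∀ T : Set (PrimeSpectrum B'),
      IsClosed (PrimeSpectrum.comap (algebraMap B' B) ⁻¹' T) →
      IsClosed (PrimeSpectrum.comap (algebraMap B' A') ⁻¹' T) → IsClosed T := by
    intro T hT1 hT2
    obtain ⟨J, hJ⟩ := (PrimeSpectrum.isClosed_iff_zeroLocus_ideal _).mp hT1
    obtain ⟨J', hJ'⟩ := (PrimeSpectrum.isClosed_iff_zeroLocus_ideal _).mp hT2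
    have hTeq : T = PrimeSpectrum.zeroLocus
        ((J.comap (algebraMap B' B) ⊓ J'.comap (algebraMap B' A') : Ideal B') : Set B') := by
      apply Set.Subset.antisymm
      · intro q hqT
        rw [PrimeSpectrum.zeroLocus_inf]
        rcases hsurj q with ⟨x, rfl⟩ | ⟨y, rfl⟩
        · left
          have hx : x ∈ PrimeSpectrum.zeroLocus (J : Set B) := by
            rw [← hJ]; exact hqT
          rw [PrimeSpectrum.mem_zeroLocus] at hx ⊢
          exact Ideal.comap_mono (f := algebraMap B' B) hx
        · right
          have hy : y ∈ PrimeSpectrum.zeroLocus (J' : Set A') := by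
            rw [← hJ']; exact hqT
          rw [PrimeSpectrum.mem_zeroLocus] at hy ⊢
          exact Ideal.comap_mono (f := algebraMap B' A') hy
      · intro q hq
        rw [PrimeSpectrum.zeroLocus_inf] at hq
        have hcase1 : ∀ x : PrimeSpectrum B, J ≤ x.asIdeal →
            PrimeSpectrum.comap (algebraMap B' B) x ∈ T := by
          intro x hx
          have : x ∈ PrimeSpectrum.comap (algebraMap B' B) ⁻¹' T := by
            rw [hJ, PrimeSpectrum.mem_zeroLocus]
            exact hx
          exact this
        have hcase2 : ∀ y : PrimeSpectrum A', J' ≤ y.asIdeal →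
            PrimeSpectrum.comap (algebraMap B' A') y ∈ T := by
          intro y hy
          have : y ∈ PrimeSpectrum.comap (algebraMap B' A') ⁻¹' T := by
            rw [hJ', PrimeSpectrum.mem_zeroLocus]
            exact hy
          exact this
        rcases hq with hq | hq
        · rw [PrimeSpectrum.mem_zeroLocus, SetLike.coe_subset_coe] at hq
          have hker : RingHom.ker (algebraMap B' B) ≤ q.asIdeal :=
            (Ideal.comap_mono bot_le).trans hq
          obtain ⟨x, rfl⟩ := hfromB q hker
          apply hcase1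
          intro j hj
          obtain ⟨b', rfl⟩ := hψ j
          exact hq hj
        · rw [PrimeSpectrum.mem_zeroLocus, SetLike.coe_subset_coe] at hq
          by_cases hker : RingHom.ker (algebraMap B' B) ≤ q.asIdeal
          · obtain ⟨x, rfl⟩ := hfromB q hker
            apply hcase1
            -- the radical argument
            have hrad : PrimeSpectrum.zeroLocus ((J.map (algebraMap B A) : Ideal A) : Set A) =
                PrimeSpectrum.zeroLocus ((J'.map (algebraMap A' A) : Ideal A) : Set A) := by
              ext w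
              rw [PrimeSpectrum.mem_zeroLocus, PrimeSpectrum.mem_zeroLocus,
                SetLike.coe_subset_coe, SetLike.coe_subset_coe, Ideal.map_le_iff_le_comap,
                Ideal.map_le_iff_le_comap]
              have h1 : J ≤ Ideal.comap (algebraMap B A) w.asIdeal ↔
                  PrimeSpectrum.comap (algebraMap B A) w ∈
                    PrimeSpectrum.comap (algebraMap B' B) ⁻¹' T := by
                rw [hJ, PrimeSpectrum.mem_zeroLocus, SetLike.coe_subset_coe]
                rfl
              have h2 : J' ≤ Ideal.comap (algebraMap A' A) w.asIdeal ↔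
                  PrimeSpectrum.comap (algebraMap A' A) w ∈
                    PrimeSpectrum.comap (algebraMap B' A') ⁻¹' T := by
                rw [hJ', PrimeSpectrum.mem_zeroLocus, SetLike.coe_subset_coe]
                rfl
              rw [h1, h2, Set.mem_preimage, Set.mem_preimage, hcomm]
            rw [PrimeSpectrum.zeroLocus_eq_iff] at hrad
            intro j hj
            have h1 : algebraMap B A j ∈ (J'.map (algebraMap A' A)).radical := by
              rw [← hrad]
              exact Ideal.le_radical (Ideal.mem_map_of_mem _ hj)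
            obtain ⟨n, hn⟩ := h1
            rw [Ideal.mem_map_iff_of_surjective _ hπ] at hn
            obtain ⟨j', hj', hj'n⟩ := hn
            obtain ⟨b', hb'1, hb'2⟩ := exists_pair hsq (j ^ n) j' (by rw [map_pow, hj'n])
            have h2 : b' ∈ (PrimeSpectrum.comap (algebraMap B' B) x).asIdeal := by
              apply hq
              rw [Ideal.mem_comap, hb'2]
              exact hj'
            rw [PrimeSpectrum.comap_asIdeal, Ideal.mem_comap, hb'1] at h2
            exact x.isPrime.mem_of_pow_mem n h2
          · obtain ⟨e, he, heq⟩ := SetLike.not_le_iff_exists.mp hker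
            obtain ⟨y, hy, hyq, hyJ⟩ := exists_prime_over hsq q.asIdeal e he heq
            have : q = PrimeSpectrum.comap (algebraMap B' A') ⟨y, hy⟩ :=
              PrimeSpectrum.ext hyq.symm
            rw [this]
            apply hcase2
            exact hyJ J' hq
    rw [hTeq]
    exact PrimeSpectrum.isClosed_zeroLocus _
  exact top_isPushout _ _ _ _ hcomm hsurj hinj hmix hk hclosed

end Groth.Agent.S6917
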