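import Groth.Statements.S6921
-- import your own Groth.Agent.* helpers here
import Groth.Agent.Lib.Helper12.Mil7

set_option autoImplicit false
universe u
open TensorProduct
open EtAlg

namespace Groth.Agent.S6921

/-- Let `B' = B ×_A A'` be a fibre square of rings with `A' → A` surjective, `B' → D'` a ring map, and
`D = D' ⊗_{B'} B`, `C' = D' ⊗_{B'} A'`, `C = D' ⊗_{B'} A`. Let `N` be a finite `D`-module, `M'` a
finite `C'`-module and `φ : N ⊗_D C ≅ M' ⊗_{C'} C` a `C`-linear isomorphism. Then the glued module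
`N ×_φ M'` is a finite `D'`-module. -/
theorem result (B' B A' A : Type u) [CommRing B'] [CommRing B] [CommRing A'] [CommRing A]
    [Algebra B' B] [Algebra B' A'] [Algebra B A] [Algebra A' A] [Algebra B' A] [IsScalarTower B' B A] [IsScalarTower B' A' A]
    (hsq : EtMil.IsFibreSquare B' B A' A)
    (D' D C' C : Type u) [CommRing D'] [CommRing D] [CommRing C'] [CommRing C]
    [Algebra B' D'] [Algebra B D] [Algebra A' C'] [Algebra A C]
    [Algebra D' D] [Algebra B' D] [IsScalarTower B' B D] [IsScalarTower B' D' D] [Algebra.IsPushout B' B D' D]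
    [Algebra D' C'] [Algebra B' C'] [IsScalarTower B' A' C'] [IsScalarTower B' D' C'] [Algebra.IsPushout B' A' D' C']
    [Algebra D' C] [Algebra B' C] [IsScalarTower B' A C] [IsScalarTower B' D' C] [Algebra.IsPushout B' A D' C]
    [Algebra D C] [IsScalarTower D' D C] [Algebra B C] [IsScalarTower B A C] [IsScalarTower B D C]
    [Algebra C' C] [IsScalarTower D' C' C] [Algebra A' C] [IsScalarTower A' A C] [IsScalarTower A' C' C]
    {N M' : Type u} [AddCommGroup N] [Module D N] [Module D' N] [IsScalarTower D' D N]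
    [AddCommGroup M'] [Module C' M'] [Module D' M'] [IsScalarTower D' C' M'] (φ : C ⊗[D] N ≃ₗ[C] C ⊗[C'] M')
    [Module.Finite D N] [Module.Finite C' M'] : Module.Finite D' ↥(EtMil.glue D' φ) := by
  have hsB : Function.Surjective (algebraMap B' B) :=
    Groth.Agent.Lib.Helper26.FibreSquareKer.surjective_algebraMap hsq
  have hs1 : Function.Surjective (algebraMap C' C) :=
    Groth.Agent.Lib.Helper12.Mil7.pushout_surjective' B' (S := A') (T := A) (R' := D') hsq.1
  have hs2 : Function.Surjective (algebraMap D' D) :=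
    Groth.Agent.Lib.Helper12.Mil7.pushout_surjective B' (S := B) hsB
  have hW : ∀ i : C', algebraMap C' C i = 0 →
      ∃ d' : D', algebraMap D' D d' = 0 ∧ algebraMap D' C' d' = i := by
    intro i hi
    refine Groth.Agent.Lib.Helper12.Mil7.pushout_ker_induction B' (S := A') (T := A) (R' := D')
      (S' := C') (T' := C) hsq.1
      (P := fun i => ∃ d' : D', algebraMap D' D d' = 0 ∧ algebraMap D' C' d' = i)
      ⟨0, map_zero _, map_zero _⟩ ?_ ?_ i hi
    · rintro _ _ ⟨a, ha1, rfl⟩ ⟨b, hb1, rfl⟩
      exact ⟨a + b, by rw [map_add, ha1, hb1, add_zero], map_add _ _ _⟩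
    · intro i r' hi0
      obtain ⟨b', ⟨hb1, hb2⟩, -⟩ := hsq.2 0 i (by rw [map_zero, hi0])
      refine ⟨algebraMap B' D' b' * r', ?_, ?_⟩
      · rw [map_mul, ← IsScalarTower.algebraMap_apply B' D' D,
          IsScalarTower.algebraMap_apply B' B D, hb1, map_zero, zero_mul]
      · rw [map_mul, ← IsScalarTower.algebraMap_apply B' D' C',
          IsScalarTower.algebraMap_apply B' A' C', hb2]
  exact Groth.Agent.Lib.Helper12.Mil6.finite_glue_of_weak φ hs1 hs2 hW

end Groth.Agent.S6921
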