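import Groth.Statements.S13137
import Groth.Agent.S13136

set_option autoImplicit false
universe u v
open FrobAlg

namespace Groth.Agent.S13137

/-- For a perfect field k of characteristic p, a flat W₂(k)-algebra B and an ideal J of B, the quotient
B/J is flat over W₂(k) if and only if (p) ∩ J = pJ in B. (With B a flat lifting of A = B/pB this
says: B/J is a flat lifting of A modulo the image of J exactly when (p) ∩ J = pJ.) -/
theorem result
    (p : ℕ) [Fact p.Prime] (k : Type u) [Field k] [CharP k p] [PerfectRing k p]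
    (B : Type v) [CommRing B] [Algebra (FrobAlg.W2 p k) B] [Module.Flat (FrobAlg.W2 p k) B]
    (J : Ideal B) :
    Module.Flat (FrobAlg.W2 p k) (B ⧸ J) ↔
      Ideal.span {(p : B)} ⊓ J = Ideal.span {(p : B)} * J := by
  have hsmul : ∀ b : B, (p : FrobAlg.W2 p k) • b = (p : B) * b := by
    intro b
    rw [Algebra.smul_def, map_natCast]
  have hpp : (p : B) * (p : B) = 0 := by
    have h1 : (p : FrobAlg.W2 p k) * (p : FrobAlg.W2 p k) = 0 := by
      have := Groth.Agent.Lib.Helper9.TruncWitt.p_pow_eq_zero p k 1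
      rw [pow_two] at this
      exact this
    have h2 := congrArg (algebraMap (FrobAlg.W2 p k) B) h1
    rw [map_mul, map_natCast, map_zero] at h2
    exact h2
  have hB := (Groth.Agent.S13136.result p k B).mp inferInstance
  rw [Groth.Agent.S13136.result p k (B ⧸ J)]
  constructor
  · intro h
    apply le_antisymm _ Ideal.mul_le_inf
    rintro x ⟨hx1, hx2⟩
    obtain ⟨b, rfl⟩ := Ideal.mem_span_singleton'.mp hx1
    have h1 : (p : FrobAlg.W2 p k) • (Ideal.Quotient.mk J b) = 0 := by
      rw [← Ideal.Quotient.mk_eq_mk, ← Submodule.Quotient.mk_smul, hsmul, Ideal.Quotient.mk_eq_mk,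
        Ideal.Quotient.eq_zero_iff_mem, mul_comm]
      exact hx2
    obtain ⟨m', hm'⟩ := h _ h1
    obtain ⟨b', rfl⟩ := Ideal.Quotient.mk_surjective m'
    rw [← Ideal.Quotient.mk_eq_mk b', ← Submodule.Quotient.mk_smul, hsmul, Ideal.Quotient.mk_eq_mk,
      Ideal.Quotient.eq] at hm'
    have h2 : b * (p : B) = (p : B) * (b - (p : B) * b') := by
      rw [mul_sub, ← mul_assoc, hpp, zero_mul, sub_zero, mul_comm]
    rw [h2]
    exact Ideal.mul_mem_mul (Ideal.subset_span rfl) hm'
  · intro h m hm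
    obtain ⟨b, rfl⟩ := Ideal.Quotient.mk_surjective m
    rw [← Ideal.Quotient.mk_eq_mk, ← Submodule.Quotient.mk_smul, hsmul, Ideal.Quotient.mk_eq_mk,
      Ideal.Quotient.eq_zero_iff_mem] at hm
    have h1 : (p : B) * b ∈ Ideal.span {(p : B)} ⊓ J :=
      ⟨Ideal.mem_span_singleton'.mpr ⟨b, mul_comm _ _⟩, hm⟩
    rw [h, Ideal.mem_span_singleton_mul] at h1
    obtain ⟨j, hj, hjb⟩ := h1
    have h2 : (p : FrobAlg.W2 p k) • (b - j) = 0 := by
      rw [hsmul, mul_sub, hjb, sub_self]
    obtain ⟨b', hb'⟩ := hB _ h2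
    refine ⟨Ideal.Quotient.mk J b', ?_⟩
    rw [← Ideal.Quotient.mk_eq_mk b', ← Submodule.Quotient.mk_smul, Ideal.Quotient.mk_eq_mk,
      ← hb', Ideal.Quotient.eq]
    simpa using hj

end Groth.Agent.S13137
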