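import Groth.Statements.S9315
import Mathlib

set_option autoImplicit false
universe u
open CAlg

namespace Groth.Agent.S9315

open IsLocalRing

section
variable {R S : Type u} [CommRing R] [CommRing S] [IsLocalRing R] [IsLocalRing S] [Algebra R S]
  [IsLocalHom (algebraMap R S)]

lemma pow_succ_ne_top (k : ℕ) : maximalIdeal S ^ (k + 1) ≠ ⊤ := fun h =>
  (maximalIdeal.isMaximal S).ne_top (top_le_iff.mp (h ▸ Ideal.pow_le_self (Nat.succ_ne_zero k)))

instance (k : ℕ) : Nontrivial (S ⧸ maximalIdeal S ^ (k + 1)) :=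
  Ideal.Quotient.nontrivial_iff.mpr (pow_succ_ne_top k)

instance (k : ℕ) : IsLocalRing (S ⧸ maximalIdeal S ^ (k + 1)) :=
  IsLocalRing.of_surjective' (Ideal.Quotient.mk _) Ideal.Quotient.mk_surjective

lemma maximalIdeal_quot_pow (k : ℕ) :
    maximalIdeal (S ⧸ maximalIdeal S ^ (k + 1)) ^ (k + 1) = ⊥ := by
  rw [← IsLocalRing.map_maximalIdeal_of_surjective (Ideal.Quotient.mk (maximalIdeal S ^ (k + 1)))
    Ideal.Quotient.mk_surjective, ← Ideal.map_pow, Ideal.map_quotient_self]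

/-- The key reduction: a lifting problem against an arbitrary square-zero extension, killing
`𝔪^(k+1)`, reduces to one against a local square-zero extension with nilpotent maximal ideal. -/
theorem exists_lift_of_local
    (H : ∀ (A : Type u) [CommRing A] [IsLocalRing A] [Algebra R A] [IsLocalHom (algebraMap R A)]
        (J : Ideal A), J ^ 2 = ⊥ → (∃ n : ℕ, maximalIdeal A ^ n = ⊥) →
        ∀ [IsLocalRing (A ⧸ J)] (ψ : S →ₐ[R] A ⧸ J) [IsLocalHom ψ.toRingHom],
          Function.Bijective (ResidueField.map ψ.toRingHom) →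
          ∃ χ : S →ₐ[R] A, (Ideal.Quotient.mkₐ R J).comp χ = ψ)
    (A : Type u) [CommRing A] [Algebra R A] (J : Ideal A) (hJ : J ^ 2 = ⊥)
    (ψ : S →ₐ[R] A ⧸ J) (k : ℕ) (hk : ∀ x ∈ maximalIdeal S ^ (k + 1), ψ x = 0) :
    ∃ χ : S →ₐ[R] A, (Ideal.Quotient.mkₐ R J).comp χ = ψ := by
  set I : Ideal S := maximalIdeal S ^ (k + 1) with hI
  -- the induced map on the quotient
  let ψbar : (S ⧸ I) →ₐ[R] A ⧸ J := Ideal.Quotient.liftₐ I ψ hk
  have hψbar : ∀ s, ψbar (Ideal.Quotient.mk I s) = ψ s := fun s => rfl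
  let φ₁ : (A × (S ⧸ I)) →ₐ[R] A ⧸ J := (Ideal.Quotient.mkₐ R J).comp (AlgHom.fst R A (S ⧸ I))
  let φ₂ : (A × (S ⧸ I)) →ₐ[R] A ⧸ J := ψbar.comp (AlgHom.snd R A (S ⧸ I))
  let A' : Subalgebra R (A × (S ⧸ I)) := AlgHom.equalizer φ₁ φ₂
  have hmem : ∀ x : A', Ideal.Quotient.mk J (x : A × (S ⧸ I)).1 = ψbar (x : A × (S ⧸ I)).2 :=
    fun x => x.2
  let π₁ : A' →ₐ[R] A := (AlgHom.fst R A (S ⧸ I)).comp A'.val
  let π₂ : A' →ₐ[R] (S ⧸ I) := (AlgHom.snd R A (S ⧸ I)).comp A'.val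
  have hπ₂surj : Function.Surjective π₂ := by
    intro s
    obtain ⟨a, ha⟩ := Ideal.Quotient.mk_surjective (ψbar s)
    exact ⟨⟨(a, s), ha⟩, rfl⟩
  have hJnil : IsNilpotent J := ⟨2, hJ⟩
  -- π₂ is a local homomorphism
  have hπ₂loc : IsLocalHom (π₂ : A' →+* (S ⧸ I)) := by
    constructor
    intro x hx
    have hx2 : IsUnit (x : A × (S ⧸ I)).2 := hx
    have hx1 : IsUnit (x : A × (S ⧸ I)).1 := by
      rw [← IsNilpotent.isUnit_quotient_mk_iff hJnil, hmem x]
      exact hx2.map ψbar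
    obtain ⟨u, hu⟩ := hx1
    obtain ⟨v, hv⟩ := hx2
    have huv : Units.map (Ideal.Quotient.mk J : A →* A ⧸ J) u =
        Units.map (ψbar : (S ⧸ I) →* A ⧸ J) v := by
      ext
      simp only [Units.coe_map, MonoidHom.coe_coe, hu, hv]
      exact hmem x
    have hinv : Ideal.Quotient.mk J (↑u⁻¹ : A) = ψbar (↑v⁻¹ : S ⧸ I) := by
      have := congrArg (fun w : (A ⧸ J)ˣ => ((w⁻¹ : (A ⧸ J)ˣ) : A ⧸ J)) huv
      simpa [← map_inv] using this
    refine isUnit_iff_exists_inv.mpr ⟨⟨((↑u⁻¹ : A), (↑v⁻¹ : S ⧸ I)), hinv⟩, ?_⟩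
    apply Subtype.ext
    apply Prod.ext
    · change (x : A × (S ⧸ I)).1 * ↑u⁻¹ = 1
      rw [← hu]; simp
    · change (x : A × (S ⧸ I)).2 * ↑v⁻¹ = 1
      rw [← hv]; simp
  have : IsLocalRing A' := RingHom.domain_isLocalRing (π₂ : A' →+* (S ⧸ I))
  -- R → A' is local
  have : IsLocalHom (algebraMap R A') := by
    have : IsLocalHom (Ideal.Quotient.mk I) :=
      IsLocalHom.of_surjective _ Ideal.Quotient.mk_surjective
    have : IsLocalHom ((π₂ : A' →+* (S ⧸ I)).comp (algebraMap R A')) := by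
      have : (π₂ : A' →+* (S ⧸ I)).comp (algebraMap R A') =
          (Ideal.Quotient.mk I).comp (algebraMap R S) := by
        ext r
        simp [π₂]
      rw [this]
      infer_instance
    exact isLocalHom_of_comp (algebraMap R A') (π₂ : A' →+* (S ⧸ I))
  set J' : Ideal A' := RingHom.ker (π₂ : A' →+* (S ⧸ I)) with hJ'
  have hJ'mem : ∀ x : A', x ∈ J' ↔ (x : A × (S ⧸ I)).2 = 0 := fun x => Iff.rfl
  have hJ'sq : J' ^ 2 = ⊥ := by
    rw [eq_bot_iff, pow_two, Ideal.mul_le]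
    intro x hx y hy
    rw [hJ'mem] at hx hy
    have hx1 : (x : A × (S ⧸ I)).1 ∈ J := by
      rw [← Ideal.Quotient.eq_zero_iff_mem, hmem x, hx, map_zero]
    have hy1 : (y : A × (S ⧸ I)).1 ∈ J := by
      rw [← Ideal.Quotient.eq_zero_iff_mem, hmem y, hy, map_zero]
    have h12 : (x : A × (S ⧸ I)).1 * (y : A × (S ⧸ I)).1 = 0 := by
      have : (x : A × (S ⧸ I)).1 * (y : A × (S ⧸ I)).1 ∈ J ^ 2 := by
        rw [pow_two]; exact Ideal.mul_mem_mul hx1 hy1
      rwa [hJ, Ideal.mem_bot] at this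
    rw [Ideal.mem_bot]
    apply Subtype.ext
    apply Prod.ext
    · exact h12
    · change (x : A × (S ⧸ I)).2 * (y : A × (S ⧸ I)).2 = 0
      rw [hx, zero_mul]
  have hnil : ∃ n : ℕ, maximalIdeal A' ^ n = ⊥ := by
    refine ⟨(k + 1) * 2, ?_⟩
    rw [pow_mul, eq_bot_iff, ← hJ'sq]
    refine Ideal.pow_right_mono ?_ 2
    have h1 : (maximalIdeal A').map (π₂ : A' →+* (S ⧸ I)) ≤ maximalIdeal (S ⧸ I) :=
      ((IsLocalRing.local_hom_TFAE (π₂ : A' →+* (S ⧸ I))).out 0 2).mp hπ₂loc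
    intro x hx
    rw [hJ', RingHom.mem_ker]
    have h2 : (π₂ : A' →+* (S ⧸ I)) x ∈ ((maximalIdeal A') ^ (k + 1)).map (π₂ : A' →+* (S ⧸ I)) :=
      Ideal.mem_map_of_mem _ hx
    rw [Ideal.map_pow] at h2
    have h3 := Ideal.pow_right_mono h1 (k + 1) h2
    rw [maximalIdeal_quot_pow, Ideal.mem_bot] at h3
    exact h3
  let e : (A' ⧸ J') ≃ₐ[R] (S ⧸ I) := Ideal.quotientKerAlgEquivOfSurjective hπ₂surj
  have he : ∀ x : A', e (Ideal.Quotient.mk J' x) = π₂ x := fun x => rfl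
  have : IsLocalRing (A' ⧸ J') := e.symm.toRingEquiv.isLocalRing
  let ψ' : S →ₐ[R] A' ⧸ J' := (e.symm : (S ⧸ I) →ₐ[R] A' ⧸ J').comp (Ideal.Quotient.mkₐ R I)
  have hψ'surj : Function.Surjective ψ' :=
    e.symm.surjective.comp (Ideal.Quotient.mkₐ_surjective R I)
  have : IsLocalHom ψ'.toRingHom := by
    have h := IsLocalHom.of_surjective (R := S) (S := A' ⧸ J') ψ'.toRingHom hψ'surj
    exact h
  have hbij : Function.Bijective (ResidueField.map (R := S) (S := A' ⧸ J') ψ'.toRingHom) := by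
    refine ⟨RingHom.injective _, fun y => ?_⟩
    obtain ⟨a, rfl⟩ := IsLocalRing.residue_surjective y
    obtain ⟨s, rfl⟩ := hψ'surj a
    exact ⟨IsLocalRing.residue S s, rfl⟩
  obtain ⟨χ', hχ'⟩ := H A' J' hJ'sq hnil ψ' hbij
  refine ⟨π₁.comp χ', ?_⟩
  ext s
  have h1 : Ideal.Quotient.mk J' (χ' s) = ψ' s := AlgHom.congr_fun hχ' s
  have h2 : π₂ (χ' s) = Ideal.Quotient.mk I s := by
    rw [← he, h1]
    simp [ψ']
  change Ideal.Quotient.mk J ((χ' s : A × (S ⧸ I))).1 = ψ s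
  rw [hmem (χ' s), ← hψbar]
  congr 1

end

open IsLocalRing in
/-- Let `R → S` be a local homomorphism of local rings (no Noetherian hypothesis). Then `R → S` is
formally smooth for the adic topology of the maximal ideal of `S` if and only if the following
lifting property holds: for every local ring `A` with a local structure map `R → A`, every ideal `J`
of `A` of square zero such that some power of the maximal ideal of `A` is zero, and every local
`R`-algebra homomorphism `ψ : S → A/J` inducing a bijection on residue fields, there is an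
`R`-algebra homomorphism `S → A` lifting `ψ`. -/
theorem result {R S : Type u} [CommRing R] [CommRing S]
    [IsLocalRing R] [IsLocalRing S] [Algebra R S] [IsLocalHom (algebraMap R S)] :
    CAlgX.IsAdicFormallySmooth R S (maximalIdeal S) ↔
      ∀ (A : Type u) [CommRing A] [IsLocalRing A] [Algebra R A] [IsLocalHom (algebraMap R A)]
        (J : Ideal A), J ^ 2 = ⊥ → (∃ n : ℕ, maximalIdeal A ^ n = ⊥) →
        ∀ [IsLocalRing (A ⧸ J)] (ψ : S →ₐ[R] A ⧸ J) [IsLocalHom ψ.toRingHom],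
          Function.Bijective (ResidueField.map ψ.toRingHom) →
          ∃ χ : S →ₐ[R] A, (Ideal.Quotient.mkₐ R J).comp χ = ψ := by
  constructor
  · intro hfs A _ _ _ _ J hJ hn _ ψ _ _
    obtain ⟨n, hn⟩ := hn
    refine hfs A J hJ ψ ⟨n, fun x hx => ?_⟩
    have h1 : (maximalIdeal S).map ψ.toRingHom ≤ maximalIdeal (A ⧸ J) :=
      ((IsLocalRing.local_hom_TFAE ψ.toRingHom).out 0 2).mp (inferInstance : IsLocalHom ψ.toRingHom)
    have h2 : ψ.toRingHom x ∈ ((maximalIdeal S) ^ n).map ψ.toRingHom :=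
      Ideal.mem_map_of_mem _ hx
    rw [Ideal.map_pow] at h2
    have h3 := Ideal.pow_right_mono h1 n h2
    rw [← IsLocalRing.map_maximalIdeal_of_surjective (Ideal.Quotient.mk J)
      Ideal.Quotient.mk_surjective, ← Ideal.map_pow, hn, Ideal.map_bot, Ideal.mem_bot] at h3
    exact h3
  · intro H A _ _ J hJ ψ hk
    obtain ⟨k, hk⟩ := hk
    exact exists_lift_of_local H A J hJ ψ k
      (fun x hx => hk x (Ideal.pow_le_pow_right (Nat.le_succ k) hx))

end Groth.Agent.S9315
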