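import Groth.Statements.S19234
import Mathlib.RingTheory.Artinian.Module
import Mathlib.LinearAlgebra.FiniteDimensional.Lemmas
import Mathlib.RingTheory.Artinian.Instances
import Groth.Agent.S19233

set_option autoImplicit false
universe u v
open SigmaLin

namespace Groth.Agent.S19234

/-- Let k be a field with a surjective ring endomorphism σ such that (i) for every n and every tuple
(b_0, …, b_n) in k, not all zero, the equation x = Σ_{i=0}^{n} σ^{i+1}(x) σ^{i}(b_{n-i}) has a
nonzero solution x in k, and (ii) for every c in k there is y with σ(y) − y + c = 0. Let V be a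
finite-dimensional k-vector space and T : V → V additive with T (c • v) = σ c • T v (no further
condition on T). Then v ↦ v − T v is surjective on V, and the intersection over n of the k-spans of
the images of the iterates of T (the part of V on which T is bijective) admits a k-basis of vectors
fixed by T; in particular the fixed vectors of T span that intersection over k. -/
theorem result
    (k : Type u) [Field k] (σ : k →+* k) (hσ : Function.Surjective σ)
    (V : Type v) [AddCommGroup V] [Module k V] [FiniteDimensional k V] (T : V →ₛₗ[σ] V)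
    (h2 : ∀ (n : ℕ) (b : Fin (n + 1) → k), b ≠ 0 →
      ∃ x : k, x ≠ 0 ∧ x = ∑ i : Fin (n + 1), (⇑σ)^[i.val + 1] x * (⇑σ)^[i.val] (b (Fin.rev i)))
    (h3 : ∀ c : k, ∃ y : k, σ y - y + c = 0) :
    Function.Surjective (fun v : V => v - T v) ∧
    ∃ b : Module.Basis (Fin (Module.finrank k ↥(⨅ n : ℕ, Submodule.span k (Set.range ((⇑T)^[n]))))) k ↥(⨅ n : ℕ, Submodule.span k (Set.range ((⇑T)^[n]))),
      ∀ i, T (b i : V) = (b i : V) := by
  classical
  set Vn : ℕ → Submodule k V := fun n => Submodule.span k (Set.range ((⇑T)^[n])) with hVn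
  have hanti : Antitone Vn := by
    refine antitone_nat_of_succ_le fun n => ?_
    refine Submodule.span_le.mpr ?_
    rintro _ ⟨x, rfl⟩
    exact Submodule.subset_span ⟨T x, (Function.iterate_succ_apply _ _ _).symm⟩
  obtain ⟨N, hN⟩ : ∃ N, ∀ m, N ≤ m → Vn N = Vn m :=
    IsArtinian.monotone_stabilizes (R := k) (M := V)
      ⟨fun n => OrderDual.toDual (Vn n), fun a b h => hanti h⟩
  have hVsN : (⨅ n : ℕ, Submodule.span k (Set.range ((⇑T)^[n]))) = Vn N := by
    refine le_antisymm (iInf_le _ N) (le_iInf fun m => ?_)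
    rcases le_total N m with h | h
    · exact (hN m h).le
    · exact hanti h
  have hTmap : ∀ n, ∀ v ∈ Vn n, T v ∈ Vn (n + 1) := by
    intro n v hv
    induction hv using Submodule.span_induction with
    | mem x hx =>
      obtain ⟨y, rfl⟩ := hx
      exact Submodule.subset_span ⟨y, Function.iterate_succ_apply' _ _ _⟩
    | zero => rw [map_zero]; exact zero_mem _
    | add x y _ _ hx hy => rw [map_add]; exact add_mem hx hy
    | smul a x _ hx => rw [map_smulₛₗ]; exact Submodule.smul_mem _ _ hx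
  have hTs : ∀ v ∈ (⨅ n : ℕ, Submodule.span k (Set.range ((⇑T)^[n]))),
      T v ∈ (⨅ n : ℕ, Submodule.span k (Set.range ((⇑T)^[n]))) := by
    intro v hv
    rw [hVsN] at hv ⊢
    rw [hN (N + 1) (by lia)]
    exact hTmap N v hv
  let Ts : ↥(⨅ n : ℕ, Submodule.span k (Set.range ((⇑T)^[n]))) →ₛₗ[σ]
      ↥(⨅ n : ℕ, Submodule.span k (Set.range ((⇑T)^[n]))) :=
    (T.domRestrict _).codRestrict _ (fun v => hTs v v.2)
  have hTsval : ∀ v, ((Ts v : ↥(⨅ n : ℕ, Submodule.span k (Set.range ((⇑T)^[n])))) : V) = T v :=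
    fun v => rfl
  have hspan : Submodule.span k (Set.range ⇑Ts) = ⊤ := by
    rw [eq_top_iff]
    rintro ⟨w, hw⟩ -
    have hw' : w ∈ Vn (N + 1) := by
      rw [← hN (N + 1) (by lia), ← hVsN]; exact hw
    have key : ∀ w (hw' : w ∈ Vn (N + 1)),
        ∃ hw : w ∈ (⨅ n : ℕ, Submodule.span k (Set.range ((⇑T)^[n]))),
          (⟨w, hw⟩ : ↥(⨅ n : ℕ, Submodule.span k (Set.range ((⇑T)^[n])))) ∈
            Submodule.span k (Set.range ⇑Ts) := by
      intro w hw'
      induction hw' using Submodule.span_induction with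
      | mem x hx =>
        obtain ⟨y, rfl⟩ := hx
        have hy : (⇑T)^[N] y ∈ (⨅ n : ℕ, Submodule.span k (Set.range ((⇑T)^[n]))) := by
          rw [hVsN]; exact Submodule.subset_span ⟨y, rfl⟩
        have heq : (⇑T)^[N + 1] y = T ((⇑T)^[N] y) := Function.iterate_succ_apply' _ _ _
        refine ⟨heq ▸ hTs _ hy, Submodule.subset_span ⟨⟨_, hy⟩, ?_⟩⟩
        exact Subtype.ext heq.symm
      | zero => exact ⟨zero_mem _, zero_mem _⟩
      | add x y _ _ hx hy =>
        obtain ⟨hx1, hx2⟩ := hx
        obtain ⟨hy1, hy2⟩ := hy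
        exact ⟨add_mem hx1 hy1, add_mem hx2 hy2⟩
      | smul a x _ hx =>
        obtain ⟨hx1, hx2⟩ := hx
        exact ⟨Submodule.smul_mem _ _ hx1, Submodule.smul_mem _ a hx2⟩
    obtain ⟨_, h⟩ := key w hw'
    exact h
  obtain ⟨⟨b, hb⟩, hsurj⟩ := Groth.Agent.S19233.result k σ _ Ts hspan h2 h3
  refine ⟨?_, b, fun i => congrArg Subtype.val (hb i)⟩
  intro c
  have hTNc : (⇑T)^[N] c ∈ (⨅ n : ℕ, Submodule.span k (Set.range ((⇑T)^[n]))) := by
    rw [hVsN]; exact Submodule.subset_span ⟨c, rfl⟩
  obtain ⟨u, hu⟩ := hsurj ⟨_, hTNc⟩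
  have hu' : (u : V) - T u = (⇑T)^[N] c := congrArg Subtype.val hu
  have hsum : ∀ M : ℕ, (∑ i ∈ Finset.range M, (⇑T)^[i] c) - T (∑ i ∈ Finset.range M, (⇑T)^[i] c) =
      c - (⇑T)^[M] c := by
    intro M
    induction M with
    | zero => simp
    | succ M ih =>
      rw [Finset.sum_range_succ, map_add, ← Function.iterate_succ_apply' (⇑T) M c]
      have : ∀ a b c' d : V, a + b - (c' + d) = (a - c') + (b - d) := fun a b c' d => by abel
      rw [this, ih]; abel
  refine ⟨∑ i ∈ Finset.range N, (⇑T)^[i] c + u, ?_⟩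
  simp only [map_add]
  have : ∀ a b c' d : V, a + b - (c' + d) = (a - c') + (b - d) := fun a b c' d => by abel
  rw [this, hsum, hu']; abel

end Groth.Agent.S19234
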