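import Groth.Statements.S19239
import Mathlib.FieldTheory.IsAlgClosed.Basic
import Mathlib.FieldTheory.Perfect
import Mathlib.Tactic.LinearCombination
import Groth.Agent.S19234

set_option autoImplicit false
universe u v
open SigmaLin

namespace Groth.Agent.S19239

section Aux7
open Polynomial

/-- over an algebraically closed field, a monic polynomial with a nonzero non-leading coefficient
has a nonzero root. -/
lemma exists_ne_zero_root {k : Type u} [Field k] [IsAlgClosed k] (P : k[X]) (hm : P.Monic)
    (j : ℕ) (hj : j < P.natDegree) (hc : P.coeff j ≠ 0) : ∃ z : k, z ≠ 0 ∧ P.IsRoot z := by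
  by_contra h
  push Not at h
  have hroots : ∀ a ∈ P.roots, a = 0 := by
    intro a ha
    by_contra ha0
    exact h a ha0 (Polynomial.isRoot_of_mem_roots ha)
  have h1 : P.roots = Multiset.replicate (Multiset.card P.roots) 0 :=
    Multiset.eq_replicate_of_mem hroots
  have h2 := (IsAlgClosed.splits P).eq_prod_roots_of_monic hm
  rw [h1] at h2
  simp only [Multiset.map_replicate, map_zero, sub_zero, Multiset.prod_replicate] at h2
  have h3 : P.natDegree = Multiset.card P.roots := by
    conv_lhs => rw [h2]
    exact natDegree_X_pow _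
  rw [h2, coeff_X_pow, if_neg] at hc
  · exact hc rfl
  · rw [← h3]; exact hj.ne

variable (p : ℕ) [Fact p.Prime] (k : Type u) [Field k] [CharP k p] [IsAlgClosed k]

lemma iterate_frobInv_pow (m : ℕ) (w : k) :
    (⇑((frobeniusEquiv k p).symm.toRingHom))^[m] (w ^ p ^ m) = w := by
  induction m generalizing w with
  | zero => simp
  | succ m ih =>
    rw [Function.iterate_succ_apply, pow_succ, pow_mul]
    have : (frobeniusEquiv k p).symm.toRingHom ((w ^ p ^ m) ^ p) = w ^ p ^ m :=
      frobeniusEquiv_symm_pow k p _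
    rw [this, ih]

lemma h3_frob (c : k) : ∃ y : k, (frobeniusEquiv k p).symm.toRingHom y - y + c = 0 := by
  have hp := (Fact.out : p.Prime)
  have hdeg : (X ^ p - X - C c : k[X]).degree ≠ 0 := by
    have h1 : (X ^ p - X - C c : k[X]) = X ^ p - (X + C c) := by ring
    rw [h1, degree_sub_eq_left_of_degree_lt]
    · rw [degree_X_pow]; exact_mod_cast hp.ne_zero
    · rw [degree_X_pow, degree_X_add_C]; exact_mod_cast hp.one_lt
  obtain ⟨z, hz⟩ := IsAlgClosed.exists_root _ hdeg
  simp only [IsRoot.def, eval_sub, eval_pow, eval_X, eval_C] at hz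
  refine ⟨z ^ p, ?_⟩
  have : (frobeniusEquiv k p).symm.toRingHom (z ^ p) = z := frobeniusEquiv_symm_pow k p z
  rw [this]
  linear_combination -hz

lemma h2_frob (n : ℕ) (b : Fin (n + 1) → k) (hb : b ≠ 0) :
    ∃ x : k, x ≠ 0 ∧ x = ∑ i : Fin (n + 1),
      (⇑((frobeniusEquiv k p).symm.toRingHom))^[i.val + 1] x *
        (⇑((frobeniusEquiv k p).symm.toRingHom))^[i.val] (b (Fin.rev i)) := by
  classical
  have hp := (Fact.out : p.Prime)
  set σ := (frobeniusEquiv k p).symm.toRingHom with hσ
  set β : Fin (n + 1) → k := fun i => (⇑σ)^[i.val] (b (Fin.rev i)) with hβ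
  have hσinj : Function.Injective σ := σ.injective
  obtain ⟨j, hj⟩ : ∃ j, β j ≠ 0 := by
    obtain ⟨j, hj⟩ := Function.ne_iff.mp hb
    refine ⟨Fin.rev j, ?_⟩
    simp only [hβ, Fin.rev_rev]
    intro h
    apply hj
    exact (hσinj.iterate (Fin.rev j).val) (h.trans (iterate_map_zero σ _).symm)
  set S : k[X] := ∑ i : Fin (n + 1), C (β i) * X ^ (p ^ (n - i.val)) with hS
  set P : k[X] := X ^ (p ^ (n + 1)) - S with hP
  have hSdeg : S.degree < (X ^ (p ^ (n + 1)) : k[X]).degree := by
    rw [degree_X_pow]
    refine (degree_sum_le _ _).trans_lt ?_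
    rw [Finset.sup_lt_iff (WithBot.bot_lt_coe _)]
    intro i _
    refine (degree_C_mul_X_pow_le _ _).trans_lt ?_
    exact_mod_cast Nat.pow_lt_pow_right hp.one_lt (by lia)
  have hPm : P.Monic := (monic_X_pow _).sub_of_left hSdeg
  have hPdeg : P.natDegree = p ^ (n + 1) := by
    rw [hP, natDegree_sub_eq_left_of_natDegree_lt, natDegree_X_pow]
    rw [natDegree_X_pow]
    rcases eq_or_ne S 0 with h0 | h0
    · rw [h0, natDegree_zero]; exact Nat.pos_of_ne_zero (pow_ne_zero _ hp.ne_zero)
    · exact (natDegree_lt_iff_degree_lt h0).mpr (by rwa [degree_X_pow] at hSdeg)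
  have hlt : p ^ (n - j.val) < p ^ (n + 1) := Nat.pow_lt_pow_right hp.one_lt (by lia)
  have hcoeff : P.coeff (p ^ (n - j.val)) ≠ 0 := by
    rw [hP, coeff_sub, coeff_X_pow, if_neg hlt.ne, zero_sub, neg_ne_zero, hS, finsetSum_coeff,
      Finset.sum_eq_single j]
    · rw [coeff_C_mul_X_pow, if_pos rfl]; exact hj
    · intro i _ hij
      rw [coeff_C_mul_X_pow, if_neg]
      intro h
      apply hij
      have := Nat.pow_right_injective hp.two_le h
      ext
      have hi := i.isLt
      have hjl := j.isLt
      lia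
    · intro h; exact absurd (Finset.mem_univ j) h
  obtain ⟨z, hz0, hz⟩ := exists_ne_zero_root P hPm _ (hPdeg ▸ hlt) hcoeff
  refine ⟨z ^ p ^ (n + 1), pow_ne_zero _ hz0, ?_⟩
  simp only [IsRoot.def, hP, hS, eval_sub, eval_pow, eval_X, eval_finsetSum, eval_mul, eval_C,
    sub_eq_zero] at hz
  rw [hz]
  refine Finset.sum_congr rfl fun i _ => ?_
  have h1 : z ^ p ^ (n + 1) = (z ^ p ^ (n - i.val)) ^ p ^ (i.val + 1) := by
    rw [← pow_mul, ← pow_add]
    congr 2
    have := i.isLt
    lia
  rw [← hz, h1, iterate_frobInv_pow, mul_comm]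

end Aux7

/-- Let k be an algebraically closed field of characteristic p > 0, V a finite-dimensional k-vector
space and T : V → V an additive map with T (c • v) = σ(c) • T v for σ the inverse of the p-th power
map of k. Then v ↦ v − T v is surjective on V, and the intersection over n of the k-spans of the
images of the iterates of T admits a k-basis consisting of vectors fixed by T. (A special case of
the statement for a surjective field endomorphism satisfying two solvability conditions.) -/
theorem result
    (p : ℕ) [Fact p.Prime] (k : Type u) [Field k] [CharP k p] [IsAlgClosed k]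
    (V : Type v) [AddCommGroup V] [Module k V] [FiniteDimensional k V]
    (T : V →ₛₗ[(frobeniusEquiv k p).symm.toRingHom] V) :
    Function.Surjective (fun v : V => v - T v) ∧
    ∃ b : Module.Basis (Fin (Module.finrank k ↥(⨅ n : ℕ, Submodule.span k (Set.range ((⇑T)^[n]))))) k ↥(⨅ n : ℕ, Submodule.span k (Set.range ((⇑T)^[n]))),
      ∀ i, T (b i : V) = (b i : V) := by
  exact Groth.Agent.S19234.result k _ (frobeniusEquiv k p).symm.surjective V T
    (h2_frob p k) (h3_frob p k)

end Groth.Agent.S19239
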