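import Groth.Statements.S2107
import Groth.Agent.Lib27.FibInj.EssFP

set_option autoImplicit false
universe u
open CAlg

namespace Groth.Agent.S2107

/-- Let `R → S` be a local homomorphism of local rings with `S` essentially of finite presentation over
`R`, `M`, `N` finitely presented `S`-modules with `N` flat over `R`, and `u : M → N` an `S`-linear
map which is injective modulo `𝔪_R`. Then `u` is injective and its cokernel is flat over `R`. -/
theorem result {R S M N : Type u} [CommRing R] [CommRing S] [IsLocalRing R]
    [IsLocalRing S] [Algebra R S] [IsLocalHom (algebraMap R S)] (hS : CAlgX.IsEssFinitePresentation R S)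
    [AddCommGroup M] [Module S M] [Module R M] [IsScalarTower R S M] [Module.FinitePresentation S M]
    [AddCommGroup N] [Module S N] [Module R N] [IsScalarTower R S N] [Module.FinitePresentation S N] [Module.Flat R N]
    (u : M →ₗ[S] N)
    (hu : ∀ x : M, u x ∈ (IsLocalRing.maximalIdeal R).map (algebraMap R S) • (⊤ : Submodule S N) →
      x ∈ (IsLocalRing.maximalIdeal R).map (algebraMap R S) • (⊤ : Submodule S M)) :
    Function.Injective u ∧ Module.Flat R (N ⧸ LinearMap.range u) := by
  obtain ⟨S₀, _, _, _, _, Msub, hfp, hloc⟩ := hS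
  obtain ⟨n, f, hf, hker⟩ := hfp.out
  have hLQ := Groth.Agent.Lib27.FibInj.isLocQuot_of_isLocalization (R := R) (S := S) Msub f hf hker
  have hq : ((IsLocalRing.maximalIdeal S).comap ((IsScalarTower.toAlgHom R S₀ S).comp f)).comap
      (MvPolynomial.C : R →+* MvPolynomial (Fin n) R) = IsLocalRing.maximalIdeal R := by
    rw [← IsLocalRing.maximalIdeal_comap (algebraMap R S)]
    ext x
    simp only [Ideal.mem_comap]
    have : ((IsScalarTower.toAlgHom R S₀ S).comp f) (MvPolynomial.C x) = algebraMap R S x := by
      rw [← MvPolynomial.algebraMap_eq, AlgHom.commutes]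
    rw [this]
  have hmemN : ∀ y : N, y ∈ (IsLocalRing.maximalIdeal R) • (⊤ : Submodule R N) ↔
      y ∈ (IsLocalRing.maximalIdeal R).map (algebraMap R S) • (⊤ : Submodule S N) := by
    intro y
    have := Ideal.smul_restrictScalars (IsLocalRing.maximalIdeal R) (⊤ : Submodule S N)
    rw [Submodule.restrictScalars_top] at this
    rw [← this, Submodule.restrictScalars_mem]
  have hmemM : ∀ y : M, y ∈ (IsLocalRing.maximalIdeal R) • (⊤ : Submodule R M) ↔
      y ∈ (IsLocalRing.maximalIdeal R).map (algebraMap R S) • (⊤ : Submodule S M) := by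
    intro y
    have := Ideal.smul_restrictScalars (IsLocalRing.maximalIdeal R) (⊤ : Submodule S M)
    rw [Submodule.restrictScalars_top] at this
    rw [← this, Submodule.restrictScalars_mem]
  have key := Groth.Agent.Lib27.FibInj.fibInj_of_isLocQuot hLQ u (by
    rw [hq]
    intro x hx
    rw [hmemM]
    exact hu x ((hmemN _).1 hx))
  refine ⟨key.1, ?_⟩
  haveI := key.2
  have e1 : (N ⧸ LinearMap.range (u.restrictScalars R)) ≃ₗ[R]
      (N ⧸ (LinearMap.range u).restrictScalars R) :=
    Submodule.quotEquivOfEq _ _ (LinearMap.range_restrictScalars u)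
  exact Module.Flat.of_linearEquiv
    (e1 ≪≫ₗ Submodule.Quotient.restrictScalarsEquiv R (LinearMap.range u)).symm

end Groth.Agent.S2107
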