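import Groth.Statements.S5218
import Mathlib.CategoryTheory.Sites.RegularEpi
import Mathlib.CategoryTheory.Sites.LocallySurjective

set_option autoImplicit false
open CategoryTheory CategoryTheory.Limits
universe w v₁ u₁
open ShfCat

namespace Groth.Agent.S5218

theorem epi_of_isPullback {C : Type u₁} [Category.{v₁} C]
    (J : GrothendieckTopology C) [HasSheafify J (Type w)]
    {X Y X' Y' : Sheaf J (Type w)} {f : X ⟶ Y} [Epi f] {f' : X' ⟶ Y'} {i₁ : X' ⟶ X} {i₂ : Y' ⟶ Y}
    (hpb : IsPullback f' i₁ i₂ f) : Epi f' := by
  have hls : Sheaf.IsLocallySurjective f := (Sheaf.isLocallySurjective_iff_epi f).2 inferInstance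
  have : Sheaf.IsLocallySurjective f' := by
    constructor
    intro U s'
    refine J.superset_covering ?_ (Presheaf.imageSieve_mem J f.hom (i₂.hom.app _ s'))
    intro V g hg
    obtain ⟨x, hx⟩ := hg
    have hpV : IsPullback (f'.hom.app (Opposite.op V)) (i₁.hom.app (Opposite.op V))
        (i₂.hom.app (Opposite.op V)) (f.hom.app (Opposite.op V)) :=
      (hpb.map (sheafToPresheaf J (Type w))).map ((evaluation _ _).obj (Opposite.op V))
    have hx' : i₂.hom.app (Opposite.op V) (Y'.obj.map g.op s') = f.hom.app (Opposite.op V) x := by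
      rw [hx]
      exact ConcreteCategory.congr_hom (i₂.hom.naturality g.op) s'
    obtain ⟨x', hx'1, -⟩ := Limits.Types.exists_of_isPullback hpV _ _ hx'
    exact ⟨x', hx'1⟩
  infer_instance


/-- (i) ⇒ (ii), for a single morphism: in the category of sheaves of sets on a site (with
sheafification), every epimorphism is a universal effective epimorphism. -/
theorem result {C : Type u₁} [Category.{v₁} C]
    (J : GrothendieckTopology C) [HasSheafify J (Type w)]
    {X Y : Sheaf J (Type w)} (f : X ⟶ Y) [Epi f] :
    (MorphismProperty.universally (fun (A B : Sheaf J (Type w)) (p : A ⟶ B) => EffectiveEpi p)) f := by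
  intro X' Y' i₁ i₂ f' hpb
  have : Epi f' := epi_of_isPullback J hpb
  have := IsRegularEpiCategory.regularEpiOfEpi f'
  infer_instance

end Groth.Agent.S5218
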