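import Groth.Statements.S3082
import Mathlib
import Groth.Agent.Lib.Lead.ToposFinSite2
open Groth.Agent.Lib.Lead.ToposFin Opposite

set_option autoImplicit false
universe u
open CategoryTheory
open SGA4

namespace Groth.Agent.S3082

/-- Let (C, J) be a small site and G a set of objects of C such that each object of C has a covering
family whose members all lie in G. Then the sheafifications of the presheaves represented by the
members of G form a detecting family in the category Sh(C, J) of set-valued sheaves on (C, J): any
morphism of sheaves that is bijective on sections over each member of G is an isomorphism. -/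
theorem result {C : Type u} [SmallCategory C] (J : GrothendieckTopology C) (G : Set C)
    (hG : ∀ X : C, ∃ (ι : Type u) (Y : ι → C) (f : ∀ i, Y i ⟶ X), Sieve.ofArrows Y f ∈ J X ∧ ∀ i, Y i ∈ G) :
    (ObjectProperty.ofObj fun X : G => (presheafToSheaf J (Type u)).obj (yoneda.obj (X : C))).IsDetecting := by
  intro A B φ hφ
  have hA := (isSheaf_iff_isSheaf_of_type _ _).1 A.2
  have hbij : ∀ X ∈ G, Function.Bijective (φ.hom.app (op X)) := by
    intro X hX
    have hE : (ObjectProperty.ofObj fun X : G =>
        (presheafToSheaf J (Type u)).obj (yoneda.obj (X : C))) (ToposFin.eps J X) :=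
      ObjectProperty.ofObj_apply (X := fun X : G =>
        (presheafToSheaf J (Type u)).obj (yoneda.obj (X : C))) ⟨X, hX⟩
    have hsec : ∀ a : A.obj.obj (op X), (secMap a).hom.app (op X) (unitSec J (𝟙 X)) = a := by
      intro a
      rw [secMap_unitSec]
      simp
    constructor
    · intro a a' haa'
      obtain ⟨h', -, huniq⟩ := hφ _ hE (secMap a ≫ φ)
      have e1 := huniq (secMap a) rfl
      have e2 := huniq (secMap a') (by
        apply eps_hom_ext
        show φ.hom.app _ ((secMap a').hom.app _ (unitSec J (𝟙 X))) =
          φ.hom.app _ ((secMap a).hom.app _ (unitSec J (𝟙 X)))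
        rw [hsec, hsec]
        exact haa'.symm)
      have e3 : secMap a = secMap a' := e1.trans e2.symm
      have := congrArg (fun m => m.hom.app (op X) (unitSec J (𝟙 X))) e3
      simp only [hsec] at this
      exact this
    · intro b
      obtain ⟨h', hh', -⟩ := hφ _ hE (secMap b)
      refine ⟨h'.hom.app _ (unitSec J (𝟙 X)), ?_⟩
      have := congrArg (fun m => m.hom.app (op X) (unitSec J (𝟙 X))) hh'
      refine Eq.trans ?_ (this.trans ?_)
      · rfl
      · have hb := secMap_unitSec b (𝟙 X)
        refine hb.trans ?_
        simp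
  have hinj : ∀ (U : Cᵒᵖ), Function.Injective (φ.hom.app U) := by
    intro U x x' hxx'
    obtain ⟨ι, Yc, f, hcov, hY⟩ := hG U.unop
    apply (hA.isSeparated _ hcov).ext
    rintro V g ⟨W, h, k, ⟨i⟩, rfl⟩
    have h1 : A.obj.map (f i).op x = A.obj.map (f i).op x' := by
      apply (hbij (Yc i) (hY i)).1
      have n1 := NatTrans.naturality_apply φ.hom (f i).op x
      have n2 := NatTrans.naturality_apply φ.hom (f i).op x'
      exact n1.trans ((congrArg _ hxx').trans n2.symm)
    have : A.obj.map (h ≫ f i).op x = A.obj.map h.op (A.obj.map (f i).op x) := by simp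
    rw [this, h1]
    simp
  have hmono : Mono φ := ⟨fun a b hab => by
    ext V z
    exact hinj _ (congrArg (fun m => m.hom.app V z) hab)⟩
  have hepi : Epi φ := by
    rw [← JE_single_iff.{u, 0}]
    intro U y
    obtain ⟨ι, Yc, f, hcov, hY⟩ := hG U
    refine J.superset_covering ?_ hcov
    rintro V g ⟨W, h, k, ⟨i⟩, rfl⟩
    obtain ⟨x, hx⟩ := (hbij (Yc i) (hY i)).2 (B.obj.map (f i).op y)
    refine ⟨PUnit.unit, A.obj.map h.op x, ?_⟩
    have n1 := NatTrans.naturality_apply φ.hom h.op x
    refine n1.trans ?_
    rw [hx]
    simp
  exact isIso_of_mono_of_epi φ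

end Groth.Agent.S3082
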