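import Groth.Statements.S4466
import Groth.Agent.S0844
import Groth.Agent.S0845
import Groth.Agent.Lib.Helper29.TwistPn2
import Groth.Agent.Lib.Lead.Pn.HomogRank

set_option autoImplicit false
universe u
open Coherent

namespace Groth.Agent.S4466

open AlgebraicGeometry CategoryTheory in
/-- Let k be a field, r > 0 and n any integer. Then the Euler characteristic of the twisting sheaf O(n)
on projective r-space over k, namely the alternating sum of the dimensions of H^j(P^r_k, O(n)) for 0
≤ j ≤ r, equals the binomial coefficient C(n+r, r), understood as the binomial polynomial evaluated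
at the integer n+r (so that it makes sense and is correct for negative n too). -/
theorem result (k : Type u) [Field k] (r : ℕ) (hr : 0 < r)
    (n : ℤ) :
    ((Finset.range (r + 1)).sum fun j => (-1 : ℤ) ^ j *
        (Module.finrank k (Coh.HH (CohB1.ProjSpace r k) (Twist.twistProjSpace r k n) j) : ℤ)) =
      Ring.choose (n + r) r := by
  classical
  set f : ℕ → ℤ := fun j =>
    (Module.finrank k (Coh.HH (CohB1.ProjSpace r k) (Twist.twistProjSpace r k n) j) : ℤ) with hf
  have hvan : ∀ j, ¬ (j = 0 ∧ 0 ≤ n) → ¬ (j = r ∧ n ≤ -((r : ℤ) + 1)) → f j = 0 := by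
    intro j h0 hr'
    have := Groth.Agent.S0844.result k r n j h0 hr'
    simp only [hf]
    rw [Module.finrank_zero_of_subsingleton]
    rfl
  have hsum : ((Finset.range (r + 1)).sum fun j => (-1 : ℤ) ^ j * f j) =
      (-1 : ℤ) ^ 0 * f 0 + (-1 : ℤ) ^ r * f r := by
    apply Finset.sum_eq_add 0 r (by omega)
    · intro c _ hc
      rw [hvan c (fun h => hc.1 h.1) (fun h => hc.2 h.1), mul_zero]
    · intro h
      exact absurd (Finset.mem_range.mpr (by omega)) h
    · intro h
      exact absurd (Finset.mem_range.mpr (by omega)) h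
  change ((Finset.range (r + 1)).sum fun j => (-1 : ℤ) ^ j * f j) = _
  rw [hsum, pow_zero, one_mul]
  rcases le_or_gt 0 n with hn | hn
  · -- `n ≥ 0`
    obtain ⟨m, rfl⟩ := Int.eq_ofNat_of_zero_le hn
    have h0 : f 0 = (Nat.choose (m + r) r : ℤ) := by
      simp only [hf]
      rw [← (Groth.Agent.Lib.Helper29.QCoh.h0TwistEquiv r k m).finrank_eq,
        Groth.Agent.Lib.Lead.Pn.finrank_homogeneousSubmodule]
    have hr0 : f r = 0 := hvan r (fun h => by omega) (fun h => by omega)
    rw [h0, hr0, mul_zero, add_zero]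
    have : ((m : ℤ) + (r : ℤ)) = ((m + r : ℕ) : ℤ) := by push_cast; ring
    rw [this, Ring.choose_natCast]
  · have h0 : f 0 = 0 := hvan 0 (fun h => by omega) (fun h => by omega)
    rw [h0, zero_add]
    rcases lt_or_ge (-((r : ℤ) + 1)) n with hn2 | hn2
    · have hr0 : f r = 0 := hvan r (fun h => by omega) (fun h => by omega)
      rw [hr0, mul_zero]
      obtain ⟨t, ht⟩ := Int.eq_ofNat_of_zero_le (show 0 ≤ n + r by omega)
      rw [ht, Ring.choose_natCast, Nat.choose_eq_zero_of_lt (by omega)]
      rfl
    · obtain ⟨k', hk'⟩ := Int.eq_ofNat_of_zero_le (show 0 ≤ -n - r - 1 by omega)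
      have hn3 : n = -((r : ℤ) + 1 + k') := by omega
      subst hn3
      obtain ⟨e⟩ := Groth.Agent.S0845.result k r k'
      have hr0 : f r = (Nat.choose (k' + r) r : ℤ) := by
        simp only [hf]
        rw [e.finrank_eq, Groth.Agent.Lib.Lead.Pn.finrank_homogeneousSubmodule]
      rw [hr0]
      have h1 : (-((r : ℤ) + 1 + k') + r) = -((1 : ℤ) + k') := by ring
      rw [h1, Ring.choose_neg]
      have h2 : ((1 : ℤ) + k' + r - 1) = ((k' + r : ℕ) : ℤ) := by push_cast; ring
      rw [h2, Ring.choose_natCast]
      rcases Nat.even_or_odd r with he | ho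
      · rw [he.neg_one_pow, Int.negOnePow_even _ (by exact_mod_cast he)]
        simp
      · rw [ho.neg_one_pow, Int.negOnePow_odd _ (by exact_mod_cast ho)]
        simp

end Groth.Agent.S4466
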