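import Groth.Statements.S0032
import Groth.Agent.Lib.Helper5.RpushAb
import Groth.Agent.Lib.Helper22.CohTop.LerayAcyclicBase
import Groth.Agent.S0030
import Groth.Agent.S0007

set_option autoImplicit false
universe u
open Coherent

namespace Groth.Agent.S0032

open AlgebraicGeometry CategoryTheory Opposite in
/-- Let f : X → S be quasi-compact and quasi-separated with S affine, and F quasi-coherent on X. Then
H^q(X, F) is isomorphic to the global sections of R^q f_* F (higher direct image of the underlying
abelian sheaf), for every q. -/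
theorem result {X S : Scheme.{u}} (f : X ⟶ S)
    [QuasiCompact f] [QuasiSeparated f] [IsAffine S] (M : X.Modules) [Coh.IsQCoh M] (q : ℕ) :
    Nonempty (Coh.HH X M q ≃+ ↑(((Coh.RpushAb f q).obj (Coh.toAb M)).obj.obj (op ⊤))) := by
  haveI : CategoryTheory.EnoughInjectives X.Modules :=
    Groth.Agent.S0485.result (Opens.grothendieckTopology X) X.ringCatSheaf
  haveI : CategoryTheory.HasInjectiveResolutions X.Modules := inferInstance
  have hBA : Groth.Agent.Lib.Helper22.CohTop.BaseAcyclic f.base (Coh.toAb M) := by
    intro p q' x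
    obtain ⟨e⟩ := Groth.Agent.Lib.Helper5.RpushAb.main f M q'
    haveI : Coh.IsQCoh ((Coh.Rpush f q').obj M) := Groth.Agent.S0030.result f M q'
    have hs : Subsingleton (Coh.HH S ((Coh.Rpush f q').obj M) (p + 1)) :=
      Groth.Agent.S0007.result S _ (p + 1) (by omega)
    exact Groth.Agent.Lib.Helper22.CohTop.ext_eq_zero_of_iso e (p + 1)
      (fun y => hs.elim y 0) x
  exact Groth.Agent.Lib.Helper22.CohTop.nonempty_H_addEquiv_sections_Rpush f.base q
    (Coh.toAb M) hBA

end Groth.Agent.S0032
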