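import Groth.Statements.S11314
import Groth.Agent.Lib.Lead.SD.DualizingZero
import Groth.Agent.S0845

set_option autoImplicit false
universe u
open CategoryTheory AlgebraicGeometry
open ProjDual

namespace Groth.Agent.S11314

/-- Let k be a field, P = P^n_k and ω = O_P(-n-1). Then there is a k-linear map t : H^n(P, ω) → k such
that for every coherent O_P-module F and every k-linear form ψ on H^n(P, F) there is exactly one
morphism φ : F → ω with ψ = t ∘ H^n(φ); in other words the natural pairing Hom(F, ω) × H^n(P, F) →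
H^n(P, ω) followed by t is perfect, and ω is a dualizing sheaf for P. (The published statement fixes
an isomorphism H^n(P, ω) ≅ k and pairs into it; here t stands for that composite, and the
finite-dimensionality of the two spaces is not restated.) -/
theorem result (k : Type u) [Field k] (n : ℕ) :
    ∃ t : Coh.HH (CohB1.ProjSpace n k) (Twist.twistProjSpace n k (-((n : ℤ) + 1))) n →ₗ[k] k,
      ∀ F : (CohB1.ProjSpace n k).Modules, Coh.IsCoh F → ∀ ψ : Coh.HH (CohB1.ProjSpace n k) F n →ₗ[k] k,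
        ∃! φ : F ⟶ (Twist.twistProjSpace n k (-((n : ℤ) + 1))), ∀ x : Coh.HH (CohB1.ProjSpace n k) F n,
          ψ x = t (Sheaf.H.map ((SheafOfModules.toSheaf (CohB1.ProjSpace n k).ringCatSheaf).map φ) n x) := by
  rcases n with _ | m
  · have key : ∀ d : ℤ, d = -(1 : ℤ) →
        ∃ t : Coh.HH (CohB1.ProjSpace 0 k) (Twist.twistProjSpace 0 k d) 0 →ₗ[k] k,
          ∀ F : (CohB1.ProjSpace 0 k).Modules, Coh.IsCoh F →
            ∀ ψ : Coh.HH (CohB1.ProjSpace 0 k) F 0 →ₗ[k] k,
              ∃! φ : F ⟶ (Twist.twistProjSpace 0 k d),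
                ∀ x : Coh.HH (CohB1.ProjSpace 0 k) F 0, ψ x = t (Sheaf.H.map
                  ((SheafOfModules.toSheaf (CohB1.ProjSpace 0 k).ringCatSheaf).map φ) 0 x) := by
      intro d hd
      subst hd
      obtain ⟨t0⟩ := Groth.Agent.S0845.result k 0 0
      have hcast : (-(((0 : ℕ) : ℤ) + 1 + ((0 : ℕ) : ℤ))) = -(1 : ℤ) := by norm_num
      rw [hcast] at t0
      exact ⟨(t0.trans (Groth.Agent.Lib.Lead.SD.constEquiv (Fin (0 + 1)) k)).toLinearMap,
        fun F hF ψ => Groth.Agent.Lib.Lead.SD.perf_of_isCoh_zero k 1 _ F hF ψ⟩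
    exact key _ (by norm_num)
  · have key : ∀ d : ℤ, d = -((m : ℤ) + 2) →
        ∃ t : Coh.HH (CohB1.ProjSpace (m + 1) k) (Twist.twistProjSpace (m + 1) k d) (m + 1) →ₗ[k] k,
          ∀ F : (CohB1.ProjSpace (m + 1) k).Modules, Coh.IsCoh F →
            ∀ ψ : Coh.HH (CohB1.ProjSpace (m + 1) k) F (m + 1) →ₗ[k] k,
              ∃! φ : F ⟶ (Twist.twistProjSpace (m + 1) k d),
                ∀ x : Coh.HH (CohB1.ProjSpace (m + 1) k) F (m + 1), ψ x = t (Sheaf.H.map
                  ((SheafOfModules.toSheaf (CohB1.ProjSpace (m + 1) k).ringCatSheaf).map φ)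
                    (m + 1) x) := by
      intro d hd
      subst hd
      obtain ⟨t0⟩ := Groth.Agent.S0845.result k (m + 1) 0
      have hcast : (-((((m + 1 : ℕ) : ℤ)) + 1 + ((0 : ℕ) : ℤ))) = -((m : ℤ) + 2) := by
        push_cast; ring
      rw [hcast] at t0
      exact ⟨(t0.trans (Groth.Agent.Lib.Lead.SD.constEquiv (Fin (m + 1 + 1)) k)).toLinearMap,
        fun F hF ψ => Groth.Agent.Lib.Lead.SD.perf_of_isCoh k m _ F hF ψ⟩
    exact key _ (by push_cast; ring)

end Groth.Agent.S11314
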