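import Groth.Statements.S6269
import Mathlib

set_option autoImplicit false
universe u
open CAlg

open scoped TensorProduct

namespace Groth.Agent.S6269

theorem hcomm {R : Type u} [CommRing R] {A B : Type u} [AddCommGroup A] [Module R A]
    [AddCommGroup B] [Module R B]
    {X Y : Type u} [AddCommGroup X] [Module R X] [AddCommGroup Y] [Module R Y]
    (a : A →ₗ[R] B) (h : X →ₗ[R] Y) (t : A ⊗[R] X) :
    (h.lTensor B) ((a.rTensor X) t) = (a.rTensor Y) ((h.lTensor A) t) := by
  rw [← LinearMap.comp_apply, ← LinearMap.comp_apply, LinearMap.lTensor_comp_rTensor,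
    LinearMap.rTensor_comp_lTensor]

/-- Diagram chase: for a short exact sequence `0 → A → B → C → 0` and a linear map `a : N → P`
such that `a ⊗ B` and `i ⊗ coker a` are injective, `a ⊗ C` is injective. -/
theorem rTensor_injective_of_exact {R : Type u} [CommRing R] {A B C : Type u} [AddCommGroup A]
    [Module R A] [AddCommGroup B] [Module R B] [AddCommGroup C] [Module R C]
    (i : A →ₗ[R] B) (p : B →ₗ[R] C) (hexact : Function.Exact i p) (hp : Function.Surjective p)
    {N P D : Type u} [AddCommGroup N] [Module R N] [AddCommGroup P] [Module R P]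
    [AddCommGroup D] [Module R D] (a : N →ₗ[R] P) (q : P →ₗ[R] D) (haq : Function.Exact a q)
    (hq : Function.Surjective q)
    (h2 : Function.Injective (a.rTensor B))
    (hfl : Function.Injective (i.lTensor D)) :
    Function.Injective (a.rTensor C) := by
  rw [injective_iff_map_eq_zero]
  intro z hz
  obtain ⟨y, rfl⟩ := LinearMap.lTensor_surjective N hp z
  have hexP : Function.Exact (i.lTensor P) (p.lTensor P) := lTensor_exact P hexact hp
  have hexN : Function.Exact (i.lTensor N) (p.lTensor N) := lTensor_exact N hexact hp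
  have hy' : (p.lTensor P) ((a.rTensor B) y) = 0 := by
    rw [hcomm a p y]; exact hz
  obtain ⟨x', hx'⟩ := (hexP _).mp hy'
  have hex1 : Function.Exact (a.rTensor A) (q.rTensor A) := rTensor_exact A haq hq
  have hex2 : Function.Exact (a.rTensor B) (q.rTensor B) := rTensor_exact B haq hq
  have hq0 : (i.lTensor D) ((q.rTensor A) x') = 0 := by
    rw [hcomm q i x', hx']
    exact (hex2 _).mpr ⟨y, rfl⟩
  have hq' : (q.rTensor A) x' = 0 := by
    apply hfl
    rw [hq0, map_zero]
  obtain ⟨x, hx⟩ := (hex1 _).mp hq'
  have hxy : (i.lTensor N) x = y := by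
    apply h2
    rw [← hcomm a i x, hx, hx']
  rw [← hxy]
  exact (hexN _).mpr ⟨x, rfl⟩

/-- Let 0 → M₁ → M₂ → M₃ → 0 be a universally exact sequence of R-modules (a short exact sequence whose
first map is universally injective) with M₂ flat. Then M₁ and M₃ are flat. -/
theorem result {R : Type u} [CommRing R] {M₁ M₂ M₃ : Type u} [AddCommGroup M₁] [Module R M₁] [AddCommGroup M₂] [Module R M₂] [AddCommGroup M₃] [Module R M₃] (f : M₁ →ₗ[R] M₂) (g : M₂ →ₗ[R] M₃) (hexact : Function.Exact f g) (hg : Function.Surjective g) (hf : CAlgX.UniversallyInjective R f) [Module.Flat R M₂] : Module.Flat R M₁ ∧ Module.Flat R M₃ := by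
  have hfl : ∀ (Q : Type u) [AddCommGroup Q] [Module R Q], Function.Injective (f.lTensor Q) := by
    intro Q _ _
    rw [LinearMap.lTensor_inj_iff_rTensor_inj]
    exact hf Q
  have h2 := (Module.Flat.iff_rTensor_preserves_injective_linearMap' (R := R) (M := M₂)).mp
    inferInstance
  constructor
  · rw [Module.Flat.iff_rTensor_preserves_injective_linearMap'.{u, u, u}]
    intro N P _ _ _ _ a ha
    intro t t' htt
    apply hfl N
    apply h2 a ha
    rw [← hcomm a f t, ← hcomm a f t', htt]
  · rw [Module.Flat.iff_rTensor_preserves_injective_linearMap'.{u, u, u}]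
    intro N P _ _ _ _ a ha
    exact rTensor_injective_of_exact f g hexact hg a (LinearMap.range a).mkQ
      (LinearMap.exact_map_mkQ_range a) (Submodule.mkQ_surjective _) (h2 a ha) (hfl _)

end Groth.Agent.S6269
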