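import Groth.Statements.S6305
import Groth.Agent.S6269
import Mathlib

set_option autoImplicit false
universe u
open CAlg

namespace Groth.Agent.S6305

theorem exists_flat_presentation {R : Type u} [CommRing R] (Q : Type u) [AddCommGroup Q]
    [Module R Q] :
    ∃ (K F : Type u) (_ : AddCommGroup K) (_ : Module R K) (_ : AddCommGroup F) (_ : Module R F)
      (_ : Module.Flat R F) (i : K →ₗ[R] F) (p : F →ₗ[R] Q),
      Function.Injective i ∧ Function.Exact i p ∧ Function.Surjective p :=
  ⟨LinearMap.ker (Finsupp.linearCombination R (id : Q → Q)), Q →₀ R, inferInstance, inferInstance,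
    inferInstance, inferInstance, inferInstance, (LinearMap.ker _).subtype,
    Finsupp.linearCombination R id, Submodule.injective_subtype _,
    LinearMap.exact_subtype_ker_map _, Finsupp.linearCombination_id_surjective R Q⟩

/-- An R-module M is flat exactly when every short exact sequence 0 → M₁ → M₂ → M → 0 of R-modules is
universally exact, i.e. its first map M₁ → M₂ is universally injective. -/
theorem result {R : Type u} [CommRing R] (M : Type u) [AddCommGroup M] [Module R M] : Module.Flat R M ↔ ∀ (M₁ M₂ : Type u) [AddCommGroup M₁] [Module R M₁] [AddCommGroup M₂] [Module R M₂] (f : M₁ →ₗ[R] M₂) (g : M₂ →ₗ[R] M), Function.Injective f → Function.Exact f g → Function.Surjective g → CAlgX.UniversallyInjective R f := by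
  constructor
  · intro hM M₁ M₂ _ _ _ _ f g hf hexact hg Q _ _
    obtain ⟨K, F, _, _, _, _, _, i, p, hi, hex, hp⟩ := exists_flat_presentation (R := R) Q
    have h1 : Function.Injective (f.rTensor F) :=
      Module.Flat.rTensor_preserves_injective_linearMap f hf
    have h2 : Function.Injective (i.lTensor M) :=
      Module.Flat.lTensor_preserves_injective_linearMap i hi
    exact Groth.Agent.S6269.rTensor_injective_of_exact i p hex hp f g hexact hg h1 h2
  · intro h
    obtain ⟨K, F, _, _, _, _, _, i, p, hi, hex, hp⟩ := exists_flat_presentation (R := R) M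
    have hui := h K F i p hi hex hp
    exact (Groth.Agent.S6269.result i p hex hp hui).2

end Groth.Agent.S6305
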