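import Groth.Statements.S8685
import Groth.Agent.Lib27.SymmPoly
-- import your own Groth.Agent.* helpers here

set_option autoImplicit false
universe u
open LambdaRing

namespace Groth.Agent.S8685

/-- For all i, j there is a polynomial Q ∈ ℤ[X_1, …, X_{ij}] such that substituting the k-th elementary
symmetric function of ij variables T for X_k yields the j-th elementary symmetric function of the
products of the T_a over the i-element subsets of the variables, and Q is isobaric of weight ij, the
variable X_k having weight k. -/
theorem result (i j : ℕ) :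
    ∃ Q : MvPolynomial (Fin (i * j)) ℤ, LambdaRing.IsCompPoly i j Q := by
  have h1 : LambdaRing.compGen (i * j) i j = Groth.Agent.Lib27.SymmPoly.compSym (Fin (i * j)) ℤ i j := by
    unfold LambdaRing.compGen Groth.Agent.Lib27.SymmPoly.compSym
    rw [Finset.esymm_map_val]
  obtain ⟨Q, hQ1, hQ2⟩ := Groth.Agent.Lib27.SymmPoly.exists_isobaric_of_isSymmetric (R := ℤ) (i * j)
    (Groth.Agent.Lib27.SymmPoly.compSym (Fin (i * j)) ℤ i j)
    (Groth.Agent.Lib27.SymmPoly.compSym_isSymmetric _ i j) (i * j)
    (Groth.Agent.Lib27.SymmPoly.compSym_isHomogeneous _ i j)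
  exact ⟨Q, by rw [h1]; exact hQ1, hQ2⟩

end Groth.Agent.S8685
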