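import Groth.Statements.S6361
import Groth.Agent.Lib27.ML.Countable

set_option autoImplicit false
universe u
open CAlg

namespace Groth.Agent.S6361

/-- Let M be a Mittag-Leffler, countably generated module over a commutative ring R, and f : P → M a
linear map with P finitely generated. Then there is an endomorphism a of M which factors through
some finitely presented module and satisfies a ∘ f = f. -/
theorem result (R : Type u)
    [CommRing R] (M : Type u) [AddCommGroup M] [Module R M] (hML : CAlg.IsMittagLeffler R M)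
    (hc : CAlg.IsCountablyGenerated R M) {P : Type u} [AddCommGroup P] [Module R P] [Module.Finite R P]
    (f : P →ₗ[R] M) :
    ∃ (Q : Type u) (_ : AddCommGroup Q) (_ : Module R Q) (_ : Module.FinitePresentation R Q)
      (b : M →ₗ[R] Q) (c : Q →ₗ[R] M), (c ∘ₗ b) ∘ₗ f = f := by
  classical
  obtain ⟨s, hs, hspan⟩ := hc
  obtain ⟨n₀, p, hp⟩ := Module.Finite.exists_fin (R := R) (M := P)
  obtain ⟨e, he⟩ := (hs.insert (0 : M)).exists_eq_range (Set.insert_nonempty _ _)
  let z : ℕ → M := fun i => if h : i < n₀ then f (p ⟨i, h⟩) else e (i - n₀)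
  let Φ : (ℕ →₀ R) →ₗ[R] M := Finsupp.linearCombination R z
  have hΦ : Function.Surjective Φ := by
    rw [← LinearMap.range_eq_top, Finsupp.range_linearCombination, eq_top_iff, ← hspan]
    apply Submodule.span_mono
    intro x hx
    have : x ∈ Set.range e := he ▸ Set.mem_insert_of_mem _ hx
    obtain ⟨j, rfl⟩ := this
    refine ⟨n₀ + j, ?_⟩
    simp [z]
  let G : ℕ → Submodule R (ℕ →₀ R) := fun n =>
    Finsupp.supported R R ((Finset.range (n₀ + n) : Finset ℕ) : Set ℕ)
  have hmono : ∀ n, G n ≤ G (n + 1) := by
    intro n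
    apply Finsupp.supported_mono
    intro i hi
    simp only [Finset.coe_range, Set.mem_Iio] at hi ⊢
    omega
  have hcover : ∀ x, ∃ n, x ∈ G n := by
    intro x
    obtain ⟨n, hn⟩ := x.support.exists_nat_subset_range
    refine ⟨n, ?_⟩
    rw [Finsupp.mem_supported]
    intro i hi
    have := hn hi
    simp only [Finset.coe_range, Set.mem_Iio, Finset.mem_range] at this ⊢
    omega
  have hfp : ∀ n, Module.FinitePresentation R (G n) := by
    intro n
    have eq : (G n) ≃ₗ[R] ((((Finset.range (n₀ + n) : Finset ℕ) : Set ℕ) : Type) →₀ R) :=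
      Finsupp.supportedEquivFinsupp (M := R) (R := R)
        ((Finset.range (n₀ + n) : Finset ℕ) : Set ℕ)
    exact Module.FinitePresentation.of_equiv (R := R)
      (M := ((((Finset.range (n₀ + n) : Finset ℕ) : Set ℕ) : Type) →₀ R)) (N := G n) eq.symm
  obtain ⟨Q, iA, iM, iF, b, c, hbc⟩ :=
    Groth.Agent.Lib27.ML.exists_retraction_of_chain M hML (ℕ →₀ R) Φ hΦ G hmono hcover hfp
  refine ⟨Q, iA, iM, iF, b, c, ?_⟩
  apply LinearMap.ext_on_range hp
  intro j
  have hj : (Finsupp.single (j : ℕ) (1 : R)) ∈ G 0 := by
    rw [Finsupp.mem_supported]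
    intro i hi
    have := Finsupp.support_single_subset hi
    simp only [Finset.mem_singleton] at this
    simp [this]
  have hz : Φ (Finsupp.single (j : ℕ) (1 : R)) = f (p j) := by
    simp [Φ, z]
  have := hbc _ hj
  rw [hz] at this
  exact this
end Groth.Agent.S6361
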