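import Groth.Statements.S0587
import Mathlib.LinearAlgebra.TensorProduct.Finiteness
-- import your own Groth.Agent.* helpers here

set_option autoImplicit false
universe u
open CAlg

namespace Groth.Agent.S0587

open TensorProduct in
/-- every element of `M ⊗ Q` is a combination of generators of `M` -/
lemma exists_sum_tmul {R : Type u} [CommRing R] {M : Type u} [AddCommGroup M] [Module R M]
    (s : Finset M) (hs : Submodule.span R (s : Set M) = ⊤)
    (Q : Type u) [AddCommGroup Q] [Module R Q] (z : M ⊗[R] Q) :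
    ∃ q : M → Q, z = ∑ m ∈ s, m ⊗ₜ[R] q m := by
  classical
  induction z using TensorProduct.induction_on with
  | zero => exact ⟨fun _ => 0, by simp⟩
  | tmul m q =>
    have hm : m ∈ Submodule.span R (s : Set M) := hs ▸ Submodule.mem_top
    obtain ⟨c, -, hc⟩ := (Submodule.mem_span_finset (R := R)).mp hm
    refine ⟨fun a => c a • q, ?_⟩
    rw [← hc, TensorProduct.sum_tmul]
    refine Finset.sum_congr rfl fun a _ => ?_
    rw [TensorProduct.smul_tmul]
  | add x y hx hy =>
    obtain ⟨q₁, h₁⟩ := hx
    obtain ⟨q₂, h₂⟩ := hy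
    refine ⟨fun m => q₁ m + q₂ m, ?_⟩
    simp only [h₁, h₂, TensorProduct.tmul_add, Finset.sum_add_distrib]

/-- A module `M` is finitely generated exactly when for every family of modules `(Qᵢ)` the natural map
from `M ⊗ ∏ Qᵢ` to `∏ (M ⊗ Qᵢ)` is surjective. -/
theorem result (R : Type u) [CommRing R] (M : Type u)
    [AddCommGroup M] [Module R M] :
    Module.Finite R M ↔ ∀ (ι : Type u) (Q : ι → Type u) [∀ i, AddCommGroup (Q i)]
      [∀ i, Module R (Q i)], Function.Surjective (TensorProduct.piRightHom R R M Q) := by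
  classical
  constructor
  · intro hM ι Q _ _ z
    obtain ⟨s, hs⟩ := hM.fg_top
    choose q hq using fun i => exists_sum_tmul s hs (Q i) (z i)
    refine ⟨∑ m ∈ s, m ⊗ₜ[R] (fun i => q i m), ?_⟩
    ext i
    rw [map_sum, Finset.sum_apply, hq i]
    rfl
  · intro h
    obtain ⟨w, hw⟩ := h M (fun _ => R) (fun m => m ⊗ₜ[R] (1 : R))
    obtain ⟨t, rfl⟩ := TensorProduct.exists_finset w
    refine ⟨⟨t.image Prod.fst, ?_⟩⟩
    rw [eq_top_iff]
    intro m _
    have hm := congrFun hw m
    rw [map_sum, Finset.sum_apply] at hm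
    have hm' := congrArg (TensorProduct.rid R M) hm
    rw [map_sum] at hm'
    simp only [TensorProduct.piRightHom_tmul, TensorProduct.rid_tmul, one_smul] at hm'
    rw [← hm']
    refine Submodule.sum_mem _ fun p hp => Submodule.smul_mem _ _ (Submodule.subset_span ?_)
    exact Finset.mem_coe.mpr (Finset.mem_image_of_mem _ hp)

end Groth.Agent.S0587
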