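import Groth.Statements.S0588
import Mathlib.LinearAlgebra.TensorProduct.Finiteness
import Mathlib.LinearAlgebra.TensorProduct.RightExactness
import Mathlib.RingTheory.Flat.Basic
import Mathlib.Algebra.Module.FinitePresentation
-- import your own Groth.Agent.* helpers here

set_option autoImplicit false
universe u
open CAlg

namespace Groth.Agent.S0588

open TensorProduct

variable {R : Type u} [CommRing R]

/-- every element of `M ⊗ Q` is a combination of generators of `M` -/
lemma exists_sum_tmul {M : Type u} [AddCommGroup M] [Module R M]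
    (s : Finset M) (hs : Submodule.span R (s : Set M) = ⊤)
    (Q : Type u) [AddCommGroup Q] [Module R Q] (z : M ⊗[R] Q) :
    ∃ q : M → Q, z = ∑ m ∈ s, m ⊗ₜ[R] q m := by
  classical
  induction z using TensorProduct.induction_on with
  | zero => exact ⟨fun _ => 0, by simp⟩
  | tmul m q =>
    have hm : m ∈ Submodule.span R (s : Set M) := hs ▸ Submodule.mem_top
    obtain ⟨c, -, hc⟩ := (Submodule.mem_span_finset (R := R)).mp hm
    refine ⟨fun a => c a • q, ?_⟩
    rw [← hc, TensorProduct.sum_tmul]
    refine Finset.sum_congr rfl fun a _ => ?_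
    rw [TensorProduct.smul_tmul]
  | add x y hx hy =>
    obtain ⟨q₁, h₁⟩ := hx
    obtain ⟨q₂, h₂⟩ := hy
    refine ⟨fun m => q₁ m + q₂ m, ?_⟩
    simp only [h₁, h₂, TensorProduct.tmul_add, Finset.sum_add_distrib]

lemma surjective_of_finite (M : Type u) [AddCommGroup M] [Module R M] [hM : Module.Finite R M]
    {ι : Type u} (Q : ι → Type u) [∀ i, AddCommGroup (Q i)] [∀ i, Module R (Q i)] :
    Function.Surjective (TensorProduct.piRightHom R R M Q) := by
  classical
  intro z
  obtain ⟨s, hs⟩ := hM.fg_top
  choose q hq using fun i => exists_sum_tmul s hs (Q i) (z i)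
  refine ⟨∑ m ∈ s, m ⊗ₜ[R] (fun i => q i m), ?_⟩
  ext i
  rw [map_sum, Finset.sum_apply, hq i]
  rfl

lemma finite_of_surjective (M : Type u) [AddCommGroup M] [Module R M]
    (h : Function.Surjective (TensorProduct.piRightHom R R M (fun _ : M => R))) :
    Module.Finite R M := by
  classical
  obtain ⟨w, hw⟩ := h (fun m => m ⊗ₜ[R] (1 : R))
  obtain ⟨t, rfl⟩ := TensorProduct.exists_finset w
  refine ⟨⟨t.image Prod.fst, ?_⟩⟩
  rw [eq_top_iff]
  intro m _
  have hm := congrFun hw m
  rw [map_sum, Finset.sum_apply] at hm
  have hm' := congrArg (TensorProduct.rid R M) hm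
  rw [map_sum] at hm'
  simp only [TensorProduct.piRightHom_tmul, TensorProduct.rid_tmul, one_smul] at hm'
  rw [← hm']
  refine Submodule.sum_mem _ fun p hp => Submodule.smul_mem _ _ (Submodule.subset_span ?_)
  exact Finset.mem_coe.mpr (Finset.mem_image_of_mem _ hp)

/-- naturality of `piRightHom` -/
lemma piRightHom_natural {N N' : Type u} [AddCommGroup N] [Module R N] [AddCommGroup N']
    [Module R N'] (g : N →ₗ[R] N') {ι : Type u} (Q : ι → Type u) [∀ i, AddCommGroup (Q i)]
    [∀ i, Module R (Q i)] (z : N ⊗[R] (∀ i, Q i)) (i : ι) :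
    TensorProduct.piRightHom R R N' Q (LinearMap.rTensor _ g z) i =
      LinearMap.rTensor (Q i) g (TensorProduct.piRightHom R R N Q z i) := by
  induction z using TensorProduct.induction_on with
  | zero => simp
  | tmul n q => simp
  | add x y hx hy => simp only [map_add, Pi.add_apply, hx, hy]

/-- the identification `(Fin n → R) ⊗ P ≃ (Fin n → P)` -/
noncomputable def eqv (n : ℕ) (P : Type u) [AddCommGroup P] [Module R P] :
    (Fin n → R) ⊗[R] P ≃ₗ[R] (Fin n → P) :=
  (TensorProduct.comm R (Fin n → R) P) ≪≫ₗ (TensorProduct.piScalarRight R R P (Fin n))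

lemma eqv_tmul (n : ℕ) (P : Type u) [AddCommGroup P] [Module R P] (f : Fin n → R) (p : P) :
    eqv n P (f ⊗ₜ[R] p) = fun j => f j • p := by
  simp [eqv]

lemma injective_free (n : ℕ) {ι : Type u} (Q : ι → Type u) [∀ i, AddCommGroup (Q i)]
    [∀ i, Module R (Q i)] :
    Function.Injective (TensorProduct.piRightHom R R (Fin n → R) Q) := by
  rw [injective_iff_map_eq_zero]
  intro y hy
  have key : ∀ (y : (Fin n → R) ⊗[R] (∀ i, Q i)) (i : ι) (j : Fin n),
      eqv n (Q i) (TensorProduct.piRightHom R R (Fin n → R) Q y i) j =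
        (eqv n (∀ i, Q i) y j) i := by
    intro y i j
    induction y using TensorProduct.induction_on with
    | zero => simp
    | tmul f p => simp [eqv_tmul]
    | add x y hx hy => simp only [map_add, Pi.add_apply, hx, hy]
  apply (eqv n (∀ i, Q i)).injective
  rw [map_zero]
  ext j i
  rw [← key, hy]
  simp

/-- A module `M` is finitely presented exactly when for every family of modules `(Qᵢ)` the natural map
from `M ⊗ ∏ Qᵢ` to `∏ (M ⊗ Qᵢ)` is bijective. -/
theorem result (R : Type u) [CommRing R] (M : Type u)
    [AddCommGroup M] [Module R M] :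
    Module.FinitePresentation R M ↔ ∀ (ι : Type u) (Q : ι → Type u) [∀ i, AddCommGroup (Q i)]
      [∀ i, Module R (Q i)], Function.Bijective (TensorProduct.piRightHom R R M Q) := by
  classical
  constructor
  · intro hM ι Q _ _
    refine ⟨?_, surjective_of_finite M Q⟩
    obtain ⟨n, f, hf⟩ := Module.Finite.exists_fin' R M
    have hK : (LinearMap.ker f).FG := Module.FinitePresentation.fg_ker f hf
    have : Module.Finite R (LinearMap.ker f) := Module.Finite.iff_fg.mpr hK
    have hex : Function.Exact (LinearMap.ker f).subtype f := f.exact_subtype_ker_map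
    rw [injective_iff_map_eq_zero]
    intro z hz
    obtain ⟨y, rfl⟩ := LinearMap.rTensor_surjective (∀ i, Q i) hf z
    have h1 : ∀ i, LinearMap.rTensor (Q i) f
        (TensorProduct.piRightHom R R (Fin n → R) Q y i) = 0 := by
      intro i
      rw [← piRightHom_natural, hz]
      rfl
    have h2 : ∀ i, ∃ w : (LinearMap.ker f) ⊗[R] Q i,
        LinearMap.rTensor (Q i) (LinearMap.ker f).subtype w =
          TensorProduct.piRightHom R R (Fin n → R) Q y i := fun i =>
      (rTensor_exact (Q i) hex hf _).mp (h1 i)
    choose w hw using h2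
    obtain ⟨v, hv⟩ := surjective_of_finite (LinearMap.ker f) Q w
    have h3 : LinearMap.rTensor (∀ i, Q i) (LinearMap.ker f).subtype v = y := by
      apply injective_free n Q
      ext i
      rw [piRightHom_natural, hv, hw]
    rw [← h3]
    exact (rTensor_exact (∀ i, Q i) hex hf _).mpr ⟨v, rfl⟩
  · intro h
    have hM : Module.Finite R M := finite_of_surjective M (h M (fun _ => R)).2
    obtain ⟨n, f, hf⟩ := Module.Finite.exists_fin' R M
    have hex : Function.Exact (LinearMap.ker f).subtype f := f.exact_subtype_ker_map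
    suffices hK : Module.Finite R (LinearMap.ker f) from
      Module.finitePresentation_of_surjective f hf (Module.Finite.iff_fg.mp hK)
    apply finite_of_surjective
    generalize hKdef : LinearMap.ker f = K at hex ⊢
    intro w
    obtain ⟨y, hy⟩ := surjective_of_finite (Fin n → R) (fun _ : K => R)
      (fun i => LinearMap.rTensor R K.subtype (w i))
    have h1 : LinearMap.rTensor (K → R) f y = 0 := by
      apply (h K (fun _ => R)).1
      ext i
      rw [piRightHom_natural, hy, map_zero, Pi.zero_apply]
      exact (rTensor_exact R hex hf _).mpr ⟨w i, rfl⟩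
    obtain ⟨v, hv⟩ := (rTensor_exact (K → R) hex hf _).mp h1
    refine ⟨v, ?_⟩
    ext i
    apply Module.Flat.rTensor_preserves_injective_linearMap (M := R) K.subtype
      K.injective_subtype
    have key := piRightHom_natural K.subtype (fun _ : K => R) v i
    rw [hv, hy] at key
    exact key.symm

end Groth.Agent.S0588
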