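import Groth.Statements.S16030
import Mathlib

set_option autoImplicit false
universe u
open CAlg

namespace Groth.Agent.S16030

/-- For a finite set F of points of the spectrum of a commutative ring A and an open subset U containing
F, some basic open D(a) contains F and is contained in U. -/
theorem result
    (A : Type u) [CommRing A] (F : Set (PrimeSpectrum A)) (hF : F.Finite)
    (U : TopologicalSpace.Opens (PrimeSpectrum A)) (hFU : F ⊆ (U : Set (PrimeSpectrum A))) :
    ∃ a : A, F ⊆ (PrimeSpectrum.basicOpen a : Set (PrimeSpectrum A)) ∧ PrimeSpectrum.basicOpen a ≤ U := by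
  classical
  rcases F.eq_empty_or_nonempty with rfl | ⟨p₀, hp₀⟩
  · refine ⟨0, Set.empty_subset _, ?_⟩
    rw [PrimeSpectrum.basicOpen_zero]
    exact bot_le
  -- U is the complement of a zero locus V(I)
  obtain ⟨s, hs⟩ : ∃ s : Set A, (U : Set (PrimeSpectrum A))ᶜ = PrimeSpectrum.zeroLocus s :=
    (PrimeSpectrum.isClosed_iff_zeroLocus _).mp U.isOpen.isClosed_compl
  set I : Ideal A := Ideal.span s with hI
  have hsI : PrimeSpectrum.zeroLocus (I : Set A) = PrimeSpectrum.zeroLocus s :=
    PrimeSpectrum.zeroLocus_span s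
  -- no prime of F contains I
  have hnot : ¬ ((I : Set A) ⊆ ⋃ p ∈ (↑hF.toFinset : Set (PrimeSpectrum A)), (p.asIdeal : Set A)) := by
    intro hsub
    obtain ⟨p, hp, hIp⟩ := (Ideal.subset_union_prime (s := hF.toFinset)
      (f := fun p : PrimeSpectrum A => p.asIdeal) p₀ p₀
      (fun i _ _ _ => i.isPrime)).mp hsub
    have hpF : p ∈ F := (Set.Finite.mem_toFinset hF).mp hp
    have : p ∈ PrimeSpectrum.zeroLocus (I : Set A) := hIp
    rw [hsI, ← hs] at this
    exact this (hFU hpF)
  rw [Set.not_subset] at hnot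
  obtain ⟨a, haI, hanot⟩ := hnot
  refine ⟨a, ?_, ?_⟩
  · intro p hp
    rw [SetLike.mem_coe, PrimeSpectrum.mem_basicOpen]
    intro hap
    apply hanot
    simp only [Set.mem_iUnion]
    exact ⟨p, (Set.Finite.mem_toFinset hF).mpr hp, hap⟩
  · intro p hp
    by_contra hpU
    have : p ∈ PrimeSpectrum.zeroLocus s := by rw [← hs]; exact hpU
    rw [← hsI] at this
    exact (PrimeSpectrum.mem_basicOpen _ _).mp hp (this haI)

end Groth.Agent.S16030
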