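import Groth.Statements.S0011
import Mathlib
import Groth.Agent.Lib.Helper29.QCohQcqs
import Groth.Agent.Lib.Helper22.Cech.AffineMorphism

set_option autoImplicit false
universe u
open Coherent

open AlgebraicGeometry

namespace S0011aux
open AlgebraicGeometry CategoryTheory CategoryTheory.Limits TopologicalSpace
open Groth.Agent.Lib.Helper29.QCoh Groth.Agent.Lib.Helper22.Cech

variable {X : Scheme.{u}}

/-- inclusion of an affine open into a scheme with affine intersections is an affine morphism -/
lemma isAffineHom_ι (hd : ∀ V W : X.Opens, IsAffineOpen V → IsAffineOpen W → IsAffineOpen (V ⊓ W))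
    (U : X.Opens) (hU : IsAffineOpen U) : IsAffineHom U.ι := by
  refine ⟨fun V hV => ?_⟩
  rw [← U.ι.isAffineOpen_iff_of_isOpenImmersion, Scheme.Hom.image_preimage_eq_opensRange_inf,
    Scheme.Opens.opensRange_ι]
  exact hd _ _ hU hV

/-- additive functors to abelian groups kill finite biproducts of objects they kill -/
lemma subsingleton_map_biproduct {C : Type*} [Category C] [Preadditive C] {ι : Type} [Fintype ι]
    (F : C ⥤ AddCommGrpCat.{u}) [F.Additive] (N : ι → C) [HasBiproduct N]
    (h : ∀ i, Subsingleton (F.obj (N i))) : Subsingleton (F.obj (⨁ N)) := by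
  classical
  refine ⟨fun x y => ?_⟩
  have key : ∀ z : F.obj (⨁ N), z = 0 := by
    intro z
    have h0 : ∀ i, F.map (biproduct.π N i) = 0 := by
      intro i
      ext w
      exact Subsingleton.elim (h := h i) _ _
    have h1 : F.map (𝟙 (⨁ N)) = 0 := by
      rw [← biproduct.total, Functor.map_sum]
      apply Finset.sum_eq_zero
      intro i _
      rw [Functor.map_comp, h0, zero_comp]
    have h2 : z = (F.map (𝟙 (⨁ N))) z := by simp
    rw [h2, h1]
    rfl
  rw [key x, key y]

theorem main (X : Scheme.{u}) [CompactSpace X]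
    (hd : ∀ V W : X.Opens, IsAffineOpen V → IsAffineOpen W → IsAffineOpen (V ⊓ W))
    (M : X.Modules) [Coh.IsQCoh M] :
    ∃ (M' : X.Modules) (i : M ⟶ M'), Mono i ∧ Coh.IsQCoh M' ∧
      ∀ p : ℕ, 0 < p → Subsingleton (Coh.HH X M' p) := by
  obtain ⟨n, U, hU, -, hcov⟩ := exists_finite_affine_cover (X := X) (U := ⊤) isCompact_univ
  have : HasFiniteBiproducts X.Modules := HasFiniteBiproducts.of_hasFiniteProducts
  have hM : M.IsQuasicoherent := ‹_›
  have haff : ∀ i, IsAffineHom (U i).ι := fun i => isAffineHom_ι hd _ (hU i)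
  let N : Fin n → X.Modules := fun i =>
    (Scheme.Modules.pushforward (U i).ι).obj (M.restrict (U i).ι)
  have hNq : ∀ i, (N i).IsQuasicoherent := fun i => by
    have := haff i
    have : (M.restrict (U i).ι).IsQuasicoherent :=
      Scheme.Modules.isQuasicoherent_restrictFunctor (U i).ι M
    exact isQuasicoherent_pushforward_of_isAffineHom (U i).ι (M.restrict (U i).ι)
  let φ : M ⟶ ⨁ N := biproduct.lift fun i => (Scheme.Modules.restrictAdjunction (U i).ι).unit.app M
  refine ⟨⨁ N, φ, ?_, ?_, ?_⟩
  · -- mono
    rw [mono_iff_app_injective]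
    intro V
    rw [injective_iff_map_eq_zero]
    intro s hs
    have hle : ∀ i, (U i).ι ''ᵁ ((U i).ι ⁻¹ᵁ V) ≤ V := fun i => (U i).ι.image_preimage_le V
    apply eq_zero_of_res_cover_eq_zero M (fun i => (U i).ι ''ᵁ ((U i).ι ⁻¹ᵁ V)) hle
    · intro x hx
      obtain ⟨i, hi⟩ := Opens.mem_iSup.mp (hcov (show x ∈ (⊤ : X.Opens) from trivial))
      refine Opens.mem_iSup.mpr ⟨i, ?_⟩
      rw [Scheme.Hom.image_preimage_eq_opensRange_inf, Scheme.Opens.opensRange_ι]
      exact ⟨hi, hx⟩
    · intro i
      have h1 : (φ ≫ biproduct.π N i).app V s = 0 := by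
        rw [Scheme.Modules.Hom.comp_app]
        change ((biproduct.π N i).app V) ((φ.app V) s) = 0
        rw [hs, map_zero]
      rw [biproduct.lift_π] at h1
      exact h1
  · -- quasi-coherent
    have h1 : (∐ N).IsQuasicoherent := isQuasicoherent_colimit_aux (Discrete.functor N)
      (fun j => hNq j.as)
    exact (SheafOfModules.isQuasicoherent X.ringCatSheaf).prop_of_iso
      (biproduct.isoCoproduct N).symm h1
  · -- acyclic
    intro p hp
    let F : X.Modules ⥤ AddCommGrpCat.{u} :=
      SheafOfModules.toSheaf X.ringCatSheaf ⋙ Sheaf.functorH (Opens.grothendieckTopology X) p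
    have hF1 : (SheafOfModules.toSheaf X.ringCatSheaf).Additive := inferInstance
    have hF2 : (Sheaf.functorH (Opens.grothendieckTopology X) p).Additive := inferInstance
    have hF : F.Additive := inferInstanceAs (SheafOfModules.toSheaf X.ringCatSheaf ⋙
      Sheaf.functorH (Opens.grothendieckTopology X) p).Additive
    have h2 : ∀ i, Subsingleton (F.obj (N i)) := by
      intro i
      have := haff i
      have hq : (M.restrict (U i).ι).IsQuasicoherent :=
        Scheme.Modules.isQuasicoherent_restrictFunctor (U i).ι M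
      obtain ⟨e⟩ := nonempty_HH_addEquiv_HH_push (U i).ι (M.restrict (U i).ι) p
      have hUi : IsAffine (U i).toScheme := hU i
      obtain ⟨q, rfl⟩ : ∃ q, p = q + 1 := ⟨p - 1, by omega⟩
      have := subsingleton_HH_succ_of_isAffine (U i).toScheme (M.restrict (U i).ι) q
      exact e.symm.toEquiv.subsingleton
    exact subsingleton_map_biproduct F N h2

end S0011aux

namespace Groth.Agent.S0011

open AlgebraicGeometry CategoryTheory in
/-- On a quasi-compact scheme in which affine opens have affine intersections, every quasi-coherent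
module admits a monomorphism into a quasi-coherent module whose cohomology vanishes in all positive
degrees. (Part (2), universality of the delta-functor, is not stated.) -/
theorem result (X : Scheme.{u}) [CompactSpace X]
    (hd : ∀ V W : X.Opens, IsAffineOpen V → IsAffineOpen W → IsAffineOpen (V ⊓ W))
    (M : X.Modules) [Coh.IsQCoh M] :
    ∃ (M' : X.Modules) (i : M ⟶ M'), Mono i ∧ Coh.IsQCoh M' ∧
      ∀ p : ℕ, 0 < p → Subsingleton (Coh.HH X M' p) := by
  exact S0011aux.main X hd M

end Groth.Agent.S0011
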