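import Groth.Statements.S0014
import Groth.Agent.Lib.Helper5.ColimTopGen
import Groth.Agent.Lib.Helper5.ToSheafColim
import Groth.Agent.Lib.Helper29.QCohCrit
import Groth.Agent.S2128
import Groth.Agent.S0009

set_option autoImplicit false
universe u
open Coherent

namespace Groth.Agent.S0014

open AlgebraicGeometry CategoryTheory in
/-- If X is quasi-compact and quasi-separated and H^1 vanishes for every quasi-coherent submodule of
finite type of the structure sheaf, then X is affine. -/
theorem result (X : Scheme.{u}) [CompactSpace X]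
    [QuasiSeparatedSpace X]
    (h : ∀ (I : X.Modules) (i : I ⟶ Coh.structureModule X), Mono i →
      Coh.IsQCoh I → CohB1.IsFT I → Subsingleton (Coh.HH X I 1)) : IsAffine X := by
  refine Groth.Agent.S0009.result X (fun I i hmono hq => ?_)
  obtain ⟨K, hK1, hK2, D, c, hc, hfp, hpt⟩ := Groth.Agent.S2128.result X I hq
  subst hpt
  suffices hx : ∀ x : Coh.HH X c.pt 1, x = 0 from ⟨fun a b => (hx a).trans (hx b).symm⟩
  intro x
  have hTc : CategoryTheory.Limits.IsColimit
      ((SheafOfModules.toSheaf X.ringCatSheaf).mapCocone c) :=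
    CategoryTheory.Limits.isColimitOfPreserves (SheafOfModules.toSheaf X.ringCatSheaf) hc
  obtain ⟨k, y, hy⟩ := Groth.Agent.Lib.Helper5.ColimTopGen.H_rep (X := X.carrier)
    ((SheafOfModules.toSheaf X.ringCatSheaf).mapCocone c) hTc 1 x
  obtain ⟨φ, hφ⟩ : ∃ φ : D.obj k ⟶ c.pt, φ = c.ι.app k := ⟨c.ι.app k, rfl⟩
  have hfpk : SheafOfModules.IsFinitePresentation (R := X.ringCatSheaf) (D.obj k) := hfp k
  have hqk : SheafOfModules.IsQuasicoherent (R := X.ringCatSheaf) (D.obj k) := inferInstance
  have hfk : SheafOfModules.IsFiniteType (R := X.ringCatSheaf) (D.obj k) := inferInstance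
  have hqc : SheafOfModules.IsQuasicoherent (R := X.ringCatSheaf) c.pt := hq
  have hqcok : SheafOfModules.IsQuasicoherent (R := X.ringCatSheaf)
      (CategoryTheory.Limits.cokernel φ) :=
    Groth.Agent.Lib.Helper29.QCoh.isQuasicoherent_cokernel φ
  have hqI : SheafOfModules.IsQuasicoherent (R := X.ringCatSheaf)
      (CategoryTheory.Abelian.image φ) :=
    Groth.Agent.Lib.Helper29.QCoh.isQuasicoherent_kernel
      (CategoryTheory.Limits.cokernel.π φ)
  have hfI : SheafOfModules.IsFiniteType (R := X.ringCatSheaf)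
      (CategoryTheory.Abelian.image φ) :=
    @Groth.Agent.Lib.Helper29.QCoh.isFiniteType_of_epi X _ _
      (CategoryTheory.Abelian.factorThruImage φ) (CategoryTheory.Abelian.instEpiFactorThruImage φ)
      hqk hfk hqI
  have hmono2 : Mono (CategoryTheory.Abelian.image.ι φ ≫ i) := by
    have := hmono
    exact mono_comp _ _
  have hs : Subsingleton (Coh.HH X (CategoryTheory.Abelian.image φ) 1) :=
    h _ (CategoryTheory.Abelian.image.ι φ ≫ i) hmono2 hqI hfI
  have hfac : (SheafOfModules.toSheaf X.ringCatSheaf).map φ =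
      (SheafOfModules.toSheaf X.ringCatSheaf).map
          (CategoryTheory.Abelian.factorThruImage φ) ≫
        (SheafOfModules.toSheaf X.ringCatSheaf).map
          (CategoryTheory.Abelian.image.ι φ) := by
    exact ((SheafOfModules.toSheaf X.ringCatSheaf).congr_map
      (CategoryTheory.Abelian.image.fac φ).symm).trans
      ((SheafOfModules.toSheaf X.ringCatSheaf).map_comp _ _)
  have hy' : Sheaf.H.map ((SheafOfModules.toSheaf X.ringCatSheaf).map φ) 1 y = x := by
    rw [hφ]; exact hy
  rw [← hy', hfac, Sheaf.H.map_comp_apply,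
    hs.elim (Sheaf.H.map ((SheafOfModules.toSheaf X.ringCatSheaf).map
      (CategoryTheory.Abelian.factorThruImage φ)) 1 y) 0, map_zero]

end Groth.Agent.S0014
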