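import Groth.Statements.S0018
-- import your own Groth.Agent.* helpers here
import Groth.Agent.Lib.Helper29.QCohFP

set_option autoImplicit false
universe u
open Coherent

namespace Groth.Agent.S0018

open AlgebraicGeometry in
/-- On a locally Noetherian scheme an O_X-module is quasi-coherent of finite type if and only if it is
of finite presentation. (Either condition is what 'coherent' means there.) -/
theorem result (X : Scheme.{u}) [IsLocallyNoetherian X] (M : X.Modules) :
    Coh.IsCoh M ↔ CohB1.IsFP M := by
  constructor
  · rintro ⟨hq, hft⟩
    have : M.IsQuasicoherent := hq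
    have : M.IsFiniteType := hft
    refine Groth.Agent.Lib.Helper29.QCoh.isFinitePresentation_of_module_finitePresentation M
      (fun U : X.affineOpens => (U : X.Opens))
      (Groth.Agent.Lib.Helper29.QCoh.isOpenCover_affineOpens X) (fun U => U.2) (fun U => ?_)
    have := IsLocallyNoetherian.component_noetherian (X := X) U
    have hfin : Module.Finite Γ(X, U.1) Γ(M, U.1) :=
      Groth.Agent.Lib.Helper29.QCoh.module_finite_of_isFiniteType M U.2
    exact Module.finitePresentation_of_finite Γ(X, U.1) Γ(M, U.1)
  · intro h
    have h1 : M.IsFinitePresentation := h
    have h2 : M.IsQuasicoherent := inferInstance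
    have h3 : M.IsFiniteType := inferInstance
    exact ⟨h2, h3⟩

end Groth.Agent.S0018
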