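import Groth.Statements.S0020
-- import your own Groth.Agent.* helpers here
import Groth.Agent.Lib.Helper29.QCohFinite

set_option autoImplicit false
universe u
open Coherent

namespace Groth.Agent.S0020

open AlgebraicGeometry in
/-- On a scheme X, the set of points at which the stalk of a finite type 𝒪_X-module M is nonzero (the
support of M) is closed. -/
theorem result (X : Scheme.{u}) (M : X.Modules) (hM : CohB1.IsFT M) :
    IsClosed (CohB1.support M) := by
  have : SheafOfModules.IsFiniteType (R := X.ringCatSheaf) M := hM
  have h := Groth.Agent.Lib.Helper29.QCoh.isOpen_setOf_subsingleton_stalk M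
  rw [← isOpen_compl_iff]
  have e : (CohB1.support M)ᶜ = {x : X | Subsingleton (M.presheaf.stalk x)} := by
    ext x
    simp only [CohB1.support, Set.mem_compl_iff, Set.mem_setOf_eq, not_not]
  rw [e]
  exact h

end Groth.Agent.S0020
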