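import Groth.Statements.S0023
import Groth.Agent.Lib.Lead.Pn.H0
import Groth.Agent.Lib.Lead.Pn.TwistZero
import Groth.Agent.S0022

set_option autoImplicit false
universe u
open Coherent

namespace Groth.Agent.S0023

open AlgebraicGeometry in
/-- Special case of the twist d = 0 in positive degree: H^q(P^n_R, O) = 0 for all q > 0 and any ring R.
(The full statement computes all H^q(P^n_R, O(d)); only the untwisted part is stated here.) -/
theorem result (n : ℕ) (R : Type u) [CommRing R]
    (q : ℕ) (hq : 0 < q) :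
    Subsingleton (Coh.HH (CohB1.ProjSpace n R) (Coh.structureModule (CohB1.ProjSpace n R)) q) := by
  obtain ⟨q', rfl⟩ := Nat.exists_eq_succ_of_ne_zero hq.ne'
  obtain ⟨e⟩ := Groth.Agent.Lib.Lead.Pn.nonempty_unit_iso_twist_zero
    (Groth.Agent.Lib.Lead.Pn.𝒜 n R)
  have h1 : Subsingleton (Coh.HH (Proj (Groth.Agent.Lib.Lead.Pn.𝒜 n R))
      (Twist.twist (Groth.Agent.Lib.Lead.Pn.𝒜 n R) 0) (q' + 1)) := by
    by_cases h1 : q' + 1 ≤ n
    · apply Groth.Agent.Lib.Lead.Pn.subsingleton_HH_succ q' (Or.inr ?_)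
      have : (0 : ℤ) ≤ n := Int.natCast_nonneg n
      omega
    · haveI : Coh.IsQCoh (Twist.twistProjSpace n R 0) :=
        Groth.Agent.Lib.Lead.Pn.twist_isQuasicoherent n R 0
      exact Groth.Agent.S0022.result n R (Twist.twistProjSpace n R 0) (q' + 1) (by omega)
  exact Groth.Agent.Lib.Lead.Pn.subsingleton_HH_of_iso e.symm (q' + 1) h1

end Groth.Agent.S0023
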