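import Groth.Statements.S0027
-- import your own Groth.Agent.* helpers here
import Groth.Agent.Lib.Helper12.Dev8

set_option autoImplicit false
universe u
open Coherent

namespace Groth.Agent.S0027

open AlgebraicGeometry CategoryTheory CategoryTheory.Limits in
/-- Let X be a nonempty Noetherian scheme and P an isomorphism-invariant property of O_X-modules such
that (1) in a short exact sequence of coherent modules, P for the two outer terms implies P for the
middle term, and (2) P holds for the direct image of every quasi-coherent ideal sheaf of every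
integral closed subscheme of X. Then P holds for every coherent O_X-module. (Nonemptiness of X is
needed for the zero module; the published statement leaves it implicit.) -/
theorem result (X : Scheme.{u}) [IsNoetherian X] [Nonempty X]
    (P : X.Modules → Prop) (hP : ∀ M N : X.Modules, Nonempty (M ≅ N) → P M → P N)
    (h₁ : ∀ S : ShortComplex X.Modules, S.ShortExact → Coh.IsCoh S.X₁ → Coh.IsCoh S.X₂ →
      Coh.IsCoh S.X₃ → P S.X₁ → P S.X₃ → P S.X₂)
    (h₂ : ∀ (Z : Scheme.{u}) (i : Z ⟶ X), IsClosedImmersion i → IsIntegral Z →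
      ∀ (I : Z.Modules) (ι : I ⟶ Coh.structureModule Z), Mono ι → Coh.IsQCoh I →
        P ((Coh.push i).obj I))
    (M : X.Modules) (hM : Coh.IsCoh M) : P M := by
  classical
  have hiso : ∀ M N : X.Modules, (M ≅ N) → P M → P N := fun M N e h => hP M N ⟨e⟩ h
  have hext : Groth.Agent.Lib.Helper12.H12Dev.ExtClosed P := h₁
  have hpush : ∀ (Z : Set X) (hZ : IsClosed Z), IsIrreducible Z →
      ∀ (I : (Scheme.IdealSheafData.vanishingIdeal ⟨Z, hZ⟩).subscheme.Modules)
      (ι : I ⟶ Groth.Agent.Lib.Helper29.QCoh.unitM _), Mono ι → I.IsQuasicoherent →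
      P ((Scheme.Modules.pushforward
        (Scheme.IdealSheafData.vanishingIdeal ⟨Z, hZ⟩).subschemeι).obj I) := by
    intro Z hZ hirr I ι hm hq
    exact h₂ _ _ inferInstance
      (Groth.Agent.Lib.Helper12.H12Dev.isIntegral_subscheme_vanishingIdeal ⟨Z, hZ⟩ hirr) I ι hm hq
  have h0 : ∀ M : X.Modules, IsZero M → P M := by
    intro M hM
    obtain ⟨x⟩ := ‹Nonempty X›
    have hZ : IsClosed (closure {x}) := isClosed_closure
    have hirr : IsIrreducible (closure ({x} : Set X)) := isIrreducible_singleton.closure
    haveI : (Groth.Agent.Lib.Helper29.QCoh.unitM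
        (Scheme.IdealSheafData.vanishingIdeal ⟨closure {x}, hZ⟩).subscheme).IsQuasicoherent :=
      Groth.Agent.Lib.Helper29.QCoh.isQuasicoherent_unitM _
    have h := hpush (closure {x}) hZ hirr _ (kernel.ι (𝟙 (Groth.Agent.Lib.Helper29.QCoh.unitM _)))
      inferInstance inferInstance
    have hz : IsZero ((Scheme.Modules.pushforward
        (Scheme.IdealSheafData.vanishingIdeal ⟨closure {x}, hZ⟩).subschemeι).obj
        (kernel (𝟙 (Groth.Agent.Lib.Helper29.QCoh.unitM _)))) :=
      Functor.map_isZero _ (isZero_kernel_of_mono _)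
    exact hiso _ _ (hz.iso hM) h
  refine Groth.Agent.Lib.Helper12.H12Dev.devissage_core h0 hext Set.univ ?_ M hM (Set.subset_univ _)
  intro Z hZ hirr _ y hy hsmall T hT hTsupp hTs
  exact Groth.Agent.Lib.Helper12.H12Dev.mem_of_simple_stalk_of_push hiso hext Z hZ hirr y hy
    (hpush Z hZ hirr) hsmall T hT hTsupp hTs

end Groth.Agent.S0027
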