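import Groth.Statements.S0031
import Groth.Agent.Lib.Helper22.Cech.UniformVanishing

set_option autoImplicit false
universe u
open Coherent

namespace Groth.Agent.S0031

open AlgebraicGeometry CategoryTheory in
/-- If f : X → S is quasi-compact and quasi-separated and S is quasi-compact, there is an integer n with
R^p f_* F = 0 for all p ≥ n and all quasi-coherent F (higher direct images of the underlying abelian
sheaves). -/
theorem result {X S : Scheme.{u}} (f : X ⟶ S) [QuasiCompact f]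
    [QuasiSeparated f] [CompactSpace S] :
    ∃ n : ℕ, ∀ (M : X.Modules), Coh.IsQCoh M → ∀ p : ℕ, n ≤ p →
      Limits.IsZero ((Coh.RpushAb f p).obj (Coh.toAb M)) := by
  classical
  -- a finite affine cover of `S`
  obtain ⟨s, hs, hcov⟩ := isCompact_iff_finite_and_eq_biUnion_affineOpens.mp
    (show IsCompact ((⊤ : S.Opens) : Set S) by
      rw [TopologicalSpace.Opens.coe_top]; exact isCompact_univ)
  have := hs.fintype
  -- uniform bounds over each member of the cover
  have key : ∀ i : s, ∃ d : ℕ, ∀ V : S.Opens, IsAffineOpen V → V ≤ (i.1 : S.Opens) →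
      ∀ (M : X.Modules), M.IsQuasicoherent → ∀ p : ℕ, d ≤ p →
        Subsingleton (CohTop.HU (Coh.toAb M) p (f ⁻¹ᵁ V)) := by
    intro i
    have hT : IsQuasiSeparated ((f ⁻¹ᵁ (i.1 : S.Opens) : X.Opens) : Set X) :=
      f.isQuasiSeparated_preimage i.1.2.isQuasiSeparated
    have hc : IsCompact ((f ⁻¹ᵁ (i.1 : S.Opens) : X.Opens) : Set X) :=
      QuasiCompact.isCompact_preimage (f := f) _ (i.1 : S.Opens).isOpen i.1.2.isCompact
    obtain ⟨d, hd⟩ := Groth.Agent.Lib.Helper22.Cech.exists_uniform_bound X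
      (f ⁻¹ᵁ (i.1 : S.Opens)) hT
      {W | ∃ V : S.Opens, IsAffineOpen V ∧ V ≤ (i.1 : S.Opens) ∧ W = f ⁻¹ᵁ V}
      (by
        rintro A hAT hA W ⟨V, hV, hVi, rfl⟩
        exact Groth.Agent.Lib.Helper22.Cech.isAffineOpen_inf_preimage f hA i.1.2 hV hAT hVi)
      _ le_rfl hc
    refine ⟨d, fun V hV hVi M hM p hp => ?_⟩
    have h := hd (f ⁻¹ᵁ V) ⟨V, hV, hVi, rfl⟩ M hM p hp
    have hle : f ⁻¹ᵁ V ≤ f ⁻¹ᵁ (i.1 : S.Opens) := fun x hx => hVi hx
    rwa [inf_eq_right.mpr hle] at h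
  choose d hd using key
  let N : ℕ := Finset.univ.sup d
  refine ⟨N + 1, fun M hM p hp => ?_⟩
  -- the basis of affine opens contained in a member of the cover
  let B : Set S.Opens := {V | IsAffineOpen V ∧ ∃ i : s, V ≤ (i.1 : S.Opens)}
  have hB : TopologicalSpace.Opens.IsBasis B := by
    rw [TopologicalSpace.Opens.isBasis_iff_nbhd]
    intro U x hx
    have hx' : x ∈ (⊤ : S.Opens) := trivial
    rw [hcov] at hx'
    simp only [TopologicalSpace.Opens.mem_iSup] at hx'
    obtain ⟨i, hi, hxi⟩ := hx'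
    obtain ⟨V, hV, hxV, hVU⟩ := TopologicalSpace.Opens.isBasis_iff_nbhd.mp S.isBasis_affineOpens
      (show x ∈ U ⊓ (i : S.Opens) from ⟨hx, hxi⟩)
    exact ⟨V, ⟨hV, ⟨⟨i, hi⟩, hVU.trans inf_le_right⟩⟩, hxV, hVU.trans inf_le_left⟩
  refine Groth.Agent.Lib.Helper22.Cech.isZero_Rpush_of_preimageAcyclicGE f.base hB N (Coh.toAb M)
    ?_ p hp
  rintro V ⟨hV, i, hVi⟩ q hq x
  have h := hd i V hV hVi M hM q ((Finset.le_sup (Finset.mem_univ i)).trans (by omega))
  exact h.elim x 0

end Groth.Agent.S0031
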