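import Groth.Statements.S0045
import Mathlib
import Groth.Agent.Lib.Helper29.QCohQcqs
import Groth.Agent.Lib.Helper29.QCohGen
import Groth.Agent.Lib.Lead.QCohIso

set_option autoImplicit false
universe u
open Coherent

namespace Groth.Agent.S0045

open AlgebraicGeometry CategoryTheory in
/-- On a Noetherian scheme, any increasing sequence of quasi-coherent submodules of a coherent module is
eventually constant. -/
theorem result (X : Scheme.{u}) [IsNoetherian X] (M : X.Modules)
    (hM : Coh.IsCoh M) (F : ℕ →o Subobject M) (hF : ∀ n, Coh.IsQCoh ((F n : Subobject M) : X.Modules)) :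
    ∃ n : ℕ, ∀ m : ℕ, n ≤ m → F m = F n := by
  classical
  obtain ⟨hq, hft⟩ := hM
  haveI : M.IsQuasicoherent := hq
  haveI : M.IsFiniteType := hft
  haveI : ∀ n, ((F n : Subobject M) : X.Modules).IsQuasicoherent := hF
  obtain ⟨k, V, hV, -, hcov⟩ := Groth.Agent.Lib.Helper29.QCoh.exists_finite_affine_cover
    (X := X) (U := ⊤) (by simpa using isCompact_univ)
  have hcov' : ∀ x : X, ∃ i, x ∈ V i := fun x =>
    TopologicalSpace.Opens.mem_iSup.1 (hcov (show x ∈ (⊤ : X.Opens) from trivial))
  -- Noetherian modules of sections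
  have hnoeth : ∀ i, IsNoetherian Γ(X, V i) Γ(M, V i) := by
    intro i
    haveI : IsNoetherianRing Γ(X, V i) := IsLocallyNoetherian.component_noetherian ⟨V i, hV i⟩
    haveI : Module.Finite Γ(X, V i) Γ(M, V i) :=
      Groth.Agent.Lib.Helper29.QCoh.module_finite_of_isFiniteType M (hV i)
    exact isNoetherian_of_isNoetherianRing_of_finite _ _
  -- the chains of submodules
  let N : ∀ i, ℕ →o Submodule Γ(X, V i) Γ(M, V i) := fun i =>
    { toFun := fun n => LinearMap.range (Groth.Agent.Lib.Helper29.QCoh.appₗ (F n).arrow (V i))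
      monotone' := by
        intro n m hnm
        rintro _ ⟨s, rfl⟩
        refine ⟨Groth.Agent.Lib.Helper29.QCoh.appₗ (Subobject.ofLE _ _ (F.monotone hnm)) (V i) s, ?_⟩
        change ((Subobject.ofLE _ _ (F.monotone hnm)) ≫ (F m).arrow).app (V i) s = _
        rw [Subobject.ofLE_arrow]
        rfl }
  have hstab : ∀ i, ∃ n, ∀ m, n ≤ m → N i n = N i m := fun i =>
    (monotone_stabilizes_iff_noetherian.2 (hnoeth i)) (N i)
  choose n₀ hn₀ using hstab
  refine ⟨Finset.univ.sup n₀, fun m hm => ?_⟩
  set n := Finset.univ.sup n₀ with hn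
  have hle : F n ≤ F m := F.monotone hm
  let φ := Subobject.ofLE (F n) (F m) hle
  have hφ : φ ≫ (F m).arrow = (F n).arrow := Subobject.ofLE_arrow hle
  have harrow_inj : ∀ (j : ℕ) (U : X.Opens), Function.Injective ((F j).arrow.app U) := fun j U =>
    (Groth.Agent.Lib.Helper29.QCoh.mono_iff_app_injective (F j).arrow).1 inferInstance U
  have hbij : ∀ i, Function.Bijective (φ.app (V i)) := by
    intro i
    have hcomp : ∀ s, (F m).arrow.app (V i) (φ.app (V i) s) = (F n).arrow.app (V i) s := by
      intro s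
      change (φ ≫ (F m).arrow).app (V i) s = _
      rw [hφ]
    constructor
    · intro s t hst
      apply harrow_inj n (V i)
      rw [← hcomp, ← hcomp, hst]
    · intro t
      have hNeq : N i n = N i m := by
        have h1 := hn₀ i n (Finset.le_sup (Finset.mem_univ i))
        have h2 := hn₀ i m ((Finset.le_sup (Finset.mem_univ i)).trans hm)
        exact h1.symm.trans h2
      have ht : (F m).arrow.app (V i) t ∈ N i m := ⟨t, rfl⟩
      rw [← hNeq] at ht
      obtain ⟨s, hs⟩ := ht
      refine ⟨s, ?_⟩
      apply harrow_inj m (V i)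
      rw [hcomp]
      exact hs
  haveI : IsIso φ :=
    Groth.Agent.Lib.Lead.QCohIso.isIso_of_bijective_on_affine_cover φ V hV hcov' hbij
  refine le_antisymm ?_ hle
  refine Subobject.le_of_comm (inv φ) ?_
  rw [IsIso.inv_comp_eq, hφ]

end Groth.Agent.S0045
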