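import Groth.Statements.S0046
-- import your own Groth.Agent.* helpers here
import Groth.Agent.Lib.Helper29.QCohGen

set_option autoImplicit false
universe u
open Coherent

namespace Groth.Agent.S0046

open AlgebraicGeometry CategoryTheory in
/-- On a locally Noetherian scheme, a quasi-coherent submodule of a coherent module is coherent. (The
statement about quotients is omitted.) -/
theorem result (X : Scheme.{u}) [IsLocallyNoetherian X]
    (M N : X.Modules) (i : N ⟶ M) [Mono i] (hM : Coh.IsCoh M) (hN : Coh.IsQCoh N) : Coh.IsCoh N := by
  obtain ⟨hq, hft⟩ := hM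
  have : M.IsQuasicoherent := hq
  have : M.IsFiniteType := hft
  have : N.IsQuasicoherent := hN
  exact ⟨hN, Groth.Agent.Lib.Helper29.QCoh.isFiniteType_of_mono i⟩

end Groth.Agent.S0046
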