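import Groth.Statements.S0060
-- import your own Groth.Agent.* helpers here
import Groth.Agent.Lib.Helper12.Cpl6

set_option autoImplicit false
universe u
open Coherent

namespace Groth.Agent.S0060

open AlgebraicGeometry CategoryTheory Opposite in
/-- Let A be Noetherian and complete for I and X proper over Spec A. For coherent O_X-modules M, N,
every morphism of inverse systems (M/I^nM) → (N/I^nN) is induced by a unique morphism M → N; that
is, the completion functor is fully faithful on coherent modules. -/
theorem result (A : Type u) [CommRing A] [IsNoetherianRing A]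
    (I : Ideal A) [IsAdicComplete I A] (X : Scheme.{u}) [X.Over (Spec (CommRingCat.of A))]
    [IsProper (X ↘ Spec (CommRingCat.of A))] (M N : X.Modules) (hM : Coh.IsCoh M) (hN : Coh.IsCoh N)
    (τ : Formal.completion I M ⟶ Formal.completion I N) :
    ∃! φ : M ⟶ N, ∀ n : ℕ, Formal.modPowπ I (n + 1) M ≫ τ.app (op n) = φ ≫ Formal.modPowπ I (n + 1) N := by
  haveI := hM.2
  haveI := hN.2
  have hcl : IsClosed (CohB1.support M ∩ CohB1.support N) :=
    (Groth.Agent.Lib.Helper12.H12Dev.isClosed_support M).inter
      (Groth.Agent.Lib.Helper12.H12Dev.isClosed_support N)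
  have hs : ClSub.IsProperOver (X ↘ Spec (CommRingCat.of A))
      (CohB1.support M ∩ CohB1.support N) := ⟨hcl, inferInstance⟩
  exact Groth.Agent.Lib.Helper12.H12Cpl.existsUnique_of_completion_hom A I X M N hM hN hs τ

end Groth.Agent.S0060
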