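import Groth.Statements.S0064
import Groth.Agent.S0063
import Mathlib.RingTheory.Unramified.LocalStructure
import Mathlib.AlgebraicGeometry.Morphisms.QuasiFinite

set_option autoImplicit false
open CategoryTheory CategoryTheory.Limits AlgebraicGeometry Opposite
universe u
open EtBase

namespace Groth.Agent.S0064

lemma locallyQuasiFinite_of_unramified {X S : Scheme.{u}} (π : X ⟶ S)
    [FormallyUnramified π] [LocallyOfFiniteType π] : LocallyQuasiFinite π := by
  refine ⟨fun {U} hU {V} hV e ↦ ?_⟩
  have h1 := HasRingHomProperty.appLE (P := @FormallyUnramified) π inferInstance ⟨U, hU⟩ ⟨V, hV⟩ e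
  have h2 := HasRingHomProperty.appLE (P := @LocallyOfFiniteType) π inferInstance ⟨U, hU⟩ ⟨V, hV⟩ e
  algebraize [(π.appLE U V e).hom]
  rw [RingHom.QuasiFinite]
  infer_instance

/-- A section of an unramified morphism is an open immersion. -/
lemma isOpenImmersion_of_section {Z T : Scheme.{u}} (p : Z ⟶ T)
    [FormallyUnramified p] [LocallyOfFiniteType p] (σ : T ⟶ Z) (hσ : σ ≫ p = 𝟙 T) :
    IsOpenImmersion σ := by
  set gr : T ⟶ pullback (σ ≫ p) p := pullback.lift (𝟙 T) σ (by simp)
  have : σ = gr ≫ pullback.snd _ _ := (pullback.lift_snd _ _ _).symm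
  rw [this]
  have h1 : IsOpenImmersion gr :=
    MorphismProperty.of_isPullback (P := @IsOpenImmersion)
      (pullback_lift_diagonal_isPullback σ p) inferInstance
  have h2 : IsOpenImmersion (pullback.snd (σ ≫ p) p) := by
    rw [hσ]; infer_instance
  infer_instance

lemma section_ext_of_unique {T : Scheme.{u}} [Unique T] {Z : Scheme.{u}} (p : Z ⟶ T)
    [FormallyUnramified p] [LocallyOfFiniteType p] (σ σ' : T ⟶ Z)
    (hσ : σ ≫ p = 𝟙 _) (hσ' : σ' ≫ p = 𝟙 _)
    (h : σ (default : T) = σ' (default : T)) : σ = σ' := by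
  have := isOpenImmersion_of_section p σ hσ
  have := isOpenImmersion_of_section p σ' hσ'
  have hr : Set.range σ = Set.range σ' := by
    rw [Set.range_unique, Set.range_unique, h]
  let e := IsOpenImmersion.isoOfRangeEq σ σ' hr
  have he : e.hom ≫ σ' = σ := IsOpenImmersion.isoOfRangeEq_hom_fac _ _ _
  have : e.hom = 𝟙 _ := by
    calc e.hom = e.hom ≫ σ' ≫ p := by rw [hσ']; simp
      _ = σ ≫ p := by rw [← Category.assoc, he]
      _ = 𝟙 _ := hσ
  rw [← he, this, Category.id_comp]

lemma finite_points_of_unique {T : Scheme.{u}} [Unique T] {X S : Scheme.{u}} (π : X ⟶ S)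
    [FormallyUnramified π] [LocallyOfFiniteType π] [QuasiCompact π]
    (t : T ⟶ S) : Set.Finite {φ : T ⟶ X | φ ≫ π = t} := by
  let Z := pullback π t
  let p : Z ⟶ T := pullback.snd π t
  have : FormallyUnramified p := MorphismProperty.pullback_snd _ _ inferInstance
  have : LocallyQuasiFinite p := locallyQuasiFinite_of_unramified p
  have hfin : Finite Z := by
    have := p.finite_preimage_singleton default
    have huniv : p ⁻¹' {default} = Set.univ := by
      ext z
      simp [Subsingleton.elim (p z) default]
    rw [huniv] at this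
    exact Set.finite_univ_iff.mp this
  let Φ : {φ : T ⟶ X | φ ≫ π = t} → Z := fun φ ↦
    (pullback.lift φ.1 (𝟙 _) (by rw [Category.id_comp]; exact φ.2)) default
  have hΦ : Function.Injective Φ := by
    intro φ ψ hφψ
    have := section_ext_of_unique p (pullback.lift φ.1 (𝟙 _) (by rw [Category.id_comp]; exact φ.2))
      (pullback.lift ψ.1 (𝟙 _) (by rw [Category.id_comp]; exact ψ.2)) (pullback.lift_snd _ _ _)
      (pullback.lift_snd _ _ _) hφψ
    apply Subtype.ext
    have := congr($this ≫ pullback.fst π t)
    rwa [pullback.lift_fst, pullback.lift_fst] at this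
  exact Set.finite_coe_iff.mp (Finite.of_injective Φ hΦ)

/-- Let S be a Noetherian scheme, X → S a quasi-compact, separated, unramified morphism (formally
unramified and locally of finite type), and Y a Noetherian scheme with a morphism Y → S. Then there
are only finitely many S-morphisms Y → X. The published statement does not assume X → S separated;
it is stated here in the separated case. -/
theorem result {X S Y : Scheme.{u}} [IsNoetherian S] [IsNoetherian Y]
    (π : X ⟶ S) [FormallyUnramified π] [LocallyOfFiniteType π] [QuasiCompact π] [IsSeparated π]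
    (h : Y ⟶ S) : Set.Finite {f : Y ⟶ X | f ≫ π = h} := by
  have hI : (irreducibleComponents Y).Finite :=
    TopologicalSpace.NoetherianSpace.finite_irreducibleComponents
  have : Finite (irreducibleComponents Y) := hI
  have hne : ∀ Z : irreducibleComponents Y, (Z : Set Y).Nonempty := fun Z ↦
    (Z.2.1 : IsIrreducible (Z : Set Y)).nonempty
  choose y hy using hne
  have hfin : ∀ Z : irreducibleComponents Y,
      Finite {φ : Spec (Y.residueField (y Z)) ⟶ X | φ ≫ π = Y.fromSpecResidueField (y Z) ≫ h} :=
    fun Z ↦ (finite_points_of_unique π _).to_subtype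
  let Φ : {f : Y ⟶ X | f ≫ π = h} → ∀ Z : irreducibleComponents Y,
      {φ : Spec (Y.residueField (y Z)) ⟶ X | φ ≫ π = Y.fromSpecResidueField (y Z) ≫ h} :=
    fun f Z ↦ ⟨Y.fromSpecResidueField (y Z) ≫ f.1, by
      have := f.2
      change _ ≫ π = h at this
      change _ ≫ π = _
      rw [Category.assoc, this]⟩
  have hΦ : Function.Injective Φ := by
    intro f g hfg
    apply Subtype.ext
    let X' : Over S := Over.mk h
    let Y' : Over S := Over.mk π
    let f' : X' ⟶ Y' := Over.homMk f.1 f.2
    let g' : X' ⟶ Y' := Over.homMk g.1 g.2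
    have : IsSeparated Y'.hom := ‹_›
    have : FormallyUnramified Y'.hom := ‹_›
    have : LocallyOfFiniteType Y'.hom := ‹_›
    refine Groth.Agent.S0063.eq_of_range_equalizer_eq_univ f' g' ?_
    have hcl := Groth.Agent.S0063.isClopen_range_equalizer f' g'
    rw [Set.eq_univ_iff_forall]
    intro x
    have hx : x ∈ ⋃₀ irreducibleComponents Y := by
      rw [sUnion_irreducibleComponents]; trivial
    obtain ⟨Z, hZ, hxZ⟩ := hx
    have hyZ : y ⟨Z, hZ⟩ ∈ Set.range (equalizer.ι f' g').left := by
      refine Groth.Agent.S0063.mem_range_equalizer f' g' (y ⟨Z, hZ⟩) ?_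
      have := congr_fun hfg ⟨Z, hZ⟩
      exact congr_arg Subtype.val this
    exact (hZ.1 : IsIrreducible Z).isConnected.isPreconnected.subset_isClopen hcl
      ⟨_, hy ⟨Z, hZ⟩, hyZ⟩ hxZ
  exact Set.finite_coe_iff.mp (Finite.of_injective Φ hΦ)

end Groth.Agent.S0064
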