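import Groth.Statements.S0066
import Groth.Agent.Lib.Helper24.EtaleNormal
import Groth.Agent.Lib.Helper18.ICFlat

set_option autoImplicit false
open CategoryTheory CategoryTheory.Limits AlgebraicGeometry Opposite
universe u
open EtBase

namespace Groth.Agent.S0066

section aux
open TensorProduct

/-- Localizations at primes of an étale algebra over a ring whose localization at the contracted
prime is an integrally closed domain are integrally closed domains. -/
theorem normal_localization_of_etale (R S : Type u) [CommRing R] [CommRing S] [Algebra R S]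
    [Algebra.Etale R S] (q : Ideal S) [q.IsPrime] (p : Ideal R) [p.IsPrime]
    (hp : q.comap (algebraMap R S) = p)
    [IsDomain (Localization.AtPrime p)] [IsIntegrallyClosed (Localization.AtPrime p)] :
    IsDomain (Localization.AtPrime q) ∧ IsIntegrallyClosed (Localization.AtPrime q) := by
  let _ : Algebra S (Localization.AtPrime p ⊗[R] S) := Algebra.TensorProduct.rightAlgebra
  have hloc : IsLocalization (Algebra.algebraMapSubmonoid S p.primeCompl)
      (Localization.AtPrime p ⊗[R] S) := IsLocalization.tensorRight _ p.primeCompl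
  have hdisj : Disjoint (Algebra.algebraMapSubmonoid S p.primeCompl : Set S) q := by
    rw [Set.disjoint_left]
    rintro _ ⟨r, hr, rfl⟩ hrq
    apply hr
    rw [← hp]
    exact hrq
  have hq' : (q.map (algebraMap S (Localization.AtPrime p ⊗[R] S))).IsPrime :=
    IsLocalization.isPrime_of_isPrime_disjoint _ _ _ ‹_› hdisj
  have hcomap : (q.map (algebraMap S (Localization.AtPrime p ⊗[R] S))).comap
      (algebraMap S (Localization.AtPrime p ⊗[R] S)) = q :=
    IsLocalization.under_map_of_isPrime_disjoint _ _ ‹_› hdisj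
  obtain ⟨h1, h2⟩ :=
    Groth.Agent.Lib.Helper24.ENorm.isDomain_and_isIntegrallyClosed_localization_of_etale
      (Localization.AtPrime p) (Localization.AtPrime p ⊗[R] S)
      (q.map (algebraMap S (Localization.AtPrime p ⊗[R] S)))
  have : IsScalarTower S (Localization.AtPrime p ⊗[R] S)
      (Localization.AtPrime (q.map (algebraMap S (Localization.AtPrime p ⊗[R] S)))) :=
    inferInstance
  have hat := IsLocalization.isLocalization_isLocalization_atPrime_isLocalization
    (Algebra.algebraMapSubmonoid S p.primeCompl)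
    (Localization.AtPrime (q.map (algebraMap S (Localization.AtPrime p ⊗[R] S))))
    (q.map (algebraMap S (Localization.AtPrime p ⊗[R] S)))
  simp only [hcomap] at hat
  let e : Localization.AtPrime q ≃ₐ[S]
      Localization.AtPrime (q.map (algebraMap S (Localization.AtPrime p ⊗[R] S))) :=
    IsLocalization.algEquiv q.primeCompl _ _
  exact ⟨e.symm.toRingEquiv.toMulEquiv.isDomain_iff.mp h1,
    IsIntegrallyClosed.of_equiv
      (R := Localization.AtPrime (q.map (algebraMap S (Localization.AtPrime p ⊗[R] S))))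
      e.symm.toRingEquiv⟩

end aux

/-- For an étale morphism f : X → Y with Y locally Noetherian and a point x of X, the local ring O_{X,x}
is a normal domain (a domain which is integrally closed in its fraction field) if and only if
O_{Y,f(x)} is. -/
theorem result {X Y : Scheme.{u}} (f : X ⟶ Y) [AlgebraicGeometry.Etale f]
    [IsLocallyNoetherian Y] (x : X) :
    (IsDomain (X.presheaf.stalk x) ∧ IsIntegrallyClosed (X.presheaf.stalk x)) ↔
      (IsDomain (Y.presheaf.stalk (f.base x)) ∧ IsIntegrallyClosed (Y.presheaf.stalk (f.base x))) := by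
  constructor
  · rintro ⟨hd, hic⟩
    algebraize [(f.stalkMap x).hom]
    have hloc : IsLocalHom (algebraMap (Y.presheaf.stalk (f x)) (X.presheaf.stalk x)) :=
      inferInstanceAs <| IsLocalHom (f.stalkMap x).hom
    have hflat : Module.Flat (Y.presheaf.stalk (f x)) (X.presheaf.stalk x) := by
      have := AlgebraicGeometry.Flat.stalkMap f x
      rwa [RingHom.Flat, ← RingHom.algebraMap_toAlgebra (f.stalkMap x).hom] at this
    have hff : Module.FaithfullyFlat (Y.presheaf.stalk (f x)) (X.presheaf.stalk x) :=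
      Module.FaithfullyFlat.of_flat_of_isLocalHom
    have hdY := Groth.Agent.Lib.Helper18.ICFlat.isDomain_of_faithfullyFlat
      (Y.presheaf.stalk (f x)) (X.presheaf.stalk x)
    exact ⟨hdY, Groth.Agent.Lib.Helper18.ICFlat.isIntegrallyClosed_of_faithfullyFlat
      (Y.presheaf.stalk (f x)) (X.presheaf.stalk x)⟩
  · rintro ⟨hd, hic⟩
    obtain ⟨_, ⟨U, hU : IsAffineOpen U, rfl⟩, hfy, -⟩ :=
      Y.isBasis_affineOpens.exists_subset_of_mem_open (Set.mem_univ (f x)) isOpen_univ
    obtain ⟨_, ⟨V, hV : IsAffineOpen V, rfl⟩, hxV, hVU⟩ :=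
      X.isBasis_affineOpens.exists_subset_of_mem_open (show x ∈ (f ⁻¹ᵁ U : Set X) from hfy)
        (f ⁻¹ᵁ U).isOpen
    have e : V ≤ f ⁻¹ᵁ U := hVU
    let _ : Algebra Γ(Y, U) Γ(X, V) := (f.appLE U V e).hom.toAlgebra
    have : Algebra.Etale Γ(Y, U) Γ(X, V) := Etale.etale_appLE f hU hV e
    have hcomap : (hV.primeIdealOf ⟨x, hxV⟩).asIdeal.comap (algebraMap Γ(Y, U) Γ(X, V)) =
        (hU.primeIdealOf ⟨f x, hfy⟩).asIdeal :=
      congr($(IsAffineOpen.comap_primeIdealOf_appLE U hU V hV e hxV).1)
    let _ : Algebra Γ(X, V) (X.presheaf.stalk x) :=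
      TopCat.Presheaf.algebra_section_stalk X.presheaf ⟨x, hxV⟩
    have hlocX : IsLocalization.AtPrime (X.presheaf.stalk x) (hV.primeIdealOf ⟨x, hxV⟩).asIdeal :=
      hV.isLocalization_stalk ⟨x, hxV⟩
    let _ : Algebra Γ(Y, U) (Y.presheaf.stalk (f x)) :=
      TopCat.Presheaf.algebra_section_stalk Y.presheaf ⟨f x, hfy⟩
    have hlocY : IsLocalization.AtPrime (Y.presheaf.stalk (f x))
        (hU.primeIdealOf ⟨f x, hfy⟩).asIdeal :=
      hU.isLocalization_stalk ⟨f x, hfy⟩
    let eY : Localization.AtPrime (hU.primeIdealOf ⟨f x, hfy⟩).asIdeal ≃ₐ[Γ(Y, U)]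
        (Y.presheaf.stalk (f x)) :=
      IsLocalization.algEquiv (hU.primeIdealOf ⟨f x, hfy⟩).asIdeal.primeCompl _ _
    have hdA : IsDomain (Localization.AtPrime (hU.primeIdealOf ⟨f x, hfy⟩).asIdeal) :=
      eY.toRingEquiv.toMulEquiv.isDomain_iff.mpr hd
    have hicA : IsIntegrallyClosed (Localization.AtPrime (hU.primeIdealOf ⟨f x, hfy⟩).asIdeal) :=
      .of_equiv eY.symm.toRingEquiv
    obtain ⟨h1, h2⟩ := normal_localization_of_etale Γ(Y, U) Γ(X, V)
      (hV.primeIdealOf ⟨x, hxV⟩).asIdeal (hU.primeIdealOf ⟨f x, hfy⟩).asIdeal hcomap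
    let eX : Localization.AtPrime (hV.primeIdealOf ⟨x, hxV⟩).asIdeal ≃ₐ[Γ(X, V)]
        (X.presheaf.stalk x) :=
      IsLocalization.algEquiv (hV.primeIdealOf ⟨x, hxV⟩).asIdeal.primeCompl _ _
    exact ⟨eX.toRingEquiv.toMulEquiv.isDomain_iff.mp h1, .of_equiv eX.toRingEquiv⟩

end Groth.Agent.S0066
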