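import Groth.Statements.S0077
import Groth.Agent.S19234
import Groth.Agent.Lib.Helper9.FrobLang

set_option autoImplicit false
universe u
open EtBase

namespace Groth.Agent.S0077

open Groth.Agent.Lib.Helper9


/-- First half — on a finite-dimensional vector space over an algebraically closed field of
characteristic p, any additive p-semilinear map F has F − id surjective. -/
theorem result {k V : Type u} [Field k] [IsAlgClosed k] (p : ℕ) [Fact p.Prime] [CharP k p]
    [AddCommGroup V] [Module k V] [FiniteDimensional k V] (F : V →+ V)
    (hF : ∀ (c : k) (v : V), F (c • v) = c ^ p • F v) :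
    Function.Surjective fun v => F v - v := by
  let T : V →ₛₗ[frobenius k p] V :=
    { toFun := F
      map_add' := map_add F
      map_smul' := fun c v => hF c v }
  have hσ : Function.Surjective (frobenius k p) := surjective_frobenius k p
  obtain ⟨hs, _⟩ := Groth.Agent.S19234.result k (frobenius k p) hσ V T
    (FrobLang.h2_frobenius p k) (FrobLang.h3_frobenius p k)
  intro w
  obtain ⟨v, hv⟩ := hs (-w)
  refine ⟨v, ?_⟩
  have h1 : v - F v = -w := hv
  have : F v - v = -(v - F v) := by abel
  change F v - v = w
  rw [this, h1, neg_neg]

end Groth.Agent.S0077
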