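import Groth.Statements.S0078
import Groth.Agent.S19234
import Groth.Agent.Lib.Helper9.FrobLang
import Groth.Agent.Lib.Helper9.FrobModCoord

set_option autoImplicit false
universe u
open EtBase

namespace Groth.Agent.S0078

open Groth.Agent.Lib.Helper9


/-- Second half — for such an F the fixed vectors F v = v form a finite set of size at most p ^ dim V
(an F_p-space of dimension at most dim V). -/
theorem result {k V : Type u} [Field k] [IsAlgClosed k] (p : ℕ) [Fact p.Prime] [CharP k p]
    [AddCommGroup V] [Module k V] [FiniteDimensional k V] (F : V →+ V)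
    (hF : ∀ (c : k) (v : V), F (c • v) = c ^ p • F v) :
    Set.Finite {v : V | F v = v} ∧ Nat.card {v : V | F v = v} ≤ p ^ Module.finrank k V := by
  classical
  let T : V →ₛₗ[frobenius k p] V :=
    { toFun := F
      map_add' := map_add F
      map_smul' := fun c v => hF c v }
  have hTF : ∀ v, T v = F v := fun _ => rfl
  have hσ : Function.Surjective (frobenius k p) := surjective_frobenius k p
  have hres := (Groth.Agent.S19234.result k (frobenius k p) hσ V T
    (FrobLang.h2_frobenius p k) (FrobLang.h3_frobenius p k)).2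
  set Vss : Submodule k V := ⨅ n : ℕ, Submodule.span k (Set.range ((⇑T)^[n])) with hVss
  obtain ⟨b, hb⟩ := hres
  -- fixed vectors lie in Vss
  have hmem : ∀ v : V, F v = v → v ∈ Vss := by
    intro v hv
    rw [hVss]
    apply (Submodule.mem_iInf _).2
    intro n
    exact Submodule.subset_span ⟨v, Function.iterate_fixed (by rw [hTF]; exact hv) n⟩
  -- the coordinate map
  have hcoord : ∀ v : V, ∀ hv : F v = v, ∀ i, (b.repr ⟨v, hmem v hv⟩ i) ^ p = b.repr ⟨v, hmem v hv⟩ i := by
    intro v hv
    let c := b.repr ⟨v, hmem v hv⟩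
    change ∀ i, c i ^ p = c i
    have hsum : (⟨v, hmem v hv⟩ : ↥Vss) = ∑ i, c i • b i := (b.sum_repr ⟨v, hmem v hv⟩).symm
    have hsumV : v = ∑ i, c i • (b i : V) := by
      have := congrArg Subtype.val hsum
      simpa using this
    have h2 : ∑ i, (c i) ^ p • (b i : V) = ∑ i, c i • (b i : V) := by
      rw [← hsumV]
      conv_rhs => rw [← hv, hsumV, map_sum]
      refine Finset.sum_congr rfl (fun i _ => ?_)
      rw [hF]
      congr 1
      have := hb i
      rw [hTF] at this
      exact this.symm
    have h4 : ∑ i, ((c i) ^ p - c i) • b i = 0 := by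
      apply Subtype.ext
      have : ((∑ i, ((c i) ^ p - c i) • b i : ↥Vss) : V) = ∑ i, ((c i) ^ p - c i) • (b i : V) := by
        simp
      rw [this]
      simp only [sub_smul, Finset.sum_sub_distrib, h2, sub_self]
      rfl
    intro i
    have := Fintype.linearIndependent_iff.1 b.linearIndependent _ h4 i
    exact sub_eq_zero.mp this
  let Φ : {v : V | F v = v} → (Fin (Module.finrank k ↥Vss) → {c : k // c ^ p = c}) :=
    fun v i => ⟨b.repr ⟨v.1, hmem v.1 v.2⟩ i, hcoord v.1 v.2 i⟩
  have hΦ : Function.Injective Φ := by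
    intro v w hvw
    apply Subtype.ext
    have h1 : b.repr ⟨v.1, hmem v.1 v.2⟩ = b.repr ⟨w.1, hmem w.1 w.2⟩ := by
      apply Finsupp.ext
      intro i
      exact congrArg Subtype.val (congrFun hvw i)
    have h2 := b.repr.injective h1
    have h3 : (⟨v.1, hmem v.1 v.2⟩ : ↥Vss).1 = (⟨w.1, hmem w.1 w.2⟩ : ↥Vss).1 := by rw [h2]
    exact h3
  have hfinc : Finite {c : k // c ^ p = c} := by
    apply Nat.finite_of_card_ne_zero
    rw [FrobModCoord.card_fixed p k]
    exact (Fact.out : p.Prime).ne_zero
  have hfin : Finite {v : V | F v = v} := Finite.of_injective Φ hΦ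
  refine ⟨Set.toFinite _, ?_⟩
  calc Nat.card {v : V | F v = v} ≤ Nat.card (Fin (Module.finrank k ↥Vss) → {c : k // c ^ p = c}) :=
        Nat.card_le_card_of_injective Φ hΦ
    _ = p ^ (Module.finrank k ↥Vss) := by rw [Nat.card_fun, FrobModCoord.card_fixed p k, Nat.card_fin]
    _ ≤ p ^ Module.finrank k V :=
        Nat.pow_le_pow_right (Fact.out : p.Prime).pos (Submodule.finrank_le Vss)

end Groth.Agent.S0078
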