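import Groth.Statements.S0085
import Groth.Agent.Lib.Helper10.Descent
import Mathlib.RingTheory.Finiteness.Descent
import Mathlib.RingTheory.RingHom.Integral

set_option autoImplicit false
open CategoryTheory CategoryTheory.Limits AlgebraicGeometry Opposite
universe u
open EtBase

namespace Groth.Agent.S0085

open TensorProduct in
lemma isIntegral_codescendsAlong_faithfullyFlat :
    RingHom.CodescendsAlong (fun f ↦ f.IsIntegral) RingHom.FaithfullyFlat := by
  refine .mk _ RingHom.isIntegral_respectsIso fun R S T _ _ _ _ _ h h' ↦ ?_
  rw [RingHom.faithfullyFlat_algebraMap_iff] at h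
  intro t
  change IsIntegral R t
  let A := Algebra.adjoin R {t}
  let t' : A := ⟨t, Algebra.subset_adjoin (Set.mem_singleton t)⟩
  have hA : Algebra.adjoin R {t'} = ⊤ := by
    have := Algebra.adjoin_adjoin_coe_preimage (R := R) (s := {t})
    convert this
    ext x
    simp [t', Subtype.ext_iff]
  have hA' := Algebra.TensorProduct.adjoin_one_tmul_image_eq_top (A := S) {t'} hA
  rw [Set.image_singleton] at hA'
  let ι : S ⊗[R] A →ₐ[S] S ⊗[R] T := Algebra.TensorProduct.map (AlgHom.id S S) A.val
  have hι : Function.Injective ι := by
    have := Module.Flat.lTensor_preserves_injective_linearMap (M := S) A.val.toLinearMap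
      Subtype.val_injective
    exact this
  have hint : IsIntegral S ((1 : S) ⊗ₜ[R] t') := by
    rw [← isIntegral_algHom_iff ι hι]
    exact h' _
  have hfin : Module.Finite S (S ⊗[R] A) := by
    rw [Module.finite_def]
    have := hint.fg_adjoin_singleton
    rw [hA'] at this
    simpa using this
  have : Module.Finite R A := Module.Finite.of_finite_tensorProduct_of_faithfullyFlat S
  exact IsIntegral.of_mem_of_fg A (Module.Finite.iff_fg.mp this) t
    (Algebra.subset_adjoin (Set.mem_singleton t))

/-- Integrality of a morphism descends along a quasi-compact flat surjective base change: if the base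
change of a morphism along a quasi-compact, flat, surjective morphism is integral, then so is the
morphism. (Stated for a single quasi-compact faithfully flat cover; combined with Zariski-locality
on the target this gives the fpqc-local statement.) -/
theorem result :
    MorphismProperty.DescendsAlong @IsIntegralHom (@Surjective ⊓ @Flat ⊓ @QuasiCompact : MorphismProperty Scheme.{u}) := by
  refine Groth.Agent.Lib.Helper10.descendsAlong_fpqc_of_affineAnd @IsIntegralHom
    RingHom.IsIntegral ?_ RingHom.isIntegral_respectsIso
    isIntegral_codescendsAlong_faithfullyFlat
  exact IsIntegralHom.hasAffineProperty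

end Groth.Agent.S0085
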