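import Groth.Statements.S0096
import Mathlib
import Groth.Agent.Lib.Helper6.EtLocUnr3
-- import your own Groth.Agent.* helpers here

set_option autoImplicit false
open CategoryTheory CategoryTheory.Limits AlgebraicGeometry Opposite
universe u
open EtBase

namespace Groth.Agent.S0096

/-- A finite unramified morphism becomes, after base change to a suitable étale neighbourhood of any
point of the base, a finite disjoint union of closed immersions. -/
theorem result {X S : Scheme.{u}} (f : X ⟶ S) [IsFinite f] [FormallyUnramified f] (s : S) :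
    ∃ (U : Scheme.{u}) (g : U ⟶ S) (_ : AlgebraicGeometry.Etale g) (u : U) (_ : g.base u = s)
      (n : ℕ) (V : Fin n → Scheme.{u}) (c : ∀ j, V j ⟶ U) (_ : ∀ j, IsClosedImmersion (c j))
      (e : (∐ V) ≅ pullback f g), ∀ j, Sigma.ι V j ≫ e.hom ≫ pullback.snd f g = c j := by
  classical
  have hfin : (f ⁻¹' {s}).Finite := f.finite_preimage_singleton s
  obtain ⟨n, x, hrange⟩ := hfin.fin_embedding
  have hs : ∀ i, f (x i) = s := fun i => by
    have : x i ∈ f ⁻¹' {s} := hrange ▸ Set.mem_range_self i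
    exact this
  haveI hlft : ∀ _ : Fin n, LocallyOfFiniteType ((⊤ : X.Opens).ι ≫ f) := fun _ => inferInstance
  haveI hunr : ∀ _ : Fin n, FormallyUnramified ((⊤ : X.Opens).ι ≫ f) := fun _ =>
    MorphismProperty.comp_mem @FormallyUnramified _ _ inferInstance inferInstance
  obtain ⟨U, g, u, hg, hu, K, hK, lab, V, v, hV, hinjv, hex, hsep⟩ :=
    Groth.Agent.Lib.Helper6.EtLoc.exists_etale_nbhd_unramified_at_points f s x x.injective hs
      (fun _ => ⊤) (fun _ => trivial) hlft hunr
  replace hsep := hsep inferInstance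
  -- the complement of the pieces and its image
  have hop : IsOpen (⋃ k, (V k : Set ↑(pullback f g))) := isOpen_iUnion fun k => (V k).2
  have hT : IsClosed ((pullback.snd f g) '' (⋃ k, (V k : Set ↑(pullback f g)))ᶜ) :=
    (pullback.snd f g).isClosedMap _ hop.isClosed_compl
  have huT : u ∉ (pullback.snd f g) '' (⋃ k, (V k : Set ↑(pullback f g)))ᶜ := by
    rintro ⟨w, hw, hwu⟩
    have h1 : f (pullback.fst f g w) = s := by
      have := congr($(pullback.condition (f := f) (g := g)) w)
      change f (pullback.fst f g w) = g (pullback.snd f g w) at this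
      rw [this, hwu, hu]
    have h2 : pullback.fst f g w ∈ Set.range x := by rw [hrange]; exact h1
    obtain ⟨i, hi⟩ := h2
    obtain ⟨k, -, rfl⟩ := hex w i hwu hi.symm
    exact hw (Set.mem_iUnion.mpr ⟨k, (hV k).1⟩)
  let U₁ : U.Opens := ⟨((pullback.snd f g) '' (⋃ k, (V k : Set ↑(pullback f g)))ᶜ)ᶜ,
    hT.isOpen_compl⟩
  have huU₁ : u ∈ U₁ := huT
  let a := Groth.Agent.Lib.Helper6.EtLoc.shrinkMap f g U₁
  have hcovpt : ∀ p : ↑(pullback f (U₁.ι ≫ g)), ∃ k, a p ∈ V k := by
    intro p
    by_contra hcon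
    have h1 : a p ∈ (⋃ k, (V k : Set ↑(pullback f g)))ᶜ := by
      intro h
      obtain ⟨k, hk⟩ := Set.mem_iUnion.mp h
      exact hcon ⟨k, hk⟩
    have h2 : pullback.snd f g (a p) ∈ U₁ := by
      rw [Groth.Agent.Lib.Helper6.EtLoc.snd_shrinkMap_apply]
      exact (pullback.snd f (U₁.ι ≫ g) p).2
    exact h2 ⟨a p, h1, rfl⟩
  let e' : K ≃ Fin (Nat.card K) := Finite.equivFin K
  let V₁ : Fin (Nat.card K) → (pullback f (U₁.ι ≫ g)).Opens := fun j => a ⁻¹ᵁ (V (e'.symm j))
  have hcolim := nonempty_isColimit_cofanMk_of (fun j => (V₁ j).ι)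
    (by
      refine top_le_iff.mp fun p _ => ?_
      obtain ⟨k, hk⟩ := hcovpt p
      refine TopologicalSpace.Opens.mem_iSup.mpr ⟨e' k, ?_⟩
      rw [Scheme.Opens.opensRange_ι]
      change a p ∈ V (e'.symm (e' k))
      rw [Equiv.symm_apply_apply]
      exact hk)
    (by
      intro j j' hjj'
      change Disjoint (V₁ j).ι.opensRange (V₁ j').ι.opensRange
      rw [Scheme.Opens.opensRange_ι, Scheme.Opens.opensRange_ι]
      refine TopologicalSpace.Opens.coe_disjoint.mp (Set.disjoint_left.mpr fun p hp hp' => ?_)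
      exact hjj' (e'.symm.injective (hsep.2 _ _ ⟨a p, hp, hp'⟩)))
  let iso : (∐ fun j => (V₁ j).toScheme) ≅ pullback f (U₁.ι ≫ g) :=
    (colimit.isColimit _).coconePointUniqueUpToIso hcolim.some
  have hiso : ∀ j, Sigma.ι (fun j => (V₁ j).toScheme) j ≫ iso.hom = (V₁ j).ι := fun j =>
    IsColimit.comp_coconePointUniqueUpToIso_hom (colimit.isColimit _) hcolim.some ⟨j⟩
  refine ⟨U₁.toScheme, U₁.ι ≫ g, inferInstance, ⟨u, huU₁⟩, hu, Nat.card K,
    fun j => (V₁ j).toScheme, fun j => (V₁ j).ι ≫ pullback.snd f (U₁.ι ≫ g), fun j => ?_, iso,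
    fun j => ?_⟩
  · exact Groth.Agent.Lib.Helper6.EtLoc.shrink_prop f g @IsClosedImmersion U₁ (V (e'.symm j))
      (IsZariskiLocalAtTarget.restrict (hV (e'.symm j)).2.1 U₁)
  · rw [← Category.assoc, hiso]

end Groth.Agent.S0096
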