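import Groth.Statements.S0097
-- import your own Groth.Agent.* helpers here

set_option autoImplicit false
open CategoryTheory CategoryTheory.Limits AlgebraicGeometry Opposite
universe u
open EtBase

namespace Groth.Agent.S0097

open Scheme.Pullback in
lemma subsingleton_spec_tensor {X Y S : Scheme.{u}} {f : X ⟶ S} {g : Y ⟶ S}
    (T : Triplet f g) (h : Function.Surjective (g.residueFieldMap T.y)) :
    Subsingleton (Spec T.tensor) := by
  have hsurj : Function.Surjective T.tensorInl.hom := by
    unfold Triplet.tensorInl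
    refine RingHom.surjective_isStableUnderBaseChange.pushout_inl
      (P := fun f ↦ Function.Surjective f) RingHom.surjective_respectsIso _ _ ?_
    rw [CommRingCat.hom_comp]
    exact h.comp (ConcreteCategory.bijective_of_isIso (S.residueFieldCongr T.hy).inv).surjective
  have := (PrimeSpectrum.comap_injective_of_surjective T.tensorInl.hom hsurj).subsingleton
  exact this

open Scheme.Pullback in
lemma eq_of_fst_eq_of_snd_eq {X Y S : Scheme.{u}} {f : X ⟶ S} {g : Y ⟶ S}
    (w w' : ↑(pullback f g))
    (h1 : pullback.fst f g w = pullback.fst f g w') (h2 : pullback.snd f g w = pullback.snd f g w')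
    (hs : Function.Surjective (g.residueFieldMap (pullback.snd f g w'))) : w = w' := by
  apply carrierEquiv.injective
  rw [carrierEquiv_eq_iff]
  have e : (carrierEquiv w).1 = (carrierEquiv w').1 := Triplet.ext h1 h2
  refine ⟨e, ?_⟩
  have : Subsingleton (Spec (carrierEquiv w').1.tensor) := subsingleton_spec_tensor _ hs
  exact Subsingleton.elim _ _

/-- Key lemma: there is an open neighbourhood `U₀` of `s` such that `f ∣_ U` is a monomorphism for
every open `U ≤ U₀`. -/
lemma exists_nhd_forall_mono {X S : Scheme.{u}} (f : X ⟶ S) [IsFinite f] [FormallyUnramified f]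
    (s : S) (x : X)
    (hx : f.base ⁻¹' {s} = {x}) (hκ : Function.Surjective (f.residueFieldMap x)) :
    ∃ U₀ : S.Opens, s ∈ U₀ ∧ ∀ U : S.Opens, U ≤ U₀ → Mono (f ∣_ U) := by
  have hΔ : IsOpenImmersion (pullback.diagonal f) := inferInstance
  let g : pullback f f ⟶ S := pullback.fst f f ≫ f
  have : IsFinite g := inferInstance
  let C : Set ↑(pullback f f) := (Set.range (pullback.diagonal f))ᶜ
  have hC : IsClosed C := (pullback.diagonal f).isOpenEmbedding.isOpen_range.isClosed_compl
  have hgC : IsClosed (g '' C) := g.isClosedMap _ hC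
  let U₀ : S.Opens := ⟨(g '' C)ᶜ, hgC.isOpen_compl⟩
  have hsU : s ∈ U₀ := by
    rintro ⟨w, hwC, hws⟩
    apply hwC
    have h1 : pullback.fst f f w = x := by
      have : pullback.fst f f w ∈ f ⁻¹' {s} := by
        simpa [g] using hws
      rw [hx] at this
      exact this
    have h2 : pullback.snd f f w = x := by
      have : pullback.snd f f w ∈ f ⁻¹' {s} := by
        have h3 : g = pullback.snd f f ≫ f := pullback.condition
        rw [h3] at hws
        simpa using hws
      rw [hx] at this
      exact this
    refine ⟨x, ?_⟩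
    apply eq_of_fst_eq_of_snd_eq
    · rw [← Scheme.Hom.comp_apply, pullback.diagonal_fst, h1]; rfl
    · rw [← Scheme.Hom.comp_apply, pullback.diagonal_snd, h2]; rfl
    · rw [h2]; exact hκ
  refine ⟨U₀, hsU, fun U hU ↦ ⟨fun {T} a b hab ↦ ?_⟩⟩
  have hab' : (a ≫ (f ⁻¹ᵁ U).ι) ≫ f = (b ≫ (f ⁻¹ᵁ U).ι) ≫ f := by
    rw [Category.assoc, Category.assoc, ← morphismRestrict_ι, ← Category.assoc, hab,
      Category.assoc]
  let c : T ⟶ pullback f f := pullback.lift _ _ hab'
  have hc : Set.range c ⊆ Set.range (pullback.diagonal f) := by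
    rintro _ ⟨t, rfl⟩
    by_contra hcon
    have hmem : g (c t) ∈ U₀ := by
      have : g (c t) = f ((f ⁻¹ᵁ U).ι (a t)) := by
        simp only [g, c, ← Scheme.Hom.comp_apply]
        rw [← Category.assoc, pullback.lift_fst]
      rw [this]
      exact hU (a t).2
    exact hmem ⟨c t, hcon, rfl⟩
  let l := IsOpenImmersion.lift (pullback.diagonal f) c hc
  have hl : l ≫ pullback.diagonal f = c := IsOpenImmersion.lift_fac _ _ _
  have h1 : a ≫ (f ⁻¹ᵁ U).ι = l := by
    have := congr($hl ≫ pullback.fst f f)
    rw [Category.assoc, pullback.diagonal_fst, Category.comp_id, pullback.lift_fst] at this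
    exact this.symm
  have h2 : b ≫ (f ⁻¹ᵁ U).ι = l := by
    have := congr($hl ≫ pullback.snd f f)
    rw [Category.assoc, pullback.diagonal_snd, Category.comp_id, pullback.lift_snd] at this
    exact this.symm
  rw [← cancel_mono (f ⁻¹ᵁ U).ι, h1, h2]

/-- A finite unramified morphism whose fibre over a point s is a single point with the same residue
field is a closed immersion over an open neighbourhood of s. -/
theorem result {X S : Scheme.{u}} (f : X ⟶ S) [IsFinite f] [FormallyUnramified f] (s : S) (x : X)
    (hx : f.base ⁻¹' {s} = {x}) (hκ : Function.Surjective (f.residueFieldMap x)) :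
    ∃ U : S.Opens, s ∈ U ∧ IsClosedImmersion (f ∣_ U) := by
  obtain ⟨U₀, hs, h⟩ := exists_nhd_forall_mono f s x hx hκ
  refine ⟨U₀, hs, ?_⟩
  rw [IsClosedImmersion.iff_isFinite_and_mono]
  exact ⟨inferInstance, h U₀ le_rfl⟩

end Groth.Agent.S0097
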