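import Groth.Statements.S0098
import Groth.Agent.S0097
import Mathlib.AlgebraicGeometry.Morphisms.FlatMono

set_option autoImplicit false
open CategoryTheory CategoryTheory.Limits AlgebraicGeometry Opposite
universe u
open EtBase

namespace Groth.Agent.S0098

/-- A finite étale morphism whose fibre over a point s is a single point with the same residue field is
an isomorphism over an open neighbourhood of s. -/
theorem result {X S : Scheme.{u}} (f : X ⟶ S) [IsFinite f] [AlgebraicGeometry.Etale f] (s : S) (x : X)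
    (hx : f.base ⁻¹' {s} = {x}) (hκ : Function.Surjective (f.residueFieldMap x)) :
    ∃ U : S.Opens, s ∈ U ∧ IsIso (f ∣_ U) := by
  obtain ⟨U₀, hs, h⟩ := Groth.Agent.S0097.exists_nhd_forall_mono f s x hx hκ
  let W : S.Opens := ⟨Set.range f, f.isOpenMap.isOpen_range⟩
  have hsW : s ∈ W := ⟨x, by
    have : x ∈ f ⁻¹' {s} := by rw [hx]; rfl
    exact this⟩
  refine ⟨U₀ ⊓ W, ⟨hs, hsW⟩, ?_⟩
  have hmono : Mono (f ∣_ (U₀ ⊓ W)) := h _ inf_le_left
  have hopen : IsOpenImmersion (f ∣_ (U₀ ⊓ W)) := IsOpenImmersion.of_flat_of_mono _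
  have hsurj : Surjective (f ∣_ (U₀ ⊓ W)) := by
    refine ⟨fun u ↦ ?_⟩
    obtain ⟨x', hx'⟩ := u.2.2
    refine ⟨⟨x', ?_⟩, ?_⟩
    · change f x' ∈ U₀ ⊓ W
      rw [hx']; exact u.2
    · apply Subtype.ext
      rw [morphismRestrict_base_coe]
      exact hx'
  exact (isIso_iff_isOpenImmersion_and_surjective _).mpr ⟨hopen, hsurj⟩

end Groth.Agent.S0098
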