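import Groth.Statements.S0102
-- import your own Groth.Agent.* helpers here
import Mathlib.AlgebraicGeometry.Morphisms.UniversallyOpen
import Mathlib.AlgebraicGeometry.Morphisms.FlatDescent

set_option autoImplicit false
open CategoryTheory CategoryTheory.Limits AlgebraicGeometry Opposite
universe u
open EtBase

namespace Groth.Agent.S0102


set_option backward.isDefEq.respectTransparency.types false

/-- The open subscheme `W'` of `U.left` as an object of the small étale site. -/
noncomputable abbrev opn {S : Scheme.{u}} (U : S.Etale) (W' : U.left.Opens) : S.Etale :=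
  Scheme.Etale.mk (W'.ι ≫ U.hom)

/-- The inclusion of the open subscheme. -/
noncomputable abbrev opnι {S : Scheme.{u}} (U : S.Etale) (W' : U.left.Opens) : opn U W' ⟶ U :=
  MorphismProperty.Over.homMk W'.ι rfl trivial

/-- Lift of a morphism whose image lies in `W'`. -/
noncomputable def opnLift {S : Scheme.{u}} {U V : S.Etale} (φ : V ⟶ U) (W' : U.left.Opens)
    (h : Set.range φ.left.base ⊆ (W' : Set U.left)) : V ⟶ opn U W' :=
  let Y : Scheme.{u} := U.left
  let W'' : Y.Opens := W'
  let l : V.left ⟶ (W'' : Scheme.{u}) := IsOpenImmersion.lift W''.ι φ.left (by simpa using h)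
  MorphismProperty.Over.homMk l
    ((IsOpenImmersion.lift_fac_assoc W''.ι φ.left _ U.hom).trans (Over.w φ.hom)) trivial

lemma opnLift_fac {S : Scheme.{u}} {U V : S.Etale} (φ : V ⟶ U) (W' : U.left.Opens)
    (h : Set.range φ.left.base ⊆ (W' : Set U.left)) : opnLift φ W' h ≫ opnι U W' = φ := by
  apply MorphismProperty.Over.Hom.ext
  let Y : Scheme.{u} := U.left
  let W'' : Y.Opens := W'
  exact IsOpenImmersion.lift_fac W''.ι φ.left _

lemma range_opnι {S : Scheme.{u}} (U : S.Etale) (W' : U.left.Opens) :
    Set.range (opnι U W').left = (W' : Set U.left) := by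
  let Y : Scheme.{u} := U.left
  let W'' : Y.Opens := W'
  exact W''.range_ι

lemma map_comp_apply' {S : Scheme.{u}} (F : EtCoh.Ab S) {U V W : S.Etale} (a : W ⟶ V) (b : V ⟶ U)
    (σ : EtCoh.sect F U) : F.obj.map (a ≫ b).op σ = F.obj.map a.op (F.obj.map b.op σ) := by
  rw [op_comp, Functor.map_comp_apply]

/-- A section of an abelian étale sheaf over an étale scheme U vanishes on pullback to an étale V → U
exactly when V maps into a certain largest open subset of U. -/
theorem result {S : Scheme.{u}} (F : EtCoh.Ab S) (U : S.Etale) (σ : EtCoh.sect F U) :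
    ∃ W : U.left.Opens, ∀ (V : S.Etale) (φ : V ⟶ U),
      F.obj.map φ.op σ = 0 ↔ Set.range φ.left.base ⊆ (W : Set U.left) := by
  classical
  have hsep := F.isSeparated
  let P : U.left.Opens → Prop := fun W' => F.obj.map (opnι U W').op σ = 0
  refine ⟨sSup {W' | P W'}, fun V φ => ⟨fun h0 => ?_, fun hsub => ?_⟩⟩
  · have hopen : IsOpen (Set.range φ.left.base) := φ.left.isOpenMap.isOpen_range
    let W' : U.left.Opens := ⟨Set.range φ.left.base, hopen⟩
    have hPW' : P W' := by
      let ψ : V ⟶ opn U W' := opnLift φ W' (le_refl _)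
      have hψ : ψ ≫ opnι U W' = φ := opnLift_fac _ _ _
      have hcov : Sieve.ofArrows (fun _ : Unit => V) (fun _ => ψ) ∈
          S.smallEtaleTopology (opn U W') := by
        rw [Scheme.ofArrows_mem_smallEtaleTopology_iff]
        rw [Set.eq_univ_iff_forall]
        intro x
        have hx : (opnι U W').left x ∈ Set.range φ.left.base := by
          have := Set.mem_range_self (f := (opnι U W').left) x
          rw [range_opnι] at this
          exact this
        obtain ⟨v, hv⟩ := hx
        refine Set.mem_iUnion.2 ⟨(), v, ?_⟩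
        have hinj : Function.Injective (opnι U W').left := by
          let Y : Scheme.{u} := U.left
          let W'' : Y.Opens := W'
          exact W''.ι.injective
        apply hinj
        rw [← hv, ← Scheme.Hom.comp_apply]
        exact congrArg (fun (m : V ⟶ U) => m.left v) hψ
      apply hsep _ _ hcov
      intro Y f hf
      obtain ⟨Z, a, b, ⟨i⟩, rfl⟩ := hf
      rw [map_zero, ← map_comp_apply', Category.assoc, hψ, map_comp_apply', h0, map_zero]
    intro x hx
    exact (le_sSup hPW' : W' ≤ sSup {W' | P W'}) hx
  · have hex : ∀ v : V.left, ∃ W' : U.left.Opens, P W' ∧ φ.left v ∈ W' := by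
      intro v
      have : φ.left v ∈ sSup {W' | P W'} := hsub (Set.mem_range_self v)
      rw [TopologicalSpace.Opens.mem_sSup] at this
      obtain ⟨W', hW', hv⟩ := this
      exact ⟨W', hW', hv⟩
    choose Wv hWv hvW using hex
    let Vv : V.left → V.left.Opens := fun v => φ.left ⁻¹ᵁ (Wv v)
    have hcov : Sieve.ofArrows (fun v : V.left => opn V (Vv v)) (fun v => opnι V (Vv v)) ∈
        S.smallEtaleTopology V := by
      rw [Scheme.ofArrows_mem_smallEtaleTopology_iff]
      rw [Set.eq_univ_iff_forall]
      intro v
      refine Set.mem_iUnion.2 ⟨v, ?_⟩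
      rw [range_opnι]
      exact hvW v
    apply hsep _ _ hcov
    intro Y f hf
    obtain ⟨Z, a, b, ⟨v⟩, rfl⟩ := hf
    have hsub' : Set.range (opnι V (Vv v) ≫ φ).left.base ⊆ (Wv v : Set U.left) := by
      rintro _ ⟨z, rfl⟩
      have hz : (opnι V (Vv v)).left z ∈ (Vv v : Set V.left) := by
        rw [← range_opnι]
        exact Set.mem_range_self z
      exact hz
    have hfac := opnLift_fac (opnι V (Vv v) ≫ φ) (Wv v) hsub'
    rw [map_zero, ← map_comp_apply', Category.assoc, ← hfac, ← Category.assoc, map_comp_apply',
      hWv v, map_zero]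

end Groth.Agent.S0102
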