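import Groth.Statements.S0106
import Groth.Agent.Lib.Helper22.EtLoc.FlcClosure
import Groth.Agent.Lib.Helper22.EtStalk.DisjointDecomp
import Groth.Agent.Lib.Helper22.EtStalk.FiniteBC
import Groth.Agent.Lib.Helper26.FiniteEtaleSplitScheme

set_option autoImplicit false
open CategoryTheory CategoryTheory.Limits AlgebraicGeometry Opposite
universe u
open EtBase

namespace Groth.Agent.S0106

open Groth.Agent.Lib.Helper22.EtLoc Groth.Agent.Lib.Helper22.EtStalk Groth.Agent.Lib.Helper22.Strata

/-- The inclusion of a summand of a coproduct of schemes has closed range. -/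
lemma isClosed_range_sigmaι {σ : Type} [Finite σ] (V : σ → Scheme.{u}) (j : σ) :
    IsClosed (Set.range (Sigma.ι V j)) := by
  rw [← isOpen_compl_iff]
  have h : (Set.range (Sigma.ι V j))ᶜ = ⋃ k : {k : σ // k ≠ j}, Set.range (Sigma.ι V k.1) := by
    ext x
    constructor
    · intro hx
      obtain ⟨k, y, hy⟩ := (sigmaOpenCover V).exists_eq x
      have hkj : k ≠ j := by
        rintro rfl
        exact hx ⟨y, hy⟩
      exact Set.mem_iUnion.2 ⟨⟨k, hkj⟩, y, hy⟩
    · intro hx
      obtain ⟨⟨k, hkj⟩, y, hy⟩ := Set.mem_iUnion.1 hx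
      rintro ⟨z, hz⟩
      have hd := disjoint_opensRange_sigmaι V k j hkj
      have h1 : x ∈ (Sigma.ι V k).opensRange := ⟨y, hy⟩
      have h2 : x ∈ (Sigma.ι V j).opensRange := ⟨z, hz⟩
      exact (Set.disjoint_left.1 (by simpa using (TopologicalSpace.Opens.coe_disjoint.2 hd)) h1 h2)
  rw [h]
  exact isOpen_iUnion fun k => (Sigma.ι V k.1).isOpenEmbedding.isOpen_range

instance isClosedImmersion_sigmaι {σ : Type} [Finite σ] (V : σ → Scheme.{u}) (j : σ) :
    IsClosedImmersion (Sigma.ι V j) :=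
  IsClosedImmersion.of_isPreimmersion _ (isClosed_range_sigmaι V j)

/-- The split case: pushforward along a trivial finite cover. -/
theorem flc_push_of_split {X' U : Scheme.{u}} (f' : X' ⟶ U) {n : ℕ} (V : Fin n → Scheme.{u})
    (c : ∀ j, V j ⟶ U) (hc : ∀ j, IsIso (c j)) (e : (∐ V) ≅ X')
    (he : ∀ j, Sigma.ι V j ≫ e.hom ≫ f' = c j) (G : EtCoh.Ab X')
    (hG : EtCoh.IsFiniteLocallyConstant G) :
    EtCoh.IsFiniteLocallyConstant ((EtCoh.push f').obj G) := by
  let i : ∀ j, V j ⟶ X' := fun j => Sigma.ι V j ≫ e.hom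
  have hi1 : ∀ j, IsOpenImmersion (i j) := fun j => inferInstance
  have hi2 : ∀ j, IsFinite (i j) := fun j => by
    have : IsClosedImmersion (i j) := inferInstance
    infer_instance
  have hcov : ∀ x : X', ∃ j, x ∈ Set.range (i j) := by
    intro x
    obtain ⟨j, y, hy⟩ := (sigmaOpenCover V).exists_eq (e.inv x)
    refine ⟨j, y, ?_⟩
    change (Sigma.ι V j ≫ e.hom) y = x
    rw [Scheme.Hom.comp_apply]
    have hy' : Sigma.ι V j y = e.inv x := hy
    rw [hy', ← Scheme.Hom.comp_apply, e.inv_hom_id]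
    rfl
  have hdis : ∀ j k, j ≠ k → Disjoint (Set.range (i j)) (Set.range (i k)) := by
    intro j k hjk
    rw [Set.disjoint_left]
    rintro x ⟨y, hy⟩ ⟨z, hz⟩
    have h1 : e.hom (Sigma.ι V j y) = e.hom (Sigma.ι V k z) := by
      have a : (Sigma.ι V j ≫ e.hom) y = x := hy
      have b : (Sigma.ι V k ≫ e.hom) z = x := hz
      rw [Scheme.Hom.comp_apply] at a b
      rw [a, b]
    have h2 : Sigma.ι V j y = Sigma.ι V k z := by
      have h3 : ∀ t : (∐ V : Scheme.{u}), e.inv (e.hom t) = t := by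
        intro t
        rw [← Scheme.Hom.comp_apply, e.hom_inv_id]
        rfl
      have := congrArg e.inv h1
      rwa [h3, h3] at this
    have hd := disjoint_opensRange_sigmaι V j k hjk
    have m1 : Sigma.ι V j y ∈ (Sigma.ι V j).opensRange := ⟨y, rfl⟩
    have m2 : Sigma.ι V j y ∈ (Sigma.ι V k).opensRange := ⟨z, h2.symm⟩
    exact Set.disjoint_left.1 (by simpa using (TopologicalSpace.Opens.coe_disjoint.2 hd)) m1 m2
  have hΦ : IsIso (DisjointDecomp.Φ V i G) := DisjointDecomp.isIso_Φ V i G hcov hdis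
  have e1 : (EtCoh.push f').obj G ≅ ⨁ fun j => (EtCoh.push f').obj (DisjointDecomp.A V i G j) :=
    (EtCoh.push f').mapIso (asIso (DisjointDecomp.Φ V i G)) ≪≫ (EtCoh.push f').mapBiproduct _
  refine isFiniteLocallyConstant_of_iso e1.symm (Flc.flc_biproduct _ fun j => ?_)
  have hij : i j ≫ f' = c j := by
    change (Sigma.ι V j ≫ e.hom) ≫ f' = c j
    rw [Category.assoc]
    exact he j
  have : IsIso (i j ≫ f') := by rw [hij]; exact hc j
  refine isFiniteLocallyConstant_of_iso ((EtCoh.pushComp f' (i j)).app _).symm ?_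
  exact Flc.flc_push_of_isIso (i j ≫ f') _ (LccPull.isFiniteLocallyConstant_pull (i j) G hG)


/-- The pushforward of a finite locally constant abelian sheaf along a finite étale morphism is again
finite locally constant. -/
theorem result {X Y : Scheme.{u}} (f : X ⟶ Y) [IsFinite f] [AlgebraicGeometry.Etale f] [EtCoh.BCCont f]
    (F : EtCoh.Ab X) (h : EtCoh.IsFiniteLocallyConstant F) :
    EtCoh.IsFiniteLocallyConstant ((EtCoh.push f).obj F) := by
  apply Flc.flc_of_etale_local
  intro y
  obtain ⟨U, g, hg, t, ht, n, V, c, hc, e, he⟩ := Groth.Agent.Lib.Helper26.splitsEtaleLocally f y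
  refine ⟨U, g, hg, ⟨t, ht⟩, ?_⟩
  have hpb : IsPullback (pullback.fst f g) (pullback.snd f g) f g := IsPullback.of_hasPullback f g
  have hiso := FiniteBC.isIso_baseChange0 hpb F
  refine isFiniteLocallyConstant_of_iso (asIso (EtCoh.baseChange0 f g (pullback.snd f g)
    (pullback.fst f g) hpb.w F)).symm ?_
  exact flc_push_of_split (pullback.snd f g) V c hc e he _
    (LccPull.isFiniteLocallyConstant_pull (pullback.fst f g) F h)

end Groth.Agent.S0106
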