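import Groth.Statements.S0116
import Mathlib.AlgebraicGeometry.Morphisms.FlatDescent
import Mathlib.RingTheory.Finiteness.Descent

set_option autoImplicit false
open CategoryTheory CategoryTheory.Limits AlgebraicGeometry Opposite
universe u
open EtBase

namespace Groth.Agent.S0116

/-- If f : X → Y is surjective, flat and locally of finite presentation and X is locally Noetherian,
then Y is locally Noetherian. (This is the descent half of the statement that, for such f, X is
locally Noetherian if and only if Y is; the ascent half is the fact that a scheme locally of finite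
type over a locally Noetherian scheme is locally Noetherian, and is not stated here.) -/
theorem result {X Y : Scheme.{u}} (f : X ⟶ Y) [Surjective f] [Flat f] [LocallyOfFinitePresentation f]
    [IsLocallyNoetherian X] : IsLocallyNoetherian Y := by
  rw [isLocallyNoetherian_iff_of_affine_openCover (𝒰 := Y.affineCover)]
  intro i
  have hfs : Surjective (pullback.snd f (Y.affineCover.f i)) := inferInstance
  have hff : Flat (pullback.snd f (Y.affineCover.f i)) := inferInstance
  have hfp : LocallyOfFinitePresentation (pullback.snd f (Y.affineCover.f i)) := inferInstance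
  have hN : IsLocallyNoetherian (pullback f (Y.affineCover.f i)) := inferInstance
  obtain ⟨V : (pullback f (Y.affineCover.f i)).Opens, hV, e⟩ := (pullback.snd f (Y.affineCover.f i)).isOpenMap.exists_opens_image_eq_of_prespectralSpace
    (pullback.snd f (Y.affineCover.f i)).continuous (by simp) isOpen_univ isCompact_univ
  have hVc : CompactSpace (V : Scheme) := isCompact_iff_compactSpace.mp hV
  obtain ⟨W, p, hsurj, hP, hW⟩ :=
    (V : Scheme).exists_hom_isAffine_of_isZariskiLocalAtSource @IsLocalIso
  have hpf : Flat p := IsLocalIso.le_of_isZariskiLocalAtSource @Flat _ _ _ hP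
  have hpt : LocallyOfFiniteType p := IsLocalIso.le_of_isZariskiLocalAtSource @LocallyOfFiniteType _ _ _ hP
  have hWN : IsLocallyNoetherian W := LocallyOfFiniteType.isLocallyNoetherian (p ≫ V.ι)
  let g : W ⟶ Y.affineCover.X i := (p ≫ V.ι) ≫ pullback.snd f (Y.affineCover.f i)
  have hgf : Flat g := inferInstance
  have hgs : Surjective g := by
    refine ⟨fun y => ?_⟩
    obtain ⟨v, hv, hvy⟩ := e.ge (Set.mem_univ y)
    obtain ⟨w, hw⟩ := hsurj.surj ⟨v, hv⟩
    refine ⟨w, ?_⟩
    simp only [g, Scheme.Hom.comp_apply, hw]
    exact hvy
  have hff := (Flat.flat_and_surjective_iff_faithfullyFlat_of_isAffine g).mp ⟨hgf, hgs⟩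
  have hWr : IsNoetherianRing Γ(W, ⊤) :=
    IsLocallyNoetherian.component_noetherian ⟨⊤, isAffineOpen_top W⟩
  algebraize [g.appTop.hom]
  exact (isNoetherianRing_iff_ideal_fg _).mpr fun I =>
    Ideal.FG.of_FG_map_of_faithfullyFlat (S := Γ(W, ⊤)) (IsNoetherian.noetherian _)

end Groth.Agent.S0116
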