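import Groth.Statements.S0117
import Mathlib
import Groth.Agent.S0063
import Groth.Agent.Lib.Helper10.FEtGraph

set_option autoImplicit false
open CategoryTheory CategoryTheory.Limits AlgebraicGeometry Opposite
universe u
open EtBase

namespace Groth.Agent.S0117

/-- Topological invariance of étale morphisms, first-order form — for X étale over S and any S-scheme Y,
base change to a closed subscheme S₀ with the same underlying space gives a bijection between
S-morphisms Y → X and S₀-morphisms of the base changes. -/
theorem result {S S₀ : Scheme.{u}} (i : S₀ ⟶ S) [IsClosedImmersion i] [Surjective i]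
    (X Y : Over S) [AlgebraicGeometry.Etale X.hom] :
    Function.Bijective (fun φ : Y ⟶ X => (Over.pullback i).map φ) := by
  let π : pullback Y.hom i ⟶ Y.left := pullback.fst Y.hom i
  haveI : IsClosedImmersion π := inferInstance
  haveI : Surjective π := inferInstance
  constructor
  · -- injective
    intro φ₁ φ₂ h
    have h' : (Over.pullback i).map φ₁ = (Over.pullback i).map φ₂ := h
    have hl : π ≫ φ₁.left = π ≫ φ₂.left := by
      have h1 := congrArg (fun m => m.left ≫ pullback.fst X.hom i) h'
      simp only [Over.pullback_map_left, pullback.lift_fst] at h1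
      exact h1
    have huniv : Set.range (equalizer.ι φ₁ φ₂).left = Set.univ := by
      let U' : Over S := Over.mk (π ≫ Y.hom)
      let ι' : U' ⟶ Y := Over.homMk π rfl
      have hι : ι' ≫ φ₁ = ι' ≫ φ₂ := by
        ext1
        exact hl
      rw [Set.eq_univ_iff_forall]
      intro y
      obtain ⟨y₀, rfl⟩ := π.surjective y
      refine ⟨(equalizer.lift ι' hι).left y₀, ?_⟩
      rw [← Scheme.Hom.comp_apply, ← Over.comp_left, equalizer.lift_ι]
      rfl
    have := Groth.Agent.S0063.eq_of_range_equalizer_eq_univ φ₁ φ₂ huniv
    exact Over.OverMorphism.ext this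
  · -- surjective
    intro ψ
    have hψ : ψ.left ≫ pullback.snd X.hom i = pullback.snd Y.hom i := Over.w ψ
    have hcond : π ≫ Y.hom = (ψ.left ≫ pullback.fst X.hom i) ≫ X.hom := by
      change pullback.fst Y.hom i ≫ Y.hom = _
      rw [Category.assoc, pullback.condition (f := X.hom) (g := i), ← Category.assoc, hψ]
      exact pullback.condition
    let γ : pullback Y.hom i ⟶ pullback Y.hom X.hom :=
      pullback.lift π (ψ.left ≫ pullback.fst X.hom i) hcond
    have hγ : γ ≫ pullback.fst Y.hom X.hom = π := pullback.lift_fst _ _ _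
    have hγ2 : γ ≫ pullback.snd Y.hom X.hom = ψ.left ≫ pullback.fst X.hom i :=
      pullback.lift_snd _ _ _
    -- the graph section and the open T
    let pr := pullback.fst (pullback.fst Y.hom X.hom) π
    let s' : pullback Y.hom i ⟶ pullback (pullback.fst Y.hom X.hom) π :=
      pullback.lift γ (𝟙 _) (by rw [hγ, Category.id_comp])
    have hs' : s' ≫ pullback.snd (pullback.fst Y.hom X.hom) π = 𝟙 _ := pullback.lift_snd _ _ _
    haveI : IsOpenImmersion s' :=
      Groth.Agent.Lib.Helper10.FEtGraph.isOpenImmersion_of_section s' _ hs'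
    haveI : IsClosedImmersion pr := inferInstance
    haveI : Surjective pr := inferInstance
    have hhomeo : IsHomeomorph pr :=
      isHomeomorph_iff_isEmbedding_surjective.mpr ⟨pr.isClosedEmbedding.isEmbedding, pr.surjective⟩
    let T : (pullback Y.hom X.hom).Opens :=
      ⟨pr '' (Set.range s'), hhomeo.isOpenMap _ s'.isOpenEmbedding.isOpen_range⟩
    have hT : ((pr ⁻¹ᵁ T : (pullback (pullback.fst Y.hom X.hom) π).Opens) : Set _) =
        Set.range s' := by
      change pr ⁻¹' (pr '' (Set.range s')) = Set.range s'
      exact Set.preimage_image_eq _ pr.isClosedEmbedding.injective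
    obtain ⟨σ, hσ1, hσ2⟩ := Groth.Agent.Lib.Helper10.FEtGraph.exists_section_of_opens
      Y.hom X.hom π γ hγ T hT
    have hw : (σ ≫ pullback.snd Y.hom X.hom) ≫ X.hom = Y.hom := by
      rw [Category.assoc, ← pullback.condition, ← Category.assoc, hσ1, Category.id_comp]
    refine ⟨Over.homMk (σ ≫ pullback.snd Y.hom X.hom) hw, ?_⟩
    apply Over.OverMorphism.ext
    change ((Over.pullback i).map (Over.homMk (σ ≫ pullback.snd Y.hom X.hom) hw)).left = ψ.left
    simp only [Over.pullback_map_left]
    apply pullback.hom_ext
    · rw [pullback.lift_fst]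
      change pullback.fst Y.hom i ≫ (σ ≫ pullback.snd Y.hom X.hom) = _
      rw [← hγ2, ← hσ2, Category.assoc]
    · rw [pullback.lift_snd, hψ]

end Groth.Agent.S0117
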