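import Groth.Statements.S0118
import Groth.Agent.Lib.Helper10.EtThick4

set_option autoImplicit false
open CategoryTheory CategoryTheory.Limits AlgebraicGeometry Opposite
universe u
open EtBase

namespace Groth.Agent.S0118

/-- Base change to a closed subscheme with the same underlying space is an equivalence between the
categories of étale schemes over the two. -/
theorem result {S S₀ : Scheme.{u}} (i : S₀ ⟶ S) [IsClosedImmersion i] [Surjective i] :
    (EtCoh.bc i).IsEquivalence := by
  have map_fst : ∀ {O₁ O₂ : S.Etale} (φ : O₁ ⟶ O₂),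
      ((EtCoh.bc i).map φ).left ≫ CategoryTheory.Limits.pullback.fst O₂.hom i =
        CategoryTheory.Limits.pullback.fst O₁.hom i ≫ φ.left := by
    intro O₁ O₂ φ
    dsimp [EtCoh.bc]
    exact CategoryTheory.Limits.pullback.lift_fst _ _ _
  have map_snd : ∀ {O₁ O₂ : S.Etale} (φ : O₁ ⟶ O₂),
      ((EtCoh.bc i).map φ).left ≫ CategoryTheory.Limits.pullback.snd O₂.hom i =
        CategoryTheory.Limits.pullback.snd O₁.hom i := by
    intro O₁ O₂ φ
    dsimp [EtCoh.bc]
    exact CategoryTheory.Limits.pullback.lift_snd _ _ _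
  have hfull : (EtCoh.bc i).Full := by
    refine ⟨fun {O₁ O₂} Ψ => ?_⟩
    haveI : AlgebraicGeometry.Etale O₂.hom := O₂.prop
    have hΨ : Ψ.left ≫ CategoryTheory.Limits.pullback.snd O₂.hom i =
        CategoryTheory.Limits.pullback.snd O₁.hom i := CategoryTheory.MorphismProperty.Over.w Ψ
    obtain ⟨t, ht1, ht2⟩ :=
      Groth.Agent.Lib.Helper10.EtThick.exists_lift_of_etale i O₁.hom O₂.hom Ψ.left hΨ
    let φ : O₁ ⟶ O₂ := CategoryTheory.MorphismProperty.Over.homMk t ht1 trivial
    refine ⟨φ, ?_⟩
    apply CategoryTheory.MorphismProperty.Over.Hom.ext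
    refine CategoryTheory.Limits.pullback.hom_ext (f := O₂.hom) (g := i) ?_ ?_
    · exact (map_fst φ).trans ht2
    · exact (map_snd φ).trans hΨ.symm
  have hfaith : (EtCoh.bc i).Faithful := by
    refine ⟨fun {O₁ O₂} φ φ' h => ?_⟩
    haveI : AlgebraicGeometry.Etale O₂.hom := O₂.prop
    apply CategoryTheory.MorphismProperty.Over.Hom.ext
    refine Groth.Agent.Lib.Helper10.EtThick.hom_ext_of_surjective O₁.hom O₂.hom
      (CategoryTheory.Limits.pullback.fst O₁.hom i) φ.left φ'.left
      (CategoryTheory.MorphismProperty.Over.w φ) (CategoryTheory.MorphismProperty.Over.w φ') ?_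
    rw [← map_fst φ, ← map_fst φ', h]
  have hess : (EtCoh.bc i).EssSurj := by
    refine ⟨fun Y => ?_⟩
    haveI : AlgebraicGeometry.Etale Y.hom := Y.prop
    obtain ⟨Z, z, a, hz, hpb⟩ := Groth.Agent.Lib.Helper10.EtThick.exists_lift i Y.hom
    let O : S.Etale := CategoryTheory.MorphismProperty.Over.mk ⊤ z hz
    refine ⟨O, ⟨CategoryTheory.MorphismProperty.Over.isoMk hpb.isoPullback.symm ?_⟩⟩
    exact hpb.isoPullback_inv_snd
  exact { faithful := hfaith, full := hfull, essSurj := hess }

end Groth.Agent.S0118
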