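import Groth.Statements.S0125
import Groth.Agent.Lib.Helper22.ColimCohU.RpushTorsion

set_option autoImplicit false
universe u
open CategoryTheory CategoryTheory.Limits AlgebraicGeometry Opposite
open EtPBC

namespace Groth.Agent.S0125

open Groth.Agent.Lib.Helper22.ColimCohU.Torsion

/-- The factorial moduli. -/
def Mfact : Moduli where
  mm k := (k + 1).factorial
  pos _ := Nat.factorial_pos _
  dvd _ _ h := Nat.factorial_dvd_factorial (Nat.succ_le_succ h)

lemma dvd_Mfact (m : ℕ) (hm : 0 < m) : m ∣ Mfact.mm (m - 1) := by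
  change m ∣ (m - 1 + 1).factorial
  have : m - 1 + 1 = m := Nat.sub_add_cancel hm
  rw [this]
  exact Nat.dvd_factorial hm le_rfl

variable {X : Scheme.{u}}

lemma locallyKilled_of_isTorsion (F : EtCoh.Ab X) (hF : EtCoh.IsTorsion F) :
    LocallyKilled Mfact F := by
  intro U s x
  obtain ⟨V, g, ⟨v, hv⟩, hfin⟩ := hF U s x
  obtain ⟨m, hm, h⟩ := isOfFinAddOrder_iff_nsmul_eq_zero.1 hfin
  obtain ⟨c, hc⟩ := dvd_Mfact m hm
  refine ⟨V, g, v, m - 1, hv, ?_⟩
  rw [hc, mul_nsmul, h, smul_zero]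

lemma isTorsion_of_locallyKilled (F : EtCoh.Ab X) (hF : LocallyKilled Mfact F) :
    EtCoh.IsTorsion F := by
  intro U s x
  obtain ⟨V, g, v, k, hv, h⟩ := hF U s x
  exact ⟨V, g, ⟨v, hv⟩, isOfFinAddOrder_iff_nsmul_eq_zero.2 ⟨Mfact.mm k, Mfact.pos k, h⟩⟩


/-- Part (1): for f : X -> Y quasi-compact and quasi-separated and F a torsion abelian sheaf on X_et,
each R^n f_* F is a torsion abelian sheaf on Y_et. -/
theorem result {X Y : Scheme.{u}} (f : X ⟶ Y) [QuasiCompact f] [QuasiSeparated f]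
    [EtCoh.BCCont f] (F : EtCoh.Ab X) (hF : EtCoh.IsTorsion F) (n : ℕ) :
    EtCoh.IsTorsion ((EtCoh.Rpush f n).obj F) :=
  isTorsion_of_locallyKilled _
    (locallyKilled_Rpush Mfact F f (locallyKilled_of_isTorsion F hF) n)

end Groth.Agent.S0125
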