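import Groth.Statements.S0130
import Groth.Agent.Lib.Helper22.Strata.Cutter

set_option autoImplicit false
universe u
open CategoryTheory CategoryTheory.Limits AlgebraicGeometry Opposite
open EtPBC

namespace Groth.Agent.S0130

open Groth.Agent.Lib.Helper22.Strata Set Topology


/-- Abelian case: X quasi-compact and quasi-separated, T_i -> X immersions with constructible images
covering X, and F pulled back to each T_i constructible; then F is constructible. -/
theorem result (X : Scheme.{u}) [CompactSpace X] [QuasiSeparatedSpace X]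
    (F : EtCoh.Ab X) {ι : Type u} (T : ι → Scheme.{u}) (g : ∀ i, T i ⟶ X) [∀ i, IsImmersion (g i)]
    [∀ i, EtCoh.BCCont (g i)]
    (hc : ∀ i, Topology.IsConstructible (Set.range (g i)))
    (hcov : (⋃ i, Set.range (g i)) = Set.univ)
    (h : ∀ i, EtPBC.IsConstructible ((EtCoh.pull (g i)).obj F)) :
    EtPBC.IsConstructible F := by
  rw [isConstructible_iff_strata_univ, adaptedStrata_iff]
  obtain ⟨t, ht⟩ := exists_finite_subcover_of_isConstructible (fun i => Set.range (g i)) hc hcov
  have hQ : ∀ i, StIn (PF F) (univ : Set X) (Set.range (g i)) := by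
    intro i
    have hemb : IsEmbedding (g i) := (g i).isEmbedding
    have hcomp : CompactSpace (T i) :=
      ⟨by rw [hemb.isCompact_iff, image_univ]; exact isCompact_of_isConstructible (hc i)⟩
    have hqs : QuasiSeparatedSpace (T i) := quasiSeparatedSpace_of_quasiSeparated (g i)
    have h1 := (adaptedStrata_iff _ _).1 ((isConstructible_iff_strata_univ _).1 (h i))
    exact StIn.of_immersion (g i) (hc i) F h1
  let e : t ≃ Fin t.card := t.equivFin
  refine StIn.of_finite_constructible_cover (PF_stable F)
    (fun k : Fin t.card => Set.range (g (e.symm k).1)) (fun k => hc _) ?_ (fun k => hQ _)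
  apply eq_univ_of_forall
  intro x
  have hx : x ∈ ⋃ i ∈ t, Set.range (g i) := by rw [ht]; trivial
  simp only [mem_iUnion] at hx
  obtain ⟨i, hi, hxi⟩ := hx
  refine mem_iUnion.2 ⟨e ⟨i, hi⟩, ?_⟩
  have hei : (e.symm (e ⟨i, hi⟩)).1 = i := by rw [Equiv.symm_apply_apply]
  change x ∈ Set.range (g (e.symm (e ⟨i, hi⟩)).1)
  rw [hei]
  exact hxi

end Groth.Agent.S0130
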