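import Groth.Statements.S0131
import Groth.Agent.S0101
import Groth.Agent.Lib.Helper22.Strata.Refine
import Groth.Agent.Lib.Helper22.EtLoc.FlcKer

set_option autoImplicit false
universe u
open CategoryTheory CategoryTheory.Limits AlgebraicGeometry Opposite
open EtPBC

namespace Groth.Agent.S0131

open Groth.Agent.Lib.Helper22.Strata Groth.Agent.Lib.Helper22.EtLoc Set

variable {X : Scheme.{u}}


/-- Part (3): with Λ = Z/n: for a morphism of constructible abelian sheaves on X_et both killed by n > 0
(that is, a map of constructible sheaves of Z/n-modules), kernel and cokernel are constructible.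
(The source writes the proof for modules over a Noetherian ring; the plain abelian case (2) is
marked omitted there, hence the n-torsion hypotheses.) -/
theorem result {X : Scheme.{u}} {F G : EtCoh.Ab X} (φ : F ⟶ G)
    (n : ℕ) (hn : 0 < n) (hFn : EtCoh.KilledBy n F) (hGn : EtCoh.KilledBy n G)
    (hF : EtPBC.IsConstructible F) (hG : EtPBC.IsConstructible G) :
    EtPBC.IsConstructible (kernel φ) ∧ EtPBC.IsConstructible (cokernel φ) := by
  have key : ∀ U : X.Opens, IsAffineOpen U →
      StIn (fun _ g => PF F g ∧ PF G g) (U : Set X) (U : Set X) := by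
    intro U hU
    have h1 := (adaptedStrata_iff F _).1 (hF U hU)
    have h2 := (adaptedStrata_iff G _).1 (hG U hU)
    have := StIn.inter₂ (PF_stable F) (PF_stable G) h1 h2
    rwa [inter_self] at this
  constructor
  · intro U hU
    rw [adaptedStrata_iff]
    refine StIn.mono_prop ?_ (key U hU)
    rintro T g ⟨h1, h2⟩
    have := Groth.Agent.S0101.result g
    have hk := (FlcKer.flc_kernel_cokernel ((EtCoh.pull g).map φ) h1 h2).1
    exact isFiniteLocallyConstant_of_iso (PreservesKernel.iso (EtCoh.pull g) φ).symm hk
  · intro U hU
    rw [adaptedStrata_iff]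
    refine StIn.mono_prop ?_ (key U hU)
    rintro T g ⟨h1, h2⟩
    have : PreservesColimitsOfSize.{0, 0} (EtCoh.pull g) :=
      (EtCoh.pullPushAdj g).leftAdjoint_preservesColimits
    have hk := (FlcKer.flc_kernel_cokernel ((EtCoh.pull g).map φ) h1 h2).2
    exact isFiniteLocallyConstant_of_iso (PreservesCokernel.iso (EtCoh.pull g) φ).symm hk

end Groth.Agent.S0131
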