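import Groth.Statements.S0132
import Groth.Agent.S0101
import Groth.Agent.Lib.Helper22.Strata.Refine
import Groth.Agent.Lib.Helper22.EtLoc.FlcExt

set_option autoImplicit false
universe u
open CategoryTheory CategoryTheory.Limits AlgebraicGeometry Opposite
open EtPBC

namespace Groth.Agent.S0132

open Groth.Agent.Lib.Helper22.Strata Groth.Agent.Lib.Helper22.EtLoc Set


/-- Let X be a scheme and n > 0 an integer. In a short exact sequence of abelian sheaves on X_ét whose
middle term is killed by n (so that it is a short exact sequence of sheaves of Z/n-modules) and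
whose outer terms are constructible, the middle term is constructible. (The analogous statement
without the torsion hypothesis on the middle term is not asserted here.) -/
theorem result {X : Scheme.{u}} (S : ShortComplex (EtCoh.Ab X)) (hS : S.ShortExact)
    (n : ℕ) (hn : 0 < n) (h2n : EtCoh.KilledBy n S.X₂)
    (h1 : EtPBC.IsConstructible S.X₁) (h3 : EtPBC.IsConstructible S.X₃) :
    EtPBC.IsConstructible S.X₂ := by
  intro U hU
  rw [adaptedStrata_iff]
  have k1 := (adaptedStrata_iff S.X₁ _).1 (h1 U hU)
  have k3 := (adaptedStrata_iff S.X₃ _).1 (h3 U hU)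
  have key := StIn.inter₂ (PF_stable S.X₁) (PF_stable S.X₃) k1 k3
  rw [inter_self] at key
  refine StIn.mono_prop ?_ key
  rintro T g ⟨f1, f3⟩
  have := Groth.Agent.S0101.result g
  have : PreservesColimitsOfSize.{0, 0} (EtCoh.pull g) :=
    (EtCoh.pullPushAdj g).leftAdjoint_preservesColimits
  have : (EtCoh.pull g).Additive := (EtCoh.pullPushAdj g).left_adjoint_additive
  exact FlcExt.flc_of_shortExact (S.map (EtCoh.pull g)) (hS.map_of_exact (EtCoh.pull g)) f1 f3

end Groth.Agent.S0132
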