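import Groth.Statements.S0140
import Mathlib
import Groth.Agent.Lib.Helper4.TR7

set_option autoImplicit false
universe u
open CategoryTheory CategoryTheory.Limits AlgebraicGeometry Opposite
open EtPBC

namespace Groth.Agent.S0140


open Groth.Agent.Lib.Helper4.TR in
/-- Part (3): with Λ = Z/n: on a Noetherian scheme X, a subsheaf of a constructible abelian sheaf killed
by n > 0 (a constructible sheaf of Z/n-modules) is constructible; so such sheaves form a Serre
subcategory. (The source writes the proof for modules over a Noetherian ring and marks the plain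
abelian case (2) as details-omitted, hence the n-torsion hypothesis.) -/
theorem result (X : Scheme.{u}) [IsNoetherian X]
    {F G : EtCoh.Ab X} (ι : G ⟶ F) [Mono ι] (n : ℕ) (hn : 0 < n) (hFn : EtCoh.KilledBy n F)
    (hF : EtPBC.IsConstructible F) :
    EtPBC.IsConstructible G := by
  haveI : IsNoetherianRing ZZ.{u + 1} := isNoetherianRing_of_ringEquiv ℤ ULift.ringEquiv.symm
  have hk : (n : ℤ) • 𝟙 F = 0 := zsmul_id_eq_zero_of_killedBy n F hFn
  have hkG : (n : ℤ) • 𝟙 G = 0 := zsmul_id_of_mono ι _ hk
  haveI : Mono ((PhiX X).map ι) := inferInstance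
  exact isConstructible_of_Phi G n hn hkG
    (Groth.Agent.Lib.Helper4.GR.isConstructible_of_mono ZZ.{u + 1} ((PhiX X).map ι)
      (isConstructible_Phi F hF))

end Groth.Agent.S0140
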