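import Groth.Statements.S0141
import Mathlib
import Groth.Agent.Lib.Helper4.TR7

set_option autoImplicit false
universe u
open CategoryTheory CategoryTheory.Limits AlgebraicGeometry Opposite
open EtPBC

namespace Groth.Agent.S0141


open Groth.Agent.Lib.Helper4.TR in
/-- Part (3): with Λ = Z/n, quotient half: on a Noetherian scheme a quotient of a constructible abelian
sheaf killed by n > 0 is constructible. -/
theorem result (X : Scheme.{u}) [IsNoetherian X]
    {F Q : EtCoh.Ab X} (π : F ⟶ Q) [Epi π] (n : ℕ) (hn : 0 < n) (hFn : EtCoh.KilledBy n F)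
    (hF : EtPBC.IsConstructible F) :
    EtPBC.IsConstructible Q := by
  haveI : IsNoetherianRing ZZ.{u + 1} := isNoetherianRing_of_ringEquiv ℤ ULift.ringEquiv.symm
  have hk : (n : ℤ) • 𝟙 F = 0 := zsmul_id_eq_zero_of_killedBy n F hFn
  have hkQ : (n : ℤ) • 𝟙 Q = 0 := zsmul_id_of_epi π _ hk
  haveI : Epi ((PhiX X).map π) := inferInstance
  exact isConstructible_of_Phi Q n hn hkQ
    (Groth.Agent.Lib.Helper4.GR.isConstructible_of_epi ZZ.{u + 1} ((PhiX X).map π)
      (isConstructible_Phi F hF))

end Groth.Agent.S0141
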