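import Groth.Statements.S0142
import Mathlib
import Groth.Agent.Lib.Helper4.TR7

set_option autoImplicit false
universe u
open CategoryTheory CategoryTheory.Limits AlgebraicGeometry Opposite
open EtPBC

namespace Groth.Agent.S0142


open Groth.Agent.Lib.Helper4.TR in
/-- For X Noetherian and F a constructible abelian sheaf on X_et, every increasing sequence of
subsheaves F_1 ⊆ F_2 ⊆ ... ⊆ F is eventually constant. -/
theorem result (X : Scheme.{u}) [IsNoetherian X]
    (F : EtCoh.Ab X) (hF : EtPBC.IsConstructible F) (c : ℕ →o Subobject F) :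
    ∃ N, ∀ m, N ≤ m → c m = c N := by
  haveI : IsNoetherianRing ZZ.{u + 1} := isNoetherianRing_of_ringEquiv ℤ ULift.ringEquiv.symm
  have h1 : IsNoetherianObject ((PhiX X).obj F) :=
    Groth.Agent.Lib.Helper4.NC.isNoetherianObject_of_isConstructible ZZ.{u + 1} _
      (isConstructible_Phi F hF)
  have h2 : IsNoetherianObject F := isNoetherianObject_of_fullyFaithful (PhiX X) F h1
  obtain ⟨N, hN⟩ := (isNoetherianObject_iff_monotone_chain_condition F).1 h2 c
  exact ⟨N, fun m hm => (hN m hm).symm⟩

end Groth.Agent.S0142
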