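import Groth.Statements.S0161
import Groth.Agent.Lib.Helper22.EtStalk.FiniteBC
import Groth.Agent.Lib.Helper22.EtStalk.FinitePushExact

set_option autoImplicit false
universe u
open CategoryTheory CategoryTheory.Limits AlgebraicGeometry Opposite
open EtPBC

namespace Groth.Agent.S0161

open Groth.Agent.Lib.Helper22.EtStalk


/-- For a finite morphism f : X -> Y, cohomology commutes with base change: for every cartesian square
and torsion abelian F on X_et and every q, g^* R^q f_* F ≅ R^q f'_* g'^* F (abstract-isomorphism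
form). -/
theorem result {X Y : Scheme.{u}} (f : X ⟶ Y) [IsFinite f] [EtCoh.BCCont f] :
    EtPBC.CohCommutesWithBC f := by
  intro X' Y' f' g' g _ _ _ h F _ q
  have : IsFinite f' := MorphismProperty.of_isPullback (P := @IsFinite) h inferInstance
  have : PreservesFiniteLimits (EtCoh.push f) :=
    ⟨fun _ _ _ => ((EtCoh.pullPushAdj f).rightAdjoint_preservesLimits).preservesLimitsOfShape⟩
  have : PreservesFiniteLimits (EtCoh.push f') :=
    ⟨fun _ _ _ => ((EtCoh.pullPushAdj f').rightAdjoint_preservesLimits).preservesLimitsOfShape⟩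
  cases q with
  | zero =>
    have := FiniteBC.isIso_baseChange0 h F
    exact ⟨(EtCoh.pull g).mapIso ((EtCoh.push f).rightDerivedZeroIsoSelf.app F) ≪≫
      asIso (EtCoh.baseChange0 f g f' g' h.w F) ≪≫
      ((EtCoh.push f').rightDerivedZeroIsoSelf.app ((EtCoh.pull g').obj F)).symm⟩
  | succ n =>
    have h1 : IsZero ((EtCoh.Rpush f (n + 1)).obj F) := FinitePush.isZero_Rpush_succ f F n
    have h2 : IsZero ((EtCoh.Rpush f' (n + 1)).obj ((EtCoh.pull g').obj F)) :=
      FinitePush.isZero_Rpush_succ f' _ n
    have : (EtCoh.pull g).IsLeftAdjoint := ⟨_, ⟨EtCoh.pullPushAdj g⟩⟩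
    have : (EtCoh.pull g).PreservesZeroMorphisms :=
      Functor.preservesZeroMorphisms_of_isLeftAdjoint _
    exact ⟨((EtCoh.pull g).map_isZero h1).iso h2⟩

end Groth.Agent.S0161
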