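import Groth.Statements.S0175
import Groth.Agent.Lib.Helper22.EtStalk.RecollEquiv
import Groth.Agent.Lib.Helper22.EtLoc.HpullDelta

set_option autoImplicit false
universe u
open CategoryTheory CategoryTheory.Limits AlgebraicGeometry Opposite
open EtPBC

namespace Groth.Agent.S0175

open Groth.Agent.Lib.Helper22.EtStalk Groth.Agent.Lib.Helper22.EtStalk.ClosedStalk
  Groth.Agent.Lib.Helper22.EtStalk.ClosedOpen Groth.Agent.Lib.Helper22.EtStalk.Recoll
  Groth.Agent.Lib.Helper22.EtStalk.RecollEquiv Groth.Agent.Lib.Helper22.EtLoc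

section

variable {Z X U : Scheme.{u}} (i : Z ⟶ X) [IsClosedImmersion i]
    (j : U ⟶ X) [IsOpenImmersion j] (hZU : Set.range j.base = (Set.range i.base)ᶜ)

include hZU in
/-- A sheaf killed by `j^*` is in the image of `i_*`. -/
lemma isIso_unit_of_isZero_pull (F : EtCoh.Ab X) (h : IsZero ((EtCoh.pull j).obj F)) :
    IsIso ((EtCoh.pullPushAdj i).unit.app F) := by
  apply isIso_of_stalks
  intro Ω _ _ ξ
  rcases pointKind i j hZU ξ with ⟨ξ', rfl, hd⟩ | ⟨ζ, rfl, hd⟩
  · have hz1 : IsZero ((EtCoh.stalk (ξ' ≫ j)).obj F) :=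
      IsZero.of_iso ((EtCoh.stalk ξ').map_isZero h) ((stalkPullIso j ξ').app F).symm
    have hz2 := isZero_stalk_push_of_disjoint i ((EtCoh.pull i).obj F) (ξ' ≫ j) hd
    exact ⟨0, hz1.eq_of_src _ _, hz2.eq_of_src _ _⟩
  · exact isIso_stalk_unit i F ζ

/-- The kernel of `F ⟶ j_* j^* F` is killed by `j^*`. -/
lemma isZero_pull_kernel (F : EtCoh.Ab X) :
    IsZero ((EtCoh.pull j).obj (kernel ((EtCoh.pullPushAdj j).unit.app F))) := by
  have hm : Mono ((EtCoh.pull j).map (kernel.ι ((EtCoh.pullPushAdj j).unit.app F))) := inferInstance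
  have h0 : (EtCoh.pull j).map (kernel.ι ((EtCoh.pullPushAdj j).unit.app F)) ≫
      (EtCoh.pull j).map ((EtCoh.pullPushAdj j).unit.app F) = 0 := by
    rw [← Functor.map_comp, kernel.condition, Functor.map_zero]
  have h1 : (EtCoh.pull j).map (kernel.ι ((EtCoh.pullPushAdj j).unit.app F)) = 0 := by
    rw [← cancel_mono ((EtCoh.pull j).map ((EtCoh.pullPushAdj j).unit.app F)), h0, zero_comp]
  exact IsZero.of_mono_eq_zero _ h1

end

/-- Let i : Z → X be a closed immersion of schemes with open complement j : U → X, and I an injective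
abelian sheaf on X_ét. Then the subsheaf H_Z(I) of sections supported on Z (the kernel of I → j_*
j^* I), viewed on Z_ét via i^*, is an injective abelian sheaf on Z_ét. -/
theorem result {Z X U : Scheme.{u}} (i : Z ⟶ X) [IsClosedImmersion i]
    (j : U ⟶ X) [IsOpenImmersion j] (hZU : Set.range j = (Set.range i)ᶜ)
    [EtCoh.BCCont i] [EtCoh.BCCont j] (I : EtCoh.Ab X) [Injective I] :
    Injective ((EtCoh.pull i).obj (kernel ((EtCoh.pullPushAdj j).unit.app I))) := by
  have hZU' : Set.range j.base = (Set.range i.base)ᶜ := hZU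
  let H := kernel ((EtCoh.pullPushAdj j).unit.app I)
  have hH : IsIso ((EtCoh.pullPushAdj i).unit.app H) :=
    isIso_unit_of_isZero_pull i j hZU' H (isZero_pull_kernel j I)
  constructor
  intro A B g m hm
  have hm' : Mono ((EtCoh.push i).map m) := inferInstance
  let φ : (EtCoh.push i).obj A ⟶ I :=
    (EtCoh.push i).map g ≫ inv ((EtCoh.pullPushAdj i).unit.app H) ≫
      kernel.ι ((EtCoh.pullPushAdj j).unit.app I)
  let ψ : (EtCoh.push i).obj B ⟶ I := Injective.factorThru φ ((EtCoh.push i).map m)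
  have hψ : (EtCoh.push i).map m ≫ ψ = φ := Injective.comp_factorThru _ _
  have hψ0 : ψ ≫ (EtCoh.pullPushAdj j).unit.app I = 0 := by
    have n := (EtCoh.pullPushAdj j).unit.naturality ψ
    dsimp at n
    rw [n]
    have hz : (EtCoh.pull j).map ψ = 0 := (isZero_pull_push i j hZU' B).eq_of_src _ _
    rw [hz, Functor.map_zero, comp_zero]
  let ψ' : (EtCoh.push i).obj B ⟶ H := kernel.lift _ ψ hψ0
  have hψ' : (EtCoh.push i).map m ≫ ψ' =
      (EtCoh.push i).map g ≫ inv ((EtCoh.pullPushAdj i).unit.app H) := by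
    rw [← cancel_mono (kernel.ι ((EtCoh.pullPushAdj j).unit.app I)), Category.assoc,
      kernel.lift_ι, hψ, Category.assoc]
  let ff := fullyFaithfulPush i
  refine ⟨ff.preimage (ψ' ≫ (EtCoh.pullPushAdj i).unit.app H), ?_⟩
  apply ff.map_injective
  rw [Functor.map_comp, ff.map_preimage, ← Category.assoc, hψ', Category.assoc,
    IsIso.inv_hom_id, Category.comp_id]

end Groth.Agent.S0175
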