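import Groth.Statements.S0182
import Groth.Agent.Lib.Helper22.Strata.Supp

set_option autoImplicit false
universe u
open CategoryTheory CategoryTheory.Limits AlgebraicGeometry Opposite
open EtPBC

namespace Groth.Agent.S0182

open Groth.Agent.Lib.Helper22.Strata Groth.Agent.Lib.Helper22.EtStalk Set Topology

/-- Surjectivity of the stalk map is vanishing of the stalk of the cokernel. -/
lemma surjective_iff_isZero_stalk_cokernel {X : Scheme.{u}} {F G : EtCoh.Ab X} (φ : F ⟶ G)
    {Ω : Type u} [Field Ω] [IsSepClosed Ω] (ξ : Spec (CommRingCat.of Ω) ⟶ X) :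
    Function.Surjective ((EtCoh.stalk ξ).map φ) ↔ IsZero ((EtCoh.stalk ξ).obj (cokernel φ)) := by
  rw [← AddCommGrpCat.epi_iff_surjective]
  have e : (EtCoh.stalk ξ).obj (cokernel φ) ≅ cokernel ((EtCoh.stalk ξ).map φ) :=
    PreservesCokernel.iso (EtCoh.stalk ξ) φ
  constructor
  · intro h
    exact (isZero_cokernel_of_epi _).of_iso e
  · intro h
    have hz : IsZero (cokernel ((EtCoh.stalk ξ).map φ)) := h.of_iso e.symm
    exact Preadditive.epi_of_isZero_cokernel _ hz


/-- (1), surjectivity case, for abelian sheaves: X quasi-compact and quasi-separated, F -> G a map of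
constructible abelian sheaves on X_et; the set of points x of X such that F -> G is surjective on
stalks at (every) geometric point over x is constructible. The source states this for constructible
sheaves of sets; an abelian constructible sheaf is one, with the same stalks. -/
theorem result (X : Scheme.{u}) [CompactSpace X] [QuasiSeparatedSpace X]
    {F G : EtCoh.Ab X} (φ : F ⟶ G) (hF : EtPBC.IsConstructible F) (hG : EtPBC.IsConstructible G) :
    Topology.IsConstructible {x : X | ∀ (Ω : Type u) [Field Ω] [IsSepClosed Ω]
      (ξ : Spec (CommRingCat.of Ω) ⟶ X), Set.range ξ = {x} →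
        Function.Surjective ((EtCoh.stalk ξ).map φ)} := by
  have hC := (isConstructible_kernel_cokernel φ hF hG).2
  have hs : IsConstructible (EtPBC.supp (cokernel φ)) :=
    (isLocallyConstructible_supp _ hC).isConstructible
  convert hs.compl using 1
  ext x
  simp only [mem_ofPred_eq, mem_compl_iff]
  constructor
  · rintro h ⟨Ω, _, _, ξ, hξ, hnz⟩
    exact hnz ((surjective_iff_isZero_stalk_cokernel φ ξ).1 (h Ω ξ hξ))
  · intro h Ω _ _ ξ hξ
    rw [surjective_iff_isZero_stalk_cokernel]
    by_contra hnz
    exact h ⟨Ω, inferInstance, inferInstance, ξ, hξ, hnz⟩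

end Groth.Agent.S0182
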