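import Groth.Statements.S0183
import Mathlib
import Groth.Agent.Lib.Helper4.LocSec6
import Groth.Agent.Lib.Helper4.ConsTop
import Groth.Agent.Lib.Helper4.IdLoc
import Groth.Agent.Lib.Helper4.IndZar3

set_option autoImplicit false
universe u
open CategoryTheory CategoryTheory.Limits AlgebraicGeometry Opposite
open EtPBC

namespace Groth.Agent.S0183

set_option synthInstance.maxHeartbeats 400000 in
set_option maxHeartbeats 2000000 in
open Topology in
open Groth.Agent.Lib.Helper4 in
/-- Suppose A -> B identifies local rings (A_p -> B_q bijective for every prime q of B over p). Then B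
can be enlarged along a faithfully flat ind-Zariski extension B' so that B' is already ind-Zariski
over A; ind-Zariski means: a filtered colimit of local isomorphisms in the sense of Mathlib's
Algebra.IsLocalIso (Zariski-locally on the source a standard open immersion). -/
theorem result (A B : Type u) [CommRing A] [CommRing B] [Algebra A B]
    (h : EtPBC.IdentifiesLocalRings A B) :
    ∃ (B' : Type u) (_ : CommRing B') (_ : Algebra B B') (_ : Algebra A B') (_ : IsScalarTower A B B'),
      Module.FaithfullyFlat B B' ∧ EtPBC.IsIndZariski B B' ∧ EtPBC.IsIndZariski A B' := by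
  let P : ConsTop.Cons B → PrimeSpectrum B := ConsTop.toSpec
  have hP : ∀ a : B, IsClopen {t | a ∈ (P t).asIdeal} := ConsTop.isClopen_zeroLocus
  letI algAB' : Algebra A (LocSec.Sec (LocSec.Sp P)) :=
    ((algebraMap B (LocSec.Sec (LocSec.Sp P))).comp (algebraMap A B)).toAlgebra
  have tower : IsScalarTower A B (LocSec.Sec (LocSec.Sp P)) :=
    IsScalarTower.of_algebraMap_eq (fun _ => rfl)
  have hid : EtPBC.IdentifiesLocalRings A (LocSec.Sec (LocSec.Sp P)) :=
    IdLoc.comp A B (LocSec.Sec (LocSec.Sp P)) h
      (LocSec.identifiesLocalRings_sec (LocSec.hS_of_hP P hP))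
  obtain ⟨hYs, hY0, hYu⟩ := LocSec.isWLocal_sec P hP
  have hYb := Groth.Agent.Lib.Helper20.SpecTop.closedPoints_bijective_of_wLocal
    (X := PrimeSpectrum (LocSec.Sec (LocSec.Sp P))) hY0 hYu
  refine ⟨LocSec.Sec (LocSec.Sp P), inferInstance, inferInstance, algAB', tower,
    LocSec.faithfullyFlat_sec P hP ConsTop.toSpec_bijective.2, LocSec.isIndZariski_sec_sp P hP, ?_⟩
  apply IndZar.isIndZariski_of_identifiesLocalRings hid
  intro U hU hcov
  exact Groth.Agent.Lib.Helper20.SpecTop.refinement_of_bijective hYb
    (PrimeSpectrum (LocSec.Sec (LocSec.Sp P))) U hU hcov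

end Groth.Agent.S0183
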