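import Groth.Statements.S0191
import Mathlib
import Groth.Agent.Lib.Helper15.CSATensor

set_option autoImplicit false
universe u v w
open scoped TensorProduct
open Curves

namespace Groth.Agent.S0191

section Aux

/-- image of a two-sided ideal under a surjective ring hom, as a two-sided ideal -/
def imageIdeal {R S : Type*} [Ring R] [Ring S] (f : R →+* S) (hf : Function.Surjective f)
    (I : TwoSidedIdeal R) : TwoSidedIdeal S :=
  TwoSidedIdeal.mk' (f '' (I : Set R))
    ⟨0, I.zero_mem, map_zero f⟩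
    (by
      rintro _ _ ⟨x, hx, rfl⟩ ⟨y, hy, rfl⟩
      exact ⟨x + y, I.add_mem hx hy, map_add f x y⟩)
    (by
      rintro _ ⟨x, hx, rfl⟩
      exact ⟨-x, I.neg_mem hx, map_neg f x⟩)
    (by
      rintro s _ ⟨y, hy, rfl⟩
      obtain ⟨r, rfl⟩ := hf s
      exact ⟨r * y, I.mul_mem_left _ _ hy, map_mul f r y⟩)
    (by
      rintro _ s ⟨x, hx, rfl⟩
      obtain ⟨r, rfl⟩ := hf s
      exact ⟨x * r, I.mul_mem_right _ _ hx, map_mul f x r⟩)

theorem mem_imageIdeal {R S : Type*} [Ring R] [Ring S] (f : R →+* S) (hf : Function.Surjective f)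
    (I : TwoSidedIdeal R) (s : S) : s ∈ imageIdeal f hf I ↔ ∃ x ∈ I, f x = s := by
  rw [imageIdeal, TwoSidedIdeal.mem_mk']
  rfl

end Aux

/-- If K is a skew field with center k, every two-sided ideal of A ⊗ K is generated by the elements a ⊗
1 it contains. -/
theorem result (k : Type u) [Field k] (A : Type v) [Ring A] [Algebra k A]
    (K : Type w) [DivisionRing K] [Algebra k K] [Algebra.IsCentral k K]
    (I : TwoSidedIdeal (A ⊗[k] K)) :
    I = TwoSidedIdeal.span ((fun a : A => a ⊗ₜ[k] (1 : K)) '' {a : A | a ⊗ₜ[k] (1 : K) ∈ I}) := by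
  classical
  set I' := TwoSidedIdeal.span ((fun a : A => a ⊗ₜ[k] (1 : K)) '' {a : A | a ⊗ₜ[k] (1 : K) ∈ I})
    with hI'
  have hI'I : I' ≤ I := by
    rw [hI', TwoSidedIdeal.span_le]
    rintro _ ⟨a, ha, rfl⟩
    exact ha
  refine le_antisymm ?_ hI'I
  -- the ideal J of A
  let incl : A →+* A ⊗[k] K := (Algebra.TensorProduct.includeLeft : A →ₐ[k] A ⊗[k] K).toRingHom
  set J : TwoSidedIdeal A := I.comap incl with hJ
  have hJmem : ∀ a : A, a ∈ J ↔ a ⊗ₜ[k] (1 : K) ∈ I := fun a => by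
    rw [hJ, TwoSidedIdeal.mem_comap]; rfl
  let π : A →ₐ[k] A ⧸ J.asIdeal := Ideal.Quotient.mkₐ k J.asIdeal
  have hπsurj : Function.Surjective π := Ideal.Quotient.mkₐ_surjective k J.asIdeal
  have hπ0 : ∀ a, π a = 0 ↔ a ∈ J := fun a => by
    show Ideal.Quotient.mk J.asIdeal a = 0 ↔ _
    rw [Ideal.Quotient.eq_zero_iff_mem, TwoSidedIdeal.mem_asIdeal]
  let Φ : A ⊗[k] K →ₐ[k] (A ⧸ J.asIdeal) ⊗[k] K := Algebra.TensorProduct.map π (AlgHom.id k K)
  have hΦsurj : Function.Surjective Φ := by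
    have : Function.Surjective (TensorProduct.map π.toLinearMap (AlgHom.id k K).toLinearMap) :=
      TensorProduct.map_surjective hπsurj (fun x => ⟨x, rfl⟩)
    exact this
  -- kernel of Φ is inside I'
  have hker : ∀ w, Φ w = 0 → w ∈ I' := by
    intro w hw
    let N : Submodule k A := J.asIdeal.restrictScalars k
    have hex : Function.Exact N.subtype π.toLinearMap := by
      intro a
      constructor
      · intro h
        have : a ∈ J := (hπ0 a).mp h
        exact ⟨⟨a, this⟩, rfl⟩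
      · rintro ⟨⟨b, hb⟩, rfl⟩
        exact (hπ0 b).mpr hb
    have hex2 := rTensor_exact K hex hπsurj
    have hw2 : (LinearMap.rTensor K π.toLinearMap) w = 0 := hw
    obtain ⟨z, rfl⟩ := (hex2 w).mp hw2
    clear hw hw2
    induction z using TensorProduct.induction_on with
    | zero => simp [I'.zero_mem]
    | tmul j c =>
      have hj : (j : A) ∈ J := j.2
      have : (LinearMap.rTensor K N.subtype) (j ⊗ₜ[k] c) = ((j : A) ⊗ₜ[k] (1 : K)) * ((1 : A) ⊗ₜ[k] c) := by
        simp [Algebra.TensorProduct.tmul_mul_tmul]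
      rw [this]
      apply I'.mul_mem_right
      apply TwoSidedIdeal.subset_span
      exact ⟨j, (hJmem _).mp hj, rfl⟩
    | add x y hx hy =>
      rw [map_add]
      exact I'.add_mem hx hy
  -- the image of I under Φ is zero
  set I₂ := imageIdeal Φ.toRingHom hΦsurj I with hI₂
  let e : (A ⧸ J.asIdeal) ⊗[k] K ≃ₐ[k] K ⊗[k] (A ⧸ J.asIdeal) := Algebra.TensorProduct.comm k _ _
  set I₃ : TwoSidedIdeal (K ⊗[k] (A ⧸ J.asIdeal)) := I₂.comap e.symm.toRingEquiv.toRingHom with hI₃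
  have hI₃bot : I₃ = ⊥ := by
    by_contra hne
    obtain ⟨q, hq0, hq⟩ := Groth.Agent.Lib.Helper15.CSA.exists_one_tmul_mem I₃ hne
    rw [hI₃, TwoSidedIdeal.mem_comap] at hq
    have hq' : q ⊗ₜ[k] (1 : K) ∈ I₂ := by
      have : e.symm.toRingEquiv.toRingHom ((1 : K) ⊗ₜ[k] q) = q ⊗ₜ[k] (1 : K) := by
        simp [e]
      rwa [this] at hq
    rw [hI₂, mem_imageIdeal] at hq'
    obtain ⟨w, hwI, hw⟩ := hq'
    obtain ⟨a, rfl⟩ := hπsurj q
    have h0 : Φ (w - a ⊗ₜ[k] (1 : K)) = 0 := by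
      rw [map_sub]
      have : Φ w = π a ⊗ₜ[k] (1 : K) := hw
      rw [this]
      simp [Φ]
    have h1 : w - a ⊗ₜ[k] (1 : K) ∈ I := hI'I (hker _ h0)
    have h2 : a ⊗ₜ[k] (1 : K) ∈ I := by
      have := I.sub_mem hwI h1
      simpa using this
    exact hq0 ((hπ0 a).mpr ((hJmem a).mpr h2))
  intro w hw
  apply hker
  have h1 : Φ w ∈ I₂ := by
    rw [hI₂, mem_imageIdeal]
    exact ⟨w, hw, rfl⟩
  have h2 : e (Φ w) ∈ I₃ := by
    rw [hI₃, TwoSidedIdeal.mem_comap]
    simpa using h1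
  rw [hI₃bot, TwoSidedIdeal.mem_bot] at h2
  exact (map_eq_zero_iff e e.injective).mp h2

end Groth.Agent.S0191
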