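import Groth.Statements.S0192
import Groth.Agent.Lib.Helper15.Wedderburn
import Groth.Agent.Lib.Helper15.CSABaseChange
import Groth.Agent.Lib.Helper15.RedNorm

set_option autoImplicit false
universe u v w
open scoped TensorProduct
open Curves

namespace Groth.Agent.S0192

/-- The dimension of a finite central simple algebra over its center is a square. -/
theorem result (k : Type u) [Field k] (A : Type v) [Ring A] [Algebra k A]
    [Algebra.IsCentral k A] [IsSimpleRing A] [FiniteDimensional k A] :
    IsSquare (Module.finrank k A) := by
  open Groth.Agent.Lib.Helper15.CSA in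
  let K := AlgebraicClosure k
  have h1 : Algebra.IsCentral K (K ⊗[k] A) := isCentral_baseChange k K A
  have h2 : IsSimpleRing (K ⊗[k] A) := isSimpleRing_baseChange k K A
  have h3 : FiniteDimensional K (K ⊗[k] A) := inferInstance
  obtain ⟨n, -, ⟨e⟩⟩ := exists_algEquiv_matrix_of_isSepClosed K (K ⊗[k] A)
  have := finrank_eq_sq_of_algEquiv_matrix k K A e
  exact ⟨n, by rw [this, sq]⟩

end Groth.Agent.S0192
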