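import Groth.Statements.S0195
import Groth.Agent.Lib.Helper8.SplitField

set_option autoImplicit false
universe u v w
open scoped TensorProduct
open Curves

namespace Groth.Agent.S0195

/-- A finite extension k' of k splits a finite central simple algebra A exactly when some algebra
similar to A contains k' with dim equal to [k':k]^2. Uses Mathlib's bundled CSA and Brauer
equivalence. -/
theorem result (k : Type u) [Field k] (A : CSA.{u, u} k)
    (k' : Type u) [Field k'] [Algebra k k'] [FiniteDimensional k k'] :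
    Curves.Splits k A k' ↔ ∃ (B : CSA.{u, u} k) (_ : k' →ₐ[k] B), IsBrauerEquivalent A B ∧
      Module.finrank k B = Module.finrank k k' ^ 2 := by
  constructor
  · intro h
    obtain ⟨C, hR, hAlg, hCc, hCs, hCf, τ, ⟨p, q, hp, hq, ⟨χ⟩⟩, hdim⟩ :=
      Groth.Agent.Lib.Helper8.SplitField.exists_csa_of_splits k A k' h
    exact ⟨⟨AlgCat.of k C⟩, τ, ⟨p, q, hp, hq, ⟨χ⟩⟩, hdim⟩
  · rintro ⟨B, ι, ⟨n, m, hn, hm, ⟨e⟩⟩, hdim⟩
    exact Groth.Agent.Lib.Helper8.SplitField.splits_of_splits_matrix k A k' n hn
      (Groth.Agent.Lib.Helper8.SplitField.splits_of_algEquiv e.symm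
        (Groth.Agent.Lib.Helper8.SplitField.splits_matrix m hm
          (Groth.Agent.Lib.Helper8.SplitField.splits_of_subfield k B k' ι hdim)))

end Groth.Agent.S0195
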