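import Groth.Statements.S0197
import Mathlib

set_option autoImplicit false
universe u v w
open scoped TensorProduct
open Curves

namespace Groth.Agent.S0197

/-- If a finite central skew field D has dimension d^2, the degree of any finite splitting field of D is
divisible by d. -/
theorem result (k : Type u) [Field k]
    (D : Type u) [DivisionRing D] [Algebra k D] [Algebra.IsCentral k D] [FiniteDimensional k D]
    (d : ℕ) (hd : Module.finrank k D = d ^ 2)
    (k' : Type u) [Field k'] [Algebra k k'] [FiniteDimensional k k'] (hs : Curves.Splits k D k') :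
    d ∣ Module.finrank k k' := by
  obtain ⟨n, hn, ⟨φ⟩⟩ := hs
  -- n = d
  have hnd : n = d := by
    have h1 : Module.finrank k' (k' ⊗[k] D) = Module.finrank k' (Matrix (Fin n) (Fin n) k') :=
      φ.toLinearEquiv.finrank_eq
    rw [Module.finrank_baseChange, hd, Module.finrank_matrix] at h1
    simp only [Fintype.card_fin, Module.finrank_self, mul_one] at h1
    have : d ^ 2 = n ^ 2 := by rw [h1, sq]
    exact (Nat.pow_left_injective (n := 2) (by norm_num) this).symm
  subst hnd
  -- the D-module structure on V
  let V := Fin n → k'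
  let ρ : D →ₐ[k] Module.End k' V :=
    ((Matrix.toLinAlgEquiv' : Matrix (Fin n) (Fin n) k' ≃ₐ[k'] Module.End k' V).restrictScalars k
      : Matrix (Fin n) (Fin n) k' →ₐ[k] Module.End k' V).comp
      (((φ.restrictScalars k : k' ⊗[k] D ≃ₐ[k] Matrix (Fin n) (Fin n) k') : _ →ₐ[k] _).comp
        (Algebra.TensorProduct.includeRight : D →ₐ[k] k' ⊗[k] D))
  let _ : Module D V := Module.compHom V (ρ : D →+* Module.End k' V)
  have hsm : ∀ (a : D) (v : V), a • v = ρ a v := fun _ _ => rfl
  have : IsScalarTower k D V := ⟨fun c a v => by
    rw [hsm, hsm, map_smul]; rfl⟩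
  have h1 := Module.finrank_mul_finrank k D V
  have h2 : Module.finrank k V = n * Module.finrank k k' := by
    simp [V, Module.finrank_pi_fintype]
  rw [hd, h2] at h1
  have hn0 : 0 < n := Nat.pos_of_ne_zero hn
  refine ⟨Module.finrank D V, ?_⟩
  have : n * (n * Module.finrank D V) = n * Module.finrank k k' := by
    rw [← h1]; ring
  exact (Nat.eq_of_mul_eq_mul_left hn0 this).symm

end Groth.Agent.S0197
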