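import Groth.Statements.S15939
import Mathlib

set_option autoImplicit false
universe u
open CAlg

namespace Groth.Agent.S15939
open Polynomial

open Polynomial in
/-- Let κ be a field and A a commutative κ-algebra whose only κ-subalgebras are the image of κ and A
itself, these two being different. Then A is finite-dimensional over κ, and A is isomorphic as a
κ-algebra to the dual numbers over κ, or to κ × κ, or A is a field which is either separable over κ
or isomorphic to κ[X]/(X^p - a) with p the (positive) characteristic of κ and a an element of κ that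
is not a p-th power. (The published statement also records that these four cases exclude one
another; that part is not restated.) -/
theorem result (κ A : Type u) [Field κ] [CommRing A] [Algebra κ A]
    (h : IsSimpleOrder (Subalgebra κ A)) :
    FiniteDimensional κ A ∧
    (Nonempty (A ≃ₐ[κ] DualNumber κ) ∨ Nonempty (A ≃ₐ[κ] (κ × κ)) ∨
      (IsField A ∧ (Algebra.IsSeparable κ A ∨
        ∃ (p : ℕ) (a : κ), p.Prime ∧ CharP κ p ∧ (∀ b : κ, b ^ p ≠ a) ∧
          Nonempty (A ≃ₐ[κ] AdjoinRoot (X ^ p - C a))))) := by
  classical
  haveI := h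
  have hbt : (⊥ : Subalgebra κ A) ≠ ⊤ := bot_ne_top
  haveI : Nontrivial A := by
    by_contra hnt
    rw [not_nontrivial_iff_subsingleton] at hnt
    apply hbt
    ext x
    simp only [Algebra.mem_top, iff_true]
    rw [Subsingleton.elim x 0]; exact zero_mem _
  have hinjκ : Function.Injective (algebraMap κ A) := (algebraMap κ A).injective
  have hdich : ∀ S : Subalgebra κ A, S = ⊥ ∨ S = ⊤ := fun S => eq_bot_or_eq_top S
  have hgen : ∀ b : A, b ∉ (⊥ : Subalgebra κ A) → Algebra.adjoin κ {b} = ⊤ := by
    intro b hb
    rcases hdich (Algebra.adjoin κ {b}) with h1 | h1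
    · exact absurd (h1 ▸ Algebra.subset_adjoin (Set.mem_singleton b)) hb
    · exact h1
  -- range of an alg hom containing a non-scalar is everything
  have hsurj : ∀ {B : Type u} [CommRing B] [Algebra κ B] (φ : B →ₐ[κ] A) (b : B),
      φ b ∉ (⊥ : Subalgebra κ A) → Function.Surjective φ := by
    intro B _ _ φ b hb
    rcases hdich φ.range with h1 | h1
    · exact absurd (h1 ▸ (⟨b, rfl⟩ : φ b ∈ φ.range)) hb
    · intro x
      have : x ∈ φ.range := h1 ▸ Algebra.mem_top
      exact this
  obtain ⟨a, ha⟩ : ∃ a : A, a ∉ (⊥ : Subalgebra κ A) := by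
    by_contra hall
    push Not at hall
    exact hbt (le_antisymm bot_le (fun x _ => hall x))
  have haT := hgen a ha
  have hint : IsIntegral κ a := by
    by_contra htr
    have htrans : Transcendental κ a := by
      intro halg; exact htr halg.isIntegral
    have hinj : Function.Injective (Polynomial.aeval (R := κ) a) :=
      transcendental_iff_injective.mp htrans
    rcases hdich (Algebra.adjoin κ {a^2}) with h1 | h1
    · have h2 : a^2 ∈ (⊥ : Subalgebra κ A) := h1 ▸ Algebra.subset_adjoin (Set.mem_singleton _)
      obtain ⟨c, hc⟩ := Algebra.mem_bot.mp h2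
      have h3 : Polynomial.aeval a (X^2 - C c : κ[X]) = 0 := by simp [hc]
      have h4 := hinj (h3.trans (map_zero _).symm)
      exact (Polynomial.X_pow_sub_C_ne_zero (by norm_num) c) h4
    · have h2 : a ∈ Algebra.adjoin κ {a^2} := h1 ▸ Algebra.mem_top
      rw [Algebra.adjoin_singleton_eq_range_aeval] at h2
      obtain ⟨g, hg⟩ := h2
      have h3 : Polynomial.aeval a (g.comp (X^2) - X : κ[X]) = 0 := by
        rw [map_sub, Polynomial.aeval_comp, Polynomial.aeval_X, map_pow, Polynomial.aeval_X]
        exact sub_eq_zero.mpr hg
      have h0 := hinj (h3.trans (map_zero _).symm)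
      have h1' : g.comp (X^2) = X := sub_eq_zero.mp h0
      have h5 := congrArg Polynomial.natDegree h1'
      rw [Polynomial.natDegree_comp, Polynomial.natDegree_X_pow, Polynomial.natDegree_X] at h5
      omega
  haveI hfin : FiniteDimensional κ A := by
    have h1 : (Algebra.adjoin κ {a}).toSubmodule.FG := hint.fg_adjoin_singleton
    rw [haT] at h1
    exact ⟨by simpa using h1⟩
  refine ⟨hfin, ?_⟩
  haveI : IsArtinianRing A := IsArtinianRing.of_finite κ A
  -- scalars: nilpotent / idempotent
  by_cases hred : IsReduced A
  swap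
  · -- dual numbers
    left
    obtain ⟨n, hn, hn0⟩ : ∃ n : A, IsNilpotent n ∧ n ≠ 0 := by
      by_contra hno
      push Not at hno
      exact hred ⟨fun x hx => hno x hx⟩
    set k := nilpotencyClass n with hk
    have hk2 : 2 ≤ k := by
      have h1 : n ^ k = 0 := pow_nilpotencyClass hn
      rcases Nat.lt_or_ge k 2 with hlt | hge
      · interval_cases k
        · simp at h1
        · simp at h1; exact absurd h1 hn0
      · exact hge
    set b := n ^ (k - 1) with hb
    have hb0 : b ≠ 0 := pow_pred_nilpotencyClass hn
    have hbb : b * b = 0 := by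
      rw [hb, ← pow_add]
      have : k - 1 + (k - 1) = k + (k - 2) := by omega
      rw [this, pow_add, pow_nilpotencyClass hn, zero_mul]
    have hbbot : b ∉ (⊥ : Subalgebra κ A) := by
      intro hmem
      obtain ⟨c, hc⟩ := Algebra.mem_bot.mp hmem
      have : algebraMap κ A (c * c) = 0 := by rw [map_mul, hc, hbb]
      have hc0 : c = 0 := by
        have := (map_eq_zero_iff _ hinjκ).mp this
        exact mul_self_eq_zero.mp this
      rw [hc0, map_zero] at hc
      exact hb0 hc.symm
    let φ : DualNumber κ →ₐ[κ] A :=
      DualNumber.lift ⟨(Algebra.ofId κ A, b), hbb, fun _ => Commute.all _ _⟩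
    have hφε : φ DualNumber.eps = b := by
      simp [φ, DualNumber.lift_apply_apply]
    have hφ : ∀ x : DualNumber κ, φ x = algebraMap κ A x.fst + algebraMap κ A x.snd * b := by
      intro x
      simp [φ, DualNumber.lift_apply_apply, Algebra.ofId_apply]
    have hs : Function.Surjective φ := hsurj φ DualNumber.eps (by rw [hφε]; exact hbbot)
    have hi : Function.Injective φ := by
      rw [injective_iff_map_eq_zero]
      intro x hx
      rw [hφ] at hx
      have hy : x.snd = 0 := by
        by_contra hy
        apply hbbot
        rw [Algebra.mem_bot]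
        refine ⟨-(x.fst / x.snd), ?_⟩
        have h1 : algebraMap κ A x.snd * b = - algebraMap κ A x.fst := by
          rw [eq_neg_iff_add_eq_zero, add_comm]; exact hx
        have h2 : b = algebraMap κ A (x.snd)⁻¹ * (algebraMap κ A x.snd * b) := by
          rw [← mul_assoc, ← map_mul, inv_mul_cancel₀ hy, map_one, one_mul]
        rw [h2, h1, map_neg, div_eq_inv_mul, map_mul]
        ring
      rw [hy, map_zero, zero_mul, add_zero] at hx
      have hx0 : x.fst = 0 := (map_eq_zero_iff _ hinjκ).mp hx
      exact TrivSqZeroExt.ext hx0 hy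
    exact ⟨(AlgEquiv.ofBijective φ ⟨hi, hs⟩).symm⟩
  right
  by_cases hF : ∀ x : A, x ≠ 0 → IsUnit x
  swap
  · -- κ × κ
    left
    push Not at hF
    obtain ⟨r, hr0, hru⟩ := hF
    obtain ⟨n, y, hy⟩ := IsArtinian.exists_pow_succ_smul_dvd r (1 : A)
    simp only [smul_eq_mul, mul_one] at hy
    -- hy : r^(n+1) * y = r^n
    set s := r * y with hs
    have h1 : r ^ n * s = r ^ n := by rw [hs, ← mul_assoc, ← pow_succ]; exact hy
    have h2 : ∀ j, r ^ n * s ^ j = r ^ n := by
      intro j
      induction j with
      | zero => simp
      | succ j ih => rw [pow_succ, ← mul_assoc, ih, h1]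
    set e := s ^ (n + 1) with he
    have hee : e * e = e := by
      have : e = r ^ n * (r * y ^ (n+1)) := by rw [he, hs, mul_pow, pow_succ r n]; ring
      calc e * e = (r ^ n * (r * y ^ (n+1))) * e := by rw [← this]
        _ = (r ^ n * s ^ (n+1)) * (r * y ^ (n+1)) := by rw [he]; ring
        _ = r ^ n * (r * y ^ (n+1)) := by rw [h2]
        _ = e := this.symm
    have he0 : e ≠ 0 := by
      intro h0
      have : r ^ n = 0 := by rw [← h2 (n+1), ← he, h0, mul_zero]
      exact hr0 (IsReduced.eq_zero _ ⟨n, this⟩)
    have he1 : e ≠ 1 := by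
      intro h1'
      apply hru
      have : IsUnit s := by
        apply IsUnit.of_pow_eq_one h1' (by omega)
      exact (isUnit_of_mul_isUnit_left (x := r) (y := y) this)
    have hebot : e ∉ (⊥ : Subalgebra κ A) := by
      intro hmem
      obtain ⟨c, hc⟩ := Algebra.mem_bot.mp hmem
      have : algebraMap κ A (c * c) = algebraMap κ A c := by rw [map_mul, hc, hee]
      have hcc : c * c = c := hinjκ this
      have : c = 0 ∨ c = 1 := by
        have : c * (c - 1) = 0 := by ring_nf; rw [← sub_eq_zero] at hcc; ring_nf at hcc; exact hcc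
        rcases mul_eq_zero.mp this with h | h
        · exact Or.inl h
        · exact Or.inr (sub_eq_zero.mp h)
      rcases this with h | h
      · rw [h, map_zero] at hc; exact he0 hc.symm
      · rw [h, map_one] at hc; exact he1 hc.symm
    have he1e : e * (1 - e) = 0 := by rw [mul_sub, mul_one, hee, sub_self]
    have h1e : (1 - e) * (1 - e) = 1 - e := by
      have : (1 - e) * (1 - e) = 1 - e - (e * (1 - e)) := by ring
      rw [this, he1e, sub_zero]
    have h1e0 : 1 - e ≠ 0 := fun h => he1 (sub_eq_zero.mp h).symm
    let φ : (κ × κ) →ₐ[κ] A :=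
      { toFun := fun x => algebraMap κ A x.1 * e + algebraMap κ A x.2 * (1 - e)
        map_one' := by simp
        map_mul' := by
          intro x y
          simp only [Prod.fst_mul, Prod.snd_mul, map_mul]
          have e1 : (1 - e) * e = 0 := by rw [mul_comm]; exact he1e
          calc algebraMap κ A x.1 * algebraMap κ A y.1 * e
                + algebraMap κ A x.2 * algebraMap κ A y.2 * (1 - e)
              = algebraMap κ A x.1 * algebraMap κ A y.1 * (e * e)
                + algebraMap κ A x.2 * algebraMap κ A y.2 * ((1 - e) * (1 - e))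
                + (algebraMap κ A x.1 * algebraMap κ A y.2 + algebraMap κ A x.2 * algebraMap κ A y.1)
                  * (e * (1 - e)) := by rw [hee, h1e, he1e]; ring
            _ = _ := by ring
        map_zero' := by simp
        map_add' := by
          intro x y
          simp only [Prod.fst_add, Prod.snd_add, map_add]
          ring
        commutes' := by
          intro c
          simp only [Prod.algebraMap_apply, Algebra.algebraMap_self, RingHom.id_apply]
          ring }
    have hφ : ∀ x : κ × κ, φ x = algebraMap κ A x.1 * e + algebraMap κ A x.2 * (1 - e) :=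
      fun _ => rfl
    have hs' : Function.Surjective φ := hsurj φ (1, 0) (by rw [hφ]; simpa using hebot)
    have hi : Function.Injective φ := by
      rw [injective_iff_map_eq_zero]
      intro x hx
      rw [hφ] at hx
      have hx1 : algebraMap κ A x.1 * e = 0 := by
        have := congrArg (· * e) hx
        simp only [add_mul, zero_mul] at this
        rw [mul_assoc, hee, mul_assoc, mul_comm (1 - e) e, he1e, mul_zero, add_zero] at this
        exact this
      have hx2 : algebraMap κ A x.2 * (1 - e) = 0 := by rw [hx1, zero_add] at hx; exact hx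
      have k1 : x.1 = 0 := by
        by_contra hne
        apply he0
        have : e = algebraMap κ A (x.1)⁻¹ * (algebraMap κ A x.1 * e) := by
          rw [← mul_assoc, ← map_mul, inv_mul_cancel₀ hne, map_one, one_mul]
        rw [this, hx1, mul_zero]
      have k2 : x.2 = 0 := by
        by_contra hne
        apply h1e0
        have : (1 - e) = algebraMap κ A (x.2)⁻¹ * (algebraMap κ A x.2 * (1 - e)) := by
          rw [← mul_assoc, ← map_mul, inv_mul_cancel₀ hne, map_one, one_mul]
        rw [this, hx2, mul_zero]
      exact Prod.ext k1 k2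
    exact ⟨(AlgEquiv.ofBijective φ ⟨hi, hs'⟩).symm⟩
  -- field case
  right
  have hAF : IsField A :=
    { exists_pair_ne := exists_pair_ne A
      mul_comm := mul_comm
      mul_inv_cancel := fun {x} hx => (hF x hx).exists_right_inv }
  refine ⟨hAF, ?_⟩
  letI : Field A := hAF.toField
  by_cases hsep : Algebra.IsSeparable κ A
  · exact Or.inl hsep
  right
  haveI : Algebra.IsAlgebraic κ A := Algebra.IsAlgebraic.of_finite κ A
  have hS : separableClosure κ A = ⊥ := by
    rcases hdich (separableClosure κ A).toSubalgebra with h1 | h1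
    · apply IntermediateField.toSubalgebra_injective
      rw [h1, IntermediateField.bot_toSubalgebra]
    · exfalso; apply hsep
      rw [← separableClosure.eq_top_iff]
      apply IntermediateField.toSubalgebra_injective
      rw [h1, IntermediateField.top_toSubalgebra]
  haveI hpi : IsPurelyInseparable κ A := separableClosure.eq_bot_iff.mp hS
  obtain ⟨p, hp⟩ := ExpChar.exists κ
  haveI := hp
  cases hp with
  | zero =>
    exfalso; apply hsep
    exact Algebra.IsSeparable.of_integral κ A
  | prime hprime =>
    have hex : ∃ n, a ^ p ^ n ∈ (algebraMap κ A).range := IsPurelyInseparable.pow_mem κ p a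
    obtain ⟨n, hn, hmin⟩ : ∃ n, a ^ p ^ n ∈ (algebraMap κ A).range ∧
        ∀ j < n, a ^ p ^ j ∉ (algebraMap κ A).range :=
      ⟨Nat.find hex, Nat.find_spec hex, fun j hj => Nat.find_min hex hj⟩
    have hn1 : n ≠ 0 := by
      rintro rfl
      simp only [pow_zero, pow_one] at hn
      exact ha (Algebra.mem_bot.mpr hn)
    obtain ⟨j, rfl⟩ : ∃ j, n = j + 1 := Nat.exists_eq_succ_of_ne_zero hn1
    set c := a ^ p ^ j with hcdef
    have hc : c ∉ (algebraMap κ A).range := hmin j (Nat.lt_succ_self j)
    have hcp : c ^ p ∈ (algebraMap κ A).range := by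
      rw [hcdef, ← pow_mul, ← pow_succ]; exact hn
    obtain ⟨α, hα⟩ := hcp
    haveI : CharP A p := charP_of_injective_algebraMap hinjκ p
    haveI : Fact p.Prime := ⟨hprime⟩
    have hαp : ∀ b : κ, b ^ p ≠ α := by
      intro b hb
      apply hc
      refine ⟨b, ?_⟩
      have h0 : (c - algebraMap κ A b) ^ p = 0 := by
        rw [sub_pow_char, ← map_pow, hb, hα, sub_self]
      exact (sub_eq_zero.mp (pow_eq_zero_iff hprime.ne_zero |>.mp h0)).symm
    have hirr : Irreducible (X ^ p - C α : κ[X]) := X_pow_sub_C_irreducible_of_prime hprime hαp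
    haveI : Fact (Irreducible (X ^ p - C α : κ[X])) := ⟨hirr⟩
    let ψ : AdjoinRoot (X ^ p - C α : κ[X]) →ₐ[κ] A :=
      AdjoinRoot.liftAlgHom _ (Algebra.ofId κ A) c (by
        rw [eval₂_sub, eval₂_X_pow, eval₂_C]
        show c ^ p - algebraMap κ A α = 0
        rw [hα, sub_self])
    have hψroot : ψ (AdjoinRoot.root _) = c := AdjoinRoot.liftAlgHom_root _ _ _ _
    have hs : Function.Surjective ψ :=
      hsurj ψ (AdjoinRoot.root _) (by rw [hψroot]; intro hm; exact hc (Algebra.mem_bot.mp hm))
    have hi : Function.Injective ψ := (ψ : AdjoinRoot (X ^ p - C α : κ[X]) →+* A).injective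
    exact ⟨p, α, hprime, inferInstance, hαp, ⟨(AlgEquiv.ofBijective ψ ⟨hi, hs⟩).symm⟩⟩

end Groth.Agent.S15939
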