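import Groth.Statements.S0218
import Mathlib
import Groth.Agent.S15939

set_option autoImplicit false
universe u
open Curves

namespace Groth.Agent.S0218

/-- Over an algebraically closed field k, a commutative k-algebra with exactly two k-subalgebras is
isomorphic to k × k or to the dual numbers over k. -/
theorem result (k : Type u) [Field k] [IsAlgClosed k] (A : Type u) [CommRing A] [Algebra k A]
    (h : Nat.card (Subalgebra k A) = 2) :
    Nonempty (A ≃ₐ[k] (k × k)) ∨ Nonempty (A ≃ₐ[k] DualNumber k) := by
  classical
  haveI : Finite (Subalgebra k A) := Nat.finite_of_card_ne_zero (by rw [h]; norm_num)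
  haveI : Fintype (Subalgebra k A) := Fintype.ofFinite _
  have hcard : Fintype.card (Subalgebra k A) = 2 := by rw [← Nat.card_eq_fintype_card]; exact h
  haveI : Nontrivial (Subalgebra k A) :=
    Fintype.one_lt_card_iff_nontrivial.mp (by rw [hcard]; norm_num)
  have hbt : (⊥ : Subalgebra k A) ≠ ⊤ := bot_ne_top
  have hso : IsSimpleOrder (Subalgebra k A) := ⟨fun S => by
    by_contra hne
    push Not at hne
    have h3 : ({⊥, ⊤, S} : Finset (Subalgebra k A)).card = 3 := by
      rw [Finset.card_insert_of_notMem, Finset.card_insert_of_notMem, Finset.card_singleton]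
      · simp only [Finset.mem_singleton]; exact fun h => hne.2 h.symm
      · simp only [Finset.mem_insert, Finset.mem_singleton, not_or]
        exact ⟨hbt, fun h => hne.1 h.symm⟩
    have := Finset.card_le_univ ({⊥, ⊤, S} : Finset (Subalgebra k A))
    omega⟩
  obtain ⟨hfin, hcases⟩ := Groth.Agent.S15939.result k A hso
  rcases hcases with h1 | h1 | ⟨hAF, -⟩
  · exact Or.inr h1
  · exact Or.inl h1
  · exfalso
    haveI : IsDomain A := hAF.isDomain
    haveI := hfin
    haveI : Algebra.IsIntegral k A := Algebra.IsIntegral.of_finite k A
    have hsurj : Function.Surjective (algebraMap k A) :=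
      (IsAlgClosed.algebraMap_bijective_of_isIntegral (k := k)).2
    exact hbt (Algebra.surjective_algebraMap_iff.mp hsurj).symm

end Groth.Agent.S0218
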