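import Groth.Statements.S0220
import Mathlib
import Groth.Agent.Lib.Helper8.DimOne

set_option autoImplicit false
universe u
open CategoryTheory CategoryTheory.Limits AlgebraicGeometry TopologicalSpace
open Curves

namespace S0220aux

open Groth.Agent.Lib.Helper8

/-- Specialization to the generic point is injective on stalks of an integral scheme, and the stalk
at the generic point is a field. -/
theorem stalkSpecializes_injective_of_eq_genericPoint (Y : Scheme.{u}) [IsIntegral Y] {y' y : Y}
    (h : y' ⤳ y) (hy' : y' = genericPoint Y) :
    Function.Injective (Y.presheaf.stalkSpecializes h) ∧ IsField (Y.presheaf.stalk y') := by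
  subst hy'
  refine ⟨?_, ?_⟩
  · exact IsFractionRing.injective (Y.presheaf.stalk y) Y.functionField
  · exact (inferInstance : Field Y.functionField).toIsField

theorem krullDimLE_one_stalk (Y : Scheme.{u}) (hY : topologicalKrullDim Y ≤ 1) (y : Y) :
    Ring.KrullDimLE 1 (Y.presheaf.stalk y) := by
  apply krullDimLE_of_coheight_le
  have h1 : (Order.coheight y : WithBot ℕ∞) ≤ Order.krullDim Y := Order.coheight_le_krullDim y
  have h2 : topologicalKrullDim Y = Order.krullDim Y :=
    Groth.Agent.Lib.Helper5.topologicalKrullDim_eq_krullDim Y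
  rw [h2] at hY
  exact_mod_cast h1.trans hY

end S0220aux

namespace S0220aux
open Groth.Agent.Lib.Helper8

theorem isDedekindDomain_stalk (Y : Scheme.{u}) [IsLocallyNoetherian Y]
    (hY : topologicalKrullDim Y ≤ 1) (y : Y)
    (hN : IsDomain (Y.presheaf.stalk y) ∧ IsIntegrallyClosed (Y.presheaf.stalk y)) :
    IsDedekindDomain (Y.presheaf.stalk y) := by
  obtain ⟨hD, hI⟩ := hN
  have hK := krullDimLE_one_stalk Y hY y
  have hDim : Ring.DimensionLEOne (Y.presheaf.stalk y) :=
    ⟨fun {p} hp hp' => (Ring.krullDimLE_one_iff_of_noZeroDivisors.mp hK) p hp hp'⟩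
  exact { toIsDomain := hD, toIsDedekindRing := { } }

theorem flat_of_injective_of_isDedekindDomain {A B : Type*} [CommRing A] [CommRing B]
    [IsDedekindDomain A] [IsDomain B] (φ : A →+* B) (hφ : Function.Injective φ) : φ.Flat := by
  algebraize [φ]
  have : Module.IsTorsionFree A B := by
    refine Module.IsTorsionFree.comap (S := B) (algebraMap A B) (fun r hr => ?_) (fun r m => ?_)
    · apply IsRegular.of_ne_zero
      have hr0 : r ≠ 0 := hr.ne_zero
      intro h0
      apply hr0
      apply hφ
      rw [map_zero]
      exact h0
    · exact algebraMap_smul B r m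
  change Module.Flat A B
  infer_instance

end S0220aux

namespace S0220aux
open Groth.Agent.Lib.Helper8

theorem map_genericPoint (X Y : Scheme.{u}) [IsIntegral X] [IsIntegral Y]
    (hY : topologicalKrullDim Y ≤ 1) (f : X ⟶ Y) (hnc : (Set.range f.base).Nontrivial) :
    f.base (genericPoint X) = genericPoint Y := by
  by_contra hne
  have hcl : IsClosed ({f.base (genericPoint X)} : Set Y) := by
    apply DimOne.isClosed_singleton_of_not_mem_maxPoints hY
    intro hmax
    exact hne (hmax _ (genericPoint_specializes _)).symm
  have hsub : Set.range f.base ⊆ {f.base (genericPoint X)} := by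
    rintro _ ⟨x, rfl⟩
    have := (genericPoint_specializes x).map f.continuous
    exact DimOne.eq_of_specializes_of_isClosed hcl this
  obtain ⟨a, ha, b, hb, hab⟩ := hnc
  exact hab ((hsub ha).trans (hsub hb).symm)

theorem stalkMap_injective (X Y : Scheme.{u}) [IsIntegral X] [IsIntegral Y]
    (f : X ⟶ Y) (hgen : f.base (genericPoint X) = genericPoint Y) (x : X) :
    Function.Injective (f.stalkMap x) := by
  have hsp : genericPoint X ⤳ x := genericPoint_specializes x
  have hsq := Scheme.Hom.stalkSpecializes_stalkMap f (genericPoint X) x hsp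
  obtain ⟨hinj, hfield⟩ := stalkSpecializes_injective_of_eq_genericPoint Y
    (f.base.hom.map_specializes hsp) hgen
  have hinj2 : Function.Injective (f.stalkMap (genericPoint X)) := by
    let _ := hfield.toField
    exact (f.stalkMap (genericPoint X)).hom.injective
  have hcomp : Function.Injective
      (Y.presheaf.stalkSpecializes (f.base.hom.map_specializes hsp) ≫
        f.stalkMap (genericPoint X)) := by
    have : ⇑(ConcreteCategory.hom (Y.presheaf.stalkSpecializes (f.base.hom.map_specializes hsp) ≫
        f.stalkMap (genericPoint X))) = ⇑(ConcreteCategory.hom (f.stalkMap (genericPoint X))) ∘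
          ⇑(ConcreteCategory.hom (Y.presheaf.stalkSpecializes
            (f.base.hom.map_specializes hsp))) := by
      ext a; simp
    rw [this]
    exact hinj2.comp hinj
  rw [hsq] at hcomp
  have h2 : ⇑(ConcreteCategory.hom (f.stalkMap x ≫ X.presheaf.stalkSpecializes hsp)) =
      ⇑(ConcreteCategory.hom (X.presheaf.stalkSpecializes hsp)) ∘
        ⇑(ConcreteCategory.hom (f.stalkMap x)) := by
    ext a; simp
  rw [h2] at hcomp
  exact Function.Injective.of_comp hcomp

end S0220aux

namespace Groth.Agent.S0220

/-- A nonconstant morphism between curves over a field (integral, separated, finite type, dimension one)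
whose target has integrally closed local domains is flat. -/
theorem result (k : Type u) [Field k] (X Y : Scheme.{u}) (p : X ⟶ Spec (CommRingCat.of k)) (q : Y ⟶ Spec (CommRingCat.of k))
    [IsIntegral X] [IsIntegral Y] [IsSeparated p] [IsSeparated q] [LocallyOfFiniteType p] [LocallyOfFiniteType q]
    [QuasiCompact p] [QuasiCompact q] (hX : topologicalKrullDim X = 1) (hY : topologicalKrullDim Y = 1)
    (hN : ∀ y : Y, IsDomain (Y.presheaf.stalk y) ∧ IsIntegrallyClosed (Y.presheaf.stalk y))
    (f : X ⟶ Y) (hf : f ≫ q = p) (hnc : (Set.range f.base).Nontrivial) :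
    Flat f := by
  have hYN : IsLocallyNoetherian Y := LocallyOfFiniteType.isLocallyNoetherian q
  have hgen := S0220aux.map_genericPoint X Y hY.le f hnc
  rw [Flat.iff_flat_stalkMap]
  intro x
  have hinj := S0220aux.stalkMap_injective X Y f hgen x
  have hDed := S0220aux.isDedekindDomain_stalk Y hY.le (f.base x) (hN _)
  exact S0220aux.flat_of_injective_of_isDedekindDomain (f.stalkMap x).hom hinj

end Groth.Agent.S0220
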