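import Groth.Statements.S0223
import Groth.Agent.Lib.Helper22.FBC.Main
import Groth.Agent.Lib.Lead.LinLES.Biprod
import Groth.Agent.Lib.Helper29.QCohLocFree
import Groth.Agent.Lib.Helper29.QCohIdealMod

set_option autoImplicit false
universe u
open CategoryTheory CategoryTheory.Limits AlgebraicGeometry
open Curves

namespace Groth.Agent.S0223

open Groth.Agent.Lib.Helper29.QCoh Groth.Agent.Lib.Lead.LinLES in
/-- The linear equivalence on cohomology induced by an isomorphism of modules. -/
noncomputable def HHlinEquiv' (A : Type u) [CommRing A] {X : Scheme.{u}}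
    [X.Over (Spec (CommRingCat.of A))] {M N : X.Modules} (e : M ≅ N) (q : ℕ) :
    Coh.HH X M q ≃ₗ[A] Coh.HH X N q :=
  LinearEquiv.ofLinearMap (Canon.HHlin A e.hom q) (Canon.HHlin A e.inv q)
    (by
      ext x
      change Canon.HHlin A e.hom q (Canon.HHlin A e.inv q x) = x
      rw [← HHlin_comp, e.inv_hom_id, HHlin_id])
    (by
      ext x
      change Canon.HHlin A e.inv q (Canon.HHlin A e.hom q x) = x
      rw [← HHlin_comp, e.hom_inv_id, HHlin_id])


/-- For a proper one-dimensional scheme X over a field k with only constant global functions, base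
change to a field extension k' keeps the global functions equal to the constants and keeps the genus
dim H^1(X, O_X). The base change is given as any pullback square. -/
theorem result (k : Type u) [Field k] (X : Scheme.{u}) [X.Over (Spec (CommRingCat.of k))]
    [IsProper (X ↘ Spec (CommRingCat.of k))] (hdim : topologicalKrullDim X = 1)
    (h0 : Module.finrank k (Coh.HH X (Coh.structureModule X) 0) = 1)
    (k' : Type u) [Field k'] [Algebra k k'] (X' : Scheme.{u}) [X'.Over (Spec (CommRingCat.of k'))]
    (g : X' ⟶ X)
    (hpb : IsPullback g (X' ↘ Spec (CommRingCat.of k')) (X ↘ Spec (CommRingCat.of k))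
      (Spec.map (CommRingCat.ofHom (algebraMap k k')))) :
    Module.finrank k' (Coh.HH X' (Coh.structureModule X') 0) = 1 ∧
      Module.finrank k' (Coh.HH X' (Coh.structureModule X') 1) =
        Module.finrank k (Coh.HH X (Coh.structureModule X) 1) := by
  have hc : CompactSpace X :=
    (quasiCompact_iff_compactSpace (X ↘ Spec (CommRingCat.of k))).mp inferInstance
  have hq : QuasiSeparatedSpace X :=
    (quasiSeparated_iff_quasiSeparatedSpace (X ↘ Spec (CommRingCat.of k))).mp inferInstance
  have key : ∀ i : ℕ, Module.finrank k' (Coh.HH X' (Coh.structureModule X') i) =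
      Module.finrank k (Coh.HH X (Coh.structureModule X) i) := by
    intro i
    obtain ⟨e⟩ := Groth.Agent.Lib.Helper22.FBC.flat_base_change k k' X X' g hpb
      (Groth.Agent.Lib.Helper29.QCoh.unitM X) i
    let e2 : Coh.HH X' ((Scheme.Modules.pullback g).obj (Groth.Agent.Lib.Helper29.QCoh.unitM X)) i ≃ₗ[k']
        Coh.HH X' (Groth.Agent.Lib.Helper29.QCoh.unitM X') i :=
      HHlinEquiv' k' (Groth.Agent.Lib.Helper29.QCoh.pullbackUnitIso g) i
    have h1 := (e ≪≫ₗ e2).finrank_eq
    rw [Module.finrank_baseChange] at h1
    exact h1.symm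
  exact ⟨(key 0).trans h0, key 1⟩

end Groth.Agent.S0223
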