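import Groth.Statements.S0226
import Groth.Agent.Lib.Helper9.RegularUFD2

set_option autoImplicit false
universe u
open Curves

namespace Groth.Agent.S0226

/-- In a regular local ring of dimension two, an ideal inside the maximal ideal with reduced quotient is
zero, the maximal ideal, or principal. -/
theorem result (A : Type u) [CommRing A] [IsRegularLocalRing A] (hdim : ringKrullDim A = 2)
    (I : Ideal A) (hI : I ≤ IsLocalRing.maximalIdeal A) [IsReduced (A ⧸ I)] :
    I = ⊥ ∨ I = IsLocalRing.maximalIdeal A ∨ ∃ f ∈ IsLocalRing.maximalIdeal A, f ≠ 0 ∧ I = Ideal.span {f} := by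
  classical
  set m := IsLocalRing.maximalIdeal A with hm
  have hdom : IsDomain A := Groth.Agent.Lib.Helper21.isDomain_of_isRegularLocalRing A
  have hufd : UniqueFactorizationMonoid A :=
    Groth.Agent.Lib.Helper9.ufd_of_isRegularLocalRing_of_dim_two A hdim
  have hrad : I.IsRadical := (Ideal.isRadical_iff_quotient_reduced I).mpr inferInstance
  have hIinf : I = sInf I.minimalPrimes := by
    rw [Ideal.sInf_minimalPrimes, hrad.radical]
  by_cases hI0 : I = ⊥
  · exact Or.inl hI0
  right
  by_cases hmmin : m ∈ I.minimalPrimes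
  · left
    have hall : ∀ Q ∈ I.minimalPrimes, Q = m := by
      intro Q hQ
      have hQm : Q ≤ m := IsLocalRing.le_maximalIdeal hQ.1.1.ne_top
      exact le_antisymm hQm (hmmin.2 hQ.1 hQm)
    apply le_antisymm hI
    rw [hIinf]
    exact le_sInf fun Q hQ => (hall Q hQ).ge
  right
  -- every minimal prime is principal, generated by a prime element
  have hgen : ∀ P ∈ I.minimalPrimes, ∃ g : A, Prime g ∧ P = Ideal.span {g} := by
    intro P hP
    have hPprime : P.IsPrime := hP.1.1
    have hPne : P ≠ ⊥ := by
      intro h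
      apply hI0
      exact le_bot_iff.mp (h ▸ hP.1.2)
    obtain ⟨g, hgP, hg⟩ := Ideal.IsPrime.exists_mem_prime_of_ne_bot hPprime hPne
    refine ⟨g, hg, ?_⟩
    have hgprime : (Ideal.span {g}).IsPrime := (Ideal.span_singleton_prime hg.ne_zero).mpr hg
    have hle : Ideal.span {g} ≤ P := (Ideal.span_singleton_le_iff_mem P).mpr hgP
    by_contra hne
    have hlt1 : (⊥ : Ideal A) < Ideal.span {g} :=
      bot_lt_iff_ne_bot.mpr (by rw [Ne, Ideal.span_singleton_eq_bot]; exact hg.ne_zero)
    have hlt2 : Ideal.span {g} < P := lt_of_le_of_ne hle (fun h => hne h.symm)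
    have hPm : P ≠ m := fun h => hmmin (h ▸ hP)
    have hlt3 : P < m := lt_of_le_of_ne (IsLocalRing.le_maximalIdeal hPprime.ne_top) hPm
    let sr : LTSeries (PrimeSpectrum A) :=
      { length := 3
        toFun := ![⟨⊥, Ideal.isPrime_bot⟩, ⟨Ideal.span {g}, hgprime⟩, ⟨P, hPprime⟩,
          ⟨m, (IsLocalRing.maximalIdeal.isMaximal A).isPrime⟩]
        step := by
          intro i
          fin_cases i
          · exact hlt1
          · exact hlt2
          · exact hlt3 }
    have h3 : ((3 : ℕ) : WithBot ℕ∞) ≤ ringKrullDim A := Order.LTSeries.length_le_krullDim sr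
    rw [hdim] at h3
    norm_cast at h3
  choose! g hgprime hgspan using hgen
  have hfin : (I.minimalPrimes).Finite := Ideal.finite_minimalPrimes_of_isNoetherianRing A I
  let S : Finset (Ideal A) := hfin.toFinset
  have hS : ∀ P, P ∈ S ↔ P ∈ I.minimalPrimes := fun P => hfin.mem_toFinset
  let f : A := ∏ P ∈ S, g P
  have hrel : Set.Pairwise (S : Set (Ideal A)) (fun P Q => IsRelPrime (g P) (g Q)) := by
    intro P hP Q hQ hPQ
    have hP' := (hS P).mp hP
    have hQ' := (hS Q).mp hQ
    rw [(hgprime P hP').irreducible.isRelPrime_iff_not_dvd]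
    intro hdvd
    apply hPQ
    have hQP : Q ≤ P := by
      rw [hgspan P hP', hgspan Q hQ', Ideal.span_singleton_le_span_singleton]
      exact hdvd
    exact le_antisymm (hP'.2 hQ'.1 hQP) hQP
  have hIf : I = Ideal.span {f} := by
    ext x
    rw [Ideal.mem_span_singleton]
    constructor
    · intro hx
      apply Finset.prod_dvd_of_isRelPrime hrel
      intro P hP
      have hP' := (hS P).mp hP
      have : x ∈ P := by
        rw [hIinf] at hx
        exact (Submodule.mem_sInf.mp hx) P hP'
      rw [hgspan P hP', Ideal.mem_span_singleton] at this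
      exact this
    · intro hx
      rw [hIinf, Submodule.mem_sInf]
      intro P hP
      rw [hgspan P hP, Ideal.mem_span_singleton]
      exact (Finset.dvd_prod_of_mem g ((hS P).mpr hP)).trans hx
  refine ⟨f, ?_, ?_, hIf⟩
  · apply hI
    rw [hIf]
    exact Ideal.subset_span rfl
  · intro hf0
    apply hI0
    rw [hIf, hf0]
    exact Ideal.span_singleton_eq_bot.mpr rfl

end Groth.Agent.S0226
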