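import Groth.Statements.S0233
-- import your own Groth.Agent.* helpers here
import Groth.Agent.Lib.Helper29.PicUFDGen

set_option autoImplicit false
universe u
open CategoryTheory CategoryTheory.Limits AlgebraicGeometry
open Curves

namespace Groth.Agent.S0233

/-- Every invertible module on an open subscheme of the spectrum of a unique factorisation domain is
trivial. -/
theorem result (R : Type u) [CommRing R] [IsDomain R] [UniqueFactorizationMonoid R]
    (U : (Spec (CommRingCat.of R)).Opens) (L : (U : Scheme.{u}).Modules) (hL : PicF.IsInvertible L) :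
    Nonempty (L ≅ Coh.structureModule (U : Scheme.{u})) := by
  let e : Γ(Spec (CommRingCat.of R), ⊤) ≃+* R :=
    (AlgebraicGeometry.Scheme.ΓSpecIso (CommRingCat.of R)).commRingCatIsoToRingEquiv
  have hdom : IsDomain Γ(Spec (CommRingCat.of R), ⊤) := e.toMulEquiv.isDomain R
  have hufd : UniqueFactorizationMonoid Γ(Spec (CommRingCat.of R), ⊤) :=
    e.symm.toMulEquiv.uniqueFactorizationMonoid inferInstance
  obtain ⟨i⟩ := Groth.Agent.Lib.Helper29.PicUFDGen.nonempty_iso_unit U L hL
  exact ⟨i.symm⟩

end Groth.Agent.S0233
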