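import Groth.Statements.S0238
import Groth.Agent.Lib.Helper10.FEtThick5
import Groth.Agent.S0283

set_option autoImplicit false
universe u
open Pi1

namespace Groth.Agent.S0238

open AlgebraicGeometry CategoryTheory CategoryTheory.Limits in
/-- For a thickening, i.e. a closed immersion which is surjective on points, pulling back finite etale
covers is an equivalence of categories. -/
theorem result {X X' : Scheme.{u}} (i : X ⟶ X') [IsClosedImmersion i] [Surjective i] :
    (FEt.restrict i).IsEquivalence := by
  obtain ⟨hfull, hfaith⟩ := Groth.Agent.S0283.result i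
  have hess : (FEt.restrict i).EssSurj := by
    refine ⟨fun Y => ?_⟩
    haveI : AlgebraicGeometry.IsFinite Y.hom := Y.prop.1
    haveI : AlgebraicGeometry.Etale Y.hom := Y.prop.2
    obtain ⟨Z, z, a, hz1, hz2, hpb⟩ :=
      Groth.Agent.Lib.Helper10.FEtThick.ES.of_thickening i Y.left Y.hom inferInstance inferInstance
    let O : FEt.Cat X' := CategoryTheory.MorphismProperty.Over.mk ⊤ z ⟨hz1, hz2⟩
    refine ⟨O, ⟨CategoryTheory.MorphismProperty.Over.isoMk hpb.isoPullback.symm ?_⟩⟩
    exact hpb.isoPullback_inv_snd
  exact { faithful := hfaith, full := hfull, essSurj := hess }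

end Groth.Agent.S0238
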