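import Groth.Statements.S0244
import Groth.Agent.Lib.Helper10.NormalExt
import Groth.Agent.S0237

set_option autoImplicit false
universe u
open Pi1

namespace Groth.Agent.S0244

open AlgebraicGeometry CategoryTheory CategoryTheory.Limits in
/-- Let X be a normal integral scheme and U ⊆ X a nonempty open subscheme. Then the restriction functor
from finite étale covers of X to finite étale covers of U is full and faithful. -/
theorem result {X : Scheme.{u}} [IsIntegral X] (hX : Pi1.IsNormalScheme X) (U : X.Opens)
    (hU : (U : Set X).Nonempty) : (FEt.restrict U.ι).Full ∧ (FEt.restrict U.ι).Faithful := by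
  have hX' : ∀ x : X, IsIntegrallyClosed (X.presheaf.stalk x) := fun x => (hX x).2
  refine ⟨?_, Groth.Agent.S0237.result U.ι ?_⟩
  · apply Groth.Agent.Lib.Helper10.NormalExt.full_of_extend
    intro Y₁ Y₂ ψ hψ
    haveI hfin1 : AlgebraicGeometry.IsFinite Y₁.hom := Y₁.prop.1
    haveI het1 : AlgebraicGeometry.Etale Y₁.hom := Y₁.prop.2
    haveI hfin2 : AlgebraicGeometry.IsFinite Y₂.hom := Y₂.prop.1
    obtain ⟨g', h1, h2⟩ := Groth.Agent.Lib.Helper10.NormalExt.exists_extend_of_open hX' Y₁.hom
      Y₂.hom U hU (ψ ≫ CategoryTheory.Limits.pullback.fst Y₂.hom U.ι) (by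
        rw [CategoryTheory.Category.assoc, CategoryTheory.Limits.pullback.condition,
          ← CategoryTheory.Category.assoc, hψ, CategoryTheory.Limits.pullback.condition])
    exact ⟨g', h2, h1⟩
  · show Dense (Set.range U.ι)
    rw [AlgebraicGeometry.Scheme.Opens.range_ι]
    exact U.isOpen.dense hU

end Groth.Agent.S0244
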