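import Groth.Statements.S0245
import Groth.Agent.Lib.Helper10.NormalExt
import Groth.Agent.S0237

set_option autoImplicit false
universe u
open Pi1

namespace Groth.Agent.S0245

open AlgebraicGeometry CategoryTheory CategoryTheory.Limits in
/-- For a normal integral scheme X, restricting finite étale covers of X along the canonical morphism
from the spectrum of the local ring at the generic point (the spectrum of the function field) is a
full and faithful functor. -/
theorem result {X : Scheme.{u}} [IsIntegral X] (hX : Pi1.IsNormalScheme X) :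
    (FEt.restrict (X.fromSpecStalk (genericPoint X))).Full ∧
    (FEt.restrict (X.fromSpecStalk (genericPoint X))).Faithful := by
  have hX' : ∀ x : X, IsIntegrallyClosed (X.presheaf.stalk x) := fun x => (hX x).2
  refine ⟨?_, Groth.Agent.S0237.result _
    Groth.Agent.Lib.Helper10.NormalExt.denseRange_fromSpecStalk_genericPoint⟩
  apply Groth.Agent.Lib.Helper10.NormalExt.full_of_extend
  intro Y₁ Y₂ ψ hψ
  haveI hfin1 : AlgebraicGeometry.IsFinite Y₁.hom := Y₁.prop.1
  haveI het1 : AlgebraicGeometry.Etale Y₁.hom := Y₁.prop.2
  haveI hfin2 : AlgebraicGeometry.IsFinite Y₂.hom := Y₂.prop.1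
  obtain ⟨g', h1, h2⟩ := Groth.Agent.Lib.Helper10.NormalExt.exists_extend_of_generic hX' Y₁.hom
    Y₂.hom (ψ ≫ CategoryTheory.Limits.pullback.fst Y₂.hom _) (by
      rw [CategoryTheory.Category.assoc, CategoryTheory.Limits.pullback.condition,
        ← CategoryTheory.Category.assoc, hψ, CategoryTheory.Limits.pullback.condition])
  exact ⟨g', h2, h1⟩

end Groth.Agent.S0245
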