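import Groth.Statements.S0246
import Groth.Agent.Lib.Helper24.EtaleNormal

set_option autoImplicit false
universe u
open Pi1

namespace Groth.Agent.S0246

open Pi1
open AlgebraicGeometry CategoryTheory CategoryTheory.Limits


open AlgebraicGeometry CategoryTheory CategoryTheory.Limits in
/-- If Y is finite etale over a normal integral scheme X and Y is connected, then Y is an integral
scheme all of whose local rings are integrally closed domains. -/
theorem result {X : Scheme.{u}} [IsIntegral X] (hX : Pi1.IsNormalScheme X) (Y : FEt.Cat X)
    [ConnectedSpace Y.left] : IsIntegral Y.left ∧ Pi1.IsNormalScheme Y.left := by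
  let f : Y.left ⟶ X := Y.hom
  have hfin : IsFinite f := Y.prop.1
  have het : Etale f := Y.prop.2
  have hstalk := fun y : Y.left =>
    Groth.Agent.Lib.Helper24.ENorm.stalk_of_etale (fun x => (hX x).2) f y
  refine ⟨?_, hstalk⟩
  have hdom : ∀ y : Y.left, IsDomain (Y.left.presheaf.stalk y) := fun y => (hstalk y).1
  have : IsReduced Y.left := isReduced_of_isReduced_stalk _
  have : IrreducibleSpace Y.left :=
    Groth.Agent.Lib.Helper24.ENorm.irreducibleSpace_of_flat_finite f hdom
  exact isIntegral_of_irreducibleSpace_of_isReduced _

end Groth.Agent.S0246
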