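import Groth.Statements.S0249
import Mathlib.RingTheory.Ideal.KrullsHeightTheorem
import Mathlib.Tactic

set_option autoImplicit false
universe u
open Pi1

namespace Groth.Agent.S0249

section
variable {A : Type u} [CommRing A] [IsNoetherianRing A]

lemma exists_height_one_aux (f : A) : ∀ n : ℕ, ∀ q : Ideal A, q.IsPrime → f ∈ q → q.height = (n + 1 : ℕ) →
    ∃ p : Ideal A, p.IsPrime ∧ f ∈ p ∧ p.height = 1 := by
  intro n
  induction n using Nat.strong_induction_on with
  | _ n ih =>
    intro q hq hfq hht
    rcases Nat.eq_zero_or_pos n with hn0 | hnpos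
    · subst hn0
      exact ⟨q, hq, hfq, by simpa using hht⟩
    · -- height q ≥ 2
      have h2 : ¬ q.height ≤ (1 : ℕ) := by
        rw [hht]; norm_cast; omega
      rw [Ideal.height_le_iff] at h2
      push Not at h2
      obtain ⟨q₁, hq₁, hq₁q, hq₁h⟩ := h2
      have h3 : ¬ q₁.height ≤ (0 : ℕ) := by
        intro h; exact absurd (lt_of_le_of_lt h (by norm_num)) (not_lt.mpr hq₁h)
      rw [Ideal.height_le_iff] at h3
      push Not at h3
      obtain ⟨q₀, hq₀, hq₀q₁, -⟩ := h3
      -- find q' strictly between containing f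
      obtain ⟨q', hq', hq₀q', hq'q, hfq'⟩ : ∃ q' : Ideal A, q'.IsPrime ∧ q₀ < q' ∧ q' < q ∧ f ∈ q' := by
        by_cases hf0 : f ∈ q₀
        · exact ⟨q₁, hq₁, hq₀q₁, hq₁q, hq₀q₁.le hf0⟩
        · have hJ : q₀ ⊔ Ideal.span {f} ≤ q :=
            sup_le (hq₀q₁.le.trans hq₁q.le) (by rwa [Ideal.span_le, Set.singleton_subset_iff])
          obtain ⟨q', hq'min, hq'q⟩ := Ideal.exists_minimalPrimes_le hJ
          have hq'p : q'.IsPrime := hq'min.1.1
          have hfq' : f ∈ q' := hq'min.1.2 (le_sup_right (a := q₀) (Ideal.mem_span_singleton_self f))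
          have hq₀q' : q₀ < q' := lt_of_le_of_ne (le_sup_left.trans hq'min.1.2)
            (fun h => hf0 (h ▸ hfq'))
          refine ⟨q', hq'p, hq₀q', lt_of_le_of_ne hq'q ?_, hfq'⟩
          rintro rfl
          have hk := Ideal.map_height_le_one_of_mem_minimalPrimes hq'min
          -- but chain in the quotient
          have hker : RingHom.ker (Ideal.Quotient.mk q₀) ≤ q₁ := by
            rw [Ideal.mk_ker]; exact hq₀q₁.le
          have hker' : RingHom.ker (Ideal.Quotient.mk q₀) ≤ q' := by
            rw [Ideal.mk_ker]; exact hq₀q'.le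
          have hp1 : (q₁.map (Ideal.Quotient.mk q₀)).IsPrime :=
            Ideal.map_isPrime_of_surjective Ideal.Quotient.mk_surjective hker
          have hp2 : (q'.map (Ideal.Quotient.mk q₀)).IsPrime :=
            Ideal.map_isPrime_of_surjective Ideal.Quotient.mk_surjective hker'
          have hlt : q₁.map (Ideal.Quotient.mk q₀) < q'.map (Ideal.Quotient.mk q₀) := by
            refine lt_of_le_of_ne (Ideal.map_mono hq₁q.le) (fun h => ?_)
            have := congrArg (Ideal.comap (Ideal.Quotient.mk q₀)) h
            rw [Ideal.comap_map_of_surjective _ Ideal.Quotient.mk_surjective,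
              Ideal.comap_map_of_surjective _ Ideal.Quotient.mk_surjective,
              ← RingHom.ker_eq_comap_bot, sup_eq_left.mpr hker, sup_eq_left.mpr hker'] at this
            exact hq₁q.ne this
          have hne : q₁.map (Ideal.Quotient.mk q₀) ≠ ⊥ := by
            intro h
            have := congrArg (Ideal.comap (Ideal.Quotient.mk q₀)) h
            rw [Ideal.comap_map_of_surjective _ Ideal.Quotient.mk_surjective,
              ← RingHom.ker_eq_comap_bot, sup_eq_left.mpr hker, Ideal.mk_ker] at this
            exact hq₀q₁.ne' this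
          have h1 : (1 : ℕ∞) ≤ (q₁.map (Ideal.Quotient.mk q₀)).height := by
            rw [Order.one_le_iff_ne_zero, Ne, Ideal.height_eq_zero_iff_eq_bot]
            exact hne
          have h2 := Ideal.height_add_one_le_of_lt_of_isPrime hlt
          have : (2 : ℕ∞) ≤ 1 := by
            calc (2 : ℕ∞) = 1 + 1 := by norm_num
              _ ≤ (q₁.map (Ideal.Quotient.mk q₀)).height + 1 := by gcongr
              _ ≤ _ := h2
              _ ≤ 1 := hk
          exact absurd this (by norm_num)
      have hlt : q'.height < q.height := Ideal.height_strict_mono_of_isPrime hq'q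
      have hge : (1 : ℕ∞) ≤ q'.height := by
        have := Ideal.height_add_one_le_of_lt_of_isPrime hq₀q'
        exact le_trans (by simp) this
      have hfin : q'.height ≠ ⊤ := (lt_of_lt_of_le hlt le_top).ne
      obtain ⟨k, hk⟩ := ENat.ne_top_iff_exists.mp hfin
      have hk1 : 1 ≤ k := by
        rw [← hk] at hge; exact_mod_cast hge
      have hkn : k < n + 1 := by
        rw [← hk, hht] at hlt; exact_mod_cast hlt
      obtain ⟨k', rfl⟩ : ∃ k', k = k' + 1 := ⟨k - 1, by omega⟩
      exact ih k' (by omega) q' hq' hfq' hk.symm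
end


open AlgebraicGeometry CategoryTheory CategoryTheory.Limits in
/-- Let A be a Noetherian local ring of dimension at least 1 and f an element of its maximal ideal. Then
some prime ideal of height exactly 1 contains f. -/
theorem result (A : Type u) [CommRing A] [IsNoetherianRing A] [IsLocalRing A]
    (h : (1 : WithBot ℕ∞) ≤ ringKrullDim A) (f : A) (hf : f ∈ IsLocalRing.maximalIdeal A) :
    ∃ p : Ideal A, p.IsPrime ∧ f ∈ p ∧ p.height = 1 := by
  have hm : (IsLocalRing.maximalIdeal A).IsPrime := inferInstance
  have hh : ((IsLocalRing.maximalIdeal A).height : WithBot ℕ∞) = ringKrullDim A :=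
    IsLocalRing.maximalIdeal_height_eq_ringKrullDim
  have hfin : (IsLocalRing.maximalIdeal A).height ≠ ⊤ := Ideal.height_ne_top_of_isPrime
  obtain ⟨k, hk⟩ := ENat.ne_top_iff_exists.mp hfin
  have hk1 : 1 ≤ k := by
    rw [← hh, ← hk] at h
    exact_mod_cast h
  obtain ⟨k', rfl⟩ : ∃ k', k = k' + 1 := ⟨k - 1, by omega⟩
  exact exists_height_one_aux f k' _ hm hf hk.symm

end Groth.Agent.S0249
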