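import Groth.Statements.S0252
import Mathlib
import Groth.Agent.S7566
import Groth.Agent.S7584

set_option autoImplicit false
universe u
open Pi1

namespace Groth.Agent.S0252

namespace Groth.Agent.S0252.Aux

open AlgebraicGeometry CategoryTheory CategoryTheory.Limits TopologicalSpace

/-- A clopen subset of a scheme as an object of `FEt.Cat`. -/
noncomputable def clopenObj {X : Scheme.{u}} (U : X.Opens) (hU : IsClosed (U : Set X)) :
    FEt.Cat X :=
  haveI : IsClosedImmersion U.ι :=
    IsClosedImmersion.of_isPreimmersion _ (by rw [Scheme.Opens.range_ι]; exact hU)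
  MorphismProperty.Over.mk ⊤ U.ι ⟨inferInstance, inferInstance⟩

theorem range_restrict_hom {X Y : Scheme.{u}} (f : X ⟶ Y) (W : FEt.Cat Y) :
    Set.range ((FEt.restrict f).obj W).hom = f ⁻¹' Set.range W.hom := by
  change Set.range (pullback.snd W.hom f) = _
  exact Scheme.Pullback.range_snd W.hom f

/-- Every clopen of `X` is the preimage of a clopen of `Y` when restriction is essentially
surjective. -/
theorem exists_clopen_preimage {X Y : Scheme.{u}} (f : X ⟶ Y) [(FEt.restrict f).EssSurj]
    (U : Set X) (hU : IsClopen U) : ∃ V : Set Y, IsClopen V ∧ f ⁻¹' V = U := by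
  let oU : FEt.Cat X := clopenObj ⟨U, hU.2⟩ hU.1
  let W : FEt.Cat Y := (FEt.restrict f).objPreimage oU
  let e : (FEt.restrict f).obj W ≅ oU := (FEt.restrict f).objObjPreimageIso oU
  haveI : IsFinite W.hom := W.prop.1
  haveI : Etale W.hom := W.prop.2
  refine ⟨Set.range W.hom, ⟨W.hom.isClosedMap.isClosed_range, W.hom.isOpenMap.isOpen_range⟩, ?_⟩
  rw [← range_restrict_hom]
  have h1 : e.hom.left ≫ oU.hom = ((FEt.restrict f).obj W).hom := Over.w e.hom.hom
  have h2 : e.inv.left ≫ ((FEt.restrict f).obj W).hom = oU.hom := Over.w e.inv.hom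
  have h3 : Set.range oU.hom = U := by
    change Set.range (Scheme.Opens.ι ⟨U, hU.2⟩) = U
    rw [Scheme.Opens.range_ι]
    rfl
  rw [← h3]
  apply le_antisymm
  · rintro _ ⟨z, rfl⟩
    exact ⟨e.hom.left z, by rw [← Scheme.Hom.comp_apply, h1]⟩
  · rintro _ ⟨z, rfl⟩
    exact ⟨e.inv.left z, by rw [← Scheme.Hom.comp_apply, h2]⟩

/-- A clopen of `Y` with empty preimage in `X` is empty when restriction is full. -/
theorem eq_empty_of_preimage_eq_empty {X Y : Scheme.{u}} (f : X ⟶ Y) [(FEt.restrict f).Full]
    (V : Set Y) (hV : IsClopen V) (h : f ⁻¹' V = ∅) : V = ∅ := by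
  let oV : FEt.Cat Y := clopenObj ⟨V, hV.2⟩ hV.1
  let oE : FEt.Cat Y := clopenObj (⊥ : Y.Opens) (by simp)
  have hempty : IsEmpty ((FEt.restrict f).obj oV).left := by
    constructor
    intro z
    have : ((FEt.restrict f).obj oV).hom z ∈ Set.range ((FEt.restrict f).obj oV).hom := ⟨z, rfl⟩
    rw [range_restrict_hom] at this
    have h3 : Set.range oV.hom = V := by
      change Set.range (Scheme.Opens.ι ⟨V, hV.2⟩) = V
      rw [Scheme.Opens.range_ι]
      rfl
    rw [h3, h] at this
    exact this
  let φ : (FEt.restrict f).obj oV ⟶ (FEt.restrict f).obj oE :=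
    MorphismProperty.Over.homMk (isInitialOfIsEmpty.to _) (isInitialOfIsEmpty.hom_ext _ _) trivial
  let g : oV ⟶ oE := (FEt.restrict f).preimage φ
  by_contra hne
  obtain ⟨y, hy⟩ := Set.nonempty_iff_ne_empty.mpr hne
  have : (g.left (⟨y, hy⟩ : (⟨V, hV.2⟩ : Y.Opens))).1 ∈ ((⊥ : Y.Opens) : Set Y) :=
    (g.left (⟨y, hy⟩ : (⟨V, hV.2⟩ : Y.Opens))).2
  exact this

end Groth.Agent.S0252.Aux

open AlgebraicGeometry CategoryTheory CategoryTheory.Limits in
/-- Let f be a morphism between quasi-compact quasi-separated schemes such that base change of finite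
etale covers along f is an equivalence. Then the induced map on connected components is a
homeomorphism. -/
theorem result {X Y : Scheme.{u}} [CompactSpace X] [QuasiSeparatedSpace X] [CompactSpace Y] [QuasiSeparatedSpace Y]
    (f : X ⟶ Y) (h : (FEt.restrict f).IsEquivalence) :
    IsHomeomorph f.continuous.connectedComponentsMap := by
  have : T2Space (_root_.ConnectedComponents X) :=
    Groth.Agent.S7584.result X (fun x => Groth.Agent.S7566.result x)
  have : T2Space (_root_.ConnectedComponents Y) :=
    Groth.Agent.S7584.result Y (fun y => Groth.Agent.S7566.result y)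
  haveI : (FEt.restrict f).EssSurj := h.essSurj
  haveI : (FEt.restrict f).Full := h.full
  rw [isHomeomorph_iff_continuous_bijective]
  refine ⟨f.continuous.connectedComponentsMap_continuous, ?_, ?_⟩
  · -- injective
    intro a b hab
    obtain ⟨x, rfl⟩ := ConnectedComponents.surjective_coe a
    obtain ⟨y, rfl⟩ := ConnectedComponents.surjective_coe b
    by_contra hne
    have hy : y ∉ connectedComponent x :=
      fun hy => hne (ConnectedComponents.coe_eq_coe'.mpr hy).symm
    rw [Groth.Agent.S7566.result x] at hy
    simp only [Set.mem_sInter, not_forall] at hy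
    obtain ⟨U, ⟨hU, hxU⟩, hyU⟩ := hy
    obtain ⟨V, hV, hVU⟩ := Groth.Agent.S0252.Aux.exists_clopen_preimage f U hU
    have hfx : f x ∈ V := by
      have : x ∈ f ⁻¹' V := by rw [hVU]; exact hxU
      exact this
    have hfy : f y ∉ V := by
      intro hh
      have : y ∈ f ⁻¹' V := hh
      rw [hVU] at this
      exact hyU this
    rw [Continuous.connectedComponentsMap_mk, Continuous.connectedComponentsMap_mk] at hab
    have h1 : f y ∈ connectedComponent (f x) := ConnectedComponents.coe_eq_coe'.mp hab.symm
    exact hfy (hV.connectedComponent_subset hfx h1)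
  · -- surjective
    intro c
    by_contra hc
    have hclosed : IsClosed (Set.range f.continuous.connectedComponentsMap) :=
      (isCompact_range f.continuous.connectedComponentsMap_continuous).isClosed
    obtain ⟨N, hN, hcN, hNsub⟩ := compact_exists_isClopen_in_isOpen hclosed.isOpen_compl hc
    obtain ⟨y, rfl⟩ := ConnectedComponents.surjective_coe c
    let Z : Set Y := ConnectedComponents.mk ⁻¹' N
    have hZ : IsClopen Z := hN.preimage ConnectedComponents.continuous_coe
    have hfZ : f ⁻¹' Z = ∅ := by
      ext x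
      simp only [Set.mem_preimage, Set.mem_empty_iff_false, iff_false]
      intro hx
      have hx' : (ConnectedComponents.mk (f x) : _root_.ConnectedComponents Y) ∈ N := hx
      refine hNsub hx' ⟨ConnectedComponents.mk x, ?_⟩
      rw [Continuous.connectedComponentsMap_mk]
    have := Groth.Agent.S0252.Aux.eq_empty_of_preimage_eq_empty f Z hZ hfZ
    have hyZ : y ∈ Z := hcN
    rw [this] at hyZ
    exact hyZ

end Groth.Agent.S0252
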