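import Groth.Statements.S0259
import Groth.Agent.Lib.Helper10.ExtendAffine
import Groth.Agent.S0237

set_option autoImplicit false
universe u
open Pi1

namespace Groth.Agent.S0259

section aux
open AlgebraicGeometry CategoryTheory CategoryTheory.Limits

theorem exists_extend_finite_etale {X T Y : Scheme.{u}} [IsLocallyNoetherian X] (U : X.Opens)
    (h : ∀ x : X, x ∉ U → (2 : ℕ∞) ≤ LocCoh.depth (X.presheaf.stalk x) (X.presheaf.stalk x))
    (p : T ⟶ X) [IsFinite p] [AlgebraicGeometry.Etale p] (q : Y ⟶ X) [IsFinite q]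
    (ψ : pullback p U.ι ⟶ pullback q U.ι)
    (hψ : ψ ≫ pullback.snd q U.ι = pullback.snd p U.ι) :
    ∃ g' : T ⟶ Y, g' ≫ q = p ∧ pullback.fst p U.ι ≫ g' = ψ ≫ pullback.fst q U.ι := by
  have hLN : IsLocallyNoetherian T := LocallyOfFiniteType.isLocallyNoetherian p
  have hd : ∀ t : T, t ∉ Set.range (pullback.fst p U.ι) →
      (2 : ℕ∞) ≤ LocCoh.depth (T.presheaf.stalk t) (T.presheaf.stalk t) := by
    intro t ht
    rw [Scheme.Pullback.range_fst] at ht
    have ht' : p t ∉ U := by
      intro hU
      apply ht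
      simpa using hU
    exact (h _ ht').trans (Groth.Agent.Lib.Helper10.ExtendAffine.depth_stalk_le_of_flat p t)
  have hg : (ψ ≫ pullback.fst q U.ι) ≫ q = pullback.fst p U.ι ≫ p := by
    rw [Category.assoc, pullback.condition, ← Category.assoc, hψ, pullback.condition]
  obtain ⟨g', ⟨hg1, hg2⟩, -⟩ := Groth.Agent.Lib.Helper10.ExtendAffine.existsUnique_extend_over
    (pullback.fst p U.ι) hd p q (ψ ≫ pullback.fst q U.ι) hg
  exact ⟨g', hg2, hg1⟩

set_option backward.isDefEq.respectTransparency.types false in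
/-- Fullness of restriction of finite étale covers to an open with depth `≥ 2` complement. -/
theorem restrict_full_of_depth_two {X : Scheme.{u}} [IsLocallyNoetherian X] (U : X.Opens)
    (h : ∀ x : X, x ∉ U → (2 : ℕ∞) ≤ LocCoh.depth (X.presheaf.stalk x) (X.presheaf.stalk x)) :
    (FEt.restrict U.ι).Full := by
  refine ⟨fun {Y₁ Y₂} ψ => ?_⟩
  have hfin1 : IsFinite Y₁.hom := Y₁.prop.1
  have het1 : AlgebraicGeometry.Etale Y₁.hom := Y₁.prop.2
  have hfin2 : IsFinite Y₂.hom := Y₂.prop.1
  have hψ : ψ.left ≫ pullback.snd Y₂.hom U.ι = pullback.snd Y₁.hom U.ι := Over.w ψ.hom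
  obtain ⟨g', hg2, hg1⟩ := exists_extend_finite_etale U h (T := Y₁.left) (Y := Y₂.left)
    Y₁.hom Y₂.hom ψ.left hψ
  let φ : Y₁ ⟶ Y₂ := MorphismProperty.Over.homMk g' hg2 trivial
  have hφ : φ.left = g' := rfl
  have e1 : ((FEt.restrict U.ι).map φ).left ≫ pullback.fst Y₂.hom U.ι =
      pullback.fst Y₁.hom U.ι ≫ φ.left := by
    dsimp [FEt.restrict]
    exact pullback.lift_fst _ _ _
  have e2 : ((FEt.restrict U.ι).map φ).left ≫ pullback.snd Y₂.hom U.ι =
      pullback.snd Y₁.hom U.ι := by
    dsimp [FEt.restrict]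
    exact pullback.lift_snd _ _ _
  refine ⟨φ, ?_⟩
  apply MorphismProperty.Over.Hom.ext
  apply pullback.hom_ext
  · exact e1.trans (hφ ▸ hg1)
  · exact e2.trans hψ.symm

end aux

open AlgebraicGeometry CategoryTheory CategoryTheory.Limits in
/-- Let X be a Noetherian scheme and U ⊆ X a dense open subscheme such that at every point x outside U
the local ring 𝒪_{X,x} has depth at least 2. Then the functor restricting finite étale covers of X
to U is full and faithful. (The published statement assumes instead that the punctured spectra of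
the strict henselizations of X at the points outside U are connected; depth at least 2 is a
sufficient condition for this and is what is assumed here.) -/
theorem result {X : Scheme.{u}} [IsNoetherian X] (U : X.Opens) (hU : Dense (U : Set X))
    (h : ∀ x : X, x ∉ U → (2 : ℕ∞) ≤ LocCoh.depth (X.presheaf.stalk x) (X.presheaf.stalk x)) :
    (FEt.restrict U.ι).Full ∧ (FEt.restrict U.ι).Faithful := by
  refine ⟨restrict_full_of_depth_two U h, Groth.Agent.S0237.result U.ι ?_⟩
  show Dense (Set.range U.ι)
  rw [AlgebraicGeometry.Scheme.Opens.range_ι]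
  exact hU

end Groth.Agent.S0259
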