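import Groth.Statements.S5153
import Groth.Agent.Lib.Helper10.Hartogs
import Groth.Agent.Lib.Helper16.LocNoeth

set_option autoImplicit false
universe u
open AlgebraicGeometry
open LocCoh

namespace Groth.Agent.S5153

section aux
open CategoryTheory TopologicalSpace Opposite

/-- Gluing `1` on `Z` and `0` on `W` for disjoint opens. -/
theorem exists_section_one_zero (X : Scheme.{u}) (Z W S : X.Opens) (hinf : Z ⊓ W = ⊥)
    (hZ : Z ≤ S) (hW : W ≤ S) (hS : S ≤ Z ⊔ W) :
    ∃ e : Γ(X, S), X.presheaf.map (homOfLE hZ).op e = 1 ∧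
      X.presheaf.map (homOfLE hW).op e = 0 := by
  classical
  let U : Bool → X.Opens := fun b => if b then Z else W
  let sf : ∀ b : Bool, Γ(X, U b) := fun b => if b then 1 else 0
  have hUle : ∀ b, U b ≤ S := by
    intro b; cases b
    · exact hW
    · exact hZ
  have hU : S ≤ iSup U := hS.trans (sup_le (le_iSup U true) (le_iSup U false))
  have hsub : ∀ b b' : Bool, b ≠ b' → Subsingleton Γ(X, U b ⊓ U b') := by
    intro b b' h
    have : U b ⊓ U b' = ⊥ := by
      cases b <;> cases b' <;> simp_all [U, inf_comm]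
    rw [this]
    infer_instance
  have hcompat : TopCat.Presheaf.IsCompatible X.sheaf.1 U sf := by
    intro b b'
    by_cases h : b = b'
    · subst h
      rfl
    · exact @Subsingleton.elim Γ(X, U b ⊓ U b') (hsub b b' h) _ _
  obtain ⟨e', he', -⟩ := X.sheaf.existsUnique_gluing' U S (fun b => homOfLE (hUle b)) hU sf hcompat
  exact ⟨e', he' true, he' false⟩

/-- A section on `S = Z ⊔ W` vanishing on `Z` and on `W` is zero. -/
theorem eq_zero_of_res_sup_eq_zero (X : Scheme.{u}) (Z W S : X.Opens)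
    (hZ : Z ≤ S) (hW : W ≤ S) (hS : S ≤ Z ⊔ W) (s : Γ(X, S))
    (hsZ : X.presheaf.map (homOfLE hZ).op s = 0)
    (hsW : X.presheaf.map (homOfLE hW).op s = 0) : s = 0 := by
  classical
  let U : Bool → X.Opens := fun b => if b then Z else W
  have hUle : ∀ b, U b ≤ S := by
    intro b; cases b
    · exact hW
    · exact hZ
  have hU : S ≤ iSup U := hS.trans (sup_le (le_iSup U true) (le_iSup U false))
  refine X.sheaf.eq_of_locally_eq' U S (fun b => homOfLE (hUle b)) hU s 0 ?_
  intro b
  cases b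
  · rw [map_zero]; exact hsW
  · rw [map_zero]; exact hsZ

variable {X : Scheme.{u}} [IsLocallyNoetherian X] (U : X.Opens)
  (h : ∀ x : X, x ∉ (U : Set X) → (2 : ℕ∞) ≤ LocCoh.depth (X.presheaf.stalk x) (X.presheaf.stalk x))

include h in
theorem inf_nonempty_of_nonempty (V : X.Opens) (hV : (V : Set X).Nonempty) :
    ((V ⊓ U : X.Opens) : Set X).Nonempty := by
  by_contra hne
  have hbot : V ⊓ U = ⊥ := by
    ext x
    simp only [Opens.coe_bot, Set.mem_empty_iff_false, iff_false]
    intro hx
    exact hne ⟨x, hx⟩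
  have hinj := (Groth.Agent.Lib.Helper10.Hartogs.ring_res_bijective U h V).1
  have hsub : Subsingleton Γ(X, V ⊓ U) := by
    rw [hbot]; infer_instance
  have h10 : (1 : Γ(X, V)) = 0 := hinj (Subsingleton.elim _ _)
  have h1 : X.basicOpen (1 : Γ(X, V)) = V := X.basicOpen_of_isUnit isUnit_one
  rw [h10, X.basicOpen_zero] at h1
  obtain ⟨x, hx⟩ := hV
  rw [← h1] at hx
  exact hx

include h in
theorem isPreconnected_inf (V : X.Opens) (hV : _root_.IsPreconnected (V : Set X)) :
    _root_.IsPreconnected ((V ⊓ U : X.Opens) : Set X) := by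
  intro u v hu hv huv hne_u hne_v
  by_contra hne
  -- the two pieces
  let Z : X.Opens := (V ⊓ U) ⊓ ⟨u, hu⟩
  let W : X.Opens := (V ⊓ U) ⊓ ⟨v, hv⟩
  have hZW : Z ⊓ W = ⊥ := by
    ext x
    simp only [Opens.coe_bot, Set.mem_empty_iff_false, iff_false]
    rintro ⟨⟨hx1, hx2⟩, ⟨-, hx3⟩⟩
    exact hne ⟨x, hx1, hx2, hx3⟩
  have hsup : V ⊓ U ≤ Z ⊔ W := by
    intro x hx
    rcases huv hx with hxu | hxv
    · exact Or.inl ⟨hx, hxu⟩
    · exact Or.inr ⟨hx, hxv⟩
  obtain ⟨e, heZ, heW⟩ := exists_section_one_zero X Z W (V ⊓ U) hZW inf_le_left inf_le_left hsup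
  have hprod : e * (1 - e) = 0 := by
    apply eq_zero_of_res_sup_eq_zero X Z W (V ⊓ U) inf_le_left inf_le_left hsup
    · rw [map_mul, map_sub, map_one, heZ, sub_self, mul_zero]
    · rw [map_mul, heW, zero_mul]
  obtain ⟨hinj, hsurj⟩ := Groth.Agent.Lib.Helper10.Hartogs.ring_res_bijective U h V
  obtain ⟨e', he'⟩ := hsurj e
  have hprod' : e' * (1 - e') = 0 := by
    apply hinj
    rw [map_mul, map_sub, map_one, he', hprod, map_zero]
  have hdisj : X.basicOpen e' ⊓ X.basicOpen (1 - e') = ⊥ := by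
    rw [← X.basicOpen_mul, hprod', X.basicOpen_zero]
  have hcov : V ≤ X.basicOpen e' ⊔ X.basicOpen (1 - e') := by
    have h1 : X.basicOpen (e' + (1 - e')) = V := by
      rw [add_sub_cancel]; exact X.basicOpen_of_isUnit isUnit_one
    exact h1.ge.trans (X.basicOpen_add_le e' (1 - e'))
  have hZle : Z ≤ X.basicOpen e' := by
    have h1 : Z ⊓ X.basicOpen e = Z := by
      rw [← X.basicOpen_res e (homOfLE (inf_le_left : Z ≤ V ⊓ U)).op, heZ]
      exact X.basicOpen_of_isUnit isUnit_one
    have h2 : X.basicOpen e = (V ⊓ U) ⊓ X.basicOpen e' := by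
      rw [← he', X.basicOpen_res]
    rw [← h1, h2]
    exact inf_le_right.trans inf_le_right
  have hWle : W ≤ X.basicOpen (1 - e') := by
    have h1 : W ⊓ X.basicOpen (1 - e) = W := by
      rw [← X.basicOpen_res (1 - e) (homOfLE (inf_le_left : W ≤ V ⊓ U)).op, map_sub, map_one, heW,
        sub_zero]
      exact X.basicOpen_of_isUnit isUnit_one
    have h2 : X.basicOpen (1 - e) = (V ⊓ U) ⊓ X.basicOpen (1 - e') := by
      rw [← he', ← map_one (X.presheaf.map (homOfLE (inf_le_left : V ⊓ U ≤ V)).op).hom,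
        ← map_sub]
      exact X.basicOpen_res _ _
    rw [← h1, h2]
    exact inf_le_right.trans inf_le_right
  obtain ⟨a, haVU, hau⟩ := hne_u
  obtain ⟨b, hbVU, hbv⟩ := hne_v
  have haZ : a ∈ Z := ⟨haVU, hau⟩
  have hbW : b ∈ W := ⟨hbVU, hbv⟩
  obtain ⟨c, hcV, hc1, hc2⟩ := hV (X.basicOpen e') (X.basicOpen (1 - e')) (X.basicOpen e').2
    (X.basicOpen (1 - e')).2 (fun x hx => hcov hx) ⟨a, haVU.1, hZle haZ⟩ ⟨b, hbVU.1, hWle hbW⟩
  have : c ∈ X.basicOpen e' ⊓ X.basicOpen (1 - e') := ⟨hc1, hc2⟩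
  rw [hdisj] at this
  exact this

end aux

/-- Let X be a locally Noetherian scheme and Y = X − U a closed subset such that depth O_{X,x} ≥ 2 for
every x ∈ Y. Then the inclusion U → X induces a bijection on sets of connected components. -/
theorem result (X : Scheme.{u}) [IsLocallyNoetherian X] (U : X.Opens) (h : ∀ x : X, x ∉ (U : Set X) → (2 : ℕ∞) ≤ LocCoh.depth (X.presheaf.stalk x) (X.presheaf.stalk x)) : Function.Bijective (Continuous.connectedComponentsMap (continuous_subtype_val : Continuous (fun x : U => (x : X)))) := by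
  have hLC : LocallyConnectedSpace X := by
    apply Groth.Agent.Lib.Helper16.locallyConnectedSpace_of_locallyNoetherian
    intro x
    obtain ⟨_, ⟨W, hW, rfl⟩, hxW, -⟩ := X.isBasis_affineOpens.exists_subset_of_mem_open
      (Set.mem_univ x) isOpen_univ
    have : IsNoetherianRing Γ(X, W) :=
      AlgebraicGeometry.IsLocallyNoetherian.component_noetherian ⟨W, hW⟩
    exact ⟨(W : Set X), W.2.mem_nhds hxW, AlgebraicGeometry.noetherianSpace_of_isAffineOpen W hW⟩
  constructor
  · intro a b hab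
    obtain ⟨a, rfl⟩ := ConnectedComponents.surjective_coe a
    obtain ⟨b, rfl⟩ := ConnectedComponents.surjective_coe b
    have hab' : ((a : X) : ConnectedComponents X) = ((b : X) : ConnectedComponents X) := hab
    rw [ConnectedComponents.coe_eq_coe'] at hab'
    rw [ConnectedComponents.coe_eq_coe']
    let V : X.Opens := ⟨connectedComponent (b : X), isOpen_connectedComponent⟩
    have hpre := isPreconnected_inf U h V isPreconnected_connectedComponent
    have hpre' : IsPreconnected ((Subtype.val : U → X) ⁻¹' ((V ⊓ U : X.Opens) : Set X)) := by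
      have hind : Topology.IsInducing (Subtype.val : U → X) := Topology.IsInducing.subtypeVal
      rw [← hind.isPreconnected_image]
      have himg : (Subtype.val : U → X) '' ((Subtype.val : U → X) ⁻¹' ((V ⊓ U : X.Opens) : Set X))
          = ((V ⊓ U : X.Opens) : Set X) := by
        ext x
        constructor
        · rintro ⟨y, hy, rfl⟩; exact hy
        · intro hx; exact ⟨⟨x, hx.2⟩, hx, rfl⟩
      rw [himg]; exact hpre
    have hb : b ∈ ((Subtype.val : U → X) ⁻¹' ((V ⊓ U : X.Opens) : Set X)) :=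
      ⟨mem_connectedComponent, b.2⟩
    have ha : a ∈ ((Subtype.val : U → X) ⁻¹' ((V ⊓ U : X.Opens) : Set X)) :=
      ⟨hab', a.2⟩
    exact hpre'.subset_connectedComponent hb ha
  · intro c
    obtain ⟨x, rfl⟩ := ConnectedComponents.surjective_coe c
    let V : X.Opens := ⟨connectedComponent x, isOpen_connectedComponent⟩
    obtain ⟨y, hyV, hyU⟩ := inf_nonempty_of_nonempty U h V ⟨x, mem_connectedComponent⟩
    refine ⟨ConnectedComponents.mk ⟨y, hyU⟩, ?_⟩
    show ((y : X) : ConnectedComponents X) = (x : ConnectedComponents X)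
    rw [ConnectedComponents.coe_eq_coe']
    exact hyV

end Groth.Agent.S5153
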