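import Groth.Statements.S0258
import Groth.Agent.S0259
import Groth.Agent.S5153

set_option autoImplicit false
universe u
open Pi1

namespace Groth.Agent.S0258

open AlgebraicGeometry CategoryTheory CategoryTheory.Limits in
/-- For a Noetherian local ring A of depth at least 2, the functor restricting finite étale covers of
Spec A to the punctured spectrum is fully faithful (full and faithful). The published statement
assumes instead that the punctured spectrum of the strict henselization of A is connected; depth at
least 2 is a sufficient condition for this, and the result is stated here under that hypothesis. -/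
theorem result (A : Type u) [CommRing A] [IsNoetherianRing A] [IsLocalRing A] (hA : (2 : ℕ∞) ≤ LocCoh.depth A A) :
    (FEt.restrict (FEt.puncturedSpec A).ι).Full ∧ (FEt.restrict (FEt.puncturedSpec A).ι).Faithful := by
  have key : ∀ x : ↥(AlgebraicGeometry.Spec (CommRingCat.of A)), x ∉ FEt.puncturedSpec A →
      (2 : ℕ∞) ≤ LocCoh.depth ((AlgebraicGeometry.Spec (CommRingCat.of A)).presheaf.stalk x)
        ((AlgebraicGeometry.Spec (CommRingCat.of A)).presheaf.stalk x) := by
    intro x hx
    have hcl : x = IsLocalRing.closedPoint A := by
      by_contra hne
      exact hx hne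
    have hxp : x.asIdeal.IsPrime := x.isPrime
    let k : Algebra A ((AlgebraicGeometry.Spec (CommRingCat.of A)).presheaf.stalk x) :=
      AlgebraicGeometry.StructureSheaf.stalkAlgebra A x
    have hloc : IsLocalization.AtPrime
        ((AlgebraicGeometry.Spec (CommRingCat.of A)).presheaf.stalk x) x.asIdeal :=
      AlgebraicGeometry.StructureSheaf.IsLocalization.to_stalk A x
    have hlocal : IsLocalHom (algebraMap A
        ((AlgebraicGeometry.Spec (CommRingCat.of A)).presheaf.stalk x)) := by
      refine ⟨fun a ha => ?_⟩
      have h1 := (IsLocalization.AtPrime.isUnit_to_map_iff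
        ((AlgebraicGeometry.Spec (CommRingCat.of A)).presheaf.stalk x) x.asIdeal a).mp ha
      have h2 : a ∉ IsLocalRing.maximalIdeal A := by
        intro hmem
        apply h1
        rw [hcl]
        exact hmem
      by_contra hnu
      exact h2 ((IsLocalRing.mem_maximalIdeal a).mpr hnu)
    have hflat : (algebraMap A
        ((AlgebraicGeometry.Spec (CommRingCat.of A)).presheaf.stalk x)).Flat := by
      rw [RingHom.flat_algebraMap_iff]
      exact IsLocalization.flat _ x.asIdeal.primeCompl
    exact hA.trans (Groth.Agent.Lib.Helper10.ExtendAffine.depth_le_depth_of_flat_localHom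
      (algebraMap A ((AlgebraicGeometry.Spec (CommRingCat.of A)).presheaf.stalk x)) hflat)
  have hdense : Dense ((FEt.puncturedSpec A : (AlgebraicGeometry.Spec (CommRingCat.of A)).Opens) :
      Set (AlgebraicGeometry.Spec (CommRingCat.of A))) := by
    rw [dense_iff_inter_open]
    intro V hV hVne
    obtain ⟨y, hy⟩ := Groth.Agent.S5153.inf_nonempty_of_nonempty (FEt.puncturedSpec A)
      (fun x hx => key x hx) ⟨V, hV⟩ hVne
    exact ⟨y, hy⟩
  exact Groth.Agent.S0259.result (FEt.puncturedSpec A) hdense key

end Groth.Agent.S0258
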