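import Groth.Statements.S0263
import Groth.Agent.Lib.Helper10.ExtendAffine
import Groth.Agent.Lib.Helper10.Hartogs

set_option autoImplicit false
universe u
open Pi1

namespace Groth.Agent.S0263

section aux
open AlgebraicGeometry CategoryTheory CategoryTheory.Limits

/-- Sections over an open with depth `≥ 2` complement: `U.ι.appTop` is an isomorphism. -/
theorem isIso_ι_appTop_of_depth {T : Scheme.{u}} [IsLocallyNoetherian T] (U : T.Opens)
    (hU : ∀ x : T, x ∉ U → (2 : ℕ∞) ≤ LocCoh.depth (T.presheaf.stalk x) (T.presheaf.stalk x)) :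
    IsIso U.ι.appTop := by
  have hbij := Groth.Agent.Lib.Helper10.Hartogs.ring_res_bijective U hU ⊤
  have heq : U.ι ''ᵁ ⊤ = ⊤ ⊓ U := by rw [U.ι_image_top, top_inf_eq]
  have hcomp : U.ι.appTop = T.presheaf.map (homOfLE (inf_le_left : ⊤ ⊓ U ≤ ⊤)).op ≫
      T.presheaf.map (eqToHom heq).op := by
    rw [Scheme.Opens.ι_appTop, ← Functor.map_comp]
    rfl
  have hiso1 : IsIso (T.presheaf.map (homOfLE (inf_le_left : ⊤ ⊓ U ≤ ⊤)).op) :=
    (ConcreteCategory.isIso_iff_bijective _).mpr hbij
  have hiso2 : IsIso (T.presheaf.map (eqToHom heq).op) := by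
    rw [eqToHom_op, eqToHom_map]
    infer_instance
  rw [hcomp]
  exact IsIso.comp_isIso' hiso1 hiso2

/-- Same for an arbitrary open immersion. -/
theorem isIso_appTop_of_depth {T V : Scheme.{u}} [IsLocallyNoetherian T] (j : V ⟶ T)
    [IsOpenImmersion j]
    (hd : ∀ t : T, t ∉ Set.range j →
      (2 : ℕ∞) ≤ LocCoh.depth (T.presheaf.stalk t) (T.presheaf.stalk t)) :
    IsIso j.appTop := by
  have h1 : IsIso j.opensRange.ι.appTop :=
    isIso_ι_appTop_of_depth j.opensRange (fun t ht => hd t (fun h => ht h))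
  have h2 : j = j.isoOpensRange.hom ≫ j.opensRange.ι := (j.isoOpensRange_hom_ι).symm
  rw [h2, Scheme.Hom.comp_appTop]
  have h3 : IsIso j.isoOpensRange.hom.appTop := by
    show IsIso (j.isoOpensRange.hom.app ⊤)
    infer_instance
  exact IsIso.comp_isIso' h1 h3

/-- Depth of the stalk of `Spec A` at the closed point. -/
theorem depth_stalk_of_notMem_puncturedSpec (A : Type u) [CommRing A] [IsNoetherianRing A]
    [IsLocalRing A] (hA : (2 : ℕ∞) ≤ LocCoh.depth A A) :
    ∀ x : ↥(AlgebraicGeometry.Spec (CommRingCat.of A)), x ∉ FEt.puncturedSpec A →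
      (2 : ℕ∞) ≤ LocCoh.depth ((AlgebraicGeometry.Spec (CommRingCat.of A)).presheaf.stalk x)
        ((AlgebraicGeometry.Spec (CommRingCat.of A)).presheaf.stalk x) := by
  intro x hx
  have hcl : x = IsLocalRing.closedPoint A := by
    by_contra hne
    exact hx hne
  have hxp : x.asIdeal.IsPrime := x.isPrime
  let k : Algebra A ((AlgebraicGeometry.Spec (CommRingCat.of A)).presheaf.stalk x) :=
    AlgebraicGeometry.StructureSheaf.stalkAlgebra A x
  have hloc : IsLocalization.AtPrime
      ((AlgebraicGeometry.Spec (CommRingCat.of A)).presheaf.stalk x) x.asIdeal :=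
    AlgebraicGeometry.StructureSheaf.IsLocalization.to_stalk A x
  have hlocal : IsLocalHom (algebraMap A
      ((AlgebraicGeometry.Spec (CommRingCat.of A)).presheaf.stalk x)) := by
    refine ⟨fun a ha => ?_⟩
    have h1 := (IsLocalization.AtPrime.isUnit_to_map_iff
      ((AlgebraicGeometry.Spec (CommRingCat.of A)).presheaf.stalk x) x.asIdeal a).mp ha
    have h2 : a ∉ IsLocalRing.maximalIdeal A := by
      intro hmem
      apply h1
      rw [hcl]
      exact hmem
    by_contra hnu
    exact h2 ((IsLocalRing.mem_maximalIdeal a).mpr hnu)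
  have hflat : (algebraMap A
      ((AlgebraicGeometry.Spec (CommRingCat.of A)).presheaf.stalk x)).Flat := by
    rw [RingHom.flat_algebraMap_iff]
    exact IsLocalization.flat _ x.asIdeal.primeCompl
  exact hA.trans (Groth.Agent.Lib.Helper10.ExtendAffine.depth_le_depth_of_flat_localHom
    (algebraMap A ((AlgebraicGeometry.Spec (CommRingCat.of A)).presheaf.stalk x)) hflat)

theorem finite_etale_sections (A : Type u) [CommRing A] [IsNoetherianRing A] [IsLocalRing A]
    (hA : (2 : ℕ∞) ≤ LocCoh.depth A A) {T V' : Scheme.{u}}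
    (p : T ⟶ Spec (CommRingCat.of A)) [IsFinite p] [Etale p]
    (v : V' ⟶ (FEt.puncturedSpec A : Scheme.{u}))
    (ε : pullback p (FEt.puncturedSpec A).ι ⟶ V') (hε : IsIso ε)
    (hw : ε ≫ v = pullback.snd p (FEt.puncturedSpec A).ι) :
    ((Scheme.ΓSpecIso (CommRingCat.of A)).inv ≫ (v ≫ (FEt.puncturedSpec A).ι).appTop).hom.Finite ∧
    ((Scheme.ΓSpecIso (CommRingCat.of A)).inv ≫ (v ≫ (FEt.puncturedSpec A).ι).appTop).hom.Etale := by
  haveI : IsAffine T := isAffine_of_isAffineHom p
  haveI : IsLocallyNoetherian T := LocallyOfFiniteType.isLocallyNoetherian p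
  have hd : ∀ t : T, t ∉ Set.range (pullback.fst p (FEt.puncturedSpec A).ι) →
      (2 : ℕ∞) ≤ LocCoh.depth (T.presheaf.stalk t) (T.presheaf.stalk t) := by
    intro t ht
    rw [Scheme.Pullback.range_fst] at ht
    have ht' : p t ∉ FEt.puncturedSpec A := by
      intro hU
      apply ht
      simpa using hU
    exact (depth_stalk_of_notMem_puncturedSpec A hA _ ht').trans
      (Groth.Agent.Lib.Helper10.ExtendAffine.depth_stalk_le_of_flat p t)
  have hiso : IsIso (pullback.fst p (FEt.puncturedSpec A).ι).appTop := isIso_appTop_of_depth _ hd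
  have hisoe' : IsIso ε.appTop := by
    show IsIso (ε.app ⊤)
    infer_instance
  have hcomp : (v ≫ (FEt.puncturedSpec A).ι).appTop ≫ ε.appTop =
      p.appTop ≫ (pullback.fst p (FEt.puncturedSpec A).ι).appTop := by
    rw [← Scheme.Hom.comp_appTop, ← Scheme.Hom.comp_appTop, ← Category.assoc, hw,
      ← pullback.condition]
  have hθ : (Scheme.ΓSpecIso (CommRingCat.of A)).inv ≫ (v ≫ (FEt.puncturedSpec A).ι).appTop =
      ((Scheme.ΓSpecIso (CommRingCat.of A)).inv ≫ p.appTop) ≫
        ((pullback.fst p (FEt.puncturedSpec A).ι).appTop ≫ inv ε.appTop) := by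
    rw [Category.assoc, ← Category.assoc p.appTop, ← hcomp, Category.assoc, IsIso.hom_inv_id,
      Category.comp_id]
  have hbij : Function.Bijective ((pullback.fst p (FEt.puncturedSpec A).ι).appTop ≫
      inv ε.appTop).hom :=
    (ConcreteCategory.isIso_iff_bijective _).mp inferInstance
  have hΓbij : Function.Bijective (Scheme.ΓSpecIso (CommRingCat.of A)).inv.hom :=
    (ConcreteCategory.isIso_iff_bijective (Scheme.ΓSpecIso (CommRingCat.of A)).inv).mp inferInstance
  have hfinY : ((Scheme.ΓSpecIso (CommRingCat.of A)).inv ≫ p.appTop).hom.Finite := by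
    have h1 : (p.app ⊤).hom.Finite := IsFinite.finite_app p ⊤ (isAffineOpen_top _)
    have h2 : (Scheme.ΓSpecIso (CommRingCat.of A)).inv.hom.Finite :=
      RingHom.Finite.of_surjective _ hΓbij.2
    exact RingHom.Finite.comp h1 h2
  have hetY : ((Scheme.ΓSpecIso (CommRingCat.of A)).inv ≫ p.appTop).hom.Etale := by
    have h1' : p.appTop.hom.Etale := by
      exact HasRingHomProperty.appTop (P := @Etale) p inferInstance
    have h2 : (Scheme.ΓSpecIso (CommRingCat.of A)).inv.hom.Etale := RingHom.Etale.of_bijective hΓbij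
    exact RingHom.Etale.stableUnderComposition _ _ h2 h1'
  rw [hθ]
  constructor
  · exact RingHom.Finite.comp (RingHom.Finite.of_surjective _ hbij.2) hfinY
  · exact RingHom.Etale.stableUnderComposition _ _ hetY (RingHom.Etale.of_bijective hbij)

end aux

open AlgebraicGeometry CategoryTheory CategoryTheory.Limits in
/-- Let A be a Noetherian local ring of depth at least 2 and V a finite étale cover of the punctured
spectrum of A which is isomorphic to the restriction of some finite étale cover of Spec A. Then the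
ring of global sections Γ(V, O_V) is finite and étale over A, via the ring map A → Γ(V, O_V) induced
by the composite V → Spec A. (Only this implication of the published statement is asserted here; its
converse is not.) -/
theorem result (A : Type u) [CommRing A] [IsNoetherianRing A] [IsLocalRing A] (hA : (2 : ℕ∞) ≤ LocCoh.depth A A)
    (V : FEt.Cat (FEt.puncturedSpec A : Scheme.{u}))
    (hV : ∃ Y : FEt.Cat (Spec (CommRingCat.of A)),
      Nonempty ((FEt.restrict (FEt.puncturedSpec A).ι).obj Y ≅ V)) :
    ((Scheme.ΓSpecIso (CommRingCat.of A)).inv ≫ (V.hom ≫ (FEt.puncturedSpec A).ι).appTop).hom.Finite ∧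
    ((Scheme.ΓSpecIso (CommRingCat.of A)).inv ≫ (V.hom ≫ (FEt.puncturedSpec A).ι).appTop).hom.Etale := by
  obtain ⟨Y, ⟨e⟩⟩ := hV
  haveI hfin : AlgebraicGeometry.IsFinite Y.hom := Y.prop.1
  haveI het : AlgebraicGeometry.Etale Y.hom := Y.prop.2
  haveI : CategoryTheory.IsIso e.hom.left :=
    ((CategoryTheory.MorphismProperty.Over.forget _ _ _ ⋙ CategoryTheory.Over.forget _).mapIso e).isIso_hom
  exact finite_etale_sections A hA Y.hom V.hom e.hom.left this (CategoryTheory.Over.w e.hom.hom)

end Groth.Agent.S0263
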