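import Groth.Statements.S0264
import Groth.Agent.Lib.Helper10.FEtConn2

set_option autoImplicit false
universe u
open Pi1

namespace Groth.Agent.S0264

open AlgebraicGeometry CategoryTheory CategoryTheory.Limits in
/-- Functor form of the surjectivity part of the homotopy exact sequence: Let f : X -> S be flat, proper
and locally of finite presentation with S connected, such that for every algebraically closed field
Ω and every geometric point Spec Ω -> S the fibre X ×_S Spec Ω is connected and reduced. Then the
restriction functor FEt.restrict f, pulling back finite etale covers along f, is full and faithful. -/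
theorem result {X S : Scheme.{u}} (f : X ⟶ S) [IsProper f] [Flat f] [LocallyOfFinitePresentation f]
    [ConnectedSpace S]
    (hfib : ∀ (Ω : Type u) [Field Ω] [IsAlgClosed Ω] (s : Spec (CommRingCat.of Ω) ⟶ S),
      ConnectedSpace ↥(pullback f s) ∧ IsReduced (pullback f s)) :
    (FEt.restrict f).Full ∧ (FEt.restrict f).Faithful := by
  haveI hsurj : AlgebraicGeometry.Surjective f := by
    refine ⟨fun s => ?_⟩
    let Ω : Type u := AlgebraicClosure (S.residueField s)
    let j : AlgebraicGeometry.Spec (CommRingCat.of Ω) ⟶ S :=
      AlgebraicGeometry.Spec.map (CommRingCat.ofHom (algebraMap (S.residueField s) Ω)) ≫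
        S.fromSpecResidueField s
    haveI := (hfib Ω j).1
    obtain ⟨z⟩ : Nonempty ↥(CategoryTheory.Limits.pullback f j) := inferInstance
    refine ⟨CategoryTheory.Limits.pullback.fst f j z, ?_⟩
    rw [← AlgebraicGeometry.Scheme.Hom.comp_apply, CategoryTheory.Limits.pullback.condition,
      AlgebraicGeometry.Scheme.Hom.comp_apply]
    have : (S.fromSpecResidueField s)
        ((AlgebraicGeometry.Spec.map (CommRingCat.ofHom (algebraMap (S.residueField s) Ω)))
          (CategoryTheory.Limits.pullback.snd f j z)) ∈
        Set.range (S.fromSpecResidueField s) := ⟨_, rfl⟩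
    rw [AlgebraicGeometry.Scheme.range_fromSpecResidueField] at this
    exact this
  haveI : AlgebraicGeometry.UniversallyOpen f := inferInstance
  apply Groth.Agent.Lib.Helper10.FEtConn2.fullyFaithful_of_connected_fibres f
  intro W P gW p q h w
  exact Groth.Agent.Lib.Helper10.FEtConn2.isPreconnected_fiber_of_geomFibres f gW p q h
    (fun Ω _ _ s => (hfib Ω s).1) w

end Groth.Agent.S0264
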