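import Groth.Statements.S0266
import Groth.Agent.Lib.Helper24.FiberFunctorUnique

set_option autoImplicit false
universe u v w
open Pi1

namespace Groth.Agent.S0266

open CategoryTheory Limits PreGaloisCategory

lemma nonempty_of_isTerminal {Z : FintypeCat.{w}} (hZ : IsTerminal Z) : Nonempty Z.obj :=
  ⟨(hZ.from (FintypeCat.of PUnit.{w+1})) PUnit.unit⟩

lemma subsingleton_of_isTerminal {Z : FintypeCat.{w}} (hZ : IsTerminal Z) : Subsingleton Z.obj := by
  constructor
  intro a b
  have := hZ.hom_ext (FintypeCat.homMk (fun _ : (FintypeCat.of PUnit.{w+1}) => a))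
    (FintypeCat.homMk (fun _ => b))
  exact ConcreteCategory.congr_hom this PUnit.unit


open CategoryTheory CategoryTheory.Limits in
/-- Transported along the equivalence of a Galois category with finite continuous G-sets : on a Galois
category in Mathlib's sense, every functor to finite sets that preserves finite limits and finite
colimits is isomorphic to the fibre functor. In particular two fibre functors are isomorphic. -/
theorem result {C : Type u} [Category.{v} C] [GaloisCategory C]
    (F : C ⥤ FintypeCat.{w}) [PreGaloisCategory.FiberFunctor F] (F' : C ⥤ FintypeCat.{w})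
    [PreservesFiniteLimits F'] [PreservesFiniteColimits F'] : Nonempty (F' ≅ F) := by
  apply Groth.Agent.Lib.Helper24.FiberFunctorUnique.nonempty_iso_fiberFunctor F F'
  intro X hX
  by_contra hni
  rw [initial_iff_fiber_empty F X, not_isEmpty_iff] at hni
  obtain ⟨x⟩ := hni
  -- X ⟶ ⊤ is an epimorphism
  have hT : IsTerminal (F.obj (⊤_ C)) := IsTerminal.isTerminalObj F _ terminalIsTerminal
  have hT' : IsTerminal (F'.obj (⊤_ C)) := IsTerminal.isTerminalObj F' _ terminalIsTerminal
  have hsub := subsingleton_of_isTerminal hT
  have hepi : Epi (F.map (terminal.from X)) := by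
    have : Epi (FintypeCat.incl.map (F.map (terminal.from X))) := by
      rw [epi_iff_surjective]
      intro y
      exact ⟨x, hsub.elim _ _⟩
    exact FintypeCat.incl.epi_of_epi_map this
  have hepi0 : Epi (terminal.from X) := F.epi_of_epi_map hepi
  have hepi' : Epi (F'.map (terminal.from X)) := inferInstance
  have hepi'' : Epi (FintypeCat.incl.map (F'.map (terminal.from X))) := inferInstance
  rw [epi_iff_surjective] at hepi''
  obtain ⟨y'⟩ := nonempty_of_isTerminal hT'
  obtain ⟨x', _⟩ := hepi'' y'
  exact hX.false x'

end Groth.Agent.S0266
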