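import Groth.Statements.S1187
import Mathlib

set_option autoImplicit false
universe u v w
open CategoryTheory PreGaloisCategory
open Pi1

namespace Groth.Agent.S1187

section helpers
open CategoryTheory PreGaloisCategory
open Pi1

open Limits

section
variable {C : Type u} [Category.{v} C] [GaloisCategory C] (F : C ⥤ FintypeCat.{w}) [FiberFunctor F]

theorem subsingleton_fiber_terminal : Subsingleton (F.obj (⊤_ C)) := by
  have h : IsTerminal (F.obj (⊤_ C)) :=
    IsTerminal.isTerminalObj F (⊤_ C) terminalIsTerminal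
  constructor
  intro a b
  have := h.hom_ext (FintypeCat.homMk (X := FintypeCat.of PUnit.{w+1}) (fun _ => a))
    (FintypeCat.homMk (fun _ => b))
  exact ConcreteCategory.congr_hom this PUnit.unit

theorem nonempty_fiber_terminal : Nonempty (F.obj (⊤_ C)) := by
  have h : IsTerminal (F.obj (⊤_ C)) :=
    IsTerminal.isTerminalObj F (⊤_ C) terminalIsTerminal
  have g : FintypeCat.of PUnit.{w+1} ⟶ F.obj (⊤_ C) := h.from _
  exact ⟨g PUnit.unit⟩

/-- The two points of the fibre of `⊤ ⨿ ⊤` are distinct. -/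
theorem inl_ne_inr (a b : F.obj (⊤_ C)) :
    F.map (coprod.inl : ⊤_ C ⟶ (⊤_ C) ⨿ (⊤_ C)) a ≠ F.map (coprod.inr : ⊤_ C ⟶ (⊤_ C) ⨿ (⊤_ C)) b := by
  intro heq
  have hs := subsingleton_fiber_terminal F
  have hcard : Nat.card (F.obj ((⊤_ C) ⨿ (⊤_ C))) = 2 := by
    rw [card_fiber_coprod_eq_sum]
    haveI : Nonempty (F.obj (⊤_ C)) := ⟨a⟩
    have : Nat.card (F.obj (⊤_ C)) = 1 := Nat.card_eq_one_iff_unique.mpr ⟨hs, ⟨a⟩⟩
    rw [this]
  have hsub : Subsingleton (F.obj ((⊤_ C) ⨿ (⊤_ C))) := by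
    have hc : IsColimit (BinaryCofan.mk (coprod.inl : ⊤_ C ⟶ (⊤_ C) ⨿ (⊤_ C)) coprod.inr) :=
      coprodIsCoprod _ _
    have hc' := isColimitOfPreserves F hc
    have key : ∀ z : F.obj ((⊤_ C) ⨿ (⊤_ C)), z = F.map coprod.inl a := by
      intro z
      obtain ⟨⟨j⟩, y, hy⟩ := Concrete.isColimit_exists_rep _ hc' z
      rcases j with _ | _
      · have hy' : F.map (coprod.inl : ⊤_ C ⟶ (⊤_ C) ⨿ (⊤_ C)) y = z := hy
        rw [← hy', hs.elim (y : F.obj (⊤_ C)) a]
      · have hy' : F.map (coprod.inr : ⊤_ C ⟶ (⊤_ C) ⨿ (⊤_ C)) y = z := hy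
        rw [← hy', hs.elim (y : F.obj (⊤_ C)) b, heq]
    exact ⟨fun z z' => (key z).trans (key z').symm⟩
  have : Nat.card (F.obj ((⊤_ C) ⨿ (⊤_ C))) ≤ 1 := Finite.card_le_one_iff_subsingleton.mpr hsub
  omega

/-- If `Aut F` acts transitively on the (nonempty) fibre of `Y`, then `Y` is connected. -/
theorem isConnected_of_isPretransitive (Y : C) [Nonempty (F.obj Y)]
    [MulAction.IsPretransitive (Aut F) (F.obj Y)] : IsConnected Y := by
  refine ⟨fun h => ?_, fun Z i hi hZ => ?_⟩
  · obtain ⟨y⟩ := ‹Nonempty (F.obj Y)›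
    exact not_initial_of_inhabited F y h
  · obtain ⟨z⟩ := (not_initial_iff_fiber_nonempty F Z).mp hZ
    have : IsIso (F.map i) := by
      apply (ConcreteCategory.isIso_iff_bijective (F.map i)).mpr
      refine ⟨ConcreteCategory.injective_of_mono_of_preservesPullback (F.map i), fun y => ?_⟩
      obtain ⟨σ, hσ⟩ := MulAction.exists_smul_eq (Aut F) (F.map i z) y
      exact ⟨σ • z, by rw [← mulAction_naturality, hσ]⟩
    exact isIso_of_reflects_iso i F

end

section
variable {C C' : Type u} [Category.{v} C] [Category.{v} C'] [GaloisCategory C] [GaloisCategory C']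
    (H : C ⥤ C') [PreservesFiniteLimits H] [PreservesFiniteColimits H]
    (F' : C' ⥤ FintypeCat.{w}) [FiberFunctor F'] [FiberFunctor (H ⋙ F')]

theorem smul_fiber_terminal_coprod (σ : Aut F') (pt : (H ⋙ F').obj (⊤_ C))
    (i : ⊤_ C ⟶ (⊤_ C) ⨿ (⊤_ C)) :
    σ • (show F'.obj (H.obj ((⊤_ C) ⨿ (⊤_ C))) from (H ⋙ F').map i pt) = (H ⋙ F').map i pt := by
  show σ • F'.map (H.map i) pt = F'.map (H.map i) pt
  rw [mulAction_naturality]
  congr 1
  exact (subsingleton_fiber_terminal (H ⋙ F')).elim _ _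

theorem isPretransitive_of_full [H.Full] (X : C) [IsConnected X] :
    MulAction.IsPretransitive (Aut F') (F'.obj (H.obj X)) := by
  classical
  constructor
  intro e₀ e₁
  by_contra hne
  obtain ⟨pt⟩ := nonempty_fiber_terminal (H ⋙ F')
  let p : F'.obj (H.obj ((⊤_ C) ⨿ (⊤_ C))) := (H ⋙ F').map coprod.inl pt
  let q : F'.obj (H.obj ((⊤_ C) ⨿ (⊤_ C))) := (H ⋙ F').map coprod.inr pt
  have hpq : p ≠ q := inl_ne_inr (H ⋙ F') pt pt
  have hp : ∀ σ : Aut F', σ • p = p := fun σ => smul_fiber_terminal_coprod H F' σ pt _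
  have hq : ∀ σ : Aut F', σ • q = q := fun σ => smul_fiber_terminal_coprod H F' σ pt _
  let S : Set (F'.obj (H.obj X)) := MulAction.orbit (Aut F') e₀
  let φfun : F'.obj (H.obj X) → F'.obj (H.obj ((⊤_ C) ⨿ (⊤_ C))) := fun e => if e ∈ S then p else q
  have hS : ∀ (σ : Aut F') (e : F'.obj (H.obj X)), σ • e ∈ S ↔ e ∈ S := by
    intro σ e
    constructor
    · rintro ⟨ρ, hρ⟩
      refine ⟨σ⁻¹ * ρ, ?_⟩
      have hρ' : ρ • e₀ = σ • e := hρ
      show (σ⁻¹ * ρ) • e₀ = e
      rw [mul_smul, hρ', inv_smul_smul]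
    · rintro ⟨ρ, hρ⟩
      refine ⟨σ * ρ, ?_⟩
      have hρ' : ρ • e₀ = e := hρ
      show (σ * ρ) • e₀ = σ • e
      rw [mul_smul, hρ']
  have hφ : ∀ (σ : Aut F') (e : F'.obj (H.obj X)), φfun (σ • e) = σ • φfun e := by
    intro σ e
    by_cases he : e ∈ S
    · simp only [φfun, if_pos he, if_pos ((hS σ e).mpr he), hp]
    · simp only [φfun, if_neg he, if_neg (fun h => he ((hS σ e).mp h)), hq]
  let φ : (functorToAction F').obj (H.obj X) ⟶ (functorToAction F').obj (H.obj ((⊤_ C) ⨿ (⊤_ C))) :=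
    { hom := FintypeCat.homMk φfun
      comm := fun σ => by
        ext e
        exact hφ σ e }
  obtain ⟨g, hg⟩ := (functorToAction F').map_surjective φ
  obtain ⟨ψ, hψ⟩ := H.map_surjective g
  have hFψ : ∀ e : F'.obj (H.obj X), F'.map (H.map ψ) e = φfun e := by
    intro e
    rw [hψ]
    have := congrArg (fun m => m.hom) hg
    exact ConcreteCategory.congr_hom this e
  obtain ⟨τ, hτ⟩ := MulAction.exists_smul_eq (Aut (H ⋙ F')) (show (H ⋙ F').obj X from e₀)
    (show (H ⋙ F').obj X from e₁)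
  have h1 : φfun e₁ = q := if_neg (fun hmem => hne hmem)
  have h0 : φfun e₀ = p := if_pos (MulAction.mem_orbit_self e₀)
  have hτp : τ • (show (H ⋙ F').obj ((⊤_ C) ⨿ (⊤_ C)) from p) = p := by
    show τ • (H ⋙ F').map coprod.inl pt = (H ⋙ F').map coprod.inl pt
    rw [mulAction_naturality]
    congr 1
    exact (subsingleton_fiber_terminal (H ⋙ F')).elim _ _
  apply hpq
  rw [← h1, ← hFψ e₁]
  have : F'.map (H.map ψ) e₁ = (H ⋙ F').map ψ (τ • (show (H ⋙ F').obj X from e₀)) := by
    rw [hτ]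
    rfl
  rw [this, ← mulAction_naturality]
  have h0' : (H ⋙ F').map ψ e₀ = p := (hFψ e₀).trans h0
  rw [h0', hτp]

include F' in
theorem isConnected_map_of_full [H.Full] (X : C) [IsConnected X] : IsConnected (H.obj X) := by
  haveI : Nonempty (F'.obj (H.obj X)) := nonempty_fiber_of_isConnected (H ⋙ F') X
  haveI := isPretransitive_of_full H F' X
  exact isConnected_of_isPretransitive F' (H.obj X)

theorem surjective_of_full [H.Full] : Function.Surjective (Pi1X.autWhisker H F') := by
  letI inst : ∀ X : C, MulAction (Aut F') ((H ⋙ F').obj X) := fun X =>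
    inferInstanceAs (MulAction (Aut F') (F'.obj (H.obj X)))
  haveI : IsNaturalSMul (H ⋙ F') (Aut F') :=
    ⟨fun σ X Y f x => (mulAction_naturality F' σ (H.map f) x).symm⟩
  haveI : ∀ X : C, ContinuousSMul (Aut F') ((H ⋙ F').obj X) := fun X =>
    continuousSMul_aut_fiber F' (H.obj X)
  have hsurj := toAut_surjective_of_isPretransitive (H ⋙ F') (G := Aut F') (fun X _ => by
    haveI := isConnected_map_of_full H F' X
    exact FiberFunctor.isPretransitive_of_isConnected F' (H.obj X))
  intro τ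
  obtain ⟨σ, hσ⟩ := hsurj τ
  refine ⟨σ, ?_⟩
  rw [← hσ]
  ext X x
  rfl

theorem full_of_surjective (hs : Function.Surjective (Pi1X.autWhisker H F')) : H.Full := by
  constructor
  intro X Y g
  let φ : (functorToAction (H ⋙ F')).obj X ⟶ (functorToAction (H ⋙ F')).obj Y :=
    { hom := F'.map g
      comm := fun τ => by
        obtain ⟨σ, rfl⟩ := hs τ
        ext e
        exact (mulAction_naturality F' σ g e).symm }
  obtain ⟨f, hf⟩ := (functorToAction (H ⋙ F')).map_surjective φ
  refine ⟨f, ?_⟩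
  apply F'.map_injective
  exact congrArg (fun m => m.hom) hf

theorem main :
    Function.Surjective (Pi1X.autWhisker H F') ↔ (H.Full ∧ H.Faithful) := by
  constructor
  · intro hs
    exact ⟨full_of_surjective H F' hs, Functor.Faithful.of_comp H F'⟩
  · rintro ⟨hfull, -⟩
    exact surjective_of_full H F'

end

end helpers

/-- Let H : C ⥤ C' be an exact functor between Galois categories and F' a fibre functor on C' such that
F' ∘ H is a fibre functor on C; write h : π_1(C', F') → π_1(C, F' ∘ H) for the induced homomorphism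
of fundamental groups. Then h is surjective if and only if H is fully faithful. -/
theorem result {C C' : Type u} [Category.{v} C] [Category.{v} C'] [GaloisCategory C] [GaloisCategory C']
    (H : C ⥤ C') [Limits.PreservesFiniteLimits H] [Limits.PreservesFiniteColimits H]
    (F' : C' ⥤ FintypeCat.{w}) [FiberFunctor F'] [FiberFunctor (H ⋙ F')] :
    Function.Surjective (Pi1X.autWhisker H F') ↔ (H.Full ∧ H.Faithful) := by
  exact main H F'

end Groth.Agent.S1187
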