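import Groth.Statements.S0267
import Mathlib
import Groth.Agent.S1187

set_option autoImplicit false
universe u v
open Pi1

namespace Groth.Agent.S0267

section helpers
open Pi1

open CategoryTheory CategoryTheory.Limits PreGaloisCategory

section
universe w
variable {C : Type u} [Category.{v} C] [GaloisCategory C] {D : Type u} [Category.{v} D] [GaloisCategory D]
    (H : C ⥤ D) [PreservesFiniteLimits H] [PreservesFiniteColimits H]

theorem fiberFunctor_comp [H.ReflectsIsomorphisms] (F' : D ⥤ FintypeCat.{w}) [FiberFunctor F'] :
    FiberFunctor (H ⋙ F') where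
  preservesQuotientsByFiniteGroups G _ _ := by
    choose G' hg hf he using Finite.exists_type_univ_nonempty_mulEquiv G
    haveI : PreservesColimitsOfShape (SingleObj G) H :=
      Limits.preservesColimitsOfShape_of_equiv he.some.toSingleObjEquiv.symm H
    infer_instance

theorem isIso_of_mono_of_epi {X Y : C} (f : X ⟶ Y) [Mono f] [Epi f] : IsIso f := by
  let F := GaloisCategory.getFiberFunctor C
  have : IsIso (F.map f) := by
    apply (ConcreteCategory.isIso_iff_bijective (F.map f)).mpr
    exact ⟨ConcreteCategory.injective_of_mono_of_preservesPullback (F.map f),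
      surjective_on_fiber_of_epi F f⟩
  exact isIso_of_reflects_iso f F

theorem reflectsIsomorphisms_of_faithful [H.Faithful] : H.ReflectsIsomorphisms := by
  constructor
  intro X Y f hf
  haveI : Mono f := H.mono_of_mono_map (by infer_instance)
  haveI : Epi f := H.epi_of_epi_map (by infer_instance)
  exact isIso_of_mono_of_epi f

/-- Step 1: a monomorphism whose image under `H` is an isomorphism is an isomorphism, provided
`H` preserves connected objects. -/
theorem isIso_of_mono_of_isIso_map
    (hH : ∀ X : C, IsConnected X → IsConnected (H.obj X))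
    {E X : C} (i : E ⟶ X) [Mono i] [IsIso (H.map i)] : IsIso i := by
  let F := GaloisCategory.getFiberFunctor C
  let F' := GaloisCategory.getFiberFunctor D
  obtain ⟨Z, u, ⟨hc⟩⟩ := PreGaloisCategory.monoInducesIsoOnDirectSummand i
  let e : X ≅ E ⨿ Z :=
    hc.coconePointUniqueUpToIso (colimit.isColimit (pair E Z))
  -- cardinalities in D
  have h1 : Nat.card (F'.obj (H.obj X)) = Nat.card (F'.obj (H.obj E)) + Nat.card (F'.obj (H.obj Z)) := by
    rw [card_fiber_eq_of_iso F' (H.mapIso e), ← card_fiber_coprod_eq_sum F' (H.obj E) (H.obj Z)]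
    exact card_fiber_eq_of_iso F' (PreservesColimitPair.iso H E Z).symm
  have h2 : Nat.card (F'.obj (H.obj E)) = Nat.card (F'.obj (H.obj X)) :=
    card_fiber_eq_of_iso F' (asIso (H.map i))
  have h3 : Nat.card (F'.obj (H.obj Z)) = 0 := by omega
  have hZ : IsEmpty (F.obj Z) := by
    by_contra hne
    rw [not_isEmpty_iff] at hne
    obtain ⟨z⟩ := hne
    obtain ⟨Z₀, j, z₀, -, hZ₀, -⟩ := fiber_in_connected_component F Z z
    haveI := hH Z₀ hZ₀
    obtain ⟨w⟩ := nonempty_fiber_of_isConnected F' (H.obj Z₀)
    have : Nonempty (F'.obj (H.obj Z)) := ⟨F'.map (H.map j) w⟩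
    have hpos : 0 < Nat.card (F'.obj (H.obj Z)) := Nat.card_pos
    omega
  have h4 : Nat.card (F.obj X) = Nat.card (F.obj E) + Nat.card (F.obj Z) := by
    rw [card_fiber_eq_of_iso F e, ← card_fiber_coprod_eq_sum F E Z]
  have h5 : Nat.card (F.obj Z) = 0 := Nat.card_eq_zero.mpr (Or.inl hZ)
  exact isIso_of_mono_of_eq_card_fiber F i (by omega)

theorem reflectsIsomorphisms_of_preservesConnected
    (hH : ∀ X : C, IsConnected X → IsConnected (H.obj X)) : H.ReflectsIsomorphisms := by
  constructor
  intro X Y f hf
  -- first `f` is mono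
  have hfst : IsIso (pullback.fst f f) := by
    have h1 : IsIso (pullback.fst (H.map f) (H.map f)) := isIso_fst_of_mono (H.map f)
    have h2 : IsIso (H.map (pullback.fst f f)) := by
      rw [← PreservesPullback.iso_hom_fst]
      exact IsIso.comp_isIso
    -- the diagonal is a mono with `H`-image an isomorphism
    let δ : X ⟶ pullback f f := pullback.lift (𝟙 X) (𝟙 X) rfl
    have hδ : δ ≫ pullback.fst f f = 𝟙 X := pullback.lift_fst _ _ _
    haveI : Mono δ := mono_of_mono_fac hδ
    haveI : IsIso (H.map δ) := by
      have h3 : H.map δ ≫ H.map (pullback.fst f f) = 𝟙 _ := by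
        rw [← H.map_comp, hδ, H.map_id]
      have : IsIso (H.map δ ≫ H.map (pullback.fst f f)) := by
        rw [h3]
        infer_instance
      exact IsIso.of_isIso_comp_right (H.map δ) (H.map (pullback.fst f f))
    haveI := isIso_of_mono_of_isIso_map H hH δ
    have : pullback.fst f f = inv δ := by
      rw [← cancel_epi δ, hδ, IsIso.hom_inv_id]
    rw [this]
    infer_instance
  haveI : Mono f := (pullback.diagonal_isKernelPair f).mono_of_isIso_fst
  exact isIso_of_mono_of_isIso_map H hH f

theorem surjective_of_preservesConnected (F' : D ⥤ FintypeCat.{w}) [FiberFunctor F']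
    [FiberFunctor (H ⋙ F')]
    (hH : ∀ X : C, IsConnected X → IsConnected (H.obj X)) :
    Function.Surjective (Pi1X.autWhisker H F') := by
  letI inst : ∀ X : C, MulAction (Aut F') ((H ⋙ F').obj X) := fun X =>
    inferInstanceAs (MulAction (Aut F') (F'.obj (H.obj X)))
  haveI : IsNaturalSMul (H ⋙ F') (Aut F') :=
    ⟨fun σ X Y f x => (mulAction_naturality F' σ (H.map f) x).symm⟩
  haveI : ∀ X : C, ContinuousSMul (Aut F') ((H ⋙ F').obj X) := fun X =>
    continuousSMul_aut_fiber F' (H.obj X)
  have hsurj := toAut_surjective_of_isPretransitive (H ⋙ F') (G := Aut F') (fun X _ => by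
    haveI := hH X inferInstance
    exact FiberFunctor.isPretransitive_of_isConnected F' (H.obj X))
  intro τ
  obtain ⟨σ, hσ⟩ := hsurj τ
  refine ⟨σ, ?_⟩
  rw [← hσ]
  ext X x
  rfl

theorem main :
    (H.Full ∧ H.Faithful) ↔
      ∀ X : C, PreGaloisCategory.IsConnected X → PreGaloisCategory.IsConnected (H.obj X) := by
  let F' := GaloisCategory.getFiberFunctor D
  constructor
  · rintro ⟨hfull, hfaith⟩ X hX
    haveI := reflectsIsomorphisms_of_faithful H
    haveI := fiberFunctor_comp H F'
    exact Groth.Agent.S1187.isConnected_map_of_full H F' X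
  · intro hH
    haveI := reflectsIsomorphisms_of_preservesConnected H hH
    haveI := fiberFunctor_comp H F'
    have hs := surjective_of_preservesConnected H F' hH
    exact ⟨Groth.Agent.S1187.full_of_surjective H F' hs, Functor.Faithful.of_comp H F'⟩

end

end helpers

open CategoryTheory CategoryTheory.Limits in
/-- For an exact functor H between Galois categories, H is fully faithful exactly when it carries
connected objects to connected objects (both are equivalent to surjectivity of the induced map on
fundamental groups). -/
theorem result {C : Type u} [Category.{v} C]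
    [GaloisCategory C] {D : Type u} [Category.{v} D] [GaloisCategory D]
    (H : C ⥤ D) [PreservesFiniteLimits H] [PreservesFiniteColimits H] :
    (H.Full ∧ H.Faithful) ↔
      ∀ X : C, PreGaloisCategory.IsConnected X → PreGaloisCategory.IsConnected (H.obj X) := by
  exact main H

end Groth.Agent.S0267
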