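import Groth.Statements.S0268
import Groth.Agent.Lib.Helper10.FEtGraph
import Groth.Agent.Lib.Helper10.FEtConn
import Groth.Agent.Lib.Helper10.NormalExt
import Groth.Agent.S0237

set_option autoImplicit false
universe u
open Pi1

namespace Groth.Agent.S0268

open AlgebraicGeometry CategoryTheory CategoryTheory.Limits in
/-- Functor form of the surjectivity of pi_1(X) -> pi_1(Spec k): Let X be quasi-compact and
quasi-separated over a field k with X_{kbar} connected. Then the functor pulling back finite etale
k-schemes to X is full and faithful. -/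
theorem result (k : Type u) [Field k] {X : Scheme.{u}} (f : X ⟶ Spec (CommRingCat.of k)) [CompactSpace X]
    [QuasiSeparatedSpace X]
    [ConnectedSpace ↥(pullback f (Spec.map (CommRingCat.ofHom (algebraMap k (AlgebraicClosure k)))))] :
    (FEt.restrict f).Full ∧ (FEt.restrict f).Faithful := by
  haveI hsurj : AlgebraicGeometry.Surjective f := by
    refine ⟨fun y => ?_⟩
    obtain ⟨z⟩ : Nonempty ↥(CategoryTheory.Limits.pullback f (AlgebraicGeometry.Spec.map
        (CommRingCat.ofHom (algebraMap k (AlgebraicClosure k))))) := inferInstance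
    refine ⟨CategoryTheory.Limits.pullback.fst f _ z, ?_⟩
    have hss : ∀ a b : ↥(AlgebraicGeometry.Spec (CommRingCat.of k)), a = b := by
      intro a b
      apply PrimeSpectrum.ext
      haveI := a.isPrime
      haveI := b.isPrime
      rw [Ideal.eq_bot_of_prime a.asIdeal, Ideal.eq_bot_of_prime b.asIdeal]
    exact hss _ _
  refine ⟨?_, Groth.Agent.S0237.result f (fun y => by
    rw [(Set.range_eq_univ.mpr f.surjective), closure_univ]; trivial)⟩
  apply Groth.Agent.Lib.Helper10.NormalExt.full_of_extend
  intro Y₁ Y₂ ψ hψ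
  haveI : AlgebraicGeometry.Etale Y₂.hom := Y₂.prop.2
  haveI : AlgebraicGeometry.IsFinite Y₂.hom := Y₂.prop.1
  haveI : AlgebraicGeometry.IsFinite Y₁.hom := Y₁.prop.1
  let γ : CategoryTheory.Limits.pullback Y₁.hom f ⟶ CategoryTheory.Limits.pullback Y₁.hom Y₂.hom :=
    CategoryTheory.Limits.pullback.lift (CategoryTheory.Limits.pullback.fst Y₁.hom f)
      (ψ ≫ CategoryTheory.Limits.pullback.fst Y₂.hom f) (by
        rw [CategoryTheory.Category.assoc,
          CategoryTheory.Limits.pullback.condition (f := Y₂.hom) (g := f),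
          ← CategoryTheory.Category.assoc, hψ, CategoryTheory.Limits.pullback.condition])
  have hγ : γ ≫ CategoryTheory.Limits.pullback.fst Y₁.hom Y₂.hom =
      CategoryTheory.Limits.pullback.fst Y₁.hom f := CategoryTheory.Limits.pullback.lift_fst _ _ _
  have hγ2 : γ ≫ CategoryTheory.Limits.pullback.snd Y₁.hom Y₂.hom =
      ψ ≫ CategoryTheory.Limits.pullback.fst Y₂.hom f := CategoryTheory.Limits.pullback.lift_snd _ _ _
  have hs' : (CategoryTheory.Limits.pullback.lift γ (CategoryTheory.CategoryStruct.id _)
      (by rw [hγ, CategoryTheory.Category.id_comp]) :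
      CategoryTheory.Limits.pullback Y₁.hom f ⟶ CategoryTheory.Limits.pullback
        (CategoryTheory.Limits.pullback.fst Y₁.hom Y₂.hom)
        (CategoryTheory.Limits.pullback.fst Y₁.hom f)) ≫
      CategoryTheory.Limits.pullback.snd _ _ = CategoryTheory.CategoryStruct.id _ :=
    CategoryTheory.Limits.pullback.lift_snd _ _ _
  haveI hoi := Groth.Agent.Lib.Helper10.FEtGraph.isOpenImmersion_of_section _ _ hs'
  haveI hci : AlgebraicGeometry.IsClosedImmersion (CategoryTheory.Limits.pullback.lift γ
      (CategoryTheory.CategoryStruct.id _) (by rw [hγ, CategoryTheory.Category.id_comp]) :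
      CategoryTheory.Limits.pullback Y₁.hom f ⟶ CategoryTheory.Limits.pullback
        (CategoryTheory.Limits.pullback.fst Y₁.hom Y₂.hom)
        (CategoryTheory.Limits.pullback.fst Y₁.hom f)) := by
    haveI : AlgebraicGeometry.IsClosedImmersion ((CategoryTheory.Limits.pullback.lift γ
      (CategoryTheory.CategoryStruct.id _) (by rw [hγ, CategoryTheory.Category.id_comp]) :
      CategoryTheory.Limits.pullback Y₁.hom f ⟶ CategoryTheory.Limits.pullback
        (CategoryTheory.Limits.pullback.fst Y₁.hom Y₂.hom)
        (CategoryTheory.Limits.pullback.fst Y₁.hom f)) ≫ CategoryTheory.Limits.pullback.snd _ _) := by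
      rw [hs']; infer_instance
    exact AlgebraicGeometry.IsClosedImmersion.of_comp _ (CategoryTheory.Limits.pullback.snd _ _)
  have hclopen : IsClopen (Set.range
      (CategoryTheory.Limits.pullback.lift γ (CategoryTheory.CategoryStruct.id _)
        (by rw [hγ, CategoryTheory.Category.id_comp]) :
      CategoryTheory.Limits.pullback Y₁.hom f ⟶ CategoryTheory.Limits.pullback
        (CategoryTheory.Limits.pullback.fst Y₁.hom Y₂.hom)
        (CategoryTheory.Limits.pullback.fst Y₁.hom f))) :=
    ⟨(AlgebraicGeometry.Scheme.Hom.isClosedEmbedding _).isClosed_range,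
      (AlgebraicGeometry.Scheme.Hom.isOpenEmbedding _).isOpen_range⟩
  -- the big pullback square
  have hpb : CategoryTheory.IsPullback
      (CategoryTheory.Limits.pullback.fst (CategoryTheory.Limits.pullback.fst Y₁.hom Y₂.hom)
        (CategoryTheory.Limits.pullback.fst Y₁.hom f))
      (CategoryTheory.Limits.pullback.snd (CategoryTheory.Limits.pullback.fst Y₁.hom Y₂.hom)
        (CategoryTheory.Limits.pullback.fst Y₁.hom f) ≫ CategoryTheory.Limits.pullback.snd Y₁.hom f)
      (CategoryTheory.Limits.pullback.fst Y₁.hom Y₂.hom ≫ Y₁.hom) f :=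
    (CategoryTheory.IsPullback.of_hasPullback (CategoryTheory.Limits.pullback.fst Y₁.hom Y₂.hom)
      (CategoryTheory.Limits.pullback.fst Y₁.hom f)).paste_vert
      (CategoryTheory.IsPullback.of_hasPullback Y₁.hom f)
  have hfib : ∀ w, _root_.IsPreconnected ((CategoryTheory.Limits.pullback.fst
      (CategoryTheory.Limits.pullback.fst Y₁.hom Y₂.hom)
      (CategoryTheory.Limits.pullback.fst Y₁.hom f)) ⁻¹' {w}) := by
    intro w
    obtain ⟨j, hj1, hj2⟩ := Groth.Agent.Lib.Helper10.FEtConn.exists_geom_point
      (K := AlgebraicClosure k) (CategoryTheory.Limits.pullback.fst Y₁.hom Y₂.hom ≫ Y₁.hom) w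
    exact Groth.Agent.Lib.Helper10.FEtConn.isPreconnected_fiber f _ _ _ hpb w j hj1 hj2
  have hopenmap : IsOpenMap (CategoryTheory.Limits.pullback.fst
      (CategoryTheory.Limits.pullback.fst Y₁.hom Y₂.hom)
      (CategoryTheory.Limits.pullback.fst Y₁.hom f)) := by
    haveI : AlgebraicGeometry.UniversallyOpen f := inferInstance
    haveI : AlgebraicGeometry.UniversallyOpen (CategoryTheory.Limits.pullback.fst
      (CategoryTheory.Limits.pullback.fst Y₁.hom Y₂.hom)
      (CategoryTheory.Limits.pullback.fst Y₁.hom f)) :=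
      CategoryTheory.MorphismProperty.of_isPullback hpb.flip inferInstance
    exact AlgebraicGeometry.Scheme.Hom.isOpenMap _
  obtain ⟨σ, hσ1, hσ2⟩ := Groth.Agent.Lib.Helper10.FEtGraph.exists_section_of_opens Y₁.hom Y₂.hom
    (CategoryTheory.Limits.pullback.fst Y₁.hom f) γ hγ ⟨_, hopenmap _ hclopen.2⟩
    (Groth.Agent.Lib.Helper10.FEtConn.preimage_image_eq_of_isClopen _ hfib _ hclopen)
  refine ⟨σ ≫ CategoryTheory.Limits.pullback.snd Y₁.hom Y₂.hom, ?_, ?_⟩
  · rw [CategoryTheory.Category.assoc, ← CategoryTheory.Limits.pullback.condition,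
      ← CategoryTheory.Category.assoc, hσ1]
    exact CategoryTheory.Category.id_comp _
  · rw [← CategoryTheory.Category.assoc, hσ2, hγ2]

end Groth.Agent.S0268
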