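import Groth.Statements.S0271
import Mathlib
import Groth.Agent.Lib.Helper20.FQ6

set_option autoImplicit false
universe u
open Pi1

namespace Groth.Agent.S0271


open AlgebraicGeometry CategoryTheory CategoryTheory.Limits

open AlgebraicGeometry CategoryTheory CategoryTheory.Limits in
/-- Let a finite group G act on a ring R, let q be a prime of R with inertia subgroup I (elements acting
trivially modulo q). Then the ring of I-invariants is etale over the ring of G-invariants at the
prime below q: some principal localization of the I-invariants at an element outside that prime is
an etale algebra over the G-invariants. -/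
theorem result (G R : Type u) [Group G] [Finite G] [CommRing R] [MulSemiringAction G R]
    (q : Ideal R) [q.IsPrime] :
    ∃ g : FixedPoints.subring R (q.inertia G),
      g ∉ q.comap (FixedPoints.subring R (q.inertia G)).subtype ∧
      Algebra.Etale (FixedPoints.subring R G) (Localization.Away g) := by

  cases nonempty_fintype G
  obtain ⟨g, hg, het⟩ := Groth.Agent.Lib.Helper20.FQ.exists_etale_away_fixed G R q (q.inertia G) le_rfl
    (FixedPoints.subring R (q.inertia G)) (FixedPoints.subring R (q.inertia G)).subtype
    Subtype.val_injective
    (fun r => by
      constructor
      · rintro ⟨c', rfl⟩ i hi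
        exact c'.2 ⟨i, hi⟩
      · intro hr
        exact ⟨⟨r, fun i => hr i.1 i.2⟩, rfl⟩)
    (fun c => rfl)
  exact ⟨g, hg, het⟩

end Groth.Agent.S0271
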