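import Groth.Statements.S0284
import Groth.Agent.Lib.Helper24.FlcM

set_option autoImplicit false
universe u
open Pi1

namespace Groth.Agent.S0284

open Pi1


open AlgebraicGeometry CategoryTheory CategoryTheory.Limits in
/-- For any scheme X the category of finite etale covers of X has all finite limits and all finite
colimits. -/
theorem result (X : Scheme.{u}) : HasFiniteLimits (FEt.Cat X) ∧ HasFiniteColimits (FEt.Cat X) := by
  exact ⟨Groth.Agent.Lib.Helper24.Flc.hasFiniteLimits_fet, Groth.Agent.Lib.Helper24.Flc.hasFiniteColimits_fet⟩

end Groth.Agent.S0284
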