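import Groth.Statements.S0291
import Groth.Agent.Lib.Helper10.Hartogs

set_option autoImplicit false
universe u
open Pi1

namespace Groth.Agent.S0291

open AlgebraicGeometry CategoryTheory CategoryTheory.Limits in
/-- Let A be a Noetherian local ring and B a finite A-algebra such that the local rings of Spec B at all
closed points have depth at least 2. Then restriction from global sections of Spec B to sections
over the preimage of the punctured spectrum of A is an isomorphism. -/
theorem result (A B : Type u) [CommRing A] [IsNoetherianRing A] [IsLocalRing A] [CommRing B] [Algebra A B]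
    [Module.Finite A B]
    (h : ∀ (m : Ideal B) (_ : m.IsMaximal), (2 : ℕ∞) ≤ LocCoh.depth (Localization.AtPrime m) (Localization.AtPrime m)) :
    IsIso ((Spec (CommRingCat.of B)).presheaf.map (homOfLE (le_top :
      Spec.map (CommRingCat.ofHom (algebraMap A B)) ⁻¹ᵁ FEt.puncturedSpec A ≤ ⊤)).op) := by
  have hNB : IsNoetherianRing B := IsNoetherianRing.of_finite A B
  have hint : Algebra.IsIntegral A B := inferInstance
  obtain ⟨U, hUdef⟩ : ∃ U : (Spec (CommRingCat.of B)).Opens,
      U = Spec.map (CommRingCat.ofHom (algebraMap A B)) ⁻¹ᵁ FEt.puncturedSpec A := ⟨_, rfl⟩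
  have key : ∀ x : ↥(Spec (CommRingCat.of B)), x ∉ U →
      (2 : ℕ∞) ≤ LocCoh.depth ((Spec (CommRingCat.of B)).presheaf.stalk x)
        ((Spec (CommRingCat.of B)).presheaf.stalk x) := by
    intro x hx
    have hcl : (Spec.map (CommRingCat.ofHom (algebraMap A B))) x = IsLocalRing.closedPoint A := by
      rw [hUdef] at hx
      by_contra hne
      exact hx hne
    have hcomap : x.asIdeal.comap (algebraMap A B) = IsLocalRing.maximalIdeal A :=
      congrArg PrimeSpectrum.asIdeal hcl
    have hmax : x.asIdeal.IsMaximal := by
      apply Ideal.isMaximal_of_isIntegral_of_isMaximal_comap (R := A) x.asIdeal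
      rw [hcomap]
      infer_instance
    have h2 := h x.asIdeal hmax
    let k : Algebra B ((Spec (CommRingCat.of B)).presheaf.stalk x) :=
      StructureSheaf.stalkAlgebra B x
    have hloc : IsLocalization.AtPrime ((Spec (CommRingCat.of B)).presheaf.stalk x) x.asIdeal :=
      StructureSheaf.IsLocalization.to_stalk B x
    have hl1 : IsLocalizedModule x.asIdeal.primeCompl
        (Algebra.linearMap B ((Spec (CommRingCat.of B)).presheaf.stalk x)) :=
      (isLocalizedModule_iff_isLocalization' _ _).mpr hloc
    have hl2 : IsLocalizedModule x.asIdeal.primeCompl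
        (Algebra.linearMap B (Localization.AtPrime x.asIdeal)) :=
      (isLocalizedModule_iff_isLocalization' _ _).mpr inferInstance
    have e1 := Groth.Agent.Lib.Helper16.Depth.depth_eq_of_isLocalizedModule x.asIdeal B
      ((Spec (CommRingCat.of B)).presheaf.stalk x) ((Spec (CommRingCat.of B)).presheaf.stalk x)
      (Algebra.linearMap B ((Spec (CommRingCat.of B)).presheaf.stalk x))
    have e2 := Groth.Agent.Lib.Helper16.Depth.depth_eq_of_isLocalizedModule x.asIdeal B
      (Localization.AtPrime x.asIdeal) (Localization.AtPrime x.asIdeal)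
      (Algebra.linearMap B (Localization.AtPrime x.asIdeal))
    rw [e1, ← e2]
    exact h2
  have hbij := Groth.Agent.Lib.Helper10.Hartogs.ring_res_bijective U key ⊤
  have heq : ⊤ ⊓ U = U := top_inf_eq U
  have hcomp : (Spec (CommRingCat.of B)).presheaf.map (homOfLE (le_top : U ≤ ⊤)).op =
      (Spec (CommRingCat.of B)).presheaf.map (homOfLE (inf_le_left : ⊤ ⊓ U ≤ ⊤)).op ≫
        (Spec (CommRingCat.of B)).presheaf.map (eqToHom heq.symm).op := by
    rw [← Functor.map_comp]
    rfl
  have hiso1 : IsIso ((Spec (CommRingCat.of B)).presheaf.map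
      (homOfLE (inf_le_left : ⊤ ⊓ U ≤ ⊤)).op) :=
    (ConcreteCategory.isIso_iff_bijective _).mpr hbij
  have hiso2 : IsIso ((Spec (CommRingCat.of B)).presheaf.map (eqToHom heq.symm).op) := by
    rw [eqToHom_op, eqToHom_map]
    infer_instance
  subst hUdef
  rw [hcomp]
  exact IsIso.comp_isIso' hiso1 hiso2

end Groth.Agent.S0291
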