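import Groth.Statements.S0318
import Groth.Agent.Lib.Helper16.LocCohDepth

set_option autoImplicit false
universe u v
open LocCoh

namespace Groth.Agent.S0318

section helpers

open Groth.Agent.Lib.Helper16.LC

theorem result_aux (R : Type u) [CommRing R] [IsNoetherianRing R] (I : Ideal R) (M : Type u) [AddCommGroup M] [Module R M] [Module.Finite R M] (hIM : I • (⊤ : Submodule R M) ≠ ⊤) (n : ℕ) : LocCoh.idealDepth I M = n ↔ ((∀ i : ℕ, i < n → Subsingleton (LocCoh.H I i M)) ∧ Nontrivial (LocCoh.H I n M)) := by
  constructor
  · intro h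
    exact ⟨fun i hi => subsingleton_H_of_lt_idealDepth I M hIM n h.ge i hi,
      nontrivial_H_of_idealDepth_eq I M hIM n h⟩
  · rintro ⟨h1, h2⟩
    -- depth ≤ n
    have hle : LocCoh.idealDepth I M ≤ n := by
      by_contra hgt
      rw [not_le] at hgt
      have h3 : ((n + 1 : ℕ) : ℕ∞) ≤ LocCoh.idealDepth I M := by
        have := Order.add_one_le_of_lt hgt
        exact_mod_cast this
      have := subsingleton_H_of_lt_idealDepth I M hIM (n + 1) h3 n (Nat.lt_succ_self n)
      exact not_subsingleton _ this
    -- depth is a natural number m ≤ n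
    obtain ⟨m, hm⟩ : ∃ m : ℕ, LocCoh.idealDepth I M = m := by
      have hne : LocCoh.idealDepth I M ≠ ⊤ := by
        intro htop
        rw [htop] at hle
        exact absurd hle (by simp)
      exact ⟨(LocCoh.idealDepth I M).toNat, (ENat.natCast_toNat hne).symm⟩
    rw [hm] at hle ⊢
    have hmn : m ≤ n := by exact_mod_cast hle
    rcases Nat.lt_or_ge m n with hlt | hge
    · have h4 := nontrivial_H_of_idealDepth_eq I M hIM m hm
      have h5 := h1 m hlt
      exact absurd h5 (not_subsingleton _)
    · have : m = n := le_antisymm hmn hge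
      rw [this]

end helpers

/-- Part (1): =(3): for a finite module M over a Noetherian ring and an ideal I with IM ≠ M, the I-depth
of M is the least degree in which the local cohomology of M with support in I is nonzero. -/
theorem result (R : Type u) [CommRing R] [IsNoetherianRing R] (I : Ideal R) (M : Type u) [AddCommGroup M] [Module R M] [Module.Finite R M] (hIM : I • (⊤ : Submodule R M) ≠ ⊤) (n : ℕ) : LocCoh.idealDepth I M = n ↔ ((∀ i : ℕ, i < n → Subsingleton (LocCoh.H I i M)) ∧ Nontrivial (LocCoh.H I n M)) := by
  exact result_aux R I M hIM n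

end Groth.Agent.S0318
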