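import Groth.Statements.S0329
import Groth.Agent.Lib.Helper16.LocCohFaltings

set_option autoImplicit false
universe u v
open LocCoh

namespace Groth.Agent.S0329

section helpers
open LocCoh

theorem result_aux (R : Type u) [CommRing R] [IsNoetherianRing R] (I : Ideal R) (M : Type u) [AddCommGroup M] [Module R M] [Module.Finite R M] (n : ℕ) : (∀ i : ℕ, i ≤ n → Module.Finite R (LocCoh.H I i M)) ↔ ∃ J : Ideal R, I ≤ J.radical ∧ ∀ i : ℕ, i ≤ n → ∀ a ∈ J, ∀ x : LocCoh.H I i M, a • x = 0 := by
  open Groth.Agent.Lib.Helper16.LC in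
  constructor
  · intro hfin
    have hex : ∀ i : ℕ, i ≤ n → ∃ k : ℕ, ∀ a ∈ I ^ k, ∀ z : LocCoh.H I i M, a • z = 0 :=
      fun i hi => exists_pow_kills_of_finite I i M (hfin i hi)
    have hK : ∃ K : ℕ, ∀ i : ℕ, i ≤ n → ∀ a ∈ I ^ K, ∀ z : LocCoh.H I i M, a • z = 0 := by
      clear hfin
      induction n with
      | zero =>
        obtain ⟨k, hk⟩ := hex 0 le_rfl
        refine ⟨k, fun i hi => ?_⟩
        obtain rfl : i = 0 := by omega
        exact hk
      | succ n ih =>
        obtain ⟨K, hK⟩ := ih (fun i hi => hex i (by omega))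
        obtain ⟨k, hk⟩ := hex (n + 1) le_rfl
        refine ⟨K + k, fun i hi a ha z => ?_⟩
        rcases Nat.lt_or_ge i (n + 1) with h | h
        · exact hK i (by omega) a (Ideal.pow_le_pow_right (Nat.le_add_right K k) ha) z
        · obtain rfl : i = n + 1 := by omega
          exact hk a (Ideal.pow_le_pow_right (Nat.le_add_left k K) ha) z
    obtain ⟨K, hK⟩ := hK
    refine ⟨I ^ (K + 1), ?_, fun i hi a ha z => ?_⟩
    · rw [Ideal.radical_pow I (Nat.succ_ne_zero K)]
      exact Ideal.le_radical
    · exact hK i hi a (Ideal.pow_le_pow_right (Nat.le_succ K) ha) z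
  · rintro ⟨J, hIJ, hJ⟩
    obtain ⟨c, hc⟩ := Ideal.exists_pow_le_of_le_radical_of_fg hIJ (IsNoetherian.noetherian I)
    exact finite_H_of_pow_kills I n M c (fun i hi a ha z => hJ i hi a (hc ha) z)

end helpers

/-- Part (1): ⇔(2) with T = V(I) (Faltings): for a finite module M over a Noetherian ring, the local
cohomology modules H^i_I(M) for i ≤ n are all finitely generated exactly when some ideal J with I
contained in the radical of J kills all of them. -/
theorem result (R : Type u) [CommRing R] [IsNoetherianRing R] (I : Ideal R) (M : Type u) [AddCommGroup M] [Module R M] [Module.Finite R M] (n : ℕ) : (∀ i : ℕ, i ≤ n → Module.Finite R (LocCoh.H I i M)) ↔ ∃ J : Ideal R, I ≤ J.radical ∧ ∀ i : ℕ, i ≤ n → ∀ a ∈ J, ∀ x : LocCoh.H I i M, a • x = 0 := by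
  exact result_aux R I M n

end Groth.Agent.S0329
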