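import Groth.Statements.S16368
import Mathlib
import Groth.Agent.Lib.Helper1.FrobFitt
import Groth.Agent.Helper19.FittLib4

set_option autoImplicit false
universe u v
open TensorProduct
open FrobAlg

namespace Groth.Agent.S16368
open Groth.Agent.Lib.Helper1.FrobFitt Groth.Agent.Helper19.FittLib

/-- Let R be a local ring of prime characteristic p and M a finitely presented R-module. Write R' for R
regarded as an R-algebra through its Frobenius a ↦ a^p, so that R' ⊗_R M is the pull-back of M along
the absolute Frobenius of Spec R, an R'-module. If this pull-back is isomorphic to M — there is a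
bijective map e : R' ⊗_R M → M, additive and semilinear for the identification R' = R — then M is
free. -/
theorem result
    (p : ℕ) [Fact p.Prime] (R : Type u) [CommRing R] [IsLocalRing R] [CharP R p]
    (M : Type v) [AddCommGroup M] [Module R M] [Module.FinitePresentation R M]
    (e : (FrobAlg.Twist p R ⊗[R] M) →ₛₗ[((FrobAlg.toTwist p R).symm : FrobAlg.Twist p R →+* R)] M)
    (he : Function.Bijective e) :
    Module.Free R M := by
  classical
  haveI : Module.Finite R M := inferInstance
  refine free_of_ideal_eq_bot_or_top R M fun k => ?_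
  refine eq_bot_or_eq_top_of_map_frobenius p _ (ideal_fg k) ?_
  let τ : R →+* FrobAlg.Twist p R := (FrobAlg.toTwist p R : R →+* FrobAlg.Twist p R)
  let σ : FrobAlg.Twist p R →+* R := ((FrobAlg.toTwist p R).symm : FrobAlg.Twist p R →+* R)
  haveI i1 : RingHomInvPair σ τ := ⟨by ext x; simp [σ, τ], by ext x; simp [σ, τ]⟩
  haveI i2 : RingHomInvPair τ σ := ⟨by ext x; simp [σ, τ], by ext x; simp [σ, τ]⟩
  let E : (FrobAlg.Twist p R ⊗[R] M) ≃ₛₗ[σ] M := LinearEquiv.ofBijective e he
  have h1 : (Fitt.ideal (FrobAlg.Twist p R) (FrobAlg.Twist p R ⊗[R] M) k).map σ ≤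
      Fitt.ideal R M k := map_ideal_le_of_surjective σ e he.2 k
  have h2 : (Fitt.ideal R M k).map τ ≤
      Fitt.ideal (FrobAlg.Twist p R) (FrobAlg.Twist p R ⊗[R] M) k :=
    map_ideal_le_of_surjective τ E.symm.toLinearMap E.symm.surjective k
  have h3 : Fitt.ideal R M k =
      (Fitt.ideal (FrobAlg.Twist p R) (FrobAlg.Twist p R ⊗[R] M) k).map σ := by
    refine le_antisymm ?_ h1
    have := Ideal.map_mono (f := σ) h2
    rwa [Ideal.map_map, RingHomInvPair.comp_eq₂, Ideal.map_id] at this
  have h4 : σ.comp (algebraMap R (FrobAlg.Twist p R)) = frobenius R p := by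
    ext x
    simp [σ, FrobAlg.algebraMap_twist, frobenius_def]
  rw [ideal_baseChange, Ideal.map_map, h4] at h3
  exact h3

end Groth.Agent.S16368
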