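import Groth.Statements.S0337
import Mathlib
import Groth.Agent.S16368

set_option autoImplicit false
universe u v
open CategoryTheory
open LocCoh

namespace Groth.Agent.S0337
open TensorProduct
set_option backward.isDefEq.respectTransparency false in

/-- Over a Noetherian local ring of prime characteristic p, a finite module isomorphic to its own base
change along Frobenius is free. -/
theorem result (p : ℕ) [Fact p.Prime] (R : Type u) [CommRing R] [IsLocalRing R] [IsNoetherianRing R] [CharP R p] (M : Type u) [AddCommGroup M] [Module R M] [Module.Finite R M] (h : Nonempty ((ModuleCat.extendScalars (frobenius R p)).obj (ModuleCat.of R M) ≅ ModuleCat.of R M)) : Module.Free R M := by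
  obtain ⟨φ⟩ := h
  haveI : Module.FinitePresentation R M := Module.finitePresentation_of_finite R M
  let X := (ModuleCat.restrictScalars (frobenius R p)).obj (ModuleCat.of R R)
  let e0 : FrobAlg.Twist p R ≃ₗ[R] X :=
    { toFun := fun x => ((FrobAlg.toTwist p R).symm x : R)
      invFun := fun x => FrobAlg.toTwist p R (x : R)
      left_inv := fun x => by simp
      right_inv := fun x => by simp
      map_add' := fun x y => map_add (FrobAlg.toTwist p R).symm x y
      map_smul' := fun r x => by
        rw [Algebra.smul_def, FrobAlg.algebraMap_twist, map_mul, RingEquiv.symm_apply_apply]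
        rfl }
  let E1 : FrobAlg.Twist p R ⊗[R] M ≃ₗ[R] TensorProduct R X M :=
    TensorProduct.congr e0 (LinearEquiv.refl R M)
  let c : TensorProduct R X M →+ ((ModuleCat.extendScalars (frobenius R p)).obj (ModuleCat.of R M)) :=
    { toFun := fun x => x
      map_zero' := rfl
      map_add' := fun _ _ => rfl }
  have hc : Function.Bijective c := ⟨fun a b h => h, fun y => ⟨y, rfl⟩⟩
  let φh : ((ModuleCat.extendScalars (frobenius R p)).obj (ModuleCat.of R M)) →ₗ[R] M := φ.hom.hom
  have hφ : Function.Bijective φh := (ConcreteCategory.bijective_of_isIso φ.hom)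
  have hsm : ∀ (a b : R) (m : M), c ((a * b : R) ⊗ₜ[R] m : TensorProduct R X M) =
      a • c ((b : R) ⊗ₜ[R] m : TensorProduct R X M) := fun a b m => rfl
  let e : (FrobAlg.Twist p R ⊗[R] M) →ₛₗ[((FrobAlg.toTwist p R).symm : FrobAlg.Twist p R →+* R)] M :=
    { toFun := fun x => φh (c (E1 x))
      map_add' := fun x y => by rw [map_add, map_add, map_add]
      map_smul' := fun t x => by
        induction x using TensorProduct.induction_on with
        | zero => simp
        | tmul s m =>
          rw [TensorProduct.smul_tmul', smul_eq_mul]
          change φh (c (((FrobAlg.toTwist p R).symm (t * s) : R) ⊗ₜ[R] m : TensorProduct R X M)) = _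
          rw [map_mul, hsm, map_smul]
          rfl
        | add a b ha hb =>
          rw [smul_add, map_add, map_add, map_add, ha, hb, map_add, map_add, map_add, smul_add] }
  refine Groth.Agent.S16368.result p R M e ⟨?_, ?_⟩
  · intro a b hab
    exact E1.injective (hc.1 (hφ.1 hab))
  · intro m
    obtain ⟨y, hy⟩ := hφ.2 m
    obtain ⟨z, hz⟩ := hc.2 y
    obtain ⟨x, hx⟩ := E1.surjective z
    exact ⟨x, by change φh (c (E1 x)) = m; rw [hx, hz, hy]⟩

end Groth.Agent.S0337
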