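import Groth.Statements.S0342
import Mathlib
import Groth.Agent.Lib.Helper11.Bass
import Groth.Agent.Lib.Helper4.RegularGlobalDim
import Groth.Agent.Lib.Helper18.SerreReg2

set_option autoImplicit false
universe u v
open Goren

namespace Groth.Agent.S0342

/-- Regular local rings have finite injective dimension over themselves, i.e. are Gorenstein. -/
theorem result (A : Type u) [CommRing A] [IsRegularLocalRing A] : LocCoh.IsGorensteinLocalRing A := by
  obtain ⟨d, hd⟩ := Groth.Agent.Lib.Helper18.SerreReg.exists_ringKrullDim_eq_nat A
  have hk : CategoryTheory.HasProjectiveDimensionLT (ModuleCat.of A (IsLocalRing.ResidueField A)) (d + 1) := by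
    rw [← CategoryTheory.projectiveDimension_lt_iff,
      Groth.Agent.Lib.Helper4.projectiveDimension_residueField_of_isRegularLocalRing A d hd]
    exact_mod_cast Nat.lt_succ_self d
  exact { exists_hasInjectiveDimensionLT := ⟨d + 1 + 1,
      Groth.Agent.Lib.Helper11.Bass.hasInjectiveDimensionLT_of_residueField
        (ModuleCat.of A A) (d + 1) fun i hi =>
          CategoryTheory.HasProjectiveDimensionLT.subsingleton _ (d + 1) i hi _⟩ }

end Groth.Agent.S0342
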