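import Groth.Statements.S0347
import Mathlib
import Groth.Agent.Lib.Helper18.GrpShear

set_option autoImplicit false
universe u v
open CategoryTheory MonoidalCategory CartesianMonoidalCategory MonObj GrpObj AlgebraicGeometry
open GrpSch

namespace Groth.Agent.S0347

/-- The multiplication map of a group scheme over a field is an open map of topological spaces. -/
theorem result (K : Type u) [Field K] (G : Over (Spec (CommRingCat.of K))) [GrpObj G] : IsOpenMap (μ[G].left : (G ⊗ G).left ⟶ G.left) := by
  have hμ : μ[G] = (Groth.Agent.Lib.Helper18.GrpShear.shear G).hom ≫ snd G G := by simp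
  have h1 : UniversallyOpen G.hom := inferInstance
  have h2 : UniversallyOpen (snd G G).left := by
    dsimp
    infer_instance
  have h3 : IsOpenMap ((Groth.Agent.Lib.Helper18.GrpShear.shear G).hom.left) :=
    (Scheme.Hom.isOpenMap _)
  rw [hμ, Over.comp_left]
  exact ((snd G G).left.isOpenMap).comp h3

end Groth.Agent.S0347
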