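import Groth.Statements.S0348
import Groth.Agent.Lib.Helper10.IdComp6

set_option autoImplicit false
universe u v
open CategoryTheory MonoidalCategory CartesianMonoidalCategory MonObj GrpObj AlgebraicGeometry
open GrpSch

namespace Groth.Agent.S0348

/-- A connected group scheme over a field is irreducible. -/
theorem result (K : Type u) [Field K] (G : Over (Spec (CommRingCat.of K))) [GrpObj G] [ConnectedSpace G.left] : IrreducibleSpace G.left := by
  obtain ⟨pt⟩ : Nonempty ↥(𝟙_ (Over (Spec (CommRingCat.of K)))).left :=
    inferInstanceAs (Nonempty (PrimeSpectrum K))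
  have h := (Groth.Agent.Lib.Helper10.IdComp.connectedComponent_unit_irreducible_compact K G pt).1
  have h2 : connectedComponent (η[G].left pt) = Set.univ :=
    PreconnectedSpace.connectedComponent_eq_univ _
  rw [h2] at h
  exact (irreducibleSpace_def _).mpr h

end Groth.Agent.S0348
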