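import Groth.Statements.S0349
import Groth.Agent.Lib.Helper10.GrpTranslate

set_option autoImplicit false
universe u v
open CategoryTheory MonoidalCategory CartesianMonoidalCategory MonObj GrpObj AlgebraicGeometry
open GrpSch

namespace Groth.Agent.S0349

open Groth.Agent.Lib.Helper10.GrpTranslate CategoryTheory.Limits in
theorem aux (K : Type u) [Field K] (G : Over (Spec (CommRingCat.of K))) [GrpObj G]
    [IrreducibleSpace G.left] : CompactSpace G.left := by
  obtain ⟨x₀⟩ : Nonempty G.left := inferInstance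
  obtain ⟨(U₀ : G.left.Opens), hU₀, hx₀, -⟩ :=
    TopologicalSpace.Opens.isBasis_iff_nbhd.mp G.left.isBasis_affineOpens
      (TopologicalSpace.Opens.mem_top x₀)
  haveI : IsAffine U₀.toScheme := hU₀
  -- the compact set `U₀ × U₀`
  let j : pullback (U₀.ι ≫ G.hom) (U₀.ι ≫ G.hom) ⟶ pullback G.hom G.hom :=
    pullback.map (U₀.ι ≫ G.hom) (U₀.ι ≫ G.hom) G.hom G.hom U₀.ι U₀.ι (𝟙 _)
      (Category.comp_id _) (Category.comp_id _)
  have hj : Set.range j = (fst G G).left ⁻¹' (U₀ : Set G.left) ∩
      (snd G G).left ⁻¹' (U₀ : Set G.left) := by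
    have h1 := Scheme.Pullback.range_map (U₀.ι ≫ G.hom) (U₀.ι ≫ G.hom) G.hom G.hom U₀.ι U₀.ι
      (𝟙 _) (Category.comp_id _) (Category.comp_id _)
    rw [Scheme.Opens.range_ι] at h1
    exact h1
  have hA : IsCompact (Set.range j) := isCompact_range j.continuous
  rw [hj] at hA
  refine ⟨?_⟩
  have hsurj : (μ[G]).left '' ((fst G G).left ⁻¹' (U₀ : Set G.left) ∩
      (snd G G).left ⁻¹' (U₀ : Set G.left)) = Set.univ := by
    rw [Set.eq_univ_iff_forall]
    intro g
    let T : Over (Spec (CommRingCat.of K)) := Over.mk (G.left.fromSpecResidueField g ≫ G.hom)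
    let zt : T ⟶ G := Over.homMk (G.left.fromSpecResidueField g) rfl
    have hzt : ∀ t : T.left, zt.left t = g := by
      intro t
      have h1 : zt.left t ∈ Set.range (G.left.fromSpecResidueField g) := ⟨t, rfl⟩
      rw [Scheme.range_fromSpecResidueField] at h1
      exact h1
    obtain ⟨t⟩ : Nonempty T.left :=
      (inferInstance : Nonempty (PrimeSpectrum (G.left.residueField g)))
    have hVo : IsOpen ((ι[G]).left ⁻¹' (U₀ : Set G.left)) := U₀.2.preimage (ι[G]).left.continuous
    have hWo := isOpen_translate zt _ hVo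
    have hinv : (ι[G]).left ((ι[G]).left x₀) = x₀ := by
      have h1 : ι[G] ≫ ι[G] = 𝟙 G := GrpObj.inv_comp_inv G
      exact congrArg (fun f => f.left x₀) h1
    have hWne : ((snd T G).left '' ((transl zt).left ''
        ((snd T G).left ⁻¹' ((ι[G]).left ⁻¹' (U₀ : Set G.left))))).Nonempty := by
      obtain ⟨w, -, hw⟩ := Scheme.Pullback.exists_preimage_pullback (f := T.hom) (g := G.hom)
        t ((ι[G]).left x₀) (Subsingleton.elim (α := PrimeSpectrum K) _ _)
      refine ⟨_, ⟨_, ⟨w, ?_, rfl⟩, rfl⟩⟩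
      change (ι[G]).left ((snd T G).left w) ∈ (U₀ : Set G.left)
      have h2 : (snd T G).left w = (ι[G]).left x₀ := hw
      rw [h2, hinv]
      exact hx₀
    obtain ⟨u, huU, ⟨_, ⟨w, hwV, rfl⟩, rfl⟩⟩ :=
      nonempty_preirreducible_inter U₀.2 hWo ⟨x₀, hx₀⟩ hWne
    let φ : T ⊗ G ⟶ G ⊗ G := lift ((fst T G ≫ zt) * snd T G) (snd T G)⁻¹
    have hφ : φ ≫ μ[G] = fst T G ≫ zt := by
      rw [← Hom.mul_def]
      group
    refine ⟨φ.left w, ⟨?_, ?_⟩, ?_⟩
    · change (φ ≫ fst G G).left w ∈ (U₀ : Set G.left)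
      rw [lift_fst, ← transl_snd]
      exact huU
    · change (φ ≫ snd G G).left w ∈ (U₀ : Set G.left)
      rw [lift_snd]
      exact hwV
    · have h1 := congrArg (fun f => f.left w) hφ
      exact h1.trans (hzt _)
  rw [← hsurj]
  exact hA.image (μ[G]).left.continuous

/-- An irreducible group scheme over a field is quasi-compact. -/
theorem result (K : Type u) [Field K] (G : Over (Spec (CommRingCat.of K))) [GrpObj G] [IrreducibleSpace G.left] : CompactSpace G.left := by
  exact aux K G

end Groth.Agent.S0349
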