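import Groth.Statements.S0350
import Groth.Agent.Lib.Helper10.IdComp2

set_option autoImplicit false
universe u v
open CategoryTheory MonoidalCategory CartesianMonoidalCategory MonObj GrpObj AlgebraicGeometry
open GrpSch

namespace Groth.Agent.S0350

open Groth.Agent.Lib.Helper10.IdComp in
theorem aux_minimalPrimes {X : Scheme.{u}} (x : X) (h : UniqueComp x) :
    (minimalPrimes (X.presheaf.stalk x)).Subsingleton := by
  have hC : irreducibleComponent x ∈ irreducibleComponents ↥X :=
    irreducibleComponent_mem_irreducibleComponents x
  obtain ⟨ξ, hξ⟩ := QuasiSober.sober hC.1 (isClosed_irreducibleComponent (x := x))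
  have hξx : ξ ⤳ x := hξ.specializes mem_irreducibleComponent
  have hξr : ξ ∈ Set.range (X.fromSpecStalk x) := by
    rw [Scheme.range_fromSpecStalk]; exact hξx
  obtain ⟨Q₀, hQ⟩ := hξr
  let Q : PrimeSpectrum (X.presheaf.stalk x) := Q₀
  have key : ∀ p ∈ minimalPrimes (X.presheaf.stalk x), p = Q.asIdeal := by
    intro p hp
    haveI : p.IsPrime := hp.1.1
    let P : PrimeSpectrum (X.presheaf.stalk x) := ⟨p, inferInstance⟩
    have hy : X.fromSpecStalk x P ⤳ x := by
      have : X.fromSpecStalk x P ∈ Set.range (X.fromSpecStalk x) := ⟨P, rfl⟩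
      rw [Scheme.range_fromSpecStalk] at this; exact this
    have hyC : X.fromSpecStalk x P ∈ irreducibleComponent x :=
      h.subset_irreducibleComponent (isIrreducible_singleton.closure)
        (specializes_iff_mem_closure.mp hy) (subset_closure rfl)
    have h1 : ξ ⤳ X.fromSpecStalk x P := hξ.specializes hyC
    rw [← hQ] at h1
    have h2 : Q₀ ⤳ P := (X.fromSpecStalk x).isEmbedding.isInducing.specializes_iff.mp h1
    have h3 : Q.asIdeal ≤ p := (PrimeSpectrum.le_iff_specializes Q P).mpr h2
    exact le_antisymm (hp.2 ⟨Q.isPrime, bot_le⟩ h3) h3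
  intro p hp q hq
  rw [key p hp, key q hq]

/-- Let G be a group scheme over a field K. Then for every point x of G the local ring O_{G,x} has at
most one (hence exactly one) minimal prime, and there is exactly one irreducible component of G
passing through the identity point. The published statement also asserts that this component is
geometrically irreducible, which is not asserted here. -/
theorem result (K : Type u) [Field K] (G : Over (Spec (CommRingCat.of K))) [GrpObj G] : (∀ x : G.left, (minimalPrimes (G.left.presheaf.stalk x)).Subsingleton) ∧ ∃! Z : Set G.left, Z ∈ irreducibleComponents (G.left : Type u) ∧ η[G].left (IsLocalRing.closedPoint K) ∈ Z := by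
  refine ⟨fun x => aux_minimalPrimes x (Groth.Agent.Lib.Helper10.IdComp.uniqueComp K G x), ?_⟩
  refine ⟨irreducibleComponent (η[G].left (IsLocalRing.closedPoint K)),
    ⟨irreducibleComponent_mem_irreducibleComponents _, mem_irreducibleComponent⟩, ?_⟩
  rintro Z ⟨hZ, hx⟩
  exact (Groth.Agent.Lib.Helper10.IdComp.uniqueComp K G _).eq_irreducibleComponent hZ hx

end Groth.Agent.S0350
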