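import Groth.Statements.S0352
import Groth.Agent.Lib.Helper10.GrpTranslate

set_option autoImplicit false
universe u v
open CategoryTheory MonoidalCategory CartesianMonoidalCategory MonObj GrpObj AlgebraicGeometry
open GrpSch

namespace Groth.Agent.S0352

/-- If the image of a homomorphism of group schemes over a field is open, it is also closed. -/
theorem result (K : Type u) [Field K] (H G : Over (Spec (CommRingCat.of K))) [GrpObj H] [GrpObj G] (ψ : H ⟶ G) [IsMonHom ψ] (h : IsOpen (Set.range ψ.left)) : IsClosed (Set.range ψ.left) := by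
  rw [← isOpen_compl_iff, isOpen_iff_forall_mem_open]
  intro z hz
  let T : Over (Spec (CommRingCat.of K)) := Over.mk (G.left.fromSpecResidueField z ≫ G.hom)
  let zt : T ⟶ G := Over.homMk (G.left.fromSpecResidueField z) rfl
  have hzt : ∀ t : T.left, zt.left t = z := by
    intro t
    have h1 : zt.left t ∈ Set.range (G.left.fromSpecResidueField z) := ⟨t, rfl⟩
    rw [Scheme.range_fromSpecResidueField] at h1
    exact h1
  refine ⟨Set.range (Groth.Agent.Lib.Helper10.GrpTranslate.translMap ψ zt).left, ?_,
    Groth.Agent.Lib.Helper10.GrpTranslate.isOpen_range_translMap ψ h zt, ?_⟩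
  · rintro _ ⟨w, rfl⟩ hw
    obtain ⟨t, ht⟩ :=
      Groth.Agent.Lib.Helper10.GrpTranslate.exists_mem_range_of_translMap ψ zt w hw
    rw [hzt t] at ht
    exact hz ht
  · obtain ⟨t⟩ : Nonempty T.left :=
      (inferInstance : Nonempty (PrimeSpectrum (G.left.residueField z)))
    let s : T ⟶ T ⊗ H := lift (𝟙 T) (toUnit T ≫ η[H])
    have hs : s ≫ Groth.Agent.Lib.Helper10.GrpTranslate.translMap ψ zt = zt := by
      change s ≫ ((fst T H ≫ zt) * (snd T H ≫ ψ)) = zt
      rw [MonObj.comp_mul, ← Category.assoc, ← Category.assoc, lift_fst, lift_snd,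
        Category.id_comp, Category.assoc, IsMonHom.one_hom, ← Hom.one_def, _root_.mul_one]
    refine ⟨s.left t, ?_⟩
    have h1 := congrArg (fun f => f.left t) hs
    exact h1.trans (hzt t)

end Groth.Agent.S0352
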