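import Groth.Statements.S0356
import Groth.Agent.Lib.Helper5.CechOpenHom
import Groth.Agent.Lib.Helper5.TildeFlasque
import Groth.Agent.Lib.Helper5.ExtCechLC

set_option autoImplicit false
universe u v
open CategoryTheory AlgebraicGeometry
open LocCoh

namespace Groth.Agent.S0356

open AlgebraicGeometry TopologicalSpace in
/-- the punctured open is the union of the basic opens of generators -/
lemma puncturedOpen_eq_UL (R : Type u) [CommRing R] (gs : List R) :
    LocCoh.puncturedOpen R (Ideal.span {x | x ∈ gs}) =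
      Groth.Agent.Lib.Helper5.QcqsClosed.UL (Spec (CommRingCat.of R))
        (gs.map (Groth.Agent.Lib.Helper5.TildeFlasque.φ R)) := by
  apply Opens.ext
  apply Set.ext
  intro x
  have key : ∀ x : PrimeSpectrum R,
      x ∈ (PrimeSpectrum.zeroLocus (R := R) ((Ideal.span {x | x ∈ gs} : Ideal R) : Set R))ᶜ ↔
        ∃ g ∈ gs, x ∈ (PrimeSpectrum.basicOpen g : Opens (PrimeSpectrum R)) := by
    intro x
    rw [PrimeSpectrum.zeroLocus_span, Set.mem_compl_iff, PrimeSpectrum.mem_zeroLocus,
      Set.not_subset]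
    constructor
    · rintro ⟨g, hg, hgx⟩
      exact ⟨g, hg, hgx⟩
    · rintro ⟨g, hg, hgx⟩
      exact ⟨g, hg, hgx⟩
  rw [SetLike.mem_coe, SetLike.mem_coe, Groth.Agent.Lib.Helper5.QcqsClosed.mem_UL]
  constructor
  · intro hx
    obtain ⟨g, hg, hgx⟩ := (key x).1 hx
    refine ⟨_, List.mem_map_of_mem hg, ?_⟩
    rw [Groth.Agent.Lib.Helper5.TildeFlasque.basicOpen_φ]
    exact hgx
  · rintro ⟨g', hg', hgx⟩
    obtain ⟨g, hg, rfl⟩ := List.mem_map.1 hg'
    rw [Groth.Agent.Lib.Helper5.TildeFlasque.basicOpen_φ] at hgx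
    exact (key x).2 ⟨g, hg, hgx⟩

/-- Let R be a Noetherian ring, I an ideal, M an R-module and U = Spec R ∖ V(I) the punctured open. For
every p ≥ 1, the cohomology group H^p(U, M̃|_U) of the restriction to U of the quasi-coherent sheaf
associated with M is isomorphic to the local cohomology H^(p+1)_I(M). (The published statement also
gives a four-term exact sequence in low degrees, which is not stated here; here R is Noetherian.) -/
theorem result (R : Type u) [CommRing R] [IsNoetherianRing R] (I : Ideal R) (M : Type u) [AddCommGroup M] [Module R M] (p : ℕ) (hp : 1 ≤ p) : Nonempty (Coh.HH (↑(LocCoh.puncturedOpen R I)) ((AlgebraicGeometry.tilde (R := CommRingCat.of R) (ModuleCat.of R M)).restrict (LocCoh.puncturedOpen R I).ι) p ≃+ LocCoh.H I (p + 1) M) := by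
  obtain ⟨n, rfl⟩ : ∃ n, p = n + 1 := ⟨p - 1, by omega⟩
  obtain ⟨s, hs⟩ := (isNoetherianRing_iff_ideal_fg R).1 ‹_› I
  have hI : Ideal.span {x | x ∈ (0 :: s.toList)} = I := by
    rw [← hs]
    apply le_antisymm
    · rw [Ideal.span_le]
      intro x hx
      rcases List.mem_cons.1 hx with rfl | hx
      · exact Ideal.zero_mem _
      · exact Ideal.subset_span (Finset.mem_toList.1 hx)
    · rw [Ideal.span_le]
      intro x hx
      exact Ideal.subset_span (List.mem_cons_of_mem _ (Finset.mem_toList.2 hx))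
  have hU := puncturedOpen_eq_UL R (0 :: s.toList)
  rw [hI] at hU
  have haff : ∀ f ∈ (0 : R) :: s.toList, AlgebraicGeometry.IsAffineOpen
      ((AlgebraicGeometry.Spec (CommRingCat.of R)).basicOpen
        (Groth.Agent.Lib.Helper5.TildeFlasque.φ R f)) := fun f _ =>
    (AlgebraicGeometry.isAffineOpen_top (AlgebraicGeometry.Spec (CommRingCat.of R))).basicOpen _
  obtain ⟨e⟩ := Groth.Agent.Lib.Helper5.CechOpenHom.HHon_iso_Hqφ
    (Groth.Agent.Lib.Helper5.TildeFlasque.φ R) 0 s.toList haff
    (AlgebraicGeometry.tilde (R := CommRingCat.of R) (ModuleCat.of R M)) (ModuleCat.of R M)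
    (Groth.Agent.Lib.Helper5.TildeFlasque.r₀ R M)
    (Groth.Agent.Lib.Helper5.TildeFlasque.r₀_bijective R M) _ hU n
  obtain ⟨e2⟩ := Groth.Agent.Lib.Helper5.ExtCechH0.nonempty_extCechH_iso_localCohomology
    (0 :: s.toList) (ModuleCat.of R M) (n + 1 + 1)
  rw [hI] at e2
  have j := Groth.Agent.Lib.Helper5.KoszulSections.hqIso (0 :: s.toList)
    (ModuleCat.of R M) (n + 1 + 1) ((n : ℤ) + 2) (by push_cast; ring)
  exact ⟨e.trans (j.symm ≪≫ e2).toLinearEquiv.toAddEquiv⟩

end Groth.Agent.S0356
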