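import Groth.Statements.S0369
import Groth.Agent.Lib.Helper13.DualMod2
import Groth.Agent.Lib.Helper13.DualBC27
import Groth.Agent.Lib.Helper18.CM2

set_option autoImplicit false
universe u v
open CategoryTheory
attribute [local instance] HasDerivedCategory.standard
open Dual

namespace Groth.Agent.S0369

/-- For a Noetherian local ring of dimension d with normalized dualizing complex ω, the module ω_A =
H^{−d}(ω) has support equal to the union of those irreducible components of Spec A whose dimension
is d, and satisfies Serre's condition (S_2). -/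
theorem result (A : Type u) [CommRing A] [IsLocalRing A] [IsNoetherianRing A] (ω : Dual.D A) (hω : Dual.IsDualizing A ω) (hn : Dual.IsNormalized A ω) (d : ℕ) (hd : ringKrullDim A = d) : Module.support A (Dual.HD A ω (-(d : ℤ))) = {p : PrimeSpectrum A | ∃ q ∈ minimalPrimes A, q ≤ p.asIdeal ∧ ringKrullDim (A ⧸ q) = d} ∧ LocCoh.HasSk 2 A (Dual.HD A ω (-(d : ℤ))) := by
  constructor
  · ext p
    simp only [Set.mem_ofPred_eq]
    constructor
    · intro hp
      have hnt : Nontrivial (LocalizedModule p.asIdeal.primeCompl (Dual.HD A ω (-(d : ℤ)))) :=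
        Module.mem_support_iff.1 hp
      obtain ⟨h1, -⟩ := Groth.Agent.Lib.Helper13.DualMod.prime_analysis A ω hω hn d hd p hnt
      exact Groth.Agent.Lib.Helper13.DualMod.exists_minimalPrime_of_le_height_add_coheight d hd p h1
    · rintro ⟨q, hq, hqp, hdq⟩
      haveI : q.IsPrime := hq.1.1
      have h1 := (Groth.Agent.Lib.Helper13.DualBC.nontrivial_localized_HD_iff_minimalPrime A ω hω hn
        q hq d hdq (-(d : ℤ))).2 rfl
      have hqs : (⟨q, hq.1.1⟩ : PrimeSpectrum A) ∈ Module.support A (Dual.HD A ω (-(d : ℤ))) :=
        Module.mem_support_iff.2 h1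
      exact Module.mem_support_mono (show (⟨q, hq.1.1⟩ : PrimeSpectrum A) ≤ p from hqp) hqs
  · intro p hp
    by_cases hnt : Nontrivial (LocalizedModule p.primeCompl (Dual.HD A ω (-(d : ℤ))))
    · obtain ⟨-, h2⟩ := Groth.Agent.Lib.Helper13.DualMod.prime_analysis A ω hω hn d hd ⟨p, hp⟩ hnt
      haveI : Module.Finite A (Dual.HD A ω (-(d : ℤ))) := hω.finite_cohomology _
      haveI : Module.Finite (Localization.AtPrime p)
          (LocalizedModule p.primeCompl (Dual.HD A ω (-(d : ℤ)))) :=
        Module.Finite.of_isLocalizedModule p.primeCompl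
          (LocalizedModule.mkLinearMap p.primeCompl _)
      obtain ⟨n, hn'⟩ := ENat.ne_top_iff_exists.mp
        (Groth.Agent.Lib.Helper18.CM.depth_ne_top (R := Localization.AtPrime p)
          (LocalizedModule p.primeCompl (Dual.HD A ω (-(d : ℤ)))))
      rw [← hn']
      exact h2 n hn'.symm
    · rw [not_nontrivial_iff_subsingleton] at hnt
      rw [Module.supportDim_eq_bot_of_subsingleton]
      simp

end Groth.Agent.S0369
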