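import Groth.Statements.S0370
import Groth.Agent.Lib.Helper13.DualBC18

set_option autoImplicit false
universe u v
open CategoryTheory
attribute [local instance] HasDerivedCategory.standard
open Dual

namespace Groth.Agent.S0370

/-- A Noetherian ring admitting a finite module which, placed in degree 0, is a dualizing complex, is
Cohen–Macaulay. -/
theorem result (A : Type u) [CommRing A] [IsNoetherianRing A] (W : Type u) [AddCommGroup W] [Module A W] [Module.Finite A W] (h : Dual.IsDualizing A (Dual.inD A W)) : LocCoh.IsCohenMacaulayRing A := by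
  refine { isCohenMacaulayLocalRing_localization := fun p hp => ?_ }
  have hd := Groth.Agent.Lib.Helper13.DualBC.isDualizing_flatBC_localization A p.primeCompl
    (Dual.inD A W) h
  refine { supportDim_eq_depth := ?_ }
  refine Groth.Agent.Lib.Helper13.DualBC.supportDim_eq_depth_of_single_homology _ hd 0
    (fun j hj => ?_)
  refine ModuleCat.subsingleton_of_isZero ?_
  rcases lt_or_gt_of_ne hj with hlt | hgt
  · have : ((Groth.Agent.Lib.Helper13.DR.flatBC A (Localization.AtPrime p)).obj
        (Dual.inD A W)).IsGE 0 :=
      Groth.Agent.Lib.Helper13.HomBC.isGE_flatBC _ _ 0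
    exact DerivedCategory.isZero_of_isGE _ 0 j hlt
  · have : ((Groth.Agent.Lib.Helper13.DR.flatBC A (Localization.AtPrime p)).obj
        (Dual.inD A W)).IsLE 0 :=
      Groth.Agent.Lib.Helper13.HomBC.isLE_flatBC _ _ 0
    exact DerivedCategory.isZero_of_isLE _ 0 j hgt

end Groth.Agent.S0370
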