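import Groth.Statements.S0375
import Groth.Agent.Lib.Helper13.DualBC14

set_option autoImplicit false
universe u v
open CategoryTheory
attribute [local instance] HasDerivedCategory.standard
open Dual

namespace Groth.Agent.S0375

/-- Over a Noetherian local ring of dimension 0, a normalized dualizing complex is isomorphic in D(A) to
an injective hull of the residue field placed in degree 0. -/
theorem result (A : Type u) [CommRing A] [IsLocalRing A] [IsNoetherianRing A] (h0 : ringKrullDim A = 0) (ω : Dual.D A) (hω : Dual.IsDualizing A ω) (hn : Dual.IsNormalized A ω) (E : Type u) [AddCommGroup E] [Module A E] (f : IsLocalRing.ResidueField A →ₗ[A] E) (hf : InjHull.IsInjectiveHull f) : Nonempty (ω ≅ Dual.inD A E) := by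
  have h1 : Ring.KrullDimLE 0 A := Ring.krullDimLE_iff.2 (le_of_eq h0)
  have : IsArtinianRing A := isArtinianRing_iff_krullDimLE_zero.2 h1
  exact Groth.Agent.Lib.Helper13.DualBC.iso_inD_hull_of_artinian A ω hω hn E f hf

end Groth.Agent.S0375
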