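import Groth.Statements.S0377
import Groth.Agent.Lib.Helper13.DualBC13

set_option autoImplicit false
universe u v
open CategoryTheory
attribute [local instance] HasDerivedCategory.standard
open Dual

namespace Groth.Agent.S0377

/-- If a Noetherian ring A has a dualizing complex then so does every A-algebra essentially of finite
type. -/
theorem result (A : Type u) [CommRing A] [IsNoetherianRing A] (ω : Dual.D A) (hω : Dual.IsDualizing A ω) (B : Type u) [CommRing B] [Algebra A B] [Algebra.EssFiniteType A B] : ∃ ω' : Dual.D B, Dual.IsDualizing B ω' := by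
  obtain ⟨s, hs⟩ := ‹Algebra.EssFiniteType A B›.cond
  have hft : Algebra.FiniteType A (Algebra.adjoin A (s : Set B)) :=
    (Subalgebra.fg_iff_finiteType _).1 (Subalgebra.fg_adjoin_finset s)
  obtain ⟨n, ψ, hψ⟩ := Algebra.FiniteType.iff_quotient_mvPolynomial''.1 hft
  have : IsNoetherianRing (Algebra.adjoin A (s : Set B)) :=
    Algebra.FiniteType.isNoetherianRing A _
  have hC := Groth.Agent.Lib.Helper13.DualBC.isDualizing_Sh A (Algebra.adjoin A (s : Set B)) n
    ψ.toRingHom hψ ω hω 0
  have : IsNoetherianRing B := IsLocalization.isNoetherianRing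
    ((IsUnit.submonoid B).comap (algebraMap (Algebra.adjoin A (s : Set B)) B)) B inferInstance
  have : Module.Flat (Algebra.adjoin A (s : Set B)) B := IsLocalization.flat B
    ((IsUnit.submonoid B).comap (algebraMap (Algebra.adjoin A (s : Set B)) B))
  exact ⟨_, Groth.Agent.Lib.Helper13.DualBC.isDualizing_flatBC_of_extended
    (Algebra.adjoin A (s : Set B)) B
    (fun J => IsLocalization.map_comap
      ((IsUnit.submonoid B).comap (algebraMap (Algebra.adjoin A (s : Set B)) B)) B J) _ hC⟩

end Groth.Agent.S0377
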