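import Groth.Statements.S0379
import Groth.Agent.Lib.Helper16.LocCohLocalize

set_option autoImplicit false
universe u v
open LocCoh

namespace Groth.Agent.S0379

section helpers
open LocCoh

theorem result_aux (A : Type u) [CommRing A] [IsNoetherianRing A] (B : Type u) [CommRing B] [IsNoetherianRing B] [Algebra A B] (I : Ideal A) (d : ℕ) : (LocCoh.CdLE A I d → LocCoh.CdLE B (I.map (algebraMap A B)) d) ∧ (Module.FaithfullyFlat A B → LocCoh.CdLE B (I.map (algebraMap A B)) d → LocCoh.CdLE A I d) := by
  refine ⟨Groth.Agent.Lib.Helper16.DTL.cdLE_map I d, fun hff h => ?_⟩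
  exact Groth.Agent.Lib.Helper16.DTL.cdLE_of_map_of_faithfullyFlat I d h

end helpers

/-- For a homomorphism of Noetherian rings A → B, if local cohomology with support in I vanishes above
degree d on all A-modules then local cohomology with support in IB vanishes above degree d on all
B-modules; if B is faithfully flat over A the converse holds too. -/
theorem result (A : Type u) [CommRing A] [IsNoetherianRing A] (B : Type u) [CommRing B] [IsNoetherianRing B] [Algebra A B] (I : Ideal A) (d : ℕ) : (LocCoh.CdLE A I d → LocCoh.CdLE B (I.map (algebraMap A B)) d) ∧ (Module.FaithfullyFlat A B → LocCoh.CdLE B (I.map (algebraMap A B)) d → LocCoh.CdLE A I d) := by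
  exact result_aux A B I d

end Groth.Agent.S0379
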