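import Groth.Statements.S0381
import Groth.Agent.Lib.Helper16.LocCohCd

set_option autoImplicit false
universe u v
open LocCoh

namespace Groth.Agent.S0381

section helpers
open LocCoh

theorem result_aux (R : Type u) [CommRing R] [IsNoetherianRing R] (I J : Ideal R) (a b : ℕ) (hI : LocCoh.CdLE R I a) (hJ : LocCoh.CdLE R J b) : LocCoh.CdLE R (I ⊔ J) (a + b) :=
  Groth.Agent.Lib.Helper16.LC.cdLE_sup I J a b hI hJ

end helpers

/-- If local cohomology with support in I vanishes above degree a and with support in J above degree b
(on all modules), then local cohomology with support in I + J vanishes above degree a + b. -/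
theorem result (R : Type u) [CommRing R] [IsNoetherianRing R] (I J : Ideal R) (a b : ℕ) (hI : LocCoh.CdLE R I a) (hJ : LocCoh.CdLE R J b) : LocCoh.CdLE R (I ⊔ J) (a + b) := by
  exact result_aux R I J a b hI hJ

end Groth.Agent.S0381
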