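import Groth.Statements.S0382
import Groth.Agent.Lib.Helper25.AbVarPow1
import Groth.Agent.Lib.Helper10.RigidAA4
import Groth.Agent.Lib.Helper10.RigidAA11

set_option autoImplicit false
universe u v
open CategoryTheory MonoidalCategory CartesianMonoidalCategory MonObj GrpObj AlgebraicGeometry
open GrpSch

namespace Groth.Agent.S0382

/-- On an abelian variety of positive dimension over a field K (a proper, geometrically integral group
scheme over K), multiplication by an integer d is étale exactly when d is nonzero in K.
Multiplication by d is written as the d-th power of the identity morphism in the group Hom(A, A),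
whose multiplication is pointwise, induced by the group structure of A. -/
theorem result (K : Type u) [Field K] (A : Over (Spec (CommRingCat.of K))) [GrpObj A] [IsProper A.hom] [GeometricallyIntegral A.hom] (hA : 0 < topologicalKrullDim A.left) (d : ℤ) : Etale ((𝟙 A ^ d).left) ↔ ((d : K) ≠ 0) := by
  haveI : LocallyOfFiniteType A.hom := inferInstance
  haveI : QuasiCompact A.hom := inferInstance
  haveI : IsCommMonObj A :=
    Groth.Agent.Lib.Helper10.RigidAA.isCommMonObj_of_antiAffine A
      (Groth.Agent.Lib.Helper10.RigidAA.bijective_of_proper_geomIntegral A)
  haveI : IsIntegral A.left := GeometricallyIntegral.isIntegral_of_subsingleton A.hom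
  have hclosed : IsClosed ({Groth.Agent.Lib.Helper25.GrpTangent.e A} : Set A.left) := by
    have hcomp : η[A].left ≫ A.hom = 𝟙 _ := by
      rw [Over.w]
      rfl
    haveI : IsClosedImmersion (η[A].left ≫ A.hom) := by
      rw [hcomp]
      infer_instance
    haveI : IsClosedImmersion η[A].left := IsClosedImmersion.of_comp η[A].left A.hom
    have hr : Set.range η[A].left = {Groth.Agent.Lib.Helper25.GrpTangent.e A} := by
      ext x
      simp only [Set.mem_range, Set.mem_singleton_iff]
      constructor
      · rintro ⟨y, rfl⟩
        have : y = IsLocalRing.closedPoint K := @Subsingleton.elim (PrimeSpectrum K) _ _ _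
        rw [this]
        rfl
      · rintro rfl
        exact ⟨_, rfl⟩
    rw [← hr]
    exact η[A].left.isClosedEmbedding.isClosed_range
  exact Groth.Agent.Lib.Helper25.AbVarPow.etale_zpow_iff A hclosed hA d

end Groth.Agent.S0382
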