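import Groth.Statements.S0394
import Groth.Agent.Lib.Helper9.FlatCrit
import Mathlib.RingTheory.LocalRing.Module

set_option autoImplicit false
universe u
open FlatMor

namespace Groth.Agent.S0394

open TensorProduct in
/-- For a local homomorphism R → S of Noetherian local rings and a nonzero finite S-module M flat over R
whose fibre M/mM is free over S/mS (m the maximal ideal of R), M is free over S and S is flat over
R. -/
theorem result {R S M : Type u} [CommRing R] [CommRing S] [IsLocalRing R] [IsLocalRing S] [IsNoetherianRing R] [IsNoetherianRing S] [Algebra R S] [IsLocalHom (algebraMap R S)]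
    [AddCommGroup M] [Module R M] [Module S M] [IsScalarTower R S M] [Module.Finite S M] [Nontrivial M] [Module.Flat R M]
    (h : Module.Free (S ⧸ ((IsLocalRing.maximalIdeal R).map (algebraMap R S))) ((S ⧸ ((IsLocalRing.maximalIdeal R).map (algebraMap R S))) ⊗[S] M)) :
    Module.Free S M ∧ Module.Flat R S := by
  have hinj : Function.Injective (LinearMap.rTensor M
      ((IsLocalRing.maximalIdeal R).map (algebraMap R S)).subtype) :=
    Groth.Agent.Lib.Helper9.rTensor_map_subtype_injective (IsLocalRing.maximalIdeal R)
      (Module.Flat.rTensor_preserves_injective_linearMap _ (Submodule.injective_subtype _))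
  have hloc : IsLocalHom (algebraMap S S) := ⟨fun a h => h⟩
  have hflat : Module.Flat S M := by
    refine Groth.Agent.Lib.Helper9.flat_of_rTensor_injective_of_le_jacobson (S := S)
      ((IsLocalRing.maximalIdeal R).map (algebraMap R S)) ?_ hinj
    rw [IsLocalRing.jacobson_eq_maximalIdeal ⊥ bot_ne_top]
    exact (Ideal.map_mono (IsLocalRing.map_maximalIdeal_le (algebraMap R S))).trans
      (IsLocalRing.map_maximalIdeal_le (algebraMap S S))
  have hff : Module.FaithfullyFlat S M :=
    Groth.Agent.Lib.Helper9.faithfullyFlat_of_finite_of_isLocalHom (S' := S)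
  exact ⟨Module.free_of_flat_of_isLocalRing, Groth.Agent.Lib.Helper9.flat_of_faithfullyFlat_of_flat (M := M)⟩

end Groth.Agent.S0394
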