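import Groth.Statements.S0395
import Groth.Agent.Lib.Helper9.FlatInj
import Mathlib.RingTheory.TensorProduct.Quotient

set_option autoImplicit false
universe u
open FlatMor

namespace Groth.Agent.S0395

open TensorProduct nonZeroDivisors in
/-- For a flat local homomorphism R → S of Noetherian local rings and an element f of S that is regular
on the fibre ring S/mS, the quotient of S by f is again R-flat and f is regular on S. -/
theorem result {R S : Type u} [CommRing R] [CommRing S] [IsLocalRing R] [IsLocalRing S] [IsNoetherianRing R] [IsNoetherianRing S] [Algebra R S] [IsLocalHom (algebraMap R S)] [Module.Flat R S]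
    (f : S) (hf : Ideal.Quotient.mk ((IsLocalRing.maximalIdeal R).map (algebraMap R S)) f ∈ nonZeroDivisors (S ⧸ ((IsLocalRing.maximalIdeal R).map (algebraMap R S)))) :
    Module.Flat R (S ⧸ Ideal.span {f}) ∧ f ∈ nonZeroDivisors S := by
  let 𝔪 := IsLocalRing.maximalIdeal R
  let u : S →ₗ[R] S := LinearMap.mulLeft R f
  let e := Algebra.TensorProduct.quotIdealMapEquivQuotTensor S 𝔪
  have hu : ∀ z : (R ⧸ 𝔪) ⊗[R] S, LinearMap.lTensor (R ⧸ 𝔪) u z = (1 ⊗ₜ[R] f) * z := by
    intro z
    induction z using TensorProduct.induction_on with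
    | zero => simp
    | add x y hx hy => rw [map_add, hx, hy, mul_add]
    | tmul a s =>
      rw [LinearMap.lTensor_tmul, Algebra.TensorProduct.tmul_mul_tmul, one_mul]
      rfl
  have h : Function.Injective (LinearMap.lTensor (IsLocalRing.ResidueField R) u) := by
    change Function.Injective (LinearMap.lTensor (R ⧸ 𝔪) u)
    rw [injective_iff_map_eq_zero]
    intro z hz
    rw [hu] at hz
    have h1 : e.symm ((1 ⊗ₜ[R] f) * z) = 0 := by rw [hz, map_zero]
    rw [map_mul] at h1
    have h2 : e.symm (1 ⊗ₜ[R] f) = Ideal.Quotient.mk _ f := by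
      rw [AlgEquiv.symm_apply_eq]
      rfl
    rw [h2] at h1
    have h3 := (mem_nonZeroDivisors_iff.mp hf).1 _ h1
    exact e.symm.injective (by rw [h3, map_zero])
  obtain ⟨hinj, hflat⟩ :=
    Groth.Agent.Lib.Helper9.injective_and_flat_of_lTensor_residueField_injective u S h
  constructor
  · have hrange : LinearMap.range u = (Ideal.span {f}).restrictScalars R := by
      ext x
      simp only [LinearMap.mem_range, Submodule.restrictScalars_mem, Ideal.mem_span_singleton']
      constructor
      · rintro ⟨y, rfl⟩
        exact ⟨y, mul_comm _ _⟩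
      · rintro ⟨y, rfl⟩
        exact ⟨y, mul_comm _ _⟩
    exact Module.Flat.of_linearEquiv
      ((Submodule.Quotient.restrictScalarsEquiv R (Ideal.span {f})).symm.trans
        (Submodule.quotEquivOfEq _ _ hrange.symm))
  · rw [mem_nonZeroDivisors_iff]
    refine ⟨fun x hx => hinj (by simpa [u] using hx), fun x hx => hinj ?_⟩
    rw [mul_comm] at hx
    simpa [u] using hx

end Groth.Agent.S0395
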