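import Groth.Statements.S0397
import Mathlib.RingTheory.LocalRing.Module
-- import your own Groth.Agent.* helpers here

set_option autoImplicit false
universe u
open FlatMor

namespace Groth.Agent.S0397

theorem eq_top_of_sup_smul_eq_top {R M : Type*} [CommRing R] [AddCommGroup M] [Module R M]
    (I : Ideal R) (hI : IsNilpotent I) (N : Submodule R M) (h : N ⊔ I • ⊤ = ⊤) : N = ⊤ := by
  obtain ⟨n, hn⟩ := hI
  have key : ∀ k : ℕ, N ⊔ (I ^ k) • (⊤ : Submodule R M) = ⊤ := by
    intro k
    induction k with
    | zero => simp
    | succ k ih =>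
      rw [eq_top_iff]
      calc (⊤ : Submodule R M) = N ⊔ (I ^ k) • (⊤ : Submodule R M) := ih.symm
        _ = N ⊔ (I ^ k) • (N ⊔ I • ⊤) := by rw [h]
        _ = N ⊔ ((I ^ k) • N ⊔ (I ^ k) • (I • ⊤)) := by rw [Submodule.smul_sup]
        _ ≤ N ⊔ (I ^ (k + 1)) • ⊤ := by
          rw [← Submodule.mul_smul, ← pow_succ]
          refine sup_le le_sup_left (sup_le ?_ le_sup_right)
          exact le_sup_of_le_left Submodule.smul_le_right
  have := key n
  rw [hn] at this
  simpa using this

/-- Over a local ring whose maximal ideal is nilpotent, every flat module (not necessarily finitely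
generated) is free. -/
theorem result {R M : Type u} [CommRing R] [IsLocalRing R] (hR : IsNilpotent (IsLocalRing.maximalIdeal R))
    [AddCommGroup M] [Module R M] [Module.Flat R M] : Module.Free R M := by
  classical
  let k := IsLocalRing.ResidueField R
  let w := Module.Free.chooseBasis k (TensorProduct R k M)
  have ⟨v, eq⟩ := (TensorProduct.mk_surjective R M k Ideal.Quotient.mk_surjective).comp_left w
  refine .of_basis <| .mk (Module.IsLocalRing.linearIndependent_of_flat _ (eq ▸ w.linearIndependent)) ?_
  refine (eq_top_of_sup_smul_eq_top _ hR _ ?_).ge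
  have h1 : (Submodule.span R (Set.range v)).map (TensorProduct.mk R k M 1) = ⊤ := by
    rw [Submodule.map_span, ← Submodule.restrictScalars_span R k Ideal.Quotient.mk_surjective,
      Submodule.restrictScalars_eq_top_iff, ← w.span_eq, ← Set.range_comp, ← eq]
  have h2 := Submodule.comap_map_eq (TensorProduct.mk R k M 1) (Submodule.span R (Set.range v))
  rw [h1, Submodule.comap_top] at h2
  have h3 : LinearMap.ker (TensorProduct.mk R k M 1) = IsLocalRing.maximalIdeal R • ⊤ :=
    LinearMap.ker_tensorProductMk (Q := M) (I := IsLocalRing.maximalIdeal R)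
  rw [h3] at h2
  exact h2.symm

end Groth.Agent.S0397
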