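import Groth.Statements.S0399
import Groth.Agent.Lib.Helper9.FlatCrit
import Mathlib.RingTheory.Localization.BaseChange
import Mathlib.RingTheory.Flat.Localization

set_option autoImplicit false
universe u
open FlatMor

namespace Groth.Agent.S0399

open TensorProduct Function Groth.Agent.Lib.Helper9

section
variable {A : Type u} {M : Type u} [CommRing A] [AddCommGroup M] [Module A M] (f : A)

theorem span_rTensor_injective (hM : IsSMulRegular M f) :
    Injective (LinearMap.rTensor M (Ideal.span {f}).subtype) := by
  set I : Ideal A := Ideal.span {f}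
  let e : A →ₗ[A] I := (LinearMap.toSpanSingleton A A f).codRestrict I
    (fun a => Ideal.mem_span_singleton'.mpr ⟨a, rfl⟩)
  have he : Surjective e := by
    rintro ⟨b, hb⟩
    obtain ⟨a, rfl⟩ := Ideal.mem_span_singleton'.mp hb
    exact ⟨a, rfl⟩
  refine rTensor_injective_of_comp_surjective M e he _ ?_
  have h1 : ∀ z : A ⊗[A] M, LinearMap.rTensor M (I.subtype ∘ₗ e) z = f • z := by
    intro z
    induction z using TensorProduct.induction_on with
    | zero => simp
    | add x y hx hy => simp only [map_add, hx, hy, smul_add]
    | tmul a m =>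
      simp only [LinearMap.rTensor_tmul, TensorProduct.smul_tmul']
      congr 1
      simp [e, mul_comm]
  rw [injective_iff_map_eq_zero]
  intro z hz
  rw [h1] at hz
  have h2 : f • (TensorProduct.lid A M z) = 0 := by rw [← map_smul, hz, map_zero]
  have h3 : TensorProduct.lid A M z = 0 := hM (by simp only [h2, smul_zero])
  exact (TensorProduct.lid A M).injective (by rw [h3, map_zero])

theorem smul_rTensor_regular (hA : f ∈ nonZeroDivisors A) (hM : IsSMulRegular M f)
    [Module.Flat (A ⧸ Ideal.span {f}) ((A ⧸ Ideal.span {f}) ⊗[A] M)] (J : Ideal A)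
    (y : J ⊗[A] M) (hy : f • y = 0) : y = 0 := by
  set I : Ideal A := Ideal.span {f}
  have hI := span_rTensor_injective f hM
  let fJ : Submodule A J := I • ⊤
  have hT : TorOneVanish A M (J ⧸ fJ) :=
    torOneVanish_of_isTorsionBySet I hI (Module.isTorsionBySet_quotient_ideal_smul J I)
  have h1 : Injective (fJ.subtype.rTensor M) :=
    hT fJ J fJ.subtype fJ.mkQ fJ.injective_subtype (LinearMap.exact_subtype_mkQ fJ)
      fJ.mkQ_surjective
  let μ : J →ₗ[A] fJ := (LinearMap.lsmul A J f).codRestrict fJ
    (fun y => Submodule.smul_mem_smul (Ideal.mem_span_singleton_self f) trivial)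
  have hμ : Bijective μ := by
    constructor
    · rw [injective_iff_map_eq_zero]
      intro a ha
      have h2 : f * (a : A) = 0 := by
        have := congrArg (fun z : fJ => ((z : J) : A)) ha
        simpa [μ] using this
      apply Subtype.ext
      exact (mem_nonZeroDivisors_iff.mp hA).1 _ h2
    · rintro ⟨b, hb⟩
      induction hb using Submodule.smul_induction_on' with
      | smul r hr n _ =>
        obtain ⟨a, rfl⟩ := Ideal.mem_span_singleton'.mp hr
        refine ⟨a • n, ?_⟩
        apply Subtype.ext
        simp only [μ, LinearMap.codRestrict_apply, LinearMap.lsmul_apply, mul_smul]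
        exact smul_comm f a n
      | add x hx y hy ihx ihy =>
        obtain ⟨a, ha⟩ := ihx
        obtain ⟨b, hb⟩ := ihy
        exact ⟨a + b, by rw [map_add, ha, hb]; rfl⟩
  have h3 : Injective (μ.rTensor M) := ((LinearEquiv.ofBijective μ hμ).rTensor M).injective
  have h4 : ∀ z : J ⊗[A] M, LinearMap.rTensor M (fJ.subtype ∘ₗ μ) z = f • z := by
    intro z
    induction z using TensorProduct.induction_on with
    | zero => simp
    | add x y hx hy => simp only [map_add, hx, hy, smul_add]
    | tmul a m =>
      simp only [LinearMap.rTensor_tmul, TensorProduct.smul_tmul']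
      rfl
  have h5 : Injective (LinearMap.rTensor M (fJ.subtype ∘ₗ μ)) := by
    rw [LinearMap.rTensor_comp]
    exact h1.comp h3
  exact h5 (by rw [h4, hy, map_zero])

end

open TensorProduct in
/-- For a ring A, a module M and an element f that is a nonzerodivisor on A and on M, if M_f is flat
over A_f and M/fM is flat over A/fA then M is flat over A (the source's companion statement for
faithful flatness is not stated). -/
theorem result {A M : Type u} [CommRing A] [AddCommGroup M] [Module A M] (f : A) (hA : f ∈ nonZeroDivisors A) (hM : IsSMulRegular M f)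
    [Module.Flat (Localization.Away f) (LocalizedModule (Submonoid.powers f) M)]
    [Module.Flat (A ⧸ Ideal.span {f}) ((A ⧸ Ideal.span {f}) ⊗[A] M)] : Module.Flat A M := by
  rw [Module.Flat.iff_rTensor_injective']
  intro J
  rw [injective_iff_map_eq_zero]
  intro x hx
  obtain ⟨n, hn⟩ : ∃ n : ℕ, f ^ n • x = 0 := by
    let Mf := LocalizedModule (Submonoid.powers f) M
    let ℓ : M →ₗ[A] Mf := LocalizedModule.mkLinearMap (Submonoid.powers f) M
    have hflat : Module.Flat A Mf := Module.Flat.trans A (Localization.Away f) Mf
    have h1 : LinearMap.rTensor Mf J.subtype (LinearMap.lTensor J ℓ x) = 0 := by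
      rw [← LinearMap.comp_apply, LinearMap.rTensor_comp_lTensor, ← LinearMap.lTensor_comp_rTensor,
        LinearMap.comp_apply, hx, map_zero]
    have h2 : LinearMap.lTensor J ℓ x = 0 :=
      (injective_iff_map_eq_zero _).mp
        (Module.Flat.rTensor_preserves_injective_linearMap J.subtype J.injective_subtype) _ h1
    have h3 : LinearMap.rTensor J ℓ (TensorProduct.comm A J M x) = 0 := by
      have : LinearMap.rTensor J ℓ (TensorProduct.comm A J M x)
          = TensorProduct.comm A J Mf (LinearMap.lTensor J ℓ x) := by
        rw [← LinearEquiv.coe_coe, ← LinearEquiv.coe_coe, ← LinearMap.comp_apply,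
          ← LinearMap.comp_apply]
        congr 1
        ext a m
        rfl
      rw [this, h2, map_zero]
    have hloc : IsLocalizedModule (Submonoid.powers f)
        (TensorProduct.AlgebraTensorModule.rTensor A J ℓ) := inferInstance
    obtain ⟨⟨s, ⟨n, rfl⟩⟩, hs⟩ := (IsLocalizedModule.eq_zero_iff (Submonoid.powers f)
      (TensorProduct.AlgebraTensorModule.rTensor A J ℓ)).mp h3
    refine ⟨n, ?_⟩
    have hs' : f ^ n • (TensorProduct.comm A J M x) = 0 := hs
    rw [← map_smul] at hs'
    exact (TensorProduct.comm A J M).injective (by rw [hs', map_zero])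
  induction n with
  | zero => simpa using hn
  | succ n ih =>
    apply ih
    apply smul_rTensor_regular f hA hM J
    rw [smul_smul, ← pow_succ']
    exact hn

end Groth.Agent.S0399
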