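import Groth.Statements.S0401
import Mathlib.RingTheory.Ideal.Height
import Mathlib.RingTheory.QuasiFinite.Basic

set_option autoImplicit false
universe u
open FlatMor

namespace Groth.Agent.S0401

/-- For a finite type ring map R → S quasi-finite at a prime q lying over p, the dimension of S_q is at
most the dimension of R_p. -/
theorem result {R S : Type u} [CommRing R] [CommRing S] [Algebra R S] [Algebra.FiniteType R S] (q : Ideal S) [q.IsPrime] [Algebra.QuasiFiniteAt R q] :
    ringKrullDim (Localization.AtPrime q) ≤ ringKrullDim (Localization.AtPrime (q.under R)) := by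
  let T := Localization.AtPrime q
  have hqf : Algebra.QuasiFinite R T := inferInstance
  rw [← IsLocalRing.maximalIdeal_height_eq_ringKrullDim (R := T),
    IsLocalization.AtPrime.ringKrullDim_eq_height (q.under R) (Localization.AtPrime (q.under R)),
    WithBot.coe_le_coe]
  let f : PrimeSpectrum T → PrimeSpectrum R := PrimeSpectrum.comap (algebraMap R T)
  have hf : StrictMono f := by
    intro a b hab
    refine lt_of_le_of_ne (Ideal.comap_mono hab.le) ?_
    intro heq
    have := Algebra.QuasiFinite.eq_of_le_of_under_eq (R := R) a.asIdeal b.asIdeal hab.le
      (congrArg PrimeSpectrum.asIdeal heq)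
    exact hab.ne (PrimeSpectrum.ext this)
  have h1 := Order.height_le_height_apply_of_strictMono f hf (IsLocalRing.closedPoint T)
  rw [← PrimeSpectrum.height_eq_orderHeight, ← PrimeSpectrum.height_eq_orderHeight] at h1
  have h2 : (f (IsLocalRing.closedPoint T)).asIdeal = q.under R := by
    change (IsLocalRing.maximalIdeal T).comap (algebraMap R T) = q.under R
    rw [IsScalarTower.algebraMap_eq R S T, ← Ideal.comap_comap]
    have := Localization.AtPrime.under_maximalIdeal (I := q)
    rw [Ideal.under] at this
    rw [this]
  rw [h2] at h1
  exact h1

end Groth.Agent.S0401
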