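import Groth.Statements.S0404
import Mathlib
import Groth.Agent.Lib.Helper21.FibDim3
import Groth.Agent.Lib.Helper18.TopDim
import Groth.Agent.Lib.Helper23.FibDimLSC
-- import your own Groth.Agent.* helpers here

set_option autoImplicit false
universe u
open FlatMor

namespace Groth.Agent.S0404

open AlgebraicGeometry CategoryTheory Limits TopologicalSpace

open Groth.Agent.Lib.Helper21.FibDim Groth.Agent.Lib.Helper23.FibDimLSC


open AlgebraicGeometry CategoryTheory Limits in
/-- For a flat morphism of finite presentation (here: flat, quasi-compact, quasi-separated and locally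
of finite presentation) the dimension of the fibre is a lower semicontinuous function on the target. -/
theorem result {X S : Scheme.{u}} (f : X ⟶ S) [Flat f] [LocallyOfFinitePresentation f] [QuasiCompact f] [QuasiSeparated f] (c : WithBot ℕ∞) :
    IsOpen {s : S | c < topologicalKrullDim (f.fiber s)} := by
  rw [isOpen_iff_forall_mem_open]
  intro s₀ hs₀
  have hs₀' : c < topologicalKrullDim (f.fiber s₀) := hs₀
  rw [Groth.Agent.Lib.Helper18.TopDim.topologicalKrullDim_eq_iSup_localDim, lt_iSup_iff] at hs₀'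
  obtain ⟨y₀, hy₀⟩ := hs₀'
  let x₀ : X := f.fiberι s₀ y₀
  have hx₀ : f x₀ = s₀ := by
    have : x₀ ∈ Set.range (f.fiberι s₀) := ⟨y₀, rfl⟩
    rw [Scheme.Hom.range_fiberι] at this
    exact this
  have hdim₀ : FlatMor.localDim (f.fiber s₀) y₀ = FlatMor.fibreDimAt f x₀ :=
    Groth.Agent.Lib.Helper6.EtaleSq.localDim_fiber_eq_fibreDimAt f x₀ s₀ hx₀ y₀ rfl
  rw [hdim₀] at hy₀
  obtain ⟨n, hn, ⟨ξ, -, hξx₀, hξn⟩, -⟩ := exists_fibreDimAt_eq_trdeg f x₀
  rw [hn] at hy₀
  obtain ⟨N, hξN, hN⟩ := exists_open_forall_exists_le_trdeg f ξ n hξn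
  refine ⟨N, ?_, N.2, ?_⟩
  · intro s hs
    obtain ⟨x, rfl, hx⟩ := hN s hs
    obtain ⟨m, hm, -, hall⟩ := exists_fibreDimAt_eq_trdeg f x
    have h1 := hall x specializes_rfl rfl
    have h2 : (n : Cardinal.{u}) ≤ (m : Cardinal.{u}) := hx.trans h1
    have h3 : n ≤ m := by exact_mod_cast h2
    have h4 : (n : WithBot ℕ∞) ≤ (m : WithBot ℕ∞) := by exact_mod_cast h3
    have h5 := fibreDimAt_le_topologicalKrullDim_fiber f x
    rw [hm] at h5
    exact lt_of_lt_of_le hy₀ (h4.trans h5)
  · rw [← hx₀, ← hξx₀]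
    exact hξN

end Groth.Agent.S0404
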