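import Groth.Statements.S0410
import Groth.Agent.S1390
import Groth.Agent.Lib.Helper1.FL2

set_option autoImplicit false
universe u
open FlatMor

namespace Groth.Agent.S0410

open AlgebraicGeometry CategoryTheory Limits in
/-- For a surjective étale morphism U → X with X quasi-compact and quasi-separated there is a
surjective, finite, finitely presented morphism Y → X that factors through U locally on Y. -/
theorem result {U X : Scheme.{u}} (g : U ⟶ X) [Etale g] [Surjective g] [CompactSpace ↑X] [QuasiSeparatedSpace ↑X] :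
    ∃ (Y : Scheme.{u}) (π : Y ⟶ X), Surjective π ∧ IsFinite π ∧ LocallyOfFinitePresentation π ∧
      ∀ y : ↑Y, ∃ (V : Y.Opens) (h : ↑V ⟶ U), y ∈ V ∧ h ≫ g = V.ι ≫ π := by
  classical
  have hloc : ∀ x : X, ∃ (V : X.Opens) (T : Scheme.{u}) (π : T ⟶ (V : Scheme.{u})), x ∈ V ∧
      IsAffineOpen V ∧ IsIntegralHom π ∧ Surjective π ∧
      Groth.Agent.Lib.Helper1.FL.FactorsLocally (π ≫ V.ι ≫ 𝟙 X) g := by
    intro x
    obtain ⟨u', hu'⟩ := g.surjective x
    obtain ⟨V, T, π, hxV, hVaff, hsurj, hfin, hflat, hfp, hgood⟩ :=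
      Groth.Agent.S1390.result g u' x hu'
    haveI := hsurj
    haveI := hfin
    refine Groth.Agent.Lib.Helper1.FL.exists_shrink (𝟙 X) g x V hxV π ?_
    intro t ht
    obtain ⟨W, h, htW, hh, -⟩ := hgood t ht
    refine ⟨W, h, htW, ?_⟩
    rw [hh, Category.comp_id]
  obtain ⟨P, p, hpint, hpsurj, hpfac⟩ :=
    Groth.Agent.Lib.Helper1.FL.exists_integral_cover_of_local (𝟙 X) g hloc
  haveI := hpint
  haveI := hpsurj
  obtain ⟨P', p', h1, h2, h3, h4⟩ :=
    Groth.Agent.Lib.Helper1.FL.exists_finite_fp_cover (𝟙 X) g p hpfac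
  refine ⟨P', p', h3, h1, h2, fun y => ?_⟩
  obtain ⟨W, h, hyW, hh⟩ := h4 y
  refine ⟨W, h, hyW, ?_⟩
  rw [hh, Category.comp_id]

end Groth.Agent.S0410
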