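import Groth.Statements.S0411
import Mathlib

set_option autoImplicit false
universe u
open FlatMor

namespace Groth.Agent.S0411


open CategoryTheory AlgebraicGeometry TopologicalSpace Opposite Limits

theorem exists_affine_basicOpen_of_quasiAffine (Z : Scheme.{u}) [Z.IsQuasiAffine] (T : Finset Z) :
    ∃ r : Γ(Z, ⊤), IsAffineOpen (Z.basicOpen r) ∧ ∀ x ∈ T, x ∈ Z.basicOpen r := by
  classical
  rcases T.eq_empty_or_nonempty with rfl | ⟨x₀, hx₀⟩
  · refine ⟨0, ?_, by simp⟩
    rw [Scheme.basicOpen_zero]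
    exact isAffineOpen_bot Z
  set j := Z.toSpecΓ with hj
  let C : Set (PrimeSpectrum Γ(Z, ⊤)) := (Set.range j)ᶜ
  let I := PrimeSpectrum.vanishingIdeal C
  have hC : IsClosed C := j.isOpenEmbedding.isOpen_range.isClosed_compl
  have hnot : ∀ x ∈ T, ¬ (I ≤ (j x).asIdeal) := by
    intro x _ hle
    have : j x ∈ PrimeSpectrum.zeroLocus (I : Set Γ(Z, ⊤)) := hle
    rw [PrimeSpectrum.zeroLocus_vanishingIdeal_eq_closure, hC.closure_eq] at this
    exact this ⟨x, rfl⟩
  have havoid : ¬ ((I : Set Γ(Z, ⊤)) ⊆ ⋃ x ∈ (↑T : Set Z), ((j x).asIdeal : Set Γ(Z, ⊤))) := by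
    intro hsub
    obtain ⟨x, hx, hle⟩ := (Ideal.subset_union_prime (s := T) (f := fun x => (j x).asIdeal)
      x₀ x₀ (fun x _ _ _ => (j x).isPrime)).mp hsub
    exact hnot x hx hle
  obtain ⟨r, hrI, hr⟩ := Set.not_subset.mp havoid
  simp only [Set.mem_iUnion, not_exists] at hr
  have hsub : (PrimeSpectrum.basicOpen r : Set (PrimeSpectrum Γ(Z, ⊤))) ⊆ Set.range j := by
    intro q hq
    by_contra hqC
    have : q ∈ PrimeSpectrum.zeroLocus (I : Set Γ(Z, ⊤)) :=
      PrimeSpectrum.subset_zeroLocus_vanishingIdeal C hqC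
    exact hq (this hrI)
  refine ⟨r, ?_, ?_⟩
  · rw [← Scheme.toSpecΓ_preimage_basicOpen, ← Scheme.Hom.isAffineOpen_iff_of_isOpenImmersion j]
    have : j ''ᵁ (j ⁻¹ᵁ PrimeSpectrum.basicOpen r) = PrimeSpectrum.basicOpen r :=
      TopologicalSpace.Opens.ext (Set.image_preimage_eq_of_subset hsub)
    rw [this]
    exact IsAffineOpen.Spec_basicOpen r
  · intro x hx
    rw [← Scheme.toSpecΓ_preimage_basicOpen]
    exact hr x hx

set_option backward.isDefEq.respectTransparency.types false in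
theorem quasiCompact_of_compactSpace_of_isAffine {X Y : Scheme.{u}} (g : X ⟶ Y) [IsAffine Y]
    [CompactSpace X] : QuasiCompact g :=
  HasAffineProperty.iff_of_isAffine.mpr ‹_›


open AlgebraicGeometry CategoryTheory Limits in
/-- For a separated, locally quasi-finite morphism (locally of finite type with discrete fibres) to an
affine scheme, every finite set of points of the source lies in an affine open. -/
theorem result {X Y : Scheme.{u}} (f : X ⟶ Y) [IsAffine Y] [IsSeparated f] [LocallyQuasiFinite f] [LocallyOfFiniteType f] (T : Finset ↑X) :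
    ∃ U : X.Opens, IsAffineOpen U ∧ ∀ x ∈ T, x ∈ U := by
  classical
  -- a quasi-compact open containing `T`
  have hex : ∀ x : X, ∃ U : X.Opens, IsAffineOpen U ∧ x ∈ U := fun x => by
    obtain ⟨U, hU, hxU, -⟩ := exists_isAffineOpen_mem_and_subset (X := X) (x := x) (U := ⊤) trivial
    exact ⟨U, hU, hxU⟩
  choose W hW hxW using hex
  let X' : X.Opens := ⨆ x ∈ T, W x
  have hmem : ∀ x ∈ T, x ∈ X' := fun x hx =>
    TopologicalSpace.Opens.mem_iSup.mpr ⟨x, TopologicalSpace.Opens.mem_iSup.mpr ⟨hx, hxW x⟩⟩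
  have hcomp : IsCompact (X' : Set X) := by
    have : (X' : Set X) = ⋃ x ∈ T, (W x : Set X) := by
      simp [X']
    rw [this]
    exact T.isCompact_biUnion fun x _ => (hW x).isCompact
  haveI : CompactSpace (X' : Scheme.{u}) := isCompact_iff_compactSpace.mp hcomp
  let g : (X' : Scheme.{u}) ⟶ Y := X'.ι ≫ f
  haveI : QuasiCompact g := quasiCompact_of_compactSpace_of_isAffine g
  haveI : IsAffine g.normalization := isAffine_of_isAffineHom g.fromNormalization
  haveI : (X' : Scheme.{u}).IsQuasiAffine := Scheme.IsQuasiAffine.of_isImmersion g.toNormalization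
  let T' : Finset (X' : Scheme.{u}) := T.attach.map
    ⟨fun x => ⟨x.1, hmem x.1 x.2⟩, fun a b hab => Subtype.ext (congrArg (fun z => z.1) hab)⟩
  obtain ⟨r, hr, hT'⟩ := exists_affine_basicOpen_of_quasiAffine (X' : Scheme.{u}) T'
  refine ⟨X'.ι ''ᵁ ((X' : Scheme.{u}).basicOpen r), hr.image_of_isOpenImmersion X'.ι, ?_⟩
  intro x hx
  refine ⟨⟨x, hmem x hx⟩, hT' _ ?_, rfl⟩
  exact Finset.mem_map.mpr ⟨⟨x, hx⟩, Finset.mem_attach _ _, rfl⟩

end Groth.Agent.S0411
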