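import Groth.Statements.S0413
import Groth.Agent.Lib.Helper25.EtaleSliceScheme
import Groth.Agent.Lib.Helper14.EtaleLQF

set_option autoImplicit false
universe u
open FlatMor

namespace Groth.Agent.S0413

open AlgebraicGeometry CategoryTheory Limits in
/-- For a smooth morphism and a point that is closed in its fibre with separable residue field
extension, there is a locally closed subscheme through the point which is étale over the base and
meets the fibre only in that point. -/
theorem result {X S : Scheme.{u}} (f : X ⟶ S) [Smooth f] (x : X)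
    (hcl : IsClosed ({f.asFiber x} : Set ↑(f.fiber (f x))))
    (hsep : @Algebra.IsSeparable (S.residueField (f x)) (X.residueField x) _ _ (f.residueFieldMap x).hom.toAlgebra) :
    ∃ (Z : Scheme.{u}) (i : Z ⟶ X) (z : Z), IsImmersion i ∧ Etale (i ≫ f) ∧ i z = x ∧
      ∀ z' : ↑Z, f (i z') = f x → z' = z := by
  obtain ⟨Z, i, z, hi, hét, hz⟩ :=
    Groth.Agent.Lib.Helper25.EtaleSliceScheme.exists_etale_slice f x hsep
  haveI : LocallyQuasiFinite (i ≫ f) := Groth.Agent.Lib.Helper14.AS.etale_locallyQuasiFinite _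
  have hdisc := (i ≫ f).isDiscrete_preimage_singleton (f x)
  have hzF : z ∈ (i ≫ f) ⁻¹' {f x} := by
    change (i ≫ f) z = f x
    rw [Scheme.Hom.comp_apply, hz]
  haveI := hdisc.to_subtype
  have hopen : IsOpen ({⟨z, hzF⟩} : Set ((i ≫ f) ⁻¹' {f x})) := isOpen_discrete _
  obtain ⟨O, hO, hOeq⟩ := isOpen_induced_iff.mp hopen
  let W : Z.Opens := ⟨O, hO⟩
  have hzW : z ∈ W := by
    have : (⟨z, hzF⟩ : (i ≫ f) ⁻¹' {f x}) ∈ Subtype.val ⁻¹' O := by
      rw [hOeq]; rfl
    exact this
  refine ⟨W, W.ι ≫ i, ⟨z, hzW⟩, inferInstance, ?_, ?_, ?_⟩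
  · rw [Category.assoc]; infer_instance
  · rw [Scheme.Hom.comp_apply]
    exact hz
  · intro z' hz'
    rw [Scheme.Hom.comp_apply] at hz'
    have hmem : (W.ι z' : Z) ∈ (i ≫ f) ⁻¹' {f x} := by
      change (i ≫ f) (W.ι z') = f x
      rw [Scheme.Hom.comp_apply]; exact hz'
    have h2 : (⟨W.ι z', hmem⟩ : (i ≫ f) ⁻¹' {f x}) ∈ Subtype.val ⁻¹' O := z'.2
    rw [hOeq] at h2
    have h3 : (W.ι z' : Z) = z := congrArg Subtype.val h2
    exact Subtype.ext h3


end Groth.Agent.S0413
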