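import Groth.Statements.S0418
import Groth.Agent.Lib.Helper6.UHAwayP
import Groth.Agent.Lib.Helper6.AWNRing2
-- import your own Groth.Agent.* helpers here

set_option autoImplicit false
universe u
open FlatMor

namespace Groth.Agent.S0418

open AlgebraicGeometry in
/-- For a prime number p and a ring map A → B that becomes an isomorphism after inverting p, Spec B →
Spec A is a universal homeomorphism if and only if the kernel consists of nilpotents and every
element of B has some p-power multiple and p-power power in the image. -/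
theorem result {A B : Type u} [CommRing A] [CommRing B] (φ : A →+* B) (p : ℕ) (hp : p.Prime)
    (h : Function.Bijective (Localization.awayMap φ (p : A))) :
    FlatMor.IsUnivHomeo (Spec.map (CommRingCat.ofHom φ)) ↔
      (∀ a ∈ RingHom.ker φ, IsNilpotent a) ∧ ∀ b : B, ∃ n : ℕ, (p ^ n : B) * b ∈ φ.range ∧ b ^ (p ^ n) ∈ φ.range := by
  rw [Groth.Agent.Lib.Helper6.SqCube.uh_iff]
  constructor
  · intro hU
    refine ⟨fun a ha => ?_, ?_⟩
    · exact mem_nilradical.mp (Groth.Agent.Lib.Helper6.AWN.uh_ker_le_nilradical hU ha)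
    · have hmul : ∀ b : B, ∃ m : ℕ, (p : B) ^ m * b ∈ φ.range := by
        intro b
        obtain ⟨a, m, ham⟩ := (Localization.awayMap_surjective_iff.mp h.2) b
        exact ⟨m, a, by rw [ham, map_natCast]⟩
      intro b
      obtain ⟨m, hm⟩ := hmul b
      obtain ⟨n, hn⟩ := Groth.Agent.Lib.Helper6.UHAwayP.exists_pow_mem_range φ hU p hp hmul b
      refine ⟨max m n, ?_, ?_⟩
      · have e : ((p : B) ^ (max m n)) * b = φ ((p : A) ^ (max m n - m)) * ((p : B) ^ m * b) := by
          rw [map_pow, map_natCast, ← mul_assoc, ← pow_add,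
            Nat.sub_add_cancel (le_max_left _ _)]
        rw [e]
        exact mul_mem ⟨_, rfl⟩ hm
      · have e : b ^ p ^ (max m n) = (b ^ p ^ n) ^ (p ^ (max m n - n)) := by
          rw [← pow_mul, ← pow_add, Nat.add_sub_cancel' (le_max_right _ _)]
        rw [e]
        exact pow_mem hn _
  · rintro ⟨hnil, hpow⟩
    have hint : φ.IsIntegral := by
      intro b
      obtain ⟨n, -, a, ha⟩ := hpow b
      letI := φ.toAlgebra
      have h1 : IsIntegral A (b ^ p ^ n) := by
        rw [← ha]
        exact isIntegral_algebraMap (R := A) (A := B) (x := a)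
      exact IsIntegral.of_pow (pow_pos hp.pos n) h1
    refine ⟨hint, ?_, Groth.Agent.Lib.Helper6.UnivHomeoRing.comap_surjective_of_isIntegral_of_ker_le
      φ hint (fun a ha => mem_nilradical.mpr (hnil a ha))⟩
    intro K _ σ τ hστ
    ext b
    obtain ⟨n, ⟨a₁, h1⟩, ⟨a₂, h2⟩⟩ := hpow b
    by_cases hpK : (p : K) = 0
    · haveI : Fact p.Prime := ⟨hp⟩
      haveI : CharP K p := (CharP.charP_iff_prime_eq_zero hp).mpr hpK
      apply iterateFrobenius_inj K p n
      rw [iterateFrobenius_def, iterateFrobenius_def, ← map_pow, ← map_pow, ← h2]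
      exact congrArg (fun f => f a₂) hστ
    · have e : (p : K) ^ n * σ b = (p : K) ^ n * τ b := by
        have e1 : σ (φ a₁) = τ (φ a₁) := congrArg (fun f => f a₁) hστ
        rw [h1, map_mul, map_mul, map_pow, map_pow, map_natCast, map_natCast] at e1
        exact e1
      exact mul_left_cancel₀ (pow_ne_zero n hpK) e

end Groth.Agent.S0418
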