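import Groth.Statements.S0420
import Groth.Agent.Lib.Helper21.GIS9
-- import your own Groth.Agent.* helpers here

set_option autoImplicit false
universe u
open FlatMor

namespace Groth.Agent.S0420

open AlgebraicGeometry CategoryTheory Limits in
/-- For a morphism of finite type to an irreducible scheme whose generic fibre is geometrically
connected, all fibres over some nonempty open of the target are geometrically connected. -/
theorem result {X Y : Scheme.{u}} (f : X ⟶ Y) [IrreducibleSpace ↑Y] [LocallyOfFiniteType f] [QuasiCompact f]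
    (h : GeometricallyConnected (f.fiberToSpecResidueField (genericPoint ↑Y))) :
    ∃ V : Y.Opens, (V : Set ↑Y).Nonempty ∧ GeometricallyConnected (f ∣_ V) := by
  obtain ⟨V₀, hV₀, Ω, _, _, ψΩ, V, hηV, hptΩ, H⟩ :=
    Groth.Agent.Lib.Helper21.GIS.exists_open_connectedSpace_iff f
  haveI := h
  have hΩ : ConnectedSpace ↥(pullback f (Groth.Agent.Lib.Helper21.GIS.pt hV₀ ψΩ)) :=
    Groth.Agent.Lib.Helper21.GIS.connectedSpace_of_isPullback f (genericPoint ↑Y) _ hptΩ _ _
      (IsPullback.of_hasPullback _ _)
  refine ⟨V, ⟨_, hηV⟩,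
    Groth.Agent.Lib.Helper21.GIS.geometricallyConnected_restrict_of_forall_fiber f V fun s hs => ?_⟩
  obtain ⟨L, _, _, ψL, hptL, hiff⟩ := H s hs
  haveI : ConnectedSpace ↥(pullback f (Groth.Agent.Lib.Helper21.GIS.pt hV₀ ψL)) := hiff.mp hΩ
  exact Groth.Agent.Lib.Helper21.GIS.geometricallyConnected_fiber_of_connectedSpace f s _ hptL

end Groth.Agent.S0420
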