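import Groth.Statements.S0421
import Groth.Agent.Lib.Helper25.ConnDVR

set_option autoImplicit false
universe u
open FlatMor

namespace Groth.Agent.S0421

open AlgebraicGeometry CategoryTheory Limits in
/-- For a flat morphism from a connected scheme to the spectrum of a discrete valuation ring with
reduced closed fibre, the generic fibre is connected. -/
theorem result {R : Type u} [CommRing R] [IsDomain R] [IsDiscreteValuationRing R] {X : Scheme.{u}}
    (f : X ⟶ Spec (CommRingCat.of R)) [Flat f] [ConnectedSpace ↑X]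
    (hred : IsReduced (f.fiber (IsLocalRing.closedPoint R))) :
    ConnectedSpace ↑(f.fiber (⟨⊥, Ideal.isPrime_bot⟩ : PrimeSpectrum R)) := by
  obtain ⟨π, hπ⟩ := IsDiscreteValuationRing.exists_irreducible R
  have hπ0 : π ∈ nonZeroDivisors R := mem_nonZeroDivisors_of_ne_zero hπ.ne_zero
  have hm : IsLocalRing.maximalIdeal R = Ideal.span {π} := hπ.maximalIdeal_eq
  obtain ⟨h1, h2⟩ := Groth.Agent.Lib.Helper25.ConnDVR.isPreconnected_preimage_basicOpen f π hπ0 hm hred
  have hset : (PrimeSpectrum.basicOpen π : Set (PrimeSpectrum R)) =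
      {(⟨⊥, Ideal.isPrime_bot⟩ : PrimeSpectrum R)} := by
    ext p
    simp only [Set.mem_singleton_iff]
    constructor
    · intro hp
      by_contra hne
      have hpne : p.asIdeal ≠ ⊥ := fun h => hne (PrimeSpectrum.ext h)
      have hmax : p.asIdeal.IsMaximal := Ring.DimensionLEOne.maximalOfPrime hpne p.isPrime
      have : p.asIdeal = IsLocalRing.maximalIdeal R := IsLocalRing.eq_maximalIdeal hmax
      apply hp
      change π ∈ p.asIdeal
      rw [this, hm]
      exact Ideal.mem_span_singleton_self π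
    · rintro rfl
      change π ∉ (⊥ : Ideal R)
      rw [Ideal.mem_bot]
      exact hπ.ne_zero
  rw [hset] at h1 h2
  have hne : (f ⁻¹' {(⟨⊥, Ideal.isPrime_bot⟩ : PrimeSpectrum R)}).Nonempty := h2.nonempty
  have hconn : _root_.IsConnected (f ⁻¹' {(⟨⊥, Ideal.isPrime_bot⟩ : PrimeSpectrum R)}) := ⟨hne, h1⟩
  have : ConnectedSpace (f ⁻¹' {(⟨⊥, Ideal.isPrime_bot⟩ : PrimeSpectrum R)}) :=
    isConnected_iff_connectedSpace.mp hconn
  exact (f.fiberHomeo _).symm.surjective.connectedSpace (f.fiberHomeo _).symm.continuous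


end Groth.Agent.S0421
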