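import Groth.Statements.S0422
import Groth.Agent.Lib27.Flat.NilDescent
import Groth.Agent.Lib.Helper9.FlatCrit

set_option autoImplicit false
universe u
open FlatMor

namespace Groth.Agent.S0422

open TensorProduct in
/-- Fibrewise criterion of flatness modulo a locally nilpotent ideal: let R → S be of finite type, S' an
S-algebra which is of finite presentation over R, I an ideal of R all of whose elements are
nilpotent, and M a finitely presented S'-module which is flat over R and such that M/IM is flat over
S/IS. Then M is flat over S. (The published statement also asserts flatness over R of suitable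
localizations of S; that part is not stated here.) -/
theorem result {R S S' M : Type u} [CommRing R] [CommRing S] [CommRing S'] [Algebra R S] [Algebra S S'] [Algebra R S'] [IsScalarTower R S S']
    [Algebra.FiniteType R S] [Algebra.FinitePresentation R S'] (I : Ideal R) (hI : ∀ a ∈ I, IsNilpotent a)
    [AddCommGroup M] [Module S' M] [Module S M] [Module R M] [IsScalarTower S S' M] [IsScalarTower R S M]
    [Module.FinitePresentation S' M] [Module.Flat R M]
    (h : Module.Flat (S ⧸ I.map (algebraMap R S)) ((S ⧸ I.map (algebraMap R S)) ⊗[S] M)) : Module.Flat S M := by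
  classical
  haveI : Algebra.FinitePresentation S S' :=
    Algebra.FinitePresentation.of_restrict_scalars_finitePresentation R S S'
  obtain ⟨n, π, hπ, hker⟩ := Algebra.FinitePresentation.out (R := S) (A := S')
  letI algPS' : Algebra (MvPolynomial (Fin n) S) S' := π.toRingHom.toAlgebra
  haveI : IsScalarTower S (MvPolynomial (Fin n) S) S' :=
    IsScalarTower.of_algebraMap_eq (fun s => (π.commutes s).symm)
  letI modPM : Module (MvPolynomial (Fin n) S) M := Module.compHom M π.toRingHom
  haveI : IsScalarTower (MvPolynomial (Fin n) S) S' M :=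
    IsScalarTower.of_algebraMap_smul fun _ _ => rfl
  haveI : IsScalarTower S (MvPolynomial (Fin n) S) M :=
    IsScalarTower.of_algebraMap_smul fun s x => by
      change π (algebraMap S _ s) • x = s • x
      rw [π.commutes, algebraMap_smul]
  haveI : Module.FinitePresentation (MvPolynomial (Fin n) S) S' := by
    refine Module.finitePresentation_of_surjective
      (Algebra.linearMap (MvPolynomial (Fin n) S) S') hπ ?_
    have : LinearMap.ker (Algebra.linearMap (MvPolynomial (Fin n) S) S') =
        RingHom.ker π.toRingHom := by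
      ext τ
      rfl
    rw [this]
    exact hker
  haveI : Module.FinitePresentation (MvPolynomial (Fin n) S) M :=
    Module.FinitePresentation.trans (MvPolynomial (Fin n) S) M S'
  obtain ⟨r, K, e, hK⟩ := Module.FinitePresentation.exists_fin (MvPolynomial (Fin n) S) M
  obtain ⟨m, g₀, hg₀⟩ := Submodule.fg_iff_exists_fin_generating_family.mp hK
  have hKg : K = Groth.Agent.Lib.Helper18.Fl.Kspan g₀ := hg₀.symm
  subst hKg
  let eS : M ≃ₗ[S] ((Fin r → MvPolynomial (Fin n) S) ⧸ Groth.Agent.Lib.Helper18.Fl.Kspan g₀) :=
    e.restrictScalars S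
  haveI h1 : Module.Flat (S ⧸ I.map (algebraMap R S)) ((S ⧸ I.map (algebraMap R S)) ⊗[S]
      ((Fin r → MvPolynomial (Fin n) S) ⧸ Groth.Agent.Lib.Helper18.Fl.Kspan g₀)) :=
    Module.Flat.of_linearEquiv
      (TensorProduct.AlgebraTensorModule.congr
        (LinearEquiv.refl (S ⧸ I.map (algebraMap R S)) (S ⧸ I.map (algebraMap R S))) eS).symm
  haveI h2 := (Groth.Agent.Lib27.BCPres.flat_pres_iff (R₁ := S ⧸ I.map (algebraMap R S)) g₀).mp h1
  obtain ⟨I₀, hfg, hle, hfl⟩ := Groth.Agent.Lib27.NilDescent.exists_fg_le_flat I g₀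
  haveI h3 : Module.Flat (S ⧸ I₀.map (algebraMap R S)) ((S ⧸ I₀.map (algebraMap R S)) ⊗[S]
      ((Fin r → MvPolynomial (Fin n) S) ⧸ Groth.Agent.Lib.Helper18.Fl.Kspan g₀)) :=
    (Groth.Agent.Lib27.BCPres.flat_pres_iff (R₁ := S ⧸ I₀.map (algebraMap R S)) g₀).mpr hfl
  haveI h4 : Module.Flat (S ⧸ I₀.map (algebraMap R S))
      ((S ⧸ I₀.map (algebraMap R S)) ⊗[S] M) :=
    Module.Flat.of_linearEquiv
      (TensorProduct.AlgebraTensorModule.congr
        (LinearEquiv.refl (S ⧸ I₀.map (algebraMap R S)) (S ⧸ I₀.map (algebraMap R S))) eS)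
  have hnil₀ : IsNilpotent I₀ :=
    (Ideal.FG.isNilpotent_iff_le_nilradical hfg).mpr (fun a ha => mem_nilradical.mpr (hI a (hle ha)))
  have hnil : IsNilpotent (I₀.map (algebraMap R S)) := by
    obtain ⟨k, hk⟩ := hnil₀
    refine ⟨k, ?_⟩
    rw [← Ideal.map_pow, hk]
    exact Ideal.map_bot
  haveI : IsScalarTower R S M := inferInstance
  have hinjR : Function.Injective (I₀.subtype.rTensor M) :=
    Module.Flat.rTensor_preserves_injective_linearMap _ I₀.injective_subtype
  have hinjS := Groth.Agent.Lib.Helper9.rTensor_map_subtype_injective (S := S) I₀ hinjR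
  exact Groth.Agent.Lib.Helper9.flat_of_isNilpotent_of_rTensor_injective
    (I₀.map (algebraMap R S)) hnil hinjS

end Groth.Agent.S0422
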