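import Groth.Statements.S0425
-- import your own Groth.Agent.* helpers here
import Groth.Agent.Lib.Helper12.UnivHomeo

set_option autoImplicit false
universe u
open FlatMor

namespace Groth.Agent.S0425

open AlgebraicGeometry CategoryTheory Limits in
/-- A weakly étale universal homeomorphism is an isomorphism. -/
theorem result {X Y : Scheme.{u}} (f : X ⟶ Y) [WeaklyEtale f] (h : FlatMor.IsUnivHomeo f) : IsIso f := by
  exact Groth.Agent.Lib.Helper12.isIso_of_weaklyEtale_of_isUnivHomeo f h

end Groth.Agent.S0425
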