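import Groth.Statements.S0426
import Groth.Agent.Lib.Helper26.WeaklyEtale

set_option autoImplicit false
universe u
open FlatMor

namespace Groth.Agent.S0426

theorem weaklyEtale_intermediateField {K L : Type u} [Field K] [Field L] [Algebra K L]
    [Algebra.WeaklyEtale K L] (L' : IntermediateField K L) : Algebra.WeaklyEtale K L' := by
  have h0 := Groth.Agent.Lib.Helper26.flat_lmul'_of_faithfullyFlat K L' L
      (Algebra.WeaklyEtale.flat_lmul' K L)
  exact ⟨inferInstance, h0⟩

theorem isSeparable_intermediateField_of_fg {K L : Type u} [Field K] [Field L] [Algebra K L]
    [Algebra.WeaklyEtale K L] (L' : IntermediateField K L) (h : L'.FG) :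
    Algebra.IsSeparable K L' := by
  have h1 : Algebra.WeaklyEtale K L' := weaklyEtale_intermediateField L'
  have h2 : Algebra.FormallyUnramified K L' :=
    Groth.Agent.Lib.Helper26.formallyUnramified_of_weaklyEtale K L'
  have h3 : Algebra.EssFiniteType K L' :=
    IntermediateField.essFiniteType_iff.mpr h
  exact Algebra.FormallyUnramified.isSeparable K L'

/-- A field extension L/K such that L is weakly étale over K (equivalently the multiplication map of L
⊗_K L is flat) is algebraic and separable. -/
theorem result {K L : Type u} [Field K] [Field L] [Algebra K L] [Algebra.WeaklyEtale K L] : Algebra.IsSeparable K L := by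
  rw [Algebra.isSeparable_def]
  intro x
  have h4 := isSeparable_intermediateField_of_fg (IntermediateField.adjoin K {x})
    (IntermediateField.fg_adjoin_of_finite (Set.finite_singleton x))
  have hx := Algebra.IsSeparable.isSeparable K
    (⟨x, IntermediateField.mem_adjoin_simple_self K x⟩ : IntermediateField.adjoin K {x})
  have := (isSeparable_map_iff (IntermediateField.adjoin K {x}).val Subtype.val_injective).mpr hx
  exact this

end Groth.Agent.S0426
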