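import Groth.Statements.S0433
import Mathlib
import Groth.Agent.Lib.Helper10.Ferrand3

set_option autoImplicit false
universe u
open FlatMor

namespace Groth.Agent.S0433

open AlgebraicGeometry CategoryTheory Limits in
/-- For a surjective ring map A' → A and any ring map B → A, the spectra of A, A', B and of the fibre
product ring B ×_A A' form a pushout square of schemes. -/
theorem result {A A' B : Type u} [CommRing A] [CommRing A'] [CommRing B] (p : A' →+* A) (hp : Function.Surjective p) (q : B →+* A) :
    IsPushout (Spec.map (CommRingCat.ofHom p)) (Spec.map (CommRingCat.ofHom q))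
      (Spec.map (pullback.snd (CommRingCat.ofHom q) (CommRingCat.ofHom p)))
      (Spec.map (pullback.fst (CommRingCat.ofHom q) (CommRingCat.ofHom p))) := by
  have hpb := CategoryTheory.IsPullback.of_hasPullback (CommRingCat.ofHom q) (CommRingCat.ofHom p)
  have hfib := Groth.Agent.Lib.Helper10.Ferrand.isFibProd_of_isPullback hpb
  have hnat : ∀ {R₁ R₂ : CommRingCat.{u}} (f : R₁ ⟶ R₂) (x : R₁),
      (AlgebraicGeometry.Spec.map f).appTop
        ((AlgebraicGeometry.Scheme.ΓSpecIso R₁).symm.commRingCatIsoToRingEquiv x) =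
      (AlgebraicGeometry.Scheme.ΓSpecIso R₂).symm.commRingCatIsoToRingEquiv (f x) := by
    intro R₁ R₂ f x
    exact (CategoryTheory.ConcreteCategory.congr_hom
      (AlgebraicGeometry.Scheme.ΓSpecIso_inv_naturality f) x).symm
  apply Groth.Agent.Lib.Helper10.Ferrand.Sq.isPushout
  refine ⟨?_, ?_, ?_⟩
  · rw [← AlgebraicGeometry.Spec.map_comp, ← AlgebraicGeometry.Spec.map_comp,
      CategoryTheory.Limits.pullback.condition]
  · exact hfib.of_equiv
      (AlgebraicGeometry.Scheme.ΓSpecIso _).symm.commRingCatIsoToRingEquiv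
      (AlgebraicGeometry.Scheme.ΓSpecIso _).symm.commRingCatIsoToRingEquiv
      (AlgebraicGeometry.Scheme.ΓSpecIso _).symm.commRingCatIsoToRingEquiv
      (AlgebraicGeometry.Scheme.ΓSpecIso _).symm.commRingCatIsoToRingEquiv
      (fun x => hnat _ x) (fun x => hnat _ x) (fun x => hnat _ x) (fun x => hnat _ x)
  · intro y
    obtain ⟨y, rfl⟩ :=
      (AlgebraicGeometry.Scheme.ΓSpecIso (CommRingCat.of A)).symm.commRingCatIsoToRingEquiv.surjective y
    obtain ⟨x, rfl⟩ := hp y
    exact ⟨(AlgebraicGeometry.Scheme.ΓSpecIso (CommRingCat.of A')).symm.commRingCatIsoToRingEquiv x,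
      hnat (CommRingCat.ofHom p) x⟩

end Groth.Agent.S0433
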