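import Groth.Statements.S0435
import Groth.Agent.Lib.Helper21.SCmp28
-- import your own Groth.Agent.* helpers here

set_option autoImplicit false
universe u
open FlatMor

namespace Groth.Agent.S0435

open AlgebraicGeometry CategoryTheory Limits in
/-- For a flat proper morphism of finite presentation, the points of the target whose fibre is
geometrically reduced form an open subset. -/
theorem result {X Y : Scheme.{u}} (f : X ⟶ Y) [Flat f] [IsProper f] [LocallyOfFinitePresentation f] :
    IsOpen {y : ↑Y | GeometricallyReduced (f.fiberToSpecResidueField y)} := by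
  have hE := Groth.Agent.Lib.Helper21.SCmp.isOpen_gRAt f
  have hcl : IsClosed (f '' {x : X | Groth.Agent.Lib.Helper21.SCmp.GRAt f x}ᶜ) :=
    f.isClosedMap _ hE.isClosed_compl
  have heq : {y : ↑Y | GeometricallyReduced (f.fiberToSpecResidueField y)} =
      (f '' {x : X | Groth.Agent.Lib.Helper21.SCmp.GRAt f x}ᶜ)ᶜ := by
    ext y
    simp only [Set.mem_ofPred_eq, Set.mem_compl_iff, Set.mem_image, not_exists, not_and]
    constructor
    · intro h x hx hxy
      subst hxy
      exact hx ((Groth.Agent.Lib.Helper21.SCmp.geometricallyReduced_iff_forall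
        (k := Y.residueField (f x)) _).mp h _)
    · intro h
      refine (Groth.Agent.Lib.Helper21.SCmp.geometricallyReduced_iff_forall
        (k := Y.residueField y) _).mpr ?_
      intro z
      refine (Groth.Agent.Lib.Helper21.SCmp.gRAt_iff_of_fiberι f y z).mp ?_
      by_contra hz
      exact h _ hz (f.fiberHomeo y z).2
  rw [heq]
  exact hcl.isOpen_compl

end Groth.Agent.S0435
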