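import Groth.Statements.S0436
import Groth.Agent.Lib.Helper25.RedDVR

set_option autoImplicit false
universe u
open FlatMor

namespace Groth.Agent.S0436

open Groth.Agent.Lib.Helper25.RedDVR Groth.Agent.Lib.Helper25.RedFiber
open AlgebraicGeometry CategoryTheory Limits in
/-- For a proper flat morphism to the spectrum of a discrete valuation ring whose special fibre is
reduced, both the total space and the generic fibre are reduced. (The published statement is
stronger: instead of flatness it only needs every irreducible component of the total space to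
dominate the base.) -/
theorem result {R : Type u} [CommRing R] [IsDomain R] [IsDiscreteValuationRing R] {X : Scheme.{u}}
    (f : X ⟶ Spec (CommRingCat.of R)) [IsProper f] [Flat f]
    (hred : IsReduced (f.fiber (IsLocalRing.closedPoint R))) :
    IsReduced X ∧ IsReduced (f.fiber (⟨⊥, Ideal.isPrime_bot⟩ : PrimeSpectrum R)) := by
  have hX : IsReduced X := by
    have : IsLocallyNoetherian X := LocallyOfFiniteType.isLocallyNoetherian f
    obtain ⟨π, hπ⟩ := IsDiscreteValuationRing.exists_irreducible R
    have hπ0 : π ∈ nonZeroDivisors R := mem_nonZeroDivisors_of_ne_zero hπ.ne_zero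
    have hm : IsLocalRing.maximalIdeal R = Ideal.span {π} := hπ.maximalIdeal_eq
    apply isReduced_of_forall_exists
    intro x
    -- find a specialization of x in the special fibre
    have hcl : IsClosed (f '' closure {x}) := f.isClosedMap _ isClosed_closure
    have hmem : IsLocalRing.closedPoint R ∈ f '' closure {x} := by
      have hsp : (f x : PrimeSpectrum R) ⤳ IsLocalRing.closedPoint R :=
        IsLocalRing.specializes_closedPoint _
      exact hsp.mem_closed hcl ⟨x, subset_closure rfl, rfl⟩
    obtain ⟨z, hz, hfz⟩ := hmem
    obtain ⟨_, ⟨U, hU0, rfl⟩, hzU, -⟩ :=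
      X.isBasis_affineOpens.exists_subset_of_mem_open (Set.mem_univ z) isOpen_univ
    have hU : IsAffineOpen U := hU0
    obtain ⟨a, ha, hared⟩ := exists_basicOpen_isReduced f π hπ0 hm hred U hU
    refine ⟨X.basicOpen a, ?_, hared⟩
    have hza : z ∈ X.basicOpen a := ha z hzU hfz
    obtain ⟨y, hy1, hy2⟩ := mem_closure_iff.mp hz _ (X.basicOpen a).isOpen hza
    rw [Set.mem_singleton_iff] at hy2
    rwa [hy2] at hy1
  refine ⟨hX, ?_⟩
  apply isReduced_fiber_of_closure_mem_irreducibleComponents
  have : IrreducibleSpace (Spec (CommRingCat.of R)) := inferInstance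
  rw [irreducibleComponents_eq_singleton, Set.mem_singleton_iff]
  change closure {(⟨⊥, Ideal.isPrime_bot⟩ : PrimeSpectrum R)} = Set.univ
  rw [PrimeSpectrum.closure_singleton]
  exact PrimeSpectrum.zeroLocus_bot


end Groth.Agent.S0436
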