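import Groth.Statements.S0441
import Groth.Agent.S1390
import Groth.Agent.S1379
import Groth.Agent.Lib.Helper1.FL2

set_option autoImplicit false
universe u
open FlatMor

namespace Groth.Agent.S0441

open AlgebraicGeometry CategoryTheory Limits in
/-- For a surjective, flat morphism locally of finite presentation U → S (an fppf cover by one morphism)
with S quasi-compact and quasi-separated, there is a surjective finite morphism of finite
presentation S' → S that factors through U locally on S'. -/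
theorem result {U S : Scheme.{u}} (g : U ⟶ S) [Flat g] [LocallyOfFinitePresentation g] [Surjective g] [CompactSpace ↑S] [QuasiSeparatedSpace ↑S] :
    ∃ (S' : Scheme.{u}) (π : S' ⟶ S), Surjective π ∧ IsFinite π ∧ LocallyOfFinitePresentation π ∧
      ∀ y : ↑S', ∃ (V : S'.Opens) (h : ↑V ⟶ U), y ∈ V ∧ h ≫ g = V.ι ≫ π := by
  classical
  have hloc : ∀ s : S, ∃ (V : S.Opens) (T : Scheme.{u}) (π : T ⟶ (V : Scheme.{u})), s ∈ V ∧
      IsAffineOpen V ∧ IsIntegralHom π ∧ Surjective π ∧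
      Groth.Agent.Lib.Helper1.FL.FactorsLocally (π ≫ V.ι ≫ 𝟙 S) g := by
    intro s
    obtain ⟨S', Vf, e, πf, he, ⟨s', hs'⟩, hπfsurj, hπffin, hπfflat, hπffp, hπffac⟩ :=
      Groth.Agent.S1379.result g s
    haveI := he
    haveI := hπfsurj
    haveI := hπffin
    have hπffac' : Groth.Agent.Lib.Helper1.FL.FactorsLocally (πf ≫ e) g := by
      intro v
      obtain ⟨W, r, hvW, hr⟩ := hπffac v
      exact ⟨W, r, hvW, by rw [hr]⟩
    obtain ⟨V₀, T₀, ρ₀, hsV₀, hV₀aff, hρ₀surj, hρ₀fin, hρ₀flat, hρ₀fp, hgood⟩ :=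
      Groth.Agent.S1390.result e s' s hs'
    haveI := hρ₀surj
    haveI := hρ₀fin
    obtain ⟨V, T, ρ, hsV, hVaff, hρint, hρsurj, hρfac⟩ :=
      Groth.Agent.Lib.Helper1.FL.exists_shrink (𝟙 S) e s V₀ hsV₀ ρ₀ (by
        intro t ht
        obtain ⟨W, h, htW, hh, -⟩ := hgood t ht
        refine ⟨W, h, htW, ?_⟩
        rw [hh, Category.comp_id])
    haveI := hρint
    haveI := hρsurj
    haveI : IsAffine (V : Scheme.{u}) := hVaff
    haveI : IsAffine T := isAffine_of_isAffineHom ρ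
    -- covers of T
    have hlocT : ∀ t : T, ∃ (O : T.Opens) (Q : Scheme.{u}) (q : Q ⟶ (O : Scheme.{u})), t ∈ O ∧
        IsAffineOpen O ∧ IsIntegralHom q ∧ Surjective q ∧
        Groth.Agent.Lib.Helper1.FL.FactorsLocally (q ≫ O.ι ≫ (ρ ≫ V.ι)) g := by
      intro t
      obtain ⟨O, h, htO, hOaff, hh⟩ :=
        Groth.Agent.Lib.Helper1.FL.FactorsAt.exists_isAffineOpen (hρfac t)
      refine ⟨O, pullback h πf, pullback.fst h πf, htO, hOaff, inferInstance,
        MorphismProperty.pullback_fst (P := @Surjective) _ _ inferInstance, ?_⟩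
      have heq : pullback.snd h πf ≫ πf ≫ e = pullback.fst h πf ≫ O.ι ≫ (ρ ≫ V.ι) := by
        rw [← Category.assoc, ← pullback.condition, Category.assoc, hh]
        simp
      exact (hπffac'.precomp (pullback.snd h πf)).of_eq heq
    obtain ⟨P₁, p₁, hp₁int, hp₁surj, hp₁fac⟩ :=
      Groth.Agent.Lib.Helper1.FL.exists_integral_cover_of_local (ρ ≫ V.ι) g hlocT
    haveI := hp₁int
    haveI := hp₁surj
    refine ⟨V, P₁, p₁ ≫ ρ, hsV, hVaff, inferInstance, inferInstance, ?_⟩
    refine hp₁fac.of_eq ?_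
    simp
  obtain ⟨P, p, hpint, hpsurj, hpfac⟩ :=
    Groth.Agent.Lib.Helper1.FL.exists_integral_cover_of_local (𝟙 S) g hloc
  haveI := hpint
  haveI := hpsurj
  obtain ⟨P', p', h1, h2, h3, h4⟩ :=
    Groth.Agent.Lib.Helper1.FL.exists_finite_fp_cover (𝟙 S) g p hpfac
  refine ⟨P', p', h3, h1, h2, fun y => ?_⟩
  obtain ⟨W, h, hyW, hh⟩ := h4 y
  refine ⟨W, h, hyW, ?_⟩
  rw [hh, Category.comp_id]

end Groth.Agent.S0441
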