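import Groth.Statements.S0443
-- import your own Groth.Agent.* helpers here
import Groth.Agent.Lib.Helper4.FiniteStalk

set_option autoImplicit false
universe u
open FlatMor

namespace Groth.Agent.S0443

open AlgebraicGeometry CategoryTheory Limits in
/-- For a finite morphism π : X → Y and a point x of X that is the only point of its fibre, the induced
homomorphism of local rings O_{Y,π(x)} → O_{X,x} is finite. (The published lemma has further parts,
not stated here.) -/
theorem result {X Y : Scheme.{u}} (π : X ⟶ Y) [IsFinite π] (x : X) (hx : ∀ x' : ↑X, π x' = π x → x' = x) :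
    (π.stalkMap x).hom.Finite := by
  obtain ⟨_, ⟨V, hV, rfl⟩, hyV, -⟩ :=
    Y.isBasis_affineOpens.exists_subset_of_mem_open (Set.mem_univ (π x)) isOpen_univ
  have hU : IsAffineOpen (π ⁻¹ᵁ V) := hV.preimage π
  have hxU : x ∈ π ⁻¹ᵁ V := hyV
  have hfin : (π.app V).hom.Finite := IsFinite.finite_app π V hV
  have hcomap := IsAffineOpen.comap_primeIdealOf_appLE (f := π) (x := x) V hV (π ⁻¹ᵁ V) hU le_rfl hxU
  rw [← Scheme.Hom.app_eq_appLE] at hcomap
  let _ := X.presheaf.algebra_section_stalk (U := π ⁻¹ᵁ V) ⟨x, hxU⟩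
  let _ := Y.presheaf.algebra_section_stalk (U := V) ⟨π x, hyV⟩
  have := hU.isLocalization_stalk ⟨x, hxU⟩
  have := hV.isLocalization_stalk ⟨π x, hyV⟩
  refine Groth.Agent.Lib.Helper4.finite_of_isLocalization_atPrime_of_unique (π.app V).hom hfin
    (hV.primeIdealOf ⟨π x, hyV⟩).asIdeal (hU.primeIdealOf ⟨x, hxU⟩).asIdeal ?_ ?_
    (Y.presheaf.stalk (π x)) (X.presheaf.stalk x) (π.stalkMap x).hom ?_
  · exact congrArg PrimeSpectrum.asIdeal hcomap.symm
  · intro q' hq' hq'p
    set z : Spec Γ(X, π ⁻¹ᵁ V) := ⟨q', hq'⟩ with hz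
    have h1 : π (hU.fromSpec z) = hV.fromSpec (Spec.map (π.app V) z) := by
      rw [← Scheme.Hom.comp_apply, ← Scheme.Hom.comp_apply, Scheme.Hom.app_eq_appLE,
        IsAffineOpen.SpecMap_appLE_fromSpec π hV hU le_rfl]
    have h2 : Spec.map (π.app V) z = hV.primeIdealOf ⟨π x, hyV⟩ := by
      apply PrimeSpectrum.ext
      exact hq'p
    rw [h2, hV.fromSpec_primeIdealOf] at h1
    have h3 : hU.fromSpec z = x := hx _ h1
    have h4 : z = hU.primeIdealOf ⟨x, hxU⟩ := by
      apply hU.fromSpec.isOpenEmbedding.injective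
      rw [h3, hU.fromSpec_primeIdealOf]
    exact congrArg PrimeSpectrum.asIdeal h4
  · have := Scheme.Hom.germ_stalkMap π V x hyV
    have h5 := congrArg CommRingCat.Hom.hom this
    rw [CommRingCat.hom_comp, CommRingCat.hom_comp] at h5
    exact h5

end Groth.Agent.S0443
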