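import Groth.Statements.S4932
import Groth.Agent.Lib.Helper21.FlatGen3
import Groth.Agent.Lib.Helper21.OpenAt21
import Groth.Agent.Lib.Helper21.CompBC
-- import your own Groth.Agent.* helpers here

set_option autoImplicit false
open CategoryTheory AlgebraicGeometry
universe u v w
open EGA43

namespace Groth.Agent.S4932

/-- Let A be a valuation ring (not necessarily discrete), X an irreducible scheme and f : X ⟶ Spec A a
dominant morphism of finite type. If the fibre X_0 of f over the closed point is nonempty, then dim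
X_0 = dim X_1, where X_1 is the fibre over the generic point. -/
theorem result {A : Type u} [CommRing A] [IsDomain A]
    [ValuationRing A] {X : Scheme.{u}} [IrreducibleSpace X] (f : X ⟶ Spec (CommRingCat.of A))
    [LocallyOfFiniteType f] [QuasiCompact f] [IsDominant f]
    (h0 : Nonempty ↥(f.fiber (IsLocalRing.closedPoint A))) :
    topologicalKrullDim ↥(f.fiber (IsLocalRing.closedPoint A)) =
      topologicalKrullDim ↥(f.fiber (genericPoint (Spec (CommRingCat.of A)))) := by
  classical
  set η := genericPoint X with hη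
  set s₁ := genericPoint (Spec (CommRingCat.of A)) with hs₁
  have hfη : f η = s₁ := Groth.Agent.Lib.Helper21.CompBC.map_genericPoint_of_isDominant f
  obtain ⟨n, hn⟩ := Groth.Agent.Lib.Helper21.FibDim.exists_nat_trdeg_residueFieldMap f η
  have h1 : topologicalKrullDim ↥(f.fiber s₁) = n := by
    have h2 := Groth.Agent.Lib.Helper21.OpenAt.topologicalKrullDim_closure_inter_fiber f η n hn
    have hcl : closure ({η} : Set X) = Set.univ := (genericPoint_spec X).def
    rw [hcl, Set.univ_inter, hfη] at h2
    rw [← h2]
    exact (f.fiberHomeo s₁).isHomeomorph.topologicalKrullDim_eq _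
  obtain ⟨z₀⟩ := h0
  set s₀ : Spec (CommRingCat.of A) := IsLocalRing.closedPoint A with hs₀
  set x₀ := f.fiberι s₀ z₀ with hx₀def
  have hx₀ : f x₀ = s₀ := (f.fiberHomeo s₀ z₀).2
  rw [h1]
  apply le_antisymm
  · obtain ⟨x₁, hfx₁, hF⟩ :=
      Groth.Agent.Lib.Helper21.OpenAt.exists_fibreDimAt_eq_topologicalKrullDim_fiber f x₀
    obtain ⟨ζ, N, -, -, -, hζN, hFN⟩ :=
      Groth.Agent.Lib.Helper21.OpenAt.exists_maximal_generization_fibreDimAt f x₁
    rw [hx₀] at hF
    rw [← hF, hFN]
    have hsp : η ⤳ ζ := (genericPoint_spec X).specializes (Set.mem_univ _)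
    have hB := Groth.Agent.Lib.Helper21.FlatGen.trdeg_le_of_specializes_of_isBezout A f hsp
    rw [hζN, hn] at hB
    exact_mod_cast hB
  · have hsp : η ⤳ x₀ := (genericPoint_spec X).specializes (Set.mem_univ _)
    have h3 := Groth.Agent.Lib.Helper21.EquiSub.le_fibreDimAt_of_specializes f hsp n hn
    have h4 := Groth.Agent.Lib.Helper21.OpenAt.fibreDimAt_le_topologicalKrullDim_fiber f x₀
    rw [hx₀] at h4
    exact h3.trans h4

end Groth.Agent.S4932
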