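import Groth.Statements.S0444
import Groth.Agent.Lib.Helper21.SpecFibreDim
import Groth.Agent.S4932
-- import your own Groth.Agent.* helpers here

set_option autoImplicit false
universe u
open FlatMor

namespace Groth.Agent.S0444

open TensorProduct in
/-- Let R be a valuation ring with residue field κ and fraction field K, and S a domain of finite type
over R with R → S injective. If the special fibre κ ⊗_R S is nonzero, then its Krull dimension
equals the Krull dimension of the generic fibre K ⊗_R S. (The published statement also asserts that
the special fibre is equidimensional; that is not stated here.) -/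
theorem result {R S : Type u} [CommRing R] [IsDomain R] [ValuationRing R] [CommRing S] [IsDomain S] [Algebra R S]
    (hinj : Function.Injective (algebraMap R S)) [Algebra.FiniteType R S]
    [Nontrivial (IsLocalRing.ResidueField R ⊗[R] S)] :
    ringKrullDim (IsLocalRing.ResidueField R ⊗[R] S) = ringKrullDim (FractionRing R ⊗[R] S) := by
  classical
  set f := AlgebraicGeometry.Spec.map (CommRingCat.ofHom (algebraMap R S)) with hf
  have : AlgebraicGeometry.LocallyOfFiniteType f := by
    rw [hf, AlgebraicGeometry.HasRingHomProperty.Spec_iff (P := @AlgebraicGeometry.LocallyOfFiniteType)]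
    exact RingHom.finiteType_algebraMap.mpr inferInstance
  have : AlgebraicGeometry.IsDominant f := by
    refine ⟨?_⟩
    have h1 : DenseRange (PrimeSpectrum.comap (algebraMap R S)) := by
      rw [PrimeSpectrum.denseRange_comap_iff_ker_le_nilRadical,
        (RingHom.injective_iff_ker_eq_bot _).mp hinj]
      exact bot_le
    exact h1
  have e₀ := Groth.Agent.Lib.Helper21.SpecFibreDim.residueFieldTensorEquiv R S
  have e₁ := Groth.Agent.Lib.Helper21.SpecFibreDim.fractionRingTensorEquiv R S
  have h0 : Nonempty ↥(f.fiber (IsLocalRing.closedPoint R)) := by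
    have : Nontrivial ((IsLocalRing.maximalIdeal R).Fiber S) := e₀.injective.nontrivial
    obtain ⟨q⟩ := (PrimeSpectrum.nonempty_iff_nontrivial
      (R := (IsLocalRing.maximalIdeal R).Fiber S)).mpr inferInstance
    let z := (PrimeSpectrum.preimageHomeomorphFiber R S (IsLocalRing.closedPoint R)).symm q
    exact ⟨(f.fiberHomeo (IsLocalRing.closedPoint R)).symm z⟩
  have key := Groth.Agent.S4932.result f h0
  have hgen : genericPoint ↥(AlgebraicGeometry.Spec (CommRingCat.of R)) = (⊥ : PrimeSpectrum R) :=
    AlgebraicGeometry.genericPoint_eq_bot_of_affine (CommRingCat.of R)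
  rw [hgen, hf, Groth.Agent.Lib.Helper21.SpecFibreDim.topologicalKrullDim_fiber_specMap,
    Groth.Agent.Lib.Helper21.SpecFibreDim.topologicalKrullDim_fiber_specMap] at key
  rw [ringKrullDim_eq_of_ringEquiv e₀, ringKrullDim_eq_of_ringEquiv e₁]
  exact key

end Groth.Agent.S0444
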