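import Groth.Statements.S0445
-- import your own Groth.Agent.* helpers here

set_option autoImplicit false
universe u
open FlatMor

namespace Groth.Agent.S0445

open AlgebraicGeometry CategoryTheory Limits in
/-- Two morphisms over S into an S-scheme unramified over S which agree at a point and induce the same
map on residue fields there agree on an open neighbourhood of that point. -/
theorem result {X Y S : Scheme.{u}} (p : Y ⟶ S) [FormallyUnramified p] [LocallyOfFiniteType p] (f g : X ⟶ Y) (hfg : f ≫ p = g ≫ p)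
    (x : X) (h1 : f x = g x) (h2 : f.residueFieldMap x = (Y.residueFieldCongr h1).hom ≫ g.residueFieldMap x) :
    ∃ U : X.Opens, x ∈ U ∧ U.ι ≫ f = U.ι ≫ g := by
  have key : X.fromSpecResidueField x ≫ f = X.fromSpecResidueField x ≫ g := by
    rw [← Scheme.Hom.SpecMap_residueFieldMap_fromSpecResidueField,
      ← Scheme.Hom.SpecMap_residueFieldMap_fromSpecResidueField, h2, Spec.map_comp,
      Category.assoc, Scheme.residueFieldCongr_fromSpecResidueField]
  let h : X ⟶ pullback p p := pullback.lift f g hfg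
  let Δ : Y ⟶ pullback p p := pullback.diagonal p
  have hΔ : IsOpenImmersion Δ := inferInstance
  refine ⟨h ⁻¹ᵁ Δ.opensRange, ?_, ?_⟩
  · have e : X.fromSpecResidueField x ≫ h = (X.fromSpecResidueField x ≫ f) ≫ Δ := by
      apply pullback.hom_ext
      · simp [h, Δ, pullback.lift_fst]
      · simp [h, Δ, key, pullback.lift_snd]
    obtain ⟨z⟩ : Nonempty (Spec (X.residueField x)) := inferInstance
    have hz : X.fromSpecResidueField x z = x := Scheme.fromSpecResidueField_apply x z
    change h x ∈ Set.range Δ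
    refine ⟨(X.fromSpecResidueField x ≫ f) z, ?_⟩
    rw [← Scheme.Hom.comp_apply, ← e, Scheme.Hom.comp_apply, hz]
  · have hr : Set.range ((h ⁻¹ᵁ Δ.opensRange).ι ≫ h) ⊆ Set.range Δ := by
      rintro _ ⟨y, rfl⟩
      exact y.2
    let k := IsOpenImmersion.lift Δ ((h ⁻¹ᵁ Δ.opensRange).ι ≫ h) hr
    have hk : k ≫ Δ = (h ⁻¹ᵁ Δ.opensRange).ι ≫ h := IsOpenImmersion.lift_fac _ _ _
    have e1 : (h ⁻¹ᵁ Δ.opensRange).ι ≫ f = k := by
      have := congr($hk ≫ pullback.fst p p)
      simpa [h, Δ, pullback.lift_fst] using this.symm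
    have e2 : (h ⁻¹ᵁ Δ.opensRange).ι ≫ g = k := by
      have := congr($hk ≫ pullback.snd p p)
      simpa [h, Δ, pullback.lift_snd] using this.symm
    rw [e1, e2]

end Groth.Agent.S0445
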