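import Groth.Statements.S0448
-- import your own Groth.Agent.* helpers here
import Groth.Agent.Lib.Helper4.UnivInj

set_option autoImplicit false
universe u
open FlatMor

namespace Groth.Agent.S0448

open TensorProduct in
/-- Over a local ring, a linear map from a projective module to a flat module which is injective modulo
the maximal ideal is universally injective (injective after tensoring with any module). -/
theorem result {R M N : Type u} [CommRing R] [IsLocalRing R] [AddCommGroup M] [Module R M] [Module.Projective R M]
    [AddCommGroup N] [Module R N] [Module.Flat R N] (u : M →ₗ[R] N)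
    (h : Function.Injective (LinearMap.lTensor (IsLocalRing.ResidueField R) u)) :
    ∀ (Q : Type u) [AddCommGroup Q] [Module R Q], Function.Injective (LinearMap.rTensor Q u) := by
  intro Q _ _
  obtain ⟨s, hs⟩ := Module.projective_def'.mp (inferInstance : Module.Projective R M)
  set π : (M →₀ R) →ₗ[R] M := Finsupp.linearCombination R id with hπ
  have hπs : ∀ m, π (s m) = m := fun m => LinearMap.congr_fun hs m
  -- the auxiliary map from the free module
  set u'' : (M →₀ R) →ₗ[R] N × (M →₀ R) :=
    LinearMap.prod (u ∘ₗ π) (LinearMap.id - s ∘ₗ π) with hu''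
  have hflat : Module.Flat R (N × (M →₀ R)) := Groth.Agent.Lib.Helper4.flat_prod
  have hcomp : u'' ∘ₗ s = LinearMap.inl R N (M →₀ R) ∘ₗ u := by
    ext m : 1
    simp [hu'', hπs]
  have hinj'' : Function.Injective (LinearMap.lTensor (IsLocalRing.ResidueField R) u'') := by
    rw [injective_iff_map_eq_zero]
    intro z hz
    have h1 : LinearMap.lTensor (IsLocalRing.ResidueField R) (u ∘ₗ π) z = 0 := by
      have : u ∘ₗ π = LinearMap.fst R N (M →₀ R) ∘ₗ u'' := by
        ext; simp [hu'']
      rw [this, LinearMap.lTensor_comp, LinearMap.comp_apply, hz, map_zero]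
    have h2 : LinearMap.lTensor (IsLocalRing.ResidueField R) (LinearMap.id - s ∘ₗ π) z = 0 := by
      have : (LinearMap.id - s ∘ₗ π) = LinearMap.snd R N (M →₀ R) ∘ₗ u'' := by
        ext; simp [hu'']
      rw [this, LinearMap.lTensor_comp, LinearMap.comp_apply, hz, map_zero]
    rw [LinearMap.lTensor_comp, LinearMap.comp_apply] at h1
    have h3 := (injective_iff_map_eq_zero _).mp h _ h1
    rw [LinearMap.lTensor_sub, LinearMap.sub_apply, LinearMap.lTensor_id, LinearMap.id_apply,
      LinearMap.lTensor_comp, LinearMap.comp_apply, h3, map_zero, sub_zero] at h2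
    exact h2
  have hfree := Groth.Agent.Lib.Helper4.rTensor_injective_of_finsupp u'' hinj'' Q
  rw [injective_iff_map_eq_zero]
  intro t ht
  have h1 : LinearMap.rTensor Q u'' (LinearMap.rTensor Q s t) = 0 := by
    rw [← LinearMap.comp_apply, ← LinearMap.rTensor_comp, hcomp, LinearMap.rTensor_comp,
      LinearMap.comp_apply, ht, map_zero]
  have h2 := (injective_iff_map_eq_zero _).mp hfree _ h1
  have h3 : LinearMap.rTensor Q π (LinearMap.rTensor Q s t) = t := by
    rw [← LinearMap.comp_apply, ← LinearMap.rTensor_comp, hs, LinearMap.rTensor_id,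
      LinearMap.id_apply]
  rw [← h3, h2, map_zero]

end Groth.Agent.S0448
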