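import Groth.Statements.S0450
import Mathlib
import Groth.Agent.S0404
import Groth.Agent.Lib.Helper18.TopDim
-- import your own Groth.Agent.* helpers here

set_option autoImplicit false
universe u
open FlatMor

namespace Groth.Agent.S0450

open AlgebraicGeometry CategoryTheory Limits TopologicalSpace

/-- the points of the fibre over `s` lying over a quasi-finite point are open. -/
theorem isOpen_setOf_fiberι_eq {X S : Scheme.{u}} (f : X ⟶ S) [LocallyOfFiniteType f] (s : S) (x : X)
    (hx : f x = s) (hq : f.QuasiFiniteAt x) : IsOpen {y : f.fiber s | f.fiberι s y = x} := by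
  subst hx
  have h1 := Scheme.Hom.quasiFiniteAt_iff_isOpen_singleton_asFiber.mp hq
  convert h1 using 1
  ext y
  simp only [Set.mem_setOf_eq, Set.mem_singleton_iff]
  constructor
  · intro h
    apply (f.fiberι (f x)).isEmbedding.injective
    rw [h, Scheme.Hom.fiberι_asFiber]
  · rintro rfl
    exact Scheme.Hom.fiberι_asFiber f x

theorem discreteTopology_fiber {X S : Scheme.{u}} (f : X ⟶ S) [LocallyOfFiniteType f] (s : S)
    (hq : ∀ x, f x = s → f.QuasiFiniteAt x) : DiscreteTopology (f.fiber s) := by
  rw [discreteTopology_iff_isOpen_singleton]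
  intro y
  have hy : f (f.fiberι s y) = s := by
    have : f.fiberι s y ∈ Set.range (f.fiberι s) := ⟨y, rfl⟩
    rw [Scheme.Hom.range_fiberι] at this
    exact this
  have := isOpen_setOf_fiberι_eq f s _ hy (hq _ hy)
  convert this using 1
  ext y'
  simp only [Set.mem_setOf_eq, Set.mem_singleton_iff]
  constructor
  · rintro rfl; rfl
  · intro h
    exact (f.fiberι s).isEmbedding.injective h

theorem quasiFiniteAt_of_mem {X S : Scheme.{u}} (f : X ⟶ S) [LocallyOfFiniteType f] (U : S.Opens)
    [LocallyQuasiFinite (f ∣_ U)] (x : X) (hx : f x ∈ U) : f.QuasiFiniteAt x := by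
  have hx' : x ∈ f ⁻¹ᵁ U := hx
  have h1 : (f ∣_ U).QuasiFiniteAt ⟨x, hx'⟩ := (f ∣_ U).quasiFiniteAt _
  have h2 : ((f ∣_ U) ≫ U.ι).QuasiFiniteAt ⟨x, hx'⟩ := by
    rw [Scheme.Hom.quasiFiniteAt_comp_iff]
    exact h1
  rw [morphismRestrict_ι, Scheme.Hom.quasiFiniteAt_comp_iff_of_isOpenImmersion] at h2
  exact h2



open AlgebraicGeometry CategoryTheory Limits in
/-- A flat proper morphism locally of finite presentation that is finite over a dense open subset of the
target is finite (the source alternatively allows the open to be retrocompact instead of assuming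
finite presentation; only this alternative is stated). -/
theorem result {X S : Scheme.{u}} (f : X ⟶ S) [Flat f] [IsProper f] [LocallyOfFinitePresentation f] (U : S.Opens)
    (hU : Dense (U : Set ↑S)) [IsFinite (f ∣_ U)] : IsFinite f := by
  have hopen : IsOpen {s : S | (0 : WithBot ℕ∞) < topologicalKrullDim (f.fiber s)} :=
    Groth.Agent.S0404.result f 0
  -- all fibres have dimension ≤ 0
  have hdim : ∀ s : S, topologicalKrullDim (f.fiber s) ≤ 0 := by
    intro s₀
    by_contra hcon
    rw [not_le] at hcon
    obtain ⟨s, hsG, hsU⟩ := hU.inter_open_nonempty _ hopen ⟨s₀, hcon⟩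
    have hd : DiscreteTopology (f.fiber s) :=
      discreteTopology_fiber f s fun x hx => quasiFiniteAt_of_mem f U x (hx ▸ hsU)
    have := topologicalKrullDim_zero_of_discreteTopology (f.fiber s)
    exact absurd hsG (not_lt.mpr this)
  suffices LocallyQuasiFinite f from IsFinite.of_isProper_of_locallyQuasiFinite f
  rw [← Scheme.Hom.quasiFiniteLocus_eq_top_iff]
  ext x
  simp only [Opens.coe_top, Set.mem_univ, iff_true]
  change f.QuasiFiniteAt x
  rw [Scheme.Hom.quasiFiniteAt_iff_isOpen_singleton_asFiber]
  have : LocallyOfFiniteType (f.fiberToSpecResidueField (f x)) :=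
    MorphismProperty.pullback_snd _ _ inferInstance
  have : IsLocallyNoetherian (f.fiber (f x)) :=
    LocallyOfFiniteType.isLocallyNoetherian (f.fiberToSpecResidueField (f x))
  have : IsNoetherian (f.fiber (f x)) := {}
  have : NoetherianSpace (f.fiber (f x)) := inferInstance
  have : Nonempty (f.fiber (f x)) := ⟨f.asFiber x⟩
  have h0 : topologicalKrullDim (f.fiber (f x)) = 0 :=
    le_antisymm (hdim (f x)) Groth.Agent.Lib.Helper18.TopDim.zero_le_topologicalKrullDim
  obtain ⟨-, hdisc⟩ := Groth.Agent.Lib.Helper18.TopDim.topologicalKrullDim_eq_zero_iff.mp h0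
  exact isOpen_discrete _

end Groth.Agent.S0450
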