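import Groth.Statements.S0463
import Groth.Agent.Lib.Helper22.CohTop.Restrict

set_option autoImplicit false
universe u
open CategoryTheory
open CohTop

namespace Groth.Agent.S0463

open TopologicalSpace in
/-- For an abelian sheaf F on X and an open U, H^n(U, F) (derived functors of sections over U) is
isomorphic to H^n(U, F|_U) computed on the space U. -/
theorem result {X : TopCat.{u}} (F : CohTop.Ab X) (U : Opens X) (n : ℕ) :
    Nonempty (CohTop.HU F n U ≃+ CohTop.H (CohTop.restr F U) n) :=
  Groth.Agent.Lib.Helper22.CohTop.nonempty_HU_addEquiv_H_restr U F n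

end Groth.Agent.S0463
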