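import Groth.Statements.S0466
import Groth.Agent.Lib.Helper22.Cech.Top

set_option autoImplicit false
universe u
open CategoryTheory
open CohTop

namespace Groth.Agent.S0466

open TopologicalSpace Opposite in
/-- Consider a short exact sequence of abelian sheaves with kernel F, middle term G and quotient H, and
an open U. If every open covering of U admits a refinement on which the first Cech cohomology of F
vanishes, then sections of G over U map onto sections of H over U. -/
theorem result {X : TopCat.{u}}
    (S : CategoryTheory.ShortComplex (CohTop.Ab X)) (hS : S.ShortExact) (U : Opens X)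
    (h : ∀ (ι : Type u) (V : ι → Opens X), iSup V = U →
      ∃ (κ : Type u) (W : κ → Opens X) (r : κ → ι), iSup W = U ∧ (∀ k, W k ≤ V (r k)) ∧
        CategoryTheory.Limits.IsZero (CohTop.cechH S.X₁.obj W 1)) :
    Function.Surjective (S.g.hom.app (op U)) := by
  classical
  intro t
  have hls := (TopCat.Sheaf.isLocallySurjective_iff_epi S.g).mpr hS.epi_g
  have hloc := (TopCat.Presheaf.isLocallySurjective_iff S.g.hom).mp hls U t
  choose V hVU hs hxV using hloc
  let Vf : U → Opens X := fun x => V x.1 x.2
  have hV : iSup Vf = U :=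
    le_antisymm (iSup_le fun x => hVU x.1 x.2)
      (fun x hx => Opens.mem_iSup.mpr ⟨⟨x, hx⟩, hxV x hx⟩)
  obtain ⟨κ, W, r, hW, hWV, hz⟩ := h U Vf hV
  subst hW
  have hacyc : Groth.Agent.Lib.Helper22.Cech.Acyc W S.X₁.obj 0 :=
    (Groth.Agent.Lib.Helper22.Cech.isZero_homology_succ_iff_acyc W S.X₁.obj 0).1 hz
  apply Groth.Agent.Lib.Helper22.Cech.exists_lift_of_acyc_zero W S hS hacyc t
  intro k
  obtain ⟨s, hs'⟩ := hs (r k).1 (r k).2
  refine ⟨Groth.Agent.Lib.Helper22.Cech.rsp S.X₂.obj (hWV k) s, ?_⟩
  rw [← Groth.Agent.Lib.Helper22.Cech.rsp_naturality, hs']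
  exact Groth.Agent.Lib.Helper22.Cech.rsp_rsp S.X₃.obj (hVU (r k).1 (r k).2) (hWV k) t

end Groth.Agent.S0466
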