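import Groth.Statements.S0482
import Mathlib
import Groth.Agent.Lib.Helper20.ExtByZero
import Groth.Agent.Lib.Helper20.ExtAdj

set_option autoImplicit false
universe u
open CategoryTheory
open CohSite

namespace Groth.Agent.S0482

open CategoryTheory.Limits Opposite Groth.Agent.Lib.Helper20

section
variable {C : Type u} [SmallCategory C] (J : GrothendieckTopology C) (U : C)

/-- free abelian sheaf functor on presheaves of sets -/
noncomputable abbrev freeSheaf : (Cᵒᵖ ⥤ Type u) ⥤ Sheaf J AddCommGrpCat.{u} :=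
  (Functor.whiskeringRight _ _ _).obj AddCommGrpCat.free ⋙ presheafToSheaf J AddCommGrpCat.{u}

noncomputable def adjA : freeSheaf J ⊣
    sheafToPresheaf J AddCommGrpCat.{u} ⋙
      (Functor.whiskeringRight Cᵒᵖ _ _).obj (forget AddCommGrpCat.{u}) :=
  (AddCommGrpCat.adj.whiskerRight Cᵒᵖ).comp (sheafificationAdjunction J AddCommGrpCat.{u})

noncomputable abbrev ZU : Sheaf J AddCommGrpCat.{u} := (freeSheaf J).obj (yoneda.obj U)

noncomputable def a (Y : Sheaf J AddCommGrpCat.{u}) : (ZU J U ⟶ Y) ≃ Y.obj.obj (op U) :=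
  ((adjA J).homEquiv (yoneda.obj U) Y).trans yonedaEquiv

lemma a_nat {Y Y' : Sheaf J AddCommGrpCat.{u}} (f : ZU J U ⟶ Y) (g : Y ⟶ Y') :
    a J U Y' (f ≫ g) = g.hom.app (op U) (a J U Y f) := by
  unfold a
  simp only [Equiv.trans_apply]
  rw [Adjunction.homEquiv_naturality_right, yonedaEquiv_comp]
  rfl

noncomputable abbrev XU : Sheaf (J.over U) AddCommGrpCat.{u} :=
  (constantSheaf (J.over U) AddCommGrpCat.{u}).obj (AddCommGrpCat.of (ULift ℤ))

noncomputable abbrev R : Sheaf J AddCommGrpCat.{u} ⥤ Sheaf (J.over U) AddCommGrpCat.{u} :=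
  J.overPullback AddCommGrpCat.{u} U

noncomputable def b (Y : Sheaf J AddCommGrpCat.{u}) :
    (XU J U ⟶ (R J U).obj Y) ≃ Y.obj.obj (op U) :=
  ((constantSheafAdj (J.over U) AddCommGrpCat.{u} (Over.mkIdTerminal (X := U))).homEquiv _ _).trans
    (AddCommGrpCat.uliftZMultiplesAddEquiv (Y.obj.obj (op U))).toEquiv

lemma b_nat {Y Y' : Sheaf J AddCommGrpCat.{u}} (h : XU J U ⟶ (R J U).obj Y) (g : Y ⟶ Y') :
    b J U Y' (h ≫ (R J U).map g) = g.hom.app (op U) (b J U Y h) := by
  have e := (constantSheafAdj (J.over U) AddCommGrpCat.{u}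
    (Over.mkIdTerminal (X := U))).homEquiv_naturality_right h ((R J U).map g)
  change (AddCommGrpCat.uliftZMultiplesAddEquiv (Y'.obj.obj (op U)))
    ((constantSheafAdj (J.over U) AddCommGrpCat.{u}
    (Over.mkIdTerminal (X := U))).homEquiv _ _ (h ≫ (R J U).map g)) = _
  rw [e]
  rfl

theorem aux (F : Sheaf J AddCommGrpCat.{u}) (n : ℕ) :
    Nonempty (CohSite.HU F n U ≃+ Sheaf.H.{u} (F.over U) n) := by
  let t : ∀ Y : Sheaf J AddCommGrpCat.{u}, (ZU J U ⟶ Y) ≃ (XU J U ⟶ (R J U).obj Y) :=
    fun Y => (a J U Y).trans (b J U Y).symm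
  have t_nat : ∀ {Y Y' : Sheaf J AddCommGrpCat.{u}} (f : ZU J U ⟶ Y) (g : Y ⟶ Y'),
      t Y' (f ≫ g) = t Y f ≫ (R J U).map g := by
    intro Y Y' f g
    apply (b J U Y').injective
    rw [b_nat]
    simp only [t, Equiv.trans_apply, Equiv.apply_symm_apply]
    rw [a_nat]
  let η := t (ZU J U) (𝟙 _)
  have H0 : ∀ Y : Sheaf J AddCommGrpCat.{u},
      Function.Bijective (fun f : ZU J U ⟶ Y => η ≫ (R J U).map f) := by
    intro Y
    have : (fun f : ZU J U ⟶ Y => η ≫ (R J U).map f) = t Y := by
      funext f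
      rw [← t_nat, Category.id_comp]
    rw [this]
    exact (t Y).bijective
  have h1 : PreservesFiniteLimits (R J U) := by
    have := (ExtByZero.extByZeroAdj J U).rightAdjoint_preservesLimits
    infer_instance
  have h2 : PreservesFiniteColimits (R J U) := by
    have := ((Over.forget U).sheafAdjunctionCocontinuous AddCommGrpCat.{u}
      (J.over U) J).leftAdjoint_preservesColimits
    infer_instance
  have h3 : (R J U).PreservesInjectiveObjects :=
    Functor.preservesInjectiveObjects_of_adjunction_of_preservesMonomorphisms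
      (ExtByZero.extByZeroAdj J U)
  exact ⟨ExtAdj.extAddEquiv (R J U) η H0 F n⟩

end


/-- For a sheaf of abelian groups F on a small site and an object U, H^n(U, F) (Ext out of the free
abelian sheaf on U) is isomorphic to the cohomology of the restriction of F to the site of objects
over U (existence of a group isomorphism). -/
theorem result {C : Type u} [SmallCategory C] (J : GrothendieckTopology C)
    (F : Sheaf J AddCommGrpCat.{u}) (U : C) (n : ℕ) :
    Nonempty (CohSite.HU F n U ≃+ Sheaf.H.{u} (F.over U) n) := by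
  exact aux J U F n

end Groth.Agent.S0482
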