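import Groth.Statements.S0483
import Mathlib
import Groth.Agent.S0482

set_option autoImplicit false
universe u
open CategoryTheory
open CohSite

namespace Groth.Agent.S0483

open CategoryTheory.Limits Opposite Abelian Groth.Agent.S0482

section
variable {C : Type u} [SmallCategory C] (J : GrothendieckTopology C)

/-- the map `ℤ[V]^# ⟶ ℤ[U]^#` induced by `g : V ⟶ U` -/
noncomputable abbrev Zmap {U V : C} (g : V ⟶ U) : ZU J V ⟶ ZU J U :=
  (freeSheaf J).map (yoneda.map g)

lemma a_nat_left {U V : C} (g : V ⟶ U) {Y : Sheaf J AddCommGrpCat.{u}} (f : ZU J U ⟶ Y) :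
    a J V Y (Zmap J g ≫ f) = Y.obj.map g.op (a J U Y f) := by
  unfold a
  simp only [Equiv.trans_apply]
  rw [Adjunction.homEquiv_naturality_left, ← yonedaEquiv_naturality]
  rfl

theorem kill (n : ℕ) : ∀ (F : Sheaf J AddCommGrpCat.{u}) (U : C)
    (ξ : Ext.{u} (ZU J U) F (n + 1)),
    ∃ (S : J.Cover U), ∀ (a : S.Arrow), (Ext.mk₀ (Zmap J a.f)).comp ξ (zero_add _) = 0 := by
  induction n with
  | zero =>
    intro F U ξ
    let S : ShortComplex (Sheaf J AddCommGrpCat.{u}) :=
      ShortComplex.mk (Injective.ι F) (cokernel.π (Injective.ι F)) (cokernel.condition _)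
    have hS : S.ShortExact :=
      { exact := ShortComplex.exact_cokernel _
        mono_f := by dsimp [S]; infer_instance
        epi_g := by dsimp [S]; infer_instance }
    have hI : Injective S.X₂ := by dsimp [S]; infer_instance
    change Ext.{u} (ZU J U) S.X₁ (0 + 1) at ξ
    obtain ⟨x, rfl⟩ := Ext.covariant_sequence_exact₁ (ZU J U) hS ξ
      (Ext.eq_zero_of_injective _) rfl
    obtain ⟨f, rfl⟩ := (Ext.mk₀_bijective _ _).2 x
    let s := a J U S.X₃ f
    have hepi : Epi S.g := hS.epi_g
    have hls : Sheaf.IsLocallySurjective S.g := (Sheaf.isLocallySurjective_iff_epi' AddCommGrpCat.{u} S.g).2 hepi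
    refine ⟨⟨Presheaf.imageSieve S.g.hom s, Presheaf.imageSieve_mem J S.g.hom (U := op U) s⟩, ?_⟩
    intro arr
    obtain ⟨t, ht⟩ := arr.hf
    let f' : ZU J arr.Y ⟶ S.X₂ := (a J arr.Y S.X₂).symm t
    have hf' : f' ≫ S.g = Zmap J arr.f ≫ f := by
      apply (a J arr.Y S.X₃).injective
      rw [a_nat, a_nat_left]
      simp only [f', Equiv.apply_symm_apply]
      exact ht
    rw [← Ext.comp_assoc_of_second_deg_zero, Ext.mk₀_comp_mk₀, ← hf', ← Ext.mk₀_comp_mk₀,
      Ext.comp_assoc_of_second_deg_zero, hS.comp_extClass, Ext.comp_zero]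
  | succ n ih =>
    intro F U ξ
    let S : ShortComplex (Sheaf J AddCommGrpCat.{u}) :=
      ShortComplex.mk (Injective.ι F) (cokernel.π (Injective.ι F)) (cokernel.condition _)
    have hS : S.ShortExact :=
      { exact := ShortComplex.exact_cokernel _
        mono_f := by dsimp [S]; infer_instance
        epi_g := by dsimp [S]; infer_instance }
    have hI : Injective S.X₂ := by dsimp [S]; infer_instance
    change Ext.{u} (ZU J U) S.X₁ (n + 1 + 1) at ξ
    obtain ⟨x, rfl⟩ := Ext.covariant_sequence_exact₁ (ZU J U) hS ξ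
      (Ext.eq_zero_of_injective _) rfl
    obtain ⟨T, hT⟩ := ih S.X₃ U x
    refine ⟨T, fun arr => ?_⟩
    rw [← Ext.comp_assoc (Ext.mk₀ (Zmap J arr.f)) x hS.extClass (zero_add _) rfl (by omega),
      hT arr, Ext.zero_comp]

end


/-- For an abelian sheaf F on a small site, an object U and a class ξ in H^(n+1)(U, F), there is a
covering sieve of U such that ξ pulls back to zero along every arrow of the sieve. -/
theorem result {C : Type u} [SmallCategory C] (J : GrothendieckTopology C)
    (F : Sheaf J AddCommGrpCat.{u}) (U : C) (n : ℕ) (ξ : CohSite.HU F (n + 1) U) :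
    ∃ (S : J.Cover U), ∀ (a : S.Arrow), CohSite.res F (n + 1) a.f ξ = 0 := by
  exact kill J n F U ξ

end Groth.Agent.S0483
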