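import Groth.Statements.S0488
import Mathlib
import Groth.Agent.S0481
import Groth.Agent.Lib.Helper20.ExtByZero

set_option autoImplicit false
universe u
open CohTop

namespace Groth.Agent.S0488

open CategoryTheory CategoryTheory.Limits TopologicalSpace Groth.Agent.Lib.Helper20.ExtByZero in
theorem aux {X : TopCat.{u}} (U : Opens X) (I : CochainComplex (CohTop.Ab X) ℤ)
    (h : I.IsKInjective) :
    CochainComplex.IsKInjective
      (((CohTop.restrFunctor U).mapHomologicalComplex (ComplexShape.up ℤ)).obj I) := by
  let J := Opens.grothendieckTopology X
  let e : Sheaf (J.over U) AddCommGrpCat.{u} ≌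
      Sheaf (Opens.grothendieckTopology U) AddCommGrpCat.{u} :=
    U.sheafEquivOver (A := AddCommGrpCat.{u})
  let w : CohTop.Ab (TopCat.of U) ⥤ CohTop.Ab X := e.inverse ⋙ extByZero J U
  let adj : w ⊣ CohTop.restrFunctor U :=
    (e.symm.toAdjunction.comp (extByZeroAdj J U)).ofNatIsoRight
      (U.overPullbackSheafEquivOver (A := AddCommGrpCat.{u}))
  have : w.Additive := adj.left_adjoint_additive
  have : PreservesFiniteLimits e.inverse := inferInstance
  have : PreservesFiniteColimits e.inverse := inferInstance
  have : PreservesFiniteLimits w := comp_preservesFiniteLimits _ _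
  have : PreservesFiniteColimits w := comp_preservesFiniteColimits _ _
  exact Groth.Agent.S0481.result (CohTop.restrFunctor U) w adj I h

open TopologicalSpace in
/-- For an open U of X, restriction to U sends K-injective complexes of abelian sheaves on X to
K-injective complexes on U. -/
theorem result {X : TopCat.{u}} (U : Opens X) (I : CochainComplex (CohTop.Ab X) ℤ)
    (h : I.IsKInjective) :
    CochainComplex.IsKInjective (((CohTop.restrFunctor U).mapHomologicalComplex (ComplexShape.up ℤ)).obj I) := by
  exact aux U I h

end Groth.Agent.S0488
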