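import Groth.Statements.S0490
import Mathlib

set_option autoImplicit false
universe v u
open CategoryTheory
open CohDer

namespace Groth.Agent.S0490

open CategoryTheory.Limits CategoryTheory.Pretriangulated

section
variable {D : Type u} [Category.{v} D] [Preadditive D] [HasZeroObject D] [HasShift D ℤ]
    [∀ n : ℤ, (shiftFunctor D n).Additive] [Pretriangulated D]
    (P : ObjectProperty D) [P.IsTriangulated]

lemma bij_of_orth {A X B : D} (f : A ⟶ X) (g : X ⟶ B) (h : B ⟶ (shiftFunctor D (1 : ℤ)).obj A)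
    (hT : Triangle.mk f g h ∈ distTriang D) (hB : P.rightOrthogonal B) (A' : D) (hA' : P A') :
    Function.Bijective (fun φ : A' ⟶ A => φ ≫ f) := by
  constructor
  · intro φ₁ φ₂ h12
    have h0 : (φ₁ - φ₂) ≫ f = 0 := by
      rw [Preadditive.sub_comp]; exact sub_eq_zero.2 h12
    obtain ⟨ψ, hψ⟩ := Triangle.coyoneda_exact₂ _ (inv_rot_of_distTriang _ hT) (φ₁ - φ₂) h0
    have hB' : P.rightOrthogonal ((shiftFunctor D (-1 : ℤ)).obj B) :=
      P.rightOrthogonal.le_shift (-1 : ℤ) _ hB
    have : ψ = 0 := hB' ψ hA'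
    rw [this, zero_comp] at hψ
    exact sub_eq_zero.1 hψ
  · intro m
    have h0 : m ≫ g = 0 := hB _ hA'
    obtain ⟨φ, hφ⟩ := Triangle.coyoneda_exact₂ _ hT m h0
    exact ⟨φ, hφ.symm⟩

theorem aux :
    P.ι.IsLeftAdjoint ↔ ∀ X : D, ∃ (A B : D) (f : A ⟶ X) (g : X ⟶ B)
      (h : B ⟶ (shiftFunctor D (1 : ℤ)).obj A),
      Triangle.mk f g h ∈ distinguishedTriangles ∧ P A ∧ P.rightOrthogonal B := by
  constructor
  · intro hL
    let R := P.ι.rightAdjoint
    let adj : P.ι ⊣ R := Adjunction.ofIsLeftAdjoint P.ι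
    intro X
    let A : D := (R.obj X).obj
    have hA : P A := (R.obj X).property
    let f : A ⟶ X := adj.counit.app X
    obtain ⟨B, g, h, hT⟩ := distinguished_cocone_triangle f
    refine ⟨A, B, f, g, h, hT, hA, ?_⟩
    have hbij : ∀ (A' : D) (hA' : P A'), Function.Bijective (fun ψ : A' ⟶ A => ψ ≫ f) := by
      intro A' hA'
      have h1 : ∀ φ : (⟨A', hA'⟩ : P.FullSubcategory) ⟶ R.obj X,
          (adj.homEquiv ⟨A', hA'⟩ X).symm φ = P.ι.map φ ≫ f := fun φ =>
        adj.homEquiv_counit _ _ φ
      constructor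
      · intro ψ₁ ψ₂ h12
        have : (ObjectProperty.homMk ψ₁ : (⟨A', hA'⟩ : P.FullSubcategory) ⟶ R.obj X) =
            ObjectProperty.homMk ψ₂ := by
          apply (adj.homEquiv ⟨A', hA'⟩ X).symm.injective
          rw [h1, h1]
          exact h12
        exact congrArg (fun t => P.ι.map t) this
      · intro m
        refine ⟨P.ι.map ((adj.homEquiv ⟨A', hA'⟩ X) m), ?_⟩
        change P.ι.map ((adj.homEquiv ⟨A', hA'⟩ X) m) ≫ f = m
        rw [← h1, Equiv.symm_apply_apply]
    -- injectivity of postcomposition with the shifted counit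
    have hinj : ∀ (A' : D) (hA' : P A') (φ : A' ⟶ (shiftFunctor D (1 : ℤ)).obj A),
        φ ≫ (shiftFunctor D (1 : ℤ)).map f = 0 → φ = 0 := by
      intro A' hA' φ hφ
      let e : (shiftFunctor D (1 : ℤ)).obj ((shiftFunctor D (-1 : ℤ)).obj A') ≅ A' :=
        (shiftEquiv D (1 : ℤ)).counitIso.app A'
      let ψ : (shiftFunctor D (-1 : ℤ)).obj A' ⟶ A :=
        (shiftFunctor D (1 : ℤ)).preimage (e.hom ≫ φ)
      have hψ : (shiftFunctor D (1 : ℤ)).map ψ = e.hom ≫ φ := Functor.map_preimage _ _
      have h2 : ψ ≫ f = 0 := by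
        apply (shiftFunctor D (1 : ℤ)).map_injective
        rw [Functor.map_comp, hψ, Category.assoc, hφ, comp_zero, Functor.map_zero]
      have hP : P ((shiftFunctor D (-1 : ℤ)).obj A') := P.le_shift (-1 : ℤ) _ hA'
      have h3 : ψ = 0 := by
        apply (hbij _ hP).1
        change ψ ≫ f = 0 ≫ f
        rw [h2, zero_comp]
      rw [h3, Functor.map_zero] at hψ
      exact (cancel_epi e.hom).1 (by rw [← hψ, comp_zero])
    intro A' m hA'
    have hm : m ≫ h = 0 := by
      apply hinj A' hA'
      rw [Category.assoc]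
      have : h ≫ (shiftFunctor D (1 : ℤ)).map f = 0 := comp_distTriang_mor_zero₃₁ _ hT
      rw [this, comp_zero]
    obtain ⟨m₀, hm₀⟩ := Triangle.coyoneda_exact₃ _ hT m hm
    obtain ⟨m₁, hm₁⟩ := (hbij A' hA').2 m₀
    have hfg : f ≫ g = 0 := comp_distTriang_mor_zero₁₂ _ hT
    have e1 : m = (m₁ ≫ f) ≫ g := by
      have : m₁ ≫ f = m₀ := hm₁
      rw [this]
      exact hm₀
    rw [e1, Category.assoc, hfg, comp_zero]
  · intro H
    choose A B f g h hT hA hB using H
    let G_obj : D → P.FullSubcategory := fun X => ⟨A X, hA X⟩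
    have hb : ∀ (A' : P.FullSubcategory) (X : D),
        Function.Bijective (fun φ : A' ⟶ G_obj X => P.ι.map φ ≫ f X) := by
      intro A' X
      have h1 := bij_of_orth P (f X) (g X) (h X) (hT X) (hB X) A'.obj A'.property
      constructor
      · intro φ₁ φ₂ h12
        apply P.ι.map_injective
        exact h1.1 h12
      · intro m
        obtain ⟨ψ, hψ⟩ := h1.2 m
        exact ⟨ObjectProperty.homMk ψ, hψ⟩
    let e : ∀ (A' : P.FullSubcategory) (X : D), (P.ι.obj A' ⟶ X) ≃ (A' ⟶ G_obj X) :=
      fun A' X => (Equiv.ofBijective _ (hb A' X)).symm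
    have he : ∀ (X' X : P.FullSubcategory) (Y : D) (k : X' ⟶ X) (m : P.ι.obj X ⟶ Y),
        e X' Y (P.ι.map k ≫ m) = k ≫ e X Y m := by
      intro X' X Y k m
      apply (Equiv.ofBijective _ (hb X' Y)).injective
      rw [Equiv.apply_symm_apply]
      change _ = P.ι.map (k ≫ e X Y m) ≫ f Y
      rw [Functor.map_comp, Category.assoc]
      congr 1
      exact ((Equiv.ofBijective _ (hb X Y)).apply_symm_apply m).symm
    exact (Adjunction.adjunctionOfEquivRight e he).isLeftAdjoint

end


open CategoryTheory.Pretriangulated in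
/-- Let A be a full triangulated subcategory of a pretriangulated category D (an object property
containing zero, stable under shifts and closed under extensions). The inclusion A → D is a left
adjoint (i.e. has a right adjoint) if and only if every object X of D fits in a distinguished
triangle A → X → B → A[1] with A in the subcategory and B right orthogonal to it. (The source's
further conclusions about saturation are not asserted.) -/
theorem result {D : Type u} [Category.{v} D] [Preadditive D] [Limits.HasZeroObject D] [HasShift D ℤ]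
    [∀ n : ℤ, (shiftFunctor D n).Additive] [Pretriangulated D]
    (P : ObjectProperty D) [P.IsTriangulated] :
    P.ι.IsLeftAdjoint ↔ ∀ X : D, ∃ (A B : D) (f : A ⟶ X) (g : X ⟶ B) (h : B ⟶ (shiftFunctor D (1 : ℤ)).obj A),
      Triangle.mk f g h ∈ distinguishedTriangles ∧ P A ∧ P.rightOrthogonal B := by
  exact aux P

end Groth.Agent.S0490
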