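import Groth.Statements.S0492
import Mathlib

set_option autoImplicit false
universe u
open CategoryTheory
open CohSite

namespace Groth.Agent.S0492

open CategoryTheory.Limits Opposite

section
variable {C : Type u} [SmallCategory C] (J : GrothendieckTopology C)

/-- sections over `U` -/
noncomputable abbrev Γ (U : C) : Sheaf J AddCommGrpCat.{u} ⥤ AddCommGrpCat.{u} :=
  sheafToPresheaf J AddCommGrpCat.{u} ⋙ (evaluation Cᵒᵖ AddCommGrpCat.{u}).obj (op U)

lemma surj_of_wc {U : C} (hU : CohSite.IsWeaklyContractible J U)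
    {F G : Sheaf J AddCommGrpCat.{u}} (φ : F ⟶ G) [Epi φ] :
    Function.Surjective (φ.hom.app (op U)) := by
  have h1 : Sheaf.IsLocallySurjective φ :=
    (Sheaf.isLocallySurjective_iff_epi' AddCommGrpCat.{u} φ).2 inferInstance
  let φ' := (sheafCompose J (forget AddCommGrpCat.{u})).map φ
  have h2 : Sheaf.IsLocallySurjective φ' := by
    change Presheaf.IsLocallySurjective J (Functor.whiskerRight φ.hom (forget AddCommGrpCat.{u}))
    infer_instance
  have h3 : Epi φ' := (Sheaf.isLocallySurjective_iff_epi φ').1 h2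
  exact hU _ _ φ' h3

lemma exists_section {α : Type u} (F : Discrete α ⥤ Sheaf J AddCommGrpCat.{u}) (U : C)
    (t : ∀ j, (F.obj j).obj.obj (op U)) :
    ∃ x : (limit F).obj.obj (op U), ∀ j, (limit.π F j).hom.app (op U) x = t j := by
  have hl := isLimitOfPreserves (Γ J U ⋙ forget AddCommGrpCat.{u}) (limit.isLimit F)
  let sec : (F ⋙ Γ J U ⋙ forget AddCommGrpCat.{u}).sections :=
    ⟨fun j => t j, by
      intro j j' f
      obtain ⟨j⟩ := j
      obtain ⟨j'⟩ := j'
      have h : j = j' := Discrete.eq_of_hom f
      subst h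
      have : f = 𝟙 _ := Subsingleton.elim _ _
      rw [this, CategoryTheory.Functor.map_id]
      rfl⟩
  refine ⟨(Types.isLimitEquivSections hl).symm sec, fun j => ?_⟩
  exact Types.isLimitEquivSections_symm_apply hl sec j

lemma section_ext {α : Type u} (F : Discrete α ⥤ Sheaf J AddCommGrpCat.{u}) (U : C)
    (x y : (limit F).obj.obj (op U))
    (h : ∀ j, (limit.π F j).hom.app (op U) x = (limit.π F j).hom.app (op U) y) : x = y := by
  have hl := isLimitOfPreserves (Γ J U) (limit.isLimit F)
  exact Concrete.isLimit_ext _ hl x y h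

theorem aux (B : Set C) (hB : ∀ U ∈ B, CohSite.IsWeaklyContractible J U)
    (hcov : ∀ V : C, ∃ (ι : Type u) (U : ι → C) (f : ∀ i, U i ⟶ V),
      (∀ i, U i ∈ B) ∧ Sieve.ofArrows U f ∈ J V) :
    AB4Star (Sheaf J AddCommGrpCat.{u}) := by
  refine ⟨fun α => ?_⟩
  have : (lim : (Discrete α ⥤ Sheaf J AddCommGrpCat.{u}) ⥤ _).PreservesEpimorphisms := by
    refine ⟨fun {F G} τ hτ => ?_⟩
    have hτj : ∀ j, Epi (τ.app j) := fun j => inferInstance
    change Epi (limMap τ)
    have key : ∀ U ∈ B, ∀ x : (limit G).obj.obj (op U),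
        ∃ y : (limit F).obj.obj (op U), (limMap τ).hom.app (op U) y = x := by
      intro U hU x
      have hs : ∀ j, ∃ t : (F.obj j).obj.obj (op U),
          (τ.app j).hom.app (op U) t = (limit.π G j).hom.app (op U) x :=
        fun j => surj_of_wc J (hB U hU) (τ.app j) _
      choose t ht using hs
      obtain ⟨y, hy⟩ := exists_section J F U t
      refine ⟨y, section_ext J G U _ _ fun j => ?_⟩
      have e : limMap τ ≫ limit.π G j = limit.π F j ≫ τ.app j := limMap_π _ _
      have e' : (limit.π G j).hom.app (op U) ((limMap τ).hom.app (op U) y) =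
          (τ.app j).hom.app (op U) ((limit.π F j).hom.app (op U) y) :=
        congrArg (fun (m : limit F ⟶ G.obj j) => m.hom.app (op U) y) e
      rw [e', hy, ht]
    have hls : Sheaf.IsLocallySurjective (limMap τ) := by
      refine ⟨fun {V} s => ?_⟩
      obtain ⟨ι, U, f, hUB, hmem⟩ := hcov V
      refine J.superset_covering ?_ hmem
      rw [Sieve.ofArrows, Sieve.generate_le_iff]
      rintro W g ⟨i⟩
      obtain ⟨y, hy⟩ := key (U i) (hUB i) ((limit G).obj.map (f i).op s)
      exact ⟨y, hy⟩
    exact (Sheaf.isLocallySurjective_iff_epi' AddCommGrpCat.{u} (limMap τ)).1 hls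
  exact hasExactLimitsOfShape_of_preservesEpi _ _

end


open CategoryTheory.Limits in
/-- Part (4), for sheaves of abelian groups: let B be a set of weakly contractible objects of a small
site such that every object admits a covering family by members of B. Then products in the category
of abelian sheaves are exact (Grothendieck's AB4*). -/
theorem result {C : Type u} [SmallCategory C] (J : GrothendieckTopology C)
    (B : Set C) (hB : ∀ U ∈ B, CohSite.IsWeaklyContractible J U)
    (hcov : ∀ V : C, ∃ (ι : Type u) (U : ι → C) (f : ∀ i, U i ⟶ V), (∀ i, U i ∈ B) ∧ Sieve.ofArrows U f ∈ J V) :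
    AB4Star (Sheaf J AddCommGrpCat.{u}) := by
  exact aux J B hB hcov

end Groth.Agent.S0492
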