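import Groth.Statements.S0496
import Mathlib.RingTheory.AdjoinRoot
import Mathlib.RingTheory.Nakayama
-- import your own Groth.Agent.* helpers here

set_option autoImplicit false
universe u
open Hensel

namespace Groth.Agent.S0496

/-- If every factorization of the reduction of a monic polynomial into two coprime factors over the
residue field lifts to a factorization over the local ring, then the local ring is henselian. -/
theorem result (R : Type u) [CommRing R] [IsLocalRing R]
    (h : ∀ f : Polynomial R, f.Monic →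
      ∀ g₀ h₀ : Polynomial (IsLocalRing.ResidueField R), IsCoprime g₀ h₀ →
      Polynomial.map (IsLocalRing.residue R) f = g₀ * h₀ →
      ∃ g h : Polynomial R, f = g * h ∧ Polynomial.map (IsLocalRing.residue R) g = g₀ ∧
        Polynomial.map (IsLocalRing.residue R) h = h₀) :
    HenselianLocalRing R := by
  classical
  open Polynomial in
  refine ⟨fun f hf a₀ h₁ h₂ => ?_⟩
  set res := IsLocalRing.residue R with hres
  set α := res a₀ with hα
  set F := f.map res with hF
  have hresev : ∀ (q : R[X]) (a : R), res (q.eval a) = (q.map res).eval (res a) := by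
    intro q a
    rw [Polynomial.eval_map, Polynomial.eval₂_at_apply]
  have hFα : F.IsRoot α := by
    rw [Polynomial.IsRoot, hF, hα, ← hresev, hres, IsLocalRing.residue_eq_zero_iff]
    exact h₁
  set q₀ := F /ₘ (X - C α) with hq₀
  have hFq : (X - C α) * q₀ = F := Polynomial.mul_divByMonic_eq_iff_isRoot.mpr hFα
  have hq₀α : q₀.eval α ≠ 0 := by
    have : (Polynomial.derivative F).eval α = q₀.eval α := by
      rw [← hFq]
      simp [Polynomial.derivative_mul]
    rw [← this, hF, Polynomial.derivative_map, hα, ← hresev, hres, Ne,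
      IsLocalRing.residue_eq_zero_iff, IsLocalRing.notMem_maximalIdeal]
    exact h₂
  have hcop : IsCoprime (X - C α) q₀ := by
    rw [(Polynomial.irreducible_X_sub_C α).coprime_iff_not_dvd, Polynomial.dvd_iff_isRoot]
    exact hq₀α
  obtain ⟨g, h', hfg, hg, hh'⟩ := h f hf (X - C α) q₀ hcop hFq.symm
  -- the finite algebra A = R[X]/(g)
  have hgf : g ∣ f := ⟨h', hfg⟩
  have hint : IsIntegral R (AdjoinRoot.root g) :=
    ⟨f, hf, by rw [← Polynomial.aeval_def, AdjoinRoot.aeval_eq, AdjoinRoot.mk_eq_zero]; exact hgf⟩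
  have hfin : Module.Finite R (AdjoinRoot g) := by
    rw [Module.finite_def, ← Algebra.top_toSubmodule, ← AdjoinRoot.adjoinRoot_eq_top]
    exact hint.fg_adjoin_singleton
  set J : Ideal (AdjoinRoot g) := (IsLocalRing.maximalIdeal R).map (algebraMap R (AdjoinRoot g))
    with hJ
  -- polynomials reducing to zero land in J
  have hJmem : ∀ d : R[X], d.map res = 0 → AdjoinRoot.mk g d ∈ J := by
    intro d hd
    rw [← AdjoinRoot.aeval_eq, Polynomial.aeval_eq_sum_range]
    refine Ideal.sum_mem _ fun i _ => ?_
    rw [Algebra.smul_def]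
    refine Ideal.mul_mem_right _ _ (Ideal.mem_map_of_mem _ ?_)
    rw [← IsLocalRing.residue_eq_zero_iff, ← hres, ← Polynomial.coeff_map, hd,
      Polynomial.coeff_zero]
  have hXa : AdjoinRoot.mk g (X - C a₀) ∈ J := by
    have : AdjoinRoot.mk g (X - C a₀) = AdjoinRoot.mk g (X - C a₀ - g) := by
      rw [map_sub _ _ g, AdjoinRoot.mk_self, sub_zero]
    rw [this]
    apply hJmem
    rw [Polynomial.map_sub, hg]
    simp [hα]
  have hsurj : ∀ y : AdjoinRoot g, ∃ r : R, algebraMap R (AdjoinRoot g) r = y := by
    have hle : (⊤ : Submodule R (AdjoinRoot g)) ≤ LinearMap.range (Algebra.linearMap R (AdjoinRoot g)) := by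
      apply Submodule.le_of_le_smul_of_le_jacobson_bot (I := IsLocalRing.maximalIdeal R)
        hfin.fg_top (IsLocalRing.maximalIdeal_le_jacobson ⊥)
      rintro y -
      obtain ⟨p, rfl⟩ := AdjoinRoot.mk_surjective y
      have hp : p = C (p.eval a₀) + (X - C a₀) * (p /ₘ (X - C a₀)) := by
        rw [← Polynomial.modByMonic_X_sub_C_eq_C_eval, Polynomial.modByMonic_add_div]
      rw [hp, map_add, map_mul]
      refine Submodule.add_mem_sup ⟨p.eval a₀, by simp [AdjoinRoot.algebraMap_eq]⟩ ?_
      rw [Ideal.smul_top_eq_map, Submodule.restrictScalars_mem]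
      exact Ideal.mul_mem_right _ _ hXa
    intro y
    obtain ⟨r, hr⟩ := hle (Submodule.mem_top (x := y))
    exact ⟨r, hr⟩
  have hinj : ∀ r : R, algebraMap R (AdjoinRoot g) r = 0 → r = 0 := by
    intro r hr
    rw [AdjoinRoot.algebraMap_eq, ← AdjoinRoot.mk_C, AdjoinRoot.mk_eq_zero] at hr
    obtain ⟨q, hq⟩ := hr
    set h₁ := h' %ₘ f with hh₁
    have hdvd : f ∣ C r * h₁ := by
      refine ⟨q - C r * (h' /ₘ f), ?_⟩
      have := Polynomial.modByMonic_add_div h' f
      have h2 : h₁ = h' - f * (h' /ₘ f) := by rw [hh₁]; exact eq_sub_of_add_eq this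
      calc C r * h₁ = C r * h' - f * (C r * (h' /ₘ f)) := by rw [h2]; ring
        _ = g * q * h' - f * (C r * (h' /ₘ f)) := by rw [hq]
        _ = f * (q - C r * (h' /ₘ f)) := by rw [hfg]; ring
    have hzero : C r * h₁ = 0 := by
      by_contra hne
      refine hf.not_dvd_of_degree_lt hne ?_ hdvd
      exact (Polynomial.degree_mul_le _ _).trans_lt (by
        have h3 := Polynomial.degree_modByMonic_lt h' hf
        have h4 : (C r).degree ≤ 0 := Polynomial.degree_C_le
        calc (C r).degree + h₁.degree ≤ 0 + h₁.degree := by gcongr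
          _ = h₁.degree := zero_add _
          _ < f.degree := h3)
    have hFmonic : F.Monic := hf.map res
    have hh₁map : h₁.map res ≠ 0 := by
      rw [hh₁, Polynomial.map_modByMonic _ hf, hh', Ne, Polynomial.modByMonic_eq_zero_iff_dvd hFmonic]
      rintro ⟨s, hs⟩
      apply hq₀α
      rw [hs, Polynomial.eval_mul, hFα, zero_mul]
    obtain ⟨i, hi⟩ : ∃ i, (h₁.map res).coeff i ≠ 0 := by
      by_contra hcon
      push Not at hcon
      exact hh₁map (Polynomial.ext (by simpa using hcon))
    rw [Polynomial.coeff_map, hres, Ne, IsLocalRing.residue_eq_zero_iff,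
      IsLocalRing.notMem_maximalIdeal] at hi
    have := congrArg (fun p => p.coeff i) hzero
    simp only [Polynomial.coeff_C_mul, Polynomial.coeff_zero] at this
    exact (hi.mul_left_eq_zero).mp this
  obtain ⟨a, ha⟩ := hsurj (AdjoinRoot.root g)
  have hga : g.eval a = 0 := by
    apply hinj
    rw [← Polynomial.eval₂_at_apply, ha, AdjoinRoot.algebraMap_eq, AdjoinRoot.eval₂_root]
  refine ⟨a, ?_, ?_⟩
  · rw [Polynomial.IsRoot, hfg, Polynomial.eval_mul, hga, zero_mul]
  · have hroot : g.eval₂ res α = 0 := by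
      rw [← Polynomial.eval_map, hg]
      simp
    have h1 : AdjoinRoot.lift res α hroot (algebraMap R (AdjoinRoot g) a) = res a := by
      rw [AdjoinRoot.algebraMap_eq, AdjoinRoot.lift_of]
    rw [ha, AdjoinRoot.lift_root] at h1
    rw [← IsLocalRing.residue_eq_zero_iff, map_sub, ← hres, ← h1, hα, sub_self]

end Groth.Agent.S0496
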