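import Groth.Statements.S0501
import Mathlib
import Groth.Agent.Lib.Helper4.HenselPairU

set_option autoImplicit false
universe u
open Hensel

namespace Groth.Agent.S0501

open scoped TensorProduct in
open Groth.Agent.Lib.Helper4.HenselPair in
/-- Let `S` be a henselian local ring over a ring `R`, let `A` be an étale `R`-algebra with a prime `q`,
and let `τ` be a ring map from the residue field of `q` to the residue field of `S` compatible with
the two structure maps from `R`. Then there is exactly one `R`-algebra map from `A` to `S` pulling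
the maximal ideal back to `q` and inducing `τ`. -/
theorem result (R : Type u) [CommRing R]
    (S : Type u) [CommRing S] [HenselianLocalRing S] [Algebra R S]
    (A : Type u) [CommRing A] [Algebra R A] [Algebra.Etale R A] (q : Ideal A) [q.IsPrime]
    (τ : q.ResidueField →+* IsLocalRing.ResidueField S)
    (hτ : τ.comp (algebraMap R q.ResidueField) = (IsLocalRing.residue S).comp (algebraMap R S)) :
    ∃! f : A →ₐ[R] S, Ideal.comap f.toRingHom (IsLocalRing.maximalIdeal S) = q ∧
      ∀ a : A, IsLocalRing.residue S (f a) = τ (algebraMap A q.ResidueField a) := by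
  classical
  set 𝔪 := IsLocalRing.maximalIdeal S with h𝔪
  have hHens : HenselianRing S 𝔪 := inferInstance
  let g : A →ₐ[R] S ⧸ 𝔪 :=
    { toRingHom := (show q.ResidueField →+* S ⧸ 𝔪 from τ).comp (algebraMap A q.ResidueField)
      commutes' := fun r => by
        have h1 := congrArg (fun φ => φ r) hτ
        simp only [RingHom.comp_apply] at h1
        change τ (algebraMap A q.ResidueField (algebraMap R A r)) = algebraMap R (S ⧸ 𝔪) r
        rw [← IsScalarTower.algebraMap_apply R A q.ResidueField, h1,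
          IsScalarTower.algebraMap_apply R S (S ⧸ 𝔪)]
        rfl }
  have hg : ∀ a, g a = τ (algebraMap A q.ResidueField a) := fun a => rfl
  let σ : S ⊗[R] A →ₐ[S] S ⧸ 𝔪 :=
    Algebra.TensorProduct.lift (Algebra.ofId S (S ⧸ 𝔪)) g (fun _ _ => Commute.all _ _)
  obtain ⟨τ', hτ'⟩ := exists_lift_of_etale 𝔪 σ
  let f : A →ₐ[R] S := (τ'.restrictScalars R).comp Algebra.TensorProduct.includeRight
  have hf : ∀ a, IsLocalRing.residue S (f a) = τ (algebraMap A q.ResidueField a) := by
    intro a
    have h2 := congrArg (fun φ => φ ((1 : S) ⊗ₜ[R] a)) hτ'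
    simp only [AlgHom.comp_apply] at h2
    change Ideal.Quotient.mk 𝔪 (τ' ((1 : S) ⊗ₜ[R] a)) = _
    change Ideal.Quotient.mk 𝔪 (τ' ((1 : S) ⊗ₜ[R] a)) = σ ((1 : S) ⊗ₜ[R] a) at h2
    rw [h2]
    have h3 : σ ((1 : S) ⊗ₜ[R] a) = (Algebra.ofId S (S ⧸ 𝔪)) 1 * g a :=
      Algebra.TensorProduct.lift_tmul _ _ _ _ _
    rw [h3, map_one, one_mul, hg]
  have hcomap : ∀ f' : A →ₐ[R] S,
      (∀ a, IsLocalRing.residue S (f' a) = τ (algebraMap A q.ResidueField a)) →
      Ideal.comap f'.toRingHom 𝔪 = q := by
    intro f' hf'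
    ext a
    rw [Ideal.mem_comap]
    change f' a ∈ IsLocalRing.maximalIdeal S ↔ _
    rw [← IsLocalRing.residue_eq_zero_iff, hf', map_eq_zero_iff τ τ.injective,
      Ideal.algebraMap_residueField_eq_zero]
  refine ⟨f, ⟨hcomap f hf, hf⟩, ?_⟩
  rintro f' ⟨-, hf'⟩
  refine algHom_ext_of_unramified 𝔪 (HenselianRing.jac) f' f fun a => ?_
  rw [h𝔪, ← IsLocalRing.residue_eq_zero_iff, map_sub, hf', hf, sub_self]

end Groth.Agent.S0501
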