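import Groth.Statements.S0502
import Mathlib
import Groth.Agent.Lib.Helper4.HenselPairU

set_option autoImplicit false
universe u
open Hensel

namespace Groth.Agent.S0502

open Groth.Agent.Lib.Helper4.HenselPair in
/-- A local ring `R` is henselian as soon as every étale `R`-algebra having a prime over the maximal
ideal with trivial residue field extension admits an `R`-algebra retraction to `R`. -/
theorem result (R : Type u) [CommRing R] [IsLocalRing R]
    (h : ∀ (S : Type u) [CommRing S] [Algebra R S] [Algebra.Etale R S] (q : Ideal S) [q.IsPrime],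
      q.LiesOver (IsLocalRing.maximalIdeal R) → Function.Surjective (algebraMap R q.ResidueField) →
      Nonempty (S →ₐ[R] R)) :
    HenselianLocalRing R := by
  classical
  refine { is_henselian := fun f hf a₀ h0 hu => ?_ }
  set 𝔪 := IsLocalRing.maximalIdeal R with h𝔪
  set G : Polynomial R := f /ₘ (Polynomial.X - Polynomial.C a₀) with hG
  have hfG : f = Polynomial.C (f.eval a₀) + (Polynomial.X - Polynomial.C a₀) * G := by
    have := Polynomial.modByMonic_add_div f (Polynomial.X - Polynomial.C a₀)
    rw [Polynomial.modByMonic_X_sub_C_eq_C_eval] at this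
    exact this.symm
  have hevalG : ∀ a : R, f.eval a = f.eval a₀ + (a - a₀) * G.eval a := by
    intro a
    conv_lhs => rw [hfG]
    simp
  have hderG : f.derivative.eval a₀ = G.eval a₀ := by
    conv_lhs => rw [hfG]
    simp [Polynomial.derivative_mul]
  have huG : IsUnit (G.eval a₀) := hderG ▸ hu
  let P : StandardEtalePair R := ⟨f, hf, Polynomial.derivative f * G, ⟨G, 0, 1, by simp⟩⟩
  let k := IsLocalRing.ResidueField R
  have hmap : P.HasMap (IsLocalRing.residue R a₀ : k) := by
    refine ⟨?_, ?_⟩
    · change Polynomial.aeval (algebraMap R k a₀) f = 0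
      rw [Polynomial.aeval_algebraMap_apply]
      exact (IsLocalRing.residue_eq_zero_iff _).mpr h0
    · change IsUnit (Polynomial.aeval (algebraMap R k a₀) (Polynomial.derivative f * G))
      rw [Polynomial.aeval_algebraMap_apply, Polynomial.coe_aeval_eq_eval, Polynomial.eval_mul]
      exact (hu.mul huG).map _
  let ψ : P.Ring →ₐ[R] k := P.lift _ hmap
  have hψsurj : Function.Surjective ψ := by
    intro x
    obtain ⟨r, rfl⟩ := IsLocalRing.residue_surjective x
    exact ⟨algebraMap R P.Ring r, ψ.commutes r⟩
  let q : Ideal P.Ring := RingHom.ker (ψ : P.Ring →+* k)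
  have hqmax : q.IsMaximal := RingHom.ker_isMaximal_of_surjective (ψ : P.Ring →+* k) hψsurj
  have hqprime : q.IsPrime := hqmax.isPrime
  have hlies : q.LiesOver 𝔪 := by
    constructor
    ext r
    rw [Ideal.under_def, Ideal.mem_comap, RingHom.mem_ker]
    change _ ↔ ψ (algebraMap R P.Ring r) = 0
    rw [ψ.commutes]
    exact (IsLocalRing.residue_eq_zero_iff r).symm
  have hsurj : Function.Surjective (algebraMap R q.ResidueField) := by
    intro x
    obtain ⟨s, rfl⟩ := Ideal.algebraMap_residueField_surjective q x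
    obtain ⟨r, hr⟩ := IsLocalRing.residue_surjective (ψ s)
    refine ⟨r, ?_⟩
    rw [IsScalarTower.algebraMap_apply R P.Ring q.ResidueField, ← sub_eq_zero, ← map_sub,
      Ideal.algebraMap_residueField_eq_zero, RingHom.mem_ker]
    change ψ (algebraMap R P.Ring r - s) = 0
    rw [map_sub, ψ.commutes, sub_eq_zero]
    exact hr
  obtain ⟨ρ⟩ := h P.Ring q hlies hsurj
  have hmapρ : P.HasMap (ρ P.X) := P.hasMap_X.map ρ
  refine ⟨ρ P.X, ?_, ?_⟩
  · have := hmapρ.1
    change Polynomial.aeval (ρ P.X) f = 0 at this
    rw [Polynomial.IsRoot, ← Polynomial.coe_aeval_eq_eval]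
    exact this
  · have h1 : f.eval (ρ P.X) = 0 := by
      have := hmapρ.1
      change Polynomial.aeval (ρ P.X) f = 0 at this
      rwa [Polynomial.coe_aeval_eq_eval] at this
    have h2 : IsUnit (G.eval (ρ P.X)) := by
      have := hmapρ.2
      change IsUnit (Polynomial.aeval (ρ P.X) (Polynomial.derivative f * G)) at this
      rw [Polynomial.coe_aeval_eq_eval, Polynomial.eval_mul] at this
      exact isUnit_of_mul_isUnit_right this
    have h3 := hevalG (ρ P.X)
    rw [h1] at h3
    have h4 : (ρ P.X - a₀) * G.eval (ρ P.X) ∈ 𝔪 := by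
      have : (ρ P.X - a₀) * G.eval (ρ P.X) = -(f.eval a₀) := by linear_combination -h3
      rw [this]
      exact 𝔪.neg_mem h0
    obtain ⟨v, hv⟩ := h2
    have : ρ P.X - a₀ = (ρ P.X - a₀) * G.eval (ρ P.X) * ↑v⁻¹ := by
      rw [← hv, mul_assoc, Units.mul_inv, mul_one]
    rw [this]
    exact 𝔪.mul_mem_right _ h4

end Groth.Agent.S0502
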