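import Groth.Statements.S0503
import Mathlib
import Groth.Agent.Lib.Helper4.HenselPairQ

set_option autoImplicit false
universe u
open Hensel

namespace Groth.Agent.S0503

open Groth.Agent.Lib.Helper4.HenselPair in
/-- A finite-type quasi-finite algebra `S` over a henselian local ring `R` contains an idempotent `e`
such that `S/(1-e)` is finitely generated as an `R`-module and the maximal ideal of `R` generates
the unit ideal of `S/(e)`; in other words `S` is a product of a module-finite algebra and an algebra
whose fibre over the closed point is empty. -/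
theorem result (R : Type u) [CommRing R] [HenselianLocalRing R]
    (S : Type u) [CommRing S] [Algebra R S] [Algebra.FiniteType R S] [Algebra.QuasiFinite R S] :
    ∃ e : S, IsIdempotentElem e ∧ Module.Finite R (S ⧸ Ideal.span ({1 - e} : Set S)) ∧
      Ideal.map (algebraMap R (S ⧸ Ideal.span ({e} : Set S))) (IsLocalRing.maximalIdeal R) = ⊤ := by
  obtain ⟨e, he, ⟨S', hS', hex⟩, h1e⟩ := exists_idempotent_quasiFinite_split R S
  refine ⟨e, he, ?_, ?_⟩
  · have hfin : Module.Finite R S' := ⟨(Submodule.fg_top _).mpr hS'⟩
    let φ : S' →ₗ[R] S ⧸ Ideal.span ({1 - e} : Set S) :=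
      (Ideal.Quotient.mkₐ R (Ideal.span ({1 - e} : Set S))).toLinearMap.comp S'.val.toLinearMap
    refine Module.Finite.of_surjective φ fun y => ?_
    obtain ⟨x, rfl⟩ := Ideal.Quotient.mk_surjective y
    refine ⟨⟨e * x, hex x⟩, ?_⟩
    change Ideal.Quotient.mk _ (e * x) = Ideal.Quotient.mk _ x
    rw [Ideal.Quotient.eq, Ideal.mem_span_singleton]
    exact ⟨-x, by ring⟩
  · rw [Ideal.eq_top_iff_one]
    have h1 : Ideal.Quotient.mk (Ideal.span ({e} : Set S)) (1 - e) ∈
        Ideal.map (algebraMap R (S ⧸ Ideal.span ({e} : Set S))) (IsLocalRing.maximalIdeal R) := by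
      rw [IsScalarTower.algebraMap_eq R S (S ⧸ Ideal.span ({e} : Set S)), ← Ideal.map_map]
      exact Ideal.mem_map_of_mem _ h1e
    have h2 : Ideal.Quotient.mk (Ideal.span ({e} : Set S)) (1 - e) = 1 := by
      rw [map_sub, map_one, sub_eq_self, Ideal.Quotient.eq_zero_iff_mem]
      exact Ideal.mem_span_singleton_self e
    rwa [h2] at h1

end Groth.Agent.S0503
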