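import Groth.Statements.S0504
import Mathlib
import Groth.Agent.Lib.Helper4.HenselPairQF

set_option autoImplicit false
universe u
open Hensel

namespace Groth.Agent.S0504

open Groth.Agent.Lib.Helper4.HenselPair in
/-- A finite-type algebra `S` over a henselian local ring `R` contains an idempotent `e` such that
`S/(1-e)` is finitely generated as an `R`-module and `R → S/(e)` is quasi-finite at no prime lying
over the maximal ideal of `R`. -/
theorem result (R : Type u) [CommRing R] [HenselianLocalRing R]
    (S : Type u) [CommRing S] [Algebra R S] [Algebra.FiniteType R S] :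
    ∃ e : S, IsIdempotentElem e ∧ Module.Finite R (S ⧸ Ideal.span ({1 - e} : Set S)) ∧
      ∀ (q : Ideal (S ⧸ Ideal.span ({e} : Set S))) [q.IsPrime],
        q.LiesOver (IsLocalRing.maximalIdeal R) → ¬ Algebra.QuasiFiniteAt R q := by
  obtain ⟨e, he, ⟨S', hS', hex⟩, hq⟩ := exists_idempotent_finiteType_split R S
  refine ⟨e, he, ?_, ?_⟩
  · have hfin : Module.Finite R S' := ⟨(Submodule.fg_top _).mpr hS'⟩
    let φ : S' →ₗ[R] S ⧸ Ideal.span ({1 - e} : Set S) :=
      (Ideal.Quotient.mkₐ R (Ideal.span ({1 - e} : Set S))).toLinearMap.comp S'.val.toLinearMap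
    refine Module.Finite.of_surjective φ fun y => ?_
    obtain ⟨x, rfl⟩ := Ideal.Quotient.mk_surjective y
    refine ⟨⟨e * x, hex x⟩, ?_⟩
    change Ideal.Quotient.mk _ (e * x) = Ideal.Quotient.mk _ x
    rw [Ideal.Quotient.eq, Ideal.mem_span_singleton]
    exact ⟨-x, by ring⟩
  · intro q' hq'p hlies hqf
    have h1 := quasiFiniteAt_comap_of_idempotent e he q' hqf
    have hle : (IsLocalRing.maximalIdeal R).map (algebraMap R S) ≤
        q'.comap (Ideal.Quotient.mk (Ideal.span ({e} : Set S))) := by
      rw [Ideal.map_le_iff_le_comap]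
      intro a ha
      have h2 : a ∈ q'.under R := hlies.over ▸ ha
      exact h2
    have h3 := hq _ hle h1
    apply h3
    rw [Ideal.mem_comap]
    have : Ideal.Quotient.mk (Ideal.span ({e} : Set S)) e = 0 :=
      Ideal.Quotient.eq_zero_iff_mem.mpr (Ideal.mem_span_singleton_self e)
    rw [this]
    exact q'.zero_mem

end Groth.Agent.S0504
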