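import Groth.Statements.S0513
import Mathlib
import Groth.Agent.Lib.Helper4.HznReg

set_option autoImplicit false
universe u
open Hensel

namespace Groth.Agent.S0513

open Groth.Agent.Lib.Helper4 in
/-- A Noetherian local ring is regular exactly when its henselization is a regular local ring. -/
theorem result (R : Type u) [CommRing R] [IsLocalRing R] (S : Type u) [CommRing S] [IsLocalRing S]
    [Algebra R S] [IsLocalHom (algebraMap R S)] [Hensel.IsHenselization R S] [IsNoetherianRing R] :
    IsRegularLocalRing R ↔ IsRegularLocalRing S := by
  have := (Hzn.isNoetherianRing_iff_of_isHenselization R S).mp inferInstance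
  have := Hzn.faithfullyFlat_of_isHenselization R S
  exact (Hzn.isRegularLocalRing_iff_of_flat_local R S
    (Hzn.map_maximalIdeal_of_isHenselization R S) (Hzn.ringKrullDim_of_isHenselization R S)).symm

end Groth.Agent.S0513
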