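import Groth.Statements.S0517
import Mathlib
import Groth.Agent.Lib.Helper4.HenselPairS

set_option autoImplicit false
universe u
open Hensel

namespace Groth.Agent.S0517

open Groth.Agent.Lib.Helper4.HenselPair in
/-- Given strictly henselian local rings `R` and `S`, a local ring map `φ` between them, and a square
system of `n` polynomial equations in `n` unknowns over `R` whose quotient algebra is étale over
`R`, applying `φ` coordinatewise matches the solutions of the system in `Rⁿ` bijectively with the
solutions of the transported system in `Sⁿ`. -/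
theorem result (R : Type u) [CommRing R]
    [HenselianLocalRing R] [IsSepClosed (IsLocalRing.ResidueField R)] (S : Type u) [CommRing S]
    [HenselianLocalRing S] [IsSepClosed (IsLocalRing.ResidueField S)] (φ : R →+* S) [IsLocalHom φ] (n : ℕ)
    (P : Fin n → MvPolynomial (Fin n) R)
    [Algebra.Etale R (MvPolynomial (Fin n) R ⧸ Ideal.span (Set.range P))] :
    Set.BijOn (fun r : Fin n → R => φ ∘ r)
      {r : Fin n → R | ∀ i, MvPolynomial.eval r (P i) = 0}
      {s : Fin n → S | ∀ i, MvPolynomial.eval s (MvPolynomial.map φ (P i)) = 0} := by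
  classical
  let _ : Algebra R S := φ.toAlgebra
  have hloc : IsLocalHom (algebraMap R S) := ‹IsLocalHom φ›
  have hbij := bijective_comp_of_isSepClosed R S
    (MvPolynomial (Fin n) R ⧸ Ideal.span (Set.range P))
  have hevalS : ∀ (s : Fin n → S) (p : MvPolynomial (Fin n) R),
      MvPolynomial.eval s (MvPolynomial.map φ p) = MvPolynomial.aeval s p := by
    intro s p
    rw [MvPolynomial.eval_map, MvPolynomial.aeval_def]
    rfl
  have hevalR : ∀ (r : Fin n → R) (p : MvPolynomial (Fin n) R),
      MvPolynomial.eval r p = MvPolynomial.aeval r p := by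
    intro r p
    rw [MvPolynomial.aeval_def]
    rfl
  have hcomp : ∀ (r : Fin n → R) (p : MvPolynomial (Fin n) R),
      MvPolynomial.aeval (φ ∘ r) p = φ (MvPolynomial.aeval r p) := by
    intro r p
    rw [MvPolynomial.aeval_def, MvPolynomial.aeval_def, MvPolynomial.eval₂_comp_left φ]
    rfl
  refine ⟨?_, ?_, ?_⟩
  · intro r hr i
    change MvPolynomial.eval (φ ∘ r) (MvPolynomial.map φ (P i)) = 0
    rw [hevalS, hcomp, ← hevalR, hr i, map_zero]
  · intro r hr r' hr' h
    have hr1 : ∀ i, MvPolynomial.aeval r (P i) = 0 := fun i => by rw [← hevalR]; exact hr i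
    have hr1' : ∀ i, MvPolynomial.aeval r' (P i) = 0 := fun i => by rw [← hevalR]; exact hr' i
    have h1 : (Algebra.ofId R S).comp (homOfSol P r hr1) =
        (Algebra.ofId R S).comp (homOfSol P r' hr1') := by
      apply AlgHom.ext
      intro x
      obtain ⟨p, rfl⟩ := Ideal.Quotient.mk_surjective x
      simp only [AlgHom.comp_apply, homOfSol_mk, Algebra.ofId_apply]
      change φ _ = φ _
      rw [← hcomp, ← hcomp]
      have h2 : φ ∘ r = φ ∘ r' := h
      rw [h2]
    have h3 := hbij.1 h1
    funext i
    have h4 := congrArg (fun g => g (Ideal.Quotient.mk _ (MvPolynomial.X i))) h3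
    simpa [homOfSol_mk] using h4
  · intro s hs
    have hs1 : ∀ i, MvPolynomial.aeval s (P i) = 0 := fun i => by rw [← hevalS]; exact hs i
    obtain ⟨τ, hτ⟩ := hbij.2 (homOfSol P s hs1)
    refine ⟨fun i => τ (Ideal.Quotient.mk _ (MvPolynomial.X i)), ?_, ?_⟩
    · intro i
      change MvPolynomial.eval _ (P i) = 0
      rw [hevalR, aeval_eq_of_algHom]
      have : Ideal.Quotient.mk (Ideal.span (Set.range P)) (P i) = 0 :=
        Ideal.Quotient.eq_zero_iff_mem.mpr (Ideal.subset_span ⟨i, rfl⟩)
      rw [this, map_zero]
    · funext i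
      have h4 := congrArg (fun g => g (Ideal.Quotient.mk _ (MvPolynomial.X i))) hτ
      simp only [AlgHom.comp_apply, homOfSol_mk, Algebra.ofId_apply, MvPolynomial.aeval_X] at h4
      exact h4

end Groth.Agent.S0517
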