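import Groth.Statements.S0532
import Mathlib
import Groth.Agent.Lib.Helper4.HenselPairLE

set_option autoImplicit false
universe u
open Hensel

namespace Groth.Agent.S0532

open Groth.Agent.Lib.Helper4.HenselPair in
/-- If `A` is Henselian at `I`, every finite étale `A/I`-algebra is the base change of a finite étale
`A`-algebra. -/
theorem result (A : Type u) [CommRing A] (I : Ideal A) [HenselianRing A I]
    (C : Type u) [CommRing C] [Algebra (A ⧸ I) C] [Module.Finite (A ⧸ I) C] [Algebra.Etale (A ⧸ I) C] :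
    ∃ (B : Type u) (_ : CommRing B) (_ : Algebra A B), Module.Finite A B ∧ Algebra.Etale A B ∧
      Nonempty (TensorProduct A (A ⧸ I) B ≃ₐ[A ⧸ I] C) := by
  let _ : Algebra A C := ((algebraMap (A ⧸ I) C).comp (Ideal.Quotient.mk I)).toAlgebra
  have : IsScalarTower A (A ⧸ I) C := IsScalarTower.of_algebraMap_eq fun _ => rfl
  obtain ⟨B, hB1, hB2, hfin, het, ψ, hψs, hψk⟩ := exists_finite_etale_lift I C
  exact ⟨B, hB1, hB2, hfin, het, nonempty_tensor_equiv_of_surjective I ψ hψs hψk⟩

end Groth.Agent.S0532
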