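import Groth.Statements.S0520
import Mathlib
import Groth.Agent.Lib.Helper4.HenselPairF

set_option autoImplicit false
universe u
open Hensel

namespace Groth.Agent.S0520

open Groth.Agent.Lib.Helper4.HenselPair in
/-- A ring `A` is Henselian at an ideal `I` in Mathlib's sense (simple roots lift) exactly when `I` lies
in the Jacobson radical and every factorization of the reduction of a monic polynomial into two
comaximal monic factors over `A/I` lifts to a factorization into monic polynomials over `A`. -/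
theorem result (A : Type u) [CommRing A] (I : Ideal A) :
    HenselianRing A I ↔ (I ≤ Ideal.jacobson ⊥ ∧
      ∀ f : Polynomial A, f.Monic → ∀ g₀ h₀ : Polynomial (A ⧸ I), g₀.Monic → h₀.Monic →
        IsCoprime g₀ h₀ → Polynomial.map (Ideal.Quotient.mk I) f = g₀ * h₀ →
        ∃ g h : Polynomial A, g.Monic ∧ h.Monic ∧ f = g * h ∧
          Polynomial.map (Ideal.Quotient.mk I) g = g₀ ∧ Polynomial.map (Ideal.Quotient.mk I) h = h₀) := by
  classical
  open Polynomial in
  constructor
  · intro h
    exact ⟨HenselianRing.jac, fun f hf g₀ h₀ hg₀ hh₀ hcop hfac =>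
      exists_monic_factor_lift I f hf g₀ h₀ hg₀ hh₀ hcop hfac⟩
  · rintro ⟨hjac, hfac⟩
    refine ⟨hjac, fun f hf a₀ h0 hu => ?_⟩
    rcases subsingleton_or_nontrivial (A ⧸ I) with hsub | hnt
    · have : Subsingleton A := subsingleton_of_subsingleton_quotient I hjac
      exact ⟨a₀, Subsingleton.elim _ _, by rw [sub_self]; exact I.zero_mem⟩
    set α : A ⧸ I := Ideal.Quotient.mk I a₀ with hα
    set F : (A ⧸ I)[X] := f.map (Ideal.Quotient.mk I) with hF
    have hFα : F.IsRoot α := by
      rw [Polynomial.IsRoot, hF, hα, Polynomial.eval_map_apply]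
      exact Ideal.Quotient.eq_zero_iff_mem.mpr h0
    set q₀ := F /ₘ (X - C α) with hq₀
    have hFq : (X - C α) * q₀ = F := Polynomial.mul_divByMonic_eq_iff_isRoot.mpr hFα
    have hFm : F.Monic := hf.map _
    have hq₀m : q₀.Monic := (Polynomial.monic_X_sub_C α).of_mul_monic_left (hFq ▸ hFm)
    have hq₀α : IsUnit (q₀.eval α) := by
      have : (Polynomial.derivative F).eval α = q₀.eval α := by
        rw [← hFq]
        simp [Polynomial.derivative_mul]
      rw [← this, hF, Polynomial.derivative_map, hα, Polynomial.eval_map_apply]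
      exact hu
    have hcop : IsCoprime (X - C α) q₀ := by
      obtain ⟨v, hv⟩ := hq₀α
      have hq : q₀ = C (q₀.eval α) + (X - C α) * (q₀ /ₘ (X - C α)) := by
        have := Polynomial.modByMonic_add_div q₀ (X - C α)
        rw [Polynomial.modByMonic_X_sub_C_eq_C_eval] at this
        exact this.symm
      refine ⟨-(C (↑v⁻¹ : A ⧸ I)) * (q₀ /ₘ (X - C α)), C (↑v⁻¹ : A ⧸ I), ?_⟩
      have hvv : C (↑v⁻¹ : A ⧸ I) * C (q₀.eval α) = 1 := by
        rw [← Polynomial.C_mul, ← hv, Units.inv_mul, Polynomial.C_1]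
      calc -(C (↑v⁻¹ : A ⧸ I)) * (q₀ /ₘ (X - C α)) * (X - C α) + C (↑v⁻¹ : A ⧸ I) * q₀
          = C (↑v⁻¹ : A ⧸ I) * (q₀ - (X - C α) * (q₀ /ₘ (X - C α))) := by ring
        _ = C (↑v⁻¹ : A ⧸ I) * C (q₀.eval α) := by
            congr 1
            linear_combination hq
        _ = 1 := hvv
    obtain ⟨g, h, hg, hh, hfgh, hgmap, hhmap⟩ :=
      hfac f hf (X - C α) q₀ (Polynomial.monic_X_sub_C α) hq₀m hcop hFq.symm
    have hgdeg : g.natDegree = 1 := by
      rw [← hg.natDegree_map (Ideal.Quotient.mk I), hgmap, Polynomial.natDegree_X_sub_C]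
    have hgeq : g = X + C (g.coeff 0) := hg.eq_X_add_C hgdeg
    refine ⟨-(g.coeff 0), ?_, ?_⟩
    · rw [Polynomial.IsRoot, hfgh, Polynomial.eval_mul]
      have : g.eval (-(g.coeff 0)) = 0 := by
        conv_lhs => rw [hgeq]
        simp
      rw [this, zero_mul]
    · have h1 := congrArg (fun p => p.coeff 0) hgmap
      simp only [Polynomial.coeff_map, Polynomial.coeff_sub, Polynomial.coeff_X_zero,
        Polynomial.coeff_C_zero, zero_sub] at h1
      rw [← Ideal.Quotient.eq_zero_iff_mem, map_sub, map_neg, h1, hα, neg_neg, sub_self]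

end Groth.Agent.S0520
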