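import Groth.Statements.S0531
import Mathlib.Algebra.Polynomial.Div
-- import your own Groth.Agent.* helpers here

set_option autoImplicit false
universe u
open Hensel

namespace Groth.Agent.S0531

open Polynomial in
theorem henselian_bot (A : Type u) [CommRing A] : HenselianRing A (⊥ : Ideal A) where
  jac := bot_le
  is_henselian f _ a₀ h₁ _ := by
    refine ⟨a₀, ?_, by simp⟩
    simpa using h₁

open Polynomial in
theorem henselian_sup {A : Type u} [CommRing A] (I J : Ideal A)
    (hI : HenselianRing A I) (hJ : HenselianRing A J) : HenselianRing A (I ⊔ J) where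
  jac := sup_le hI.jac hJ.jac
  is_henselian f hf a₀ h₁ h₂ := by
    have hjac : I ⊔ J ≤ Ideal.jacobson ⊥ := sup_le hI.jac hJ.jac
    have hu : IsUnit (f.derivative.eval a₀) :=
      (isLocalHom_of_le_jacobson_bot (I ⊔ J) hjac).map_nonunit _ h₂
    obtain ⟨i, hi, j, hj, hij⟩ := Submodule.mem_sup.mp h₁
    by_cases hdeg : f.natDegree = 0
    · have h1 : f = 1 := hf.natDegree_eq_zero.mp hdeg
      have : (1 : A) ∈ Ideal.jacobson (⊥ : Ideal A) := by
        apply hjac
        simpa [h1] using h₁
      have htop : Ideal.jacobson (⊥ : Ideal A) = ⊤ := (Ideal.eq_top_iff_one _).mpr this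
      have hbot : (⊥ : Ideal A) = ⊤ := Ideal.jacobson_eq_top_iff.mp htop
      have : Subsingleton A := by
        refine ⟨fun x y => ?_⟩
        have hx : x ∈ (⊥ : Ideal A) := hbot ▸ Submodule.mem_top
        have hy : y ∈ (⊥ : Ideal A) := hbot ▸ Submodule.mem_top
        rw [Ideal.mem_bot] at hx hy
        rw [hx, hy]
      exact ⟨a₀, Subsingleton.elim _ _, by simp⟩
    · have hdeg' : (C j).degree < f.degree := by
        refine lt_of_le_of_lt degree_C_le ?_
        rw [← natDegree_pos_iff_degree_pos]
        omega
      have hg : (f - C j).Monic := hf.sub_of_left hdeg'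
      have hge : (f - C j).eval a₀ ∈ I := by
        have : (f - C j).eval a₀ = i := by
          rw [eval_sub, eval_C, ← hij]; ring
        rw [this]; exact hi
      have hgd : derivative (f - C j) = derivative f := by simp
      have hgu : IsUnit (Ideal.Quotient.mk I ((f - C j).derivative.eval a₀)) := by
        rw [hgd]; exact hu.map _
      obtain ⟨a₁, ha₁, ha₁'⟩ := hI.is_henselian (f - C j) hg a₀ hge hgu
      have hfa₁ : f.eval a₁ = j := by
        have : (f - C j).eval a₁ = 0 := ha₁
        rw [eval_sub, eval_C, sub_eq_zero] at this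
        exact this
      have hu₁ : IsUnit (f.derivative.eval a₁) := by
        apply (isLocalHom_of_le_jacobson_bot I hI.jac).map_nonunit
        have : Ideal.Quotient.mk I (f.derivative.eval a₁) =
            Ideal.Quotient.mk I (f.derivative.eval a₀) := by
          rw [Ideal.Quotient.eq]
          exact Ideal.mem_of_dvd _ (sub_dvd_eval_sub a₁ a₀ f.derivative) ha₁'
        rw [this]
        exact hu.map _
      obtain ⟨a, ha, ha'⟩ := hJ.is_henselian f hf a₁ (hfa₁ ▸ hj) (hu₁.map _)
      refine ⟨a, ha, ?_⟩
      have : a - a₀ = (a₁ - a₀) + (a - a₁) := by ring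
      rw [this]
      exact Submodule.add_mem_sup ha₁' ha'

theorem henselian_finset_sup {A : Type u} [CommRing A] (s : Finset (Ideal A))
    (hs : ∀ I ∈ s, HenselianRing A I) : HenselianRing A (s.sup id) := by
  classical
  induction s using Finset.induction_on with
  | empty => simpa using henselian_bot A
  | insert I s _ ih =>
    rw [Finset.sup_insert]
    exact henselian_sup _ _ (hs I (Finset.mem_insert_self _ _))
      (ih fun J hJ => hs J (Finset.mem_insert_of_mem hJ))

/-- Every ring has a largest ideal at which it is Henselian. -/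
theorem result (A : Type u) [CommRing A] :
    ∃ I : Ideal A, HenselianRing A I ∧ ∀ J : Ideal A, HenselianRing A J → J ≤ I := by
  refine ⟨sSup {I : Ideal A | HenselianRing A I}, ?_, fun J hJ => le_sSup hJ⟩
  have hjac : sSup {I : Ideal A | HenselianRing A I} ≤ Ideal.jacobson ⊥ :=
    sSup_le fun I hI => hI.jac
  refine ⟨hjac, fun f hf a₀ h₁ h₂ => ?_⟩
  have hu : IsUnit (f.derivative.eval a₀) :=
    (isLocalHom_of_le_jacobson_bot _ hjac).map_nonunit _ h₂
  obtain ⟨s, hs, hmem⟩ := (Submodule.mem_sSup_iff_exists_finset).mp h₁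
  have hH : HenselianRing A (s.sup id) := henselian_finset_sup s fun I hI => hs hI
  rw [← Finset.sup_eq_iSup] at hmem
  obtain ⟨a, ha, ha'⟩ := hH.is_henselian f hf a₀ hmem (hu.map _)
  refine ⟨a, ha, ?_⟩
  have hle : s.sup id ≤ sSup {I : Ideal A | HenselianRing A I} :=
    Finset.sup_le fun I hI => le_sSup (hs hI)
  exact hle ha'

end Groth.Agent.S0531
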