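import Groth.Statements.S0535
import Mathlib.LinearAlgebra.TensorProduct.Quotient
import Mathlib.RingTheory.Nakayama
import Mathlib.RingTheory.FiniteType
-- import your own Groth.Agent.* helpers here

set_option autoImplicit false
universe u
open Hensel

namespace Groth.Agent.S0535

open TensorProduct

theorem mem_smul_top_of_one_tmul_eq_zero {R : Type u} [CommRing R] (I : Ideal R)
    {M : Type u} [AddCommGroup M] [Module R M] (x : M)
    (h : (1 : R ⧸ I) ⊗ₜ[R] x = 0) : x ∈ (I • ⊤ : Submodule R M) := by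
  have := congrArg (quotTensorEquivQuotSMul M I) h
  rw [quotTensorEquivQuotSMul_mk_one_tmul, map_zero, Submodule.Quotient.mk_eq_zero] at this
  exact this

theorem exists_one_tmul {R : Type u} [CommRing R] (I : Ideal R)
    {M : Type u} [AddCommGroup M] [Module R M] (y : (R ⧸ I) ⊗[R] M) :
    ∃ x : M, (1 : R ⧸ I) ⊗ₜ[R] x = y := by
  induction y using TensorProduct.induction_on with
  | zero => exact ⟨0, by simp⟩
  | tmul r m =>
    obtain ⟨r, rfl⟩ := Ideal.Quotient.mk_surjective r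
    refine ⟨r • m, ?_⟩
    rw [← TensorProduct.smul_tmul]
    congr 1
    rw [← Ideal.Quotient.algebraMap_eq, Algebra.smul_def, mul_one]
  | add a b ha hb =>
    obtain ⟨x, rfl⟩ := ha
    obtain ⟨y, rfl⟩ := hb
    exact ⟨x + y, by rw [TensorProduct.tmul_add]⟩

theorem surjective_of_tmul {R : Type u} [CommRing R] (I : Ideal R) (hI : I ≤ Ideal.jacobson ⊥)
    {M N : Type u} [AddCommGroup M] [Module R M] [AddCommGroup N] [Module R N] [Module.Finite R N]
    (φ : M →ₗ[R] N) (h : ∀ y : N, ∃ x : M, (1 : R ⧸ I) ⊗ₜ[R] y = (1 : R ⧸ I) ⊗ₜ[R] φ x) :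
    Function.Surjective φ := by
  rw [← LinearMap.range_eq_top, eq_top_iff]
  apply Submodule.le_of_le_smul_of_le_jacobson_bot Module.Finite.fg_top hI
  intro y _
  obtain ⟨x, hx⟩ := h y
  have : y = φ x + (y - φ x) := by abel
  rw [this]
  refine Submodule.add_mem_sup (LinearMap.mem_range_self φ x) ?_
  apply mem_smul_top_of_one_tmul_eq_zero
  rw [TensorProduct.tmul_sub, hx, sub_self]

/-- If `R` is Henselian at `I` and two finitely generated projective `R`-modules become isomorphic after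
base change to `R/I`, then they are isomorphic. -/
theorem result (R : Type u) [CommRing R] (I : Ideal R)
    [HenselianRing R I] (P₁ P₂ : Type u) [AddCommGroup P₁] [Module R P₁] [AddCommGroup P₂]
    [Module R P₂] [Module.Finite R P₁] [Module.Projective R P₁] [Module.Finite R P₂]
    [Module.Projective R P₂]
    (e : TensorProduct R (R ⧸ I) P₁ ≃ₗ[R ⧸ I] TensorProduct R (R ⧸ I) P₂) :
    Nonempty (P₁ ≃ₗ[R] P₂) := by
  have hI : I ≤ Ideal.jacobson ⊥ := HenselianRing.jac
  have hsurj : ∀ (M : Type u) [AddCommGroup M] [Module R M],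
      Function.Surjective (TensorProduct.mk R (R ⧸ I) M 1) := fun M _ _ y => exists_one_tmul I y
  obtain ⟨φ, hφ⟩ := Module.projective_lifting_property (TensorProduct.mk R (R ⧸ I) P₂ 1)
    ((e.restrictScalars R).toLinearMap ∘ₗ TensorProduct.mk R (R ⧸ I) P₁ 1) (hsurj P₂)
  obtain ⟨ψ, hψ⟩ := Module.projective_lifting_property (TensorProduct.mk R (R ⧸ I) P₁ 1)
    ((e.symm.restrictScalars R).toLinearMap ∘ₗ TensorProduct.mk R (R ⧸ I) P₂ 1) (hsurj P₁)
  have hφ' : ∀ x : P₁, (1 : R ⧸ I) ⊗ₜ[R] φ x = e ((1 : R ⧸ I) ⊗ₜ[R] x) := fun x =>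
    LinearMap.congr_fun hφ x
  have hψ' : ∀ y : P₂, (1 : R ⧸ I) ⊗ₜ[R] ψ y = e.symm ((1 : R ⧸ I) ⊗ₜ[R] y) := fun y =>
    LinearMap.congr_fun hψ y
  have hφs : Function.Surjective φ := by
    apply surjective_of_tmul I hI
    intro y
    obtain ⟨x, hx⟩ := exists_one_tmul I (e.symm ((1 : R ⧸ I) ⊗ₜ[R] y))
    refine ⟨x, ?_⟩
    rw [hφ', hx, LinearEquiv.apply_symm_apply]
  have hψφs : Function.Surjective (ψ ∘ₗ φ) := by
    apply surjective_of_tmul I hI
    intro z
    refine ⟨z, ?_⟩
    rw [LinearMap.comp_apply, hψ', hφ', LinearEquiv.symm_apply_apply]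
  have hψφi : Function.Injective (ψ ∘ₗ φ) :=
    OrzechProperty.injective_of_surjective_endomorphism _ hψφs
  have hφi : Function.Injective φ := by
    intro a b hab
    apply hψφi
    simp [hab]
  exact ⟨LinearEquiv.ofBijective φ ⟨hφi, hφs⟩⟩

end Groth.Agent.S0535
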