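import Groth.Statements.S0544
import Mathlib.RingTheory.AdicCompletion.Functoriality
import Mathlib.RingTheory.Finiteness.Cardinality
-- import your own Groth.Agent.* helpers here

set_option autoImplicit false
universe u
open CAlg

namespace Groth.Agent.S0544

theorem isPrecomplete_fin_fun {R : Type u} [CommRing R] (I : Ideal R) [IsPrecomplete I R] (n : ℕ) :
    IsPrecomplete I (Fin n → R) := by
  rw [← AdicCompletion.of_surjective_iff]
  intro z
  have h : ∀ i : Fin n, ∃ a : R, AdicCompletion.of I R a = AdicCompletion.piEquivFin I n z i :=
    fun i => AdicCompletion.of_surjective I R _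
  choose a ha using h
  refine ⟨a, ?_⟩
  apply (AdicCompletion.piEquivFin I n).injective
  funext i
  rw [← ha i, AdicCompletion.piEquivFin_apply]
  change AdicCompletion.map I (LinearMap.proj i) (AdicCompletion.of I (Fin n → R) a) = _
  rw [AdicCompletion.map_of]
  rfl

/-- Let `R` be complete with respect to an ideal `I` and `M` an `R`-module which is `I`-adically
separated and such that `M/IM` is finitely generated. Then `M` is a finitely generated `R`-module. -/
theorem result (R : Type u) [CommRing R]
    (I : Ideal R) [IsAdicComplete I R] (M : Type u) [AddCommGroup M] [Module R M] [IsHausdorff I M]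
    (h : Module.Finite R (M ⧸ (I • ⊤ : Submodule R M))) : Module.Finite R M := by
  obtain ⟨n, s, hs⟩ := Module.Finite.exists_fin (R := R) (M := M ⧸ (I • ⊤ : Submodule R M))
  have hx : ∀ i : Fin n, ∃ x : M, Submodule.mkQ (I • ⊤ : Submodule R M) x = s i :=
    fun i => Submodule.mkQ_surjective _ _
  choose x hx using hx
  have : IsPrecomplete I (Fin n → R) := isPrecomplete_fin_fun I n
  have hsurj : Function.Surjective
      ((Submodule.mkQ (I • ⊤ : Submodule R M)) ∘ₗ Fintype.linearCombination R x) := by
    rw [← LinearMap.range_eq_top, LinearMap.range_comp, Fintype.range_linearCombination,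
      Submodule.map_span, ← Set.range_comp, ← hs]
    congr 2
    funext i
    exact hx i
  have hf : Function.Surjective (Fintype.linearCombination R x) :=
    surjective_of_mkQ_comp_surjective hsurj
  exact Module.Finite.of_surjective _ hf

end Groth.Agent.S0544
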