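import Groth.Statements.S0545
import Groth.Agent.S0546
import Mathlib.RingTheory.AdicCompletion.AsTensorProduct
import Mathlib.RingTheory.AdicCompletion.Noetherian
import Mathlib.RingTheory.AdicCompletion.Completeness
import Mathlib.RingTheory.Jacobson.Ideal
import Mathlib.LinearAlgebra.TensorProduct.Quotient
-- import your own Groth.Agent.* helpers here

set_option autoImplicit false
universe u
open CAlg

namespace Groth.Agent.S0545

/-- For a Noetherian ring `A` with two ideals `I` and `J`, completeness of `A` along `I` together with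
completeness of the quotient `A/I` along the image of `J` forces completeness of `A` along `J`. -/
theorem result (A : Type u) [CommRing A] [IsNoetherianRing A]
    (I J : Ideal A) [IsAdicComplete I A]
    [IsAdicComplete (Ideal.map (Ideal.Quotient.mk I) J) (A ⧸ I)] : IsAdicComplete J A := by
  classical
  set K : Ideal A := I ⊔ J with hK
  have hIjac : I ≤ Ideal.jacobson ⊥ := IsAdicComplete.le_jacobson_bot I
  have hJjac : J ≤ Ideal.jacobson ⊥ := by
    have h1 : J.map (Ideal.Quotient.mk I) ≤ Ideal.jacobson ⊥ := IsAdicComplete.le_jacobson_bot _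
    have h2 : J ≤ (Ideal.jacobson (⊥ : Ideal (A ⧸ I))).comap (Ideal.Quotient.mk I) :=
      Ideal.map_le_iff_le_comap.mp h1
    rw [Ideal.comap_jacobson_of_surjective Ideal.Quotient.mk_surjective,
      ← RingHom.ker_eq_comap_bot, Ideal.mk_ker] at h2
    refine h2.trans ?_
    intro x hx
    rw [Ideal.jacobson, Ideal.mem_sInf] at hx ⊢
    intro M hM
    exact hx ⟨hIjac.trans (sInf_le ⟨bot_le, hM.2⟩), hM.2⟩
  have hKjac : K ≤ Ideal.jacobson ⊥ := sup_le hIjac hJjac
  have hH : IsHausdorff K A := IsHausdorff.of_le_jacobson K A hKjac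
  have hKfg : K.FG := IsNoetherian.noetherian K
  have hBK : IsAdicComplete K (AdicCompletion K A) := AdicCompletion.isAdicComplete hKfg
  have hBI : IsAdicComplete I (AdicCompletion K A) :=
    Groth.Agent.S0546.result A I K le_sup_left (IsNoetherian.noetherian I) (AdicCompletion K A)
  have hAI : IsAdicComplete K (A ⧸ I) := by
    rw [← IsAdicComplete.map_algebraMap_iff (S := A ⧸ I)]
    have : K.map (algebraMap A (A ⧸ I)) = J.map (Ideal.Quotient.mk I) := by
      rw [Ideal.Quotient.algebraMap_eq, hK, Ideal.map_sup, Ideal.map_quotient_self, bot_sup_eq]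
    rw [this]
    infer_instance
  have hsurj : Function.Surjective
      ((I • ⊤ : Submodule A (AdicCompletion K A)).mkQ ∘ₗ AdicCompletion.of K A) := by
    intro y
    obtain ⟨b, rfl⟩ := Submodule.mkQ_surjective _ y
    have hφ : Function.Bijective (AdicCompletion.ofTensorProduct K (A ⧸ I)) :=
      AdicCompletion.ofTensorProduct_bijective_of_finite_of_isNoetherian K (A ⧸ I)
    obtain ⟨abar, ha⟩ := AdicCompletion.of_surjective K (A ⧸ I)
      (AdicCompletion.ofTensorProduct K (A ⧸ I) (b ⊗ₜ 1))
    obtain ⟨a, rfl⟩ := Ideal.Quotient.mk_surjective abar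
    refine ⟨a, ?_⟩
    have h1 : AdicCompletion.ofTensorProduct K (A ⧸ I) (b ⊗ₜ[A] (1 : A ⧸ I)) =
        AdicCompletion.ofTensorProduct K (A ⧸ I)
          (AdicCompletion.of K A a ⊗ₜ[A] (1 : A ⧸ I)) := by
      rw [← ha, AdicCompletion.ofTensorProduct_tmul]
      have : AdicCompletion.of K A a = algebraMap A (AdicCompletion K A) a := rfl
      rw [this, algebraMap_smul, ← map_smul]
      congr 1
      rw [Algebra.smul_def, mul_one]
      rfl
    have h2 := hφ.1 h1
    have h3 := congrArg (TensorProduct.tensorQuotEquivQuotSMul (AdicCompletion K A) I) h2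
    rw [← map_one (Ideal.Quotient.mk I), TensorProduct.tensorQuotEquivQuotSMul_tmul_mk,
      TensorProduct.tensorQuotEquivQuotSMul_tmul_mk, one_smul, one_smul] at h3
    exact h3.symm
  have hsurj' : Function.Surjective (AdicCompletion.of K A) :=
    surjective_of_mkQ_comp_surjective (I := I) hsurj
  have hKA : IsAdicComplete K A :=
    AdicCompletion.of_bijective_iff.mp ⟨AdicCompletion.of_injective K A, hsurj'⟩
  exact Groth.Agent.S0546.result A J K le_sup_right (IsNoetherian.noetherian J) A

end Groth.Agent.S0545
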