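import Groth.Statements.S0557
import Groth.Agent.Lib.Helper21.KA3
-- import your own Groth.Agent.* helpers here

set_option autoImplicit false
universe u
open CAlg

namespace Groth.Agent.S0557

/-- Let `R` be a Noetherian local domain of dimension one with fraction field `K`, `M` an `R`-submodule
of `K^r`, and `x` a nonzero element of `R`. Then `R/xR` has finite length and the length of `M/xM`
is at most `r` times the length of `R/xR`. -/
theorem result (R : Type u) [CommRing R] [IsDomain R]
    [IsNoetherianRing R] [IsLocalRing R] (hdim : ringKrullDim R = 1) (K : Type u) [Field K]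
    [Algebra R K] [IsFractionRing R K] (r : ℕ) (M : Submodule R (Fin r → K)) (x : R) (hx : x ≠ 0) :
    Module.length R (R ⧸ Ideal.span ({x} : Set R)) ≠ ⊤ ∧
      Module.length R (M ⧸ (Ideal.span ({x} : Set R) • (⊤ : Submodule R M))) ≤
        r * Module.length R (R ⧸ Ideal.span ({x} : Set R)) := by
  have hk : Ring.KrullDimLE 1 R := Ring.krullDimLE_iff.mpr (by rw [hdim]; rfl)
  have hfl : ∀ y : R, y ≠ 0 → Module.length R (R ⧸ Ideal.span {y}) ≠ ⊤ := fun y hy =>
    Groth.Agent.Lib.Helper21.KA.length_quotient_span_singleton_ne_top y hy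
  refine ⟨hfl x hx, ?_⟩
  have heq : (Ideal.span ({x} : Set R) • (⊤ : Submodule R M)) =
      LinearMap.range (LinearMap.lsmul R M x) := by
    rw [Submodule.ideal_span_singleton_smul]
    ext m
    rw [Submodule.mem_smul_pointwise_iff_exists, LinearMap.mem_range]
    constructor
    · rintro ⟨m', -, rfl⟩; exact ⟨m', rfl⟩
    · rintro ⟨m', rfl⟩; exact ⟨m', Submodule.mem_top, rfl⟩
  rw [heq]
  have := Groth.Agent.Lib.Helper21.KA.length_quotient_smul_le (K := K) (V := Fin r → K) hfl
    M.subtype (Submodule.subtype_injective M) x hx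
  rw [Module.finrank_fin_fun] at this
  exact this

end Groth.Agent.S0557
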