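import Groth.Statements.S0560
import Mathlib.RingTheory.KrullDimension.Regular
-- import your own Groth.Agent.* helpers here

set_option autoImplicit false
universe u
open CAlg

namespace Groth.Agent.S0560

/-- Regularity of a Noetherian local ring can be checked after dividing out one nonzerodivisor lying in
the maximal ideal: if that quotient is a regular local ring, so is the original ring. -/
theorem result (R : Type u) [CommRing R] [IsLocalRing R]
    [IsNoetherianRing R] (x : R) (hx : x ∈ IsLocalRing.maximalIdeal R) (hreg : x ∈ nonZeroDivisors R)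
    [IsRegularLocalRing (R ⧸ Ideal.span ({x} : Set R))] : IsRegularLocalRing R := by
  classical
  apply IsRegularLocalRing.of_spanFinrank_maximalIdeal_le
  set S := R ⧸ Ideal.span ({x} : Set R) with hS
  set π : R →+* S := Ideal.Quotient.mk _ with hπ
  have hπs : Function.Surjective π := Ideal.Quotient.mk_surjective
  have hdim := ringKrullDim_quotient_span_singleton_succ_eq_ringKrullDim_of_mem_nonZeroDivisors
    hreg hx
  have hregS : ((IsLocalRing.maximalIdeal S).spanFinrank : WithBot ℕ∞) = ringKrullDim S :=
    IsRegularLocalRing.spanFinrank_maximalIdeal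
  obtain ⟨s, hscard, hsspan⟩ := Submodule.FG.exists_span_finset_card_eq_spanFinrank
    (IsLocalRing.maximalIdeal S).fg_of_isNoetherianRing
  -- lift
  let g : S → R := Function.surjInv hπs
  have hg : ∀ y, π (g y) = y := Function.surjInv_eq hπs
  let t : Finset R := s.image g
  have htcard : t.card ≤ s.card := Finset.card_image_le
  have hmap : (Ideal.span (t : Set R)).map π = IsLocalRing.maximalIdeal S := by
    rw [Ideal.map_span, ← hsspan]
    congr 1
    ext y
    simp only [t, Finset.coe_image, Set.mem_image, Finset.mem_coe]
    constructor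
    · rintro ⟨_, ⟨z, hz, rfl⟩, rfl⟩
      rwa [hg]
    · intro hy
      exact ⟨g y, ⟨y, hy, rfl⟩, hg y⟩
  have hm : IsLocalRing.maximalIdeal R = Ideal.span ((t : Set R) ∪ {x}) := by
    have : IsLocalHom π := IsLocalHom.of_surjective π hπs
    rw [← IsLocalRing.maximalIdeal_comap π, ← hmap, Ideal.comap_map_of_surjective π hπs,
      Ideal.span_union]
    congr 1
    rw [← RingHom.ker_eq_comap_bot, hπ, Ideal.mk_ker]
  rw [← hdim, ← hregS, hm]
  have hfin : ((t : Set R) ∪ {x}).Finite := (Finset.finite_toSet t).union (Set.finite_singleton x)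
  have h1 := Submodule.spanFinrank_span_le_ncard_of_finite (R := R) hfin
  have h2 : ((t : Set R) ∪ {x}).ncard ≤ (IsLocalRing.maximalIdeal S).spanFinrank + 1 := by
    refine (Set.ncard_union_le _ _).trans ?_
    rw [Set.ncard_singleton, Set.ncard_coe_finset, ← hscard]
    omega
  have h3 : (Ideal.span ((t : Set R) ∪ {x})).spanFinrank ≤
      (IsLocalRing.maximalIdeal S).spanFinrank + 1 := h1.trans h2
  exact_mod_cast h3

end Groth.Agent.S0560
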