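import Groth.Statements.S5804
import Groth.Agent.Lib.Helper18.HomDim

set_option autoImplicit false
universe u
open CategoryTheory
open EGA41

namespace Groth.Agent.S5804

/-- Let A be a ring and n ≥ 0. If Ext^(n+1)_A(M, N) = 0 for every monogenous A-module M and every
A-module N — equivalently, if every A/I has projective dimension at most n — then every A-module has
projective dimension at most n, i.e. the global dimension of A is at most n. -/
theorem result (A : Type u) [CommRing A] (n : ℕ)
    (h : ∀ I : Ideal A, HasProjectiveDimensionLT (ModuleCat.of A (A ⧸ I)) (n + 1)) (M : Type u)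
    [AddCommGroup M] [Module A M] : HasProjectiveDimensionLT (ModuleCat.of A M) (n + 1) := by
  apply CategoryTheory.hasProjectiveDimensionLT_of_enoughInjectives
  intro Y
  have hY : CategoryTheory.HasInjectiveDimensionLT Y (n + 1) :=
    Groth.Agent.Lib.Helper18.hasInjectiveDimensionLT_of_ext_cyclic A n Y fun I =>
      CategoryTheory.HasProjectiveDimensionLT.subsingleton _ (n + 1) (n + 1) le_rfl _
  exact CategoryTheory.HasInjectiveDimensionLT.subsingleton Y (n + 1) (n + 1) le_rfl _

end Groth.Agent.S5804
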