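import Groth.Statements.S0563
import Groth.Agent.Lib.Helper4.RegularGlobalDim
import Groth.Agent.S5804

set_option autoImplicit false
universe u
open CategoryTheory
open CAlg

namespace Groth.Agent.S0563

theorem result (R : Type u) [CommRing R]
    [IsRegularLocalRing R] (d : ℕ) (hd : ringKrullDim R = d) (M : Type u) [AddCommGroup M]
    [Module R M] : HasProjectiveDimensionLT (ModuleCat.of R M) (d + 1) := by
  refine Groth.Agent.S5804.result R d (fun I => ?_) M
  exact Groth.Agent.Lib.Helper4.hasProjectiveDimensionLT_of_isRegularLocalRing_of_finite R d hd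
    (R ⧸ I)

end Groth.Agent.S0563
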