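import Groth.Statements.S0567
import Mathlib
import Groth.Agent.Lib.Helper18.NagFT12

set_option autoImplicit false
universe u
open CAlg

namespace Groth.Agent.S0567

/-- A ring is Nagata exactly when it is Noetherian and universally Japanese. -/
theorem result (R : Type u) [CommRing R] :
    CAlg.IsNagata R ↔ (IsNoetherianRing R ∧ CAlg.IsUniversallyJapanese R) := by
  exact Groth.Agent.Lib.Helper18.Nag.isNagata_iff_isUniversallyJapanese R

end Groth.Agent.S0567
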