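import Groth.Statements.S0574
import Mathlib
import Groth.Agent.Lib.Helper18.N1N2

set_option autoImplicit false
universe u
open CAlg

namespace Groth.Agent.S0574

/-- For Noetherian domains of characteristic zero the conditions N-1 and N-2 coincide. -/
theorem result (R : Type u) [CommRing R] [IsDomain R] [IsNoetherianRing R]
    [CharZero R] : CAlg.IsN1 R ↔ CAlg.IsN2 R := by
  constructor
  · intro hN1 L _ _ _ _ hfd
    haveI := hfd
    exact Groth.Agent.Lib.Helper18.N1N2.finite_integralClosure_of_finite_of_isSeparable
      R (FractionRing R) L hN1
  · intro hN2
    exact hN2 (FractionRing R) inferInstance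

end Groth.Agent.S0574
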