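import Groth.Statements.S0578
import Mathlib
import Groth.Agent.Lib.Helper23.CohenRingExist

set_option autoImplicit false
universe u
open CAlg

namespace Groth.Agent.S0578


/-- For every prime `p` and every field `k` of characteristic `p` there is a Cohen ring (a complete
discrete valuation ring with uniformizer `p`) whose residue field is isomorphic to `k`. -/
theorem result (p : ℕ) [Fact p.Prime] (k : Type u) [Field k] [CharP k p] :
    ∃ (Λ : Type u) (_ : CommRing Λ) (_ : IsLocalRing Λ), CAlg.IsCohenRing Λ ∧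
      Nonempty (IsLocalRing.ResidueField Λ ≃+* k) := by
  obtain ⟨W, _, _, hW, _, _, ⟨e⟩⟩ := Groth.Agent.Lib.Helper23.CohenRingExist.exists_cohenRing k
  refine ⟨W, inferInstance, inferInstance, ?_, ⟨e⟩⟩
  rcases hW with ⟨hf, hc⟩ | h
  · exfalso
    have hp0 : (p : W) ≠ 0 := Nat.cast_ne_zero.mpr (Fact.out : p.Prime).ne_zero
    obtain ⟨b, hb⟩ := hf.mul_inv_cancel hp0
    have hu : IsUnit (p : W) := isUnit_iff_exists_inv.mpr ⟨b, hb⟩
    have hu' : IsUnit ((e.toRingHom.comp (IsLocalRing.residue W)) (p : W)) := hu.map _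
    rw [map_natCast, CharP.cast_eq_zero k p] at hu'
    exact not_isUnit_zero hu'
  · exact h

end Groth.Agent.S0578
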