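import Groth.Statements.S0579
import Mathlib

set_option autoImplicit false
universe u
open CAlg

namespace Groth.Agent.S0579

/-- fields of char zero are formally smooth over ℚ -/
theorem formallySmooth_rat (k : Type u) [Field k] [CharZero k] : Algebra.FormallySmooth ℚ k := by
  obtain ⟨s, hs⟩ := exists_isTranscendenceBasis ℚ k
  have halg := hs.isAlgebraic_field
  have : Algebra.IsSeparable (IntermediateField.adjoin ℚ (Set.range ((↑) : s → k))) k := by
    have : Algebra.IsAlgebraic (IntermediateField.adjoin ℚ (Set.range ((↑) : s → k))) k := by
      convert halg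
    infer_instance
  exact Algebra.FormallySmooth.of_algebraicIndependent_of_isSeparable hs.1


/-- A local ring which is complete with respect to its maximal ideal and whose residue field has
characteristic zero admits a coefficient field: there is a ring homomorphism from the residue field
to the ring which is a section of the residue map. -/
theorem result (R : Type u) [CommRing R] [IsLocalRing R]
    [IsAdicComplete (IsLocalRing.maximalIdeal R) R] [CharZero (IsLocalRing.ResidueField R)] :
    ∃ s : IsLocalRing.ResidueField R →+* R, (IsLocalRing.residue R).comp s = RingHom.id _ := by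
  -- ℚ-algebra structure on R
  have hunit : ∀ y : nonZeroDivisors ℤ, IsUnit (Int.castRingHom R y) := by
    intro y
    have hy : (y : ℤ) ≠ 0 := nonZeroDivisors.coe_ne_zero y
    by_contra h
    have hm : Int.castRingHom R y ∈ IsLocalRing.maximalIdeal R := by
      rwa [IsLocalRing.mem_maximalIdeal, mem_nonunits_iff]
    have h0 : IsLocalRing.residue R (Int.castRingHom R y) = 0 := by
      rwa [IsLocalRing.residue_eq_zero_iff]
    have : ((y : ℤ) : IsLocalRing.ResidueField R) = 0 := by
      simpa using h0
    exact hy (by exact_mod_cast this)
  let φ : ℚ →+* R := IsLocalization.lift (M := nonZeroDivisors ℤ) (g := Int.castRingHom R) hunit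
  let _ : Algebra ℚ R := φ.toAlgebra
  have := formallySmooth_rat (IsLocalRing.ResidueField R)
  let ψ : IsLocalRing.ResidueField R →+* R ⧸ IsLocalRing.maximalIdeal R := RingHom.id _
  let f : IsLocalRing.ResidueField R →ₐ[ℚ] R ⧸ IsLocalRing.maximalIdeal R := ψ.toRatAlgHom
  obtain ⟨g, hg⟩ := Algebra.FormallySmooth.exists_mkₐ_comp_eq_of_isAdicComplete
    (R := ℚ) (I := IsLocalRing.maximalIdeal R) f
  refine ⟨g.toRingHom, ?_⟩
  ext x
  have := congr($hg x)
  exact this

end Groth.Agent.S0579
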