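import Groth.Statements.S0625
import Groth.Agent.Lib.Helper22.NormalSplit.Closed
import Groth.Agent.Lib.Helper22.NormalSplit.Section

set_option autoImplicit false
open CategoryTheory CategoryTheory.Limits AlgebraicGeometry Opposite
universe u
open EtCore

namespace Groth.Agent.S0625


/-- Let X be an affine integral normal scheme whose function field is separably closed and Z -> X a
closed immersion. Every surjective finite etale morphism V -> Z has a section. -/
theorem result {V Z X : Scheme.{u}} [IsAffine X] [IsIntegral X]
    (hN : ∀ x : X, IsIntegrallyClosed (X.presheaf.stalk x)) [IsSepClosed X.functionField]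
    (i : Z ⟶ X) [IsClosedImmersion i] (φ : V ⟶ Z) [AlgebraicGeometry.Etale φ] [IsFinite φ] [Surjective φ] :
    ∃ s : Z ⟶ V, s ≫ φ = 𝟙 Z := by
  have hZ : IsAffine Z := isAffine_of_isAffineHom i
  have hV : IsAffine V := isAffine_of_isAffineHom φ
  obtain ⟨ι, hfin, W, e, he⟩ :=
    Groth.Agent.Lib.Helper22.NormalSplit.exists_finite_split_over_closed hN i φ
  exact Groth.Agent.Lib.Helper22.NormalSplit.exists_section_of_finite_split φ ι W e he

end Groth.Agent.S0625
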