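import Groth.Statements.S0632
import Mathlib
import Groth.Agent.S0633

set_option autoImplicit false
open CategoryTheory CategoryTheory.Limits AlgebraicGeometry Opposite
universe u
open EtCore

namespace Groth.Agent.S0632

set_option backward.isDefEq.respectTransparency.types false in
theorem main {X Y : Scheme.{u}} (f : X ⟶ Y) [IsClosedImmersion f]
    {ι : Type u} (U : ι → X.Etale) (hU : EtCoh.Covers U) :
    ∃ (κ : Type u) (V : κ → Y.Etale), EtCoh.Covers V ∧
      ∀ j, IsEmpty ↥(pullback (V j).hom f) ∨
        ∃ (i : ι) (h : pullback (V j).hom f ⟶ (U i).left),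
          h ≫ (U i).hom = pullback.snd (V j).hom f := by
  choose κ V h h1 h2 h3 using fun i => Groth.Agent.S0633.result f (U i)
  -- the open complement of the image of `f`
  let W : Y.Opens := ⟨(Set.range f)ᶜ, (Scheme.Hom.isClosedEmbedding f).isClosed_range.isOpen_compl⟩
  have hWet : EtCoh.etaleMP W.ι := by
    show Etale _
    infer_instance
  let V₀ : Y.Etale := MorphismProperty.Over.mk ⊤ W.ι hWet
  refine ⟨Option (Σ i, κ i), fun o => o.elim V₀ (fun p => V p.1 p.2), ?_, ?_⟩
  · intro y
    by_cases hy : y ∈ Set.range f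
    · obtain ⟨x, rfl⟩ := hy
      obtain ⟨i, u, rfl⟩ := hU x
      obtain ⟨j, z, rfl⟩ := h3 i u
      refine ⟨some ⟨i, j⟩, (pullback.fst (V i j).hom f) z, ?_⟩
      show ((V i j).hom) ((pullback.fst (V i j).hom f) z) = f ((U i).hom ((h i j) z))
      have e1 : pullback.fst (V i j).hom f ≫ (V i j).hom = h i j ≫ (U i).hom ≫ f := by
        rw [reassoc_of% (h1 i j), pullback.condition]
      rw [← Scheme.Hom.comp_apply, ← Scheme.Hom.comp_apply, ← Scheme.Hom.comp_apply, e1]
    · refine ⟨none, ⟨y, hy⟩, ?_⟩
      rfl
  · rintro (_ | ⟨i, j⟩)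
    · left
      constructor
      intro z
      have hz : (W.ι) ((pullback.fst W.ι f) z) = f ((pullback.snd W.ι f) z) := by
        rw [← Scheme.Hom.comp_apply, ← Scheme.Hom.comp_apply, pullback.condition]
      have : W.ι ((pullback.fst W.ι f) z) ∈ (Set.range f)ᶜ := ((pullback.fst W.ι f) z).2
      exact this ⟨_, hz.symm⟩
    · right
      exact ⟨i, h i j, h1 i j⟩

/-- Let X -> Y be a closed immersion and U_i -> X (i in ι) a jointly surjective family of etale
morphisms. Then one can find a jointly surjective family of etale Y-schemes V_j each of which either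
has empty preimage over X or, after base change to X, maps into one of the U_i over X. -/
theorem result {X Y : Scheme.{u}} (f : X ⟶ Y) [IsClosedImmersion f]
    {ι : Type u} (U : ι → X.Etale) (hU : EtCoh.Covers U) :
    ∃ (κ : Type u) (V : κ → Y.Etale), EtCoh.Covers V ∧
      ∀ j, IsEmpty ↥(pullback (V j).hom f) ∨
        ∃ (i : ι) (h : pullback (V j).hom f ⟶ (U i).left), h ≫ (U i).hom = pullback.snd (V j).hom f := by
  exact main f U hU

end Groth.Agent.S0632
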