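import Groth.Statements.S0634
import Groth.Agent.Lib.Helper22.EtStalk.Pull
import Groth.Agent.Lib.Helper22.EtStalk.SetsFamily
import Groth.Agent.Lib.Helper22.PointComap.Unit

set_option autoImplicit false
open CategoryTheory CategoryTheory.Limits AlgebraicGeometry Opposite
universe u
open EtCore

namespace Groth.Agent.S0634

open Groth.Agent.Lib.Helper22.EtStalk Groth.Agent.Lib.Helper22.CechU.Etale
  Groth.Agent.Lib.Helper22.PointComap

/-- The open set where two sections agree étale-locally. -/
def agreeSet {S : Scheme.{u}} (F : EtCoh.Ab S) (s t : EtCoh.sect F (EtCoh.top S)) : Set S :=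
  {x | ∃ (V : S.Etale) (g : V ⟶ EtCoh.top S) (v : V.left), (V.hom : V.left ⟶ S) v = x ∧
    F.obj.map g.op s = F.obj.map g.op t}

lemma isOpen_agreeSet {S : Scheme.{u}} (F : EtCoh.Ab S) (s t : EtCoh.sect F (EtCoh.top S)) :
    IsOpen (agreeSet F s t) := by
  have h : agreeSet F s t = ⋃ (V : S.Etale) (g : V ⟶ EtCoh.top S)
      (_ : F.obj.map g.op s = F.obj.map g.op t), Set.range (V.hom : V.left ⟶ S).base := by
    ext x
    simp only [agreeSet, Set.mem_ofPred_eq, Set.mem_iUnion, Set.mem_range, exists_prop]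
    constructor
    · rintro ⟨V, g, v, hv, h0⟩
      exact ⟨V, g, h0, v, hv⟩
    · rintro ⟨V, g, h0, v, hv⟩
      exact ⟨V, g, v, hv, h0⟩
  rw [h]
  refine isOpen_iUnion fun V => isOpen_iUnion fun g => isOpen_iUnion fun _ => ?_
  have : Etale (V.hom : V.left ⟶ S) := V.prop
  exact (V.hom : V.left ⟶ S).isOpenMap.isOpen_range

lemma injective_of_isIso {A B : Scheme.{u}} (h : A ⟶ B) [IsIso h] : Function.Injective h := by
  intro a b hab
  have h1 : (h ≫ inv h) a = (h ≫ inv h) b := by
    rw [Scheme.Hom.comp_apply, Scheme.Hom.comp_apply, hab]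
  rw [IsIso.hom_inv_id] at h1
  exact h1

/-- For an abelian sheaf F on the small etale site of S and two global sections s, t there is an open W
of S such that a morphism f : T -> S has image inside W if and only if the pullbacks of s and t
along f (images under the adjunction unit, as sections of the pullback sheaf over T) coincide. -/
theorem result {S : Scheme.{u}} (F : EtCoh.Ab S) (s t : EtCoh.sect F (EtCoh.top S)) :
    ∃ W : S.Opens, ∀ (T : Scheme.{u}) (f : T ⟶ S),
      Set.range f.base ⊆ (W : Set S) ↔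
        ((EtCoh.pullPushAdj f).unit.app F).hom.app (op (EtCoh.top S)) s =
          ((EtCoh.pullPushAdj f).unit.app F).hom.app (op (EtCoh.top S)) t := by
  refine ⟨⟨agreeSet F s t, isOpen_agreeSet F s t⟩, fun T f => ⟨fun hr => ?_, fun he => ?_⟩⟩
  · refine eq_of_locally_eq (F := (EtCoh.pull f).obj F) (U := (EtCoh.bc f).obj (EtCoh.top S)) _ _ ?_
    intro y
    let sndT : ((EtCoh.bc f).obj (EtCoh.top S)).left ⟶ T := pullback.snd (EtCoh.top S).hom f
    have hiso : IsIso sndT := by
      change IsIso (pullback.snd (𝟙 S) f)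
      infer_instance
    obtain ⟨V, g, v, hv, h0⟩ := hr ⟨sndT y, rfl⟩
    obtain ⟨y', hy1, hy2⟩ := Scheme.Pullback.exists_preimage_pullback
      (f := (V.hom : V.left ⟶ S)) (g := f) v (sndT y) hv
    refine ⟨(EtCoh.bc f).obj V, (EtCoh.bc f).map g, ⟨y', ?_⟩, ?_⟩
    · apply injective_of_isIso sndT
      have e1 : ((EtCoh.bc f).map g).left ≫ sndT = pullback.snd V.hom f := by
        dsimp [EtCoh.bc, sndT]
        exact pullback.lift_snd _ _ _
      have e2 := congrArg (fun h : ((EtCoh.bc f).obj V).left ⟶ T => h y') e1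
      simp only [Scheme.Hom.comp_apply] at e2
      exact e2.trans hy2
    · have n := ((EtCoh.pullPushAdj f).unit.app F).hom.naturality g.op
      have n1 := congrArg (fun φ => φ s) (congrArg AddCommGrpCat.Hom.hom n)
      have n2 := congrArg (fun φ => φ t) (congrArg AddCommGrpCat.Hom.hom n)
      simp only [AddCommGrpCat.hom_comp, AddMonoidHom.coe_comp, Function.comp_apply] at n1 n2
      exact n1.symm.trans ((congrArg _ h0).trans n2)
  · rintro _ ⟨p, rfl⟩
    obtain ⟨Ω, i1, i2, τ, hτ⟩ := Sets.exists_geomPoint_scheme T p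
    let Φ := Scheme.pointSmallEtale τ
    let Φ' := Φ.comap (EtCoh.bc f) (EtCoh.coverPreserving_bc f)
    let ul : Spec (CommRingCat.of Ω) ⟶ ((EtCoh.bc f).obj (EtCoh.top S)).left :=
      pullback.lift (τ ≫ f) τ (Category.comp_id _)
    let u : Φ.fiber.obj ((EtCoh.bc f).obj (EtCoh.top S)) :=
      Over.homMk ul (pullback.lift_snd _ _ _)
    have key := toPresheafFiber_sheafFiberComapIso_hom Φ (EtCoh.bc f) (EtCoh.coverPreserving_bc f)
      (A := AddCommGrpCat.{u + 1}) F (EtCoh.top S) u
    have k1 := congrArg (fun φ => φ s) (congrArg AddCommGrpCat.Hom.hom key)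
    have k2 := congrArg (fun φ => φ t) (congrArg AddCommGrpCat.Hom.hom key)
    simp only [AddCommGrpCat.hom_comp, AddMonoidHom.coe_comp, Function.comp_apply] at k1 k2
    have hinj : Function.Injective ((Φ.sheafFiberComapIso (EtCoh.bc f) (EtCoh.coverPreserving_bc f)
        AddCommGrpCat.{u + 1}).hom.app F) :=
      ((ConcreteCategory.isIso_iff_bijective _).1 inferInstance).1
    have hg : Φ'.toPresheafFiber (EtCoh.top S) u F.obj s =
        Φ'.toPresheafFiber (EtCoh.top S) u F.obj t := by
      apply hinj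
      exact k1.trans ((congrArg _ he).trans k2.symm)
    obtain ⟨V, g, v, hv, hf⟩ := (Φ'.toPresheafFiber_eq_iff' (EtCoh.top S) u s t).1 hg
    let vl : Spec (CommRingCat.of Ω) ⟶ ((EtCoh.bc f).obj V).left := v.left
    have hvl : vl ≫ (pullback.snd V.hom f : ((EtCoh.bc f).obj V).left ⟶ T) = τ := Over.w v
    refine ⟨V, g, (pullback.fst V.hom f : ((EtCoh.bc f).obj V).left ⟶ V.left)
      (vl (default : Spec (CommRingCat.of Ω))), ?_, hf⟩
    have c : (pullback.fst V.hom f : ((EtCoh.bc f).obj V).left ⟶ V.left) ≫ (V.hom : V.left ⟶ S) =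
        (pullback.snd V.hom f : ((EtCoh.bc f).obj V).left ⟶ T) ≫ f := pullback.condition
    let q : ((EtCoh.bc f).obj V).left := vl (default : Spec (CommRingCat.of Ω))
    have c1 : (V.hom : V.left ⟶ S)
        ((pullback.fst V.hom f : ((EtCoh.bc f).obj V).left ⟶ V.left) q) =
        f ((pullback.snd V.hom f : ((EtCoh.bc f).obj V).left ⟶ T) q) :=
      (Scheme.Hom.comp_apply (pullback.fst V.hom f : ((EtCoh.bc f).obj V).left ⟶ V.left)
        (V.hom : V.left ⟶ S) q).symm.trans
        ((congrArg (fun h : ((EtCoh.bc f).obj V).left ⟶ S => h q) c).trans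
          (Scheme.Hom.comp_apply (pullback.snd V.hom f : ((EtCoh.bc f).obj V).left ⟶ T) f q))
    have c2 : (pullback.snd V.hom f : ((EtCoh.bc f).obj V).left ⟶ T) q = p :=
      (Scheme.Hom.comp_apply vl (pullback.snd V.hom f : ((EtCoh.bc f).obj V).left ⟶ T)
        (default : Spec (CommRingCat.of Ω))).symm.trans
        ((congrArg (fun h : Spec (CommRingCat.of Ω) ⟶ T =>
          h (default : Spec (CommRingCat.of Ω))) hvl).trans hτ)
    exact c1.trans (congrArg (fun z => f z) c2)

end Groth.Agent.S0634
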