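import Groth.Statements.S0643
-- import your own Groth.Agent.* helpers here

set_option autoImplicit false
universe u
open EtCore

namespace Groth.Agent.S0643

open Polynomial in
/-- Let A be a ring, assumed nonzero here (the published statement does not say so; over the zero ring
no polynomial has positive degree in Lean's sense), and a, b elements generating the unit ideal such
that some positive power of a is congruent to 1 modulo b. Then there is a monic polynomial P of
positive degree over A such that in B = A[y]/(P) the element a - b y is a unit. -/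
theorem result (A : Type u) [CommRing A] [Nontrivial A] (a b : A) (hab : IsCoprime a b)
    (hroot : ∃ n : ℕ, 0 < n ∧ a ^ n - 1 ∈ Ideal.span ({b} : Set A)) :
    ∃ P : A[X], P.Monic ∧ 0 < P.natDegree ∧
      IsUnit (algebraMap A (AdjoinRoot P) a - algebraMap A (AdjoinRoot P) b * AdjoinRoot.root P) := by
  obtain ⟨n, hn, hmem⟩ := hroot
  obtain ⟨t, ht⟩ := Ideal.mem_span_singleton'.mp hmem
  obtain ⟨u, v, huv⟩ := hab
  obtain ⟨m, rfl⟩ : ∃ m, n = m + 1 := ⟨n - 1, by omega⟩
  have hdeg : (C t * (C u * X + C v) ^ m : A[X]).degree < ((m + 1 : ℕ) : WithBot ℕ) := by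
    refine lt_of_le_of_lt ?_ (WithBot.coe_lt_coe.mpr (Nat.lt_succ_self m))
    have h1 : (C u * X + C v : A[X]).degree ≤ 1 := by
      refine (degree_add_le _ _).trans (max_le ?_ ?_)
      · exact (degree_C_mul_X_le u)
      · exact degree_C_le.trans zero_le_one
    have h2 : ((C u * X + C v : A[X]) ^ m).degree ≤ (m : ℕ) := by
      refine (degree_pow_le _ _).trans ?_
      calc m • (C u * X + C v : A[X]).degree ≤ m • (1 : WithBot ℕ) := nsmul_le_nsmul_right h1 m
        _ = (m : ℕ) := by simp
    calc (C t * (C u * X + C v) ^ m : A[X]).degree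
        ≤ (C t : A[X]).degree + ((C u * X + C v : A[X]) ^ m).degree := degree_mul_le _ _
      _ ≤ 0 + (m : ℕ) := add_le_add degree_C_le h2
      _ = (m : ℕ) := zero_add _
  have hmonic : (X ^ (m + 1) - C t * (C u * X + C v) ^ m : A[X]).Monic :=
    monic_X_pow_sub hdeg
  refine ⟨X ^ (m + 1) - C t * (C u * X + C v) ^ m, hmonic, ?_, ?_⟩
  · have hd : (X ^ (m + 1) - C t * (C u * X + C v) ^ m : A[X]).degree = ((m + 1 : ℕ) : WithBot ℕ) := by
      rw [degree_sub_eq_left_of_degree_lt (by rwa [degree_X_pow]), degree_X_pow]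
    rw [natDegree_eq_of_degree_eq_some hd]
    exact Nat.succ_pos m
  · set P : A[X] := X ^ (m + 1) - C t * (C u * X + C v) ^ m with hP
    set y := AdjoinRoot.root P with hy
    set a' := algebraMap A (AdjoinRoot P) a with ha'
    set b' := algebraMap A (AdjoinRoot P) b with hb'
    set t' := algebraMap A (AdjoinRoot P) t with ht'
    set u' := algebraMap A (AdjoinRoot P) u with hu'
    set v' := algebraMap A (AdjoinRoot P) v with hv'
    have hroot : y ^ (m + 1) - t' * (u' * y + v') ^ m = 0 := by
      have := AdjoinRoot.eval₂_root P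
      rw [hP] at this
      rw [hy, ht', hu', hv', hP]
      simpa [eval₂_sub, eval₂_mul, eval₂_pow, eval₂_add, AdjoinRoot.algebraMap_eq] using this
    have h1 : a' ^ (m + 1) - 1 = t' * b' := by
      rw [ha', ht', hb', ← map_pow, ← map_one (algebraMap A (AdjoinRoot P)), ← map_sub, ← map_mul, ht]
    have h2 : u' * a' + v' * b' = 1 := by
      rw [ha', hu', hb', hv', ← map_mul, ← map_mul, ← map_add, huv, map_one]
    have d1 : a' - b' * y ∣ a' ^ (m + 1) - (b' * y) ^ (m + 1) := sub_dvd_pow_sub_pow _ _ _
    have d2 : a' - b' * y ∣ (u' * a' + v' * b') ^ m - (u' * (b' * y) + v' * b') ^ m := by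
      refine dvd_trans ?_ (sub_dvd_pow_sub_pow _ _ _)
      exact ⟨u', by ring⟩
    have key : (1 : AdjoinRoot P) = (a' ^ (m + 1) - (b' * y) ^ (m + 1)) -
        t' * b' * ((u' * a' + v' * b') ^ m - (u' * (b' * y) + v' * b') ^ m) := by
      have e1 : (u' * (b' * y) + v' * b') ^ m = b' ^ m * (u' * y + v') ^ m := by
        rw [← mul_pow]; ring
      have e2 : (b' * y) ^ (m + 1) = b' ^ (m + 1) * (t' * (u' * y + v') ^ m) := by
        rw [mul_pow, sub_eq_zero.mp hroot]
      rw [e1, e2, h2, one_pow]
      have : a' ^ (m + 1) = 1 + t' * b' := by rw [← h1]; ring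
      rw [this]; ring
    have : a' - b' * y ∣ 1 := by
      rw [key]
      exact dvd_sub d1 (Dvd.dvd.mul_left d2 _)
    exact isUnit_of_dvd_one this

end Groth.Agent.S0643
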