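import Groth.Statements.S0644
import Mathlib

set_option autoImplicit false
open CategoryTheory CategoryTheory.Limits AlgebraicGeometry Opposite
universe u
open EtCore

namespace Groth.Agent.S0644

section
variable {S : Scheme.{u}} (F : Sheaf S.smallEtaleTopology (Type u))

/-- the open subset of `S` covered by étale `U` with `F(U)` nonempty. -/
def suppOpen : S.Opens :=
  ⟨⋃ (U : S.Etale) (_ : Nonempty (F.obj.obj (op U))), Set.range U.hom.base,
    isOpen_iUnion fun U => isOpen_iUnion fun _ => U.hom.isOpenMap.isOpen_range⟩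

lemma mem_suppOpen (x : S) : x ∈ suppOpen F ↔
    ∃ (U : S.Etale), Nonempty (F.obj.obj (op U)) ∧ x ∈ Set.range U.hom.base := by
  change x ∈ (⋃ (U : S.Etale) (_ : Nonempty (F.obj.obj (op U))), Set.range U.hom.base) ↔ _
  simp only [Set.mem_iUnion, exists_prop]

lemma nonempty_of_hom {U V : S.Etale} (g : V ⟶ U) (h : Nonempty (F.obj.obj (op U))) :
    Nonempty (F.obj.obj (op V)) :=
  h.map (F.obj.map g.op)

lemma range_subset_of_nonempty (U : S.Etale) (h : Nonempty (F.obj.obj (op U))) :
    Set.range U.hom.base ⊆ (suppOpen F : Set S) := by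
  rintro _ ⟨y, rfl⟩
  exact (mem_suppOpen F _).mpr ⟨U, h, y, rfl⟩

set_option backward.isDefEq.respectTransparency.types false in
lemma nonempty_of_range_subset (hF : ∀ U : S.Etale, Subsingleton (F.obj.obj (op U)))
    (U : S.Etale) (h : Set.range U.hom.base ⊆ (suppOpen F : Set S)) :
    Nonempty (F.obj.obj (op U)) := by
  classical
  -- the sieve of arrows with nonempty sections
  let R : Sieve U :=
    { arrows := fun V _ => Nonempty (F.obj.obj (op V))
      downward_closed := fun {V W} _ hV g => nonempty_of_hom F g hV }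
  have hR : R ∈ S.smallEtaleTopology U := by
    have eS : S.smallEtaleTopology =
        (S.smallPretopology (P := EtCoh.etaleMP) (Q := EtCoh.etaleMP)).toGrothendieck :=
      Scheme.smallGrothendieckTopology_eq_toGrothendieck_smallPretopology S le_rfl
    rw [eS]
    refine (Scheme.mem_toGrothendieck_smallPretopology U R).2 ?_
    intro x
    obtain ⟨U', hU', y, hy⟩ := (mem_suppOpen F _).mp (h ⟨x, rfl⟩)
    obtain ⟨z, hz1, hz2⟩ := Scheme.Pullback.exists_preimage_pullback (f := U.hom) (g := U'.hom) x y
      hy.symm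
    let V : S.Etale := Scheme.Etale.mk (pullback.fst U.hom U'.hom ≫ U.hom)
    let g : V ⟶ U := MorphismProperty.Over.homMk (pullback.fst U.hom U'.hom) rfl trivial
    let g' : V ⟶ U' := MorphismProperty.Over.homMk (pullback.snd U.hom U'.hom)
      pullback.condition.symm trivial
    exact ⟨V, g, z, nonempty_of_hom F g' hU', inferInstanceAs (AlgebraicGeometry.Etale (pullback.fst U.hom U'.hom)), hz1⟩
  have hsh := (isSheaf_iff_isSheaf_of_type _ _).mp F.property R hR
  let x : Presieve.FamilyOfElements F.obj R.arrows := fun V g hg => Classical.choice hg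
  have hx : x.Compatible := by
    intro V₁ V₂ W g₁ g₂ f₁ f₂ h₁ h₂ _
    exact (hF W).elim _ _
  obtain ⟨t, -, -⟩ := hsh x hx
  exact ⟨t⟩

lemma hom_subsingleton (W : S.Opens) (U : S.Etale) :
    Subsingleton (U ⟶ Scheme.Etale.mk W.ι) := by
  refine ⟨fun a b => ?_⟩
  apply MorphismProperty.Over.Hom.ext
  have ha : a.left ≫ W.ι = U.hom := MorphismProperty.Over.w a
  have hb : b.left ≫ W.ι = U.hom := MorphismProperty.Over.w b
  exact (cancel_mono W.ι).mp (ha.trans hb.symm)

lemma nonempty_hom_iff (W : S.Opens) (U : S.Etale) :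
    Nonempty (U ⟶ Scheme.Etale.mk W.ι) ↔ Set.range U.hom.base ⊆ (W : Set S) := by
  constructor
  · rintro ⟨a⟩
    have ha : a.left ≫ W.ι = U.hom := MorphismProperty.Over.w a
    rintro _ ⟨y, rfl⟩
    rw [← ha]
    have : (a.left ≫ W.ι).base y = W.ι.base (a.left.base y) := rfl
    rw [this]
    exact (a.left.base y).2
  · intro h
    have h' : Set.range U.hom.base ⊆ Set.range W.ι.base := by
      rw [Scheme.Opens.range_ι]; exact h
    let l : U.left ⟶ W.toScheme := IsOpenImmersion.lift W.ι U.hom h'
    have hl : l ≫ W.ι = U.hom := IsOpenImmersion.lift_fac _ _ _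
    exact ⟨MorphismProperty.Over.homMk l hl trivial⟩

end

/-- Let F be a sheaf of sets on the small etale site of S which is a subsheaf of the final sheaf, i.e.
every set of sections has at most one element. Then there is exactly one open W of S such that F is
isomorphic to the sheaf represented by W (viewed as a scheme etale over S). -/
theorem result (S : Scheme.{u}) (F : Sheaf S.smallEtaleTopology (Type u))
    (hF : ∀ U : S.Etale, Subsingleton (F.obj.obj (op U))) :
    ∃! W : S.Opens, Nonempty (F.obj ≅ yoneda.obj (Scheme.Etale.mk W.ι)) := by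
  classical
  have hiso : ∀ W : S.Opens, (∀ U : S.Etale, Nonempty (F.obj.obj (op U)) ↔
      Set.range U.hom.base ⊆ (W : Set S)) →
      Nonempty (F.obj ≅ yoneda.obj (Scheme.Etale.mk W.ι)) := by
    intro W hW
    refine ⟨NatIso.ofComponents (fun U => Equiv.toIso ?_) ?_⟩
    · have hsub : Subsingleton (U.unop ⟶ Scheme.Etale.mk W.ι) := hom_subsingleton W U.unop
      have hsubF : Subsingleton (F.obj.obj U) := hF U.unop
      refine
        { toFun := fun s => Classical.choice ((nonempty_hom_iff W U.unop).mpr ((hW U.unop).mp ⟨s⟩))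
          invFun := fun a => Classical.choice ((hW U.unop).mpr ((nonempty_hom_iff W U.unop).mp ⟨a⟩))
          left_inv := fun s => Subsingleton.elim _ _
          right_inv := fun a => Subsingleton.elim _ _ }
    · intro U V g
      have hsub : Subsingleton (V.unop ⟶ Scheme.Etale.mk W.ι) := hom_subsingleton W V.unop
      ext s
      exact Subsingleton.elim _ _
  refine ⟨suppOpen F, hiso _ (fun U => ⟨range_subset_of_nonempty F U,
    nonempty_of_range_subset F hF U⟩), ?_⟩
  rintro W ⟨e⟩
  -- W is determined
  have hW : ∀ U : S.Etale, Nonempty (F.obj.obj (op U)) ↔ Set.range U.hom.base ⊆ (W : Set S) := by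
    intro U
    rw [← nonempty_hom_iff]
    exact ⟨fun ⟨s⟩ => ⟨(e.hom.app (op U)) s⟩, fun ⟨a⟩ => ⟨(e.inv.app (op U)) a⟩⟩
  apply le_antisymm
  · -- W ≤ suppOpen
    have h1 : Nonempty (F.obj.obj (op (Scheme.Etale.mk W.ι))) := by
      rw [hW]
      change Set.range W.ι.base ⊆ _
      rw [Scheme.Opens.range_ι]
    have := range_subset_of_nonempty F _ h1
    change Set.range W.ι.base ⊆ _ at this
    rw [Scheme.Opens.range_ι] at this
    exact this
  · intro x hx
    obtain ⟨U, hU, hxU⟩ := (mem_suppOpen F x).mp hx
    exact (hW U).mp hU hxU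

end Groth.Agent.S0644
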