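import Groth.Statements.S0652
import Groth.Agent.Lib.Helper22.EtStalk.IsoStalks

set_option autoImplicit false
open CategoryTheory CategoryTheory.Limits AlgebraicGeometry Opposite
universe u
open EtCore

namespace Groth.Agent.S0652

/-- For an open immersion j : U -> X and an abelian sheaf F on the small etale site of U, an abelian
sheaf G on X is isomorphic to j_! F as soon as G restricts to a sheaf isomorphic to F on U and has
vanishing stalks at every geometric point of X not in U. (Continuity of the composition functor of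
etale sites, which always holds, is carried as an instance hypothesis.) -/
theorem result {U X : Scheme.{u}} (j : U ⟶ X) [IsOpenImmersion j]
    [AlgebraicGeometry.Etale j] [EtShriek.JCont j] (F : EtCoh.Ab U) (G : EtCoh.Ab X)
    (hres : Nonempty ((EtShriek.restrAlong j).obj G ≅ F))
    (hzero : ∀ (Ω : Type u) [Field Ω] [IsSepClosed Ω] (ξ : Spec (CommRingCat.of Ω) ⟶ X),
      Set.range ξ.base ⊆ (Set.range j.base)ᶜ → IsZero ((EtCoh.stalk ξ).obj G)) :
    Nonempty (G ≅ (EtShriek.extZero j).obj F) := by
  obtain ⟨e⟩ := hres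
  have : Mono j := inferInstance
  let φ : (EtShriek.extZero j).obj F ⟶ G := ((EtShriek.extZeroAdj j).homEquiv F G).symm e.inv
  have hφ : (EtShriek.extZeroAdj j).unit.app F ≫ (EtShriek.restrAlong j).map φ = e.inv := by
    refine ((EtShriek.extZeroAdj j).homEquiv_unit (f := φ)).symm.trans ?_
    exact Equiv.apply_symm_apply _ _
  have hunit : IsIso ((EtShriek.extZeroAdj j).unit.app F) := by
    have := Groth.Agent.Lib.Helper22.EtLoc.isIso_extZeroAdj_unit j
    infer_instance
  have hR : IsIso ((EtShriek.restrAlong j).map φ) := by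
    have h1 : IsIso ((EtShriek.extZeroAdj j).unit.app F ≫ (EtShriek.restrAlong j).map φ) := by
      rw [hφ]; infer_instance
    exact IsIso.of_isIso_comp_left ((EtShriek.extZeroAdj j).unit.app F) _
  have hiso : IsIso φ := by
    apply Groth.Agent.Lib.Helper22.EtStalk.isIso_of_stalks
    intro Ω _ _ ξ
    rcases Groth.Agent.Lib.Helper22.EtStalk.factors_or_disjoint j ξ with ⟨ξ', rfl⟩ | hdis
    · exact Groth.Agent.Lib.Helper22.EtStalk.isIso_stalk_of_isIso_restr j φ hR ξ'
    · have hz1 := Groth.Agent.Lib.Helper22.EtStalk.isZero_stalk_extZero_of_disjoint j F ξ hdis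
      have hz2 := hzero Ω ξ hdis
      exact ⟨0, hz1.eq_of_src _ _, hz2.eq_of_src _ _⟩
  exact ⟨(asIso φ).symm⟩

end Groth.Agent.S0652
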