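import Groth.Statements.S0653
import Groth.Agent.Lib.Helper22.EtStalk.FiniteEtaleTau
import Groth.Agent.Lib.Helper22.EtLoc.MonoLoc

set_option autoImplicit false
open CategoryTheory CategoryTheory.Limits AlgebraicGeometry Opposite
universe u
open EtCore

namespace Groth.Agent.S0653

open Groth.Agent.Lib.Helper22.EtStalk Groth.Agent.Lib.Helper22.EtLoc
open Groth.Agent.Lib.Helper22.EtStalk.ShriekToPush

section Zero

variable {U X : Scheme.{u}} (j : U ⟶ X) [Etale j] [EtShriek.JCont j]
  {Ω : Type u} [Field Ω] [IsSepClosed Ω] (ξ : Spec (CommRingCat.of Ω) ⟶ X)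

/-- The stalk of `j_! F` vanishes at geometric points which do not lift. -/
lemma subsingleton_stalk_extZero (hξ : IsEmpty (Lifts j ξ)) (F : EtCoh.Ab U) :
    Subsingleton ((EtCoh.stalk ξ).obj ((EtShriek.extZero j).obj F)) := by
  have key : ∀ x : (EtCoh.stalk ξ).obj ((EtShriek.extZero j).obj F), x = 0 := by
    intro x
    exact cofan_eq_zero _ (isColimitCofan j ξ F) (fun u => isEmptyElim u)
      (fun u => isEmptyElim u) (fun k => isEmptyElim k) x (fun u => isEmptyElim u)
  exact ⟨fun a b => (key a).trans (key b).symm⟩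

/-- The unit of `j_! ⊣ j^*` is an isomorphism for an étale monomorphism. -/
lemma isIso_shriekPullAdj_unit_app [Mono j] (F : EtCoh.Ab U) :
    IsIso ((shriekPullAdj j).unit.app F) := by
  have h1 : (shriekPullAdj j).unit.app F =
      (EtShriek.extZeroAdj j).unit.app F ≫ (pullIsoRes j).symm.hom.app _ := rfl
  rw [h1]
  have h2 : IsIso ((EtShriek.extZeroAdj j).unit.app F) :=
    NatIso.isIso_app_of_isIso (EtShriek.extZeroAdj j).unit F
  have h3 : IsIso ((pullIsoRes j).symm.hom.app ((EtShriek.extZero j).obj F)) :=
    ⟨⟨(pullIsoRes j).symm.inv.app _, (pullIsoRes j).symm.hom_inv_id_app _,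
      (pullIsoRes j).symm.inv_hom_id_app _⟩⟩
  exact IsIso.comp_isIso' h2 h3

end Zero


/-- Consider a cartesian square U = X x_Y V with f : X -> Y finite, j : V -> Y an open immersion, j' : U
-> X and g : U -> V the projections. Then for every abelian sheaf F on the small etale site of U,
f_* j'_! F is isomorphic to j_! g_* F. (The source also asserts functoriality in F; only the
objectwise isomorphism is stated.) (Continuity of the composition functor of etale sites, which
always holds, is carried as an instance hypothesis.) -/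
theorem result {U X V Y : Scheme.{u}} (f : X ⟶ Y) [IsFinite f] (j : V ⟶ Y)
    [IsOpenImmersion j] [AlgebraicGeometry.Etale j] [EtShriek.JCont j] (j' : U ⟶ X) [IsOpenImmersion j']
    [AlgebraicGeometry.Etale j'] [EtShriek.JCont j'] (g : U ⟶ V) (h : IsPullback j' g f j) (F : EtCoh.Ab U) :
    Nonempty ((EtCoh.push f).obj ((EtShriek.extZero j').obj F) ≅ (EtShriek.extZero j).obj ((EtCoh.push g).obj F)) := by
  let K := (EtShriek.extZero j').obj F
  let bc0 := EtCoh.baseChange0 f j g j' h.w K
  have hbc0 : IsIso bc0 := FiniteBC.isIso_baseChange0 h K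
  let u' := (shriekPullAdj j').unit.app F
  have hu' : IsIso u' := isIso_shriekPullAdj_unit_app j' F
  let β : (EtCoh.push g).obj F ⟶ (EtCoh.pull j).obj ((EtCoh.push f).obj K) :=
    (EtCoh.push g).map u' ≫ inv bc0
  have hβ : IsIso β := inferInstance
  let α : (EtShriek.extZero j).obj ((EtCoh.push g).obj F) ⟶ (EtCoh.push f).obj K :=
    ((shriekPullAdj j).homEquiv _ _).symm β
  have hα1 : (shriekPullAdj j).unit.app ((EtCoh.push g).obj F) ≫ (EtCoh.pull j).map α = β := by
    have := ((shriekPullAdj j).homEquiv _ _).apply_symm_apply β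
    rw [Adjunction.homEquiv_unit] at this
    exact this
  have hu : IsIso ((shriekPullAdj j).unit.app ((EtCoh.push g).obj F)) :=
    isIso_shriekPullAdj_unit_app j _
  have hα2 : IsIso ((EtCoh.pull j).map α) := by
    have e : (EtCoh.pull j).map α =
        inv ((shriekPullAdj j).unit.app ((EtCoh.push g).obj F)) ≫ β := by
      rw [← hα1, IsIso.inv_hom_id_assoc]
    rw [e]
    infer_instance
  suffices hα : IsIso α from ⟨(asIso α).symm⟩
  rw [AC.isIso_iff_stalks]
  intro Ω _ _ η
  by_cases hη : η (default : Spec (CommRingCat.of Ω)) ∈ Set.range j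
  · -- `η` factors through `V`
    have hr : Set.range η ⊆ Set.range j := by
      rintro _ ⟨z, rfl⟩
      rw [Subsingleton.elim z default]
      exact hη
    obtain ⟨η₀, hη₀⟩ : ∃ η₀ : Spec (CommRingCat.of Ω) ⟶ V, η₀ ≫ j = η :=
      ⟨IsOpenImmersion.lift j η hr, IsOpenImmersion.lift_fac _ _ _⟩
    subst hη₀
    have hnat := (stalkPullIso j η₀).hom.naturality α
    have h1 : Function.Bijective ((EtCoh.stalk η₀).map ((EtCoh.pull j).map α)) :=
      ConcreteCategory.bijective_of_isIso _
    have h2 : (EtCoh.stalk (η₀ ≫ j)).map α =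
        (stalkPullIso j η₀).inv.app _ ≫ (EtCoh.stalk η₀).map ((EtCoh.pull j).map α) ≫
          (stalkPullIso j η₀).hom.app _ := by
      rw [← Functor.comp_map, hnat, Iso.inv_hom_id_app_assoc]
    have h3 : IsIso ((EtCoh.stalk η₀).map ((EtCoh.pull j).map α)) := inferInstance
    rw [h2]
    exact ConcreteCategory.bijective_of_isIso _
  · -- both stalks vanish
    have hE : IsEmpty (Lifts j η) := by
      constructor
      rintro ⟨v, hv⟩
      apply hη
      refine ⟨v default, ?_⟩
      rw [← hv]
      rfl
    have hS1 := subsingleton_stalk_extZero j η hE ((EtCoh.push g).obj F)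
    have hS2 : Subsingleton ((EtCoh.stalk η).obj ((EtCoh.push f).obj K)) := by
      have hinj := (FinitePush.toPi_bijective f η K).1
      have : ∀ ξ : Lifts f η, Subsingleton ((EtCoh.stalk ξ.1).obj K) := by
        intro ξ
        apply subsingleton_stalk_extZero j' ξ.1
        constructor
        rintro ⟨v', hv'⟩
        apply hE.false
        refine ⟨v' ≫ g, ?_⟩
        rw [Category.assoc, ← h.w, ← Category.assoc, hv', ξ.2]
      exact hinj.subsingleton
    constructor
    · intro a b _
      exact Subsingleton.elim _ _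
    · intro b
      exact ⟨0, Subsingleton.elim _ _⟩

end Groth.Agent.S0653
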