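import Groth.Statements.S0658
import Mathlib

set_option autoImplicit false
open CategoryTheory CategoryTheory.Limits AlgebraicGeometry Opposite
universe u
open EtCore

namespace Groth.Agent.S0658

theorem etale_of_finite_separable (k : Type u) [Field k] (K : Type u) [Field K] [Algebra k K]
    [FiniteDimensional k K] [Algebra.IsSeparable k K] :
    Etale (Spec.map (CommRingCat.ofHom (algebraMap k K))) := by
  rw [HasRingHomProperty.Spec_iff (P := @Etale)]
  show (algebraMap k K).Etale
  rw [RingHom.etale_algebraMap]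
  have : Algebra.FormallyEtale k K := Algebra.FormallyEtale.of_isSeparable k K
  have : Algebra.FinitePresentation k K :=
    Algebra.FinitePresentation.of_finiteType.mp inferInstance
  exact {}

theorem point_data (k : Type u) [Field k] (U : Scheme.{u}) (φ : U ⟶ Spec (CommRingCat.of k))
    [Etale φ] (x : U) :
    ∃ (K : Type u) (_ : Field K) (_ : Algebra k K) (_ : FiniteDimensional k K)
      (_ : Algebra.IsSeparable k K) (g : Spec (CommRingCat.of K) ⟶ U),
      IsOpenImmersion g ∧ Set.range g = {x} ∧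
        g ≫ φ = Spec.map (CommRingCat.ofHom (algebraMap k K)) := by
  obtain ⟨W, hW, hxW⟩ : ∃ W : U.Opens, IsAffineOpen W ∧ x ∈ W := by
    obtain ⟨_, ⟨W, hW, rfl⟩, hx, -⟩ := U.isBasis_affineOpens.exists_subset_of_mem_open
      (Set.mem_univ x) isOpen_univ
    exact ⟨W, hW, hx⟩
  let ρ : CommRingCat.of k ⟶ Γ(U, W) := Spec.preimage (hW.fromSpec ≫ φ)
  have hρ : Spec.map ρ = hW.fromSpec ≫ φ := Spec.map_preimage _
  have hρet : ρ.hom.Etale := by
    rw [← HasRingHomProperty.Spec_iff (P := @Etale), hρ]; infer_instance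
  let _ : Algebra k Γ(U, W) := ρ.hom.toAlgebra
  have : Algebra.Etale k Γ(U, W) := hρet
  have : Module.Finite k Γ(U, W) := Algebra.FormallyUnramified.finite_of_free k _
  have : IsArtinianRing Γ(U, W) := isArtinian_of_tower k inferInstance
  let 𝔭 : Ideal Γ(U, W) := (hW.primeIdealOf ⟨x, hxW⟩).asIdeal
  have : 𝔭.IsMaximal := IsArtinianRing.isMaximal_of_isPrime 𝔭
  let _ : Field (Γ(U, W) ⧸ 𝔭) := Ideal.Quotient.field 𝔭
  have hsep : Algebra.IsSeparable k (Γ(U, W) ⧸ 𝔭) := inferInstance
  have hfin : FiniteDimensional k (Γ(U, W) ⧸ 𝔭) :=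
    Module.Finite.of_surjective (Ideal.Quotient.mkₐ k 𝔭).toLinearMap
      (Ideal.Quotient.mkₐ_surjective k 𝔭)
  let q : Γ(U, W) ⟶ CommRingCat.of (Γ(U, W) ⧸ 𝔭) := CommRingCat.ofHom (Ideal.Quotient.mk 𝔭)
  let g : Spec (CommRingCat.of (Γ(U, W) ⧸ 𝔭)) ⟶ U := Spec.map q ≫ hW.fromSpec
  have hgφ : g ≫ φ = Spec.map (CommRingCat.ofHom (algebraMap k (Γ(U, W) ⧸ 𝔭))) := by
    rw [Category.assoc, ← hρ, ← Spec.map_comp]; rfl
  have hget' : Etale (g ≫ φ) := by
    rw [hgφ]; exact etale_of_finite_separable k _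
  have hget : Etale g := Etale.of_comp g φ
  have : IsClosedImmersion (Spec.map q) :=
    IsClosedImmersion.spec_of_surjective q Ideal.Quotient.mk_surjective
  have : Mono g := inferInstance
  have hgo : IsOpenImmersion g := IsOpenImmersion.of_flat_of_mono g
  refine ⟨_, _, _, hfin, hsep, g, hgo, ?_, hgφ⟩
  have huniq : ∀ z : Spec (CommRingCat.of (Γ(U, W) ⧸ 𝔭)), g z = x := by
    intro z
    have hz : (Spec.map q) z = hW.primeIdealOf ⟨x, hxW⟩ := by
      apply PrimeSpectrum.ext
      show Ideal.comap (Ideal.Quotient.mk 𝔭) z.asIdeal = 𝔭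
      have : z.asIdeal = ⊥ := by
        rcases Ideal.eq_bot_or_top z.asIdeal with h | h
        · exact h
        · exact absurd h z.2.ne_top
      rw [this, ← RingHom.ker_eq_comap_bot, Ideal.mk_ker]
    show hW.fromSpec ((Spec.map q) z) = x
    rw [hz]
    exact hW.fromSpec_primeIdealOf ⟨x, hxW⟩
  ext y
  constructor
  · rintro ⟨z, rfl⟩
    exact huniq z
  · rintro rfl
    exact ⟨⟨⊥, Ideal.isPrime_bot⟩, huniq _⟩

/-- Let k be a field and φ : U → Spec k a morphism of schemes. Then φ is étale if and only if U is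
isomorphic over k to a disjoint union ∐ Spec K_i with each K_i a finite separable field extension of
k. -/
theorem result (k : Type u) [Field k] (U : Scheme.{u}) (φ : U ⟶ Spec (CommRingCat.of k)) :
    AlgebraicGeometry.Etale φ ↔
      ∃ (ι : Type u) (K : ι → Type u) (_ : ∀ i, Field (K i)) (_ : ∀ i, Algebra k (K i))
        (_ : ∀ i, FiniteDimensional k (K i)) (_ : ∀ i, Algebra.IsSeparable k (K i))
        (e : (∐ fun i => Spec (CommRingCat.of (K i))) ≅ U),
        ∀ i, Sigma.ι (fun i => Spec (CommRingCat.of (K i))) i ≫ e.hom ≫ φ =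
          Spec.map (CommRingCat.ofHom (algebraMap k (K i))) := by
  constructor
  · intro hφ
    choose K hF hA hfd hsep g hg1 hg2 hg3 using point_data k U φ
    have h1 : IsOpenImmersion (Sigma.desc g) := by
      refine isOpenImmersion_sigmaDesc _ g (fun i j hij => ?_)
      simp only [Function.onFun, hg2, Set.disjoint_singleton]
      exact hij
    have h2 : Surjective (Sigma.desc g) := by
      refine ⟨fun x => ?_⟩
      have hx : x ∈ Set.range (g x) := by rw [hg2]; rfl
      obtain ⟨z, hz⟩ := hx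
      refine ⟨(Sigma.ι (fun i => Spec (CommRingCat.of (K i))) x) z, ?_⟩
      rw [← Scheme.Hom.comp_apply, Sigma.ι_desc, hz]
    have h3 : IsIso (Sigma.desc g) := (isIso_iff_isOpenImmersion_and_surjective _).mpr ⟨h1, h2⟩
    refine ⟨U, K, hF, hA, hfd, hsep, asIso (Sigma.desc g), fun i => ?_⟩
    rw [asIso_hom, Sigma.ι_desc_assoc, hg3]
  · rintro ⟨ι, K, hF, hA, hfd, hsep, e, he⟩
    have h2 : Etale (e.hom ≫ φ) := by
      have : e.hom ≫ φ =
          Sigma.desc (fun i => Spec.map (CommRingCat.ofHom (algebraMap k (K i)))) := by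
        refine Sigma.hom_ext _ _ (fun i => ?_)
        rw [Sigma.ι_desc]; exact he i
      rw [this]
      exact IsZariskiLocalAtSource.sigmaDesc (fun i => etale_of_finite_separable k (K i))
    exact (MorphismProperty.cancel_left_of_respectsIso @Etale e.hom φ).mp h2

end Groth.Agent.S0658
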