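import Groth.Statements.S0659
import Groth.Agent.Lib.Helper22.EtLoc.OpenCover
import Groth.Agent.Lib.Helper22.EtLoc.MVTranslate
import Groth.Agent.Lib.Helper22.DeltaMV

set_option autoImplicit false
open CategoryTheory CategoryTheory.Limits AlgebraicGeometry Opposite
universe u
open EtCore

namespace Groth.Agent.S0659

open Groth.Agent.Lib.Helper22 Groth.Agent.Lib.Helper22.EtLoc

section Aux

variable {X : Scheme.{u}}

lemma mv_c1 (U V : X.Opens) (hUV : U ⊔ V = ⊤) (G : EtCoh.Ab X)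
    [PreservesFiniteLimits (EtCoh.pull U.ι)] [PreservesFiniteLimits (EtCoh.pull V.ι)]
    (x : EtCoh.H X G 0) (h1 : EtCore.Hpull U.ι G 0 x = 0) (h2 : EtCore.Hpull V.ι G 0 x = 0) :
    x = 0 := by
  apply (Sheaf.H.equiv₀ G (EtCore.topIsTerminal X)).injective
  rw [map_zero]
  apply sep U V hUV G
  · rw [← σH_Hpull U.ι G (tO U), h1, map_zero, map_zero]
  · rw [← σH_Hpull V.ι G (tO V), h2, map_zero, map_zero]

lemma mv_surj (I : EtCoh.Ab X) [Injective I] (A : X.Opens)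
    [PreservesFiniteLimits (EtCoh.pull A.ι)]
    (y : EtCoh.H ↑A ((EtCoh.pull A.ι).obj I) 0) : ∃ x : EtCoh.H X I 0, EtCore.Hpull A.ι I 0 x = y := by
  obtain ⟨s, hs⟩ := surjective_res_of_injective I (tO A) (σH A.ι I y)
  refine ⟨(Sheaf.H.equiv₀ I (EtCore.topIsTerminal X)).symm s, ?_⟩
  apply (σH A.ι I).injective
  rw [σH_Hpull A.ι I (tO A), AddEquiv.apply_symm_apply, hs]

lemma mv_c2 (U V : X.Opens) (hUV : U ⊔ V = ⊤) (I : EtCoh.Ab X) [Injective I]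
    [PreservesFiniteLimits (EtCoh.pull U.ι)] [PreservesFiniteLimits (EtCoh.pull V.ι)]
    [PreservesFiniteLimits (EtCoh.pull (X.homOfLE (inf_le_left : U ⊓ V ≤ U)))]
    [PreservesFiniteLimits (EtCoh.pull (X.homOfLE (inf_le_right : U ⊓ V ≤ V)))]
    (y₁ : EtCoh.H ↑U ((EtCoh.pull U.ι).obj I) 0) (y₂ : EtCoh.H ↑V ((EtCoh.pull V.ι).obj I) 0)
    (h : EtCore.HpullVia (X.homOfLE (inf_le_left : U ⊓ V ≤ U)) U.ι (U ⊓ V).ι
        (X.homOfLE_ι inf_le_left) I 0 y₁ =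
      EtCore.HpullVia (X.homOfLE (inf_le_right : U ⊓ V ≤ V)) V.ι (U ⊓ V).ι
        (X.homOfLE_ι inf_le_right) I 0 y₂) :
    ∃ x : EtCoh.H X I 0, EtCore.Hpull U.ι I 0 x = y₁ ∧ EtCore.Hpull V.ι I 0 x = y₂ := by
  obtain ⟨x₁, rfl⟩ := mv_surj I U y₁
  obtain ⟨x₂, rfl⟩ := mv_surj I V y₂
  rw [HpullVia_Hpull_zero, HpullVia_Hpull_zero] at h
  have hW : I.obj.map (tO (U ⊓ V)).op (Sheaf.H.equiv₀ I (EtCore.topIsTerminal X) x₁) =
      I.obj.map (tO (U ⊓ V)).op (Sheaf.H.equiv₀ I (EtCore.topIsTerminal X) x₂) := by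
    rw [← σH_Hpull (U ⊓ V).ι I (tO (U ⊓ V)), ← σH_Hpull (U ⊓ V).ι I (tO (U ⊓ V)), h]
  have e1 : rO (inf_le_left : U ⊓ V ≤ U) ≫ tO U = tO (U ⊓ V) :=
    (EtCore.topIsTerminal X).hom_ext _ _
  have e2 : rO (inf_le_right : U ⊓ V ≤ V) ≫ tO V = tO (U ⊓ V) :=
    (EtCore.topIsTerminal X).hom_ext _ _
  obtain ⟨s, hs1, hs2⟩ := glue U V hUV I
    (I.obj.map (tO U).op (Sheaf.H.equiv₀ I (EtCore.topIsTerminal X) x₁))
    (I.obj.map (tO V).op (Sheaf.H.equiv₀ I (EtCore.topIsTerminal X) x₂)) (by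
      rw [← ConcreteCategory.comp_apply, ← ConcreteCategory.comp_apply, ← Functor.map_comp,
        ← Functor.map_comp, ← op_comp, ← op_comp, e1, e2]
      exact hW)
  refine ⟨(Sheaf.H.equiv₀ I (EtCore.topIsTerminal X)).symm s, ?_, ?_⟩
  · apply (σH U.ι I).injective
    rw [σH_Hpull U.ι I (tO U), σH_Hpull U.ι I (tO U), AddEquiv.apply_symm_apply, hs1]
  · apply (σH V.ι I).injective
    rw [σH_Hpull V.ι I (tO V), σH_Hpull V.ι I (tO V), AddEquiv.apply_symm_apply, hs2]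

end Aux

/-- Let X = U ∪ V be a union of two open subschemes and F an abelian sheaf on the small etale site of X.
Writing r_U, r_V for the pullback maps H^n(X, F) -> H^n(U, F|_U), H^n(V, F|_V) and d for the
difference of the two further pullbacks to H^n(U ∩ V, F|_{U ∩ V}), there are connecting
homomorphisms δ_n : H^n(U ∩ V) -> H^{n+1}(X) making the Mayer-Vietoris sequence exact: (r_U, r_V) is
injective in degree 0 and has kernel the image of δ in positive degrees, d has kernel the image of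
(r_U, r_V), and δ has kernel the image of d. (Functoriality in F is not stated.) (Exactness of
pullback of abelian sheaves, which always holds, is carried as an instance hypothesis.) -/
theorem result (X : Scheme.{u}) (U V : X.Opens) (hUV : U ⊔ V = ⊤) (F : EtCoh.Ab X)
    [PreservesFiniteLimits (EtCoh.pull U.ι)] [PreservesFiniteLimits (EtCoh.pull V.ι)]
    [PreservesFiniteLimits (EtCoh.pull (X.homOfLE (inf_le_left : U ⊓ V ≤ U)))]
    [PreservesFiniteLimits (EtCoh.pull (X.homOfLE (inf_le_right : U ⊓ V ≤ V)))] :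
    ∃ δ : ∀ n : ℕ, EtCoh.H ↑(U ⊓ V) ((EtCoh.pull (U ⊓ V).ι).obj F) n →+ EtCoh.H X F (n + 1),
      (AddMonoidHom.prod (EtCore.Hpull U.ι F 0) (EtCore.Hpull V.ι F 0)).ker = ⊥ ∧
      (∀ n : ℕ, (AddMonoidHom.prod (EtCore.Hpull U.ι F (n + 1)) (EtCore.Hpull V.ι F (n + 1))).ker = (δ n).range) ∧
      (∀ n : ℕ, (((EtCore.HpullVia (X.homOfLE (inf_le_left : U ⊓ V ≤ U)) U.ι (U ⊓ V).ι (X.homOfLE_ι inf_le_left) F n)).comp (AddMonoidHom.fst _ _) - ((EtCore.HpullVia (X.homOfLE (inf_le_right : U ⊓ V ≤ V)) V.ι (U ⊓ V).ι (X.homOfLE_ι inf_le_right) F n)).comp (AddMonoidHom.snd _ _)).ker =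
        (AddMonoidHom.prod (EtCore.Hpull U.ι F n) (EtCore.Hpull V.ι F n)).range) ∧
      (∀ n : ℕ, (δ n).ker = (((EtCore.HpullVia (X.homOfLE (inf_le_left : U ⊓ V ≤ U)) U.ι (U ⊓ V).ι (X.homOfLE_ι inf_le_left) F n)).comp (AddMonoidHom.fst _ _) - ((EtCore.HpullVia (X.homOfLE (inf_le_right : U ⊓ V ≤ V)) V.ι (U ⊓ V).ι (X.homOfLE_ι inf_le_right) F n)).comp (AddMonoidHom.snd _ _)).range) := by
  have w₁ : X.homOfLE (inf_le_left : U ⊓ V ≤ U) ≫ U.ι = (U ⊓ V).ι := X.homOfLE_ι _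
  have w₂ : X.homOfLE (inf_le_right : U ⊓ V ≤ V) ≫ V.ι = (U ⊓ V).ι := X.homOfLE_ι _
  let α₁ : TX X ⟶ TD U.ι := HpullHom U.ι
  let α₂ : TX X ⟶ TD V.ι := HpullHom V.ι
  let β₁ : TD U.ι ⟶ TD (U ⊓ V).ι :=
    HpullViaHom (X.homOfLE (inf_le_left : U ⊓ V ≤ U)) U.ι (U ⊓ V).ι w₁
  let β₂ : TD V.ι ⟶ TD (U ⊓ V).ι :=
    HpullViaHom (X.homOfLE (inf_le_right : U ⊓ V ≤ V)) V.ι (U ⊓ V).ι w₂
  have hw : α₁.app 0 ≫ β₁.app 0 = α₂.app 0 ≫ β₂.app 0 := by
    ext G x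
    exact (HpullVia_Hpull_zero _ U.ι _ w₁ G x).trans (HpullVia_Hpull_zero _ V.ι _ w₂ G x).symm
  have h : ∀ (I : EtCoh.Ab X) [Injective I],
      (DerivedMV.sc (α₁.app 0) (α₂.app 0) (β₁.app 0) (β₂.app 0) hw I).ShortExact := by
    intro I _
    refine SheafExact.ab_mv_shortExact _ _ _ _ _ ?_ ?_ ?_
    · intro x h1 h2
      exact mv_c1 U V hUV I x h1 h2
    · intro y₁ y₂ hy
      exact mv_c2 U V hUV I y₁ y₂ hy
    · intro z
      obtain ⟨x, rfl⟩ := mv_surj I (U ⊓ V) z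
      exact ⟨EtCore.Hpull U.ι I 0 x, HpullVia_Hpull_zero _ U.ι _ w₁ I x⟩
  obtain ⟨δ, hm, hex⟩ := DeltaMV.main (TX_isEffaceable X) (TX_zeroMono X)
    (TD_isEffaceable U.ι) (TD_zeroMono U.ι) (TD_isEffaceable V.ι) (TD_zeroMono V.ι)
    (TD_isEffaceable (U ⊓ V).ι) (TD_zeroMono (U ⊓ V).ι) α₁ α₂ β₁ β₂ hw h F
  exact ⟨fun n => (δ n).hom, ker_prod_eq_bot _ _ hm,
    fun n => ker_prod_eq_range _ _ (δ n) (hex n).2.2,
    fun n => ker_diff_eq_range_prod _ _ _ _ (hex n).1,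
    fun n => ker_eq_range_diff _ _ (δ n) (hex n).2.1⟩

end Groth.Agent.S0659
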