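import Groth.Statements.S0660
import Mathlib

set_option autoImplicit false
open CategoryTheory CategoryTheory.Limits AlgebraicGeometry Opposite
universe u
open EtCore

namespace Groth.Agent.S0660

theorem hasOfPostcomp :
    MorphismProperty.HasOfPostcompProperty @IsOpenImmersion EtCoh.etaleMP.{u} := by
  refine (MorphismProperty.hasOfPostcompProperty_iff_le_diagonal (P := @IsOpenImmersion)
    (Q := EtCoh.etaleMP)).mpr ?_
  intro X Y f hf
  have : AlgebraicGeometry.Etale f := hf
  exact inferInstanceAs (IsOpenImmersion (pullback.diagonal f))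

theorem isOpenImmersion_of_section {A B : Scheme.{u}} (s : A ⟶ B) (p : B ⟶ A)
    [AlgebraicGeometry.Etale p] (h : s ≫ p = 𝟙 A) : IsOpenImmersion s := by
  have := hasOfPostcomp.{u}
  exact MorphismProperty.of_postcomp (W := @IsOpenImmersion) (W' := EtCoh.etaleMP) s p ‹_›
    (by rw [h]; infer_instance)

lemma bc_map_fst {Z X : Scheme.{u}} (i : Z ⟶ X) {U V : X.Etale} (a : V ⟶ U) :
    ((EtCoh.bc i).map a).left ≫ pullback.fst U.hom i = pullback.fst V.hom i ≫ a.left := by
  dsimp [EtCoh.bc]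
  exact pullback.lift_fst _ _ _

lemma bc_map_snd {Z X : Scheme.{u}} (i : Z ⟶ X) {U V : X.Etale} (a : V ⟶ U) :
    ((EtCoh.bc i).map a).left ≫ pullback.snd U.hom i = pullback.snd V.hom i := by
  dsimp [EtCoh.bc]
  exact pullback.lift_snd _ _ _

lemma isIso_of_left {Z : Scheme.{u}} {A B : Z.Etale} (f : A ⟶ B) (hf : IsIso f.left) : IsIso f := by
  have h1 : IsIso ((Scheme.Etale.forget Z).map f) := by
    have : IsIso ((Over.forget Z).map ((Scheme.Etale.forget Z).map f)) := hf
    exact isIso_of_reflects_iso _ (Over.forget Z)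
  exact isIso_of_fully_faithful (Scheme.Etale.forget Z) f

set_option backward.isDefEq.respectTransparency.types false in
theorem main {Z X : Scheme.{u}} (i : Z ⟶ X) [IsClosedImmersion i] (U U' : X.Etale)
    (h : (EtCoh.bc i).obj U ⟶ (EtCoh.bc i).obj U') :
    ∃ (W : X.Etale) (a : W ⟶ U) (b : W ⟶ U'), IsIso ((EtCoh.bc i).map a) ∧ (EtCoh.bc i).map a ≫ h = (EtCoh.bc i).map b := by
  classical
  let P := pullback U.hom U'.hom
  let pr₁ : P ⟶ U.left := pullback.fst _ _
  let pr₂ : P ⟶ U'.left := pullback.snd _ _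
  let Phom : P ⟶ X := pr₁ ≫ U.hom
  have hPhom' : pr₂ ≫ U'.hom = Phom := pullback.condition.symm
  let UZ := pullback U.hom i
  obtain ⟨hl, hhl⟩ : ∃ hl : pullback U.hom i ⟶ pullback U'.hom i, hl = h.left := ⟨h.left, rfl⟩
  have hh : hl ≫ pullback.snd U'.hom i = pullback.snd U.hom i := by
    rw [hhl]; exact MorphismProperty.Over.w h
  have e1 : pullback.fst U'.hom i ≫ U'.hom = pullback.snd U'.hom i ≫ i := pullback.condition
  have e2 : pullback.fst U.hom i ≫ U.hom = pullback.snd U.hom i ≫ i := pullback.condition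
  let γ : UZ ⟶ P := pullback.lift (pullback.fst U.hom i) (hl ≫ pullback.fst U'.hom i) (by
    rw [Category.assoc, e1, ← Category.assoc, hh, e2])
  have hγ1 : γ ≫ pr₁ = pullback.fst U.hom i := pullback.lift_fst _ _ _
  have hγ2 : γ ≫ pr₂ = hl ≫ pullback.fst U'.hom i := pullback.lift_snd _ _ _
  let PZ := pullback Phom i
  have hγP : γ ≫ Phom = pullback.snd U.hom i ≫ i := by
    change γ ≫ pr₁ ≫ U.hom = _
    rw [← Category.assoc, hγ1, e2]
  let γZ : UZ ⟶ PZ := pullback.lift γ (pullback.snd U.hom i) hγP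
  have hγZ1 : γZ ≫ pullback.fst Phom i = γ := pullback.lift_fst _ _ _
  have hγZ2 : γZ ≫ pullback.snd Phom i = pullback.snd U.hom i := pullback.lift_snd _ _ _
  let q : PZ ⟶ UZ := pullback.lift (pullback.fst Phom i ≫ pr₁) (pullback.snd Phom i) (by
    rw [Category.assoc]; exact pullback.condition)
  have hq1 : q ≫ pullback.fst U.hom i = pullback.fst Phom i ≫ pr₁ := pullback.lift_fst _ _ _
  have hq2 : q ≫ pullback.snd U.hom i = pullback.snd Phom i := pullback.lift_snd _ _ _
  have hγq : γZ ≫ q = 𝟙 UZ := by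
    apply pullback.hom_ext
    · simp only [Category.assoc, hq1, reassoc_of% hγZ1, hγ1, Category.id_comp]
    · simp only [Category.assoc, hq2, hγZ2, Category.id_comp]
  have hPet : AlgebraicGeometry.Etale Phom := inferInstance
  have hqet : AlgebraicGeometry.Etale q := by
    have h1 : AlgebraicGeometry.Etale (q ≫ pullback.snd U.hom i) := by rw [hq2]; infer_instance
    exact AlgebraicGeometry.Etale.of_comp q (pullback.snd U.hom i)
  have hγZopen : IsOpenImmersion γZ := isOpenImmersion_of_section γZ q hγq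
  have hfstcl : IsClosedImmersion (pullback.fst Phom i) := inferInstance
  let C : Set P := (pullback.fst Phom i).base '' (Set.range γZ.base)ᶜ
  have hC : IsClosed C :=
    (pullback.fst Phom i).isClosedEmbedding.isClosedMap _ γZ.isOpenEmbedding.isOpen_range.isClosed_compl
  let W : P.Opens := ⟨Cᶜ, hC.isOpen_compl⟩
  let Wet : X.Etale := Scheme.Etale.mk (W.ι ≫ Phom)
  let a : Wet ⟶ U := MorphismProperty.Over.homMk (W.ι ≫ pr₁) (Category.assoc _ _ _) trivial
  let b : Wet ⟶ U' := MorphismProperty.Over.homMk (W.ι ≫ pr₂)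
    (by rw [Category.assoc, hPhom']; rfl) trivial
  let WZ := pullback (W.ι ≫ Phom) i
  let ω : WZ ⟶ PZ := pullback.lift (pullback.fst (W.ι ≫ Phom) i ≫ W.ι) (pullback.snd (W.ι ≫ Phom) i)
    (by rw [Category.assoc]; exact pullback.condition)
  have hω1 : ω ≫ pullback.fst Phom i = pullback.fst (W.ι ≫ Phom) i ≫ W.ι := pullback.lift_fst _ _ _
  have hω2 : ω ≫ pullback.snd Phom i = pullback.snd (W.ι ≫ Phom) i := pullback.lift_snd _ _ _
  have key : Set.range ω.base ⊆ Set.range γZ.base := by
    rintro _ ⟨z, rfl⟩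
    by_contra hne
    have hmemC : (pullback.fst Phom i).base (ω.base z) ∈ C := ⟨_, hne, rfl⟩
    have h1 : (pullback.fst Phom i).base (ω.base z) =
        W.ι.base ((pullback.fst (W.ι ≫ Phom) i).base z) := by
      have := congrArg (fun φ => φ.base z) hω1
      exact this
    rw [h1] at hmemC
    exact ((pullback.fst (W.ι ≫ Phom) i).base z).2 hmemC
  let ω' : WZ ⟶ UZ := IsOpenImmersion.lift γZ ω key
  have hω' : ω' ≫ γZ = ω := IsOpenImmersion.lift_fac _ _ _
  have hωq : ω ≫ q ≫ γZ = ω := by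
    rw [← hω', Category.assoc, reassoc_of% hγq]
  -- the left components of bc(a), bc(b)
  obtain ⟨α, hαdef⟩ : ∃ α : WZ ⟶ UZ, α = ((EtCoh.bc i).map a).left := ⟨_, rfl⟩
  have hα1 : α ≫ pullback.fst U.hom i = pullback.fst (W.ι ≫ Phom) i ≫ W.ι ≫ pr₁ := by
    rw [hαdef]; exact bc_map_fst i a
  have hα2 : α ≫ pullback.snd U.hom i = pullback.snd (W.ι ≫ Phom) i := by
    rw [hαdef]; exact bc_map_snd i a
  obtain ⟨β, hβdef⟩ : ∃ β : WZ ⟶ pullback U'.hom i, β = ((EtCoh.bc i).map b).left := ⟨_, rfl⟩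
  have hβ1 : β ≫ pullback.fst U'.hom i = pullback.fst (W.ι ≫ Phom) i ≫ W.ι ≫ pr₂ := by
    rw [hβdef]; exact bc_map_fst i b
  have hβ2 : β ≫ pullback.snd U'.hom i = pullback.snd (W.ι ≫ Phom) i := by
    rw [hβdef]; exact bc_map_snd i b
  have hα : α = ω ≫ q := by
    apply pullback.hom_ext
    · simp only [Category.assoc, hα1, hq1, reassoc_of% hω1]
    · simp only [Category.assoc, hα2, hq2, hω2]
  -- range of γ inside W
  have hγW : Set.range γ.base ⊆ Set.range W.ι.base := by
    rw [Scheme.Opens.range_ι]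
    rintro _ ⟨u, rfl⟩
    rintro ⟨p, hp, hpe⟩
    apply hp
    have h1 : γ.base u = (pullback.fst Phom i).base (γZ.base u) := by
      have := congrArg (fun φ => φ.base u) hγZ1
      exact this.symm
    rw [h1] at hpe
    have := (pullback.fst Phom i).isClosedEmbedding.injective hpe
    exact ⟨u, this.symm⟩
  let γW : UZ ⟶ W.toScheme := IsOpenImmersion.lift W.ι γ hγW
  have hγWfac : γW ≫ W.ι = γ := IsOpenImmersion.lift_fac _ _ _
  let σ : UZ ⟶ WZ := pullback.lift γW (pullback.snd U.hom i) (by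
    rw [reassoc_of% hγWfac, hγP])
  have hσ1 : σ ≫ pullback.fst (W.ι ≫ Phom) i = γW := pullback.lift_fst _ _ _
  have hσ2 : σ ≫ pullback.snd (W.ι ≫ Phom) i = pullback.snd U.hom i := pullback.lift_snd _ _ _
  have hσω : σ ≫ ω = γZ := by
    apply pullback.hom_ext
    · simp only [Category.assoc, hω1, reassoc_of% hσ1, hγWfac, hγZ1]
    · simp only [Category.assoc, hω2, hσ2, hγZ2]
  have hiso : IsIso α := by
    refine ⟨σ, ?_, ?_⟩
    · rw [hα]
      apply pullback.hom_ext
      · apply (cancel_mono W.ι).mp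
        simp only [Category.assoc, hσ1, Category.id_comp, hγWfac]
        rw [← hγZ1, reassoc_of% hωq, hω1]
      · simp only [Category.assoc, hσ2, Category.id_comp, hq2, hω2]
    · rw [hα, reassoc_of% hσω, hγq]
  have hfinal : α ≫ hl = β := by
    apply pullback.hom_ext
    · rw [Category.assoc, ← hγ2, hβ1, hα, ← hγZ1]
      simp only [Category.assoc]
      rw [reassoc_of% hωq, reassoc_of% hω1]
    · rw [Category.assoc, hh, hα2, hβ2]
  subst hαdef hβdef hhl
  refine ⟨Wet, a, b, isIso_of_left _ hiso, ?_⟩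
  apply MorphismProperty.Over.Hom.ext
  exact hfinal


/-- Let i : Z -> X be a closed immersion, U and U' schemes etale over X, and h a Z-morphism from U x_X Z
to U' x_X Z. Then there are an etale X-scheme W and X-morphisms a : W -> U, b : W -> U' such that
the base change of a to Z is an isomorphism and h is the base change of b composed with the inverse
of the base change of a. -/
theorem result {Z X : Scheme.{u}} (i : Z ⟶ X) [IsClosedImmersion i] (U U' : X.Etale)
    (h : (EtCoh.bc i).obj U ⟶ (EtCoh.bc i).obj U') :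
    ∃ (W : X.Etale) (a : W ⟶ U) (b : W ⟶ U'), IsIso ((EtCoh.bc i).map a) ∧ (EtCoh.bc i).map a ≫ h = (EtCoh.bc i).map b := by
  exact main i U U' h

end Groth.Agent.S0660
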