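import Groth.Statements.S0666
import Groth.Agent.Lib.Helper22.CechU.Delta
import Groth.Agent.S0665
import Groth.Agent.S16463
import Groth.Agent.S16465

set_option autoImplicit false
open CategoryTheory CategoryTheory.Limits Opposite
universe w v
open EtCore

namespace Groth.Agent.S0666

/-- With C, U and the family (U_i -> U) as in the definition of the Cech complex, on the abelian
category of abelian presheaves on C the p-th Cech cohomology functor is isomorphic to the p-th right
derived functor of the zeroth Cech cohomology functor (assuming, as binders, that the latter is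
additive and that abelian presheaves have injective resolutions, which hold because C is taken
essentially small relative to the coefficient universe). -/
theorem result {C : Type w} [Category.{v} C] [EssentiallySmall.{w} C] {U : C} [HasFiniteProducts (Over U)]
    {ι : Type w} (Uf : ι → Over U) [(EtCech.cechHFunctor (C := C) Uf 0).Additive]
    [HasInjectiveResolutions (Cᵒᵖ ⥤ AddCommGrpCat.{w})] (p : ℕ) :
    Nonempty (EtCech.cechHFunctor (C := C) Uf p ≅ (EtCech.cechHFunctor (C := C) Uf 0).rightDerived p) := by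
  classical
  have hmono : ∀ P : Cᵒᵖ ⥤ AddCommGrpCat.{w}, Mono ((injectiveResolution P).ι.f 0) := by
    intro P
    let I := injectiveResolution P
    have hm : Mono (I.ι.f 0) := inferInstance
    exact hm
  have hEI : EnoughInjectives (Cᵒᵖ ⥤ AddCommGrpCat.{w}) :=
    ⟨fun P => ⟨⟨(injectiveResolution P).cocomplex.X 0, inferInstance,
      (injectiveResolution P).ι.f 0, hmono P⟩⟩⟩
  let F₀ := EtCech.cechHFunctor (C := C) Uf 0
  obtain ⟨Δ⟩ := Groth.Agent.S16463.result F₀
  have hR : Δ.toCohDeltaFunctor.IsUniversal := Groth.Agent.S16465.result F₀ Δ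
  let TC := Groth.Agent.Lib.Helper22.CechU.cechDelta Uf
  have hEff : TC.IsEffaceable := by
    intro n P
    refine ⟨(injectiveResolution P).cocomplex.X 0, (injectiveResolution P).ι.f 0,
      hmono P, ?_⟩
    have hz : IsZero (EtCech.cechH Uf ((injectiveResolution P).cocomplex.X 0) (n + 1)) :=
      Groth.Agent.S0665.result Uf _ n
    exact hz.eq_of_tgt _ _
  have hC : TC.IsUniversal := Groth.Agent.Lib.Helper25.DeltaFEff.isUniversal hEff
  have hL : PreservesFiniteLimits F₀ := by
    refine ((Functor.preservesFiniteLimits_tfae F₀).out 0 3).1 ?_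
    intro S hS
    exact ⟨TC.exact₂ S hS 0, Groth.Agent.Lib.Helper22.CechU.mono_cechH_zero_map Uf S hS⟩
  let e0 : F₀.rightDerived 0 ≅ F₀ := F₀.rightDerivedZeroIsoSelf
  obtain ⟨τ, hτ, -⟩ := hC Δ.toCohDeltaFunctor e0.inv
  obtain ⟨σ, hσ, -⟩ := hR TC e0.hom
  have h1 : τ ≫ σ = 𝟙 TC := by
    refine (hC TC (𝟙 _)).unique ?_ rfl
    rw [DeltaF.CohDeltaFunctor.comp_app, hτ, hσ]
    exact e0.inv_hom_id
  have h2 : σ ≫ τ = 𝟙 Δ.toCohDeltaFunctor := by
    refine (hR Δ.toCohDeltaFunctor (𝟙 _)).unique ?_ rfl
    rw [DeltaF.CohDeltaFunctor.comp_app, hτ, hσ]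
    exact e0.hom_inv_id
  refine ⟨⟨τ.app p, σ.app p, ?_, ?_⟩⟩
  · have := congrArg (fun φ : TC ⟶ TC => φ.app p) h1
    exact this
  · have := congrArg (fun φ : Δ.toCohDeltaFunctor ⟶ Δ.toCohDeltaFunctor => φ.app p) h2
    exact this

end Groth.Agent.S0666
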