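import Groth.Statements.S0667
import Groth.Agent.S0665
import Groth.Agent.Lib.Helper22.CechU.Transfer

set_option autoImplicit false
open CategoryTheory CategoryTheory.Limits AlgebraicGeometry Opposite
universe u
open EtCore

namespace Groth.Agent.S0667

/-- Let f : X -> Y be a morphism of schemes, I an injective abelian sheaf on the small etale site of X,
V an etale Y-scheme and (V_j -> V) an etale covering of V, i.e. a jointly surjective family of
morphisms of etale Y-schemes (finite products in the over category, i.e. fibre products over V,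
assumed as a binder). Then the Cech cohomology of the presheaf underlying f_* I with respect to this
covering vanishes in positive degrees. -/
theorem result {X Y : Scheme.{u}} (f : X ⟶ Y) (I : EtCoh.Ab X) [Injective I]
    (V : Y.Etale) [HasFiniteProducts (Over V)] {κ : Type (u + 1)} (Vf : κ → Over V)
    (hV : ∀ v : V.left, ∃ (j : κ) (y : (Vf j).left.left), (Vf j).hom.left.base y = v) (p : ℕ) :
    IsZero (EtCech.cechH Vf ((EtCoh.push f).obj I).obj (p + 1)) := by
  have hI : Injective I.obj :=
    Injective.injective_of_adjoint
      (sheafificationAdjunction X.smallEtaleTopology AddCommGrpCat.{u + 1}) I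
  let G : Over V ⥤ Over ((EtCoh.bc f).obj V) := Over.post (EtCoh.bc f)
  have hG : PreservesFiniteProducts G := inferInstance
  have h := Groth.Agent.S0665.result (Groth.Agent.Lib.Helper22.CechU.GU G Vf) I.obj p
  let Q : (Over ((EtCoh.bc f).obj V))ᵒᵖ ⥤ AddCommGrpCat.{u + 1} :=
    (Over.forget ((EtCoh.bc f).obj V)).op ⋙ I.obj
  let α : G.op ⋙ Q ≅ (Over.forget V).op ⋙ ((EtCoh.push f).obj I).obj :=
    NatIso.ofComponents (fun _ => Iso.refl _) (by
      intro A B g
      exact (Category.comp_id _).trans (Category.id_comp _).symm)
  let β : Groth.Agent.Lib.Helper22.CechU.CK (Groth.Agent.Lib.Helper22.CechU.GU G Vf) Q ≅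
      EtCech.cechComplex Vf ((EtCoh.push f).obj I).obj :=
    Groth.Agent.Lib.Helper22.CechU.transferIso G Vf Q ≪≫ (cechComplexFunctor Vf).mapIso α
  exact h.of_iso ((HomologicalComplex.homologyFunctor _ _ (p + 1)).mapIso β).symm

end Groth.Agent.S0667
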