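import Groth.Statements.S0671
import Groth.Agent.Lib.Helper22.EtStalk.Conservative

set_option autoImplicit false
open CategoryTheory CategoryTheory.Limits AlgebraicGeometry Opposite
universe u
open EtCore

namespace Groth.Agent.S0671

open Groth.Agent.Lib.Helper22.EtStalk Groth.Agent.Lib.Helper22.CechU.Etale

theorem isClosed_sectSupp {S : Scheme.{u}} (F : EtCoh.Ab S) (U : S.Etale) (σ : EtCoh.sect F U) :
    IsClosed (EtShriek.sectSupp F U σ) := by
  rw [← isOpen_compl_iff]
  have h : (EtShriek.sectSupp F U σ)ᶜ = ⋃ (W : S.Etale) (g : W ⟶ U) (_ : F.obj.map g.op σ = 0),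
      Set.range g.left.base := by
    ext x
    simp only [EtShriek.sectSupp, Set.mem_compl_iff, Set.mem_ofPred_eq, not_forall, not_not,
      Set.mem_iUnion, Set.mem_range, exists_prop]
    constructor
    · rintro ⟨W, g, hw, h0⟩
      exact ⟨W, g, h0, hw⟩
    · rintro ⟨W, g, h0, hw⟩
      exact ⟨W, g, hw, h0⟩
  rw [h]
  refine isOpen_iUnion fun W => isOpen_iUnion fun g => isOpen_iUnion fun _ => ?_
  have : Etale g.left := by
    have h1 : Etale (W.hom : W.left ⟶ S) := W.prop
    have h2 : Etale (U.hom : U.left ⟶ S) := U.prop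
    have h3 : g.left ≫ (U.hom : U.left ⟶ S) = W.hom := Over.w g.hom
    have h4 : Etale (g.left ≫ (U.hom : U.left ⟶ S)) := h3 ▸ h1
    exact Etale.of_comp g.left (U.hom : U.left ⟶ S)
  exact g.left.isOpenMap.isOpen_range

/-- For an abelian sheaf F on the small etale site of S and a section σ over an etale S-scheme U, the
support of σ is a closed subset of U; and a point of S has a nonzero geometric stalk exactly when it
is the image of a point lying in the support of some section over some etale S-scheme. -/
theorem result {S : Scheme.{u}} (F : EtCoh.Ab S) :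
    (∀ (U : S.Etale) (σ : EtCoh.sect F U), IsClosed (EtShriek.sectSupp F U σ)) ∧
    EtPBC.supp F = ⋃ (U : S.Etale) (σ : EtCoh.sect F U), U.hom.base '' EtShriek.sectSupp F U σ := by
  refine ⟨isClosed_sectSupp F, ?_⟩
  ext x
  simp only [EtPBC.supp, Set.mem_ofPred_eq, Set.mem_iUnion, Set.mem_image]
  constructor
  · rintro ⟨Ω, _, _, ξ, hξ, hnz⟩
    have hne : ∃ t : ToType ((EtCoh.stalk ξ).obj F), t ≠ 0 := by
      by_contra hcon
      push Not at hcon
      apply hnz
      rw [AddCommGrpCat.isZero_iff_subsingleton]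
      exact ⟨fun a b => (hcon a).trans (hcon b).symm⟩
    obtain ⟨t, ht⟩ := hne
    obtain ⟨V, y, s, rfl⟩ := (Scheme.pointSmallEtale ξ).toPresheafFiber_jointly_surjective
      (P := F.obj) t
    have hVy : y.left ≫ (V.hom : V.left ⟶ S) = ξ := Over.w y
    refine ⟨V, s, y.left (default : Spec (CommRingCat.of Ω)), ?_, ?_⟩
    · intro W g ⟨w, hw⟩ h0
      have hEt : Etale g.left := by
        have h1 : Etale (W.hom : W.left ⟶ S) := W.prop
        have h2 : Etale (V.hom : V.left ⟶ S) := V.prop
        have h3 : g.left ≫ (V.hom : V.left ⟶ S) = W.hom := Over.w g.hom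
        have h4 : Etale (g.left ≫ (V.hom : V.left ⟶ S)) := h3 ▸ h1
        exact Etale.of_comp g.left (V.hom : V.left ⟶ S)
      obtain ⟨l, hl, -⟩ := Scheme.exists_fac_of_etale_of_isSepClosed g.left y.left w hw
      have hlW : l ≫ (W.hom : W.left ⟶ S) = ξ := by
        have h3 : g.left ≫ (V.hom : V.left ⟶ S) = W.hom := Over.w g.hom
        rw [← h3, ← Category.assoc, hl]
        exact hVy
      let y' : (Scheme.pointSmallEtale ξ).fiber.obj W := Over.homMk l hlW
      have hy' : (Scheme.pointSmallEtale ξ).fiber.map g y' = y := by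
        apply Over.OverMorphism.ext
        exact hl
      have e1 := germ_map ξ F g y' s
      rw [hy', h0, map_zero] at e1
      exact ht e1.symm
    · have : (V.hom : V.left ⟶ S) (y.left (default : Spec (CommRingCat.of Ω))) =
          ξ (default : Spec (CommRingCat.of Ω)) := by
        have := congrArg (fun f : Spec (CommRingCat.of Ω) ⟶ S =>
          f (default : Spec (CommRingCat.of Ω))) hVy
        simp only [Scheme.Hom.comp_apply] at this
        exact this
      refine this.trans ?_
      have h1 : ξ (default : Spec (CommRingCat.of Ω)) ∈ Set.range ξ := ⟨_, rfl⟩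
      rw [hξ] at h1
      exact h1
  · rintro ⟨U, σ, u, hu, rfl⟩
    obtain ⟨Ω, i1, i2, ξ, y, hy⟩ := exists_geomPoint U u
    have hUy : y.left ≫ (U.hom : U.left ⟶ S) = ξ := Over.w y
    have hξu : ξ (default : Spec (CommRingCat.of Ω)) = (U.hom : U.left ⟶ S) u := by
      have := congrArg (fun f : Spec (CommRingCat.of Ω) ⟶ S =>
        f (default : Spec (CommRingCat.of Ω))) hUy
      simp only [Scheme.Hom.comp_apply] at this
      exact this.symm.trans (congrArg (fun p => (U.hom : U.left ⟶ S) p) hy)
    refine ⟨Ω, i1, i2, ξ, ?_, ?_⟩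
    · ext z
      simp only [Set.mem_range, Set.mem_singleton_iff]
      constructor
      · rintro ⟨p, rfl⟩
        rw [Subsingleton.elim p (default : Spec (CommRingCat.of Ω))]
        exact hξu
      · intro hz
        exact ⟨(default : Spec (CommRingCat.of Ω)), hξu.trans hz.symm⟩
    · intro hz
      have h0 : germ ξ F U y σ = germ ξ F U y 0 := by
        rw [map_zero]
        exact (AddCommGrpCat.isZero_iff_subsingleton.1 hz).elim _ _
      obtain ⟨V, f, v, hv, hf⟩ := ((Scheme.pointSmallEtale ξ).toPresheafFiber_eq_iff' U y σ 0).1 h0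
      refine hu V f ⟨v.left (default : Spec (CommRingCat.of Ω)), ?_⟩ (by rw [hf, map_zero])
      rw [← hy, ← hv]
      rfl

end Groth.Agent.S0671
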