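import Groth.Statements.S0676
import Mathlib
import Groth.Agent.Lib.Helper4.ProdEtale
import Groth.Agent.Lib.Helper4.HenselPairLE

set_option autoImplicit false
open CategoryTheory CategoryTheory.Limits AlgebraicGeometry Opposite Topology
universe u
open ProEtW

namespace Groth.Agent.S0676

set_option synthInstance.maxHeartbeats 400000 in
set_option maxHeartbeats 2000000 in
open TensorProduct in
/-- If every faithfully flat etale A-algebra has an A-algebra retraction, then the same holds for the
quotient ring A/I for every ideal I. -/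
theorem result (A : Type u) [CommRing A]
    (h : ProEtW.HasEtaleRetractions A) (I : Ideal A) :
    ProEtW.HasEtaleRetractions (A ⧸ I) := by
  classical
  intro C _ _ hff het
  let _ : Algebra A C := ((algebraMap (A ⧸ I) C).comp (algebraMap A (A ⧸ I))).toAlgebra
  have htow : IsScalarTower A (A ⧸ I) C := IsScalarTower.of_algebraMap_eq (fun _ => rfl)
  obtain ⟨B', _, _, hB'et, ψ, hψsurj, hψker⟩ :=
    Groth.Agent.Lib.Helper4.HenselPair.exists_etale_lift I C
  -- open image
  have hopen : IsOpen (Set.range (PrimeSpectrum.comap (algebraMap A B'))) :=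
    (PrimeSpectrum.isOpenMap_comap_of_hasGoingDown_of_finitePresentation
      (R := A) (S := B')).isOpen_range
  have hVI : PrimeSpectrum.zeroLocus (I : Set A) ⊆
      Set.range (PrimeSpectrum.comap (algebraMap A B')) := by
    intro p hp
    have hIp : I ≤ p.asIdeal := hp
    -- prime of A/I
    have hpq : (p.asIdeal.map (Ideal.Quotient.mk I)).IsPrime :=
      Ideal.map_isPrime_of_surjective Ideal.Quotient.mk_surjective (by rwa [Ideal.mk_ker])
    obtain ⟨q, hq⟩ := PrimeSpectrum.comap_surjective_of_faithfullyFlat (A := A ⧸ I) (B := C)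
      ⟨_, hpq⟩
    refine ⟨PrimeSpectrum.comap ψ.toRingHom q, ?_⟩
    apply PrimeSpectrum.ext
    have hq' : q.asIdeal.comap (algebraMap (A ⧸ I) C) = p.asIdeal.map (Ideal.Quotient.mk I) :=
      congrArg PrimeSpectrum.asIdeal hq
    change (q.asIdeal.comap ψ.toRingHom).comap (algebraMap A B') = p.asIdeal
    rw [Ideal.comap_comap]
    have hcomp : ψ.toRingHom.comp (algebraMap A B') =
        (algebraMap (A ⧸ I) C).comp (Ideal.Quotient.mk I) := by
      ext a
      exact ψ.commutes a
    rw [hcomp, ← Ideal.comap_comap, hq',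
      Ideal.comap_map_of_surjective _ Ideal.Quotient.mk_surjective]
    rw [← RingHom.ker_eq_comap_bot, Ideal.mk_ker]
    exact sup_eq_left.mpr hIp
  obtain ⟨J, hJ⟩ := (PrimeSpectrum.isClosed_iff_zeroLocus_ideal _).mp hopen.isClosed_compl
  have hIJ : I ⊔ J = ⊤ := by
    rw [← PrimeSpectrum.zeroLocus_empty_iff_eq_top, PrimeSpectrum.zeroLocus_sup, ← hJ]
    rw [Set.eq_empty_iff_forall_notMem]
    rintro p ⟨hp1, hp2⟩
    exact hp2 (hVI hp1)
  obtain ⟨i, hi, j, hj, hij⟩ := Submodule.mem_sup.mp ((Ideal.eq_top_iff_one _).mp hIJ)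
  -- the faithfully flat etale algebra
  have het'' : Algebra.Etale A (B' × Localization.Away i) :=
    Groth.Agent.Lib.Helper4.ProdEtale.etale_prod A B' (Localization.Away i)
  have hff'' : Module.FaithfullyFlat A (B' × Localization.Away i) := by
    apply Module.FaithfullyFlat.of_comap_surjective
    intro p
    by_cases hp : p ∈ Set.range (PrimeSpectrum.comap (algebraMap A B'))
    · obtain ⟨q, rfl⟩ := hp
      refine ⟨PrimeSpectrum.comap (RingHom.fst B' (Localization.Away i)) q, ?_⟩
      apply PrimeSpectrum.ext
      change ((q.asIdeal.comap (RingHom.fst B' (Localization.Away i))).comap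
        (algebraMap A (B' × Localization.Away i))) = q.asIdeal.comap (algebraMap A B')
      rw [Ideal.comap_comap]
      rfl
    · have hpJ : p ∈ PrimeSpectrum.zeroLocus (J : Set A) := by
        rw [← hJ]
        exact hp
      have hjp : j ∈ p.asIdeal := hpJ hj
      have hip : i ∉ p.asIdeal := by
        intro hip
        apply p.2.ne_top
        rw [Ideal.eq_top_iff_one, ← hij]
        exact p.asIdeal.add_mem hip hjp
      have hdisj : Disjoint (Submonoid.powers i : Set A) (p.asIdeal : Set A) := by
        rw [Set.disjoint_left]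
        rintro _ ⟨n, rfl⟩ hn
        exact hip (p.2.mem_of_pow_mem n hn)
      have hp' : (p.asIdeal.map (algebraMap A (Localization.Away i))).IsPrime :=
        IsLocalization.isPrime_of_isPrime_disjoint (Submonoid.powers i) _ p.asIdeal p.2 hdisj
      refine ⟨PrimeSpectrum.comap (RingHom.snd B' (Localization.Away i)) ⟨_, hp'⟩, ?_⟩
      apply PrimeSpectrum.ext
      change (((p.asIdeal.map (algebraMap A (Localization.Away i))).comap
        (RingHom.snd B' (Localization.Away i))).comap
        (algebraMap A (B' × Localization.Away i))) = p.asIdeal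
      rw [Ideal.comap_comap]
      exact IsLocalization.under_map_of_isPrime_disjoint (Submonoid.powers i) _ p.2 hdisj
  obtain ⟨ρ⟩ := h (B' × Localization.Away i) hff'' het''
  -- the surjection onto `C`
  let Φ : B' × Localization.Away i →ₐ[A] C := ψ.comp (AlgHom.fst A B' (Localization.Away i))
  have hΦsurj : Function.Surjective Φ.toRingHom := by
    intro c
    obtain ⟨b, rfl⟩ := hψsurj c
    exact ⟨(b, 0), rfl⟩
  let ρ' : B' × Localization.Away i →+* A ⧸ I := (Ideal.Quotient.mk I).comp ρ.toRingHom
  have hρsmul : ∀ (a : A) (y : B' × Localization.Away i), a ∈ I → ρ' (a • y) = 0 := by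
    intro a y ha
    change Ideal.Quotient.mk I (ρ (a • y)) = 0
    rw [map_smul, smul_eq_mul, Ideal.Quotient.eq_zero_iff_mem]
    exact I.mul_mem_right _ ha
  have hker : RingHom.ker Φ.toRingHom ≤ RingHom.ker ρ' := by
    rintro ⟨b, x⟩ hbx
    rw [RingHom.mem_ker] at hbx ⊢
    have hb : b ∈ I.map (algebraMap A B') := by
      rw [← hψker]
      exact hbx
    have hsplit : ((b, x) : B' × Localization.Away i) = (b, 0) + (0, x) := by simp
    rw [hsplit, map_add]
    have h2 : ρ' ((0, x) : B' × Localization.Away i) = 0 := by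
      obtain ⟨y, hy⟩ : ∃ y : Localization.Away i, x = algebraMap A (Localization.Away i) i * y := by
        obtain ⟨u, hu⟩ := IsLocalization.Away.algebraMap_isUnit (S := Localization.Away i) i
        refine ⟨(↑u⁻¹ : Localization.Away i) * x, ?_⟩
        rw [← hu, ← mul_assoc, Units.mul_inv, one_mul]
      have : ((0, x) : B' × Localization.Away i) = i • ((0, y) : B' × Localization.Away i) := by
        rw [Prod.smul_mk, smul_zero, Algebra.smul_def, hy]
      rw [this]
      exact hρsmul i _ hi
    have h1 : ρ' ((b, 0) : B' × Localization.Away i) = 0 := by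
      have hb' : b ∈ (I • ⊤ : Submodule A B') := by
        rw [Ideal.smul_top_eq_map]
        exact hb
      refine Submodule.smul_induction_on hb' ?_ ?_
      · intro a ha b' _
        have : ((a • b', 0) : B' × Localization.Away i) =
            a • ((b', 0) : B' × Localization.Away i) := by
          rw [Prod.smul_mk, smul_zero]
        rw [this]
        exact hρsmul a _ ha
      · intro x y hx hy
        have : ((x + y, 0) : B' × Localization.Away i) = (x, 0) + (y, 0) := by simp
        rw [this, map_add, hx, hy, add_zero]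
    rw [h1, h2, add_zero]
  let χ : C →+* A ⧸ I := RingHom.liftOfSurjective Φ.toRingHom hΦsurj ⟨ρ', hker⟩
  have hχ : ∀ y, χ (Φ y) = ρ' y := fun y =>
    RingHom.liftOfSurjective_comp_apply Φ.toRingHom hΦsurj ⟨ρ', hker⟩ y
  refine ⟨{ toRingHom := χ, commutes' := ?_ }⟩
  intro r
  obtain ⟨a, rfl⟩ := Ideal.Quotient.mk_surjective r
  have h1 : algebraMap (A ⧸ I) C (Ideal.Quotient.mk I a) =
      Φ (algebraMap A (B' × Localization.Away i) a) := by
    rw [AlgHom.commutes]
    rfl
  change χ (algebraMap (A ⧸ I) C (Ideal.Quotient.mk I a)) = _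
  rw [h1, hχ]
  change Ideal.Quotient.mk I (ρ (algebraMap A (B' × Localization.Away i) a)) = _
  rw [AlgHom.commutes]
  rfl

end Groth.Agent.S0676
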