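import Groth.Statements.S0695
import Mathlib
import Groth.Agent.Lib.Helper4.LocSec14

set_option autoImplicit false
open CategoryTheory CategoryTheory.Limits AlgebraicGeometry Opposite Topology
universe u
open ProEtW

namespace Groth.Agent.S0695

set_option synthInstance.maxHeartbeats 400000 in
set_option maxHeartbeats 2000000 in
open Groth.Agent.Lib.Helper4 in
/-- For every ring A there is a faithfully flat ind-Zariski A-algebra A_w with w-local spectrum such
that for every A-algebra B whose spectrum is w-local there is exactly one A-algebra map A_w -> B for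
which Spec B -> Spec A_w is w-local. -/
theorem result (A : Type u) [CommRing A] :
    ∃ (Aw : Type u) (_ : CommRing Aw) (_ : Algebra A Aw),
      Module.FaithfullyFlat A Aw ∧ EtPBC.IsIndZariski A Aw ∧ ProEtW.IsWLocal (PrimeSpectrum Aw) ∧
      ∀ (B : Type u) [CommRing B] [Algebra A B], ProEtW.IsWLocal (PrimeSpectrum B) →
        ∃! φ : Aw →ₐ[A] B, ProEtW.IsWLocalMap (PrimeSpectrum.comap φ.toRingHom) := by
  let P : ConsTop.Cons A → PrimeSpectrum A := ConsTop.toSpec
  have hP : ∀ a : A, IsClopen {t | a ∈ (P t).asIdeal} := ConsTop.isClopen_zeroLocus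
  refine ⟨LocSec.Sec (LocSec.Sp P), inferInstance, inferInstance,
    LocSec.faithfullyFlat_sec P hP ConsTop.toSpec_bijective.2, LocSec.isIndZariski_sec_sp P hP,
    LocSec.isWLocal_sec P hP, ?_⟩
  intro B _ _ hB
  obtain ⟨c1, c2, c3⟩ := LocSec.profinite_closedPoints hB
  have := c1
  have := c2
  have := c3
  obtain ⟨φ, hφ⟩ := LocSec.exists_wLocal_algHom (A := A) hB
  refine ⟨φ, hφ, ?_⟩
  intro φ' hφ'
  exact LocSec.algHom_ext_of_wLocal P hP ConsTop.toSpec_bijective.1 φ' φ hφ'.2 hφ.2

end Groth.Agent.S0695
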