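import Groth.Statements.S0696
import Mathlib
import Groth.Agent.Lib.Helper4.LocSec6
import Groth.Agent.Lib.Helper4.ConsTop

set_option autoImplicit false
open CategoryTheory CategoryTheory.Limits AlgebraicGeometry Opposite Topology
universe u
open ProEtW

namespace Groth.Agent.S0696

set_option synthInstance.maxHeartbeats 400000 in
set_option maxHeartbeats 2000000 in
open Groth.Agent.Lib.Helper4 in
/-- Every ring A admits a faithfully flat ind-Zariski extension B whose spectrum is w-local with
extremally disconnected space of connected components. -/
theorem result (A : Type u) [CommRing A] :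
    ∃ (B : Type u) (_ : CommRing B) (_ : Algebra A B),
      Module.FaithfullyFlat A B ∧ EtPBC.IsIndZariski A B ∧ ProEtW.IsWLocal (PrimeSpectrum B) ∧
        ExtremallyDisconnected (_root_.ConnectedComponents (PrimeSpectrum B)) := by
  let X : CompHaus.{u} := CompHaus.of (ConsTop.Cons A)
  let T' : Stonean.{u} := X.presentation
  let π := CompHaus.presentation.π X
  have hπ : Function.Surjective π := (CompHaus.epi_iff_surjective _).mp inferInstance
  have hc : Continuous π := π.hom.hom.continuous
  let P : T' → PrimeSpectrum A := fun t => ConsTop.toSpec (π t)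
  have hP : ∀ a : A, IsClopen {t | a ∈ (P t).asIdeal} := fun a =>
    (ConsTop.isClopen_zeroLocus a).preimage hc
  have hPsurj : Function.Surjective P := ConsTop.toSpec_bijective.2.comp hπ
  refine ⟨LocSec.Sec (LocSec.Sp P), inferInstance, inferInstance,
    LocSec.faithfullyFlat_sec P hP hPsurj, LocSec.isIndZariski_sec_sp P hP,
    LocSec.isWLocal_sec P hP, ?_⟩
  obtain ⟨e, -⟩ := LocSec.exists_connHomeo P hP
  refine ⟨fun U hU => ?_⟩
  have h1 : IsOpen (e '' U) := e.isOpenMap U hU
  have h2 := ExtremallyDisconnected.open_closure (e '' U) h1
  rw [← e.image_closure] at h2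
  have h3 := h2.preimage e.continuous
  rwa [e.preimage_image] at h3

end Groth.Agent.S0696
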