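import Groth.Statements.S0702
import Mathlib
import Groth.Agent.S9633
import Groth.Agent.S0701

set_option autoImplicit false
open CategoryTheory CategoryTheory.Limits AlgebraicGeometry Opposite Topology
universe u
open ProEtW

namespace Groth.Agent.S0702

/-- Let Spec A be profinite and A -> B induce algebraic extensions of residue fields at all primes. Then
Spec B is profinite. -/
theorem result (A B : Type u) [CommRing A] [CommRing B]
    [Algebra A B] [T2Space (PrimeSpectrum A)] [TotallyDisconnectedSpace (PrimeSpectrum A)]
    (h : ProEtW.AlgebraicResidueExtensions A B) :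
    ProEtW.IsProfinite (PrimeSpectrum B) := by
  have hA : ∀ p : Ideal A, p.IsPrime → p.IsMaximal :=
    ((Groth.Agent.S9633.result (R := A)).out 1 5).mp (inferInstance : T2Space (PrimeSpectrum A))
  have hmax : ∀ q : PrimeSpectrum B, q.asIdeal.IsMaximal := by
    intro q
    haveI : (q.asIdeal.comap (algebraMap A B)).IsPrime := inferInstance
    haveI hm : (q.asIdeal.comap (algebraMap A B)).IsMaximal := hA _ inferInstance
    haveI halg : Algebra.IsAlgebraic (A ⧸ q.asIdeal.comap (algebraMap A B)) (B ⧸ q.asIdeal) :=
      h q.asIdeal
    letI : Field (A ⧸ q.asIdeal.comap (algebraMap A B)) := Ideal.Quotient.field _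
    haveI : Algebra.IsIntegral (A ⧸ q.asIdeal.comap (algebraMap A B)) (B ⧸ q.asIdeal) :=
      Algebra.IsAlgebraic.isIntegral
    have hf : IsField (B ⧸ q.asIdeal) :=
      isField_of_isIntegral_of_isField' (R := A ⧸ q.asIdeal.comap (algebraMap A B))
        (Field.toIsField _)
    exact Ideal.Quotient.maximal_of_isField _ hf
  refine Groth.Agent.S0701.result A B ?_
  intro q q' _ hqq'
  have := (hmax q).eq_of_le q'.isPrime.ne_top hqq'
  exact PrimeSpectrum.ext this

end Groth.Agent.S0702
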