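import Groth.Statements.S0706
import Mathlib

set_option autoImplicit false
open CategoryTheory CategoryTheory.Limits AlgebraicGeometry Opposite Topology
universe u
open ProEtW

namespace Groth.Agent.S0706

/-- Let f be an element and I an ideal of A, and Z the intersection of D(f) and V(I) in Spec A. There is
a multiplicative subset S of A for which the image of Spec(S^{-1}A) in Spec A consists precisely of
the points having a specialization in Z. -/
theorem result (A : Type u) [CommRing A] (f : A) (I : Ideal A) :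
    ∃ S : Submonoid A,
      Set.range (PrimeSpectrum.comap (algebraMap A (Localization S))) =
        {x | ∃ z : PrimeSpectrum A,
          z ∈ (PrimeSpectrum.basicOpen f : Set (PrimeSpectrum A)) ∩ PrimeSpectrum.zeroLocus I ∧ x ⤳ z} := by
  classical
  let S : Submonoid A :=
    { carrier := {s | ∃ m : ℕ, ∃ i ∈ I, s = f ^ m + i}
      one_mem' := ⟨0, 0, I.zero_mem, by simp⟩
      mul_mem' := by
        rintro _ _ ⟨m, i, hi, rfl⟩ ⟨m', i', hi', rfl⟩
        refine ⟨m + m', f ^ m * i' + i * f ^ m' + i * i', ?_, by ring⟩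
        exact I.add_mem (I.add_mem (I.mul_mem_left _ hi') (I.mul_mem_right _ hi)) (I.mul_mem_left _ hi') }
  refine ⟨S, ?_⟩
  rw [PrimeSpectrum.localization_comap_range (Localization S) S]
  ext x
  simp only [Set.mem_setOf_eq, Set.mem_inter_iff, SetLike.mem_coe, PrimeSpectrum.mem_basicOpen,
    PrimeSpectrum.mem_zeroLocus]
  constructor
  · intro hdisj
    have hJ : Disjoint ((x.asIdeal ⊔ I : Ideal A) : Set A) (Submonoid.powers f) := by
      rw [Set.disjoint_left]
      rintro _ hJ ⟨m, rfl⟩
      obtain ⟨a, ha, i, hi, hai⟩ := Submodule.mem_sup.mp hJ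
      have hS : f ^ m + (-i) ∈ S := ⟨m, -i, I.neg_mem hi, rfl⟩
      have hx : f ^ m + (-i) ∈ x.asIdeal := by
        have hai' : a + i = f ^ m := hai
        have : f ^ m + (-i) = a := by rw [← hai']; ring
        rw [this]; exact ha
      exact (Set.disjoint_left.mp hdisj) hS hx
    obtain ⟨z, hz, hle, hzd⟩ := Ideal.exists_le_prime_disjoint _ _ hJ
    refine ⟨⟨z, hz⟩, ⟨?_, ?_⟩, ?_⟩
    · intro hfz
      exact (Set.disjoint_left.mp hzd) hfz (Submonoid.mem_powers f)
    · exact fun a ha => hle (Ideal.mem_sup_right ha)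
    · rw [← PrimeSpectrum.le_iff_specializes]
      exact fun a ha => hle (Ideal.mem_sup_left ha)
  · rintro ⟨z, ⟨hfz, hIz⟩, hspec⟩
    rw [← PrimeSpectrum.le_iff_specializes] at hspec
    rw [Set.disjoint_left]
    rintro _ ⟨m, i, hi, rfl⟩ hx
    have hz : f ^ m + i ∈ z.asIdeal := hspec hx
    have hiz : i ∈ z.asIdeal := hIz hi
    have hfm : f ^ m ∈ z.asIdeal := by
      have := z.asIdeal.sub_mem hz hiz
      simpa using this
    exact hfz (z.isPrime.mem_of_pow_mem m hfm)

end Groth.Agent.S0706
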