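import Groth.Statements.S0707
import Mathlib
import Groth.Agent.Lib.Helper4.WEtBasic

set_option autoImplicit false
open CategoryTheory CategoryTheory.Limits AlgebraicGeometry Opposite Topology
universe u
open ProEtW

namespace Groth.Agent.S0707

set_option synthInstance.maxHeartbeats 400000 in
set_option maxHeartbeats 2000000 in
open Groth.Agent.Lib.Helper4 in
/-- Let A be w-contractible, E a finite set of elements of A with zero set Z in Spec A, and B a
localization of A at a multiplicative subset S such that the image of Spec B → Spec A is precisely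
the set of points of Spec A specializing to some point of Z. Then B is w-contractible. -/
theorem result (A B : Type u) [CommRing A] [CommRing B]
    [Algebra A B] (S : Submonoid A) [IsLocalization S B] (E : Finset A)
    (hB : Set.range (PrimeSpectrum.comap (algebraMap A B)) =
      {x | ∃ z : PrimeSpectrum A, z ∈ PrimeSpectrum.zeroLocus (R := A) E ∧ x ⤳ z})
    (hA : EtPBC.IsWContractible A) : EtPBC.IsWContractible B := by
  classical
  intro C _ _ hff hwe
  letI algAC : Algebra A C := ((algebraMap B C).comp (algebraMap A B)).toAlgebra
  have htow : IsScalarTower A B C := IsScalarTower.of_algebraMap_eq (fun _ => rfl)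
  have hweAB : Algebra.WeaklyEtale A B := WEtBasic.weaklyEtale_of_isLocalization S
  have hweAC : Algebra.WeaklyEtale A C := Algebra.WeaklyEtale.trans A B C
  have hetA' : Algebra.Etale A (∀ f : E, Localization.Away (f : A)) := inferInstance
  have hweA' : Algebra.WeaklyEtale A (∀ f : E, Localization.Away (f : A)) := inferInstance
  have hwe' : Algebra.WeaklyEtale A (C × (∀ f : E, Localization.Away (f : A))) := WEtBasic.weaklyEtale_prod A C (∀ f : E, Localization.Away (f : A))
  have hflat' : Module.Flat A (C × (∀ f : E, Localization.Away (f : A))) := hwe'.flat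
  have hff' : Module.FaithfullyFlat A (C × (∀ f : E, Localization.Away (f : A))) := by
    apply Module.FaithfullyFlat.of_comap_surjective
    intro p
    by_cases hp : p ∈ Set.range (PrimeSpectrum.comap (algebraMap A B))
    · obtain ⟨q, rfl⟩ := hp
      obtain ⟨r, hr⟩ := PrimeSpectrum.comap_surjective_of_faithfullyFlat (A := B) (B := C) q
      refine ⟨PrimeSpectrum.comap (RingHom.fst C (∀ f : E, Localization.Away (f : A))) r, ?_⟩
      apply PrimeSpectrum.ext
      have hr' : r.asIdeal.comap (algebraMap B C) = q.asIdeal := congrArg PrimeSpectrum.asIdeal hr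
      change ((r.asIdeal.comap (RingHom.fst C (∀ f : E, Localization.Away (f : A)))).comap (algebraMap A (C × (∀ f : E, Localization.Away (f : A))))) =
        q.asIdeal.comap (algebraMap A B)
      rw [Ideal.comap_comap, ← hr', Ideal.comap_comap]
      rfl
    · rw [hB] at hp
      have hex : ∃ f ∈ E, f ∉ p.asIdeal := by
        by_contra hcon
        push Not at hcon
        exact hp ⟨p, fun f hf => hcon f hf, specializes_rfl⟩
      obtain ⟨f, hfE, hfp⟩ := hex
      have hdisj : Disjoint (Submonoid.powers f : Set A) (p.asIdeal : Set A) := by
        rw [Set.disjoint_left]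
        rintro _ ⟨n, rfl⟩ hn
        exact hfp (p.2.mem_of_pow_mem n hn)
      have hp' : (p.asIdeal.map (algebraMap A (Localization.Away f))).IsPrime :=
        IsLocalization.isPrime_of_isPrime_disjoint (Submonoid.powers f) _ p.asIdeal p.2 hdisj
      refine ⟨PrimeSpectrum.comap ((Pi.evalRingHom (fun g : E => Localization.Away (g : A))
        ⟨f, hfE⟩).comp (RingHom.snd C (∀ f : E, Localization.Away (f : A)))) ⟨_, hp'⟩, ?_⟩
      apply PrimeSpectrum.ext
      change (((p.asIdeal.map (algebraMap A (Localization.Away f))).comap
        ((Pi.evalRingHom (fun g : E => Localization.Away (g : A))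
        ⟨f, hfE⟩).comp (RingHom.snd C (∀ f : E, Localization.Away (f : A))))).comap
        (algebraMap A (C × (∀ f : E, Localization.Away (f : A))))) = p.asIdeal
      rw [Ideal.comap_comap]
      exact IsLocalization.under_map_of_isPrime_disjoint (Submonoid.powers f) _ p.2 hdisj
  obtain ⟨ρ⟩ := hA (C × (∀ f : E, Localization.Away (f : A))) hff' hwe'
  set e : A := ρ ((0 : C), (1 : (∀ f : E, Localization.Away (f : A)))) with he
  have hidem : e * e = e := by
    rw [he, ← map_mul]
    congr 1
    ext <;> simp
  have h01 : ((0 : C), (1 : (∀ f : E, Localization.Away (f : A)))) = ∑ f : E, (f : A) •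
      (((0 : C), (Pi.single f (IsLocalization.Away.invSelf (f : A)) : (∀ f : E, Localization.Away (f : A)))) : C × (∀ f : E, Localization.Away (f : A))) := by
    refine Prod.ext ?_ ?_
    · rw [Prod.fst_sum]
      simp
    · rw [Prod.snd_sum]
      funext g
      rw [Finset.sum_apply]
      simp only [Prod.smul_snd, Pi.smul_apply, Pi.one_apply]
      rw [Finset.sum_eq_single g]
      · rw [Pi.single_eq_same, Algebra.smul_def, IsLocalization.Away.mul_invSelf]
      · intro b _ hb
        rw [Pi.single_eq_of_ne hb.symm, smul_zero]
      · simp
  have heI : e ∈ Ideal.span (E : Set A) := by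
    rw [he, h01, map_sum]
    apply Ideal.sum_mem
    intro f _
    rw [map_smul, smul_eq_mul]
    exact Ideal.mul_mem_right _ _ (Ideal.subset_span f.2)
  have he0 : algebraMap A B e = 0 := by
    have hidem' : IsIdempotentElem (algebraMap A B e) := by
      rw [IsIdempotentElem, ← map_mul, hidem]
    have hnil : IsNilpotent (algebraMap A B e) := by
      rw [← mem_nilradical, nilradical_eq_sInf, Ideal.mem_sInf]
      intro q hq
      have hqp : q.IsPrime := hq
      have hmem : PrimeSpectrum.comap (algebraMap A B) ⟨q, hqp⟩ ∈
          Set.range (PrimeSpectrum.comap (algebraMap A B)) := ⟨_, rfl⟩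
      rw [hB] at hmem
      obtain ⟨z, hz, hspec⟩ := hmem
      have hle : q.comap (algebraMap A B) ≤ z.asIdeal :=
        (PrimeSpectrum.le_iff_specializes _ _).mpr hspec
      have hez : e ∈ z.asIdeal := (Ideal.span_le.mpr hz) heI
      have h1e : (1 - e) ∉ q.comap (algebraMap A B) := by
        intro h
        apply z.2.ne_top
        rw [Ideal.eq_top_iff_one]
        have := z.asIdeal.add_mem (hle h) hez
        simpa using this
      have h0 : e * (1 - e) = 0 := by rw [mul_sub, mul_one, hidem, sub_self]
      have h2 : e * (1 - e) ∈ q.comap (algebraMap A B) := by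
        rw [h0]
        exact Ideal.zero_mem _
      have hcp : (q.comap (algebraMap A B)).IsPrime := Ideal.IsPrime.comap _
      exact (hcp.mem_or_mem h2).resolve_right h1e
    exact hidem'.eq_zero_of_isNilpotent hnil
  have h10 : ρ ((1 : C), (0 : (∀ f : E, Localization.Away (f : A)))) = 1 - e := by
    have : ((1 : C), (0 : (∀ f : E, Localization.Away (f : A)))) = 1 - ((0 : C), (1 : (∀ f : E, Localization.Away (f : A)))) := by ext <;> simp
    rw [this, map_sub, map_one]
  let χ₀ : C →+* B :=
    { toFun := fun c => algebraMap A B (ρ (c, 0))
      map_one' := by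
        change algebraMap A B (ρ ((1 : C), (0 : (∀ f : E, Localization.Away (f : A))))) = 1
        rw [h10, map_sub, map_one, he0, sub_zero]
      map_mul' := fun c c' => by
        change algebraMap A B (ρ (c * c', 0)) = algebraMap A B (ρ (c, 0)) * algebraMap A B (ρ (c', 0))
        rw [← map_mul, ← map_mul]
        congr 2
        ext <;> simp
      map_zero' := by
        change algebraMap A B (ρ ((0 : C), (0 : (∀ f : E, Localization.Away (f : A))))) = 0
        have : (((0 : C), (0 : (∀ f : E, Localization.Away (f : A)))) : C × (∀ f : E, Localization.Away (f : A))) = 0 := rfl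
        rw [this, map_zero, map_zero]
      map_add' := fun c c' => by
        change algebraMap A B (ρ (c + c', 0)) = algebraMap A B (ρ (c, 0)) + algebraMap A B (ρ (c', 0))
        rw [← map_add, ← map_add]
        congr 2
        ext <;> simp }
  have hχA : ∀ a : A, χ₀ (algebraMap B C (algebraMap A B a)) = algebraMap A B a := by
    intro a
    change algebraMap A B (ρ (algebraMap B C (algebraMap A B a), 0)) = algebraMap A B a
    have : ((algebraMap B C (algebraMap A B a), (0 : (∀ f : E, Localization.Away (f : A)))) : C × (∀ f : E, Localization.Away (f : A))) =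
        a • (((1 : C), (0 : (∀ f : E, Localization.Away (f : A)))) : C × (∀ f : E, Localization.Away (f : A))) := by
      refine Prod.ext ?_ ?_
      · change algebraMap B C (algebraMap A B a) = a • (1 : C)
        rw [Algebra.smul_def, mul_one]
        rfl
      · simp
    rw [this, map_smul, h10, smul_eq_mul, map_mul, map_sub, map_one, he0, sub_zero, mul_one]
  have hcomm : χ₀.comp (algebraMap B C) = RingHom.id B := by
    apply IsLocalization.ringHom_ext S
    ext a
    exact hχA a
  exact ⟨{ toRingHom := χ₀, commutes' := fun b => RingHom.congr_fun hcomm b }⟩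

end Groth.Agent.S0707
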