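import Groth.Statements.S0708
import Mathlib
import Groth.Agent.Lib.Helper4.EtLocDescent
import Groth.Agent.Lib.Helper4.ProdEtale

set_option autoImplicit false
open CategoryTheory CategoryTheory.Limits AlgebraicGeometry Opposite Topology
universe u
open ProEtW

namespace Groth.Agent.S0708

set_option synthInstance.maxHeartbeats 400000 in
set_option maxHeartbeats 2000000 in
open Groth.Agent.Lib.Helper4 in
/-- Let A be a ring all of whose faithfully flat etale algebras have retractions, I an ideal with zero
set Z, and B a localization of A at a multiplicative subset such that the image of Spec B → Spec A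
is precisely the set of points of Spec A specializing to some point of Z. Then every faithfully flat
etale B-algebra has a retraction. -/
theorem result (A B : Type u) [CommRing A] [CommRing B]
    [Algebra A B] (S : Submonoid A) [IsLocalization S B] (I : Ideal A)
    (hB : Set.range (PrimeSpectrum.comap (algebraMap A B)) =
      {x | ∃ z : PrimeSpectrum A, z ∈ PrimeSpectrum.zeroLocus (R := A) I ∧ x ⤳ z})
    (hA : ProEtW.HasEtaleRetractions A) : ProEtW.HasEtaleRetractions B := by
  classical
  intro D _ _ hff het
  letI algAD : Algebra A D := ((algebraMap B D).comp (algebraMap A B)).toAlgebra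
  have htow : IsScalarTower A B D := IsScalarTower.of_algebraMap_eq (fun _ => rfl)
  obtain ⟨B₀, _, _, _, htow₀, t, ht, hfp, hloc, hetale⟩ :=
    EtLocDescent.exists_etale_descent (A := A) (B := B) S D
  have htunit : IsUnit (algebraMap B₀ D (algebraMap A B₀ t)) :=
    IsLocalization.map_units (M := Algebra.algebraMapSubmonoid B₀ S) D ⟨_, t, ht, rfl⟩
  let φ : Localization.Away (algebraMap A B₀ t) →+* D :=
    IsLocalization.Away.lift (algebraMap A B₀ t) htunit
  have hφ : ∀ x, φ (algebraMap B₀ _ x) = algebraMap B₀ D x :=
    IsLocalization.Away.lift_eq _ htunit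
  have hφA : φ.comp (algebraMap A (Localization.Away (algebraMap A B₀ t))) =
      (algebraMap B D).comp (algebraMap A B) := by
    ext a
    rw [RingHom.comp_apply, IsScalarTower.algebraMap_apply A B₀ (Localization.Away _), hφ,
      ← IsScalarTower.algebraMap_apply A B₀ D]
    rfl
  have hopen : IsOpen (Set.range (PrimeSpectrum.comap
      (algebraMap A (Localization.Away (algebraMap A B₀ t))))) :=
    (PrimeSpectrum.isOpenMap_comap_of_hasGoingDown_of_finitePresentation
      (R := A) (S := Localization.Away (algebraMap A B₀ t))).isOpen_range
  have hsub : Set.range (PrimeSpectrum.comap (algebraMap A B)) ⊆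
      Set.range (PrimeSpectrum.comap (algebraMap A (Localization.Away (algebraMap A B₀ t)))) := by
    rintro _ ⟨q, rfl⟩
    obtain ⟨r, hr⟩ := PrimeSpectrum.comap_surjective_of_faithfullyFlat (A := B) (B := D) q
    refine ⟨PrimeSpectrum.comap φ r, ?_⟩
    apply PrimeSpectrum.ext
    have hr' : r.asIdeal.comap (algebraMap B D) = q.asIdeal := congrArg PrimeSpectrum.asIdeal hr
    change (r.asIdeal.comap φ).comap (algebraMap A (Localization.Away (algebraMap A B₀ t))) =
      q.asIdeal.comap (algebraMap A B)
    rw [Ideal.comap_comap, ← hr', Ideal.comap_comap, hφA]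
  have hVI : PrimeSpectrum.zeroLocus (I : Set A) ⊆
      Set.range (PrimeSpectrum.comap (algebraMap A (Localization.Away (algebraMap A B₀ t)))) := by
    intro z hz
    apply hsub
    rw [hB]
    exact ⟨z, hz, specializes_rfl⟩
  obtain ⟨J, hJ⟩ := (PrimeSpectrum.isClosed_iff_zeroLocus_ideal _).mp hopen.isClosed_compl
  have hIJ : I ⊔ J = ⊤ := by
    rw [← PrimeSpectrum.zeroLocus_empty_iff_eq_top, PrimeSpectrum.zeroLocus_sup, ← hJ]
    rw [Set.eq_empty_iff_forall_notMem]
    rintro p ⟨hp1, hp2⟩
    exact hp2 (hVI hp1)
  obtain ⟨i, hi, j, hj, hij⟩ := Submodule.mem_sup.mp ((Ideal.eq_top_iff_one _).mp hIJ)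
  have het'' : Algebra.Etale A (Localization.Away (algebraMap A B₀ t) × Localization.Away i) :=
    Groth.Agent.Lib.Helper4.ProdEtale.etale_prod A _ (Localization.Away i)
  have hff'' : Module.FaithfullyFlat A
      (Localization.Away (algebraMap A B₀ t) × Localization.Away i) := by
    apply Module.FaithfullyFlat.of_comap_surjective
    intro p
    by_cases hp : p ∈ Set.range (PrimeSpectrum.comap
        (algebraMap A (Localization.Away (algebraMap A B₀ t))))
    · obtain ⟨q, rfl⟩ := hp
      refine ⟨PrimeSpectrum.comap (RingHom.fst (Localization.Away (algebraMap A B₀ t)) (Localization.Away i)) q, ?_⟩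
      apply PrimeSpectrum.ext
      change ((q.asIdeal.comap (RingHom.fst (Localization.Away (algebraMap A B₀ t)) (Localization.Away i))).comap
        (algebraMap A (Localization.Away (algebraMap A B₀ t) × Localization.Away i))) =
        q.asIdeal.comap (algebraMap A _)
      rw [Ideal.comap_comap]
      rfl
    · have hpJ : p ∈ PrimeSpectrum.zeroLocus (J : Set A) := by
        rw [← hJ]
        exact hp
      have hjp : j ∈ p.asIdeal := hpJ hj
      have hip : i ∉ p.asIdeal := by
        intro hip
        apply p.2.ne_top
        rw [Ideal.eq_top_iff_one, ← hij]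
        exact p.asIdeal.add_mem hip hjp
      have hdisj : Disjoint (Submonoid.powers i : Set A) (p.asIdeal : Set A) := by
        rw [Set.disjoint_left]
        rintro _ ⟨n, rfl⟩ hn
        exact hip (p.2.mem_of_pow_mem n hn)
      have hp' : (p.asIdeal.map (algebraMap A (Localization.Away i))).IsPrime :=
        IsLocalization.isPrime_of_isPrime_disjoint (Submonoid.powers i) _ p.asIdeal p.2 hdisj
      refine ⟨PrimeSpectrum.comap (RingHom.snd (Localization.Away (algebraMap A B₀ t)) (Localization.Away i)) ⟨_, hp'⟩, ?_⟩
      apply PrimeSpectrum.ext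
      change (((p.asIdeal.map (algebraMap A (Localization.Away i))).comap
        (RingHom.snd (Localization.Away (algebraMap A B₀ t)) (Localization.Away i))).comap
        (algebraMap A (Localization.Away (algebraMap A B₀ t) × Localization.Away i))) = p.asIdeal
      rw [Ideal.comap_comap]
      exact IsLocalization.under_map_of_isPrime_disjoint (Submonoid.powers i) _ p.2 hdisj
  obtain ⟨ρ⟩ := hA _ hff'' het''
  set e : A := ρ ((0 : Localization.Away (algebraMap A B₀ t)), (1 : Localization.Away i)) with he
  have hidem : e * e = e := by
    rw [he, ← map_mul]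
    congr 1
    ext <;> simp
  have heI : e ∈ I := by
    have h01 : (((0 : Localization.Away (algebraMap A B₀ t)), (1 : Localization.Away i)) :
        Localization.Away (algebraMap A B₀ t) × Localization.Away i) =
        i • ((0 : Localization.Away (algebraMap A B₀ t)),
          (IsLocalization.Away.invSelf i : Localization.Away i)) := by
      refine Prod.ext ?_ ?_
      · simp
      · change (1 : Localization.Away i) = i • (IsLocalization.Away.invSelf i : Localization.Away i)
        rw [Algebra.smul_def, IsLocalization.Away.mul_invSelf]
    rw [he, h01, map_smul, smul_eq_mul]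
    exact Ideal.mul_mem_right _ _ hi
  have he0 : algebraMap A B e = 0 := by
    have hidem' : IsIdempotentElem (algebraMap A B e) := by
      rw [IsIdempotentElem, ← map_mul, hidem]
    have hnil : IsNilpotent (algebraMap A B e) := by
      rw [← mem_nilradical, nilradical_eq_sInf, Ideal.mem_sInf]
      intro q hq
      have hqp : q.IsPrime := hq
      have hmem : PrimeSpectrum.comap (algebraMap A B) ⟨q, hqp⟩ ∈
          Set.range (PrimeSpectrum.comap (algebraMap A B)) := ⟨_, rfl⟩
      rw [hB] at hmem
      obtain ⟨z, hz, hspec⟩ := hmem
      have hle : q.comap (algebraMap A B) ≤ z.asIdeal :=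
        (PrimeSpectrum.le_iff_specializes _ _).mpr hspec
      have hez : e ∈ z.asIdeal := hz heI
      have h1e : (1 - e) ∉ q.comap (algebraMap A B) := by
        intro h
        apply z.2.ne_top
        rw [Ideal.eq_top_iff_one]
        have := z.asIdeal.add_mem (hle h) hez
        simpa using this
      have h0 : e * (1 - e) = 0 := by rw [mul_sub, mul_one, hidem, sub_self]
      have h2 : e * (1 - e) ∈ q.comap (algebraMap A B) := by
        rw [h0]
        exact Ideal.zero_mem _
      have hcp : (q.comap (algebraMap A B)).IsPrime := Ideal.IsPrime.comap _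
      exact (hcp.mem_or_mem h2).resolve_right h1e
    exact hidem'.eq_zero_of_isNilpotent hnil
  have h10 : ρ ((1 : Localization.Away (algebraMap A B₀ t)), (0 : Localization.Away i)) = 1 - e := by
    have : (((1 : Localization.Away (algebraMap A B₀ t)), (0 : Localization.Away i)) :
        Localization.Away (algebraMap A B₀ t) × Localization.Away i) =
        1 - ((0 : Localization.Away (algebraMap A B₀ t)), (1 : Localization.Away i)) := by
      ext <;> simp
    rw [this, map_sub, map_one]
  let ρ₁ : Localization.Away (algebraMap A B₀ t) →+* B :=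
    { toFun := fun c => algebraMap A B (ρ (c, 0))
      map_one' := by
        change algebraMap A B (ρ ((1 : Localization.Away (algebraMap A B₀ t)),
          (0 : Localization.Away i))) = 1
        rw [h10, map_sub, map_one, he0, sub_zero]
      map_mul' := fun c c' => by
        change algebraMap A B (ρ (c * c', 0)) = algebraMap A B (ρ (c, 0)) * algebraMap A B (ρ (c', 0))
        rw [← map_mul, ← map_mul]
        congr 2
        ext <;> simp
      map_zero' := by
        change algebraMap A B (ρ ((0 : Localization.Away (algebraMap A B₀ t)),
          (0 : Localization.Away i))) = 0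
        have : (((0 : Localization.Away (algebraMap A B₀ t)), (0 : Localization.Away i)) :
          Localization.Away (algebraMap A B₀ t) × Localization.Away i) = 0 := rfl
        rw [this, map_zero, map_zero]
      map_add' := fun c c' => by
        change algebraMap A B (ρ (c + c', 0)) = algebraMap A B (ρ (c, 0)) + algebraMap A B (ρ (c', 0))
        rw [← map_add, ← map_add]
        congr 2
        ext <;> simp }
  have hρ₁A : ∀ a : A, ρ₁ (algebraMap A _ a) = algebraMap A B a := by
    intro a
    change algebraMap A B (ρ (algebraMap A (Localization.Away (algebraMap A B₀ t)) a, 0)) =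
      algebraMap A B a
    have : ((algebraMap A (Localization.Away (algebraMap A B₀ t)) a, (0 : Localization.Away i)) :
        Localization.Away (algebraMap A B₀ t) × Localization.Away i) =
        a • (((1 : Localization.Away (algebraMap A B₀ t)), (0 : Localization.Away i)) :
          Localization.Away (algebraMap A B₀ t) × Localization.Away i) := by
      refine Prod.ext ?_ ?_
      · change algebraMap A _ a = a • (1 : Localization.Away (algebraMap A B₀ t))
        rw [Algebra.smul_def, mul_one]
      · simp
    rw [this, map_smul, h10, smul_eq_mul, map_mul, map_sub, map_one, he0, sub_zero, mul_one]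
  let ρ₀ : B₀ →+* B := ρ₁.comp (algebraMap B₀ (Localization.Away (algebraMap A B₀ t)))
  have hρ₀A : ∀ a : A, ρ₀ (algebraMap A B₀ a) = algebraMap A B a := by
    intro a
    change ρ₁ (algebraMap B₀ _ (algebraMap A B₀ a)) = _
    rw [← IsScalarTower.algebraMap_apply A B₀ (Localization.Away (algebraMap A B₀ t)), hρ₁A]
  have hunits : ∀ y : Algebra.algebraMapSubmonoid B₀ S, IsUnit (ρ₀ y) := by
    rintro ⟨_, s, hs, rfl⟩
    change IsUnit (ρ₀ (algebraMap A B₀ s))
    rw [hρ₀A]
    exact IsLocalization.map_units B ⟨s, hs⟩
  let χ₀ : D →+* B := IsLocalization.lift (M := Algebra.algebraMapSubmonoid B₀ S) hunits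
  have hχ₀ : ∀ x : B₀, χ₀ (algebraMap B₀ D x) = ρ₀ x := IsLocalization.lift_eq hunits
  have hcomm : χ₀.comp (algebraMap B D) = RingHom.id B := by
    apply IsLocalization.ringHom_ext S
    ext a
    change χ₀ (algebraMap B D (algebraMap A B a)) = algebraMap A B a
    have : algebraMap B D (algebraMap A B a) = algebraMap B₀ D (algebraMap A B₀ a) := by
      rw [← IsScalarTower.algebraMap_apply A B₀ D]
      rfl
    rw [this, hχ₀, hρ₀A]
  exact ⟨{ toRingHom := χ₀, commutes' := fun b => RingHom.congr_fun hcomm b }⟩

end Groth.Agent.S0708
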