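import Groth.Statements.S0716
import Mathlib
import Groth.Agent.Lib.Helper4.PEC11

set_option autoImplicit false
open CategoryTheory CategoryTheory.Limits AlgebraicGeometry Opposite
universe u
open ProEtS

namespace Groth.Agent.S0716


open Groth.Agent.Lib.Helper4.PEC in
/-- On an affine scheme X, the pullback to X_proet of any injective abelian sheaf I of the small etale
site has vanishing pro-etale cohomology in every positive degree p (assuming, as a binder, the
continuity of X_et -> X_proet). -/
theorem result (X : Scheme.{u}) [IsAffine X] [ProEtS.EpsCont X]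
    (I : EtCoh.Ab X) [Injective I] (p : ℕ) (hp : 0 < p) :
    Subsingleton (ProEtS.HP X ((ProEtS.epsPull X).obj I) p) := by
  haveI : IsAffine (Groth.Agent.Lib.Helper4.PEC.topP X).left := ‹IsAffine X›
  haveI : Etale (Groth.Agent.Lib.Helper4.PEC.topP X).hom := inferInstanceAs (Etale (𝟙 X))
  have hX : Groth.Agent.Lib.Helper4.PEC.topP X ∈ Groth.Agent.Lib.Helper4.PEC.Bset X :=
    Groth.Agent.Lib.Helper4.PEC.mem_Bset_of_etale _
  obtain ⟨n, rfl⟩ : ∃ n, p = n + 1 := ⟨p - 1, by omega⟩
  exact ⟨fun a b => (Groth.Agent.Lib.Helper4.PEC.HP_epsPull_injective_eq_zero hX I n a).trans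
    (Groth.Agent.Lib.Helper4.PEC.HP_epsPull_injective_eq_zero hX I n b).symm⟩

end Groth.Agent.S0716
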