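import Groth.Statements.S0721
import Mathlib
import Groth.Agent.Lib.Helper4.PEPush2

set_option autoImplicit false
open CategoryTheory CategoryTheory.Limits AlgebraicGeometry Opposite
universe u
open ProEtS

namespace Groth.Agent.S0721


open Groth.Agent.Lib.Helper4 in
/-- For f : Z -> X finite and locally of finite presentation, f_{proet,*} on abelian sheaves is exact
(preserves finite limits and colimits; continuity of base change assumed as a binder). -/
theorem result {Z X : Scheme.{u}} (f : Z ⟶ X) [IsFinite f]
    [LocallyOfFinitePresentation f] [ProEtS.PCont f] :
    PreservesFiniteLimits (ProEtS.pushP f) ∧ PreservesFiniteColimits (ProEtS.pushP f) := by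
  exact PEPush.exact_pushP f (fun W hW hwc => PEPush.isWC_bcP_of_finite f W hW hwc)

end Groth.Agent.S0721
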