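import Groth.Statements.S0725
import Mathlib
import Groth.Agent.Lib.Helper4.PE9

set_option autoImplicit false
open CategoryTheory CategoryTheory.Limits AlgebraicGeometry Opposite
universe u
open ProEtS

namespace Groth.Agent.S0725


open Groth.Agent.Lib.Helper4 in
/-- If a set-valued presheaf F on X_proet turns finite disjoint unions into products (it preserves
finite products of the opposite category), then on every affine weakly contractible object W its
sections already agree with those of its sheafification: F(W) -> F^#(W) is bijective. -/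
theorem result {X : Scheme.{u}} (F : X.ProEtᵒᵖ ⥤ Type (u + 1))
    [PreservesFiniteProducts F] (W : X.ProEt) [IsAffine W.left] (hW : ProEtS.IsWC W) :
    Function.Bijective ((toSheafify (Scheme.ProEt.topology X) F).app (op W)) := by
  have hpart : Groth.Agent.Lib.Helper4.PE.PartitionProp W :=
    Groth.Agent.Lib.Helper4.PE.partitionProp_of_isWContractible W
      (Groth.Agent.Lib.Helper4.PE.isWContractible_of_isWC W hW)
  let J := Scheme.ProEt.topology X
  let η := toSheafify J F
  have hsheaf : Presieve.IsSheaf J (sheafify J F) :=
    (isSheaf_iff_isSheaf_of_type _ _).1 ((presheafToSheaf J _).obj F).cond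
  constructor
  · -- injective
    intro a b hab
    have h1 : Presheaf.equalizerSieve (F := F) (X := op W) a b ∈ J W :=
      Presheaf.equalizerSieve_mem J η a b hab
    obtain ⟨n, V, -, hdisj, hcov, hmem⟩ := hpart _ h1
    have hdisj' : ∀ k l, k ≠ l → Disjoint (V k : Set W.left) (V l) := fun k l hkl => hdisj hkl
    obtain ⟨s, -, hsu⟩ :=
      Groth.Agent.Lib.Helper4.PE.existsUnique_section_of_preservesFiniteProducts F V hdisj' hcov
        (fun k => F.map (Groth.Agent.Lib.Helper4.PE.opnι W (V k)).op a)
    rw [hsu a (fun k => rfl), hsu b (fun k => (hmem k).symm)]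
  · -- surjective
    intro s
    have h1 : Presheaf.imageSieve η s ∈ J W :=
      Presheaf.imageSieve_mem J η (U := op W) s
    obtain ⟨n, V, -, hdisj, hcov, hmem⟩ := hpart _ h1
    have hdisj' : ∀ k l, k ≠ l → Disjoint (V k : Set W.left) (V l) := fun k l hkl => hdisj hkl
    choose t ht using hmem
    obtain ⟨t0, ht0, -⟩ :=
      Groth.Agent.Lib.Helper4.PE.existsUnique_section_of_preservesFiniteProducts F V hdisj' hcov t
    refine ⟨t0, ?_⟩
    have h2 := (hsheaf.isSheafFor _
      (Groth.Agent.Lib.Helper4.PE.ofArrows_opn_mem V hcov)).isSeparatedFor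
    refine h2.ext ?_
    rintro Y f ⟨k⟩
    have h3 := NatTrans.naturality_apply η (Groth.Agent.Lib.Helper4.PE.opnι W (V k)).op t0
    rw [← h3, ht0 k]
    exact ht k

end Groth.Agent.S0725
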