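import Groth.Statements.S0728
import Groth.Agent.Lib.Helper22.EtLoc.Excision

set_option autoImplicit false
open CategoryTheory CategoryTheory.Limits AlgebraicGeometry Opposite
universe u
open EtShriek

namespace Groth.Agent.S0728

open Groth.Agent.Lib.Helper22.CechU.Etale Groth.Agent.Lib.Helper22.EtLoc.Clopen
  Groth.Agent.Lib.Helper22.EtLoc.Excision Groth.Agent.Lib.Helper22.CechU

lemma sectSupp_subset_iff {X : Scheme.{u}} (F : EtCoh.Ab X) (U : X.Etale) (Z : Set ↥U.left)
    (W : U.left.Opens) (hWZ : ∀ x, x ∈ W ↔ x ∉ Z) (s : EtCoh.sect F U) :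
    EtShriek.sectSupp F U s ⊆ Z ↔ F.obj.map (openSubι U W).op s = 0 := by
  constructor
  · intro h
    let t := F.obj.map (openSubι U W).op s
    let T : Sieve (openSub U W) :=
      { arrows := fun V f => F.obj.map f.op t = 0
        downward_closed := by
          intro V V' f hf g
          rw [map_comp_apply, hf, map_zero] }
    have hT : T ∈ X.smallEtaleTopology (openSub U W) := by
      rw [mem_smallEtaleTopology_iff]
      rintro ⟨x₀, hx₀⟩
      have hx₀Z : x₀ ∉ Z := (hWZ x₀).1 hx₀
      have hns : x₀ ∉ EtShriek.sectSupp F U s := fun hx => hx₀Z (h hx)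
      simp only [EtShriek.sectSupp, Set.mem_ofPred_eq, not_forall, not_not] at hns
      obtain ⟨W₁, g, ⟨w, hw⟩, hg⟩ := hns
      have hwW : g.left w ∈ W := by rw [hw]; exact hx₀
      refine ⟨openSub W₁ (g.left ⁻¹ᵁ W), openSubMap g W, ⟨w, hwW⟩, ?_, ?_⟩
      · change F.obj.map (openSubMap g W).op (F.obj.map (openSubι U W).op s) = 0
        rw [← map_comp_apply, openSubMap_ι, map_comp_apply, hg, map_zero]
      · apply Subtype.ext
        exact (morphismRestrict_base_coe g.left W ⟨w, hwW⟩).trans hw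
    have hS := isSheaf_forget F T hT
    refine hS.isSeparatedFor.ext fun V f hf => ?_
    change F.obj.map f.op t = F.obj.map f.op 0
    rw [map_zero]
    exact hf
  · intro h x hx
    by_contra hxZ
    have hxW : x ∈ W := (hWZ x).2 hxZ
    exact hx (openSub U W) (openSubι U W) ⟨⟨x, hxW⟩, rfl⟩ h


/-- In the case where the inverse image of Z is Z' (so that the bijection is restriction): let phi : U'
-> U be a morphism of the small etale site of X and Z a closed subset of U such that phi restricted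
to the inverse image Z' of Z is a bijection onto Z inducing isomorphisms of residue fields (so Z' ->
U is a closed immersion with image Z, for the reduced structures). Then restriction along phi is a
bijection from the sections of F over U supported in Z to the sections of F over U' supported in Z'. -/
theorem result {X : Scheme.{u}} (F : EtCoh.Ab X) {U U' : X.Etale}
    (φ : U' ⟶ U) (Z : Set ↥U.left) (hZ : IsClosed Z)
    (hbij : Set.BijOn φ.left.base (φ.left.base ⁻¹' Z) Z)
    (hres : ∀ x ∈ φ.left.base ⁻¹' Z, Function.Bijective (φ.left.residueFieldMap x)) :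
    Set.BijOn (F.obj.map φ.op) {s | EtShriek.sectSupp F U s ⊆ Z}
      {s' | EtShriek.sectSupp F U' s' ⊆ φ.left.base ⁻¹' Z} := by
  let W : U.left.Opens := ⟨Zᶜ, hZ.isOpen_compl⟩
  have hWZ : ∀ x, x ∈ W ↔ x ∉ Z := fun x => Iff.rfl
  have hWZ' : ∀ x, x ∈ (φ.left ⁻¹ᵁ W) ↔ x ∉ φ.left.base ⁻¹' Z := fun x => Iff.rfl
  have h1 : ∀ x' y' : U'.left, φ.left x' ∉ W → φ.left x' = φ.left y' → x' = y' := by
    intro x' y' hx hxy
    have hxZ : φ.left.base x' ∈ Z := not_not.1 hx
    have hyZ : φ.left.base y' ∈ Z := by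
      have : φ.left.base y' = φ.left.base x' := hxy.symm
      rw [this]; exact hxZ
    exact hbij.injOn hxZ hyZ hxy
  have h2 : ∀ z : U.left, z ∉ W → ∃ x' : U'.left, φ.left x' = z := by
    intro z hz
    have hzZ : z ∈ Z := not_not.1 hz
    obtain ⟨x', -, hx'⟩ := hbij.surjOn hzZ
    exact ⟨x', hx'⟩
  have h3 : ∀ x' : U'.left, φ.left x' ∉ W →
      Function.Surjective ((φ.left : U'.left ⟶ U.left).residueFieldMap x') := by
    intro x' hx
    have hxZ : φ.left.base x' ∈ Z := not_not.1 hx
    exact (hres x' hxZ).surjective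
  have key : ∀ s : EtCoh.sect F U, F.obj.map (openSubι U W).op s = 0 →
      F.obj.map (openSubι U' (φ.left ⁻¹ᵁ W)).op (F.obj.map φ.op s) = 0 := by
    intro s hs
    rw [← map_comp_apply, ← openSubMap_ι, map_comp_apply, hs, map_zero]
  refine ⟨?_, ?_, ?_⟩
  · intro s hs
    have hs0 := (sectSupp_subset_iff F U Z W hWZ s).1 hs
    exact (sectSupp_subset_iff F U' _ (φ.left ⁻¹ᵁ W) hWZ' _).2 (key s hs0)
  · intro s₁ hs₁ s₂ hs₂ h
    have h₁ := (sectSupp_subset_iff F U Z W hWZ s₁).1 hs₁
    have h₂ := (sectSupp_subset_iff F U Z W hWZ s₂).1 hs₂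
    have := inj_excision F φ W h2 (s₁ - s₂) (by rw [map_sub, h₁, h₂, sub_zero])
      (by rw [map_sub, h, sub_self])
    exact sub_eq_zero.1 this
  · intro s' hs'
    have hs0 := (sectSupp_subset_iff F U' _ (φ.left ⁻¹ᵁ W) hWZ' s').1 hs'
    obtain ⟨s, hs1, hs2⟩ := surj_excision F φ W h1 h2 h3 s' hs0
    exact ⟨s, (sectSupp_subset_iff F U Z W hWZ s).2 hs1, hs2⟩

end Groth.Agent.S0728
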