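import Groth.Statements.S0738
-- import your own Groth.Agent.* helpers here

set_option autoImplicit false
open Topology
universe u
open ProEtW

namespace Groth.Agent.S0738

theorem quasiSeparated_of_isClosedEmbedding {X Y : Type*} [TopologicalSpace X]
    [TopologicalSpace Y] [QuasiSeparatedSpace X] [PrespectralSpace X] (f : Y → X)
    (hf : Topology.IsClosedEmbedding f) : QuasiSeparatedSpace Y := by
  let b : {U : Set X // IsOpen U ∧ IsCompact U} → Set Y := fun U => f ⁻¹' U.1
  have hb : Set.range b = Set.image (Set.preimage f) {U : Set X | IsOpen U ∧ IsCompact U} := by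
    ext V
    constructor
    · rintro ⟨U, rfl⟩
      exact ⟨U.1, U.2, rfl⟩
    · rintro ⟨U, hU, rfl⟩
      exact ⟨⟨U, hU⟩, rfl⟩
  apply QuasiSeparatedSpace.of_isTopologicalBasis (b := b)
  · rw [hb]
    exact PrespectralSpace.isTopologicalBasis.isInducing hf.isInducing
  · intro U V
    have h1 : IsCompact (U.1 ∩ V.1) :=
      QuasiSeparatedSpace.inter_isCompact U.1 V.1 U.2.1 U.2.2 V.2.1 V.2.2
    have h2 : b U ∩ b V = f ⁻¹' (U.1 ∩ V.1) := rfl
    rw [h2]
    exact hf.isCompact_preimage h1

/-- A closed subset of a w-local spectral space is w-local (with the subspace topology). -/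
theorem result (X : Type u) [TopologicalSpace X] (hX : ProEtW.IsWLocal X)
    (Y : Set X) (hY : IsClosed Y) : ProEtW.IsWLocal ↥Y := by
  obtain ⟨hsp, hcl, hex⟩ := hX
  have hemb : Topology.IsClosedEmbedding (Subtype.val : Y → X) := hY.isClosedEmbedding_subtypeVal
  -- closed points of Y
  have hpt : ∀ y : Y, IsClosed ({y} : Set Y) ↔ IsClosed ({(y : X)} : Set X) := by
    intro y
    constructor
    · intro h
      have := hemb.isClosedMap _ h
      rwa [Set.image_singleton] at this
    · intro h
      have : ({y} : Set Y) = Subtype.val ⁻¹' ({(y : X)} : Set X) := by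
        ext z
        simp [Subtype.ext_iff]
      rw [this]
      exact h.preimage continuous_subtype_val
  refine ⟨?_, ?_, ?_⟩
  · exact
      { toT0Space := hemb.isEmbedding.t0Space
        toCompactSpace := hemb.compactSpace
        toQuasiSober := hemb.quasiSober
        toQuasiSeparatedSpace := quasiSeparated_of_isClosedEmbedding _ hemb
        toPrespectralSpace := PrespectralSpace.of_isClosedEmbedding _ hemb }
  · have : {y : Y | IsClosed ({y} : Set Y)}
        = Subtype.val ⁻¹' {x : X | IsClosed ({x} : Set X)} := by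
      ext y
      exact hpt y
    rw [this]
    exact hcl.preimage continuous_subtype_val
  · intro y
    obtain ⟨z, ⟨hz1, hz2⟩, hz3⟩ := hex (y : X)
    have hzY : z ∈ Y := by
      have : z ∈ closure ({(y : X)} : Set X) := specializes_iff_mem_closure.mp hz2
      exact (closure_minimal (Set.singleton_subset_iff.mpr y.2) hY) this
    refine ⟨⟨z, hzY⟩, ⟨(hpt ⟨z, hzY⟩).mpr hz1, ?_⟩, ?_⟩
    · exact (Topology.IsInducing.subtypeVal.specializes_iff (x := y) (y := ⟨z, hzY⟩)).mp hz2
    · rintro w ⟨hw1, hw2⟩
      have := hz3 (w : X) ⟨(hpt w).mp hw1, (Topology.IsInducing.subtypeVal.specializes_iff).mpr hw2⟩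
      exact Subtype.ext this

end Groth.Agent.S0738
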