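import Groth.Statements.S0739
import Mathlib
import Groth.Agent.Lib.Helper4.PE11

set_option autoImplicit false
open CategoryTheory CategoryTheory.Limits AlgebraicGeometry Opposite
universe u
open ProEtS

namespace Groth.Agent.S0739


open Groth.Agent.Lib.Helper4 in
/-- Let U be an object of X_proet, R a covering sieve on U, and xi : Spec k -> U a geometric point (k
separably closed). Then there is a morphism V -> U in R and a geometric point of V with the same
field mapping to xi. -/
theorem result {X : Scheme.{u}} (U : X.ProEt) (R : Sieve U)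
    (hR : R ∈ Scheme.ProEt.topology X U) {k : Type u} [Field k] [IsSepClosed k]
    (ξ : Spec (CommRingCat.of k) ⟶ U.left) :
    ∃ (V : X.ProEt) (g : V ⟶ U) (ξ' : Spec (CommRingCat.of k) ⟶ V.left), R g ∧ ξ' ≫ g.left = ξ := by
  obtain ⟨V, g, ξ', h1, h2⟩ :=
    Groth.Agent.Lib.Helper4.PE.geomLifts_of_mem k R hR U (𝟙 U) ξ
  refine ⟨V, g, ξ', ?_, h2⟩
  simpa using h1

end Groth.Agent.S0739
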