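import Groth.Statements.S0743
import Mathlib
import Groth.Agent.Lib.Helper4.PEOpen1

set_option autoImplicit false
open CategoryTheory CategoryTheory.Limits AlgebraicGeometry Opposite
universe u
open ProEtS

namespace Groth.Agent.S0743


open Groth.Agent.Lib.Helper4 in
/-- For an etale morphism j : U -> X and an abelian sheaf G on U_et, eps^{-1} (j_! G) and j_! (eps^{-1}
G) are isomorphic as abelian sheaves on X_proet (existence of an isomorphism; continuity binders
assumed). -/
theorem result {U X : Scheme.{u}} (j : U ⟶ X) [Etale j] [EtShriek.JCont j]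
    [ProEtS.JPCont j] [ProEtS.EpsCont U] [ProEtS.EpsCont X] (G : EtCoh.Ab U) :
    Nonempty ((ProEtS.epsPull X).obj ((EtShriek.extZero j).obj G) ≅
      (ProEtS.extZeroP j).obj ((ProEtS.epsPull U).obj G)) := by
  let adj1 := (EtShriek.extZeroAdj j).comp (ProEtS.epsAdj X)
  let adj2 := (ProEtS.epsAdj U).comp (ProEtS.extZeroPAdj j)
  let e : ProEtS.epsPush X ⋙ EtShriek.restrAlong j ≅ ProEtS.restrP j ⋙ ProEtS.epsPush U :=
    NatIso.ofComponents (fun F => (sheafToPresheaf _ _).preimageIso
      (NatIso.ofComponents (fun V => Iso.refl _) (by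
        intro V V' f
        simp only [Iso.refl_hom, Category.comp_id, Category.id_comp]
        rfl))) (by
      intro F F' φ
      apply (sheafToPresheaf _ _).map_injective
      ext V
      simp only [Functor.map_comp, Functor.map_preimage, Functor.preimageIso_hom]
      simp only [NatIso.ofComponents_hom_app, Iso.refl_hom, NatTrans.comp_app,
        Category.comp_id, Category.id_comp]
      rfl)
  exact ⟨(adj1.leftAdjointUniq (adj2.ofNatIsoRight e.symm)).app G⟩

end Groth.Agent.S0743
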