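import Groth.Statements.S0778
import Mathlib
import Groth.Agent.Lib.Helper4.Wc3

set_option autoImplicit false
open CategoryTheory CategoryTheory.Limits AlgebraicGeometry Opposite Topology
universe u
open ProEtW

namespace Groth.Agent.S0778


open Groth.Agent.Lib.Helper4 in
/-- A ring A is w-contractible (retractions for faithfully flat weakly etale algebras) if and only if
every faithfully flat ind-etale A-algebra has an A-algebra retraction. -/
theorem result (A : Type u) [CommRing A] :
    EtPBC.IsWContractible A ↔ ProEtW.HasIndEtaleRetractions A := by
  constructor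
  · intro h B _ _ hff hEt
    exact h B hff (Groth.Agent.S0736.result A B hEt)
  · intro h
    have h1 : ProEtW.HasIndZariskiRetractions A := by
      intro B _ _ hff hZ
      exact h B hff (Groth.Agent.Lib.Helper4.Sq.isIndEtale_of_isIndZariski A B hZ)
    have h2 : ProEtW.HasEtaleRetractions A := by
      intro B _ _ hff hEt
      haveI := hEt
      refine h B hff ?_
      apply Groth.Agent.Lib.Helper4.IndEt.isIndEtale_of_ind
      exact ObjectProperty.le_ind _ _ (Groth.Agent.Lib.Helper4.IndEt.pet_mkU A B)
    obtain ⟨hW, hED⟩ := (Groth.Agent.S0678.result A).mp h1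
    exact Groth.Agent.Lib.Helper4.Wc.isWContractible_of A hW hED
      (fun m _ => Groth.Agent.S0675.result A h2 m)

end Groth.Agent.S0778
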