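import Groth.Statements.S0785
import Groth.Agent.Lib.Helper18.FlatLocal
import Groth.Agent.Lib.Helper18.FibBridge2
import Mathlib.RingTheory.Unramified.LocalRing
import Mathlib.RingTheory.Smooth.Flat

set_option autoImplicit false
universe u
open Desc

namespace Groth.Agent.S0785

/-- Let A → B be a local homomorphism of Noetherian local rings which is etale in the sense that B is
the localization at a prime of an etale A-algebra. Then A and B have the same depth. -/
theorem result (A B : Type u) [CommRing A] [CommRing B] [IsLocalRing A] [IsLocalRing B]
    [IsNoetherianRing A] [IsNoetherianRing B] [Algebra A B] [IsLocalHom (algebraMap A B)]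
    (E : Type u) [CommRing E] [Algebra A E] [Algebra.Etale A E] (P : Ideal E) [P.IsPrime]
    [Algebra E B] [IsScalarTower A E B] [IsLocalization.AtPrime B P] :
    LocCoh.depth A A = LocCoh.depth B B := by
  have hflatE : Module.Flat A E := inferInstance
  have hflatEB : Module.Flat E B := IsLocalization.flat B P.primeCompl
  have hflat : Module.Flat A B := Module.Flat.trans A E B
  have hunrE : Algebra.FormallyUnramified E B :=
    Algebra.FormallyUnramified.of_isLocalization P.primeCompl
  have hunr : Algebra.FormallyUnramified A B := Algebra.FormallyUnramified.comp A E B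
  have hessE : Algebra.EssFiniteType E B := Algebra.EssFiniteType.of_isLocalization B P.primeCompl
  have hess : Algebra.EssFiniteType A B := Algebra.EssFiniteType.comp A E B
  have hmap : (IsLocalRing.maximalIdeal A).map (algebraMap A B) = IsLocalRing.maximalIdeal B :=
    Algebra.FormallyUnramified.map_maximalIdeal
  have hmax : ((IsLocalRing.maximalIdeal A).map (algebraMap A B)).IsMaximal := by
    rw [hmap]; infer_instance
  let _ : Field (B ⧸ (IsLocalRing.maximalIdeal A).map (algebraMap A B)) := Ideal.Quotient.field _
  have hloc : IsLocalRing (B ⧸ (IsLocalRing.maximalIdeal A).map (algebraMap A B)) := inferInstance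
  have h := Groth.Agent.Lib.Helper18.FlatLocal.depth_eq_add_fibre_of_flat A B
  have hdim : ringKrullDim (B ⧸ (IsLocalRing.maximalIdeal A).map (algebraMap A B)) = 0 :=
    ringKrullDim_eq_zero_of_field _
  rw [Groth.Agent.Lib.Helper18.FibBridge.depth_eq_zero_of_ringKrullDim_eq_zero _ hdim, add_zero] at h
  exact h.symm

end Groth.Agent.S0785
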