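import Groth.Statements.S0792
import Mathlib
import Groth.Agent.Helper19.ClImmUnit
import Groth.Agent.Helper19.ClImmSupp
import Groth.Agent.Lib.Helper25.ProperOver
-- import your own Groth.Agent.* helpers here

set_option autoImplicit false
universe u
open Coherent

namespace Groth.Agent.S0792

section helpers
open CategoryTheory AlgebraicGeometry
open Groth.Agent.Lib.Helper29.QCoh

theorem support_eq_of_iso {X : Scheme.{u}} {M N : X.Modules} (e : M ≅ N) :
    CohB1.support M = CohB1.support N := by
  ext x
  have eq : M.presheaf.stalk x ≃ N.presheaf.stalk x :=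
    ((stalkFunctor X x).mapIso e).addCommGroupIsoToAddEquiv.toEquiv
  change ¬ Subsingleton _ ↔ ¬ Subsingleton _
  rw [not_iff_not]
  exact ⟨fun h => eq.symm.subsingleton, fun h => eq.subsingleton⟩

end helpers

open CategoryTheory AlgebraicGeometry in

open CategoryTheory AlgebraicGeometry in
/-- Let f : X → S be locally of finite type and F a quasi-coherent O_X-module of finite type. The
support of F is proper over S if and only if there are a closed subscheme i : Z → X with Z proper
over S and a quasi-coherent O_Z-module G of finite type with i_* G isomorphic to F. (The published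
statement also gives a further equivalent condition, that the scheme-theoretic support of F is
proper over S; it is not used here.) -/
theorem result {X S : Scheme.{u}} (f : X ⟶ S) [LocallyOfFiniteType f]
    (F : X.Modules) (hq : Coh.IsQCoh F) (hft : CohB1.IsFT F) :
    ClSub.IsProperOver f (CohB1.support F) ↔
      ∃ (Z : Scheme.{u}) (i : Z ⟶ X), IsClosedImmersion i ∧ IsProper (i ≫ f) ∧
        ∃ G : Z.Modules, Coh.IsQCoh G ∧ CohB1.IsFT G ∧
          Nonempty ((Scheme.Modules.pushforward i).obj G ≅ F) := by
  haveI : F.IsQuasicoherent := hq
  haveI : F.IsFiniteType := hft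
  constructor
  · intro hZ
    let J := Groth.Agent.S2314.annIdeal F
    have hr : Set.range J.subschemeι = CohB1.support F := by
      rw [Scheme.IdealSheafData.range_subschemeι]
      exact Groth.Agent.S2314.annIdeal_support F
    have hp : IsProper (J.subschemeι ≫ f) :=
      (Groth.Agent.Lib.Helper25.ProperOver.isProperOver_iff_of_range_eq f J.subschemeι _ hr).1 hZ
    haveI : IsIso ((Scheme.Modules.pullbackPushforwardAdjunction J.subschemeι).unit.app F) := by
      refine Groth.Agent.Helper19.ClImmUnit.isIso_unit_of_killed _ F (fun U a ha s => ?_)
      rw [Scheme.IdealSheafData.ker_subschemeι] at ha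
      exact Module.mem_annihilator.mp ha s
    exact ⟨J.subscheme, J.subschemeι, inferInstance, hp,
      (Scheme.Modules.pullback J.subschemeι).obj F,
      Groth.Agent.Lib.Helper29.QCoh.isQuasicoherent_pullback J.subschemeι F,
      Groth.Agent.Lib.Helper29.QCoh.isFiniteType_pullback J.subschemeι F,
      ⟨(asIso ((Scheme.Modules.pullbackPushforwardAdjunction J.subschemeι).unit.app F)).symm⟩⟩
  · rintro ⟨Z, i, hi, hp, G, hGq, hGf, ⟨e⟩⟩
    haveI : G.IsQuasicoherent := hGq
    haveI : G.IsFiniteType := hGf
    let J := Groth.Agent.S2314.annIdeal G
    have hsupp : CohB1.support F = i '' CohB1.support G := by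
      rw [← support_eq_of_iso e]
      exact Groth.Agent.Helper19.ClImmSupp.support_pushforward i G
    have hr : Set.range (J.subschemeι ≫ i) = CohB1.support F := by
      rw [hsupp, Scheme.Hom.comp_base, TopCat.coe_comp, Set.range_comp,
        Scheme.IdealSheafData.range_subschemeι]
      exact congrArg (fun T => i '' T) (Groth.Agent.S2314.annIdeal_support G)
    haveI : IsProper ((J.subschemeι ≫ i) ≫ f) := by
      rw [Category.assoc]
      infer_instance
    exact (Groth.Agent.Lib.Helper25.ProperOver.isProperOver_iff_of_range_eq f
      (J.subschemeι ≫ i) _ hr).2 inferInstance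

end Groth.Agent.S0792
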