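import Groth.Statements.S0818
-- import your own Groth.Agent.* helpers here
import Groth.Agent.Lib.Helper12.Dev6

set_option autoImplicit false
universe u
open Coherent

namespace Groth.Agent.S0818

open CategoryTheory AlgebraicGeometry in
/-- Let X be a nonempty Noetherian scheme and P an isomorphism-invariant property of O_X-modules such
that (1) in every short exact sequence of coherent O_X-modules, if two of the three terms satisfy P
then so does the third, and (2) for every integral scheme Z and closed immersion i : Z → X, with ξ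
the generic point of Z, there is a coherent O_X-module G satisfying P whose support is exactly i(Z)
and whose stalk at i(ξ) is isomorphic, as a module over the local ring O_{X,i(ξ)}, to the residue
field of that local ring. Then every coherent O_X-module satisfies P. (The published statement
leaves the nonemptiness of X implicit; it is needed to handle the zero module and is assumed
explicitly here.) -/
theorem result (X : Scheme.{u}) [IsNoetherian X] [Nonempty X]
    (P : X.Modules → Prop) (hP : ∀ M N : X.Modules, Nonempty (M ≅ N) → P M → P N)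
    (h₁ : ∀ S : ShortComplex X.Modules, S.ShortExact → Coh.IsCoh S.X₁ → Coh.IsCoh S.X₂ → Coh.IsCoh S.X₃ →
      (P S.X₁ → P S.X₂ → P S.X₃) ∧ (P S.X₁ → P S.X₃ → P S.X₂) ∧ (P S.X₂ → P S.X₃ → P S.X₁))
    (h₂ : ∀ (Z : Scheme.{u}) (i : Z ⟶ X) [IsClosedImmersion i] [IsIntegral Z],
      ∃ G : X.Modules, Coh.IsCoh G ∧ CohB1.support G = Set.range ⇑i ∧
        Nonempty (↑(G.presheaf.stalk (i (genericPoint Z))) ≃ₗ[X.presheaf.stalk (i (genericPoint Z))]
          IsLocalRing.ResidueField (X.presheaf.stalk (i (genericPoint Z)))) ∧ P G)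
    (M : X.Modules) (hM : Coh.IsCoh M) : P M := by
  classical
  have hiso : ∀ M N : X.Modules, (M ≅ N) → P M → P N := fun M N e h => hP M N ⟨e⟩ h
  have h23 : Groth.Agent.Lib.Helper12.H12Dev.TwoOfThree P := h₁
  -- the data attached to an irreducible closed subset with generic point `y`
  have hgen : ∀ (Z : Set X) (hZ : IsClosed Z), IsIrreducible Z → ∀ y : X, closure {y} = Z →
      ∃ G : X.Modules, Coh.IsCoh G ∧ P G ∧ CohB1.support G ⊆ Z ∧
        IsSimpleModule (X.presheaf.stalk y) (G.presheaf.stalk y) := by
    intro Z hZ hirr y hy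
    let Wc : TopologicalSpace.Closeds X := ⟨Z, hZ⟩
    haveI : IsIntegral (Scheme.IdealSheafData.vanishingIdeal Wc).subscheme :=
      Groth.Agent.Lib.Helper12.H12Dev.isIntegral_subscheme_vanishingIdeal Wc hirr
    obtain ⟨G, hG, hGsupp, he, hPG⟩ := h₂ _ (Scheme.IdealSheafData.vanishingIdeal Wc).subschemeι
    have hr : Set.range (Scheme.IdealSheafData.vanishingIdeal Wc).subschemeι = Z :=
      Groth.Agent.Lib.Helper12.H12Dev.range_subschemeι_vanishingIdeal Wc
    have hpt := Groth.Agent.Lib.Helper12.H12Dev.closedImmersion_genericPoint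
      (Scheme.IdealSheafData.vanishingIdeal Wc).subschemeι y (hy.trans hr.symm)
    refine ⟨G, hG, hPG, (hGsupp.trans hr).le, ?_⟩
    have key : ∀ z : X, z = y → Nonempty (↑(G.presheaf.stalk z) ≃ₗ[X.presheaf.stalk z]
        IsLocalRing.ResidueField (X.presheaf.stalk z)) →
        IsSimpleModule (X.presheaf.stalk y) (G.presheaf.stalk y) := by
      rintro z rfl ⟨e⟩
      exact Groth.Agent.Lib.Helper12.H12Dev.isSimpleModule_of_equiv_residueField _ e
    exact key _ hpt he
  -- zero modules
  have h0 : ∀ M : X.Modules, CategoryTheory.Limits.IsZero M → P M := by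
    obtain ⟨x⟩ := ‹Nonempty X›
    obtain ⟨G, hG, hPG, -, -⟩ := hgen (closure {x}) isClosed_closure
      (isIrreducible_singleton.closure) x rfl
    exact Groth.Agent.Lib.Helper12.H12Dev.mem_zero_of_twoOfThree hiso h23 G hG hPG
  refine Groth.Agent.Lib.Helper12.H12Dev.devissage_core h0 h23.extClosed Set.univ ?_ M hM
    (Set.subset_univ _)
  intro Z hZ hirr _ y hy hsmall T hT hTsupp hTs
  obtain ⟨G, hG, hPG, hGsupp, hGs⟩ := hgen Z hZ hirr y hy
  exact Groth.Agent.Lib.Helper12.H12Dev.mem_of_simple_stalks hiso h23 Z y hsmall G hG hPG hGsupp hGs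
    T hT hTsupp hTs

end Groth.Agent.S0818
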