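import Groth.Statements.S0825
-- import your own Groth.Agent.* helpers here
import Groth.Agent.Lib27.CdOne

set_option autoImplicit false
universe u
open scoped BigOperators
open LocCoh

namespace Groth.Agent.S0825

/-- Let A be a Noetherian ring and I the ideal generated by f_1, …, f_r, with cohomological dimension
exactly 1. Then there are c ≥ 1 and A-linear maps φ_j : I^c → A such that x = Σ_j f_j φ_j(x) for
every x ∈ I^c. -/
theorem result (A : Type u) [CommRing A] [IsNoetherianRing A] (r : ℕ) (f : Fin r → A)
    (h₁ : LocCoh.CdLE A (Ideal.span (Set.range f)) 1) (h₀ : ¬ LocCoh.CdLE A (Ideal.span (Set.range f)) 0) :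
    ∃ (c : ℕ) (φ : Fin r → (↥(Ideal.span (Set.range f) ^ (c + 1)) →ₗ[A] A)),
      ∀ x : ↥(Ideal.span (Set.range f) ^ (c + 1)), (x : A) = ∑ j, f j * φ j x := by
  classical
  have hmem : ∀ v : Fin r → A, Fintype.linearCombination A f v ∈ Ideal.span (Set.range f) := by
    intro v
    have h1 : Fintype.linearCombination A f v ∈ LinearMap.range (Fintype.linearCombination A f) :=
      LinearMap.mem_range_self _ v
    rw [Fintype.range_linearCombination] at h1
    exact h1
  let π : (Fin r → A) →ₗ[A] ↥(Ideal.span (Set.range f)) :=
    (Fintype.linearCombination A f).codRestrict (Ideal.span (Set.range f)) hmem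
  have hπ : Function.Surjective π := by
    rintro ⟨x, hx⟩
    have h1 : x ∈ LinearMap.range (Fintype.linearCombination A f) := by
      rw [Fintype.range_linearCombination]
      exact hx
    obtain ⟨v, hv⟩ := h1
    exact ⟨v, Subtype.ext hv⟩
  obtain ⟨c, σ, hσ⟩ := Groth.Agent.Lib27.CdOne.exists_lift (Ideal.span (Set.range f)) h₁ π hπ
  refine ⟨c, fun j => (LinearMap.proj j).comp σ, fun x => ?_⟩
  have h2 := hσ x
  change Fintype.linearCombination A f (σ x) = (x : A) at h2
  rw [Fintype.linearCombination_apply] at h2
  rw [← h2]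
  refine Finset.sum_congr rfl fun j _ => ?_
  simp only [LinearMap.comp_apply, LinearMap.proj_apply, smul_eq_mul]
  exact mul_comm _ _

end Groth.Agent.S0825
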