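import Groth.Statements.S0826
import Mathlib
import Groth.Agent.Lib.Helper17.SG9
import Groth.Agent.Lib.Helper17.LM4

set_option autoImplicit false
universe u
open Formal2

namespace Groth.Agent.S0826

open CategoryTheory CategoryTheory.Limits AlgebraicGeometry in
/-- Part (2), for the ideal sheaf generated by an ideal I of a base ring A. Let X be a scheme over Spec
A and (G_n) an inverse system of quasi-coherent O_X-modules with G_n killed by I^(n+1) and G_n =
G_{n+1}/I^(n+1)G_{n+1} (indices shifted by one). Then the limit O_X-module lim G_n has vanishing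
cohomology in positive degrees over every affine open of X. -/
theorem result (A : Type u) [CommRing A] (I : Ideal A) (X : Scheme.{u})
    [X.Over (Spec (CommRingCat.of A))] (G : ℕᵒᵖ ⥤ X.Modules) (hG : Formal2.IsQCohFormal I G)
    (U : X.Opens) (hU : IsAffineOpen U) (p : ℕ) (hp : 0 < p) :
    Subsingleton (Coh.HHon X (limit G) U p) := by
  obtain ⟨h1, -, h3⟩ := hG
  have hepi : ∀ n, Epi (G.map (homOfLE (Nat.le_succ n)).op) := by
    intro n
    obtain ⟨h, hiso⟩ := h3 n
    have h4 : G.map (homOfLE (Nat.le_succ n)).op = cokernel.π _ ≫ cokernel.desc _ _ h :=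
      (cokernel.π_desc _ _ h).symm
    rw [h4]
    haveI e2 : IsIso (cokernel.desc (Formal.smulFamily (I ^ (n + 1)) (G.obj (Opposite.op (n + 1))))
      (G.map (homOfLE (Nat.le_succ n)).op) h) := hiso
    exact epi_comp' (coequalizer.π_epi) (IsIso.epi_of_iso _)
  obtain ⟨Fn, tn, rfl⟩ : ∃ (Fn : ℕ → X.Modules) (tn : ∀ n, Fn (n + 1) ⟶ Fn n),
      G = Functor.ofOpSequence tn := ⟨_, _, Groth.Agent.Lib.Helper17.LM4.eq_ofOpSequence G⟩
  have hmap : ∀ n, (Functor.ofOpSequence tn).map (homOfLE (Nat.le_succ n)).op = tn n :=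
    fun n => Functor.ofOpSequence_map_homOfLE_succ tn n
  letI : HasDerivedCategory.{u} X.Modules :=
    Groth.Agent.Lib.Helper17.DSmall.hasDerivedCategorySmall X.Modules
  haveI : HasProducts.{u} (DerivedCategory X.Modules) :=
    Groth.Agent.Lib.Helper17.DProd.derivedCategory_hasProducts
  haveI := hasProductsOfShape_of_small.{u} (DerivedCategory X.Modules) ℕ
  have key := Groth.Agent.Lib.Helper17.SG9.isRlimVia_qcoh_tower X Fn (fun n => h1 n) tn 0
    (fun n _ => by
      have := hepi n
      rwa [hmap] at this)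
  obtain ⟨q, rfl⟩ : ∃ q, p = q + 1 := ⟨p - 1, by omega⟩
  exact key.2 U hU q

end Groth.Agent.S0826
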