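import Groth.Statements.S0852
-- import your own Groth.Agent.* helpers here
import Groth.Agent.Lib.Helper17.LM4
import Groth.Agent.Lib.Helper12.LT3

set_option autoImplicit false
universe u
open Formal2

namespace Groth.Agent.S0852

open CategoryTheory CategoryTheory.Limits AlgebraicGeometry Opposite in
/-- Part (4), for the ideal sheaf generated by a finitely generated ideal I of a base ring A. Let X be a
scheme over Spec A and (G_n) an inverse system of quasi-coherent O_X-modules with G_n killed by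
I^(n+1) and G_n = G_{n+1}/I^(n+1)G_{n+1} (indices shifted by one), and let F = lim G_n in the
category of O_X-modules. Then each projection F → G_n identifies G_n with F/I^(n+1)F. -/
theorem result (A : Type u) [CommRing A] (I : Ideal A) (hI : I.FG) (X : Scheme.{u})
    [X.Over (Spec (CommRingCat.of A))] (G : ℕᵒᵖ ⥤ X.Modules) (hG : Formal2.IsQCohFormal I G) (n : ℕ) :
    ∃ h : Formal.smulFamily (I ^ (n + 1)) (limit G) ≫ limit.π G (op n) = 0,
      IsIso (cokernel.desc _ _ h) := by
  obtain ⟨h1, h2, h3⟩ := hG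
  obtain ⟨Fn, tn, rfl⟩ : ∃ (Fn : ℕ → X.Modules) (tn : ∀ n, Fn (n + 1) ⟶ Fn n),
      G = Functor.ofOpSequence tn := ⟨_, _, Groth.Agent.Lib.Helper17.LM4.eq_ofOpSequence G⟩
  have hmap : ∀ n, (Functor.ofOpSequence tn).map (homOfLE (Nat.le_succ n)).op = tn n :=
    fun n => Functor.ofOpSequence_map_homOfLE_succ tn n
  have key : ∀ (k : ℕ) (f : Fn (k + 1) ⟶ Fn k), f = tn k →
      (∃ h : Formal.smulFamily (I ^ (k + 1)) (Fn (k + 1)) ≫ f = 0, IsIso (cokernel.desc _ _ h)) →
      ∃ h : Formal.smulFamily (I ^ (k + 1)) (Fn (k + 1)) ≫ tn k = 0,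
        IsIso (cokernel.desc _ _ h) := by
    rintro k f rfl h
    exact h
  have h3' : ∀ k, ∃ h : Formal.smulFamily (I ^ (k + 1)) (Fn (k + 1)) ≫ tn k = 0,
      IsIso (cokernel.desc _ _ h) := fun k => key k _ (hmap k) (h3 k)
  exact ⟨Groth.Agent.Lib.Helper12.H12LT.smulFamily_prG I Fn tn (fun k => h2 k) n,
    Groth.Agent.Lib.Helper12.H12LT.isIso_cokernel_desc_prG I Fn tn hI (fun k => h1 k)
      (fun k => h2 k) h3' n⟩

end Groth.Agent.S0852
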