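import Groth.Statements.S0856
import Mathlib
import Groth.Agent.Lib.Helper5.SectFlasque

set_option autoImplicit false
universe u
open CategoryTheory
open CohSite

namespace Groth.Agent.S0856

open Opposite in
/-- Let (C, O) be a ringed site, a : U' -> U a monomorphism of C and I an injective sheaf of O-modules.
Then the restriction map I(U) -> I(U') is surjective. -/
theorem result {C : Type u} [SmallCategory C]
    {J : GrothendieckTopology C} (O : Sheaf J RingCat.{u}) (I : SheafOfModules.{u} O) [Injective I]
    {U U' : C} (a : U' ⟶ U) [Mono a] : Function.Surjective (I.val.map a.op) := by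
  intro y
  have hA : CohCx.IsTotallyAcyclic ((SheafOfModules.toSheaf O).obj I) :=
    Groth.Agent.Lib.Helper5.ModAcyclic.isTotallyAcyclic_toSheaf O I
  haveI : Mono (yoneda.map a) := inferInstance
  haveI : Mono (Groth.Agent.Lib.Helper5.SectFlasque.epsMap (J := J) a) :=
    inferInstanceAs (Mono ((presheafToSheaf J (Type u)).map (yoneda.map a)))
  obtain ⟨σ, hσ⟩ := Groth.Agent.Lib.Helper5.SectFlasque.sec_surjective U'
    ((SheafOfModules.toSheaf O).obj I) y
  obtain ⟨x, hx⟩ := Groth.Agent.Lib.Helper5.FreeMono.exists_extension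
    ((SheafOfModules.toSheaf O).obj I) hA (Groth.Agent.Lib.Helper5.SectFlasque.epsMap a) σ
  refine ⟨Groth.Agent.Lib.Helper5.SectFlasque.sec U x, ?_⟩
  have h := Groth.Agent.Lib.Helper5.SectFlasque.sec_epsMap a x
  rw [hx, hσ] at h
  exact h.symm

end Groth.Agent.S0856
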