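import Groth.Statements.S0860
import Groth.Agent.Lib.Helper5.CechPost
import Groth.Agent.Lib.Helper22.Cech.SiteLeray

set_option autoImplicit false
universe u
open CategoryTheory
open CohSite

namespace Groth.Agent.S0860

open CategoryTheory.Limits in
/-- Let u : C -> D be a functor between sites with fibre products which sends coverings to coverings,
commutes with fibre products, and is continuous and cocontinuous, and let I be an injective abelian
sheaf on D. Then the sheaf V ↦ I(u(V)) on C (which is the pullback of I along the morphism of topoi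
attached to u) has H^p(U, -) = 0 for all p > 0 and all objects U of C. -/
theorem result {C D : Type u} [SmallCategory C]
    [SmallCategory D] [HasPullbacks C] [HasPullbacks D]
    (J : GrothendieckTopology C) (K : GrothendieckTopology D) (u : C ⥤ D)
    (hu : CoverPreserving J K u) [PreservesLimitsOfShape WalkingCospan u]
    [u.IsContinuous J K] [u.IsCocontinuous J K]
    (I : Sheaf K AddCommGrpCat.{u}) [Injective I] (U : C) (p : ℕ) :
    Subsingleton (CohSite.HU ((CohSite.push K J u).obj I) (p + 1) U) := by
  classical
  refine Groth.Agent.Lib.Helper22.Cech.Site.subsingleton_HU_succ_of_covAcyclic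
    (B := Set.univ)
    (Cov := fun U ι Y => Sieve.ofArrows (fun i => (Y i).left) (fun i => (Y i).hom) ∈ J U)
    (fun U ι Y hY => ⟨Set.mem_univ _, hY, fun _ _ => Set.mem_univ _⟩) ?_
    ((CohSite.push K J u).obj I) ?_ U (Set.mem_univ _) p
  · intro V _ T hT
    refine ⟨(Σ W : C, {f : W ⟶ V // T.arrows f}), fun x => Over.mk x.2.1, ?_, fun x => x.2.2⟩
    refine J.superset_covering ?_ hT
    intro W f hf
    exact ⟨W, 𝟙 W, f, Presieve.ofArrows.mk (ι := (Σ W : C, {f : W ⟶ V // T.arrows f})) ⟨W, f, hf⟩, by simp⟩
  · intro V ι Y _ q
    exact (Groth.Agent.Lib.Helper22.Cech.Site.isZero_cechH_succ_of_injective I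
      (fun i => (Over.post u).obj (Y i)) q).of_iso
      (Groth.Agent.Lib.Helper5.CechPost.cechHIso u V I.obj Y (q + 1))

end Groth.Agent.S0860
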