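import Groth.Statements.S3090
import Groth.Agent.Lib.Helper5.PushAcyclic

set_option autoImplicit false
universe u
open CategoryTheory
open CohSite

namespace Groth.Agent.S3090

open CategoryTheory.Limits in
/-- Let C and D be small sites, D having finite limits, and u : D ⥤ C a continuous functor which
preserves finite limits and sends coverings to coverings (so that u defines a morphism of sites, and
of the associated topoi). If F is a flasque (totally acyclic) abelian sheaf on C, then its direct
image V ↦ F(u(V)) is a flasque abelian sheaf on D. -/
theorem result {C D : Type u} [SmallCategory C] [SmallCategory D]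
    [HasFiniteLimits D] (J : GrothendieckTopology C) (K : GrothendieckTopology D) (u : D ⥤ C)
    (hu : CoverPreserving K J u) [PreservesFiniteLimits u] [u.IsContinuous K J]
    (F : Sheaf J AddCommGrpCat.{u}) (hF : CohCx.IsTotallyAcyclic F) :
    CohCx.IsTotallyAcyclic ((CohSite.push J K u).obj F) := by
  have hflat : RepresentablyFlat u := flat_of_preservesFiniteLimits u
  have hpb : CategoryTheory.Limits.PreservesFiniteLimits (u.sheafPullback (Type u) K J) := by
    apply Functor.sheafPullbackConstruction.preservesFiniteLimits
  exact Groth.Agent.Lib.Helper5.PushAcyclic.isTotallyAcyclic_push J K u F hF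

end Groth.Agent.S3090
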