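import Groth.Statements.S0868
import Mathlib
import Groth.Agent.Lib.Helper17.RL11

set_option autoImplicit false
universe u
open CategoryTheory
open CohTop

namespace Groth.Agent.S0868

open TopologicalSpace Opposite in
/-- Let K be an object of the derived category of abelian sheaves on X and B a basis of opens such that
H^p(U, H^q(K)) = 0 for all p > 0, all q and all U in B. Then for U in B and every q, H^q(U, K) (maps
from the free abelian sheaf on U to K[q]) is isomorphic to the sections of the cohomology sheaf
H^q(K) over U. -/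
theorem result {X : TopCat.{u}}
    [HasDerivedCategory.{u} (CohTop.Ab X)] (K : DerivedCategory (CohTop.Ab X))
    (B : Set (Opens X)) (hB : Opens.IsBasis B)
    (h : ∀ U ∈ B, ∀ (p : ℕ) (q : ℤ), Subsingleton (CohTop.HU (CohCx.HD K q) (p + 1) U))
    (U : Opens X) (hU : U ∈ B) (q : ℤ) :
    Nonempty (CohCx.HDU K q U ≃+ (CohCx.HD K q).obj.obj (op U)) := by
  have hb := Groth.Agent.Lib.Helper17.RL10.θ_bijective_site
    (J := Opens.grothendieckTopology X) K B
    (Groth.Agent.Lib.Helper17.RL11.cover_of_isBasis B hB) h U hU q
  let e1 := AddEquiv.ofBijective _ hb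
  let e2 : (Groth.Agent.Lib.Helper20.FreeSheaf.ZU (Opens.grothendieckTopology X) U ⟶
      CohCx.HD K q) ≃+ (CohCx.HD K q).obj.obj (op U) :=
    { toEquiv := Groth.Agent.Lib.Helper20.FreeSheaf.a (Opens.grothendieckTopology X) U (CohCx.HD K q)
      map_add' := Groth.Agent.Lib.Helper20.FreeSheaf.a_add (Opens.grothendieckTopology X) U }
  exact ⟨e1.trans e2⟩

end Groth.Agent.S0868
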