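import Groth.Statements.S0873
import Groth.Agent.Lib.Helper22.DerivedMV
import Groth.Agent.Lib.Helper22.SheafExact
import Groth.Agent.Lib.Helper22.CohTop.SectSupp
import Groth.Agent.Lib.Helper22.CohTop.InjFlasque

set_option autoImplicit false
universe u
open CategoryTheory
open CohTop

namespace Groth.Agent.S0873

section Aux

open TopologicalSpace CategoryTheory.Limits Opposite
open Groth.Agent.Lib.Helper22 Groth.Agent.Lib.Helper22.CohTop

variable {X Y : TopCat.{u}}

lemma hw (f : X ⟶ Y) (U V : Opens X) :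
    CohCx.pushToRestrPush f U ≫ CohCx.restrPushToRestrPush f (inf_le_left : U ⊓ V ≤ U) =
    CohCx.pushToRestrPush f V ≫ CohCx.restrPushToRestrPush f (inf_le_right : U ⊓ V ≤ V) := by
  ext F : 2
  ext : 2
  funext W
  change F.obj.map _ ≫ F.obj.map _ = F.obj.map _ ≫ F.obj.map _
  rw [← F.obj.map_comp, ← F.obj.map_comp]
  rfl

lemma core (I : CohTop.Ab X) [TopCat.Sheaf.IsFlasque I] {T A B C : Opens X} (hA : A ≤ T)
    (hB : B ≤ T) (hCA : C ≤ A) (hCB : C ≤ B) (hcov : T ≤ A ⊔ B) (hC : A ⊓ B ≤ C)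
    (w : biprod.lift (rs I hA) (rs I hB) ≫ biprod.desc (rs I hCA) (-(rs I hCB)) = 0) :
    (ShortComplex.mk (biprod.lift (rs I hA) (rs I hB))
      (biprod.desc (rs I hCA) (-(rs I hCB))) w).ShortExact := by
  refine SheafExact.ab_mv_shortExact _ _ _ _ w ?_ ?_ ?_
  · intro s h1 h2
    refine TopCat.Sheaf.eq_of_locally_eq₂ I (homOfLE hA) (homOfLE hB) hcov s 0 ?_ ?_
    · rw [map_zero]; exact h1
    · rw [map_zero]; exact h2
  · intro s₁ s₂ h
    obtain ⟨s', h1, h2⟩ := exists_glue₂ I s₁ s₂ (by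
      have := congrArg (rs I hC) h
      rw [rs_rs, rs_rs] at this
      exact this)
    refine ⟨rs I hcov s', ?_, ?_⟩
    · rw [rs_rs]; exact h1
    · rw [rs_rs]; exact h2
  · have : Epi (I.obj.map (homOfLE hCA).op) := TopCat.Presheaf.IsFlasque.epi _
    exact (AddCommGrpCat.epi_iff_surjective _).1 this

end Aux

open TopologicalSpace CategoryTheory.Limits in
/-- Let f : X -> Y be continuous, X = U ∪ V an open covering, and a, b, c the restrictions of f to U, V,
U ∩ V. For an abelian sheaf F there are connecting maps making the long sequence 0 -> f_* F ->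
a_*(F|_U) ⊕ b_*(F|_V) -> c_*(F|_{U ∩ V}) -> R^1 f_* F -> R^1 a_*(F|_U) ⊕ R^1 b_*(F|_V) -> ... exact,
where the unnamed maps are induced (sum, resp. difference) by restriction of sections and R^n
a_*(F|_U) denotes the n-th right derived functor of F ↦ a_*(F|_U) (and similarly for b, c).
Functoriality in F is not asserted. -/
theorem result {X Y : TopCat.{u}} (f : X ⟶ Y) (U V : Opens X) (hUV : U ⊔ V = ⊤)
    (F : CohTop.Ab X) :
    ∃ δ : ∀ n : ℕ, (CohCx.RpushOn f (U ⊓ V) n).obj F ⟶ (CohTop.Rpush f (n + 1)).obj F,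
      Mono (biprod.lift ((NatTrans.rightDerived (CohCx.pushToRestrPush f U) 0).app F)
        ((NatTrans.rightDerived (CohCx.pushToRestrPush f V) 0).app F)) ∧
      ∀ n : ℕ,
        (ComposableArrows.mk₂
          (biprod.lift ((NatTrans.rightDerived (CohCx.pushToRestrPush f U) n).app F)
            ((NatTrans.rightDerived (CohCx.pushToRestrPush f V) n).app F))
          (biprod.desc
            ((NatTrans.rightDerived (CohCx.restrPushToRestrPush f (inf_le_left : U ⊓ V ≤ U)) n).app F)
            (-((NatTrans.rightDerived (CohCx.restrPushToRestrPush f (inf_le_right : U ⊓ V ≤ V)) n).app F)))).Exact ∧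
        (ComposableArrows.mk₂
          (biprod.desc
            ((NatTrans.rightDerived (CohCx.restrPushToRestrPush f (inf_le_left : U ⊓ V ≤ U)) n).app F)
            (-((NatTrans.rightDerived (CohCx.restrPushToRestrPush f (inf_le_right : U ⊓ V ≤ V)) n).app F)))
          (δ n)).Exact ∧
        (ComposableArrows.mk₂ (δ n)
          (biprod.lift ((NatTrans.rightDerived (CohCx.pushToRestrPush f U) (n + 1)).app F)
            ((NatTrans.rightDerived (CohCx.pushToRestrPush f V) (n + 1)).app F))).Exact := by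
  have hI : ∀ (I : CohTop.Ab X) [Injective I],
      (Groth.Agent.Lib.Helper22.DerivedMV.sc _ _ _ _ (hw f U V) I).ShortExact := by
    intro I _
    have := Groth.Agent.Lib.Helper22.CohTop.isFlasque_of_injective I
    refine Groth.Agent.Lib.Helper22.SheafExact.shortExact_of_sectionwise _ _ (fun W => ?_)
    have : PreservesBinaryBiproducts
        (sheafToPresheaf (Opens.grothendieckTopology Y) AddCommGrpCat.{u} ⋙
          (evaluation (Opens Y)ᵒᵖ AddCommGrpCat.{u}).obj W) :=
      preservesBinaryBiproducts_of_preservesBiproducts _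
    have e := Groth.Agent.Lib.Helper22.DerivedMV.scMMapIso
      ((CohCx.pushToRestrPush f U).app I) ((CohCx.pushToRestrPush f V).app I)
      ((CohCx.restrPushToRestrPush f (inf_le_left : U ⊓ V ≤ U)).app I)
      ((CohCx.restrPushToRestrPush f (inf_le_right : U ⊓ V ≤ V)).app I)
      (sheafToPresheaf (Opens.grothendieckTopology Y) AddCommGrpCat.{u} ⋙
          (evaluation (Opens Y)ᵒᵖ AddCommGrpCat.{u}).obj W)
      (by rw [← NatTrans.comp_app, ← NatTrans.comp_app, hw f U V])
    refine ShortComplex.shortExact_of_iso e.symm ?_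
    refine core I (T := (Opens.map f).obj W.unop)
      (A := U.isOpenEmbedding.isOpenMap.functor.obj ((Opens.map (CohCx.incl U ≫ f)).obj W.unop))
      (B := V.isOpenEmbedding.isOpenMap.functor.obj ((Opens.map (CohCx.incl V ≫ f)).obj W.unop))
      (C := (U ⊓ V).isOpenEmbedding.isOpenMap.functor.obj
        ((Opens.map (CohCx.incl (U ⊓ V) ≫ f)).obj W.unop))
      (by rintro _ ⟨x, hx, rfl⟩; exact hx) (by rintro _ ⟨x, hx, rfl⟩; exact hx)
      (by rintro _ ⟨x, hx, rfl⟩; exact ⟨⟨x.1, (inf_le_left : U ⊓ V ≤ U) x.2⟩, hx, rfl⟩)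
      (by rintro _ ⟨x, hx, rfl⟩; exact ⟨⟨x.1, (inf_le_right : U ⊓ V ≤ V) x.2⟩, hx, rfl⟩)
      (by
        intro x hx
        have hx' : x ∈ U ⊔ V := by rw [hUV]; trivial
        rcases hx' with hU | hV
        · exact Or.inl ⟨⟨x, hU⟩, hx, rfl⟩
        · exact Or.inr ⟨⟨x, hV⟩, hx, rfl⟩)
      (by
        rintro x ⟨⟨y, hy, rfl⟩, ⟨z, hz, hzy⟩⟩
        have hzy' : z.1 = y.1 := hzy
        exact ⟨⟨y.1, ⟨y.2, hzy' ▸ z.2⟩⟩, hy, rfl⟩) _
  exact Groth.Agent.Lib.Helper22.DerivedMV.main (hw f U V) hI F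

end Groth.Agent.S0873
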