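import Groth.Statements.S0885
import Mathlib
import Groth.Agent.Lib.Helper26.CosimpContraction

set_option autoImplicit false
universe u
open CategoryTheory
open CohTop

namespace Groth.Agent.S0885

section helpers

open CategoryTheory CategoryTheory.Limits Simplicial TopologicalSpace Opposite Groth.Agent.Lib.Helper26

section A
variable {X : TopCat.{u}} {ι : Type u} (U : ι → Opens X)

/-- the Čech simplicial object -/
noncomputable abbrev E : SimplicialObject (FormalCoproduct.{u} (Opens X)) :=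
  (FormalCoproduct.mk ι U).cech

noncomputable abbrev T : FormalCoproduct.{u} (Opens X) := (FormalCoproduct.incl (Opens X)).obj (iSup U)


lemma prod_le (n : ℕ) (x : Fin (n + 1) → ι) (k : Fin (n + 1)) : (∏ᶜ (U ∘ x) : Opens X) ≤ U (x k) :=
  leOfHom (Pi.π (U ∘ x) k)

noncomputable def aug : (E U).obj (op ⦋0⦌) ⟶ T U where
  f _ := PUnit.unit
  φ x := homOfLE ((prod_le U 0 x 0).trans (le_iSup U (x 0)))

variable (i₀ : ι) (hi : U i₀ = iSup U)

include hi in
lemma cons_le (n : ℕ) (x : Fin (n + 1) → ι) (k : Fin (n + 2)) :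
    (∏ᶜ (U ∘ x) : Opens X) ≤ U ((Fin.cons i₀ x : Fin (n + 2) → ι) k) := by
  induction k using Fin.cases with
  | zero =>
    rw [Fin.cons_zero, hi]
    exact (prod_le U n x 0).trans (le_iSup U (x 0))
  | succ k =>
    rw [Fin.cons_succ]
    exact prod_le U n x k

noncomputable def sec : T U ⟶ (E U).obj (op ⦋0⦌) where
  f _ := fun _ => i₀
  φ _ := Pi.lift (fun _ => homOfLE (le_of_eq hi.symm))

noncomputable def sd (n : ℕ) : (E U).obj (op ⦋n⦌) ⟶ (E U).obj (op ⦋n + 1⦌) where
  f x := (Fin.cons i₀ x : Fin (n + 2) → ι)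
  φ x := Pi.lift (fun k => homOfLE (cons_le U i₀ hi n x k))

lemma sec_aug : sec U i₀ hi ≫ aug U = 𝟙 _ :=
  FormalCoproduct.hom_ext rfl (fun _ => Subsingleton.elim _ _)

lemma δ_aug : (E U).δ 0 ≫ aug U = (E U).δ 1 ≫ aug U :=
  FormalCoproduct.hom_ext rfl (fun _ => Subsingleton.elim _ _)

lemma sd_δ_zero (n : ℕ) : sd U i₀ hi n ≫ (E U).δ 0 = 𝟙 _ := by
  refine FormalCoproduct.hom_ext ?_ (fun _ => Subsingleton.elim _ _)
  funext x
  funext k
  rfl

lemma sd_zero_δ_one : sd U i₀ hi 0 ≫ (E U).δ 1 = aug U ≫ sec U i₀ hi := by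
  refine FormalCoproduct.hom_ext ?_ (fun _ => Subsingleton.elim _ _)
  funext x
  funext (k : Fin 1)
  obtain rfl : k = 0 := Subsingleton.elim _ _
  rfl

lemma sd_δ_succ (n : ℕ) (i : Fin (n + 2)) :
    sd U i₀ hi (n + 1) ≫ (E U).δ i.succ = (E U).δ i ≫ sd U i₀ hi n := by
  refine FormalCoproduct.hom_ext ?_ (fun _ => Subsingleton.elim _ _)
  funext x
  funext (k : Fin (n + 2))
  induction k using Fin.cases with
  | zero => 
    change (Fin.cons i₀ x : Fin (n + 3) → ι) (Fin.succAbove i.succ 0) = 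
      (Fin.cons i₀ (fun j => x (Fin.succAbove i j)) : Fin (n + 2) → ι) 0
    rw [Fin.succ_succAbove_zero]
    rfl
  | succ k => 
    change (Fin.cons i₀ x : Fin (n + 3) → ι) (Fin.succAbove i.succ k.succ) = 
      (Fin.cons i₀ (fun j => x (Fin.succAbove i j)) : Fin (n + 2) → ι) k.succ
    rw [Fin.succ_succAbove_succ]
    rfl

end A

section B
variable {X : TopCat.{u}} (F : (Opens X)ᵒᵖ ⥤ AddCommGrpCat.{u}) {ι : Type u} (U : ι → Opens X) 
  (i₀ : ι) (hi : U i₀ = iSup U)

noncomputable abbrev G : (FormalCoproduct.{u} (Opens X))ᵒᵖ ⥤ AddCommGrpCat.{u} :=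
  (FormalCoproduct.evalOp (Opens X) AddCommGrpCat.{u}).obj F

noncomputable abbrev Y : CosimplicialObject AddCommGrpCat.{u} :=
  (FormalCoproduct.cosimplicialObjectFunctor (E U)).obj F

lemma map_comp_op {P Q R : FormalCoproduct.{u} (Opens X)} (f : P ⟶ Q) (g : Q ⟶ R) :
    (G F).map g.op ≫ (G F).map f.op = (G F).map (f ≫ g).op := by
  rw [op_comp, Functor.map_comp]

lemma map_comp_op_eq {P Q Q' R : FormalCoproduct.{u} (Opens X)} (f : P ⟶ Q) (g : Q ⟶ R)
    (f' : P ⟶ Q') (g' : Q' ⟶ R) (h : f ≫ g = f' ≫ g') :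
    (G F).map g.op ≫ (G F).map f.op = (G F).map g'.op ≫ (G F).map f'.op := by
  rw [map_comp_op, map_comp_op, h]

lemma map_comp_op_id {P Q : FormalCoproduct.{u} (Opens X)} (f : P ⟶ Q) (g : Q ⟶ P)
    (h : f ≫ g = 𝟙 _) :
    (G F).map g.op ≫ (G F).map f.op = 𝟙 _ := by
  rw [map_comp_op, h, op_id, CategoryTheory.Functor.map_id]

noncomputable def heq : HomotopyEquiv
    ((CochainComplex.single₀ AddCommGrpCat.{u}).obj ((G F).obj (op (T U))))
    ((cechComplexFunctor U).obj F) :=
  Cosimp.homotopyEquiv (Y F U) ((G F).obj (op (T U))) ((G F).map (aug U).op)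
    (map_comp_op_eq F _ _ _ _ (δ_aug U))
    ((G F).map (sec U i₀ hi).op) (fun n => (G F).map (sd U i₀ hi n).op)
    (map_comp_op_id F _ _ (sec_aug U i₀ hi))
    (map_comp_op_eq F _ _ _ _ (sd_zero_δ_one U i₀ hi))
    (fun n => map_comp_op_id F _ _ (sd_δ_zero U i₀ hi n))
    (fun n i => map_comp_op_eq F _ _ _ _ (sd_δ_succ U i₀ hi n i))

include hi in
theorem result' : Nonempty (HomotopyEquiv ((CochainComplex.single₀ AddCommGrpCat.{u}).obj (F.obj (op (iSup U))))
      ((cechComplexFunctor U).obj F)) := by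
  let e : (G F).obj (op (T U)) ≅ F.obj (op (iSup U)) :=
    ((FormalCoproduct.evalOpCompInlIsoId (Opens X) AddCommGrpCat.{u}).app F).app (op (iSup U))
  exact ⟨(HomotopyEquiv.ofIso ((CochainComplex.single₀ AddCommGrpCat.{u}).mapIso e.symm)).trans
    (heq F U i₀ hi)⟩

end B

end helpers

open TopologicalSpace Opposite CategoryTheory.Limits in
/-- Let F be a presheaf of abelian groups on a topological space X and (U_i)_{i ∈ ι} a family of open
subsets with union U such that U_i = U for some index i. Then the Čech complex of F with respect to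
the family (formed with all ordered tuples of indices) is homotopy equivalent to the complex
consisting of F(U) placed in degree 0. (The published statement phrases this as contractibility of
the extended Čech complex; stated here as a homotopy equivalence with F(U) in degree zero.) -/
theorem result {X : TopCat.{u}} (F : (Opens X)ᵒᵖ ⥤ AddCommGrpCat.{u})
    {ι : Type u} (U : ι → Opens X) (i : ι) (hi : U i = iSup U) :
    Nonempty (HomotopyEquiv ((CochainComplex.single₀ AddCommGrpCat.{u}).obj (F.obj (op (iSup U))))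
      ((cechComplexFunctor U).obj F)) := by
  exact result' F U i hi

end Groth.Agent.S0885
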