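import Groth.Statements.S0937
import Groth.Agent.Lib.Helper5.PushCech
import Groth.Agent.Lib.Helper22.ExtCompare
import Groth.Agent.Lib.Helper22.Cech.SiteLeray

set_option autoImplicit false
universe u
open CategoryTheory
open CohSite

namespace Groth.Agent.S0937

open CategoryTheory.Limits Opposite Abelian in
/-- The degree zero comparison datum. -/
noncomputable def deg0 {C D : Type u} [SmallCategory C] [SmallCategory D]
    (J : GrothendieckTopology C) (K : GrothendieckTopology D) (u : C ⥤ D)
    [u.IsContinuous J K] (U : C) :
    Groth.Agent.Lib.Helper22.ExtCompare.Deg0Iso (CohSite.push K J u)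
      (CohCx.freeSheaf K (u.obj U)) (CohCx.freeSheaf J U) where
  e G := (Ext.addEquiv₀.trans ((CohFree.homEquivSect K (u.obj U) G).trans
    (CohFree.homEquivSect J U ((CohSite.push K J u).obj G)).symm)).trans Ext.addEquiv₀.symm
  nat := by
    intro G G' g x
    obtain ⟨f, rfl⟩ := Ext.addEquiv₀.symm.surjective x
    simp only [AddEquiv.trans_apply, Ext.addEquiv₀_symm_apply, Ext.mk₀_comp_mk₀]
    have h0 : ∀ {𝒜 : Type (u + 1)} [Category.{u} 𝒜] [Abelian 𝒜] [HasExt.{u} 𝒜] {A B : 𝒜} (a : A ⟶ B),
        Ext.addEquiv₀ (Ext.mk₀ a) = a :=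
      fun a => Ext.addEquiv₀.apply_symm_apply a
    rw [h0, h0]
    congr 1
    apply (CohFree.homEquivSect J U ((CohSite.push K J u).obj G')).injective
    refine (AddEquiv.apply_symm_apply _ _).trans ?_
    refine Eq.trans ?_ (Groth.Agent.Lib.Helper22.Cech.Site.homEquivSect_naturality_right U _
      ((CohSite.push K J u).map g)).symm
    rw [Groth.Agent.Lib.Helper22.Cech.Site.homEquivSect_naturality_right]
    exact congrArg _ (AddEquiv.apply_symm_apply _ _).symm

open CategoryTheory.Limits in
lemma shortExact_map_push {C D : Type u} [SmallCategory C] [SmallCategory D]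
    (J : GrothendieckTopology C) (K : GrothendieckTopology D) (u : C ⥤ D)
    [u.IsContinuous J K] [u.IsCocontinuous J K]
    {S : ShortComplex (Sheaf K AddCommGrpCat.{u})} (hS : S.ShortExact) :
    (S.map (CohSite.push K J u)).ShortExact := by
  haveI : PreservesFiniteLimits (CohSite.push K J u) := by
    haveI := (u.sheafAdjunctionContinuous AddCommGrpCat.{u} J K).rightAdjoint_preservesLimits
    infer_instance
  haveI : PreservesFiniteColimits (CohSite.push K J u) := by
    haveI := (u.sheafAdjunctionCocontinuous AddCommGrpCat.{u} J K).leftAdjoint_preservesColimits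
    infer_instance
  exact hS.map_of_exact _

/-- Part (1), for a single abelian sheaf: let u : C -> D be a functor between sites which is continuous
(preserving coverings and commuting with fibre products, which exist in C) and cocontinuous, F an
abelian sheaf on D and U an object of C. Then H^p(U, g^{-1}F) ≅ H^p(u(U), F) for all p, where
g^{-1}F is the sheaf V ↦ F(u(V)). -/
theorem result {C D : Type u} [SmallCategory C] [SmallCategory D]
    [Limits.HasPullbacks C] (J : GrothendieckTopology C) (K : GrothendieckTopology D) (u : C ⥤ D)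
    [u.IsContinuous J K] (hu : CoverPreserving J K u) [Limits.PreservesLimitsOfShape Limits.WalkingCospan u]
    [u.IsCocontinuous J K]
    (F : Sheaf K AddCommGrpCat.{u}) (U : C) (p : ℕ) :
    Nonempty (CohSite.HU ((CohSite.push K J u).obj F) p U ≃+ CohSite.HU F p (u.obj U)) := by
  obtain ⟨e⟩ := Groth.Agent.Lib.Helper22.ExtCompare.nonempty_ext_addEquiv
    (deg0 J K u U) (fun _ => True)
    (fun G _ => shortExact_map_push J K u (Groth.Agent.Lib.Helper22.ExtCompare.injSC_shortExact G))
    (fun _ _ => trivial)
    (fun G _ n x => by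
      haveI := Groth.Agent.Lib.Helper5.PushCech.subsingleton_HU_succ_push u J K
        (Groth.Agent.Lib.Helper22.ExtCompare.injSC G).X₂ U n
      exact Subsingleton.elim (α := CohSite.HU ((CohSite.push K J u).obj
        (Groth.Agent.Lib.Helper22.ExtCompare.injSC G).X₂) (n + 1) U) x 0)
    p F trivial
  exact ⟨e.symm⟩

end Groth.Agent.S0937
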