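import Groth.Statements.S0894
import Mathlib

set_option autoImplicit false
universe u
open CategoryTheory
open Hyper

namespace Groth.Agent.S0894

open Opposite CategoryTheory.Limits in
/-- a split epimorphism of formal coproducts is a covering -/
lemma isSRCovering_of_section {D : Type u} [SmallCategory D] (JD : GrothendieckTopology D)
    {A B : FormalCoproduct.{u} D} (f : A ⟶ B) (s : B ⟶ A) (h : s ≫ f = 𝟙 B) :
    Hyper.IsSRCovering JD f := by
  intro j
  obtain ⟨h1, h2⟩ := (FormalCoproduct.hom_ext_iff' _ _).1 h j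
  have h1' : f.f (s.f j) = j := h1
  have h2' : s.φ j ≫ (f.φ (s.f j) ≫ eqToHom (congrArg B.obj h1')) = 𝟙 (B.obj j) := by
    rw [← Category.assoc]
    exact h2
  apply JD.covering_of_eq_top
  rw [← Sieve.id_mem_iff_eq_top]
  exact (Sieve.mem_ofArrows_iff _ _ _).2 ⟨⟨s.f j, h1'⟩, s.φ j, h2'.symm⟩

open Opposite in
/-- For a hypercovering K of an object X of a site with fibre products (a simplicial semi-representable
object over X; coskeleta are assumed to exist): (1) for each n the family K_n is a covering of X,
and (2) every face map d_i : K_{n+1} -> K_n is a covering morphism of semi-representable objects. -/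
theorem result {C : Type u} [SmallCategory C] [Limits.HasPullbacks C]
    (J : GrothendieckTopology C) (X : C) (K : SimplicialObject (Limits.FormalCoproduct.{u} (Over X)))
    [∀ (n : ℕ) (F : (SimplexCategory.Truncated n)ᵒᵖ ⥤ Limits.FormalCoproduct.{u} (Over X)),
      (SimplexCategory.Truncated.inclusion n).op.HasRightKanExtension F]
    (hK : Hyper.IsHypercovering J X K) :
    (∀ n : ℕ, Sieve.ofArrows (fun i => ((K.obj (op (SimplexCategory.mk n))).obj i).left)
      (fun i => ((K.obj (op (SimplexCategory.mk n))).obj i).hom) ∈ J X) ∧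
    ∀ (n : ℕ) (i : Fin (n + 2)), Hyper.IsSRCovering (J.over X) (K.δ i) := by
  refine ⟨fun n => ?_, fun n i => ?_⟩
  · let m : K.obj (op (SimplexCategory.mk 0)) ⟶ K.obj (op (SimplexCategory.mk n)) :=
      K.map (SimplexCategory.const (SimplexCategory.mk n) (SimplexCategory.mk 0) 0).op
    refine J.superset_covering ?_ hK.1
    intro W g hg
    obtain ⟨i₀, a, rfl⟩ := (Sieve.mem_ofArrows_iff _ _ _).1 hg
    exact (Sieve.mem_ofArrows_iff _ _ _).2 ⟨m.f i₀, a ≫ (m.φ i₀).left, by
      rw [Category.assoc, Over.w]⟩
  · by_cases hi : i = Fin.last (n + 1)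
    · subst hi
      refine isSRCovering_of_section _ _ (K.σ (Fin.last n)) ?_
      rw [← Fin.succ_last]
      exact SimplicialObject.δ_comp_σ_succ K
    · obtain ⟨i', rfl⟩ := Fin.exists_castSucc_eq.2 hi
      exact isSRCovering_of_section _ _ (K.σ i') (SimplicialObject.δ_comp_σ_self K)

end Groth.Agent.S0894
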