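import Groth.Statements.S0900
import Mathlib
import Groth.Agent.Lib.Helper17.RFRlim

set_option autoImplicit false
universe v u
open CategoryTheory
open CohDer

namespace Groth.Agent.S0900

open CategoryTheory.Limits in
/-- Let F : A -> B be an additive functor between abelian categories with A Grothendieck abelian, B
having exact countable products (here: ℕ-indexed products exist and preserve epimorphisms) and F
commuting with ℕ-indexed products. Then the total right derived functor RF : D(A) -> D(B) (whose
existence is assumed as an instance argument; it exists because A has enough K-injective complexes)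
sends a derived limit of an inverse system (K_n) to a derived limit of (RF K_n). The relevant
countable products in the derived categories are assumed to exist. -/
theorem result {A : Type u} [Category.{v} A] [Abelian A] [IsGrothendieckAbelian.{v} A]
    [HasDerivedCategory.{v} A] {B : Type u} [Category.{v} B] [Abelian B] [HasDerivedCategory.{v} B]
    [HasProductsOfShape ℕ B] [(lim : (Discrete ℕ ⥤ B) ⥤ B).PreservesEpimorphisms]
    (F : A ⥤ B) [F.Additive] [PreservesLimitsOfShape (Discrete ℕ) F]
    [(F.mapHomotopyCategory (ComplexShape.up ℤ) ⋙ DerivedCategory.Qh).HasRightDerivedFunctor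
      (HomotopyCategory.quasiIso A (ComplexShape.up ℤ))]
    (K : ℕ → DerivedCategory A) (t : ∀ n, K (n + 1) ⟶ K n) (L : DerivedCategory A) [HasProduct K]
    [HasProduct fun n => ((F.mapHomotopyCategory (ComplexShape.up ℤ) ⋙ DerivedCategory.Qh).totalRightDerived
      DerivedCategory.Qh (HomotopyCategory.quasiIso A (ComplexShape.up ℤ))).obj (K n)]
    (hL : DCoh.IsRlim K t L) :
    DCoh.IsRlim
      (fun n => ((F.mapHomotopyCategory (ComplexShape.up ℤ) ⋙ DerivedCategory.Qh).totalRightDerived
        DerivedCategory.Qh (HomotopyCategory.quasiIso A (ComplexShape.up ℤ))).obj (K n))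
      (fun n => ((F.mapHomotopyCategory (ComplexShape.up ℤ) ⋙ DerivedCategory.Qh).totalRightDerived
        DerivedCategory.Qh (HomotopyCategory.quasiIso A (ComplexShape.up ℤ))).map (t n))
      (((F.mapHomotopyCategory (ComplexShape.up ℤ) ⋙ DerivedCategory.Qh).totalRightDerived
        DerivedCategory.Qh (HomotopyCategory.quasiIso A (ComplexShape.up ℤ))).obj L) := by
  classical
  have hres : Groth.Agent.Lib.Helper17.DerKInj.HasKInjRes A :=
    Groth.Agent.Lib.Helper17.DerKInj.hasKInjRes_of_isGrothendieckAbelian
  haveI : Limits.HasLimitsOfSize.{0, 0} A := Limits.hasLimitsOfSizeShrink.{0, 0, v, v} A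
  haveI : Limits.HasProductsOfShape ℕ A := inferInstance
  haveI : (Limits.lim : (Discrete ℕ ⥤ B) ⥤ B).Additive :=
    Functor.additive_of_preserves_binary_products _
  haveI : (Limits.lim : (Discrete ℕ ⥤ B) ⥤ B).PreservesHomology :=
    Functor.preservesHomology_of_preservesEpis_and_kernels _
  haveI : Limits.PreservesFiniteColimits (Limits.lim : (Discrete ℕ ⥤ B) ⥤ B) :=
    Functor.preservesFiniteColimits_of_preservesHomology _
  haveI : CategoryTheory.HasExactLimitsOfShape (Discrete ℕ) B := ⟨inferInstance⟩
  obtain ⟨a, c, h⟩ := hL
  exact Groth.Agent.Lib.Helper17.RFRlim.exists_rlim_triangle_RF F hres K t L a c h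

end Groth.Agent.S0900
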