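import Groth.Statements.S0905
import Mathlib

set_option autoImplicit false
universe u
open CategoryTheory
open CohSite

namespace Groth.Agent.S0905

section helpers

open Opposite CategoryTheory.Limits

variable {C : Type u} [SmallCategory C] (J : GrothendieckTopology C)

/-- sections over a weakly contractible object preserve epis -/
theorem surj_of_epi (U : C) (hU : CohSite.IsWeaklyContractible J U)
    {F G : Sheaf J AddCommGrpCat.{u}} (e : F ⟶ G) [Epi e] :
    Function.Surjective (e.hom.app (op U)) := by
  have h1 : Sheaf.IsLocallySurjective e :=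
    (Sheaf.isLocallySurjective_iff_epi' (φ := e)).2 inferInstance
  have h2 : Sheaf.IsLocallySurjective ((sheafCompose J (forget AddCommGrpCat.{u})).map e) :=
    inferInstance
  have h3 : Epi ((sheafCompose J (forget AddCommGrpCat.{u})).map e) := inferInstance
  exact hU _ _ _ h3

/-- the free abelian sheaf on a representable presheaf -/
noncomputable abbrev freeSheaf (U : C) : Sheaf J AddCommGrpCat.{u} :=
  (presheafToSheaf J _).obj
    ((yoneda ⋙ (Functor.whiskeringRight _ _ _).obj AddCommGrpCat.free).obj U)

/-- `Hom(ℤ_U, F) ≃ F(U)` -/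
noncomputable def homEquiv (U : C) (F : Sheaf J AddCommGrpCat.{u}) :
    (freeSheaf J U ⟶ F) ≃ F.obj.obj (op U) :=
  ((sheafificationAdjunction J AddCommGrpCat.{u}).homEquiv _ F).trans <|
  ((Adjunction.whiskerRight Cᵒᵖ AddCommGrpCat.adj).homEquiv (yoneda.obj U) F.obj).trans yonedaEquiv

theorem homEquiv_comp (U : C) {F G : Sheaf J AddCommGrpCat.{u}} (f : freeSheaf J U ⟶ F)
    (e : F ⟶ G) :
    homEquiv J U G (f ≫ e) = e.hom.app (op U) (homEquiv J U F f) := by
  unfold homEquiv
  simp only [Equiv.trans_apply]
  rw [Adjunction.homEquiv_naturality_right, Adjunction.homEquiv_naturality_right, yonedaEquiv_comp]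
  rfl

theorem projective_freeSheaf (U : C) (hU : CohSite.IsWeaklyContractible J U) :
    Projective (freeSheaf J U) := by
  refine ⟨fun {F G} f e _ => ?_⟩
  obtain ⟨s, hs⟩ := surj_of_epi J U hU e (homEquiv J U G f)
  refine ⟨(homEquiv J U F).symm s, ?_⟩
  apply (homEquiv J U G).injective
  rw [homEquiv_comp, Equiv.apply_symm_apply, hs]

end helpers

open Opposite CategoryTheory.Limits in
/-- Parts (1) and (2), for a weakly contractible object U of a site (one over which every epimorphism of
sheaves of sets is surjective on sections): (1) the functor F ↦ F(U) from abelian sheaves to abelian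
groups preserves finite colimits (it is exact, finite limits being automatic), and (2) H^p(U, F) = 0
for every abelian sheaf F and every p > 0. (Part (3) about torsors is not included.) -/
theorem result {C : Type u} [SmallCategory C] (J : GrothendieckTopology C)
    (U : C) (hU : CohSite.IsWeaklyContractible J U) :
    PreservesFiniteColimits (sheafToPresheaf J AddCommGrpCat.{u} ⋙ (evaluation Cᵒᵖ AddCommGrpCat.{u}).obj (op U)) ∧
    ∀ (F : Sheaf J AddCommGrpCat.{u}) (p : ℕ), Subsingleton (CohSite.HU F (p + 1) U) := by
  constructor
  · rw [Functor.preservesFiniteColimits_iff_forall_exact_map_and_epi]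
    intro S hS
    have hlim : PreservesFiniteLimits
        (sheafToPresheaf J AddCommGrpCat.{u} ⋙ (evaluation Cᵒᵖ AddCommGrpCat.{u}).obj (op U)) :=
      inferInstance
    refine ⟨((Functor.preservesFiniteLimits_iff_forall_exact_map_and_mono _).1 hlim S hS).1, ?_⟩
    have := hS.epi_g
    rw [AddCommGrpCat.epi_iff_surjective]
    exact surj_of_epi J U hU S.g
  · intro F p
    have := projective_freeSheaf J U hU
    change Subsingleton (Abelian.Ext (freeSheaf J U) F (p + 1))
    exact subsingleton_of_forall_eq 0 fun x => Abelian.Ext.eq_zero_of_projective x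

end Groth.Agent.S0905
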