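import Groth.Statements.S0912
import Mathlib
import Groth.Agent.Lib.Helper28.LTensorModComp
import Groth.Agent.Lib.Helper28.KFlatSite11

set_option autoImplicit false
universe u
open CategoryTheory
attribute [local instance] HasDerivedCategory.standard
open DCoh

namespace Groth.Agent.S0912

open AlgebraicGeometry in
/-- For E in D(O_X) and integers a ≤ b, E has tor-amplitude in [a, b] (all H^i(E ⊗^L F), F an
O_X-module, vanish for i outside [a, b]; derived tensor products under their existence binder) if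
and only if E is represented by a complex of flat O_X-modules which is zero outside [a, b]. The
existence of the derived tensor product – ⊗^L G for every O_X-module G is assumed (hypothesis hL). -/
theorem result {X : Scheme.{u}} (E : DCoh.D X) (a b : ℤ) (hab : a ≤ b)
    (hL : ∀ G : X.Modules, DCoh.HasLTensorMod G) :
    DCoh.HasTorAmplitudeIn a b E ↔ DCoh.HasFlatAmplitudeIn a b E := by
  constructor
  swap
  · exact Groth.Agent.Lib.Helper28.LTensorModComp.hasTorAmplitudeIn_of_hasFlatAmplitudeIn E a b
  intro h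
  -- transport of tor amplitude along isomorphisms
  have htr : ∀ (K : CochainComplex X.Modules ℤ), (DCoh.toD X K ≅ E) → DCoh.IsKFlat K →
      ∀ (G : X.Modules) (i : ℤ), (i < a ∨ b < i) →
        Limits.IsZero ((((DCoh.tensorRightMod G).mapHomologicalComplex (ComplexShape.up ℤ)).obj
          K).homology i) := by
    intro K e hK G i hi
    have := hL G
    have e1 : DCoh.HD ((DCoh.LTensorMod G).obj (DCoh.toD X K)) i ≅
        DCoh.HD ((DCoh.LTensorMod G).obj E) i :=
      (DerivedCategory.homologyFunctor X.Modules i).mapIso ((DCoh.LTensorMod G).mapIso e)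
    exact (h G i hi).of_iso
      ((Groth.Agent.Lib.Helper28.LTensorModComp.HDLTensorModIso G K hK i).symm ≪≫ e1)
  have htr' : ∀ (K : CochainComplex X.Modules ℤ), (DCoh.toD X K ≅ E) → DCoh.IsKFlat K →
      ∀ (i : ℤ), (i < a ∨ b < i) → Limits.IsZero (K.homology i) := by
    intro K e hK i hi
    have h1 := htr K e hK (ModSite.unit X.sheaf) i hi
    exact h1.of_iso ((HomologicalComplex.homologyFunctor _ _ i).mapIso
      (Groth.Agent.Lib.Helper28.KFlatSite.tensorUnitCxIso (O := X.sheaf) K)).symm
  -- a K-flat representative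
  obtain ⟨P0, p0, hPK, -, hp0, -⟩ :=
    Groth.Agent.Lib.Helper28.KFlatSite.exists_kflat_resolution (O := X.sheaf)
      (DerivedCategory.Q.objPreimage E)
  let P : CochainComplex X.Modules ℤ := P0
  have hPK' : DCoh.IsKFlat P := hPK
  let p : P ⟶ DerivedCategory.Q.objPreimage E := p0
  have hp : QuasiIso p := hp0
  have hi : IsIso (DerivedCategory.Q.map p) := by
    rw [DerivedCategory.isIso_Q_map_iff_quasiIso]
    exact hp
  have eP : DCoh.toD X P ≅ E :=
    @asIso _ _ _ _ (DerivedCategory.Q.map p) hi ≪≫ DerivedCategory.Q.objObjPreimageIso E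
  have hPH := htr' P eP hPK'
  have hPle : P.IsLE b := by
    rw [CochainComplex.isLE_iff]
    intro i hi
    rw [HomologicalComplex.exactAt_iff_isZero_homology]
    exact hPH i (Or.inr hi)
  -- bounded above flat resolution
  obtain ⟨Q0, β0, hQb, hQfl, hβ0⟩ :=
    Groth.Agent.Lib.Helper28.KFlatSite.exists_flat_resolution_of_isLE (O := X.sheaf) P0 b hPle
  let Q : CochainComplex X.Modules ℤ := Q0
  let β : Q ⟶ P := β0
  have hβ : QuasiIso β := hβ0
  have hQK : DCoh.IsKFlat Q :=
    Groth.Agent.Lib.Helper28.KFlatSite.isKFlat_of_isStrictlyLE (O := X.sheaf) Q0 b hQb hQfl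
  have hi2 : IsIso (DerivedCategory.Q.map β) := by
    rw [DerivedCategory.isIso_Q_map_iff_quasiIso]
    exact hβ
  have eQ : DCoh.toD X Q ≅ E := @asIso _ _ _ _ (DerivedCategory.Q.map β) hi2 ≪≫ eP
  have hQH := htr' Q eQ hQK
  have hQge : Q.IsGE a := by
    rw [CochainComplex.isGE_iff]
    intro i hi
    rw [HomologicalComplex.exactAt_iff_isZero_homology]
    exact hQH i (Or.inl hi)
  -- the cokernel is flat
  have hc : ModSite.IsFlat (O := X.sheaf) (Limits.cokernel (Q0.d (a - 1) a)) := by
    refine Groth.Agent.Lib.Helper28.KFlatSite.isFlat_cokernel_d (O := X.sheaf) Q0 (a - 1 - 1) (a - 1) a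
      (hQfl a) ?_
    intro G
    have hz' := htr Q eQ hQK G (a - 1) (Or.inl (by omega))
    rw [← HomologicalComplex.exactAt_iff_isZero_homology,
      HomologicalComplex.exactAt_iff' _ (a - 1 - 1) (a - 1) a (by simp) (by simp)] at hz'
    exact hz'
  obtain ⟨hv, hfl⟩ :=
    Groth.Agent.Lib.Helper28.KFlatSite.truncGE_flat (O := X.sheaf) Q0 a b hab hQb hQfl hc
  have hi3 : IsIso (DerivedCategory.Q.map (Q.πTruncGE a)) := by
    rw [DerivedCategory.isIso_Q_map_iff_quasiIso]
    infer_instance
  refine ⟨Q.truncGE a, hv, fun i => (Groth.Agent.Lib.Helper17.FlatBridge.isFlat_iff _).2 (hfl i),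
    ⟨(@asIso _ _ _ _ (DerivedCategory.Q.map (Q.πTruncGE a)) hi3).symm ≪≫ eQ⟩⟩

end Groth.Agent.S0912
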