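import Groth.Statements.S0914
import Mathlib
import Groth.Agent.Lib.Helper28.DCohRes24

set_option autoImplicit false
universe u
open CategoryTheory
attribute [local instance] HasDerivedCategory.standard
open DCoh

namespace Groth.Agent.S0914

open AlgebraicGeometry in
/-- An object E of D(O_X) is perfect if and only if it is m-pseudo-coherent for every m and locally has
finite tor dimension. -/
theorem result {X : Scheme.{u}} (E : DCoh.D X) :
    DCoh.IsPerfect E ↔ (∀ m : ℤ, DCoh.IsPseudoCoherentD m E) ∧ DCoh.LocHasFiniteTorDim E := by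
  open Groth.Agent.Lib.Helper28.DCohRes in
  constructor
  · intro h
    refine ⟨fun m => isPseudoCoherentD_of_isPerfect h m, fun x => ?_⟩
    obtain ⟨V, hxV, hV⟩ := h x
    obtain ⟨P₀, ⟨⟨a, b, hab⟩, hfree⟩, ⟨e₀⟩⟩ := hV (DerivedCategory.Q.objPreimage E)
      ⟨DerivedCategory.Q.objObjPreimageIso E⟩
    refine ⟨V, a, b, hxV, fun F' hF' => ?_⟩
    obtain ⟨eF'⟩ := hF'
    refine ⟨P₀, hab, fun i => isFlat_of_isFinLocFree (hfree i), ⟨?_⟩⟩
    exact e₀.symm ≪≫ ((resDQ V.ι).app _).symm ≪≫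
      (resD V.ι).mapIso (DerivedCategory.Q.objObjPreimageIso E) ≪≫
      (resD V.ι).mapIso eF'.symm ≪≫ (resDQ V.ι).app F'
  · rintro ⟨hpc, htor⟩
    refine isPerfect_of_locally fun x => ?_
    obtain ⟨V, a, b, hxV, hV⟩ := htor x
    obtain ⟨G, hG, hGflat, ⟨eG⟩⟩ := hV (DerivedCategory.Q.objPreimage E)
      ⟨DerivedCategory.Q.objObjPreimageIso E⟩
    refine ⟨V, V.ι, inferInstance, by rw [Scheme.Opens.range_ι]; exact hxV, ?_⟩
    refine isPerfect_of_flat_of_isPseudoCoherentD G a b hG hGflat ?_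
      (isPseudoCoherentD_resD (hpc (a - 1)) V.ι)
    exact eG ≪≫ ((resDQ V.ι).app _).symm ≪≫
      (resD V.ι).mapIso (DerivedCategory.Q.objObjPreimageIso E)

end Groth.Agent.S0914
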