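import Groth.Statements.S0916
import Mathlib
import Groth.Agent.Lib.Helper28.LTensorModComp
import Groth.Agent.Lib.Helper28.KFlatSite10

set_option autoImplicit false
universe u
open CategoryTheory
attribute [local instance] HasDerivedCategory.standard
open DCoh

namespace Groth.Agent.S0916

open AlgebraicGeometry CategoryTheory.Limits in
/-- Flatness of an O_X-module F (all stalks flat) is equivalent to the following Tor-vanishing: for
every O_X-module G the sheaf Tor_1(F, G), i.e. H^{-1} of F ⊗^L G, vanishes; the existence of the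
derived tensor product with every G is assumed (hypothesis hL). -/
theorem result {X : Scheme.{u}} (F : X.Modules) (hL : ∀ G : X.Modules, DCoh.HasLTensorMod G) :
    FlatMod.IsFlat F ↔ ∀ (G : X.Modules) [DCoh.HasLTensorMod G],
      IsZero (DCoh.HD ((DCoh.LTensorMod G).obj (DCoh.inD X F)) (-1)) := by
  constructor
  · intro hF G _
    have hF' := (Groth.Agent.Lib.Helper17.FlatBridge.isFlat_iff F).1 hF
    have hK : DCoh.IsKFlat ((HomologicalComplex.single X.Modules (ComplexShape.up ℤ) 0).obj F) :=
      Groth.Agent.Lib.Helper28.KFlatSite.isKFlat_single (O := X.sheaf) F hF' 0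
    refine IsZero.of_iso ?_
      (Groth.Agent.Lib.Helper28.LTensorModComp.HDLTensorModIso G _ hK (-1))
    rw [← HomologicalComplex.exactAt_iff_isZero_homology]
    apply ShortComplex.exact_of_isZero_X₂
    apply (DCoh.tensorRightMod G).map_isZero
    exact HomologicalComplex.isZero_single_obj_X (ComplexShape.up ℤ) 0 F (-1) (by decide)
  · intro h
    obtain ⟨Q0, α0, hQ, hfl, _, hα0⟩ :=
      Groth.Agent.Lib.Helper28.KFlatSite.exists_flat_resolution_single (O := X.sheaf) F
    rw [Groth.Agent.Lib.Helper17.FlatBridge.isFlat_iff]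
    refine Groth.Agent.Lib.Helper28.KFlatSite.isFlat_of_resolution (O := X.sheaf) F Q0 α0 hQ (hfl 0)
      hα0 ?_
    intro G
    have := hL G
    let Q : CochainComplex X.Modules ℤ := Q0
    let α : Q ⟶ (HomologicalComplex.single X.Modules (ComplexShape.up ℤ) 0).obj F := α0
    have hα : QuasiIso α := hα0
    have hK : DCoh.IsKFlat Q :=
      Groth.Agent.Lib.Helper28.KFlatSite.isKFlat_of_isStrictlyLE (O := X.sheaf) Q0 0 hQ hfl
    have hz := h G
    have hi : IsIso (DerivedCategory.Q.map α) := by
      rw [DerivedCategory.isIso_Q_map_iff_quasiIso]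
      exact hα
    have e0 : DCoh.toD X Q ≅ DCoh.inD X F := @asIso _ _ _ _ (DerivedCategory.Q.map α) hi
    have e1 : DCoh.HD ((DCoh.LTensorMod G).obj (DCoh.toD X Q)) (-1) ≅
        DCoh.HD ((DCoh.LTensorMod G).obj (DCoh.inD X F)) (-1) :=
      (DerivedCategory.homologyFunctor X.Modules (-1)).mapIso ((DCoh.LTensorMod G).mapIso e0)
    have hz' : IsZero ((((DCoh.tensorRightMod G).mapHomologicalComplex (ComplexShape.up ℤ)).obj
        Q).homology (-1)) :=
      hz.of_iso ((Groth.Agent.Lib.Helper28.LTensorModComp.HDLTensorModIso G Q hK (-1)).symm ≪≫ e1)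
    rw [← HomologicalComplex.exactAt_iff_isZero_homology,
      HomologicalComplex.exactAt_iff' _ (-2) (-1) 0 (by simp) (by simp)] at hz'
    exact hz'

end Groth.Agent.S0916
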