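import Groth.Statements.S0919
import Mathlib

set_option autoImplicit false
universe v u
open CategoryTheory
open CohDer

namespace Groth.Agent.S0919

open CategoryTheory.Limits in
/-- Let A be a Grothendieck abelian category and F a contravariant functor from A to sets (a functor on
the opposite category). Then F is representable if and only if F turns all small colimits of A into
limits, i.e. preserves small limits as a functor on the opposite category. -/
theorem result {A : Type u} [Category.{v} A] [Abelian A]
    [IsGrothendieckAbelian.{v} A] (F : Aᵒᵖ ⥤ Type v) :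
    F.IsRepresentable ↔ PreservesLimitsOfSize.{v, v} F := by
  constructor
  · intro h
    obtain ⟨X, ⟨e⟩⟩ := h.has_representation
    exact preservesLimits_of_natIso e.toIso
  · intro h
    obtain ⟨G, hG⟩ : ∃ G : A, IsSeparator G := HasSeparator.hasSeparator
    have hcosep : IsCoseparator (Opposite.op G) := (isCoseparator_op_iff G).2 hG
    have hRA : F.IsRightAdjoint :=
      isRightAdjoint_of_preservesLimits_of_isCoseparating (P := .singleton (Opposite.op G)) hcosep F
    let adj : F.leftAdjoint ⊣ F := Adjunction.ofIsRightAdjoint F
    have e1 : (F ⋙ coyoneda.obj (Opposite.op PUnit)).CorepresentableBy (F.leftAdjoint.obj PUnit) :=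
      adj.corepresentableBy PUnit
    have e2 : F.CorepresentableBy (F.leftAdjoint.obj PUnit) :=
      e1.ofIso (Functor.isoWhiskerLeft F Coyoneda.punitIso ≪≫ F.rightUnitor)
    refine ⟨(F.leftAdjoint.obj PUnit).unop, ⟨?_⟩⟩
    exact
      { homEquiv := fun {Y} => (opEquiv (F.leftAdjoint.obj PUnit) (Opposite.op Y)).symm.trans e2.homEquiv
        homEquiv_comp := fun {Y Y'} f g => by
          simp only [Equiv.trans_apply]
          have := e2.homEquiv_comp f.op ((opEquiv (F.leftAdjoint.obj PUnit) (Opposite.op Y')).symm g)
          rw [← this]
          rfl }

end Groth.Agent.S0919
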