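import Groth.Statements.S0930
import Groth.Agent.Lib.Helper8.RDPlusComp
import Mathlib.CategoryTheory.Limits.Constructions.EpiMono

set_option autoImplicit false
universe u
open CategoryTheory
attribute [local instance] HasDerivedCategory.standard
open CohTop

namespace Groth.Agent.S0930

open CategoryTheory.Limits TopologicalSpace

set_option maxSynthPendingDepth 3

set_option synthInstance.maxHeartbeats 400000 in
noncomputable instance lanFL {X Y : TopCat.{u}} (f : X ⟶ Y) :
    PreservesFiniteLimits ((Opens.map f).op.lan : (_ ⥤ _ ⥤ AddCommGrpCat.{u})) :=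
  inferInstance

noncomputable instance presFL {X Y : TopCat.{u}} (f : X ⟶ Y) :
    PreservesFiniteLimits (TopCat.Sheaf.pullback AddCommGrpCat.{u} f) :=
  Functor.sheafPullbackConstruction.preservesFiniteLimits (Opens.map f) AddCommGrpCat.{u}
    (Opens.grothendieckTopology Y) (Opens.grothendieckTopology X)

instance pushPresInj {X Y : TopCat.{u}} (f : X ⟶ Y) :
    (CohTop.push f).PreservesInjectiveObjects := by
  have adj := TopCat.Sheaf.pullbackPushforwardAdjunction AddCommGrpCat.{u} f
  have h1 : PreservesFiniteLimits (TopCat.Sheaf.pullback AddCommGrpCat.{u} f) := presFL f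
  have h2 : (TopCat.Sheaf.pullback AddCommGrpCat.{u} f).PreservesMonomorphisms :=
    preservesMonomorphisms_of_preservesLimitsOfShape _
  exact @Functor.preservesInjectiveObjects_of_adjunction_of_preservesMonomorphisms _ _ _ _ _ _
    adj h2

/-- For continuous maps f : X -> Y and g : Y -> Z, the composite of the right derived functors Rf_* :
D^+(X) -> D^+(Y) and Rg_* : D^+(Y) -> D^+(Z) is isomorphic to R(g ∘ f)_* (existence of an
isomorphism of functors between bounded below derived categories). -/
theorem result {X Y Z : TopCat.{u}} (f : X ⟶ Y) (g : Y ⟶ Z) :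
    Nonempty ((CohTop.push f).rightDerivedFunctorPlus ⋙ (CohTop.push g).rightDerivedFunctorPlus ≅
      (CohTop.push (f ≫ g)).rightDerivedFunctorPlus) :=
  ⟨Groth.Agent.Lib.Helper8.RDPlus.rightDerivedFunctorPlusCompIso (CohTop.push f) (CohTop.push g)⟩

end Groth.Agent.S0930
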