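import Groth.Statements.S0947
import Groth.Agent.Lib.Helper5.SubspaceColim

set_option autoImplicit false
universe u
open CategoryTheory
open CohTop

namespace Groth.Agent.S0947

open Groth.Agent.Lib.Helper5.SubspaceSect in
/-- the system of quasi-compact open neighbourhoods of a quasi-compact subset -/
noncomputable def sysE {X : TopCat.{u}} [SpectralSpace X] (E : Set X) (hE : IsCompact E) :
    Sys X where
  𝒩 := {U | E ⊆ (U : Set X) ∧ IsCompact (U : Set X)}
  compact := fun _ hU => hU.2
  inf_mem := fun U₁ h₁ U₂ h₂ => ⟨Set.subset_inter h₁.1 h₂.1,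
    QuasiSeparatedSpace.inter_isCompact _ _ U₁.2 h₁.2 U₂.2 h₂.2⟩
  top_mem := ⟨Set.subset_univ _, isCompact_univ⟩
  Z := {x : X | ∃ e ∈ E, e ∈ closure {x}}
  mem_Z := fun x => by
    refine (Groth.Agent.Lib.Helper5.SpectralInter.mem_generalizations_iff E hE x).trans ?_
    constructor
    · intro h U hU
      exact h (U : Set X) U.2 hU.2 hU.1
    · intro h U hUo hUc hEU
      exact h ⟨U, hUo⟩ ⟨hEU, hUc⟩

open TopologicalSpace Opposite CategoryTheory.Limits in
/-- Let X be a spectral space, F an abelian sheaf on X, E ⊆ X a quasi-compact subset and W the set of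
points of X specializing to some point of E. Then for every p the group H^p(W, F|_W) (cohomology of
the pullback of F to the subspace W) is isomorphic to the colimit of the groups H^p(U, F) over the
quasi-compact open neighbourhoods U of E (existence of an isomorphism). -/
theorem result {X : TopCat.{u}} [SpectralSpace X] (E : Set X)
    (hE : IsCompact E) (F : CohTop.Ab X) (p : ℕ) :
    Nonempty ((colimit (ObjectProperty.ι (fun U : (Opens X)ᵒᵖ => E ⊆ (U.unop : Set X) ∧ IsCompact (U.unop : Set X)) ⋙
        (Sheaf.cohomologyPresheafFunctor (Opens.grothendieckTopology X) p).obj F) : AddCommGrpCat.{u}) ≃+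
      CohTop.H ((CohTop.pull (TopCat.ofHom ⟨Subtype.val, continuous_subtype_val⟩ :
        TopCat.of {x : X | ∃ e ∈ E, e ∈ closure {x}} ⟶ X)).obj F) p) := by
  exact Groth.Agent.Lib.Helper5.SubspaceColim.nonempty_addEquiv (sysE E hE)
    (fun U : (TopologicalSpace.Opens X)ᵒᵖ => E ⊆ (U.unop : Set X) ∧ IsCompact (U.unop : Set X))
    (fun _ => Iff.rfl) F p

end Groth.Agent.S0947
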