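import Groth.Statements.S0963
import Mathlib
import Groth.Agent.Lib.Helper28.LTensorModTri

set_option autoImplicit false
universe u
open CategoryTheory
attribute [local instance] HasDerivedCategory.standard
open DCoh

namespace Groth.Agent.S0963

open AlgebraicGeometry CategoryTheory.Pretriangulated in
/-- Schemes; hypotheses in the flat-representative form of tor-amplitude, conclusions in the
derived-tensor form: for a distinguished triangle K -> L -> M -> K[1] in D(O_X) and integers a, b: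
(1) tor-amplitude of K in [a+1, b+1] and of L in [a, b] give tor-amplitude of M in [a, b]; (2)
tor-amplitude of K and of M in [a, b] give the same for L; (3) tor-amplitude of L in [a+1, b+1] and
of M in [a, b] give tor-amplitude of K in [a+1, b+1]. -/
theorem result {X : Scheme.{u}} (T : Triangle (DCoh.D X)) (hT : T ∈ distinguishedTriangles)
    (a b : ℤ) :
    (DCoh.HasFlatAmplitudeIn (a + 1) (b + 1) T.obj₁ → DCoh.HasFlatAmplitudeIn a b T.obj₂ →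
      DCoh.HasTorAmplitudeIn a b T.obj₃) ∧
    (DCoh.HasFlatAmplitudeIn a b T.obj₁ → DCoh.HasFlatAmplitudeIn a b T.obj₃ → DCoh.HasTorAmplitudeIn a b T.obj₂) ∧
    (DCoh.HasFlatAmplitudeIn (a + 1) (b + 1) T.obj₂ → DCoh.HasFlatAmplitudeIn a b T.obj₃ →
      DCoh.HasTorAmplitudeIn (a + 1) (b + 1) T.obj₁) := by
  -- the key consequence of the long exact sequence
  have key : ∀ (T : Triangle (DCoh.D X)), T ∈ distinguishedTriangles →
      ∀ (E₁ E₂ : CochainComplex X.Modules ℤ) (a₁ b₁ a₂ b₂ : ℤ),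
      DCoh.VanishesOutside E₁ a₁ b₁ → (∀ i : ℤ, FlatMod.IsFlat (E₁.X i)) →
      (DCoh.toD X E₁ ≅ T.obj₁) →
      DCoh.VanishesOutside E₂ a₂ b₂ → (∀ i : ℤ, FlatMod.IsFlat (E₂.X i)) →
      (DCoh.toD X E₂ ≅ T.obj₂) →
      ∀ (a b : ℤ), (∀ i : ℤ, (i < a ∨ b < i) → (i + 1 < a₁ ∨ b₁ < i + 1)) →
      (∀ i : ℤ, (i < a ∨ b < i) → (i < a₂ ∨ b₂ < i)) → DCoh.HasTorAmplitudeIn a b T.obj₃ := by
    intro T hT E₁ E₂ a₁ b₁ a₂ b₂ hv₁ hfl₁ e₁ hv₂ hfl₂ e₂ a b hab₁ hab₂ G _ i hi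
    have hK₁ := Groth.Agent.Lib.Helper28.LTensorModComp.isKFlat_of_vanishesOutside E₁ a₁ b₁ hv₁ hfl₁
    have hK₂ := Groth.Agent.Lib.Helper28.LTensorModComp.isKFlat_of_vanishesOutside E₂ a₂ b₂ hv₂ hfl₂
    refine Groth.Agent.Lib.Helper28.LTensorModTri.isZero_HD_obj₃ T hT E₁ E₂ hK₁ hK₂ e₁ e₂ G i ?_ ?_
    · rw [← HomologicalComplex.exactAt_iff_isZero_homology]
      apply ShortComplex.exact_of_isZero_X₂
      exact (DCoh.tensorRightMod G).map_isZero (hv₁ (i + 1) (hab₁ i hi))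
    · rw [← HomologicalComplex.exactAt_iff_isZero_homology]
      apply ShortComplex.exact_of_isZero_X₂
      exact (DCoh.tensorRightMod G).map_isZero (hv₂ i (hab₂ i hi))
  -- shifting a flat representative by `-1`
  have shift : ∀ (K : DCoh.D X) (a b : ℤ), DCoh.HasFlatAmplitudeIn a b K →
      ∃ E : CochainComplex X.Modules ℤ, DCoh.VanishesOutside E (a + 1) (b + 1) ∧
        (∀ i : ℤ, FlatMod.IsFlat (E.X i)) ∧ Nonempty (DCoh.toD X E ≅ K⟦(-1 : ℤ)⟧) := by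
    rintro K a b ⟨E, hv, hfl, ⟨e⟩⟩
    refine ⟨E⟦(-1 : ℤ)⟧, ?_, ?_, ⟨(DerivedCategory.Q.commShiftIso (-1 : ℤ)).app E ≪≫
      (shiftFunctor (DCoh.D X) (-1 : ℤ)).mapIso e⟩⟩
    · intro i hi
      exact hv (i + (-1)) (by omega)
    · intro i
      exact hfl (i + (-1))
  refine ⟨?_, ?_, ?_⟩
  · rintro ⟨E₁, hv₁, hfl₁, ⟨e₁⟩⟩ ⟨E₂, hv₂, hfl₂, ⟨e₂⟩⟩
    exact key T hT E₁ E₂ _ _ _ _ hv₁ hfl₁ e₁ hv₂ hfl₂ e₂ a b (fun i hi => by omega)
      (fun i hi => by omega)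
  · intro h₁ h₃
    obtain ⟨E₃, hv₃, hfl₃, ⟨e₃⟩⟩ := shift _ a b h₃
    obtain ⟨E₁, hv₁, hfl₁, ⟨e₁⟩⟩ := h₁
    exact key T.invRotate (inv_rot_of_distTriang T hT) E₃ E₁ _ _ _ _ hv₃ hfl₃ e₃ hv₁ hfl₁ e₁ a b
      (fun i hi => by omega) (fun i hi => by omega)
  · intro h₂ h₃
    obtain ⟨E₃, hv₃, hfl₃, ⟨e₃⟩⟩ := shift _ a b h₃
    obtain ⟨E₂, hv₂, hfl₂, ⟨e₂⟩⟩ := shift _ (a + 1) (b + 1) h₂
    exact key T.invRotate.invRotate
      (inv_rot_of_distTriang _ (inv_rot_of_distTriang T hT)) E₂ E₃ _ _ _ _ hv₂ hfl₂ e₂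
      hv₃ hfl₃ e₃ (a + 1) (b + 1) (fun i hi => by omega) (fun i hi => by omega)

end Groth.Agent.S0963
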