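import Groth.Statements.S0968
import Mathlib
import Groth.Agent.Lib.Helper28.LTensorModComp
import Groth.Agent.Lib.Helper28.KFlatSite9
import Groth.Agent.Lib.Helper28.KFlatSite3

set_option autoImplicit false
universe u
open CategoryTheory
attribute [local instance] HasDerivedCategory.standard
open DCoh

namespace Groth.Agent.S0968

open AlgebraicGeometry CategoryTheory.Limits in
/-- For a bounded above complex E of flat O_X-modules whose image in D(O_X) has tor-amplitude in [a, b]
(derived-tensor form; the existence of – ⊗^L G for every O_X-module G is assumed, hypothesis hL),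
the cokernel of the differential E^{a-1} -> E^a is a flat O_X-module. -/
theorem result {X : Scheme.{u}} (E : CochainComplex X.Modules ℤ) (n : ℤ) (hn : E.IsStrictlyLE n)
    (hflat : ∀ i : ℤ, FlatMod.IsFlat (E.X i)) (hL : ∀ G : X.Modules, DCoh.HasLTensorMod G) (a b : ℤ)
    (hE : DCoh.HasTorAmplitudeIn a b (DCoh.toD X E)) :
    FlatMod.IsFlat (cokernel (E.d (a - 1) a)) := by
  have hK : DCoh.IsKFlat E :=
    Groth.Agent.Lib.Helper28.KFlatSite.isKFlat_of_isStrictlyLE (O := X.sheaf) E n hn
      (fun i => (Groth.Agent.Lib.Helper17.FlatBridge.isFlat_iff (E.X i)).1 (hflat i))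
  rw [Groth.Agent.Lib.Helper17.FlatBridge.isFlat_iff]
  refine Groth.Agent.Lib.Helper28.KFlatSite.isFlat_cokernel_d (O := X.sheaf) E (a - 1 - 1) (a - 1) a
    ((Groth.Agent.Lib.Helper17.FlatBridge.isFlat_iff (E.X a)).1 (hflat a)) ?_
  intro G
  haveI := hL G
  have hz := hE G (a - 1) (Or.inl (by omega))
  have hz' : IsZero ((((DCoh.tensorRightMod G).mapHomologicalComplex (ComplexShape.up ℤ)).obj
      E).homology (a - 1)) :=
    hz.of_iso (Groth.Agent.Lib.Helper28.LTensorModComp.HDLTensorModIso G E hK (a - 1)).symm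
  rw [← HomologicalComplex.exactAt_iff_isZero_homology,
    HomologicalComplex.exactAt_iff' _ (a - 1 - 1) (a - 1) a (by simp) (by simp)] at hz'
  exact hz'

end Groth.Agent.S0968
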