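import Groth.Statements.S0983
-- import your own Groth.Agent.* helpers here

set_option autoImplicit false
universe v u
open CategoryTheory
open CohDer

namespace Groth.Agent.S0983

open CategoryTheory.Pretriangulated in
/-- In a triangulated category, a commutative square f ≫ v = u ≫ f' (with f : X ⟶ Y, f' : X' ⟶ Y', u : X
⟶ X', v : Y ⟶ Y') extends to a diagram with three distinguished rows (X, Y, Z), (X', Y', Z'), (X'',
Y'', Z'') and three distinguished columns (X, X', X''), (Y, Y', Y''), (Z, Z', Z''), in which all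
squares commute except the one formed by the third morphisms of the last row and last column, which
anticommutes; the fourth row and column are the shifts of the first ones. -/
theorem result {D : Type u} [Category.{v} D] [Preadditive D] [Limits.HasZeroObject D] [HasShift D ℤ]
    [∀ n : ℤ, (shiftFunctor D n).Additive] [Pretriangulated D] [IsTriangulated D]
    {X Y X' Y' : D} (f : X ⟶ Y) (f' : X' ⟶ Y') (u : X ⟶ X') (v : Y ⟶ Y') (comm : f ≫ v = u ≫ f') :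
    ∃ (Z Z' X'' Y'' Z'' : D) (g : Y ⟶ Z) (h : Z ⟶ (shiftFunctor D (1 : ℤ)).obj X)
      (g' : Y' ⟶ Z') (h' : Z' ⟶ (shiftFunctor D (1 : ℤ)).obj X')
      (f'' : X'' ⟶ Y'') (g'' : Y'' ⟶ Z'') (h'' : Z'' ⟶ (shiftFunctor D (1 : ℤ)).obj X'')
      (u' : X' ⟶ X'') (u'' : X'' ⟶ (shiftFunctor D (1 : ℤ)).obj X)
      (v' : Y' ⟶ Y'') (v'' : Y'' ⟶ (shiftFunctor D (1 : ℤ)).obj Y)
      (w : Z ⟶ Z') (w' : Z' ⟶ Z'') (w'' : Z'' ⟶ (shiftFunctor D (1 : ℤ)).obj Z),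
      Triangle.mk f g h ∈ distinguishedTriangles ∧ Triangle.mk f' g' h' ∈ distinguishedTriangles ∧
      Triangle.mk f'' g'' h'' ∈ distinguishedTriangles ∧
      Triangle.mk u u' u'' ∈ distinguishedTriangles ∧ Triangle.mk v v' v'' ∈ distinguishedTriangles ∧
      Triangle.mk w w' w'' ∈ distinguishedTriangles ∧
      g ≫ w = v ≫ g' ∧ h ≫ (shiftFunctor D (1 : ℤ)).map u = w ≫ h' ∧
      f' ≫ v' = u' ≫ f'' ∧ g' ≫ w' = v' ≫ g'' ∧ h' ≫ (shiftFunctor D (1 : ℤ)).map u' = w' ≫ h'' ∧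
      f'' ≫ v'' = u'' ≫ (shiftFunctor D (1 : ℤ)).map f ∧ g'' ≫ w'' = v'' ≫ (shiftFunctor D (1 : ℤ)).map g ∧
      h'' ≫ (shiftFunctor D (1 : ℤ)).map u'' = -(w'' ≫ (shiftFunctor D (1 : ℤ)).map h) := by
  obtain ⟨Z, g, h, H₁⟩ := distinguished_cocone_triangle f
  obtain ⟨Z', g', h', H₂⟩ := distinguished_cocone_triangle f'
  obtain ⟨X'', u', u'', H₃⟩ := distinguished_cocone_triangle u
  obtain ⟨Y'', v', v'', H₄⟩ := distinguished_cocone_triangle v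
  obtain ⟨V, p, q, H₅⟩ := distinguished_cocone_triangle (f ≫ v)
  obtain ⟨s, t, a₁, a₂, a₃, a₄, A⟩ : ∃ (s : Z ⟶ V) (t : V ⟶ Y''),
      g ≫ s = v ≫ p ∧ s ≫ q = h ∧ p ≫ t = v' ∧
      q ≫ (shiftFunctor D (1 : ℤ)).map f = t ≫ v'' ∧
      Triangle.mk s t (v'' ≫ (shiftFunctor D (1 : ℤ)).map g) ∈ distinguishedTriangles := by
    have o₁ := Triangulated.someOctahedron (rfl : f ≫ v = f ≫ v) H₁ H₄ H₅
    exact ⟨o₁.m₁, o₁.m₃, o₁.comm₁, o₁.comm₂, o₁.comm₃, o₁.comm₄, o₁.mem⟩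
  obtain ⟨s', t', b₁, b₂, b₃, b₄, B⟩ : ∃ (s' : X'' ⟶ V) (t' : V ⟶ Z'),
      u' ≫ s' = f' ≫ p ∧ s' ≫ q = u'' ∧ p ≫ t' = g' ∧
      q ≫ (shiftFunctor D (1 : ℤ)).map u = t' ≫ h' ∧
      Triangle.mk s' t' (h' ≫ (shiftFunctor D (1 : ℤ)).map u') ∈ distinguishedTriangles := by
    have o₂ := Triangulated.someOctahedron (comm.symm : u ≫ f' = f ≫ v) H₃ H₂ H₅
    exact ⟨o₂.m₁, o₂.m₃, o₂.comm₁, o₂.comm₂, o₂.comm₃, o₂.comm₄, o₂.mem⟩
  obtain ⟨Z'', g'', h'', H₆⟩ := distinguished_cocone_triangle (s' ≫ t)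
  have H₇ : Triangle.mk t (v'' ≫ (shiftFunctor D (1 : ℤ)).map g)
      (-(shiftFunctor D (1 : ℤ)).map s) ∈ distinguishedTriangles :=
    rot_of_distTriang _ A
  obtain ⟨w', w'', c₁, c₂, c₃, c₄, C⟩ : ∃ (w' : Z' ⟶ Z'') (w'' : Z'' ⟶ (shiftFunctor D (1 : ℤ)).obj Z),
      t' ≫ w' = t ≫ g'' ∧ w' ≫ h'' = h' ≫ (shiftFunctor D (1 : ℤ)).map u' ∧
      g'' ≫ w'' = v'' ≫ (shiftFunctor D (1 : ℤ)).map g ∧
      h'' ≫ (shiftFunctor D (1 : ℤ)).map s' = w'' ≫ (-(shiftFunctor D (1 : ℤ)).map s) ∧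
      Triangle.mk w' w'' ((-(shiftFunctor D (1 : ℤ)).map s) ≫ (shiftFunctor D (1 : ℤ)).map t') ∈
        distinguishedTriangles := by
    have o₃ := Triangulated.someOctahedron (rfl : s' ≫ t = s' ≫ t) B H₇ H₆
    exact ⟨o₃.m₁, o₃.m₃, o₃.comm₁, o₃.comm₂, o₃.comm₃, o₃.comm₄, o₃.mem⟩
  have e : (-(shiftFunctor D (1 : ℤ)).map s) ≫ (shiftFunctor D (1 : ℤ)).map t' =
      -(shiftFunctor D (1 : ℤ)).map (s ≫ t') := by
    simp
  have H₈ : Triangle.mk (s ≫ t') w' w'' ∈ distinguishedTriangles := by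
    rw [rotate_distinguished_triangle]
    show Triangle.mk w' w'' (-(shiftFunctor D (1 : ℤ)).map (s ≫ t')) ∈ _
    rw [← e]
    exact C
  refine ⟨Z, Z', X'', Y'', Z'', g, h, g', h', s' ≫ t, g'', h'', u', u'', v', v'',
    s ≫ t', w', w'', H₁, H₂, H₆, H₃, H₄, H₈, ?_, ?_, ?_, ?_, ?_, ?_, ?_, ?_⟩
  · rw [← Category.assoc, a₁, Category.assoc, b₃]
  · rw [Category.assoc, ← b₄, ← Category.assoc, a₂]
  · rw [← Category.assoc, b₁, Category.assoc, a₃]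
  · rw [← b₃, Category.assoc, c₁, ← Category.assoc, a₃]
  · exact c₂.symm
  · rw [Category.assoc, ← a₄, ← Category.assoc, b₂]
  · exact c₃
  · rw [← b₂, Functor.map_comp, ← Category.assoc, c₄, ← a₂, Functor.map_comp]
    simp

end Groth.Agent.S0983
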