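import Groth.Statements.S0976
import Groth.Agent.S0983
import Mathlib.CategoryTheory.Triangulated.Orthogonal
-- import your own Groth.Agent.* helpers here

set_option autoImplicit false
universe v u
open CategoryTheory
open CohDer

namespace Groth.Agent.S0976

section aux
open CategoryTheory.Pretriangulated Limits ZeroObject

variable {D : Type u} [Category.{v} D] [Preadditive D] [Limits.HasZeroObject D] [HasShift D ℤ]
    [∀ n : ℤ, (shiftFunctor D n).Additive] [Pretriangulated D]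

/-- The decomposition class. -/
def QQ (P : ObjectProperty D) : ObjectProperty D :=
  fun X : D => ∃ (A B : D) (f : A ⟶ X) (g : X ⟶ B) (h : B ⟶ (shiftFunctor D (1 : ℤ)).obj A),
      Triangle.mk f g h ∈ distinguishedTriangles ∧ P A ∧ P.rightOrthogonal B

lemma cone_iso {X Y Z Z' : D} (f : X ⟶ Y) {g : Y ⟶ Z} {h : Z ⟶ (shiftFunctor D (1 : ℤ)).obj X}
    {g' : Y ⟶ Z'} {h' : Z' ⟶ (shiftFunctor D (1 : ℤ)).obj X}
    (H : Triangle.mk f g h ∈ distinguishedTriangles)
    (H' : Triangle.mk f g' h' ∈ distinguishedTriangles) : Nonempty (Z ≅ Z') :=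
  ⟨Triangle.π₃.mapIso (isoTriangleOfIso₁₂ _ _ H H' (Iso.refl _) (Iso.refl _)
    ((Category.comp_id f).trans (Category.id_comp f).symm))⟩

lemma QQ_zero (P : ObjectProperty D) [P.IsTriangulated] : (QQ P).ContainsZero := by
  obtain ⟨Z₀, hZ₀, hP⟩ := P.exists_prop_of_containsZero
  exact ⟨Z₀, hZ₀, Z₀, (0 : D), 𝟙 Z₀, 0, 0, contractible_distinguished Z₀, hP,
    fun X f _ => (Limits.isZero_zero D).eq_of_tgt _ _⟩

lemma QQ_shift (P : ObjectProperty D) [P.IsTriangulated] (n : ℤ) (X : D) (hX : QQ P X) :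
    QQ P ((shiftFunctor D n).obj X) := by
  obtain ⟨A, B, f, g, h, H, hA, hB⟩ := hX
  have H' := Triangle.shift_distinguished _ H n
  exact ⟨_, _, _, _, _, H', P.le_shift n _ hA, P.rightOrthogonal.le_shift n _ hB⟩

lemma QQ_cone [IsTriangulated D] (P : ObjectProperty D) [P.IsTriangulated] {X₁ X₂ Y : D} (v : X₁ ⟶ X₂)
    {v' : X₂ ⟶ Y} {v'' : Y ⟶ (shiftFunctor D (1 : ℤ)).obj X₁}
    (H : Triangle.mk v v' v'' ∈ distinguishedTriangles) (h₁ : QQ P X₁) (h₂ : QQ P X₂) :
    (QQ P).isoClosure Y := by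
  obtain ⟨A₁, B₁, f, g, h, H₁, hA₁, hB₁⟩ := h₁
  obtain ⟨A₂, B₂, f', g', h', H₂, hA₂, hB₂⟩ := h₂
  have hz : (f ≫ v) ≫ g' = 0 := hB₂ _ hA₁
  obtain ⟨u, hu⟩ : ∃ u : A₁ ⟶ A₂, f ≫ v = u ≫ f' :=
    Triangle.coyoneda_exact₂ _ H₂ (f ≫ v) hz
  obtain ⟨Z, Z', X'', Y'', Z'', g₀, h₀, g₀', h₀', f'', g'', h'', u', u'', w', w'', k, k', k'',
    T₁, T₂, T₃, T₄, T₅, T₆, -⟩ := Groth.Agent.S0983.result f f' u v hu
  obtain ⟨e₁⟩ := cone_iso f H₁ T₁
  obtain ⟨e₂⟩ := cone_iso f' H₂ T₂
  obtain ⟨e₃⟩ := cone_iso v T₅ H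
  have hZ : P.rightOrthogonal Z := P.rightOrthogonal.prop_of_iso e₁ hB₁
  have hZ' : P.rightOrthogonal Z' := P.rightOrthogonal.prop_of_iso e₂ hB₂
  have hZ'' : P.rightOrthogonal Z'' := P.rightOrthogonal.ext_of_isTriangulatedClosed₃ _ T₆ hZ hZ'
  obtain ⟨A'', hA'', ⟨e⟩⟩ : P.isoClosure X'' := P.ext_of_isTriangulatedClosed₃' _ T₄ hA₁ hA₂
  refine ⟨Y'', ⟨A'', Z'', e.inv ≫ f'', g'', h'' ≫ (shiftFunctor D (1 : ℤ)).map e.hom, ?_, hA'', hZ''⟩,
    ⟨e₃.symm⟩⟩
  refine isomorphic_distinguished _ T₃ _ ?_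
  refine Triangle.isoMk _ _ e.symm (Iso.refl _) (Iso.refl _) ?_ ?_ ?_
  · show (e.inv ≫ f'') ≫ 𝟙 Y'' = e.inv ≫ f''
    exact Category.comp_id _
  · show g'' ≫ 𝟙 Z'' = 𝟙 Y'' ≫ g''
    exact (Category.comp_id _).trans (Category.id_comp _).symm
  · show (h'' ≫ (shiftFunctor D (1 : ℤ)).map e.hom) ≫ (shiftFunctor D (1 : ℤ)).map e.inv = 𝟙 Z'' ≫ h''
    rw [Category.assoc, ← Functor.map_comp, e.hom_inv_id, CategoryTheory.Functor.map_id,
      Category.comp_id, Category.id_comp]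

end aux

open CategoryTheory.Pretriangulated in
/-- Let P be a triangulated subcategory of a triangulated category D (an object property containing
zero, stable under shifts, closed under extensions). Consider the class of objects X sitting in a
distinguished triangle A → X → B → A[1] with P A and B right orthogonal to P. This class is again
stable under shifts and closed under extensions, i.e. satisfies two-out-of-three in distinguished
triangles. -/
theorem result {D : Type u} [Category.{v} D] [Preadditive D] [Limits.HasZeroObject D] [HasShift D ℤ]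
    [∀ n : ℤ, (shiftFunctor D n).Additive] [Pretriangulated D] [IsTriangulated D]
    (P : ObjectProperty D) [P.IsTriangulated] :
    ObjectProperty.IsTriangulated (fun X : D => ∃ (A B : D) (f : A ⟶ X) (g : X ⟶ B) (h : B ⟶ (shiftFunctor D (1 : ℤ)).obj A),
      Triangle.mk f g h ∈ distinguishedTriangles ∧ P A ∧ P.rightOrthogonal B) := by
  show ObjectProperty.IsTriangulated (QQ P)
  have h₀ : (QQ P).ContainsZero := QQ_zero P
  have h₁ : (QQ P).IsStableUnderShift ℤ :=
    { isStableUnderShiftBy := fun n => ⟨fun X hX => QQ_shift P n X hX⟩ }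
  have h₂ : (QQ P).IsTriangulatedClosed₂ :=
    { ext₂' := fun T hT hX hZ => by
        have hT' := inv_rot_of_distTriang _ hT
        exact QQ_cone P _ hT' (QQ_shift P (-1) _ hZ) hX }
  exact { toContainsZero := h₀, toIsStableUnderShift := h₁, toIsTriangulatedClosed₂ := h₂ }

end Groth.Agent.S0976
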