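import Groth.Statements.S0984
import Groth.Agent.Lib27.CptTower
import Groth.Agent.Lib27.CptAdj
-- import your own Groth.Agent.* helpers here

set_option autoImplicit false
universe v u
open CategoryTheory
open DerLim

namespace Groth.Agent.S0984

open CategoryTheory.Limits CategoryTheory.Pretriangulated in
/-- Let D be a triangulated category with all small direct sums and E a small family of compact objects
which generates D. Every object X of D is a homotopy colimit of a sequential system X₀ → X₁ → X₂ → …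
in which X₀ is a direct sum of shifts of members of E and each transition map Xₙ → Xₙ₊₁ sits in a
distinguished triangle Yₙ → Xₙ → Xₙ₊₁ → Yₙ[1] with Yₙ a direct sum of shifts of members of E. -/
theorem result {D : Type u} [Category.{v} D] [Preadditive D] [Limits.HasZeroObject D] [HasShift D ℤ]
    [∀ n : ℤ, (shiftFunctor D n).Additive] [Pretriangulated D] [IsTriangulated D] [HasCoproducts.{v} D]
    [HasColimitsOfShape (Discrete ℕ) D]
    {ι : Type v} (E : ι → D) (hc : ∀ i, CohDer.IsCompactObject (E i)) (hg : CohDer.Generates E) (X : D) :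
    ∃ (K : ℕ → D) (f : ∀ n, K n ⟶ K (n + 1)) (i : ∀ n, K n ⟶ X),
      DerLim.IsHocolim K f X i ∧
      (∃ (κ : Type v) (a : κ → ι) (m : κ → ℤ), Nonempty (K 0 ≅ ∐ (fun k => (shiftFunctor D (m k)).obj (E (a k))))) ∧
      ∀ n, ∃ (κ : Type v) (a : κ → ι) (m : κ → ℤ) (y : (∐ fun k => (shiftFunctor D (m k)).obj (E (a k))) ⟶ K n)
        (z : K (n + 1) ⟶ (shiftFunctor D (1 : ℤ)).obj (∐ fun k => (shiftFunctor D (m k)).obj (E (a k)))),
        Triangle.mk y (f n) z ∈ distinguishedTriangles := by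
  classical
  have hcE : ∀ i, Groth.Agent.Lib27.CptEnv.Cpt (E i) := fun i =>
    Groth.Agent.Lib27.CptEnv.cpt_of_isCompactObject (hc i)
  obtain ⟨K, f, L, inj, sL, hL, hbij, ⟨κ0, a0, ⟨e0⟩⟩, hstep⟩ :=
    Groth.Agent.Lib27.CptTower.exists_tower_model (preadditiveYoneda.obj X)
      (Groth.Agent.Lib27.Brown.Esh E)
      (Groth.Agent.Lib27.BrownCpt.factorProp_of_cpt E hcE) (Groth.Agent.Lib27.Brown.hsh_sh E)
  obtain ⟨u, hu⟩ : ∃ u : L ⟶ X, u = sL := ⟨sL, rfl⟩
  have hpb : ∀ (p : ι × ℤ) (g : Groth.Agent.Lib27.Brown.Esh E p ⟶ L),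
      Groth.Agent.Lib27.HFun.pb (preadditiveYoneda.obj X) g sL = g ≫ u := by
    intro p g
    rw [hu]
    rfl
  haveI : IsIso u := by
    apply Groth.Agent.Lib27.CptAdj.isIso_of_bijective' E hg u
    intro i n
    have := hbij (i, n)
    have h' : (fun g : (shiftFunctor D n).obj (E i) ⟶ L => g ≫ u) =
        (fun g : Groth.Agent.Lib27.Brown.Esh E (i, n) ⟶ L =>
          Groth.Agent.Lib27.HFun.pb (preadditiveYoneda.obj X) g sL) := by
      funext g
      exact (hpb (i, n) g).symm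
    rw [h']
    exact this
  refine ⟨K, f, fun n => inj n ≫ u, ?_, ⟨κ0, fun k => (a0 k).1, fun k => (a0 k).2, ⟨e0⟩⟩,
    fun n => ?_⟩
  · obtain ⟨c, hc⟩ := hL
    refine ⟨inv u ≫ c, ?_⟩
    refine isomorphic_distinguished _ hc _
      (Triangle.isoMk _ _ (Iso.refl _) (Iso.refl _) (asIso u).symm ?_ ?_ ?_)
    · show (𝟙 (∐ K) - shiftMap K f) ≫ 𝟙 (∐ K) = 𝟙 (∐ K) ≫ (𝟙 (∐ K) - shiftMap K f)
      rw [Category.comp_id, Category.id_comp]
    · show (Limits.Sigma.desc fun n => inj n ≫ u) ≫ inv u = 𝟙 (∐ K) ≫ Limits.Sigma.desc inj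
      rw [Category.id_comp]
      apply Limits.Sigma.hom_ext
      intro n
      rw [← Category.assoc, Limits.Sigma.ι_desc, Limits.Sigma.ι_desc, Category.assoc,
        IsIso.hom_inv_id, Category.comp_id]
    · show (inv u ≫ c) ≫ (shiftFunctor D (1 : ℤ)).map (𝟙 (∐ K)) = inv u ≫ c
      rw [CategoryTheory.Functor.map_id, Category.comp_id]
  · obtain ⟨κ, a, y, z, hT⟩ := hstep n
    exact ⟨κ, fun k => (a k).1, fun k => (a k).2, y, z, hT⟩

end Groth.Agent.S0984
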