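import Groth.Statements.S0978
import Groth.Agent.Lib27.HocolimCpt
import Groth.Agent.S0984
import Groth.Agent.S1076
-- import your own Groth.Agent.* helpers here

set_option autoImplicit false
universe v u
open CategoryTheory
open CohDer

namespace Groth.Agent.S0978

open CategoryTheory.Limits in
/-- Let D be a triangulated category with all small direct sums and E a compact object. Then E generates
D (an object admitting only zero maps from all shifts of E is zero) if and only if D is compactly
generated and every compact object lies in the triangulated envelope of E (objects reachable from E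
by shifts, finite sums, direct summands and extensions). -/
theorem result {D : Type u} [Category.{v} D] [Preadditive D] [Limits.HasZeroObject D] [HasShift D ℤ]
    [∀ n : ℤ, (shiftFunctor D n).Additive] [Pretriangulated D] [IsTriangulated D] [HasCoproducts.{v} D]
    [HasColimitsOfShape (Discrete ℕ) D]
    (E : D) (hE : CohDer.IsCompactObject E) :
    CohDer.Generates (fun _ : Unit => E) ↔
      (CohDer.IsCompactlyGenerated D ∧ ∀ X : D, CohDer.IsCompactObject X → ObjectProperty.triangEnvelope (fun Y : D => Y = E) X) := by
  classical
  constructor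
  · intro hg
    have hgen : CohDer.Generates (fun _ : PUnit.{v+1} => E) := by
      intro K hK
      apply hg K
      intro _ n f
      exact hK PUnit.unit n f
    refine ⟨⟨PUnit.{v+1}, fun _ => E, fun _ => hE, hgen⟩, fun X hX => ?_⟩
    obtain ⟨K, f, i, hL, h0, hstep⟩ :=
      Groth.Agent.S0984.result (fun _ : PUnit.{v+1} => E) (fun _ => hE) hgen X
    have hXc := Groth.Agent.Lib27.CptEnv.cpt_of_isCompactObject hX
    obtain ⟨N, β, hβ⟩ :=
      Groth.Agent.Lib27.HocolimCpt.exists_factor_stage K f i hL hXc (𝟙 X)
    obtain ⟨s, E', g, h, hE', hgh⟩ :=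
      Groth.Agent.S1076.result (fun _ : PUnit.{v+1} => E) (fun _ => hE) K f h0 hstep X hX N β
    have hle : (fun Y : D => ∃ j ∈ s, Y = (fun _ : PUnit.{v+1} => E) j) ≤
        (fun Y : D => Y = E) := by
      rintro Y ⟨_, _, rfl⟩
      rfl
    have hE'' : ObjectProperty.triangEnvelope (fun Y : D => Y = E) E' :=
      ObjectProperty.monotone_triangEnvelope hle E' hE'
    have r : Retract X E' :=
      { i := g
        r := h ≫ i N
        retract := by rw [← Category.assoc, hgh, ← hβ] }
    exact ObjectProperty.prop_of_retract _ r hE''
  · rintro ⟨⟨ι, E', hc, hgen⟩, henv⟩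
    intro K hK
    apply hgen K
    intro j n f
    let P0 : ObjectProperty D := fun Y : D => Y = K
    let Q : ObjectProperty D := (P0.shiftClosure ℤ).leftOrthogonal
    haveI : Q.IsStableUnderRetracts :=
      ⟨fun {X Y} r hY Z f hZ => by
        have h1 : r.r ≫ f = 0 := hY _ hZ
        have h2 : f = r.i ≫ r.r ≫ f := by
          rw [← Category.assoc, r.retract, Category.id_comp]
        rw [h2, h1, Limits.comp_zero]⟩
    have hQE : Q E := by
      rintro Z f ⟨Y, a, e, hY⟩
      have hY' : Y = K := hY
      have e' : Z ≅ (shiftFunctor D a).obj K := hY' ▸ e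
      have := hK () a (f ≫ e'.hom)
      rw [← cancel_mono e'.hom, this, Limits.zero_comp]
    have hle : ObjectProperty.triangEnvelope (fun Y : D => Y = E) ≤ Q :=
      (ObjectProperty.triangEnvelope_le_iff (P := (fun Y : D => Y = E)) (Q := Q)).2
        (by rintro Y rfl; exact hQE)
    have hQj : Q (E' j) := hle _ (henv _ (hc j))
    exact hQj f ⟨K, n, Iso.refl _, rfl⟩

end Groth.Agent.S0978
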