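import Groth.Statements.S0982
import Mathlib
import Groth.Agent.Lib.Helper17.DerTrunc

set_option autoImplicit false
universe w v u
open CategoryTheory CategoryTheory.Limits
open CohDer

namespace Groth.Agent.S0982

/-- Let K : ℕ ⥤ CochainComplex A ℤ be a sequence of cochain maps K₀ → K₁ → K₂ → … in an abelian category
with Hⁱ(K₀) = 0 for i > 0 and such that for every j < n the map H⁻ʲ(Kⱼ) → H⁻ʲ(Kⱼ₊₁) is zero. Then in
the derived category the composite K₀ → Kₙ factors through the canonical truncation τ_{≤ -n}Kₙ → Kₙ. -/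
theorem result {A : Type u} [Category.{v} A] [Abelian A] [HasDerivedCategory.{w} A]
    (K : ℕ ⥤ CochainComplex A ℤ) (n : ℕ)
    (h0 : ∀ i : ℤ, 0 < i → IsZero ((K.obj 0).homology i))
    (hz : ∀ j : ℕ, j < n → HomologicalComplex.homologyMap (K.map (homOfLE (Nat.le_succ j))) (-(j : ℤ)) = 0) :
    ∃ φ : DerivedCategory.Q.obj (K.obj 0) ⟶ DerivedCategory.Q.obj ((K.obj n).truncLE (-(n : ℤ))),
      φ ≫ DerivedCategory.Q.map ((K.obj n).ιTruncLE (-(n : ℤ))) = DerivedCategory.Q.map (K.map (homOfLE (Nat.zero_le n))) := by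
  classical
  open DerivedCategory Groth.Agent.Lib.Helper17.DerTrunc in
  have key : ∀ j : ℕ, j ≤ n →
      ∃ φ : Q.obj (K.obj 0) ⟶ Q.obj ((K.obj j).truncLE (-(j : ℤ))),
        φ ≫ Q.map ((K.obj j).ιTruncLE (-(j : ℤ))) = Q.map (K.map (homOfLE (Nat.zero_le j))) := by
    intro j
    induction j with
    | zero =>
      intro _
      haveI : (K.obj 0).IsLE (-((0 : ℕ) : ℤ)) := by
        rw [CochainComplex.isLE_iff]
        intro i hi
        rw [HomologicalComplex.exactAt_iff_isZero_homology]
        exact h0 i (by simpa using hi)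
      haveI : QuasiIso ((K.obj 0).ιTruncLE (-((0 : ℕ) : ℤ))) := inferInstance
      refine ⟨inv (Q.map ((K.obj 0).ιTruncLE (-((0 : ℕ) : ℤ)))), ?_⟩
      rw [IsIso.inv_hom_id]
      have : homOfLE (Nat.zero_le 0) = 𝟙 (0 : ℕ) := Subsingleton.elim _ _
      rw [this, K.map_id, Q.map_id]
    | succ j ih =>
      intro hj
      obtain ⟨φ, hφ⟩ := ih (by omega)
      let a := K.map (homOfLE (Nat.le_succ j))
      let m : ℤ := -(j : ℤ)
      let β : Q.obj ((K.obj j).truncLE m) ⟶ Q.obj ((K.obj (j + 1)).truncGE m) :=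
        Q.map ((K.obj j).ιTruncLE m) ≫ Q.map a ≫ Q.map ((K.obj (j + 1)).πTruncGE m)
      have hβ : β = 0 := by
        apply eq_zero_of_homologyMap_eq_zero m
        have ha : (homologyFunctor A m).map (Q.map a) = 0 := by
          have := (homologyFunctorFactors A m).hom.naturality a
          dsimp at this
          have h2 : HomologicalComplex.homologyMap a m = 0 := hz j (by omega)
          have h3 : (HomologicalComplex.homologyFunctor A (ComplexShape.up ℤ) m).map a = 0 := h2
          rw [← cancel_mono ((homologyFunctorFactors A m).hom.app (K.obj (j + 1))), this, h3,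
            comp_zero, zero_comp]
        simp only [β, Functor.map_comp, ha, zero_comp, comp_zero]
      have hψ : (φ ≫ Q.map ((K.obj j).ιTruncLE m) ≫ Q.map a) ≫
          Q.map ((K.obj (j + 1)).πTruncGE m) = 0 := by
        have : (φ ≫ Q.map ((K.obj j).ιTruncLE m) ≫ Q.map a) ≫
            Q.map ((K.obj (j + 1)).πTruncGE m) = φ ≫ β := by
          simp only [β, Category.assoc]
        rw [this, hβ, comp_zero]
      obtain ⟨φ', hφ'⟩ := exists_factor_truncLE (K.obj (j + 1)) (-((j + 1 : ℕ) : ℤ)) m
        (by simp only [m]; push_cast; ring) _ hψ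
      refine ⟨φ', ?_⟩
      rw [hφ', ← Category.assoc, hφ, ← Q.map_comp, ← K.map_comp]
      rfl
  exact key n le_rfl

end Groth.Agent.S0982
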