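import Groth.Statements.S0985
import Groth.Agent.Lib27.SeqColim
-- import your own Groth.Agent.* helpers here

set_option autoImplicit false
universe w v u
open CategoryTheory CategoryTheory.Limits
open DerLim

namespace Groth.Agent.S0985

/-- Let A be an abelian category in which colimits of sequences ℕ ⥤ A exist and are exact, and let L : ℕ
⥤ CochainComplex A ℤ be a sequence of complexes. Then the image in the derived category of the
termwise colimit of L, with the canonical maps from the Lₙ, is a homotopy colimit of the images of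
the Lₙ — assuming the termwise direct sum of the Lₙ exists and is preserved by the localization
functor to D(A) (a known result, carried here as a hypothesis rather than proved), and that the
direct sum of the images exists in D(A). -/
theorem result {A : Type u} [Category.{v} A] [Abelian A] [HasDerivedCategory.{w} A]
    [HasColimitsOfShape ℕ A] [HasExactColimitsOfShape ℕ A]
    (L : ℕ ⥤ CochainComplex A ℤ) [HasCoproduct L.obj] [PreservesColimit (Discrete.functor L.obj) (DerivedCategory.Q (C := A))]
    [HasCoproduct (fun n => DerivedCategory.Q.obj (L.obj n))] :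
    DerLim.IsHocolim (fun n => DerivedCategory.Q.obj (L.obj n)) (fun n => DerivedCategory.Q.map (L.map (homOfLE (Nat.le_succ n))))
      (DerivedCategory.Q.obj (colimit L)) (fun n => DerivedCategory.Q.map (colimit.ι L n)) := by
  classical
  have hS := Groth.Agent.Lib27.SeqColim.shortExact L
  have hT := DerivedCategory.triangleOfSES_distinguished hS
  let Q := DerivedCategory.Q (C := A)
  let e : Q.obj (∐ L.obj) ≅ ∐ (fun n => Q.obj (L.obj n)) := PreservesCoproduct.iso Q L.obj
  have he : e.inv = sigmaComparison Q L.obj := PreservesCoproduct.inv_hom Q L.obj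
  refine ⟨DerivedCategory.triangleOfSESδ hS ≫ (shiftFunctor _ (1 : ℤ)).map e.hom, ?_⟩
  refine Pretriangulated.isomorphic_distinguished _ hT _ (Iso.symm ?_)
  refine Pretriangulated.Triangle.isoMk _ _ e e (Iso.refl _) ?_ ?_ ?_
  · change Q.map (𝟙 (∐ L.obj) - Groth.Agent.Lib27.SeqColim.sh L) ≫ e.hom =
      e.hom ≫ (𝟙 _ - DerLim.shiftMap (fun n => Q.obj (L.obj n))
        (fun n => Q.map (L.map (homOfLE (Nat.le_succ n)))))
    have h1 : e.inv ≫ Q.map (𝟙 (∐ L.obj) - Groth.Agent.Lib27.SeqColim.sh L) =
        (𝟙 _ - DerLim.shiftMap (fun n => Q.obj (L.obj n))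
          (fun n => Q.map (L.map (homOfLE (Nat.le_succ n))))) ≫ e.inv := by
      rw [he]
      apply Sigma.hom_ext
      intro n
      rw [ι_comp_sigmaComparison_assoc, ← Q.map_comp, Preadditive.comp_sub, Preadditive.sub_comp,
        Preadditive.comp_sub, Category.comp_id, Category.id_comp,
        Groth.Agent.Lib27.SeqColim.ι_sh, Functor.map_sub, Functor.map_comp,
        ι_comp_sigmaComparison]
      congr 1
      simp [DerLim.shiftMap]
    rw [← cancel_epi e.inv, ← Category.assoc, h1, Category.assoc, e.inv_hom_id,
      e.inv_hom_id_assoc, Category.comp_id]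
  · change Q.map (Groth.Agent.Lib27.SeqColim.toColim L) ≫ 𝟙 _ =
      e.hom ≫ Sigma.desc (fun n => Q.map (colimit.ι L n))
    rw [← cancel_epi e.inv, e.inv_hom_id_assoc, he, Category.comp_id]
    apply Sigma.hom_ext
    intro n
    rw [ι_comp_sigmaComparison_assoc, ← Q.map_comp]
    simp
  · change DerivedCategory.triangleOfSESδ hS ≫ (shiftFunctor _ (1 : ℤ)).map e.hom =
      𝟙 _ ≫ DerivedCategory.triangleOfSESδ hS ≫ (shiftFunctor _ (1 : ℤ)).map e.hom
    rw [Category.id_comp]

end Groth.Agent.S0985
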