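import Groth.Statements.S0989
-- import your own Groth.Agent.* helpers here

set_option autoImplicit false
universe w v u
open CategoryTheory CategoryTheory.Limits
open CohDer

namespace Groth.Agent.S0989

open ZeroObject


open ComposableArrows in
lemma retract_aux {A : Type u} [Category.{v} A] [Abelian A]
    (P : ObjectProperty A) [P.IsClosedUnderIsomorphisms] (h0 : ∃ Z : A, IsZero Z ∧ P Z)
    (hP : ∀ S : ComposableArrows A 4, S.Exact → P (S.obj 0) → P (S.obj 1) → P (S.obj 3) → P (S.obj 4) → P (S.obj 2))
    {X Y : A} (h : Retract X Y) (hY : P Y) : P X := by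
  obtain ⟨Z, hZ, hPZ⟩ := h0
  have w : (𝟙 Y - h.r ≫ h.i) ≫ h.r = 0 := by
    rw [Preadditive.sub_comp, Category.assoc, h.retract, Category.id_comp, Category.comp_id, sub_self]
  have e1 : (ShortComplex.mk (𝟙 Y - h.r ≫ h.i) h.r w).Exact := by
    rw [ShortComplex.exact_iff_exact_up_to_refinements]
    intro B x hx
    refine ⟨B, 𝟙 B, inferInstance, x, ?_⟩
    dsimp at hx ⊢
    rw [Preadditive.comp_sub, Category.comp_id, Category.id_comp, ← Category.assoc, hx, zero_comp, sub_zero]
  have : Epi h.r := ⟨fun f g hfg => by
    have := congrArg (fun t => h.i ≫ t) hfg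
    simpa [← Category.assoc, h.retract] using this⟩
  have e2 : (ShortComplex.mk h.r (0 : X ⟶ Z) comp_zero).Exact := by
    rw [ShortComplex.exact_iff_epi _ rfl]
    dsimp
    infer_instance
  have e3 : (ShortComplex.mk (0 : X ⟶ Z) (0 : Z ⟶ Z) comp_zero).Exact :=
    ShortComplex.exact_of_isZero_X₂ _ hZ
  have hex : (mk₄ (𝟙 Y - h.r ≫ h.i) h.r (0 : X ⟶ Z) (0 : Z ⟶ Z)).Exact :=
    exact_of_δ₀ e1.exact_toComposableArrows
      (exact_of_δ₀ e2.exact_toComposableArrows e3.exact_toComposableArrows)
  exact hP _ hex hY hY hPZ hPZ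

/-- Let P be a weak Serre class in an abelian category A: P is closed under isomorphisms, holds for a
zero object, and whenever X₀ → X₁ → X₂ → X₃ → X₄ is exact with P holding for X₀, X₁, X₃, X₄ it holds
for X₂. Then the class of objects of the derived category all of whose cohomology objects satisfy P
is a triangulated subcategory (contains zero, stable under shifts, closed under extensions) which is
moreover closed under retracts (saturated). -/
theorem result {A : Type u} [Category.{v} A] [Abelian A] [HasDerivedCategory.{w} A]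
    (P : ObjectProperty A) [P.IsClosedUnderIsomorphisms] (h0 : ∃ Z : A, IsZero Z ∧ P Z)
    (hP : ∀ S : ComposableArrows A 4, S.Exact → P (S.obj 0) → P (S.obj 1) → P (S.obj 3) → P (S.obj 4) → P (S.obj 2)) :
    ObjectProperty.IsTriangulated (fun X : DerivedCategory A => ∀ n : ℤ, P ((DerivedCategory.homologyFunctor A n).obj X)) ∧
    ObjectProperty.IsStableUnderRetracts (fun X : DerivedCategory A => ∀ n : ℤ, P ((DerivedCategory.homologyFunctor A n).obj X)) := by
  have hzero : ∀ {Z : A}, IsZero Z → P Z := by
    intro Z hZ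
    obtain ⟨Z₀, hZ₀, h₀⟩ := h0
    exact P.prop_of_iso (hZ₀.iso hZ) h₀
  refine ⟨?_, ⟨?_⟩⟩
  · have hc : ObjectProperty.ContainsZero (fun X : DerivedCategory A => ∀ n : ℤ, P ((DerivedCategory.homologyFunctor A n).obj X)) :=
      ⟨⟨(0 : DerivedCategory A), isZero_zero _, fun n => hzero (Functor.map_isZero _ (isZero_zero _))⟩⟩
    have hs : ObjectProperty.IsStableUnderShift (fun X : DerivedCategory A => ∀ n : ℤ, P ((DerivedCategory.homologyFunctor A n).obj X)) ℤ :=
      { isStableUnderShiftBy := fun a => ⟨fun X hX n =>
          P.prop_of_iso (((DerivedCategory.homologyFunctor A 0).shiftIso a n (a + n) rfl).app X).symm (hX (a + n))⟩ }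
    have ht : ObjectProperty.IsTriangulatedClosed₂ (fun X : DerivedCategory A => ∀ n : ℤ, P ((DerivedCategory.homologyFunctor A n).obj X)) := by
      refine ⟨fun T hT h₁ h₃ => ObjectProperty.le_isoClosure _ _ (fun n => ?_)⟩
      have e1 := (DerivedCategory.HomologySequence.exact₁ T hT (n - 1) n (by omega)).exact_toComposableArrows
      have e2 := (DerivedCategory.HomologySequence.exact₂ T hT n).exact_toComposableArrows
      have e3 := (DerivedCategory.HomologySequence.exact₃ T hT n (n + 1) rfl).exact_toComposableArrows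
      have hex : (ComposableArrows.mk₄ (DerivedCategory.HomologySequence.δ T (n - 1) n (by omega))
          ((DerivedCategory.homologyFunctor A n).map T.mor₁)
          ((DerivedCategory.homologyFunctor A n).map T.mor₂)
          (DerivedCategory.HomologySequence.δ T n (n + 1) rfl)).Exact :=
        ComposableArrows.exact_of_δ₀ e1 (ComposableArrows.exact_of_δ₀ e2 e3)
      exact hP _ hex (h₃ _) (h₁ _) (h₃ _) (h₁ _)
    exact { toContainsZero := hc, toIsStableUnderShift := hs, toIsTriangulatedClosed₂ := ht }
  · intro X Y h hY n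
    exact retract_aux P h0 hP (h.map (DerivedCategory.homologyFunctor A n)) (hY n)

end Groth.Agent.S0989
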