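import Groth.Statements.S0996
import Groth.Agent.Lib.Helper5.GrothAcyc

set_option autoImplicit false
universe w w' v v' u u'
open CategoryTheory CategoryTheory.Limits
open CohDer

namespace Groth.Agent.S0996

open Groth.Agent.Lib.Helper5 Groth.Agent.Lib.Helper5.GrothSS

/-- Leray's acyclicity lemma. Let F : C ⥤ D be a left exact additive functor between abelian categories,
with C having enough injectives. If K is a bounded below cochain complex in C all of whose terms are
right F-acyclic (RⁱF(Kᵐ) = 0 for i > 0), then the canonical map F(K) → RF(K) in the bounded below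
derived category D⁺(D) is an isomorphism. -/
theorem result {C : Type u} [Category.{v} C] [Abelian C] [HasDerivedCategory.{w} C] [EnoughInjectives C]
    {D : Type u'} [Category.{v'} D] [Abelian D] [HasDerivedCategory.{w'} D]
    (F : C ⥤ D) [F.Additive] [PreservesFiniteLimits F] (K : CochainComplex.Plus C)
    (hK : ∀ (m : ℤ) (i : ℕ), 0 < i → IsZero ((F.rightDerived i).obj (K.obj.X m))) :
    IsIso (F.rightDerivedFunctorPlusUnit.app ((HomotopyCategory.Plus.quotient C).obj K)) := by
  obtain ⟨K₀, a, hK₀⟩ := K
  have : K₀.IsStrictlyGE a := hK₀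
  obtain ⟨L, j, _, _, _⟩ := CochainComplex.Plus.modelCategoryQuillen.exists_quasiIso_injective K₀ a
  have hFj : QuasiIso ((F.mapHomologicalComplex (ComplexShape.up ℤ)).map j) :=
    (isAdapted_acyc F).quasiIso_map a (fun m k => hK m (k + 1) (by lia)) j
  let K' : CochainComplex.Plus C := ⟨K₀, a, hK₀⟩
  let L' : CochainComplex.Plus C := (InjectiveObject.ι C).mapCochainComplexPlus.obj (liftInj L a)
  let jK : K' ⟶ L' := ObjectProperty.homMk j
  have nat := F.rightDerivedFunctorPlusUnit.naturality ((HomotopyCategory.Plus.quotient C).map jK)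
  have h1 : IsIso (F.rightDerivedFunctorPlusUnit.app ((HomotopyCategory.Plus.quotient C).obj L')) :=
    inferInstance
  have h2 : IsIso ((DerivedCategory.Plus.Qh ⋙ F.rightDerivedFunctorPlus).map
      ((HomotopyCategory.Plus.quotient C).map jK)) := by
    have : IsIso (DerivedCategory.Plus.Qh.map ((HomotopyCategory.Plus.quotient C).map jK)) := by
      apply Localization.inverts DerivedCategory.Plus.Qh (HomotopyCategory.Plus.quasiIso C)
      rw [HomotopyCategory.Plus.quasiIso_iff]
      exact (HomotopyCategory.quotient_map_mem_quasiIso_iff j).2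
        ((HomologicalComplex.mem_quasiIso_iff j).2 inferInstance)
    rw [Functor.comp_map]; infer_instance
  have h3 : IsIso ((F.mapHomotopyCategoryPlus ⋙ DerivedCategory.Plus.Qh).map
      ((HomotopyCategory.Plus.quotient C).map jK)) := by
    rw [Functor.comp_map]
    apply Localization.inverts DerivedCategory.Plus.Qh (HomotopyCategory.Plus.quasiIso D)
    rw [HomotopyCategory.Plus.quasiIso_iff]
    exact (HomotopyCategory.quotient_map_mem_quasiIso_iff
      ((F.mapHomologicalComplex (ComplexShape.up ℤ)).map j)).2
        ((HomologicalComplex.mem_quasiIso_iff _).2 hFj)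
  have h4 : IsIso (F.rightDerivedFunctorPlusUnit.app ((HomotopyCategory.Plus.quotient C).obj K') ≫
      (DerivedCategory.Plus.Qh ⋙ F.rightDerivedFunctorPlus).map
        ((HomotopyCategory.Plus.quotient C).map jK)) := by
    rw [← nat]; infer_instance
  exact IsIso.of_isIso_comp_right _ ((DerivedCategory.Plus.Qh ⋙ F.rightDerivedFunctorPlus).map
        ((HomotopyCategory.Plus.quotient C).map jK))

end Groth.Agent.S0996
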