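import Groth.Statements.S10000
import Groth.Agent.Lib.Helper14.LargeField

set_option autoImplicit false
universe u
open CategoryTheory CategoryTheory.Limits AlgebraicGeometry
open AlgSp

namespace Groth.Agent.S10000

/-- For a morphism X ⟶ Y of algebraic spaces and an algebraically closed field k over S that is large
compared with X, X(k) surjects onto |X| ×_{|Y|} Y(k): every pair of a point x of |X| and a k-valued
point of Y with the same image in |Y| comes from a k-valued point of X. (The published statement
measures largeness by a cardinal attached to X that bounds the residue fields of an etale atlas;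
this row asks directly that every residue field of one surjective etale chart U of X have
cardinality smaller than that of k, which is how the bound enters the argument.) -/
theorem result {S : Scheme.{u}} {X Y : AlgSp.Space S} (f : X ⟶ Y)
    {U : Over S} (a : (AlgSp.yon S).obj U ⟶ X.obj) (ha : AlgSp.RepWith @Etale a) (has : AlgSp.RepWith @Surjective a)
    (ybar : AlgSp.FieldPt Y.obj) (hy : ybar.IsGeometric)
    (hk : ∀ u : ↥U.left, Cardinal.mk ↥(U.left.residueField u) < Cardinal.mk ybar.K)
    (x : AlgSp.Points X.obj) (hx : AlgSp.Points.map f.hom x = AlgSp.Points.mk ybar) :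
    ∃ xbar : (AlgSp.yon S).obj ybar.pt ⟶ X.obj, xbar ≫ f.hom = ybar.toHom ∧
      AlgSp.Points.ofPt xbar (IsLocalRing.closedPoint ybar.K) = x := by
  obtain ⟨u, rfl⟩ := Groth.Agent.Lib.Helper14.AS.ofPt_surjective_of_repWith has x
  have : IsAlgClosed ybar.K := hy
  have e0 : AlgSp.Points.ofPt (a ≫ f.hom) u = Groth.Agent.Lib.Helper14.AS.fpt ybar.toHom := by
    rw [← AlgSp.Points.map_ofPt, hx]
    unfold Groth.Agent.Lib.Helper14.AS.fpt
    congr 1
    change _ = (⟨ybar.K, ybar.str, (AlgSp.J S).uliftYonedaEquiv ybar.toHom⟩ : AlgSp.FieldPt Y.obj)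
    rw [AlgSp.FieldPt.uliftYonedaEquiv_toHom]
    cases ybar
    rfl
  obtain ⟨xb, h1, h2⟩ := Groth.Agent.Lib.Helper14.AS.exists_geom_lift_of_card_lt Y.2 f.hom a
    ybar.str ybar.toHom u (hk u) e0
  refine ⟨xb, h1, ?_⟩
  rw [← h2]
  have h3 := Groth.Agent.Lib.Helper14.AS.fpt_yon_map_comp (𝟙 (Over.mk ybar.str)) xb
  rw [(AlgSp.yon S).map_id, Category.id_comp] at h3
  exact h3.symm

end Groth.Agent.S10000
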