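import Groth.Statements.S1006
import Mathlib
import Groth.Agent.Lib.Helper28.DCohRes27

set_option autoImplicit false
universe u
open CategoryTheory CategoryTheory.Limits AlgebraicGeometry
attribute [local instance] HasDerivedCategory.standard
open Perf

namespace Groth.Agent.S1006

/-- On a Noetherian scheme X every perfect object of D(O_X) has coherent cohomology sheaves and is
bounded. -/
theorem result (X : Scheme.{u}) [IsNoetherian X] (E : DCoh.D X) (hE : DCoh.IsPerfect E) :
    DCoh.IsCohD E ∧ ∃ a b : ℤ, E.IsGE a ∧ E.IsLE b := by
  exact ⟨Groth.Agent.Lib.Helper28.DCohRes.isCohD_of_isPerfect E hE,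
    Groth.Agent.Lib.Helper28.DCohRes.exists_bounds_of_isPerfect E hE⟩

end Groth.Agent.S1006
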