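import Groth.Statements.S10290


set_option autoImplicit false
universe u
open CategoryTheory CategoryTheory.Limits AlgebraicGeometry
open AlgSp

namespace Groth.Agent.S10290

lemma isIso_of_closedImmersion_of_factor {A K : Type u} [CommRing A] [Field K] [Algebra A K]
    (hinj : Function.Injective (algebraMap A K)) {T : Scheme.{u}} (i : T ⟶ Spec (.of A))
    [IsClosedImmersion i] (k : Spec (.of K) ⟶ T)
    (hk : k ≫ i = Spec.map (CommRingCat.ofHom (algebraMap A K))) : IsIso i := by
  apply IsClosedImmersion.isIso_of_injective_of_isAffine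
  have h1 : Function.Injective (Spec.map (CommRingCat.ofHom (algebraMap A K))).appTop := by
    have h := Scheme.ΓSpecIso_inv_naturality (CommRingCat.ofHom (algebraMap A K))
    have h2 : (Spec.map (CommRingCat.ofHom (algebraMap A K))).appTop =
        (Scheme.ΓSpecIso (.of A)).hom ≫ CommRingCat.ofHom (algebraMap A K) ≫
          (Scheme.ΓSpecIso (.of K)).inv := by
      rw [h, Iso.hom_inv_id_assoc]
    rw [h2]
    simp only [CommRingCat.hom_comp, RingHom.coe_comp]
    exact ((ConcreteCategory.bijective_of_isIso (Scheme.ΓSpecIso (.of K)).inv).1.comp hinj).comp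
      (ConcreteCategory.bijective_of_isIso (Scheme.ΓSpecIso (.of A)).hom).1
  rw [← hk, Scheme.Hom.comp_appTop] at h1
  simp only [CommRingCat.hom_comp, RingHom.coe_comp] at h1
  exact Function.Injective.of_comp h1

/-- A separated morphism of algebraic spaces satisfies the uniqueness part of the valuative criterion. -/
theorem result {S : Scheme.{u}} {X Y : AlgSp.Space S} (f : X ⟶ Y)
    (hf : AlgSp.IsSeparatedMor f.hom) : AlgSp.UniqVC f.hom := by
  intro sq l l' h1 h2 h1' h2'
  have hw : l ≫ f.hom = l' ≫ f.hom := by rw [h2, h2']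
  let m : (yon S).obj sq.ptA ⟶ pullback f.hom f.hom := pullback.lift l l' hw
  have hrep := hf.rep
  have hP : IsClosedImmersion (hrep.snd m).left := hf.property_snd m
  have hpb := hrep.isPullback m
  -- the map from Spec K
  have hcomp : sq.top ≫ pullback.diagonal f.hom = (yon S).map sq.j ≫ m := by
    apply pullback.hom_ext
    · simp only [Category.assoc, pullback.diagonal_fst, Category.comp_id, m, pullback.lift_fst]
      exact h1.symm
    · simp only [Category.assoc, pullback.diagonal_snd, Category.comp_id, m, pullback.lift_snd]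
      exact h1'.symm
  obtain ⟨k, hk1, hk2⟩ : ∃ k : (yon S).obj sq.ptK ⟶ (yon S).obj (hrep.pullback m),
      k ≫ hrep.fst m = sq.top ∧ k ≫ (yon S).map (hrep.snd m) = (yon S).map sq.j :=
    ⟨hpb.lift _ _ hcomp, hpb.lift_fst _ _ _, hpb.lift_snd _ _ _⟩
  obtain ⟨k, rfl⟩ := (yon S).map_surjective k
  rw [← Functor.map_comp] at hk2
  have hk3 : k ≫ hrep.snd m = sq.j := (yon S).map_injective hk2
  have hk4 : k.left ≫ (hrep.snd m).left = Spec.map (CommRingCat.ofHom (algebraMap sq.A sq.K)) := by
    have := congrArg (fun t => t.left) hk3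
    simpa using this
  have hiso : IsIso (hrep.snd m).left :=
    isIso_of_closedImmersion_of_factor (IsFractionRing.injective sq.A sq.K) _ k.left hk4
  have hiso2 : IsIso (hrep.snd m) := by
    have : IsIso ((Over.forget S).map (hrep.snd m)) := hiso
    exact isIso_of_reflects_iso _ (Over.forget S)
  have hiso3 : IsIso ((yon S).map (hrep.snd m)) := inferInstance
  have e1 : hrep.fst m = (yon S).map (hrep.snd m) ≫ l := by
    have := congrArg (· ≫ pullback.fst f.hom f.hom) hpb.w
    simp only [Category.assoc, pullback.diagonal_fst, Category.comp_id] at this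
    rw [this]; congr 1; exact pullback.lift_fst _ _ _
  have e2 : hrep.fst m = (yon S).map (hrep.snd m) ≫ l' := by
    have := congrArg (· ≫ pullback.snd f.hom f.hom) hpb.w
    simp only [Category.assoc, pullback.diagonal_snd, Category.comp_id] at this
    rw [this]; congr 1; exact pullback.lift_snd _ _ _
  rw [← cancel_epi ((yon S).map (hrep.snd m)), ← e1, ← e2]

end Groth.Agent.S10290
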