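import Groth.Statements.S10291
import Groth.Agent.S9900
import Mathlib.AlgebraicGeometry.ZariskisMainTheorem
import Mathlib.AlgebraicGeometry.ValuativeCriterion

set_option autoImplicit false
universe u
open CategoryTheory CategoryTheory.Limits AlgebraicGeometry
open AlgSp

namespace Groth.Agent.S10291

/-- A quasi-separated morphism of algebraic spaces satisfying the uniqueness part of the valuative
criterion is separated. -/
theorem result {S : Scheme.{u}} {X Y : AlgSp.Space S} (f : X ⟶ Y)
    (hqs : AlgSp.IsQuasiSeparatedMor f.hom) (hu : AlgSp.UniqVC f.hom) : AlgSp.IsSeparatedMor f.hom := by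
  obtain ⟨hrep, hlft, hmono, -, -⟩ := Groth.Agent.S9900.result f
  refine ⟨hrep, fun T W m a i sq => ?_⟩
  have h1 : LocallyOfFiniteType i.left := hlft.property _ _ _ sq
  have h2 : Mono i.left := hmono.property _ _ _ sq
  have h3 : QuasiCompact i.left := hqs.property _ _ _ sq
  change IsClosedImmersion i.left
  rw [IsClosedImmersion.iff_isProper_and_mono]
  refine ⟨?_, h2⟩
  have hsep : IsSeparated i.left := inferInstance
  have huc : UniversallyClosed i.left := by
    apply UniversallyClosed.of_valuativeCriterion
    intro Sq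
    -- the data over `S`
    let str : Spec (.of Sq.R) ⟶ S := Sq.i₂ ≫ T.hom
    let ptA : Over S := Over.mk str
    let ptK : Over S := Over.mk (Spec.map (CommRingCat.ofHom (algebraMap Sq.R Sq.K)) ≫ str)
    let j : ptK ⟶ ptA := Over.homMk (Spec.map (CommRingCat.ofHom (algebraMap Sq.R Sq.K))) rfl
    let i₂' : ptA ⟶ T := Over.homMk Sq.i₂ rfl
    let i₁' : ptK ⟶ W := Over.homMk Sq.i₁ (by
      change Sq.i₁ ≫ W.hom = Spec.map _ ≫ Sq.i₂ ≫ T.hom
      rw [← Over.w i, ← Category.assoc, Sq.commSq.w, Category.assoc])
    have hji : i₁' ≫ i = j ≫ i₂' := by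
      ext
      exact Sq.commSq.w
    have ha1 : a = (yon S).map i ≫ m ≫ pullback.fst f.hom f.hom := by
      have := congrArg (· ≫ pullback.fst f.hom f.hom) sq.w
      simpa only [Category.assoc, pullback.diagonal_fst, Category.comp_id] using this
    have ha2 : a = (yon S).map i ≫ m ≫ pullback.snd f.hom f.hom := by
      have := congrArg (· ≫ pullback.snd f.hom f.hom) sq.w
      simpa only [Category.assoc, pullback.diagonal_snd, Category.comp_id] using this
    let l : (yon S).obj ptA ⟶ X.obj := (yon S).map i₂' ≫ m ≫ pullback.fst f.hom f.hom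
    let l' : (yon S).obj ptA ⟶ X.obj := (yon S).map i₂' ≫ m ≫ pullback.snd f.hom f.hom
    have hl : (yon S).map j ≫ l = (yon S).map i₁' ≫ a := by
      rw [ha1, ← Functor.map_comp_assoc, ← Functor.map_comp_assoc, hji]
    have hl' : (yon S).map j ≫ l' = (yon S).map i₁' ≫ a := by
      rw [ha2, ← Functor.map_comp_assoc, ← Functor.map_comp_assoc, hji]
    have hll' : l' ≫ f.hom = l ≫ f.hom := by
      simp only [l, l', Category.assoc, pullback.condition]
    let vsq : ValSq f.hom :=
      { A := Sq.R, K := Sq.K, str := str, top := (yon S).map i₁' ≫ a, bot := l ≫ f.hom,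
        comm := by rw [← hl, Category.assoc] }
    have heq : l = l' := hu vsq l l' hl rfl hl' hll'
    have hfac : l ≫ pullback.diagonal f.hom = (yon S).map i₂' ≫ m := by
      apply pullback.hom_ext
      · simp only [Category.assoc, pullback.diagonal_fst, Category.comp_id]; rfl
      · simp only [Category.assoc, pullback.diagonal_snd, Category.comp_id]; exact heq
    obtain ⟨k, hk⟩ := (yon S).map_surjective (sq.lift l ((yon S).map i₂') hfac)
    have hk2 : k ≫ i = i₂' := by
      apply (yon S).map_injective
      rw [Functor.map_comp, hk]; exact sq.lift_snd _ _ _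
    have hk3 : k.left ≫ i.left = Sq.i₂ := by
      have := congrArg (fun t => t.left) hk2
      exact this
    refine ⟨⟨{ l := k.left, fac_left := ?_, fac_right := hk3 }⟩⟩
    rw [← cancel_mono i.left, Category.assoc, hk3, Sq.commSq.w]
  exact { }

end Groth.Agent.S10291
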