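import Groth.Statements.S10327
import Groth.Agent.Lib.Helper14.SepVal6
import Groth.Agent.S10290
import Groth.Agent.S10291

set_option autoImplicit false
universe u
open CategoryTheory CategoryTheory.Limits AlgebraicGeometry
open AlgSp

namespace Groth.Agent.S10327

open AlgSp Groth.Agent.Lib.Helper14.AS in

/-- For f quasi-compact and quasi-separated, f is separated and universally closed if and only if the
valuative criterion holds, if and only if every valuative square has a unique lift. -/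
theorem result {S : Scheme.{u}} {X Y : AlgSp.Space S} (f : X ⟶ Y)
    (hqc : AlgSp.IsQuasiCompactMor f.hom) (hqs : AlgSp.IsQuasiSeparatedMor f.hom) :
    ((AlgSp.IsSeparatedMor f.hom ∧ AlgSp.IsUnivClosedMor f.hom) ↔ AlgSp.VC f.hom) ∧
    ((AlgSp.IsSeparatedMor f.hom ∧ AlgSp.IsUnivClosedMor f.hom) ↔
      (AlgSp.UniqVC f.hom ∧ AlgSp.ExistVCStrict f.hom)) := by
  have hE : AlgSp.IsUnivClosedMor f.hom → AlgSp.ExistVC f.hom := fun hc =>
    existVC_of_isDecentMor_of_isUnivClosedMor X.property Y.property f.hom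
      (isDecentMor_of_isQuasiSeparatedMor X.property Y.property f.hom hqs) hc
  have hC : AlgSp.ExistVC f.hom → AlgSp.IsUnivClosedMor f.hom := fun he =>
    isUnivClosedMor_of_qc_existVC f.hom hqc he
  have h1 : (AlgSp.IsSeparatedMor f.hom ∧ AlgSp.IsUnivClosedMor f.hom) ↔ AlgSp.VC f.hom :=
    ⟨fun h => ⟨Groth.Agent.S10290.result f h.1, hE h.2⟩,
      fun h => ⟨Groth.Agent.S10291.result f hqs h.1, hC h.2⟩⟩
  refine ⟨h1, ?_, ?_⟩
  · rintro ⟨hs, hc⟩
    refine ⟨Groth.Agent.S10290.result f hs, fun sq => ?_⟩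
    obtain ⟨e, he⟩ := hE hc sq
    exact hasLift_of_domExt_of_isSeparatedMor X.property Y.property f.hom hs sq e he
  · rintro ⟨hu, he⟩
    exact h1.2 ⟨hu, existVC_of_existVCStrict f.hom he⟩

end Groth.Agent.S10327
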