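import Groth.Statements.S10065
import Groth.Agent.S10327
import Groth.Agent.Lib.Helper14.AlgSpDvrSep
import Groth.Agent.Lib.Helper14.DvrLift4

set_option autoImplicit false
universe u
open CategoryTheory CategoryTheory.Limits AlgebraicGeometry
open AlgSp

namespace Groth.Agent.S10065

/-- Let `f : X ⟶ Y` be quasi-separated and of finite type with `Y` locally Noetherian. Then `f` is
proper if and only if every valuative test square for `f` whose valuation ring is a discrete
valuation ring admits exactly one dotted arrow (a lift `Spec A ⟶ X`, with no extension of `A`). (The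
published statement also lists as equivalent conditions the valuative criterion and the same
unique-lift condition over arbitrary valuation rings, and a refinement to squares hitting a
codimension-0 point; this row states only the discrete valuation ring form.) -/
theorem result (S : Scheme.{u}) {X Y : AlgSp.Space S} (f : X ⟶ Y)
    (hqs : AlgSp.IsQuasiSeparatedMor f.hom) (hft : AlgSp.IsFiniteTypeMor f.hom) (hY : AlgSp.IsLocNoethSp Y.obj) :
    AlgSp.IsProperMor f.hom ↔ ∀ sq : AlgSp.ValSq f.hom, IsDiscreteValuationRing sq.A → sq.HasLift ∧ sq.HasUniq := by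
  constructor
  · rintro ⟨hs, -, hc⟩ sq _
    have h := ((Groth.Agent.S10327.result f hft.2 hqs).2).1 ⟨hs, hc⟩
    exact ⟨h.2 sq, h.1 sq⟩
  · intro h
    have hsep : AlgSp.IsSeparatedMor f.hom :=
      Groth.Agent.Lib.Helper14.AS.sep_of_dvr_uniq S X.property Y.property f.hom hqs hft.1 hY
        (fun sq hd => (h sq hd).2)
    exact ⟨hsep, hft,
      Groth.Agent.Lib.Helper14.AS.isUnivClosedMor_of_dvr_lift X.property Y.property f.hom hsep
        hft.2 hft.1 hY (fun sq hd => (h sq hd).1)⟩

end Groth.Agent.S10065
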