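import Groth.Statements.S10097
import Groth.Agent.Lib.Helper24.RepBySpBoot
import Groth.Agent.Lib.Helper14.AlgSpDiag

set_option autoImplicit false
universe u
open CategoryTheory CategoryTheory.Limits AlgebraicGeometry
open AlgSp

namespace Groth.Agent.S10097

open CategoryTheory CategoryTheory.Limits AlgebraicGeometry
open AlgSp
open Groth.Agent.Lib.Helper14.AS Groth.Agent.Lib.Helper24.RepBySp


/-- (1) ⇔ (2): for a presheaf of sets `F` on schemes over `S`, the diagonal `F ⟶ F × F` is representable
by algebraic spaces if and only if every map `h_T ⟶ F` from a scheme `T` over `S` is representable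
by algebraic spaces. -/
theorem result (S : Scheme.{u}) (F : AlgSp.PSp S) :
    AlgSp.RepBySp (Limits.diag F) ↔
      ∀ (T : Over S) (ξ : (AlgSp.pyon S).obj T ⟶ F), AlgSp.RepBySp ξ := by
  constructor
  · intro h T ξ U ζ F' fst snd sq
    have h1 := isPullback_diag_of_isPullback' sq
    let c := prodComparison (pyon S) T U
    have h2 : IsPullback (fst ≫ ξ) (prod.lift fst snd ≫ inv c) (Limits.diag F)
        (c ≫ prod.map ξ ζ) :=
      IsPullback.of_iso h1 (Iso.refl _) (Iso.refl _) (asIso c).symm (Iso.refl _) (by simp)
        (by simp) (by simp) (by simp)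
    exact h (c ≫ prod.map ξ ζ) (fst ≫ ξ) (prod.lift fst snd ≫ inv c) h2
  · intro h U η F' fst snd sq
    let η₁ := η ≫ prod.fst
    let η₂ := η ≫ prod.snd
    let pr₁ := pullback.fst η₁ η₂
    let pr₂ := pullback.snd η₁ η₂
    have hpr : pr₁ ≫ η₁ = pr₂ ≫ η₂ := pullback.condition
    have hA : IsAlgSpaceP (pullback η₁ η₂) :=
      h U η₁ η₂ pr₁ pr₂ (IsPullback.of_hasPullback _ _)
    have hfst1 : fst = snd ≫ η₁ := by
      have := congrArg (· ≫ prod.fst) sq.w
      simp only [Limits.diag, Category.assoc, prod.lift_fst, Category.comp_id] at this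
      exact this
    have hfst2 : fst = snd ≫ η₂ := by
      have := congrArg (· ≫ prod.snd) sq.w
      simp only [Limits.diag, Category.assoc, prod.lift_snd, Category.comp_id] at this
      exact this
    let s : F' ⟶ pullback η₁ η₂ := pullback.lift snd snd (by rw [← hfst1, ← hfst2])
    have hs1 : s ≫ pr₁ = snd := pullback.lift_fst _ _ _
    have hs2 : s ≫ pr₂ = snd := pullback.lift_snd _ _ _
    let c := prodComparison (pyon S) U U
    let m : pullback η₁ η₂ ⟶ (pyon S).obj (U ⨯ U) := prod.lift pr₁ pr₂ ≫ inv c
    have hm1 : m ≫ (pyon S).map prod.fst = pr₁ := by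
      change (prod.lift pr₁ pr₂ ≫ inv c) ≫ _ = _
      rw [Category.assoc, inv_prodComparison_map_fst, prod.lift_fst]
    have hm2 : m ≫ (pyon S).map prod.snd = pr₂ := by
      change (prod.lift pr₁ pr₂ ≫ inv c) ≫ _ = _
      rw [Category.assoc, inv_prodComparison_map_snd, prod.lift_snd]
    have hd1 : (pyon S).map (Limits.diag U) ≫ (pyon S).map prod.fst = 𝟙 _ := by
      rw [← Functor.map_comp, Limits.diag, prod.lift_fst, CategoryTheory.Functor.map_id]
    have hd2 : (pyon S).map (Limits.diag U) ≫ (pyon S).map prod.snd = 𝟙 _ := by
      rw [← Functor.map_comp, Limits.diag, prod.lift_snd, CategoryTheory.Functor.map_id]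
    have hext : ∀ {Z : PSp S} (x y : Z ⟶ (pyon S).obj (U ⨯ U)),
        x ≫ (pyon S).map prod.fst = y ≫ (pyon S).map prod.fst →
        x ≫ (pyon S).map prod.snd = y ≫ (pyon S).map prod.snd → x = y := by
      intro Z x y h1 h2
      rw [← cancel_mono c]
      apply Limits.prod.hom_ext
      · rw [Category.assoc, Category.assoc, prodComparison_fst]
        exact h1
      · rw [Category.assoc, Category.assoc, prodComparison_snd]
        exact h2
    have sqE : IsPullback s snd m ((pyon S).map (Limits.diag U)) := by
      refine isPullback_of_exists_unique ?_ ?_ ?_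
      · apply hext
        · rw [Category.assoc, hm1, hs1, Category.assoc, hd1, Category.comp_id]
        · rw [Category.assoc, hm2, hs2, Category.assoc, hd2, Category.comp_id]
      · intro Z x y hxy
        have hx1 : x ≫ pr₁ = y := by
          have := congrArg (· ≫ (pyon S).map prod.fst) hxy
          simp only [Category.assoc] at this
          rw [hm1, hd1, Category.comp_id] at this
          exact this
        have hx2 : x ≫ pr₂ = y := by
          have := congrArg (· ≫ (pyon S).map prod.snd) hxy
          simp only [Category.assoc] at this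
          rw [hm2, hd2, Category.comp_id] at this
          exact this
        have hy : y ≫ η₁ = y ≫ η₂ := by
          rw [← hx1, Category.assoc, hpr, ← Category.assoc, hx2, hx1]
        have hcomm : (y ≫ η₁) ≫ Limits.diag F = y ≫ η := by
          apply Limits.prod.hom_ext
          · simp only [Limits.diag, Category.assoc, prod.lift_fst, Category.comp_id]
            rfl
          · simp only [Limits.diag, Category.assoc, prod.lift_snd, Category.comp_id]
            exact hy
        refine ⟨sq.lift (y ≫ η₁) y hcomm, ?_, sq.lift_snd _ _ _⟩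
        apply pullback.hom_ext
        · change _ ≫ pr₁ = x ≫ pr₁
          rw [Category.assoc, hs1, sq.lift_snd, hx1]
        · change _ ≫ pr₂ = x ≫ pr₂
          rw [Category.assoc, hs2, sq.lift_snd, hx2]
      · intro Z z z' _ h2
        apply sq.hom_ext
        · rw [hfst1, ← Category.assoc, h2, Category.assoc]
        · exact h2
    have hδ : RepBySp ((pyon S).map (Limits.diag U)) :=
      (representable_yon_map (Limits.diag U)).repBySp
    exact isAlgSpaceP_of_isPullback sqE.flip hδ hA

end Groth.Agent.S10097
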