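import Groth.Statements.S10099
import Groth.Agent.Lib.Helper24.SpaceAtlasDiag

set_option autoImplicit false
universe u
open CategoryTheory CategoryTheory.Limits AlgebraicGeometry
open AlgSp

namespace Groth.Agent.S10099

open CategoryTheory CategoryTheory.Limits AlgebraicGeometry
open AlgSp
open Groth.Agent.Lib.Helper24.Slqf Groth.Agent.Lib.Helper14.AS

set_option backward.isDefEq.respectTransparency.types false in
theorem core {S : Scheme.{u}} {F X : Sp S} (p : X ⟶ F)
    (hp : ∀ ⦃U : Over S⦄ (ξ : (yon S).obj U ⟶ F) ⦃F' : Sp S⦄ (fst : F' ⟶ X)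
      (snd : F' ⟶ (yon S).obj U), IsPullback fst snd p ξ → IsAlgSpace F' ∧
        (IsSurjectiveMor ⊓ LocP @Flat ⊓ LocP @LocallyOfFinitePresentation) snd)
    {U : Over S} (a : (yon S).obj U ⟶ X) (hae : RepWith @Etale a) (has : RepWith @Surjective a) :
    Representable (Limits.diag F) := by
  refine representable_diag_of_space_atlas (a ≫ p) ?_
  intro T ξ G fstG sndG sq
  obtain ⟨hP, ⟨hsurj, hflat⟩, hlfp⟩ := hp ξ (pullback.fst p ξ) (pullback.snd p ξ)
    (IsPullback.of_hasPullback p ξ)
  let k : G ⟶ pullback p ξ := pullback.lift (fstG ≫ a) sndG (by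
    rw [Category.assoc]; exact sq.w)
  have hk1 : k ≫ pullback.fst p ξ = fstG ≫ a := pullback.lift_fst _ _ _
  have hk2 : k ≫ pullback.snd p ξ = sndG := pullback.lift_snd _ _ _
  have sqk : IsPullback k fstG (pullback.fst p ξ) a := by
    refine IsPullback.of_right ?_ hk1 (IsPullback.of_hasPullback p ξ).flip
    rw [hk2]
    exact sq.flip
  have hke : RepWith @Etale k := repWith_of_isPullback _ sqk.flip hae
  have hks : RepWith @Surjective k := repWith_of_isPullback _ sqk.flip has
  have hG : IsAlgSpace G := isAlgSpace_of_representable_to hP k hke.rep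
  refine ⟨hG, ⟨?_, ?_⟩, ?_⟩
  · rw [← hk2]
    intro y
    obtain ⟨z, hz⟩ := hsurj y
    obtain ⟨w, hw⟩ := points_map_surjective_of_repWith hks z
    exact ⟨w, by rw [Points.map_comp, hw, hz]⟩
  · rw [← hk2]
    exact locP_comp etLocal_flat hG hP (IsAlgSpace.yon_obj T) k _
      (locP_of_repWith etale_le_flat (repWith_mono etale_le_flat hke)) hflat
  · rw [← hk2]
    exact locP_comp etLocal_lfp hG hP (IsAlgSpace.yon_obj T) k _
      (locP_of_repWith etale_le_lfp (repWith_mono etale_le_lfp hke)) hlfp


/-- Let `F` be an fppf sheaf of sets over `S` and `X ⟶ F` a map from an algebraic space that is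
representable by algebraic spaces and is flat, surjective and locally of finite presentation. It
follows that the diagonal `F ⟶ F × F` is representable (by schemes). -/
theorem result (S : Scheme.{u}) (F : AlgSp.Sp S) (X : AlgSp.Space S)
    (p : X.obj ⟶ F) (hp : AlgSp.RepBySpWith (AlgSp.IsSurjectiveMor ⊓ AlgSp.LocP @Flat ⊓ AlgSp.LocP @LocallyOfFinitePresentation) p.hom) :
    AlgSp.Representable (Limits.diag F) := by
  rw [repBySpWith_hom_iff] at hp
  obtain ⟨U, a, hae, has⟩ := X.property.atlas
  exact core p hp a hae has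

end Groth.Agent.S10099
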