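import Groth.Statements.S10100
import Groth.Agent.Lib.Helper24.SlqfApp

set_option autoImplicit false
universe u
open CategoryTheory CategoryTheory.Limits AlgebraicGeometry
open AlgSp

namespace Groth.Agent.S10100

open CategoryTheory CategoryTheory.Limits AlgebraicGeometry
open AlgSp
open Groth.Agent.Lib.Helper24.Slqf Groth.Agent.Lib.Helper14.AS

set_option backward.isDefEq.respectTransparency.types false in

/-- Let `F` be a presheaf of sets on schemes over `S`, `X` a scheme over `S` and `h_X ⟶ F` a map which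
is representable by algebraic spaces and locally quasi-finite. Then `h_X ⟶ F` is representable by
schemes. -/
theorem result (S : Scheme.{u}) (F : AlgSp.PSp S) (X : Over S)
    (p : (AlgSp.pyon S).obj X ⟶ F)
    (hp : AlgSp.RepBySpWith (AlgSp.LocP (@LocallyQuasiFinite ⊓ @LocallyOfFiniteType)) p) :
    (AlgSp.pyon S).relativelyRepresentable p := by
  intro U ξ
  have sq := IsPullback.of_hasPullback p ξ
  obtain ⟨hSh, hAlg, hQ⟩ := hp ξ (pullback.fst p ξ) (pullback.snd p ξ) sq
  let E : Sp S := ⟨pullback p ξ, hSh⟩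
  let fstE : E ⟶ (yon S).obj X := ObjectProperty.homMk (pullback.fst p ξ)
  let sndE : E ⟶ (yon S).obj U := ObjectProperty.homMk (pullback.snd p ξ)
  obtain ⟨W, ⟨ε⟩⟩ := rep_of_joint_mono (E := E) hAlg fstE sndE (by
    intro Z x y h1 h2
    apply ObjectProperty.hom_ext
    apply pullback.hom_ext
    · exact congrArg (fun f => f.hom) h1
    · exact congrArg (fun f => f.hom) h2) hQ
  obtain ⟨ρ, hρ⟩ := (yon S).map_surjective (ε.hom ≫ sndE)
  refine ⟨W, ρ, (ε.hom ≫ fstE).hom, ?_⟩
  have hρ' : (pyon S).map ρ = (ε.hom ≫ sndE).hom := congrArg (fun f => f.hom) hρ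
  rw [hρ']
  let εp : (pyon S).obj W ≅ pullback p ξ := (sheafToPresheaf (J S) (Type (u + 1))).mapIso ε
  have hid : ε.inv.hom ≫ ε.hom.hom = 𝟙 (pullback p ξ) := εp.inv_hom_id
  exact IsPullback.of_iso sq εp.symm (Iso.refl _) (Iso.refl _) (Iso.refl _)
    (by
      simp only [Iso.symm_hom, Iso.refl_hom, Category.comp_id]
      change _ = ε.inv.hom ≫ ε.hom.hom ≫ pullback.fst p ξ
      rw [← Category.assoc, hid, Category.id_comp])
    (by
      simp only [Iso.symm_hom, Iso.refl_hom, Category.comp_id]
      change _ = ε.inv.hom ≫ ε.hom.hom ≫ pullback.snd p ξ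
      rw [← Category.assoc, hid, Category.id_comp]) (by simp) (by simp)

end Groth.Agent.S10100
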