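import Groth.Statements.S10138
import Groth.Agent.Lib.Helper24.Boot9
import Groth.Agent.Lib.Helper24.SrcLocP

set_option autoImplicit false
universe u
open CategoryTheory CategoryTheory.Limits AlgebraicGeometry
open AlgSp

namespace Groth.Agent.S10138

open CategoryTheory CategoryTheory.Limits AlgebraicGeometry
open AlgSp Groth.Agent.Lib.Helper14.AS

set_option backward.isDefEq.respectTransparency false in
set_option backward.isDefEq.respectTransparency.types false in

/-- Let `{X_i ⟶ X}` be an fppf covering of algebraic spaces over `S`. Then every descent datum for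
algebraic spaces relative to it is effective; concretely, an fppf sheaf `F ⟶ X` all of whose base
changes `F ×_X X_i` are algebraic spaces is an algebraic space. (The published statement asks the
index set to be countable, which is only a size condition and may be ignored; this row allows any
index type in the universe of `S`. The published part (2), which asks the `Y_i ⟶ X_i` to be of
finite type instead, is then a special case of this row.) -/
theorem result (S : Scheme.{u}) (X : AlgSp.Space S) {ι : Type u}
    (Xi : ι → AlgSp.Space S) (g : ∀ i, (Xi i).obj ⟶ X.obj) (hcov : AlgSp.IsFppfCover (fun i => (Xi i).obj) g)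
    (F : AlgSp.Sp S) (p : F ⟶ X.obj)
    (h : ∀ (i : ι) (P : AlgSp.Sp S) (fst : P ⟶ F) (snd : P ⟶ (Xi i).obj), IsPullback fst snd p (g i) → AlgSp.IsAlgSpace P) :
    AlgSp.IsAlgSpace F := by
  have outer : ∀ (i : ι) ⦃U : Over S⦄ (ξ : (yon S).obj U ⟶ F) ⦃F' : Sp S⦄
      (fst : F' ⟶ pullback p (g i)) (snd : F' ⟶ (yon S).obj U),
      IsPullback fst snd (pullback.fst p (g i)) ξ →
      IsPullback (fst ≫ pullback.snd p (g i)) snd (g i) (ξ ≫ p) := fun i U ξ F' fst snd sq =>
    sq.paste_horiz (IsPullback.of_hasPullback p (g i)).flip
  refine Groth.Agent.Lib.Helper24.Boot9.isAlgSpace_of_fppf_family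
    (fun i => pullback p (g i)) (fun i => pullback.fst p (g i))
    (fun i => h i _ _ _ (IsPullback.of_hasPullback p (g i))) ?_ ?_
  · intro i U ξ F' fst snd sq
    have o := outer i ξ fst snd sq
    have hU := IsAlgSpace.yon_obj U
    refine ⟨isAlgSpace_of_isPullback (repDiag_of_isAlgSpace X.property) (Xi i).property hU o, ?_, ?_⟩
    · exact locP_baseChange etLocal_flat (Xi i).property X.property hU (g i) (ξ ≫ p) _ snd o
        (hcov.1 i).1
    · exact locP_baseChange etLocal_lfp (Xi i).property X.property hU (g i) (ξ ≫ p) _ snd o
        (hcov.1 i).2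
  · intro U ξ x
    obtain ⟨i, xi, hxi⟩ := hcov.2 (Points.map (ξ ≫ p) x)
    have o := outer i ξ _ _ (IsPullback.of_hasPullback (pullback.fst p (g i)) ξ)
    obtain ⟨z, -, hz2⟩ := points_exists_of_isPullback o xi x hxi
    exact ⟨i, z, hz2⟩

end Groth.Agent.S10138
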