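import Groth.Statements.S10105
import Groth.Agent.S10138
import Groth.Agent.Lib.Helper24.AlgStLocQ6

set_option autoImplicit false
universe u
open CategoryTheory CategoryTheory.Limits AlgebraicGeometry
open AlgSp

namespace Groth.Agent.S10105

open CategoryTheory CategoryTheory.Limits AlgebraicGeometry
open AlgSp Groth.Agent.Lib.Helper14.AS

set_option backward.isDefEq.respectTransparency false in
set_option backward.isDefEq.respectTransparency.types false in

/-- Let `F` be an fppf sheaf of sets over `S` and `{S_i ⟶ S}` an fppf covering. If every `h_{S_i} × F`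
is an algebraic space and the coproduct `∐ h_{S_i} × F` (in sheaves) is an algebraic space, then `F`
is an algebraic space: being an algebraic space is fppf local on the base. -/
theorem result (S : Scheme.{u}) (F : AlgSp.Sp S) {ι : Type u} (Si : ι → Over S)
    (hfl : ∀ i, Flat (Si i).hom) (hfp : ∀ i, LocallyOfFinitePresentation (Si i).hom)
    (hsurj : ∀ x : ↥S, ∃ (i : ι) (y : ↥(Si i).left), (Si i).hom.base y = x)
    (halg : ∀ i, AlgSp.IsAlgSpace ((AlgSp.yon S).obj (Si i) ⨯ F))
    (c : Cofan (fun i => (AlgSp.yon S).obj (Si i) ⨯ F)) (hc : IsColimit c) (hcop : AlgSp.IsAlgSpace c.pt) :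
    AlgSp.IsAlgSpace F := by
  have hT : IsTerminal ((yon S).obj (Over.mk (𝟙 S))) :=
    IsTerminal.isTerminalObj (yon S) _ Over.mkIdTerminal
  let X : Space S := ⟨(yon S).obj (Over.mk (𝟙 S)), IsAlgSpace.yon_obj _⟩
  let Xi : ι → Space S := fun i => ⟨(yon S).obj (Si i), IsAlgSpace.yon_obj _⟩
  let k : ∀ i, Si i ⟶ Over.mk (𝟙 S) := fun i => Over.homMk (Si i).hom
  let g : ∀ i, (Xi i).obj ⟶ X.obj := fun i => (yon S).map (k i)
  have hcov : IsFppfCover (fun i => (Xi i).obj) g := by
    refine ⟨fun i => ⟨?_, ?_⟩, fun x => ?_⟩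
    · exact Groth.Agent.Lib.Helper24.AlgStLocQ6.locP_yon_map_of etLocal_flat (hfl i)
    · exact Groth.Agent.Lib.Helper24.AlgStLocQ6.locP_yon_map_of etLocal_lfp (hfp i)
    · obtain ⟨s, rfl⟩ := (Points.schemeHomeo (Over.mk (𝟙 S))).surjective x
      obtain ⟨i, y, hy⟩ := hsurj s
      refine ⟨i, Points.schemeHomeo (Si i) y, ?_⟩
      change Points.map ((yon S).map (k i)) (Points.schemeHomeo (Si i) y) = _
      rw [Points.map_yon_map_apply]
      congr 1
  refine Groth.Agent.S10138.result S X Xi g hcov F (hT.from F) ?_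
  intro i P fst snd sq
  have e : P ≅ (yon S).obj (Si i) ⨯ F :=
    { hom := prod.lift snd fst
      inv := sq.lift prod.snd prod.fst (hT.hom_ext _ _)
      hom_inv_id := by
        apply sq.hom_ext
        · rw [Category.assoc, sq.lift_fst, prod.lift_snd, Category.id_comp]
        · rw [Category.assoc, sq.lift_snd, prod.lift_fst, Category.id_comp]
      inv_hom_id := by
        apply Limits.prod.hom_ext
        · rw [Category.assoc, prod.lift_fst, sq.lift_snd, Category.id_comp]
        · rw [Category.assoc, prod.lift_snd, sq.lift_fst, Category.id_comp] }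
  exact (halg i).of_iso e.symm

end Groth.Agent.S10105
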