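import Groth.Statements.S10108
import Groth.Agent.Lib.Helper24.EtSheaf

set_option autoImplicit false
universe u
open CategoryTheory CategoryTheory.Limits AlgebraicGeometry
open AlgSp

namespace Groth.Agent.S10108

open CategoryTheory CategoryTheory.Limits AlgebraicGeometry
open AlgSp
open Groth.Agent.Lib.Helper14.AS Groth.Agent.Lib.Helper24.EtSheaf Opposite


/-- A presheaf of sets on schemes over `S` which is a sheaf for the etale topology, has diagonal
representable by schemes, and receives a representable surjective etale map from a scheme over `S`,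
is an algebraic space (in particular an fppf sheaf): algebraic spaces defined with the etale
topology are the same as with the fppf topology. -/
theorem result (S : Scheme.{u}) (F : AlgSp.PSp S)
    (h1 : Presheaf.IsSheaf (QuotSh.J Scheme.etalePrecoverage S) F)
    (h2 : (AlgSp.pyon S).relativelyRepresentable (Limits.diag F))
    (U : Over S) (p : (AlgSp.pyon S).obj U ⟶ F)
    (h3 : (MorphismProperty.inverseImage @Etale (Over.forget S)).relative (AlgSp.pyon S) p ∧
      (MorphismProperty.inverseImage @Surjective (Over.forget S)).relative (AlgSp.pyon S) p) :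
    AlgSp.IsAlgSpaceP F := by
  have hr := h3.1.rep
  let R : Over S := hr.pullback p
  let s : R ⟶ U := hr.snd p
  let t : R ⟶ U := hr.fst' p
  have sq : IsPullback ((pyon S).map t) ((pyon S).map s) p p := hr.isPullback' p
  have hrel : ∀ (T : Over S) (a b : T ⟶ U), (∃ r : T ⟶ R, r ≫ t = a ∧ r ≫ s = b) ↔
      (pyon S).map a ≫ p = (pyon S).map b ≫ p := by
    intro T a b
    constructor
    · rintro ⟨r, rfl, rfl⟩
      rw [Functor.map_comp, Functor.map_comp, Category.assoc, Category.assoc, sq.w]
    · intro h
      obtain ⟨r, hr'⟩ := (pyon S).map_surjective (sq.lift _ _ h)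
      refine ⟨r, (pyon S).map_injective ?_, (pyon S).map_injective ?_⟩
      · rw [Functor.map_comp, hr', sq.lift_fst]
      · rw [Functor.map_comp, hr', sq.lift_snd]
  have hR : IsEtaleEqvRel s t := by
    refine ⟨⟨?_, ?_⟩, ?_, ?_⟩
    · intro T r r' h1 h2
      apply (pyon S).map_injective
      apply sq.hom_ext
      · rw [← Functor.map_comp, ← Functor.map_comp, h1]
      · rw [← Functor.map_comp, ← Functor.map_comp, h2]
    · intro T
      refine ⟨fun a => (hrel T a a).2 rfl, fun {a b} h => (hrel T b a).2 ((hrel T a b).1 h).symm,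
        fun {a b c} h1 h2 => (hrel T a c).2 (((hrel T a b).1 h1).trans ((hrel T b c).1 h2))⟩
    · exact h3.1.property p _ s sq
    · exact h3.1.property p _ t sq.flip
  refine isAlgSpaceP_of_etale_sheaf h1 s t p hR sq ?_
  intro T x
  let g : (pyon S).obj T ⟶ F := uliftYonedaEquiv.symm x
  refine ⟨hr.pullback g, hr.snd g, h3.1.property_snd g,
    h3.2.property g _ _ (hr.isPullback g), hr.fst' g, ?_⟩
  have hw := congrArg uliftYonedaEquiv.{u + 1} (hr.isPullback' g).w
  rw [uliftYonedaEquiv_comp, uliftYonedaEquiv_uliftYoneda_map] at hw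
  rw [hw]
  have hn := uliftYonedaEquiv_naturality.{u + 1} g (hr.snd g).op
  have hx : uliftYonedaEquiv.{u + 1} g = x := Equiv.apply_symm_apply _ _
  rw [hx] at hn
  exact hn.symm

end Groth.Agent.S10108
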