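import Groth.Statements.S10109
import Groth.Agent.Lib.Helper24.SlqfEtCoverP

set_option autoImplicit false
universe u
open CategoryTheory CategoryTheory.Limits AlgebraicGeometry
open AlgSp

namespace Groth.Agent.S10109

open CategoryTheory CategoryTheory.Limits AlgebraicGeometry
open AlgSp
open Groth.Agent.Lib.Helper14.AS Groth.Agent.Lib.Helper24.EtSheaf Groth.Agent.Lib.Helper24.Slqf Opposite


/-- A presheaf of sets on schemes over `S` which is a sheaf for the etale topology and receives a map
from an algebraic space which is representable by algebraic spaces, surjective and etale, is an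
algebraic space (in particular an fppf sheaf). -/
theorem result (S : Scheme.{u}) (F : AlgSp.PSp S)
    (h1 : Presheaf.IsSheaf (QuotSh.J Scheme.etalePrecoverage S) F) (U : AlgSp.Space S) (p : U.obj.obj ⟶ F)
    (h2 : AlgSp.RepBySpWith (AlgSp.IsSurjectiveMor ⊓ AlgSp.IsEtaleMor) p) :
    AlgSp.IsAlgSpaceP F := by
  obtain ⟨_, V, a, hae, has⟩ := U.property
  let q : (pyon S).obj V ⟶ F := a.hom ≫ p
  have hr : (pyon S).relativelyRepresentable q := relativelyRepresentable_comp_atlasP p h2 a hae has
  have hprop : ∀ {T W : Over S} (ξ : (pyon S).obj T ⟶ F)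
      (fstW : (pyon S).obj W ⟶ (pyon S).obj V) (r : W ⟶ T)
      (_ : IsPullback fstW ((pyon S).map r) q ξ), Etale r.left ∧ Surjective r.left :=
    fun ξ fstW r sq => prop_comp_atlasP p h2 a hae has ξ fstW r sq
  let R : Over S := hr.pullback q
  let s : R ⟶ V := hr.snd q
  let t : R ⟶ V := hr.fst' q
  have sq : IsPullback ((pyon S).map t) ((pyon S).map s) q q := hr.isPullback' q
  have hrel : ∀ (T : Over S) (a b : T ⟶ V), (∃ r : T ⟶ R, r ≫ t = a ∧ r ≫ s = b) ↔
      (pyon S).map a ≫ q = (pyon S).map b ≫ q := by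
    intro T a b
    constructor
    · rintro ⟨r, rfl, rfl⟩
      rw [Functor.map_comp, Functor.map_comp, Category.assoc, Category.assoc, sq.w]
    · intro h
      obtain ⟨r, hr'⟩ := (pyon S).map_surjective (sq.lift _ _ h)
      refine ⟨r, (pyon S).map_injective ?_, (pyon S).map_injective ?_⟩
      · rw [Functor.map_comp, hr', sq.lift_fst]
      · rw [Functor.map_comp, hr', sq.lift_snd]
  have hR : IsEtaleEqvRel s t := by
    refine ⟨⟨?_, ?_⟩, ?_, ?_⟩
    · intro T r r' h1 h2
      apply (pyon S).map_injective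
      apply sq.hom_ext
      · rw [← Functor.map_comp, ← Functor.map_comp, h1]
      · rw [← Functor.map_comp, ← Functor.map_comp, h2]
    · intro T
      refine ⟨fun a => (hrel T a a).2 rfl, fun {a b} h => (hrel T b a).2 ((hrel T a b).1 h).symm,
        fun {a b c} h1 h2 => (hrel T a c).2 (((hrel T a b).1 h1).trans ((hrel T b c).1 h2))⟩
    · exact (hprop q _ s sq).1
    · exact (hprop q _ t sq.flip).1
  refine isAlgSpaceP_of_etale_sheaf h1 s t q hR sq ?_
  intro T x
  let g : (pyon S).obj T ⟶ F := uliftYonedaEquiv.symm x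
  have hg := hprop g _ (hr.snd g) (hr.isPullback g)
  refine ⟨hr.pullback g, hr.snd g, hg.1, hg.2, hr.fst' g, ?_⟩
  have hw0 : (pyon S).map (hr.fst' g) ≫ q = (pyon S).map (hr.snd g) ≫ g := (hr.isPullback' g).w
  have hw := congrArg uliftYonedaEquiv.{u + 1} hw0
  have e1 := uliftYonedaEquiv_comp.{u + 1} ((pyon S).map (hr.fst' g)) q
  have e2 := uliftYonedaEquiv_comp.{u + 1} ((pyon S).map (hr.snd g)) g
  rw [uliftYonedaEquiv_uliftYoneda_map] at e1 e2
  refine (e1.symm.trans (hw.trans e2)).trans ?_
  have hn := uliftYonedaEquiv_naturality.{u + 1} g (hr.snd g).op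
  have hx : uliftYonedaEquiv.{u + 1} g = x := Equiv.apply_symm_apply _ _
  rw [hx] at hn
  exact hn.symm

end Groth.Agent.S10109
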