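import Groth.Statements.S10111
import Groth.Agent.Lib.Helper24.ZarFppf

set_option autoImplicit false
universe u v
open CategoryTheory CategoryTheory.Limits AlgebraicGeometry
open AlgSp

namespace Groth.Agent.S10111

open CategoryTheory CategoryTheory.Limits AlgebraicGeometry
open AlgSp
open Groth.Agent.Lib.Helper14.AS Groth.Agent.Lib.Helper24.ZarFppf Groth.Agent.Lib.Helper24.LocSubsheaf Opposite


/-- Let `F` be a presheaf of sets on schemes over `S` which is a Zariski sheaf, and `F_i ⊂ F` a family
of subfunctors which are fppf sheaves, whose inclusions are representable by algebraic spaces, and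
such that `∐ F_i ⟶ F` becomes surjective after fppf sheafification (every section of `F` lies fppf
locally in some `F_i`). Then `F` is an fppf sheaf. -/
theorem result (S : Scheme.{u}) (F : AlgSp.PSp S)
    (h1 : Presheaf.IsSheaf (QuotSh.J Scheme.zariskiPrecoverage S) F) {ι : Type v} (Fi : ι → AlgSp.PSp S)
    (m : ∀ i, Fi i ⟶ F) [∀ i, Mono (m i)] (ha : ∀ i, Presheaf.IsSheaf (AlgSp.J S) (Fi i))
    (hb : ∀ i, AlgSp.RepBySp (m i))
    (hc : ∀ (T : Over S) (x : F.obj (Opposite.op T)), ∃ R ∈ (AlgSp.J S) T,
      ∀ ⦃T' : Over S⦄ (f : T' ⟶ T), R.arrows f → ∃ i, F.map f.op x ∈ Set.range ((m i).app (Opposite.op T'))) :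
    Presheaf.IsSheaf (AlgSp.J S) F := by
  rw [isSheaf_iff_isSheaf_of_type]
  have hinj : ∀ i T, Function.Injective ((m i).app T) := by
    intro i T
    have : Mono ((m i).app T) := inferInstance
    exact (mono_iff_injective _).1 this
  refine isSheaf (Jz := Jz S) (Fi := Fi) (m := m) ⟨Jz_le S, (isSheaf_iff_isSheaf_of_type _ _).1 h1, hinj,
    fun i => (isSheaf_iff_isSheaf_of_type _ _).1 (ha i), ?_, fun Ri h => geo Ri h, ?_⟩
  · intro i T x R hR hle
    exact desc_of_repBySp (m i) (hinj i) (hb i) x R hR (fun W c hc => hle _ hc)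
  · intro T x
    obtain ⟨R, hR, hR'⟩ := hc T x
    refine (AlgSp.J S).superset_covering ?_ hR
    intro W f hf
    exact hR' f hf

end Groth.Agent.S10111
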