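import Groth.Statements.S10121
import Groth.Agent.Lib.Helper14.AlgSpFieldPts

set_option autoImplicit false
universe u
open CategoryTheory CategoryTheory.Limits AlgebraicGeometry
open AlgSp

namespace Groth.Agent.S10121

open Groth.Agent.Lib.Helper14.AS in

/-- For a pre-equivalence relation `s, t : R ⟶ U` of algebraic spaces, the relation on points of `U`
given by `x ∼ y` when some point `r` of `R` has `t(r) = x` and `s(r) = y` is an equivalence relation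
on `|U|`. -/
theorem result (S : Scheme.{u}) (R U : AlgSp.Sp S)
    (hR : AlgSp.IsAlgSpace R) (hU : AlgSp.IsAlgSpace U) (s t : R ⟶ U) (h : AlgSp.IsPreEqvRelSp s t) :
    _root_.Equivalence (fun x y : AlgSp.Points U =>
      ∃ r : AlgSp.Points R, AlgSp.Points.map t r = x ∧ AlgSp.Points.map s r = y) := by
  refine ⟨?_, ?_, ?_⟩
  · intro x
    obtain ⟨K, _, strK, a, rfl⟩ := exists_fpt_eq x
    obtain ⟨ρ, h1, h2⟩ := (h (Over.mk strK)).refl a
    refine ⟨fpt ρ, ?_, ?_⟩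
    · rw [map_fpt, h1]
    · rw [map_fpt, h2]
  · rintro x y ⟨r, rfl, rfl⟩
    obtain ⟨K, _, strK, ρ, rfl⟩ := exists_fpt_eq r
    obtain ⟨ρ', h1, h2⟩ := (h (Over.mk strK)).symm ⟨ρ, rfl, rfl⟩
    refine ⟨fpt ρ', ?_, ?_⟩
    · rw [map_fpt, map_fpt, h1]
    · rw [map_fpt, map_fpt, h2]
  · rintro x y z ⟨r₁, rfl, rfl⟩ ⟨r₂, h₂, rfl⟩
    obtain ⟨K, _, strK, ρ₁, rfl⟩ := exists_fpt_eq r₁
    obtain ⟨L, _, strL, ρ₂, rfl⟩ := exists_fpt_eq r₂
    rw [map_fpt, map_fpt, fpt_eq_iff] at h₂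
    obtain ⟨Ω, _, w, i, j, hij⟩ := h₂
    obtain ⟨ρ, h1, h2⟩ := (h (Over.mk w)).trans
      ⟨(AlgSp.yon S).map j ≫ ρ₁, rfl, rfl⟩
      ⟨(AlgSp.yon S).map i ≫ ρ₂, by rw [Category.assoc, hij, Category.assoc], rfl⟩
    refine ⟨fpt ρ, ?_, ?_⟩
    · rw [map_fpt, map_fpt, h1, Category.assoc, fpt_comp_eq]
    · rw [map_fpt, map_fpt, h2, Category.assoc, fpt_comp_eq]

end Groth.Agent.S10121
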