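import Groth.Statements.S10131
import Groth.Agent.Lib.Helper14.AlgSpMisc3
import Groth.Agent.Lib.Helper14.AlgSpQCMor
import Groth.Agent.Lib.Helper14.AlgSpImmTop
import Groth.Agent.Lib.Helper8.AlgSpOpenSub
import Groth.Agent.Lib.Helper8.AlgSpPres

set_option autoImplicit false
universe u
open CategoryTheory CategoryTheory.Limits AlgebraicGeometry
open AlgSp AlgSp.GroupoidSp

namespace Groth.Agent.S10131

open Groth.Agent.Lib.Helper14.AS Groth.Agent.Lib.Helper8.AlgSpOpenSub Groth.Agent.Lib.Helper8.AlgSpPres in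

/-- Let `(U, R, s, t, c)` be a groupoid in algebraic spaces over `B` with `s, t` open and quasi-compact.
Then `U` has an open covering by `R`-invariant quasi-compact open subspaces. -/
theorem result (S : Scheme.{u}) (B : AlgSp.Sp S) (hB : AlgSp.IsAlgSpace B)
    (G : AlgSp.GroupoidSp B) (hU : AlgSp.IsAlgSpace G.U) (hR : AlgSp.IsAlgSpace G.R)
    (hs : AlgSp.IsOpenMor G.s ∧ AlgSp.IsQuasiCompactMor G.s) (ht : AlgSp.IsOpenMor G.t ∧ AlgSp.IsQuasiCompactMor G.t)
    (x : AlgSp.Points G.U) :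
    ∃ (W : AlgSp.Sp S) (w : W ⟶ G.U), AlgSp.RepWith @IsOpenImmersion w ∧ G.IsInvariant w ∧
      AlgSp.IsQuasiCompactSp W ∧ x ∈ Set.range (AlgSp.Points.map w) := by
  obtain ⟨V, hVo, hVc, hxV, -⟩ := exists_isOpen_isCompact_nhd hU x Set.univ isOpen_univ trivial
  set V' : Set (AlgSp.Points G.U) := AlgSp.Points.map G.s '' (AlgSp.Points.map G.t ⁻¹' V) with hV'
  have hV'o : IsOpen V' := hs.1 _ (hVo.preimage (AlgSp.Points.continuous_map G.t))
  have hV'c : IsCompact V' :=
    (isCompact_preimage_of_isQuasiCompactMor hU G.t ht.2 V hVo hVc).image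
      (AlgSp.Points.continuous_map G.s)
  have hxV' : x ∈ V' := by
    refine ⟨AlgSp.Points.map G.e x, ?_, ?_⟩
    · rw [Set.mem_preimage, ← AlgSp.Points.map_comp, G.e_t, AlgSp.Points.map_id]
      exact hxV
    · rw [← AlgSp.Points.map_comp, G.e_s, AlgSp.Points.map_id]
  obtain ⟨W', w', hw', hrange⟩ := exists_openSubspace ⟨G.U, hU⟩ V' hV'o
  refine ⟨W'.obj, w'.hom, hw', gpd_isInvariant_of_range_eq G w'.hom hw' V hrange, ?_, ?_⟩
  · rw [isQuasiCompactSp_iff_compactSpace W'.property]
    have hemb := (isEmbedding_points_of_repWith_isImmersion hU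
      (repWith_mono openImmersion_le_immersion hw')).1
    rw [← isCompact_univ_iff, hemb.isCompact_iff, Set.image_univ]
    change IsCompact (Set.range (AlgSp.Points.map w'.hom))
    rw [hrange]
    exact hV'c
  · change x ∈ Set.range (AlgSp.Points.map w'.hom)
    rw [hrange]
    exact hxV'

end Groth.Agent.S10131
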