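import Groth.Statements.S10141
import Groth.Agent.Lib.Helper24.QuotRestrict2

set_option autoImplicit false
universe u
open CategoryTheory CategoryTheory.Limits AlgebraicGeometry
open AlgSp

namespace Groth.Agent.S10141

open CategoryTheory CategoryTheory.Limits AlgebraicGeometry
open AlgSp
open Groth.Agent.Lib.Helper14.AS Groth.Agent.Lib.Helper24.QuotAtlas Groth.Agent.Lib.Helper24.QuotBridge Groth.Agent.Lib.Helper24.QuotRestrict Groth.Agent.Lib.Helper24.QuotRestrict2


/-- Let `(U, R, s, t, c)` be a groupoid scheme over `S` and `g : U' ⟶ U` a morphism such that the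
composite `h : U' ×_{g, U, t} R ⟶ R ⟶ U` of the projection with `s` has open image `W ⊂ U` and `h :
U' ×_{g, U, t} R ⟶ W` is a surjection of fppf sheaves. Then for the restriction `R' = R|_{U'}` the
map of fppf quotient sheaves `U'/R' ⟶ U/R` is representable and an open immersion. -/
theorem result (S : Scheme.{u}) (G : Grpd.GroupoidScheme S)
    (U' : Scheme.{u}) (g : U' ⟶ G.U) (W : G.U.Opens)
    (hW : (W : Set ↥G.U) = Set.range ⇑(pullback.snd g G.t ≫ G.s))
    (hlift : pullback g G.t ⟶ ↑W) (hh : hlift ≫ W.ι = pullback.snd g G.t ≫ G.s)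
    (hsurj : Sheaf.IsLocallySurjective ((AlgSp.yon S).map
      (Over.homMk hlift ((Category.assoc _ _ _).symm.trans (congrArg (· ≫ G.pU) hh)) :
        Over.mk ((pullback.snd g G.t ≫ G.s) ≫ G.pU) ⟶ Over.mk (W.ι ≫ G.pU))))
    (R' : Over S) (s' t' : R' ⟶ Over.mk (g ≫ G.pU)) (r : R' ⟶ Over.mk G.pR)
    (hsq : IsPullback (prod.lift t' s') r
      (prod.map (Over.homMk g rfl : Over.mk (g ≫ G.pU) ⟶ Over.mk G.pU) (Over.homMk g rfl : Over.mk (g ≫ G.pU) ⟶ Over.mk G.pU))
      (prod.lift (Over.homMk G.t G.t_over : Over.mk G.pR ⟶ Over.mk G.pU) (Over.homMk G.s G.s_over : Over.mk G.pR ⟶ Over.mk G.pU)))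
    (ψ : QuotSh.quot Scheme.fppfPrecoverage s' t' ⟶
      QuotSh.quot Scheme.fppfPrecoverage (Over.homMk G.s G.s_over : Over.mk G.pR ⟶ Over.mk G.pU) (Over.homMk G.t G.t_over : Over.mk G.pR ⟶ Over.mk G.pU))
    (hψ : QuotSh.quotπ Scheme.fppfPrecoverage s' t' ≫ ψ =
      QuotSh.repMap Scheme.fppfPrecoverage (Over.homMk g rfl : Over.mk (g ≫ G.pU) ⟶ Over.mk G.pU) ≫ QuotSh.quotπ Scheme.fppfPrecoverage _ _) :
    AlgSp.RepWith @IsOpenImmersion ψ := by
  have hpre := gpd_isPreEqvRelSp G
  let gO : Over.mk (g ≫ G.pU) ⟶ Uo G := Over.homMk g rfl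
  let φ' : Qs s' t' ⟶ Qs (sG G) (tG G) :=
    (quotIso s' t').hom ≫ ψ ≫ (quotIso (sG G) (tG G)).inv
  have hφ' : ps s' t' ≫ φ' = (yon S).map gO ≫ ps (sG G) (tG G) := by
    have h1 : π' (sG G) (tG G) ≫ (quotIso (sG G) (tG G)).inv = ps (sG G) (tG G) := by
      rw [← quotSpπ_quotIso_hom, Category.assoc, Iso.hom_inv_id, Category.comp_id]
    change ps s' t' ≫ (quotIso s' t').hom ≫ ψ ≫ (quotIso (sG G) (tG G)).inv = _
    rw [← Category.assoc, quotSpπ_quotIso_hom, π', Category.assoc, ← Category.assoc _ ψ, hψ,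
      Category.assoc, ← Category.assoc, ← repIso_inv_naturality, Category.assoc, ← h1, π',
      Category.assoc]
  have hliftR : ∀ (T : Over S) (a b : (yon S).obj T ⟶ (yon S).obj (Over.mk (g ≫ G.pU)))
      (r₀ : (yon S).obj T ⟶ (yon S).obj (Ro G)),
      r₀ ≫ (yon S).map (tG G) = a ≫ (yon S).map gO → r₀ ≫ (yon S).map (sG G) = b ≫ (yon S).map gO →
      ∃ r' : (yon S).obj T ⟶ (yon S).obj R', r' ≫ (yon S).map t' = a ∧ r' ≫ (yon S).map s' = b := by
    intro T a b r₀ h1 h2
    obtain ⟨a, rfl⟩ := (yon S).map_surjective a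
    obtain ⟨b, rfl⟩ := (yon S).map_surjective b
    obtain ⟨r₀, rfl⟩ := (yon S).map_surjective r₀
    rw [← Functor.map_comp, ← Functor.map_comp] at h1 h2
    have e1 := (yon S).map_injective h1
    have e2 := (yon S).map_injective h2
    have hc : prod.lift a b ≫ prod.map gO gO = r₀ ≫ prod.lift (tG G) (sG G) := by
      apply Limits.prod.hom_ext
      · rw [Category.assoc, prod.map_fst, prod.lift_fst_assoc, Category.assoc, prod.lift_fst, e1]
      · rw [Category.assoc, prod.map_snd, prod.lift_snd_assoc, Category.assoc, prod.lift_snd, e2]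
    refine ⟨(yon S).map (hsq.lift _ _ hc), ?_, ?_⟩
    · have := congrArg (· ≫ prod.fst) (hsq.lift_fst _ _ hc)
      simp only [Category.assoc, prod.lift_fst] at this
      rw [← Functor.map_comp, this]
    · have := congrArg (· ≫ prod.snd) (hsq.lift_fst _ _ hc)
      simp only [Category.assoc, prod.lift_snd] at this
      rw [← Functor.map_comp, this]
  have hm : Mono φ' := mono_quot_map _ _ hpre _ _ _ hliftR φ' hφ'
  have hrep : RepWith @IsOpenImmersion φ' := by
    refine repWith_isOpenImmersion_of_open (s := sG G) (t := tG G) (U := Uo G) W ?_ ?_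
    · intro W' ω hω
      have hr' : Set.range ω.left ⊆ Set.range W.ι := by
        rw [Scheme.Opens.range_ι]
        exact hω
      let ω' : W' ⟶ Over.mk (W.ι ≫ G.pU) :=
        Over.homMk (IsOpenImmersion.lift W.ι ω.left hr') (by
          change IsOpenImmersion.lift W.ι ω.left hr' ≫ W.ι ≫ G.pU = W'.hom
          rw [← Category.assoc, IsOpenImmersion.lift_fac]
          exact Over.w ω)
      have hω' : ω'.left ≫ W.ι = ω.left := IsOpenImmersion.lift_fac _ _ _
      have := hsurj
      obtain ⟨Rv, hRv, hl'⟩ := exists_cover_lift ((yon S).map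
        (Over.homMk hlift ((Category.assoc _ _ _).symm.trans (congrArg (· ≫ G.pU) hh)) :
          Over.mk ((pullback.snd g G.t ≫ G.s) ≫ G.pU) ⟶ Over.mk (W.ι ≫ G.pU))) ((yon S).map ω')
      refine factors_of_presieve φ' _ Rv hRv (fun W₁ w₁ hw₁ => ?_)
      obtain ⟨l, hl₁⟩ := hl' w₁ hw₁
      obtain ⟨l₀, rfl⟩ := (yon S).map_surjective l
      rw [← Functor.map_comp, ← Functor.map_comp] at hl₁
      have hl₂ := congrArg (fun f => f.left) ((yon S).map_injective hl₁)
      have hl₃ : l₀.left ≫ hlift = w₁.left ≫ ω'.left := hl₂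
      have hl₀ : l₀.left ≫ (pullback.snd g G.t ≫ G.s) ≫ G.pU = W₁.hom := Over.w l₀
      let u₁ : W₁ ⟶ Over.mk (g ≫ G.pU) := Over.homMk (l₀.left ≫ pullback.fst g G.t) (by
        change (l₀.left ≫ pullback.fst g G.t) ≫ g ≫ G.pU = W₁.hom
        refine Eq.trans ?_ hl₀
        have hc := pullback.condition (f := g) (g := G.t)
        have h3 : pullback.fst g G.t ≫ g ≫ G.pU = (pullback.snd g G.t ≫ G.s) ≫ G.pU := by
          rw [← Category.assoc, hc, Category.assoc, Category.assoc, G.t_over, G.s_over]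
        exact (Category.assoc _ _ _).trans (congrArg (fun k => l₀.left ≫ k) h3))
      let ρ₁ : W₁ ⟶ Ro G := Over.homMk (l₀.left ≫ pullback.snd g G.t) (by
        change (l₀.left ≫ pullback.snd g G.t) ≫ G.pR = W₁.hom
        refine Eq.trans ?_ hl₀
        have h3 : pullback.snd g G.t ≫ G.pR = (pullback.snd g G.t ≫ G.s) ≫ G.pU := by
          rw [Category.assoc, G.s_over]
        exact (Category.assoc _ _ _).trans (congrArg (fun k => l₀.left ≫ k) h3))
      have e1 : ρ₁ ≫ tG G = u₁ ≫ gO := by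
        ext1
        change (l₀.left ≫ pullback.snd g G.t) ≫ G.t = (l₀.left ≫ pullback.fst g G.t) ≫ g
        exact (Category.assoc _ _ _).trans ((congrArg (fun k => l₀.left ≫ k)
          (pullback.condition (f := g) (g := G.t)).symm).trans (Category.assoc _ _ _).symm)
      have e2 : ρ₁ ≫ sG G = w₁ ≫ ω := by
        ext1
        change (l₀.left ≫ pullback.snd g G.t) ≫ G.s = w₁.left ≫ ω.left
        calc (l₀.left ≫ pullback.snd g G.t) ≫ G.s
            = l₀.left ≫ (pullback.snd g G.t ≫ G.s) := Category.assoc _ _ _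
          _ = l₀.left ≫ (hlift ≫ W.ι) := congrArg (fun k => l₀.left ≫ k) hh.symm
          _ = (l₀.left ≫ hlift) ≫ W.ι := (Category.assoc _ _ _).symm
          _ = (w₁.left ≫ ω'.left) ≫ W.ι := congrArg (fun k => k ≫ W.ι) hl₃
          _ = w₁.left ≫ (ω'.left ≫ W.ι) := Category.assoc _ _ _
          _ = w₁.left ≫ ω.left := congrArg (fun k => w₁.left ≫ k) hω'
      refine ⟨(yon S).map u₁ ≫ ps s' t', ?_⟩
      rw [Category.assoc, hφ', ← Functor.map_comp_assoc, ← e1, Functor.map_comp_assoc,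
        ← quotSp_condition, ← Functor.map_comp_assoc, e2, Functor.map_comp_assoc]
    · intro W' ω ξ hξ
      rintro _ ⟨w', rfl⟩
      have hp' : Epi (ps s' t') := epi_quotSpπ _ _
      have hls' : Sheaf.IsLocallySurjective (ps s' t') :=
        (Sheaf.isLocallySurjective_iff_epi _).2 hp'
      obtain ⟨Rv, hRv, hl⟩ := exists_cover_lift (ps s' t') ξ
      obtain ⟨W₁, w₁, hw₁, y₁, hy₁⟩ :=
        Groth.Agent.Lib.Helper24.DescSubsheaf.exists_mem_range_of_mem_KS Rv hRv w'
      obtain ⟨l, hl'⟩ := hl w₁ hw₁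
      obtain ⟨u₁, rfl⟩ := (yon S).map_surjective l
      have hrel : (yon S).map (u₁ ≫ gO) ≫ ps (sG G) (tG G) =
          (yon S).map (w₁ ≫ ω) ≫ ps (sG G) (tG G) := by
        rw [Functor.map_comp, Category.assoc, ← hφ', ← Category.assoc, hl', Category.assoc, hξ,
          Functor.map_comp, Category.assoc]
      obtain ⟨Sv, hSv, hlw⟩ := exists_cover_rel _ _ hpre _ _ hrel
      obtain ⟨Rv₂, hRv₂, hle⟩ := (mem_J_iff _).1 hSv
      obtain ⟨W₂, w₂, hw₂, y₂, hy₂⟩ :=
        Groth.Agent.Lib.Helper24.DescSubsheaf.exists_mem_range_of_mem_KS Rv₂ hRv₂ y₁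
      obtain ⟨r, h1, h2⟩ := hlw w₂ (hle _ _ hw₂)
      obtain ⟨ρ, rfl⟩ := (yon S).map_surjective r
      have e1 : ρ ≫ tG G = w₂ ≫ u₁ ≫ gO := by
        apply (yon S).map_injective
        rw [Functor.map_comp, h1, ← Functor.map_comp]
      have e2 : ρ ≫ sG G = w₂ ≫ w₁ ≫ ω := by
        apply (yon S).map_injective
        rw [Functor.map_comp, h2, ← Functor.map_comp]
      have e1' : G.t (ρ.left y₂) = g ((w₂ ≫ u₁).left y₂) := by
        have := congrArg (fun f => f.left y₂) e1
        simp only [Over.comp_left, Scheme.Hom.comp_apply] at this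
        exact this
      have e2' : G.s (ρ.left y₂) = ω.left w' := by
        have := congrArg (fun f => f.left y₂) e2
        simp only [Over.comp_left, Scheme.Hom.comp_apply] at this
        rw [hy₂, hy₁] at this
        exact this
      obtain ⟨z, -, hz⟩ := Scheme.Pullback.exists_preimage_pullback (f := g) (g := G.t)
        ((w₂ ≫ u₁).left y₂) (ρ.left y₂) e1'.symm
      change ω.left w' ∈ (W : Set ↥G.U)
      rw [hW]
      refine ⟨z, ?_⟩
      rw [Scheme.Hom.comp_apply, hz, e2']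
  have e : ψ = (quotIso s' t').inv ≫ φ' ≫ (quotIso (sG G) (tG G)).hom := by
    simp [φ']
  rw [e]
  exact (MorphismProperty.cancel_left_of_respectsIso (RepWith @IsOpenImmersion) _ _).2
    ((MorphismProperty.cancel_right_of_respectsIso (RepWith @IsOpenImmersion) _ _).2 hrep)

end Groth.Agent.S10141
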