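import Groth.Statements.S10146
import Groth.Agent.Lib.Helper14.Steinitz
import Groth.Agent.Lib.Helper14.AlgSpFieldPts

set_option autoImplicit false
universe u
open CategoryTheory CategoryTheory.Limits AlgebraicGeometry
open AlgSp AlgSp.GroupoidSp

namespace Groth.Agent.S10146

/-- Let `(U, R, s, t, c)` be a groupoid in algebraic spaces over `B` whose object space is `U = Spec k`.
For every point `r` of `R` there are an algebraically closed field extension `k'` of `k` and, on the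
restriction `(U', R', s', t', c')` along `Spec k' ⟶ Spec k`, a morphism `r' : Spec k' ⟶ R'` mapping
to `r` in `R` such that `s' ∘ r'` and `t' ∘ r'` are automorphisms of `Spec k'`. -/
theorem result (S : Scheme.{u}) (B : AlgSp.Sp S) (hB : AlgSp.IsAlgSpace B)
    (G : AlgSp.GroupoidSp B) (hR : AlgSp.IsAlgSpace G.R) (k : Type u) [Field k]
    (σ : Spec (CommRingCat.of k) ⟶ S) (eU : G.U ≅ (AlgSp.yon S).obj (Over.mk σ)) (r : AlgSp.Points G.R) :
    ∃ (k' : Type u) (_ : Field k') (_ : Algebra k k'), IsAlgClosed k' ∧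
      ∀ (G' : AlgSp.GroupoidSp B) (φ : AlgSp.GroupoidSp.Hom G' G), φ.IsRestriction → AlgSp.IsAlgSpace G'.R →
        ∀ (eU' : G'.U ≅ (AlgSp.yon S).obj (Over.mk (Spec.map (CommRingCat.ofHom (algebraMap k k')) ≫ σ))),
          φ.fU = eU'.hom ≫ (AlgSp.yon S).map (Over.homMk (Spec.map (CommRingCat.ofHom (algebraMap k k'))) rfl :
            Over.mk (Spec.map (CommRingCat.ofHom (algebraMap k k')) ≫ σ) ⟶ Over.mk σ) ≫ eU.inv →
          ∃ r' : G'.U ⟶ G'.R, (∀ x : AlgSp.Points G'.U, AlgSp.Points.map (r' ≫ φ.fR) x = r) ∧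
            IsIso (r' ≫ G'.s) ∧ IsIso (r' ≫ G'.t) := by
  classical
  obtain ⟨K, _, strK, ρ₀, rfl⟩ := Groth.Agent.Lib.Helper14.AS.exists_fpt_eq r
  obtain ⟨ms, hms⟩ := (AlgSp.yon S).map_surjective (ρ₀ ≫ G.s ≫ eU.hom)
  obtain ⟨mt, hmt⟩ := (AlgSp.yon S).map_surjective (ρ₀ ≫ G.t ≫ eU.hom)
  let fs : CommRingCat.of k ⟶ CommRingCat.of K := Spec.preimage ms.left
  let ft : CommRingCat.of k ⟶ CommRingCat.of K := Spec.preimage mt.left
  have hfs : Spec.map fs = ms.left := Spec.map_preimage _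
  have hft : Spec.map ft = mt.left := Spec.map_preimage _
  have hws : ms.left ≫ σ = strK := Over.w ms
  have hwt : mt.left ≫ σ = strK := Over.w mt
  obtain ⟨k', _, _, j, hcard⟩ := Groth.Agent.Lib.Helper14.AS.exists_big_algClosed K
  have hk : max (Cardinal.mk k) Cardinal.aleph0 < Cardinal.mk k' :=
    (max_le_max (Cardinal.mk_le_of_injective ft.hom.injective) le_rfl).trans_lt hcard
  obtain ⟨β, hβ⟩ := Groth.Agent.Lib.Helper14.AS.exists_ringEquiv_comp_eq hk
    (j.comp ft.hom) (j.comp fs.hom)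
  let alg : Algebra k k' := (j.comp ft.hom).toAlgebra
  refine ⟨k', inferInstance, alg, inferInstance, ?_⟩
  intro G' φ hres _ eU' hφ
  have halg : CommRingCat.ofHom (algebraMap k k') = ft ≫ CommRingCat.ofHom j := rfl
  have hβ' : CommRingCat.ofHom (algebraMap k k') ≫ CommRingCat.ofHom β.toRingHom =
      fs ≫ CommRingCat.ofHom j := by
    ext c
    exact hβ c
  -- morphisms of schemes over `S`
  have wj : Spec.map (CommRingCat.ofHom j) ≫ strK =
      Spec.map (CommRingCat.ofHom (algebraMap k k')) ≫ σ := by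
    rw [halg, Spec.map_comp, Category.assoc, hft, hwt]
  let jm : Over.mk (Spec.map (CommRingCat.ofHom (algebraMap k k')) ≫ σ) ⟶ Over.mk strK :=
    Over.homMk (Spec.map (CommRingCat.ofHom j)) wj
  let π₀ : Over.mk (Spec.map (CommRingCat.ofHom (algebraMap k k')) ≫ σ) ⟶ Over.mk σ :=
    Over.homMk (Spec.map (CommRingCat.ofHom (algebraMap k k'))) rfl
  have wb : Spec.map (CommRingCat.ofHom β.toRingHom) ≫
      (Spec.map (CommRingCat.ofHom (algebraMap k k')) ≫ σ) =
      Spec.map (CommRingCat.ofHom (algebraMap k k')) ≫ σ := by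
    rw [← Category.assoc, ← Spec.map_comp, hβ', Spec.map_comp, Category.assoc, hfs, hws, wj]
  let b₀ : Over.mk (Spec.map (CommRingCat.ofHom (algebraMap k k')) ≫ σ) ⟶
      Over.mk (Spec.map (CommRingCat.ofHom (algebraMap k k')) ≫ σ) :=
    Over.homMk (Spec.map (CommRingCat.ofHom β.toRingHom)) wb
  have hb₀ : IsIso b₀ := by
    have h1 : IsIso (CommRingCat.ofHom β.toRingHom) := β.toCommRingCatIso.isIso_hom
    have h2 : IsIso ((Over.forget S).map b₀) := by
      change IsIso (Spec.map (CommRingCat.ofHom β.toRingHom))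
      infer_instance
    exact isIso_of_reflects_iso b₀ (Over.forget S)
  have e1 : jm ≫ mt = π₀ := by
    apply Over.OverMorphism.ext
    change Spec.map (CommRingCat.ofHom j) ≫ mt.left = Spec.map (CommRingCat.ofHom (algebraMap k k'))
    rw [← hft, ← Spec.map_comp, ← halg]
  have e2 : jm ≫ ms = b₀ ≫ π₀ := by
    apply Over.OverMorphism.ext
    change Spec.map (CommRingCat.ofHom j) ≫ ms.left =
      Spec.map (CommRingCat.ofHom β.toRingHom) ≫ Spec.map (CommRingCat.ofHom (algebraMap k k'))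
    rw [← hfs, ← Spec.map_comp, ← Spec.map_comp, hβ']
  let ρ : (AlgSp.yon S).obj (Over.mk (Spec.map (CommRingCat.ofHom (algebraMap k k')) ≫ σ)) ⟶ G.R :=
    (AlgSp.yon S).map jm ≫ ρ₀
  have Ht : ρ ≫ G.t = (AlgSp.yon S).map π₀ ≫ eU.inv := by
    have h1 : ρ₀ ≫ G.t = (AlgSp.yon S).map mt ≫ eU.inv := by
      rw [hmt, Category.assoc, Category.assoc, Iso.hom_inv_id, Category.comp_id]
    rw [Category.assoc, h1, ← Category.assoc, ← Functor.map_comp, e1]
  have Hs : ρ ≫ G.s = (AlgSp.yon S).map (b₀ ≫ π₀) ≫ eU.inv := by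
    have h1 : ρ₀ ≫ G.s = (AlgSp.yon S).map ms ≫ eU.inv := by
      rw [hms, Category.assoc, Category.assoc, Iso.hom_inv_id, Category.comp_id]
    rw [Category.assoc, h1, ← Category.assoc, ← Functor.map_comp, e2]
  have hfU : eU'.inv ≫ φ.fU = (AlgSp.yon S).map π₀ ≫ eU.inv := by
    rw [hφ, Iso.inv_hom_id_assoc]
  have hpU : G'.pU = φ.fU ≫ G.pU := φ.fU_over.symm
  have h3 : (AlgSp.yon S).map π₀ ≫ eU.inv ≫ G.pU =
      (AlgSp.yon S).map b₀ ≫ (AlgSp.yon S).map π₀ ≫ eU.inv ≫ G.pU := by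
    have h4 : ρ ≫ G.t ≫ G.pU = ρ ≫ G.s ≫ G.pU := by rw [G.t_over, G.s_over]
    rw [← Category.assoc, Ht, ← Category.assoc ρ, Hs, Functor.map_comp] at h4
    simpa only [Category.assoc] using h4
  have hfU' : eU'.inv ≫ φ.fU ≫ G.pU = (AlgSp.yon S).map π₀ ≫ eU.inv ≫ G.pU := by
    rw [← Category.assoc, hfU, Category.assoc]
  have hcond : eU'.inv ≫ G'.pU = ((AlgSp.yon S).map b₀ ≫ eU'.inv) ≫ G'.pU := by
    rw [hpU, Category.assoc, hfU']
    exact h3
  let pair := pullback.lift eU'.inv ((AlgSp.yon S).map b₀ ≫ eU'.inv) hcond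
  have hp1 : φ.prodMap ≫ pullback.fst G.pU G.pU = pullback.fst G'.pU G'.pU ≫ φ.fU := by
    unfold AlgSp.GroupoidSp.Hom.prodMap
    exact pullback.lift_fst _ _ _
  have hp2 : φ.prodMap ≫ pullback.snd G.pU G.pU = pullback.snd G'.pU G'.pU ≫ φ.fU := by
    unfold AlgSp.GroupoidSp.Hom.prodMap
    exact pullback.lift_snd _ _ _
  have hlift : ρ ≫ G.j = pair ≫ φ.prodMap := by
    apply pullback.hom_ext
    · have l1 : (ρ ≫ G.j) ≫ pullback.fst G.pU G.pU = ρ ≫ G.t := by
        rw [Category.assoc, AlgSp.GroupoidSp.j_fst]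
      have l2 : (pair ≫ φ.prodMap) ≫ pullback.fst G.pU G.pU = eU'.inv ≫ φ.fU := by
        rw [Category.assoc, hp1, ← Category.assoc, pullback.lift_fst]
      rw [l1, l2, Ht, hfU]
    · have l1 : (ρ ≫ G.j) ≫ pullback.snd G.pU G.pU = ρ ≫ G.s := by
        rw [Category.assoc, AlgSp.GroupoidSp.j_snd]
      have l2 : (pair ≫ φ.prodMap) ≫ pullback.snd G.pU G.pU =
          ((AlgSp.yon S).map b₀ ≫ eU'.inv) ≫ φ.fU := by
        rw [Category.assoc, hp2, ← Category.assoc, pullback.lift_snd]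
      rw [l1, l2, Hs, Category.assoc, hfU, Functor.map_comp, Category.assoc]
  let r'' := hres.lift ρ pair hlift
  have hr1 : r'' ≫ φ.fR = ρ := hres.lift_fst _ _ _
  have hr2 : r'' ≫ G'.j = pair := hres.lift_snd _ _ _
  refine ⟨eU'.hom ≫ r'', fun x => ?_, ?_, ?_⟩
  · rw [Category.assoc, hr1, AlgSp.Points.map_comp, AlgSp.Points.map_comp]
    have hsub : Subsingleton (AlgSp.Points ((AlgSp.yon S).obj (Over.mk strK))) := by
      have : Subsingleton ↥(Over.mk strK).left :=
        inferInstanceAs (Subsingleton (PrimeSpectrum K))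
      exact (AlgSp.Points.schemeHomeo (Over.mk strK)).symm.injective.subsingleton
    have h1 : AlgSp.Points.map ((AlgSp.yon S).map jm) (AlgSp.Points.map eU'.hom x) =
        Groth.Agent.Lib.Helper14.AS.fpt (𝟙 ((AlgSp.yon S).obj (Over.mk strK))) :=
      Subsingleton.elim _ _
    rw [h1, Groth.Agent.Lib.Helper14.AS.map_fpt, Category.id_comp]
  · have h1 : (eU'.hom ≫ r'') ≫ G'.s = eU'.hom ≫ (AlgSp.yon S).map b₀ ≫ eU'.inv := by
      rw [Category.assoc, ← AlgSp.GroupoidSp.j_snd, ← Category.assoc r'', hr2, pullback.lift_snd]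
    rw [h1]
    infer_instance
  · have h1 : (eU'.hom ≫ r'') ≫ G'.t = 𝟙 _ := by
      rw [Category.assoc, ← AlgSp.GroupoidSp.j_fst, ← Category.assoc r'', hr2, pullback.lift_fst,
        Iso.hom_inv_id]
    rw [h1]
    infer_instance

end Groth.Agent.S10146
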