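import Groth.Statements.S10147
-- import your own Groth.Agent.* helpers here

set_option autoImplicit false
universe u v w
open LinTop

namespace Groth.Agent.S10147

open Set Filter Topology

/-- Let M be a topological module over a ring R whose additive group is a topological group, and let
(M_i) be a family of submodules of M forming a fundamental system of neighbourhoods of 0. For every
submodule N of M, the closure of N is the intersection over i of the submodules N + M_i. -/
theorem result
    {R : Type u} [Ring R] {M : Type v} [AddCommGroup M] [Module R M] [TopologicalSpace M]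
    [IsTopologicalAddGroup M] {ι : Type w} (B : ι → Submodule R M)
    (hB : (nhds (0 : M)).HasBasis (fun _ => True) (fun i => (B i : Set M)))
    (N : Submodule R M) :
    closure (N : Set M) = ⋂ i, ((N ⊔ B i : Submodule R M) : Set M) := by
  ext x
  simp only [mem_iInter, SetLike.mem_coe]
  constructor
  · intro hx i
    have hcont : Continuous fun y : M => y - x := continuous_id.sub continuous_const
    have hnhds : (fun y : M => y - x) ⁻¹' (B i : Set M) ∈ 𝓝 x := by
      apply hcont.continuousAt.preimage_mem_nhds
      simp only [sub_self]
      exact hB.mem_of_mem trivial
    obtain ⟨y, hyB, hyN⟩ := mem_closure_iff_nhds.mp hx _ hnhds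
    have : x = y - (y - x) := by abel
    rw [this]
    exact Submodule.sub_mem _ (Submodule.mem_sup_left hyN) (Submodule.mem_sup_right hyB)
  · intro hx
    rw [mem_closure_iff_nhds]
    intro U hU
    have hcont : Continuous fun z : M => x - z := continuous_const.sub continuous_id
    have hnhds : (fun z : M => x - z) ⁻¹' U ∈ 𝓝 (0 : M) := by
      apply hcont.continuousAt.preimage_mem_nhds
      simpa using hU
    obtain ⟨i, -, hi⟩ := hB.mem_iff.mp hnhds
    obtain ⟨n, hn, b, hb, hnb⟩ := Submodule.mem_sup.mp (hx i)
    refine ⟨n, ?_, hn⟩
    have : n = x - b := by rw [← hnb]; abel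
    rw [this]
    exact hi hb

end Groth.Agent.S10147
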