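import Groth.Statements.S10148
import Groth.Agent.Lib.Helper14.LinTopSum
import Groth.Agent.S2276

set_option autoImplicit false
universe u
open LinTop

namespace Groth.Agent.S10148

/-- Let A be a weakly admissible topological ring (linearly topologized, Hausdorff and complete, having
a weak ideal of definition) and let I be a weak ideal of definition of A, that is, an open ideal
consisting of topologically nilpotent elements. Then (A, I) is a henselian pair. -/
theorem result
    (A : Type u) [CommRing A] [UniformSpace A] [IsUniformAddGroup A] [IsTopologicalRing A]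
    (hA : LinTop.IsWeaklyAdmissible A) (I : Ideal A) (hI : LinTop.IsWeakIdealOfDefinition A I) :
    HenselianRing A I := by
  obtain ⟨⟨hlin, -⟩, hT2, hcomp⟩ := hA
  have key : ∀ x ∈ I, IsUnit (1 + x) := fun x hx =>
    Groth.Agent.S2276.isUnit_one_add A x (hI.2 x hx)
  have hjac : I ≤ (⊥ : Ideal A).jacobson := by
    intro x hx
    rw [Ideal.mem_jacobson_bot]
    intro y
    rw [add_comm]
    exact key _ (I.mul_mem_right y hx)
  refine ⟨hjac, ?_⟩
  intro f hf a₀ h₁ h₂
  set e := f.eval a₀ with he
  have hpow : ∀ U ∈ nhds (0 : A), ∃ N : ℕ, ∀ m, N ≤ m →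
      (((Ideal.span {e}) ^ m : Ideal A) : Set A) ⊆ U := by
    intro U hU
    obtain ⟨V, hV, hVU⟩ := (IsLinearTopology.hasBasis_open_ideal (R := A)).mem_iff.mp hU
    obtain ⟨N, hN⟩ := (hI.2 e h₁).exists_pow_mem_of_mem_nhds (hV.mem_nhds V.zero_mem)
    refine ⟨N, fun m hm => subset_trans ?_ hVU⟩
    rw [Ideal.span_singleton_pow]
    intro x hx
    obtain ⟨c, rfl⟩ := Ideal.mem_span_singleton'.mp hx
    apply V.mul_mem_left
    obtain ⟨k, rfl⟩ := Nat.exists_eq_add_of_le hm
    rw [pow_add]
    exact V.mul_mem_right _ hN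
  haveI : IsAdicComplete (Ideal.span {e}) A :=
    Groth.Agent.Lib.Helper14.LT.isAdicComplete_of_fg_of_pow_tendsto _
      ⟨{e}, by simp⟩ hpow
  have hle : Ideal.span {e} ≤ I := (Ideal.span_singleton_le_iff_mem I).mpr h₁
  -- the derivative value is a unit of `A`
  have hunit : IsUnit (f.derivative.eval a₀) := by
    haveI := isLocalHom_of_le_jacobson_bot I hjac
    exact IsUnit.of_map (Ideal.Quotient.mk I) _ h₂
  obtain ⟨a, ha, haa⟩ := (IsAdicComplete.henselianRing A (Ideal.span {e})).is_henselian f hf a₀
    (Ideal.mem_span_singleton_self e) (hunit.map _)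
  exact ⟨a, ha, hle haa⟩

end Groth.Agent.S10148
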