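import Groth.Statements.S10151
import Groth.Agent.Lib.Helper14.LinTopTaut

set_option autoImplicit false
universe u v w
open LinTop

namespace Groth.Agent.S10151

/-- Given linearly topologized rings A, B, C and continuous ring maps ψ : B → C and φ : A → B, tautness
of the composite A → C implies that ψ is taut. -/
theorem result
    (A : Type u) [CommRing A] [TopologicalSpace A] [IsTopologicalRing A] [IsLinearTopology A A]
    (B : Type v) [CommRing B] [TopologicalSpace B] [IsTopologicalRing B] [IsLinearTopology B B]
    (C : Type w) [CommRing C] [TopologicalSpace C] [IsTopologicalRing C] [IsLinearTopology C C]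
    (φ : A →+* B) (ψ : B →+* C) (hφ : Continuous φ) (hψ : Continuous ψ)
    (h : LinTop.IsTaut (ψ.comp φ)) : LinTop.IsTaut ψ := by
  refine ⟨hψ, ?_, ?_⟩
  · intro J hJ
    have hI : IsOpen ((J.comap φ : Ideal A) : Set A) := hJ.preimage hφ
    have h1 := h.2.1 _ hI
    rw [← Ideal.coe_closure] at h1 ⊢
    refine Ideal.isOpen_of_isOpen_subideal ?_ h1
    intro x hx
    rw [← SetLike.mem_coe, Ideal.coe_closure] at hx ⊢
    refine closure_mono ?_ hx
    have : (J.comap φ).map (ψ.comp φ) ≤ J.map ψ := by
      rw [← Ideal.map_map]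
      exact Ideal.map_mono Ideal.map_comap_le
    exact this
  · intro U hU
    obtain ⟨V, hV, hVU⟩ := (IsLinearTopology.hasBasis_open_ideal (R := C)).mem_iff.mp hU
    refine ⟨V.comap ψ, hV.preimage hψ, ?_⟩
    have h1 : closure (((V.comap ψ).map ψ : Ideal C) : Set C) ⊆ closure (V : Set C) :=
      closure_mono Ideal.map_comap_le
    rw [Groth.Agent.Lib.Helper14.LT.closure_eq_of_isOpen V hV] at h1
    exact h1.trans hVU

end Groth.Agent.S10151
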