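import Groth.Statements.S10152
import Groth.Agent.Lib.Helper14.LinTopTaut

set_option autoImplicit false
universe u v
open LinTop

namespace Groth.Agent.S10152

/-- Let φ : A → B be a taut homomorphism of linearly topologized rings. If A has a countable fundamental
system of open ideals, then so does B (equivalently, the neighbourhood filters of 0 are countably
generated). -/
theorem result
    (A : Type u) [CommRing A] [TopologicalSpace A] [IsTopologicalRing A] [IsLinearTopology A A]
    (B : Type v) [CommRing B] [TopologicalSpace B] [IsTopologicalRing B] [IsLinearTopology B B]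
    (φ : A →+* B) (hφ : LinTop.IsTaut φ) (hA : (nhds (0 : A)).IsCountablyGenerated) :
    (nhds (0 : B)).IsCountablyGenerated := by
  haveI := hA
  obtain ⟨s, hs⟩ := (nhds (0 : A)).exists_antitone_basis
  have h1 : ∀ n, ∃ I : Ideal A, IsOpen (I : Set A) ∧ (I : Set A) ⊆ s n := fun n =>
    (IsLinearTopology.hasBasis_open_ideal (R := A)).mem_iff.mp (hs.1.mem_of_mem trivial)
  choose I hIo hIs using h1
  have hbasis : (nhds (0 : B)).HasBasis (fun _ : ℕ => True)
      (fun n => closure (((I n).map φ : Ideal B) : Set B)) := by
    rw [Filter.hasBasis_iff]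
    intro t
    constructor
    · intro ht
      obtain ⟨I', hI'o, hI't⟩ := hφ.2.2 t ht
      obtain ⟨n, -, hn⟩ := hs.1.mem_iff.mp (hI'o.mem_nhds I'.zero_mem)
      refine ⟨n, trivial, (closure_mono ?_).trans hI't⟩
      exact Ideal.map_mono (fun x hx => hn (hIs n hx))
    · rintro ⟨n, -, hn⟩
      refine Filter.mem_of_superset ?_ hn
      exact (hφ.2.1 _ (hIo n)).mem_nhds (subset_closure (Ideal.zero_mem _))
  exact hbasis.isCountablyGenerated

end Groth.Agent.S10152
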