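import Groth.Statements.S10156
import Groth.Agent.Lib.Helper14.LinTopTaut

set_option autoImplicit false
universe u v w
open LinTop

namespace Groth.Agent.S10156

/-- Given pre-adic rings A, B, C and continuous ring maps ψ : B → C and φ : A → B, adicness of the
composite A → C implies that ψ is adic. -/
theorem result
    (A : Type u) [CommRing A] [TopologicalSpace A] [IsTopologicalRing A] (hA : LinTop.IsPreadic A)
    (B : Type v) [CommRing B] [TopologicalSpace B] [IsTopologicalRing B] (hB : LinTop.IsPreadic B)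
    (C : Type w) [CommRing C] [TopologicalSpace C] [IsTopologicalRing C] (hC : LinTop.IsPreadic C)
    (φ : A →+* B) (ψ : B →+* C) (hφ : Continuous φ) (hψ : Continuous ψ)
    (h : LinTop.IsAdicHom (ψ.comp φ)) : LinTop.IsAdicHom ψ := by
  obtain ⟨K, hK⟩ := hB
  obtain ⟨I, hI, hadic⟩ := h
  have hKdef := Groth.Agent.Lib.Helper14.LT.isIdealOfDefinition_of_isAdic hK
  refine ⟨K, hKdef, ?_⟩
  -- L = I.map (ψ.comp φ), M = K.map ψ
  have hKnhds : (φ ⁻¹' (K : Set B)) ∈ nhds (0 : A) := by
    apply hφ.continuousAt.preimage_mem_nhds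
    rw [map_zero]
    exact hKdef.1.mem_nhds K.zero_mem
  obtain ⟨n, -, hn⟩ := hI.2 _ hKnhds
  have h1 : (I.map (ψ.comp φ)) ^ n ≤ K.map ψ := by
    rw [← Ideal.map_pow, ← Ideal.map_map]
    apply Ideal.map_mono
    rw [Ideal.map_le_iff_le_comap]
    exact fun x hx => hn hx
  have hLopen : IsOpen ((I.map (ψ.comp φ) : Ideal C) : Set C) :=
    Groth.Agent.Lib.Helper14.LT.isOpen_of_isAdic hadic
  have hLnhds : (ψ ⁻¹' ((I.map (ψ.comp φ) : Ideal C) : Set C)) ∈ nhds (0 : B) := by
    apply hψ.continuousAt.preimage_mem_nhds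
    rw [map_zero]
    exact hLopen.mem_nhds (Ideal.zero_mem _)
  obtain ⟨m, -, hm⟩ := hKdef.2 _ hLnhds
  have h2 : (K.map ψ) ^ m ≤ I.map (ψ.comp φ) := by
    rw [← Ideal.map_pow, Ideal.map_le_iff_le_comap]
    exact fun x hx => hm hx
  exact Groth.Agent.Lib.Helper14.LT.isAdic_of_pow_le hadic h1 h2

end Groth.Agent.S10156
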