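import Groth.Statements.S10157
import Groth.Agent.Lib.Helper14.LinTopTaut

set_option autoImplicit false
universe u v
open LinTop

namespace Groth.Agent.S10157

/-- A continuous adic homomorphism φ : A → B between pre-adic topological rings is taut. -/
theorem result
    (A : Type u) [CommRing A] [TopologicalSpace A] [IsTopologicalRing A] (hA : LinTop.IsPreadic A)
    (B : Type v) [CommRing B] [TopologicalSpace B] [IsTopologicalRing B] (hB : LinTop.IsPreadic B)
    (φ : A →+* B) (hφ : Continuous φ) (h : LinTop.IsAdicHom φ) : LinTop.IsTaut φ := by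
  obtain ⟨I, hI, hadic⟩ := h
  have hadic' := isAdic_iff.mp hadic
  refine ⟨hφ, fun I' hI'o => ?_, fun U hU => ?_⟩
  · obtain ⟨n, -, hn⟩ := hI.2 (I' : Set A) (hI'o.mem_nhds I'.zero_mem)
    have h1 : IsOpen ((I'.map φ : Ideal B) : Set B) := by
      refine Ideal.isOpen_of_isOpen_subideal (U := (I.map φ) ^ n) ?_ (hadic'.1 n)
      rw [← Ideal.map_pow]
      exact Ideal.map_mono (fun x hx => hn hx)
    rw [Groth.Agent.Lib.Helper14.LT.closure_eq_of_isOpen _ h1]
    exact h1
  · obtain ⟨n, hn⟩ := hadic'.2 U hU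
    refine ⟨I ^ n, Groth.Agent.Lib.Helper14.LT.isOpen_pow_of_isIdealOfDefinition hA hI n, ?_⟩
    rw [Ideal.map_pow, Groth.Agent.Lib.Helper14.LT.closure_eq_of_isOpen _ (hadic'.1 n)]
    exact hn

end Groth.Agent.S10157
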