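import Groth.Statements.S10158
import Groth.Agent.Lib.Helper14.LinTopSum

set_option autoImplicit false
universe u v
open LinTop

namespace Groth.Agent.S10158

/-- Let φ : A → B be a taut homomorphism of linearly topologized rings. Assume A is pre-adic with a
finitely generated ideal of definition I and B is Hausdorff and complete. Then the topology of B is
the φ(I)B-adic topology; in particular B is adic with a finitely generated ideal of definition and φ
is adic. -/
theorem result
    (A : Type u) [CommRing A] [TopologicalSpace A] [IsTopologicalRing A] (hA : LinTop.IsPreadic A)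
    (I : Ideal A) (hI : LinTop.IsIdealOfDefinition A I) (hfg : I.FG)
    (B : Type v) [CommRing B] [UniformSpace B] [IsUniformAddGroup B] [IsTopologicalRing B]
    [IsLinearTopology B B] [T2Space B] [CompleteSpace B]
    (φ : A →+* B) (hφ : LinTop.IsTaut φ) :
    IsAdic (I.map φ) := by
  have hfg' : (I.map φ).FG := hfg.map φ
  have hopen : ∀ n : ℕ, IsOpen (closure (((I.map φ) ^ n : Ideal B) : Set B)) := by
    intro n
    rw [← Ideal.map_pow]
    exact hφ.2.1 _ (Groth.Agent.Lib.Helper14.LT.isOpen_pow_of_isIdealOfDefinition hA hI n)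
  have hbasis : ∀ U ∈ nhds (0 : B), ∃ n : ℕ, closure (((I.map φ) ^ n : Ideal B) : Set B) ⊆ U := by
    intro U hU
    obtain ⟨I', hI'o, hI'U⟩ := hφ.2.2 U hU
    obtain ⟨n, -, hn⟩ := hI.2 (I' : Set A) (hI'o.mem_nhds I'.zero_mem)
    refine ⟨n, (closure_mono ?_).trans hI'U⟩
    rw [← Ideal.map_pow]
    exact Ideal.map_mono (fun x hx => hn hx)
  have hcl : ∀ n : ℕ, closure (((I.map φ) ^ n : Ideal B) : Set B) = (((I.map φ) ^ n : Ideal B) : Set B) :=
    fun n => subset_antisymm
      (Groth.Agent.Lib.Helper14.LT.closure_pow_subset_pow (I.map φ) hfg' hopen hbasis n) subset_closure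
  rw [isAdic_iff]
  refine ⟨fun n => ?_, fun s hs => ?_⟩
  · rw [← hcl n]
    exact hopen n
  · obtain ⟨n, hn⟩ := hbasis s hs
    exact ⟨n, subset_closure.trans hn⟩

end Groth.Agent.S10158
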