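import Groth.Statements.S10165
import Groth.Agent.Lib.Helper14.LinTopTaut

set_option autoImplicit false
universe u v
open LinTop

namespace Groth.Agent.S10165

/-- Let φ : A → B be a taut homomorphism of linearly topologized rings. If A is weakly pre-adic, then B
is weakly pre-adic. -/
theorem result
    (A : Type u) [CommRing A] [TopologicalSpace A] [IsTopologicalRing A] [IsLinearTopology A A]
    (B : Type v) [CommRing B] [TopologicalSpace B] [IsTopologicalRing B] [IsLinearTopology B B]
    (φ : A →+* B) (hφ : LinTop.IsTaut φ) (hA : LinTop.IsWeaklyPreadic A) :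
    LinTop.IsWeaklyPreadic B := by
  obtain ⟨-, I, hIo, hIb⟩ := hA
  refine ⟨inferInstance, I.map φ, ?_, ?_⟩
  · intro n
    have h1 : IsOpen (closure ((((I ^ n).closure).map φ : Ideal B) : Set B)) := by
      apply hφ.2.1
      rw [Ideal.coe_closure]
      exact hIo n
    rw [Groth.Agent.Lib.Helper14.LT.closure_map_closure φ hφ.1, Ideal.map_pow] at h1
    exact h1
  · intro U hU
    obtain ⟨I', hI'o, hI'U⟩ := hφ.2.2 U hU
    obtain ⟨n, hn⟩ := hIb (I' : Set A) (hI'o.mem_nhds I'.zero_mem)
    refine ⟨n, (closure_mono ?_).trans hI'U⟩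
    rw [← Ideal.map_pow]
    exact Ideal.map_mono (fun x hx => hn (subset_closure hx))

end Groth.Agent.S10165
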