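import Groth.Statements.S10159
import Groth.Agent.Lib.Helper14.LinTopTaut
import Groth.Agent.S10165
import Mathlib.Tactic.TFAE

set_option autoImplicit false
universe u
open LinTop

namespace Groth.Agent.S10159

/-- For a ring A carrying a linear topology, the following four conditions are equivalent: (1) A is
weakly pre-adic; (2) there exist a pre-adic topological ring A' and a taut continuous ring
homomorphism A' → A (A' is taken in the universe of A, which suffices since A with an adic topology
serves); (3) A has an ideal of definition, and for at least one ideal of definition I every closure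
cl(I^n) with n ≥ 1 is open; (4) A has an ideal of definition, and for each of its ideals of
definition I every closure cl(I^n) with n ≥ 1 is open. -/
theorem result
    (A : Type u) [CommRing A] [TopologicalSpace A] [IsTopologicalRing A] [IsLinearTopology A A] :
    List.TFAE [LinTop.IsWeaklyPreadic A,
      ∃ (A' : Type u) (_ : CommRing A') (_ : TopologicalSpace A') (_ : IsTopologicalRing A')
        (φ : A' →+* A), LinTop.IsPreadic A' ∧ LinTop.IsTaut φ,
      LinTop.IsPreadmissible A ∧ ∃ I : Ideal A, LinTop.IsIdealOfDefinition A I ∧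
        ∀ n : ℕ, 0 < n → IsOpen (closure ((I ^ n : Ideal A) : Set A)),
      LinTop.IsPreadmissible A ∧ ∀ I : Ideal A, LinTop.IsIdealOfDefinition A I →
        ∀ n : ℕ, 0 < n → IsOpen (closure ((I ^ n : Ideal A) : Set A))] := by
  tfae_have 1 → 2 := by
    rintro ⟨-, I, hIo, hIb⟩
    refine ⟨A, inferInstance, I.adicTopology, I.nonarchimedean.toIsTopologicalRing,
      RingHom.id A, ⟨I, rfl⟩, ?_⟩
    refine @Groth.Agent.Lib.Helper14.LT.isTaut_of_adic_source A _ I.adicTopology
      I.nonarchimedean.toIsTopologicalRing A _ _ _ (RingHom.id A) I rfl ?_ ?_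
    · intro n
      rw [Ideal.map_id]
      exact hIo n
    · intro U hU
      rw [Ideal.map_id]
      exact hIb U hU
  tfae_have 2 → 1 := by
    rintro ⟨A', i1, i2, i3, φ, ⟨K, hK⟩, htaut⟩
    have hlin : IsLinearTopology A' A' := by
      have := K.isLinearTopology
      have e : i2 = K.adicTopology := hK
      rw [e]
      exact this
    have hadic := isAdic_iff.mp hK
    have hcl : ∀ n : ℕ, closure ((K ^ n : Ideal A') : Set A') = ((K ^ n : Ideal A') : Set A') :=
      fun n => Groth.Agent.Lib.Helper14.LT.closure_eq_of_isOpen _ (hadic.1 n)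
    have hwp : LinTop.IsWeaklyPreadic A' := by
      refine ⟨hlin, K, fun n => ?_, fun U hU => ?_⟩
      · rw [hcl n]
        exact hadic.1 n
      · obtain ⟨n, hn⟩ := hadic.2 U hU
        exact ⟨n, by rw [hcl n]; exact hn⟩
    exact Groth.Agent.S10165.result A' A φ htaut hwp
  tfae_have 1 → 4 := by
    rintro ⟨hlin, I₁, hIo, hIb⟩
    refine ⟨⟨hlin, I₁.closure, ?_, ?_⟩, ?_⟩
    · rw [Ideal.coe_closure]
      simpa using hIo 1
    · intro U hU
      obtain ⟨n, hn⟩ := hIb U hU
      refine ⟨n + 1, Nat.succ_pos n, ?_⟩
      refine (Groth.Agent.Lib.Helper14.LT.closure_pow_subset I₁ (n + 1)).trans ?_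
      exact (closure_mono (Ideal.pow_le_pow_right n.le_succ)).trans hn
    · intro I hI n _
      obtain ⟨m, hm⟩ := hIb (I : Set A) (hI.1.mem_nhds I.zero_mem)
      refine Groth.Agent.Lib.Helper14.LT.isOpen_closure_of_le (I := (I₁ ^ (m * n)).closure)
        (by rw [Ideal.coe_closure]; exact hIo _) ?_
      rw [Ideal.coe_closure, pow_mul]
      exact closure_mono (Ideal.pow_right_mono (fun x hx => hm (subset_closure hx)) n)
  tfae_have 4 → 3 := by
    rintro ⟨hpre, h⟩
    obtain ⟨I, hI⟩ := hpre.2
    exact ⟨hpre, I, hI, h I hI⟩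
  tfae_have 3 → 1 := by
    rintro ⟨⟨hlin, -⟩, I, hI, h⟩
    refine ⟨hlin, I, fun n => ?_, fun U hU => ?_⟩
    · rcases Nat.eq_zero_or_pos n with rfl | hn
      · simp
      · exact h n hn
    · obtain ⟨V, hV, hVU⟩ := (IsLinearTopology.hasBasis_open_ideal (R := A)).mem_iff.mp hU
      obtain ⟨n, -, hn⟩ := hI.2 (V : Set A) (hV.mem_nhds V.zero_mem)
      refine ⟨n, ?_⟩
      have : closure ((I ^ n : Ideal A) : Set A) ⊆ closure (V : Set A) := closure_mono hn
      rw [Groth.Agent.Lib.Helper14.LT.closure_eq_of_isOpen V hV] at this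
      exact this.trans hVU
  tfae_finish

end Groth.Agent.S10159
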