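import Groth.Statements.S10164
import Groth.Agent.Lib.Helper14.LinTopTaut
import Groth.Agent.S10159
import Groth.Agent.S10163

set_option autoImplicit false
universe u
open LinTop

namespace Groth.Agent.S10164

open Groth.Agent.Lib.Helper14.LT in
/-- lifting a finitely generated image -/
theorem exists_fg_le_sup {A : Type u} [CommRing A] (I K : Ideal A)
    (hfg : (I.map (Ideal.Quotient.mk K)).FG) :
    ∃ J : Ideal A, J.FG ∧ J ≤ I ∧ I ≤ J ⊔ K := by
  classical
  obtain ⟨s, hs⟩ := hfg
  have hlift : ∀ y : (s : Set (A ⧸ K)), ∃ x : A, x ∈ I ∧ Ideal.Quotient.mk K x = y.1 := by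
    intro y
    have hy : y.1 ∈ I.map (Ideal.Quotient.mk K) := by
      rw [← hs]; exact Ideal.subset_span y.2
    exact (Ideal.mem_map_iff_of_surjective _ Ideal.Quotient.mk_surjective).mp hy
  choose g hgI hgy using hlift
  refine ⟨Ideal.span (Set.range g), ?_, ?_, ?_⟩
  · exact Submodule.fg_span (Set.finite_range g)
  · rw [Ideal.span_le]
    rintro _ ⟨y, rfl⟩
    exact hgI y
  · have h1 : I.map (Ideal.Quotient.mk K) ≤ (Ideal.span (Set.range g)).map (Ideal.Quotient.mk K) := by
      rw [← hs, Ideal.span_le]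
      intro y hy
      have : y = Ideal.Quotient.mk K (g ⟨y, hy⟩) := (hgy ⟨y, hy⟩).symm
      rw [this]
      exact Ideal.mem_map_of_mem _ (Ideal.subset_span ⟨⟨y, hy⟩, rfl⟩)
    have h2 := Ideal.comap_mono (f := Ideal.Quotient.mk K) h1
    rw [Ideal.comap_map_of_surjective _ Ideal.Quotient.mk_surjective,
      Ideal.comap_map_of_surjective _ Ideal.Quotient.mk_surjective] at h2
    have h3 : Ideal.comap (Ideal.Quotient.mk K) ⊥ = K := by
      rw [← RingHom.ker_eq_comap_bot, Ideal.mk_ker]
    rw [h3] at h2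
    exact le_sup_left.trans h2

theorem sup_sq_pow_le {A : Type u} [CommRing A] (I J : Ideal A) (hJI : J ≤ I) (n : ℕ) :
    (J ⊔ I ^ 2) ^ n ≤ J ^ n ⊔ I ^ (n + 1) := by
  induction n with
  | zero => simp
  | succ n ih =>
    rw [pow_succ]
    refine (Ideal.mul_mono_left ih).trans ?_
    rw [Ideal.sup_mul, Ideal.mul_sup, Ideal.mul_sup]
    refine sup_le (sup_le ?_ ?_) (sup_le ?_ ?_)
    · rw [← pow_succ]; exact le_sup_left
    · refine le_sup_of_le_right ?_
      calc J ^ n * I ^ 2 ≤ I ^ n * I ^ 2 := Ideal.mul_mono_left (Ideal.pow_right_mono hJI n)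
        _ = I ^ (n + 1 + 1) := by rw [← pow_add]
    · refine le_sup_of_le_right ?_
      calc I ^ (n + 1) * J ≤ I ^ (n + 1) * I := Ideal.mul_mono_right hJI
        _ = I ^ (n + 1 + 1) := by rw [← pow_succ]
    · refine le_sup_of_le_right ?_
      rw [← pow_add]
      exact Ideal.pow_le_pow_right (by omega)

/-- Let A be weakly adic and I an ideal of definition of A with I/I₂ finitely generated, where I₂
denotes the closure of I^2 (here: I maps onto a finitely generated ideal of A/I₂). Then A is adic,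
and some finitely generated ideal of A is an ideal of definition. -/
theorem result
    (A : Type u) [CommRing A] [UniformSpace A] [IsUniformAddGroup A] [IsTopologicalRing A] (hA : LinTop.IsWeaklyAdic A)
    (I : Ideal A) (hI : LinTop.IsIdealOfDefinition A I)
    (hfg : (I.map (Ideal.Quotient.mk ((I ^ 2).closure))).FG) :
    LinTop.IsAdicRing A ∧ ∃ J : Ideal A, LinTop.IsIdealOfDefinition A J ∧ J.FG := by
  obtain ⟨hwp, hT2, hcomp⟩ := hA
  have hlin : IsLinearTopology A A := hwp.1
  obtain ⟨J, hJfg, hJI, hIJ⟩ := exists_fg_le_sup I ((I ^ 2).closure) hfg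
  -- key inequality
  have hstar : ∀ n : ℕ, I ^ n ≤ (J ^ n ⊔ I ^ (n + 1)).closure := by
    intro n
    have h1 : I ≤ (J ⊔ I ^ 2).closure := by
      refine hIJ.trans (sup_le ?_ ?_)
      · intro x hx
        rw [← SetLike.mem_coe, Ideal.coe_closure]
        exact subset_closure (Ideal.mem_sup_left hx)
      · intro x hx
        rw [← SetLike.mem_coe, Ideal.coe_closure] at hx ⊢
        exact closure_mono (show ((I ^ 2 : Ideal A) : Set A) ⊆ (J ⊔ I ^ 2 : Ideal A) from
          fun y hy => Ideal.mem_sup_right hy) hx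
    refine (Ideal.pow_right_mono h1 n).trans ?_
    refine (Groth.Agent.Lib.Helper14.LT.closure_pow_le _ n).trans ?_
    intro x hx
    rw [← SetLike.mem_coe, Ideal.coe_closure] at hx ⊢
    exact closure_mono (show (((J ⊔ I ^ 2) ^ n : Ideal A) : Set A) ⊆ (J ^ n ⊔ I ^ (n + 1) : Ideal A)
      from sup_sq_pow_le I J hJI n) hx
  have hclmono : ∀ {K L : Ideal A}, K ≤ L.closure → K.closure ≤ L.closure := by
    intro K L h x hx
    rw [← SetLike.mem_coe, Ideal.coe_closure] at hx ⊢
    refine closure_minimal ?_ isClosed_closure hx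
    intro y hy
    have := h hy
    rwa [← SetLike.mem_coe, Ideal.coe_closure] at this
  have hiter : ∀ n k : ℕ, I ^ n ≤ (J ^ n ⊔ I ^ (n + k)).closure := by
    intro n k
    induction k with
    | zero =>
      intro x hx
      rw [← SetLike.mem_coe, Ideal.coe_closure]
      exact subset_closure (Ideal.mem_sup_right hx)
    | succ k ih =>
      refine ih.trans (hclmono (sup_le ?_ ?_))
      · intro x hx
        rw [← SetLike.mem_coe, Ideal.coe_closure]
        exact subset_closure (Ideal.mem_sup_left hx)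
      · refine (hstar (n + k)).trans (hclmono ?_)
        intro x hx
        rw [← SetLike.mem_coe, Ideal.coe_closure]
        refine subset_closure ?_
        have hle : J ^ (n + k) ⊔ I ^ (n + k + 1) ≤ J ^ n ⊔ I ^ (n + (k + 1)) := by
          rw [add_assoc]
          exact sup_le_sup_right (Ideal.pow_le_pow_right (Nat.le_add_right n k)) _
        exact hle hx
  have hsub : ∀ n : ℕ, ((I ^ n : Ideal A) : Set A) ⊆ closure ((J ^ n : Ideal A) : Set A) := by
    intro n x hx
    apply Groth.Agent.Lib.Helper14.LT.mem_closure_of_forall_mem_sup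
    intro V hV
    obtain ⟨k, -, hk⟩ := hI.2 (V : Set A) (hV.mem_nhds V.zero_mem)
    have hle : J ^ n ⊔ I ^ (n + k) ≤ J ^ n ⊔ V :=
      sup_le_sup_left ((Ideal.pow_le_pow_right (Nat.le_add_left k n)).trans (fun y hy => hk hy)) _
    have hopen : IsOpen (((J ^ n ⊔ V : Ideal A)) : Set A) :=
      Ideal.isOpen_of_isOpen_subideal le_sup_right hV
    have h2 := hiter n k hx
    rw [← SetLike.mem_coe, Ideal.coe_closure] at h2
    have h3 := closure_mono (show ((J ^ n ⊔ I ^ (n + k) : Ideal A) : Set A) ⊆ (J ^ n ⊔ V : Ideal A)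
      from hle) h2
    rwa [Groth.Agent.Lib.Helper14.LT.closure_eq_of_isOpen _ hopen] at h3
  have hcleq : ∀ n : ℕ, closure ((J ^ n : Ideal A) : Set A) = closure ((I ^ n : Ideal A) : Set A) :=
    fun n => subset_antisymm (closure_mono (Ideal.pow_right_mono hJI n))
      (closure_minimal (hsub n) isClosed_closure)
  -- closures of powers of `I` are open
  have h4 := ((Groth.Agent.S10159.result A).out 0 3).mp hwp
  have hopenJ : ∀ n : ℕ, IsOpen (closure ((J ^ n : Ideal A) : Set A)) := by
    intro n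
    rcases Nat.eq_zero_or_pos n with rfl | hn
    · simp
    · rw [hcleq]
      exact h4.2 I hI n hn
  have hbasisJ : ∀ U ∈ nhds (0 : A), ∃ n : ℕ, closure ((J ^ n : Ideal A) : Set A) ⊆ U := by
    intro U hU
    obtain ⟨V, hV, hVU⟩ := (IsLinearTopology.hasBasis_open_ideal (R := A)).mem_iff.mp hU
    obtain ⟨n, -, hn⟩ := hI.2 (V : Set A) (hV.mem_nhds V.zero_mem)
    refine ⟨n, ?_⟩
    rw [hcleq]
    have := closure_mono hn
    rw [Groth.Agent.Lib.Helper14.LT.closure_eq_of_isOpen V hV] at this
    exact this.trans hVU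
  have hadic : IsAdic J := Groth.Agent.S10163.result A J hJfg hopenJ hbasisJ
  exact ⟨⟨⟨J, hadic⟩, hT2, hcomp⟩, J,
    Groth.Agent.Lib.Helper14.LT.isIdealOfDefinition_of_isAdic hadic, hJfg⟩

end Groth.Agent.S10164
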