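import Groth.Statements.S10166
import Groth.Agent.Lib.Helper14.LinTopTaut

set_option autoImplicit false
universe u v
open LinTop

namespace Groth.Agent.S10166

/-- Let φ : A → B be a taut homomorphism of linearly topologized rings such that for every open ideal I
of A, with J the closure of φ(I)B, the induced map A/I → B/J is faithfully flat. If B has a
countable fundamental system of open ideals, then so does A. -/
theorem result
    (A : Type u) [CommRing A] [TopologicalSpace A] [IsTopologicalRing A] [IsLinearTopology A A]
    (B : Type v) [CommRing B] [TopologicalSpace B] [IsTopologicalRing B] [IsLinearTopology B B]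
    (φ : A →+* B) (hφ : LinTop.IsTautFFlat φ) (hB : (nhds (0 : B)).IsCountablyGenerated) :
    (nhds (0 : A)).IsCountablyGenerated := by
  haveI := hB
  obtain ⟨s, hs⟩ := (nhds (0 : B)).exists_antitone_basis
  have h1 : ∀ n, ∃ I : Ideal A, IsOpen (I : Set A) ∧
      closure ((I.map φ : Ideal B) : Set B) ⊆ s n := fun n =>
    hφ.1.2.2 (s n) (hs.1.mem_of_mem trivial)
  choose I hIo hIs using h1
  have hbasis : (nhds (0 : A)).HasBasis (fun _ : ℕ => True) (fun n => ((I n : Ideal A) : Set A)) := by
    rw [Filter.hasBasis_iff]
    intro t
    constructor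
    · intro ht
      obtain ⟨K, hK, hKt⟩ := (IsLinearTopology.hasBasis_open_ideal (R := A)).mem_iff.mp ht
      have hJ : closure ((K.map φ : Ideal B) : Set B) ∈ nhds (0 : B) :=
        (hφ.1.2.1 K hK).mem_nhds (subset_closure (Ideal.zero_mem _))
      obtain ⟨n, -, hn⟩ := hs.1.mem_iff.mp hJ
      refine ⟨n, trivial, subset_trans ?_ hKt⟩
      apply Groth.Agent.Lib.Helper14.LT.le_of_closure_map_subset hφ K (I n) hK
      exact (subset_closure.trans (hIs n)).trans hn
    · rintro ⟨n, -, hn⟩
      exact Filter.mem_of_superset ((hIo n).mem_nhds (I n).zero_mem) hn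
  exact hbasis.isCountablyGenerated

end Groth.Agent.S10166
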