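import Groth.Statements.S10167
import Groth.Agent.Lib.Helper14.LinTopTaut

set_option autoImplicit false
universe u v
open LinTop

namespace Groth.Agent.S10167

/-- Let φ : A → B be a taut homomorphism of linearly topologized rings such that for every open ideal I
of A the induced ring map A/I → B/J, where J denotes the closure of φ(I)B, is faithfully flat. If B
has a weak ideal of definition (B is weakly pre-admissible), then so does A. -/
theorem result
    (A : Type u) [CommRing A] [TopologicalSpace A] [IsTopologicalRing A] [IsLinearTopology A A]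
    (B : Type v) [CommRing B] [TopologicalSpace B] [IsTopologicalRing B] [IsLinearTopology B B]
    (φ : A →+* B) (hφ : LinTop.IsTautFFlat φ) (hB : LinTop.IsWeaklyPreadmissible B) :
    LinTop.IsWeaklyPreadmissible A := by
  obtain ⟨-, J₀, hJ₀o, hJ₀n⟩ := hB
  refine ⟨inferInstance, J₀.comap φ, hJ₀o.preimage hφ.1.1, ?_⟩
  intro x hx
  rw [Groth.Agent.Lib.Helper14.LT.isTopologicallyNilpotent_iff_forall_open_ideal]
  intro I hI
  have hJ : closure ((I.map φ : Ideal B) : Set B) ∈ nhds (0 : B) :=
    (hφ.1.2.1 I hI).mem_nhds (subset_closure (Ideal.zero_mem _))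
  obtain ⟨n, hn⟩ := (hJ₀n (φ x) hx).exists_pow_mem_of_mem_nhds hJ
  refine ⟨n, Groth.Agent.Lib.Helper14.LT.mem_of_map_mem_closure hφ I hI ?_⟩
  rwa [map_pow]

end Groth.Agent.S10167
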