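import Groth.Statements.S10168
import Groth.Agent.Lib.Helper14.LinTopTaut

set_option autoImplicit false
universe u v
open LinTop

namespace Groth.Agent.S10168

/-- Let φ : A → B be a taut homomorphism of linearly topologized rings such that for every open ideal I
of A, with J the closure of φ(I)B, the induced map A/I → B/J is faithfully flat. If B is
pre-admissible, then A is pre-admissible. -/
theorem result
    (A : Type u) [CommRing A] [TopologicalSpace A] [IsTopologicalRing A] [IsLinearTopology A A]
    (B : Type v) [CommRing B] [TopologicalSpace B] [IsTopologicalRing B] [IsLinearTopology B B]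
    (φ : A →+* B) (hφ : LinTop.IsTautFFlat φ) (hB : LinTop.IsPreadmissible B) :
    LinTop.IsPreadmissible A := by
  obtain ⟨-, J₀, hJ₀o, hJ₀n⟩ := hB
  refine ⟨inferInstance, J₀.comap φ, hJ₀o.preimage hφ.1.1, ?_⟩
  intro U hU
  obtain ⟨I, hI, hIU⟩ := (IsLinearTopology.hasBasis_open_ideal (R := A)).mem_iff.mp hU
  have hJ : closure ((I.map φ : Ideal B) : Set B) ∈ nhds (0 : B) :=
    (hφ.1.2.1 I hI).mem_nhds (subset_closure (Ideal.zero_mem _))
  obtain ⟨n, hn0, hn⟩ := hJ₀n _ hJ
  refine ⟨n, hn0, subset_trans ?_ hIU⟩
  apply Groth.Agent.Lib.Helper14.LT.le_of_closure_map_subset hφ I _ hI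
  refine subset_trans ?_ hn
  rw [Ideal.map_pow]
  exact Ideal.pow_right_mono Ideal.map_comap_le n

end Groth.Agent.S10168
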