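import Groth.Statements.S10169
import Groth.Agent.Lib.Helper14.LinTopTaut

set_option autoImplicit false
universe u v
open LinTop

namespace Groth.Agent.S10169

/-- Let φ : A → B be a taut homomorphism of linearly topologized rings such that for every open ideal I
of A the induced ring map A/I → B/J, where J denotes the closure of φ(I)B, is faithfully flat. Weak
pre-adicness then descends: when B is weakly pre-adic, A is as well. -/
theorem result
    (A : Type u) [CommRing A] [TopologicalSpace A] [IsTopologicalRing A] [IsLinearTopology A A]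
    (B : Type v) [CommRing B] [TopologicalSpace B] [IsTopologicalRing B] [IsLinearTopology B B]
    (φ : A →+* B) (hφ : LinTop.IsTautFFlat φ) (hB : LinTop.IsWeaklyPreadic B) :
    LinTop.IsWeaklyPreadic A := by
  obtain ⟨-, J, hJo, hJb⟩ := hB
  have hJ1 : IsOpen ((J.closure : Ideal B) : Set B) := by
    rw [Ideal.coe_closure]; simpa using hJo 1
  set I : Ideal A := J.closure.comap φ with hIdef
  have hIo : IsOpen (I : Set A) := hJ1.preimage hφ.1.1
  have hImap : I.map φ ≤ J.closure := Ideal.map_comap_le
  -- closures of the extended powers are open in `B`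
  have ha : ∀ n : ℕ, IsOpen (closure (((I ^ n).map φ : Ideal B) : Set B)) := by
    intro n
    have hJ' : closure ((I.map φ : Ideal B) : Set B) ∈ nhds (0 : B) :=
      (hφ.1.2.1 I hIo).mem_nhds (subset_closure (Ideal.zero_mem _))
    obtain ⟨m, hm⟩ := hJb _ hJ'
    refine Groth.Agent.Lib.Helper14.LT.isOpen_closure_of_le (I := (J ^ (m * n)).closure)
      (by rw [Ideal.coe_closure]; exact hJo _) ?_
    rw [Ideal.coe_closure]
    apply closure_minimal _ isClosed_closure
    rw [Ideal.map_pow, pow_mul]
    have h1 : J ^ m ≤ (I.map φ).closure := by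
      intro x hx
      rw [← SetLike.mem_coe, Ideal.coe_closure]
      exact hm (subset_closure hx)
    have h2 : (J ^ m) ^ n ≤ ((I.map φ) ^ n).closure :=
      (Ideal.pow_right_mono h1 n).trans (Groth.Agent.Lib.Helper14.LT.closure_pow_le _ n)
    intro x hx
    have := h2 hx
    rwa [← SetLike.mem_coe, Ideal.coe_closure] at this
  refine ⟨inferInstance, I, fun n => ?_, fun U hU => ?_⟩
  · -- closure (I ^ n) is open
    refine Groth.Agent.Lib.Helper14.LT.isOpen_closure_of_le
      (I := ((I ^ n).map φ).closure.comap φ) ?_ ?_
    · have : IsOpen ((((I ^ n).map φ).closure : Ideal B) : Set B) := by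
        rw [Ideal.coe_closure]; exact ha n
      exact this.preimage hφ.1.1
    · intro x hx
      apply Groth.Agent.Lib.Helper14.LT.mem_closure_of_forall_mem_sup
      intro K hK
      have hK' : IsOpen (((I ^ n ⊔ K : Ideal A)) : Set A) :=
        Ideal.isOpen_of_isOpen_subideal le_sup_right hK
      apply Groth.Agent.Lib.Helper14.LT.mem_of_map_mem_closure hφ _ hK'
      have hx' : φ x ∈ closure (((I ^ n).map φ : Ideal B) : Set B) := by
        have : φ x ∈ ((I ^ n).map φ).closure := hx
        rwa [← SetLike.mem_coe, Ideal.coe_closure] at this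
      exact closure_mono (Ideal.map_mono le_sup_left) hx'
  · obtain ⟨K, hK, hKU⟩ := (IsLinearTopology.hasBasis_open_ideal (R := A)).mem_iff.mp hU
    have hJK : closure ((K.map φ : Ideal B) : Set B) ∈ nhds (0 : B) :=
      (hφ.1.2.1 K hK).mem_nhds (subset_closure (Ideal.zero_mem _))
    obtain ⟨N, hN⟩ := hJb _ hJK
    refine ⟨N, subset_trans ?_ hKU⟩
    have hle : I ^ N ≤ K := by
      apply Groth.Agent.Lib.Helper14.LT.le_of_closure_map_subset hφ K _ hK
      refine subset_trans ?_ hN
      rw [Ideal.map_pow]
      intro x hx
      have := (Ideal.pow_right_mono hImap N).trans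
        (Groth.Agent.Lib.Helper14.LT.closure_pow_le J N) hx
      rwa [← SetLike.mem_coe, Ideal.coe_closure] at this
    have := closure_mono (show ((I ^ N : Ideal A) : Set A) ⊆ K from hle)
    rwa [Groth.Agent.Lib.Helper14.LT.closure_eq_of_isOpen K hK] at this

end Groth.Agent.S10169
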