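import Groth.Statements.S10170
import Groth.Agent.Lib.Helper14.LinTopTaut
import Groth.Agent.S10163
import Groth.Agent.S10168

set_option autoImplicit false
universe u v
open LinTop

namespace Groth.Agent.S10170

theorem exists_fg_le_map {A : Type u} {B : Type v} [CommRing A] [CommRing B] (φ : A →+* B)
    (I : Ideal A) (u : B) (hu : u ∈ I.map φ) :
    ∃ I' : Ideal A, I'.FG ∧ I' ≤ I ∧ u ∈ I'.map φ := by
  unfold Ideal.map at hu
  induction hu using Submodule.span_induction with
  | mem x hx =>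
    obtain ⟨a, ha, rfl⟩ := hx
    exact ⟨Ideal.span {a}, ⟨{a}, by simp⟩, (Ideal.span_singleton_le_iff_mem _).mpr ha,
      Ideal.mem_map_of_mem _ (Ideal.mem_span_singleton_self a)⟩
  | zero => exact ⟨⊥, Submodule.fg_bot, bot_le, Ideal.zero_mem _⟩
  | add x y _ _ hx hy =>
    obtain ⟨I1, h1, h1', h1''⟩ := hx
    obtain ⟨I2, h2, h2', h2''⟩ := hy
    exact ⟨I1 ⊔ I2, Submodule.FG.sup h1 h2, sup_le h1' h2',
      Ideal.add_mem _ (Ideal.map_mono le_sup_left h1'') (Ideal.map_mono le_sup_right h2'')⟩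
  | smul c x _ hx =>
    obtain ⟨I1, h1, h1', h1''⟩ := hx
    exact ⟨I1, h1, h1', Ideal.mul_mem_left _ c h1''⟩

theorem exists_fg_le_map_sup {A : Type u} {B : Type v} [CommRing A] [CommRing B] (φ : A →+* B)
    (I : Ideal A) (M : Ideal B) (s : Finset B) (h : Ideal.span (s : Set B) ≤ I.map φ ⊔ M) :
    ∃ I' : Ideal A, I'.FG ∧ I' ≤ I ∧ Ideal.span (s : Set B) ≤ I'.map φ ⊔ M := by
  classical
  induction s using Finset.induction_on with
  | empty => exact ⟨⊥, Submodule.fg_bot, bot_le, by simp⟩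
  | insert g s hg ih =>
    have h1 : Ideal.span (s : Set B) ≤ I.map φ ⊔ M :=
      (Ideal.span_mono (by simp)).trans h
    obtain ⟨I1, hI1, hI1', hI1''⟩ := ih h1
    have hgm : g ∈ I.map φ ⊔ M := h (Ideal.subset_span (by simp))
    obtain ⟨u, hu, v, hv, rfl⟩ := Submodule.mem_sup.mp hgm
    obtain ⟨I2, hI2, hI2', hI2''⟩ := exists_fg_le_map φ I u hu
    refine ⟨I1 ⊔ I2, Submodule.FG.sup hI1 hI2, sup_le hI1' hI2', ?_⟩
    rw [Finset.coe_insert, Ideal.span_insert]
    refine sup_le ?_ ?_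
    · rw [Ideal.span_singleton_le_iff_mem]
      exact Submodule.add_mem_sup (Ideal.map_mono le_sup_right hI2'') hv
    · exact hI1''.trans (sup_le_sup_right (Ideal.map_mono le_sup_left) _)

/-- Let φ : A → B be a taut homomorphism of linearly topologized rings such that for every open ideal I
of A the induced ring map A/I → B/J, where J denotes the closure of φ(I)B, is faithfully flat.
Suppose A is Hausdorff and complete, and B is adic with some finitely generated ideal of definition.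
Then A is adic, and some finitely generated ideal of A is an ideal of definition. -/
theorem result
    (A : Type u) [CommRing A] [UniformSpace A] [IsUniformAddGroup A] [IsTopologicalRing A] [IsLinearTopology A A] [T2Space A] [CompleteSpace A]
    (B : Type v) [CommRing B] [UniformSpace B] [IsUniformAddGroup B] [IsTopologicalRing B] (hB : LinTop.IsAdicRing B)
    (hJ : ∃ J : Ideal B, LinTop.IsIdealOfDefinition B J ∧ J.FG)
    (φ : A →+* B) (hφ : LinTop.IsTautFFlat φ) :
    LinTop.IsAdicRing A ∧ ∃ I : Ideal A, LinTop.IsIdealOfDefinition A I ∧ I.FG := by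
  obtain ⟨hBpre, hBT2, hBcomp⟩ := hB
  have hBlin : IsLinearTopology B B :=
    Groth.Agent.Lib.Helper14.LT.isLinearTopology_of_isPreadic hBpre
  obtain ⟨J, hJdef, hJfg⟩ := hJ
  have hJpow_open : ∀ k : ℕ, IsOpen ((J ^ k : Ideal B) : Set B) :=
    fun k => Groth.Agent.Lib.Helper14.LT.isOpen_pow_of_isIdealOfDefinition hBpre hJdef k
  -- an ideal of definition of `A`
  obtain ⟨-, I, hI⟩ := Groth.Agent.S10168.result A B φ hφ ⟨hBlin, J, hJdef⟩
  -- `J ^ m ⊆ closure (φ(I) B)`
  have hJ'nhds : closure ((I.map φ : Ideal B) : Set B) ∈ nhds (0 : B) :=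
    (hφ.1.2.1 I hI.1).mem_nhds (subset_closure (Ideal.zero_mem _))
  obtain ⟨m, hm0, hm⟩ := hJdef.2 _ hJ'nhds
  set J₁ : Ideal B := J ^ m with hJ₁
  have hJ₁fg : J₁.FG := hJfg.pow
  have hJ₁pow_open : ∀ k : ℕ, IsOpen ((J₁ ^ k : Ideal B) : Set B) := by
    intro k
    rw [hJ₁, ← pow_mul]
    exact hJpow_open _
  have hJ₁tend : ∀ V : Ideal B, IsOpen (V : Set B) → ∃ k : ℕ, J₁ ^ k ≤ V := by
    intro V hV
    obtain ⟨k, -, hk⟩ := hJdef.2 (V : Set B) (hV.mem_nhds V.zero_mem)
    refine ⟨k, ?_⟩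
    rw [hJ₁, ← pow_mul]
    exact (Ideal.pow_le_pow_right (Nat.le_mul_of_pos_left k hm0)).trans (fun x hx => hk hx)
  -- `J₁ ≤ φ(I)B ⊔ J₁ ^ 2`
  have h1 : J₁ ≤ I.map φ ⊔ J₁ ^ 2 := by
    intro x hx
    exact Groth.Agent.Lib.Helper14.LT.mem_sup_of_mem_closure _ x (hm hx) _ (hJ₁pow_open 2)
  obtain ⟨s, hs⟩ := hJ₁fg
  have hs' : Ideal.span (s : Set B) = J₁ := hs
  obtain ⟨If, hIffg, hIfI, hIf⟩ := exists_fg_le_map_sup φ I (J₁ ^ 2) s (by rw [hs']; exact h1)
  rw [hs'] at hIf
  set P : Ideal B := If.map φ with hP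
  -- iterate
  have h2 : ∀ k : ℕ, J₁ ^ (k + 1) ≤ P ⊔ J₁ ^ (k + 2) := by
    intro k
    calc J₁ ^ (k + 1) = J₁ ^ k * J₁ := pow_succ _ _
      _ ≤ J₁ ^ k * (P ⊔ J₁ ^ 2) := Ideal.mul_mono_right hIf
      _ = J₁ ^ k * P ⊔ J₁ ^ k * J₁ ^ 2 := Ideal.mul_sup _ _ _
      _ ≤ P ⊔ J₁ ^ (k + 2) := by
        refine sup_le_sup Ideal.mul_le_right ?_
        rw [← pow_add]
  have h3 : ∀ k : ℕ, J₁ ≤ P ⊔ J₁ ^ (k + 1) := by
    intro k
    induction k with
    | zero => simp
    | succ k ih =>
      refine ih.trans (sup_le le_sup_left ?_)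
      exact h2 k
  have h4 : J₁ ≤ P.closure := by
    intro x hx
    rw [← SetLike.mem_coe, Ideal.coe_closure]
    apply Groth.Agent.Lib.Helper14.LT.mem_closure_of_forall_mem_sup
    intro V hV
    obtain ⟨k, hk⟩ := hJ₁tend V hV
    have := h3 k hx
    exact (sup_le_sup_left ((Ideal.pow_le_pow_right (Nat.le_succ k)).trans hk) P) this
  -- closures of the extended powers are open in `B`
  have ha : ∀ n : ℕ, IsOpen (closure (((If ^ n).map φ : Ideal B) : Set B)) := by
    intro n
    refine Groth.Agent.Lib.Helper14.LT.isOpen_closure_of_le (I := J₁ ^ n) (hJ₁pow_open n) ?_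
    rw [Ideal.map_pow]
    intro x hx
    have := ((Ideal.pow_right_mono h4 n).trans
      (Groth.Agent.Lib.Helper14.LT.closure_pow_le P n)) hx
    rwa [← SetLike.mem_coe, Ideal.coe_closure] at this
  -- closures of the powers of `If` are open in `A`
  have hopen : ∀ n : ℕ, IsOpen (closure ((If ^ n : Ideal A) : Set A)) := by
    intro n
    refine Groth.Agent.Lib.Helper14.LT.isOpen_closure_of_le
      (I := ((If ^ n).map φ).closure.comap φ) ?_ ?_
    · have : IsOpen ((((If ^ n).map φ).closure : Ideal B) : Set B) := by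
        rw [Ideal.coe_closure]; exact ha n
      exact this.preimage hφ.1.1
    · intro x hx
      apply Groth.Agent.Lib.Helper14.LT.mem_closure_of_forall_mem_sup
      intro K hK
      have hK' : IsOpen (((If ^ n ⊔ K : Ideal A)) : Set A) :=
        Ideal.isOpen_of_isOpen_subideal le_sup_right hK
      apply Groth.Agent.Lib.Helper14.LT.mem_of_map_mem_closure hφ _ hK'
      have hx' : φ x ∈ closure (((If ^ n).map φ : Ideal B) : Set B) := by
        have : φ x ∈ ((If ^ n).map φ).closure := hx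
        rwa [← SetLike.mem_coe, Ideal.coe_closure] at this
      exact closure_mono (Ideal.map_mono le_sup_left) hx'
  have hbasis : ∀ U ∈ nhds (0 : A), ∃ n : ℕ, closure ((If ^ n : Ideal A) : Set A) ⊆ U := by
    intro U hU
    obtain ⟨V, hV, hVU⟩ := (IsLinearTopology.hasBasis_open_ideal (R := A)).mem_iff.mp hU
    obtain ⟨n, -, hn⟩ := hI.2 (V : Set A) (hV.mem_nhds V.zero_mem)
    refine ⟨n, ?_⟩
    have h5 : ((If ^ n : Ideal A) : Set A) ⊆ V := fun x hx => hn (Ideal.pow_right_mono hIfI n hx)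
    have := closure_mono h5
    rw [Groth.Agent.Lib.Helper14.LT.closure_eq_of_isOpen V hV] at this
    exact this.trans hVU
  have hadic : IsAdic If := Groth.Agent.S10163.result A If hIffg hopen hbasis
  exact ⟨⟨⟨If, hadic⟩, inferInstance, inferInstance⟩, If,
    Groth.Agent.Lib.Helper14.LT.isIdealOfDefinition_of_isAdic hadic, hIffg⟩

end Groth.Agent.S10170
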