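import Groth.Statements.S10171
-- import your own Groth.Agent.* helpers here

set_option autoImplicit false
universe u v
open LinTop

namespace Groth.Agent.S10171

open Set Filter Topology UniformSpace


section

variable {M : Type v} [AddCommGroup M] [UniformSpace M] [IsUniformAddGroup M]
  {Q : Type v} [AddCommGroup Q] [UniformSpace Q] [IsUniformAddGroup Q]

/-- The key inclusion: abstract version. `π : M →+ Q` is a continuous open surjection with kernel
`N`, and `B` is a basis of open subgroups. -/
lemma ker_subset (π : M →+ Q) (hπc : Continuous π) (hπo : IsOpenMap π) (N : AddSubgroup M)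
    (hN : ∀ m, π m = 0 → m ∈ N)
    (hbasis : ∀ W ∈ 𝓝 (0 : M), ∃ U : AddSubgroup M, IsOpen (U : Set M) ∧ (U : Set M) ⊆ W)
    (x : Completion M) (hx : π.completion hπc x = 0) :
    x ∈ closure (Set.range (fun n : N => ((n : M) : Completion M))) := by
  rw [mem_closure_iff_nhds]
  intro W hW
  -- a neighbourhood of 0
  have hW₀ : (fun z : Completion M => x + z) ⁻¹' W ∈ 𝓝 (0 : Completion M) := by
    apply (continuous_const.add continuous_id).continuousAt.preimage_mem_nhds
    simpa using hW
  obtain ⟨W₁, hW₁, hW₁c, hW₁sub⟩ := exists_mem_nhds_isClosed_subset hW₀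
  have hpre : ((↑) : M → Completion M) ⁻¹' W₁ ∈ 𝓝 (0 : M) := by
    apply (Completion.continuous_coe M).continuousAt.preimage_mem_nhds
    rw [Completion.coe_zero]
    exact hW₁
  obtain ⟨U, hUo, hUsub⟩ := hbasis _ hpre
  -- the closure of the image of U
  let Uc : AddSubgroup (Completion M) :=
    (U.map (Completion.toCompl : M →+ Completion M)).topologicalClosure
  have hUc_eq : (Uc : Set (Completion M)) = closure (((↑) : M → Completion M) '' (U : Set M)) := rfl
  have hUc_sub : (Uc : Set (Completion M)) ⊆ W₁ := by
    rw [hUc_eq]
    apply closure_minimal _ hW₁c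
    rintro _ ⟨u, hu, rfl⟩
    exact hUsub hu
  have hUc_nhds : (Uc : Set (Completion M)) ∈ 𝓝 (0 : Completion M) := by
    rw [hUc_eq]
    have := (Completion.isDenseInducing_coe (α := M)).closure_image_mem_nhds
      (hUo.mem_nhds (zero_mem U))
    rw [Completion.coe_zero] at this
    exact this
  -- pick m close to x
  have hnx : (fun y : Completion M => y - x) ⁻¹' (Uc : Set (Completion M)) ∈ 𝓝 x := by
    apply (continuous_id.sub continuous_const).continuousAt.preimage_mem_nhds
    simpa using hUc_nhds
  obtain ⟨m, hm⟩ := (Completion.denseRange_coe (α := M)).exists_mem_open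
    (isOpen_interior) (⟨x, mem_interior_iff_mem_nhds.mpr hnx⟩ : (interior _).Nonempty)
  replace hm : ((m : Completion M) - x) ∈ Uc :=
    interior_subset (s := (fun y : Completion M => y - x) ⁻¹' (Uc : Set (Completion M))) hm
  -- apply π̂
  have h1 : π.completion hπc ((m : Completion M) - x) = ((π m : Q) : Completion Q) := by
    rw [map_sub, hx, sub_zero, AddMonoidHom.completion_coe]
  have hcont : Continuous (π.completion hπc) := AddMonoidHom.continuous_completion π hπc
  have h2 : ((π m : Q) : Completion Q) ∈
      closure (((↑) : Q → Completion Q) '' (π '' (U : Set M))) := by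
    rw [← h1]
    have h3 : π.completion hπc ((m : Completion M) - x) ∈ π.completion hπc '' (Uc : Set _) :=
      ⟨_, hm, rfl⟩
    have h4 := image_closure_subset_closure_image hcont (s := ((↑) : M → Completion M) '' (U : Set M))
    rw [← hUc_eq] at h4
    refine closure_mono ?_ (h4 h3)
    rintro _ ⟨_, ⟨u, hu, rfl⟩, rfl⟩
    exact ⟨π u, ⟨u, hu, rfl⟩, (AddMonoidHom.completion_coe π hπc u).symm⟩
  -- π m ∈ closure (π '' U) = π '' U
  have h5 : π m ∈ closure (π '' (U : Set M)) := by
    rw [(Completion.isDenseInducing_coe (α := Q)).isInducing.closure_eq_preimage_closure_image]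
    exact h2
  let V : AddSubgroup Q := U.map π
  have hVo : IsOpen (V : Set Q) := hπo _ hUo
  have hVc : IsClosed (V : Set Q) := V.isClosed_of_isOpen hVo
  have h6 : π m ∈ (V : Set Q) := by
    have : closure (π '' (U : Set M)) = (V : Set Q) := hVc.closure_eq
    rw [← this]
    exact h5
  obtain ⟨u, hu, hum⟩ := h6
  have hn : m - u ∈ N := hN _ (by rw [map_sub, hum, sub_self])
  refine ⟨((m - u : M) : Completion M), ?_, ⟨⟨m - u, hn⟩, rfl⟩⟩
  have h7 : ((m - u : M) : Completion M) = x + (((m : Completion M) - x) - (u : Completion M)) := by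
    rw [Completion.coe_sub]
    abel
  rw [h7]
  apply hW₁sub
  apply hUc_sub
  refine Uc.sub_mem hm ?_
  exact AddSubgroup.le_topologicalClosure _ ⟨u, hu, rfl⟩

end

/-- Let M be a linearly topologized module over a ring R and N a submodule. Write M^ for the separated
completion of M and (M/N)^ for that of M/N (quotient topology, additive uniform structure). Then the
kernel of the induced map M^ → (M/N)^ is the closure of the image of N in M^; that closure is the
completion of N, so this is the exactness of 0 → N^ → M^ → (M/N)^ at M^. -/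
theorem result
    {R : Type u} [Ring R] {M : Type v} [AddCommGroup M] [Module R M] [UniformSpace M]
    [IsUniformAddGroup M] [IsLinearTopology R M] (N : Submodule R M) :
    (@UniformSpace.Completion.map M _ (M ⧸ N.toAddSubgroup)
        (IsTopologicalAddGroup.rightUniformSpace (M ⧸ N.toAddSubgroup))
        (QuotientAddGroup.mk' N.toAddSubgroup)) ⁻¹' {0} =
      closure (Set.range (fun n : N => ((n : M) : UniformSpace.Completion M))) := by
  let uQ : UniformSpace (M ⧸ N.toAddSubgroup) := IsTopologicalAddGroup.rightUniformSpace _
  have : IsUniformAddGroup (M ⧸ N.toAddSubgroup) := isUniformAddGroup_of_addCommGroup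
  let π : M →+ M ⧸ N.toAddSubgroup := QuotientAddGroup.mk' N.toAddSubgroup
  have hπc : Continuous π := QuotientAddGroup.continuous_mk
  have hπo : IsOpenMap π := QuotientAddGroup.isOpenMap_coe
  have hπu : UniformContinuous π := uniformContinuous_addMonoidHom_of_continuous hπc
  have hmap : ∀ x, Completion.map π x = π.completion hπc x := fun x => rfl
  have hbasis : ∀ W ∈ 𝓝 (0 : M), ∃ U : AddSubgroup M, IsOpen (U : Set M) ∧ (U : Set M) ⊆ W := by
    intro W hW
    obtain ⟨U, hU, hUW⟩ := (IsLinearTopology.hasBasis_open_submodule R (M := M)).mem_iff.mp hW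
    exact ⟨U.toAddSubgroup, hU, hUW⟩
  apply Set.Subset.antisymm
  · intro x hx
    have hx' : π.completion hπc x = 0 := by rw [← hmap]; exact hx
    exact ker_subset π hπc hπo N.toAddSubgroup
      (fun m hm => (QuotientAddGroup.eq_zero_iff m).mp hm) hbasis x hx'
  · apply closure_minimal
    · rintro _ ⟨n, rfl⟩
      show Completion.map π ((n : M) : Completion M) = 0
      rw [Completion.map_coe hπu]
      have : π (n : M) = 0 := (QuotientAddGroup.eq_zero_iff _).mpr n.2
      rw [this, Completion.coe_zero]
    · exact isClosed_singleton.preimage Completion.continuous_map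

end Groth.Agent.S10171
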