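import Groth.Statements.S10172
-- import your own Groth.Agent.* helpers here

set_option autoImplicit false
universe u v
open LinTop

namespace Groth.Agent.S10172

open Set Filter Topology UniformSpace


section

variable {M : Type v} [AddCommGroup M] [UniformSpace M] [IsUniformAddGroup M]
  {Q : Type v} [AddCommGroup Q] [UniformSpace Q] [IsUniformAddGroup Q]
  (π : M →+ Q) (U : ℕ → AddSubgroup M)

/-- closure of the image of `U j` in the completion -/
noncomputable def Uhat (j : ℕ) : AddSubgroup (Completion M) :=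
  ((U j).map (Completion.toCompl : M →+ Completion M)).topologicalClosure

/-- closure of the image of `π (U j)` in the completion -/
noncomputable def Vhat (j : ℕ) : AddSubgroup (Completion Q) :=
  (((U j).map π).map (Completion.toCompl : Q →+ Completion Q)).topologicalClosure

lemma coe_mem_Uhat {j : ℕ} {u : M} (hu : u ∈ U j) : (u : Completion M) ∈ Uhat U j :=
  AddSubgroup.le_topologicalClosure _ ⟨u, hu, rfl⟩

lemma coe_mem_Vhat {j : ℕ} {u : M} (hu : u ∈ U j) : ((π u : Q) : Completion Q) ∈ Vhat π U j :=
  AddSubgroup.le_topologicalClosure _ ⟨π u, ⟨u, hu, rfl⟩, rfl⟩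

lemma Uhat_coe (j : ℕ) :
    (Uhat U j : Set (Completion M)) = closure (((↑) : M → Completion M) '' (U j : Set M)) := rfl

lemma Vhat_coe (j : ℕ) :
    (Vhat π U j : Set (Completion Q)) =
      closure (((↑) : Q → Completion Q) '' (π '' (U j : Set M))) := rfl

variable (hπc : Continuous π) (hπo : IsOpenMap π)
  (hUanti : Antitone U) (hUo : ∀ j, IsOpen (U j : Set M))
  (hUb : ∀ W ∈ 𝓝 (0 : M), ∃ j, (U j : Set M) ⊆ W)

include hUo in
lemma Uhat_mem_nhds (j : ℕ) : (Uhat U j : Set (Completion M)) ∈ 𝓝 (0 : Completion M) := by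
  rw [Uhat_coe]
  have := (Completion.isDenseInducing_coe (α := M)).closure_image_mem_nhds
    ((hUo j).mem_nhds (zero_mem (U j)))
  rw [Completion.coe_zero] at this
  exact this

include hUo hπo in
lemma Vhat_mem_nhds (j : ℕ) : (Vhat π U j : Set (Completion Q)) ∈ 𝓝 (0 : Completion Q) := by
  rw [Vhat_coe]
  have h1 : π '' (U j : Set M) ∈ 𝓝 (0 : Q) := by
    have := (hπo _ (hUo j)).mem_nhds (⟨0, zero_mem (U j), map_zero π⟩ : (0 : Q) ∈ π '' (U j : Set M))
    exact this
  have := (Completion.isDenseInducing_coe (α := Q)).closure_image_mem_nhds h1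
  rw [Completion.coe_zero] at this
  exact this

include hUb in
lemma Uhat_basis (W : Set (Completion M)) (hW : W ∈ 𝓝 (0 : Completion M)) :
    ∃ j, (Uhat U j : Set (Completion M)) ⊆ W := by
  obtain ⟨W₁, hW₁, hW₁c, hW₁sub⟩ := exists_mem_nhds_isClosed_subset hW
  have hpre : ((↑) : M → Completion M) ⁻¹' W₁ ∈ 𝓝 (0 : M) := by
    apply (Completion.continuous_coe M).continuousAt.preimage_mem_nhds
    rw [Completion.coe_zero]
    exact hW₁
  obtain ⟨j, hj⟩ := hUb _ hpre
  refine ⟨j, subset_trans ?_ hW₁sub⟩
  rw [Uhat_coe]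
  apply closure_minimal _ hW₁c
  rintro _ ⟨u, hu, rfl⟩
  exact hj hu

include hUb hπc in
lemma Vhat_basis (W : Set (Completion Q)) (hW : W ∈ 𝓝 (0 : Completion Q)) :
    ∃ j, (Vhat π U j : Set (Completion Q)) ⊆ W := by
  obtain ⟨W₁, hW₁, hW₁c, hW₁sub⟩ := exists_mem_nhds_isClosed_subset hW
  have hpre : (fun m : M => ((π m : Q) : Completion Q)) ⁻¹' W₁ ∈ 𝓝 (0 : M) := by
    apply ((Completion.continuous_coe Q).comp hπc).continuousAt.preimage_mem_nhds
    simp only [Function.comp_apply, map_zero, Completion.coe_zero]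
    exact hW₁
  obtain ⟨j, hj⟩ := hUb _ hpre
  refine ⟨j, subset_trans ?_ hW₁sub⟩
  rw [Vhat_coe]
  apply closure_minimal _ hW₁c
  rintro _ ⟨_, ⟨u, hu, rfl⟩, rfl⟩
  exact hj hu

include hπc hπo hUanti hUo hUb in
/-- successive approximation -/
lemma key (k : ℕ) (y : Completion Q) (hy : y ∈ Vhat π U k) :
    ∃ x ∈ Uhat U k, π.completion hπc x = y := by
  classical
  -- the invariant
  let P : ℕ → M → Prop := fun j s => s ∈ U k ∧ y - ((π s : Q) : Completion Q) ∈ Vhat π U (k + j)
  have h0 : P 0 0 := by
    refine ⟨zero_mem _, ?_⟩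
    show y - ((π 0 : Q) : Completion Q) ∈ Vhat π U (k + 0)
    rw [map_zero, Completion.coe_zero, sub_zero]
    exact hy
  have step : ∀ j (s : {s : M // P j s}), ∃ s' : {s' : M // P (j + 1) s'},
      s'.1 - s.1 ∈ U (k + j) := by
    rintro j ⟨s, hsU, hs⟩
    -- z = y - π s ∈ Vhat (k+j)
    obtain ⟨z, hz⟩ : ∃ z, z = y - ((π s : Q) : Completion Q) := ⟨_, rfl⟩
    rw [← hz] at hs
    have hnhds : (fun w : Completion Q => z - w) ⁻¹' (Vhat π U (k + j + 1) : Set (Completion Q))
        ∈ 𝓝 z := by
      have hc : Continuous (fun w : Completion Q => z - w) := continuous_const.sub continuous_id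
      apply hc.continuousAt.preimage_mem_nhds
      show (Vhat π U (k + j + 1) : Set (Completion Q)) ∈ 𝓝 (z - z)
      rw [sub_self]
      exact Vhat_mem_nhds π U hπo hUo (k + j + 1)
    have hzcl : z ∈ closure (((↑) : Q → Completion Q) '' (π '' (U (k + j) : Set M))) := hs
    obtain ⟨_, hw, ⟨_, ⟨u, hu, rfl⟩, rfl⟩⟩ := mem_closure_iff_nhds.mp hzcl _ hnhds
    refine ⟨⟨s + u, (U k).add_mem hsU (hUanti (Nat.le_add_right k j) hu), ?_⟩, ?_⟩
    · have : y - ((π (s + u) : Q) : Completion Q) = z - ((π u : Q) : Completion Q) := by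
        rw [hz, map_add, Completion.coe_add]
        abel
      rw [this]
      exact hw
    · simpa using hu
  choose next hnext using step
  let seq : ∀ j, {s : M // P j s} := fun j =>
    Nat.rec (motive := fun j => {s : M // P j s}) ⟨0, h0⟩ (fun j s => next j s) j
  have hseq_succ : ∀ j, seq (j + 1) = next j (seq j) := fun j => rfl
  let s : ℕ → M := fun j => (seq j).1
  have hs_mem : ∀ j, s j ∈ U k := fun j => (seq j).2.1
  have hs_y : ∀ j, y - ((π (s j) : Q) : Completion Q) ∈ Vhat π U (k + j) := fun j => (seq j).2.2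
  have hs_step : ∀ j, s (j + 1) - s j ∈ U (k + j) := by
    intro j
    show (seq (j + 1)).1 - (seq j).1 ∈ U (k + j)
    rw [hseq_succ]
    exact hnext j (seq j)
  have hs_diff : ∀ m n, m ≤ n → s n - s m ∈ U (k + m) := by
    intro m n hmn
    induction n, hmn using Nat.le_induction with
    | base => simp
    | succ n hmn ih =>
      have : s (n + 1) - s m = (s (n + 1) - s n) + (s n - s m) := by abel
      rw [this]
      exact (U (k + m)).add_mem (hUanti (by omega) (hs_step n)) ih
  -- Cauchy
  have hbasis : (𝓝 (0 : M)).HasBasis (fun _ : ℕ => True) (fun j => (U j : Set M)) := by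
    refine ⟨fun W => ⟨fun hW => ?_, fun ⟨j, _, hj⟩ => ?_⟩⟩
    · obtain ⟨j, hj⟩ := hUb W hW
      exact ⟨j, trivial, hj⟩
    · exact Filter.mem_of_superset ((hUo j).mem_nhds (zero_mem _)) hj
  have hcauchy : CauchySeq s := by
    rw [hbasis.uniformity_of_nhds_zero.cauchySeq_iff]
    intro i _
    refine ⟨i, fun m hm n hn => ?_⟩
    show s n - s m ∈ U i
    rcases le_total m n with hmn | hnm
    · exact hUanti (by omega) (hs_diff m n hmn)
    · have := hUanti (by omega : i ≤ k + n) (hs_diff n m hnm)
      have h2 : s n - s m = -(s m - s n) := by abel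
      rw [h2]
      exact (U i).neg_mem this
  have hcauchy' : CauchySeq (fun j => ((s j : M) : Completion M)) :=
    hcauchy.map (Completion.uniformContinuous_coe M)
  obtain ⟨x, hx⟩ := cauchySeq_tendsto_of_complete hcauchy'
  refine ⟨x, ?_, ?_⟩
  · rw [← SetLike.mem_coe, Uhat_coe]
    exact mem_closure_of_tendsto hx (Filter.Eventually.of_forall fun j => ⟨s j, hs_mem j, rfl⟩)
  · have hcont : Continuous (π.completion hπc) := AddMonoidHom.continuous_completion π hπc
    have h1 : Tendsto (fun j => π.completion hπc ((s j : M) : Completion M)) atTop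
        (𝓝 (π.completion hπc x)) := (hcont.tendsto x).comp hx
    have h2 : Tendsto (fun j => π.completion hπc ((s j : M) : Completion M)) atTop (𝓝 y) := by
      rw [tendsto_def]
      intro W hW
      have hW₀ : (fun z : Completion Q => y - z) ⁻¹' W ∈ 𝓝 (0 : Completion Q) := by
        have hc : Continuous (fun z : Completion Q => y - z) := continuous_const.sub continuous_id
        apply hc.continuousAt.preimage_mem_nhds
        show W ∈ 𝓝 (y - 0)
        rw [sub_zero]
        exact hW
      obtain ⟨j₀, hj₀⟩ := Vhat_basis π U hπc hUb _ hW₀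
      rw [Filter.mem_atTop_sets]
      refine ⟨j₀, fun j hj => ?_⟩
      show π.completion hπc ((s j : M) : Completion M) ∈ W
      rw [AddMonoidHom.completion_coe]
      have h3 : y - ((π (s j) : Q) : Completion Q) ∈ Vhat π U j₀ := by
        have hle : Vhat π U (k + j) ≤ Vhat π U j₀ := by
          apply AddSubgroup.topologicalClosure_mono
          apply AddSubgroup.map_mono
          apply AddSubgroup.map_mono
          exact hUanti (by omega)
        exact hle (hs_y j)
      have h4 := hj₀ h3
      simpa using h4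
    exact tendsto_nhds_unique h1 h2

include hπc hπo hUanti hUo hUb in
lemma main (hπs : Function.Surjective π) :
    Function.Surjective (π.completion hπc) ∧ IsOpenMap (π.completion hπc) := by
  have himg : ∀ k, (Vhat π U k : Set (Completion Q)) ⊆
      π.completion hπc '' (Uhat U k : Set (Completion M)) := by
    intro k y hy
    obtain ⟨x, hx, hxy⟩ := key π U hπc hπo hUanti hUo hUb k y hy
    exact ⟨x, hx, hxy⟩
  constructor
  · let H : AddSubgroup (Completion Q) := (π.completion hπc).range
    have hHnhds : (H : Set (Completion Q)) ∈ 𝓝 (0 : Completion Q) := by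
      refine Filter.mem_of_superset (Vhat_mem_nhds π U hπo hUo 0) ?_
      intro y hy
      obtain ⟨x, -, hxy⟩ := himg 0 hy
      exact ⟨x, hxy⟩
    have hHo : IsOpen (H : Set (Completion Q)) := H.isOpen_of_mem_nhds hHnhds
    have hHc : IsClosed (H : Set (Completion Q)) := H.isClosed_of_isOpen hHo
    have hdense : Dense (H : Set (Completion Q)) := by
      refine Dense.mono ?_ (Completion.denseRange_coe (α := Q))
      rintro _ ⟨q, rfl⟩
      obtain ⟨m, rfl⟩ := hπs q
      exact ⟨(m : Completion M), AddMonoidHom.completion_coe π hπc m⟩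
    intro y
    have : y ∈ closure (H : Set (Completion Q)) := hdense y
    rw [hHc.closure_eq] at this
    exact this
  · rw [IsTopologicalAddGroup.isOpenMap_iff_nhds_zero]
    intro W hW
    obtain ⟨k, hk⟩ := Uhat_basis U hUb _ (Filter.mem_map.mp hW)
    refine Filter.mem_of_superset (Vhat_mem_nhds π U hπo hUo k) ?_
    intro y hy
    obtain ⟨x, hx, rfl⟩ := himg k hy
    exact hk hx

end

/-- Let M be a linearly topologized module over a ring R having a countable fundamental system of
neighbourhoods of 0, and N a submodule. With M^ and (M/N)^ the separated completions of M and of M/N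
(quotient topology, additive uniform structure), the induced map M^ → (M/N)^ is surjective and open
(so, its kernel being the completion of N, the sequence 0 → N^ → M^ → (M/N)^ → 0 is exact). -/
theorem result
    {R : Type u} [Ring R] {M : Type v} [AddCommGroup M] [Module R M] [UniformSpace M]
    [IsUniformAddGroup M] [IsLinearTopology R M] (hc : (nhds (0 : M)).IsCountablyGenerated)
    (N : Submodule R M) :
    Function.Surjective (@UniformSpace.Completion.map M _ (M ⧸ N.toAddSubgroup)
        (IsTopologicalAddGroup.rightUniformSpace (M ⧸ N.toAddSubgroup))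
        (QuotientAddGroup.mk' N.toAddSubgroup)) ∧
      IsOpenMap (@UniformSpace.Completion.map M _ (M ⧸ N.toAddSubgroup)
        (IsTopologicalAddGroup.rightUniformSpace (M ⧸ N.toAddSubgroup))
        (QuotientAddGroup.mk' N.toAddSubgroup)) := by
  let uQ : UniformSpace (M ⧸ N.toAddSubgroup) := IsTopologicalAddGroup.rightUniformSpace _
  have : IsUniformAddGroup (M ⧸ N.toAddSubgroup) := isUniformAddGroup_of_addCommGroup
  let π : M →+ M ⧸ N.toAddSubgroup := QuotientAddGroup.mk' N.toAddSubgroup
  have hπc : Continuous π := QuotientAddGroup.continuous_mk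
  have hπo : IsOpenMap π := QuotientAddGroup.isOpenMap_coe
  have hπs : Function.Surjective π := QuotientAddGroup.mk'_surjective _
  obtain ⟨U', hU'o, hU'b⟩ :=
    (IsLinearTopology.hasBasis_open_submodule R (M := M)).exists_antitone_subbasis
  let U : ℕ → AddSubgroup M := fun j => (U' j).toAddSubgroup
  have hUanti : Antitone U := fun i j hij => hU'b.antitone hij
  have hUo : ∀ j, IsOpen (U j : Set M) := hU'o
  have hUb : ∀ W ∈ 𝓝 (0 : M), ∃ j, (U j : Set M) ⊆ W := by
    intro W hW
    obtain ⟨j, -, hj⟩ := hU'b.toHasBasis.mem_iff.mp hW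
    exact ⟨j, hj⟩
  exact main π U hπc hπo hUanti hUo hUb hπs

end Groth.Agent.S10172
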