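import Groth.Statements.S10173
import Mathlib.Topology.Algebra.Module.Basic
import Mathlib.Topology.Algebra.UniformMulAction
-- import your own Groth.Agent.* helpers here

set_option autoImplicit false
universe u v
open LinTop

namespace Groth.Agent.S10173

open Set Filter Topology UniformSpace


section approx

variable {A : Type*} [AddCommGroup A]
  {B : Type*} [AddCommGroup B] [UniformSpace B] [IsUniformAddGroup B]
  (φ : A →+ B) (U : ℕ → AddSubgroup A)

/-- closure of the image of `φ (U j)` in the completion -/
noncomputable def Vhat (j : ℕ) : AddSubgroup (Completion B) :=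
  (((U j).map φ).map (Completion.toCompl : B →+ Completion B)).topologicalClosure

lemma Vhat_coe (j : ℕ) :
    (Vhat φ U j : Set (Completion B)) =
      closure (((↑) : B → Completion B) '' (φ '' (U j : Set A))) := rfl

variable (hUanti : Antitone U) (hVo : ∀ j, IsOpen (φ '' (U j : Set A)))

include hVo in
lemma Vhat_mem_nhds (j : ℕ) : (Vhat φ U j : Set (Completion B)) ∈ 𝓝 (0 : Completion B) := by
  rw [Vhat_coe]
  have h1 : φ '' (U j : Set A) ∈ 𝓝 (0 : B) :=
    (hVo j).mem_nhds (⟨0, zero_mem (U j), map_zero φ⟩ : (0 : B) ∈ φ '' (U j : Set A))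
  have := (Completion.isDenseInducing_coe (α := B)).closure_image_mem_nhds h1
  rw [Completion.coe_zero] at this
  exact this

include hUanti hVo in
/-- successive approximation -/
lemma approx (k : ℕ) (y : Completion B) (hy : y ∈ Vhat φ U k) :
    ∃ s : ℕ → A, (∀ j, s j ∈ U k) ∧ (∀ m n, m ≤ n → s n - s m ∈ U (k + m)) ∧
      ∀ j, y - ((φ (s j) : B) : Completion B) ∈ Vhat φ U (k + j) := by
  classical
  let P : ℕ → A → Prop := fun j s => s ∈ U k ∧ y - ((φ s : B) : Completion B) ∈ Vhat φ U (k + j)
  have h0 : P 0 0 := by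
    refine ⟨zero_mem _, ?_⟩
    show y - ((φ 0 : B) : Completion B) ∈ Vhat φ U (k + 0)
    rw [map_zero, Completion.coe_zero, sub_zero]
    exact hy
  have step : ∀ j (s : {s : A // P j s}), ∃ s' : {s' : A // P (j + 1) s'},
      s'.1 - s.1 ∈ U (k + j) := by
    rintro j ⟨s, hsU, hs⟩
    obtain ⟨z, hz⟩ : ∃ z, z = y - ((φ s : B) : Completion B) := ⟨_, rfl⟩
    rw [← hz] at hs
    have hnhds : (fun w : Completion B => z - w) ⁻¹' (Vhat φ U (k + j + 1) : Set (Completion B))
        ∈ 𝓝 z := by
      have hc : Continuous (fun w : Completion B => z - w) := continuous_const.sub continuous_id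
      apply hc.continuousAt.preimage_mem_nhds
      show (Vhat φ U (k + j + 1) : Set (Completion B)) ∈ 𝓝 (z - z)
      rw [sub_self]
      exact Vhat_mem_nhds φ U hVo (k + j + 1)
    have hzcl : z ∈ closure (((↑) : B → Completion B) '' (φ '' (U (k + j) : Set A))) := hs
    obtain ⟨_, hw, ⟨_, ⟨u, hu, rfl⟩, rfl⟩⟩ := mem_closure_iff_nhds.mp hzcl _ hnhds
    refine ⟨⟨s + u, (U k).add_mem hsU (hUanti (Nat.le_add_right k j) hu), ?_⟩, ?_⟩
    · have : y - ((φ (s + u) : B) : Completion B) = z - ((φ u : B) : Completion B) := by
        rw [hz, map_add, Completion.coe_add]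
        abel
      rw [this]
      exact hw
    · simpa using hu
  choose next hnext using step
  let seq : ∀ j, {s : A // P j s} := fun j =>
    Nat.rec (motive := fun j => {s : A // P j s}) ⟨0, h0⟩ (fun j s => next j s) j
  have hseq_succ : ∀ j, seq (j + 1) = next j (seq j) := fun j => rfl
  let s : ℕ → A := fun j => (seq j).1
  have hs_mem : ∀ j, s j ∈ U k := fun j => (seq j).2.1
  have hs_y : ∀ j, y - ((φ (s j) : B) : Completion B) ∈ Vhat φ U (k + j) := fun j => (seq j).2.2
  have hs_step : ∀ j, s (j + 1) - s j ∈ U (k + j) := by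
    intro j
    show (seq (j + 1)).1 - (seq j).1 ∈ U (k + j)
    rw [hseq_succ]
    exact hnext j (seq j)
  refine ⟨s, hs_mem, ?_, hs_y⟩
  intro m n hmn
  induction n, hmn using Nat.le_induction with
  | base => simp
  | succ n hmn ih =>
    have : s (n + 1) - s m = (s (n + 1) - s n) + (s n - s m) := by abel
    rw [this]
    exact (U (k + m)).add_mem (hUanti (by omega) (hs_step n)) ih

end approx

section main

variable {R : Type u} [CommRing R] (I : Ideal R)
  {M : Type v} [AddCommGroup M] [Module R M] [UniformSpace M] [IsUniformAddGroup M]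
  [UniformContinuousConstSMul R M] (M' : Submodule R M)

/-- the canonical map to the completion as a linear map -/
noncomputable def cl : M →ₗ[R] Completion M where
  toFun := (↑)
  map_add' := Completion.coe_add
  map_smul' := fun c m => Completion.coe_smul c m

omit [IsUniformAddGroup M] [UniformContinuousConstSMul R M] [UniformSpace M] in
/-- the filtration -/
def F (k : ℕ) : Submodule R M := I ^ k • M'

/-- closures of the filtration in the completion -/
noncomputable def Fhat (k : ℕ) : Submodule R (Completion M) :=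
  ((F I M' k).map (cl (R := R) (M := M))).topologicalClosure

lemma Fhat_coe (k : ℕ) : (Fhat I M' k : Set (Completion M)) =
    closure (((↑) : M → Completion M) '' (F I M' k : Set M)) := rfl

lemma coe_mem_Fhat {k : ℕ} {m : M} (hm : m ∈ F I M' k) : (m : Completion M) ∈ Fhat I M' k :=
  Submodule.le_topologicalClosure _ ⟨m, hm, rfl⟩

lemma F_anti : Antitone (F I M') := by
  intro i j hij
  exact Submodule.smul_mono_left (Ideal.pow_le_pow_right hij)

lemma F_zero : F I M' 0 = M' := by
  simp [F]

lemma smul_F (n k : ℕ) : I ^ n • F I M' k = F I M' (n + k) := by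
  simp only [F]
  rw [← mul_smul, ← pow_add]

variable (hopen : ∀ n : ℕ, IsOpen ((I ^ n • M' : Submodule R M) : Set M))
  (hbasis : ∀ U ∈ nhds (0 : M), ∃ n : ℕ, ((I ^ n • M' : Submodule R M) : Set M) ⊆ U)

include hopen in
lemma Fhat_mem_nhds (k : ℕ) : (Fhat I M' k : Set (Completion M)) ∈ 𝓝 (0 : Completion M) := by
  rw [Fhat_coe]
  have := (Completion.isDenseInducing_coe (α := M)).closure_image_mem_nhds
    ((hopen k).mem_nhds (zero_mem (F I M' k)))
  rw [Completion.coe_zero] at this
  exact this

include hbasis in
lemma Fhat_basis (W : Set (Completion M)) (hW : W ∈ 𝓝 (0 : Completion M)) :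
    ∃ j, (Fhat I M' j : Set (Completion M)) ⊆ W := by
  obtain ⟨W₁, hW₁, hW₁c, hW₁sub⟩ := exists_mem_nhds_isClosed_subset hW
  have hpre : ((↑) : M → Completion M) ⁻¹' W₁ ∈ 𝓝 (0 : M) := by
    apply (Completion.continuous_coe M).continuousAt.preimage_mem_nhds
    rw [Completion.coe_zero]
    exact hW₁
  obtain ⟨j, hj⟩ := hbasis _ hpre
  refine ⟨j, subset_trans ?_ hW₁sub⟩
  rw [Fhat_coe]
  apply closure_minimal _ hW₁c
  rintro _ ⟨u, hu, rfl⟩
  exact hj hu

lemma smul_Fhat_le (n k : ℕ) : I ^ n • Fhat I M' k ≤ Fhat I M' (n + k) := by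
  rw [Submodule.smul_le]
  intro a ha x hx
  have hc : Continuous (fun z : Completion M => a • z) := continuous_const_smul a
  have := map_mem_closure hc (s := ((↑) : M → Completion M) '' (F I M' k : Set M))
    (t := ((↑) : M → Completion M) '' (F I M' (n + k) : Set M)) hx (by
      rintro _ ⟨m, hm, rfl⟩
      refine ⟨a • m, ?_, Completion.coe_smul a m⟩
      rw [← smul_F]
      exact Submodule.smul_mem_smul ha hm)
  exact this

section gens

variable {S : Type*} [Fintype S] (g : S → R)

omit [IsUniformAddGroup M] [UniformContinuousConstSMul R M] [UniformSpace M] in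
/-- `(m_i) ↦ Σ g_i m_i` -/
noncomputable def phi : (S → M) →ₗ[R] M :=
  ∑ i : S, (g i) • (LinearMap.proj i : (S → M) →ₗ[R] M)

omit [IsUniformAddGroup M] [UniformContinuousConstSMul R M] [UniformSpace M] in
lemma phi_apply (f : S → M) : phi (M := M) g f = ∑ i : S, g i • f i := by
  simp [phi]

omit [IsUniformAddGroup M] [UniformContinuousConstSMul R M] [UniformSpace M] in
lemma map_phi_pi (N : Submodule R M) :
    (Submodule.pi Set.univ (fun _ : S => N)).map (phi (M := M) g) = Ideal.span (Set.range g) • N := by
  classical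
  apply le_antisymm
  · rintro _ ⟨f, hf, rfl⟩
    rw [phi_apply]
    refine Submodule.sum_mem _ fun i _ => ?_
    exact Submodule.smul_mem_smul (Ideal.subset_span ⟨i, rfl⟩) (hf i (Set.mem_univ i))
  · rw [Submodule.smul_le]
    intro r hr m hm
    have : Ideal.span (Set.range g) ≤
        ((Submodule.pi Set.univ (fun _ : S => N)).map (phi (M := M) g)).comap
          (LinearMap.toSpanSingleton R M m) := by
      rw [Ideal.span_le]
      rintro _ ⟨i, rfl⟩
      refine ⟨Pi.single i m, ?_, ?_⟩
      · intro j _
        by_cases hji : j = i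
        · subst hji; simpa using hm
        · simp [Pi.single_eq_of_ne hji]
      · rw [phi_apply]
        simp [Pi.single_apply, Finset.sum_ite_eq']
    exact this hr

end gens

include hopen hbasis in
lemma Fhat_le_smul (hI : I.FG) (n : ℕ) : Fhat I M' n ≤ I ^ n • Fhat I M' 0 := by
  classical
  obtain ⟨T, hT⟩ := (hI.pow (n := n))
  let g : T → R := Subtype.val
  have hg : Ideal.span (Set.range g) = I ^ n := by
    rw [Subtype.range_coe]
    exact hT
  intro y hy
  let φ : (T → M) →+ M := (phi (M := M) g).toAddMonoidHom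
  let U : ℕ → AddSubgroup (T → M) := fun k =>
    (Submodule.pi Set.univ (fun _ : T => F I M' k)).toAddSubgroup
  have himg : ∀ k, φ '' (U k : Set (T → M)) = (F I M' (n + k) : Set M) := by
    intro k
    have := map_phi_pi (M := M) g (F I M' k)
    rw [hg, smul_F] at this
    exact congrArg (fun N : Submodule R M => (N : Set M)) this
  have hUanti : Antitone U := fun i j hij f hf => fun t ht => F_anti I M' hij (hf t ht)
  have hVo : ∀ j, IsOpen (φ '' (U j : Set (T → M))) := fun j => by
    rw [himg]
    exact hopen (n + j)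
  have hVhat : ∀ j, (Vhat φ U j : Set (Completion M)) = (Fhat I M' (n + j) : Set (Completion M)) := by
    intro j
    rw [Vhat_coe, himg, Fhat_coe]
  have hy' : y ∈ Vhat φ U 0 := by
    rw [← SetLike.mem_coe, hVhat 0]
    exact hy
  obtain ⟨s, hs0, hsdiff, hsy⟩ := approx φ U hUanti hVo 0 y hy'
  have hbasisM : (𝓝 (0 : M)).HasBasis (fun _ : ℕ => True) (fun j => (F I M' j : Set M)) := by
    refine ⟨fun W => ⟨fun hW => ?_, fun ⟨j, _, hj⟩ => ?_⟩⟩
    · obtain ⟨j, hj⟩ := hbasis W hW
      exact ⟨j, trivial, hj⟩
    · exact Filter.mem_of_superset ((hopen j).mem_nhds (zero_mem _)) hj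
  have hcauchy : ∀ t : T, CauchySeq (fun j => s j t) := by
    intro t
    rw [hbasisM.uniformity_of_nhds_zero.cauchySeq_iff]
    intro i _
    refine ⟨i, fun m hm k hk => ?_⟩
    show s k t - s m t ∈ F I M' i
    rcases le_total m k with hmk | hkm
    · have := hsdiff m k hmk t (Set.mem_univ t)
      exact F_anti I M' (by omega) this
    · have := hsdiff k m hkm t (Set.mem_univ t)
      have h2 : s k t - s m t = -((s m - s k) t) := by simp
      rw [h2]
      exact (F I M' i).neg_mem (F_anti I M' (by omega) this)
  have hcauchy' : ∀ t : T, CauchySeq (fun j => ((s j t : M) : Completion M)) := fun t =>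
    (hcauchy t).map (Completion.uniformContinuous_coe M)
  have hex : ∀ t : T, ∃ x, Tendsto (fun j => ((s j t : M) : Completion M)) atTop (𝓝 x) :=
    fun t => cauchySeq_tendsto_of_complete (hcauchy' t)
  choose x hx using hex
  have hxmem : ∀ t, x t ∈ Fhat I M' 0 := by
    intro t
    rw [← SetLike.mem_coe, Fhat_coe]
    refine mem_closure_of_tendsto (hx t) (Filter.Eventually.of_forall fun j => ?_)
    exact ⟨s j t, hs0 j t (Set.mem_univ t), rfl⟩
  have hsum : y = ∑ t : T, g t • x t := by
    have h1 : Tendsto (fun j => ∑ t : T, g t • ((s j t : M) : Completion M)) atTop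
        (𝓝 (∑ t : T, g t • x t)) :=
      tendsto_finsetSum _ fun t _ => (hx t).const_smul (g t)
    have heq : ∀ j, ∑ t : T, g t • ((s j t : M) : Completion M) =
        ((φ (s j) : M) : Completion M) := by
      intro j
      show _ = cl (R := R) (phi (M := M) g (s j))
      rw [phi_apply, map_sum]
      refine Finset.sum_congr rfl fun t _ => ?_
      rw [map_smul]
      rfl
    have h2 : Tendsto (fun j => ∑ t : T, g t • ((s j t : M) : Completion M)) atTop (𝓝 y) := by
      simp_rw [heq]
      rw [tendsto_def]
      intro W hW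
      have hW₀ : (fun z : Completion M => y - z) ⁻¹' W ∈ 𝓝 (0 : Completion M) := by
        have hc : Continuous (fun z : Completion M => y - z) := continuous_const.sub continuous_id
        apply hc.continuousAt.preimage_mem_nhds
        show W ∈ 𝓝 (y - 0)
        rw [sub_zero]
        exact hW
      obtain ⟨j₀, hj₀⟩ := Fhat_basis I M' hbasis _ hW₀
      rw [Filter.mem_atTop_sets]
      refine ⟨j₀, fun j hj => ?_⟩
      show ((φ (s j) : M) : Completion M) ∈ W
      have h3 : y - ((φ (s j) : M) : Completion M) ∈ Fhat I M' j₀ := by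
        have h4 := hsy j
        rw [← SetLike.mem_coe, hVhat] at h4
        have hle : Fhat I M' (n + (0 + j)) ≤ Fhat I M' j₀ := by
          apply Submodule.topologicalClosure_mono
          apply Submodule.map_mono
          exact F_anti I M' (by omega)
        exact hle h4
      have h5 := hj₀ h3
      simpa using h5
    exact tendsto_nhds_unique h2 h1
  rw [hsum]
  refine Submodule.sum_mem _ fun t _ => Submodule.smul_mem_smul ?_ (hxmem t)
  rw [← hT]
  exact Ideal.subset_span t.2

include hopen in
lemma exists_coe_sub_mem (k : ℕ) (x : Completion M) :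
    ∃ m : M, x - (m : Completion M) ∈ Fhat I M' k := by
  have hc : Continuous (fun z : Completion M => x - z) := continuous_const.sub continuous_id
  have hnx : (fun z : Completion M => x - z) ⁻¹' (Fhat I M' k : Set (Completion M)) ∈ 𝓝 x := by
    apply hc.continuousAt.preimage_mem_nhds
    show (Fhat I M' k : Set (Completion M)) ∈ 𝓝 (x - x)
    rw [sub_self]
    exact Fhat_mem_nhds I M' hopen k
  obtain ⟨m, hm⟩ := (Completion.denseRange_coe (α := M)).exists_mem_open
    (isOpen_interior) (⟨x, mem_interior_iff_mem_nhds.mpr hnx⟩ : (interior _).Nonempty)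
  exact ⟨m, interior_subset
    (s := (fun z : Completion M => x - z) ⁻¹' (Fhat I M' k : Set (Completion M))) hm⟩

include hopen in
lemma aux (n : ℕ) (z : Completion M) (hz : z ∈ (I ^ n • ⊤ : Submodule R (Completion M))) :
    ∃ m₁ ∈ (I ^ n • ⊤ : Submodule R M), z - (m₁ : Completion M) ∈ Fhat I M' n := by
  refine Submodule.smul_induction_on hz ?_ ?_
  · intro a ha x _
    obtain ⟨m₀, hm₀⟩ := exists_coe_sub_mem I M' hopen 0 x
    refine ⟨a • m₀, Submodule.smul_mem_smul ha Submodule.mem_top, ?_⟩
    have h1 : a • x - ((a • m₀ : M) : Completion M) = a • (x - (m₀ : Completion M)) := by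
      rw [Completion.coe_smul, smul_sub]
    rw [h1]
    have := smul_Fhat_le I M' n 0 (Submodule.smul_mem_smul ha hm₀)
    simpa using this
  · intro z₁ z₂ ih₁ ih₂
    obtain ⟨m₁, hm₁, h₁⟩ := ih₁
    obtain ⟨m₂, hm₂, h₂⟩ := ih₂
    refine ⟨m₁ + m₂, Submodule.add_mem _ hm₁ hm₂, ?_⟩
    have : z₁ + z₂ - ((m₁ + m₂ : M) : Completion M) =
        (z₁ - (m₁ : Completion M)) + (z₂ - (m₂ : Completion M)) := by
      rw [Completion.coe_add]
      abel
    rw [this]
    exact Submodule.add_mem _ h₁ h₂

end main

/-- Let R be a commutative ring, I a finitely generated ideal and M a topological R-module (additive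
uniform structure, each scalar acting uniformly continuously) having an open submodule M' whose
topology is the I-adic one, i.e. the I^n M' are open in M and form a fundamental system of
neighbourhoods of 0. Then the separated completion M^ has an open submodule whose topology is I-adic
in the same sense, and for every n ≥ 1 the map M → M^/I^n M^ is surjective with kernel I^n M,
identifying M^/I^n M^ with M/I^n M. -/
theorem result
    {R : Type u} [CommRing R] (I : Ideal R) (hI : I.FG)
    {M : Type v} [AddCommGroup M] [Module R M] [UniformSpace M] [IsUniformAddGroup M]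
    [UniformContinuousConstSMul R M]
    (M' : Submodule R M) (hopen : ∀ n : ℕ, IsOpen ((I ^ n • M' : Submodule R M) : Set M))
    (hbasis : ∀ U ∈ nhds (0 : M), ∃ n : ℕ, ((I ^ n • M' : Submodule R M) : Set M) ⊆ U) :
    (∃ M'' : Submodule R (UniformSpace.Completion M),
        (∀ n : ℕ, IsOpen ((I ^ n • M'' : Submodule R (UniformSpace.Completion M)) :
          Set (UniformSpace.Completion M))) ∧
        ∀ U ∈ nhds (0 : UniformSpace.Completion M), ∃ n : ℕ,
          ((I ^ n • M'' : Submodule R (UniformSpace.Completion M)) :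
            Set (UniformSpace.Completion M)) ⊆ U) ∧
      ∀ n : ℕ, 0 < n →
        Function.Surjective ((QuotientAddGroup.mk' (I ^ n • ⊤ : Submodule R (UniformSpace.Completion M)).toAddSubgroup).comp
          (UniformSpace.Completion.toCompl : M →+ UniformSpace.Completion M)) ∧
        ((QuotientAddGroup.mk' (I ^ n • ⊤ : Submodule R (UniformSpace.Completion M)).toAddSubgroup).comp
          (UniformSpace.Completion.toCompl : M →+ UniformSpace.Completion M)).ker = (I ^ n • ⊤ : Submodule R M).toAddSubgroup := by
  have hstar : ∀ n, I ^ n • Fhat I M' 0 = Fhat I M' n := fun n =>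
    le_antisymm (by simpa using smul_Fhat_le I M' n 0) (Fhat_le_smul I M' hopen hbasis hI n)
  have hle : ∀ n, Fhat I M' n ≤ (I ^ n • ⊤ : Submodule R (Completion M)) := fun n => by
    rw [← hstar]
    exact Submodule.smul_mono le_rfl le_top
  refine ⟨⟨Fhat I M' 0, ?_, ?_⟩, ?_⟩
  · intro n
    rw [hstar]
    exact (Fhat I M' n).toAddSubgroup.isOpen_of_mem_nhds (Fhat_mem_nhds I M' hopen n)
  · intro W hW
    obtain ⟨j, hj⟩ := Fhat_basis I M' hbasis W hW
    exact ⟨j, by rw [hstar]; exact hj⟩
  · intro n _
    constructor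
    · intro q
      obtain ⟨x, rfl⟩ := QuotientAddGroup.mk'_surjective _ q
      obtain ⟨m, hm⟩ := exists_coe_sub_mem I M' hopen n x
      refine ⟨m, ?_⟩
      rw [AddMonoidHom.comp_apply]
      apply (QuotientAddGroup.mk'_eq_mk' _).mpr
      refine ⟨x - (m : Completion M), hle n hm, ?_⟩
      show (m : Completion M) + (x - (m : Completion M)) = x
      abel
    · ext m
      rw [AddMonoidHom.mem_ker, AddMonoidHom.comp_apply, QuotientAddGroup.mk'_apply,
        QuotientAddGroup.eq_zero_iff]
      show ((m : Completion M)) ∈ (I ^ n • ⊤ : Submodule R (Completion M)) ↔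
        m ∈ (I ^ n • ⊤ : Submodule R M)
      constructor
      · intro hz
        obtain ⟨m₁, hm₁, h₁⟩ := aux I M' hopen n _ hz
        have h2 : ((m - m₁ : M) : Completion M) ∈ Fhat I M' n := by
          rw [Completion.coe_sub]
          exact h₁
        have h3 : m - m₁ ∈ closure (F I M' n : Set M) := by
          rw [(Completion.isDenseInducing_coe (α := M)).isInducing.closure_eq_preimage_closure_image]
          exact h2
        have hcl : IsClosed (F I M' n : Set M) :=
          (F I M' n).toAddSubgroup.isClosed_of_isOpen (hopen n)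
        rw [hcl.closure_eq] at h3
        have h4 : m - m₁ ∈ (I ^ n • ⊤ : Submodule R M) :=
          Submodule.smul_mono le_rfl le_top h3
        have : m = m₁ + (m - m₁) := by abel
        rw [this]
        exact Submodule.add_mem _ hm₁ h4
      · intro hm
        have h1 : cl (R := R) m ∈ (I ^ n • ⊤ : Submodule R M).map (cl (R := R) (M := M)) :=
          Submodule.mem_map_of_mem hm
        rw [Submodule.map_smul''] at h1
        exact Submodule.smul_mono le_rfl le_top h1

end Groth.Agent.S10173
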