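import Groth.Statements.S10181
import Groth.Agent.Lib.Helper14.AlgSpDiag2

set_option autoImplicit false
universe u
open CategoryTheory CategoryTheory.Limits AlgebraicGeometry Topology TopologicalSpace
open AlgSp

namespace Groth.Agent.S10181

open Groth.Agent.Lib.Helper14.AS

set_option backward.isDefEq.respectTransparency.types false in
theorem isSeparated_snd_of_isPullback {S : Scheme.{u}} {X : AlgSp.Sp S} {U T W : Over S}
    [U.left.IsSeparated] {a : (AlgSp.yon S).obj U ⟶ X} {g : (AlgSp.yon S).obj T ⟶ X}
    {fst : W ⟶ U} {snd : W ⟶ T}
    (sq : IsPullback ((AlgSp.yon S).map fst) ((AlgSp.yon S).map snd) a g) :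
    IsSeparated snd.left := by
  have hmono : Mono (prod.lift fst snd) := by
    constructor
    intro Z x y hxy
    apply (AlgSp.yon S).map_injective
    apply sq.hom_ext
    · rw [← Functor.map_comp, ← Functor.map_comp]
      congr 1
      have := congrArg (· ≫ prod.fst) hxy
      simpa only [Category.assoc, prod.lift_fst] using this
    · rw [← Functor.map_comp, ← Functor.map_comp]
      congr 1
      have := congrArg (· ≫ prod.snd) hxy
      simpa only [Category.assoc, prod.lift_snd] using this
  have hm2 : Mono (prod.lift fst snd).left := inferInstance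
  have e : (prod.snd : U ⨯ T ⟶ T).left =
      (Over.prodLeftIsoPullback U T).hom ≫ pullback.snd U.hom T.hom :=
    (Over.prodLeftIsoPullback_hom_snd U T).symm
  have h1 : IsSeparated (prod.snd : U ⨯ T ⟶ T).left := by
    rw [e]
    infer_instance
  have h2 : snd.left = (prod.lift fst snd).left ≫ (prod.snd : U ⨯ T ⟶ T).left := by
    rw [← Over.comp_left, prod.lift_snd]
  rw [h2]
  infer_instance

/-- Let X be an algebraic space over a scheme S and a : h_U ⟶ X a representable etale map from a scheme
U over S whose underlying scheme is separated. Then a is (representable and) separated, and the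
scheme R = U ×_X U representing the fibre product h_U ×_X h_U is separated. -/
theorem result {S : Scheme.{u}} (X : AlgSp.Space S) {U : Over S}
    (a : (AlgSp.yon S).obj U ⟶ X.obj) (ha : AlgSp.RepWith @Etale a) [U.left.IsSeparated] :
    AlgSp.RepWith @IsSeparated a ∧
      ∀ (R : Over S) (s t : R ⟶ U), IsPullback ((AlgSp.yon S).map t) ((AlgSp.yon S).map s) a a →
        R.left.IsSeparated := by
  have h1 : AlgSp.RepWith @IsSeparated a := by
    refine ⟨ha.rep, fun T W g fst snd sq => ?_⟩
    obtain ⟨fst', rfl⟩ := (AlgSp.yon S).map_surjective fst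
    exact isSeparated_snd_of_isPullback sq
  refine ⟨h1, fun R s t hR => ?_⟩
  have h2 : IsSeparated s.left := isSeparated_snd_of_isPullback hR
  have e : terminal.from R.left = s.left ≫ terminal.from U.left := Subsingleton.elim _ _
  refine ⟨?_⟩
  rw [e]
  infer_instance

end Groth.Agent.S10181
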