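import Groth.Statements.S10188
import Groth.Agent.Lib.Helper14.AlgSpPoints

set_option autoImplicit false
universe u
open CategoryTheory CategoryTheory.Limits AlgebraicGeometry Topology TopologicalSpace
open AlgSp

namespace Groth.Agent.S10188

open Groth.Agent.Lib.Helper14.AS

/-- For a property local in the etale topology, `P` passes to schemes etale over one with `P`. -/
theorem P_of_etale {P : Scheme.{u} → Prop}
    (hP : ∀ (V : Scheme.{u}) (𝒰 : Scheme.Cover.{u} (Scheme.precoverage @Etale) V), P V ↔ ∀ i, P (𝒰.X i))
    {W V : Scheme.{u}} (w : W ⟶ V) [Etale w] (hV : P V) : P W := by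
  let 𝒰 : Scheme.Cover.{u} (Scheme.precoverage @Etale) V :=
    (Scheme.coverOfIsIso.{u, u} (P := @Etale) (𝟙 V)).add w
  exact (hP V 𝒰).1 hV none

theorem P_of_etale_surjective {P : Scheme.{u} → Prop}
    (hP : ∀ (V : Scheme.{u}) (𝒰 : Scheme.Cover.{u} (Scheme.precoverage @Etale) V), P V ↔ ∀ i, P (𝒰.X i))
    {W V : Scheme.{u}} (w : W ⟶ V) [Etale w] [Surjective w] (hW : P W) : P V := by
  let 𝒰 : Scheme.Cover.{u} (Scheme.precoverage @Etale) V :=
    Scheme.Cover.mkOfCovers PUnit.{u + 1} (fun _ => W) (fun _ => w)
      (fun x => ⟨⟨⟩, w.surjective x⟩) (fun _ => inferInstance)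
  exact (hP V 𝒰).2 fun _ => hW

/-- Let P be a property of schemes that is local in the etale topology (for every scheme V and every
etale covering family of V, V has P if and only if all members have P), and let X be an algebraic
space over a scheme S. Then X has P etale locally (some surjective etale chart from a scheme with P)
if and only if every scheme admitting a representable etale map to X has P. -/
theorem result {S : Scheme.{u}} (P : Scheme.{u} → Prop)
    (hP : ∀ (V : Scheme.{u}) (𝒰 : Scheme.Cover.{u} (Scheme.precoverage @Etale) V), P V ↔ ∀ i, P (𝒰.X i))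
    (X : AlgSp.Space S) :
    AlgSp.EtaleLocally P X.obj ↔
      ∀ (U : Over S) (a : (AlgSp.yon S).obj U ⟶ X.obj), AlgSp.RepWith @Etale a → P U.left := by
  constructor
  · rintro ⟨U0, p0, h0e, h0s, hPU0⟩ U a ha
    have sq := h0e.rep.isPullback a
    have h1 : Etale (h0e.rep.snd a).left := h0e.property_snd a
    have h2 : Surjective (h0e.rep.snd a).left := h0s.property _ _ _ sq
    obtain ⟨w1, hw1⟩ := (AlgSp.yon S).map_surjective (h0e.rep.fst a)
    rw [← hw1] at sq
    have h3 : Etale w1.left := ha.property _ _ _ sq.flip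
    have hW : P (h0e.rep.pullback a).left := P_of_etale hP w1.left hPU0
    exact P_of_etale_surjective hP (h0e.rep.snd a).left hW
  · intro h
    obtain ⟨U, p, hpe, hps⟩ := X.property.atlas
    exact ⟨U, p, hpe, hps, h U p hpe⟩

end Groth.Agent.S10188
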