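import Groth.Statements.S10197
import Groth.Agent.Lib.Helper24.SchLocus

set_option autoImplicit false
universe u
open CategoryTheory CategoryTheory.Limits AlgebraicGeometry Topology TopologicalSpace
open AlgSp

namespace Groth.Agent.S10197

open CategoryTheory CategoryTheory.Limits AlgebraicGeometry Opposite AlgSp
open Groth.Agent.Lib.Helper14.AS Groth.Agent.Lib.Helper24.SchLocus Groth.Agent.Lib.Helper24.ZarGlue


/-- An algebraic space X over a scheme S has a largest open subspace which is a scheme: there is an open
subspace X' ⟶ X whose underlying sheaf is representable by a scheme over S, through which every open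
subspace of X with representable underlying sheaf factors. -/
theorem result {S : Scheme.{u}} (X : AlgSp.Space S) :
    ∃ (X' : AlgSp.Space S) (j : X' ⟶ X), AlgSp.RepWith @IsOpenImmersion j.hom ∧ X'.obj.obj.IsRepresentable ∧
      ∀ (X'' : AlgSp.Space S) (j'' : X'' ⟶ X), AlgSp.RepWith @IsOpenImmersion j''.hom →
        X''.obj.obj.IsRepresentable → ∃ k : X'' ⟶ X', k ≫ j = j'' := by
  obtain ⟨V, f, hfo, hfr⟩ := exists_largest_open_subscheme X.property
  refine ⟨(ofScheme S).obj V, ObjectProperty.homMk f, hfo,
    (representableByOfIso (Iso.refl _)).isRepresentable, ?_⟩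
  intro X'' j'' hj'' hrep
  obtain ⟨T, ⟨R⟩⟩ := hrep.has_representation
  let e : (yon S).obj T ≅ X''.obj := isoOfRepresentableBy R
  have hrange : Set.range (Points.map j''.hom) ⊆ Set.range (Points.map f) := by
    rw [Groth.Agent.Lib.Helper8.AlgSpPres.range_points_map_yon, hfr]
    rintro _ ⟨z, rfl⟩
    refine ⟨T, e.hom ≫ j''.hom, repWith_comp _ (repWith_of_isIso _ e.hom) hj'', ?_⟩
    rw [← Groth.Agent.Lib.Helper8.AlgSpPres.range_points_map_yon]
    refine ⟨Points.map e.inv z, ?_⟩
    rw [Points.map_comp, ← Points.map_comp e.inv, e.inv_hom_id, Points.map_id]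
  obtain ⟨k, hk⟩ := Groth.Agent.Lib.Helper8.AlgSpOpen.exists_factor_of_range_subset f hfo j''.hom hrange
  exact ⟨ObjectProperty.homMk k, by ext1; exact hk⟩

end Groth.Agent.S10197
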