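import Groth.Statements.S10214
import Mathlib
import Groth.Agent.Lib.Helper8.AlgSpPres

set_option autoImplicit false
universe u
open CategoryTheory CategoryTheory.Limits AlgebraicGeometry Topology TopologicalSpace
open AlgSp

namespace S10214aux
open Groth.Agent.Lib.Helper14.AS Groth.Agent.Lib.Helper8.AlgSpOpen Groth.Agent.Lib.Helper8.AlgSpOpenSub
  Groth.Agent.Lib.Helper8.AlgSpPres

variable {S : Scheme.{u}}

/-- small affine opens of `U`: affine and mapping into an affine open of `S`. -/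
def SmallAffine (U : Over S) : Type u :=
  {V : U.left.Opens // IsAffineOpen V ∧ ∃ W : S.Opens, IsAffineOpen W ∧ V ≤ U.hom ⁻¹ᵁ W}

theorem exists_smallAffine (U : Over S) (u : U.left) : ∃ V : SmallAffine U, u ∈ V.1 := by
  obtain ⟨_, ⟨W, hW, rfl⟩, huW, -⟩ :=
    S.isBasis_affineOpens.exists_subset_of_mem_open (Set.mem_univ (U.hom.base u)) isOpen_univ
  obtain ⟨_, ⟨V, hV, rfl⟩, huV, hVW⟩ :=
    U.left.isBasis_affineOpens.exists_subset_of_mem_open
      (show u ∈ ((U.hom ⁻¹ᵁ W : U.left.Opens) : Set U.left) from huW) (U.hom ⁻¹ᵁ W).isOpen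
  exact ⟨⟨V, hV, W, hW, hVW⟩, huV⟩

theorem main (X : AlgSp.Space S) :
    ∃ (ι : Type u) (Xi : ι → AlgSp.Space S) (j : ∀ i, Xi i ⟶ X),
      AlgSp.IsZarCover (fun i => (Xi i).obj) (fun i => (j i).hom) ∧
        ∀ i, ∃ (U : Over S) (p : (AlgSp.yon S).obj U ⟶ (Xi i).obj), IsAffine U.left ∧
          AlgSp.RepWith @Etale p ∧ AlgSp.RepWith @Surjective p ∧
          ∃ W : S.Opens, IsAffineOpen W ∧ ∀ v : ↥U.left, U.hom v ∈ W := by
  obtain ⟨U, p, hpe, hps⟩ := X.property.atlas
  have hopen : ∀ V : SmallAffine U, IsOpen (Points.ofPt p '' (V.1 : Set U.left)) := fun V =>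
    isOpenMap_ofPt p hpe _ V.1.isOpen
  refine ⟨SmallAffine U,
    fun V => ⟨subSp X.obj (Points.ofPt p '' (V.1 : Set U.left)),
      isAlgSpace_subSp X.obj _ (hopen V) X.property⟩,
    fun V => ObjectProperty.homMk (subSpι X.obj _), ⟨fun V => ?_, fun x => ?_⟩, fun V => ?_⟩
  · exact repWith_openImmersion_subSpι X.obj _ (hopen V)
  · obtain ⟨u, rfl⟩ := ofPt_surjective_of_repWith hps x
    obtain ⟨V, huV⟩ := exists_smallAffine U u
    refine ⟨V, ?_⟩
    change _ ∈ Set.range (Points.map (subSpι X.obj _))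
    rw [range_map_subSpι X.obj _ (hopen V)]
    exact ⟨u, huV, rfl⟩
  · obtain ⟨a', -, hae, has, -⟩ := exists_factor_presentation
      ((yon S).map (openSubι U V.1) ≫ p) (repWith_etale_restrict hpe V.1)
      (subSpι X.obj (Points.ofPt p '' (V.1 : Set U.left)))
      (repWith_openImmersion_subSpι X.obj _ (hopen V))
      (by rw [range_map_subSpι X.obj _ (hopen V), range_ofPt_restrict])
    obtain ⟨hVaff, W, hW, hVW⟩ := V.2
    refine ⟨openSub U V.1, a', hVaff, hae, has, W, hW, fun v => ?_⟩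
    exact hVW v.2

end S10214aux


namespace Groth.Agent.S10214

/-- Every algebraic space X over a scheme S has a Zariski covering by open subspaces X_i such that each
X_i has a surjective etale map from an affine scheme; moreover the affine schemes may be taken to
map into affine opens of S. -/
theorem result {S : Scheme.{u}} (X : AlgSp.Space S) :
    ∃ (ι : Type u) (Xi : ι → AlgSp.Space S) (j : ∀ i, Xi i ⟶ X),
      AlgSp.IsZarCover (fun i => (Xi i).obj) (fun i => (j i).hom) ∧
        ∀ i, ∃ (U : Over S) (p : (AlgSp.yon S).obj U ⟶ (Xi i).obj), IsAffine U.left ∧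
          AlgSp.RepWith @Etale p ∧ AlgSp.RepWith @Surjective p ∧
          ∃ W : S.Opens, IsAffineOpen W ∧ ∀ v : ↥U.left, U.hom v ∈ W := by
  exact S10214aux.main X

end Groth.Agent.S10214
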