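import Groth.Statements.S10198
import Groth.Agent.S10214
import Groth.Agent.Lib.Helper24.ZarQS
import Groth.Agent.Lib.Helper24.OpenSubSp

set_option autoImplicit false
universe u
open CategoryTheory CategoryTheory.Limits AlgebraicGeometry Topology TopologicalSpace
open AlgSp

namespace Groth.Agent.S10198

open CategoryTheory CategoryTheory.Limits AlgebraicGeometry Opposite AlgSp
open Groth.Agent.Lib.Helper14.AS Groth.Agent.Lib.Helper24.ZarQS Groth.Agent.Lib.Helper24.OpenSubSp

/-- (1) ⇒ (3) -/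
theorem exists_qc_charts_of_zarLocQS {S : Scheme.{u}} (X : AlgSp.Space S)
    (hX : ∃ (ι : Type u) (Xi : ι → AlgSp.Space S) (j : ∀ i, Xi i ⟶ X),
        AlgSp.IsZarCover (fun i => (Xi i).obj) (fun i => (j i).hom) ∧ ∀ i, AlgSp.IsQuasiSeparatedSp (Xi i).obj) :
    ∃ (ι : Type u) (Xi : ι → AlgSp.Space S) (j : ∀ i, Xi i ⟶ X),
        AlgSp.IsZarCover (fun i => (Xi i).obj) (fun i => (j i).hom) ∧
          ∀ i, ∃ (U : Over S) (p : (AlgSp.yon S).obj U ⟶ (Xi i).obj), IsAffine U.left ∧
            AlgSp.RepWith @QuasiCompact p ∧ AlgSp.RepWith @Etale p ∧ AlgSp.RepWith @Surjective p := by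
  obtain ⟨ι, Xi, j, ⟨hjo, hjs⟩, hqs⟩ := hX
  choose κ Xik jk hcov hchart using fun i => Groth.Agent.S10214.result (Xi i)
  refine ⟨Σ i, κ i, fun ik => Xik ik.1 ik.2, fun ik => jk ik.1 ik.2 ≫ j ik.1, ⟨?_, ?_⟩, ?_⟩
  · intro ik
    exact repWith_comp _ ((hcov ik.1).1 ik.2) (hjo ik.1)
  · intro x
    obtain ⟨i, xi, rfl⟩ := hjs x
    obtain ⟨k, xik, rfl⟩ := (hcov i).2 xi
    exact ⟨⟨i, k⟩, xik, Points.map_comp _ _ _⟩
  · intro ik
    obtain ⟨U, p, hU, hpe, hps, W, hW, hUW⟩ := hchart ik.1 ik.2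
    have hm : Mono (jk ik.1 ik.2).hom := mono_of_openImmersion ((hcov ik.1).1 ik.2)
    have hq : IsQuasiSeparatedSp (Xik ik.1 ik.2).obj :=
      isQuasiSeparatedSp_of_mono (jk ik.1 ik.2).hom (hqs ik.1)
    exact ⟨U, p, hU, repWith_quasiCompact_of_affine_over_affine hq p hps W hW hUW, hpe, hps⟩


/-- (1) if and only if (3): for an algebraic space X over a scheme S, X is Zariski locally
quasi-separated over S (it has a Zariski covering by open subspaces whose diagonals over S are
quasi-compact) if and only if X has a Zariski covering by open subspaces each of which admits a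
quasi-compact, etale, surjective map from an affine scheme. Since the second condition does not
mention S, being Zariski locally quasi-separated does not depend on the base. -/
theorem result {S : Scheme.{u}} (X : AlgSp.Space S) :
    (∃ (ι : Type u) (Xi : ι → AlgSp.Space S) (j : ∀ i, Xi i ⟶ X),
        AlgSp.IsZarCover (fun i => (Xi i).obj) (fun i => (j i).hom) ∧ ∀ i, AlgSp.IsQuasiSeparatedSp (Xi i).obj) ↔
      (∃ (ι : Type u) (Xi : ι → AlgSp.Space S) (j : ∀ i, Xi i ⟶ X),
        AlgSp.IsZarCover (fun i => (Xi i).obj) (fun i => (j i).hom) ∧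
          ∀ i, ∃ (U : Over S) (p : (AlgSp.yon S).obj U ⟶ (Xi i).obj), IsAffine U.left ∧
            AlgSp.RepWith @QuasiCompact p ∧ AlgSp.RepWith @Etale p ∧ AlgSp.RepWith @Surjective p) := by
  constructor
  · exact exists_qc_charts_of_zarLocQS X
  · rintro ⟨ι, Xi, j, hcov, hchart⟩
    refine ⟨ι, Xi, j, hcov, fun i => ?_⟩
    obtain ⟨U, p, hU, hpq, hpe, hps⟩ := hchart i
    exact isQuasiSeparatedSp_of_qc_surjective_affine_chart (Xi i).property p hpq hps

end Groth.Agent.S10198
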