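import Groth.Statements.S10204
import Groth.Agent.S10337
import Groth.Agent.Lib.Helper24.CodimZero
import Groth.Agent.Lib.Helper14.AlgSpQcEtDesc
import Groth.Agent.Lib.Helper14.AlgSpDecent2
import Groth.Agent.Lib.Helper14.AlgSpQCMor
import Groth.Agent.Lib.Helper14.FpqcBase4

set_option autoImplicit false
universe u
open CategoryTheory CategoryTheory.Limits AlgebraicGeometry Topology TopologicalSpace
open AlgSp

namespace Groth.Agent.S10204

open CategoryTheory CategoryTheory.Limits AlgebraicGeometry Opposite AlgSp
open Groth.Agent.Lib.Helper14.AS Groth.Agent.Lib.Helper24.SchLocus Groth.Agent.Lib.Helper24.ZarGlue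
open Groth.Agent.Lib.Helper24.CodimZero Groth.Agent.Lib.Helper24.DecentDim

theorem isFinite_le_quasiCompact :
    (@IsFinite : MorphismProperty Scheme.{u}) ≤ @QuasiCompact :=
  fun _ _ _ h => by have := h; infer_instance

/-- the largest open subscheme of a decent space is dense -/
theorem dense_schLocus {S : Scheme.{u}} (X : AlgSp.Space S) (hX : IsDecent X.obj) :
    Dense (SchLocus X.obj) := by
  obtain ⟨X', j, hjo, hjrep, hjd⟩ := Groth.Agent.S10337.result X hX
  refine hjd.mono ?_
  obtain ⟨T, ⟨R⟩⟩ := hjrep.has_representation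
  let e : (yon S).obj T ≅ X'.obj := isoOfRepresentableBy R
  rintro _ ⟨z, rfl⟩
  refine ⟨T, e.hom ≫ j.hom, repWith_comp _ (repWith_of_isIso _ e.hom) hjo, ?_⟩
  rw [← Groth.Agent.Lib.Helper8.AlgSpPres.range_points_map_yon]
  refine ⟨Points.map e.inv z, ?_⟩
  rw [Points.map_comp, ← Points.map_comp e.inv, e.inv_hom_id, Points.map_id]

set_option backward.isDefEq.respectTransparency.types false in

/-- Let X be an algebraic space over a scheme S that admits a map h_U ⟶ X from a quasi-separated scheme
U which is representable finite, etale and surjective. Then X contains an open subspace X' ⟶ X that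
is a scheme (its underlying sheaf is representable), whose points form a dense subset of |X| that
includes every codimension 0 point of X (every point x of |X| such that some etale chart h_V ⟶ X and
some point v of V over x have a zero-dimensional local ring O_{V,v}). -/
theorem result {S : Scheme.{u}} (X : AlgSp.Space S) {U : Over S}
    (a : (AlgSp.yon S).obj U ⟶ X.obj) (hf : AlgSp.RepWith @IsFinite a) (he : AlgSp.RepWith @Etale a)
    (hs : AlgSp.RepWith @Surjective a) [QuasiSeparatedSpace ↥U.left] :
    ∃ (X' : AlgSp.Space S) (j : X' ⟶ X), AlgSp.RepWith @IsOpenImmersion j.hom ∧ X'.obj.obj.IsRepresentable ∧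
      Dense (Set.range (AlgSp.Points.map j.hom)) ∧
      ∀ x : AlgSp.Points X.obj, AlgSp.HasAt (fun U u => ringKrullDim ↥(U.presheaf.stalk u) = 0) X.obj x →
        x ∈ Set.range (AlgSp.Points.map j.hom) := by
  have hqa : RepWith @QuasiCompact a := repWith_mono isFinite_le_quasiCompact hf
  have hq : IsQuasiCompactMor a := (repWith_quasiCompact_iff_isQuasiCompactMor he.rep).1 hqa
  have hX : IsDecent X.obj :=
    isDecent_of_qc_etale_surjective (IsAlgSpace.yon_obj U) X.property a hq
      (isEtaleMor_of_repWith_etale he) (points_map_surjective_of_repWith hs) (isDecent_yon U)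
  obtain ⟨V, f, hfo, hfr⟩ := exists_largest_open_subscheme X.property
  have hrange : Set.range (Points.map f) = SchLocus X.obj := by
    rw [Groth.Agent.Lib.Helper8.AlgSpPres.range_points_map_yon, hfr]
  refine ⟨(ofScheme S).obj V, ObjectProperty.homMk f, hfo,
    (representableByOfIso (Iso.refl _)).isRepresentable, ?_, ?_⟩
  · change Dense (Set.range (Points.map f))
    rw [hrange]
    exact dense_schLocus X hX
  · intro x hx
    change x ∈ Set.range (Points.map f)
    rw [hrange]
    obtain ⟨u, rfl⟩ := ofPt_surjective_of_repWith hs x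
    obtain ⟨V', b, v, hbe, hbv, hdim⟩ := hx
    change ringKrullDim ↥(V'.left.presheaf.stalk v) = 0 at hdim
    obtain ⟨B, hB, huB, -⟩ := exists_isAffineOpen_mem_and_subset (x := u) (U := ⊤) trivial
    have hBaff : IsAffine (resOpen U B).left := hB
    have hBaff' : IsAffine B.toScheme := hB
    have hae' : RepWith @Etale ((yon S).map (resOpenι U B) ≫ a) :=
      repWith_comp _ ((repWith_yon_map_iff _ _).2 (inferInstanceAs (Etale B.ι))) he
    have hqc' : RepWith @QuasiCompact ((yon S).map (resOpenι U B) ≫ a) :=
      repWith_comp _ ((repWith_yon_map_iff _ _).2 (inferInstanceAs (QuasiCompact B.ι))) hqa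
    have hux : Points.ofPt ((yon S).map (resOpenι U B) ≫ a) (⟨u, huB⟩ : ↥B) = Points.ofPt a u := by
      rw [ofPt_yon_map_comp]
      rfl
    have h1 := ringKrullDim_stalk_eq X hX b hbe v
    have h2 := ringKrullDim_stalk_eq X hX _ hae' (⟨u, huB⟩ : ↥B)
    have hdim' : ringKrullDim ↥((resOpen U B).left.presheaf.stalk (⟨u, huB⟩ : ↥B)) = 0 := by
      rw [h2, hux, ← hbv, ← h1]
      exact hdim
    have := mem_schLocus_of_dim_zero X hX _ hae' hqc' (⟨u, huB⟩ : ↥B) hdim'
    rwa [hux] at this

end Groth.Agent.S10204
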