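import Groth.Statements.S10200
import Groth.Agent.S10198
import Groth.Agent.S10204
import Groth.Agent.Lib.Helper14.AlgSpQSDecent

set_option autoImplicit false
universe u
open CategoryTheory CategoryTheory.Limits AlgebraicGeometry Topology TopologicalSpace
open AlgSp

namespace Groth.Agent.S10200

open CategoryTheory CategoryTheory.Limits AlgebraicGeometry Opposite AlgSp
open Groth.Agent.Lib.Helper14.AS Groth.Agent.Lib.Helper24.SchLocus Groth.Agent.Lib.Helper24.ZarGlue
open Groth.Agent.Lib.Helper24.CodimZero Groth.Agent.Lib.Helper24.DecentDim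

theorem isDecent_of_zarLocQS {S : Scheme.{u}} (X : AlgSp.Space S)
    (hX : ∃ (ι : Type u) (Xi : ι → AlgSp.Space S) (j : ∀ i, Xi i ⟶ X),
        AlgSp.IsZarCover (fun i => (Xi i).obj) (fun i => (j i).hom) ∧ ∀ i, AlgSp.IsQuasiSeparatedSp (Xi i).obj) :
    IsDecent X.obj := by
  obtain ⟨ι, Xi, j, hj, hqs⟩ := hX
  exact isDecent_of_isZarCover X.property (fun i => (Xi i).obj) (fun i => (Xi i).property)
    (fun i => (j i).hom) hj (fun i => isDecent_of_isQuasiSeparatedSp (Xi i).property (hqs i))

set_option backward.isDefEq.respectTransparency.types false in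

/-- Let X be an algebraic space over a scheme S that is Zariski locally quasi-separated over S (for
example quasi-separated over S). Then there is a dense open subspace of X which is a scheme; more
precisely there is an open subspace X' ⟶ X with representable underlying sheaf such that |X'| is
dense in |X| and contains every codimension 0 point of X (every point under which some etale chart
has a zero-dimensional local ring). -/
theorem result {S : Scheme.{u}} (X : AlgSp.Space S)
    (hX : ∃ (ι : Type u) (Xi : ι → AlgSp.Space S) (j : ∀ i, Xi i ⟶ X),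
        AlgSp.IsZarCover (fun i => (Xi i).obj) (fun i => (j i).hom) ∧ ∀ i, AlgSp.IsQuasiSeparatedSp (Xi i).obj) :
    ∃ (X' : AlgSp.Space S) (j : X' ⟶ X), AlgSp.RepWith @IsOpenImmersion j.hom ∧ X'.obj.obj.IsRepresentable ∧
      Dense (Set.range (AlgSp.Points.map j.hom)) ∧
      ∀ x : AlgSp.Points X.obj, AlgSp.HasAt (fun U u => ringKrullDim ↥(U.presheaf.stalk u) = 0) X.obj x →
        x ∈ Set.range (AlgSp.Points.map j.hom) := by
  have hXd : IsDecent X.obj := isDecent_of_zarLocQS X hX
  obtain ⟨ι, Xi, j, ⟨hjo, hjs⟩, hchart⟩ := Groth.Agent.S10198.exists_qc_charts_of_zarLocQS X hX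
  obtain ⟨V, f, hfo, hfr⟩ := exists_largest_open_subscheme X.property
  have hrange : Set.range (Points.map f) = SchLocus X.obj := by
    rw [Groth.Agent.Lib.Helper8.AlgSpPres.range_points_map_yon, hfr]
  refine ⟨(ofScheme S).obj V, ObjectProperty.homMk f, hfo,
    (representableByOfIso (Iso.refl _)).isRepresentable, ?_, ?_⟩
  · change Dense (Set.range (Points.map f))
    rw [hrange]
    exact Groth.Agent.S10204.dense_schLocus X hXd
  · intro x hx
    change x ∈ Set.range (Points.map f)
    rw [hrange]
    obtain ⟨i, xi, rfl⟩ := hjs x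
    obtain ⟨U, p, hU, hpq, hpe, hps⟩ := hchart i
    obtain ⟨u, rfl⟩ := ofPt_surjective_of_repWith hps xi
    have hjee : RepWith @Etale (j i).hom := repWith_mono isOpenImmersion_le_etale' (hjo i)
    have hje : IsEtaleMor (j i).hom := isEtaleMor_of_repWith_etale hjee
    have hXid : IsDecent (Xi i).obj :=
      isDecent_of_isEtaleMor (Xi i).property X.property (j i).hom hje hXd
    obtain ⟨V', b, v, hbe, hbv, hdim⟩ := hx
    change ringKrullDim ↥(V'.left.presheaf.stalk v) = 0 at hdim
    have h1 := ringKrullDim_stalk_eq X hXd b hbe v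
    have h2 := ringKrullDim_stalk_eq X hXd (p ≫ (j i).hom) (repWith_comp _ hpe hjee) u
    have hdim' : ringKrullDim ↥(U.left.presheaf.stalk u) = 0 := by
      rw [h2, ← Points.map_ofPt, ← hbv, ← h1]
      exact hdim
    obtain ⟨M, g, hgo, ⟨m, hm⟩⟩ := mem_schLocus_of_dim_zero (Xi i) hXid p hpe hpq u hdim'
    exact ⟨M, g ≫ (j i).hom, repWith_comp _ hgo (hjo i), ⟨m, by rw [← Points.map_ofPt, hm]⟩⟩

end Groth.Agent.S10200
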