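import Groth.Statements.S10201
import Groth.Agent.S10338
import Groth.Agent.S10339
import Groth.Agent.Lib.Helper14.AlgSpQSDecent
import Groth.Agent.Lib.Helper14.AlgSpProdQC
import Groth.Agent.Lib.Helper14.AlgSpQC
import Groth.Agent.Lib.Helper14.SchImg1
import Groth.Agent.Lib.Helper24.ZarGlue

set_option autoImplicit false
universe u
open CategoryTheory CategoryTheory.Limits AlgebraicGeometry Topology TopologicalSpace
open AlgSp

namespace Groth.Agent.S10201

open CategoryTheory CategoryTheory.Limits AlgebraicGeometry Opposite AlgSp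
open Groth.Agent.Lib.Helper14.AS Groth.Agent.Lib.Helper24.ZarGlue

set_option backward.isDefEq.respectTransparency.types false in
theorem spectral_aux {S : Scheme.{u}} [QuasiSeparatedSpace ↥S]
    (X : AlgSp.Space S) (hqc : AlgSp.IsQuasiCompactSp X.obj) (hqs : AlgSp.IsQuasiSeparatedSp X.obj) :
    SpectralSpace (AlgSp.Points X.obj) := by
  have hX := X.property
  have hdec : IsDecent X.obj := isDecent_of_isQuasiSeparatedSp hX hqs
  haveI hT0 : T0Space (Points X.obj) := Groth.Agent.S10338.result X hdec
  haveI hSob : QuasiSober (Points X.obj) := Groth.Agent.S10339.result X hdec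
  haveI hC : CompactSpace (Points X.obj) := (isQuasiCompactSp_iff_compactSpace hX).1 hqc
  obtain ⟨U, a, hUaff, hae, has⟩ := isQuasiCompactSp_iff_exists_affine_chart.1 hqc
  have hcont := Points.continuous_ofPt a
  have hopen := isOpenMap_ofPt a hae
  have hsurj := ofPt_surjective_of_repWith has
  haveI hPre : PrespectralSpace (Points X.obj) := ⟨by
    refine TopologicalSpace.isTopologicalBasis_of_isOpen_of_nhds (fun V hV => hV.1) ?_
    intro x O hxO hO
    obtain ⟨u, rfl⟩ := hsurj x
    obtain ⟨W, ⟨hWo, hWc⟩, huW, hWO⟩ :=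
      (PrespectralSpace.isTopologicalBasis (X := ↥U.left)).exists_subset_of_mem_open
        (show u ∈ Points.ofPt a ⁻¹' O from hxO) (hO.preimage hcont)
    exact ⟨Points.ofPt a '' W, ⟨hopen W hWo, hWc.image hcont⟩, ⟨u, huW, rfl⟩, by
      rintro _ ⟨w, hw, rfl⟩; exact hWO hw⟩⟩
  haveI : QuasiSeparatedSpace (Points X.obj) := ⟨by
    intro O₁ O₂ hO₁ hC₁ hO₂ hC₂
    have hr : ∀ O : Set (Points X.obj), O ⊆ Set.range (Points.ofPt a) := fun O x _ => hsurj x
    obtain ⟨W₁, hW₁c, hW₁⟩ :=
      hopen.exists_opens_image_eq_of_prespectralSpace hcont (hr O₁) hO₁ hC₁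
    obtain ⟨W₂, hW₂c, hW₂⟩ :=
      hopen.exists_opens_image_eq_of_prespectralSpace hcont (hr O₂) hO₂ hC₂
    have hc₁ : CompactSpace ↥(resOpen U W₁).left := isCompact_iff_compactSpace.1 hW₁c
    have hc₂ : CompactSpace ↥(resOpen U W₂).left := isCompact_iff_compactSpace.1 hW₂c
    have sq := IsPullback.of_hasPullback ((yon S).map (resOpenι U W₁) ≫ a)
      ((yon S).map (resOpenι U W₂) ≫ a)
    have hPalg : IsAlgSpace (pullback ((yon S).map (resOpenι U W₁) ≫ a)
        ((yon S).map (resOpenι U W₂) ≫ a)) :=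
      isAlgSpace_of_isPullback (repDiag_of_isAlgSpace hX) (IsAlgSpace.yon_obj _)
        (IsAlgSpace.yon_obj _) sq
    have hP : IsQuasiCompactSp (pullback ((yon S).map (resOpenι U W₁) ≫ a)
        ((yon S).map (resOpenι U W₂) ≫ a)) :=
      isQuasiCompactSp_of_isPullback (IsAlgSpace.yon_obj _) (isQuasiCompactSp_yon _)
        (IsAlgSpace.yon_obj _) (isQuasiCompactSp_yon _) hqs sq
    haveI : CompactSpace (Points (pullback ((yon S).map (resOpenι U W₁) ≫ a)
        ((yon S).map (resOpenι U W₂) ≫ a))) := (isQuasiCompactSp_iff_compactSpace hPalg).1 hP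
    have hofpt₁ : ∀ w : (resOpen U W₁).left,
        Points.ofPt ((yon S).map (resOpenι U W₁) ≫ a) w =
          Points.ofPt a ((resOpenι U W₁).left w) :=
      fun w => ofPt_yon_map_comp _ _ _
    have hofpt₂ : ∀ w : (resOpen U W₂).left,
        Points.ofPt ((yon S).map (resOpenι U W₂) ≫ a) w =
          Points.ofPt a ((resOpenι U W₂).left w) :=
      fun w => ofPt_yon_map_comp _ _ _
    have hmem₁ : ∀ w : (resOpen U W₁).left, (resOpenι U W₁).left w ∈ (W₁ : Set ↥U.left) :=
      fun w => (w : ↥W₁).2
    have hmem₂ : ∀ w : (resOpen U W₂).left, (resOpenι U W₂).left w ∈ (W₂ : Set ↥U.left) :=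
      fun w => (w : ↥W₂).2
    have himg : O₁ ∩ O₂ = Set.range (Points.map (pullback.fst ((yon S).map (resOpenι U W₁) ≫ a)
        ((yon S).map (resOpenι U W₂) ≫ a) ≫ ((yon S).map (resOpenι U W₁) ≫ a))) := by
      apply Set.Subset.antisymm
      · rintro x ⟨hx₁, hx₂⟩
        rw [← hW₁] at hx₁
        rw [← hW₂] at hx₂
        obtain ⟨w₁, hw₁, rfl⟩ := hx₁
        obtain ⟨w₂, hw₂, hw₂e⟩ := hx₂
        obtain ⟨z, hz₁, -⟩ := points_exists_of_isPullback sq
          (Points.ofScheme (resOpen U W₁) (⟨w₁, hw₁⟩ : ↥W₁))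
          (Points.ofScheme (resOpen U W₂) (⟨w₂, hw₂⟩ : ↥W₂)) (by
            rw [← Points.ofPt_eq_map_ofScheme, ← Points.ofPt_eq_map_ofScheme, hofpt₁, hofpt₂]
            exact hw₂e.symm)
        refine ⟨z, ?_⟩
        rw [Points.map_comp, hz₁, ← Points.ofPt_eq_map_ofScheme, hofpt₁]
        rfl
      · rintro _ ⟨z, rfl⟩
        constructor
        · rw [Points.map_comp]
          obtain ⟨w, hw⟩ := (Points.schemeHomeo (resOpen U W₁)).surjective
            (Points.map (pullback.fst _ _) z)
          rw [← hw, ← hW₁]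
          refine ⟨(resOpenι U W₁).left w, hmem₁ w, ?_⟩
          rw [← hofpt₁, Points.ofPt_eq_map_ofScheme]
          rfl
        · rw [sq.w, Points.map_comp]
          obtain ⟨w, hw⟩ := (Points.schemeHomeo (resOpen U W₂)).surjective
            (Points.map (pullback.snd _ _) z)
          rw [← hw, ← hW₂]
          refine ⟨(resOpenι U W₂).left w, hmem₂ w, ?_⟩
          rw [← hofpt₂, Points.ofPt_eq_map_ofScheme]
          rfl
    rw [himg]
    exact isCompact_range (Points.continuous_map _)⟩
  exact {}


/-- Let S be a quasi-separated scheme and X a quasi-compact algebraic space over S whose diagonal over S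
is quasi-compact. Then |X| is a spectral space. (The published statement assumes X quasi-separated
in the absolute sense; over a quasi-separated base that is the same as quasi-separated over S, while
for S quasi-compact and not quasi-separated the space h_S is quasi-compact with quasi-compact
diagonal over S and |h_S| = |S| is not spectral.) -/
theorem result {S : Scheme.{u}} [QuasiSeparatedSpace ↥S]
    (X : AlgSp.Space S) (hqc : AlgSp.IsQuasiCompactSp X.obj) (hqs : AlgSp.IsQuasiSeparatedSp X.obj) :
    SpectralSpace (AlgSp.Points X.obj) := by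
  exact spectral_aux X hqc hqs

end Groth.Agent.S10201
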