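import Groth.Statements.S10202
import Mathlib
import Groth.Agent.Lib.Helper14.AlgSpQC

set_option autoImplicit false
universe u
open CategoryTheory CategoryTheory.Limits AlgebraicGeometry Topology TopologicalSpace
open AlgSp

namespace S10202aux
open Groth.Agent.Lib.Helper14.AS

/-- the image of a Noetherian subspace under a continuous map is Noetherian (as a subspace). -/
theorem noetherianSpace_image {α β : Type*} [TopologicalSpace α] [TopologicalSpace β]
    (f : α → β) (hf : Continuous f) (V : Set α) (hV : NoetherianSpace V) :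
    NoetherianSpace (f '' V) := by
  let g : V → f '' V := fun v => ⟨f v, v, v.2, rfl⟩
  have hg : Continuous g := (hf.comp continuous_subtype_val).subtype_mk _
  have hgs : Function.Surjective g := by
    rintro ⟨_, v, hv, rfl⟩
    exact ⟨⟨v, hv⟩, rfl⟩
  exact noetherianSpace_of_surjective g hg hgs

theorem main {S : Scheme.{u}} (X : AlgSp.Space S)
    (hX : AlgSp.IsLocNoethSp X.obj) (x : AlgSp.Points X.obj) :
    ∃ W : Set (AlgSp.Points X.obj), IsOpen W ∧ x ∈ W ∧ NoetherianSpace ↥W := by
  obtain ⟨U, p, hpe, hps, hU⟩ := hX
  obtain ⟨u, rfl⟩ := ofPt_surjective_of_repWith hps x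
  have : IsLocallyNoetherian U.left := hU
  obtain ⟨_, ⟨V, hV, rfl⟩, huV, -⟩ :=
    U.left.isBasis_affineOpens.exists_subset_of_mem_open (Set.mem_univ u) isOpen_univ
  refine ⟨Points.ofPt p '' (V : Set U.left), isOpenMap_ofPt p hpe _ V.isOpen, ⟨u, huV, rfl⟩, ?_⟩
  apply noetherianSpace_image _ (Points.continuous_ofPt p)
  have : IsNoetherianRing Γ(U.left, V) := IsLocallyNoetherian.component_noetherian ⟨V, hV⟩
  have h1 : NoetherianSpace (Spec Γ(U.left, V)) := inferInstance
  exact (noetherianSpace_iff_of_homeomorph (hV.isoSpec.hom.homeomorph)).mpr h1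

end S10202aux


namespace Groth.Agent.S10202

/-- If X is a locally Noetherian algebraic space over a scheme S, then the space |X| is locally
Noetherian: every point of |X| has an open neighbourhood which is a Noetherian topological space in
the induced topology. -/
theorem result {S : Scheme.{u}} (X : AlgSp.Space S)
    (hX : AlgSp.IsLocNoethSp X.obj) (x : AlgSp.Points X.obj) :
    ∃ W : Set (AlgSp.Points X.obj), IsOpen W ∧ x ∈ W ∧ NoetherianSpace ↥W := by
  exact S10202aux.main X hX x

end Groth.Agent.S10202
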