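import Groth.Statements.S10203
import Mathlib
import Groth.Agent.Lib.Helper14.AlgSpQC
import Groth.Agent.S10202

set_option autoImplicit false
universe u
open CategoryTheory CategoryTheory.Limits AlgebraicGeometry Topology TopologicalSpace
open AlgSp

namespace S10203aux
open Groth.Agent.Lib.Helper14.AS

theorem main {S : Scheme.{u}} (X : AlgSp.Space S)
    (hqc : AlgSp.IsQuasiCompactSp X.obj) (hX : AlgSp.IsLocNoethSp X.obj) :
    NoetherianSpace (AlgSp.Points X.obj) := by
  have hc : CompactSpace (Points X.obj) := (isQuasiCompactSp_iff_compactSpace X.property).mp hqc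
  choose W hWo hxW hWN using fun x => S10202aux.main X hX x
  obtain ⟨t, ht⟩ := isCompact_univ.elim_finite_subcover W hWo
    (fun x _ => Set.mem_iUnion.mpr ⟨x, hxW x⟩)
  rw [← noetherian_univ_iff]
  have h1 : NoetherianSpace (⋃ x : t, W x) := NoetherianSpace.iUnion (fun x : t => W x)
  have h2 : (Set.univ : Set (Points X.obj)) ⊆ ⋃ x : t, W x := by
    intro y hy
    obtain ⟨x, hx⟩ := Set.mem_iUnion.mp (ht hy)
    obtain ⟨hxt, hyx⟩ := Set.mem_iUnion.mp hx
    exact Set.mem_iUnion.mpr ⟨⟨x, hxt⟩, hyx⟩
  exact NoetherianSpace.of_subset h2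

end S10203aux


namespace Groth.Agent.S10203

/-- If X is a quasi-compact, locally Noetherian algebraic space over a scheme S, then |X| is a
Noetherian topological space. -/
theorem result {S : Scheme.{u}} (X : AlgSp.Space S)
    (hqc : AlgSp.IsQuasiCompactSp X.obj) (hX : AlgSp.IsLocNoethSp X.obj) :
    NoetherianSpace (AlgSp.Points X.obj) := by
  exact S10203aux.main X hqc hX

end Groth.Agent.S10203
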