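import Groth.Statements.S10206
import Groth.Agent.Lib.Helper14.AlgSpYonSigma

set_option autoImplicit false
universe u
open CategoryTheory CategoryTheory.Limits AlgebraicGeometry Topology TopologicalSpace
open AlgSp

namespace Groth.Agent.S10206

open AlgSp Groth.Agent.Lib.Helper14.AS in

/-- Let X be an algebraic space over a scheme S and X ⟶ h_{Spec k} an etale morphism of algebraic spaces
over S, where k is a field and Spec k is given a structure morphism to S. Then X is a scheme (its
underlying sheaf is representable by a scheme over S). -/
theorem result {S : Scheme.{u}} (X : AlgSp.Space S)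
    (k : Type u) [Field k] (str : Spec (CommRingCat.of k) ⟶ S)
    (f : X.obj ⟶ (AlgSp.yon S).obj (Over.mk str)) (hf : AlgSp.IsEtaleMor f) :
    X.obj.obj.IsRepresentable := by
  obtain ⟨U, a, hae, has⟩ := X.property.atlas
  have hg := hf a hae
  obtain ⟨g, hg'⟩ := (yon S).map_surjective (a ≫ f)
  rw [← hg'] at hg
  have hget : Etale g.left := (repWith_yon_map_iff _ _).1 hg
  have hlqf : LocallyQuasiFinite g.left := etale_locallyQuasiFinite _
  have hdisc : DiscreteTopology ↥U.left := discreteTopology_of_lqf_field (K := k) g.left
  have hU : ∀ u : ↥U.left, IsField (U.left.presheaf.stalk u) := fun u =>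
    isField_stalk_of_unramified g.left u (isField_stalk_Spec_field k _)
  have hdec : IsDecent X.obj :=
    isDecent_of_isEtaleMor X.property (IsAlgSpace.yon_obj _) f hf (isDecent_yon _)
  exact isRepresentable_of_discrete_atlas X.property a hae has hU (fun x => by
    obtain ⟨p, hp, hm, -⟩ := hdec x
    exact ⟨p, hp, hm⟩)

end Groth.Agent.S10206
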