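import Groth.Statements.S10213
import Mathlib
import Groth.Agent.S10214

set_option autoImplicit false
universe u
open CategoryTheory CategoryTheory.Limits AlgebraicGeometry Topology TopologicalSpace
open AlgSp

namespace S10213aux
open Groth.Agent.Lib.Helper14.AS S10214aux

variable {S : Scheme.{u}}

theorem main (X : AlgSp.Space S) :
    ∃ (ι : Type u) (V : ι → Scheme.{u}) (_ : ∀ i, IsAffine (V i)) (q : (∐ V) ⟶ S)
      (p : (AlgSp.yon S).obj (Over.mk q) ⟶ X.obj),
      AlgSp.RepWith @Etale p ∧ AlgSp.RepWith @Surjective p ∧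
        ∀ i, ∃ W : S.Opens, IsAffineOpen W ∧ ∀ v : ↥(V i), (Sigma.ι V i ≫ q) v ∈ W := by
  obtain ⟨U, p, hpe, hps⟩ := X.property.atlas
  let V : SmallAffine U → Scheme.{u} := fun i => (i.1 : Scheme.{u})
  let c : (∐ V) ⟶ U.left := Sigma.desc (fun i : SmallAffine U => i.1.ι)
  have hce : Etale c := IsZariskiLocalAtSource.sigmaDesc (fun i => inferInstance)
  have hcs : Surjective c := by
    apply Surjective.sigmaDesc_of_union_range_eq_univ
    rw [Set.eq_univ_iff_forall]
    intro u
    obtain ⟨i, hi⟩ := exists_smallAffine U u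
    exact Set.mem_iUnion.mpr ⟨i, by rw [Scheme.Opens.range_ι]; exact hi⟩
  let φ : Over.mk (c ≫ U.hom) ⟶ U := Over.homMk c rfl
  refine ⟨SmallAffine U, V, fun i => i.2.1, c ≫ U.hom, (yon S).map φ ≫ p, ?_, ?_, fun i => ?_⟩
  · exact repWith_comp _ ((repWith_yon_map_iff _ _).2 hce) hpe
  · exact repWith_comp _ ((repWith_yon_map_iff _ _).2 hcs) hps
  · obtain ⟨-, W, hW, hVW⟩ := i.2
    refine ⟨W, hW, fun v => ?_⟩
    have h1 : Sigma.ι V i ≫ c ≫ U.hom = i.1.ι ≫ U.hom := by
      rw [← Category.assoc, Sigma.ι_desc]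
    rw [h1]
    exact hVW v.2

end S10213aux


namespace Groth.Agent.S10213

/-- For an algebraic space X over a scheme S there is a surjective etale map h_U ⟶ X where U is a
disjoint union of affine schemes, each of which maps into an affine open of S. -/
theorem result {S : Scheme.{u}} (X : AlgSp.Space S) :
    ∃ (ι : Type u) (V : ι → Scheme.{u}) (_ : ∀ i, IsAffine (V i)) (q : (∐ V) ⟶ S)
      (p : (AlgSp.yon S).obj (Over.mk q) ⟶ X.obj),
      AlgSp.RepWith @Etale p ∧ AlgSp.RepWith @Surjective p ∧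
        ∀ i, ∃ W : S.Opens, IsAffineOpen W ∧ ∀ v : ↥(V i), (Sigma.ι V i ≫ q) v ∈ W := by
  exact S10213aux.main X

end Groth.Agent.S10213
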