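import Groth.Statements.S10222
import Mathlib
import Groth.Agent.Lib.Helper8.AlgSpPres
import Groth.Agent.Lib.Helper8.RedStalk

set_option autoImplicit false
universe u
open CategoryTheory CategoryTheory.Limits AlgebraicGeometry Topology TopologicalSpace
open AlgSp

namespace S10222aux
open Groth.Agent.Lib.Helper14.AS Groth.Agent.Lib.Helper8.RedStalk

variable {S : Scheme.{u}}

theorem isReduced_stalk_congr {X : Scheme.{u}} {x y : X} (h : x = y)
    (hx : _root_.IsReduced (X.presheaf.stalk x)) : _root_.IsReduced (X.presheaf.stalk y) := by
  subst h; exact hx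

/-- transfer of "reduced local ring" between two etale charts through the same point. -/
theorem isReduced_stalk_of_charts {F : Sp S} {U U' : Over S} (p : (yon S).obj U ⟶ F)
    (hpe : RepWith @Etale p) (a : (yon S).obj U' ⟶ F) (hae : RepWith @Etale a)
    (u : U.left) (u' : U'.left) (e : Points.ofPt a u' = Points.ofPt p u)
    (hred : _root_.IsReduced (U'.left.presheaf.stalk u')) :
    _root_.IsReduced (U.left.presheaf.stalk u) := by
  obtain ⟨V, snd, fst, sq⟩ := ((repWith_iff _ a).mp hae).1 p
  obtain ⟨fst', rfl⟩ := (yon S).map_surjective fst
  obtain ⟨v, hv1, hv2⟩ := exists_point_of_isPullback_yon sq u' u e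
  have hsnd : Etale snd.left := ((repWith_iff _ a).mp hae).2 p _ snd sq
  have hfst : Etale fst'.left := ((repWith_iff _ p).mp hpe).2 a _ fst' sq.flip
  have h1 : _root_.IsReduced (V.left.presheaf.stalk v) :=
    isReduced_stalk_of_smooth fst'.left v (isReduced_stalk_congr hv1.symm hred)
  have h2 : _root_.IsReduced (U.left.presheaf.stalk (snd.left.base v)) :=
    isReduced_of_injective (snd.left.stalkMap v).hom
      (Groth.Agent.S9841.stalkMap_injective_of_flat snd.left v)
  exact isReduced_stalk_congr hv2 h2

theorem main (X : AlgSp.Space S) :
    AlgSp.IsReducedSp X.obj ↔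
      ∀ x : AlgSp.Points X.obj,
        AlgSp.HasAt (fun U u => _root_.IsReduced ↥(U.presheaf.stalk u)) X.obj x := by
  constructor
  · rintro ⟨U, p, hpe, hps, hU⟩ x
    obtain ⟨u, rfl⟩ := ofPt_surjective_of_repWith hps x
    have : IsReduced U.left := hU
    exact ⟨U, p, u, hpe, rfl, inferInstance⟩
  · intro h
    obtain ⟨U, p, hpe, hps⟩ := X.property.atlas
    refine ⟨U, p, hpe, hps, ?_⟩
    have : ∀ u : U.left, _root_.IsReduced (U.left.presheaf.stalk u) := by
      intro u
      obtain ⟨U', a, u', hae, e, hred⟩ := h (Points.ofPt p u)
      exact isReduced_stalk_of_charts p hpe a hae u u' e hred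
    exact isReduced_of_isReduced_stalk U.left

end S10222aux


namespace Groth.Agent.S10222

/-- (1) if and only if (2): an algebraic space X over a scheme S is reduced if and only if at each x ∈
|X| the local ring of X is reduced, the latter meaning that for some scheme U, some representable
etale h_U ⟶ X and some point u of U mapping to x, the local ring of U at u is reduced. (The
assertions about global sections in the published statement are not part of this row.) -/
theorem result {S : Scheme.{u}} (X : AlgSp.Space S) :
    AlgSp.IsReducedSp X.obj ↔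
      ∀ x : AlgSp.Points X.obj, AlgSp.HasAt (fun U u => _root_.IsReduced ↥(U.presheaf.stalk u)) X.obj x := by
  exact S10222aux.main X

end Groth.Agent.S10222
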