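import Groth.Statements.S10228
import Groth.Agent.Lib.Helper24.CoprodSp2

set_option autoImplicit false
universe u
open CategoryTheory CategoryTheory.Limits AlgebraicGeometry Topology TopologicalSpace
open AlgSp

namespace Groth.Agent.S10228

open CategoryTheory CategoryTheory.Limits AlgebraicGeometry Opposite AlgSp
open Groth.Agent.Lib.Helper14.AS Groth.Agent.Lib.Helper24.CoprodSp

theorem compactSpace_sigmaOver {S : Scheme.{u}} {ι : Type u} [Finite ι] (T : ι → Over S)
    (h : ∀ i, CompactSpace ↥(T i).left) : CompactSpace ↥(sigmaOver T).left := by
  change CompactSpace ↥(∐ fun i => (T i).left)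
  exact (sigmaMk (fun i => (T i).left)).compactSpace


/-- An algebraic space that is the coproduct of finitely many quasi-compact algebraic spaces is
quasi-compact: if X_i (i in a finite type) are quasi-compact algebraic spaces over a scheme S and
the underlying sheaf of the algebraic space X is a coproduct of the underlying sheaves of the X_i
(given by a colimit cofan of fppf sheaves whose cone point is the sheaf of X), then X is
quasi-compact. -/
theorem result {S : Scheme.{u}} {ι : Type u} [Finite ι] (Xi : ι → AlgSp.Space S)
    (X : AlgSp.Space S) (c : Cofan fun i => (Xi i).obj) (hc : IsColimit c) (hX : c.pt = X.obj)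
    (hqc : ∀ i, AlgSp.IsQuasiCompactSp (Xi i).obj) :
    AlgSp.IsQuasiCompactSp X.obj := by
  rw [← hX]
  choose T p hpe hps hTc using hqc
  obtain ⟨q, hq, -⟩ := existsUnique_desc_yon_sigmaOver T (fun i => p i ≫ c.inj i)
  exact ⟨sigmaOver T, q, repWith_sigma hc @Etale T p q hq hpe,
    repWith_sigma hc @Surjective T p q hq hps, compactSpace_sigmaOver T hTc⟩

end Groth.Agent.S10228
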