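import Groth.Statements.S10233
import Groth.Agent.Lib.Helper14.InvImm
import Groth.Agent.Lib.Helper14.AlgSpRepTo

set_option autoImplicit false
universe u
open CategoryTheory CategoryTheory.Limits AlgebraicGeometry Topology TopologicalSpace
open AlgSp

namespace Groth.Agent.S10233

/-- Let X be an algebraic space over a scheme S with a presentation (U, R, s, t, p), and let i' : Z' ⟶ U
be an immersion of schemes that is R-invariant, meaning that one locally closed subscheme R' of R is
at the same time the inverse image of Z' under s and under t. Then Z' descends to a locally closed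
subspace of X: there is a morphism of algebraic spaces i : Z ⟶ X representable by immersions
together with a map h_{Z'} ⟶ Z making h_{Z'} the fibre product Z ×_X h_U; moreover i is a closed
(resp. open) immersion when i' is. -/
theorem result {S : Scheme.{u}} (X : AlgSp.Space S) {R U : Over S} (s t : R ⟶ U)
    (p : (AlgSp.yon S).obj U ⟶ X.obj) (hp : AlgSp.IsPresentation s t p)
    {Z' R' : Scheme.{u}} (i' : Z' ⟶ U.left) [IsImmersion i'] (k : R' ⟶ R.left) (s' t' : R' ⟶ Z')
    (hs : IsPullback k s' s.left i') (ht : IsPullback k t' t.left i') :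
    ∃ (Z : AlgSp.Space S) (i : Z ⟶ X) (q : (AlgSp.yon S).obj (Over.mk (i' ≫ U.hom)) ⟶ Z.obj),
      AlgSp.RepWith @IsImmersion i.hom ∧
      IsPullback q ((AlgSp.yon S).map (Over.homMk i' rfl : Over.mk (i' ≫ U.hom) ⟶ U)) i.hom p ∧
      (IsClosedImmersion i' → AlgSp.RepWith @IsClosedImmersion i.hom) ∧
      (IsOpenImmersion i' → AlgSp.RepWith @IsOpenImmersion i.hom) := by
  open CategoryTheory.Limits Groth.Agent.Lib.Helper14.AS in
  have hdesc : MorphismProperty.DescendsAlong (@IsImmersion : MorphismProperty Scheme.{u})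
      (@Surjective ⊓ @Flat ⊓ @LocallyOfFinitePresentation : MorphismProperty Scheme.{u}) :=
    Groth.Agent.Lib.Helper25.ImmDescent.descendsAlong_isImmersion_fppf.{u}
  have hdescC : MorphismProperty.DescendsAlong (@IsClosedImmersion : MorphismProperty Scheme.{u})
      (@Surjective ⊓ @Flat ⊓ @LocallyOfFinitePresentation : MorphismProperty Scheme.{u}) :=
    Groth.Agent.Lib.Helper25.ImmDescent.descendsAlong_isClosedImmersion_fppf.{u}
  let c : Over.mk (i' ≫ U.hom) ⟶ U := Over.homMk i' rfl
  have hmono : Mono c := by
    have : Mono c.left := inferInstanceAs (Mono i')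
    exact Over.mono_of_mono_left c
  have hinv : ∀ ⦃T : Over S⦄ (r : T ⟶ R),
      (∃ l : T ⟶ Over.mk (i' ≫ U.hom), l ≫ c = r ≫ s) →
        ∃ l : T ⟶ Over.mk (i' ≫ U.hom), l ≫ c = r ≫ t := by
    rintro T r ⟨l, hl⟩
    have h1 : r.left ≫ s.left = l.left ≫ i' := by
      have := congrArg CommaMorphism.left hl
      simpa [c] using this.symm
    let m : T.left ⟶ R' := hs.lift r.left l.left h1
    have hm : m ≫ k = r.left := hs.lift_fst _ _ _
    refine ⟨Over.homMk (m ≫ t') ?_, ?_⟩
    · change (m ≫ t') ≫ i' ≫ U.hom = T.hom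
      rw [Category.assoc, ← Category.assoc t', ← ht.w, Category.assoc, ← Category.assoc m, hm,
        Over.w t, Over.w r]
    · ext
      change (m ≫ t') ≫ i' = r.left ≫ t.left
      rw [Category.assoc, ← ht.w, ← Category.assoc, hm]
  have key : ∀ (P : MorphismProperty Scheme.{u}) [IsZariskiLocalAtTarget P]
      [P.IsStableUnderBaseChange]
      [P.DescendsAlong (@Surjective ⊓ @Flat ⊓ @LocallyOfFinitePresentation)],
      (∀ ⦃X Y : Scheme.{u}⦄ (f : X ⟶ Y), P f →
        IsSeparated f ∧ LocallyQuasiFinite f ∧ LocallyOfFiniteType f) → P i' →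
        AlgSp.RepWith P (invPred p c).ι := fun P _ _ _ hP hi =>
    repWith_invPred P hP s t p hp.etale hp.surjective hp.isPullback c hinv hi
  have himm : AlgSp.RepWith @IsImmersion (invPred p c).ι :=
    key @IsImmersion (fun X Y f hf => ⟨inferInstance, inferInstance, inferInstance⟩) inferInstance
  obtain ⟨q, sq⟩ := (invPred p c).exists_isPullback p c
    (fun T' t₀ => invPred_iff s t p hp.isPullback c hinv t₀)
  refine ⟨⟨(invPred p c).sheaf, isAlgSpace_of_representable_to X.property _ himm.rep⟩,
    ObjectProperty.homMk (invPred p c).ι, q, himm, sq, fun hcl => ?_, fun hop => ?_⟩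
  · exact key @IsClosedImmersion
      (fun X Y f hf => ⟨inferInstance, inferInstance, inferInstance⟩) hcl
  · exact key @IsOpenImmersion
      (fun X Y f hf => ⟨inferInstance, inferInstance, inferInstance⟩) hop

end Groth.Agent.S10233
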