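import Groth.Statements.S10235
import Mathlib
import Groth.Agent.Lib.Helper20.HB7
import Groth.Agent.S7488

set_option autoImplicit false
universe u
open CategoryTheory CategoryTheory.Limits AlgebraicGeometry Topology TopologicalSpace
open AlgSp

namespace Groth.Agent.S10235



section helpers
open Groth.Agent.Lib.Helper20.HB in
theorem hcov_of_h3 {S : Scheme.{u}} (G : Grpd.GroupoidScheme S) [IsFinite G.s] [Flat G.s]
    [LocallyOfFinitePresentation G.s]
    (h3 : ∀ Z : Set ↥G.U, IsClosed Z → Z.Nonempty →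
      ∃ u ∈ Z, ∃ W : G.U.Opens, IsAffineOpen W ∧ ∀ r : ↥G.R, G.s r = u → G.t r ∈ W) :
    ∀ x : G.U, ∃ W : AffInv G, x ∈ W.W := by
  let O : Set G.U := ⋃ W : AffInv G, (W.W : Set G.U)
  have hO : IsOpen O := isOpen_iUnion fun W => W.W.isOpen
  by_contra hcon
  push Not at hcon
  obtain ⟨x, hx⟩ := hcon
  have hne : (Oᶜ).Nonempty := by
    refine ⟨x, ?_⟩
    intro hxO
    obtain ⟨W, hW⟩ := Set.mem_iUnion.mp hxO
    exact hx W hW
  obtain ⟨u, hu, V, hV, hsub⟩ := h3 Oᶜ hO.isClosed_compl hne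
  obtain ⟨W, hW, huW, hinv⟩ :=
    Groth.Agent.Lib.Helper20.HA.exists_invariant_affine_open G u V hV hsub
  exact hu (Set.mem_iUnion.mpr ⟨⟨⟨W, hinv⟩, hW⟩, huW⟩)

theorem mono_j_of_isEqvRel {S : Scheme.{u}} (G : Grpd.GroupoidScheme S)
    (heq : AlgSp.IsEqvRel (Over.homMk G.s G.s_over : Over.mk G.pR ⟶ Over.mk G.pU)
      (Over.homMk G.t G.t_over : Over.mk G.pR ⟶ Over.mk G.pU)) : Mono G.j := by
  constructor
  intro T a b hab
  have e1 : G.j ≫ pullback.fst G.pU G.pU = G.t := pullback.lift_fst _ _ _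
  have e2 : G.j ≫ pullback.snd G.pU G.pU = G.s := pullback.lift_snd _ _ _
  have h1 : a ≫ G.t = b ≫ G.t := by rw [← e1, ← Category.assoc, hab, Category.assoc]
  have h2 : a ≫ G.s = b ≫ G.s := by rw [← e2, ← Category.assoc, hab, Category.assoc]
  have hb : b ≫ G.pR = a ≫ G.pR := by
    rw [← G.s_over, ← Category.assoc, ← h2, Category.assoc]
  let a' : Over.mk (a ≫ G.pR) ⟶ Over.mk G.pR := Over.homMk a rfl
  let b' : Over.mk (a ≫ G.pR) ⟶ Over.mk G.pR := Over.homMk b hb
  have := heq.injective (Over.mk (a ≫ G.pR)) a' b' (by ext; exact h1) (by ext; exact h2)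
  exact congrArg (fun f => f.left) this
end helpers

/-- Let (U, R, s, t, c) be a groupoid scheme over a scheme S whose source and target maps s, t : R ⟶ U
are finite locally free and whose map j = (t, s) is an equivalence relation, and suppose that in
each nonempty closed subset of U one can find a point u such that some affine open of U contains the
whole equivalence class t(s⁻¹{u}) of u. Then there are a scheme M over S and a finite locally free
morphism U ⟶ M over S such that the square with the two maps t, s : R ⟶ U over U ⟶ M is cartesian (R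
= U ×_M U) and U ⟶ M exhibits h_M as the quotient of h_U by the pair h_R ⇉ h_U in the category of
fppf sheaves. -/
theorem result {S : Scheme.{u}} (G : Grpd.GroupoidScheme S)
    (hs : Mor2.IsFinLocFree G.s) (ht : Mor2.IsFinLocFree G.t)
    (heq : AlgSp.IsEqvRel (Over.homMk G.s G.s_over : Over.mk G.pR ⟶ Over.mk G.pU) (Over.homMk G.t G.t_over : Over.mk G.pR ⟶ Over.mk G.pU))
    (h3 : ∀ Z : Set ↥G.U, IsClosed Z → Z.Nonempty →
      ∃ u ∈ Z, ∃ W : G.U.Opens, IsAffineOpen W ∧ ∀ r : ↥G.R, G.s r = u → G.t r ∈ W) :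
    ∃ (M : Over S) (m : Over.mk G.pU ⟶ M), Mor2.IsFinLocFree m.left ∧ IsPullback G.t G.s m.left m.left ∧
      QuotSh.IsQuotient Scheme.fppfPrecoverage (Over.homMk G.s G.s_over : Over.mk G.pR ⟶ Over.mk G.pU) (Over.homMk G.t G.t_over : Over.mk G.pR ⟶ Over.mk G.pU) m := by

  obtain ⟨h1, h2, h3'⟩ := hs
  haveI := h1
  haveI := h2
  haveI := h3'
  haveI := mono_j_of_isEqvRel G heq
  have hcov := hcov_of_h3 G h3
  have hfin := Groth.Agent.Lib.Helper20.HB.AffInv.isFinite_p hcov
  have hfl := Groth.Agent.Lib.Helper20.HB.AffInv.flat_p hcov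
  have hlf := Groth.Agent.Lib.Helper20.HB.AffInv.lfp_p hcov
  have hsu := Groth.Agent.Lib.Helper20.HB.AffInv.surjective_p hcov
  have hpb := Groth.Agent.Lib.Helper20.HB.AffInv.isPullback_t_s hcov
  have htp := Groth.Agent.Lib.Helper20.HB.AffInv.t_p hcov
  obtain ⟨mY, hmY⟩ := Groth.Agent.Lib.Helper20.HB.AffInv.exists_desc hcov G.pU
    (by rw [G.t_over, G.s_over])
  refine ⟨Over.mk mY, Over.homMk (Groth.Agent.Lib.Helper20.HB.AffInv.p hcov) hmY,
    ⟨hfin, hfl, hlf⟩, hpb, ?_⟩
  refine Groth.Agent.S7490.result Scheme.fppfPrecoverage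
    (Over.homMk G.s G.s_over : Over.mk G.pR ⟶ Over.mk G.pU)
    (Over.homMk G.t G.t_over : Over.mk G.pR ⟶ Over.mk G.pU)
    (Over.homMk (Groth.Agent.Lib.Helper20.HB.AffInv.p hcov) hmY : Over.mk G.pU ⟶ Over.mk mY)
    ?_ htp ?_ ?_
  · ext
    exact htp.symm
  · exact Groth.Agent.S7488.epi_repMap_of_fppf _ hfl hsu hlf
  · have hiso : IsIso (pullback.lift G.t G.s htp :
        G.R ⟶ pullback (Groth.Agent.Lib.Helper20.HB.AffInv.p hcov)
          (Groth.Agent.Lib.Helper20.HB.AffInv.p hcov)) := by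
      have : pullback.lift G.t G.s htp = hpb.isoPullback.hom := by
        apply pullback.hom_ext
        · rw [pullback.lift_fst, hpb.isoPullback_hom_fst]
        · rw [pullback.lift_snd, hpb.isoPullback_hom_snd]
      rw [this]
      infer_instance
    refine Groth.Agent.S7488.epi_repMap_of_fppf _ ?_ ?_ ?_
    · show Flat (pullback.lift G.t G.s htp)
      infer_instance
    · show Surjective (pullback.lift G.t G.s htp)
      infer_instance
    · show LocallyOfFinitePresentation (pullback.lift G.t G.s htp)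
      infer_instance

end Groth.Agent.S10235
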