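import Groth.Statements.S10241
import Groth.Agent.Lib.Helper14.EtStalk1
import Mathlib.Algebra.Category.Grp.AB
import Mathlib.Algebra.Category.Grp.FilteredColimits

set_option autoImplicit false
universe u
open CategoryTheory CategoryTheory.Limits AlgebraicGeometry Topology TopologicalSpace
open AlgSp

namespace Groth.Agent.S10241

/-- Let X be an algebraic space over a scheme S and x̄ a geometric point of X. The stalk functor at x̄
on abelian presheaves on the small etale site of X is exact, and for every presheaf of sets P the
canonical map from the stalk of P at x̄ to the stalk of its sheafification is bijective. -/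
theorem result {S : Scheme.{u}} (X : AlgSp.Space S) (p : AlgSp.FieldPt X.obj)
    (hp : p.IsGeometric) :
    (PreservesFiniteLimits (AlgSp.stalkEtPshFunctor AddCommGrpCat.{u + 1} p) ∧
      PreservesFiniteColimits (AlgSp.stalkEtPshFunctor AddCommGrpCat.{u + 1} p)) ∧
    ∀ P : (AlgSp.EtOver X.obj)ᵒᵖ ⥤ Type (u + 1),
      IsIso ((AlgSp.stalkEtPshFunctor (Type (u + 1)) p).map (toSheafify (AlgSp.etTop X.obj) P)) := by
  have : AB5OfSize.{u, u} AddCommGrpCat.{u + 1} :=
    AB5OfSize_of_univLE.{u, u, u + 1, u + 1} AddCommGrpCat.{u + 1}
  refine ⟨⟨?_, ?_⟩, fun P => ?_⟩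
  · change PreservesFiniteLimits
      ((Groth.Agent.Lib.Helper14.AS.etPoint X.property p hp).presheafFiber (A := AddCommGrpCat.{u + 1}))
    infer_instance
  · change PreservesFiniteColimits
      ((Groth.Agent.Lib.Helper14.AS.etPoint X.property p hp).presheafFiber (A := AddCommGrpCat.{u + 1}))
    have : PreservesColimitsOfSize.{u, u}
        ((Groth.Agent.Lib.Helper14.AS.etPoint X.property p hp).presheafFiber
          (A := AddCommGrpCat.{u + 1})) := inferInstance
    exact PreservesColimitsOfSize.preservesFiniteColimits _
  · change IsIso (((Groth.Agent.Lib.Helper14.AS.etPoint X.property p hp).presheafFiber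
      (A := Type (u + 1))).map (toSheafify (AlgSp.etTop X.obj) P))
    infer_instance

end Groth.Agent.S10241
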