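import Groth.Statements.S10245
import Mathlib
import Mathlib
import Groth.Agent.Lib.Helper20.HD3
import Groth.Agent.S7488

set_option autoImplicit false
universe u
open CategoryTheory CategoryTheory.Limits MonoidalCategory CartesianMonoidalCategory MonObj AlgebraicGeometry Topology TopologicalSpace
open AlgSp

namespace Groth.Agent.S10245



section helpers
open Groth.Agent.Lib.Helper20.HB in
theorem hcov_of_hb {S : Scheme.{u}} (G : Grpd.GroupoidScheme S) [IsFinite G.s] [Flat G.s]
    [LocallyOfFinitePresentation G.s]
    (hb : ∀ x : G.U, ∃ V : G.U.Opens, IsAffineOpen V ∧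
      G.t.base '' (G.s.base ⁻¹' {x}) ⊆ (V : Set G.U)) :
    ∀ x : G.U, ∃ W : AffInv G, x ∈ W.W := by
  intro x
  obtain ⟨V, hV, hsub⟩ := hb x
  obtain ⟨W, hW, hxW, hinv⟩ :=
    Groth.Agent.Lib.Helper20.HA.exists_invariant_affine_open G x V hV
      (fun r hr => hsub ⟨r, hr, rfl⟩)
  exact ⟨⟨⟨W, hinv⟩, hW⟩, hxW⟩
end helpers

/-- Let G ⟶ S be a finite locally free group scheme over a scheme S acting on a scheme X over S by a : G
×_S X ⟶ X, freely on T-valued points for every S-scheme T. Assume one of the following: the
structure morphism X ⟶ S is affine; X admits an open immersion into some affine scheme; G ⟶ S is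
radicial (universally injective). Then the fppf quotient sheaf X/G is a scheme M: there is q : X ⟶ M
over S exhibiting h_M as the quotient of h_X by the projection and the action G ×_S X ⇉ X in fppf
sheaves; moreover the square formed by the action, the projection and q is cartesian (G ×_S X ≅ X
×_M X) and X ⟶ M has sections fppf locally on M, so that X ⟶ X/G is an fppf G-torsor. (The published
statement also allows X ⟶ S quasi-affine, projective or quasi-projective, or X an open subscheme of
Proj of a graded ring; those cases are not covered by this row.) -/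
theorem result {S : Scheme.{u}} (G X : Over S) [GrpObj G]
    (a : AlgGrp.Action G X) (hG : Mor2.IsFinLocFree G.hom)
    (hfree : ∀ (T : Over S) (g : T ⟶ G) (x : T ⟶ X), lift g x ≫ a.act = x → g = toUnit T ≫ η[G])
    (h3 : IsAffineHom X.hom ∨ (∃ (R : CommRingCat.{u}) (i : X.left ⟶ Spec R), IsOpenImmersion i) ∨
      UniversallyInjective G.hom) :
    ∃ (M : Over S) (q : X ⟶ M), QuotSh.IsQuotient Scheme.fppfPrecoverage (snd G X) a.act q ∧
      IsPullback a.act.left (snd G X).left q.left q.left ∧
      NonAbH1.IsLocallyTrivialFor Scheme.fppfPrecoverage (Over.mk q.left) := by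

  obtain ⟨h1, h2, h3'⟩ := hG
  haveI := h1
  haveI := h2
  haveI := h3'
  haveI := Groth.Agent.Lib.Helper20.HD.mono_j a hfree
  have hb : ∀ x : (Groth.Agent.Lib.Helper20.HD.actGrpd a).U, ∃ V :
      (Groth.Agent.Lib.Helper20.HD.actGrpd a).U.Opens, IsAffineOpen V ∧
      (Groth.Agent.Lib.Helper20.HD.actGrpd a).t.base ''
        ((Groth.Agent.Lib.Helper20.HD.actGrpd a).s.base ⁻¹' {x}) ⊆
        (V : Set (Groth.Agent.Lib.Helper20.HD.actGrpd a).U) := by
    intro x
    rcases h3 with h | ⟨R₀, i, hi⟩ | h
    · haveI := h
      exact Groth.Agent.Lib.Helper20.HD.haff_of_isAffineHom a x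
    · haveI := hi
      exact Groth.Agent.Lib.Helper20.HD.haff_of_isOpenImmersion a R₀ i x
    · haveI := h
      exact Groth.Agent.Lib.Helper20.HD.haff_of_universallyInjective a x
  have hcov := hcov_of_hb (Groth.Agent.Lib.Helper20.HD.actGrpd a) hb
  have hfin := Groth.Agent.Lib.Helper20.HB.AffInv.isFinite_p hcov
  have hfl := Groth.Agent.Lib.Helper20.HB.AffInv.flat_p hcov
  have hlf := Groth.Agent.Lib.Helper20.HB.AffInv.lfp_p hcov
  have hsu := Groth.Agent.Lib.Helper20.HB.AffInv.surjective_p hcov
  have htp := Groth.Agent.Lib.Helper20.HB.AffInv.t_p hcov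
  obtain ⟨mY, hmY⟩ := Groth.Agent.Lib.Helper20.HB.AffInv.exists_desc hcov
    (Groth.Agent.Lib.Helper20.HD.actGrpd a).pU
    (by rw [(Groth.Agent.Lib.Helper20.HD.actGrpd a).t_over,
      (Groth.Agent.Lib.Helper20.HD.actGrpd a).s_over])
  have hmY' : Groth.Agent.Lib.Helper20.HB.AffInv.p hcov ≫ mY = X.hom := hmY
  let q : X ⟶ Over.mk mY := Over.homMk (Groth.Agent.Lib.Helper20.HB.AffInv.p hcov) hmY'
  have hq : q.left = Groth.Agent.Lib.Helper20.HB.AffInv.p hcov := rfl
  have htp' : a.act.left ≫ q.left = (snd G X).left ≫ q.left := htp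
  have hpb : IsPullback a.act.left (snd G X).left q.left q.left :=
    Groth.Agent.Lib.Helper20.HB.AffInv.isPullback_t_s hcov
  refine ⟨Over.mk mY, q, ?_, hpb, ?_⟩
  · refine Groth.Agent.S7490.result Scheme.fppfPrecoverage (snd G X) a.act q ?_ htp' ?_ ?_
    · apply Over.OverMorphism.ext
      exact htp'.symm
    · exact Groth.Agent.S7488.epi_repMap_of_fppf _ hfl hsu hlf
    · have hiso : IsIso (pullback.lift a.act.left (snd G X).left htp' :
          (G ⊗ X).left ⟶ pullback q.left q.left) := by
        have : pullback.lift a.act.left (snd G X).left htp' = hpb.isoPullback.hom := by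
          apply pullback.hom_ext
          · rw [pullback.lift_fst, hpb.isoPullback_hom_fst]
          · rw [pullback.lift_snd, hpb.isoPullback_hom_snd]
        rw [this]
        infer_instance
      refine Groth.Agent.S7488.epi_repMap_of_fppf _ ?_ ?_ ?_
      · show Flat (pullback.lift a.act.left (snd G X).left htp')
        infer_instance
      · show Surjective (pullback.lift a.act.left (snd G X).left htp')
        infer_instance
      · show LocallyOfFinitePresentation (pullback.lift a.act.left (snd G X).left htp')
        infer_instance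
  · haveI : Flat q.left := hfl
    haveI : Surjective q.left := hsu
    haveI : LocallyOfFinitePresentation q.left := hlf
    refine ⟨Presieve.singleton q.left, Scheme.Hom.singleton_mem_fppfPrecoverage q.left, ?_⟩
    rintro S' f ⟨⟩
    exact ⟨𝟙 _, Category.id_comp _⟩

end Groth.Agent.S10245
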