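import Groth.Statements.S10264
import Groth.Agent.Lib.Helper14.AlgSpLocP2

set_option autoImplicit false
universe u
open CategoryTheory CategoryTheory.Limits AlgebraicGeometry
open AlgSp

namespace Groth.Agent.S10264

/-- An immersion of algebraic spaces is unramified. -/
theorem result {S : Scheme.{u}} {X Y : AlgSp.Space S} (i : X ⟶ Y)
    (hi : AlgSp.RepWith @IsImmersion i.hom) :
    AlgSp.LocP (@LocallyOfFiniteType ⊓ @FormallyUnramified) i.hom := by
  have hle : @LE.le (MorphismProperty Scheme.{u}) _ @IsImmersion
      (@LocallyOfFiniteType ⊓ @FormallyUnramified) := fun _ _ f hf => by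
    have : IsImmersion f := hf
    exact ⟨inferInstance, inferInstance⟩
  have hle' : @LE.le (MorphismProperty Scheme.{u}) _ @Etale
      (@LocallyOfFiniteType ⊓ @FormallyUnramified) := fun _ _ f hf => by
    have : Etale f := hf
    exact ⟨inferInstance, inferInstance⟩
  exact Groth.Agent.Lib.Helper14.AS.locP_of_repWith hle'
    (Groth.Agent.Lib.Helper14.AS.repWith_mono hle hi)

end Groth.Agent.S10264
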