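import Groth.Statements.S10273
import Groth.Agent.Lib.Helper14.AlgSpProper

set_option autoImplicit false
universe u
open CategoryTheory CategoryTheory.Limits AlgebraicGeometry
open AlgSp

namespace Groth.Agent.S10273

/-- (1) ⇔ (3): properness of a morphism of algebraic spaces can be tested after base change to affine
schemes over the target. -/
theorem result {S : Scheme.{u}} {X Y : AlgSp.Space S} (f : X ⟶ Y) :
    AlgSp.IsProperMor f.hom ↔
      ∀ (Z : Over S), IsAffine Z.left → ∀ (g : (AlgSp.yon S).obj Z ⟶ Y.obj) (P : AlgSp.Sp S) (fst : P ⟶ X.obj)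
        (snd : P ⟶ (AlgSp.yon S).obj Z), IsPullback fst snd f.hom g → AlgSp.IsProperMor snd := by
  constructor
  · intro hf Z hZ g P fst snd sq
    exact Groth.Agent.Lib.Helper14.AS.isProperMor_of_isPullback X.property Y.property
      (IsAlgSpace.yon_obj Z) sq hf
  · intro H
    exact Groth.Agent.Lib.Helper14.AS.isProperMor_of_affine X.property Y.property f.hom H

end Groth.Agent.S10273
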