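import Groth.Statements.S10287


set_option autoImplicit false
universe u
open CategoryTheory CategoryTheory.Limits AlgebraicGeometry
open AlgSp

namespace Groth.Agent.S10287

/-- The existence and uniqueness parts of the valuative criterion are stable under composition. -/
theorem result {S : Scheme.{u}} {X Y Z : AlgSp.Space S} (f : X ⟶ Y) (g : Y ⟶ Z) :
    (AlgSp.ExistVC f.hom → AlgSp.ExistVC g.hom → AlgSp.ExistVC (f ≫ g).hom) ∧
    (AlgSp.UniqVC f.hom → AlgSp.UniqVC g.hom → AlgSp.UniqVC (f ≫ g).hom) := by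
  refine ⟨?_, ?_⟩
  · intro hf hg sq
    let sqg : ValSq g.hom :=
      { A := sq.A, K := sq.K, str := sq.str, top := sq.top ≫ f.hom, bot := sq.bot,
        comm := by rw [Category.assoc]; exact sq.comm }
    obtain ⟨e, l, hl1, hl2⟩ := hg sqg
    let sqf : ValSq f.hom :=
      { A := e.A', K := e.K', str := Spec.map (CommRingCat.ofHom e.φ) ≫ sq.str,
        top := (yon S).map (Over.homMk (Spec.map (CommRingCat.ofHom e.ψ)) (by
          change Spec.map _ ≫ Spec.map _ ≫ _ = Spec.map _ ≫ Spec.map _ ≫ _
          rw [← Spec.map_comp_assoc, ← Spec.map_comp_assoc, ← CommRingCat.ofHom_comp,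
            ← CommRingCat.ofHom_comp, e.comm]) : e.ptK' ⟶ sq.ptK) ≫ sq.top,
        bot := l,
        comm := by rw [Category.assoc]; exact hl1.symm }
    obtain ⟨e2, l2, hl21, hl22⟩ := hf sqf
    have hloc1 : IsLocalHom e.φ := e.isLocalHom
    have hloc2 : IsLocalHom e2.φ := e2.isLocalHom
    let e3 : sq.DomExt :=
      { A' := e2.A', K' := e2.K', φ := e2.φ.comp e.φ, ψ := e2.ψ.comp e.ψ,
        comm := by
          have h1 := e.comm
          have h2 := e2.comm
          rw [← RingHom.comp_assoc, h2, RingHom.comp_assoc]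
          change e2.ψ.comp ((algebraMap e.A' e.K').comp e.φ) = _
          rw [h1, RingHom.comp_assoc]
        isLocalHom := RingHom.isLocalHom_comp _ _ }
    have hA : e3.ptA'.hom = e2.ptA'.hom := by
      change Spec.map (CommRingCat.ofHom (e2.φ.comp e.φ)) ≫ sq.str =
        Spec.map (CommRingCat.ofHom e2.φ) ≫ Spec.map (CommRingCat.ofHom e.φ) ≫ sq.str
      rw [CommRingCat.ofHom_comp, Spec.map_comp_assoc]
    have hK : e3.ptK'.hom = e2.ptK'.hom := by
      change Spec.map _ ≫ Spec.map (CommRingCat.ofHom (e2.φ.comp e.φ)) ≫ sq.str =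
        Spec.map _ ≫ Spec.map (CommRingCat.ofHom e2.φ) ≫ Spec.map (CommRingCat.ofHom e.φ) ≫ sq.str
      rw [CommRingCat.ofHom_comp, Spec.map_comp_assoc]
    let a : e3.ptA' ⟶ e2.ptA' := Over.homMk (𝟙 _) (by rw [Category.id_comp]; exact hA.symm)
    let b : e3.ptK' ⟶ e2.ptK' := Over.homMk (𝟙 _) (by rw [Category.id_comp]; exact hK.symm)
    refine ⟨e3, (yon S).map a ≫ l2, ?_, ?_⟩
    · have hb : (Over.homMk (Spec.map (CommRingCat.ofHom (algebraMap e3.A' e3.K'))) rfl :
          e3.ptK' ⟶ e3.ptA') ≫ a =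
          b ≫ (Over.homMk (Spec.map (CommRingCat.ofHom (algebraMap e2.A' e2.K'))) rfl :
            e2.ptK' ⟶ e2.ptA') := by
        ext
        simp only [Over.comp_left, Over.homMk_left, a, b, Category.id_comp, Category.comp_id]
      rw [← Functor.map_comp_assoc, hb, Functor.map_comp_assoc, hl21]
      change _ ≫ _ ≫ _ ≫ sq.top = _
      rw [← Functor.map_comp_assoc, ← Functor.map_comp_assoc]
      congr 2
      ext
      simp only [Over.comp_left, Over.homMk_left, b, Category.id_comp]
      change _ = Spec.map (CommRingCat.ofHom (e2.ψ.comp e.ψ))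
      rw [CommRingCat.ofHom_comp, Spec.map_comp]
    · change ((yon S).map a ≫ l2) ≫ f.hom ≫ g.hom = _
      rw [Category.assoc, ← Category.assoc l2, hl22]
      change _ ≫ (_ ≫ l) ≫ g.hom = _
      rw [Category.assoc, hl2, ← Functor.map_comp_assoc, ← Functor.map_comp_assoc]
      congr 2
      ext
      simp only [Over.comp_left, Over.homMk_left, a, Category.id_comp]
      change _ = Spec.map (CommRingCat.ofHom (e2.φ.comp e.φ))
      rw [CommRingCat.ofHom_comp, Spec.map_comp]
  · intro hf hg sq l l' h1 h2 h1' h2'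
    let sqg : ValSq g.hom :=
      { A := sq.A, K := sq.K, str := sq.str, top := sq.top ≫ f.hom, bot := sq.bot,
        comm := by rw [Category.assoc]; exact sq.comm }
    have e1 : l ≫ f.hom = l' ≫ f.hom :=
      hg sqg (l ≫ f.hom) (l' ≫ f.hom) (by rw [← Category.assoc]; exact congrArg (· ≫ f.hom) h1)
        (by rw [Category.assoc]; exact h2)
        (by rw [← Category.assoc]; exact congrArg (· ≫ f.hom) h1') (by rw [Category.assoc]; exact h2')
    let sqf : ValSq f.hom :=
      { A := sq.A, K := sq.K, str := sq.str, top := sq.top, bot := l ≫ f.hom,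
        comm := by rw [← Category.assoc]; exact congrArg (· ≫ f.hom) h1.symm }
    exact hf sqf l l' h1 rfl h1' e1.symm

end Groth.Agent.S10287
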