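import Groth.Statements.S10293
import Groth.Agent.Lib.Helper24.DescAffMor
import Groth.Agent.Lib.Helper24.FinLocFreeDesc
import Groth.Agent.Lib.Helper24.ZarGlueRep

set_option autoImplicit false
universe u
open CategoryTheory CategoryTheory.Limits AlgebraicGeometry
open AlgSp

namespace Groth.Agent.S10293

open CategoryTheory CategoryTheory.Limits AlgebraicGeometry
open AlgSp
open Groth.Agent.Lib.Helper24.DescBridge Groth.Agent.Lib.Helper24.DescAffMor Groth.Agent.Lib.Helper24.FinLocFreeDesc
open Groth.Agent.Lib.Helper24.ZarGlueRep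


/-- (3) ⇒ (1): being finite locally free descends along a surjective etale base change from a scheme. -/
theorem result {S : Scheme.{u}} {X Y : AlgSp.Space S} (f : X ⟶ Y) (V : Over S)
    (p : (AlgSp.yon S).obj V ⟶ Y.obj) (hp : AlgSp.RepWith @Etale p) (hps : AlgSp.RepWith @Surjective p)
    {P : AlgSp.Sp S} (fst : P ⟶ X.obj) (snd : P ⟶ (AlgSp.yon S).obj V) (sq : IsPullback fst snd f.hom p)
    (h : AlgSp.IsFinLocFreeMor snd) : AlgSp.IsFinLocFreeMor f.hom := by
  apply repWith_of_affine_local
  intro Z hZ g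
  have h' : ∀ ⦃Z' : Over S⦄, IsAffine Z'.left → ∀ (g' : (yon S).obj Z' ⟶ (yon S).obj V),
      ∃ (W' : Over S) (r : W' ⟶ Z') (fst' : (yon S).obj W' ⟶ P),
        IsPullback fst' ((yon S).map r) snd g' ∧ IsAffine W'.left ∧ AlgSp.finLocFree r.left := by
    intro Z' hZ' g'
    have hrep := h.rep
    have hfl : AlgSp.finLocFree (hrep.snd g').left := h.property g' _ _ (hrep.isPullback g')
    refine ⟨_, hrep.snd g', _, hrep.isPullback g', ?_, hfl⟩
    have : IsFinite (hrep.snd g').left := hfl.1
    exact isAffine_of_isAffineHom (hrep.snd g').left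
  obtain ⟨U₀, fstW, hW, hU₀, Z'l, W'l, c, r, a, hZ', hW', hcf, hcs, sqr, hr⟩ :=
    exists_affine_descent AlgSp.finLocFree f.hom p hp hps fst snd sq h' hZ g
  refine ⟨descObj U₀, descProj U₀, fstW, hW, ?_⟩
  change AlgSp.finLocFree U₀.hom
  have : IsAffine Z.left := hZ
  exact finLocFree_descends sqr hr

end Groth.Agent.S10293
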