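import Groth.Statements.S10294
import Groth.Agent.Lib.Helper24.FinLocFreeDesc
import Groth.Agent.Lib.Helper24.ZarGlueRep
import Groth.Agent.Lib.Helper24.AlgStLocQ6
import Groth.Agent.Lib.Helper14.AlgSpLocP3

set_option autoImplicit false
universe u
open CategoryTheory CategoryTheory.Limits AlgebraicGeometry
open AlgSp

namespace Groth.Agent.S10294

open CategoryTheory CategoryTheory.Limits AlgebraicGeometry
open AlgSp
open Groth.Agent.Lib.Helper24.FinLocFreeDesc Groth.Agent.Lib.Helper14.AS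
open Groth.Agent.Lib.Helper24.ZarGlueRep

set_option backward.isDefEq.respectTransparency.types false in
lemma repWith_isFinite_of_isFiniteMor {S : Scheme.{u}} {F G : AlgSp.Sp S} {f : F ⟶ G}
    (h : AlgSp.IsFiniteMor f) : AlgSp.RepWith @IsFinite f := by
  apply repWith_of_affine_local
  intro Z hZ g
  obtain ⟨W, i, fst, sq, _, hi⟩ := h hZ g
  exact ⟨W, i, fst, sq, hi⟩

lemma isFiniteMor_of_repWith {S : Scheme.{u}} {F G : AlgSp.Sp S} {f : F ⟶ G}
    (h : AlgSp.RepWith @IsFinite f) : AlgSp.IsFiniteMor f := by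
  intro Z hZ g
  have hrep := h.rep
  have hfl : IsFinite (hrep.snd g).left := h.property g _ _ (hrep.isPullback g)
  exact ⟨_, hrep.snd g, _, hrep.isPullback g, isAffine_of_isAffineHom (hrep.snd g).left, hfl⟩

lemma finLocFree_le_isFinite : AlgSp.finLocFree.{u} ≤ @IsFinite := fun _ _ _ h => h.1
lemma finLocFree_le_flat : AlgSp.finLocFree.{u} ≤ @Flat := fun _ _ _ h => h.2.1
lemma finLocFree_le_lfp : AlgSp.finLocFree.{u} ≤ @LocallyOfFinitePresentation := fun _ _ _ h => h.2.2

lemma repWith_finLocFree_of {S : Scheme.{u}} {F G : AlgSp.Sp S} {f : F ⟶ G}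
    (h1 : AlgSp.RepWith @IsFinite f) (h2 : AlgSp.RepWith @Flat f)
    (h3 : AlgSp.RepWith @LocallyOfFinitePresentation f) : AlgSp.RepWith AlgSp.finLocFree f :=
  ⟨h1.rep, fun _ _ g fst snd sq => ⟨h1.property g fst snd sq, h2.property g fst snd sq, h3.property g fst snd sq⟩⟩

set_option backward.isDefEq.respectTransparency.types false in
lemma etale_surj_fst {S : Scheme.{u}} {F G : AlgSp.Sp S} {f : F ⟶ G} {V W : Over S}
    {b : (yon S).obj V ⟶ G} {fst : (yon S).obj W ⟶ F} {snd : W ⟶ V}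
    (sq : IsPullback fst ((yon S).map snd) f b) (hbe : RepWith @Etale b) (hbs : RepWith @Surjective b) :
    RepWith @Etale fst ∧ RepWith @Surjective fst :=
  ⟨MorphismProperty.of_isPullback (P := RepWith @Etale) sq.flip hbe,
    MorphismProperty.of_isPullback (P := RepWith @Surjective) sq.flip hbs⟩


/-- Finite locally free is the same as finite, flat and locally of finite presentation; over a locally
Noetherian target it is the same as finite and flat. -/
theorem result {S : Scheme.{u}} {X Y : AlgSp.Space S} (f : X ⟶ Y) :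
    (AlgSp.IsFinLocFreeMor f.hom ↔
      (AlgSp.IsFiniteMor f.hom ∧ AlgSp.LocP @Flat f.hom ∧ AlgSp.LocP @LocallyOfFinitePresentation f.hom)) ∧
    (AlgSp.IsLocNoethSp Y.obj →
      (AlgSp.IsFinLocFreeMor f.hom ↔ (AlgSp.IsFiniteMor f.hom ∧ AlgSp.LocP @Flat f.hom))) := by
  have hY : IsAlgSpace Y.obj := Y.property
  have h7flat : Seven (@Flat : MorphismProperty Scheme.{u}) := seven_of _ (Or.inr (Or.inr (Or.inl rfl)))
  have h7lfp : Seven (@LocallyOfFinitePresentation : MorphismProperty Scheme.{u}) :=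
    seven_of _ (Or.inr (Or.inl rfl))
  have fwd : AlgSp.IsFinLocFreeMor f.hom →
      (AlgSp.IsFiniteMor f.hom ∧ AlgSp.LocP @Flat f.hom ∧ AlgSp.LocP @LocallyOfFinitePresentation f.hom) := by
    intro h
    refine ⟨isFiniteMor_of_repWith (repWith_mono finLocFree_le_isFinite h), ?_, ?_⟩
    · exact (locP_iff_repWith_of_representable h7flat hY h.rep).2 (repWith_mono finLocFree_le_flat h)
    · exact (locP_iff_repWith_of_representable h7lfp hY h.rep).2 (repWith_mono finLocFree_le_lfp h)
  have bwd : (AlgSp.IsFiniteMor f.hom ∧ AlgSp.LocP @Flat f.hom ∧ AlgSp.LocP @LocallyOfFinitePresentation f.hom) →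
      AlgSp.IsFinLocFreeMor f.hom := by
    rintro ⟨h1, h2, h3⟩
    have hfin := repWith_isFinite_of_isFiniteMor h1
    exact repWith_finLocFree_of hfin
      ((locP_iff_repWith_of_representable h7flat hY hfin.rep).1 h2)
      ((locP_iff_repWith_of_representable h7lfp hY hfin.rep).1 h3)
  refine ⟨⟨fwd, bwd⟩, ?_⟩
  rintro ⟨V, b, hbe, hbs, hVN⟩
  refine ⟨fun h => ⟨(fwd h).1, (fwd h).2.1⟩, ?_⟩
  rintro ⟨h1, h2⟩
  refine bwd ⟨h1, h2, ?_⟩
  have hfin := repWith_isFinite_of_isFiniteMor h1
  have sq := hfin.rep.isPullback b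
  have hfinW : IsFinite (hfin.rep.snd b).left := hfin.property b _ _ sq
  have : IsLocallyNoetherian V.left := hVN
  have hlfp : LocallyOfFinitePresentation (hfin.rep.snd b).left :=
    Groth.Agent.Lib.Helper24.AlgStLocQ6.lfp_of_lft_of_isLocallyNoetherian _
  obtain ⟨hfe, hfs⟩ := etale_surj_fst sq hbe hbs
  exact locP_of_chart h7lfp.et f.hom (hfin.rep.fst b) b (hfin.rep.snd b) hfe hfs hbe sq.w hlfp

end Groth.Agent.S10294
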