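import Groth.Statements.S10296
import Groth.Agent.Lib.Helper28.AlgSpIntegral

set_option autoImplicit false
universe u
open CategoryTheory CategoryTheory.Limits AlgebraicGeometry
open AlgSp

namespace Groth.Agent.S10296

/-- The induced morphism from the normalization of X in Y to any integral Z -> X through which Y -> X
factors is the normalization of Z in Y. -/
theorem result {S : Scheme.{u}} {Y X X' Z : AlgSp.Space S} (f : Y ⟶ X)
    (hqc : AlgSp.IsQuasiCompactMor f.hom) (hqs : AlgSp.IsQuasiSeparatedMor f.hom) (ν : X' ⟶ X) (f' : Y ⟶ X')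
    (hn : AlgSp.IsRelNormalization f.hom ν.hom f'.hom) (π : Z ⟶ X) (hπ : AlgSp.IsIntegralMor π.hom) (g : Y ⟶ Z)
    (hg : g ≫ π = f) (h : X' ⟶ Z) (h1 : f' ≫ h = g) (h2 : h ≫ π = ν) :
    AlgSp.IsRelNormalization g.hom h.hom f'.hom := by
  obtain ⟨hn1, hn2, hn3⟩ := hn
  have hg' : g.hom ≫ π.hom = f.hom := congrArg (·.hom) hg
  have h1' : f'.hom ≫ h.hom = g.hom := congrArg (·.hom) h1
  have h2' : h.hom ≫ π.hom = ν.hom := congrArg (·.hom) h2
  refine ⟨h1', ?_, ?_⟩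
  · apply Groth.Agent.Lib.Helper28.AlgSpIntegral.isIntegralMor_of_comp h.hom π.hom _ hπ
    rw [h2']; exact hn2
  · intro W hW π' g' hπ' hg''
    obtain ⟨k, ⟨hk1, hk2⟩, hk3⟩ := hn3 hW (π' ≫ π.hom) g'
      (Groth.Agent.Lib.Helper28.AlgSpIntegral.isIntegralMor_comp _ _ hπ' hπ)
      (by rw [← Category.assoc, hg'', hg'])
    have hkh : k ≫ π' = h.hom := by
      obtain ⟨k0, _, hk0⟩ := hn3 Z.property π.hom g.hom hπ hg'
      rw [hk0 (k ≫ π') ⟨by rw [← Category.assoc, hk1, hg''], by rw [Category.assoc, hk2]⟩,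
        hk0 h.hom ⟨h1', h2'⟩]
    refine ⟨k, ⟨hk1, hkh⟩, ?_⟩
    rintro k' ⟨hk'1, hk'2⟩
    exact hk3 k' ⟨hk'1, by rw [← Category.assoc, hk'2, h2']⟩

end Groth.Agent.S10296
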