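import Groth.Statements.S10297
import Groth.Agent.Lib.Helper14.Norm7

set_option autoImplicit false
universe u
open CategoryTheory CategoryTheory.Limits AlgebraicGeometry
open AlgSp

namespace Groth.Agent.S10297

/-- Taking the normalization of X in Y is compatible with an etale base change W -> X. -/
theorem result {S : Scheme.{u}} {Y X X' W YW X'W : AlgSp.Space S} (f : Y ⟶ X)
    (hqc : AlgSp.IsQuasiCompactMor f.hom) (hqs : AlgSp.IsQuasiSeparatedMor f.hom) (ν : X' ⟶ X) (f' : Y ⟶ X')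
    (hn : AlgSp.IsRelNormalization f.hom ν.hom f'.hom) (w : W ⟶ X) (hw : AlgSp.IsEtaleMor w.hom)
    (a : YW ⟶ Y) (fW : YW ⟶ W) (sq1 : IsPullback a.hom fW.hom f.hom w.hom)
    (b : X'W ⟶ X') (νW : X'W ⟶ W) (sq2 : IsPullback b.hom νW.hom ν.hom w.hom)
    (f'W : YW ⟶ X'W) (c1 : f'W ≫ νW = fW) (c2 : f'W ≫ b = a ≫ f') :
    AlgSp.IsRelNormalization fW.hom νW.hom f'W.hom := by
  open Groth.Agent.Lib.Helper14.AS in
  have H : NormHyp f.hom := ⟨Y.property, X.property, hqc, hqs⟩
  open Groth.Agent.Lib.Helper14.AS in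
  have HW : NormHyp fW.hom := ⟨YW.property, W.property, isQuasiCompactMor_of_isPullback sq1 hqc,
    isQuasiSeparatedMor_of_isPullback sq1 hqs⟩
  have c1' : f'W.hom ≫ νW.hom = fW.hom := congrArg (fun k => k.hom) c1
  have c2' : f'W.hom ≫ b.hom = a.hom ≫ f'.hom := congrArg (fun k => k.hom) c2
  refine HW.isRelNormalization_of_charts X'W.property c1'
    (Groth.Agent.Lib.Helper14.AS.isIntegralMor_of_isPullback' sq2 hn.2.1) (fun _ => True) ?_ ?_
  · intro T x
    obtain ⟨Sv, hSv, hl⟩ := Groth.Agent.Lib.Helper14.AS.exists_cover_affEt W.property x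
    refine ⟨Sv, hSv, fun W' w' hw' => ?_⟩
    obtain ⟨E, v, hv⟩ := hl w' hw'
    exact ⟨E, trivial, v, hv⟩
  · intro E _
    let E' : Groth.Agent.Lib.Helper14.AS.AffEt X.obj := ⟨E.V, E.v ≫ w.hom, hw E.v E.etale, E.affine⟩
    have hc : (HW.pE E ≫ f'W.hom) ≫ νW.hom = HW.fE E ≫ E.v := by
      rw [Category.assoc, c1']; exact (HW.sqE E).w
    refine ⟨pullback νW.hom E.v, pullback.fst _ _, pullback.snd _ _,
      pullback.lift (HW.pE E ≫ f'W.hom) (HW.fE E) hc, IsPullback.of_hasPullback _ _,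
      pullback.lift_snd _ _ _, pullback.lift_fst _ _ _, ?_⟩
    refine H.isRelNormalization_chart X'.property hn E' (pY := HW.pE E ≫ a.hom)
      (pP := pullback.fst νW.hom E.v ≫ b.hom) ((HW.sqE E).paste_horiz sq1)
      ((IsPullback.of_hasPullback νW.hom E.v).paste_horiz sq2) _ (pullback.lift_snd _ _ _) ?_
    rw [← Category.assoc, pullback.lift_fst, Category.assoc, c2', Category.assoc]

end Groth.Agent.S10297
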