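import Groth.Statements.S10300
import Groth.Agent.Lib.Helper14.Norm9

set_option autoImplicit false
universe u
open CategoryTheory CategoryTheory.Limits AlgebraicGeometry
open AlgSp

namespace Groth.Agent.S10300

/-- For f quasi-finite and separated, the map from X to the normalization of Y in X is a quasi-compact
open immersion, and f is quasi-affine. -/
theorem result {S : Scheme.{u}} {X Y Y' : AlgSp.Space S}
    (f : X ⟶ Y) (hqf : AlgSp.LocP (@LocallyQuasiFinite ⊓ @LocallyOfFiniteType) f.hom)
    (hqc : AlgSp.IsQuasiCompactMor f.hom) (hsep : AlgSp.IsSeparatedMor f.hom) (ν : Y' ⟶ Y) (f' : X ⟶ Y')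
    (hn : AlgSp.IsRelNormalization f.hom ν.hom f'.hom) :
    AlgSp.RepWith @IsOpenImmersion f'.hom ∧ AlgSp.IsQuasiCompactMor f'.hom ∧ AlgSp.IsQuasiAffineMor f.hom := by
  have hoi := Groth.Agent.Lib.Helper14.AS.repWith_isOpenImmersion_toNormalization X.property
    Y.property Y'.property f.hom hqf hqc hsep ν.hom f'.hom hn
  exact ⟨hoi, Groth.Agent.Lib.Helper14.AS.isQuasiCompactMor_toNormalization X.property Y.property
    Y'.property f.hom hqc ν.hom f'.hom hn,
    Groth.Agent.Lib.Helper14.AS.isQuasiAffineMor_of_quasiFinite_separated f.hom hqc ν.hom f'.hom hn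
      hoi⟩

end Groth.Agent.S10300
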