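import Groth.Statements.S10311
import Groth.Agent.Lib.Helper14.BCChart
import Groth.Agent.Lib.Helper14.RelDim0
import Groth.Agent.Lib.Helper21.BaseChg4

set_option autoImplicit false
universe u
open CategoryTheory CategoryTheory.Limits AlgebraicGeometry
open AlgSp

namespace Groth.Agent.S10311

/-- The relative dimension at a point of a morphism locally of finite type is preserved by base change. -/
theorem result {S : Scheme.{u}} {X Y Y' X' : AlgSp.Space S} (f : X ⟶ Y) (g : Y' ⟶ Y)
    (g' : X' ⟶ X) (f' : X' ⟶ Y') (sq : IsPullback g'.hom f'.hom f.hom g.hom)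
    (hf : AlgSp.LocP @LocallyOfFiniteType f.hom) (x' : AlgSp.Points X'.obj) (d : WithBot ℕ∞)
    (hd : AlgSp.HasAtMor (fun _ _ h u => FlatMor.fibreDimAt h u = d) f.hom (AlgSp.Points.map g'.hom x')) :
    AlgSp.HasAtMor (fun _ _ h u => FlatMor.fibreDimAt h u = d) f'.hom x' := by
  obtain ⟨U, V, U', V', a, b, a', b', h, h', α, β, hae, has, hbe, hbs, ha'e, ha's, hb'e, hb's, comm,
    comm', ca, cb, sqS⟩ := Groth.Agent.Lib.Helper14.AS.exists_bc_chart X.2 Y.2 Y'.2 f.hom g.hom
      g'.hom f'.hom sq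
  obtain ⟨u', rfl⟩ := Groth.Agent.Lib.Helper14.AS.ofPt_surjective_of_repWith ha's x'
  have hlft : LocallyOfFiniteType h.left := hf a b h hae hbe comm
  have e1 : AlgSp.Points.map g'.hom (AlgSp.Points.ofPt a' u') = AlgSp.Points.ofPt a (α.left u') := by
    rw [AlgSp.Points.map_ofPt, ca, Groth.Agent.Lib.Helper14.AS.ofPt_yon_map_comp]
  rw [e1] at hd
  have hQ := (Groth.Agent.Lib.Helper14.AS.hasAtMor_ofPt_iff
    (Groth.Agent.Lib.Helper14.AS.etSqInv_fibreDimAt (fun e => e = d)) f.hom a b h hae hbe comm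
    (α.left u')).1 hd
  have sqL : IsPullback α.left h'.left h.left β.left := sqS.map (Over.forget S)
  have e2 := Groth.Agent.Lib.Helper21.BaseChg.fibreDimAt_eq_of_isPullback sqL u'
  exact ⟨U', V', a', b', h', u', ha'e, hb'e, comm', rfl, e2.trans hQ⟩

end Groth.Agent.S10311
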