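import Groth.Statements.S10315
import Groth.Agent.Lib.Helper14.SmoothRel
import Groth.Agent.Lib.Helper14.RelDim0

set_option autoImplicit false
universe u
open CategoryTheory CategoryTheory.Limits AlgebraicGeometry
open AlgSp

namespace Groth.Agent.S10315

/-- For a smooth morphism of locally Noetherian algebraic spaces, the dimension of X at x is the
dimension of Y at the image of x plus the relative dimension of f at x. -/
theorem result {S : Scheme.{u}} {X Y : AlgSp.Space S} (f : X ⟶ Y)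
    (hX : AlgSp.IsLocNoethSp X.obj) (hY : AlgSp.IsLocNoethSp Y.obj) (hf : AlgSp.LocP @Smooth f.hom)
    (x : AlgSp.Points X.obj) (d dX dY : WithBot ℕ∞)
    (hd : AlgSp.HasAtMor (fun _ _ h u => FlatMor.fibreDimAt h u = d) f.hom x)
    (hx : AlgSp.HasAt (fun U u => FlatMor.localDim ↥U u = dX) X.obj x)
    (hy : AlgSp.HasAt (fun U u => FlatMor.localDim ↥U u = dY) Y.obj (AlgSp.Points.map f.hom x)) :
    dX = dY + d := by
  classical
  obtain ⟨U, V, a, b, h, u, hae, hbe, comm, rfl⟩ :=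
    Groth.Agent.Lib.Helper14.AS.exists_chart_diagram_at X.2 Y.2 f.hom x
  have hs : Smooth h.left := hf a b h hae hbe comm
  obtain ⟨U', j, u', n, hj, hju, hsm⟩ :=
    Groth.Agent.Lib.Helper14.AS.exists_openImmersion_smoothOfRelDim h.left u
  let U'' : Over S := Over.mk (j ≫ U.hom)
  let jj : U'' ⟶ U := Over.homMk j rfl
  have hjj : AlgSp.RepWith @Etale ((AlgSp.yon S).map jj) :=
    (AlgSp.repWith_yon_map_iff _ _).2 (inferInstance : Etale j)
  have ha' : AlgSp.RepWith @Etale ((AlgSp.yon S).map jj ≫ a) :=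
    Groth.Agent.Lib.Helper14.AS.repWith_comp @Etale hjj hae
  have comm' : ((AlgSp.yon S).map jj ≫ a) ≫ f.hom = (AlgSp.yon S).map (jj ≫ h) ≫ b := by
    rw [Category.assoc, comm, Functor.map_comp, Category.assoc]
  have hpt' : AlgSp.Points.ofPt ((AlgSp.yon S).map jj ≫ a) u' = AlgSp.Points.ofPt a u := by
    rw [Groth.Agent.Lib.Helper14.AS.ofPt_yon_map_comp]
    exact congrArg _ hju
  have hsm' : SmoothOfRelativeDimension n (jj ≫ h).left := hsm
  have hsmooth : Smooth (jj ≫ h).left := SmoothOfRelativeDimension.smooth n _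
  have hall : ∀ w : ↥U''.left, FlatMor.fibreDimAt (jj ≫ h).left w = (n : WithBot ℕ∞) := fun w =>
    Groth.Agent.S2768.result n (jj ≫ h).left w
  have hdn : d = (n : WithBot ℕ∞) := by
    rw [← hpt'] at hd
    have := (Groth.Agent.Lib.Helper14.AS.hasAtMor_ofPt_iff
      (Groth.Agent.Lib.Helper14.AS.etSqInv_fibreDimAt (fun z => z = d)) f.hom _ b (jj ≫ h) ha' hbe
      comm' u').1 hd
    rw [← this, hall u']
  have hVN : IsLocallyNoetherian V.left :=
    Groth.Agent.Lib.Helper14.AS.isLocallyNoetherian_of_etale_over hY b hbe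
  obtain ⟨U₁, a₁, u₁, ha₁, hu₁, hdX⟩ := hx
  obtain ⟨V₁, b₁, v₁, hb₁, hv₁, hdY⟩ := hy
  have hpt : AlgSp.Points.map f.hom (AlgSp.Points.ofPt a u) =
      AlgSp.Points.ofPt b ((jj ≫ h).left u') := by
    rw [← hpt', AlgSp.Points.map_ofPt, comm', Groth.Agent.Lib.Helper14.AS.ofPt_yon_map_comp]
  have e1 : FlatMor.localDim ↥U''.left u' = dX := by
    rw [← hdX]
    exact Groth.Agent.Lib.Helper14.AS.localDim_chart_indep _ ha' a₁ ha₁ u' u₁ (hpt'.trans hu₁.symm)
  have e2 : FlatMor.localDim ↥V.left ((jj ≫ h).left u') = dY := by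
    rw [← hdY]
    exact Groth.Agent.Lib.Helper14.AS.localDim_chart_indep b hbe b₁ hb₁ _ v₁
      (hpt.symm.trans hv₁.symm)
  rw [← e1, ← e2, hdn]
  exact Groth.Agent.Lib.Helper14.AS.localDim_eq_add_of_flat_of_forall_fibreDimAt (jj ≫ h).left n
    hall u'

end Groth.Agent.S10315
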