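import Groth.Statements.S10316
import Groth.Agent.Lib.Helper14.RelDimComp

set_option autoImplicit false
universe u
open CategoryTheory CategoryTheory.Limits AlgebraicGeometry
open AlgSp

namespace Groth.Agent.S10316

/-- For X -> Y locally quasi-finite and Y -> Z locally of finite type, the transcendence degree of x
over Z equals that of its image y over Z. -/
theorem result {S : Scheme.{u}} {X Y Z : AlgSp.Space S} (f : X ⟶ Y) (g : Y ⟶ Z)
    (hf : AlgSp.LocP (@LocallyQuasiFinite ⊓ @LocallyOfFiniteType) f.hom) (hg : AlgSp.LocP @LocallyOfFiniteType g.hom)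
    (x : AlgSp.Points X.obj) (r : Cardinal.{u}) :
    AlgSp.HasAtMor (fun _ _ h u => Dual3.resTrdeg h u = r) (f ≫ g).hom x ↔
      AlgSp.HasAtMor (fun _ _ h u => Dual3.resTrdeg h u = r) g.hom (AlgSp.Points.map f.hom x) := by
  obtain ⟨U, V, W, a, b, c, h, k, u, hae, hbe, hce, commf, commg, rfl⟩ :=
    Groth.Agent.Lib.Helper14.AS.exists_comp_chart_at X.2 Y.2 Z.2 f.hom g.hom x
  have hh := hf a b h hae hbe commf
  have hlf : LocallyOfFiniteType h.left := hh.2
  have hqf : LocallyQuasiFinite h.left := hh.1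
  have hlg : LocallyOfFiniteType k.left := hg b c k hbe hce commg
  have hpt : AlgSp.Points.map f.hom (AlgSp.Points.ofPt a u) = AlgSp.Points.ofPt b (h.left u) := by
    rw [AlgSp.Points.map_ofPt, commf, Groth.Agent.Lib.Helper14.AS.ofPt_yon_map_comp]
  rw [hpt]
  have key : Dual3.resTrdeg (h ≫ k).left u = Dual3.resTrdeg k.left (h.left u) := by
    have := Groth.Agent.Lib.Helper14.AS.resTrdeg_comp h.left k.left u
    rw [Groth.Agent.Lib.Helper14.AS.resTrdeg_eq_zero_of_lqf h.left u, zero_add] at this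
    exact this
  rw [Groth.Agent.Lib.Helper14.AS.hasAtMor_ofPt_iff
    (Groth.Agent.Lib.Helper14.AS.etSqInv_resTrdeg (fun z => z = r)) (f ≫ g).hom a c (h ≫ k) hae hce
    (Groth.Agent.Lib.Helper14.AS.comp_chart_comm commf commg) u,
    Groth.Agent.Lib.Helper14.AS.hasAtMor_ofPt_iff
    (Groth.Agent.Lib.Helper14.AS.etSqInv_resTrdeg (fun z => z = r)) g.hom b c k hbe hce commg
    (h.left u), key]

end Groth.Agent.S10316
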