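import Groth.Statements.S10318
import Groth.Agent.Lib.Helper14.RelDimComp
import Groth.Agent.Lib.Helper21.FibDim14

set_option autoImplicit false
universe u
open CategoryTheory CategoryTheory.Limits AlgebraicGeometry
open AlgSp

namespace Groth.Agent.S10318

/-- Over a Jacobson algebraic space, a finite type point of a space locally of finite type over it has
transcendence degree 0 over its image. -/
theorem result {S : Scheme.{u}} {X Y : AlgSp.Space S} (f : X ⟶ Y)
    (hf : AlgSp.LocP @LocallyOfFiniteType f.hom) (hY : AlgSp.EtaleLocally (fun U => JacobsonSpace ↥U) Y.obj)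
    (x : AlgSp.Points X.obj) (hx : AlgSp.HasAt (fun U u => IsClosed ({u} : Set ↥U)) X.obj x) :
    AlgSp.HasAtMor (fun _ _ h u => Dual3.resTrdeg h u = 0) f.hom x := by
  obtain ⟨U₁, a₁, u₁, ha₁, hu₁, hcl⟩ := hx
  obtain ⟨V, b, hbe, hbs⟩ := Y.2.atlas
  have sq := hbe.rep.isPullback' (a₁ ≫ f.hom)
  have hπe : Etale (hbe.rep.snd (a₁ ≫ f.hom)).left := hbe.property_snd _
  have hπs : Surjective (hbe.rep.snd (a₁ ≫ f.hom)).left := hbs.property_snd _
  have ha' : AlgSp.RepWith @Etale ((AlgSp.yon S).map (hbe.rep.snd (a₁ ≫ f.hom)) ≫ a₁) :=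
    Groth.Agent.Lib.Helper14.AS.repWith_comp _ ((AlgSp.repWith_yon_map_iff _ _).2 hπe) ha₁
  have comm : ((AlgSp.yon S).map (hbe.rep.snd (a₁ ≫ f.hom)) ≫ a₁) ≫ f.hom =
      (AlgSp.yon S).map (hbe.rep.fst' (a₁ ≫ f.hom)) ≫ b := by
    rw [Category.assoc]; exact sq.w.symm
  have hlft : LocallyOfFiniteType (hbe.rep.fst' (a₁ ≫ f.hom)).left := hf _ b _ ha' hbe comm
  have hlqf : LocallyQuasiFinite (hbe.rep.snd (a₁ ≫ f.hom)).left :=
    Groth.Agent.Lib.Helper14.AS.etale_locallyQuasiFinite _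
  obtain ⟨u', hu'⟩ := hπs.surj u₁
  refine ⟨_, V, _, b, _, u', ha', hbe, comm, ?_, ?_⟩
  · rw [Groth.Agent.Lib.Helper14.AS.ofPt_yon_map_comp, hu', hu₁]
  · obtain ⟨z, -, hsp, hfz, htr⟩ :=
      Groth.Agent.Lib.Helper21.FibDim.exists_mem_specializes_fiber_trdeg_eq_zero
        (hbe.rep.fst' (a₁ ≫ f.hom)).left ⊤ u' trivial
    have hz1 : (hbe.rep.snd (a₁ ≫ f.hom)).left z = u₁ := by
      have h1 := hsp.map (hbe.rep.snd (a₁ ≫ f.hom)).left.continuous
      rw [hu'] at h1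
      have h2 : (hbe.rep.snd (a₁ ≫ f.hom)).left z ∈ closure ({u₁} : Set ↥U₁.left) :=
        specializes_iff_mem_closure.1 h1
      rw [hcl.closure_eq] at h2
      exact h2
    have hzu : u' = z := Groth.Agent.Lib.Helper14.AS.no_specialization_in_fibres_of_lqf
      (hbe.rep.snd (a₁ ≫ f.hom)).left z u' hsp (by rw [hu', hz1])
    rw [hzu]
    exact htr

end Groth.Agent.S10318
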