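import Groth.Statements.S10319
import Groth.Agent.Lib.Helper14.RelDimComp

set_option autoImplicit false
universe u
open CategoryTheory CategoryTheory.Limits AlgebraicGeometry
open AlgSp

namespace Groth.Agent.S10319

/-- Transcendence degrees at a point add up along a composition of morphisms locally of finite type. -/
theorem result {S : Scheme.{u}} {X Y Z : AlgSp.Space S} (f : X ⟶ Y) (g : Y ⟶ Z)
    (hf : AlgSp.LocP @LocallyOfFiniteType f.hom) (hg : AlgSp.LocP @LocallyOfFiniteType g.hom)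
    (x : AlgSp.Points X.obj) (r₁ r₂ : Cardinal.{u})
    (h1 : AlgSp.HasAtMor (fun _ _ h u => Dual3.resTrdeg h u = r₁) f.hom x)
    (h2 : AlgSp.HasAtMor (fun _ _ h u => Dual3.resTrdeg h u = r₂) g.hom (AlgSp.Points.map f.hom x)) :
    AlgSp.HasAtMor (fun _ _ h u => Dual3.resTrdeg h u = r₁ + r₂) (f ≫ g).hom x := by
  obtain ⟨U, V, W, a, b, c, h, k, u, hae, hbe, hce, commf, commg, rfl⟩ :=
    Groth.Agent.Lib.Helper14.AS.exists_comp_chart_at X.2 Y.2 Z.2 f.hom g.hom x
  have hlf : LocallyOfFiniteType h.left := hf a b h hae hbe commf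
  have hlg : LocallyOfFiniteType k.left := hg b c k hbe hce commg
  have e1 := (Groth.Agent.Lib.Helper14.AS.hasAtMor_ofPt_iff
    (Groth.Agent.Lib.Helper14.AS.etSqInv_resTrdeg (fun z => z = r₁)) f.hom a b h hae hbe commf u).1 h1
  have hpt : AlgSp.Points.map f.hom (AlgSp.Points.ofPt a u) = AlgSp.Points.ofPt b (h.left u) := by
    rw [AlgSp.Points.map_ofPt, commf, Groth.Agent.Lib.Helper14.AS.ofPt_yon_map_comp]
  rw [hpt] at h2
  have e2 := (Groth.Agent.Lib.Helper14.AS.hasAtMor_ofPt_iff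
    (Groth.Agent.Lib.Helper14.AS.etSqInv_resTrdeg (fun z => z = r₂)) g.hom b c k hbe hce commg
    (h.left u)).1 h2
  refine ⟨U, W, a, c, h ≫ k, u, hae, hce,
    Groth.Agent.Lib.Helper14.AS.comp_chart_comm commf commg, rfl, ?_⟩
  have := Groth.Agent.Lib.Helper14.AS.resTrdeg_comp h.left k.left u
  rw [e1, e2] at this
  exact this

end Groth.Agent.S10319
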