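import Groth.Statements.S1032
import Mathlib.Algebra.Homology.DerivedCategory.KInjective
import Mathlib.CategoryTheory.Functor.Derived.PointwiseRightDerived
-- import your own Groth.Agent.* helpers here

set_option autoImplicit false
universe w v v' u u'
open CategoryTheory CategoryTheory.Limits
open CohDer

namespace Groth.Agent.S1032


/-- For a K-injective complex `I`, the identity is a terminal object of the category of
costructured arrows `Qh ↓ Qh(I)`. -/
noncomputable def isTerminalMkId {A : Type u} [Category.{v} A] [Abelian A] [HasDerivedCategory.{w} A]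
    (I : CochainComplex A ℤ) [I.IsKInjective] :
    IsTerminal (CostructuredArrow.mk (S := DerivedCategory.Qh)
      (𝟙 (DerivedCategory.Qh.obj ((HomotopyCategory.quotient A (ComplexShape.up ℤ)).obj I)))) := by
  refine IsTerminal.ofUniqueHom (fun X => CostructuredArrow.homMk
    ((CochainComplex.IsKInjective.Qh_map_bijective X.left I).surjective X.hom).choose ?_) ?_
  · have := ((CochainComplex.IsKInjective.Qh_map_bijective X.left I).surjective X.hom).choose_spec
    simpa using this
  · intro X m
    ext
    apply (CochainComplex.IsKInjective.Qh_map_bijective X.left I).injective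
    have h1 := ((CochainComplex.IsKInjective.Qh_map_bijective X.left I).surjective X.hom).choose_spec
    have h2 := CostructuredArrow.w m
    simp only [CostructuredArrow.homMk_left]
    rw [h1]
    simpa using h2

/-- Let A be an abelian category in which every cochain complex admits a quasi-isomorphism to a
K-injective complex, and let F be an exact functor from the homotopy category K(A) to a
pretriangulated category. Then F has a right derived functor RF with respect to quasi-isomorphisms
(defined on D(A)), and the canonical map F(I) ⟶ RF(I) is an isomorphism for every K-injective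
complex I. -/
theorem result {A : Type u} [Category.{v} A] [Abelian A] [HasDerivedCategory.{w} A]
    (hKinj : ∀ K : CochainComplex A ℤ, ∃ (I : CochainComplex A ℤ) (f : K ⟶ I), I.IsKInjective ∧ QuasiIso f)
    {D' : Type u'} [Category.{v'} D'] [Preadditive D'] [Limits.HasZeroObject D'] [HasShift D' ℤ]
    [∀ n : ℤ, (shiftFunctor D' n).Additive] [Pretriangulated D']
    [IsTriangulated D']
    (F : HomotopyCategory A (ComplexShape.up ℤ) ⥤ D') [F.CommShift ℤ] [F.IsTriangulated] :
    F.HasRightDerivedFunctor (HomotopyCategory.quasiIso A (ComplexShape.up ℤ)) ∧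
    ∀ [F.HasRightDerivedFunctor (HomotopyCategory.quasiIso A (ComplexShape.up ℤ))] (I : CochainComplex A ℤ), I.IsKInjective →
      IsIso ((F.totalRightDerivedUnit DerivedCategory.Qh (HomotopyCategory.quasiIso A (ComplexShape.up ℤ))).app
        ((HomotopyCategory.quotient A (ComplexShape.up ℤ)).obj I)) := by
  have hI : ∀ I : CochainComplex A ℤ, I.IsKInjective →
      F.HasPointwiseRightDerivedFunctorAt (HomotopyCategory.quasiIso A (ComplexShape.up ℤ))
        ((HomotopyCategory.quotient A (ComplexShape.up ℤ)).obj I) := by
    intro I hI
    rw [F.hasPointwiseRightDerivedFunctorAt_iff DerivedCategory.Qh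
      (HomotopyCategory.quasiIso A (ComplexShape.up ℤ))]
    exact ⟨⟨⟨_, colimitOfDiagramTerminal (isTerminalMkId I) _⟩⟩⟩
  have hpt : F.HasPointwiseRightDerivedFunctor (HomotopyCategory.quasiIso A (ComplexShape.up ℤ)) := by
    intro X
    obtain ⟨K, rfl⟩ := HomotopyCategory.quotient_obj_surjective X
    obtain ⟨I, f, hI', hf⟩ := hKinj K
    rw [F.hasPointwiseRightDerivedFunctorAt_iff_of_mem (HomotopyCategory.quasiIso A (ComplexShape.up ℤ))
      ((HomotopyCategory.quotient A (ComplexShape.up ℤ)).map f)
      (by rw [HomotopyCategory.quotient_map_mem_quasiIso_iff]; exact hf)]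
    exact hI I hI'
  refine ⟨inferInstance, ?_⟩
  intro inst I hI'
  have hp := Functor.isPointwiseLeftKanExtensionOfHasPointwiseRightDerivedFunctor
    (F' := F.totalRightDerived DerivedCategory.Qh (HomotopyCategory.quasiIso A (ComplexShape.up ℤ)))
    (α := F.totalRightDerivedUnit DerivedCategory.Qh (HomotopyCategory.quasiIso A (ComplexShape.up ℤ)))
    (HomotopyCategory.quasiIso A (ComplexShape.up ℤ))
  have hc := hp (DerivedCategory.Qh.obj ((HomotopyCategory.quotient A (ComplexShape.up ℤ)).obj I))
  have h := hc.isIso_ι_app_of_isTerminal _ (isTerminalMkId I)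
  have h' : IsIso ((F.totalRightDerivedUnit DerivedCategory.Qh
      (HomotopyCategory.quasiIso A (ComplexShape.up ℤ))).app
        ((HomotopyCategory.quotient A (ComplexShape.up ℤ)).obj I) ≫
      (F.totalRightDerived DerivedCategory.Qh (HomotopyCategory.quasiIso A (ComplexShape.up ℤ))).map
        (𝟙 (DerivedCategory.Qh.obj ((HomotopyCategory.quotient A (ComplexShape.up ℤ)).obj I)))) := h
  exact IsIso.of_isIso_comp_right _
    ((F.totalRightDerived DerivedCategory.Qh (HomotopyCategory.quasiIso A (ComplexShape.up ℤ))).map
        (𝟙 (DerivedCategory.Qh.obj ((HomotopyCategory.quotient A (ComplexShape.up ℤ)).obj I))))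

end Groth.Agent.S1032
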