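import Groth.Statements.S10320
import Groth.Agent.Lib.Helper14.RelDimComp

set_option autoImplicit false
universe u
open CategoryTheory CategoryTheory.Limits AlgebraicGeometry
open AlgSp

namespace Groth.Agent.S10320

/-- For f locally of finite type, the relative dimension of f at x equals the dimension of the local
ring of the fibre at x plus the transcendence degree of x over its image. -/
theorem result {S : Scheme.{u}} {X Y : AlgSp.Space S} (f : X ⟶ Y)
    (hf : AlgSp.LocP @LocallyOfFiniteType f.hom) (x : AlgSp.Points X.obj) (d e : WithBot ℕ∞) (r : Cardinal.{u})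
    (hd : AlgSp.HasAtMor (fun _ _ h u => FlatMor.fibreDimAt h u = d) f.hom x)
    (he : AlgSp.HasAtMor (fun _ _ h u => ringKrullDim ↥((h.fiber (h u)).presheaf.stalk (h.asFiber u)) = e) f.hom x)
    (hr : AlgSp.HasAtMor (fun _ _ h u => Dual3.resTrdeg h u = r) f.hom x) :
    d = e + ((Cardinal.toENat r : ℕ∞) : WithBot ℕ∞) := by
  obtain ⟨U, V, a, b, h, u, hae, hbe, comm, rfl⟩ :=
    Groth.Agent.Lib.Helper14.AS.exists_chart_diagram_at X.2 Y.2 f.hom x
  have hlft : LocallyOfFiniteType h.left := hf a b h hae hbe comm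
  have h1 := (Groth.Agent.Lib.Helper14.AS.hasAtMor_ofPt_iff
    (Groth.Agent.Lib.Helper14.AS.etSqInv_fibreDimAt (fun z => z = d)) f.hom a b h hae hbe comm u).1 hd
  have h2 := (Groth.Agent.Lib.Helper14.AS.hasAtMor_ofPt_iff
    (Groth.Agent.Lib.Helper14.AS.etSqInv_fibreStalkDim (fun z => z = e)) f.hom a b h hae hbe comm u).1 he
  have h3 := (Groth.Agent.Lib.Helper14.AS.hasAtMor_ofPt_iff
    (Groth.Agent.Lib.Helper14.AS.etSqInv_resTrdeg (fun z => z = r)) f.hom a b h hae hbe comm u).1 hr
  obtain ⟨m, n, hm, hn, hmn⟩ := Groth.Agent.Lib.Helper21.FibDim.exists_fibreDimAt_eq_add h.left u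
  have hr' : r = (m : Cardinal.{u}) := h3.symm.trans hm
  rw [← h1, ← h2, hmn, hn, hr']
  simp only [Cardinal.toENat_nat]
  push_cast
  rw [add_comm]

end Groth.Agent.S10320
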