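import Groth.Statements.S10321
import Groth.Agent.Lib.Helper24.SlqfInd
import Groth.Agent.Lib.Helper14.AlgSpPoints
import Groth.Agent.Lib.Helper14.EtaleLQF

set_option autoImplicit false
universe u
open CategoryTheory CategoryTheory.Limits AlgebraicGeometry
open AlgSp

namespace Groth.Agent.S10321

open CategoryTheory CategoryTheory.Limits AlgebraicGeometry
open AlgSp
open Groth.Agent.Lib.Helper14.AS Groth.Agent.Lib.Helper24.Slqf Groth.Agent.Lib.Helper24

set_option backward.isDefEq.respectTransparency.types false in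
theorem core {S : Scheme.{u}} {T T' : Over S} [IsAffine T.left]
    [IsAffine T'.left] (e : T' ⟶ T) [Etale e.left] {X P V' : Sp S} (hX : IsAlgSpace X)
    (f : X ⟶ (yon S).obj T)
    (hsep : AlgSp.IsSeparatedMor f)
    (hqf : AlgSp.LocP (@LocallyQuasiFinite ⊓ @LocallyOfFiniteType) f)
    (p1 : P ⟶ (yon S).obj T') (p2 : P ⟶ X)
    (sq : IsPullback p2 p1 f ((AlgSp.yon S).map e)) (j : V' ⟶ P)
    (hj : AlgSp.RepWith @IsOpenImmersion j) (hqa : AlgSp.IsQuasiAffineMor (j ≫ p1)) :
    ∃ (W : Over S) (i : (AlgSp.yon S).obj W ⟶ X), AlgSp.RepWith @IsOpenImmersion i ∧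
      CompactSpace ↥W.left ∧
      Set.range (AlgSp.Points.map i) = Set.range (AlgSp.Points.map (j ≫ p2)) := by
  have hG : Good f := ⟨hX, hsep, hqf⟩
  obtain ⟨W₀, i₀, fst₀, sq₀, hW₀⟩ := hqa (Z := T') inferInstance (𝟙 _)
  have hfst₀ : IsIso fst₀ := by
    have := sq₀.flip
    exact MorphismProperty.of_isPullback (P := MorphismProperty.isomorphisms (Sp S)) this
      (MorphismProperty.isomorphisms.infer_property (𝟙 ((yon S).obj T')))
  have hsepe : IsSeparated e.left := inferInstance
  have hc : CompactSpace T'.left := inferInstance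
  have hlqfe : LocallyQuasiFinite e.left := etale_locallyQuasiFinite e.left
  obtain ⟨n, hbd⟩ := SlqfBd.exists_bd e.left
  let ψ : (yon S).obj W₀ ⟶ X := fst₀ ≫ j ≫ p2
  have h1 : fst₀ ≫ j ≫ p1 = (yon S).map i₀ := by
    have := sq₀.w
    rw [Category.comp_id] at this
    exact this
  have hτ : ψ ≫ f = (yon S).map i₀ ≫ (yon S).map e := by
    change (fst₀ ≫ j ≫ p2) ≫ f = _
    rw [Category.assoc, Category.assoc, sq.w, ← h1]
    simp only [Category.assoc]
  have hlift : pullback.lift ψ ((yon S).map i₀) hτ = fst₀ ≫ j ≫ sq.isoPullback.hom := by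
    apply pullback.hom_ext
    · rw [pullback.lift_fst]
      simp only [Category.assoc, IsPullback.isoPullback_hom_fst]
      rfl
    · rw [pullback.lift_snd]
      simp only [Category.assoc, IsPullback.isoPullback_hom_snd]
      exact h1.symm
  have hjj : RepWith @IsOpenImmersion (pullback.lift ψ ((yon S).map i₀) hτ) := by
    rw [hlift]
    rw [MorphismProperty.cancel_left_of_respectsIso (RepWith @IsOpenImmersion),
      MorphismProperty.cancel_right_of_respectsIso (RepWith @IsOpenImmersion)]
    exact hj
  obtain ⟨W, i, l, hi, hli, hlE, hlS⟩ := exists_open_image n e hbd f hG ψ i₀ hτ hjj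
  refine ⟨W, i, hi, ?_, ?_⟩
  · have hcW₀ : CompactSpace W₀.left := hW₀.toCompactSpace
    have hsurj : Function.Surjective l.left := l.left.surjective
    have := isCompact_range l.left.continuous
    rw [hsurj.range_eq] at this
    exact ⟨this⟩
  · have hsl : Function.Surjective (Points.map ((yon S).map l)) :=
      points_map_surjective_of_repWith ((repWith_yon_map_iff @Surjective l).2 hlS)
    have hsf : Function.Surjective (Points.map fst₀) := by
      intro y
      refine ⟨Points.map (inv fst₀) y, ?_⟩
      rw [← Points.map_comp, IsIso.inv_hom_id, Points.map_id]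
    have h1 : Points.map ψ = Points.map i ∘ Points.map ((yon S).map l) := by
      funext x
      rw [← hli, Points.map_comp]
      rfl
    have h2 : Points.map ψ = Points.map (j ≫ p2) ∘ Points.map fst₀ := by
      funext x
      change Points.map (fst₀ ≫ (j ≫ p2)) x = _
      rw [Points.map_comp]
      rfl
    rw [← hsl.range_comp, ← h1, h2, hsf.range_comp]


/-- Let X be separated and locally quasi-finite over an affine scheme T, let T' -> T be etale with T'
affine, and let V' be an open subspace of T' ×_T X that is quasi-affine over T'. Then V' maps onto a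
quasi-compact open subspace of X that is itself a scheme. -/
theorem result {S : Scheme.{u}} {T T' : Over S} [IsAffine T.left]
    [IsAffine T'.left] (e : T' ⟶ T) [Etale e.left] {X P V' : AlgSp.Space S} (f : X ⟶ (AlgSp.ofScheme S).obj T)
    (hsep : AlgSp.IsSeparatedMor f.hom) (hqf : AlgSp.LocP (@LocallyQuasiFinite ⊓ @LocallyOfFiniteType) f.hom)
    (p1 : P ⟶ (AlgSp.ofScheme S).obj T') (p2 : P ⟶ X)
    (sq : IsPullback p2.hom p1.hom f.hom ((AlgSp.yon S).map e)) (j : V' ⟶ P)
    (hj : AlgSp.RepWith @IsOpenImmersion j.hom) (hqa : AlgSp.IsQuasiAffineMor (j ≫ p1).hom) :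
    ∃ (W : Over S) (i : (AlgSp.yon S).obj W ⟶ X.obj), AlgSp.RepWith @IsOpenImmersion i ∧ CompactSpace ↥W.left ∧
      Set.range (AlgSp.Points.map i) = Set.range (AlgSp.Points.map (j ≫ p2).hom) := by
  exact core e X.property f.hom hsep hqf p1.hom p2.hom sq j.hom hj hqa

end Groth.Agent.S10321
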