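import Groth.Statements.S10322
import Mathlib

set_option autoImplicit false
universe u
open CategoryTheory CategoryTheory.Limits AlgebraicGeometry
open AlgSp

namespace Groth.Agent.S10322

theorem ringHom_unramified_quasiFinite {R T : Type u} [CommRing R] [CommRing T] (f : R →+* T)
    (h1 : f.FiniteType) (h2 : f.FormallyUnramified) : f.QuasiFinite := by
  algebraize [f]
  have : Algebra.FiniteType R T := h1
  have : Algebra.FormallyUnramified R T := h2
  exact (inferInstance : Algebra.QuasiFinite R T)

theorem unramified_locallyQuasiFinite {X Y : Scheme.{u}} (f : X ⟶ Y) (h1 : LocallyOfFiniteType f)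
    (h2 : FormallyUnramified f) : LocallyQuasiFinite f := by
  rw [HasRingHomProperty.iff_appLE (P := @LocallyQuasiFinite)]
  intro U V e
  exact ringHom_unramified_quasiFinite _
    (HasRingHomProperty.appLE (P := @LocallyOfFiniteType) _ h1 U V e)
    (HasRingHomProperty.appLE (P := @FormallyUnramified) _ h2 U V e)

/-- Unramified at a point implies quasi-finite at that point; an unramified morphism of algebraic spaces
is locally quasi-finite. -/
theorem result {S : Scheme.{u}} {X Y : AlgSp.Space S} (f : X ⟶ Y) :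
    (∀ x : AlgSp.Points X.obj, AlgSp.HasAtMor (fun U _ h u => ∃ W : U.Opens, u ∈ W ∧ LocallyOfFiniteType (W.ι ≫ h) ∧ FormallyUnramified (W.ι ≫ h)) f.hom x → AlgSp.HasAtMor (fun U _ h u => ∃ W : U.Opens, u ∈ W ∧ LocallyQuasiFinite (W.ι ≫ h) ∧ LocallyOfFiniteType (W.ι ≫ h)) f.hom x) ∧
    (AlgSp.LocP (@LocallyOfFiniteType ⊓ @FormallyUnramified) f.hom →
      AlgSp.LocP (@LocallyQuasiFinite ⊓ @LocallyOfFiniteType) f.hom) := by
  constructor
  · rintro x ⟨U, V, a, b, h, u, ha, hb, comm, hu, W, huW, h1, h2⟩
    exact ⟨U, V, a, b, h, u, ha, hb, comm, hu, W, huW, unramified_locallyQuasiFinite _ h1 h2, h1⟩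
  · intro hf U V a b h ha hb comm
    obtain ⟨h1, h2⟩ := hf a b h ha hb comm
    exact ⟨unramified_locallyQuasiFinite _ h1 h2, h1⟩

end Groth.Agent.S10322
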