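import Groth.Statements.S10325
import Groth.Agent.Lib.Helper14.CofanFin1

set_option autoImplicit false
universe u
open CategoryTheory CategoryTheory.Limits AlgebraicGeometry
open AlgSp

namespace Groth.Agent.S10325

/-- A finite disjoint union of algebraic spaces finite over Y is finite over Y. -/
theorem result {S : Scheme.{u}} {n : ℕ} (X : Fin n → AlgSp.Space S) (Y : AlgSp.Space S)
    (g : ∀ i, X i ⟶ Y) (hg : ∀ i, AlgSp.IsFiniteMor (g i).hom) (c : Cofan fun i => (X i).obj) (hc : IsColimit c)
    (d : c.pt ⟶ Y.obj) (hd : ∀ i, c.inj i ≫ d = (g i).hom) : AlgSp.IsFiniteMor d := by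
  exact Groth.Agent.Lib.Helper14.AS.isFiniteMor_of_cofan
    (Groth.Agent.Lib.Helper14.AS.isColimitCofanULift hc) (fun i => (g i.down).hom)
    (fun i => hg i.down) d (fun i => hd i.down)

end Groth.Agent.S10325
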