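import Groth.Statements.S10328
import Groth.Agent.Lib.Helper14.FibDimComp
import Groth.Agent.Lib.Helper14.RelDim0
import Groth.Agent.Lib.Helper14.RelDimComp

set_option autoImplicit false
universe u
open CategoryTheory CategoryTheory.Limits AlgebraicGeometry
open AlgSp

namespace Groth.Agent.S10328

/-- The relative dimension of a composite at a point is at most the sum of the relative dimensions, with
equality when the first morphism is flat at the point. (The published part (2) allows more generally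
flatness of a fibre of X -> Y over a field point of Z; only the case f flat at x is stated.) -/
theorem result {S : Scheme.{u}} {X Y Z : AlgSp.Space S} (f : X ⟶ Y) (g : Y ⟶ Z)
    (hf : AlgSp.LocP @LocallyOfFiniteType f.hom) (hg : AlgSp.LocP @LocallyOfFiniteType g.hom)
    (x : AlgSp.Points X.obj) (a b : WithBot ℕ∞)
    (ha : AlgSp.HasAtMor (fun _ _ h u => FlatMor.fibreDimAt h u = a) f.hom x)
    (hb : AlgSp.HasAtMor (fun _ _ h u => FlatMor.fibreDimAt h u = b) g.hom (AlgSp.Points.map f.hom x)) :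
    AlgSp.HasAtMor (fun _ _ h u => FlatMor.fibreDimAt h u ≤ a + b) (f ≫ g).hom x ∧
    (AlgSp.IsFlatAtMor f.hom x → AlgSp.HasAtMor (fun _ _ h u => FlatMor.fibreDimAt h u = a + b) (f ≫ g).hom x) := by
  classical
  obtain ⟨U, V, W, a', b', c, h, k, u, ha', hb', hc, commf, commg, rfl⟩ :=
    Groth.Agent.Lib.Helper14.AS.exists_comp_chart_at X.2 Y.2 Z.2 f.hom g.hom x
  have commfg : a' ≫ (f ≫ g).hom = (AlgSp.yon S).map (h ≫ k) ≫ c :=
    Groth.Agent.Lib.Helper14.AS.comp_chart_comm commf commg
  have hmap : AlgSp.Points.map f.hom (AlgSp.Points.ofPt a' u) = AlgSp.Points.ofPt b' (h.left u) :=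
    Groth.Agent.Lib.Helper14.AS.map_ofPt_chart f.hom a' b' h commf u
  rw [hmap] at hb
  have hh : LocallyOfFiniteType h.left := hf a' b' h ha' hb' commf
  have hk : LocallyOfFiniteType k.left := hg b' c k hb' hc commg
  have e1 := (Groth.Agent.Lib.Helper14.AS.hasAtMor_ofPt_iff
    (Groth.Agent.Lib.Helper14.AS.etSqInv_fibreDimAt (fun d => d = a)) f.hom a' b' h ha' hb' commf u).1 ha
  have e2 := (Groth.Agent.Lib.Helper14.AS.hasAtMor_ofPt_iff
    (Groth.Agent.Lib.Helper14.AS.etSqInv_fibreDimAt (fun d => d = b)) g.hom b' c k hb' hc commg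
      (h.left u)).1 hb
  refine ⟨?_, fun hfl => ?_⟩
  · rw [Groth.Agent.Lib.Helper14.AS.hasAtMor_ofPt_iff
      (Groth.Agent.Lib.Helper14.AS.etSqInv_fibreDimAt (fun d => d ≤ a + b)) (f ≫ g).hom a' c (h ≫ k)
      ha' hc commfg u]
    have := Groth.Agent.Lib.Helper21.FibDim.fibreDimAt_comp_le h.left k.left u
    rw [e1, e2] at this
    exact this
  · rw [Groth.Agent.Lib.Helper14.AS.hasAtMor_ofPt_iff
      (Groth.Agent.Lib.Helper14.AS.etSqInv_fibreDimAt (fun d => d = a + b)) (f ≫ g).hom a' c (h ≫ k)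
      ha' hc commfg u]
    have := Groth.Agent.Lib.Helper14.AS.fibreDimAt_comp_eq h.left k.left u
      (hfl a' b' h u ha' hb' commf rfl)
    rw [e1, e2] at this
    exact this

end Groth.Agent.S10328
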