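import Groth.Statements.S10329
import Groth.Agent.Lib.Helper14.LqfLocus
import Groth.Agent.Lib.Helper14.LqfField

set_option autoImplicit false
universe u
open CategoryTheory CategoryTheory.Limits AlgebraicGeometry
open AlgSp

namespace Groth.Agent.S10329

/-- If the fibre of a morphism locally of finite type has dimension 0 at a point, then the morphism is
locally quasi-finite on some open subspace containing the image of that point. -/
theorem result {S : Scheme.{u}} {X Y F : AlgSp.Space S} (f : X ⟶ Y)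
    (hf : AlgSp.LocP @LocallyOfFiniteType f.hom) (k : Type u) [Field k] (str : Spec (.of k) ⟶ S)
    (y : (AlgSp.yon S).obj (Over.mk str) ⟶ Y.obj) (p : F ⟶ X) (q : F.obj ⟶ (AlgSp.yon S).obj (Over.mk str))
    (sq : IsPullback p.hom q f.hom y) (z : AlgSp.Points F.obj)
    (hz : AlgSp.HasAt (fun U u => FlatMor.localDim ↥U u = 0) F.obj z) :
    ∃ (X' : AlgSp.Space S) (j : X' ⟶ X), AlgSp.RepWith @IsOpenImmersion j.hom ∧
      AlgSp.Points.map p.hom z ∈ Set.range (AlgSp.Points.map j.hom) ∧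
      AlgSp.LocP (@LocallyQuasiFinite ⊓ @LocallyOfFiniteType) (j ≫ f).hom := by
  obtain ⟨X', j, hj, hlqf, hout, -⟩ := Groth.Agent.Lib.Helper14.AS.lqfLocus_open_baseChange X Y f hf
  refine ⟨X', j, hj, ?_, hlqf⟩
  by_contra hnot
  have h1 := hout _ hnot
  -- the fibre dimension of `q` at `z` is zero
  have hq0 : AlgSp.HasAtMor (fun _ _ h u => FlatMor.fibreDimAt h u = 0) q z := by
    obtain ⟨T, c, t, hce, rfl, hdim⟩ := hz
    obtain ⟨g, hg⟩ := (AlgSp.yon S).map_surjective (c ≫ q)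
    refine ⟨T, Over.mk str, c, 𝟙 _, g, t, hce, AlgSp.repWith_id _ _, ?_, rfl, ?_⟩
    · rw [hg, Category.comp_id]
    · obtain ⟨O, htO, hO⟩ :=
        Groth.Agent.Lib.Helper14.AS.exists_opens_dim_le_zero_of_localDim_eq_zero _ _ hdim
      let O' : T.left.Opens := O
      have e1 := Groth.Agent.Lib.Helper14.AS.fibreDimAt_eq_zero_of_dim_le_zero
        (O'.ι ≫ g.left) hO ⟨t, htO⟩
      exact (Groth.Agent.Lib.Helper14.AS.fibreDimAt_opens_ι_comp g.left O' ⟨t, htO⟩).symm.trans e1
  have h0 := (Groth.Agent.Lib.Helper14.AS.hasAtMor_fibreDimAt_baseChange_iff X.2 Y.2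
    (AlgSp.IsAlgSpace.yon_obj _) f.hom y p.hom q sq hf (fun d => d = 0) z).1 hq0
  obtain ⟨U, V, a, b, h, u, hae, hbe, comm, hu, hq⟩ := h0
  rw [← hu] at h1
  have h2 := (Groth.Agent.Lib.Helper14.AS.hasAtMor_ofPt_iff
    (Groth.Agent.Lib.Helper14.AS.etSqInv_fibreDimAt (fun d => 1 ≤ d)) f.hom a b h hae hbe comm u).1 h1
  rw [hq] at h2
  exact absurd h2 (by decide)

end Groth.Agent.S10329
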