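import Groth.Statements.S1033
import Mathlib.Algebra.Homology.DerivedCategory.Ext.EnoughProjectives
import Mathlib.Algebra.Homology.DerivedCategory.Ext.ExactSequences
-- import your own Groth.Agent.* helpers here

set_option autoImplicit false
universe w v u
open CategoryTheory CategoryTheory.Abelian
open CohDer

namespace Groth.Agent.S1033


open HomologicalComplex DerivedCategory in
set_option backward.defeqAttrib.useBackward true in
set_option backward.isDefEq.respectTransparency false in
lemma exists_epi_aux {A : Type u} [Category.{v} A] [Abelian A]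
    {X : A} {K : CochainComplex A ℤ} {i : ℤ}
    (π : K ⟶ (CochainComplex.singleFunctor A i).obj X) [K.IsStrictlyLE i] [QuasiIsoAt π i] :
    ∃ (α : K.X i ⟶ X), Epi α ∧
      π.f i = α ≫ (singleObjXSelf (ComplexShape.up ℤ) i X).inv := by
  let e := K.iCyclesIso i (i + 1) (by simp)
    ((K.isZero_of_isStrictlyLE i (i + 1) (by simp)).eq_of_tgt _ _)
  let α := e.inv ≫ K.homologyπ i ≫ homologyMap π i ≫ (singleObjHomologySelfIso _ _ _).hom
  have : π.f i = α ≫ (singleObjXSelf (ComplexShape.up ℤ) i X).inv := by
    rw [← cancel_epi e.hom]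
    dsimp [α, e]
    rw [Category.assoc, Category.assoc, Category.assoc, iCyclesIso_hom_inv_id_assoc,
      homologyπ_naturality_assoc]
    dsimp [CochainComplex.singleFunctor, CochainComplex.singleFunctors]
    rw [homologyπ_singleObjHomologySelfIso_hom_assoc,
      ← singleObjCyclesSelfIso_inv_iCycles, Iso.hom_inv_id_assoc, ← cyclesMap_i]
  refine ⟨α, ?_, this⟩
  dsimp [α]
  infer_instance

open HomologicalComplex DerivedCategory in
set_option backward.defeqAttrib.useBackward true in
set_option backward.isDefEq.respectTransparency false in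
lemma exists_epi_comp_eq_zero_aux {A : Type u} [Category.{v} A] [Abelian A]
    [HasDerivedCategory.{w} A] {X : A}
    {L : CochainComplex A ℤ} {i : ℤ}
    (φ : Q.obj ((CochainComplex.singleFunctor A i).obj X) ⟶ Q.obj L)
    (n : ℤ) (hn : n < i) [L.IsStrictlyLE n] :
    ∃ (X' : A) (p : X' ⟶ X), Epi p ∧
      Q.map ((CochainComplex.singleFunctor A i).map p) ≫ φ = 0 := by
  obtain ⟨K, _, π, h, g, rfl⟩ := right_fac_of_isStrictlyLE φ i
  have hπ : QuasiIso π := by rwa [isIso_Q_map_iff_quasiIso] at h
  obtain ⟨α, hα, hα'⟩ := exists_epi_aux π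
  let j : (CochainComplex.singleFunctor A i).obj (K.X i) ⟶ K :=
    mkHomFromSingle (𝟙 (K.X i)) (by
      rintro _ rfl
      apply (K.isZero_of_isStrictlyLE i (i + 1) (by simp)).eq_of_tgt)
  have h₁ : j ≫ π = (CochainComplex.singleFunctor A i).map α := by
    apply HomologicalComplex.from_single_hom_ext
    rw [comp_f, mkHomFromSingle_f, Category.assoc, hα']
    dsimp [CochainComplex.singleFunctor, CochainComplex.singleFunctors]
    rw [HomologicalComplex.single_map_f_self]
    simp
  have h₂ : j ≫ g = 0 := by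
    apply HomologicalComplex.from_single_hom_ext
    apply (L.isZero_of_isStrictlyLE n i hn).eq_of_tgt
  refine ⟨K.X i, α, hα, ?_⟩
  rw [← h₁, Q.map_comp, Category.assoc, IsIso.hom_inv_id_assoc, ← Q.map_comp, h₂, Q.map_zero]

open DerivedCategory in
set_option backward.isDefEq.respectTransparency false in
lemma exists_epi_comp_eq_zero {A : Type u} [Category.{v} A] [Abelian A] [HasExt.{w} A]
    {X Y : A} {n : ℕ} (e : Ext X Y (n + 1)) :
    ∃ (X' : A) (p : X' ⟶ X), Epi p ∧ (Ext.mk₀ p).comp e (zero_add _) = 0 := by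
  let := HasDerivedCategory.standard A
  obtain ⟨X', p, hp, h⟩ := exists_epi_comp_eq_zero_aux
    (L := (CochainComplex.singleFunctor A (-(n + 1))).obj Y) (i := 0) (X := X)
    (e.hom ≫ ((singleFunctors A).shiftIso (n + 1) (-(n + 1)) 0 (by lia)).hom.app _)
    (-(n + 1)) (by lia)
  refine ⟨X', p, hp, ?_⟩
  apply Ext.homEquiv.injective
  rw [← cancel_mono (((singleFunctors A).shiftIso (n + 1) (-(n + 1)) 0
    (by lia)).hom.app _)]
  simp only [Ext.zero_hom, Limits.zero_comp]
  rw [← h]
  show (Ext.comp (Ext.mk₀ p) e _).hom ≫ _ = _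
  rw [Ext.comp_hom, Ext.mk₀_hom, ShiftedHom.mk₀_comp, Category.assoc]
  rfl

/-- Let A be an abelian category (with Ext groups in some universe) and p ≥ 0. If Extᵖ(B, C) = 0 for all
objects B, C, then Extⁱ(B, C) = 0 for all i ≥ p and all B, C. -/
theorem result {A : Type u} [Category.{v} A] [Abelian A] [HasExt.{w} A] (p : ℕ)
    (h : ∀ (B C : A) (x : Ext B C p), x = 0) (i : ℕ) (hi : p ≤ i) (B C : A) (x : Ext B C i) : x = 0 := by
  obtain ⟨k, rfl⟩ := Nat.exists_eq_add_of_le hi
  clear hi
  induction k generalizing B C with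
  | zero => exact h B C x
  | succ k ih =>
    obtain ⟨X', π, hπ, hx⟩ := exists_epi_comp_eq_zero (n := p + k) x
    have hS : (ShortComplex.mk (Limits.kernel.ι π) π (Limits.kernel.condition π)).ShortExact :=
      { exact := ShortComplex.exact_kernel π }
    obtain ⟨x₁, rfl⟩ := Ext.contravariant_sequence_exact₃ hS C x hx (n₀ := p + k) (by lia)
    rw [ih _ _ x₁, Ext.comp_zero]

end Groth.Agent.S1033
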