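import Groth.Statements.S10333
import Groth.Agent.S10192
import Groth.Agent.S10193
import Groth.Agent.Lib.Helper14.IntFinRep
import Groth.Agent.Lib.Helper14.AlgSpImm
import Groth.Agent.Lib.Helper14.AlgSpBasic2
import Groth.Agent.Lib.Helper28.AlgSpIntegral

set_option autoImplicit false
universe u
open CategoryTheory CategoryTheory.Limits AlgebraicGeometry
open AlgSp

namespace Groth.Agent.S10333

/-- Let f : Y -> X be a morphism of algebraic spaces over S that is quasi-compact and quasi-separated,
and X' -> X the normalization of X in Y (an integral morphism through which f factors, initial among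
such factorizations). If Y is reduced then X' is reduced. -/
theorem result {S : Scheme.{u}} {Y X X' : AlgSp.Space S} (f : Y ⟶ X)
    (hqc : AlgSp.IsQuasiCompactMor f.hom) (hqs : AlgSp.IsQuasiSeparatedMor f.hom) (ν : X' ⟶ X) (f' : Y ⟶ X')
    (hn : AlgSp.IsRelNormalization f.hom ν.hom f'.hom) (hY : AlgSp.IsReducedSp Y.obj) :
    AlgSp.IsReducedSp X'.obj := by
  classical
  open Groth.Agent.Lib.Helper14.AS in
  obtain ⟨hfac, hνi, huniv⟩ := hn
  -- the reduction of X'
  obtain ⟨Z, i, hi, hrange, hZred⟩ := Groth.Agent.S10192.result X' Set.univ isClosed_univ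
  -- f' factors through Z
  obtain ⟨g, hg⟩ := (Groth.Agent.S10193.result i hi hY f').2 (by
    rw [hrange]; exact Set.subset_univ _)
  -- i is integral
  have hi_int : AlgSp.IsIntegralMor i.hom :=
    (integral_finite_iff_repWith i).1.2
      (repWith_mono (fun _ _ φ hφ => by
        have : IsClosedImmersion φ := hφ
        show IsIntegralHom φ
        infer_instance) hi)
  have hiν : AlgSp.IsIntegralMor (i.hom ≫ ν.hom) :=
    Groth.Agent.Lib.Helper28.AlgSpIntegral.isIntegralMor_comp _ _ hi_int hνi
  have hgeq : g.hom ≫ i.hom = f'.hom := congrArg (fun m => m.hom) hg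
  -- universal property gives h : X' ⟶ Z
  obtain ⟨h, ⟨hh1, hh2⟩, -⟩ := huniv Z.property (i.hom ≫ ν.hom) g.hom hiν (by
    rw [← Category.assoc, hgeq, hfac])
  -- uniqueness for Z := X'
  obtain ⟨k, -, hkuniq⟩ := huniv X'.property ν.hom f'.hom hνi hfac
  have e1 : h ≫ i.hom = k := hkuniq _ ⟨by rw [← Category.assoc, hh1, hgeq], by
    rw [Category.assoc, hh2]⟩
  have e2 : 𝟙 _ = k := hkuniq _ ⟨Category.comp_id _, Category.id_comp _⟩
  have hsplit : h ≫ i.hom = 𝟙 _ := e1.trans e2.symm
  have hmono : Mono i.hom := mono_of_repWith_mono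
    (repWith_mono (isClosedImmersion_le_isImmersion.trans immersion_le_mono) hi)
  have hiso : IsIso i.hom := by
    refine ⟨h, ?_, hsplit⟩
    rw [← cancel_mono i.hom, Category.assoc, hsplit, Category.comp_id, Category.id_comp]
  obtain ⟨U, p, hpe, hps, hU⟩ := hZred
  refine ⟨U, p ≫ i.hom, ?_, ?_, hU⟩
  · exact repWith_comp _ hpe (repWith_of_isIso _ _)
  · exact repWith_comp _ hps (repWith_of_isIso _ _)

end Groth.Agent.S10333
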