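import Groth.Statements.S10335
import Groth.Agent.Lib.Helper14.FibBC1
import Groth.Agent.Lib.Helper14.BCChart
import Groth.Agent.Lib.Helper14.LqfLocus

set_option autoImplicit false
universe u
open CategoryTheory CategoryTheory.Limits AlgebraicGeometry
open AlgSp

namespace Groth.Agent.S10335

/-- In a base change square of algebraic spaces with f : X -> Y locally of finite type and f' : X' -> Y'
its base change along g : Y' -> Y, take a point x' of X' over x. The fibre of f' has a local ring at
x' whose dimension exceeds the corresponding dimension for the fibre of f at x by exactly the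
transcendence degree of x over f(x) minus that of x' over f'(x'), and this excess is never negative;
and for x in X and y' in Y' over the same point of Y some x' over both has excess zero. All four
quantities are read on some chart diagram through the point. -/
theorem result {S : Scheme.{u}} {X Y Y' X' : AlgSp.Space S} (f : X ⟶ Y) (g : Y' ⟶ Y)
    (g' : X' ⟶ X) (f' : X' ⟶ Y') (sq : IsPullback g'.hom f'.hom f.hom g.hom)
    (hf : AlgSp.LocP @LocallyOfFiniteType f.hom) :
    (∀ (x' : AlgSp.Points X'.obj) (e e' : WithBot ℕ∞) (r r' : Cardinal.{u}),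
      AlgSp.HasAtMor (fun _ _ h u => ringKrullDim ↥((h.fiber (h u)).presheaf.stalk (h.asFiber u)) = e) f.hom
          (AlgSp.Points.map g'.hom x') →
      AlgSp.HasAtMor (fun _ _ h u => Dual3.resTrdeg h u = r) f.hom (AlgSp.Points.map g'.hom x') →
      AlgSp.HasAtMor (fun _ _ h u => ringKrullDim ↥((h.fiber (h u)).presheaf.stalk (h.asFiber u)) = e') f'.hom x' →
      AlgSp.HasAtMor (fun _ _ h u => Dual3.resTrdeg h u = r') f'.hom x' →
        e' + ((Cardinal.toENat r' : ℕ∞) : WithBot ℕ∞) = e + ((Cardinal.toENat r : ℕ∞) : WithBot ℕ∞) ∧ e ≤ e') ∧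
    (∀ (x : AlgSp.Points X.obj) (y' : AlgSp.Points Y'.obj) (e : WithBot ℕ∞),
      AlgSp.Points.map f.hom x = AlgSp.Points.map g.hom y' →
      AlgSp.HasAtMor (fun _ _ h u => ringKrullDim ↥((h.fiber (h u)).presheaf.stalk (h.asFiber u)) = e) f.hom x →
        ∃ x' : AlgSp.Points X'.obj, AlgSp.Points.map g'.hom x' = x ∧ AlgSp.Points.map f'.hom x' = y' ∧
          AlgSp.HasAtMor (fun _ _ h u => ringKrullDim ↥((h.fiber (h u)).presheaf.stalk (h.asFiber u)) = e)
            f'.hom x') := by
  obtain ⟨U, V, U', V', a, b, a', b', h, h', α, β, hae, has, hbe, hbs, ha'e, ha's, hb'e, hb's, comm,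
    comm', ca, cb, sqS⟩ := Groth.Agent.Lib.Helper14.AS.exists_bc_chart X.2 Y.2 Y'.2 f.hom g.hom
      g'.hom f'.hom sq
  have hlft : LocallyOfFiniteType h.left := hf a b h hae hbe comm
  have sqL : IsPullback α.left h'.left h.left β.left := sqS.map (Over.forget S)
  have hlft' : LocallyOfFiniteType h'.left := MorphismProperty.of_isPullback sqL hlft
  have e1 : ∀ w, Points.map g'.hom (Points.ofPt a' w) = Points.ofPt a (α.left w) := by
    intro w
    rw [Points.map_ofPt, ca, Groth.Agent.Lib.Helper14.AS.ofPt_yon_map_comp]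
  have e2 : ∀ w, Points.map f'.hom (Points.ofPt a' w) = Points.ofPt b' (h'.left w) := by
    intro w
    rw [Points.map_ofPt, comm', Groth.Agent.Lib.Helper14.AS.ofPt_yon_map_comp]
  refine ⟨?_, ?_⟩
  · intro x' e e' r r' he hr he' hr'
    obtain ⟨u', rfl⟩ := Groth.Agent.Lib.Helper14.AS.ofPt_surjective_of_repWith ha's x'
    rw [e1] at he hr
    have he0 := (Groth.Agent.Lib.Helper14.AS.hasAtMor_ofPt_iff
      (Groth.Agent.Lib.Helper14.AS.etSqInv_fibreStalkDim (fun c => c = e)) f.hom a b h hae hbe comm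
      (α.left u')).1 he
    have hr0 := (Groth.Agent.Lib.Helper14.AS.hasAtMor_ofPt_iff
      (Groth.Agent.Lib.Helper14.AS.etSqInv_resTrdeg (fun c => c = r)) f.hom a b h hae hbe comm
      (α.left u')).1 hr
    have he'0 := (Groth.Agent.Lib.Helper14.AS.hasAtMor_ofPt_iff
      (Groth.Agent.Lib.Helper14.AS.etSqInv_fibreStalkDim (fun c => c = e')) f'.hom a' b' h' ha'e hb'e
      comm' u').1 he'
    have hr'0 := (Groth.Agent.Lib.Helper14.AS.hasAtMor_ofPt_iff
      (Groth.Agent.Lib.Helper14.AS.etSqInv_resTrdeg (fun c => c = r')) f'.hom a' b' h' ha'e hb'e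
      comm' u').1 hr'
    obtain ⟨A, B, hA, hB, hAB⟩ :=
      Groth.Agent.Lib.Helper21.FibDim.exists_fibreDimAt_eq_add h.left (α.left u')
    obtain ⟨A', B', hA', hB', hAB'⟩ :=
      Groth.Agent.Lib.Helper21.FibDim.exists_fibreDimAt_eq_add h'.left u'
    have hdim := Groth.Agent.Lib.Helper21.BaseChg.fibreDimAt_eq_of_isPullback sqL u'
    rw [hAB, hAB'] at hdim
    have hnat : A' + B' = A + B := by exact_mod_cast hdim
    have hle := Groth.Agent.Lib.Helper14.AS.fibreStalkDim_le_of_isPullback sqL u'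
    rw [hB, hB'] at hle
    have hBB : B ≤ B' := by exact_mod_cast hle
    have hr1 : r = (A : Cardinal.{u}) := by
      rw [← hr0]
      unfold Dual3.resTrdeg
      exact hA
    have hr'1 : r' = (A' : Cardinal.{u}) := by
      rw [← hr'0]
      unfold Dual3.resTrdeg
      exact hA'
    have he1 : e = (B : WithBot ℕ∞) := by rw [← he0]; exact hB
    have he'1 : e' = (B' : WithBot ℕ∞) := by rw [← he'0]; exact hB'
    rw [hr1, hr'1, he1, he'1, Cardinal.toENat_nat, Cardinal.toENat_nat]
    refine ⟨?_, by exact_mod_cast hBB⟩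
    have : B' + A' = B + A := by omega
    exact_mod_cast this
  · intro x y' e hxy he
    obtain ⟨x'₀, hx1, hx2⟩ := Groth.Agent.Lib.Helper14.AS.points_exists_of_isPullback sq x y' hxy
    obtain ⟨u'₀, rfl⟩ := Groth.Agent.Lib.Helper14.AS.ofPt_surjective_of_repWith ha's x'₀
    rw [e1] at hx1
    rw [e2] at hx2
    subst hx1
    have he0 := (Groth.Agent.Lib.Helper14.AS.hasAtMor_ofPt_iff
      (Groth.Agent.Lib.Helper14.AS.etSqInv_fibreStalkDim (fun c => c = e)) f.hom a b h hae hbe comm
      (α.left u'₀)).1 he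
    have hpt : h.left (α.left u'₀) = β.left (h'.left u'₀) := by
      rw [← Scheme.Hom.comp_apply, ← Scheme.Hom.comp_apply, sqL.w]
    obtain ⟨w, hw1, hw2, hw3⟩ :=
      Groth.Agent.Lib.Helper14.AS.exists_fibreStalkDim_eq_of_isPullback sqL (α.left u'₀)
        (h'.left u'₀) hpt
    refine ⟨Points.ofPt a' w, ?_, ?_, ?_⟩
    · rw [e1, hw1]
    · rw [e2, hw2, hx2]
    · apply (Groth.Agent.Lib.Helper14.AS.hasAtMor_ofPt_iff
        (Groth.Agent.Lib.Helper14.AS.etSqInv_fibreStalkDim (fun c => c = e)) f'.hom a' b' h' ha'e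
        hb'e comm' w).2
      exact hw3.trans he0

end Groth.Agent.S10335
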