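import Groth.Statements.S10336
import Groth.Agent.Lib.Helper24.ZarCoverLocal
import Groth.Agent.Lib.Helper24.FinLocFreeDesc

set_option autoImplicit false
universe u
open CategoryTheory CategoryTheory.Limits AlgebraicGeometry
open AlgSp

namespace Groth.Agent.S10336

open CategoryTheory CategoryTheory.Limits AlgebraicGeometry
open AlgSp
open Groth.Agent.Lib.Helper24.ZarCoverLocal Groth.Agent.Lib.Helper24.FinLocFreeDesc
open Groth.Agent.Lib.Helper24.ZarGlueRep

set_option backward.isDefEq.respectTransparency.types false in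
lemma zl_integral : IsZariskiLocalAtTarget @IsIntegralHom.{u} := inferInstance

set_option backward.isDefEq.respectTransparency.types false in
lemma zl_finite : IsZariskiLocalAtTarget @IsFinite.{u} := inferInstance


/-- Integrality, finiteness and finite local freeness of a morphism f : X -> Y of algebraic spaces over
S can be checked on the restrictions of f over the members of a Zariski covering of Y by open
subspaces. -/
theorem result {S : Scheme.{u}} {X Y : AlgSp.Space S} (f : X ⟶ Y) {ι : Type u}
    (Yi : ι → AlgSp.Space S) (j : ∀ i, Yi i ⟶ Y) (hj : AlgSp.IsZarCover (fun i => (Yi i).obj) (fun i => (j i).hom))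
    (Xi : ι → AlgSp.Sp S) (p : ∀ i, Xi i ⟶ X.obj) (q : ∀ i, Xi i ⟶ (Yi i).obj)
    (sq : ∀ i, IsPullback (p i) (q i) f.hom (j i).hom) :
    ((∀ i, AlgSp.IsIntegralMor (q i)) → AlgSp.IsIntegralMor f.hom) ∧
    ((∀ i, AlgSp.IsFiniteMor (q i)) → AlgSp.IsFiniteMor f.hom) ∧
    ((∀ i, AlgSp.IsFinLocFreeMor (q i)) → AlgSp.IsFinLocFreeMor f.hom) := by
  refine ⟨fun h Z hZ g => ?_, fun h Z hZ g => ?_, fun h => ?_⟩
  · have := zl_integral.{u}
    obtain ⟨W, i, fst, hpb, hi⟩ := affine_test_of_zarCover @IsIntegralHom f.hom _ _ hj Xi p q sq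
      (fun i Z' hZ' g' => by
        obtain ⟨W', r, fst', h1, _, h3⟩ := h i hZ' g'
        exact ⟨W', r, fst', h1, h3⟩) g
    have : IsIntegralHom i.left := hi
    have : IsAffine Z.left := hZ
    exact ⟨W, i, fst, hpb, isAffine_of_isAffineHom i.left, hi⟩
  · have := zl_finite.{u}
    obtain ⟨W, i, fst, hpb, hi⟩ := affine_test_of_zarCover @IsFinite f.hom _ _ hj Xi p q sq
      (fun i Z' hZ' g' => by
        obtain ⟨W', r, fst', h1, _, h3⟩ := h i hZ' g'
        exact ⟨W', r, fst', h1, h3⟩) g
    have : IsFinite i.left := hi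
    have : IsAffine Z.left := hZ
    exact ⟨W, i, fst, hpb, isAffine_of_isAffineHom i.left, hi⟩
  · apply repWith_of_affine_local
    intro Z hZ g
    exact affine_test_of_zarCover AlgSp.finLocFree f.hom _ _ hj Xi p q sq
      (fun i Z' hZ' g' => by
        have hrep := (h i).rep
        exact ⟨_, hrep.snd g', _, hrep.isPullback g', (h i).property g' _ _ (hrep.isPullback g')⟩) g

end Groth.Agent.S10336
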