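import Groth.Statements.S10344
import Groth.Agent.Lib.Helper14.AlgSpFibrePt

set_option autoImplicit false
universe u
open CategoryTheory CategoryTheory.Limits AlgebraicGeometry Topology TopologicalSpace
open AlgSp

namespace Groth.Agent.S10344

open AlgSp Groth.Agent.Lib.Helper14.AS in

/-- Let S be a scheme, Y and X algebraic spaces over S, and f : Y ⟶ X a flat morphism, and let x' ⤳ x be
a specialization in |X|, where x' is represented by a monomorphism Spec k ⟶ X which is representable
quasi-compact (for instance X decent). Then generalizations lift along f at x: every y ∈ |Y| over x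
has a generization y' over x'. -/
theorem result {S : Scheme.{u}} {X Y : AlgSp.Space S} (f : Y ⟶ X)
    (hf : AlgSp.LocP @Flat f.hom) (x x' : AlgSp.Points X.obj) (h : x' ⤳ x)
    (hx' : ∃ p : AlgSp.FieldPt X.obj, AlgSp.Points.mk p = x' ∧ Mono p.toHom ∧ AlgSp.RepWith @QuasiCompact p.toHom)
    (y : AlgSp.Points Y.obj) (hy : AlgSp.Points.map f.hom y = x) :
    ∃ y' : AlgSp.Points Y.obj, y' ⤳ y ∧ AlgSp.Points.map f.hom y' = x' := by
  obtain ⟨p, rfl, -, hq⟩ := hx'
  obtain ⟨U, a, hae, has⟩ := X.property.atlas
  obtain ⟨V, b, k, hbe, hbs, comm⟩ := exists_chart_diagram Y.property f.hom a hae has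
  have hk : Flat k.left := hf b a k hbe hae comm
  obtain ⟨v, rfl⟩ := ofPt_surjective_of_repWith hbs y
  have hu : Points.ofPt a (k.left v) = x := by
    rw [← hy, Points.map_ofPt, comm, ofPt_yon_map_comp]
  subst hu
  obtain ⟨u', hu's, hu'⟩ := exists_generization_of_chart a hae p hq (k.left v) h
  obtain ⟨v', hv's, hv'⟩ := (Flat.generalizingMap k.left) hu's
  refine ⟨Points.ofPt b v', hv's.map (Points.continuous_ofPt b), ?_⟩
  rw [Points.map_ofPt, comm, ofPt_yon_map_comp, hv', hu']

end Groth.Agent.S10344
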