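import Groth.Statements.S10353
import Groth.Agent.S10337
import Groth.Agent.Lib.Helper14.AlgSpQcEtDesc
import Groth.Agent.Lib.Helper14.AlgSpDecent2
import Groth.Agent.Lib.Helper14.AlgSpQCMor
import Groth.Agent.Lib.Helper14.FpqcBase4

set_option autoImplicit false
universe u
open CategoryTheory CategoryTheory.Limits AlgebraicGeometry Topology TopologicalSpace
open AlgSp

namespace Groth.Agent.S10353

open CategoryTheory CategoryTheory.Limits AlgebraicGeometry Opposite AlgSp
open Groth.Agent.Lib.Helper14.AS

theorem isFinite_le_quasiCompact :
    (@IsFinite : MorphismProperty Scheme.{u}) ≤ @QuasiCompact :=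
  fun _ _ _ h => by have := h; infer_instance


/-- Let X be an algebraic space over a scheme S and suppose there is a finite, etale, surjective map h_U
⟶ X from a scheme U. Then some dense open subspace of X is a scheme: an open subspace X' ⟶ X with
representable underlying sheaf and |X'| dense in |X|. -/
theorem result {S : Scheme.{u}} (X : AlgSp.Space S)
    {U : Over S} (a : (AlgSp.yon S).obj U ⟶ X.obj) (hf : AlgSp.RepWith @IsFinite a) (he : AlgSp.RepWith @Etale a)
    (hs : AlgSp.RepWith @Surjective a) :
    ∃ (X' : AlgSp.Space S) (j : X' ⟶ X), AlgSp.RepWith @IsOpenImmersion j.hom ∧ X'.obj.obj.IsRepresentable ∧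
      Dense (Set.range (AlgSp.Points.map j.hom)) := by
  have hq : IsQuasiCompactMor a :=
    (repWith_quasiCompact_iff_isQuasiCompactMor he.rep).1 (repWith_mono isFinite_le_quasiCompact hf)
  have hX : IsDecent X.obj :=
    isDecent_of_qc_etale_surjective (IsAlgSpace.yon_obj U) X.property a hq
      (isEtaleMor_of_repWith_etale he) (points_map_surjective_of_repWith hs) (isDecent_yon U)
  exact Groth.Agent.S10337.result X hX

end Groth.Agent.S10353
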