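import Groth.Statements.S10354
import Groth.Agent.Lib.Helper24.QSNoeth2

set_option autoImplicit false
universe u
open CategoryTheory CategoryTheory.Limits AlgebraicGeometry Topology TopologicalSpace
open AlgSp

namespace Groth.Agent.S10354

open CategoryTheory CategoryTheory.Limits AlgebraicGeometry Opposite
open AlgSp Groth.Agent.Lib.Helper14.AS Groth.Agent.Lib.Helper24.QSNoeth


/-- A locally Noetherian decent algebraic space X over a scheme S is quasi-separated over S (its
diagonal X ⟶ X ×_S X is representable quasi-compact). (The published statement concludes
quasi-separatedness in the absolute sense, i.e. for the diagonal over the integers; this row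
concludes the relative notion over S, which the absolute one implies.) -/
theorem result {S : Scheme.{u}} (X : AlgSp.Space S)
    (hN : AlgSp.IsLocNoethSp X.obj) (hX : AlgSp.IsDecent X.obj) : AlgSp.IsQuasiSeparatedSp X.obj := by
  -- step 1: affine étale chart against an arbitrary affine
  have step1 : ∀ (V' U P : Over S) (b' : (yon S).obj V' ⟶ X.obj) (a : (yon S).obj U ⟶ X.obj)
      (fst : P ⟶ V') (snd : P ⟶ U), IsAffine V'.left → IsAffine U.left → RepWith @Etale b' →
      IsPullback ((yon S).map fst) ((yon S).map snd) b' a → CompactSpace ↥P.left := by
    intro V' U P b' a fst snd hV' hU hbe sq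
    refine compactSpace_pullback_of_charts X.property b' ?_ a fst snd sq
    intro V'' P'' b'' f'' s'' hV'' hbe'' sq''
    exact compactSpace_pullback_of_decent X hN hX b'' b' hbe'' hbe f'' s'' sq''
  refine isQuasiSeparatedSp_of_affine_pullback_compact X.property
    fun U V P a b fst snd hU hV sq => ?_
  refine compactSpace_pullback_of_charts X.property a ?_ b fst snd sq
  intro V' P' b' f' s' hV' hbe' sq'
  exact step1 V' U P' b' a s' f' hV' hU hbe' sq'.flip

end Groth.Agent.S10354
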