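import Groth.Statements.S10355
import Groth.Agent.S10337
import Groth.Agent.Lib.Helper8.AlgSpOpen

set_option autoImplicit false
universe u
open CategoryTheory CategoryTheory.Limits AlgebraicGeometry Topology TopologicalSpace
open AlgSp

namespace Groth.Agent.S10355

open CategoryTheory CategoryTheory.Limits AlgebraicGeometry Opposite AlgSp


/-- A decent algebraic space X over a scheme S whose space of points is a single point is a scheme (the
underlying sheaf of X is representable). -/
theorem result {S : Scheme.{u}} (X : AlgSp.Space S)
    (hX : AlgSp.IsDecent X.obj) [Nonempty (AlgSp.Points X.obj)] [Subsingleton (AlgSp.Points X.obj)] :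
    X.obj.obj.IsRepresentable := by
  obtain ⟨X', j, hjo, hrep, hd⟩ := Groth.Agent.S10337.result X hX
  obtain ⟨_, ⟨z, rfl⟩⟩ := hd.nonempty
  have hsurj : Function.Surjective (Points.map j.hom) := fun y => ⟨z, Subsingleton.elim _ _⟩
  have hiso : IsIso j.hom :=
    Groth.Agent.Lib.Helper8.AlgSpOpen.isIso_of_openImmersion_of_isSurjectiveMor j.hom hjo hsurj
  obtain ⟨V', ⟨r⟩⟩ := hrep.has_representation
  let e : (yon S).obj V' ≅ X'.obj := isoOfRepresentableBy r
  exact (representableByOfIso (e ≪≫ asIso j.hom)).isRepresentable

end Groth.Agent.S10355
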