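import Groth.Statements.S10369
import Groth.Agent.Lib.Helper14.AlgSpOnePt

set_option autoImplicit false
universe u
open CategoryTheory CategoryTheory.Limits AlgebraicGeometry Topology TopologicalSpace
open AlgSp

namespace Groth.Agent.S10369

open AlgSp Groth.Agent.Lib.Helper14.AS in

/-- Let S be a scheme, Z' and Z algebraic spaces over S, and Z' ⟶ Z a monomorphism, and suppose there is
a locally finitely presented, flat, surjective morphism Spec k ⟶ Z from the spectrum of a field.
Then Z' is empty or Z' ⟶ Z is an isomorphism. -/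
theorem result {S : Scheme.{u}} {Z' Z : AlgSp.Space S} (f : Z' ⟶ Z)
    [Mono f.hom]
    (hZ : ∃ (k : Type u) (_ : Field k) (str : Spec (CommRingCat.of k) ⟶ S) (p : (AlgSp.yon S).obj (Over.mk str) ⟶ Z.obj),
        AlgSp.LocP @LocallyOfFinitePresentation p ∧ AlgSp.LocP @Flat p ∧ AlgSp.IsSurjectiveMor p) :
    IsEmpty (AlgSp.Points Z'.obj) ∨ IsIso f := by
  obtain ⟨k, _, str, p, h1, h2, h3⟩ := hZ
  by_cases hne : Nonempty (AlgSp.Points Z'.obj)
  · right
    have h : IsIso f.hom :=
      isIso_of_mono_of_fppf_field_cover Z'.property Z.property f.hom str p h1 h2 h3 hne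
    have : IsIso ((ObjectProperty.ι _).map f) := h
    exact isIso_of_reflects_iso f (ObjectProperty.ι _)
  · left; exact not_nonempty_iff.1 hne

end Groth.Agent.S10369
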