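import Groth.Statements.S10374
import Groth.Agent.Lib.Helper24.ElemNbhd
import Groth.Agent.Lib.Helper24.OpenSubSp
import Groth.Agent.Lib.Helper14.AlgSpDecent

set_option autoImplicit false
universe u
open CategoryTheory CategoryTheory.Limits AlgebraicGeometry Topology TopologicalSpace
open AlgSp

namespace Groth.Agent.S10374

open CategoryTheory CategoryTheory.Limits AlgebraicGeometry Opposite AlgSp
open Groth.Agent.Lib.Helper14.AS Groth.Agent.Lib.Helper24.Filt8 Groth.Agent.Lib.Helper24.ElemNbhd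
open Groth.Agent.Lib.Helper24.OpenSubSp Groth.Agent.Lib.Helper24.ZarGlue

/-- an affine etale chart through a point, surjective onto an open subspace -/
theorem exists_open_with_affine_chart {S : Scheme.{u}} (X : AlgSp.Space S) (x : AlgSp.Points X.obj) :
    ∃ (X₀ : Space S) (ι₀ : X₀ ⟶ X) (U : Over S) (a₀ : (yon S).obj U ⟶ X₀.obj),
      RepWith @IsOpenImmersion ι₀.hom ∧ IsAffine U.left ∧ RepWith @Etale a₀ ∧
      RepWith @Surjective a₀ ∧ x ∈ Set.range (Points.map ι₀.hom) := by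
  obtain ⟨U₁, a₁, ha₁e, ha₁s⟩ := X.property.atlas
  obtain ⟨u₁, hu₁⟩ := ofPt_surjective_of_repWith ha₁s x
  obtain ⟨A, hA, hu₁A, -⟩ := exists_isAffineOpen_mem_and_subset (x := u₁) (U := ⊤) trivial
  have hUaff : IsAffine (resOpen U₁ A).left := hA
  obtain ⟨U, a, hUaff', hae, u, hu⟩ : ∃ (U : Over S) (a : (yon S).obj U ⟶ X.obj),
      IsAffine U.left ∧ RepWith @Etale a ∧ ∃ u : U.left, Points.ofPt a u = x := by
    refine ⟨resOpen U₁ A, (yon S).map (resOpenι U₁ A) ≫ a₁, hUaff,
      repWith_comp _ ((repWith_yon_map_iff _ _).2 (inferInstanceAs (Etale A.ι))) ha₁e,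
      ⟨u₁, hu₁A⟩, ?_⟩
    rw [ofPt_yon_map_comp]
    exact hu₁
  have hOo : IsOpen (Set.range (Points.ofPt a)) := (isOpenMap_ofPt a hae).isOpen_range
  obtain ⟨X₀, ι₀, hιo, hιr⟩ : ∃ (X₀ : Space S) (ι₀ : X₀ ⟶ X), RepWith @IsOpenImmersion ι₀.hom ∧
      Set.range (Points.map ι₀.hom) = Set.range (Points.ofPt a) :=
    ⟨⟨(openPred (Set.range (Points.ofPt a))).sheaf, isAlgSpace_openPred X.property hOo⟩,
      ObjectProperty.homMk (openPred (Set.range (Points.ofPt a))).ι, repWith_openPred hOo,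
      range_openPred hOo⟩
  have hιm : Mono ι₀.hom := mono_of_openImmersion hιo
  have hιinj := injective_of_openImmersion hιo
  obtain ⟨a₀, ha₀⟩ := Groth.Agent.Lib.Helper8.AlgSpOpen.exists_factor_of_range_subset ι₀.hom hιo a
    (by rw [hιr, Groth.Agent.Lib.Helper8.AlgSpPres.range_points_map_yon])
  have sqa : IsPullback (𝟙 _) a₀ a ι₀.hom := by
    have sq := isPullback_of_factor_mono a₀ ι₀.hom
    rw [ha₀] at sq
    exact sq
  have ha₀e : RepWith @Etale a₀ := repWith_of_isPullback _ sqa hae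
  have ha₀surj : Function.Surjective (Points.map a₀) := by
    intro y
    have hy : Points.map ι₀.hom y ∈ Set.range (Points.map a) := by
      rw [Groth.Agent.Lib.Helper8.AlgSpPres.range_points_map_yon, ← hιr]
      exact ⟨y, rfl⟩
    obtain ⟨z, hz⟩ := hy
    refine ⟨z, hιinj ?_⟩
    rw [← Points.map_comp, ha₀, hz]
  have ha₀s : RepWith @Surjective a₀ := repWith_surjective_of_isSurjectiveMor ha₀e.rep ha₀surj
  exact ⟨X₀, ι₀, U, a₀, hιo, hUaff', ha₀e, ha₀s, by rw [hιr]; exact ⟨u, hu⟩⟩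


/-- Let S be a scheme and X a decent algebraic space over S. Every point x ∈ |X| admits an etale
neighbourhood (U, u) ⟶ (X, x) which is elementary, with U an affine scheme and u the only point of U
over x; being elementary means that Spec κ(u) ⟶ X is a monomorphism, equivalently that the residue
field of X at x maps isomorphically to κ(u). -/
theorem result {S : Scheme.{u}} (X : AlgSp.Space S) (hX : AlgSp.IsDecent X.obj)
    (x : AlgSp.Points X.obj) :
    ∃ (U : Over S) (a : (AlgSp.yon S).obj U ⟶ X.obj) (u : ↥U.left), IsAffine U.left ∧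
      AlgSp.IsElemEtaleNbhd a u x ∧ AlgSp.Points.ofPt a ⁻¹' {x} = {u} := by
  obtain ⟨X₀, ι₀, U₀, a₀, hιo, hUaff, ha₀e, ha₀s, x₀, hx₀⟩ := exists_open_with_affine_chart X x
  have hX₀ : IsDecent X₀.obj := isDecent_of_representable ι₀.hom hιo.rep hX
  have hιm : Mono ι₀.hom := mono_of_openImmersion hιo
  have hιinj := injective_of_openImmersion hιo
  have hιet : RepWith @Etale ι₀.hom := repWith_mono isOpenImmersion_le_etale hιo
  obtain ⟨U', a', u', hU', ⟨h1, h2, h3⟩, hfib⟩ :=
    exists_elem_nbhd_of_affine_chart X₀ hX₀ a₀ ha₀e ha₀s x₀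
  refine ⟨U', a' ≫ ι₀.hom, u', hU', ⟨repWith_comp _ h1 hιet, ?_, ?_⟩, ?_⟩
  · rw [← Points.map_ofPt, h2, hx₀]
  · have e : (FieldPt.ofPt (a' ≫ ι₀.hom) u').toHom = (FieldPt.ofPt a' u').toHom ≫ ι₀.hom := by
      rw [FieldPt.toHom_ofPt, FieldPt.toHom_ofPt]
      exact (Category.assoc _ _ _).symm
    rw [e]
    exact @mono_comp _ _ _ _ _ _ h3 _ hιm
  · ext w
    constructor
    · intro hw
      have hw' : Points.ofPt (a' ≫ ι₀.hom) w = x := hw
      rw [← Points.map_ofPt, ← hx₀] at hw'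
      have : w ∈ Points.ofPt a' ⁻¹' {x₀} := hιinj hw'
      rw [hfib] at this
      exact this
    · rintro rfl
      change Points.ofPt (a' ≫ ι₀.hom) w = x
      rw [← Points.map_ofPt, h2, hx₀]

end Groth.Agent.S10374
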