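import Groth.Statements.S10375
import Groth.Agent.Lib.Helper24.AllTup2
import Groth.Agent.Lib.Helper24.IntCover2
import Groth.Agent.Lib.Helper24.UnivBdd2
import Groth.Agent.Lib.Helper24.AlgStSep2
import Groth.Agent.Lib.Helper14.AlgSpQC
import Groth.Agent.Lib.Helper14.AlgSpProdQC
import Groth.Agent.Lib.Helper14.AlgSpQCMor
import Groth.Agent.Lib.Helper14.LimH
import Groth.Agent.Lib.Helper14.IntFinRep
import Groth.Agent.Lib.Helper14.Norm6d
import Groth.Agent.S7441

set_option autoImplicit false
universe u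
open CategoryTheory CategoryTheory.Limits AlgebraicGeometry Topology TopologicalSpace
open AlgSp

namespace Groth.Agent.S10375

open CategoryTheory CategoryTheory.Limits AlgebraicGeometry Opposite AlgSp
open Groth.Agent.Lib.Helper14.AS Groth.Agent.Lib.Helper24.Filt8 Groth.Agent.Lib.Helper24.Filt7
open Groth.Agent.Lib.Helper24.UnivBdd Groth.Agent.Lib.Helper24.Filt1 Groth.Agent.Lib.Helper24.Filt2
open Groth.Agent.Lib.Helper24.Filt3 Groth.Agent.Lib.Helper24.AllTup Groth.Agent.Lib.Helper24.IntCover

set_option backward.isDefEq.respectTransparency.types false in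
set_option maxHeartbeats 1600000 in

/-- Let S be a scheme and X an algebraic space over S which is quasi-compact and quasi-separated (S with
quasi-separated underlying space, so that X is quasi-separated absolutely). Then there is a
surjective integral morphism Y ⟶ X with Y a scheme; moreover, given a surjective etale U ⟶ X from a
scheme, Y ⟶ X can be chosen to factor through U Zariski locally on Y. -/
theorem result {S : Scheme.{u}} [QuasiSeparatedSpace ↥S] (X : AlgSp.Space S)
    (hqc : AlgSp.IsQuasiCompactSp X.obj) (hqs : AlgSp.IsQuasiSeparatedSp X.obj)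
    {U : Over S} (b : (AlgSp.yon S).obj U ⟶ X.obj) (hb : AlgSp.RepWith @Etale b) (hbs : AlgSp.RepWith @Surjective b) :
    ∃ (Y : Over S) (g : (AlgSp.yon S).obj Y ⟶ X.obj), AlgSp.RepWith @IsIntegralHom g ∧ AlgSp.RepWith @Surjective g ∧
      ∀ y : ↥Y.left, ∃ (W : Y.left.Opens) (c : Over.mk (W.ι ≫ Y.hom) ⟶ U), y ∈ W ∧
        (AlgSp.yon S).map c ≫ b = (AlgSp.yon S).map (Over.homMk W.ι rfl : Over.mk (W.ι ≫ Y.hom) ⟶ Y) ≫ g := by
  have hX := X.property
  obtain ⟨U', e', hU', hae, has⟩ := exists_affine_chart_refinement hX hqc b hb hbs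
  have hUc : CompactSpace ↥U'.left := inferInstance
  have hqca : IsQuasiCompactMor ((yon S).map e' ≫ b) :=
    isQuasiCompactMor_of_isQuasiSeparatedSp (IsAlgSpace.yon_obj _) (isQuasiCompactSp_yon _) hqs _
  have har := hae.rep
  have hqcr : RepWith @QuasiCompact ((yon S).map e' ≫ b) :=
    (repWith_quasiCompact_iff_isQuasiCompactMor har).2 hqca
  have sq := har.isPullback' ((yon S).map e' ≫ b)
  have h1 : Etale (har.snd ((yon S).map e' ≫ b)).left := hae.property_snd _
  have h2 : QuasiCompact (har.snd ((yon S).map e' ≫ b)).left := hqcr.property_snd _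
  have hRc : CompactSpace ↥(har.pullback ((yon S).map e' ≫ b)).left :=
    QuasiCompact.compactSpace_of_compactSpace (har.snd ((yon S).map e' ≫ b)).left
  have h3 : LocallyQuasiFinite (har.snd ((yon S).map e' ≫ b)).left := locallyQuasiFinite_of_etale' _
  obtain ⟨N, hN⟩ := Groth.Agent.S7441.result (har.snd ((yon S).map e' ≫ b)).left
  have hdeg : W4dec.DegFibresLE N ((yon S).map e' ≫ b) :=
    degFibresLE_of_baseChange _ _ ((yon S).map (har.fst' _)) ((yon S).map (har.snd _)) sq
      (by rw [Groth.Agent.Lib.Helper8.AlgSpPres.range_points_map_yon])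
      (degFibresLE_yon_map_of_fibreDegLE (har.snd _) hN)
  have hUU : IsAlgSpace (pullback ((yon S).map e' ≫ b) ((yon S).map e' ≫ b)) :=
    isAlgSpace_of_isPullback (repDiag_of_isAlgSpace hX) (IsAlgSpace.yon_obj U')
      (IsAlgSpace.yon_obj U') (IsPullback.of_hasPullback _ _)
  have hΔo : RepWith @IsOpenImmersion (pullback.diagonal ((yon S).map e' ≫ b)) :=
    repWith_isOpenImmersion_of_mono_etale (IsAlgSpace.yon_obj U') hUU _
      (isEtaleMor_of_repWith_etale (repWith_etale_diagonal hae))
  have hΔc : RepWith @IsClosedImmersion (pullback.diagonal ((yon S).map e' ≫ b)) :=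
    repWith_isClosedImmersion_diagonal_of_isAffine
  obtain ⟨B, β, hBc, hBsep, hBsurj, hBcov⟩ := exists_covering_tuple hΔo hΔc hae has hqcr N
    (not_mem_om_of_degFibresLE hX hdeg)
  -- the morphism `B ⟶ X` is quasi-compact and quasi-separated
  have hqcB : IsQuasiCompactMor β.base :=
    isQuasiCompactMor_of_isQuasiSeparatedSp (IsAlgSpace.yon_obj _) (isQuasiCompactSp_yon _) hqs _
  have hqsB : IsQuasiSeparatedMor β.base := by
    have hT : IsTerminal ((yon S).obj (Over.mk (𝟙 S))) :=
      IsTerminal.isTerminalObj (yon S) _ Over.mkIdTerminal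
    have e1 : β.base ≫ hT.from X.obj = (yon S).map (Over.mkIdTerminal.from B) := hT.hom_ext _ _
    apply Groth.Agent.Lib.Helper24.AlgStSep2.isQuasiSeparatedMor_of_comp β.base (hT.from X.obj)
    rw [e1, isQuasiSeparatedMor_yon_map_iff]
    have : IsSeparated (Over.mkIdTerminal.from B).left := inferInstance
    infer_instance
  obtain ⟨Nn, ν, f', hNn, hn⟩ := exists_isRelNormalization_sp β.base (IsAlgSpace.yon_obj B) hX
    hqcB hqsB
  obtain ⟨Y, e, hY⟩ := exists_scheme_of_covering_lifts hX ((yon S).map e' ≫ b) hae has β.base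
    hqcB hqsB (ι := ULift.{u} (Idx N)) (fun i => β.u i.down) (fun i => (β.base_eq i.down).symm)
    (fun T u g hug t => by
      obtain ⟨i, hi⟩ := hBcov T u g hug t
      exact ⟨⟨i⟩, hi⟩) hNn ν f' hn
  have hint : IsIntegralMor (e.hom ≫ ν) := by
    intro Z hZ z
    obtain ⟨W, i, fst, sqW, hW, hi⟩ := hn.2.1 hZ z
    refine ⟨W, i, fst ≫ e.inv, ?_, hW, hi⟩
    exact IsPullback.of_iso sqW (Iso.refl _) e.symm (Iso.refl _) (Iso.refl _) (by simp) (by simp)
      (by simp) (by simp)
  let gS : (ofScheme S).obj Y ⟶ X := ObjectProperty.homMk (e.hom ≫ ν)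
  have hrepint : RepWith @IsIntegralHom (e.hom ≫ ν) := (integral_finite_iff_repWith gS).1.1 hint
  refine ⟨Y, e.hom ≫ ν, hrepint, ?_, ?_⟩
  · refine repWith_surjective_of_isSurjectiveMor hrepint.rep ?_
    intro x
    obtain ⟨b₀, rfl⟩ := hBsurj x
    refine ⟨Points.map e.inv (Points.ofPt f' b₀), ?_⟩
    rw [← Points.map_comp, ← Category.assoc, e.inv_hom_id, Category.id_comp, Points.map_ofPt, hn.1]
  · intro y
    obtain ⟨W, c, hyW, hc⟩ := hY y
    refine ⟨W, c ≫ e', hyW, ?_⟩
    rw [Functor.map_comp, Category.assoc]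
    exact hc

end Groth.Agent.S10375
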