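import Groth.Statements.S1039
import Mathlib
import Groth.Agent.Lib.Helper28.DCohRes30

set_option autoImplicit false
universe u
open CategoryTheory CategoryTheory.Limits AlgebraicGeometry
attribute [local instance] HasDerivedCategory.standard
open Perf

namespace Groth.Agent.S1039

/-- Let X be a Noetherian scheme, E ∈ D(O_X) with quasi-coherent cohomology sheaves and m ∈ ℤ. Then
m-pseudo-coherence of E is equivalent to: Hⁱ(E) is coherent for every i ≥ m and vanishes for i
large. -/
theorem result (X : Scheme.{u}) [IsNoetherian X] (E : DCoh.D X) (hE : DCoh.IsQCohD E) (m : ℤ) :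
    DCoh.IsPseudoCoherentD m E ↔ (∀ i : ℤ, m ≤ i → Coh.IsCoh (DCoh.HD E i)) ∧ ∃ b : ℤ, E.IsLE b := by
  open Groth.Agent.Lib.Helper28.DCohRes in
  constructor
  · intro h
    exact cohAbove_of_isPseudoCoherentD E hE m h
  · rintro ⟨hcoh, b, hb⟩
    refine isPseudoCoherentD_of_cohAbove m (b + 1 - m).toNat E b (by omega)
      ⟨fun i hi => DerivedCategory.isZero_of_isLE E b i hi, fun i hi => hcoh i hi⟩

end Groth.Agent.S1039
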