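import Groth.Statements.S10393
import Groth.Agent.S10355
import Groth.Agent.Lib.Helper24.SchLocus
import Groth.Agent.Lib.Helper14.AlgSpDecent2
import Groth.Agent.Lib.Helper14.LimW
import Groth.Agent.Lib.Helper14.FpqcBase4

set_option autoImplicit false
universe u
open CategoryTheory CategoryTheory.Limits AlgebraicGeometry Topology TopologicalSpace
open AlgSp

namespace Groth.Agent.S10393

open CategoryTheory CategoryTheory.Limits AlgebraicGeometry Opposite AlgSp
open Groth.Agent.Lib.Helper14.AS Groth.Agent.Lib.Helper24.SchLocus Groth.Agent.Lib.Helper24.ZarGlue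
open Groth.Agent.Lib.Helper24.OpenSubSp

set_option backward.isDefEq.respectTransparency.types false in

/-- Let S be a scheme, Y a scheme over S whose underlying topological space is discrete (equivalently, Y
is a disjoint union of spectra of local rings of dimension zero), and X an algebraic space over S
with a monomorphism X ⟶ Y over S. Then X is a scheme. -/
theorem result {S : Scheme.{u}} (Y : Over S) [DiscreteTopology ↥Y.left]
    (X : AlgSp.Space S) (f : X ⟶ (AlgSp.ofScheme S).obj Y) [Mono f.hom] : X.obj.obj.IsRepresentable := by
  have hXalg := X.property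
  have hqs : IsQuasiSeparatedMor f.hom := by
    change RepWith @QuasiCompact (pullback.diagonal f.hom)
    exact repWith_of_isIso _ _
  have hXd : IsDecent X.obj := isDecent_of_isQuasiSeparatedMor_to_yon hXalg f.hom hqs
  have hinj : Function.Injective (Points.map f.hom) := points_map_injective_of_mono f.hom
  have hdisc : DiscreteTopology (Points ((ofScheme S).obj Y).obj) :=
    (Points.schemeHomeo Y).symm.isEmbedding.discreteTopology
  have hall : ∀ x : Points X.obj, x ∈ SchLocus X.obj := by
    intro x
    have hO : IsOpen ({x} : Set (Points X.obj)) := by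
      have h1 : ({x} : Set (Points X.obj)) = Points.map f.hom ⁻¹' {Points.map f.hom x} := by
        ext z
        constructor
        · rintro rfl; rfl
        · intro hz; exact hinj hz
      rw [h1]
      exact (isOpen_discrete _).preimage (Points.continuous_map f.hom)
    have hEalg : IsAlgSpace (openPred ({x} : Set (Points X.obj))).sheaf := isAlgSpace_openPred hXalg hO
    have hιo : RepWith @IsOpenImmersion (openPred ({x} : Set (Points X.obj))).ι := repWith_openPred hO
    have hιr := range_openPred hO
    have hιinj := injective_of_openImmersion hιo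
    let E : Space S := ⟨(openPred ({x} : Set (Points X.obj))).sheaf, hEalg⟩
    have hEd : IsDecent E.obj :=
      isDecent_of_isEtaleMor hEalg hXalg (openPred ({x} : Set (Points X.obj))).ι
        (isEtaleMor_of_repWith_etale (repWith_mono isOpenImmersion_le_etale' hιo)) hXd
    have hne : Nonempty (Points E.obj) := by
      have : x ∈ Set.range (Points.map (openPred ({x} : Set (Points X.obj))).ι) := by
        rw [hιr]; rfl
      obtain ⟨z, -⟩ := this
      exact ⟨z⟩
    have hss : Subsingleton (Points E.obj) := by
      refine ⟨fun z z' => hιinj ?_⟩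
      have h1 : Points.map (openPred ({x} : Set (Points X.obj))).ι z ∈ ({x} : Set (Points X.obj)) :=
        hιr.subset ⟨z, rfl⟩
      have h2 : Points.map (openPred ({x} : Set (Points X.obj))).ι z' ∈ ({x} : Set (Points X.obj)) :=
        hιr.subset ⟨z', rfl⟩
      rw [Set.mem_singleton_iff] at h1 h2
      rw [h1, h2]
    have hrep := Groth.Agent.S10355.result E hEd
    obtain ⟨T, ⟨R⟩⟩ := hrep.has_representation
    let e : (yon S).obj T ≅ E.obj := isoOfRepresentableBy R
    refine ⟨T, e.hom ≫ (openPred ({x} : Set (Points X.obj))).ι, repWith_comp _ (repWith_of_isIso _ e.hom) hιo, ?_⟩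
    rw [← Groth.Agent.Lib.Helper8.AlgSpPres.range_points_map_yon]
    have : x ∈ Set.range (Points.map (openPred ({x} : Set (Points X.obj))).ι) := by
      rw [hιr]; rfl
    obtain ⟨z, hz⟩ := this
    refine ⟨Points.map e.inv z, ?_⟩
    rw [Points.map_comp, ← Points.map_comp e.inv, e.inv_hom_id, Points.map_id, hz]
  obtain ⟨V, g, hgo, hgr⟩ := exists_largest_open_subscheme hXalg
  have hsurj : Function.Surjective (Points.map g) := by
    intro x
    have : x ∈ Set.range (Points.map g) := by
      rw [Groth.Agent.Lib.Helper8.AlgSpPres.range_points_map_yon, hgr]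
      exact hall x
    exact this
  have hiso : IsIso g :=
    Groth.Agent.Lib.Helper8.AlgSpOpen.isIso_of_openImmersion_of_isSurjectiveMor g hgo hsurj
  exact (representableByOfIso (asIso g)).isRepresentable

end Groth.Agent.S10393
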