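import Groth.Statements.S10397
import Groth.Agent.S10204
import Groth.Agent.Lib.Helper24.DecentFin
import Groth.Agent.Lib.Helper24.IrrComp
import Groth.Agent.Lib.Helper14.AlgSpFibrePt5

set_option autoImplicit false
universe u
open CategoryTheory CategoryTheory.Limits AlgebraicGeometry Topology TopologicalSpace
open AlgSp

namespace Groth.Agent.S10397

open CategoryTheory CategoryTheory.Limits AlgebraicGeometry Opposite AlgSp
open Groth.Agent.Lib.Helper14.AS Groth.Agent.Lib.Helper24.SchLocus Groth.Agent.Lib.Helper24.ZarGlue
open Groth.Agent.Lib.Helper24.DecentFin Groth.Agent.Lib.Helper24.IrrComp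

theorem isOpenEmbedding_ofPt {S : Scheme.{u}} {X : Sp S} {V : Over S} (f : (yon S).obj V ⟶ X)
    (hfo : RepWith @IsOpenImmersion f) : Topology.IsOpenEmbedding (Points.ofPt f) := by
  refine Topology.IsOpenEmbedding.of_continuous_injective_isOpenMap (Points.continuous_ofPt f) ?_
    (isOpenMap_ofPt f (repWith_mono isOpenImmersion_le_etale' hfo))
  intro a b hab
  rw [Points.ofPt_eq_map_ofScheme, Points.ofPt_eq_map_ofScheme] at hab
  exact (Points.schemeHomeo V).injective (injective_of_openImmersion hfo hab)

set_option backward.isDefEq.respectTransparency.types false in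

/-- (1) ⇔ (3): an algebraic space X over a scheme S is decent with |X| having finitely many irreducible
components if and only if X has a dense open subscheme X' with finitely many irreducible components
whose generic points x'_j give quasi-compact morphisms Spec κ(x'_j) ⟶ X. -/
theorem result {S : Scheme.{u}} (X : AlgSp.Space S) :
    (AlgSp.IsDecent X.obj ∧ (irreducibleComponents (AlgSp.Points X.obj)).Finite) ↔
      ∃ (X' : Over S) (j : (AlgSp.yon S).obj X' ⟶ X.obj), AlgSp.RepWith @IsOpenImmersion j ∧
        Dense (Set.range (AlgSp.Points.ofPt j)) ∧ (irreducibleComponents ↥X'.left).Finite ∧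
        ∀ x' : ↥X'.left, (∃ T ∈ irreducibleComponents ↥X'.left, IsGenericPoint x' T) →
          AlgSp.RepWith @QuasiCompact (AlgSp.FieldPt.ofPt j x').toHom := by
  constructor
  · rintro ⟨hXd, hfin⟩
    obtain ⟨V, f, hfo, hfr⟩ := exists_largest_open_subscheme X.property
    refine ⟨V, f, hfo, ?_, ?_, ?_⟩
    · rw [hfr]
      exact Groth.Agent.S10204.dense_schLocus X hXd
    · exact finite_irreducibleComponents_of_isOpenEmbedding (isOpenEmbedding_ofPt f hfo) hfin
    · intro x' _
      obtain ⟨p, hp, hpm, hpq⟩ := hXd (Points.ofPt f x')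
      exact repWith_quasiCompact_of_mk_eq p (FieldPt.ofPt f x') hpm hpq hp.symm
  · rintro ⟨X', j, hjo, hjd, hfin, hqc⟩
    refine ⟨?_, ?_⟩
    · exact isDecent_of_bounded_om X.property fun U φ hU hφ =>
        exists_bound_om X j hjo hjd hfin hqc φ hφ
    · exact finite_irreducibleComponents_of_denseRange (Points.continuous_ofPt j) hjd hfin

end Groth.Agent.S10397
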