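import Groth.Statements.S10398
import Groth.Agent.Lib.Helper24.QfFin5
import Groth.Agent.Lib.Helper24.OpenSubSp
import Groth.Agent.Lib.Helper14.AlgSpDim
import Groth.Agent.Lib.Helper14.AlgSpQC
import Groth.Agent.Lib.Helper14.SchImg1
import Groth.Agent.Lib.Helper14.RelDim0
import Groth.Agent.Lib.Helper14.HasAtMorChart
import Groth.Agent.S10268

set_option autoImplicit false
universe u
open CategoryTheory CategoryTheory.Limits AlgebraicGeometry Topology TopologicalSpace
open AlgSp

namespace Groth.Agent.S10398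

open CategoryTheory CategoryTheory.Limits AlgebraicGeometry Opposite AlgSp
open Groth.Agent.Lib.Helper14.AS Groth.Agent.Lib.Helper24.QfFin5 Groth.Agent.Lib.Helper24.ZarGlue
open Groth.Agent.Lib.Helper24.OpenSubSp

/-- the trivial pullback square of a factorization through a monomorphism -/
theorem isPullback_id_of_mono {C : Type*} [Category C] {T Y Y' : C} (j : Y' ⟶ Y) [Mono j]
    (p : T ⟶ Y') : IsPullback (𝟙 T) p (p ≫ j) j := by
  have sqA : IsPullback p (𝟙 T) (𝟙 Y') p := IsPullback.of_vert_isIso ⟨by simp⟩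
  have sqB : IsPullback (𝟙 Y') (𝟙 Y') j j := IsKernelPair.id_of_mono j
  have := (sqA.paste_horiz sqB).flip
  simpa using this


/-- (2) ⇒ (3): let S be a scheme, X and Y algebraic spaces over S, and f : X ⟶ Y a quasi-separated
morphism of finite type, and let y ∈ |Y| be a codimension 0 point of Y. Suppose that at every point
of |X| lying over y the morphism f is quasi-finite. Then there is an open subspace Y' ⊆ Y containing
y for which the morphism Y' ×_Y X ⟶ Y' is finite. -/
theorem result {S : Scheme.{u}} {X Y : AlgSp.Space S} (f : X ⟶ Y)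
    (hqs : AlgSp.IsQuasiSeparatedMor f.hom) (hft : AlgSp.IsFiniteTypeMor f.hom) (y : AlgSp.Points Y.obj)
    (hy : AlgSp.HasAt (fun U u => ringKrullDim ↥(U.presheaf.stalk u) = 0) Y.obj y)
    (hqf : ∀ x : AlgSp.Points X.obj, AlgSp.Points.map f.hom x = y → AlgSp.HasAtMor (fun U _ h u => ∃ W : U.Opens, u ∈ W ∧ LocallyQuasiFinite (W.ι ≫ h) ∧ LocallyOfFiniteType (W.ι ≫ h)) f.hom x) :
    ∃ (Y' X' : AlgSp.Space S) (j : Y' ⟶ Y) (fst : X' ⟶ Y') (snd : X' ⟶ X), AlgSp.RepWith @IsOpenImmersion j.hom ∧
      y ∈ Set.range (AlgSp.Points.map j.hom) ∧ IsPullback fst.hom snd.hom j.hom f.hom ∧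
      AlgSp.IsFiniteMor fst.hom := by
  obtain ⟨V₀, b₀, v₀, hb₀e, hv₀, -⟩ := id hy
  -- an affine chart
  obtain ⟨W₀, hW₀, hvW₀⟩ : ∃ W₀ : V₀.left.Opens, IsAffineOpen W₀ ∧ v₀ ∈ W₀ := by
    obtain ⟨_, ⟨W₀, hW₀, rfl⟩, hvW₀, -⟩ :=
      V₀.left.isBasis_affineOpens.exists_subset_of_mem_open (Set.mem_univ v₀) isOpen_univ
    exact ⟨W₀, hW₀, hvW₀⟩
  let V : Over S := resOpen V₀ W₀
  have hVaff : IsAffine V.left := hW₀
  let b : (yon S).obj V ⟶ Y.obj := (yon S).map (resOpenι V₀ W₀) ≫ b₀
  have hιe : RepWith @Etale ((yon S).map (resOpenι V₀ W₀)) :=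
    (repWith_yon_map_iff _ _).2 (inferInstanceAs (Etale W₀.ι))
  have hbe : RepWith @Etale b := repWith_comp _ hιe hb₀e
  let v : ↥V.left := (⟨v₀, hvW₀⟩ : ↥W₀)
  have hbv : Points.ofPt b v = y := by
    rw [ofPt_yon_map_comp]
    exact hv₀
  have hv : ringKrullDim (V.left.presheaf.stalk v) = 0 :=
    (hasAt_ringKrullDim_iff_forall Y.property y 0).1 hy V b v hbe hbv
  -- the base change to the chart
  have hVsp := IsAlgSpace.yon_obj V
  have sqV := IsPullback.of_hasPullback f.hom b
  have hXV : IsAlgSpace (pullback f.hom b) :=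
    isAlgSpace_of_isPullback (repDiag_of_isAlgSpace Y.property) X.property hVsp sqV
  have hqsV : IsQuasiSeparatedMor (pullback.snd f.hom b) :=
    MorphismProperty.of_isPullback (P := (RepWith (S := S) @QuasiCompact).diagonal) sqV hqs
  have hftV : IsFiniteTypeMor (pullback.snd f.hom b) :=
    ⟨locP_baseChange etLocal_lft X.property Y.property hVsp f.hom b _ _ sqV hft.1,
      isQuasiCompactMor_of_isPullback sqV hft.2⟩
  have hqc : IsQuasiCompactSp (pullback f.hom b) :=
    hft.2 hVsp (isQuasiCompactSp_yon V) b _ _ sqV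
  obtain ⟨U, a, hUaff, hae, has⟩ := isQuasiCompactSp_iff_exists_affine_chart.1 hqc
  obtain ⟨g, hg⟩ := (yon S).map_surjective (a ≫ pullback.snd f.hom b)
  have comm : a ≫ pullback.snd f.hom b = (yon S).map g := hg.symm
  -- fibre dimension zero over `v`
  have hxe : RepWith @Etale (pullback.fst f.hom b) := repWith_of_isPullback _ sqV.flip hbe
  have hae2 : RepWith @Etale (a ≫ pullback.fst f.hom b) := repWith_comp _ hae hxe
  have comm2 : (a ≫ pullback.fst f.hom b) ≫ f.hom = (yon S).map g ≫ b := by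
    rw [Category.assoc, sqV.w, ← Category.assoc, comm]
  have hfd : ∀ u : ↥U.left, g.left u = v → FlatMor.fibreDimAt g.left u = 0 := by
    intro u hu
    have hx : Points.map f.hom (Points.ofPt (a ≫ pullback.fst f.hom b) u) = y := by
      rw [Points.map_ofPt, comm2, ofPt_yon_map_comp, hu]
      exact hbv
    have h1 := (hasAtMor_qf_iff f.hom hft.1 _).1 (hqf _ hx)
    exact (hasAtMor_ofPt_iff (etSqInv_fibreDimAt (fun d => d = 0)) f.hom
      (a ≫ pullback.fst f.hom b) b g hae2 hbe comm2 u).1 h1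
  obtain ⟨O, hvO, hfin⟩ := exists_opens_isFiniteMor hXV (pullback.snd f.hom b) a g hae has comm
    hqsV hftV v hv hfd
  -- the open image of `O` in `Y`
  let bO : (yon S).obj (resOpen V O) ⟶ Y.obj := (yon S).map (resOpenι V O) ≫ b
  have hιOe : RepWith @Etale ((yon S).map (resOpenι V O)) :=
    (repWith_yon_map_iff _ _).2 (inferInstanceAs (Etale O.ι))
  have hbOe : RepWith @Etale bO := repWith_comp _ hιOe hbe
  let W : Set (Points Y.obj) := Set.range (Points.ofPt bO)
  have hWopen : IsOpen W := by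
    have := isOpenMap_ofPt bO hbOe Set.univ isOpen_univ
    rwa [Set.image_univ] at this
  have hyW : y ∈ W := by
    refine ⟨(⟨v, hvO⟩ : ↥O), ?_⟩
    rw [ofPt_yon_map_comp]
    exact hbv
  let Y' : Space S := ⟨(openPred W).sheaf, isAlgSpace_openPred Y.property hWopen⟩
  let jj : Y' ⟶ Y := ObjectProperty.homMk (openPred W).ι
  have hjo : RepWith @IsOpenImmersion jj.hom := repWith_openPred hWopen
  have hrange : Set.range (Points.map jj.hom) = W := range_openPred hWopen
  have : Mono jj.hom := mono_of_openImmersion hjo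
  obtain ⟨p, hp⟩ := exists_lift_yon_of_range_subset hjo bO (fun t => by
    rw [hrange]; exact ⟨t, rfl⟩)
  have sqp : IsPullback (𝟙 _) p bO jj.hom := by
    have := isPullback_id_of_mono jj.hom p
    rwa [hp] at this
  have hpe : RepWith @Etale p := repWith_of_isPullback _ sqp hbOe
  have hps : RepWith @Surjective p := by
    refine repWith_surjective_of_isSurjectiveMor hpe.rep ?_
    intro z
    obtain ⟨t, ht⟩ : Points.map jj.hom z ∈ W := by rw [← hrange]; exact ⟨z, rfl⟩
    obtain ⟨w, -, hw⟩ := points_exists_of_isPullback sqp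
      (Points.ofScheme (resOpen V O) t) z (by
        rw [Points.map_ofPt, Category.id_comp]; exact ht)
    exact ⟨w, hw⟩
  -- the base change of `f` to `Y'`
  have sqX' := IsPullback.of_hasPullback jj.hom f.hom
  let X' : Space S := ⟨pullback jj.hom f.hom,
    isAlgSpace_of_isPullback (repDiag_of_isAlgSpace Y.property) Y'.property X.property sqX'⟩
  let fst : X' ⟶ Y' := ObjectProperty.homMk (pullback.fst jj.hom f.hom)
  let snd : X' ⟶ X := ObjectProperty.homMk (pullback.snd jj.hom f.hom)
  refine ⟨Y', X', jj, fst, snd, hjo, by rw [hrange]; exact hyW, sqX', ?_⟩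
  -- descent of finiteness along `p`
  have sqO := IsPullback.of_hasPullback (pullback.snd f.hom b) ((yon S).map (resOpenι V O))
  have big := sqO.paste_horiz sqV
  let l : pullback (pullback.snd f.hom b) ((yon S).map (resOpenι V O)) ⟶ pullback jj.hom f.hom :=
    pullback.lift (pullback.snd _ _ ≫ p) (pullback.fst _ _ ≫ pullback.fst f.hom b) (by
      rw [Category.assoc, hp, Category.assoc]
      exact big.w.symm)
  have hl1 : l ≫ pullback.fst jj.hom f.hom = pullback.snd _ _ ≫ p := pullback.lift_fst _ _ _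
  have hl2 : l ≫ pullback.snd jj.hom f.hom = pullback.fst _ _ ≫ pullback.fst f.hom b :=
    pullback.lift_snd _ _ _
  have sql : IsPullback l (pullback.snd (pullback.snd f.hom b) ((yon S).map (resOpenι V O)))
      (pullback.fst jj.hom f.hom) p := by
    have big' : IsPullback (l ≫ pullback.snd jj.hom f.hom)
        (pullback.snd (pullback.snd f.hom b) ((yon S).map (resOpenι V O))) f.hom (p ≫ jj.hom) := by
      rw [hl2, hp]; exact big
    exact IsPullback.of_right big' hl1 sqX'.flip
  exact (Groth.Agent.S10268.result fst (resOpen V O) p hpe hps l _ sql).2 hfin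

end Groth.Agent.S10398
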