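import Groth.Statements.S10400
import Groth.Agent.Lib.Helper24.FinDense5
import Groth.Agent.Lib.Helper8.AlgSpOpenSub

set_option autoImplicit false
universe u
open CategoryTheory CategoryTheory.Limits AlgebraicGeometry Topology TopologicalSpace
open AlgSp

namespace Groth.Agent.S10400

open CategoryTheory CategoryTheory.Limits AlgebraicGeometry Opposite AlgSp TopologicalSpace
open Groth.Agent.Lib.Helper14.AS Groth.Agent.Lib.Helper24.FinDense2 Groth.Agent.Lib.Helper24.FinDense4
open Groth.Agent.Lib.Helper24.FinDense5 Groth.Agent.Lib.Helper8.AlgSpOpenSub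


/-- Let f : X ⟶ Y be a morphism locally of finite type of algebraic spaces over a scheme S with Y
decent. Assume the codimension 0 points of X and of Y form finite sets, that a point of X has
codimension 0 exactly when its image does, and that f is quasi-compact or separated. Then there is a
dense open subspace V ⊆ Y with f⁻¹(V) ⟶ V finite. -/
theorem result {S : Scheme.{u}} {X Y : AlgSp.Space S} (f : X ⟶ Y)
    (hf : AlgSp.LocP @LocallyOfFiniteType f.hom) (hY : AlgSp.IsDecent Y.obj)
    (hX0 : {x : AlgSp.Points X.obj | AlgSp.HasAt (fun U u => ringKrullDim ↥(U.presheaf.stalk u) = 0) X.obj x}.Finite)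
    (hY0 : {y : AlgSp.Points Y.obj | AlgSp.HasAt (fun U u => ringKrullDim ↥(U.presheaf.stalk u) = 0) Y.obj y}.Finite)
    (hpre : ∀ x : AlgSp.Points X.obj, AlgSp.HasAt (fun U u => ringKrullDim ↥(U.presheaf.stalk u) = 0) X.obj x ↔ AlgSp.HasAt (fun U u => ringKrullDim ↥(U.presheaf.stalk u) = 0) Y.obj (AlgSp.Points.map f.hom x))
    (hqs : AlgSp.IsQuasiCompactMor f.hom ∨ AlgSp.IsSeparatedMor f.hom) :
    ∃ (V X' : AlgSp.Space S) (j : V ⟶ Y) (fst : X' ⟶ V) (snd : X' ⟶ X), AlgSp.RepWith @IsOpenImmersion j.hom ∧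
      Dense (Set.range (AlgSp.Points.map j.hom)) ∧ IsPullback fst.hom snd.hom j.hom f.hom ∧
      AlgSp.IsFiniteMor fst.hom := by
  have LC : ∀ y : Points Y.obj, HasAt Q0 Y.obj y →
      ∃ W : Set (Points Y.obj), IsOpen W ∧ y ∈ W ∧ HasOver IsFiniteMor f W := by
    intro y hy
    rcases hqs with hqc | hsep
    · exact exists_hasOver_of_quasiCompact f hf hY hY0 hpre hqc y hy
    · exact exists_hasOver_of_separated f hf hY hX0 hY0 hpre hsep y hy
  let 𝒱 : Set (Opens (Points Y.obj)) := {W | HasOver IsFiniteMor f (W : Set (Points Y.obj))}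
  have hsup := hasOver_sSup coverClass_isEtaleMor
    (isLocalOnBase_et_of_fpqc (Groth.Agent.S10540.result S)) f 𝒱 (fun V hV => hV)
  obtain ⟨V, j, hjo, hjr⟩ := exists_openSubspace Y ((sSup 𝒱 : Opens (Points Y.obj)) : Set _)
    (sSup 𝒱).isOpen
  have sq := IsPullback.of_hasPullback j.hom f.hom
  let X' : Space S := ⟨pullback j.hom f.hom,
    isAlgSpace_of_isPullback (repDiag_of_isAlgSpace Y.property) V.property X.property sq⟩
  refine ⟨V, X', j, ObjectProperty.homMk (pullback.fst j.hom f.hom),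
    ObjectProperty.homMk (pullback.snd j.hom f.hom), hjo, ?_, sq, ?_⟩
  · rw [hjr]
    apply dense_of_codimZero_subset Y.property
    intro z hz
    obtain ⟨W, hWo, hzW, hW⟩ := LC z hz
    exact Opens.mem_sSup.2 ⟨⟨W, hWo⟩, hW, hzW⟩
  · exact hsup V X' j (ObjectProperty.homMk (pullback.snd j.hom f.hom))
      (ObjectProperty.homMk (pullback.fst j.hom f.hom)) hjo hjr sq.flip

end Groth.Agent.S10400
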