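import Groth.Statements.S10411
import Groth.Agent.Lib.Helper24.FinQuotRep
import Groth.Agent.Lib.Helper24.OpenSubSp
import Groth.Agent.Lib.Helper14.AlgSpClosed
import Groth.Agent.Lib.Helper14.AlgSpLargestOpen
import Groth.Agent.Lib.Helper8.Affine
import Groth.Agent.Lib.Helper8.AlgSpOpen

set_option autoImplicit false
universe u
open CategoryTheory CategoryTheory.Limits AlgebraicGeometry Topology TopologicalSpace
open AlgSp

namespace Groth.Agent.S10411

open CategoryTheory CategoryTheory.Limits AlgebraicGeometry Opposite AlgSp TopologicalSpace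
open Groth.Agent.Lib.Helper14.AS Groth.Agent.Lib.Helper24.FinQuotRep
open Groth.Agent.Lib.Helper24.OpenSubSp Groth.Agent.Lib.Helper24.ZarGlue

theorem finLocFree_le_univClosed : (finLocFree : MorphismProperty Scheme.{u}) ≤ @UniversallyClosed :=
  fun _ _ f h => by
    have : IsFinite f := h.1
    infer_instance


/-- Let S be a scheme, X and Y algebraic spaces over S, X ⟶ Y a surjective finite locally free morphism,
and y ∈ |Y|. Then y lies in the schematic locus of Y (some open subspace of Y containing y is a
scheme) if and only if there is an affine open subscheme U ⊆ X containing the preimage of y. -/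
theorem result {S : Scheme.{u}} {X Y : AlgSp.Space S} (f : X ⟶ Y)
    (hf : AlgSp.IsFinLocFreeMor f.hom) (hs : AlgSp.RepWith @Surjective f.hom) (y : AlgSp.Points Y.obj) :
    (∃ (Y' : AlgSp.Space S) (j : Y' ⟶ Y), AlgSp.RepWith @IsOpenImmersion j.hom ∧ Y'.obj.obj.IsRepresentable ∧
        y ∈ Set.range (AlgSp.Points.map j.hom)) ↔
      ∃ (U : Over S) (a : (AlgSp.yon S).obj U ⟶ X.obj), IsAffine U.left ∧ AlgSp.RepWith @IsOpenImmersion a ∧
        AlgSp.Points.map f.hom ⁻¹' {y} ⊆ Set.range (AlgSp.Points.ofPt a) := by
  constructor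
  · rintro ⟨Y', j, hjo, hrep, y', rfl⟩
    obtain ⟨V', ⟨r⟩⟩ := hrep.has_representation
    let e : (yon S).obj V' ≅ Y'.obj := isoOfRepresentableBy r
    obtain ⟨v, hv⟩ := (Points.schemeHomeo V').surjective (Points.map e.inv y')
    have hv' : Points.ofPt e.hom v = y' := by
      rw [Points.ofPt_eq_map_ofScheme]
      change Points.map e.hom (Points.schemeHomeo V' v) = y'
      rw [hv, ← Points.map_comp, e.inv_hom_id, Points.map_id]
    obtain ⟨A, hA, hvA, -⟩ := exists_isAffineOpen_mem_and_subset (x := v) (U := ⊤) trivial
    let b : (yon S).obj (resOpen V' A) ⟶ Y.obj := (yon S).map (resOpenι V' A) ≫ e.hom ≫ j.hom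
    have hbo : RepWith @IsOpenImmersion b :=
      repWith_comp _ ((repWith_yon_map_iff _ _).2 (inferInstanceAs (IsOpenImmersion A.ι)))
        (repWith_comp _ (repWith_of_isIso _ e.hom) hjo)
    have hr := hf.rep
    have sq := hr.isPullback b
    refine ⟨hr.pullback b, hr.fst b, ?_, repWith_of_isPullback _ sq.flip hbo, ?_⟩
    · have hfin : IsFinite (hr.snd b).left := (hf.property_snd b).1
      have : IsAffine (resOpen V' A).left := hA
      exact isAffine_of_isAffineHom (hr.snd b).left
    · intro x hx
      have hx' : Points.map f.hom x = Points.map b (Points.ofScheme _ ⟨v, hvA⟩) := by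
        rw [← Points.ofPt_eq_map_ofScheme, ofPt_yon_map_comp, ← Points.map_ofPt]
        change _ = Points.map j.hom (Points.ofPt e.hom v)
        rw [hv']
        exact hx
      obtain ⟨z, hz1, -⟩ := points_exists_of_isPullback sq x _ hx'
      obtain ⟨w, rfl⟩ := (Points.schemeHomeo (hr.pullback b)).surjective z
      refine ⟨w, ?_⟩
      rw [Points.ofPt_eq_map_ofScheme]
      exact hz1
  · rintro ⟨U, a, hU, hao, hfib⟩
    have hae : RepWith @Etale a := repWith_mono isOpenImmersion_le_etale hao
    have hRo : IsOpen (Set.range (Points.ofPt a)) := by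
      rw [← Set.image_univ]
      exact isOpenMap_ofPt a hae _ isOpen_univ
    have hcl : IsClosedMap (Points.map f.hom) :=
      isClosedMap_points_of_repWith_universallyClosed Y.property (repWith_mono finLocFree_le_univClosed hf)
    let O : Set (Points Y.obj) := (Points.map f.hom '' (Set.range (Points.ofPt a))ᶜ)ᶜ
    have hO : IsOpen O := (hcl _ hRo.isClosed_compl).isOpen_compl
    have hyO : y ∈ O := by
      rintro ⟨x, hxC, hxy⟩
      exact hxC (hfib hxy)
    let Y' : Space S := ⟨(openPred O).sheaf, isAlgSpace_openPred Y.property hO⟩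
    let j : Y' ⟶ Y := ObjectProperty.homMk (openPred O).ι
    have hjo : RepWith @IsOpenImmersion j.hom := repWith_openPred hO
    have hjr : Set.range (Points.map j.hom) = O := range_openPred hO
    refine ⟨Y', j, hjo, ?_, by rw [hjr]; exact hyO⟩
    -- the preimage of Y'
    have sq : IsPullback (pullback.fst f.hom j.hom) (pullback.snd f.hom j.hom) f.hom j.hom :=
      IsPullback.of_hasPullback _ _
    have hfo : RepWith @IsOpenImmersion (pullback.fst f.hom j.hom) := repWith_of_isPullback _ sq.flip hjo
    have hrange : Set.range (Points.map (pullback.fst f.hom j.hom)) ⊆ Set.range (Points.map a) := by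
      rintro _ ⟨z, rfl⟩
      rw [Groth.Agent.Lib.Helper8.AlgSpPres.range_points_map_yon]
      by_contra hz
      have h1 : Points.map f.hom (Points.map (pullback.fst f.hom j.hom) z) ∈ O := by
        rw [← Points.map_comp, sq.w, Points.map_comp, ← hjr]
        exact ⟨_, rfl⟩
      exact h1 ⟨_, hz, rfl⟩
    obtain ⟨c, hc⟩ := Groth.Agent.Lib.Helper8.AlgSpOpen.exists_factor_of_range_subset a hao _ hrange
    have hma : Mono a := mono_of_openImmersion hao
    have hco : RepWith @IsOpenImmersion c := by
      have h1 := isPullback_of_factor_mono c a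
      rw [hc] at h1
      exact repWith_of_isPullback _ h1 hfo
    -- the source is an open subscheme of U
    have hcr := hco.rep
    have sqc := hcr.isPullback (𝟙 ((yon S).obj U))
    have hιo : IsOpenImmersion (hcr.snd (𝟙 ((yon S).obj U))).left := hco.property_snd _
    have hεiso : IsIso (hcr.fst (𝟙 ((yon S).obj U))) := by
      have := sqc.flip
      exact IsPullback.isIso_snd_of_isIso this
    let ε : (yon S).obj (hcr.pullback (𝟙 ((yon S).obj U))) ≅ pullback f.hom j.hom := asIso (hcr.fst _)
    let q : (yon S).obj (hcr.pullback (𝟙 ((yon S).obj U))) ⟶ Y'.obj := ε.hom ≫ pullback.snd f.hom j.hom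
    have sq' : IsPullback (ε.hom ≫ pullback.fst f.hom j.hom) q f.hom j.hom :=
      IsPullback.of_iso sq ε.symm (Iso.refl _) (Iso.refl _) (Iso.refl _) (by simp) (by simp [q])
        (by simp) (by simp)
    have hq : RepWith finLocFree q := repWith_of_isPullback _ sq' hf
    have hqs : RepWith @Surjective q := repWith_of_isPullback _ sq' hs
    have hfin : ∀ E : Set (hcr.pullback (𝟙 ((yon S).obj U))).left, E.Finite →
        ∃ W : (hcr.pullback (𝟙 ((yon S).obj U))).left.Opens, IsAffineOpen W ∧ E ⊆ W := fun E hE =>
      Groth.Agent.Lib.Helper8.exists_affineOpen_of_finite_of_isImmersion_affine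
        (hcr.snd (𝟙 ((yon S).obj U))).left E hE
    obtain ⟨M, m, e, -, -, -, -⟩ := exists_scheme_quotient q hq hqs hfin
    exact (representableByOfIso e).isRepresentable

end Groth.Agent.S10411
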