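import Groth.Statements.S10412
import Groth.Agent.Lib.Helper14.VeryReas

set_option autoImplicit false
universe u
open CategoryTheory CategoryTheory.Limits AlgebraicGeometry Topology TopologicalSpace
open AlgSp

namespace Groth.Agent.S10412

/-- For an algebraic space X over a scheme S the following are equivalent: (1) X has a Zariski covering
by open subspaces X_i, each X_i admitting a surjective, etale and quasi-compact morphism U_i ⟶ X_i
with U_i a scheme; (2) there are etale morphisms U_i ⟶ X from schemes, jointly surjective, such that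
for each i both projection morphisms from U_i ×_X U_i to U_i are quasi-compact. -/
theorem result {S : Scheme.{u}} (X : AlgSp.Space S) :
    (∃ (ι : Type u) (Xi : ι → AlgSp.Space S) (j : ∀ i, Xi i ⟶ X) (U : ι → Over S)
        (a : ∀ i, (AlgSp.yon S).obj (U i) ⟶ (Xi i).obj),
        AlgSp.IsZarCover (fun i => (Xi i).obj) (fun i => (j i).hom) ∧
          ∀ i, AlgSp.RepWith @Etale (a i) ∧ AlgSp.RepWith @Surjective (a i) ∧ AlgSp.RepWith @QuasiCompact (a i)) ↔
      ∃ (ι : Type u) (U : ι → Over S) (φ : ∀ i, (AlgSp.yon S).obj (U i) ⟶ X.obj),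
        (∀ i, AlgSp.RepWith @Etale (φ i)) ∧
          (∀ x : AlgSp.Points X.obj, ∃ (i : ι) (v : ↥(U i).left), AlgSp.Points.ofPt (φ i) v = x) ∧
          ∀ (i : ι) (R : Over S) (s t : R ⟶ U i), IsPullback ((AlgSp.yon S).map t) ((AlgSp.yon S).map s) (φ i) (φ i) →
            QuasiCompact s.left ∧ QuasiCompact t.left := by
  constructor
  · rintro ⟨ι, Xi, j, U, a, hcov, ha⟩
    obtain ⟨h1, h2, h3⟩ := Groth.Agent.Lib.Helper14.AS.veryReasonable_one_two
      (fun i => (Xi i).obj) (fun i => (j i).hom) U a hcov ha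
    exact ⟨ι, U, fun i => a i ≫ (j i).hom, h1, h2, h3⟩
  · rintro ⟨ι, U, φ, hφ, hsurj, hqc⟩
    choose Xi j a hXi hj haj hr hae has haq using fun i =>
      Groth.Agent.Lib.Helper14.AS.veryReasonable_chart X.2 (φ i) (hφ i) (hqc i)
    refine ⟨ι, fun i => ⟨Xi i, hXi i⟩, fun i => ObjectProperty.homMk (j i), U, a,
      ⟨hj, fun x => ?_⟩, fun i => ⟨hae i, has i, haq i⟩⟩
    obtain ⟨i, v, rfl⟩ := hsurj x
    refine ⟨i, ?_⟩
    change _ ∈ Set.range (AlgSp.Points.map (j i))
    rw [hr i]
    exact ⟨v, rfl⟩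

end Groth.Agent.S10412
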