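import Groth.Statements.S10413
import Groth.Agent.Lib.Helper14.AlgSpDecent

set_option autoImplicit false
universe u
open CategoryTheory CategoryTheory.Limits AlgebraicGeometry Topology TopologicalSpace
open AlgSp

namespace Groth.Agent.S10413

/-- Let S be a scheme, X and Y algebraic spaces over S, and X ⟶ Y a representable morphism. If every
point of Y can be represented by a monomorphism into Y from the spectrum of a field, then every
point of X can likewise be represented by such a monomorphism into X. -/
theorem result {S : Scheme.{u}} {X Y : AlgSp.Space S} (f : X ⟶ Y) (hf : AlgSp.Representable f.hom)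
    (hY : ∀ y : AlgSp.Points Y.obj, ∃ q : AlgSp.FieldPt Y.obj, AlgSp.Points.mk q = y ∧ Mono q.toHom)
    (x : AlgSp.Points X.obj) : ∃ p : AlgSp.FieldPt X.obj, AlgSp.Points.mk p = x ∧ Mono p.toHom := by
  obtain ⟨p, hp1, hp2⟩ := Groth.Agent.Lib.Helper14.AS.exists_goodPt_of_representable False f.hom hf
    (fun y => by
      obtain ⟨q, hq1, hq2⟩ := hY y
      exact ⟨q, hq1, (Groth.Agent.Lib.Helper14.AS.mono_iff_goodPt_false q).1 hq2⟩) x
  exact ⟨p, hp1, hp2.1⟩

end Groth.Agent.S10413
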