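import Groth.Statements.S10416
import Groth.Agent.Lib.Helper14.ResidualNoeth
import Groth.Agent.Lib.Helper14.RedInd
import Groth.Agent.Lib.Helper14.AlgSpRedFactor
import Groth.Agent.Lib.Helper14.AlgSpOnePt
import Groth.Agent.Lib.Helper14.AlgSpImm
import Groth.Agent.Lib.Helper14.AlgSpClosed

set_option autoImplicit false
universe u
open CategoryTheory CategoryTheory.Limits AlgebraicGeometry Topology TopologicalSpace
open AlgSp

namespace Groth.Agent.S10416

open CategoryTheory CategoryTheory.Limits AlgebraicGeometry Opposite AlgSp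
open Groth.Agent.Lib.Helper14.AS

set_option backward.isDefEq.respectTransparency.types false in

/-- Let S be a scheme, X a locally Noetherian algebraic space over S, x ∈ |X|, and i : Z_x ⟶ X the
residual space at x. Then x is closed in |X| if and only if i is a closed immersion. -/
theorem result {S : Scheme.{u}} {X Z : AlgSp.Space S}
    (hX : AlgSp.IsLocNoethSp X.obj) (x : AlgSp.Points X.obj) (i : Z ⟶ X) [Mono i.hom]
    (hi : Set.range (AlgSp.Points.map i.hom) = {x}) (hZ : ∃ (k : Type u) (_ : Field k) (str : Spec (CommRingCat.of k) ⟶ S) (p : (AlgSp.yon S).obj (Over.mk str) ⟶ Z.obj),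
        AlgSp.LocP @LocallyOfFinitePresentation p ∧ AlgSp.LocP @Flat p ∧ AlgSp.IsSurjectiveMor p) :
    IsClosed ({x} : Set (AlgSp.Points X.obj)) ↔ AlgSp.RepWith @IsClosedImmersion i.hom := by
  constructor
  · intro hcl
    obtain ⟨k, _, str, p, -, hpf, hps⟩ := hZ
    obtain ⟨hZred, -, -⟩ := reduced_one_point_of_flat_field_cover Z.2 str p hpf hps
    obtain ⟨hZ'alg, hι'c, hι'r, hZ'red⟩ := isRedInduced_redFam X.2 {x} hcl
    have hι'm : Mono (redFam {x} hcl).pred.ι :=
      mono_of_repWith_mono (repWith_mono (isClosedImmersion_le_isImmersion.trans immersion_le_mono) hι'c)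
    obtain ⟨g₁, hg₁⟩ := factors_through_mono_of_reduced_noeth X.2 hX Z.2 i.hom x
      (by rw [hi]; rfl) (redFam {x} hcl).pred.ι hZ'red (fun y => by
        have : Points.map (redFam {x} hcl).pred.ι y ∈ Set.range (Points.map (redFam {x} hcl).pred.ι) :=
          ⟨y, rfl⟩
        rw [hι'r] at this
        exact this)
    obtain ⟨g₂, hg₂⟩ := exists_factor_of_range_subset_of_reduced hι'c hZred i.hom
      (by rw [hi, hι'r])
    have h21 : g₂ ≫ g₁ = 𝟙 _ := by
      rw [← cancel_mono i.hom, Category.assoc, hg₁, hg₂, Category.id_comp]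
    have h12 : g₁ ≫ g₂ = 𝟙 _ := by
      rw [← cancel_mono (redFam {x} hcl).pred.ι, Category.assoc, hg₂, hg₁, Category.id_comp]
    have : IsIso g₂ := ⟨g₁, h21, h12⟩
    rw [← hg₂]
    exact repWith_comp _ (repWith_of_isIso _ g₂) hι'c
  · intro h
    have := (isClosedMap_points_of_repWith_universallyClosed X.2
      (repWith_mono isClosedImmersion_le_universallyClosed h)).isClosed_range
    rwa [hi] at this

end Groth.Agent.S10416
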