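import Groth.Statements.S10433
import Groth.Agent.Lib.Helper24.DegStrat
import Groth.Agent.S10192

set_option autoImplicit false
universe u
open CategoryTheory CategoryTheory.Limits AlgebraicGeometry Topology TopologicalSpace
open AlgSp

namespace Groth.Agent.S10433

open CategoryTheory CategoryTheory.Limits AlgebraicGeometry Opposite AlgSp
open Groth.Agent.Lib.Helper14.AS Groth.Agent.Lib.Helper6.FD Groth.Agent.Lib.Helper24.DegStrat


/-- Let S be a scheme, X an algebraic space over S, W a scheme over S, and W ⟶ X a morphism which is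
flat, separated, locally of finite presentation and locally quasi-finite, with universally bounded
fibres. Then X has closed subspaces, each reduced, ∅ = Z_{-1} ⊆ Z_0 ⊆ ⋯ ⊆ Z_n with |Z_n| = |X| such
that, putting X_r = Z_r ∖ Z_{r-1}, for every morphism g : T ⟶ X the second projection W ×_X T ⟶ T is
a finite locally free morphism of degree r exactly when g(|T|) ⊆ |X_r|. (Indexing: Zs 0 = Z_{-1}, Zs
(r+1) = Z_r.) -/
theorem result {S : Scheme.{u}} (X : AlgSp.Space S) {W : Over S}
    (w : (AlgSp.yon S).obj W ⟶ X.obj) (hfl : AlgSp.RepWith @Flat w) (hfp : AlgSp.RepWith @LocallyOfFinitePresentation w)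
    (hsep : AlgSp.RepWith @IsSeparated w) (hqf : AlgSp.RepWith @LocallyQuasiFinite w) (hb : W4dec.HasUnivBddFibres w) :
    ∃ (n : ℕ) (Zs : ℕ → AlgSp.Space S) (i : ∀ r, Zs r ⟶ X),
      (∀ r, AlgSp.IsRedInduced (Set.range (AlgSp.Points.map (i r).hom)) (i r).hom) ∧
      IsEmpty (AlgSp.Points (Zs 0).obj) ∧ Set.range (AlgSp.Points.map (i (n + 1)).hom) = Set.univ ∧
      (∀ r, Set.range (AlgSp.Points.map (i r).hom) ⊆ Set.range (AlgSp.Points.map (i (r + 1)).hom)) ∧
      ∀ (r : ℕ) (T : AlgSp.Space S) (g : T ⟶ X) (P : AlgSp.Sp S) (fst : P ⟶ (AlgSp.yon S).obj W) (snd : P ⟶ T.obj),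
        IsPullback fst snd w g.hom →
          (AlgSp.IsFinLocFreeOfDegMor r snd ↔
            Set.range (AlgSp.Points.map g.hom) ⊆
              Set.range (AlgSp.Points.map (i (r + 1)).hom) \ Set.range (AlgSp.Points.map (i r).hom)) := by
  obtain ⟨n, hbn⟩ := hb
  have H : Hyp w n := ⟨hfl, hfp, hsep, hqf, hbn⟩
  have hrep : Representable w := hfl.rep
  have hcl : ∀ r, IsClosed {x : Points X.obj | deg H hrep x < r} := by
    intro r
    rcases r with _ | r
    · have : {x : Points X.obj | deg H hrep x < 0} = ∅ := by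
        ext x; simp
      rw [this]; exact isClosed_empty
    · have : {x : Points X.obj | deg H hrep x < r + 1} = {x : Points X.obj | deg H hrep x ≤ r} := by
        ext x; exact Nat.lt_succ_iff
      rw [this]; exact H.isClosed_deg_le hrep r
  choose Zs i hZ using fun r => Groth.Agent.S10192.result X _ (hcl r)
  have hrange : ∀ r, Set.range (Points.map (i r).hom) = {x : Points X.obj | deg H hrep x < r} :=
    fun r => (hZ r).2.1
  refine ⟨n, Zs, i, ?_, ?_, ?_, ?_, ?_⟩
  · intro r
    exact ⟨(hZ r).1, rfl, (hZ r).2.2⟩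
  · constructor
    intro z
    have hz : Points.map (i 0).hom z ∈ Set.range (Points.map (i 0).hom) := ⟨z, rfl⟩
    rw [hrange 0] at hz
    exact Nat.not_lt_zero _ hz
  · rw [hrange (n + 1)]
    ext x
    simp only [Set.mem_ofPred_eq, Set.mem_univ, iff_true]
    exact Nat.lt_succ_of_le (H.deg_le hrep x)
  · intro r
    rw [hrange r, hrange (r + 1)]
    intro x hx
    exact Nat.lt_succ_of_lt hx
  · intro r T g P fst snd sq
    rw [hrange r, hrange (r + 1)]
    constructor
    · rintro hsnd0 x ⟨t, rfl⟩
      have hsnd : RepWith (finLocFreeOfDeg r) snd := hsnd0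
      obtain ⟨V, h, v, rfl⟩ := exists_ofPt_eq t
      rw [Points.map_ofPt]
      have sq1 := hsnd.rep.isPullback h
      have big := sq1.paste_horiz sq
      have hp : Mor2.IsFinLocFreeOfDeg r (hsnd.rep.snd h).left := hsnd.property h _ _ sq1
      obtain ⟨⟨hf1, hf2, hf3⟩, hrk⟩ := hp
      have e := H.fdeg_eq_dg hrep (h ≫ g.hom) _ _ big v
      have hd : deg H hrep (Points.ofPt (h ≫ g.hom) v) = r := by
        rw [H.deg_ofPt, ← e, fdeg_eq_finrank, hrk]
      refine ⟨?_, ?_⟩
      · change _ < r + 1
        omega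
      · change ¬ (_ < r)
        omega
    · intro hsub
      refine ⟨MorphismProperty.of_isPullback sq hrep, ?_⟩
      intro V V' h fst' p sq1
      change Mor2.IsFinLocFreeOfDeg r p.left
      have big := sq1.paste_horiz sq
      obtain ⟨h1, h2, h3, h4, hfin, hFib, -⟩ := H.base_facts (h ≫ g.hom) _ p big
      have hdeg : ∀ v, fdeg p.left v = r := by
        intro v
        rw [H.fdeg_eq_dg hrep _ _ p big v, ← H.deg_ofPt]
        have hmem := hsub ⟨Points.ofPt h v, Points.map_ofPt h g.hom v⟩
        obtain ⟨hm1, hm2⟩ := hmem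
        change _ < r + 1 at hm1
        change ¬ (_ < r) at hm2
        omega
      haveI := isFinite_of_fdeg_eq p.left hfin hFib r hdeg
      exact ⟨⟨inferInstance, h1, h2⟩, fun y => by rw [← fdeg_eq_finrank, hdeg]⟩

end Groth.Agent.S10433
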