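import Groth.Statements.S10443
import Groth.Agent.S9684
import Groth.Agent.Lib.Helper14.IntegralQf

set_option autoImplicit false
universe u
open CategoryTheory CategoryTheory.Limits AlgebraicGeometry Topology TopologicalSpace
open AlgSp

namespace Groth.Agent.S10443

/-- Let S be a locally Noetherian, universally catenary scheme carrying a dimension function δ, and X a
decent algebraic space over S that is locally of finite type over S. Define δ_X : |X| → ℤ by δ_X(x)
= δ(s) + (transcendence degree of x over s), s the image of x in S; concretely, for an etale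
surjective chart U ⟶ X with U locally of finite type over S, the composite of δ_X with |U| → |X| is
the function induced from δ along U ⟶ S. Then δ_X is a dimension function: strictly decreasing along
nontrivial specializations, and dropping by one along immediate ones. -/
theorem result {S : Scheme.{u}} (δ : ↥S → ℤ) (hS : Cyc.IsSetup S δ)
    (X : AlgSp.Space S) (hX : AlgSp.IsDecent X.obj) {U : Over S} (a : (AlgSp.yon S).obj U ⟶ X.obj)
    (ha : AlgSp.RepWith @Etale a) (hs : AlgSp.RepWith @Surjective a) [LocallyOfFiniteType U.hom]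
    (δX : AlgSp.Points X.obj → ℤ) (hδ : Cyc.DeltaCompat U.hom (δX ∘ AlgSp.Points.ofPt a) δ) :
    ∀ x y : AlgSp.Points X.obj, x ⤳ y → x ≠ y →
      δX y < δX x ∧ ((∀ z : AlgSp.Points X.obj, x ⤳ z → z ⤳ y → z = x ∨ z = y) → δX x = δX y + 1) := by
  have hU : Cyc.IsDimFun U.left (δX ∘ AlgSp.Points.ofPt a) :=
    Groth.Agent.S9684.result U.hom δ hS _ hδ
  intro x y hxy hne
  obtain ⟨uy, huy⟩ := Groth.Agent.Lib.Helper14.AS.ofPt_surjective_of_repWith hs y
  obtain ⟨ux, hux, hux2⟩ := Groth.Agent.Lib.Helper14.AS.exists_generization_lift_of_isDecent hX a ha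
    (x := x) (u' := uy) (by rw [huy]; exact hxy)
  have hne' : ux ≠ uy := by
    intro e
    apply hne
    rw [← hux2, ← huy, e]
  obtain ⟨h1, h2⟩ := hU ux uy hux hne'
  simp only [Function.comp_apply, hux2, huy] at h1 h2
  refine ⟨h1, fun himm => h2 ?_⟩
  intro w hw1 hw2
  have h3 : x ⤳ AlgSp.Points.ofPt a w := by
    rw [← hux2]; exact hw1.map (AlgSp.Points.continuous_ofPt a)
  have h4 : AlgSp.Points.ofPt a w ⤳ y := by
    rw [← huy]; exact hw2.map (AlgSp.Points.continuous_ofPt a)
  rcases himm _ h3 h4 with e | e
  · left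
    exact Groth.Agent.Lib.Helper14.AS.eq_of_specializes_of_isDecent hX a ha (e.trans hux2.symm) hw1
  · right
    exact (Groth.Agent.Lib.Helper14.AS.eq_of_specializes_of_isDecent hX a ha
      (huy.trans e.symm) hw2).symm

end Groth.Agent.S10443
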