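import Groth.Statements.S10445
import Groth.Agent.Lib.Helper14.FibTop2

set_option autoImplicit false
universe u
open CategoryTheory CategoryTheory.Limits AlgebraicGeometry Topology TopologicalSpace
open AlgSp

namespace Groth.Agent.S10445

/-- Take f : X ⟶ Y locally of finite type between algebraic spaces over a scheme S, a field-valued point
Spec k ⟶ Y with class y, the fibre product X_k = Spec k ×_Y X, x ∈ |X| over y, x̃ ∈ |X_k| over x,
and F = |f|⁻¹(y) with the induced topology. Numbering the conditions (1) dim_x F = 0, (2) x isolated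
in F, (3) x closed in F with no proper generization in F, (4) dim_{x̃} |X_k| = 0, (5) x̃ isolated in
|X_k|, (6) x̃ closed in |X_k| with no proper generization, (7) dim_{x̃}(X_k) = 0 (local dimension of
an etale chart), (8) f quasi-finite at x: (5) ⇔ (6) ⇔ (7) ⇔ (8); (4) ⇔ (5) when X_k is decent; (2) ⇔
(5) and (3) ⇔ (6) when Y is decent; (1) ⇔ (2) when X and Y are decent. -/
theorem result {S : Scheme.{u}} {X Y : AlgSp.Space S} (f : X ⟶ Y)
    (hf : AlgSp.LocP @LocallyOfFiniteType f.hom) (r : AlgSp.FieldPt Y.obj) (Xk : AlgSp.Space S) (fst : Xk ⟶ X)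
    (snd : Xk.obj ⟶ (AlgSp.yon S).obj r.pt) (hsq : IsPullback fst.hom snd f.hom r.toHom)
    (x : AlgSp.Points X.obj) (hx : x ∈ (AlgSp.Points.map f.hom ⁻¹' {AlgSp.Points.mk r})) (xt : AlgSp.Points Xk.obj)
    (hxt : AlgSp.Points.map fst.hom xt = x) :
    ((IsOpen ({xt} : Set (AlgSp.Points Xk.obj)) ↔
      IsClosed ({xt} : Set (AlgSp.Points Xk.obj)) ∧ ∀ x' : AlgSp.Points Xk.obj, x' ⤳ xt → x' = xt) ∧
    (IsOpen ({xt} : Set (AlgSp.Points Xk.obj)) ↔ AlgSp.HasAt (fun U u => FlatMor.localDim ↥U u = 0) Xk.obj xt) ∧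
    (AlgSp.HasAt (fun U u => FlatMor.localDim ↥U u = 0) Xk.obj xt ↔ AlgSp.HasAtMor (fun U _ h u => ∃ W : U.Opens, u ∈ W ∧ LocallyQuasiFinite (W.ι ≫ h) ∧ LocallyOfFiniteType (W.ι ≫ h)) f.hom x) ∧
    (AlgSp.IsDecent Xk.obj →
      (FlatMor.localDim (AlgSp.Points Xk.obj) xt = 0 ↔ IsOpen ({xt} : Set (AlgSp.Points Xk.obj)))) ∧
    (AlgSp.IsDecent Y.obj →
      (IsOpen ({(⟨x, hx⟩ : ↥(AlgSp.Points.map f.hom ⁻¹' {AlgSp.Points.mk r}))} : Set ↥(AlgSp.Points.map f.hom ⁻¹' {AlgSp.Points.mk r})) ↔ IsOpen ({xt} : Set (AlgSp.Points Xk.obj))) ∧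
      ((IsClosed ({(⟨x, hx⟩ : ↥(AlgSp.Points.map f.hom ⁻¹' {AlgSp.Points.mk r}))} : Set ↥(AlgSp.Points.map f.hom ⁻¹' {AlgSp.Points.mk r})) ∧ ∀ x' : ↥(AlgSp.Points.map f.hom ⁻¹' {AlgSp.Points.mk r}), x' ⤳ (⟨x, hx⟩ : ↥(AlgSp.Points.map f.hom ⁻¹' {AlgSp.Points.mk r})) → x' = (⟨x, hx⟩ : ↥(AlgSp.Points.map f.hom ⁻¹' {AlgSp.Points.mk r}))) ↔
        IsClosed ({xt} : Set (AlgSp.Points Xk.obj)) ∧ ∀ x' : AlgSp.Points Xk.obj, x' ⤳ xt → x' = xt)) ∧
    (AlgSp.IsDecent Y.obj → AlgSp.IsDecent X.obj →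
      (FlatMor.localDim ↥(AlgSp.Points.map f.hom ⁻¹' {AlgSp.Points.mk r}) (⟨x, hx⟩ : ↥(AlgSp.Points.map f.hom ⁻¹' {AlgSp.Points.mk r})) = 0 ↔ IsOpen ({(⟨x, hx⟩ : ↥(AlgSp.Points.map f.hom ⁻¹' {AlgSp.Points.mk r}))} : Set ↥(AlgSp.Points.map f.hom ⁻¹' {AlgSp.Points.mk r}))))) := by
  have hK : AlgSp.IsAlgSpace ((AlgSp.yon S).obj r.pt) := AlgSp.IsAlgSpace.yon_obj _
  have hsnd : AlgSp.LocP @LocallyOfFiniteType snd :=
    Groth.Agent.Lib.Helper14.AS.locP_baseChange Groth.Agent.Lib.Helper14.AS.etLocal_lft X.2 Y.2 hK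
      f.hom r.toHom fst.hom snd hsq hf
  haveI i1 : IsLocallyNoetherian r.pt.left :=
    (inferInstance : IsLocallyNoetherian (Spec (CommRingCat.of r.K)))
  haveI i2 : JacobsonSpace ↥r.pt.left :=
    (inferInstance : JacobsonSpace ↥(Spec (CommRingCat.of r.K)))
  have hN : AlgSp.IsLocNoethSp Xk.obj :=
    Groth.Agent.Lib.Helper14.AS.isLocNoethSp_of_locP_lft_over Xk.2 r.pt snd hsnd
  have hJ : ∀ (U : Over S) (a : (AlgSp.yon S).obj U ⟶ Xk.obj),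
      AlgSp.RepWith @Etale a → JacobsonSpace ↥U.left := fun U a ha =>
    (Groth.Agent.Lib.Helper14.AS.chart_props_of_locP_lft_over r.pt snd hsnd U a ha).1
  have P1 := Groth.Agent.Lib.Helper14.AS.isOpen_singleton_iff_isClosed_and_forall_specializes
    Xk.2 hN hJ xt
  have P2 := Groth.Agent.Lib.Helper14.AS.isOpen_singleton_iff_hasAt_localDim Xk.2 hN xt
  have P3' := Groth.Agent.Lib.Helper14.AS.hasAt_localDim_fibre_iff_qf X.2 Y.2 f.hom hf r Xk.obj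
    fst.hom snd hsq xt
  rw [hxt] at P3'
  have P3 := P3'.trans (Groth.Agent.Lib.Helper14.AS.hasAtMor_qf_iff f.hom hf x).symm
  refine ⟨P1, P2, P3,
    fun hd => Groth.Agent.Lib.Helper14.AS.localDim_points_eq_zero_iff_of_isDecent Xk.2 hN hd xt,
    fun hYd => ⟨?_, ?_⟩, fun hYd hXd => ?_⟩
  · exact (Groth.Agent.Lib.Helper14.AS.isOpen_singleton_fibre_iff_qf X.2 Y.2 hYd f.hom hf _ x
      hx).trans (P2.trans P3').symm
  · exact (Groth.Agent.Lib.Helper14.AS.isClosed_singleton_fibre_iff_qf X.2 Y.2 hYd f.hom hf _ x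
      hx).trans ((P2.trans P3').symm.trans P1)
  · exact Groth.Agent.Lib.Helper14.AS.localDim_fibre_eq_zero_iff X.2 Y.2 hXd hYd f.hom hf _ x hx

end Groth.Agent.S10445
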