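import Groth.Statements.S10446
import Groth.Agent.Lib.Helper24.FinFib1
import Groth.Agent.Lib.Helper14.AlgSpProdQC
import Groth.Agent.Lib.Helper14.AlgSpQSDecent
import Groth.Agent.Lib.Helper14.AlgSpImmTop
import Groth.Agent.Lib.Helper14.IntFinRep
import Groth.Agent.Lib.Helper14.AlgSpProper
import Groth.Agent.Lib.Helper14.HasAtMorChart
import Groth.Agent.Lib.Helper14.RelDim0
import Groth.Agent.Lib.Helper14.QfAt
import Groth.Agent.Lib.Helper14.AlgSpDecent2
import Groth.Agent.Lib.Helper24.AlgStImmNoeth
import Groth.Agent.S10398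

set_option autoImplicit false
universe u
open CategoryTheory CategoryTheory.Limits AlgebraicGeometry Topology TopologicalSpace
open AlgSp

namespace Groth.Agent.S10446

open CategoryTheory CategoryTheory.Limits AlgebraicGeometry Opposite AlgSp TopologicalSpace
open Groth.Agent.Lib.Helper14.AS Groth.Agent.Lib.Helper24.FinDense2 Groth.Agent.Lib.Helper24.FinFib1
open Groth.Agent.Lib.Helper24.OpenSubSp Groth.Agent.Lib.Helper24.ZarGlue

/-- a quasi-compact open containing a finite set of points -/
theorem exists_compact_open_of_finite {S : Scheme.{u}} {X : Sp S} (hX : IsAlgSpace X)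
    {F : Set (Points X)} (hF : F.Finite) :
    ∃ W : Set (Points X), IsOpen W ∧ F ⊆ W ∧ IsCompact W := by
  obtain ⟨U, p, hpe, hps⟩ := hX.atlas
  have hch : ∀ x : Points X, ∃ Wx : Set (Points X), IsOpen Wx ∧ x ∈ Wx ∧ IsCompact Wx := by
    intro x
    obtain ⟨u, rfl⟩ := ofPt_surjective_of_repWith hps x
    obtain ⟨N, hN, huN, -⟩ := exists_isAffineOpen_mem_and_subset (x := u) (U := ⊤) trivial
    exact ⟨Points.ofPt p '' N, isOpenMap_ofPt p hpe _ N.2, ⟨u, huN, rfl⟩,
      hN.isCompact.image (Points.continuous_ofPt p)⟩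
  choose Wx hWo hxW hWc using hch
  refine ⟨⋃ x ∈ F, Wx x, isOpen_biUnion fun x _ => hWo x, ?_, hF.isCompact_biUnion fun x _ => hWc x⟩
  intro x hx
  simp only [Set.mem_iUnion]
  exact ⟨x, hx, hxW x⟩


/-- (1) ⇔ (3): let S be a scheme with quasi-separated underlying space, f : X ⟶ Y a quasi-separated
morphism of algebraic spaces over S that is locally of finite type, with Y quasi-separated over S,
and y ∈ |Y| a point of codimension 0. Then |f|⁻¹(y) is finite if and only if f restricts to a finite
morphism X' ⟶ Y' between an open subspace X' of X containing the whole fibre |f|⁻¹(y) and an open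
subspace Y' of Y through y. (The published statement assumes Y quasi-separated in the absolute
sense; this row assumes S has quasi-separated underlying space and Y quasi-separated over S. Its
condition on the finiteness of |Spec k ×_Y X| is not part of this row.) -/
theorem result {S : Scheme.{u}} [QuasiSeparatedSpace ↥S] {X Y : AlgSp.Space S}
    (f : X ⟶ Y) (hqs : AlgSp.IsQuasiSeparatedMor f.hom) (hft : AlgSp.LocP @LocallyOfFiniteType f.hom)
    (hY : AlgSp.IsQuasiSeparatedSp Y.obj) (y : AlgSp.Points Y.obj)
    (hy : AlgSp.HasAt (fun U u => ringKrullDim ↥(U.presheaf.stalk u) = 0) Y.obj y) :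
    (AlgSp.Points.map f.hom ⁻¹' {y}).Finite ↔
      ∃ (X' Y' : AlgSp.Space S) (i : X' ⟶ X) (j : Y' ⟶ Y) (f' : X' ⟶ Y'), AlgSp.RepWith @IsOpenImmersion i.hom ∧
        AlgSp.RepWith @IsOpenImmersion j.hom ∧ f' ≫ j = i ≫ f ∧ y ∈ Set.range (AlgSp.Points.map j.hom) ∧
          AlgSp.Points.map f.hom ⁻¹' {y} ⊆ Set.range (AlgSp.Points.map i.hom) ∧ AlgSp.IsFiniteMor f'.hom := by
  have hYd : IsDecent Y.obj := isDecent_of_isQuasiSeparatedSp Y.property hY
  have hXd : IsDecent X.obj :=
    isDecent_of_isDecentMor f.hom (isDecentMor_of_isQuasiSeparatedMor X.property Y.property f.hom hqs)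
      hYd
  constructor
  · intro hF
    -- quasi-finiteness at the points of the fibre
    have hqf : ∀ x : Points X.obj, Points.map f.hom x = y →
        HasAtMor (fun U _ h u => ∃ W : U.Opens, u ∈ W ∧ LocallyQuasiFinite (W.ι ≫ h) ∧
          LocallyOfFiniteType (W.ι ≫ h)) f.hom x := by
      intro x hx
      obtain ⟨U, V, a, b, g, u, hae, hbe, comm, rfl⟩ :=
        exists_chart_diagram_at X.property Y.property f.hom x
      have hlft : LocallyOfFiniteType g.left := hft a b g hae hbe comm
      rw [hasAtMor_qf_iff f.hom hft]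
      refine ⟨U, V, a, b, g, u, hae, hbe, comm, rfl, ?_⟩
      obtain ⟨N, hN, huN, -⟩ := exists_isAffineOpen_mem_and_subset (x := u) (U := ⊤) trivial
      refine fibreDimAt_eq_zero_of_finite_inter g.left u N huN ?_
      have hNaff : IsAffine (resOpen U N).left := hN
      have hιe : RepWith @Etale ((yon S).map (resOpenι U N)) :=
        (repWith_yon_map_iff _ _).2 (inferInstanceAs (Etale (Scheme.Opens.ι N)))
      have hfib : ∀ x' : Points X.obj,
          (Points.ofPt ((yon S).map (resOpenι U N) ≫ a) ⁻¹' {x'}).Finite := fun x' =>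
        finite_fibre_of_isDecent hXd x' _ _ hNaff (repWith_comp _ hιe hae)
      have h1 : (Points.ofPt ((yon S).map (resOpenι U N) ≫ a) ⁻¹'
          (Points.map f.hom ⁻¹' {y})).Finite := hF.preimage' fun x' _ => hfib x'
      refine (h1.image (resOpenι U N).left).subset ?_
      rintro u' ⟨hu', hu'N⟩
      refine ⟨(⟨u', hu'N⟩ : ↥N), ?_, rfl⟩
      change Points.map f.hom (Points.ofPt ((yon S).map (resOpenι U N) ≫ a) _) = y
      rw [ofPt_yon_map_comp, Points.map_ofPt, comm, ofPt_yon_map_comp]
      change Points.ofPt b (g.left u') = y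
      have : g.left u' = g.left u := hu'
      rw [this, ← hx, Points.map_ofPt, comm, ofPt_yon_map_comp]
    -- a quasi-compact open containing the fibre
    obtain ⟨W, hWo, hFW, hWc⟩ := exists_compact_open_of_finite X.property hF
    let X'' : Space S := ⟨(openPred W).sheaf, isAlgSpace_openPred X.property hWo⟩
    let ι'' : X'' ⟶ X := ObjectProperty.homMk (openPred W).ι
    have hιo : RepWith @IsOpenImmersion ι''.hom := repWith_openPred hWo
    have hιr : Set.range (Points.map ι''.hom) = W := range_openPred hWo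
    have hιe : RepWith @Etale ι''.hom := repWith_mono isOpenImmersion_le_etale hιo
    have hιm : Mono ι''.hom := mono_of_openImmersion hιo
    have hemb := (isEmbedding_points_of_repWith_isImmersion X.property
      (repWith_mono (fun _ _ k hk => by have : IsOpenImmersion k := hk; infer_instance) hιo)).1
    have hX''c : IsQuasiCompactSp X''.obj := by
      rw [isQuasiCompactSp_iff_compactSpace X''.property]
      constructor
      rw [hemb.isCompact_iff, Set.image_univ, hιr]
      exact hWc
    let f'' : X'' ⟶ Y := ι'' ≫ f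
    have hf''qs : IsQuasiSeparatedMor f''.hom :=
      repWith_diagonal_comp @QuasiCompact ι''.hom f.hom
        (Groth.Agent.Lib.Helper24.AlgStImmNoeth.isQuasiSeparatedMor_of_mono ι''.hom) hqs
    have hf''lft : LocP @LocallyOfFiniteType f''.hom :=
      locP_comp_isEtaleMor ι''.hom (isEtaleMor_of_repWith_etale hιe) f.hom hft
    have hf''qc : IsQuasiCompactMor f''.hom :=
      isQuasiCompactMor_of_isQuasiSeparatedSp X''.property hX''c hY f''.hom
    have hqf'' : ∀ x : Points X''.obj, Points.map f''.hom x = y →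
        HasAtMor (fun U _ h u => ∃ W : U.Opens, u ∈ W ∧ LocallyQuasiFinite (W.ι ≫ h) ∧
          LocallyOfFiniteType (W.ι ≫ h)) f''.hom x := by
      intro x hx
      obtain ⟨U, V, a, b, g, u, hae, hbe, comm, rfl⟩ :=
        exists_chart_diagram_at X''.property Y.property f''.hom x
      have hx' : Points.map f.hom (Points.ofPt (a ≫ ι''.hom) u) = y := by
        rw [← hx]; rfl
      have h1 := (hasAtMor_qf_iff f.hom hft _).1 (hqf _ hx')
      have comm' : (a ≫ ι''.hom) ≫ f.hom = (yon S).map g ≫ b := by
        rw [Category.assoc]; exact comm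
      have h2 := (hasAtMor_ofPt_iff (etSqInv_fibreDimAt (fun d => d = 0)) f.hom (a ≫ ι''.hom) b g
        (repWith_comp _ hae hιe) hbe comm' u).1 h1
      rw [hasAtMor_qf_iff f''.hom hf''lft]
      exact ⟨U, V, a, b, g, u, hae, hbe, comm, rfl, h2⟩
    obtain ⟨Y', X', j, fst, snd, hjo, ⟨y', hy'⟩, sq, hfin⟩ :=
      Groth.Agent.S10398.result f'' hf''qs ⟨hf''lft, hf''qc⟩ y hy hqf''
    have hsndo : RepWith @IsOpenImmersion snd.hom := repWith_of_isPullback _ sq hjo
    refine ⟨X', Y', snd ≫ ι'', j, fst, repWith_comp _ hsndo hιo, hjo, ?_, ⟨y', hy'⟩, ?_, hfin⟩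
    · apply ObjectProperty.hom_ext
      change fst.hom ≫ j.hom = (snd.hom ≫ ι''.hom) ≫ f.hom
      rw [sq.w, Category.assoc]
      rfl
    · intro x hx
      obtain ⟨x'', rfl⟩ : x ∈ Set.range (Points.map ι''.hom) := by rw [hιr]; exact hFW hx
      have hx2 : Points.map j.hom y' = Points.map f''.hom x'' := by
        rw [hy']
        change y = Points.map (ι''.hom ≫ f.hom) x''
        rw [Points.map_comp]
        exact hx.symm
      obtain ⟨z, -, hz⟩ := points_exists_of_isPullback sq y' x'' hx2
      refine ⟨z, ?_⟩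
      rw [← hz]
      change Points.map (snd.hom ≫ ι''.hom) z = _
      rw [Points.map_comp]
  · rintro ⟨X', Y', i, j, f', hio, hjo, hcomm, ⟨y', hy'⟩, hsub, hfin⟩
    have hfinR : RepWith @IsFinite f'.hom := (integral_finite_iff_repWith f').2.1 hfin
    have h1 := finite_fibre_of_repWith_isFinite hfinR y'
    refine (h1.image (Points.map i.hom)).subset ?_
    intro x hx
    obtain ⟨z, rfl⟩ := hsub hx
    refine ⟨z, ?_, rfl⟩
    apply injective_of_openImmersion hjo
    rw [hy']
    have : Points.map j.hom (Points.map f'.hom z) = Points.map f.hom (Points.map i.hom z) := by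
      rw [← Points.map_comp, ← Points.map_comp]
      exact congrArg (fun k => Points.map k z) (congrArg (fun k => k.hom) hcomm)
    rw [this]
    exact hx

end Groth.Agent.S10446
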