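import Groth.Statements.S10447
import Groth.Agent.Lib.Helper14.CatSp2

set_option autoImplicit false
universe u
open CategoryTheory CategoryTheory.Limits AlgebraicGeometry Topology TopologicalSpace
open AlgSp

namespace Groth.Agent.S10447

/-- Let S be a locally Noetherian scheme whose local rings are universally catenary, and X a decent
algebraic space over S with locally finite type structure morphism X ⟶ S. Then the space of points
|X| is catenary (bounded chains of irreducible closed subsets between any two, and all saturated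
chains between the same two of equal length). -/
theorem result {S : Scheme.{u}} [IsLocallyNoetherian S]
    (hS : ∀ s : ↥S, CAlg.IsUniversallyCatenary ↥(S.presheaf.stalk s)) (X : AlgSp.Space S)
    (hX : AlgSp.IsDecent X.obj) (p : X.obj ⟶ (AlgSp.yon S).obj (Over.mk (𝟙 S)))
    (hp : AlgSp.LocP @LocallyOfFiniteType p) :
    W4stk3decentspacesp2.IsCatenarySpace (AlgSp.Points X.obj) := by
  open CategoryTheory.Limits Groth.Agent.Lib.Helper14.AS in
  have hT0 : T0Space (AlgSp.Points X.obj) := Groth.Agent.S10338.result X hX
  have hQS : QuasiSober (AlgSp.Points X.obj) := Groth.Agent.S10339.result X hX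
  apply isCatenarySpace_of_local_dimFun
  intro x
  obtain ⟨U, a, hae, has⟩ := X.property.atlas
  obtain ⟨u, hu⟩ := ofPt_surjective_of_repWith has x
  have hUlft : LocallyOfFiniteType U.hom :=
    hp a (𝟙 _) (Over.homMk U.hom (by simp)) hae (AlgSp.repWith_id _ _) (hom_ext_terminal _ _)
  have hScat : PtTop.IsCatenarySpace S := (Groth.Agent.S12459.result S).2 hS S (𝟙 S) inferInstance
  obtain ⟨S₁, hs₁, δ₁, hδ₁⟩ := (Groth.Agent.S12447.result S).1 hScat (U.hom u)
  obtain ⟨O, hO, δ, hδ⟩ := exists_local_dimFun_of_chart hS hX p a hae S₁ δ₁ hδ₁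
  refine ⟨O, ?_, δ, hδ⟩
  change x ∈ (O : Set (AlgSp.Points X.obj))
  rw [hO]
  exact ⟨u, hs₁, hu⟩

end Groth.Agent.S10447
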