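import Groth.Statements.S10450
import Groth.Agent.Lib.Helper24.CodimZero
import Groth.Agent.Lib.Helper24.ZeroDimSch
import Groth.Agent.Lib.Helper14.AlgSpQSDecent
import Groth.Agent.Lib.Helper14.LimX

set_option autoImplicit false
universe u
open CategoryTheory CategoryTheory.Limits AlgebraicGeometry Topology TopologicalSpace
open AlgSp

namespace Groth.Agent.S10450

open CategoryTheory CategoryTheory.Limits AlgebraicGeometry Opposite AlgSp
open Groth.Agent.Lib.Helper14.AS Groth.Agent.Lib.Helper24.SchLocus Groth.Agent.Lib.Helper24.ZarGlue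
open Groth.Agent.Lib.Helper24.CodimZero Groth.Agent.Lib.Helper24.DecentDim Groth.Agent.Lib.Helper24.ZeroDimSch

/-- charts of a space of dimension 0 have zero-dimensional local rings -/
theorem stalk_dim_zero_of_dim_zero {S : Scheme.{u}} (X : AlgSp.Space S) (hd : AlgSp.dim X.obj = 0)
    {U : Over S} (a : (yon S).obj U ⟶ X.obj) (hae : RepWith @Etale a) (u : U.left) :
    ringKrullDim ↥(U.left.presheaf.stalk u) = 0 := by
  apply le_antisymm
  · rw [AlgebraicGeometry.ringKrullDim_stalk_eq_coheight]
    have h1 : topologicalKrullDim ↥U.left ≤ AlgSp.dim X.obj :=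
      le_iSup_of_le U (le_iSup_of_le a (le_iSup_of_le hae le_rfl))
    have h2 : (Order.coheight u : WithBot ℕ∞) ≤ topologicalKrullDim ↥U.left := by
      rw [topologicalKrullDim_eq_iSup_coheight]
      exact le_iSup (fun z : U.left => (Order.coheight z : WithBot ℕ∞)) u
    exact (h2.trans h1).trans hd.le
  · exact ringKrullDim_nonneg_of_nontrivial

set_option backward.isDefEq.respectTransparency.types false in
/-- a quasi-separated algebraic space of dimension 0 over a quasi-separated base is a scheme -/
theorem exists_iso_yon_of_dim_zero {S : Scheme.{u}} [QuasiSeparatedSpace S]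
    (X : AlgSp.Space S) (hqs : AlgSp.IsQuasiSeparatedSp X.obj) (hd : AlgSp.dim X.obj = 0) :
    ∃ (V : Over S) (g : (yon S).obj V ⟶ X.obj), IsIso g := by
  have hXalg := X.property
  have hXd : IsDecent X.obj := isDecent_of_isQuasiSeparatedSp hXalg hqs
  have hall : ∀ x : Points X.obj, x ∈ SchLocus X.obj := by
    intro x
    obtain ⟨U₀, a₀, u₀, hae₀, rfl⟩ := exists_chart X x
    obtain ⟨B, hB, huB, -⟩ := exists_isAffineOpen_mem_and_subset (x := u₀) (U := ⊤) trivial
    have hBaff : IsAffine (resOpen U₀ B).left := hB
    have hae : RepWith @Etale ((yon S).map (resOpenι U₀ B) ≫ a₀) :=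
      repWith_comp _ ((repWith_yon_map_iff _ _).2 (inferInstanceAs (Etale B.ι))) hae₀
    have hqc : RepWith @QuasiCompact ((yon S).map (resOpenι U₀ B) ≫ a₀) :=
      repWith_quasiCompact_of_isQuasiSeparatedSp hqs (A := resOpen U₀ B) inferInstance _ hae.rep
    have hdim := stalk_dim_zero_of_dim_zero X hd _ hae (⟨u₀, huB⟩ : ↥B)
    have hux : Points.ofPt ((yon S).map (resOpenι U₀ B) ≫ a₀) (⟨u₀, huB⟩ : ↥B) = Points.ofPt a₀ u₀ := by
      rw [ofPt_yon_map_comp]
      rfl
    have := mem_schLocus_of_dim_zero X hXd _ hae hqc (⟨u₀, huB⟩ : ↥B) hdim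
    rwa [hux] at this
  obtain ⟨V, g, hgo, hgr⟩ := exists_largest_open_subscheme hXalg
  have hsurj : Function.Surjective (Points.map g) := by
    intro x
    have : x ∈ Set.range (Points.map g) := by
      rw [Groth.Agent.Lib.Helper8.AlgSpPres.range_points_map_yon, hgr]
      exact hall x
    exact this
  exact ⟨V, g, Groth.Agent.Lib.Helper8.AlgSpOpen.isIso_of_openImmersion_of_isSurjectiveMor g hgo hsurj⟩

set_option backward.isDefEq.respectTransparency.types false in

/-- Let X be a quasi-separated algebraic space of dimension 0 over a quasi-separated scheme S. Then X is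
a separated scheme and every quasi-compact open of X is affine. (The published statement allows any
base scheme S and takes X quasi-separated in the absolute sense; this row asks S to be
quasi-separated and X quasi-separated over S, which together imply absolute quasi-separatedness.) -/
theorem result {S : Scheme.{u}} [QuasiSeparatedSpace S]
    (X : AlgSp.Space S) (hqs : AlgSp.IsQuasiSeparatedSp X.obj) (hd : AlgSp.dim X.obj = 0) :
    ∃ (U : Over S) (_ : (AlgSp.yon S).obj U ≅ X.obj), U.left.IsSeparated ∧
      ∀ V : U.left.Opens, IsCompact (V : Set ↥U.left) → IsAffineOpen V := by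
  obtain ⟨V, g, hg⟩ := exists_iso_yon_of_dim_zero X hqs hd
  have hVqs : IsQuasiSeparatedSp ((yon S).obj V) := isQuasiSeparatedSp_of_mono g hqs
  have h1 : QuasiCompact (pullback.diagonal V.hom) := (repWith_diag_yon_iff @QuasiCompact V).1 hVqs
  have h2 : QuasiSeparated V.hom := ⟨h1⟩
  have hVs : QuasiSeparatedSpace ↥V.left := quasiSeparatedSpace_of_quasiSeparated V.hom
  have hmax : ∀ x y : V.left, y ⤳ x → y = x := by
    intro x y hy
    have hdim := stalk_dim_zero_of_dim_zero X hd g (repWith_of_isIso _ g) x
    rw [AlgebraicGeometry.ringKrullDim_stalk_eq_coheight] at hdim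
    have h0 : Order.coheight x = 0 := by exact_mod_cast hdim
    rw [Order.coheight_eq_zero] at h0
    have h3 : x ⤳ y := h0 hy
    exact (hy.antisymm h3).eq
  exact ⟨V, asIso g, isSeparated hmax, fun W hW => isAffineOpen_of_isCompact hmax W hW⟩

end Groth.Agent.S10450
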