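import Groth.Statements.S10451
import Groth.Agent.S10450
import Groth.Agent.Lib.Helper14.AlgSpDiag
import Groth.Agent.Lib.Helper14.FppfLocalInst2

set_option autoImplicit false
universe u
open CategoryTheory CategoryTheory.Limits AlgebraicGeometry Topology TopologicalSpace
open AlgSp

namespace Groth.Agent.S10451

open CategoryTheory CategoryTheory.Limits AlgebraicGeometry Opposite AlgSp
open Groth.Agent.Lib.Helper14.AS

/-- a morphism injective on points into a discrete scheme is quasi-compact -/
theorem quasiCompact_of_injective_of_discrete {R Z : Scheme.{u}} (j : R ⟶ Z) [DiscreteTopology ↥Z]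
    (hj : Function.Injective j) : QuasiCompact j := by
  refine ⟨fun U _ hU => ?_⟩
  have hfin : U.Finite := hU.finite_of_discrete
  exact (hfin.preimage hj.injOn).isCompact

/-- a scheme locally of finite type over a field with dimension ≤ 0 is discrete -/
theorem discreteTopology_of_lft_field (k : Type u) [Field k] {A : Scheme.{u}}
    (f : A ⟶ Spec (CommRingCat.of k)) [LocallyOfFiniteType f] (h : topologicalKrullDim ↥A ≤ 0) :
    DiscreteTopology ↥A := by
  have h1 : IsLocallyNoetherian A := LocallyOfFiniteType.isLocallyNoetherian f
  have h2 : IsLocallyArtinian A := IsLocallyArtinian.of_topologicalKrullDim_le_zero h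
  infer_instance

set_option backward.isDefEq.respectTransparency.types false in
theorem discreteTopology_pullback (k : Type u) [Field k] {A : Scheme.{u}}
    (f : A ⟶ Spec (CommRingCat.of k)) [LocallyOfFiniteType f] [DiscreteTopology ↥A] :
    DiscreteTopology ↥(pullback f f) := by
  have hlqf : LocallyQuasiFinite f :=
    locallyQuasiFinite_iff_isDiscrete_preimage_singleton.2 fun x =>
      IsDiscrete.univ.mono (Set.subset_univ _)
  have h1 : LocallyQuasiFinite (pullback.fst f f ≫ f) := inferInstance
  have hsub : Subsingleton ↥(Spec (CommRingCat.of k)) :=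
    inferInstanceAs (Subsingleton (PrimeSpectrum k))
  have hd : DiscreteTopology ↥(Spec (CommRingCat.of k)) := Subsingleton.discreteTopology
  have h2 := (pullback.fst f f ≫ f).isDiscrete_preimage (s := Set.univ) IsDiscrete.univ
  rw [Set.preimage_univ] at h2
  exact isDiscrete_univ_iff.1 h2

set_option backward.isDefEq.respectTransparency.types false in

/-- Let k be a field and X an algebraic space locally of finite type over k with dim X = 0. Then X is a
separated scheme and every quasi-compact open of X is affine. -/
theorem result (k : Type u) [Field k]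
    (X : AlgSp.Space (Spec (CommRingCat.of k))) (p : X.obj ⟶ (AlgSp.yon (Spec (CommRingCat.of k))).obj (Over.mk (𝟙 _)))
    (hp : AlgSp.LocP @LocallyOfFiniteType p) (hd : AlgSp.dim X.obj = 0) :
    ∃ (U : Over (Spec (CommRingCat.of k))) (_ : (AlgSp.yon (Spec (CommRingCat.of k))).obj U ≅ X.obj), U.left.IsSeparated ∧
      ∀ V : U.left.Opens, IsCompact (V : Set ↥U.left) → IsAffineOpen V := by
  obtain ⟨A, a, hae, has⟩ := X.property.atlas
  obtain ⟨h, hh⟩ := (yon _).map_surjective (a ≫ p)
  have hAlft : LocallyOfFiniteType h.left :=
    hp a (𝟙 _) h hae (repWith_id _ _) (by rw [hh, Category.comp_id])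
  have hhl : h.left = A.hom := by
    have := Over.w h
    simpa using this
  rw [hhl] at hAlft
  have hdimA : topologicalKrullDim ↥A.left ≤ 0 := by
    have h1 : topologicalKrullDim ↥A.left ≤ AlgSp.dim X.obj :=
      le_iSup_of_le A (le_iSup_of_le a (le_iSup_of_le hae le_rfl))
    exact h1.trans hd.le
  have hAd : DiscreteTopology ↥A.left := discreteTopology_of_lft_field k A.hom hdimA
  have hPd : DiscreteTopology ↥(pullback A.hom A.hom) := discreteTopology_pullback k A.hom
  have hAAd : DiscreteTopology ↥(A ⨯ A).left :=
    (Scheme.homeoOfIso (Over.prodLeftIsoPullback A A)).isEmbedding.discreteTopology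
  have rep : Representable a := hae.rep
  have sq := rep.isPullback' a
  have hmono : Mono (prod.lift (rep.fst' a) (rep.snd a)) := by
    constructor
    intro T g₁ g₂ hg
    apply rep.hom_ext'
    · have := congrArg (· ≫ (prod.fst : A ⨯ A ⟶ A)) hg
      simpa only [Category.assoc, prod.lift_fst] using this
    · have := congrArg (· ≫ (prod.snd : A ⨯ A ⟶ A)) hg
      simpa only [Category.assoc, prod.lift_snd] using this
  have hmono' : Mono (prod.lift (rep.fst' a) (rep.snd a)).left :=
    inferInstanceAs (Mono ((Over.forget _).map (prod.lift (rep.fst' a) (rep.snd a))))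
  have hinj : Function.Injective (prod.lift (rep.fst' a) (rep.snd a)).left :=
    (prod.lift (rep.fst' a) (rep.snd a)).left.injective
  have hqc : QuasiCompact (prod.lift (rep.fst' a) (rep.snd a)).left :=
    quasiCompact_of_injective_of_discrete _ hinj
  have hqs : IsQuasiSeparatedSp X.obj :=
    (repWith_diag_iff_of_chart X.property.diag hae has sq @QuasiCompact).2 hqc
  exact Groth.Agent.S10450.result X hqs hd

end Groth.Agent.S10451
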