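import Groth.Statements.S10453
import Groth.Agent.Lib.Helper24.FinQuotRep
import Groth.Agent.Lib.Helper24.OpenInYon
import Groth.Agent.Lib.Helper24.OpenSubSp
import Groth.Agent.Lib.Helper24.AlgStSep2
import Groth.Agent.Lib.Helper14.AlgSpProdQC
import Groth.Agent.Lib.Helper14.IntFinRep
import Groth.Agent.Lib.Helper14.AlgSpPoints2
import Groth.Agent.Lib.Helper14.AlgSpLocP
import Groth.Agent.Lib.Helper14.SchImg1
import Groth.Agent.Lib.Helper8.Affine
import Groth.Agent.S10398

set_option autoImplicit false
universe u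
open CategoryTheory CategoryTheory.Limits AlgebraicGeometry Topology TopologicalSpace
open AlgSp

namespace Groth.Agent.S10453

open CategoryTheory CategoryTheory.Limits AlgebraicGeometry Opposite AlgSp TopologicalSpace
open Groth.Agent.Lib.Helper14.AS Groth.Agent.Lib.Helper24.FinQuotRep
open Groth.Agent.Lib.Helper24.OpenSubSp Groth.Agent.Lib.Helper24.ZarGlue
open Groth.Agent.Lib.Helper24.OpenInYon

theorem etale_le_univOpen : (@Etale : MorphismProperty Scheme.{u}) ≤ @UniversallyOpen :=
  fun _ _ f h => by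
    have : Etale f := h
    infer_instance


/-- Let X be a quasi-separated algebraic space over a quasi-separated scheme S and x a point of X of
codimension 0 (the local ring of X at x has dimension 0). Then some open subspace of X containing x
is a scheme. (The published statement allows any base scheme S and takes X quasi-separated in the
absolute sense; this row asks S to be quasi-separated and X quasi-separated over S, which together
imply absolute quasi-separatedness.) -/
theorem result {S : Scheme.{u}} [QuasiSeparatedSpace S]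
    (X : AlgSp.Space S) (hqs : AlgSp.IsQuasiSeparatedSp X.obj) (x : AlgSp.Points X.obj)
    (hx : AlgSp.HasAt (fun U u => ringKrullDim ↥(U.presheaf.stalk u) = 0) X.obj x) :
    ∃ (X' : AlgSp.Space S) (j : X' ⟶ X), AlgSp.RepWith @IsOpenImmersion j.hom ∧
      X'.obj.obj.IsRepresentable ∧ x ∈ Set.range (AlgSp.Points.map j.hom) := by
  obtain ⟨U₀, p, hpe, hps⟩ := X.property.atlas
  obtain ⟨u₀, rfl⟩ := ofPt_surjective_of_repWith hps x
  obtain ⟨N, hN, hu₀N, -⟩ := exists_isAffineOpen_mem_and_subset (x := u₀) (U := ⊤) trivial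
  have hUaff : IsAffine (resOpen U₀ N).left := hN
  let a : (yon S).obj (resOpen U₀ N) ⟶ X.obj := (yon S).map (resOpenι U₀ N) ≫ p
  have hae : RepWith @Etale a :=
    repWith_comp _ ((repWith_yon_map_iff _ _).2 (inferInstanceAs (Etale N.ι))) hpe
  have hxu : Points.ofPt a (⟨u₀, hu₀N⟩ : ↥N) = Points.ofPt p u₀ := ofPt_yon_map_comp _ _ _
  let fa : (ofScheme S).obj (resOpen U₀ N) ⟶ X := ObjectProperty.homMk a
  have hqsa : IsQuasiSeparatedMor fa.hom := by
    have hT : IsTerminal ((yon S).obj (Over.mk (𝟙 S))) :=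
      IsTerminal.isTerminalObj (yon S) _ Over.mkIdTerminal
    have e1 : a ≫ hT.from X.obj = (yon S).map (Over.mkIdTerminal.from (resOpen U₀ N)) := hT.hom_ext _ _
    apply Groth.Agent.Lib.Helper24.AlgStSep2.isQuasiSeparatedMor_of_comp a (hT.from X.obj)
    rw [e1, isQuasiSeparatedMor_yon_map_iff]
    infer_instance
  have hlft : LocP @LocallyOfFiniteType a := locP_of_repWith etale_le_lft (repWith_mono etale_le_lft hae)
  have hUc : IsQuasiCompactSp ((yon S).obj (resOpen U₀ N)) := isQuasiCompactSp_yon _
  have hqca : IsQuasiCompactMor a :=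
    isQuasiCompactMor_of_isQuasiSeparatedSp (IsAlgSpace.yon_obj _) hUc hqs a
  have hqf : ∀ x' : Points ((yon S).obj (resOpen U₀ N)), Points.map fa.hom x' = Points.ofPt p u₀ →
      HasAtMor (fun U _ h u => ∃ W : U.Opens, u ∈ W ∧ LocallyQuasiFinite (W.ι ≫ h) ∧
        LocallyOfFiniteType (W.ι ≫ h)) fa.hom x' := by
    intro x' _
    obtain ⟨u', rfl⟩ := (Points.schemeHomeo (resOpen U₀ N)).surjective x'
    refine ⟨resOpen U₀ N, resOpen U₀ N, 𝟙 _, a, 𝟙 _, u', repWith_id _ _, hae, ?_, rfl, ⊤, trivial, ?_, ?_⟩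
    · change 𝟙 ((yon S).obj (resOpen U₀ N)) ≫ a = (yon S).map (𝟙 (resOpen U₀ N)) ≫ a
      rw [Category.id_comp, (yon S).map_id, Category.id_comp]
    · infer_instance
    · infer_instance
  obtain ⟨X', P, j, fst, snd, hjo, ⟨x', hx'⟩, sq, hfin⟩ :=
    Groth.Agent.S10398.result fa hqsa ⟨hlft, hqca⟩ _ hx hqf
  have hfstfin : RepWith @IsFinite fst.hom := (integral_finite_iff_repWith fst).2.1 hfin
  have hfstet : RepWith @Etale fst.hom := repWith_of_isPullback _ sq.flip hae
  have hsndo : RepWith @IsOpenImmersion snd.hom := repWith_of_isPullback _ sq hjo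
  have hfstflf : RepWith finLocFree fst.hom := by
    refine (repWith_iff _ _).2 ⟨hfstfin.rep, fun A B g k l sqk => ?_⟩
    have h1 : IsFinite l.left := ((repWith_iff _ _).1 hfstfin).2 g k l sqk
    have h2 : Etale l.left := ((repWith_iff _ _).1 hfstet).2 g k l sqk
    exact ⟨h1, inferInstance, inferInstance⟩
  have hopen : IsOpenMap (Points.map fst.hom) :=
    isOpenMap_points_of_repWith_universallyOpen X'.property (repWith_mono etale_le_univOpen hfstet)
  have hO : IsOpen (Set.range (Points.map fst.hom)) := hopen.isOpen_range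
  have hx'O : x' ∈ Set.range (Points.map fst.hom) := by
    have e1 : Points.map j.hom x' = Points.map fa.hom (Points.ofScheme _ (⟨u₀, hu₀N⟩ : ↥N)) := by
      rw [hx', ← hxu, Points.ofPt_eq_map_ofScheme]
      rfl
    obtain ⟨z, hz1, -⟩ := points_exists_of_isPullback sq x' _ e1
    exact ⟨z, hz1⟩
  let X'' : Space S := ⟨(openPred (Set.range (Points.map fst.hom))).sheaf, isAlgSpace_openPred X'.property hO⟩
  let j'' : X'' ⟶ X' := ObjectProperty.homMk (openPred (Set.range (Points.map fst.hom))).ι
  have hj''o : RepWith @IsOpenImmersion j''.hom := repWith_openPred hO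
  have hj''r : Set.range (Points.map j''.hom) = Set.range (Points.map fst.hom) := range_openPred hO
  refine ⟨X'', j'' ≫ j, repWith_comp _ hj''o hjo, ?_, ?_⟩
  · have sq2 : IsPullback (pullback.fst fst.hom j''.hom) (pullback.snd fst.hom j''.hom) fst.hom j''.hom :=
      IsPullback.of_hasPullback _ _
    have hco : RepWith @IsOpenImmersion (pullback.fst fst.hom j''.hom ≫ snd.hom) :=
      repWith_comp _ (repWith_of_isPullback _ sq2.flip hj''o) hsndo
    obtain ⟨U', i, ε, hio, hεc⟩ := exists_open_subscheme _ hco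
    have sq3 := isPullback_iso_comp sq2 ε
    have hq : RepWith finLocFree (ε.hom ≫ pullback.snd fst.hom j''.hom) := repWith_of_isPullback _ sq3 hfstflf
    have hqsurj : Function.Surjective (Points.map (ε.hom ≫ pullback.snd fst.hom j''.hom)) := by
      intro x''
      obtain ⟨z, hz⟩ : Points.map j''.hom x'' ∈ Set.range (Points.map fst.hom) := by
        rw [← hj''r]; exact ⟨_, rfl⟩
      obtain ⟨w, -, hw2⟩ := points_exists_of_isPullback sq3 z x'' hz
      exact ⟨w, hw2⟩
    have hqs : RepWith @Surjective (ε.hom ≫ pullback.snd fst.hom j''.hom) :=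
      repWith_surjective_of_isSurjectiveMor hq.rep hqsurj
    have hfinU' : ∀ E : Set U'.left, E.Finite → ∃ W : U'.left.Opens, IsAffineOpen W ∧ E ⊆ W := fun E hE =>
      Groth.Agent.Lib.Helper8.exists_affineOpen_of_finite_of_isImmersion_affine i.left E hE
    obtain ⟨M, m, e, -, -, -, -⟩ := exists_scheme_quotient _ hq hqs hfinU'
    exact (representableByOfIso e).isRepresentable
  · obtain ⟨x'', hx''⟩ : x' ∈ Set.range (Points.map j''.hom) := by rw [hj''r]; exact hx'O
    refine ⟨x'', ?_⟩
    change Points.map (j''.hom ≫ j.hom) x'' = _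
    rw [Points.map_comp, hx'', hx']

end Groth.Agent.S10453
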