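import Groth.Statements.S10650
import Groth.Agent.Lib.Helper24.ThickFinite
import Groth.Agent.Lib.Helper24.OpenSubSp
import Groth.Agent.Lib.Helper24.DeformIso
import Groth.Agent.Lib.Helper14.AlgSpProper
import Groth.Agent.Lib.Helper14.RelDim0
import Groth.Agent.Lib.Helper14.HasAtMorChart

set_option autoImplicit false
universe u
open CategoryTheory CategoryTheory.Limits AlgebraicGeometry
open AlgSp

namespace Groth.Agent.S10650

open CategoryTheory CategoryTheory.Limits AlgebraicGeometry Opposite AlgSp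
open Groth.Agent.Lib.Helper14.AS Groth.Agent.Lib.Helper24.ThickSq Groth.Agent.Lib.Helper24.OpenSubSp
open Groth.Agent.Lib.Helper24.DeformIso

/-- quasi-finite on a neighbourhood gives fibre dimension zero at the point -/
theorem fibreDimAt_eq_zero_of_nbhd {U V : Scheme.{u}} (h : U ⟶ V) (u : ↥U) (W : U.Opens)
    (huW : u ∈ W) (h1 : LocallyQuasiFinite (W.ι ≫ h)) (h2 : LocallyOfFiniteType (W.ι ≫ h)) :
    FlatMor.fibreDimAt h u = 0 := by
  have e := Groth.Agent.Lib.Helper6.EtaleSq.fibreDimAt_etale_square h (W.ι ≫ h) W.ι (𝟙 V)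
    (by simp) ⟨u, huW⟩
  have e2 := (locallyQuasiFinite_iff_fibreDimAt_eq_zero (W.ι ≫ h)).1 h1 ⟨u, huW⟩
  rw [e2] at e
  exact e

set_option backward.isDefEq.respectTransparency.types false in

/-- For a proper morphism f : X ⟶ Y of algebraic spaces over S and a point y of |Y| such that f is
quasi-finite at every point of |X| lying over y (for each such point some etale chart diagram
through it has top arrow locally quasi-finite and locally of finite type on an open neighbourhood),
there is an open subspace V of Y containing y such that the base change X ×_Y V ⟶ V is finite. -/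
theorem result {S : Scheme.{u}} {X Y : AlgSp.Space S} (f : X ⟶ Y) (y : AlgSp.Points Y.obj)
    (hf : AlgSp.IsProperMor f.hom)
    (hq : ∀ x : AlgSp.Points X.obj, AlgSp.Points.map f.hom x = y →
      AlgSp.HasAtMor (fun U _ h u => ∃ W : U.Opens, u ∈ W ∧ LocallyQuasiFinite (W.ι ≫ h) ∧ LocallyOfFiniteType (W.ι ≫ h)) f.hom x) :
    ∃ (V : AlgSp.Space S) (j : V ⟶ Y), AlgSp.RepWith @IsOpenImmersion j.hom ∧
      y ∈ Set.range (AlgSp.Points.map j.hom) ∧
        ∀ (P : AlgSp.Space S) (fst : P ⟶ X) (snd : P ⟶ V), IsPullback fst.hom snd.hom f.hom j.hom →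
          AlgSp.IsFiniteMor snd.hom := by
  let Qn : ∀ (U V : Scheme.{u}), (U ⟶ V) → ↥U → Prop := fun U _ h u =>
    ∃ W : U.Opens, u ∈ W ∧ LocallyQuasiFinite (W.ι ≫ h) ∧ LocallyOfFiniteType (W.ι ≫ h)
  let Q : Set (Points X.obj) := {x | HasAtMor Qn f.hom x}
  have hQopen : IsOpen Q := by
    rw [isOpen_iff_forall_mem_open]
    rintro x ⟨U, V, a, b, h, u, hae, hbe, comm, rfl, W, huW, hW⟩
    refine ⟨Points.ofPt a '' W, ?_, isOpenMap_ofPt a hae _ W.2, ⟨u, huW, rfl⟩⟩
    rintro _ ⟨u', hu', rfl⟩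
    exact ⟨U, V, a, b, h, u', hae, hbe, comm, rfl, W, hu', hW⟩
  have hcl : IsClosedMap (Points.map f.hom) :=
    hf.2.2 Y.property (𝟙 _) (𝟙 _) f.hom (IsPullback.of_horiz_isIso ⟨by simp⟩)
  let W : Set (Points Y.obj) := (Points.map f.hom '' Qᶜ)ᶜ
  have hWopen : IsOpen W := (hcl _ hQopen.isClosed_compl).isOpen_compl
  have hyW : y ∈ W := by
    rintro ⟨x, hx, rfl⟩
    exact hx (hq x rfl)
  let V : Space S := ⟨(openPred W).sheaf, isAlgSpace_openPred Y.property hWopen⟩
  let j : V ⟶ Y := ObjectProperty.homMk (openPred W).ι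
  have hjo : RepWith @IsOpenImmersion j.hom := repWith_openPred hWopen
  have hrange : Set.range (Points.map j.hom) = W := range_openPred hWopen
  refine ⟨V, j, hjo, ?_, ?_⟩
  · rw [hrange]; exact hyW
  · intro P fst snd sq
    rw [isFiniteMor_iff_isProperMor_and_lqf]
    have hprop : IsProperMor snd.hom :=
      isProperMor_of_isPullback X.property Y.property V.property sq hf
    refine ⟨hprop, ?_⟩
    rw [locP_lqf_iff_relDim_zero P.property V.property snd.hom hprop.2.1.1]
    intro p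
    obtain ⟨U, V₀, a, b, h, u, hae, hbe, comm, rfl⟩ :=
      exists_chart_diagram_at P.property V.property snd.hom p
    refine ⟨U, V₀, a, b, h, u, hae, hbe, comm, rfl, ?_⟩
    have hje : RepWith @Etale j.hom := repWith_mono Groth.Agent.Lib.Helper14.AS.isOpenImmersion_le_etale hjo
    have hfste : RepWith @Etale fst.hom := repWith_of_isPullback _ sq.flip hje
    have hae2 : RepWith @Etale (a ≫ fst.hom) := repWith_comp _ hae hfste
    have hbe2 : RepWith @Etale (b ≫ j.hom) := repWith_comp _ hbe hje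
    have comm2 : (a ≫ fst.hom) ≫ f.hom = (yon S).map h ≫ (b ≫ j.hom) := by
      rw [Category.assoc, sq.w, ← Category.assoc, comm, Category.assoc]
    have hx : Points.ofPt (a ≫ fst.hom) u ∈ Q := by
      by_contra hn
      have hmem : Points.map j.hom (Points.map snd.hom (Points.ofPt a u)) ∈ W := by
        rw [← hrange]; exact ⟨_, rfl⟩
      apply hmem
      refine ⟨Points.ofPt (a ≫ fst.hom) u, hn, ?_⟩
      rw [Points.map_ofPt, Points.map_ofPt, Points.map_ofPt]
      congr 1
      rw [Category.assoc, Category.assoc, sq.w]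
    obtain ⟨U₁, V₁, a₁, b₁, h₁, u₁, ha₁, hb₁, comm₁, hu₁, W₁, hu₁W, hq1, hq2⟩ := hx
    have h0 : FlatMor.fibreDimAt h₁.left u₁ = 0 :=
      fibreDimAt_eq_zero_of_nbhd h₁.left u₁ W₁ hu₁W hq1 hq2
    have hA : HasAtMor (fun _ _ k v => FlatMor.fibreDimAt k v = 0) f.hom
        (Points.ofPt (a ≫ fst.hom) u) :=
      ⟨U₁, V₁, a₁, b₁, h₁, u₁, ha₁, hb₁, comm₁, hu₁, h0⟩
    exact (hasAtMor_ofPt_iff (etSqInv_fibreDimAt (fun d => d = 0)) f.hom (a ≫ fst.hom)
      (b ≫ j.hom) h hae2 hbe2 comm2 u).1 hA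

end Groth.Agent.S10650
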