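import Groth.Statements.S10460
import Groth.Agent.Lib.Helper14.DimChain3

set_option autoImplicit false
universe u
open CategoryTheory CategoryTheory.Limits AlgebraicGeometry Topology TopologicalSpace
open AlgSp

namespace Groth.Agent.S10460

/-- Let f : X ⟶ Y be a proper dominant morphism between integral algebraic spaces over a scheme S, with
Y locally Noetherian, and let r be the transcendence degree of the generic point of X over the
generic point of Y. Then dim X = dim Y + r. -/
theorem result {S : Scheme.{u}} {X Y : AlgSp.Space S} (f : X ⟶ Y)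
    (hY : AlgSp.IsLocNoethSp Y.obj) (hXi : AlgSp.IsIntegralSp X.obj) (hYi : AlgSp.IsIntegralSp Y.obj)
    (hd : AlgSp.IsDominantMor f.hom) (hp : AlgSp.IsProperMor f.hom)
    (x : AlgSp.Points X.obj) (hx : IsGenericPoint x (Set.univ : Set (AlgSp.Points X.obj))) (r : ℕ)
    (hr : AlgSp.HasAtMor (fun _ _ h u => Dual3.resTrdeg h u = (r : Cardinal.{u})) f.hom x) :
    AlgSp.dim X.obj = AlgSp.dim Y.obj + ((r : ℕ∞) : WithBot ℕ∞) := by
  open CategoryTheory.Limits Groth.Agent.Lib.Helper14.AS in
  have hcl : IsClosedMap (AlgSp.Points.map f.hom) :=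
    hp.2.2 Y.2 (𝟙 Y.obj) (𝟙 X.obj) f.hom (IsPullback.of_horiz_isIso ⟨by simp⟩)
  exact le_antisymm
    (dim_le_dim_add_trdeg_of_generic Y.2 hXi.2.1 f.hom hY hp.2.1.1 hx r hr)
    (dim_add_trdeg_le_dim_of_closed X.2 Y.2 hXi.2.1 hYi.2.1 f.hom hp.2.1.1 hcl hd x hx r hr)

end Groth.Agent.S10460
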