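import Groth.Statements.S10471
import Groth.Agent.Lib.Helper1.AlgSpGal

set_option autoImplicit false
universe u
open CategoryTheory CategoryTheory.Limits AlgebraicGeometry Topology TopologicalSpace
open AlgSp

namespace Groth.Agent.S10471

/-- Let k be a field, K/k a (possibly infinite) Galois extension, X an algebraic space over k and V a
quasi-compact open of |X_K|. Then there is an open subgroup H of Gal(K/k) with σ(V) = V for all σ ∈
H. -/
theorem result (k : Type u) [Field k] (X : AlgSp.Space (Spec (CommRingCat.of k))) (K : Type u) [Field K] [Algebra k K]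
    [IsGalois k K] (V : Set (AlgSp.Points (X.obj ⨯ (AlgSp.yon (Spec (CommRingCat.of k))).obj (Over.mk (Spec.map (CommRingCat.ofHom (algebraMap k K))))))) (hV : IsOpen V) (hVc : IsCompact V) :
    ∃ H : Subgroup (K ≃ₐ[k] K), IsOpen (H : Set (K ≃ₐ[k] K)) ∧
      ∀ σ ∈ H, ∀ (g : (Over.mk (Spec.map (CommRingCat.ofHom (algebraMap k K))) : Over (Spec (CommRingCat.of k))) ⟶ Over.mk (Spec.map (CommRingCat.ofHom (algebraMap k K)))),
        g.left = Spec.map (CommRingCat.ofHom (σ : K ≃ₐ[k] K).toRingHom) →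
          AlgSp.Points.map (Limits.prod.map (𝟙 X.obj) ((AlgSp.yon (Spec (CommRingCat.of k))).map g)) '' V = V := by
  classical
  letI := Groth.Agent.Lib.Helper1.AlgSpGal.mulAction k K X.obj
  letI := Groth.Agent.Lib.Helper1.AlgSpGal.continuousSMul k K X.property
  have hs := Groth.Agent.Lib.Helper1.AlgSpGal.setup k K X.property
  obtain ⟨H, hHo, hH⟩ := Groth.Agent.Lib.Helper1.GalTop.exists_subgroup_smul_mem hs hV hVc
  refine ⟨H, hHo, fun σ hσ g hg => ?_⟩
  rw [Groth.Agent.Lib.Helper1.AlgSpGal.eq_galHom k K σ g hg]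
  apply Set.Subset.antisymm
  · rintro _ ⟨v, hv, rfl⟩
    have := hH σ⁻¹ (H.inv_mem hσ) v hv
    rw [Groth.Agent.Lib.Helper1.AlgSpGal.smul_def, inv_inv] at this
    exact this
  · intro v hv
    refine ⟨σ • v, hH σ hσ v hv, ?_⟩
    have h1 : σ⁻¹ • (σ • v) = v := inv_smul_smul σ v
    rw [Groth.Agent.Lib.Helper1.AlgSpGal.smul_def k K X.obj σ⁻¹, inv_inv] at h1
    exact h1

end Groth.Agent.S10471
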