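import Groth.Statements.S10472
import Groth.Agent.Lib.Helper1.AlgSpTowerGal

set_option autoImplicit false
universe u
open CategoryTheory CategoryTheory.Limits AlgebraicGeometry Topology TopologicalSpace
open AlgSp

namespace Groth.Agent.S10472

/-- Let k be a field, K/k a (possibly infinite) Galois extension, X an algebraic space over k and V a
quasi-compact open of |X_K|. Then there are a finite subextension k' of K/k and a quasi-compact open
V' of |X_{k'}| with V the inverse image of V' in |X_K|. -/
theorem result (k : Type u) [Field k] (X : AlgSp.Space (Spec (CommRingCat.of k))) (K : Type u) [Field K] [Algebra k K]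
    [IsGalois k K] (V : Set (AlgSp.Points (X.obj ⨯ (AlgSp.yon (Spec (CommRingCat.of k))).obj (Over.mk (Spec.map (CommRingCat.ofHom (algebraMap k K))))))) (hV : IsOpen V) (hVc : IsCompact V) :
    ∃ (k' : IntermediateField k K) (_ : FiniteDimensional k k')
      (g : (Over.mk (Spec.map (CommRingCat.ofHom (algebraMap k K))) : Over (Spec (CommRingCat.of k))) ⟶ Over.mk (Spec.map (CommRingCat.ofHom (algebraMap k k')))),
      g.left = Spec.map (CommRingCat.ofHom (algebraMap k' K)) ∧
      ∃ V' : Set (AlgSp.Points (X.obj ⨯ (AlgSp.yon (Spec (CommRingCat.of k))).obj (Over.mk (Spec.map (CommRingCat.ofHom (algebraMap k k')))))), IsOpen V' ∧ IsCompact V' ∧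
        AlgSp.Points.map (Limits.prod.map (𝟙 X.obj) ((AlgSp.yon (Spec (CommRingCat.of k))).map g)) ⁻¹' V' = V := by
  classical
  letI := Groth.Agent.Lib.Helper1.AlgSpGal.mulAction k K X.obj
  letI := Groth.Agent.Lib.Helper1.AlgSpGal.continuousSMul k K X.property
  have hs := Groth.Agent.Lib.Helper1.AlgSpGal.setup k K X.property
  obtain ⟨H, hHo, hH⟩ := Groth.Agent.Lib.Helper1.GalTop.exists_subgroup_smul_mem hs hV hVc
  obtain ⟨E, hE, hEH⟩ := (krullTopology_mem_nhds_one_iff k K H).mp (hHo.mem_nhds H.one_mem)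
  refine ⟨E, hE, Groth.Agent.Lib.Helper14.AS.fieldOverHom k E K, rfl,
    AlgSp.Points.map (Groth.Agent.Lib.Helper1.AlgSpGal.tw k E K X.obj) '' V,
    Groth.Agent.Lib.Helper1.AlgSpGal.isOpenMap_tw k E K X.property V hV,
    hVc.image (AlgSp.Points.continuous_map _), ?_⟩
  change AlgSp.Points.map (Groth.Agent.Lib.Helper1.AlgSpGal.tw k E K X.obj) ⁻¹'
    (AlgSp.Points.map (Groth.Agent.Lib.Helper1.AlgSpGal.tw k E K X.obj) '' V) = V
  apply Set.Subset.antisymm
  · rintro y ⟨v, hv, hvy⟩
    letI := Groth.Agent.Lib.Helper1.AlgSpGal.mulActionTower k E K X.obj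
    letI := Groth.Agent.Lib.Helper1.AlgSpGal.continuousSMulTower k E K X.property
    have hsE := Groth.Agent.Lib.Helper1.AlgSpGal.setupTower k E K X.property
    obtain ⟨σ, hσ⟩ := hsE.trans v y hvy
    have hmem' : (σ.restrictScalars k) ∈ E.fixingSubgroup := by
      rw [IntermediateField.mem_fixingSubgroup_iff]
      intro a ha
      exact σ.commutes ⟨a, ha⟩
    have hmem : (σ.restrictScalars k) ∈ H := hEH hmem' 
    rw [← hσ]
    exact hH _ hmem v hv
  · exact Set.subset_preimage_image _ _

end Groth.Agent.S10472
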