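import Groth.Statements.S10475
import Mathlib
import Groth.Agent.S2535
import Groth.Agent.Lib.Helper14.AlgSpPoints

set_option autoImplicit false
universe u
open CategoryTheory CategoryTheory.Limits AlgebraicGeometry Topology TopologicalSpace
open AlgSp

namespace Groth.Agent.S10475

open CategoryTheory CategoryTheory.Limits AlgebraicGeometry Opposite AlgSp
open Groth.Agent.Lib.Helper14.AS

theorem isGeomReducedAt_of_isReduced_perfect (k : Type u) [Field k] [PerfectField k]
    {U : Scheme.{u}} (f : U ⟶ Spec (CommRingCat.of k)) [IsReduced U] (u : U) :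
    FBase.IsGeomReducedAt f u := by
  have hiso : IsIso (Spec.map (CommRingCat.ofHom (algebraMap k k))) := by
    have : CommRingCat.ofHom (algebraMap k k) = 𝟙 (CommRingCat.of k) := rfl
    rw [this]
    infer_instance
  haveI : IsIso (FBase.bcπ f k) := by
    unfold FBase.bcπ
    haveI := hiso
    exact pullback_fst_iso_of_right_iso f _
  haveI : IsReduced (FBase.bc f k) := isReduced_of_isOpenImmersion (FBase.bcπ f k)
  have hG : GeometricallyReduced f := Groth.Agent.S2535.result (Ω := k) f
  intro K _ _ x' _
  have hred : IsReduced (pullback f (Spec.map (CommRingCat.ofHom (algebraMap k K)))) :=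
    geometrically_iff_of_commRing_of_isClosedUnderIsomorphisms.mp hG.1 K
  change _root_.IsReduced ((pullback f (Spec.map (CommRingCat.ofHom (algebraMap k K)))).presheaf.stalk x')
  infer_instance


/-- Let k be a perfect field and X a reduced algebraic space over k. Then X is geometrically reduced
over k (geometrically reduced at every point). -/
theorem result (k : Type u) [Field k] [PerfectField k]
    (X : AlgSp.Space (Spec (CommRingCat.of k))) (hX : AlgSp.EtaleLocally (fun U => IsReduced U) X.obj) (x : AlgSp.Points X.obj) :
    (∃ (U : Over (Spec (CommRingCat.of k))) (a : (AlgSp.yon (Spec (CommRingCat.of k))).obj U ⟶ X.obj) (u : ↥U.left),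
      AlgSp.RepWith @Etale a ∧ AlgSp.Points.ofPt a u = x ∧ FBase.IsGeomReducedAt U.hom u) := by
  obtain ⟨U, a, hae, has, hred⟩ := hX
  obtain ⟨u, hu⟩ := ofPt_surjective_of_repWith has x
  haveI : IsReduced U.left := hred
  exact ⟨U, a, u, hae, hu, isGeomReducedAt_of_isReduced_perfect k U.hom u⟩

end Groth.Agent.S10475
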