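import Groth.Statements.S10477
import Mathlib
import Groth.Agent.S2535
import Groth.Agent.Lib.Helper14.GeomRed3

set_option autoImplicit false
universe u
open CategoryTheory CategoryTheory.Limits AlgebraicGeometry Topology TopologicalSpace
open AlgSp

namespace Groth.Agent.S10477

open CategoryTheory CategoryTheory.Limits AlgebraicGeometry Opposite AlgSp
open Groth.Agent.Lib.Helper14.AS

set_option backward.isDefEq.respectTransparency.types false in
theorem bc_reduced_of_perfect (k : Type u) [Field k]
    {X : Sp (Spec (CommRingCat.of k))} (hX : IsAlgSpace X)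
    (Ω : Type u) [Field Ω] [Algebra k Ω] [PerfectField Ω]
    (h : EtaleLocally (fun U => IsReduced U) (X ⨯ (yon (Spec (CommRingCat.of k))).obj (fieldOver k Ω)))
    (K : Type u) [Field K] [Algebra k K] :
    EtaleLocally (fun U => IsReduced U) (X ⨯ (yon (Spec (CommRingCat.of k))).obj (fieldOver k K)) := by
  obtain ⟨U, a, hae, has⟩ := hX.atlas
  have hred : IsReduced (U ⨯ fieldOver k Ω).left :=
    isReduced_of_etale_chart h (bcChart Ω a) (repWith_bcChart Ω a hae)
  let e : (U ⨯ fieldOver k Ω).left ≅ FBase.bc U.hom Ω := Over.prodLeftIsoPullback U (fieldOver k Ω)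
  haveI : IsReduced (FBase.bc U.hom Ω) := isReduced_of_isOpenImmersion e.inv
  have hG : GeometricallyReduced U.hom := Groth.Agent.S2535.result (Ω := Ω) U.hom
  have hredK : IsReduced (pullback U.hom (Spec.map (CommRingCat.ofHom (algebraMap k K)))) :=
    geometrically_iff_of_commRing_of_isClosedUnderIsomorphisms.mp hG.1 K
  let e' : (U ⨯ fieldOver k K).left ≅ FBase.bc U.hom K := Over.prodLeftIsoPullback U (fieldOver k K)
  haveI : IsReduced (FBase.bc U.hom K) := hredK
  refine ⟨U ⨯ fieldOver k K, bcChart K a, repWith_bcChart K a hae,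
    repWith_prodChart _ has (repWith_id _ _), ?_⟩
  exact isReduced_of_isOpenImmersion e'.hom


/-- (6) ⇒ (2): let k be a field of characteristic p > 0 with algebraic closure k̄ and X an algebraic
space over k. If X_{k̄} is reduced, then X_K is reduced for every field extension K of k. -/
theorem result (k : Type u) [Field k] (p : ℕ) [Fact p.Prime] [CharP k p]
    (X : AlgSp.Space (Spec (CommRingCat.of k))) (kbar : Type u) [Field kbar] [Algebra k kbar] [IsAlgClosure k kbar]
    (h : AlgSp.EtaleLocally (fun U => IsReduced U) (X.obj ⨯ (AlgSp.yon (Spec (CommRingCat.of k))).obj (Over.mk (Spec.map (CommRingCat.ofHom (algebraMap k kbar))))))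
    (K : Type u) [Field K] [Algebra k K] : AlgSp.EtaleLocally (fun U => IsReduced U) (X.obj ⨯ (AlgSp.yon (Spec (CommRingCat.of k))).obj (Over.mk (Spec.map (CommRingCat.ofHom (algebraMap k K))))) := by
  haveI : IsAlgClosed kbar := IsAlgClosure.isAlgClosed k
  exact bc_reduced_of_perfect k X.property kbar h K

end Groth.Agent.S10477
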