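import Groth.Statements.S10478
import Mathlib
import Groth.Agent.S2535
import Groth.Agent.Lib.Helper14.GeomRed3

set_option autoImplicit false
universe u
open CategoryTheory CategoryTheory.Limits AlgebraicGeometry Topology TopologicalSpace
open AlgSp

namespace Groth.Agent.S10478

open CategoryTheory CategoryTheory.Limits AlgebraicGeometry Opposite AlgSp TensorProduct
open Groth.Agent.Lib.Helper14.AS

theorem geometricallyReduced_of_forall_finite_pi {k : Type u} [Field k] {U : Scheme.{u}}
    (f : U ⟶ Spec (CommRingCat.of k))
    (h : ∀ (k' : Type u) [Field k'] [Algebra k k'], Module.Finite k k' → IsPurelyInseparable k k' →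
      IsReduced (FBase.bc f k')) : GeometricallyReduced f := by
  let L : IntermediateField k (AlgebraicClosure k) := perfectClosure k (AlgebraicClosure k)
  haveI : IsReduced (FBase.bc f L) := by
    refine @IsReduced.of_openCover _ (Scheme.Pullback.openCoverOfLeft U.affineCover f
      (Spec.map (CommRingCat.ofHom (algebraMap k L)))) fun i => ?_
    show IsReduced (pullback (U.affineCover.f i ≫ f) (Spec.map (CommRingCat.ofHom (algebraMap k L))))
    obtain ⟨A, _, _, -, hA⟩ := Groth.Agent.S2535.affine_bc (U.affineCover.X i) (U.affineCover.f i ≫ f)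
    rw [hA L]
    have h1 : _root_.IsReduced (L ⊗[k] A) := by
      apply Groth.Agent.Lib.Helper6.isReduced_of_forall_finite
      intro F hF
      have hpi : IsPurelyInseparable k F := IsPurelyInseparable.tower_bot k F L
      have h2 : IsReduced (pullback f (Spec.map (CommRingCat.ofHom (algebraMap k F)))) := h F hF hpi
      have hoi : IsOpenImmersion ((Scheme.Pullback.openCoverOfLeft U.affineCover f
          (Spec.map (CommRingCat.ofHom (algebraMap k F)))).f i) :=
        Scheme.Cover.map_prop (Scheme.Pullback.openCoverOfLeft U.affineCover f
          (Spec.map (CommRingCat.ofHom (algebraMap k F)))) i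
      have h3 : IsReduced (pullback (U.affineCover.f i ≫ f)
          (Spec.map (CommRingCat.ofHom (algebraMap k F)))) :=
        @isReduced_of_isOpenImmersion _ _ _ hoi h2
      have h4 : _root_.IsReduced (A ⊗[k] F) := (hA F).mp h3
      exact isReduced_of_injective (Algebra.TensorProduct.comm k F A).toAlgHom
        (Algebra.TensorProduct.comm k F A).injective
    exact isReduced_of_injective (Algebra.TensorProduct.comm k A L).toAlgHom
      (Algebra.TensorProduct.comm k A L).injective
  exact Groth.Agent.S2535.result (Ω := L) f

set_option backward.isDefEq.respectTransparency.types false in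
theorem bc_reduced_of_forall_finite_pi (k : Type u) [Field k]
    {X : Sp (Spec (CommRingCat.of k))} (hX : IsAlgSpace X)
    (h : ∀ (k' : Type u) [Field k'] [Algebra k k'], Module.Finite k k' → IsPurelyInseparable k k' →
      EtaleLocally (fun U => IsReduced U) (X ⨯ (yon (Spec (CommRingCat.of k))).obj (fieldOver k k')))
    (K : Type u) [Field K] [Algebra k K] :
    EtaleLocally (fun U => IsReduced U) (X ⨯ (yon (Spec (CommRingCat.of k))).obj (fieldOver k K)) := by
  obtain ⟨U, a, hae, has⟩ := hX.atlas
  have hG : GeometricallyReduced U.hom := by
    apply geometricallyReduced_of_forall_finite_pi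
    intro k' _ _ hfin hpi
    have hred : IsReduced (U ⨯ fieldOver k k').left :=
      isReduced_of_etale_chart (h k' hfin hpi) (bcChart k' a) (repWith_bcChart k' a hae)
    let e : (U ⨯ fieldOver k k').left ≅ FBase.bc U.hom k' :=
      Over.prodLeftIsoPullback U (fieldOver k k')
    exact isReduced_of_isOpenImmersion e.inv
  have hredK : IsReduced (pullback U.hom (Spec.map (CommRingCat.ofHom (algebraMap k K)))) :=
    geometrically_iff_of_commRing_of_isClosedUnderIsomorphisms.mp hG.1 K
  let e' : (U ⨯ fieldOver k K).left ≅ FBase.bc U.hom K := Over.prodLeftIsoPullback U (fieldOver k K)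
  haveI : IsReduced (FBase.bc U.hom K) := hredK
  refine ⟨U ⨯ fieldOver k K, bcChart K a, repWith_bcChart K a hae,
    repWith_prodChart _ has (repWith_id _ _), ?_⟩
  exact isReduced_of_isOpenImmersion e'.hom


/-- (3) ⇒ (2): let k be a field of characteristic p > 0 and X an algebraic space over k. If X_{k'} is
reduced whenever k' is a finite purely inseparable extension of k, then X_K is reduced for every
field extension K of k. -/
theorem result (k : Type u) [Field k] (p : ℕ) [Fact p.Prime]
    [CharP k p] (X : AlgSp.Space (Spec (CommRingCat.of k)))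
    (h : ∀ (k' : Type u) [Field k'] [Algebra k k'], Module.Finite k k' → IsPurelyInseparable k k' →
      AlgSp.EtaleLocally (fun U => IsReduced U) (X.obj ⨯ (AlgSp.yon (Spec (CommRingCat.of k))).obj (Over.mk (Spec.map (CommRingCat.ofHom (algebraMap k k'))))))
    (K : Type u) [Field K] [Algebra k K] : AlgSp.EtaleLocally (fun U => IsReduced U) (X.obj ⨯ (AlgSp.yon (Spec (CommRingCat.of k))).obj (Over.mk (Spec.map (CommRingCat.ofHom (algebraMap k K))))) := by
  exact bc_reduced_of_forall_finite_pi k X.property h K

end Groth.Agent.S10478
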