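import Groth.Statements.S10484
import Groth.Agent.Lib.Helper14.MonoLqf2

set_option autoImplicit false
universe u
open CategoryTheory CategoryTheory.Limits AlgebraicGeometry Topology TopologicalSpace
open AlgSp

namespace Groth.Agent.S10484

/-- For a field k, local quasi-finiteness over k passes from the target Y of a monomorphism f : X ⟶ Y of
algebraic spaces over k to its source X. -/
theorem result (k : Type u) [Field k] {X Y : AlgSp.Space (Spec (CommRingCat.of k))} (f : X ⟶ Y)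
    [Mono f.hom] (q : Y.obj ⟶ (AlgSp.yon (Spec (CommRingCat.of k))).obj (Over.mk (𝟙 _))) (hq : AlgSp.LocP (@LocallyQuasiFinite ⊓ @LocallyOfFiniteType : MorphismProperty Scheme.{u}) q) :
    AlgSp.LocP (@LocallyQuasiFinite ⊓ @LocallyOfFiniteType : MorphismProperty Scheme.{u}) (f.hom ≫ q) := by
  have hX := X.property
  have hY := Y.property
  obtain ⟨V₁, β, hβe, hβs⟩ := hY.atlas
  obtain ⟨U, a, hae, has⟩ := hX.atlas
  obtain ⟨m, hm⟩ := (AlgSp.yon _).map_surjective (β ≫ q)
  have hid : AlgSp.RepWith @Etale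
      (𝟙 ((AlgSp.yon (Spec (CommRingCat.of k))).obj (Over.mk (𝟙 _)))) := AlgSp.repWith_id _ _
  have hV := hq β (𝟙 _) m hβe hid (by rw [hm, Category.comp_id])
  have hm1 : LocallyQuasiFinite m.left := hV.1
  have hm2 : LocallyOfFiniteType m.left := hV.2
  have hArt0 : IsLocallyArtinian (Spec (CommRingCat.of k)) := inferInstance
  have hArt0' : IsLocallyArtinian (Over.mk (𝟙 (Spec (CommRingCat.of k)))).left := hArt0
  have hArt : IsLocallyArtinian V₁.left := IsLocallyArtinian.of_locallyQuasiFinite m.left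
  have sqU := hβe.rep.isPullback (a ≫ f.hom)
  obtain ⟨g, hg⟩ := (AlgSp.yon _).map_surjective (hβe.rep.fst (a ≫ f.hom))
  let pr := hβe.rep.snd (a ≫ f.hom)
  let a' : (AlgSp.yon _).obj (hβe.rep.pullback (a ≫ f.hom)) ⟶ pullback f.hom β :=
    pullback.lift ((AlgSp.yon _).map pr ≫ a) (hβe.rep.fst (a ≫ f.hom))
      (by rw [Category.assoc, ← sqU.w])
  have ha'1 : a' ≫ pullback.fst f.hom β = (AlgSp.yon _).map pr ≫ a := pullback.lift_fst _ _ _
  have ha'2 : a' ≫ pullback.snd f.hom β = hβe.rep.fst (a ≫ f.hom) := pullback.lift_snd _ _ _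
  have sqL : IsPullback a' ((AlgSp.yon _).map pr) (pullback.fst f.hom β) a :=
    IsPullback.of_right (by rw [ha'2]; exact sqU) ha'1 (IsPullback.of_hasPullback f.hom β).flip
  have ha'e : AlgSp.RepWith @Etale a' :=
    Groth.Agent.Lib.Helper14.AS.repWith_of_isPullback _ sqL.flip hae
  have hpr : Etale (pullback.snd g.left g.left) :=
    Groth.Agent.Lib.Helper14.AS.etale_kernelPair_of_etale_mono g a' (pullback.snd f.hom β) ha'e
      (by rw [hg, ha'2])
  obtain ⟨hg1, hg2⟩ := Groth.Agent.Lib.Helper14.AS.lqf_lft_of_etale_kernelPair g.left hpr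
  have ha₀e : AlgSp.RepWith @Etale ((AlgSp.yon _).map pr ≫ a) :=
    Groth.Agent.Lib.Helper14.AS.repWith_comp _
      ((AlgSp.repWith_yon_map_iff _ _).2 (hβe.property_snd _)) hae
  have ha₀s : AlgSp.RepWith @Surjective ((AlgSp.yon _).map pr ≫ a) :=
    Groth.Agent.Lib.Helper14.AS.repWith_comp _
      ((AlgSp.repWith_yon_map_iff _ _).2 (hβs.property _ _ _ sqU)) has
  refine Groth.Agent.Lib.Helper14.AS.locP_of_chart Groth.Agent.Lib.Helper14.AS.etLocal_lqf_lft
    (f.hom ≫ q) ((AlgSp.yon _).map pr ≫ a) (𝟙 _) (g ≫ m) ha₀e ha₀s hid ?_ ?_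
  · rw [Category.comp_id, Functor.map_comp, hm, hg, ← Category.assoc (hβe.rep.fst (a ≫ f.hom)),
      sqU.w]
    simp only [Category.assoc]
    rfl
  · rw [Over.comp_left]
    exact ⟨inferInstance, inferInstance⟩

end Groth.Agent.S10484
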