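import Groth.Statements.S10496
import Groth.Agent.Lib.Helper14.RedInd
import Groth.Agent.Lib.Helper14.AlgSpImmTop
import Groth.Agent.Lib.Helper14.AlgSpDecent
import Groth.Agent.Lib.Helper14.AlgSpImm

set_option autoImplicit false
universe u
open CategoryTheory CategoryTheory.Limits AlgebraicGeometry Topology TopologicalSpace
open AlgSp

namespace Groth.Agent.S10496

open CategoryTheory CategoryTheory.Limits AlgebraicGeometry Opposite AlgSp
open Groth.Agent.Lib.Helper14.AS

set_option backward.isDefEq.respectTransparency.types false in

/-- Let X be a decent algebraic space over a scheme S. For every irreducible closed subset T of |X|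
there is an integral closed subspace Z of X with |Z| = T. -/
theorem result {S : Scheme.{u}} (X : AlgSp.Space S)
    (hX : AlgSp.IsDecent X.obj) (T : Set (AlgSp.Points X.obj)) (hT : IsClosed T) (hTi : IsIrreducible T) :
    ∃ (Z : AlgSp.Space S) (i : Z ⟶ X), AlgSp.RepWith @IsClosedImmersion i.hom ∧ AlgSp.IsIntegralSp Z.obj ∧
      Set.range (AlgSp.Points.map i.hom) = T := by
  obtain ⟨hZalg, hιc, hιr, hZred⟩ := isRedInduced_redFam X.2 T hT
  refine ⟨⟨_, hZalg⟩, ObjectProperty.homMk (redFam T hT).pred.ι, hιc,
    ⟨hZred, isDecent_of_representable _ hιc.rep hX, ?_⟩, hιr⟩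
  have hemb := (isEmbedding_points_of_repWith_isImmersion X.2
    (repWith_mono isClosedImmersion_le_isImmersion hιc)).1
  let e := hemb.toHomeomorph
  have hirr : IrreducibleSpace ↥(Set.range (Points.map (redFam T hT).pred.ι)) := by
    rw [hιr]; exact Subtype.irreducibleSpace hTi
  have h1 := (IrreducibleSpace.isIrreducible_univ
    ↥(Set.range (Points.map (redFam T hT).pred.ι))).image e.symm e.symm.continuous.continuousOn
  rw [Set.image_univ, e.symm.surjective.range_eq] at h1
  exact (irreducibleSpace_def _).2 h1

end Groth.Agent.S10496
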