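import Groth.Statements.S7179
import Groth.Agent.S7178
import Groth.Agent.Lib.Helper2.DiagFlat
import Groth.Agent.Lib.Helper2.AbsFlat
import Mathlib.Tactic
-- import your own Groth.Agent.* helpers here

set_option autoImplicit false
universe u
open FlatMor

namespace Groth.Agent.S7179

open AlgebraicGeometry CategoryTheory Limits


open Groth.Agent.Lib.Helper2

/-- all modules over a von Neumann regular ring are flat -/
theorem flat_of_vnr (A : Type u) [CommRing A] (h : ∀ a : A, ∃ c : A, a = a * a * c)
    (M : Type u) [AddCommGroup M] [Module A M] : Module.Flat A M := by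
  have hred : _root_.IsReduced A := isReduced_of_vnr h
  refine flat_of_forall_isField_localization A (fun m hm => ?_) M
  exact isField_localization_of_isReduced (fun p hp => isMaximal_of_vnr h p hp) m

open TensorProduct in
theorem isReduced_of_weaklyEtale_of_vnr (R S A' : Type u) [CommRing R] [CommRing S] [CommRing A']
    [Algebra R S] [Algebra R A'] [Algebra.WeaklyEtale R S]
    (hι : Function.Injective (algebraMap R A'))
    (hvnr : ∀ a : A', ∃ c : A', a = a * a * c) : _root_.IsReduced S := by
  have hflatA' : ∀ (M : Type u) [AddCommGroup M] [Module A' M], Module.Flat A' M :=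
    fun M _ _ => flat_of_vnr A' hvnr M
  have hvnrB : ∀ b : A' ⊗[R] S, ∃ c, b = b * b * c := by
    refine vnr_of_forall_flat (A := A' ⊗[R] S) (fun b => ?_)
    haveI : Module.Flat A' ((A' ⊗[R] S) ⧸ Ideal.span {b}) := hflatA' _
    exact flat_of_flat_lmul' A' (A' ⊗[R] S) _ (Algebra.WeaklyEtale.flat_lmul' A' (A' ⊗[R] S))
  have hredB : _root_.IsReduced (A' ⊗[R] S) := isReduced_of_vnr (A := A' ⊗[R] S) hvnrB
  have hinj : Function.Injective (Algebra.TensorProduct.includeRight : S →ₐ[R] A' ⊗[R] S) :=
    Algebra.TensorProduct.includeRight_injective hι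
  exact isReduced_of_injective (Algebra.TensorProduct.includeRight : S →ₐ[R] A' ⊗[R] S) hinj

abbrev Aprime (R : Type u) [CommRing R] : Type u :=
  ∀ p : PrimeSpectrum R, FractionRing (R ⧸ p.asIdeal)

noncomputable def iotaHom (R : Type u) [CommRing R] : R →+* Aprime R :=
  RingHom.pi fun p =>
    (algebraMap (R ⧸ p.asIdeal) (FractionRing (R ⧸ p.asIdeal))).comp (Ideal.Quotient.mk p.asIdeal)

theorem iotaHom_injective (R : Type u) [CommRing R] [_root_.IsReduced R] :
    Function.Injective (iotaHom R) := by
  rw [injective_iff_map_eq_zero]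
  intro r hr
  have hmem : ∀ p : PrimeSpectrum R, r ∈ p.asIdeal := by
    intro p
    have h1 : iotaHom R r p = 0 := by rw [hr]; rfl
    have h2 : algebraMap (R ⧸ p.asIdeal) (FractionRing (R ⧸ p.asIdeal))
        (Ideal.Quotient.mk p.asIdeal r) = 0 := h1
    rw [map_eq_zero_iff _ (IsFractionRing.injective _ _)] at h2
    exact Ideal.Quotient.eq_zero_iff_mem.mp h2
  have h3 : r ∈ nilradical R := by
    rw [nilradical_eq_sInf, Ideal.mem_sInf]
    intro J hJ
    exact hmem ⟨J, hJ⟩
  exact (nilradical_eq_zero R ▸ h3 : r ∈ (0 : Ideal R))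

theorem isReduced_of_weaklyEtale (R S : Type u) [CommRing R] [CommRing S] [Algebra R S]
    [Algebra.WeaklyEtale R S] [_root_.IsReduced R] : _root_.IsReduced S := by
  classical
  letI : Algebra R (Aprime R) := (iotaHom R).toAlgebra
  refine isReduced_of_weaklyEtale_of_vnr R S (Aprime R) (iotaHom_injective R) ?_
  intro a
  refine ⟨fun p => (a p)⁻¹, ?_⟩
  funext p
  show a p = a p * a p * (a p)⁻¹
  by_cases h0 : a p = 0
  · simp [h0]
  · field_simp

open AlgebraicGeometry CategoryTheory Limits in
/-- The source of a weakly étale morphism with reduced target is reduced. -/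
theorem result {X Y : Scheme.{u}} (f : X ⟶ Y) [WeaklyEtale f] [IsReduced Y] : IsReduced X := by
  have hst : ∀ x : X, _root_.IsReduced (X.presheaf.stalk x) := by
    intro x
    obtain ⟨_, ⟨V, hV : IsAffineOpen V, rfl⟩, hxV, -⟩ :=
      Y.isBasis_affineOpens.exists_subset_of_mem_open (Set.mem_univ (f x)) isOpen_univ
    obtain ⟨_, ⟨U, hU : IsAffineOpen U, rfl⟩, hxU, hUV⟩ :=
      X.isBasis_affineOpens.exists_subset_of_mem_open (show x ∈ ((f ⁻¹ᵁ V : X.Opens) : Set X) from hxV)
        (f ⁻¹ᵁ V).isOpen
    have hWE := (Groth.Agent.S7178.result f).mp inferInstance U V hU hV hUV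
    letI := (f.appLE V U hUV).hom.toAlgebra
    have hredU : _root_.IsReduced Γ(X, U) := isReduced_of_weaklyEtale Γ(Y, V) Γ(X, U)
    letI := X.presheaf.algebra_section_stalk ⟨x, hxU⟩
    have hloc := hU.isLocalization_stalk ⟨x, hxU⟩
    exact isReduced_localizationPreserves (hU.primeIdealOf ⟨x, hxU⟩).asIdeal.primeCompl (X.presheaf.stalk x) hredU
  exact isReduced_of_isReduced_stalk X

end Groth.Agent.S7179
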