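import Groth.Statements.S10498
import Mathlib
import Groth.Agent.Lib.Helper4.HznWE
import Groth.Agent.S7179

set_option autoImplicit false
universe u
open TensorProduct
open Hensel

namespace Groth.Agent.S10498

open Groth.Agent.Lib.Helper4 in
/-- (1) ⇔ (2): let k be a field, A a local k-algebra and R a strict henselization of A. Then A is
geometrically reduced over k (K ⊗_k A reduced for every field extension K of k) if and only if R is
geometrically reduced over k. -/
theorem result (k : Type u) [Field k]
    (A : Type u) [CommRing A] [IsLocalRing A] [Algebra k A]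
    (R : Type u) [CommRing R] [IsLocalRing R] [Algebra A R] [IsLocalHom (algebraMap A R)]
    [Hensel.IsStrictHenselization A R] [Algebra k R] [IsScalarTower k A R] :
    (∀ (K : Type u) [Field K] [Algebra k K], IsReduced (TensorProduct k K A)) ↔
      ∀ (K : Type u) [Field K] [Algebra k K], IsReduced (TensorProduct k K R) := by
  have hwe : Algebra.WeaklyEtale A R := IndEt.weaklyEtale_of_isStrictHenselization A R
  have hff := Hzs.faithfullyFlat_of_isStrictHenselization A R
  constructor
  · intro h K _ _
    have h1 : IsReduced (K ⊗[k] A) := h K
    have h2 : IsReduced (A ⊗[k] K) :=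
      isReduced_of_injective (Algebra.TensorProduct.comm k A K).toRingHom
        (Algebra.TensorProduct.comm k A K).injective
    have h3 : IsReduced ((A ⊗[k] K) ⊗[A] R) :=
      Groth.Agent.S7179.isReduced_of_weaklyEtale (A ⊗[k] K) ((A ⊗[k] K) ⊗[A] R)
    have h4 : IsReduced (R ⊗[A] (A ⊗[k] K)) :=
      isReduced_of_injective (Algebra.TensorProduct.comm A R (A ⊗[k] K)).toRingHom
        (Algebra.TensorProduct.comm A R (A ⊗[k] K)).injective
    have h5 : IsReduced (R ⊗[k] K) :=
      isReduced_of_injective (Algebra.TensorProduct.cancelBaseChange k A A R K).symm.toRingHom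
        (Algebra.TensorProduct.cancelBaseChange k A A R K).symm.injective
    exact isReduced_of_injective (Algebra.TensorProduct.comm k K R).toRingHom
      (Algebra.TensorProduct.comm k K R).injective
  · intro h K _ _
    have h1 : IsReduced (K ⊗[k] R) := h K
    have hinj : Function.Injective (algebraMap A R) := FaithfulSMul.algebraMap_injective A R
    let φ : K ⊗[k] A →ₐ[k] K ⊗[k] R :=
      Algebra.TensorProduct.map (AlgHom.id k K) (IsScalarTower.toAlgHom k A R)
    have hφ : Function.Injective φ := by
      have h2 := Module.Flat.lTensor_preserves_injective_linearMap (M := K)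
        (IsScalarTower.toAlgHom k A R).toLinearMap hinj
      have e2 : ⇑φ = ⇑(LinearMap.lTensor K (IsScalarTower.toAlgHom k A R).toLinearMap) := by
        funext z
        induction z with
        | zero => simp
        | add a b ha hb => rw [map_add, map_add, ha, hb]
        | tmul a b =>
          change Algebra.TensorProduct.map _ _ (a ⊗ₜ[k] b) = _
          rw [Algebra.TensorProduct.map_tmul]
          rfl
      rw [e2]; exact h2
    exact isReduced_of_injective φ hφ

end Groth.Agent.S10498
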