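import Groth.Statements.S10500
import Groth.Agent.S10650
import Groth.Agent.S10649
import Groth.Agent.S10485
import Groth.Agent.Lib.Helper14.FibTop3
import Groth.Agent.Lib.Helper14.AlgSpEtaleMor
import Groth.Agent.Lib.Helper14.RelDim0

set_option autoImplicit false
universe u
open CategoryTheory CategoryTheory.Limits AlgebraicGeometry Topology TopologicalSpace
open AlgSp

namespace Groth.Agent.S10500

/-- Let X and Y be integral algebraic spaces over a scheme S with generic points x and y, and f : X ⟶ Y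
a morphism which is proper and dominant. Then f is an alteration (finite over some nonempty open
subspace of Y) if and only if x is the only point of X mapping to y. -/
theorem result {S : Scheme.{u}} {X Y : AlgSp.Space S}
    (hXi : AlgSp.IsIntegralSp X.obj) (hYi : AlgSp.IsIntegralSp Y.obj) (f : X ⟶ Y) (hp : AlgSp.IsProperMor f.hom)
    (hd : AlgSp.IsDominantMor f.hom)
    (x : AlgSp.Points X.obj) (hx : IsGenericPoint x (Set.univ : Set (AlgSp.Points X.obj)))
    (y : AlgSp.Points Y.obj) (hy : IsGenericPoint y (Set.univ : Set (AlgSp.Points Y.obj))) :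
    (∃ (V : AlgSp.Space S) (j : V ⟶ Y), AlgSp.RepWith @IsOpenImmersion j.hom ∧ Nonempty (AlgSp.Points V.obj) ∧
      ∀ (P : AlgSp.Space S) (fst : P ⟶ V) (snd : P ⟶ X), IsPullback fst.hom snd.hom j.hom f.hom →
        AlgSp.IsFiniteMor fst.hom) ↔ (∀ x' : AlgSp.Points X.obj, AlgSp.Points.map f.hom x' = y → x' = x) := by
  constructor
  · rintro ⟨V, j, hj, ⟨v⟩, hfin⟩
    rw [← Groth.Agent.S10485.result hXi hYi f hp.2.1.1 hd x hx y hy]
    have sq : IsPullback (pullback.fst j.hom f.hom) (pullback.snd j.hom f.hom) j.hom f.hom :=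
      IsPullback.of_hasPullback _ _
    have hP : AlgSp.IsAlgSpace (pullback j.hom f.hom) :=
      Groth.Agent.Lib.Helper14.AS.isAlgSpace_of_isPullback
        (Groth.Agent.Lib.Helper14.AS.repDiag_of_isAlgSpace Y.2) V.2 X.2 sq
    have hfin' : AlgSp.IsFiniteMor (pullback.fst j.hom f.hom) :=
      hfin ⟨pullback j.hom f.hom, hP⟩ (ObjectProperty.homMk (pullback.fst j.hom f.hom))
        (ObjectProperty.homMk (pullback.snd j.hom f.hom)) sq
    have htfae := Groth.Agent.S10649.result (X := ⟨pullback j.hom f.hom, hP⟩) (Y := V)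
      (ObjectProperty.homMk (pullback.fst j.hom f.hom))
    have h12 := (htfae.out 0 1).1 hfin'
    have hlqf : AlgSp.LocP (@LocallyQuasiFinite ⊓ @LocallyOfFiniteType)
        (pullback.fst j.hom f.hom) := h12.2
    have hlft' : AlgSp.LocP @LocallyOfFiniteType (pullback.fst j.hom f.hom) :=
      fun U V a b h ha hb comm => (hlqf a b h ha hb comm).2
    have hq := (Groth.Agent.Lib.Helper14.AS.locP_lqf_iff_relDim_zero hP V.2 _ hlft').1 hlqf
    -- `y` lies in the image of `V`
    have hopen : IsOpen (Set.range (AlgSp.Points.map j.hom)) :=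
      (Groth.Agent.Lib.Helper14.AS.isOpenMap_points_of_isEtaleMor V.2 Y.2
        (Groth.Agent.Lib.Helper14.AS.isEtaleMor_of_repWith_isOpenImmersion hj)).isOpen_range
    have hyV : y ∈ Set.range (AlgSp.Points.map j.hom) := by
      rw [hy.mem_open_set_iff hopen]
      exact ⟨_, trivial, v, rfl⟩
    obtain ⟨v', hv'⟩ := hyV
    have hxy : AlgSp.Points.map f.hom x = y :=
      Groth.Agent.Lib.Helper14.AS.map_generic_eq Y.2 hYi.2.1 f.hom hd hx hy
    obtain ⟨p, hp1, hp2⟩ := Groth.Agent.Lib.Helper14.AS.points_exists_of_isPullback sq v' x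
      (by rw [hv', hxy])
    have h1 := (Groth.Agent.Lib.Helper14.AS.hasAtMor_fibreDimAt_baseChange_iff X.2 Y.2 V.2 f.hom
      j.hom (pullback.snd j.hom f.hom) (pullback.fst j.hom f.hom) sq.flip hp.2.1.1
      (fun e => e = 0) p).1 (hq p)
    rw [hp2] at h1
    exact (Groth.Agent.Lib.Helper14.AS.hasAtMor_qf_iff f.hom hp.2.1.1 x).2 h1
  · intro huniq
    have hq := (Groth.Agent.S10485.result hXi hYi f hp.2.1.1 hd x hx y hy).2 huniq
    obtain ⟨V, j, hj, ⟨v, hv⟩, hfin⟩ := Groth.Agent.S10650.result f y hp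
      (fun x' hx' => by rw [huniq x' hx']; exact hq)
    exact ⟨V, j, hj, ⟨v⟩, fun P fst snd sq => hfin P snd fst sq.flip⟩

end Groth.Agent.S10500
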