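import Groth.Statements.S10509
import Groth.Agent.Lib.Helper14.HasAtMorChart
import Groth.Agent.S0412

set_option autoImplicit false
universe u
open CategoryTheory CategoryTheory.Limits AlgebraicGeometry
open AlgSp

namespace Groth.Agent.S10509

open CategoryTheory CategoryTheory.Limits AlgebraicGeometry Opposite AlgSp
open Groth.Agent.Lib.Helper14.AS

set_option backward.isDefEq.respectTransparency.types false in

/-- A smooth covering of an algebraic space `X` over `S` by algebraic spaces can be refined by an etale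
covering of `X` by algebraic spaces: there is an etale covering `{U_j ⟶ X}` each member of which
factors through some member of the given smooth covering. -/
theorem result {S : Scheme.{u}} (X : AlgSp.Space S) {ι : Type u}
    (Xi : ι → AlgSp.Space S) (g : ∀ i, Xi i ⟶ X)
    (h : AlgSp.IsSmCover (fun i => (Xi i).obj) (fun i => (g i).hom)) :
    ∃ (κ : Type u) (U : κ → AlgSp.Space S) (c : ∀ j, U j ⟶ X),
      AlgSp.IsEtCover (fun j => (U j).obj) (fun j => (c j).hom) ∧
      ∀ j, ∃ (i : ι) (r : U j ⟶ Xi i), r ≫ g i = c j := by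
  obtain ⟨V, p, hpe, hps⟩ := X.2.atlas
  have key : ∀ v : ↥V.left, ∃ (U : Space S) (c : U ⟶ X) (i : ι) (r : U ⟶ Xi i),
      IsEtaleMor c.hom ∧ r ≫ g i = c ∧ Points.ofPt p v ∈ Set.range (Points.map c.hom) := by
    intro v
    obtain ⟨i, xi, hxi⟩ := h.2 (Points.ofPt p v)
    obtain ⟨U₁, V₁, a, b, k, u, hae, hbe, comm, hu⟩ :=
      exists_chart_diagram_at (Xi i).2 X.2 (g i).hom xi
    have hsm : Smooth k.left := h.1 i a b k hae hbe comm
    obtain ⟨S', g', s', hg'e, hg's, σ, hσ⟩ := Groth.Agent.S0412.result k.left (k.left u) ⟨u, rfl⟩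
    let S'o : Over S := Over.mk (g' ≫ V₁.hom)
    let g'o : S'o ⟶ V₁ := Over.homMk g' rfl
    let σo : S'o ⟶ U₁ := Over.homMk σ (by
      change σ ≫ U₁.hom = g' ≫ V₁.hom
      rw [← hσ, Category.assoc, Over.w k])
    have hσo : σo ≫ k = g'o := by
      ext
      exact hσ
    have hce : RepWith @Etale ((yon S).map g'o ≫ b) :=
      repWith_comp _ ((repWith_yon_map_iff _ _).2 hg'e) hbe
    refine ⟨⟨(yon S).obj S'o, IsAlgSpace.yon_obj _⟩, ObjectProperty.homMk ((yon S).map g'o ≫ b), i,
      ObjectProperty.homMk ((yon S).map σo ≫ a), fun _ _ hφ => repWith_comp _ hφ hce, ?_, ?_⟩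
    · apply ObjectProperty.hom_ext
      change ((yon S).map σo ≫ a) ≫ (g i).hom = (yon S).map g'o ≫ b
      rw [Category.assoc, comm, ← Category.assoc, ← Functor.map_comp, hσo]
    · refine ⟨Points.ofPt (𝟙 _) s', ?_⟩
      change Points.map ((yon S).map g'o ≫ b) (Points.ofPt (𝟙 _) s') = _
      rw [Points.map_ofPt, Category.id_comp, ofPt_yon_map_comp]
      change Points.ofPt b (g' s') = _
      rw [hg's, ← ofPt_yon_map_comp, ← comm, ← Points.map_ofPt, hu, hxi]
  choose U c i r hce hr hv using key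
  refine ⟨↥V.left, U, c, ⟨hce, fun x => ?_⟩, fun v => ⟨i v, r v, hr v⟩⟩
  obtain ⟨v, rfl⟩ := ofPt_surjective_of_repWith hps x
  exact ⟨v, hv v⟩

end Groth.Agent.S10509
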