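import Groth.Statements.S7198
import Mathlib
import Groth.Agent.Lib.Helper23.EtFinCover
import Groth.Agent.Lib.Helper23.FppfDom
-- import your own Groth.Agent.* helpers here

set_option autoImplicit false
universe w u
open FlatMor

namespace Groth.Agent.S7198

open AlgebraicGeometry CategoryTheory Limits in

open AlgebraicGeometry CategoryTheory Limits in
/-- Any fppf covering {S_i → S} is refined by a family built in four steps — cover S by Zariski opens
U_j; over each U_j take a surjective finite locally free W_j → U_j; cover each W_j by Zariski opens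
W_{j,k}; over each of those take a surjective finite locally free T_{j,k} → W_{j,k} — where every
composite T_{j,k} → S factors through some S_i. Stated pointwise: around every point of S, and then
around every point of the finite locally free cover, such data exist. -/
theorem result {S : Scheme.{u}} (E : PreZeroHypercover.{w} S)
    (hflat : ∀ i, Flat (E.f i)) (hfp : ∀ i, LocallyOfFinitePresentation (E.f i))
    (hsurj : ∀ s : S, ∃ (i : E.I₀) (x : E.X i), E.f i x = s) (s : S) :
    ∃ (U : S.Opens) (W : Scheme.{u}) (π : W ⟶ U.toScheme), s ∈ U ∧ Mor2.IsFinLocFree π ∧ Surjective π ∧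
      ∀ w : W, ∃ (W' : W.Opens) (T : Scheme.{u}) (ρ : T ⟶ W'.toScheme) (i : E.I₀) (r : T ⟶ E.X i),
        w ∈ W' ∧ Mor2.IsFinLocFree ρ ∧ Surjective ρ ∧ r ≫ E.f i = ρ ≫ W'.ι ≫ π ≫ U.ι := by
  obtain ⟨i, x, hx⟩ := hsurj s
  haveI := hflat i
  haveI := hfp i
  obtain ⟨S', V, e, πV, u, r, hEt, hus, -, hsurjV, hfinV, hflV, hfpV, hr⟩ :=
    Groth.Agent.Lib.Helper23.FppfDom.exists_etaleNbhd_finLocFree_of_mem_range (E.f i) s ⟨x, hx⟩
  obtain ⟨U, W, π, hsU, hfin, hfl, hfp', hsj, hloc⟩ := Groth.Agent.Lib.Helper23.EtFinCover.exists_finLocFree_zariski_of_etale e u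
  refine ⟨U, W, π, hus ▸ hsU, ⟨hfin, hfl, hfp'⟩, hsj, fun w => ?_⟩
  obtain ⟨W', a, hw, ha⟩ := hloc w
  refine ⟨W', pullback a πV, pullback.fst a πV, i, pullback.snd a πV ≫ r, hw,
    ⟨inferInstance, inferInstance, inferInstance⟩, inferInstance, ?_⟩
  rw [Category.assoc, hr, ← pullback.condition_assoc, ha]

end Groth.Agent.S7198
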