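import Groth.Statements.S7190
import Mathlib
import Groth.Agent.Lib.Helper23.FinExtend
import Groth.Agent.S7198
-- import your own Groth.Agent.* helpers here

set_option autoImplicit false
universe w u
open FlatMor

namespace Groth.Agent.S7190
open Groth.Agent.Lib.Helper23.FinExtend

open AlgebraicGeometry CategoryTheory Limits in

open AlgebraicGeometry CategoryTheory Limits in
/-- An fppf covering {T_i → T} of schemes (flat, locally of finite presentation, jointly surjective) is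
a ph covering. -/
theorem result {T : Scheme.{u}} (E : PreZeroHypercover.{w} T)
    (hflat : ∀ i, Flat (E.f i)) (hfp : ∀ i, LocallyOfFinitePresentation (E.f i))
    (hsurj : ∀ t : T, ∃ (i : E.I₀) (x : E.X i), E.f i x = t) : HTop.IsPhCover E := by
  refine ⟨fun i => ?_, fun U => ?_⟩
  · haveI := hfp i
    infer_instance
  have hU : IsAffineOpen (U : T.Opens) := U.2
  haveI : IsAffine ((U : T.Opens) : Scheme.{u}) := hU
  -- the sieve of morphisms factoring through the cover
  let 𝒮 : ∀ (Y : Scheme.{u}), (Y ⟶ ((U : T.Opens) : Scheme.{u})) → Prop := fun Y g =>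
    ∃ (i : E.I₀) (h : Y ⟶ E.X i), h ≫ E.f i = g ≫ (U : T.Opens).ι
  have h𝒮 : ∀ (Y Y' : Scheme.{u}) (g : Y ⟶ ((U : T.Opens) : Scheme.{u})) (h : Y' ⟶ Y),
      𝒮 Y g → 𝒮 Y' (h ≫ g) := by
    rintro Y Y' g h ⟨i, k, hk⟩
    exact ⟨i, h ≫ k, by rw [Category.assoc, hk, Category.assoc]⟩
  -- the pulled back cover
  let E' := E.pullback₁ (U : T.Opens).ι
  have hflat' : ∀ i, Flat (E'.f i) := fun i => by
    haveI := hflat i
    exact inferInstanceAs (Flat (pullback.fst (U : T.Opens).ι (E.f i)))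
  have hfp' : ∀ i, LocallyOfFinitePresentation (E'.f i) := fun i => by
    haveI := hfp i
    exact inferInstanceAs (LocallyOfFinitePresentation (pullback.fst (U : T.Opens).ι (E.f i)))
  have hsurj' : ∀ s : ((U : T.Opens) : Scheme.{u}), ∃ (i : E'.I₀) (x : E'.X i), E'.f i x = s := by
    intro s
    obtain ⟨i, x, hx⟩ := hsurj ((U : T.Opens).ι s)
    obtain ⟨z, hz, -⟩ := Scheme.Pullback.exists_preimage_pullback
      (f := (U : T.Opens).ι) (g := E.f i) s x hx.symm
    exact ⟨i, z, hz⟩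
  have hloc : ∀ x : ((U : T.Opens) : Scheme.{u}), ∃ (U' W : Scheme.{u})
      (j : U' ⟶ ((U : T.Opens) : Scheme.{u})) (π : W ⟶ U'), IsOpenImmersion j ∧
      x ∈ Set.range j ∧ IsFinite π ∧ Surjective π ∧ LocFin 𝒮 W (π ≫ j) := by
    intro x
    obtain ⟨U', W, π, hxU', hπ, hπs, hW⟩ := Groth.Agent.S7198.result E' hflat' hfp' hsurj' x
    refine ⟨U', W, U'.ι, π, inferInstance, ?_, hπ.1, hπs, ?_⟩
    · rw [Scheme.Opens.range_ι]; exact hxU'
    · intro w
      obtain ⟨W', T', ρ, i, r, hw, hρ, hρs, hr⟩ := hW w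
      refine ⟨W', T', W'.ι, ρ, inferInstance, ?_, hρ.1, hρs, ?_⟩
      · rw [Scheme.Opens.range_ι]; exact hw
      · let i' : E.I₀ := i
        let r' : T' ⟶ pullback (U : T.Opens).ι (E.f i') := r
        have hr' : r' ≫ pullback.fst (U : T.Opens).ι (E.f i') = ρ ≫ W'.ι ≫ π ≫ U'.ι := hr
        refine ⟨i', r' ≫ pullback.snd (U : T.Opens).ι (E.f i'), ?_⟩
        rw [Category.assoc, ← pullback.condition, ← Category.assoc, hr']
  obtain ⟨P, f, m, N, o, hf, hfs, hN, ho, hcov, hS⟩ := K_two 𝒮 h𝒮 hloc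
  let F : PreZeroHypercover.{0} ((U : T.Opens) : Scheme.{u}) :=
    { I₀ := Fin m
      X := N
      f := fun l => o l ≫ f }
  refine ⟨F, ⟨inferInstance, inferInstanceAs (Finite (Fin m)), hN,
    ⟨P, f, o, inferInstance, hfs, ho, fun _ => rfl, hcov⟩⟩, fun l => ?_⟩
  obtain ⟨i, h, hh⟩ := hS l
  exact ⟨i, h, hh⟩

end Groth.Agent.S7190
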