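import Groth.Statements.S10514
import Groth.Agent.S7190
import Groth.Agent.Lib.Helper14.AlgSpPoints
import Groth.Agent.Lib.Helper14.AlgSpFibre
import Groth.Agent.Lib.Helper14.AlgSpLocP2
import Groth.Agent.Lib.Helper14.AlgSpProper

set_option autoImplicit false
universe u
open CategoryTheory CategoryTheory.Limits AlgebraicGeometry
open AlgSp

namespace Groth.Agent.S10514

open CategoryTheory CategoryTheory.Limits AlgebraicGeometry Opposite
open AlgSp Groth.Agent.Lib.Helper14.AS

set_option backward.isDefEq.respectTransparency.types false in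

/-- An fppf covering of an algebraic space `X` over `S` by algebraic spaces is a ph covering of `X`: its
members are locally of finite type and every morphism from an affine scheme `Z` to `X` admits a
standard ph covering of `Z` whose members lift through members of the family. -/
theorem result {S : Scheme.{u}} (X : AlgSp.Space S) {ι : Type u}
    (Xi : ι → AlgSp.Space S) (g : ∀ i, Xi i ⟶ X)
    (h : AlgSp.IsFppfCover (fun i => (Xi i).obj) (fun i => (g i).hom)) :
    AlgSp.IsPhCover (fun i => (Xi i).obj) (fun i => (g i).hom) := by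
  obtain ⟨hP, hsurj⟩ := h
  have hlft : (@LocallyOfFinitePresentation : MorphismProperty Scheme.{u}) ≤ @LocallyOfFiniteType :=
    fun _ _ _ _ => inferInstance
  refine ⟨fun i => locP_mono hlft (hP i).2, ?_⟩
  intro Z hZ hh
  have hPi : ∀ i, IsAlgSpace (pullback (g i).hom hh) := fun i =>
    isAlgSpace_of_isPullback (repDiag_of_isAlgSpace X.property) (Xi i).property
      (IsAlgSpace.yon_obj Z) (IsPullback.of_hasPullback _ _)
  choose U a hae has using fun i => (hPi i).atlas
  let c : ∀ i, U i ⟶ Z := fun i => (AlgSp.yon S).preimage (a i ≫ pullback.snd (g i).hom hh)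
  have hc : ∀ i, (yon S).map (c i) = a i ≫ pullback.snd (g i).hom hh :=
    fun i => (yon S).map_preimage _
  have hfl : ∀ i, Flat (c i).left := by
    intro i
    have h1 : LocP @Flat (pullback.snd (g i).hom hh) :=
      locP_baseChange etLocal_flat (Xi i).property X.property (IsAlgSpace.yon_obj Z) (g i).hom hh
        _ _ (IsPullback.of_hasPullback _ _) (hP i).1
    exact h1 (a i) (𝟙 _) (c i) (hae i) (repWith_id _ Z) (by rw [hc, Category.comp_id])
  have hfp : ∀ i, LocallyOfFinitePresentation (c i).left := by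
    intro i
    have h1 : LocP @LocallyOfFinitePresentation (pullback.snd (g i).hom hh) :=
      locP_baseChange etLocal_lfp (Xi i).property X.property (IsAlgSpace.yon_obj Z) (g i).hom hh
        _ _ (IsPullback.of_hasPullback _ _) (hP i).2
    exact h1 (a i) (𝟙 _) (c i) (hae i) (repWith_id _ Z) (by rw [hc, Category.comp_id])
  have hs : ∀ z : ↥Z.left, ∃ (i : ι) (u : ↥(U i).left), (c i).left u = z := by
    intro z
    obtain ⟨i, xi, hxi⟩ := hsurj (Points.ofPt hh z)
    obtain ⟨w, hw1, hw2⟩ := points_exists_of_isPullback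
      (IsPullback.of_hasPullback (g i).hom hh) xi (Points.ofScheme Z z)
      (by rw [hxi]; exact Points.ofPt_eq_map_ofScheme hh z)
    obtain ⟨u, hu⟩ := ofPt_surjective_of_repWith (has i) w
    refine ⟨i, u, (Points.schemeHomeo Z).injective ?_⟩
    change Points.ofScheme Z ((c i).left u) = Points.ofScheme Z z
    rw [← hw2, ← hu, Points.map_ofPt, ← hc]
    exact (ofPt_yon_map_comp (c i) (𝟙 _) u).symm
  let E : PreZeroHypercover.{u} Z.left :=
    { I₀ := ι, X := fun i => (U i).left, f := fun i => (c i).left }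
  have hE : HTop.IsPhCover E := Groth.Agent.S7190.result E hfl hfp (fun t => by
    obtain ⟨i, u, hu⟩ := hs t
    exact ⟨i, u, hu⟩)
  obtain ⟨F₀, hF₀, hr⟩ := hE.2 ⟨⊤, isAffineOpen_top Z.left⟩
  let F : PreZeroHypercover.{0} Z.left :=
    { I₀ := F₀.I₀, X := F₀.X, f := fun j => F₀.f j ≫ (⊤ : Z.left.Opens).ι }
  refine ⟨F, ?_, ?_⟩
  · obtain ⟨U₀, f₀, ι₀, hp, hsj, hoi, hfac, hcov⟩ := hF₀.exists_proper
    refine ⟨hZ, hF₀.finite_index, hF₀.isAffine_obj, U₀, f₀ ≫ (⊤ : Z.left.Opens).ι, ι₀, ?_, ?_, hoi,
      ?_, hcov⟩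
    · have := hp
      have : IsIso (⊤ : Z.left.Opens).ι := inferInstanceAs (IsIso Z.left.topIso.hom)
      exact MorphismProperty.comp_mem _ f₀ (⊤ : Z.left.Opens).ι hp inferInstance
    · have := hsj
      have : IsIso (⊤ : Z.left.Opens).ι := inferInstanceAs (IsIso Z.left.topIso.hom)
      exact MorphismProperty.comp_mem _ f₀ (⊤ : Z.left.Opens).ι hsj inferInstance
    · intro j
      rw [← Category.assoc, hfac j]
  · intro j
    obtain ⟨i, h', hh'⟩ := hr j
    have hw : h' ≫ (U i).hom = F.f j ≫ Z.hom := by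
      rw [← Over.w (c i), ← Category.assoc]
      exact congrArg (· ≫ Z.hom) hh'
    let h'' : Over.mk (F.f j ≫ Z.hom) ⟶ U i := Over.homMk h' hw
    refine ⟨i, (yon S).map h'' ≫ a i ≫ pullback.fst (g i).hom hh, ?_⟩
    have e1 : h'' ≫ c i = (Over.homMk (F.f j) rfl : Over.mk (F.f j ≫ Z.hom) ⟶ Z) := by
      apply Over.OverMorphism.ext
      exact hh'
    calc ((yon S).map h'' ≫ a i ≫ pullback.fst (g i).hom hh) ≫ (g i).hom
        = (yon S).map h'' ≫ (a i ≫ pullback.snd (g i).hom hh) ≫ hh := by
          simp only [Category.assoc, pullback.condition]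
      _ = (yon S).map (h'' ≫ c i) ≫ hh := by
          rw [← hc, ← Category.assoc, ← (yon S).map_comp]
      _ = _ := by rw [e1]

end Groth.Agent.S10514
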