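import Groth.Statements.S10517
import Mathlib
import Groth.Agent.Lib.Helper14.PhComp4
import Groth.Agent.Lib.Helper14.AlgSpLocP2
-- import your own Groth.Agent.* helpers here

set_option autoImplicit false
universe u
open CategoryTheory CategoryTheory.Limits AlgebraicGeometry
open AlgSp

namespace Groth.Agent.S10517

/-- If `{X_i ⟶ X}` is a ph covering of the algebraic space `X` by algebraic spaces and each `X_i` has a
ph covering `{X_ij ⟶ X_i}` by algebraic spaces, then the composites `X_ij ⟶ X_i ⟶ X`, indexed by the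
pairs `(i, j)`, form a ph covering of `X`. -/
theorem result {S : Scheme.{u}} (X : AlgSp.Space S) {ι : Type u}
    (Xi : ι → AlgSp.Space S) (g : ∀ i, Xi i ⟶ X) (κ : ι → Type u) (Xij : ∀ i, κ i → AlgSp.Space S)
    (gij : ∀ i j, Xij i j ⟶ Xi i)
    (h : AlgSp.IsPhCover (fun i => (Xi i).obj) (fun i => (g i).hom))
    (hij : ∀ i, AlgSp.IsPhCover (fun j => (Xij i j).obj) (fun j => (gij i j).hom)) :
    AlgSp.IsPhCover (fun r : Σ i, κ i => (Xij r.1 r.2).obj) (fun r => (gij r.1 r.2 ≫ g r.1).hom) := by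
  obtain ⟨h1, h2⟩ := h
  refine ⟨fun r => ?_, fun Z hZ t => ?_⟩
  · exact Groth.Agent.Lib.Helper14.AS.locP_comp Groth.Agent.Lib.Helper14.AS.etLocal_lft
      (Xij r.1 r.2).property (Xi r.1).property X.property (gij r.1 r.2).hom (g r.1).hom
      ((hij r.1).1 r.2) (h1 r.1)
  · obtain ⟨F, hF, hl⟩ := h2 Z hZ t
    choose i l hl using hl
    have hG := fun j => (hij (i j)).2 (Over.mk (F.f j ≫ Z.hom)) (hF.isAffine_obj j) (l j)
    choose G hG hk using hG
    choose κ' m hm using hk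
    obtain ⟨F', hF', ⟨φ⟩⟩ := Groth.Agent.Lib.Helper14.PhComp.exists_standardPh_bind F hF G hG
    refine ⟨F', hF', fun q => ?_⟩
    have hw : φ.h₀ q ≫ (G (φ.s₀ q).1).f (φ.s₀ q).2 ≫ F.f (φ.s₀ q).1 = F'.f q := φ.w₀ q
    let A : Over.mk (F'.f q ≫ Z.hom) ⟶
        Over.mk ((G (φ.s₀ q).1).f (φ.s₀ q).2 ≫ (Over.mk (F.f (φ.s₀ q).1 ≫ Z.hom)).hom) :=
      Over.homMk (φ.h₀ q) (by
        change φ.h₀ q ≫ (G (φ.s₀ q).1).f (φ.s₀ q).2 ≫ F.f (φ.s₀ q).1 ≫ Z.hom = F'.f q ≫ Z.hom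
        rw [← hw]; simp only [Category.assoc])
    refine ⟨⟨i (φ.s₀ q).1, κ' (φ.s₀ q).1 (φ.s₀ q).2⟩, (yon S).map A ≫ m (φ.s₀ q).1 (φ.s₀ q).2, ?_⟩
    change ((yon S).map A ≫ m (φ.s₀ q).1 (φ.s₀ q).2) ≫
      ((gij (i (φ.s₀ q).1) (κ' (φ.s₀ q).1 (φ.s₀ q).2)).hom ≫ (g (i (φ.s₀ q).1)).hom) = _
    have e1 := hm (φ.s₀ q).1 (φ.s₀ q).2
    have e2 := hl (φ.s₀ q).1
    dsimp only at e1 e2
    rw [Category.assoc, ← Category.assoc (m _ _), e1, Category.assoc, e2, ← Category.assoc,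
      ← Category.assoc, ← Functor.map_comp, ← Functor.map_comp]
    congr 2
    ext
    simp only [Over.comp_left, Over.homMk_left, A, Category.assoc]
    exact hw

end Groth.Agent.S10517
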