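import Groth.Statements.S1053
import Mathlib.Algebra.Homology.DerivedCategory.KProjective
-- import your own Groth.Agent.* helpers here

set_option autoImplicit false
universe w v u
open CategoryTheory CategoryTheory.Limits
open CohDer

namespace Groth.Agent.S1053

/-- Let P and K be cochain complexes in an abelian category with P bounded, consisting of projective
objects and zero in degrees below n, and with Hⁱ(K) = 0 for all i ≥ n. Then every morphism P ⟶ K in
the homotopy category and every morphism P ⟶ K in the derived category is zero. -/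
theorem result {A : Type u} [Category.{v} A] [Abelian A] [HasDerivedCategory.{w} A]
    (P K : CochainComplex A ℤ) (n b : ℤ) [P.IsStrictlyGE n] [P.IsStrictlyLE b] (hP : ∀ i : ℤ, Projective (P.X i))
    (hK : ∀ i : ℤ, n ≤ i → IsZero (K.homology i)) :
    (∀ φ : (HomotopyCategory.quotient A (ComplexShape.up ℤ)).obj P ⟶ (HomotopyCategory.quotient A (ComplexShape.up ℤ)).obj K, φ = 0) ∧
    (∀ φ : DerivedCategory.Q.obj P ⟶ DerivedCategory.Q.obj K, φ = 0) := by
  have hPK : P.IsKProjective := CochainComplex.isKProjective_of_projective P b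
  have hKLE : K.IsLE (n - 1) := by
    rw [CochainComplex.isLE_iff]
    intro i hi
    rw [HomologicalComplex.exactAt_iff_isZero_homology]
    exact hK i (by lia)
  have hqi : QuasiIso (K.ιTruncLE (n - 1)) := inferInstance
  have hiso : IsIso (DerivedCategory.Q.map (K.ιTruncLE (n - 1))) := by
    rw [DerivedCategory.isIso_Q_map_iff_quasiIso]; exact hqi
  have key : ∀ φ : DerivedCategory.Q.obj P ⟶ DerivedCategory.Q.obj K, φ = 0 := by
    intro φ
    have h0 : ∀ ψ : DerivedCategory.Q.obj P ⟶ DerivedCategory.Q.obj (K.truncLE (n - 1)), ψ = 0 := by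
      intro ψ
      obtain ⟨g, hg⟩ := (CochainComplex.IsKProjective.Qh_map_bijective P
        ((HomotopyCategory.quotient A (ComplexShape.up ℤ)).obj (K.truncLE (n - 1)))).surjective ψ
      obtain ⟨g', rfl⟩ := (HomotopyCategory.quotient _ _).map_surjective g
      have hg' : g' = 0 := by
        ext i
        by_cases hi : n - 1 < i
        · exact ((K.truncLE (n - 1)).isZero_of_isStrictlyLE (n - 1) i hi).eq_of_tgt _ _
        · exact (P.isZero_of_isStrictlyGE n i (by lia)).eq_of_src _ _
      rw [← hg, hg', Functor.map_zero, Functor.map_zero]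
      rfl
    have := h0 (φ ≫ inv (DerivedCategory.Q.map (K.ιTruncLE (n - 1))))
    rw [← cancel_mono (inv (DerivedCategory.Q.map (K.ιTruncLE (n - 1)))), this, zero_comp]
  refine ⟨fun φ => ?_, key⟩
  apply (CochainComplex.IsKProjective.Qh_map_bijective P
    ((HomotopyCategory.quotient A (ComplexShape.up ℤ)).obj K)).injective
  rw [Functor.map_zero]
  exact key (DerivedCategory.Qh.map φ)

end Groth.Agent.S1053
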