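import Groth.Statements.S10545
import Groth.Agent.Lib.Helper24.FpqcRep
import Groth.Agent.S9867

set_option autoImplicit false
universe u
open CategoryTheory CategoryTheory.Limits AlgebraicGeometry
open AlgSp

namespace Groth.Agent.S10545

open CategoryTheory CategoryTheory.Limits AlgebraicGeometry
open AlgSp

theorem finLocFree_eq : (AlgSp.finLocFree.{u}) =
    (@IsFinite ⊓ (@Flat ⊓ @LocallyOfFinitePresentation) : MorphismProperty Scheme.{u}) := by
  ext X Y f
  exact Iff.rfl

instance : IsZariskiLocalAtTarget (AlgSp.finLocFree.{u}) := by
  rw [finLocFree_eq]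
  infer_instance

instance : (AlgSp.finLocFree.{u}).DescendsAlong
    (@Surjective ⊓ @Flat ⊓ @QuasiCompact : MorphismProperty Scheme.{u}) :=
  Groth.Agent.S9867.result.1


/-- The property of morphisms of algebraic spaces over S given by f is finite locally free
(representable by finite, flat, locally finitely presented morphisms of schemes) is fpqc local on
the base: for an fpqc covering of an algebraic space Y by algebraic spaces Y_i, a morphism f : X ⟶ Y
of algebraic spaces and cartesian squares X_i = Y_i ×_Y X, f has the property if and only if every
X_i ⟶ Y_i has it. -/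
theorem result (S : Scheme.{u}) :
    AlgSp.IsLocalOnBase (AlgSp.IsFpqcCover (S := S)) AlgSp.IsFinLocFreeMor := by
  refine Groth.Agent.Lib.Helper24.FpqcRep.isLocalOnBase_fpqc_repWith (P := AlgSp.finLocFree.{u})
    ?_ ?_
  · intro X Y f hf
    have : IsFinite f := hf.1
    exact ⟨inferInstance, inferInstance⟩
  · intro X Y f hf
    have : IsFinite f := hf.1
    show IsSeparated f
    infer_instance

end Groth.Agent.S10545
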