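import Groth.Statements.S10556
import Groth.Agent.Lib.Helper14.AlgSpLocP2

set_option autoImplicit false
universe u
open CategoryTheory CategoryTheory.Limits AlgebraicGeometry
open AlgSp

namespace Groth.Agent.S10556

/-- The property of morphisms of algebraic spaces over S given by f is unramified (locally of finite
type and formally unramified on etale charts) is etale local on the source: for a morphism f : X ⟶ Y
of algebraic spaces and a etale covering of X by algebraic spaces X_i, f has the property if and
only if every composite X_i ⟶ X ⟶ Y has it. -/
theorem result (S : Scheme.{u}) :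
    AlgSp.IsLocalOnSource (AlgSp.IsEtCover (S := S)) (AlgSp.LocP (@LocallyOfFiniteType ⊓ @FormallyUnramified)) := by
  intro ι X Xi g hX hXi hcov Y f hY
  constructor
  · intro hf i U V a b h ha hb comm
    exact hf (a ≫ g i) b h (hcov.1 i a ha) hb (by rw [Category.assoc]; exact comm)
  · intro H
    exact Groth.Agent.Lib.Helper14.AS.locP_of_etCover Groth.Agent.Lib.Helper14.AS.etLocal_lft_fu Xi g
      hXi hcov.1 hcov.2 f H

end Groth.Agent.S10556
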