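import Groth.Statements.S10571
import Groth.Agent.Lib.Helper14.FpqcBase
import Groth.Agent.Lib.Helper14.AlgSpYonSigma

set_option autoImplicit false
universe u
open CategoryTheory CategoryTheory.Limits AlgebraicGeometry
open AlgSp

namespace Groth.Agent.S10571

open CategoryTheory CategoryTheory.Limits AlgebraicGeometry Opposite AlgSp
open Groth.Agent.Lib.Helper14.AS

/-- The cofan of representable sheaves on a coproduct of schemes is a colimit. -/
noncomputable def yonSigmaIsColimit {S : Scheme.{u}} {ι : Type u} (T : ι → Over S) :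
    IsColimit (Cofan.mk ((AlgSp.yon S).obj (sigmaOver T))
      (fun i => (AlgSp.yon S).map (sigmaOverι T i)) : Cofan (fun i => (AlgSp.yon S).obj (T i))) :=
  Cofan.IsColimit.mk _
    (fun t => (existsUnique_desc_yon_sigmaOver T (fun i => t.inj i)).exists.choose)
    (fun t j => (existsUnique_desc_yon_sigmaOver T (fun i => t.inj i)).exists.choose_spec j)
    (fun t m hm => (existsUnique_desc_yon_sigmaOver T (fun i => t.inj i)).unique hm
      (existsUnique_desc_yon_sigmaOver T (fun i => t.inj i)).exists.choose_spec)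

/-- Finite coproducts of sheaves are universal: pulling back the coprojections gives a
coproduct. -/
theorem nonempty_isColimit_pullback_cofan {S : Scheme.{u}} {ι : Type u} [Finite ι]
    {Yi : ι → AlgSp.Sp S} {cY : Cofan Yi} (hcY : IsColimit cY) {X : AlgSp.Sp S} (m : X ⟶ cY.pt)
    (Xi : ι → AlgSp.Sp S) (a : ∀ i, Xi i ⟶ X) (b : ∀ i, Xi i ⟶ Yi i)
    (sq : ∀ i, IsPullback (a i) (b i) m (cY.inj i)) :
    Nonempty (IsColimit (Cofan.mk X a)) := by
  have hu : IsUniversalColimit cY := FinitaryPreExtensive.isUniversal_finiteCoproducts hcY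
  refine hu (Cofan.mk X a) (Discrete.natTrans fun i => b i.as) m ?_
    (NatTrans.Equifibered.of_discrete _) ?_
  · refine NatTrans.ext (funext fun ⟨i⟩ => ?_)
    have := (sq i).w.symm
    simp only [Functor.const_obj_obj, NatTrans.comp_app, Discrete.natTrans_app, Cofan.mk_pt,
      Cofan.mk_ι_app, Functor.const_map_app]
    exact this
  · rintro ⟨i⟩
    exact sq i


/-- Suppose a property P of morphisms between algebraic spaces over S satisfies: (1) if finitely many
morphisms X_i ⟶ Y_i have P then so does the induced morphism ∐ X_i ⟶ ∐ Y_i, (2) f : X ⟶ Y has P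
exactly when, for each affine scheme Z and each h_Z ⟶ Y, the base change h_Z ×_Y X ⟶ h_Z has P, and
(3) for every surjective flat morphism of affine schemes Z' ⟶ Z over S and every f : X ⟶ h_Z, if the
base change h_{Z'} ×_{h_Z} X ⟶ h_{Z'} has P then f has P. Under these hypotheses, P is local on the
base for the fpqc topology. (The published statement asks (1) only for two morphisms; its proof
applies (1) to a disjoint union indexed by a finite set that may be empty, and with (1) for two
morphisms only the property that holds for no morphism satisfies all three hypotheses without being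
fpqc local on the base, as the empty covering of the empty algebraic space shows. This row asks (1)
for all finite families, the empty one included.) -/
theorem result {S : Scheme.{u}} (P : MorphismProperty (AlgSp.Sp S))
    (h1 : ∀ ⦃ι : Type u⦄ [Finite ι] (Xi Yi : ι → AlgSp.Sp S) (fi : ∀ i, Xi i ⟶ Yi i)
      (cX : Cofan Xi) (cY : Cofan Yi) (hcX : IsColimit cX) (hcY : IsColimit cY) (m : cX.pt ⟶ cY.pt),
      (∀ i, AlgSp.IsAlgSpace (Xi i)) → (∀ i, AlgSp.IsAlgSpace (Yi i)) →
      AlgSp.IsAlgSpace cX.pt → AlgSp.IsAlgSpace cY.pt →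
      (∀ i, cX.inj i ≫ m = fi i ≫ cY.inj i) → (∀ i, P (fi i)) → P m)
    (h2 : ∀ ⦃X Y : AlgSp.Sp S⦄, AlgSp.IsAlgSpace X → AlgSp.IsAlgSpace Y → ∀ (f : X ⟶ Y),
      P f ↔ ∀ (Z : Over S), IsAffine Z.left → ∀ (g : (AlgSp.yon S).obj Z ⟶ Y) (W : AlgSp.Sp S)
        (fst : W ⟶ X) (snd : W ⟶ (AlgSp.yon S).obj Z), AlgSp.IsAlgSpace W → IsPullback fst snd f g → P snd)
    (h3 : ∀ ⦃Z Z' : Over S⦄ (c : Z' ⟶ Z), IsAffine Z.left → IsAffine Z'.left → Surjective c.left → Flat c.left →
      ∀ ⦃X X' : AlgSp.Sp S⦄ (f : X ⟶ (AlgSp.yon S).obj Z) (fst : X' ⟶ X) (f' : X' ⟶ (AlgSp.yon S).obj Z'),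
        AlgSp.IsAlgSpace X → AlgSp.IsAlgSpace X' → IsPullback fst f' f ((AlgSp.yon S).map c) → P f' → P f) :
    AlgSp.IsLocalOnBase (AlgSp.IsFpqcCover (S := S)) P := by
  refine isLocalOnBase_fpqc_of ?_ ?_ ?_
  · -- base change stability
    intro X Y Y' X' hX hY hY' hX' f g fst f' sq hf
    refine (h2 hX' hY' f').2 fun Z hZ k W a b hW sq' => ?_
    exact (h2 hX hY f).1 hf Z hZ (k ≫ g) W (a ≫ fst) b hW (sq'.paste_horiz sq)
  · -- affine locality
    intro X Y hX hY f H
    exact (h2 hX hY f).2 fun Z hZ g W fst snd _ sq => H Z hZ g W fst snd sq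
  · -- descent along standard fpqc coverings
    intro X Z hX hZ f m W c hWa hWf hWs H
    -- the disjoint union of the covering
    let W' : ULift.{u} (Fin m) → Over S := fun j => W j.down
    let c' : ∀ j, W' j ⟶ Z := fun j => c j.down
    let Z' : Over S := sigmaOver W'
    let d : Z' ⟶ Z := sigmaOverDesc W' c'
    have hZ' : IsAffine Z'.left := by
      haveI : ∀ j, IsAffine (W' j).left := fun j => hWa j.down
      exact inferInstanceAs (IsAffine (∐ fun j => (W' j).left))
    have hdflat : Flat d.left := by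
      haveI : ∀ j, Flat (c' j).left := fun j => hWf j.down
      exact inferInstanceAs (Flat (Sigma.desc fun j => (c' j).left))
    have hdsurj : Surjective d.left := by
      refine Surjective.sigmaDesc_of_union_range_eq_univ ?_
      ext z
      simp only [Set.mem_iUnion, Set.mem_univ, iff_true]
      obtain ⟨j, hj⟩ := hWs z
      exact ⟨⟨j⟩, hj⟩
    -- the base change to the disjoint union
    let X' : AlgSp.Sp S := pullback f ((AlgSp.yon S).map d)
    have sqX : IsPullback (pullback.fst f ((AlgSp.yon S).map d))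
        (pullback.snd f ((AlgSp.yon S).map d)) f ((AlgSp.yon S).map d) := IsPullback.of_hasPullback _ _
    have hX' : IsAlgSpace X' :=
      isAlgSpace_of_isPullback (repDiag_of_isAlgSpace (IsAlgSpace.yon_obj Z)) hX
        (IsAlgSpace.yon_obj Z') sqX
    refine h3 d hZ hZ' hdsurj hdflat f _ _ hX hX' sqX ?_
    -- the pieces
    let Xi : ULift.{u} (Fin m) → AlgSp.Sp S := fun j =>
      pullback (pullback.snd f ((AlgSp.yon S).map d)) ((AlgSp.yon S).map (sigmaOverι W' j))
    have sqi : ∀ j, IsPullback
        (pullback.fst (pullback.snd f ((AlgSp.yon S).map d)) ((AlgSp.yon S).map (sigmaOverι W' j)))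
        (pullback.snd (pullback.snd f ((AlgSp.yon S).map d)) ((AlgSp.yon S).map (sigmaOverι W' j)))
        (pullback.snd f ((AlgSp.yon S).map d)) ((AlgSp.yon S).map (sigmaOverι W' j)) :=
      fun j => IsPullback.of_hasPullback _ _
    have hXi : ∀ j, IsAlgSpace (Xi j) := fun j =>
      isAlgSpace_of_isPullback (repDiag_of_isAlgSpace (IsAlgSpace.yon_obj Z')) hX'
        (IsAlgSpace.yon_obj (W' j)) (sqi j)
    obtain ⟨hcX⟩ := nonempty_isColimit_pullback_cofan (yonSigmaIsColimit W')
      (pullback.snd f ((AlgSp.yon S).map d)) Xi (fun j => pullback.fst _ _)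
      (fun j => pullback.snd _ _) sqi
    refine h1 Xi (fun j => (AlgSp.yon S).obj (W' j)) (fun j => pullback.snd _ _) _ _ hcX
      (yonSigmaIsColimit W') (pullback.snd f ((AlgSp.yon S).map d)) hXi
      (fun j => IsAlgSpace.yon_obj (W' j)) hX' (IsAlgSpace.yon_obj Z')
      (fun j => (sqi j).w) fun j => ?_
    refine H j.down (Xi j) (pullback.fst _ _ ≫ pullback.fst _ _) (pullback.snd _ _) ?_
    have hcomp : (AlgSp.yon S).map (sigmaOverι W' j) ≫ (AlgSp.yon S).map d
        = (AlgSp.yon S).map (c j.down) := by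
      rw [← Functor.map_comp]
      congr 1
      exact sigmaOverι_desc W' c' j
    have := (sqi j).paste_horiz sqX
    rwa [hcomp] at this

end Groth.Agent.S10571
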