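import Groth.Statements.S10580
import Groth.Agent.Lib.Helper24.SrcLocP

set_option autoImplicit false
universe u
open CategoryTheory CategoryTheory.Limits AlgebraicGeometry
open AlgSp

namespace Groth.Agent.S10580

open CategoryTheory CategoryTheory.Limits AlgebraicGeometry Opposite AlgSp
open Groth.Agent.Lib.Helper14.AS Groth.Agent.Lib.Helper24.SrcLocP

theorem srcLocal_of_srcCov {S : Scheme.{u}} {K : Precoverage Scheme.{u}}
    {Q P : MorphismProperty Scheme.{u}} (hK : SrcCov K Q) [P.IsLocalAtSource K]
    {ι : Type u} {X Y : Sp S} (Xi : ι → Sp S) (g : ∀ i, Xi i ⟶ X)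
    (hX : IsAlgSpace X) (hXi : ∀ i, IsAlgSpace (Xi i)) (hQ : ∀ i, LocP Q (g i))
    (hcov : ∀ {U : Over S} (a : (yon S).obj U ⟶ X), RepWith @Etale a →
      ∀ (W : ι → Over S) (w : ∀ i, W i ⟶ U) (q : ∀ i, (yon S).obj (W i) ⟶ pullback (g i) a),
      (∀ i, RepWith @Etale (q i)) → (∀ i, RepWith @Surjective (q i)) →
      (∀ i, q i ≫ pullback.snd (g i) a = (yon S).map (w i)) → (∀ i, Q (w i).left) →
      Presieve.ofArrows (fun i => (W i).left) (fun i => (w i).left) ∈ K U.left)
    (f : X ⟶ Y) : LocP P f ↔ ∀ i, LocP P (g i ≫ f) :=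
  ⟨fun hf i => locP_precomp hK hX (g i) f (hQ i) hf,
    fun H => locP_of_cover Xi g hX hXi hQ hcov f H⟩


/-- Let P be a property of morphisms of schemes and P_spaces the induced property of morphisms of
algebraic spaces over S (P on every etale chart diagram). For τ one of fpqc, fppf, smooth, etale: if
P is τ local on the source for morphisms of schemes, then P_spaces is τ local on the source for
morphisms of algebraic spaces. (The published statement assumes P etale local on the
source-and-target, which is what makes the chart-wise property the right notion; the implication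
itself holds for every P and is stated that way. The syntomic case is not included. τ-locality on
the source for schemes is taken in the form that includes invariance of P under isomorphisms, which
the published definition requires implicitly.) -/
theorem result (S : Scheme.{u}) (P : MorphismProperty Scheme.{u}) :
    (P.IsLocalAtSource Scheme.fpqcPrecoverage → AlgSp.IsLocalOnSource (AlgSp.IsFpqcCover (S := S)) (AlgSp.LocP P)) ∧
    (P.IsLocalAtSource Scheme.fppfPrecoverage → AlgSp.IsLocalOnSource (AlgSp.IsFppfCover (S := S)) (AlgSp.LocP P)) ∧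
    (P.IsLocalAtSource (Scheme.precoverage @Smooth) → AlgSp.IsLocalOnSource (AlgSp.IsSmCover (S := S)) (AlgSp.LocP P)) ∧
    (P.IsLocalAtSource Scheme.etalePrecoverage → AlgSp.IsLocalOnSource (AlgSp.IsEtCover (S := S)) (AlgSp.LocP P)) := by
  refine ⟨fun hP => ?_, fun hP => ?_, fun hP => ?_, fun hP => ?_⟩
  · intro ι X Xi g hX hXi hcov Y f _
    exact srcLocal_of_srcCov srcCov_fpqc Xi g hX hXi hcov.1
      (fun a _ W w q hq hqs hw hQw =>
        mem_fpqcPrecoverage_of_isFpqcCover Xi g hcov.2 a W w q hq hqs hw hQw) f
  · intro ι X Xi g hX hXi hcov Y f _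
    have hEL : EtLocal (@Flat ⊓ @LocallyOfFinitePresentation : MorphismProperty Scheme.{u}) :=
      { src := etLocal_flat.src.inf etLocal_lfp.src
        comp_etale := fun _ _ _ f g hf hg =>
          ⟨etLocal_flat.comp_etale f g hf.1 hg, etLocal_lfp.comp_etale f g hf.2 hg⟩
        etale_comp := fun _ _ _ f g hf hg =>
          ⟨etLocal_flat.etale_comp f g hf hg.1, etLocal_lfp.etale_comp f g hf hg.2⟩
        of_comp_etale := fun _ _ _ f g hf hg =>
          ⟨etLocal_flat.of_comp_etale f g hf.1 hg, etLocal_lfp.of_comp_etale f g hf.2 hg⟩ }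
    have hle : (@Etale : MorphismProperty Scheme.{u}) ≤
        (@Flat ⊓ @LocallyOfFinitePresentation : MorphismProperty Scheme.{u}) :=
      fun _ _ f (hf : Etale f) => ⟨inferInstance, inferInstance⟩
    haveI : P.IsLocalAtSource
        (Scheme.precoverage (@Flat ⊓ @LocallyOfFinitePresentation)) := hP
    exact srcLocal_of_srcCov (srcCov_precoverage hEL hle) Xi g hX hXi
      (fun i U V a b h ha hb comm =>
        ⟨(hcov.1 i).1 a b h ha hb comm, (hcov.1 i).2 a b h ha hb comm⟩)
      (fun a _ W w q _ hqs hw hQw =>
        mem_precoverage_of_isCover Xi g hcov.2 a W w q hqs hw hQw) f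
  · intro ι X Xi g hX hXi hcov Y f _
    exact srcLocal_of_srcCov (srcCov_precoverage etLocal_smooth etale_le_smooth) Xi g hX hXi hcov.1
      (fun a _ W w q _ hqs hw hQw =>
        mem_precoverage_of_isCover Xi g hcov.2 a W w q hqs hw hQw) f
  · intro ι X Xi g hX hXi hcov Y f _
    haveI : P.IsLocalAtSource (Scheme.precoverage @Etale) := hP
    exact srcLocal_of_srcCov (srcCov_precoverage etLocal_etale le_rfl) Xi g hX hXi
      (fun i => locP_etale_of_isEtaleMor (hcov.1 i))
      (fun a _ W w q _ hqs hw hQw =>
        mem_precoverage_of_isCover Xi g hcov.2 a W w q hqs hw hQw) f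

end Groth.Agent.S10580
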