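import Groth.Statements.S10583
import Groth.Agent.Lib.Helper24.OpenSubSp
import Groth.Agent.Lib.Helper24.ThickSq
import Groth.Agent.Lib.Helper14.AlgSpSect

set_option autoImplicit false
universe u
open CategoryTheory CategoryTheory.Limits AlgebraicGeometry
open AlgSp

namespace Groth.Agent.S10583

open CategoryTheory CategoryTheory.Limits AlgebraicGeometry Opposite AlgSp
open Groth.Agent.Lib.Helper14.AS Groth.Agent.Lib.Helper24.ThickSq Groth.Agent.Lib.Helper24.OpenSubSp

theorem isPullback_of_open_of_injective {S : Scheme.{u}} {U X X' U' : AlgSp.Sp S} {u : U ⟶ X}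
    {i : X ⟶ X'} {u' : U' ⟶ X'} {k : U ⟶ U'} (hu : RepWith @IsOpenImmersion u)
    (hu' : RepWith @IsOpenImmersion u') (hi : Function.Injective (Points.map i))
    (w : u ≫ i = k ≫ u')
    (hr : Set.range (Points.map u') ⊆ Points.map i '' Set.range (Points.map u)) :
    IsPullback u k i u' := by
  haveI := mono_of_openImmersion hu
  haveI := mono_of_openImmersion hu'
  refine isPullback_iff_yon.2 ⟨w, fun T x y hxy => ?_⟩
  have hx : ∀ t, Points.ofPt x t ∈ Set.range (Points.map u) := by
    intro t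
    have h1 : Points.map i (Points.ofPt x t) ∈ Set.range (Points.map u') := by
      rw [Points.map_ofPt, hxy, ← Points.map_ofPt]
      exact ⟨_, rfl⟩
    obtain ⟨p, hp, hpe⟩ := hr h1
    rw [← hi hpe]
    exact hp
  obtain ⟨z, hz⟩ := exists_lift_yon_of_range_subset hu x hx
  refine ⟨z, ⟨hz, ?_⟩, ?_⟩
  · rw [← cancel_mono u', Category.assoc, ← w, ← Category.assoc, hz, hxy]
  · rintro z' ⟨hz', -⟩
    rw [← cancel_mono u, hz, hz']

theorem range_of_isPullback {S : Scheme.{u}} {U X X' U' : AlgSp.Sp S} {u : U ⟶ X}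
    {i : X ⟶ X'} {u' : U' ⟶ X'} {k : U ⟶ U'} (sq : IsPullback u k i u')
    (hi : Function.Surjective (Points.map i)) :
    Set.range (Points.map u') = Points.map i '' Set.range (Points.map u) := by
  ext q
  constructor
  · rintro ⟨y, rfl⟩
    obtain ⟨x, hx⟩ := hi (Points.map u' y)
    obtain ⟨z, hz1, -⟩ := points_exists_of_isPullback sq x y hx
    exact ⟨x, ⟨z, hz1⟩, hx⟩
  · rintro ⟨_, ⟨p, rfl⟩, rfl⟩
    refine ⟨Points.map k p, ?_⟩
    rw [← Points.map_comp, ← sq.w, Points.map_comp]

theorem isOpenImmersion_le_universallyOpen :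
    (@IsOpenImmersion : MorphismProperty Scheme.{u}) ≤ @UniversallyOpen :=
  fun _ _ f (_ : IsOpenImmersion f) => inferInstance


/-- Let i : X ⟶ X' be a thickening of algebraic spaces (representable, every base change to a scheme a
surjective closed immersion) and let u : U ⟶ X be an open immersion. Then there is an open immersion
u' : U' ⟶ X' with U = X ×_{X'} U' (a pullback square), and any two open subspaces of X' with this
property are isomorphic over X'. -/
theorem result {S : Scheme.{u}} {X X' U : AlgSp.Space S} (i : X ⟶ X')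
    (hi : AlgSp.IsThickMor i.hom)
    (u : U ⟶ X) (hu : AlgSp.RepWith @IsOpenImmersion u.hom) :
    (∃ (U' : AlgSp.Space S) (u' : U' ⟶ X') (k : U ⟶ U'),
      AlgSp.RepWith @IsOpenImmersion u'.hom ∧ IsPullback u.hom k.hom i.hom u'.hom) ∧
    (∀ (U₁ U₂ : AlgSp.Space S) (u₁ : U₁ ⟶ X') (u₂ : U₂ ⟶ X') (k₁ : U ⟶ U₁) (k₂ : U ⟶ U₂),
      AlgSp.RepWith @IsOpenImmersion u₁.hom → IsPullback u.hom k₁.hom i.hom u₁.hom →
      AlgSp.RepWith @IsOpenImmersion u₂.hom → IsPullback u.hom k₂.hom i.hom u₂.hom →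
      ∃ e : U₁ ≅ U₂, e.hom ≫ u₂ = u₁) := by
  have hiH := isHomeomorph_of_isThickMor X'.property hi
  have huO : IsOpenMap (Points.map u.hom) :=
    isOpenMap_points_of_repWith_universallyOpen X.property
      (repWith_mono isOpenImmersion_le_universallyOpen hu)
  refine ⟨?_, ?_⟩
  · have hW' : IsOpen (Points.map i.hom '' Set.range (Points.map u.hom)) :=
      hiH.isOpenMap _ huO.isOpen_range
    obtain ⟨k, hk⟩ := ((openPred (Points.map i.hom '' Set.range (Points.map u.hom))).factors_iff
      (u.hom ≫ i.hom)).2 (fun T x t => by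
        refine ⟨Points.map u.hom (Points.ofPt x t), ⟨_, rfl⟩, ?_⟩
        rw [Points.map_ofPt, Points.map_ofPt, Category.assoc])
    refine ⟨⟨_, isAlgSpace_openPred X'.property hW'⟩, ObjectProperty.homMk (openPred _).ι,
      ObjectProperty.homMk k, repWith_openPred hW', ?_⟩
    exact isPullback_of_open_of_injective hu (repWith_openPred hW') hiH.injective hk.symm
      (range_openPred hW').le
  · intro U₁ U₂ u₁ u₂ k₁ k₂ hu₁ sq₁ hu₂ sq₂
    have hr₁ := range_of_isPullback sq₁ hiH.surjective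
    have hr₂ := range_of_isPullback sq₂ hiH.surjective
    haveI := mono_of_openImmersion hu₁
    haveI := mono_of_openImmersion hu₂
    obtain ⟨c₁₂, h₁₂⟩ := exists_lift_of_range_subset hu₂ u₁.hom (by rw [hr₁, hr₂])
    obtain ⟨c₂₁, h₂₁⟩ := exists_lift_of_range_subset hu₁ u₂.hom (by rw [hr₁, hr₂])
    refine ⟨⟨ObjectProperty.homMk c₁₂, ObjectProperty.homMk c₂₁, ?_, ?_⟩, ?_⟩
    · apply ObjectProperty.hom_ext
      change c₁₂ ≫ c₂₁ = 𝟙 _
      rw [← cancel_mono u₁.hom, Category.assoc, h₂₁, h₁₂, Category.id_comp]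
    · apply ObjectProperty.hom_ext
      change c₂₁ ≫ c₁₂ = 𝟙 _
      rw [← cancel_mono u₂.hom, Category.assoc, h₁₂, h₂₁, Category.id_comp]
    · apply ObjectProperty.hom_ext
      exact h₁₂

end Groth.Agent.S10583
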