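import Groth.Statements.S10589
import Groth.Agent.Lib.Helper24.ThickDiag

set_option autoImplicit false
universe u
open CategoryTheory CategoryTheory.Limits AlgebraicGeometry
open AlgSp

namespace Groth.Agent.S10589

open CategoryTheory CategoryTheory.Limits AlgebraicGeometry Opposite AlgSp
open Groth.Agent.Lib.Helper14.AS Groth.Agent.Lib.Helper24.ThickSq


/-- Consider a morphism (f, f') from the thickening X ⊂ X' to the thickening Y ⊂ Y' of algebraic spaces
over S, meaning: i : X ⟶ X' and j : Y ⟶ Y' are thickenings (representable, every base change to a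
scheme a surjective closed immersion) and i ≫ f' = f ≫ j. Then f is separated if and only if f' is
separated, and f is quasi-separated if and only if f' is quasi-separated. -/
theorem result {S : Scheme.{u}} {X X' Y Y' : AlgSp.Space S} (i : X ⟶ X') (j : Y ⟶ Y')
    (f : X ⟶ Y) (f' : X' ⟶ Y')
    (hi : AlgSp.IsThickMor i.hom)
    (hj : AlgSp.IsThickMor j.hom) (w : i ≫ f' = f ≫ j) :
    (AlgSp.IsSeparatedMor f.hom ↔ AlgSp.IsSeparatedMor f'.hom) ∧
    (AlgSp.IsQuasiSeparatedMor f.hom ↔ AlgSp.IsQuasiSeparatedMor f'.hom) := by
  have w' : i.hom ≫ f'.hom = f.hom ≫ j.hom := by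
    have := congrArg (fun k => k.hom) w
    exact this
  obtain ⟨ii, hii, hii1, hii2⟩ := exists_thick_fibreSquare hi hj w'
  have hXX : IsAlgSpace (pullback f.hom f.hom) :=
    isAlgSpace_of_isPullback (repDiag_of_isAlgSpace Y.property) X.property X.property
      (IsPullback.of_hasPullback _ _)
  have hXX' : IsAlgSpace (pullback f'.hom f'.hom) :=
    isAlgSpace_of_isPullback (repDiag_of_isAlgSpace Y'.property) X'.property X'.property
      (IsPullback.of_hasPullback _ _)
  have wd : i.hom ≫ pullback.diagonal f'.hom = pullback.diagonal f.hom ≫ ii := by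
    apply pullback.hom_ext
    · rw [Category.assoc, Category.assoc, pullback.diagonal_fst, hii1, ← Category.assoc,
        pullback.diagonal_fst, Category.comp_id, Category.id_comp]
    · rw [Category.assoc, Category.assoc, pullback.diagonal_snd, hii2, ← Category.assoc,
        pullback.diagonal_snd, Category.comp_id, Category.id_comp]
  refine ⟨?_, ?_⟩
  · rw [isSeparatedMor_iff_isUnivClosedMor_diagonal X.property,
      isSeparatedMor_iff_isUnivClosedMor_diagonal X'.property]
    exact univSp_iff_of_thick homeoInv_isClosedMor X'.property hXX hXX' hi hii wd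
  · rw [isQuasiSeparatedMor_iff_isQuasiCompactMor_diagonal X.property,
      isQuasiSeparatedMor_iff_isQuasiCompactMor_diagonal X'.property]
    exact isQuasiCompactMor_iff_of_thick X.property X'.property hXX hXX' hi hii wd

end Groth.Agent.S10589
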