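import Groth.Statements.S10591
import Groth.Agent.Lib.Helper24.ThickChart2
import Groth.Agent.Lib.Helper14.HasAtMorChart
import Groth.Agent.Lib.Helper14.RelDim0
import Groth.Agent.Lib.Helper21.BaseChg4
import Groth.Agent.S10593

set_option autoImplicit false
universe u
open CategoryTheory CategoryTheory.Limits AlgebraicGeometry
open AlgSp

namespace Groth.Agent.S10591

open CategoryTheory CategoryTheory.Limits AlgebraicGeometry Opposite AlgSp
open Groth.Agent.Lib.Helper14.AS Groth.Agent.Lib.Helper24.ThickSq

/-- fibre dimension `d` at all points transfers along a cartesian square of thickenings -/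
theorem fibreDim_iff_of_cartesian {S : Scheme.{u}} {X X' Y Y' : Sp S}
    {i : X ⟶ X'} {j : Y ⟶ Y'} {f : X ⟶ Y} {f' : X' ⟶ Y'} (hX' : IsAlgSpace X')
    (hY' : IsAlgSpace Y') (hi : IsThickMor i) (hj : IsThickMor j)
    (hcart : IsPullback i f f' j) (hft' : LocP @LocallyOfFiniteType f') (d : ℕ) :
    (∀ x, HasAtMor (fun _ _ h u => FlatMor.fibreDimAt h u = (d : WithBot ℕ∞)) f x) ↔
      (∀ x', HasAtMor (fun _ _ h u => FlatMor.fibreDimAt h u = (d : WithBot ℕ∞)) f' x') := by
  have hQ := etSqInv_fibreDimAt (fun e => e = (d : WithBot ℕ∞))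
  constructor
  · intro H x'
    obtain ⟨U', V', a', b', h', u', ha'e, hb'e, comm', hu'⟩ :=
      exists_chart_diagram_at hX' hY' f' x'
    obtain ⟨U, V, a, b, h, iU, iV, comm, sq, hiV, hiU, sqU, sqV⟩ :=
      exists_cartesian_chart_of hi hj hcart a' b' h' comm'
    have hae : RepWith @Etale a := repWith_of_isPullback _ sqU.flip ha'e
    have hbe : RepWith @Etale b := repWith_of_isPullback _ sqV.flip hb'e
    haveI : LocallyOfFiniteType h'.left := hft' a' b' h' ha'e hb'e comm'
    haveI : Surjective iU.left := hiU.2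
    obtain ⟨u, hu⟩ := iU.left.surjective u'
    have h1 := (hasAtMor_ofPt_iff hQ f a b h hae hbe comm u).1 (H (Points.ofPt a u))
    have h2 := Groth.Agent.Lib.Helper21.BaseChg.fibreDimAt_eq_of_isPullback sq u
    refine ⟨U', V', a', b', h', u', ha'e, hb'e, comm', hu', ?_⟩
    change FlatMor.fibreDimAt h'.left u' = _
    rw [← hu, ← h2]
    exact h1
  · intro H x
    obtain ⟨U', V', a', b', h', u', ha'e, hb'e, comm', hu'⟩ :=
      exists_chart_diagram_at hX' hY' f' (Points.map i x)
    obtain ⟨U, V, a, b, h, iU, iV, comm, sq, hiV, hiU, sqU, sqV⟩ :=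
      exists_cartesian_chart_of hi hj hcart a' b' h' comm'
    have hae : RepWith @Etale a := repWith_of_isPullback _ sqU.flip ha'e
    have hbe : RepWith @Etale b := repWith_of_isPullback _ sqV.flip hb'e
    haveI : LocallyOfFiniteType h'.left := hft' a' b' h' ha'e hb'e comm'
    obtain ⟨z, hz1, hz2⟩ := points_exists_of_isPullback sqU x (Points.ofScheme U' u')
      (by rw [← Points.ofPt_eq_map_ofScheme, hu'])
    obtain ⟨u, rfl⟩ := (Points.schemeHomeo U).surjective z
    have hu : iU.left u = u' := by
      have := (Points.map_yon_map_apply iU u).symm.trans hz2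
      exact (Points.schemeHomeo U').injective this
    have hx : Points.ofPt a u = x := by
      rw [Points.ofPt_eq_map_ofScheme]
      exact hz1
    have h1 := (hasAtMor_ofPt_iff hQ f' a' b' h' ha'e hb'e comm' u').1 (by rw [hu']; exact H _)
    have h2 := Groth.Agent.Lib.Helper21.BaseChg.fibreDimAt_eq_of_isPullback sq u
    refine ⟨U, V, a, b, h, u, hae, hbe, comm, hx, ?_⟩
    change FlatMor.fibreDimAt h.left u = _
    rw [h2, hu]
    exact h1


/-- Consider a morphism (f, f') from the thickening X ⊂ X' to the thickening Y ⊂ Y' of algebraic spaces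
over S, meaning: i : X ⟶ X' and j : Y ⟶ Y' are thickenings (representable, every base change to a
scheme a surjective closed immersion) and i ≫ f' = f ≫ j. Assume moreover that the square is
cartesian (X = Y ×_{Y'} X') and that i is a finite order thickening (for one n, on every affine
etale scheme chart of X' the (n+1)-st power of the ideal of the base change of X vanishes). Then f
is locally of finite type of relative dimension d, resp. locally of finite type, resp. locally
quasi-finite, resp. unramified, if and only if f' is (relative dimension d at a point: some chart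
diagram through the point has fibre of local dimension d there) (all in the etale-local sense,
locally quasi-finite and unramified including locally of finite type). -/
theorem result {S : Scheme.{u}} {X X' Y Y' : AlgSp.Space S} (i : X ⟶ X') (j : Y ⟶ Y')
    (f : X ⟶ Y) (f' : X' ⟶ Y')
    (hi : AlgSp.IsThickMor i.hom)
    (hj : AlgSp.IsThickMor j.hom) (w : i ≫ f' = f ≫ j)
    (hcart : IsPullback i.hom f.hom f'.hom j.hom)
    (hfo : AlgSp.IsFinThickMor i.hom) (d : ℕ) :
    ((AlgSp.LocP @LocallyOfFiniteType f.hom ∧
        ∀ x, AlgSp.HasAtMor (fun _ _ h u => FlatMor.fibreDimAt h u = (d : WithBot ℕ∞)) f.hom x) ↔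
      (AlgSp.LocP @LocallyOfFiniteType f'.hom ∧
        ∀ x', AlgSp.HasAtMor (fun _ _ h u => FlatMor.fibreDimAt h u = (d : WithBot ℕ∞)) f'.hom x')) ∧
    (AlgSp.LocP @LocallyOfFiniteType f.hom ↔ AlgSp.LocP @LocallyOfFiniteType f'.hom) ∧
    (AlgSp.LocP (@LocallyQuasiFinite ⊓ @LocallyOfFiniteType) f.hom ↔
      AlgSp.LocP (@LocallyQuasiFinite ⊓ @LocallyOfFiniteType) f'.hom) ∧
    (AlgSp.LocP (@LocallyOfFiniteType ⊓ @FormallyUnramified) f.hom ↔
      AlgSp.LocP (@LocallyOfFiniteType ⊓ @FormallyUnramified) f'.hom) := by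
  have up : LocP @LocallyOfFiniteType f.hom → LocP @LocallyOfFiniteType f'.hom :=
    locP_lft_of_cartesian_finThick hfo hj hcart
  have down : LocP @LocallyOfFiniteType f'.hom → LocP @LocallyOfFiniteType f.hom :=
    locP_baseChange etLocal_lft X'.property Y'.property Y.property f'.hom j.hom i.hom f.hom hcart
  have key := fun hft hft' => Groth.Agent.S10593.result i j f f' hi hj w hcart hft hft'
  have dimk := fun hft' => fibreDim_iff_of_cartesian X'.property Y'.property hi hj hcart hft' d
  refine ⟨⟨fun h => ⟨up h.1, (dimk (up h.1)).1 h.2⟩, fun h => ⟨down h.1, (dimk h.1).2 h.2⟩⟩,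
    ⟨up, down⟩, ⟨fun h => ?_, fun h => ?_⟩, ⟨fun h => ?_, fun h => ?_⟩⟩
  · have hft : LocP @LocallyOfFiniteType f.hom := fun _ _ a b k ha hb c => (h a b k ha hb c).2
    exact (key hft (up hft)).1.1 h
  · have hft' : LocP @LocallyOfFiniteType f'.hom := fun _ _ a b k ha hb c => (h a b k ha hb c).2
    exact (key (down hft') hft').1.2 h
  · have hft : LocP @LocallyOfFiniteType f.hom := fun _ _ a b k ha hb c => (h a b k ha hb c).1
    exact (key hft (up hft)).2.1 h
  · have hft' : LocP @LocallyOfFiniteType f'.hom := fun _ _ a b k ha hb c => (h a b k ha hb c).1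
    exact (key (down hft') hft').2.2 h

end Groth.Agent.S10591
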