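import Groth.Statements.S10592
import Groth.Agent.Lib.Helper24.ThickChart2
import Groth.Agent.Lib.Helper24.ThickFinite
import Groth.Agent.S10594

set_option autoImplicit false
universe u
open CategoryTheory CategoryTheory.Limits AlgebraicGeometry
open AlgSp

namespace Groth.Agent.S10592

open CategoryTheory CategoryTheory.Limits AlgebraicGeometry Opposite AlgSp
open Groth.Agent.Lib.Helper14.AS Groth.Agent.Lib.Helper24.ThickSq


/-- Consider a morphism (f, f') from the thickening X ⊂ X' to the thickening Y ⊂ Y' of algebraic spaces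
over S, meaning: i : X ⟶ X' and j : Y ⟶ Y' are thickenings (representable, every base change to a
scheme a surjective closed immersion) and i ≫ f' = f ≫ j. Assume moreover that the square is
cartesian (X = Y ×_{Y'} X') and that i is a finite order thickening (for one n, on every affine
etale scheme chart of X' the (n+1)-st power of the ideal of the base change of X vanishes). Then f
is a closed immersion, resp. proper, resp. finite, resp. an immersion, if and only if f' is
(immersions of algebraic spaces being the representable ones). -/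
theorem result {S : Scheme.{u}} {X X' Y Y' : AlgSp.Space S} (i : X ⟶ X') (j : Y ⟶ Y')
    (f : X ⟶ Y) (f' : X' ⟶ Y')
    (hi : AlgSp.IsThickMor i.hom)
    (hj : AlgSp.IsThickMor j.hom) (w : i ≫ f' = f ≫ j)
    (hcart : IsPullback i.hom f.hom f'.hom j.hom)
    (hfo : AlgSp.IsFinThickMor i.hom) :
    (AlgSp.RepWith @IsClosedImmersion f.hom ↔ AlgSp.RepWith @IsClosedImmersion f'.hom) ∧
    (AlgSp.IsProperMor f.hom ↔ AlgSp.IsProperMor f'.hom) ∧
    (AlgSp.IsFiniteMor f.hom ↔ AlgSp.IsFiniteMor f'.hom) ∧
    (AlgSp.RepWith @IsImmersion f.hom ↔ AlgSp.RepWith @IsImmersion f'.hom) := by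
  have up : LocP @LocallyOfFiniteType f.hom → LocP @LocallyOfFiniteType f'.hom :=
    locP_lft_of_cartesian_finThick hfo hj hcart
  have down : LocP @LocallyOfFiniteType f'.hom → LocP @LocallyOfFiniteType f.hom :=
    locP_baseChange etLocal_lft X'.property Y'.property Y.property f'.hom j.hom i.hom f.hom hcart
  have key := fun hft hft' => Groth.Agent.S10594.result i j f f' hi hj w hcart hft hft'
  have lftCI : ∀ {A B : Sp S} {k : A ⟶ B}, RepWith @IsClosedImmersion k →
      LocP @LocallyOfFiniteType k := fun h =>
    locP_of_repWith etale_le_lft (repWith_mono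
      (fun _ _ k (hk : IsClosedImmersion k) => (inferInstance : LocallyOfFiniteType k)) h)
  have lftImm : ∀ {A B : Sp S} {k : A ⟶ B}, RepWith @IsImmersion k →
      LocP @LocallyOfFiniteType k := fun h =>
    locP_of_repWith etale_le_lft (repWith_mono
      (fun _ _ k (hk : IsImmersion k) => (inferInstance : LocallyOfFiniteType k)) h)
  have lftFin : ∀ {A B : Space S} (k : A ⟶ B), IsFiniteMor k.hom →
      LocP @LocallyOfFiniteType k.hom := fun k h =>
    locP_of_repWith etale_le_lft (repWith_mono
      (fun _ _ k (hk : IsFinite k) => (inferInstance : LocallyOfFiniteType k))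
      ((integral_finite_iff_repWith k).2.1 h))
  refine ⟨⟨fun h => ?_, fun h => ?_⟩, ⟨fun h => ?_, fun h => ?_⟩, ⟨fun h => ?_, fun h => ?_⟩,
    ⟨fun h => ?_, fun h => ?_⟩⟩
  · exact (key (lftCI h) (up (lftCI h))).2.1.1 h
  · exact (key (down (lftCI h)) (lftCI h)).2.1.2 h
  · exact (key h.2.1.1 (up h.2.1.1)).2.2.2.1 h
  · exact (key (down h.2.1.1) h.2.1.1).2.2.2.2 h
  · exact (key (lftFin f h) (up (lftFin f h))).1.1 h
  · exact (key (down (lftFin f' h)) (lftFin f' h)).1.2 h
  · exact (key (lftImm h) (up (lftImm h))).2.2.1.1 h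
  · exact (key (down (lftImm h)) (lftImm h)).2.2.1.2 h

end Groth.Agent.S10592
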