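import Groth.Statements.S10596
import Groth.Agent.Lib.Helper24.DeformTower
import Groth.Agent.Lib.Helper14.AlgSpLocP3
import Groth.Agent.S10591
import Groth.Agent.S1317
import Groth.Agent.S1320
import Groth.Agent.S1321
import Groth.Agent.S1322

set_option autoImplicit false
universe u
open CategoryTheory CategoryTheory.Limits AlgebraicGeometry
open AlgSp

namespace Groth.Agent.S10596

open CategoryTheory CategoryTheory.Limits AlgebraicGeometry Opposite AlgSp
open Groth.Agent.Lib.Helper14.AS Groth.Agent.Lib.Helper24.ThickSq Groth.Agent.Lib.Helper24.FinThickBC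
open Groth.Agent.Lib.Helper24.DeformTower


/-- Let iB : B ⟶ B' be a finite order thickening of algebraic spaces over S (a thickening such that for
one n the (n+1)-st power of the ideal vanishes on every affine etale scheme chart), f' : X' ⟶ Y' a
morphism of algebraic spaces over B' (via g' : Y' ⟶ B') with X' flat over B', and f : X ⟶ Y, g : Y ⟶
B its base change to B (both squares to iB cartesian, iX ≫ f' = f ≫ iY). Then f is locally of finite
type of relative dimension d, resp. flat, resp. locally of finite type, locally quasi-finite,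
locally of finite presentation, smooth, unramified, etale, if and only if f' is (etale-local sense;
locally quasi-finite and unramified include locally of finite type). -/
theorem result {S : Scheme.{u}} {X X' Y Y' B B' : AlgSp.Space S} (iX : X ⟶ X') (iY : Y ⟶ Y') (iB : B ⟶ B')
    (f : X ⟶ Y) (f' : X' ⟶ Y') (g : Y ⟶ B) (g' : Y' ⟶ B')
    (hcX : IsPullback iX.hom (f ≫ g).hom (f' ≫ g').hom iB.hom) (hcY : IsPullback iY.hom g.hom g'.hom iB.hom)
    (w : iX ≫ f' = f ≫ iY)
    (hB : AlgSp.IsFinThickMor iB.hom) (hflat : AlgSp.LocP @Flat (f' ≫ g').hom) (d : ℕ) :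
    ((AlgSp.LocP @LocallyOfFiniteType f.hom ∧
        ∀ x, AlgSp.HasAtMor (fun _ _ h u => FlatMor.fibreDimAt h u = (d : WithBot ℕ∞)) f.hom x) ↔
      (AlgSp.LocP @LocallyOfFiniteType f'.hom ∧
        ∀ x', AlgSp.HasAtMor (fun _ _ h u => FlatMor.fibreDimAt h u = (d : WithBot ℕ∞)) f'.hom x')) ∧
    (AlgSp.LocP @Flat f.hom ↔ AlgSp.LocP @Flat f'.hom) ∧
    (AlgSp.LocP @LocallyOfFiniteType f.hom ↔ AlgSp.LocP @LocallyOfFiniteType f'.hom) ∧
    (AlgSp.LocP (@LocallyQuasiFinite ⊓ @LocallyOfFiniteType) f.hom ↔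
      AlgSp.LocP (@LocallyQuasiFinite ⊓ @LocallyOfFiniteType) f'.hom) ∧
    (AlgSp.LocP @LocallyOfFinitePresentation f.hom ↔ AlgSp.LocP @LocallyOfFinitePresentation f'.hom) ∧
    (AlgSp.LocP @Smooth f.hom ↔ AlgSp.LocP @Smooth f'.hom) ∧
    (AlgSp.LocP (@LocallyOfFiniteType ⊓ @FormallyUnramified) f.hom ↔
      AlgSp.LocP (@LocallyOfFiniteType ⊓ @FormallyUnramified) f'.hom) ∧
    (AlgSp.IsEtaleMor f.hom ↔ AlgSp.IsEtaleMor f'.hom) := by
  have hXfo : IsFinThickMor iX.hom := isFinThickMor_of_isPullback B'.property hcX hB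
  have hBt : IsThickMor iB.hom := by obtain ⟨n, h, -⟩ := hB; exact h
  have hXt : IsThickMor iX.hom := by obtain ⟨m, h, -⟩ := hXfo; exact h
  have hYt : IsThickMor iY.hom := repWith_of_isPullback _ hcY.flip hBt
  have w' : iX.hom ≫ f'.hom = f.hom ≫ iY.hom := congrArg (fun k => k.hom) w
  have hcart : IsPullback iX.hom f.hom f'.hom iY.hom := IsPullback.of_bot hcX w' hcY
  have key := Groth.Agent.S10591.result iX iY f f' hXt hYt w hcart hXfo d
  have gen := fun {P : MorphismProperty Scheme.{u}} (hP : EtLocal P) (hdef : DeformInv P) =>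
    deform_locP_iff X'.property Y'.property B'.property hcX hcY w' hB hflat hP hdef
  refine ⟨key.1, ?_, key.2.1, key.2.2.1, ?_, ?_, key.2.2.2, ?_⟩
  · exact gen etLocal_flat (fun iX iY iS f f' g g' hS hcX hcY w hfl => by
      haveI := hfl; exact Groth.Agent.S1317.result iX iY iS f f' g g' hS hcX hcY w)
  · exact gen etLocal_lfp (fun iX iY iS f f' g g' hS hcX hcY w hfl => by
      haveI := hfl; exact Groth.Agent.S1320.result iX iY iS f f' g g' hS hcX hcY w)
  · exact gen etLocal_smooth (fun iX iY iS f f' g g' hS hcX hcY w hfl => by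
      haveI := hfl; exact Groth.Agent.S1321.result iX iY iS f f' g g' hS hcX hcY w)
  · rw [isEtaleMor_iff_locP_etale Y.property, isEtaleMor_iff_locP_etale Y'.property]
    exact gen etLocal_etale (fun iX iY iS f f' g g' hS hcX hcY w hfl => by
      haveI := hfl; exact Groth.Agent.S1322.result iX iY iS f f' g g' hS hcX hcY w)

end Groth.Agent.S10596
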