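import Groth.Statements.S10595
import Groth.Agent.Lib.Helper24.DeformTower
import Groth.Agent.Lib.Helper14.FpqcCover
import Groth.Agent.Lib.Helper14.AlgSpFibre
import Groth.Agent.S10596

set_option autoImplicit false
universe u
open CategoryTheory CategoryTheory.Limits AlgebraicGeometry
open AlgSp

namespace Groth.Agent.S10595

open CategoryTheory CategoryTheory.Limits AlgebraicGeometry Opposite AlgSp
open Groth.Agent.Lib.Helper14.AS Groth.Agent.Lib.Helper24.ThickSq Groth.Agent.Lib.Helper24.FinThickBC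
open Groth.Agent.Lib.Helper24.DeformTower

set_option backward.isDefEq.respectTransparency.types false in
/-- If `f'` and `f' ≫ g'` are flat then `g'` is flat at the points in the image of `f'`. -/
theorem isFlatAtMor_of_flat_comp {S : Scheme.{u}} {X' Y' B' : Sp S} (hX' : IsAlgSpace X')
    (hY' : IsAlgSpace Y') (f' : X' ⟶ Y') (g' : Y' ⟶ B') (hf' : LocP @Flat f')
    (hflat : LocP @Flat (f' ≫ g')) (x' : Points X') : IsFlatAtMor g' (Points.map f' x') := by
  intro V' T' b' c' k' v' hbe' hce' commk' hv'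
  have sq := IsPullback.of_hasPullback f' b'
  have hP : IsAlgSpace (pullback f' b') :=
    isAlgSpace_of_isPullback (repDiag_of_isAlgSpace hY') hX' (IsAlgSpace.yon_obj V') sq
  obtain ⟨z, hz1, hz2⟩ := points_exists_of_isPullback sq x' (Points.ofScheme V' v')
    (by rw [← Points.ofPt_eq_map_ofScheme, hv'])
  obtain ⟨U', a₀, ha₀e, ha₀s⟩ := hP.atlas
  obtain ⟨u', hu'⟩ := ofPt_surjective_of_repWith ha₀s z
  have hfst : RepWith @Etale (pullback.fst f' b') := repWith_of_isPullback _ sq.flip hbe'
  have hae' : RepWith @Etale (a₀ ≫ pullback.fst f' b') := repWith_comp _ ha₀e hfst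
  obtain ⟨h', hh'⟩ := (yon S).map_surjective (a₀ ≫ pullback.snd f' b')
  have comm' : (a₀ ≫ pullback.fst f' b') ≫ f' = (yon S).map h' ≫ b' := by
    rw [Category.assoc, sq.w, ← Category.assoc, hh']
  have hpt : h'.left u' = v' := by
    have e1 : Points.ofPt ((yon S).map h' ≫ 𝟙 _) u' = Points.ofPt (𝟙 _) (h'.left u') :=
      ofPt_yon_map_comp h' (𝟙 _) u'
    rw [Category.comp_id, hh', ← Points.map_ofPt, hu', hz2] at e1
    exact ((Points.schemeEquiv V').injective e1).symm
  have h1 : Flat h'.left := hf' _ b' h' hae' hbe' comm'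
  have h2 : Flat (h'.left ≫ k'.left) := by
    have := hflat (a₀ ≫ pullback.fst f' b') c' (h' ≫ k') hae' hce' (by
      rw [← Category.assoc, comm', Category.assoc, commk', Functor.map_comp, Category.assoc])
    rwa [Over.comp_left] at this
  have s1 : (h'.left.stalkMap u').hom.Flat := Flat.stalkMap h'.left u'
  have s2 : ((h'.left ≫ k'.left).stalkMap u').hom.Flat := Flat.stalkMap (h'.left ≫ k'.left) u'
  rw [Scheme.Hom.stalkMap_comp] at s2
  have : IsLocalHom (h'.left.stalkMap u').hom := h'.left.toLRSHom.prop u'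
  have s3 := ringHom_flat_of_comp_of_local _ _ s1 s2
  subst hpt
  exact s3


/-- Let iB : B ⟶ B' be a finite order thickening of algebraic spaces over S (a thickening such that for
one n the (n+1)-st power of the ideal vanishes on every affine etale scheme chart), f' : X' ⟶ Y' a
morphism of algebraic spaces over B' (via g' : Y' ⟶ B') with X' flat over B', and f : X ⟶ Y, g : Y ⟶
B its base change to B (both squares to iB cartesian, iX ≫ f' = f ≫ iY). If f is flat, then f' is
flat and g' : Y' ⟶ B' is flat at every point of Y' in the image of f'. -/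
theorem result {S : Scheme.{u}} {X X' Y Y' B B' : AlgSp.Space S} (iX : X ⟶ X') (iY : Y ⟶ Y') (iB : B ⟶ B')
    (f : X ⟶ Y) (f' : X' ⟶ Y') (g : Y ⟶ B) (g' : Y' ⟶ B')
    (hcX : IsPullback iX.hom (f ≫ g).hom (f' ≫ g').hom iB.hom) (hcY : IsPullback iY.hom g.hom g'.hom iB.hom)
    (w : iX ≫ f' = f ≫ iY)
    (hB : AlgSp.IsFinThickMor iB.hom) (hflat : AlgSp.LocP @Flat (f' ≫ g').hom)
    (hf : AlgSp.LocP @Flat f.hom) :
    AlgSp.LocP @Flat f'.hom ∧
    ∀ x' : AlgSp.Points X'.obj, AlgSp.IsFlatAtMor g'.hom (AlgSp.Points.map f'.hom x') := by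
  have hf' : LocP @Flat f'.hom :=
    (Groth.Agent.S10596.result iX iY iB f f' g g' hcX hcY w hB hflat 0).2.1.1 hf
  exact ⟨hf', fun x' => isFlatAtMor_of_flat_comp X'.property Y'.property f'.hom g'.hom hf' hflat x'⟩

end Groth.Agent.S10595
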