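import Groth.Statements.S10597
import Groth.Agent.Lib.Helper24.DeformIso
import Groth.Agent.Lib.Helper14.IntFinRep
import Groth.Agent.Lib.Helper14.AlgSpLocP3
import Groth.Agent.S10596
import Groth.Agent.S10610

set_option autoImplicit false
universe u
open CategoryTheory CategoryTheory.Limits AlgebraicGeometry
open AlgSp

namespace Groth.Agent.S10597

open CategoryTheory CategoryTheory.Limits AlgebraicGeometry Opposite AlgSp
open Groth.Agent.Lib.Helper14.AS Groth.Agent.Lib.Helper24.ThickSq Groth.Agent.Lib.Helper24.FinThickBC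
open Groth.Agent.Lib.Helper24.DeformTower Groth.Agent.Lib.Helper24.DeformIso

theorem finLocFree_le_isFinite : (finLocFree : MorphismProperty Scheme.{u}) ≤ @IsFinite :=
  fun _ _ _ h => h.1

theorem finLocFree_le_flat : (finLocFree : MorphismProperty Scheme.{u}) ≤ @Flat :=
  fun _ _ _ h => h.2.1

theorem finLocFree_le_lfp :
    (finLocFree : MorphismProperty Scheme.{u}) ≤ @LocallyOfFinitePresentation :=
  fun _ _ _ h => h.2.2

theorem finLocFreeOfDeg_le (d : ℕ) :
    (finLocFreeOfDeg d : MorphismProperty Scheme.{u}) ≤ finLocFree :=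
  fun _ _ _ h => h.1

set_option backward.isDefEq.respectTransparency.types false in
/-- finite locally free lifts in a deformation situation -/
theorem finLocFree_lift {S : Scheme.{u}} {X X' Y Y' B B' : AlgSp.Space S} (iX : X ⟶ X')
    (iY : Y ⟶ Y') (iB : B ⟶ B') (f : X ⟶ Y) (f' : X' ⟶ Y') (g : Y ⟶ B) (g' : Y' ⟶ B')
    (hcX : IsPullback iX.hom (f ≫ g).hom (f' ≫ g').hom iB.hom)
    (hcY : IsPullback iY.hom g.hom g'.hom iB.hom) (w : iX ≫ f' = f ≫ iY)
    (hB : AlgSp.IsFinThickMor iB.hom) (hflat : AlgSp.LocP @Flat (f' ≫ g').hom)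
    (h : IsFinLocFreeMor f.hom) : IsFinLocFreeMor f'.hom := by
  have key := Groth.Agent.S10596.result iX iY iB f f' g g' hcX hcY w hB hflat 0
  have h1 : RepWith @IsFinite f.hom := repWith_mono finLocFree_le_isFinite h
  have h2 : LocP @Flat f.hom := locP_of_repWith etale_le_flat (repWith_mono finLocFree_le_flat h)
  have h3 : LocP @LocallyOfFinitePresentation f.hom :=
    locP_of_repWith etale_le_lfp (repWith_mono finLocFree_le_lfp h)
  have k1 : IsFiniteMor f'.hom :=
    (Groth.Agent.S10610.result iX iY iB f f' g g' hcX hcY w hB hflat).1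
      ((integral_finite_iff_repWith f).2.2 h1)
  have k1' : RepWith @IsFinite f'.hom := (integral_finite_iff_repWith f').2.1 k1
  have k2 : RepWith @Flat f'.hom :=
    repWith_of_locP_of_representable etLocal_flat Y'.property k1'.rep (key.2.1.1 h2)
  have k3 : RepWith @LocallyOfFinitePresentation f'.hom :=
    repWith_of_locP_of_representable etLocal_lfp Y'.property k1'.rep (key.2.2.2.2.1.1 h3)
  refine MorphismProperty.relative_of_snd k1'.rep fun T t => ?_
  exact ⟨k1'.property_snd t, k2.property_snd t, k3.property_snd t⟩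


/-- Let iB : B ⟶ B' be a finite order thickening of algebraic spaces over S (a thickening such that for
one n the (n+1)-st power of the ideal vanishes on every affine etale scheme chart), f' : X' ⟶ Y' a
morphism of algebraic spaces over B' (via g' : Y' ⟶ B') with X' flat over B', and f : X ⟶ Y, g : Y ⟶
B its base change to B (both squares to iB cartesian, iX ≫ f' = f ≫ iY). Then f is an isomorphism,
resp. an open immersion, resp. a monomorphism, resp. finite locally free, resp. finite locally free
of degree d, if and only if f' is. -/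
theorem result {S : Scheme.{u}} {X X' Y Y' B B' : AlgSp.Space S} (iX : X ⟶ X') (iY : Y ⟶ Y') (iB : B ⟶ B')
    (f : X ⟶ Y) (f' : X' ⟶ Y') (g : Y ⟶ B) (g' : Y' ⟶ B')
    (hcX : IsPullback iX.hom (f ≫ g).hom (f' ≫ g').hom iB.hom) (hcY : IsPullback iY.hom g.hom g'.hom iB.hom)
    (w : iX ≫ f' = f ≫ iY)
    (hB : AlgSp.IsFinThickMor iB.hom) (hflat : AlgSp.LocP @Flat (f' ≫ g').hom) :
    (IsIso f.hom ↔ IsIso f'.hom) ∧
    (AlgSp.RepWith @IsOpenImmersion f.hom ↔ AlgSp.RepWith @IsOpenImmersion f'.hom) ∧
    (Mono f.hom ↔ Mono f'.hom) ∧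
    (AlgSp.IsFinLocFreeMor f.hom ↔ AlgSp.IsFinLocFreeMor f'.hom) ∧
    (∀ d : ℕ, AlgSp.IsFinLocFreeOfDegMor d f.hom ↔ AlgSp.IsFinLocFreeOfDegMor d f'.hom) := by
  have w' : iX.hom ≫ f'.hom = f.hom ≫ iY.hom := congrArg (fun k => k.hom) w
  have hBt : IsThickMor iB.hom := by obtain ⟨n, h, -⟩ := hB; exact h
  have hXt : IsThickMor iX.hom := repWith_of_isPullback _ hcX.flip hBt
  have hYt : IsThickMor iY.hom := repWith_of_isPullback _ hcY.flip hBt
  have hcart : IsPullback iX.hom f.hom f'.hom iY.hom := IsPullback.of_bot hcX w' hcY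
  refine ⟨⟨fun h => ?_, fun h => ?_⟩, ⟨fun h => ?_, fun h => ?_⟩, ⟨fun h => ?_, fun h => ?_⟩,
    ⟨fun h => ?_, fun h => ?_⟩, fun d => ⟨fun h => ?_, fun h => ?_⟩⟩
  · exact iso_lift X'.property Y.property Y'.property B'.property hcX hcY w' hB hflat
  · exact MorphismProperty.of_isPullback (P := MorphismProperty.isomorphisms (Sp S)) hcart h
  · exact openImm_lift X'.property Y.property Y'.property B'.property hcX hcY w' hB hflat h
  · exact repWith_of_isPullback _ hcart h
  · exact mono_lift X'.property Y'.property B.property B'.property hcX hcY w' hB hflat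
  · exact MorphismProperty.of_isPullback (P := MorphismProperty.monomorphisms (Sp S)) hcart h
  · exact finLocFree_lift iX iY iB f f' g g' hcX hcY w hB hflat h
  · exact repWith_of_isPullback _ hcart h
  · -- degree d lifts
    have hflf : IsFinLocFreeMor f'.hom := finLocFree_lift iX iY iB f f' g g' hcX hcY w hB hflat
      (repWith_mono (finLocFreeOfDeg_le d) h)
    refine MorphismProperty.relative_of_snd hflf.rep fun T t => ?_
    have hP : finLocFree (hflf.rep.snd t).left := hflf.property_snd t
    refine ⟨hP, fun y' => ?_⟩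
    have sqW := hflf.rep.isPullback t
    obtain ⟨U, V, a, b, k, iU, iV, comm, sq, hiV, hiU, sqU, sqV⟩ :=
      exists_cartesian_chart_of hXt hYt hcart (hflf.rep.fst t) t (hflf.rep.snd t) sqW.w
    -- `U = X ×_Y V`
    have big := sqU.flip.paste_horiz sqW.flip
    have hkk : (yon S).map k ≫ (yon S).map iV = (yon S).map iU ≫ (yon S).map (hflf.rep.snd t) := by
      rw [← Functor.map_comp, ← Functor.map_comp]
      congr 1
      apply Over.OverMorphism.ext
      exact sq.w.symm
    rw [← hkk, w'] at big
    have sqUV : IsPullback ((yon S).map k) a b f.hom := IsPullback.of_right big comm.symm sqV.flip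
    have hk : finLocFreeOfDeg d k.left := h.property b a k sqUV.flip
    haveI : Flat (hflf.rep.snd t).left := hP.2.1
    haveI : IsFinite (hflf.rep.snd t).left := hP.1
    haveI : Surjective iV.left := hiV.2
    obtain ⟨y, rfl⟩ := iV.left.surjective y'
    have e := Scheme.Hom.finrank_of_isPullback iU.left k.left (hflf.rep.snd t).left iV.left sq y
    exact e.symm.trans (hk.2 y)
  · exact repWith_of_isPullback _ hcart h

end Groth.Agent.S10597
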