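import Groth.Statements.S10599
import Mathlib
import Groth.Agent.Lib.Helper18.FlS
import Groth.Agent.S10596
import Groth.Agent.S10593
import Groth.Agent.S10591
import Groth.Agent.S10611

set_option autoImplicit false
universe u
open CategoryTheory CategoryTheory.Limits AlgebraicGeometry
open AlgSp

namespace Groth.Agent.S10599

open CategoryTheory CategoryTheory.Limits AlgebraicGeometry Opposite AlgSp
open Groth.Agent.Lib.Helper14.AS Groth.Agent.Lib.Helper24.ThickSq Groth.Agent.Lib.Helper24.FinThickBC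
open Groth.Agent.Lib.Helper24.DeformTower

/-- Let iB : B ⟶ B' be a thickening of algebraic spaces over S (representable, every base change to a
scheme a surjective closed immersion), f' : X' ⟶ Y' a morphism of algebraic spaces over B' (via g' :
Y' ⟶ B') with Y' locally of finite type over B' and X' flat and locally of finite presentation over
B', and f : X ⟶ Y, g : Y ⟶ B its base change to B (both squares to iB cartesian, iX ≫ f' = f ≫ iY).
Then f is locally of finite type of relative dimension d, resp. flat, resp. locally quasi-finite,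
smooth, unramified, etale, if and only if f' is (etale-local sense; locally quasi-finite and
unramified include locally of finite type). -/
theorem result {S : Scheme.{u}} {X X' Y Y' B B' : AlgSp.Space S} (iX : X ⟶ X') (iY : Y ⟶ Y') (iB : B ⟶ B')
    (f : X ⟶ Y) (f' : X' ⟶ Y') (g : Y ⟶ B) (g' : Y' ⟶ B')
    (hcX : IsPullback iX.hom (f ≫ g).hom (f' ≫ g').hom iB.hom) (hcY : IsPullback iY.hom g.hom g'.hom iB.hom)
    (w : iX ≫ f' = f ≫ iY)
    (hB : AlgSp.IsThickMor iB.hom)
    (hg' : AlgSp.LocP @LocallyOfFiniteType g'.hom)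
    (hflat : AlgSp.LocP @Flat (f' ≫ g').hom) (hfp : AlgSp.LocP @LocallyOfFinitePresentation (f' ≫ g').hom) (d : ℕ) :
    ((AlgSp.LocP @LocallyOfFiniteType f.hom ∧
        ∀ x, AlgSp.HasAtMor (fun _ _ h u => FlatMor.fibreDimAt h u = (d : WithBot ℕ∞)) f.hom x) ↔
      (AlgSp.LocP @LocallyOfFiniteType f'.hom ∧
        ∀ x', AlgSp.HasAtMor (fun _ _ h u => FlatMor.fibreDimAt h u = (d : WithBot ℕ∞)) f'.hom x')) ∧
    (AlgSp.LocP @Flat f.hom ↔ AlgSp.LocP @Flat f'.hom) ∧
    (AlgSp.LocP (@LocallyQuasiFinite ⊓ @LocallyOfFiniteType) f.hom ↔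
      AlgSp.LocP (@LocallyQuasiFinite ⊓ @LocallyOfFiniteType) f'.hom) ∧
    (AlgSp.LocP @Smooth f.hom ↔ AlgSp.LocP @Smooth f'.hom) ∧
    (AlgSp.LocP (@LocallyOfFiniteType ⊓ @FormallyUnramified) f.hom ↔
      AlgSp.LocP (@LocallyOfFiniteType ⊓ @FormallyUnramified) f'.hom) ∧
    (AlgSp.IsEtaleMor f.hom ↔ AlgSp.IsEtaleMor f'.hom) := by
  have hXt : IsThickMor iX.hom := repWith_of_isPullback _ hcX.flip hB
  have hYt : IsThickMor iY.hom := repWith_of_isPullback _ hcY.flip hB
  have w' : iX.hom ≫ f'.hom = f.hom ≫ iY.hom := congrArg (fun k => k.hom) w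
  have hcart : IsPullback iX.hom f.hom f'.hom iY.hom := IsPullback.of_bot hcX w' hcY
  have hft' : LocP @LocallyOfFiniteType f'.hom :=
    locP_lft_of_comp B'.property f'.hom g'.hom
      (fun U V a b h ha hb comm => Groth.Agent.S10611.lfp_le_lft _ _ _ (hfp a b h ha hb comm))
  have hft : LocP @LocallyOfFiniteType f.hom :=
    locP_baseChange etLocal_lft X'.property Y'.property Y.property f'.hom iY.hom iX.hom f.hom
      hcart hft'
  have k93 := Groth.Agent.S10593.result iX iY f f' hXt hYt w hcart hft hft'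
  have kdim := Groth.Agent.S10591.fibreDim_iff_of_cartesian X'.property Y'.property hXt hYt hcart
    hft' d
  have gen := fun {P : MorphismProperty Scheme.{u}} (hP : EtLocal P)
      (hdef : Groth.Agent.Lib.Helper18.DeformFp.DeformInvFp P) =>
    Groth.Agent.Lib.Helper18.DeformFp.deform_locP_iff_fp X'.property Y'.property B'.property
      hcX hcY w' hB hflat hfp hg' hP hdef
  refine ⟨⟨fun h => ⟨hft', kdim.1 h.2⟩, fun h => ⟨hft, kdim.2 h.2⟩⟩,
    gen etLocal_flat Groth.Agent.Lib.Helper18.DeformFp.deformInvFp_flat, k93.1,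
    gen etLocal_smooth Groth.Agent.Lib.Helper18.DeformFp.deformInvFp_smooth, k93.2, ?_⟩
  rw [isEtaleMor_iff_locP_etale Y.property, isEtaleMor_iff_locP_etale Y'.property]
  exact gen etLocal_etale Groth.Agent.Lib.Helper18.DeformFp.deformInvFp_etale

end Groth.Agent.S10599
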