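import Groth.Statements.S10601
import Groth.Agent.Lib.Helper14.UnivInjEt2

set_option autoImplicit false
universe u
open CategoryTheory CategoryTheory.Limits AlgebraicGeometry
open AlgSp

namespace Groth.Agent.S10601

/-- Take a morphism f : X ⟶ Y of algebraic spaces over S that is locally of finite type and such that
for every etale morphism V ⟶ Y of algebraic spaces the base change X ×_Y V ⟶ V is injective on
points. Then f is universally injective. -/
theorem result {S : Scheme.{u}} {X Y : AlgSp.Space S} (f : X ⟶ Y)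
    (hft : AlgSp.LocP @LocallyOfFiniteType f.hom)
    (hinj : ∀ (V : AlgSp.Space S) (g : V ⟶ Y), AlgSp.IsEtaleMor g.hom →
      ∀ (P : AlgSp.Sp S) (fst : P ⟶ X.obj) (snd : P ⟶ V.obj), IsPullback fst snd f.hom g.hom →
        Function.Injective (AlgSp.Points.map snd)) :
    AlgSp.IsUnivInjectiveMor f.hom := by
  apply Groth.Agent.Lib.Helper14.AS.isUnivInjectiveMor_of_fieldInj
  intro K _ str a a' haa
  change a ≫ f.hom = a' ≫ f.hom at haa
  let Ω := AlgebraicClosure K
  let ιm : Spec (CommRingCat.of Ω) ⟶ Spec (CommRingCat.of K) :=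
    Spec.map (CommRingCat.ofHom (algebraMap K Ω))
  let j : Over.mk (ιm ≫ str) ⟶ Over.mk str := Over.homMk ιm rfl
  apply Groth.Agent.Lib.Helper14.AS.eq_of_comp_field_ext
    X.2.diag j a a'
  obtain ⟨V, β, hβe, hβs⟩ := Y.2.atlas
  obtain ⟨b', hb'⟩ := Groth.Agent.Lib.Helper14.AS.exists_lift_geom_of_repWith
    (Groth.Agent.Lib.Helper14.AS.repWith_mono Groth.Agent.Lib.Helper14.AS.etale_le_lft hβe) hβs
    (ιm ≫ str) ((yon S).map j ≫ a ≫ f.hom)
  have sqV := IsPullback.of_hasPullback f.hom β
  have hXV : IsAlgSpace (pullback f.hom β) :=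
    Groth.Agent.Lib.Helper14.AS.isAlgSpace_of_isPullback
      (Groth.Agent.Lib.Helper14.AS.repDiag_of_isAlgSpace Y.2) X.2 (IsAlgSpace.yon_obj V) sqV
  have hlft : LocP @LocallyOfFiniteType (pullback.snd f.hom β) :=
    Groth.Agent.Lib.Helper14.AS.locP_baseChange Groth.Agent.Lib.Helper14.AS.etLocal_lft X.2 Y.2
      (IsAlgSpace.yon_obj V) f.hom β _ _ sqV hft
  have hinjV : ∀ (V' : Over S) (g : V' ⟶ V), Etale g.left → ∀ (P : Sp S)
      (fst : P ⟶ pullback f.hom β) (snd : P ⟶ (yon S).obj V'),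
      IsPullback fst snd (pullback.snd f.hom β) ((yon S).map g) →
        Function.Injective (Points.map snd) := by
    intro V' g hg P fst snd sq
    have hget : IsEtaleMor ((yon S).map g ≫ β) :=
      Groth.Agent.Lib.Helper14.AS.isEtaleMor_comp ((isEtaleMor_yon_map_iff g).2 hg)
        (Groth.Agent.Lib.Helper14.AS.isEtaleMor_of_repWith_etale hβe)
    exact hinj ⟨(yon S).obj V', IsAlgSpace.yon_obj V'⟩ (ObjectProperty.homMk ((yon S).map g ≫ β))
      hget P (fst ≫ pullback.fst f.hom β) snd (sq.paste_horiz sqV)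
  have e1 : ((yon S).map j ≫ a) ≫ f.hom = b' ≫ β := by rw [Category.assoc, hb']
  have e2 : ((yon S).map j ≫ a') ≫ f.hom = b' ≫ β := by rw [Category.assoc, ← haa, hb']
  have key : pullback.lift ((yon S).map j ≫ a) b' e1 = pullback.lift ((yon S).map j ≫ a') b' e2 :=
    Groth.Agent.Lib.Helper14.AS.eq_of_geom_points_scheme_base hXV (pullback.snd f.hom β) hlft hinjV
      (ιm ≫ str) _ _ (by rw [pullback.lift_snd, pullback.lift_snd])
  have := congrArg (· ≫ pullback.fst f.hom β) key
  simpa only [pullback.lift_fst] using this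

end Groth.Agent.S10601
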