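import Groth.Statements.S10605
import Groth.Agent.Lib.Helper24.FpqcRep

set_option autoImplicit false
universe u
open CategoryTheory CategoryTheory.Limits AlgebraicGeometry
open AlgSp

namespace Groth.Agent.S10605

open CategoryTheory CategoryTheory.Limits AlgebraicGeometry
open AlgSp
open Groth.Agent.Lib.Helper14.FL in

instance : IsZariskiLocalAtTarget (AlgSp.thick.{u}) := by
  unfold AlgSp.thick
  infer_instance

open Groth.Agent.Lib.Helper14.FL in
instance : (AlgSp.thick.{u}).DescendsAlong
    (@Surjective ⊓ @Flat ⊓ @QuasiCompact : MorphismProperty Scheme.{u}) := by
  unfold AlgSp.thick
  infer_instance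


/-- The property of a morphism of algebraic spaces over S of being a thickening (representable, every
base change to a scheme a surjective closed immersion) is local on the base for the fpqc topology.
(The published statement also claims the same for first order thickenings; this row states only the
thickening clause.) -/
theorem result {S : Scheme.{u}} :
    AlgSp.IsLocalOnBase (S := S) AlgSp.IsFpqcCover
      AlgSp.IsThickMor := by
  refine Groth.Agent.Lib.Helper24.FpqcRep.isLocalOnBase_fpqc_repWith (P := AlgSp.thick.{u})
    ?_ ?_
  · intro X Y f hf
    have : IsClosedImmersion f := hf.1
    exact ⟨inferInstance, inferInstance⟩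
  · intro X Y f hf
    have : IsClosedImmersion f := hf.1
    show IsSeparated f
    infer_instance

end Groth.Agent.S10605
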