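import Groth.Statements.S10613
import Groth.Agent.Lib.Helper24.UnrMono
import Groth.Agent.S10260

set_option autoImplicit false
universe u
open CategoryTheory CategoryTheory.Limits AlgebraicGeometry
open AlgSp

namespace Groth.Agent.S10613

open CategoryTheory CategoryTheory.Limits AlgebraicGeometry Opposite AlgSp
open Groth.Agent.Lib.Helper14.AS Groth.Agent.Lib.Helper24.FUnr Groth.Agent.Lib.Helper24.UnrMono


/-- For a morphism f : X ⟶ Y of algebraic spaces over S, these four conditions on f are equivalent: (a)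
unramified plus monomorphism; (b) unramified plus universally injective; (c) a monomorphism that is
locally of finite type; (d) universally injective, locally of finite type and formally unramified
(lifting sense). In that case f is representable by schemes, separated and locally quasi-finite.
(Unramified is the etale-local condition locally of finite type and formally unramified on charts;
monomorphisms are taken in fppf sheaves.) -/
theorem result {S : Scheme.{u}} {X Y : AlgSp.Space S} (f : X ⟶ Y) :
    ((AlgSp.LocP (@LocallyOfFiniteType ⊓ @FormallyUnramified) f.hom ∧ Mono f.hom) ↔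
      (AlgSp.LocP (@LocallyOfFiniteType ⊓ @FormallyUnramified) f.hom ∧ AlgSp.IsUnivInjectiveMor f.hom)) ∧
    ((AlgSp.LocP (@LocallyOfFiniteType ⊓ @FormallyUnramified) f.hom ∧ Mono f.hom) ↔
      (AlgSp.LocP @LocallyOfFiniteType f.hom ∧ Mono f.hom)) ∧
    ((AlgSp.LocP (@LocallyOfFiniteType ⊓ @FormallyUnramified) f.hom ∧ Mono f.hom) ↔
      (AlgSp.IsUnivInjectiveMor f.hom ∧ AlgSp.LocP @LocallyOfFiniteType f.hom ∧ AlgSp.IsFormallyUnramifiedMor f.hom)) ∧
    (AlgSp.LocP @LocallyOfFiniteType f.hom ∧ Mono f.hom →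
      AlgSp.Representable f.hom ∧ AlgSp.IsSeparatedMor f.hom ∧
        AlgSp.LocP (@LocallyQuasiFinite ⊓ @LocallyOfFiniteType) f.hom) := by
  have hX := X.property
  have hY := Y.property
  have K1 : LocP @LocallyOfFiniteType f.hom → Mono f.hom →
      LocP (@LocallyOfFiniteType ⊓ @FormallyUnramified) f.hom :=
    fun hL hM => by haveI := hM; exact locP_unramified_of_mono hX f.hom hL
  have K2 : Mono f.hom → IsUnivInjectiveMor f.hom :=
    fun hM => by haveI := hM; exact isUnivInjectiveMor_of_mono f.hom
  have K3 : LocP (@LocallyOfFiniteType ⊓ @FormallyUnramified) f.hom → IsUnivInjectiveMor f.hom →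
      Mono f.hom := fun hU hI => mono_of_unramified_of_isUnivInjectiveMor hX hY f.hom hU hI
  have KL : LocP (@LocallyOfFiniteType ⊓ @FormallyUnramified) f.hom →
      LocP @LocallyOfFiniteType f.hom := fun hU U V a b h ha hb comm => (hU a b h ha hb comm).1
  refine ⟨⟨fun h => ⟨h.1, K2 h.2⟩, fun h => ⟨h.1, K3 h.1 h.2⟩⟩,
    ⟨fun h => ⟨KL h.1, h.2⟩, fun h => ⟨K1 h.1 h.2, h.2⟩⟩, ⟨fun h => ?_, fun h => ?_⟩, fun h => ?_⟩
  · refine ⟨K2 h.2, KL h.1, ?_⟩
    obtain ⟨V, b, hbe, hbs⟩ := hY.atlas
    obtain ⟨U, a, h', hae, has, comm⟩ := exists_chart_diagram hX f.hom b hbe hbs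
    exact isFormallyUnramifiedMor_of_chart f.hom a b h' hae has hbe comm
      (h.1 a b h' hae hbe comm).2
  · obtain ⟨hI, hL, hF⟩ := h
    have hU : LocP (@LocallyOfFiniteType ⊓ @FormallyUnramified) f.hom :=
      fun U V a b h' ha hb comm =>
        ⟨hL a b h' ha hb comm, formallyUnramified_chart f.hom hF a b h' ha comm⟩
    exact ⟨hU, K3 hU hI⟩
  · obtain ⟨hL, hM⟩ := h
    haveI := hM
    have hU := K1 hL hM
    have hq := locP_lqf_of_unramified f.hom hU
    have hs := Groth.Agent.Lib.Helper24.UnrMono.isSeparatedMor_of_mono f.hom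
    exact ⟨Groth.Agent.S10260.result f hq hs, hs, hq⟩

end Groth.Agent.S10613
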