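import Groth.Statements.S10614
import Groth.Agent.Lib.Helper24.UnrMono
import Groth.Agent.Lib.Helper14.AlgSpClosed
import Groth.Agent.Lib.Helper14.AlgSpLocP3
import Groth.Agent.Lib.Helper14.AlgSpProper
import Groth.Agent.Lib.Helper14.AlgSpBasic2
import Groth.Agent.S10613

set_option autoImplicit false
universe u
open CategoryTheory CategoryTheory.Limits AlgebraicGeometry
open AlgSp

namespace Groth.Agent.S10614

open CategoryTheory CategoryTheory.Limits AlgebraicGeometry Opposite AlgSp
open Groth.Agent.Lib.Helper14.AS Groth.Agent.Lib.Helper24.FUnr Groth.Agent.Lib.Helper24.UnrMono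

theorem closedImmersion_iff_core {S : Scheme.{u}} {X Y : AlgSp.Space S} (f : X ⟶ Y) :
    AlgSp.RepWith @IsClosedImmersion f.hom ↔
      (AlgSp.IsUnivClosedMor f.hom ∧ AlgSp.LocP @LocallyOfFiniteType f.hom ∧ Mono f.hom) := by
  constructor
  · intro h
    refine ⟨(repWith_universallyClosed_iff_isUnivClosedMor h.rep).1
      (repWith_mono isClosedImmersion_le_universallyClosed h),
      locP_of_repWith etale_le_lft (repWith_mono isClosedImmersion_le_lft h),
      mono_of_repWith_mono (repWith_mono (fun _ _ g hg => ?_) h)⟩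
    have : IsClosedImmersion g := hg
    exact MorphismProperty.monomorphisms.infer_property g
  · rintro ⟨hUC, hL, hM⟩
    haveI := hM
    have hrep : Representable f.hom := ((Groth.Agent.S10613.result f).2.2.2 ⟨hL, hM⟩).1
    have h1 : RepWith @UniversallyClosed f.hom :=
      (repWith_universallyClosed_iff_isUnivClosedMor hrep).2 hUC
    have h2 : RepWith @LocallyOfFiniteType f.hom :=
      repWith_of_locP_of_representable etLocal_lft Y.property hrep hL
    have h3 : RepWith (MorphismProperty.monomorphisms Scheme.{u}) f.hom :=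
      repWith_monomorphisms_of_mono hrep
    refine repWith_mono (fun _ _ g hg => ?_) (repWith_inf (repWith_inf h1 h2) h3)
    obtain ⟨⟨g1, g2⟩, g3⟩ := hg
    haveI : UniversallyClosed g := g1
    haveI : LocallyOfFiniteType g := g2
    haveI : Mono g := g3
    haveI : IsProper g := { }
    exact (IsClosedImmersion.iff_isProper_and_mono g).2 ⟨inferInstance, inferInstance⟩


/-- For a morphism f : X ⟶ Y of algebraic spaces over S, being a closed immersion (representable by
closed immersions) is equivalent to each of: (a) universally closed plus unramified plus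
monomorphism; (b) universally closed plus unramified plus universally injective; (c) a universally
closed monomorphism that is locally of finite type; (d) universally closed, universally injective,
locally of finite type and formally unramified (lifting sense). (Unramified is the etale-local
condition locally of finite type and formally unramified on charts; monomorphisms are taken in fppf
sheaves.) -/
theorem result {S : Scheme.{u}} {X Y : AlgSp.Space S} (f : X ⟶ Y) :
    (AlgSp.RepWith @IsClosedImmersion f.hom ↔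
      (AlgSp.IsUnivClosedMor f.hom ∧ AlgSp.LocP (@LocallyOfFiniteType ⊓ @FormallyUnramified) f.hom ∧ Mono f.hom)) ∧
    (AlgSp.RepWith @IsClosedImmersion f.hom ↔
      (AlgSp.IsUnivClosedMor f.hom ∧ AlgSp.LocP (@LocallyOfFiniteType ⊓ @FormallyUnramified) f.hom ∧ AlgSp.IsUnivInjectiveMor f.hom)) ∧
    (AlgSp.RepWith @IsClosedImmersion f.hom ↔
      (AlgSp.IsUnivClosedMor f.hom ∧ AlgSp.LocP @LocallyOfFiniteType f.hom ∧ Mono f.hom)) ∧
    (AlgSp.RepWith @IsClosedImmersion f.hom ↔
      (AlgSp.IsUnivClosedMor f.hom ∧ AlgSp.IsUnivInjectiveMor f.hom ∧ AlgSp.LocP @LocallyOfFiniteType f.hom ∧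
        AlgSp.IsFormallyUnramifiedMor f.hom)) := by
  have core := closedImmersion_iff_core f
  obtain ⟨e1, e2, e3, -⟩ := Groth.Agent.S10613.result f
  refine ⟨?_, ?_, core, ?_⟩
  · rw [core]
    constructor
    · rintro ⟨h1, h2, h3⟩
      exact ⟨h1, e2.2 ⟨h2, h3⟩⟩
    · rintro ⟨h1, h2, h3⟩
      exact ⟨h1, (e2.1 ⟨h2, h3⟩)⟩
  · rw [core]
    constructor
    · rintro ⟨h1, h2, h3⟩
      exact ⟨h1, e1.1 (e2.2 ⟨h2, h3⟩)⟩
    · rintro ⟨h1, h2, h3⟩
      exact ⟨h1, e2.1 (e1.2 ⟨h2, h3⟩)⟩
  · rw [core]
    constructor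
    · rintro ⟨h1, h2, h3⟩
      exact ⟨h1, e3.1 (e2.2 ⟨h2, h3⟩)⟩
    · rintro ⟨h1, h2, h3, h4⟩
      exact ⟨h1, e2.1 (e3.2 ⟨h2, h3, h4⟩)⟩

end Groth.Agent.S10614
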