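import Groth.Statements.S10616
import Mathlib
import Groth.Agent.S1488
import Groth.Agent.Lib.Helper10.AlgSpInf
import Groth.Agent.Lib.Helper11.FormalEtale
-- import your own Groth.Agent.* helpers here

set_option autoImplicit false
universe u
open CategoryTheory CategoryTheory.Limits AlgebraicGeometry
open AlgSp

namespace Groth.Agent.S10616

section helpers

open Groth.Agent.Lib.Helper11.FormalEtale

variable {S : Scheme.{u}} {F G : AlgSp.Sp S} (a : F ⟶ G)

theorem hasLift_of (hrep : AlgSp.Representable a) (sq : AlgSp.InfSq a)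
    (hsm : MoreMor.IsFormallySmoothHom (hrep.snd sq.bot).left) : sq.HasLift := by
  set V := hrep.pullback sq.bot with hV
  set snd := hrep.snd sq.bot with hsnd
  set fst := hrep.fst sq.bot with hfst
  have hpb : IsPullback fst ((yon S).map snd) a sq.bot := hrep.isPullback sq.bot
  -- the map T → V
  obtain ⟨t, ht1, ht2⟩ : ∃ t : (yon S).obj sq.ptT ⟶ (yon S).obj V,
      t ≫ fst = sq.top ∧ t ≫ (yon S).map snd = (yon S).map sq.j :=
    ⟨hpb.lift sq.top ((yon S).map sq.j) sq.comm, hpb.lift_fst _ _ _, hpb.lift_snd _ _ _⟩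
  obtain ⟨t₀, rfl⟩ := (yon S).map_surjective t
  have ht₀ : t₀ ≫ snd = sq.j := (yon S).map_injective (by rw [CategoryTheory.Functor.map_comp]; exact ht2)
  have w : Spec.map (CommRingCat.ofHom (Ideal.Quotient.mk sq.I)) ≫ 𝟙 (Spec (CommRingCat.of sq.A)) =
      t₀.left ≫ snd.left := by
    rw [Category.comp_id]
    have := congrArg (fun φ : sq.ptT ⟶ sq.ptT' => φ.left) ht₀
    exact this.symm
  obtain ⟨l₀, hl1, hl2⟩ := hsm sq.A sq.I sq.sq_zero t₀.left (𝟙 _) w
  have hl₀ : l₀ ≫ V.hom = sq.ptT'.hom := by
    have h1 : snd.left ≫ sq.ptT'.hom = V.hom := Over.w snd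
    rw [← h1, ← Category.assoc, hl2, Category.id_comp]
  let l₁ : sq.ptT' ⟶ V := Over.homMk l₀ hl₀
  have hjl : sq.j ≫ l₁ = t₀ := by
    apply Over.OverMorphism.ext
    exact hl1
  have hls : l₁ ≫ snd = 𝟙 _ := by
    apply Over.OverMorphism.ext
    exact hl2
  refine ⟨(yon S).map l₁ ≫ fst, ?_, ?_⟩
  · rw [← Category.assoc, ← CategoryTheory.Functor.map_comp, hjl, ht1]
  · rw [Category.assoc, hpb.w, ← Category.assoc, ← CategoryTheory.Functor.map_comp, hls, CategoryTheory.Functor.map_id,
      Category.id_comp]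

theorem hasUniq_of (hrep : AlgSp.Representable a) (sq : AlgSp.InfSq a)
    (hunr : FormallyUnramified (hrep.snd sq.bot).left) : sq.HasUniq := by
  set V := hrep.pullback sq.bot with hV
  set snd := hrep.snd sq.bot with hsnd
  set fst := hrep.fst sq.bot with hfst
  have hpb : IsPullback fst ((yon S).map snd) a sq.bot := hrep.isPullback sq.bot
  intro l l' h1 h2 h1' h2'
  -- factor both through V
  have key : ∀ l : (yon S).obj sq.ptT' ⟶ F, (yon S).map sq.j ≫ l = sq.top → l ≫ a = sq.bot →
      ∃ m₀ : sq.ptT' ⟶ V, (yon S).map m₀ ≫ fst = l ∧ m₀ ≫ snd = 𝟙 _ := by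
    intro l _ h2
    have hw : l ≫ a = 𝟙 _ ≫ sq.bot := by rw [Category.id_comp, h2]
    obtain ⟨m₀, hm₀⟩ := (yon S).map_surjective (hpb.lift l (𝟙 _) hw)
    refine ⟨m₀, ?_, ?_⟩
    · rw [hm₀, hpb.lift_fst]
    · apply (yon S).map_injective
      rw [CategoryTheory.Functor.map_comp, hm₀, hpb.lift_snd, CategoryTheory.Functor.map_id]
  obtain ⟨m₀, hm1, hm2⟩ := key l h1 h2
  obtain ⟨m₀', hm1', hm2'⟩ := key l' h1' h2'
  have hj : sq.j ≫ m₀ = sq.j ≫ m₀' := by
    apply (yon S).map_injective
    apply hpb.hom_ext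
    · rw [CategoryTheory.Functor.map_comp, CategoryTheory.Functor.map_comp, Category.assoc, Category.assoc, hm1, hm1', h1, h1']
    · rw [← CategoryTheory.Functor.map_comp, ← CategoryTheory.Functor.map_comp, Category.assoc, Category.assoc, hm2, hm2']
  have heq : m₀.left = m₀'.left := by
    haveI := hunr
    refine FormallyUnramified.hom_ext (thick sq.I) (isNilpotent_ker_thick sq.I sq.sq_zero)
      snd.left ?_ ?_
    · exact congrArg (fun φ : sq.ptT ⟶ V => φ.left) hj
    · have e1 := congrArg (fun φ : sq.ptT' ⟶ sq.ptT' => φ.left) hm2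
      have e2 := congrArg (fun φ : sq.ptT' ⟶ sq.ptT' => φ.left) hm2'
      exact e1.trans e2.symm
  have : m₀ = m₀' := Over.OverMorphism.ext heq
  rw [← hm1, ← hm1', this]

end helpers

/-- Let a : F ⟶ G be a morphism of fppf sheaves on (Sch/S). If a is representable and smooth, then a is
formally smooth; if a is representable and etale, then a is formally etale; if a is representable
and unramified, then a is formally unramified (lifting conditions against square-zero thickenings of
affine schemes). (The published statement is for transformations of arbitrary presheaves of sets on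
(Sch/S)_fppf; this row takes fppf sheaves, the case of algebraic spaces.) -/
theorem result {S : Scheme.{u}} {F G : AlgSp.Sp S} (a : F ⟶ G) :
    (AlgSp.RepWith @Smooth a → AlgSp.IsFormallySmoothMor a) ∧
    (AlgSp.RepWith @Etale a → AlgSp.IsFormallyEtaleMor a) ∧
    (AlgSp.RepWith (@LocallyOfFiniteType ⊓ @FormallyUnramified) a → AlgSp.IsFormallyUnramifiedMor a) := by
  refine ⟨fun h sq => ?_, fun h => ?_, fun h sq => ?_⟩
  · have h1 : Smooth (h.rep.snd sq.bot).left := h.property_snd sq.bot
    exact hasLift_of a h.rep sq ((Groth.Agent.S1488.result _).mp h1).2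
  · rw [Groth.Agent.Lib.Helper10.AlgSpInf.isFormallyEtaleMor_iff]
    refine ⟨fun sq => ?_, fun sq => ?_⟩
    · have h1 : Etale (h.rep.snd sq.bot).left := h.property_snd sq.bot
      haveI : Smooth (h.rep.snd sq.bot).left := inferInstance
      exact hasLift_of a h.rep sq ((Groth.Agent.S1488.result _).mp inferInstance).2
    · have h1 : Etale (h.rep.snd sq.bot).left := h.property_snd sq.bot
      exact hasUniq_of a h.rep sq inferInstance
  · have h1 : (@LocallyOfFiniteType ⊓ @FormallyUnramified) (h.rep.snd sq.bot).left :=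
      h.property_snd sq.bot
    exact hasUniq_of a h.rep sq h1.2

end Groth.Agent.S10616
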