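import Groth.Statements.S10627
import Groth.Agent.Lib.Helper24.FUnr6

set_option autoImplicit false
universe u
open CategoryTheory CategoryTheory.Limits AlgebraicGeometry
open AlgSp

namespace Groth.Agent.S10627

open CategoryTheory CategoryTheory.Limits AlgebraicGeometry Opposite AlgSp
open Groth.Agent.Lib.Helper14.AS Groth.Agent.Lib.Helper24.FUnr


/-- A morphism f : X ⟶ Y of algebraic spaces over S is etale if and only if it is locally of finite
presentation and formally etale (lifting sense). -/
theorem result {S : Scheme.{u}} {X Y : AlgSp.Space S} (f : X ⟶ Y) :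
    AlgSp.IsEtaleMor f.hom ↔ AlgSp.LocP @LocallyOfFinitePresentation f.hom ∧ AlgSp.IsFormallyEtaleMor f.hom := by
  rw [isEtaleMor_iff_locP_etale Y.property, isFormallyEtaleMor_iff_locP X.property Y.property f.hom]
  constructor
  · intro hloc
    refine ⟨fun U V a b h ha hb comm => ?_, fun U V a b h ha hb comm => ?_⟩
    · exact ((Groth.Agent.S1489.result h.left).1 (hloc a b h ha hb comm)).1
    · exact ((Groth.Agent.S1489.result h.left).1 (hloc a b h ha hb comm)).2
  · rintro ⟨h1, h2⟩ U V a b h ha hb comm
    exact (Groth.Agent.S1489.result h.left).2 ⟨h1 a b h ha hb comm, h2 a b h ha hb comm⟩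

end Groth.Agent.S10627
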