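import Groth.Statements.S10628
import Groth.Agent.Lib.Helper24.FUnr6
import Groth.Agent.S10627

set_option autoImplicit false
universe u
open CategoryTheory CategoryTheory.Limits AlgebraicGeometry
open AlgSp

namespace Groth.Agent.S10628

open CategoryTheory CategoryTheory.Limits AlgebraicGeometry Opposite AlgSp
open Groth.Agent.Lib.Helper14.AS Groth.Agent.Lib.Helper24.FUnr Groth.Agent.Lib.Helper10.AlgSpInf


/-- Take a formally smooth morphism f : X ⟶ Y of algebraic spaces over S, and let p : U ⟶ X and q : V ⟶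
Y be etale morphisms of algebraic spaces with ψ : U ⟶ V such that ψ ≫ q = p ≫ f. Then ψ is formally
smooth. -/
theorem result {S : Scheme.{u}} {X Y U V : AlgSp.Space S} (f : X ⟶ Y)
    (hf : AlgSp.IsFormallySmoothMor f.hom) (p : U ⟶ X) (q : V ⟶ Y) (hp : AlgSp.IsEtaleMor p.hom) (hq : AlgSp.IsEtaleMor q.hom)
    (ψ : U ⟶ V) (w : ψ ≫ q = p ≫ f) : AlgSp.IsFormallySmoothMor ψ.hom := by
  have hpe : IsFormallyEtaleMor p.hom := ((Groth.Agent.S10627.result p).1 hp).2
  have hqe : IsFormallyEtaleMor q.hom := ((Groth.Agent.S10627.result q).1 hq).2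
  have h1 : IsFormallySmoothMor (p.hom ≫ f.hom) :=
    smooth_comp p.hom f.hom ((isFormallyEtaleMor_iff _).1 hpe).1 hf
  have hw : ψ.hom ≫ q.hom = p.hom ≫ f.hom := congrArg (fun k => k.hom) w
  rw [← hw] at h1
  exact smooth_of_comp ψ.hom q.hom ((isFormallyEtaleMor_iff _).1 hqe).2 h1

end Groth.Agent.S10628
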