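import Groth.Statements.S10630
import Groth.Agent.Lib.Helper24.FThru

set_option autoImplicit false
universe u
open CategoryTheory CategoryTheory.Limits AlgebraicGeometry
open AlgSp

namespace Groth.Agent.S10630

open CategoryTheory CategoryTheory.Limits AlgebraicGeometry Opposite AlgSp
open Groth.Agent.Lib.Helper14.AS Groth.Agent.Lib.Helper24.FUnr Groth.Agent.Lib.Helper10.AlgSpInf


/-- (1) ⇔ (3): let h : Z ⟶ X be a morphism of algebraic spaces over S and let i : Z ⟶ Z', h' : Z' ⟶ X be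
a first order thickening of Z over X (i ≫ h' = h). Then (i, h') is a universal first order
thickening of Z over X if and only if for every first order thickening j : T ⟶ T' of schemes over S
with T' affine, every a : T ⟶ Z and b : T' ⟶ X with j ≫ b = a ≫ h, there is exactly one a' : T' ⟶ Z'
with j ≫ a' = a ≫ i and a' ≫ h' = b. -/
theorem result {S : Scheme.{u}} {Z Z' X : AlgSp.Space S} (h : Z ⟶ X) (i : Z ⟶ Z')
    (h' : Z' ⟶ X) (hi : AlgSp.IsFOThickMor i.hom) (w : i ≫ h' = h) :
    AlgSp.IsUnivFOThick h.hom i.hom h'.hom ↔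
      ∀ (T T' : Over S) (j : T ⟶ T'), IsAffine T'.left → AlgSp.IsFOThickMor ((AlgSp.yon S).map j) →
        ∀ (a : (AlgSp.yon S).obj T ⟶ Z.obj) (b : (AlgSp.yon S).obj T' ⟶ X.obj),
          (AlgSp.yon S).map j ≫ b = a ≫ h.hom →
          ∃! a' : (AlgSp.yon S).obj T' ⟶ Z'.obj, (AlgSp.yon S).map j ≫ a' = a ≫ i.hom ∧ a' ≫ h'.hom = b := by
  have hw : i.hom ≫ h'.hom = h.hom := congrArg (fun k => k.hom) w
  constructor
  · intro HU T T' j _ hj a b comm
    exact HU.2.2 (IsAlgSpace.yon_obj T) (IsAlgSpace.yon_obj T') ((yon S).map j) a b hj comm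
  · intro H
    have HUa : ∀ (T T' : Over S) (t : T ⟶ T'), IsAffine T'.left →
        MoreMor.IsFirstOrderThickening t.left → LiftUniqT h'.hom i.hom t := by
      intro T T' t hT' ht a l l' h1 h1' h2
      obtain ⟨a', -, hu⟩ := H T T' t hT' (isFOThickMor_yon_map_of_fot t ht) a (l ≫ h'.hom) (by
        rw [← Category.assoc, h1, Category.assoc, hw])
      rw [hu l ⟨h1, rfl⟩, hu l' ⟨h1', h2.symm⟩]
    have HEa : ∀ (T T' : Over S) (t : T ⟶ T'), IsAffine T'.left →
        MoreMor.IsFirstOrderThickening t.left → LiftExT h'.hom i.hom t := by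
      intro T T' t hT' ht a bot comm
      obtain ⟨a', ha', -⟩ := H T T' t hT' (isFOThickMor_yon_map_of_fot t ht) a bot (by
        rw [← comm, Category.assoc, hw])
      exact ⟨a', ha'⟩
    refine ⟨hi, hw, ?_⟩
    intro T T' hT hT' j a b hj comm
    obtain ⟨l, hl1, hl2⟩ := exists_lift_of_foThickT HUa HEa hT' j hj a b (by
      rw [Category.assoc, hw, comm])
    refine ⟨l, ⟨hl1, hl2⟩, ?_⟩
    rintro l' ⟨h1, h2⟩
    exact eq_of_foThickT HUa hT' j hj a l' l h1 hl1 (h2.trans hl2.symm)

end Groth.Agent.S10630
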