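import Groth.Statements.S10631
import Groth.Agent.Lib.Helper24.FUnr7

set_option autoImplicit false
universe u
open CategoryTheory CategoryTheory.Limits AlgebraicGeometry
open AlgSp

namespace Groth.Agent.S10631

open CategoryTheory CategoryTheory.Limits AlgebraicGeometry Opposite AlgSp
open Groth.Agent.Lib.Helper14.AS Groth.Agent.Lib.Helper24.FUnr Groth.Agent.Lib.Helper10.AlgSpInf


/-- Consider morphisms Z ⟶ Y ⟶ X of algebraic spaces over S. If (i : Z ⟶ Z', h' : Z' ⟶ Y) is, over Y, a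
universal first order thickening of Z and g : Y ⟶ X is formally etale, then (i, h' ≫ g) is, over X,
a universal first order thickening of Z. -/
theorem result {S : Scheme.{u}} {Z Z' Y X : AlgSp.Space S} (hZ : Z ⟶ Y) (g : Y ⟶ X)
    (i : Z ⟶ Z') (h' : Z' ⟶ Y) (HU : AlgSp.IsUnivFOThick hZ.hom i.hom h'.hom) (hg : AlgSp.IsFormallyEtaleMor g.hom) :
    AlgSp.IsUnivFOThick (hZ ≫ g).hom i.hom (h' ≫ g).hom := by
  obtain ⟨hi, hw, huniv⟩ := HU
  have hgu : IsFormallyUnramifiedMor g.hom := ((isFormallyEtaleMor_iff g.hom).1 hg).2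
  refine ⟨hi, ?_, ?_⟩
  · change i.hom ≫ h'.hom ≫ g.hom = hZ.hom ≫ g.hom
    rw [← Category.assoc, hw]
  · intro T T' hT hT' j a b hj hjb
    have hjb' : (a ≫ hZ.hom) ≫ g.hom = j ≫ b := by
      rw [Category.assoc]; exact hjb.symm
    obtain ⟨b', hb'1, hb'2⟩ := exists_lift_of_foThick g.hom hg hT' j hj (a ≫ hZ.hom) b hjb'
    obtain ⟨a', ⟨ha'1, ha'2⟩, ha'u⟩ := huniv hT hT' j a b' hj hb'1
    refine ⟨a', ⟨ha'1, ?_⟩, ?_⟩
    · change a' ≫ h'.hom ≫ g.hom = b
      rw [← Category.assoc, ha'2, hb'2]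
    · rintro a'' ⟨h1, h2⟩
      apply ha'u
      refine ⟨h1, ?_⟩
      refine eq_of_foThick g.hom hgu hT' j hj _ _ ?_ ?_
      · rw [← Category.assoc, h1, Category.assoc, hw, hb'1]
      · rw [Category.assoc, hb'2]
        exact h2

end Groth.Agent.S10631
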