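import Groth.Statements.S10632
import Groth.Agent.Lib.Helper24.FUnr7
import Groth.Agent.Lib.Helper24.FinThickBC2
import Groth.Agent.S10627

set_option autoImplicit false
universe u
open CategoryTheory CategoryTheory.Limits AlgebraicGeometry
open AlgSp

namespace Groth.Agent.S10632

open CategoryTheory CategoryTheory.Limits AlgebraicGeometry Opposite AlgSp
open Groth.Agent.Lib.Helper14.AS Groth.Agent.Lib.Helper24.FUnr Groth.Agent.Lib.Helper10.AlgSpInf


/-- Let e : Z ⟶ Y be an etale morphism of algebraic spaces over S, hY : Y ⟶ X, and let (iY : Y ⟶ Y', hY'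
: Y' ⟶ X) be a universal first order thickening of Y over X. Let e' : Z' ⟶ Y' be etale with iZ : Z ⟶
Z' making Z = Y ×_{Y'} Z' a pullback square. Then (iZ, e' ≫ hY') is a universal first order
thickening of Z over X. -/
theorem result {S : Scheme.{u}} {Z Y Y' Z' X : AlgSp.Space S} (e : Z ⟶ Y)
    (he : AlgSp.IsEtaleMor e.hom) (hY : Y ⟶ X) (iY : Y ⟶ Y') (hY' : Y' ⟶ X)
    (HU : AlgSp.IsUnivFOThick hY.hom iY.hom hY'.hom) (iZ : Z ⟶ Z') (e' : Z' ⟶ Y') (he' : AlgSp.IsEtaleMor e'.hom)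
    (sq : IsPullback e.hom iZ.hom iY.hom e'.hom) :
    AlgSp.IsUnivFOThick (e ≫ hY).hom iZ.hom (e' ≫ hY').hom := by
  obtain ⟨hi, hw, huniv⟩ := HU
  have he'e : IsFormallyEtaleMor e'.hom := ((Groth.Agent.S10627.result e').1 he').2
  have he'u : IsFormallyUnramifiedMor e'.hom := ((isFormallyEtaleMor_iff e'.hom).1 he'e).2
  have hiZ : IsFOThickMor iZ.hom :=
    (isNThickMor_one_iff _).1 (Groth.Agent.Lib.Helper24.FinThickBC.isNThickMor_of_isPullback
      Y'.property sq.flip ((isNThickMor_one_iff _).2 hi))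
  refine ⟨hiZ, ?_, ?_⟩
  · change iZ.hom ≫ e'.hom ≫ hY'.hom = e.hom ≫ hY.hom
    rw [← Category.assoc, ← sq.w, Category.assoc, hw]
  · intro T T' hT hT' j a b hj hjb
    have hjb' : j ≫ b = (a ≫ e.hom) ≫ hY.hom := by
      rw [Category.assoc]; exact hjb
    obtain ⟨c, ⟨hc1, hc2⟩, hcu⟩ := huniv hT hT' j (a ≫ e.hom) b hj hjb'
    have hcomm : (a ≫ iZ.hom) ≫ e'.hom = j ≫ c := by
      rw [Category.assoc, ← sq.w, ← Category.assoc, hc1]
    obtain ⟨a', ha'1, ha'2⟩ := exists_lift_of_foThick e'.hom he'e hT' j hj (a ≫ iZ.hom) c hcomm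
    refine ⟨a', ⟨ha'1, ?_⟩, ?_⟩
    · change a' ≫ e'.hom ≫ hY'.hom = b
      rw [← Category.assoc, ha'2, hc2]
    · rintro a'' ⟨h1, h2⟩
      have hc'' : a'' ≫ e'.hom = c := by
        apply hcu
        refine ⟨?_, ?_⟩
        · rw [← Category.assoc, h1, Category.assoc, ← sq.w, Category.assoc]
        · rw [Category.assoc]; exact h2
      refine eq_of_foThick e'.hom he'u hT' j hj _ _ ?_ ?_
      · rw [h1, ha'1]
      · rw [hc'', ha'2]

end Groth.Agent.S10632
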