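import Groth.Statements.S10636
import Groth.Agent.Lib.Helper24.AffClosed
import Groth.Agent.Lib.Helper24.FinThickBC2
import Groth.Agent.Lib.Helper14.AlgSpBasic2

set_option autoImplicit false
universe u
open CategoryTheory CategoryTheory.Limits AlgebraicGeometry
open AlgSp

namespace Groth.Agent.S10636

open CategoryTheory CategoryTheory.Limits AlgebraicGeometry Opposite AlgSp
open Groth.Agent.Lib.Helper14.AS Groth.Agent.Lib.Helper24.FUnr Groth.Agent.Lib.Helper24.AffClosed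

theorem ideal_aux {A : Type u} [CommRing A] (Ja Jb I : Ideal A) (ha : Ja ^ 2 = ⊥)
    (hb : Jb ^ 2 = ⊥) (hI : I ^ 2 = ⊥) :
    (Ja ⊔ Jb) ^ 2 ≤ Ja ⊓ Jb ∧ (Ja ⊔ Jb ⊔ I) ^ 2 ≤ Ja ⊔ Jb := by
  constructor
  · rw [pow_two, Ideal.sup_mul, Ideal.mul_sup, Ideal.mul_sup, ← pow_two, ← pow_two, ha, hb]
    simp only [bot_sup_eq, sup_bot_eq]
    refine sup_le ?_ ?_
    · exact le_inf Ideal.mul_le_left Ideal.mul_le_right
    · exact le_inf Ideal.mul_le_right Ideal.mul_le_left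
  · generalize Ja ⊔ Jb = K
    rw [pow_two, Ideal.sup_mul, Ideal.mul_sup, Ideal.mul_sup, ← pow_two I, hI]
    exact sup_le (sup_le Ideal.mul_le_left Ideal.mul_le_left) (sup_le Ideal.mul_le_right bot_le)

set_option backward.isDefEq.respectTransparency.types false in
theorem core {S : Scheme.{u}} {Z Z' X : AlgSp.Space S} (h : Z ⟶ X)
    (hh : AlgSp.IsFormallyUnramifiedMor h.hom) (i : Z ⟶ Z') (h' : Z' ⟶ X)
    (HU : AlgSp.IsUnivFOThick h.hom i.hom h'.hom) :
    AlgSp.IsFormallyUnramifiedMor h'.hom := by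
  obtain ⟨hi, hw, huniv⟩ := HU
  intro sq a b h1 h2 h1' h2'
  have rep : Representable i.hom := hi.1.rep
  haveI : Mono i.hom := mono_of_repWith_mono (repWith_mono (fun _ _ g hg => by
    have : IsClosedImmersion g := hg.1
    exact MorphismProperty.monomorphisms.infer_property g) hi.1)
  have hT'aff : IsAffine sq.ptT'.left := by
    change IsAffine (Spec (CommRingCat.of sq.A))
    infer_instance
  -- the closed subscheme where `x` lands in `Z`
  have key : ∀ x : (yon S).obj sq.ptT' ⟶ Z'.obj, ∃ (J : Ideal sq.A)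
      (g : (yon S).obj (TJ sq.str J) ⟶ Z.obj), J ^ 2 = ⊥ ∧
        g ≫ i.hom = (yon S).map (cJ sq.str J) ≫ x := by
    intro x
    have sqx := rep.isPullback x
    have hthick := hi.1.property x _ _ sqx
    have hN : IsNThickMor 1 ((yon S).map (rep.snd x)) :=
      Groth.Agent.Lib.Helper24.FinThickBC.isNThickMor_of_isPullback Z'.property sqx.flip
        ((isNThickMor_one_iff _).2 hi)
    have hfot : MoreMor.IsFirstOrderThickening (rep.snd x).left :=
      isFirstOrderThickening_of_isFOThickMor_yon_map hT'aff ((isNThickMor_one_iff _).1 hN)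
    obtain ⟨J, e, he⟩ := exists_ideal_of_closedImmersion sq.str (rep.snd x) hfot.1.1
    have hfotJ : MoreMor.IsFirstOrderThickening (cJ sq.str J).left := by
      haveI : IsIso e.hom.left := (Over.forget S).map_isIso e.hom
      refine Groth.Agent.Lib.Helper10.UnivThick.fot_of_iso hfot e.hom.left (𝟙 _) _ ?_
      rw [Category.comp_id, ← Over.comp_left, he]
    refine ⟨J, (yon S).map e.hom ≫ rep.fst x, sq_eq_bot_of_fot sq.str hfotJ, ?_⟩
    rw [Category.assoc, sqx.w, ← Category.assoc, ← Functor.map_comp, he]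
  obtain ⟨Ja, ga, hJa, hga⟩ := key a
  obtain ⟨Jb, gb, hJb, hgb⟩ := key b
  obtain ⟨hKL, hKI⟩ := ideal_aux Ja Jb sq.I hJa hJb sq.sq_zero
  -- Step 1
  obtain ⟨αK, hαK⟩ : ∃ α : (yon S).obj (TJ sq.str (Ja ⊔ Jb)) ⟶ Z.obj,
      α = (yon S).map (ιJ sq.str le_sup_left) ≫ ga := ⟨_, rfl⟩
  obtain ⟨βK, hβK⟩ : ∃ β : (yon S).obj (TJ sq.str (Ja ⊔ Jb)) ⟶ Z.obj,
      β = (yon S).map (ιJ sq.str le_sup_right) ≫ gb := ⟨_, rfl⟩
  have hαi : αK ≫ i.hom = (yon S).map (cJ sq.str (Ja ⊔ Jb)) ≫ a := by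
    rw [hαK, Category.assoc, hga, ← Category.assoc, ← Functor.map_comp, ιJ_cJ]
  have hβi : βK ≫ i.hom = (yon S).map (cJ sq.str (Ja ⊔ Jb)) ≫ b := by
    rw [hβK, Category.assoc, hgb, ← Category.assoc, ← Functor.map_comp, ιJ_cJ]
  have hαh : αK ≫ h.hom = (yon S).map (cJ sq.str (Ja ⊔ Jb)) ≫ sq.bot := by
    rw [← hw, ← Category.assoc, hαi, Category.assoc, h2]
  have hβh : βK ≫ h.hom = (yon S).map (cJ sq.str (Ja ⊔ Jb)) ≫ sq.bot := by
    rw [← hw, ← Category.assoc, hβi, Category.assoc, h2']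
  have hcI : cJ sq.str (Ja ⊔ Jb ⊔ sq.I) = ιJ sq.str le_sup_right ≫ sq.j := (ιJ_cJ sq.str _).symm
  have hαβ : αK = βK := by
    refine liftUniq_of_fot hh (ιJ sq.str (le_sup_left : Ja ⊔ Jb ≤ Ja ⊔ Jb ⊔ sq.I))
      (fot_ιJ sq.str _ hKI) _ _ ?_ (hαh.trans hβh.symm)
    rw [← cancel_mono i.hom, Category.assoc, Category.assoc, hαi, hβi, ← Category.assoc,
      ← Category.assoc, ← Functor.map_comp, ιJ_cJ, hcI, Functor.map_comp, Category.assoc,
      Category.assoc, h1, h1']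
  -- Step 2
  have hL : (yon S).map (cJ sq.str (Ja ⊓ Jb)) ≫ a = (yon S).map (cJ sq.str (Ja ⊓ Jb)) ≫ b := by
    have hle : Ja ⊓ Jb ≤ Ja ⊔ Jb := inf_le_left.trans le_sup_left
    obtain ⟨a', -, hu⟩ := huniv (IsAlgSpace.yon_obj _) (IsAlgSpace.yon_obj _)
      ((yon S).map (ιJ sq.str hle)) αK ((yon S).map (cJ sq.str (Ja ⊓ Jb)) ≫ sq.bot)
      (isFOThickMor_yon_map_of_fot _ (fot_ιJ sq.str hle hKL)) (by
        rw [← Category.assoc, ← Functor.map_comp, ιJ_cJ, hαh])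
    rw [hu ((yon S).map (cJ sq.str (Ja ⊓ Jb)) ≫ a) ⟨by
        rw [← Category.assoc, ← Functor.map_comp, ιJ_cJ, hαi], by rw [Category.assoc, h2]⟩,
      hu ((yon S).map (cJ sq.str (Ja ⊓ Jb)) ≫ b) ⟨by
        rw [← Category.assoc, ← Functor.map_comp, ιJ_cJ, hαβ, hβi], by rw [Category.assoc, h2']⟩]
  have hJab : (yon S).map (cJ sq.str Ja) ≫ a = (yon S).map (cJ sq.str Ja) ≫ b := by
    rw [← ιJ_cJ sq.str (inf_le_left : Ja ⊓ Jb ≤ Ja), Functor.map_comp, Category.assoc,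
      Category.assoc, hL]
  -- final step
  obtain ⟨a', -, hu⟩ := huniv (IsAlgSpace.yon_obj _) (IsAlgSpace.yon_obj _)
    ((yon S).map (cJ sq.str Ja)) ga sq.bot
    (isFOThickMor_yon_map_of_fot _ (fot_cJ sq.str hJa)) (by
      rw [← hw, ← Category.assoc, hga, Category.assoc, h2])
  rw [hu a ⟨hga.symm, h2⟩, hu b ⟨by rw [← hJab, hga], h2'⟩]


/-- Take a formally unramified morphism h : Z ⟶ X of algebraic spaces over S and let (i : Z ⟶ Z', h' :
Z' ⟶ X) be a universal first order thickening of Z over X. Then h' is formally unramified. -/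
theorem result {S : Scheme.{u}} {Z Z' X : AlgSp.Space S} (h : Z ⟶ X)
    (hh : AlgSp.IsFormallyUnramifiedMor h.hom) (i : Z ⟶ Z') (h' : Z' ⟶ X) (HU : AlgSp.IsUnivFOThick h.hom i.hom h'.hom) :
    AlgSp.IsFormallyUnramifiedMor h'.hom := by
  exact core h hh i h' HU

end Groth.Agent.S10636
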