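import Groth.Statements.S10641
import Mathlib
import Groth.Agent.S10614
import Groth.Agent.Lib.Helper14.WhereUI
import Groth.Agent.Lib.Helper14.AlgSpProper
import Groth.Agent.Lib.Helper14.AlgSpSepDescent
import Groth.Agent.Lib.Helper14.AlgSpUCQC

set_option autoImplicit false
universe u
open CategoryTheory CategoryTheory.Limits AlgebraicGeometry
open AlgSp Groth.Agent.Lib.Helper14.AS

namespace Groth.Agent.S10641

/-- For morphisms f : X ⟶ Y, p : X ⟶ Z and q : Y ⟶ Z of algebraic spaces over S with f ≫ q = p, where p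
is universally closed and locally of finite type and q is separated, there is an open subspace W of
Z with the following property: a morphism of algebraic spaces g : Z' ⟶ Z factors through W exactly
when the base change X' ⟶ Y' of f along g is a closed immersion (representable, and a closed
immersion on every represented pullback). Here the base change of f along g is any f' : X' ⟶ Y'
obtained from pullback squares Y' = Y ×_Z Z' and X' = X ×_Y Y' of algebraic spaces over S, and W ⊂ Z
is given as a representable open immersion w : W ⟶ Z. -/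
theorem result {S : Scheme.{u}} {X Y Z : AlgSp.Space S}
    (f : X ⟶ Y) (p : X ⟶ Z) (q : Y ⟶ Z) (hc : f ≫ q = p)
    (hp1 : AlgSp.LocP @LocallyOfFiniteType p.hom) (hp2 : AlgSp.IsUnivClosedMor p.hom)
    (hq : AlgSp.IsSeparatedMor q.hom) :
    ∃ (W : AlgSp.Space S) (w : W ⟶ Z), AlgSp.RepWith @IsOpenImmersion w.hom ∧
      ∀ (Z' : AlgSp.Space S) (g : Z' ⟶ Z),
        (∃ k : Z' ⟶ W, k ≫ w = g) ↔
          ∀ (Y' : AlgSp.Space S) (gY : Y' ⟶ Y) (q' : Y' ⟶ Z'),
            IsPullback gY.hom q'.hom q.hom g.hom →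
            ∀ (X' : AlgSp.Space S) (gX : X' ⟶ X) (f' : X' ⟶ Y'),
              IsPullback gX.hom f'.hom f.hom gY.hom →
                AlgSp.RepWith @IsClosedImmersion f'.hom := by
  have sqXX := IsPullback.of_hasPullback f.hom f.hom
  have hXX : IsAlgSpace (pullback f.hom f.hom) :=
    isAlgSpace_of_isPullback (repDiag_of_isAlgSpace Y.2) X.2 X.2 sqXX
  have hpc : p.hom = f.hom ≫ q.hom := by rw [← hc]; rfl
  have hfuc : IsUnivClosedMor f.hom :=
    (univClosed_proper_over_separated X.2 Y.2 Z.2 f.hom q.hom hq).1 (by rw [← hpc]; exact hp2)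
  have hpr1 : IsUnivClosedMor (pullback.snd f.hom f.hom) :=
    univSp_of_isPullback _ sqXX hfuc
  have hcomp : IsUnivClosedMor (pullback.snd f.hom f.hom ≫ p.hom) :=
    isUnivClosedMor_comp X.2 (repDiag_of_isAlgSpace Z.2) hpr1 hp2
  have hp3 : IsClosedMap (Points.map (pullback.snd f.hom f.hom ≫ p.hom)) :=
    isClosedMap_points_of_isUnivClosedMor Z.2 hcomp
  obtain ⟨W, w, hw, hW⟩ := where_unr_ui_sp f p q hc ⟨_, hXX⟩
    (ObjectProperty.homMk (pullback.fst f.hom f.hom))
    (ObjectProperty.homMk (pullback.snd f.hom f.hom)) sqXX hp1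
    (isClosedMap_points_of_isUnivClosedMor Z.2 hp2) hp3
  refine ⟨W, w, hw, fun Z' g => ?_⟩
  rw [hW Z' g]
  refine forall₄_congr fun Y' gY q' sqY => forall₄_congr fun X' gX f' sqX => ?_
  have hf'uc : IsUnivClosedMor f'.hom := univSp_of_isPullback _ sqX hfuc
  rw [(Groth.Agent.S10614.result f').2.1]
  exact ⟨fun h => ⟨hf'uc, h.1, h.2⟩, fun h => ⟨h.2.1, h.2.2⟩⟩

end Groth.Agent.S10641
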