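import Groth.Statements.S10644
import Mathlib
import Groth.Agent.S10641
import Groth.Agent.S10643
import Groth.Agent.Lib.Helper14.AlgSpLocP3
import Groth.Agent.Lib.Helper14.AlgSpLfp
import Groth.Agent.Lib.Helper14.AlgSpImm
import Groth.Agent.Lib.Helper8.AlgSpOpen

set_option autoImplicit false
universe u
open CategoryTheory CategoryTheory.Limits AlgebraicGeometry
open AlgSp Groth.Agent.Lib.Helper14.AS

namespace Groth.Agent.S10644

set_option backward.isDefEq.respectTransparency.types false in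
theorem isIso_of_ci_flat_surj {S : Scheme.{u}} {X' Y' : AlgSp.Space S} (f' : X' ⟶ Y')
    (hci : RepWith @IsClosedImmersion f'.hom) (hfl : LocP @Flat f'.hom)
    (hlfp : LocP @LocallyOfFinitePresentation f'.hom)
    (hs : IsSurjectiveMor f'.hom) : IsIso f'.hom := by
  have hrep : Representable f'.hom := ((repWith_iff _ _).mp hci).1
  have h1 : RepWith @Flat f'.hom := repWith_of_locP_of_representable etLocal_flat Y'.2 hrep hfl
  have h2 : RepWith @LocallyOfFinitePresentation f'.hom :=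
    repWith_of_locP_of_representable etLocal_lfp Y'.2 hrep hlfp
  have h3 : RepWith @IsOpenImmersion f'.hom := by
    refine (repWith_iff _ _).mpr ⟨hrep, fun U V g fst snd sq => ?_⟩
    have := ((repWith_iff _ _).mp hci).2 g fst snd sq
    have := ((repWith_iff _ _).mp h1).2 g fst snd sq
    have := ((repWith_iff _ _).mp h2).2 g fst snd sq
    exact IsOpenImmersion.of_flat_of_mono snd.left
  exact Groth.Agent.Lib.Helper8.AlgSpOpen.isIso_of_openImmersion_of_isSurjectiveMor f'.hom h3 hs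

theorem props_of_isIso {S : Scheme.{u}} {X' Y' : AlgSp.Space S} (f' : X' ⟶ Y') (h : IsIso f'.hom) :
    RepWith @IsClosedImmersion f'.hom ∧ IsSurjectiveMor f'.hom ∧ LocP @Flat f'.hom := by
  refine ⟨repWith_of_isIso _ f'.hom, ?_, ?_⟩
  · intro y
    refine ⟨Points.map (inv f'.hom) y, ?_⟩
    rw [← Points.map_comp, IsIso.inv_hom_id, Points.map_id]
  · exact locP_of_repWith (fun _ _ _ h => by have := h; infer_instance)
      (repWith_of_isIso @Flat f'.hom)

/-- For morphisms f : X ⟶ Y, p : X ⟶ Z and q : Y ⟶ Z of algebraic spaces over S with f ≫ q = p, where p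
is flat, universally closed and locally of finite presentation and q is closed, separated and
locally of finite type, there is an open subspace W of Z with the following property: a morphism of
algebraic spaces g : Z' ⟶ Z factors through W exactly when the base change X' ⟶ Y' of f along g is
an isomorphism. Here the base change of f along g is any f' : X' ⟶ Y' obtained from pullback squares
Y' = Y ×_Z Z' and X' = X ×_Y Y' of algebraic spaces over S, and W ⊂ Z is given as a representable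
open immersion w : W ⟶ Z. -/
theorem result {S : Scheme.{u}} {X Y Z : AlgSp.Space S}
    (f : X ⟶ Y) (p : X ⟶ Z) (q : Y ⟶ Z) (hc : f ≫ q = p)
    (hp1 : AlgSp.LocP @LocallyOfFinitePresentation p.hom) (hp2 : AlgSp.LocP @Flat p.hom)
    (hp3 : AlgSp.IsUnivClosedMor p.hom) (hq1 : AlgSp.LocP @LocallyOfFiniteType q.hom)
    (hq2 : AlgSp.IsClosedMor q.hom) (hq3 : AlgSp.IsSeparatedMor q.hom) :
    ∃ (W : AlgSp.Space S) (w : W ⟶ Z), AlgSp.RepWith @IsOpenImmersion w.hom ∧
      ∀ (Z' : AlgSp.Space S) (g : Z' ⟶ Z),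
        (∃ k : Z' ⟶ W, k ≫ w = g) ↔
          ∀ (Y' : AlgSp.Space S) (gY : Y' ⟶ Y) (q' : Y' ⟶ Z'),
            IsPullback gY.hom q'.hom q.hom g.hom →
            ∀ (X' : AlgSp.Space S) (gX : X' ⟶ X) (f' : X' ⟶ Y'),
              IsPullback gX.hom f'.hom f.hom gY.hom →
                IsIso f'.hom := by
  have hpc : p.hom = f.hom ≫ q.hom := by rw [← hc]; rfl
  have hp1' : LocP @LocallyOfFiniteType p.hom :=
    locP_mono (fun _ _ _ h => by have := h; infer_instance) hp1
  obtain ⟨W₁, w₁, hw₁, hW₁⟩ := Groth.Agent.S10641.result f p q hc hp1' hp3 hq3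
  obtain ⟨W₂, w₂, hw₂, hW₂⟩ := Groth.Agent.S10643.result f p q hc hp1 hp2
    (isClosedMap_points_of_isUnivClosedMor Z.2 hp3) hq1 hq2
  have sqW := IsPullback.of_hasPullback w₁.hom w₂.hom
  have hWalg : IsAlgSpace (pullback w₁.hom w₂.hom) :=
    isAlgSpace_of_isPullback (repDiag_of_isAlgSpace Z.2) W₁.2 W₂.2 sqW
  have hfst : RepWith @IsOpenImmersion (pullback.fst w₁.hom w₂.hom) :=
    MorphismProperty.of_isPullback (P := RepWith @IsOpenImmersion) sqW.flip hw₂
  have hw : RepWith @IsOpenImmersion (pullback.fst w₁.hom w₂.hom ≫ w₁.hom) :=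
    (RepWith @IsOpenImmersion).comp_mem _ _ hfst hw₁
  refine ⟨⟨_, hWalg⟩, ObjectProperty.homMk (pullback.fst w₁.hom w₂.hom ≫ w₁.hom), hw,
    fun Z' g => ⟨?_, ?_⟩⟩
  · rintro ⟨k, rfl⟩ Y' gY q' sqY X' gX f' sqX
    have h1 := (hW₁ Z' _).1 ⟨ObjectProperty.homMk (k.hom ≫ pullback.fst w₁.hom w₂.hom),
      ObjectProperty.hom_ext _ (by
        show (k.hom ≫ pullback.fst w₁.hom w₂.hom) ≫ w₁.hom =
          k.hom ≫ pullback.fst w₁.hom w₂.hom ≫ w₁.hom
        rw [Category.assoc])⟩ Y' gY q' sqY X' gX f' sqX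
    have h2 := (hW₂ Z' _).1 ⟨ObjectProperty.homMk (k.hom ≫ pullback.snd w₁.hom w₂.hom),
      ObjectProperty.hom_ext _ (by
        show (k.hom ≫ pullback.snd w₁.hom w₂.hom) ≫ w₂.hom =
          k.hom ≫ pullback.fst w₁.hom w₂.hom ≫ w₁.hom
        rw [Category.assoc, pullback.condition])⟩ Y' gY q' sqY X' gX f' sqX
    have big := sqX.paste_vert sqY
    have hp' : LocP @LocallyOfFinitePresentation (f'.hom ≫ q'.hom) := by
      refine locP_baseChange etLocal_lfp X.2 Z.2 Z'.2 (f.hom ≫ q.hom) _ gX.hom _ big ?_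
      rw [← hpc]; exact hp1
    have hq' : LocP @LocallyOfFiniteType q'.hom :=
      locP_baseChange etLocal_lft Y.2 Z.2 Z'.2 q.hom _ gY.hom _ sqY hq1
    have hf'lfp : LocP @LocallyOfFinitePresentation f'.hom :=
      locP_lfp_of_comp Z'.2 f'.hom q'.hom hp' hq'
    exact isIso_of_ci_flat_surj f' h1 h2.2 hf'lfp h2.1
  · intro H
    obtain ⟨k₁, hk₁⟩ := (hW₁ Z' g).2 (fun Y' gY q' sqY X' gX f' sqX =>
      (props_of_isIso f' (H Y' gY q' sqY X' gX f' sqX)).1)
    obtain ⟨k₂, hk₂⟩ := (hW₂ Z' g).2 (fun Y' gY q' sqY X' gX f' sqX =>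
      (props_of_isIso f' (H Y' gY q' sqY X' gX f' sqX)).2)
    have e1 : k₁.hom ≫ w₁.hom = g.hom := congrArg (fun m => m.hom) hk₁
    have e2 : k₂.hom ≫ w₂.hom = g.hom := congrArg (fun m => m.hom) hk₂
    refine ⟨ObjectProperty.homMk (sqW.lift k₁.hom k₂.hom (by rw [e1, e2])),
      ObjectProperty.hom_ext _ ?_⟩
    show sqW.lift k₁.hom k₂.hom _ ≫ pullback.fst w₁.hom w₂.hom ≫ w₁.hom = g.hom
    rw [← Category.assoc, sqW.lift_fst, e1]

end Groth.Agent.S10644
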