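import Groth.Statements.S10646
import Groth.Agent.Lib.Helper14.Zmt4

set_option autoImplicit false
universe u
open CategoryTheory CategoryTheory.Limits AlgebraicGeometry
open AlgSp

namespace Groth.Agent.S10646

/-- For a separated morphism f : X ⟶ Y of finite type between algebraic spaces over S, with X ⟶ Y' ⟶ Y
(f' followed by ν) the normalization of Y in X, there is an open subspace U' of Y' (a representable
open immersion j : U' ⟶ Y') such that for the inverse image P = X ×_{Y'} U' the projection P ⟶ U' is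
an isomorphism and the image of |P| in |X| consists exactly of those points of |X| where f is
quasi-finite (some etale chart diagram through the point on which the top arrow is locally
quasi-finite and locally of finite type on an open neighbourhood). -/
theorem result {S : Scheme.{u}} {X Y Y' : AlgSp.Space S} (f : X ⟶ Y) (ν : Y' ⟶ Y) (f' : X ⟶ Y')
    (hf1 : AlgSp.IsFiniteTypeMor f.hom) (hf2 : AlgSp.IsSeparatedMor f.hom)
    (hn : AlgSp.IsRelNormalization f.hom ν.hom f'.hom) :
    ∃ (U' : AlgSp.Space S) (j : U' ⟶ Y'), AlgSp.RepWith @IsOpenImmersion j.hom ∧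
      ∀ (P : AlgSp.Space S) (fst : P ⟶ X) (snd : P ⟶ U'), IsPullback fst.hom snd.hom f'.hom j.hom →
        IsIso snd.hom ∧
          Set.range (AlgSp.Points.map fst.hom) = {x | AlgSp.HasAtMor (fun U _ h u => ∃ W : U.Opens, u ∈ W ∧ LocallyQuasiFinite (W.ι ≫ h) ∧ LocallyOfFiniteType (W.ι ≫ h)) f.hom x} := by
  classical
  have hW := Groth.Agent.Lib.Helper14.AS.isOpen_zmtLocus f.hom f'.hom
  obtain ⟨U', j, hj, hrange⟩ := Groth.Agent.Lib.Helper8.AlgSpOpenSub.exists_openSubspace Y'
    (Groth.Agent.Lib.Helper14.AS.zmtLocus f.hom f'.hom) hW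
  refine ⟨U', j, hj, fun P fst snd sq => ⟨?_, ?_⟩⟩
  · have mj : Mono j.hom := Groth.Agent.Lib.Helper14.AS.mono_of_openImmersion hj
    apply Groth.Agent.Lib.Helper14.AS.isIso_of_existsUnique_lift
    intro T u
    have hpts : ∀ τ : ↥T.left, AlgSp.Points.ofPt (u ≫ j.hom) τ ∈
        Groth.Agent.Lib.Helper14.AS.zmtLocus f.hom f'.hom := by
      intro τ
      rw [← hrange, ← AlgSp.Points.map_ofPt]
      exact ⟨_, rfl⟩
    obtain ⟨x, hx, hxu⟩ :=
      Groth.Agent.Lib.Helper14.AS.zmt_existsUnique_lift f.hom f'.hom (u ≫ j.hom) hpts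
    refine ⟨sq.lift x u hx, sq.lift_snd _ _ _, fun p hp => ?_⟩
    apply sq.hom_ext
    · rw [sq.lift_fst]
      have hp' : p ≫ snd.hom = u := hp
      exact hxu _ (by
        show (p ≫ fst.hom) ≫ f'.hom = u ≫ j.hom
        rw [Category.assoc, sq.w, ← Category.assoc, hp'])
    · rw [sq.lift_snd, hp]
  · ext x
    constructor
    · rintro ⟨p, rfl⟩
      have hmem : AlgSp.Points.map f'.hom (AlgSp.Points.map fst.hom p) ∈
          Groth.Agent.Lib.Helper14.AS.zmtLocus f.hom f'.hom := by
        rw [← AlgSp.Points.map_comp, sq.w, AlgSp.Points.map_comp, ← hrange]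
        exact ⟨_, rfl⟩
      obtain ⟨D, n, hn'⟩ := hmem
      have sqD := IsPullback.of_hasPullback f'.hom D.c
      obtain ⟨q, hq1, -⟩ := Groth.Agent.Lib.Helper14.AS.points_exists_of_isPullback sqD
        (AlgSp.Points.map fst.hom p) (AlgSp.Points.ofPt (𝟙 _) n) (by
          rw [AlgSp.Points.map_ofPt, Category.id_comp, hn'])
      have := (D.good _ _ sqD).2 q
      rw [hq1] at this
      exact this
    · intro hx
      obtain ⟨D, n, hn'⟩ :=
        Groth.Agent.Lib.Helper14.AS.exists_zmtDatum_of_qfNear f ν f' hf1 hf2 hn x hx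
      have hmem : AlgSp.Points.map f'.hom x ∈ Set.range (AlgSp.Points.map j.hom) := by
        rw [hrange]
        exact ⟨D, n, hn'⟩
      obtain ⟨u', hu'⟩ := hmem
      obtain ⟨p, hp1, -⟩ := Groth.Agent.Lib.Helper14.AS.points_exists_of_isPullback sq x u'
        hu'.symm
      exact ⟨p, hp1⟩

end Groth.Agent.S10646
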