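import Groth.Statements.S10659
import Mathlib
import Groth.Agent.Lib.Helper14.AlgSpBase

set_option autoImplicit false
universe u
open CategoryTheory CategoryTheory.Limits AlgebraicGeometry
open AlgSp

namespace Groth.Agent.S10659

variable {S : Scheme.{u}}

/-- a pullback square of representables in `Sp S` comes from a pullback square of schemes -/
theorem isPullback_left_of_yon {A B C D : Over S} {f : A ⟶ B} {g : A ⟶ C} {h : B ⟶ D} {i : C ⟶ D}
    (H : IsPullback ((yon S).map f) ((yon S).map g) ((yon S).map h) ((yon S).map i)) :
    IsPullback f.left g.left h.left i.left := by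
  have e : f ≫ h = g ≫ i := (yon S).map_injective (by rw [Functor.map_comp, Functor.map_comp, H.w])
  exact (IsPullback.of_map (yon S) e H).map (Over.forget S)

/-- base change along an etale morphism preserves a property local on the target for the etale topology -/
theorem P_of_isPullback_etale (P : MorphismProperty Scheme.{u})
    [P.IsLocalAtTarget Scheme.etalePrecoverage] {X Y Y' X' : Scheme.{u}} {f : X ⟶ Y} {g : Y' ⟶ Y}
    [Etale g] {fst : X' ⟶ X} {snd : X' ⟶ Y'} (sq : IsPullback fst snd f g) (hf : P f) : P snd := by
  have hR : Presieve.ofArrows (fun b : Bool => cond b Y' Y)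
      (fun b => match b with | true => g | false => 𝟙 Y) ∈ Scheme.etalePrecoverage Y := by
    refine (Scheme.ofArrows_mem_precoverage_iff (P := @Etale)).2 ⟨fun x => ⟨false, ⟨x, rfl⟩⟩, fun b => ?_⟩
    cases b
    · change Etale (𝟙 Y); infer_instance
    · change Etale g; infer_instance
  have hg : Presieve.ofArrows (fun b : Bool => cond b Y' Y)
      (fun b => match b with | true => g | false => 𝟙 Y) g := Presieve.ofArrows.mk true
  have : HasPullback f g := sq.hasPullback
  have h1 := MorphismProperty.IsLocalAtTarget.pullbackSnd (P := P) hR hg hf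
  have h2 := (P.cancel_left_of_respectsIso sq.isoPullback.hom _).2 h1
  rwa [sq.isoPullback_hom_snd] at h2

/-- descent along an etale surjective morphism -/
theorem P_of_isPullback_etale_surjective (P : MorphismProperty Scheme.{u})
    [P.IsLocalAtTarget Scheme.etalePrecoverage] {X Y Y' X' : Scheme.{u}} {f : X ⟶ Y} {g : Y' ⟶ Y}
    [Etale g] [Surjective g] {fst : X' ⟶ X} {snd : X' ⟶ Y'} (sq : IsPullback fst snd f g)
    (h : P snd) : P f := by
  have hR : Presieve.singleton g ∈ Scheme.etalePrecoverage Y := by
    exact (Scheme.singleton_mem_precoverage_iff (P := @Etale) g).2 ⟨Surjective.surj, inferInstance⟩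
  refine MorphismProperty.IsLocalAtTarget.of_forall_pullbackSnd (K := Scheme.etalePrecoverage) hR ?_
  rintro U g' _ ⟨⟩
  exact Groth.Agent.Lib.Helper14.AS.P_pullback_snd_of_isPullback sq h

theorem main (P : MorphismProperty Scheme.{u}) [P.IsLocalAtTarget Scheme.etalePrecoverage]
    {F G : Sp S} (f : F ⟶ G) (hf : Representable f)
    {V W : Over S} (b : (yon S).obj V ⟶ G) (hb1 : RepWith @Etale b) (hb2 : RepWith @Surjective b)
    (fst : (yon S).obj W ⟶ F) (snd : W ⟶ V)
    (sq : IsPullback fst ((yon S).map snd) f b) (hP : P snd.left) :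
    RepLocT P f := by
  refine ⟨hf, fun V' W' b' fst' snd' hb' sq' => ?_⟩
  have hr := hb1.rep
  obtain ⟨p₁, hp₁⟩ := (yon S).map_surjective (hr.fst b')
  have sqV : IsPullback ((yon S).map p₁) ((yon S).map (hr.snd b')) b b' := hp₁ ▸ hr.isPullback b'
  have e₂ : Etale (hr.snd b').left := hb1.property b' _ _ (hr.isPullback b')
  have s₂ : Surjective (hr.snd b').left := hb2.property b' _ _ (hr.isPullback b')
  have e₁ : Etale p₁.left := hb'.property b _ _ sqV.flip
  -- the pullback of `f` to `V''`
  have sqW := hf.isPullback ((yon S).map p₁ ≫ b)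
  -- square over V
  have w1 : hf.fst ((yon S).map p₁ ≫ b) ≫ f =
      ((yon S).map (hf.snd ((yon S).map p₁ ≫ b)) ≫ (yon S).map p₁) ≫ b := by
    rw [sqW.w, Category.assoc]
  have key1 := IsPullback.of_right (h₁₁ := sq.lift _ _ w1) (by simpa using sqW) (by simp) sq
  obtain ⟨w₁, hw₁⟩ := (yon S).map_surjective (sq.lift _ _ w1)
  rw [← hw₁] at key1
  have k1 := isPullback_left_of_yon key1
  have Pq : P (hf.snd ((yon S).map p₁ ≫ b)).left := P_of_isPullback_etale P k1 hP
  -- square over V'
  have w2 : hf.fst ((yon S).map p₁ ≫ b) ≫ f =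
      ((yon S).map (hf.snd ((yon S).map p₁ ≫ b)) ≫ (yon S).map (hr.snd b')) ≫ b' := by
    rw [sqW.w, Category.assoc, sqV.w]
  have sqW' : IsPullback (hf.fst ((yon S).map p₁ ≫ b))
      ((yon S).map (hf.snd ((yon S).map p₁ ≫ b))) f ((yon S).map (hr.snd b') ≫ b') := by
    rw [← sqV.w]; exact sqW
  have key2 := IsPullback.of_right (h₁₁ := sq'.lift _ _ w2) (by simpa using sqW') (by simp) sq'
  obtain ⟨w₂, hw₂⟩ := (yon S).map_surjective (sq'.lift _ _ w2)
  rw [← hw₂] at key2
  have k2 := isPullback_left_of_yon key2
  exact P_of_isPullback_etale_surjective P k2 Pq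

/-- For a property P of morphisms of schemes that is etale local on the target (local for the etale
precoverage) and a representable morphism f : X ⟶ Y of algebraic spaces over S: if for one scheme V
with a representable etale surjective b : h_V ⟶ Y and one pullback square of f along b with corner
h_W the projection W ⟶ V has P, then f has P etale locally on the target in the representable sense,
i.e. every such projection along every etale h_V ⟶ Y has P. (The published statement also asserts
the converse direction and that, for X and Y representable, the condition is equivalent to f having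
P; this row states only that one surjective etale chart suffices.) -/
theorem result {S : Scheme.{u}} (P : MorphismProperty Scheme.{u}) [P.IsLocalAtTarget Scheme.etalePrecoverage]
    {X Y : AlgSp.Space S} (f : X ⟶ Y) (hf : AlgSp.Representable f.hom)
    {V W : Over S} (b : (AlgSp.yon S).obj V ⟶ Y.obj) (hb1 : AlgSp.RepWith @Etale b) (hb2 : AlgSp.RepWith @Surjective b)
    (fst : (AlgSp.yon S).obj W ⟶ X.obj) (snd : W ⟶ V)
    (sq : IsPullback fst ((AlgSp.yon S).map snd) f.hom b) (hP : P snd.left) :
    AlgSp.RepLocT P f.hom := by
  exact main P f.hom hf b hb1 hb2 fst snd sq hP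

end Groth.Agent.S10659
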