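import Groth.Statements.S5003
import Groth.Agent.Helper19.QuasiRegScheme
import Groth.Agent.Helper19.LocImm
import Mathlib.AlgebraicGeometry.Morphisms.Immersion
-- import your own Groth.Agent.* helpers here

set_option autoImplicit false
universe u
open CategoryTheory CategoryTheory.Limits AlgebraicGeometry TopologicalSpace
open Nrm16

namespace Groth.Agent.S5003

theorem quasiCompact_of_immersion {X Y : Scheme.{u}} [IsLocallyNoetherian X] (j : Y ⟶ X)
    [IsImmersion j] : QuasiCompact j := by
  rw [← j.liftCoborder_ι]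
  infer_instance

/-- Let X be a locally Noetherian scheme and j : Y ⟶ X a morphism. Then j is a regular immersion if and
only if j is a quasi-regular immersion. -/
theorem result {X Y : Scheme.{u}} [IsLocallyNoetherian X] (j : Y ⟶ X) :
    RegImm.IsRegularImmersion RegImm.Kind.regular j ↔ RegImm.IsRegularImmersion RegImm.Kind.quasi j := by
  constructor
  · rintro ⟨himm, h⟩
    refine ⟨himm, fun z => ?_⟩
    obtain ⟨U, hzU, hcl, rs, hreg, hker⟩ := h z
    refine ⟨U, hzU, hcl, rs, ?_, hker⟩
    have hwr : RingTheory.Sequence.IsWeaklyRegular Γ(X, U.1) (List.ofFn rs.get) := by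
      rw [List.ofFn_get]
      exact hreg.toIsWeaklyRegular
    exact Groth.Agent.S5802.result _ _ rs.get hwr
  · rintro ⟨himm, h⟩
    refine ⟨himm, fun z => ?_⟩
    obtain ⟨U, hzU, hcl, rs, hq, hker⟩ := h z
    have hqc : QuasiCompact j := quasiCompact_of_immersion j
    have hsupp : j z ∈ j.ker.support := by
      have h1 : j z ∈ (j.ker.support : Set X) := by
        rw [Scheme.Hom.support_ker]
        exact subset_closure ⟨z, rfl⟩
      exact h1
    have hI : j.ker.ideal U = Ideal.ofList rs := by
      rw [Scheme.Hom.ker_apply]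
      exact hker
    obtain ⟨g, hxg, rs', hreg, hI'⟩ :=
      Groth.Agent.Helper19.QuasiRegScheme.core j.ker (j z) hsupp U hzU rs hq hI
    refine ⟨X.affineBasicOpen g, hxg, ?_, rs', hreg, ?_⟩
    · have hle : (X.affineBasicOpen g).1 ≤ U.1 := X.basicOpen_le g
      have h1 : IsClosedImmersion (j.resLE U.1 (j ⁻¹ᵁ U.1) le_rfl) := by
        rw [Scheme.Hom.resLE_eq_morphismRestrict]
        exact hcl
      have h2 := Groth.Agent.Helper19.LocImm.baseChangeCI j (j ⁻¹ᵁ U.1) U.1 le_rfl
        (X.affineBasicOpen g).1 hle (j ⁻¹ᵁ (X.affineBasicOpen g).1)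
        (by
          symm
          apply inf_eq_right.mpr
          exact (Opens.map j.base).monotone hle) le_rfl
      rw [Scheme.Hom.resLE_eq_morphismRestrict] at h2
      exact h2
    · rw [← Scheme.Hom.ker_apply]
      exact hI'

end Groth.Agent.S5003
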