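import Groth.Statements.S10661
import Mathlib
import Groth.Agent.S8905
import Groth.Agent.S5003
import Groth.Agent.Lib.Helper14.NoethDescent
import Groth.Agent.Lib.Helper14.AlgSpLocP2
-- import your own Groth.Agent.* helpers here

set_option autoImplicit false
universe u
open CategoryTheory CategoryTheory.Limits AlgebraicGeometry
open AlgSp

namespace Groth.Agent.S10661

section helpers
open Groth.Agent.Lib.Helper14.AS

set_option backward.isDefEq.respectTransparency.types false in
/-- every etale chart of a locally Noetherian algebraic space is locally Noetherian -/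
theorem isLocallyNoetherian_chart {S : Scheme.{u}} {X : AlgSp.Sp S} (hX : AlgSp.IsLocNoethSp X)
    {V : Over S} (b : (AlgSp.yon S).obj V ⟶ X) (hb : AlgSp.RepWith @Etale b) :
    IsLocallyNoetherian V.left := by
  obtain ⟨U, p, hpe, hps, hU⟩ := hX
  have sq := hpe.rep.isPullback' b
  -- `V' = U ×_X V`
  have h1 : Etale (hpe.rep.snd b).left := hpe.property_snd b
  have h2 : Surjective (hpe.rep.snd b).left := hps.property_snd b
  have h3 : Etale (hpe.rep.fst' b).left := by
    have : RepWith @Etale ((AlgSp.yon S).map (hpe.rep.fst' b)) :=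
      MorphismProperty.of_isPullback (P := RepWith @Etale) sq.flip hb
    exact (repWith_yon_map_iff _ _).1 this
  haveI := hU
  haveI : IsLocallyNoetherian (hpe.rep.pullback b).left :=
    LocallyOfFiniteType.isLocallyNoetherian (hpe.rep.fst' b).left
  exact isLocallyNoetherian_of_flat_surjective (hpe.rep.snd b).left

theorem kinds_aux {S : Scheme.{u}} {Z X : AlgSp.Space S} (i : Z ⟶ X)
    (hX : AlgSp.IsLocNoethSp X.obj) :
    (AlgSp.IsRegImmMor RegImm.Kind.koszul i.hom ↔ AlgSp.IsRegImmMor RegImm.Kind.h1 i.hom) ∧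
      (AlgSp.IsRegImmMor RegImm.Kind.h1 i.hom ↔ AlgSp.IsRegImmMor RegImm.Kind.quasi i.hom) := by
  have key : ∀ {V W : Over S} (b : (AlgSp.yon S).obj V ⟶ X.obj) (snd : W ⟶ V),
      AlgSp.RepWith @Etale b → RegImm.IsRegularImmersion .quasi snd.left →
        RegImm.IsRegularImmersion .regular snd.left := by
    intro V W b snd hb h
    haveI := isLocallyNoetherian_chart hX b hb
    exact (Groth.Agent.S5003.result snd.left).2 h
  refine ⟨⟨fun h => ⟨h.1, fun V W b fst snd hb sq => ?_⟩, fun h => ⟨h.1, fun V W b fst snd hb sq => ?_⟩⟩,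
    ⟨fun h => ⟨h.1, fun V W b fst snd hb sq => ?_⟩, fun h => ⟨h.1, fun V W b fst snd hb sq => ?_⟩⟩⟩
  · exact (Groth.Agent.S8905.result snd.left).2.1 (h.2 b fst snd hb sq)
  · have h1 := (Groth.Agent.S8905.result snd.left).2.2 (h.2 b fst snd hb sq)
    exact (Groth.Agent.S8905.result snd.left).1 (key b snd hb h1)
  · exact (Groth.Agent.S8905.result snd.left).2.2 (h.2 b fst snd hb sq)
  · have h1 := key b snd hb (h.2 b fst snd hb sq)
    exact (Groth.Agent.S8905.result snd.left).2.1 ((Groth.Agent.S8905.result snd.left).1 h1)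

end helpers

/-- For an immersion i : Z ⟶ X of algebraic spaces over S with X locally Noetherian (some etale
surjective chart is a locally Noetherian scheme), the three conditions Koszul-regular immersion,
H_1-regular immersion and quasi-regular immersion on i are equivalent. -/
theorem result {S : Scheme.{u}} {Z X : AlgSp.Space S} (i : Z ⟶ X) (hi : AlgSp.RepWith @IsImmersion i.hom)
    (hX : AlgSp.IsLocNoethSp X.obj) :
    (AlgSp.IsRegImmMor RegImm.Kind.koszul i.hom ↔ AlgSp.IsRegImmMor RegImm.Kind.h1 i.hom) ∧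
      (AlgSp.IsRegImmMor RegImm.Kind.h1 i.hom ↔ AlgSp.IsRegImmMor RegImm.Kind.quasi i.hom) := by
  exact kinds_aux i hX

end Groth.Agent.S10661
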