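import Groth.Statements.S10676
import Groth.Agent.Lib.Helper14.EtSplit
import Groth.Agent.Lib.Helper14.AlgSpFibrePt9
import Groth.Agent.Lib.Helper14.AlgSpFibrePt6

set_option autoImplicit false
universe u
open CategoryTheory CategoryTheory.Limits AlgebraicGeometry
open AlgSp

namespace Groth.Agent.S10676

open CategoryTheory CategoryTheory.Limits AlgebraicGeometry Opposite AlgSp
open Groth.Agent.Lib.Helper14.AS

set_option backward.isDefEq.respectTransparency.types false in

/-- For a separated morphism f : X ⟶ Y of algebraic spaces over S which is locally of finite type, a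
point y of |Y| and a finite set xs of points of |X| mapping to y at each of which f is quasi-finite
(some etale chart diagram through the point has top arrow locally quasi-finite and locally of finite
type on an open neighbourhood), assuming moreover that f is quasi-compact or Y is decent: there are
an etale morphism of algebraic spaces a : U ⟶ Y and a point u of |U| over y such that for the base
change P = U ×_Y X there is an open and closed subspace V ⊂ P, finite over U, such that every point
of |V| over u maps into xs and no point of |P| outside |V| lying over u maps into xs. -/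
theorem result {S : Scheme.{u}} {X Y : AlgSp.Space S} (f : X ⟶ Y) (y : AlgSp.Points Y.obj)
    (xs : Finset (AlgSp.Points X.obj)) (hxs : ∀ x ∈ xs, AlgSp.Points.map f.hom x = y)
    (hf1 : AlgSp.LocP @LocallyOfFiniteType f.hom) (hf2 : AlgSp.IsSeparatedMor f.hom)
    (hf3 : ∀ x ∈ xs, AlgSp.HasAtMor (fun U _ h u => ∃ W : U.Opens, u ∈ W ∧ LocallyQuasiFinite (W.ι ≫ h) ∧ LocallyOfFiniteType (W.ι ≫ h)) f.hom x)
    (hf4 : AlgSp.IsQuasiCompactMor f.hom ∨ AlgSp.IsDecent Y.obj) :
    ∃ (U : AlgSp.Space S) (a : U ⟶ Y) (u : AlgSp.Points U.obj), AlgSp.IsEtaleMor a.hom ∧ AlgSp.Points.map a.hom u = y ∧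
      ∀ (P : AlgSp.Space S) (prX : P ⟶ X) (prU : P ⟶ U), IsPullback prX.hom prU.hom f.hom a.hom →
        ∃ (V : AlgSp.Space S) (jV : V ⟶ P), AlgSp.RepWith @IsOpenImmersion jV.hom ∧ AlgSp.RepWith @IsClosedImmersion jV.hom ∧
          AlgSp.IsFiniteMor (jV ≫ prU).hom ∧
          (∀ v : AlgSp.Points V.obj, AlgSp.Points.map (jV ≫ prU).hom v = u → AlgSp.Points.map (jV ≫ prX).hom v ∈ xs) ∧
          ∀ w : AlgSp.Points P.obj, w ∉ Set.range (AlgSp.Points.map jV.hom) → AlgSp.Points.map prU.hom w = u →
            AlgSp.Points.map prX.hom w ∉ xs := by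
  classical
  obtain ⟨V₀, b, hbe, hbs⟩ := Y.2.atlas
  obtain ⟨v₀, hv₀⟩ := ofPt_surjective_of_repWith hbs y
  have sq0 := IsPullback.of_hasPullback f.hom b
  let T : Set (Points (pullback f.hom b)) :=
    {t | Points.map (pullback.snd f.hom b) t = Points.ofPt (𝟙 _) v₀ ∧
      Points.map (pullback.fst f.hom b) t ∈ xs}
  have hT : T.Finite := by
    have hsub : T ⊆ ⋃ x ∈ (↑xs : Set (Points X.obj)),
        {w | Points.map (pullback.fst f.hom b) w = x ∧
          Points.map (pullback.snd f.hom b) w = Points.ofPt (𝟙 _) v₀} := by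
      intro t ht
      simp only [Set.mem_iUnion]
      exact ⟨_, ht.2, rfl, ht.1⟩
    refine Set.Finite.subset (Set.Finite.biUnion xs.finite_toSet ?_) hsub
    intro x hx
    rcases hf4 with hqc | hdec
    · exact finite_fibre_pullback_of_quasiFiniteAt X.2 Y.2 f.hom b _ _ sq0 x _ ⟨hf1, hqc⟩
        (hf3 x hx)
    · obtain ⟨r, hr1, hr2, -⟩ := hdec y
      exact finite_fibre_pullback_of_mono_point Y.2 sq0 x _ r hr2 (by rw [hxs x hx, hr1])
        (𝟙 _) b (𝟙 V₀) hbe (by simp) v₀ rfl inferInstance
  obtain ⟨U, g, u, hUaff, hEt, hgu, hbij, H⟩ := reduce_chart f hf1 hf2 b v₀ T hT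
    (fun t ht => ht.1) (fun t ht => hf3 _ ht.2)
  let UU : Space S := ⟨(yon S).obj U, IsAlgSpace.yon_obj U⟩
  have hae : RepWith @Etale ((yon S).map g ≫ b) :=
    repWith_comp _ ((repWith_yon_map_iff _ _).2 hEt) hbe
  have hgu' : Points.ofPt ((yon S).map g) u = Points.ofPt (𝟙 _) v₀ := by
    have := ofPt_yon_map_comp g (𝟙 _) u
    rw [Category.comp_id] at this
    rw [this, hgu]
  refine ⟨UU, ObjectProperty.homMk ((yon S).map g ≫ b), Points.ofPt (𝟙 _) u,
    fun _ _ hφ => repWith_comp _ hφ hae, ?_, ?_⟩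
  · change Points.map ((yon S).map g ≫ b) (Points.ofPt (𝟙 _) u) = _
    rw [Points.map_ofPt, Category.id_comp, ofPt_yon_map_comp, hgu, hv₀]
  · intro P prX prU sq
    obtain ⟨prX', h1, sqP, V, jV, hjo, hjc, hfin, hα, hβ⟩ := H P prX prU.hom sq
    refine ⟨V, jV, hjo, hjc, hfin, ?_, ?_⟩
    · intro v hv
      have := (hα v hv).2
      change Points.map (jV.hom ≫ prX.hom) v ∈ xs
      rw [← h1, ← Category.assoc, Points.map_comp]
      exact this
    · intro w hw hwu hwx
      apply hβ w hw hwu
      refine ⟨?_, ?_⟩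
      · rw [← Points.map_comp, sqP.w, Points.map_comp, hwu, Points.map_ofPt, Category.id_comp,
          hgu']
      · rw [← Points.map_comp, h1]; exact hwx

end Groth.Agent.S10676
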