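import Groth.Statements.S10677
import Groth.Agent.Lib.Helper14.EtSplit

set_option autoImplicit false
universe u
open CategoryTheory CategoryTheory.Limits AlgebraicGeometry
open AlgSp

namespace Groth.Agent.S10677

open CategoryTheory CategoryTheory.Limits AlgebraicGeometry Opposite AlgSp
open Groth.Agent.Lib.Helper14.AS

set_option backward.isDefEq.respectTransparency.types false in

/-- For a separated morphism f : X ⟶ Y of algebraic spaces over S which is locally of finite type and a
point x of |X| with image y at which f is quasi-finite (some etale chart diagram through x has top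
arrow locally quasi-finite and locally of finite type on an open neighbourhood), there are an etale
morphism a : U ⟶ Y and a point u of |U| over y such that for the base change P = U ×_Y X there is an
open and closed subspace V ⊂ P, finite over U, containing a point mapping to x in |X| and to u in
|U|. -/
theorem result {S : Scheme.{u}} {X Y : AlgSp.Space S} (f : X ⟶ Y) (x : AlgSp.Points X.obj)
    (hf1 : AlgSp.LocP @LocallyOfFiniteType f.hom) (hf2 : AlgSp.IsSeparatedMor f.hom)
    (hf3 : AlgSp.HasAtMor (fun U _ h u => ∃ W : U.Opens, u ∈ W ∧ LocallyQuasiFinite (W.ι ≫ h) ∧ LocallyOfFiniteType (W.ι ≫ h)) f.hom x) :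
    ∃ (U : AlgSp.Space S) (a : U ⟶ Y) (u : AlgSp.Points U.obj), AlgSp.IsEtaleMor a.hom ∧
      AlgSp.Points.map a.hom u = AlgSp.Points.map f.hom x ∧
      ∀ (P : AlgSp.Space S) (prX : P ⟶ X) (prU : P ⟶ U), IsPullback prX.hom prU.hom f.hom a.hom →
        ∃ (V : AlgSp.Space S) (jV : V ⟶ P), AlgSp.RepWith @IsOpenImmersion jV.hom ∧ AlgSp.RepWith @IsClosedImmersion jV.hom ∧
          AlgSp.IsFiniteMor (jV ≫ prU).hom ∧
          ∃ v : AlgSp.Points V.obj, AlgSp.Points.map (jV ≫ prX).hom v = x ∧ AlgSp.Points.map (jV ≫ prU).hom v = u := by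
  obtain ⟨V₀, b, hbe, hbs⟩ := Y.2.atlas
  obtain ⟨v₀, hv₀⟩ := ofPt_surjective_of_repWith hbs (Points.map f.hom x)
  have sq0 := IsPullback.of_hasPullback f.hom b
  obtain ⟨t, ht1, ht2⟩ := points_exists_of_isPullback sq0 x (Points.ofPt (𝟙 _) v₀) (by
    rw [← hv₀, Points.ofPt_eq_map_ofScheme b v₀])
  obtain ⟨U, g, u, hUaff, hEt, hgu, hbij, H⟩ := reduce_chart f hf1 hf2 b v₀ {t}
    (Set.finite_singleton t) (by rintro _ rfl; exact ht2) (by rintro _ rfl; rw [ht1]; exact hf3)
  let UU : Space S := ⟨(yon S).obj U, IsAlgSpace.yon_obj U⟩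
  have hae : RepWith @Etale ((yon S).map g ≫ b) :=
    repWith_comp _ ((repWith_yon_map_iff _ _).2 hEt) hbe
  refine ⟨UU, ObjectProperty.homMk ((yon S).map g ≫ b), Points.ofPt (𝟙 _) u,
    fun _ _ hφ => repWith_comp _ hφ hae, ?_, ?_⟩
  · change Points.map ((yon S).map g ≫ b) (Points.ofPt (𝟙 _) u) = _
    rw [Points.map_ofPt, Category.id_comp, ofPt_yon_map_comp, hgu, hv₀]
  · intro P prX prU sq
    obtain ⟨prX', h1, sqP, V, jV, hjo, hjc, hfin, -, hβ⟩ := H P prX prU.hom sq
    refine ⟨V, jV, hjo, hjc, hfin, ?_⟩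
    obtain ⟨w, hw1, hw2⟩ := points_exists_of_isPullback sqP t (Points.ofPt (𝟙 _) u) (by
      rw [ht2, Points.map_ofPt, Category.id_comp]
      have := ofPt_yon_map_comp g (𝟙 _) u
      rw [Category.comp_id] at this
      rw [this, hgu])
    have hwr : w ∈ Set.range (Points.map jV.hom) := by
      by_contra hn
      exact hβ w hn hw2 (by rw [hw1]; rfl)
    obtain ⟨v, rfl⟩ := hwr
    refine ⟨v, ?_, ?_⟩
    · change Points.map (jV.hom ≫ prX.hom) v = x
      rw [Points.map_comp, ← h1, Points.map_comp, hw1, ht1]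
    · change Points.map (jV.hom ≫ prU.hom) v = _
      rw [Points.map_comp, hw2]

end Groth.Agent.S10677
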