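import Groth.Statements.S10686
import Groth.Agent.Lib.Helper24.FibreRed

set_option autoImplicit false
universe u
open CategoryTheory CategoryTheory.Limits AlgebraicGeometry
open AlgSp

namespace Groth.Agent.S10686

open CategoryTheory CategoryTheory.Limits AlgebraicGeometry Opposite AlgSp
open Groth.Agent.Lib.Helper14.AS Groth.Agent.Lib.Helper24.FibreRed Groth.Agent.Lib.Helper24.UnivBdd


/-- For a morphism f : X ⟶ Y between algebraic spaces over S and a point y of |Y|, write X_k for the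
fibre (pullback in fppf sheaves) over a field point k of Y and call X_k geometrically reduced when
for every field homomorphism k ⟶ k' the base change X_{k'} is reduced (some etale surjective scheme
chart reduced). The following are equivalent: (1) X_k is geometrically reduced for some k in the
class of y; (2) X_k is geometrically reduced for every k in the class of y; (3) X_k is reduced for
every k in the class of y. -/
theorem result {S : Scheme.{u}} {X Y : AlgSp.Space S} (f : X ⟶ Y) (y : AlgSp.Points Y.obj) :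
    [∃ (k : AlgSp.FieldPt Y.obj), AlgSp.Points.mk k = y ∧
        ∀ (k' : Type u) [Field k'] (φ : k.K →+* k') (Xk' : AlgSp.Sp S) (a : Xk' ⟶ X.obj)
          (b : Xk' ⟶ (AlgSp.yon S).obj (Over.mk (Spec.map (CommRingCat.ofHom φ) ≫ k.str))),
          IsPullback a b f.hom ((AlgSp.yon S).map (Over.homMk (Spec.map (CommRingCat.ofHom φ)) rfl :
            Over.mk (Spec.map (CommRingCat.ofHom φ) ≫ k.str) ⟶ k.pt) ≫ k.toHom) →
          AlgSp.EtaleLocally (fun U => IsReduced U) Xk',
      ∀ (k : AlgSp.FieldPt Y.obj), AlgSp.Points.mk k = y →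
        ∀ (k' : Type u) [Field k'] (φ : k.K →+* k') (Xk' : AlgSp.Sp S) (a : Xk' ⟶ X.obj)
          (b : Xk' ⟶ (AlgSp.yon S).obj (Over.mk (Spec.map (CommRingCat.ofHom φ) ≫ k.str))),
          IsPullback a b f.hom ((AlgSp.yon S).map (Over.homMk (Spec.map (CommRingCat.ofHom φ)) rfl :
            Over.mk (Spec.map (CommRingCat.ofHom φ) ≫ k.str) ⟶ k.pt) ≫ k.toHom) →
          AlgSp.EtaleLocally (fun U => IsReduced U) Xk',
      ∀ (k : AlgSp.FieldPt Y.obj), AlgSp.Points.mk k = y →
        ∀ (Xk : AlgSp.Sp S) (a : Xk ⟶ X.obj) (b : Xk ⟶ (AlgSp.yon S).obj k.pt), IsPullback a b f.hom k.toHom →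
          AlgSp.EtaleLocally (fun U => IsReduced U) Xk].TFAE := by
  tfae_have 2 → 1 := by
    intro h2
    obtain ⟨q, hq⟩ := Points.mk_surjective y
    exact ⟨q, hq, h2 q hq⟩
  tfae_have 1 → 3 := by
    rintro ⟨q₁, hq₁, hG⟩ q₂ hq₂ Xk a b sq
    have hrel : fpt q₁.toHom = fpt q₂.toHom := by
      rw [← mk_eq_fpt_toHom', ← mk_eq_fpt_toHom', hq₁, hq₂]
    obtain ⟨Ω, _, w, i, j, hij⟩ := (fpt_eq_iff _ _).1 hrel
    let qΩ : FieldPt Y.obj := fieldPtOfHom Ω w ((yon S).map i ≫ q₁.toHom)
    have hqΩ : qΩ.toHom = (yon S).map i ≫ q₁.toHom := fieldPtOfHom_toHom _ _ _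
    have hR : ∀ ⦃P : Sp S⦄ (fst : P ⟶ X.obj) (snd : P ⟶ (yon S).obj qΩ.pt),
        IsPullback fst snd f.hom qΩ.toHom → IsReducedSp P := by
      intro P fst snd hP
      exact fibre_of_ext f.hom (fun Z => IsReducedSp Z) q₁ qΩ i hqΩ.symm hG fst snd hP
    exact isReducedSp_fibre_of_fieldExt X.property Y.property f.hom q₂ qΩ j
      (by rw [hqΩ, hij]) hR a b sq
  tfae_have 3 → 2 := by
    intro h3 q hq k' _ φ Xk' a b sq
    let q' : FieldPt Y.obj := fieldPtOfHom k' (Spec.map (CommRingCat.ofHom φ) ≫ q.str)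
      ((yon S).map (Over.homMk (Spec.map (CommRingCat.ofHom φ)) rfl :
        Over.mk (Spec.map (CommRingCat.ofHom φ) ≫ q.str) ⟶ q.pt) ≫ q.toHom)
    have hq't : q'.toHom = (yon S).map (Over.homMk (Spec.map (CommRingCat.ofHom φ)) rfl :
        Over.mk (Spec.map (CommRingCat.ofHom φ) ≫ q.str) ⟶ q.pt) ≫ q.toHom :=
      fieldPtOfHom_toHom _ _ _
    have hq' : Points.mk q' = y := by
      rw [mk_eq_fpt_toHom', hq't, fpt_comp_eq, ← mk_eq_fpt_toHom', hq]
    refine h3 q' hq' Xk' a b ?_
    rw [hq't]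
    exact sq
  tfae_finish

end Groth.Agent.S10686
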