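import Groth.Statements.S10690
import Groth.Agent.Lib.Helper14.GorSp3

set_option autoImplicit false
universe u
open CategoryTheory CategoryTheory.Limits AlgebraicGeometry
open AlgSp

namespace Groth.Agent.S10690

/-- For a morphism f : X ⟶ Y between algebraic spaces over S whose fibres are locally Noetherian, the
following are equivalent: (1) f is Gorenstein at every point of |X|; (2) f is flat and for some
scheme V with a representable etale surjective b : h_V ⟶ Y every fibre of X ×_Y V ⟶ V over a point v
of V (pullback along the residue field point of v) is a Gorenstein algebraic space (some etale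
surjective scheme chart is a Gorenstein scheme); (3) f is flat and the same holds for every scheme V
with a representable etale b : h_V ⟶ Y. Here f is Gorenstein at x when in every etale chart diagram
through x the top arrow is Gorenstein at the point over x (flat there, with Gorenstein local ring of
its fibre), and the fibres of a morphism are locally Noetherian when every fibre over a field point
(pullback in fppf sheaves) is a locally Noetherian algebraic space. (The published statement also
characterises being Gorenstein at a single point through strict henselizations; that part is stated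
separately and not included here.) -/
theorem result {S : Scheme.{u}} {X Y : AlgSp.Space S} (f : X ⟶ Y)
    (hf : ∀ (k : AlgSp.FieldPt Y.obj) (Xk : AlgSp.Sp S) (a : Xk ⟶ X.obj) (b : Xk ⟶ (AlgSp.yon S).obj k.pt),
        IsPullback a b f.hom k.toHom → AlgSp.IsLocNoethSp Xk) :
    [∀ x : AlgSp.Points X.obj, AlgSp.LocPAt (fun h u => Dual3.IsGorensteinAt h u) f.hom x,
      AlgSp.LocP @Flat f.hom ∧ ∃ (V : Over S) (b : (AlgSp.yon S).obj V ⟶ Y.obj),
        AlgSp.RepWith @Etale b ∧ AlgSp.RepWith @Surjective b ∧
          ∀ (v : ↥V.left) (Xv : AlgSp.Sp S) (a : Xv ⟶ X.obj)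
            (c : Xv ⟶ (AlgSp.yon S).obj (Over.mk (V.left.fromSpecResidueField v ≫ V.hom))),
            IsPullback a c f.hom ((AlgSp.yon S).map (Over.homMk (V.left.fromSpecResidueField v) rfl :
              Over.mk (V.left.fromSpecResidueField v ≫ V.hom) ⟶ V) ≫ b) →
            AlgSp.EtaleLocally Dual3.IsGorenstein Xv,
      AlgSp.LocP @Flat f.hom ∧ ∀ (V : Over S) (b : (AlgSp.yon S).obj V ⟶ Y.obj), AlgSp.RepWith @Etale b →
          ∀ (v : ↥V.left) (Xv : AlgSp.Sp S) (a : Xv ⟶ X.obj)
            (c : Xv ⟶ (AlgSp.yon S).obj (Over.mk (V.left.fromSpecResidueField v ≫ V.hom))),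
            IsPullback a c f.hom ((AlgSp.yon S).map (Over.homMk (V.left.fromSpecResidueField v) rfl :
              Over.mk (V.left.fromSpecResidueField v ≫ V.hom) ⟶ V) ≫ b) →
            AlgSp.EtaleLocally Dual3.IsGorenstein Xv].TFAE := by
  classical
  tfae_have 1 → 3 := by
    intro H1
    refine ⟨?_, ?_⟩
    · intro U V a b h ha hb comm
      exact (Flat.iff_flat_stalkMap _).2 fun u =>
        (H1 (AlgSp.Points.ofPt a u) a b h u ha hb comm rfl).1
    · intro V b hb v Xv a' c sq
      have sqP := IsPullback.of_hasPullback f.hom b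
      have hP : AlgSp.IsAlgSpace (pullback f.hom b) :=
        Groth.Agent.Lib.Helper14.AS.isAlgSpace_of_isPullback
          (Groth.Agent.Lib.Helper14.AS.repDiag_of_isAlgSpace Y.2) X.2 (AlgSp.IsAlgSpace.yon_obj V) sqP
      obtain ⟨U, p, hpe, hps⟩ := hP.atlas
      obtain ⟨h, hh⟩ := (AlgSp.yon S).map_surjective (p ≫ pullback.snd f.hom b)
      have hq1 : AlgSp.RepWith @Etale (pullback.fst f.hom b) :=
        Groth.Agent.Lib.Helper14.AS.repWith_of_isPullback _ sqP.flip hb
      have ha : AlgSp.RepWith @Etale (p ≫ pullback.fst f.hom b) :=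
        Groth.Agent.Lib.Helper14.AS.repWith_comp @Etale hpe hq1
      have comm : (p ≫ pullback.fst f.hom b) ≫ f.hom = (AlgSp.yon S).map h ≫ b := by
        rw [Category.assoc, pullback.condition, ← Category.assoc, hh]
      have hγ : pullback.lift (p ≫ pullback.fst f.hom b) ((AlgSp.yon S).map h) comm = p := by
        apply pullback.hom_ext
        · rw [pullback.lift_fst]
        · rw [pullback.lift_snd, hh]
      have hL := Groth.Agent.Lib.Helper14.AS.lnf_chart f.hom hf _ b h ha hb comm
      have := hL v
      refine Groth.Agent.Lib.Helper14.AS.etaleLocally_isGorenstein_of_fiber f.hom _ b h ha hb comm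
        (by rw [hγ]; exact hps) v a' c sq ?_
      rw [Groth.Agent.Lib.Helper14.AS.isGorenstein_fiber_iff]
      intro u _
      exact (H1 (AlgSp.Points.ofPt (p ≫ pullback.fst f.hom b) u) _ b h u ha hb comm rfl).2
  tfae_have 3 → 2 := by
    intro H
    obtain ⟨V, b, hbe, hbs⟩ := Y.2.atlas
    exact ⟨H.1, V, b, hbe, hbs, H.2 V b hbe⟩
  tfae_have 2 → 1 := by
    rintro ⟨hfl, V, b, hbe, hbs, HG⟩ x
    obtain ⟨U, a, h, hae, has, comm⟩ :=
      Groth.Agent.Lib.Helper14.AS.exists_chart_diagram X.2 f.hom b hbe hbs
    obtain ⟨u, rfl⟩ := Groth.Agent.Lib.Helper14.AS.ofPt_surjective_of_repWith has x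
    rw [Groth.Agent.Lib.Helper14.AS.locPAt_gor_iff f.hom hf a b h hae hbe comm u]
    have hflat : Flat h.left := hfl a b h hae hbe comm
    refine ⟨Flat.stalkMap h.left u, ?_⟩
    have hG := HG (h.left u) _ _ _ (IsPullback.of_hasPullback f.hom _)
    exact (Groth.Agent.Lib.Helper14.AS.isGorenstein_fiber_of_etaleLocally f.hom a b h hae hbe comm
      (h.left u) _ _ (IsPullback.of_hasPullback f.hom _) hG).2 _
  tfae_finish

end Groth.Agent.S10690
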