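import Groth.Statements.S10691
import Groth.Agent.Lib.Helper14.GorSp2

set_option autoImplicit false
universe u
open CategoryTheory CategoryTheory.Limits AlgebraicGeometry
open AlgSp

namespace Groth.Agent.S10691

/-- For locally Noetherian algebraic spaces X, Y over S and a flat morphism f : X ⟶ Y, with X Gorenstein
(some etale surjective scheme chart is a Gorenstein scheme): f is Gorenstein at every point of |X|,
and for every point x of |X| the etale local ring of Y at a geometric point over f(x), presented as
a strict henselization R of the local ring of an etale scheme chart V of Y at a point v over f(x),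
is a Gorenstein local ring. Here f is Gorenstein at x when in every etale chart diagram through x
the top arrow is Gorenstein at the point over x (flat there, with Gorenstein local ring of its
fibre), and the fibres of a morphism are locally Noetherian when every fibre over a field point
(pullback in fppf sheaves) is a locally Noetherian algebraic space. -/
theorem result {S : Scheme.{u}} {X Y : AlgSp.Space S} (f : X ⟶ Y) (hf : AlgSp.LocP @Flat f.hom)
    (hX1 : AlgSp.IsLocNoethSp X.obj) (hY1 : AlgSp.IsLocNoethSp Y.obj)
    (hX2 : AlgSp.EtaleLocally Dual3.IsGorenstein X.obj) :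
    (∀ x : AlgSp.Points X.obj, AlgSp.LocPAt (fun h u => Dual3.IsGorensteinAt h u) f.hom x) ∧
      ∀ (x : AlgSp.Points X.obj) (V : Over S) (b : (AlgSp.yon S).obj V ⟶ Y.obj), AlgSp.RepWith @Etale b →
        ∀ (v : ↥V.left), AlgSp.Points.ofPt b v = AlgSp.Points.map f.hom x →
          ∀ (R : Type u) [CommRing R] [IsLocalRing R] [Algebra ↥(V.left.presheaf.stalk v) R]
            [IsLocalHom (algebraMap ↥(V.left.presheaf.stalk v) R)]
            [Hensel.IsStrictHenselization ↥(V.left.presheaf.stalk v) R],
            LocCoh.IsGorensteinLocalRing R := by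
  classical
  have key : ∀ ⦃U V : Over S⦄ (a : (AlgSp.yon S).obj U ⟶ X.obj) (b : (AlgSp.yon S).obj V ⟶ Y.obj)
      (h : U ⟶ V), AlgSp.RepWith @Etale a → AlgSp.RepWith @Etale b →
      a ≫ f.hom = (AlgSp.yon S).map h ≫ b → ∀ u : ↥U.left,
      LocCoh.IsGorensteinLocalRing (V.left.presheaf.stalk (h.left u)) ∧
        LocCoh.IsGorensteinLocalRing
          ((h.left.fiber (h.left u)).presheaf.stalk (h.left.asFiber u)) := by
    intro U V a b h ha hb comm u
    have hU := Groth.Agent.Lib.Helper14.AS.isGorenstein_of_etale_over hX2 a ha
    have hV : IsLocallyNoetherian V.left :=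
      Groth.Agent.Lib.Helper14.AS.isLocallyNoetherian_of_etale_over hY1 b hb
    have := hU.1
    have hfl : Flat h.left := hf a b h ha hb comm
    exact (Groth.Agent.Lib.Helper14.AS.gor_stalk_iff_of_flat h.left u
      (Flat.stalkMap h.left u)).1 (hU.2 u)
  refine ⟨?_, ?_⟩
  · intro x U V a b h u ha hb comm _
    have hfl : Flat h.left := hf a b h ha hb comm
    exact ⟨Flat.stalkMap h.left u, (key a b h ha hb comm u).2⟩
  · intro x V b hb v hv R _ _ _ _ _
    obtain ⟨U, a, h, u, ha, comm, hux, huv⟩ :=
      Groth.Agent.Lib.Helper14.AS.exists_chart_diagram_over X.2 Y.2 f.hom b hb x v hv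
    subst huv
    have hV : IsLocallyNoetherian V.left :=
      Groth.Agent.Lib.Helper14.AS.isLocallyNoetherian_of_etale_over hY1 b hb
    exact (Groth.Agent.Lib.Helper14.AS.gor_strictHenselization_iff _ R).2
      (key a b h ha hb comm u).1

end Groth.Agent.S10691
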