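import Groth.Statements.S1071
import Groth.Agent.Lib.Lead.Koszul.Complex
import Groth.Agent.Lib.Helper29.TwistPn

set_option autoImplicit false
universe u
open CategoryTheory CategoryTheory.Limits AlgebraicGeometry
open Perf

namespace Groth.Agent.S1071

attribute [local instance] CategoryTheory.Abelian.hasFiniteBiproducts


/-- Let A be a ring, X = P^n_A and a ∈ ℤ. There is a cochain complex of O_X-modules, exact in every
degree, whose term in degree i is isomorphic to the direct sum of (n+1 choose i) copies of O_X(a +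
i) for 0 ≤ i ≤ n + 1 and is zero in all other degrees. -/
theorem result (n : ℕ) (A : Type u) [CommRing A] (a : ℤ) :
    ∃ C : CochainComplex (CohB1.ProjSpace n A).Modules ℤ, (∀ i : ℤ, C.ExactAt i) ∧
      (∀ i : ℕ, i ≤ n + 1 → Nonempty (C.X (i : ℤ) ≅ ∐ fun _ : Fin (Nat.choose (n + 1) i) => Twist.twistProjSpace n A (a + i))) ∧
      (∀ i : ℤ, i < 0 ∨ (n : ℤ) + 1 < i → IsZero (C.X i)) := by
  classical
  let f : Fin (n + 1) → CohB1.polyGrading n A 1 := fun l => Groth.Agent.Lib.Helper29.QCoh.Xi n A l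
  have hcov : ∀ x : Proj (CohB1.polyGrading n A), ∃ l : Fin (n + 1),
      x ∈ Proj.basicOpen (CohB1.polyGrading n A) (f l).1 :=
    fun x => Groth.Agent.Lib.Helper29.QCoh.exists_mem_basicOpen_X n A x
  refine ⟨Groth.Agent.Lib.Lead.Koszul.koszul (CohB1.polyGrading n A) f a,
    Groth.Agent.Lib.Lead.Koszul.koszul_exactAt (CohB1.polyGrading n A) f a hcov, ?_, ?_⟩
  · intro i _
    have hc : Fintype.card (Fin (Nat.choose (n + 1) i)) =
        Fintype.card (Groth.Agent.Lib.Lead.Koszul.Sub (Fin (n + 1)) i) := by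
      rw [Fintype.card_finset_len, Fintype.card_fin, Fintype.card_fin]
    let e : Fin (Nat.choose (n + 1) i) ≃ Groth.Agent.Lib.Lead.Koszul.Sub (Fin (n + 1)) i :=
      Fintype.equivOfCardEq hc
    have e1 : (Groth.Agent.Lib.Lead.Koszul.koszul (CohB1.polyGrading n A) f a).X (i : ℤ) ≅
        ∐ fun _ : Fin (Nat.choose (n + 1) i) => Twist.twist (CohB1.polyGrading n A) (a + i) :=
      Groth.Agent.Lib.Lead.Koszul.koszulXIso (CohB1.polyGrading n A) f a i ≪≫
        biproduct.isoCoproduct (fun _ : Groth.Agent.Lib.Lead.Koszul.Sub (Fin (n + 1)) i =>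
          Twist.twist (CohB1.polyGrading n A) (a + i)) ≪≫
        (Sigma.whiskerEquiv e (fun _ => Iso.refl _)).symm
    exact ⟨e1⟩
  · intro i hi
    rcases hi with hi | hi
    · exact Groth.Agent.Lib.Lead.Koszul.isZero_koszul_X_of_neg (CohB1.polyGrading n A) f a i hi
    · apply Groth.Agent.Lib.Lead.Koszul.isZero_koszul_X_of_card_lt (CohB1.polyGrading n A) f a i
      rw [Fintype.card_fin]
      push_cast
      exact hi

end Groth.Agent.S1071
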