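import Groth.Statements.S10721
-- import your own Groth.Agent.* helpers here
import Mathlib
import Groth.Agent.Lib.Helper12.BL2

set_option autoImplicit false
universe u
open TensorProduct
open EtAlg

namespace Groth.Agent.S10721

/-- Glueing along a glueing pair detects closed immersions of affine schemes, stated for coordinate
rings. Let `(R → R', f)` be a glueing pair and `φ : A → B` a homomorphism of `R`-algebras with `A`,
`B` glueable as `R`-modules (so `Spec A`, `Spec B` are affine and glueable over `Spec R`). Then `φ`
is surjective (a closed immersion on spectra) if and only if `A_f → B_f` and `R' ⊗_R A → R' ⊗_R B`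
are surjective. -/
theorem result (R : Type u) [CommRing R] (R' : Type u) [CommRing R'] [Algebra R R'] (f : R)
    (hRR' : EtGlue.IsGlueingPair R R' f) (A B : Type u) [CommRing A] [Algebra R A] [CommRing B] [Algebra R B]
    (hA : EtGlue.IsGlueable R R' f A) (hB : EtGlue.IsGlueable R R' f B) (φ : A →ₐ[R] B) :
    Function.Surjective φ ↔
      Function.Surjective (Localization.awayMap φ.toRingHom (algebraMap R A f)) ∧ Function.Surjective (Algebra.TensorProduct.map (AlgHom.id R R') φ).toRingHom := by
  have hq := hRR'.1
  constructor
  · intro hφ
    refine ⟨?_, ?_⟩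
    · rw [Localization.awayMap_surjective_iff]
      intro b
      obtain ⟨a, rfl⟩ := hφ b
      exact ⟨a, 0, by simp⟩
    · intro z
      have : Function.Surjective (TensorProduct.map (LinearMap.id : R' →ₗ[R] R') φ.toLinearMap) :=
        TensorProduct.map_surjective Function.surjective_id hφ
      obtain ⟨w, hw⟩ := this z
      refine ⟨w, ?_⟩
      rw [← hw]
      rfl
  · rintro ⟨h1, h2⟩
    rw [Localization.awayMap_surjective_iff] at h1
    have key : LinearMap.range φ.toLinearMap = ⊤ := by
      apply Groth.Agent.Lib.Helper12.BL.submodule_eq_top hq
      · intro b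
        obtain ⟨a, m, e⟩ := h1 b
        refine ⟨m, a, ?_⟩
        change φ a = _
        have e' : φ.toRingHom a = φ.toRingHom (algebraMap R A f) ^ m * b := e
        have e2 : φ.toRingHom (algebraMap R A f) = algebraMap R B f := φ.commutes f
        rw [e2] at e'
        change φ a = _ at e'
        rw [e', Algebra.smul_def, map_pow]
      · intro b
        obtain ⟨w, hw⟩ := h2 (1 ⊗ₜ[R] b)
        refine ⟨LinearMap.lTensor R' φ.toLinearMap.rangeRestrict w, ?_⟩
        rw [← LinearMap.comp_apply, ← LinearMap.lTensor_comp]
        have : (LinearMap.range φ.toLinearMap).subtype ∘ₗ φ.toLinearMap.rangeRestrict = φ.toLinearMap := by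
          ext x
          rfl
        rw [this, ← hw]
        rfl
    intro b
    have : b ∈ LinearMap.range φ.toLinearMap := by rw [key]; trivial
    obtain ⟨a, ha⟩ := this
    exact ⟨a, ha⟩

end Groth.Agent.S10721
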