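import Groth.Statements.S10723
-- import your own Groth.Agent.* helpers here
import Groth.Agent.Lib.Helper12.BL16
import Groth.Agent.S10722

set_option autoImplicit false
universe u
open TensorProduct
open EtAlg

namespace Groth.Agent.S10723

/-- Glueing along a glueing pair detects morphisms of affine schemes that are flat and of finite
presentation, stated for coordinate rings. Let `(R → R', f)` be a glueing pair and `φ : A → B` a
homomorphism of `R`-algebras with `A`, `B` glueable as `R`-modules (so `Spec A`, `Spec B` are affine
and glueable over `Spec R`). Then `φ` is flat and of finite presentation if and only if `A_f → B_f`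
and `R' ⊗_R A → R' ⊗_R B` are. -/
theorem result (R : Type u) [CommRing R] (R' : Type u) [CommRing R'] [Algebra R R'] (f : R)
    (hRR' : EtGlue.IsGlueingPair R R' f) (A B : Type u) [CommRing A] [Algebra R A] [CommRing B] [Algebra R B]
    (hA : EtGlue.IsGlueable R R' f A) (hB : EtGlue.IsGlueable R R' f B) (φ : A →ₐ[R] B) :
    (φ.toRingHom.Flat ∧ φ.toRingHom.FinitePresentation) ↔
      ((Localization.awayMap φ.toRingHom (algebraMap R A f)).Flat ∧ (Localization.awayMap φ.toRingHom (algebraMap R A f)).FinitePresentation) ∧
        ((Algebra.TensorProduct.map (AlgHom.id R R') φ).toRingHom.Flat ∧ (Algebra.TensorProduct.map (AlgHom.id R R') φ).toRingHom.FinitePresentation) := by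
  let _ : Algebra A B := φ.toRingHom.toAlgebra
  have : IsScalarTower R A B := IsScalarTower.of_algebraMap_eq' (by
    ext r
    exact (φ.commutes r).symm)
  have e : IsScalarTower.toAlgHom R A B = φ := by
    ext a
    rfl
  have etm : Groth.Agent.Lib.Helper12.BL.tmap R R' A B =
      Algebra.TensorProduct.map (AlgHom.id R R') φ := by
    unfold Groth.Agent.Lib.Helper12.BL.tmap
    rw [e]
  constructor
  · rintro ⟨hfl, hfp⟩
    refine ⟨⟨?_, ?_⟩, ⟨?_, ?_⟩⟩
    · exact RingHom.Flat.propertyIsLocal.localizationAwayPreserves φ.toRingHom
        (algebraMap R A f) _ _ hfl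
    · exact RingHom.finitePresentation_localizationPreserves.away φ.toRingHom
        (algebraMap R A f) _ _ hfp
    · exact RingHom.Flat.lTensor (S := R) R' (f := φ) hfl
    · rw [← etm]
      exact Groth.Agent.Lib.Helper12.BL.finitePresentation_tmap R R' A B hfp
  · rintro ⟨⟨h1, h1'⟩, ⟨h2, h2'⟩⟩
    have hft : φ.toRingHom.FiniteType :=
      (Groth.Agent.S10722.result R R' f hRR' A B hA hB φ).mpr
        ⟨RingHom.FiniteType.of_finitePresentation h1', RingHom.FiniteType.of_finitePresentation h2'⟩
    rw [← etm] at h2 h2'
    have hflat : Module.Flat A B :=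
      Groth.Agent.Lib.Helper12.BL.flat_algebra_of_glueingPair hRR' hA h1 h2
    have hft' : Algebra.FiniteType A B := hft
    exact ⟨hflat, Groth.Agent.Lib.Helper12.BL.finitePresentation_algebra_of_quotPowBijective
      hRR'.1 h1' h2'⟩

end Groth.Agent.S10723
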