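import Groth.Statements.S10724
-- import your own Groth.Agent.* helpers here
import Groth.Agent.Lib.Helper12.BL17
import Groth.Agent.S10723

set_option autoImplicit false
universe u
open TensorProduct
open EtAlg

namespace Groth.Agent.S10724

/-- Glueing along a glueing pair detects etale morphisms of affine schemes, stated for coordinate rings.
Let `(R → R', f)` be a glueing pair and `φ : A → B` a homomorphism of `R`-algebras with `A`, `B`
glueable as `R`-modules (so `Spec A`, `Spec B` are affine and glueable over `Spec R`). Then `φ` is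
etale if and only if `A_f → B_f` and `R' ⊗_R A → R' ⊗_R B` are. -/
theorem result (R : Type u) [CommRing R] (R' : Type u) [CommRing R'] [Algebra R R'] (f : R)
    (hRR' : EtGlue.IsGlueingPair R R' f) (A B : Type u) [CommRing A] [Algebra R A] [CommRing B] [Algebra R B]
    (hA : EtGlue.IsGlueable R R' f A) (hB : EtGlue.IsGlueable R R' f B) (φ : A →ₐ[R] B) :
    φ.toRingHom.Etale ↔ (Localization.awayMap φ.toRingHom (algebraMap R A f)).Etale ∧ (Algebra.TensorProduct.map (AlgHom.id R R') φ).toRingHom.Etale := by
  let _ : Algebra A B := φ.toRingHom.toAlgebra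
  have : IsScalarTower R A B := IsScalarTower.of_algebraMap_eq' (by
    ext r
    exact (φ.commutes r).symm)
  have e : IsScalarTower.toAlgHom R A B = φ := by
    ext a
    rfl
  have etm : Groth.Agent.Lib.Helper12.BL.tmap R R' A B =
      Algebra.TensorProduct.map (AlgHom.id R R') φ := by
    unfold Groth.Agent.Lib.Helper12.BL.tmap
    rw [e]
  constructor
  · intro h
    refine ⟨?_, ?_⟩
    · exact RingHom.Etale.propertyIsLocal.localizationAwayPreserves φ.toRingHom
        (algebraMap R A f) _ _ h
    · rw [← etm]
      exact Groth.Agent.Lib.Helper12.BL.tmap_of_isStableUnderBaseChange R R' A B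
        RingHom.Etale.isStableUnderBaseChange RingHom.Etale.respectsIso h
  · rintro ⟨h1, h2⟩
    rw [RingHom.Etale.iff_flat_and_formallyUnramified] at h1 h2 ⊢
    obtain ⟨h1a, h1b, h1c⟩ := h1
    obtain ⟨h2a, h2b, h2c⟩ := h2
    have hfp := (Groth.Agent.S10723.result R R' f hRR' A B hA hB φ).mpr
      ⟨⟨h1a, h1c⟩, ⟨h2a, h2c⟩⟩
    refine ⟨hfp.1, ?_, hfp.2⟩
    rw [← etm] at h2b
    exact Groth.Agent.Lib.Helper12.BL.formallyUnramified_algebra_of_quotPowBijective hRR'.1 h1b h2b

end Groth.Agent.S10724
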