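import Groth.Statements.S10727
-- import your own Groth.Agent.* helpers here
import Mathlib
import Groth.Agent.Lib.Helper12.BL6

set_option autoImplicit false
universe u
open TensorProduct
open EtAlg

namespace Groth.Agent.S10727

/-- Glueing affine schemes along a glueing pair, stated for their coordinate rings. Let `(R → R', f)` be
a glueing pair, `A₁` an `R`-algebra in which `f` is invertible, `A'` an `R'`-algebra and `φ : A'_f ≅
R' ⊗_R A₁` an isomorphism of `R'`-algebras. Then there is an `R`-algebra `A`, glueable as an
`R`-module, with isomorphisms `A_f ≅ A₁` of `R`-algebras and `R' ⊗_R A ≅ A'` of `R'`-algebras under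
which `φ` is the canonical identification `(R' ⊗_R A)_f = R' ⊗_R A_f`. (The published statement is
that base change is an equivalence between affine schemes over `Spec R` that are glueable and
triples of affine schemes over `Spec R_f`, `Spec R'_f`, `Spec R'` with cartesian squares; this row
states only that every such triple arises, on coordinate rings.) -/
theorem result (R : Type u) [CommRing R] (R' : Type u) [CommRing R'] [Algebra R R']
    (f : R) (hRR' : EtGlue.IsGlueingPair R R' f) (A₁ : Type u) [CommRing A₁] [Algebra R A₁]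
    (h₁ : IsUnit (algebraMap R A₁ f)) (A' : Type u) [CommRing A'] [Algebra R A'] [Algebra R' A']
    [IsScalarTower R R' A'] (φ : Localization.Away (algebraMap R A' f) ≃ₐ[R'] R' ⊗[R] A₁) :
    ∃ (A : Type u) (_ : CommRing A) (_ : Algebra R A) (_ : EtGlue.IsGlueable R R' f A)
      (e₁ : Localization.Away (algebraMap R A f) ≃ₐ[R] A₁) (e' : R' ⊗[R] A ≃ₐ[R'] A'),
      ∀ a : A, φ (algebraMap A' (Localization.Away (algebraMap R A' f)) (e' ((1 : R') ⊗ₜ[R] a))) =
        (1 : R') ⊗ₜ[R] e₁ (algebraMap A (Localization.Away (algebraMap R A f)) a) := by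
  classical
  let Af := Localization.Away (algebraMap R A' f)
  let aAlg : A' →ₐ[R'] R' ⊗[R] A₁ := φ.toAlgHom.comp (IsScalarTower.toAlgHom R' A' Af)
  let b : A₁ →ₐ[R] R' ⊗[R] A₁ := Algebra.TensorProduct.includeRight
  let A : Subalgebra R (A' × A₁) :=
    AlgHom.equalizer ((aAlg.restrictScalars R).comp (AlgHom.fst R A' A₁))
      (b.comp (AlgHom.snd R A' A₁))
  let p' : A →ₐ[R] A' := (AlgHom.fst R A' A₁).comp A.val
  let p₁ : A →ₐ[R] A₁ := (AlgHom.snd R A' A₁).comp A.val
  have hmem : ∀ z : A' × A₁, z ∈ A ↔ aAlg z.1 = (1 : R') ⊗ₜ[R] z.2 := by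
    intro z
    rw [AlgHom.mem_equalizer]
    rfl
  have hφr : ∀ r : R, φ (algebraMap A' Af (algebraMap R A' r)) = algebraMap R (R' ⊗[R] A₁) r := by
    intro r
    rw [← IsScalarTower.algebraMap_apply R A' Af, IsScalarTower.algebraMap_apply R R' Af,
      AlgEquiv.commutes, ← IsScalarTower.algebraMap_apply]
  have hG : Groth.Agent.Lib.Helper12.BL.GlueData f aAlg.toLinearMap p'.toLinearMap
      p₁.toLinearMap :=
    { bij := by
        have hu : IsUnit (algebraMap R (Module.End R A₁) f) := by
          rw [Module.End.isUnit_iff]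
          obtain ⟨u, hu⟩ := h₁
          refine ⟨fun x y hxy => ?_, fun y => ⟨(↑u⁻¹ : A₁) * y, ?_⟩⟩
          · simp only [Module.algebraMap_end_apply, Algebra.smul_def, ← hu] at hxy
            exact u.isUnit.mul_left_cancel hxy
          · simp only [Module.algebraMap_end_apply, Algebra.smul_def, ← hu]
            rw [← mul_assoc, Units.mul_inv, one_mul]
        rw [Module.End.isUnit_iff] at hu
        exact hu
      surj := by
        intro l
        obtain ⟨⟨x, ⟨_, n, rfl⟩⟩, hx⟩ := IsLocalization.surj
          (Submonoid.powers (algebraMap R A' f)) (φ.symm l)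
        refine ⟨n, x, ?_⟩
        have := congrArg φ hx
        simp only at this
        rw [map_mul, AlgEquiv.apply_symm_apply, ← map_pow, hφr] at this
        rw [Algebra.smul_def, mul_comm]
        exact this
      ker := by
        intro x hx
        have h0 : algebraMap A' Af x = 0 := by
          apply φ.injective
          rw [map_zero]
          exact hx
        rw [IsLocalization.map_eq_zero_iff (Submonoid.powers (algebraMap R A' f))] at h0
        obtain ⟨⟨_, n, rfl⟩, hn⟩ := h0
        refine ⟨n, ?_⟩
        rw [Algebra.smul_def, map_pow]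
        exact hn
      inj := by
        rintro ⟨⟨x, y⟩, hm⟩ h1 h2
        change x = 0 at h1
        change y = 0 at h2
        subst h1 h2
        rfl
      comm := by
        rintro ⟨⟨x, y⟩, hm⟩
        exact (hmem _).mp hm
      ex := by
        intro x y hxy
        exact ⟨⟨(x, y), (hmem _).mpr hxy⟩, rfl, rfl⟩ }
  have hloc := hG.isLocalizedModule
  -- the isomorphism `A_f ≅ A₁`
  let _ : Algebra A A₁ := p₁.toRingHom.toAlgebra
  have : IsScalarTower R A A₁ := IsScalarTower.of_algebraMap_eq' (by
    ext r
    exact (p₁.commutes r).symm)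
  have hloc' : IsLocalization.Away (algebraMap R A f) A₁ := by
    have e : (IsScalarTower.toAlgHom R A A₁).toLinearMap = p₁.toLinearMap := by
      ext x
      rfl
    have h2 : IsLocalization (Algebra.algebraMapSubmonoid A (Submonoid.powers f)) A₁ := by
      rw [← isLocalizedModule_iff_isLocalization, e]
      exact hloc
    have e2 : Algebra.algebraMapSubmonoid A (Submonoid.powers f) =
        Submonoid.powers (algebraMap R A f) := Submonoid.map_powers _ _
    rw [e2] at h2
    exact h2
  let e₁ : Localization.Away (algebraMap R A f) ≃ₐ[R] A₁ :=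
    (IsLocalization.algEquiv (Submonoid.powers (algebraMap R A f))
      (Localization.Away (algebraMap R A f)) A₁).restrictScalars R
  -- the isomorphism `R' ⊗ A ≅ A'`
  let εAlg : R' ⊗[R] A →ₐ[R'] A' :=
    Algebra.TensorProduct.lift (Algebra.ofId R' A') p' (fun _ _ => Commute.all _ _)
  have hε : ∀ ξ, εAlg ξ = p'.toLinearMap.liftBaseChange R' ξ := by
    intro ξ
    induction ξ using TensorProduct.induction_on with
    | zero => simp
    | add x y hx hy => rw [map_add, map_add, hx, hy]
    | tmul r' a =>
      rw [Algebra.TensorProduct.lift_tmul, LinearMap.liftBaseChange_tmul, Algebra.smul_def]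
      rfl
  have hbij : Function.Bijective εAlg := by
    have : ⇑εAlg = ⇑(p'.toLinearMap.liftBaseChange R') := funext hε
    rw [this]
    exact ⟨hG.lift_injective hRR', hG.lift_surjective hRR'.1⟩
  refine ⟨A, inferInstance, inferInstance, hG.isGlueable hRR', e₁,
    AlgEquiv.ofBijective εAlg hbij, ?_⟩
  intro a
  have h1 : (AlgEquiv.ofBijective εAlg hbij) ((1 : R') ⊗ₜ[R] a) = p' a := by
    rw [AlgEquiv.ofBijective_apply, hε, LinearMap.liftBaseChange_tmul, one_smul]
    rfl
  have h2 : e₁ (algebraMap A (Localization.Away (algebraMap R A f)) a) = p₁ a := by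
    change (IsLocalization.algEquiv (Submonoid.powers (algebraMap R A f))
      (Localization.Away (algebraMap R A f)) A₁) (algebraMap A _ a) = _
    rw [AlgEquiv.commutes]
    rfl
  rw [h1, h2]
  exact hG.comm a

end Groth.Agent.S10727
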