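import Groth.Statements.S1075
import Mathlib
import Groth.Agent.Lib.Helper17.RFRlim

set_option autoImplicit false
universe w v u
open CategoryTheory CategoryTheory.Limits
open CohDer

namespace Groth.Agent.S1075

/-- In D(A), for A abelian with enough injectives and countable products, every sequence of
bounded-below objects has a product, so derived limits of such sequences exist. -/
theorem result {A : Type u} [Category.{v} A] [Abelian A] [HasDerivedCategory.{w} A]
    [HasLimitsOfShape (Discrete ℕ) A] [EnoughInjectives A]
    (K : ℕ → DerivedCategory A) (hK : ∀ n, ∃ a : ℤ, (K n).IsGE a) : HasProduct K := by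
  classical
  haveI : HasProductsOfShape ℕ A := inferInstance
  have hex : ∀ n, ∃ (I : CochainComplex A ℤ) (_ : I.IsKInjective),
      Nonempty (K n ≅ DerivedCategory.Q.obj I) := by
    intro n
    obtain ⟨a, ha⟩ := hK n
    obtain ⟨L, hL, ⟨e⟩⟩ := DerivedCategory.exists_iso_Q_obj_of_isGE (K n) a
    obtain ⟨I, i, hi, hI, hIa⟩ :=
      CochainComplex.Plus.modelCategoryQuillen.exists_quasiIso_injective L a
    have hKI : I.IsKInjective := CochainComplex.isKInjective_of_injective I a
    have : IsIso (DerivedCategory.Q.map i) := by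
      rw [DerivedCategory.isIso_Q_map_iff_quasiIso]
      exact hi
    exact ⟨I, hKI, ⟨e ≪≫ asIso (DerivedCategory.Q.map i)⟩⟩
  choose I hI eI using hex
  haveI : ∀ n, (I n).IsKInjective := hI
  have hP := Groth.Agent.Lib.Helper17.RFRlim.isLimitFanOfIsKInjective I
  haveI : HasLimit (Discrete.functor (fun n => DerivedCategory.Q.obj (I n))) := ⟨⟨⟨_, hP⟩⟩⟩
  let e : Discrete.functor K ≅ Discrete.functor (fun n => DerivedCategory.Q.obj (I n)) :=
    Discrete.natIso (fun ⟨n⟩ => (eI n).some)
  exact hasLimit_of_iso e.symm

end Groth.Agent.S1075
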