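import Groth.Statements.S10750
import Groth.Agent.S10650
import Groth.Agent.Lib.Helper14.FibTop3
import Groth.Agent.Lib.Helper14.AlgSpProper
import Groth.Agent.Lib.Helper14.AlgSpDecent2

set_option autoImplicit false
universe u
open CategoryTheory CategoryTheory.Limits AlgebraicGeometry Opposite
open AlgSp

namespace Groth.Agent.S10750

/-- Take a proper morphism f : X ⟶ Y of algebraic spaces over S whose target Y is locally Noetherian,
and let y be a geometric point of Y such that the fibre X_y (a pullback of f along the corresponding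
morphism from the spectrum of the algebraically closed field) has finitely many points. Then there
is an open subspace V of Y containing the image of y such that the base change X ×_Y V ⟶ V is
finite. -/
theorem result {S : Scheme.{u}} {X Y : AlgSp.Space S}
    (f : X ⟶ Y) (hY : AlgSp.IsLocNoethSp Y.obj) (hf : AlgSp.IsProperMor f.hom) (y : AlgSp.FieldPt Y.obj)
    (hy : y.IsGeometric) (Xy : AlgSp.Sp S) (fst : Xy ⟶ X.obj) (snd : Xy ⟶ (AlgSp.yon S).obj y.pt)
    (hsq : IsPullback fst snd f.hom y.toHom) (hfin : Finite (AlgSp.Points Xy)) :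
    ∃ (V : AlgSp.Space S) (j : V ⟶ Y), AlgSp.RepWith @IsOpenImmersion j.hom ∧
      AlgSp.Points.mk y ∈ Set.range (AlgSp.Points.map j.hom) ∧
        ∀ (P : AlgSp.Space S) (fst' : P ⟶ X) (snd' : P ⟶ V), IsPullback fst'.hom snd'.hom f.hom j.hom →
          AlgSp.IsFiniteMor snd'.hom := by
  have hK : AlgSp.IsAlgSpace ((AlgSp.yon S).obj y.pt) := AlgSp.IsAlgSpace.yon_obj _
  have hXy : AlgSp.IsAlgSpace Xy := Groth.Agent.Lib.Helper14.AS.isAlgSpace_of_isPullback
    (Groth.Agent.Lib.Helper14.AS.repDiag_of_isAlgSpace Y.2) X.2 hK hsq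
  have hsndP : AlgSp.IsProperMor snd :=
    Groth.Agent.Lib.Helper14.AS.isProperMor_of_isPullback X.2 Y.2 hK hsq hf
  have hqs : AlgSp.IsQuasiSeparatedMor snd :=
    Groth.Agent.Lib.Helper14.AS.repWith_mono (fun _ _ _ h => by have := h; infer_instance) hsndP.1
  have hd : AlgSp.IsDecent Xy :=
    Groth.Agent.Lib.Helper14.AS.isDecent_of_isQuasiSeparatedMor_to_yon hXy snd hqs
  refine Groth.Agent.S10650.result f (AlgSp.Points.mk y) hf ?_
  intro x hx
  have hy' : AlgSp.Points.mk y ∈ Set.range (AlgSp.Points.map f.hom) := ⟨x, hx⟩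
  obtain ⟨h1, h2, -, -, h5, -⟩ := Groth.Agent.Lib.Helper14.AS.fibre_conditions X.2 Y.2 f.hom
    hf.2.1.1 y hy' Xy hXy fst snd hsq
  exact h2.1 (h1.1 (h5 hd hfin)) x hx

end Groth.Agent.S10750
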