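import Groth.Statements.S10767
import Groth.Agent.Lib.Helper24.IndEt4
import Groth.Agent.Lib.Helper14.LimX

set_option autoImplicit false
universe u
open CategoryTheory CategoryTheory.Limits AlgebraicGeometry
open AlgSp

namespace Groth.Agent.S10767

open CategoryTheory CategoryTheory.Limits AlgebraicGeometry Opposite
open AlgSp Groth.Agent.Lib.Helper14.AS Groth.Agent.Lib.Helper24.IndPt Groth.Agent.Lib.Helper24.IndChain
open Groth.Agent.Lib.Helper24.IndSq Groth.Agent.Lib.Helper24.IndReal Groth.Agent.Lib.Helper24.OpenSubSp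
open Groth.Agent.Lib.Helper24.CoprodSp Groth.Agent.Lib.Helper24.IndEt

set_option backward.isDefEq.respectTransparency.types false in
set_option maxHeartbeats 1600000 in

/-- Take a quasi-compact, quasi-separated algebraic space X over S, a family B of objects of the site of
algebraic spaces etale over X, and a property P of such objects. Assume (1) every member of B is
quasi-compact and quasi-separated, (2) a quasi-compact open subspace of a member of B is in B, (3)
every object isomorphic to an affine scheme is in B and satisfies P, and (4) for every elementary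
distinguished square (U ⊂ W, V ⟶ W) with W in B, U quasi-compact, V affine and any fibre product U
×_W V, whenever P is true of U, V and U ×_W V it is true of W. Then every member of B has property
P. Quasi-separatedness is relative to S with S quasi-separated. -/
theorem result {S : Scheme.{u}} [QuasiSeparatedSpace ↥S] (X : AlgSp.Space S)
    (hXc : AlgSp.IsQuasiCompactSp X.obj) (hXs : AlgSp.IsQuasiSeparatedSp X.obj)
    (B P : AlgSp.EtSpOver X → Prop)
    (h1 : ∀ W, B W → AlgSp.IsQuasiCompactSp W.obj.left.obj ∧ AlgSp.IsQuasiSeparatedSp W.obj.left.obj)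
    (h2 : ∀ (W U : AlgSp.EtSpOver X) (j : U ⟶ W), B W → AlgSp.RepWith @IsOpenImmersion j.hom.left.hom →
      AlgSp.IsQuasiCompactSp U.obj.left.obj → B U)
    (h3 : ∀ (V : AlgSp.EtSpOver X) (T : Over S), IsAffine T.left →
      Nonempty ((AlgSp.yon S).obj T ≅ V.obj.left.obj) → B V ∧ P V)
    (h4 : ∀ (W U V UV : AlgSp.EtSpOver X) (j : U ⟶ W) (f : V ⟶ W) (p : UV ⟶ U) (q : UV ⟶ V),
      B W → AlgSp.IsQuasiCompactSp U.obj.left.obj →
      (∃ T : Over S, IsAffine T.left ∧ Nonempty ((AlgSp.yon S).obj T ≅ V.obj.left.obj)) →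
      AlgSp.IsElemDistSq j.hom.left.hom f.hom.left.hom →
      IsPullback p.hom.left.hom q.hom.left.hom j.hom.left.hom f.hom.left.hom →
      P U → P V → P UV → P W) :
    ∀ W : AlgSp.EtSpOver X, B W → P W := by
  intro W hBW
  obtain ⟨hWc, hWs⟩ := h1 W hBW
  let Y : Space S := W.obj.left
  have hY : IsAlgSpace Y.obj := Y.property
  have hWet : IsEtaleMor W.obj.hom.hom := W.property
  have chain := chain_univ Y hWc hWs ∅
  have claim : ∀ O', Chain Y.obj ∅ O' → ∀ (Wt : EtSpOver X) (ι : Wt ⟶ W),
      RepWith @IsOpenImmersion ι.hom.left.hom → Set.range (Points.map ι.hom.left.hom) = O' → P Wt := by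
    intro O' hch
    induction hch with
    | refl =>
      intro Wt ι hι hr
      have hemp : IsEmpty (Points Wt.obj.left.obj) := Set.range_eq_empty_iff.1 hr
      obtain ⟨e₀⟩ := nonempty_hom_of_isEmpty X.obj (emptyOver S)
      obtain ⟨j₀⟩ := nonempty_hom_of_isEmpty Wt.obj.left.obj (emptyOver S)
      have hj₀o : RepWith @IsOpenImmersion j₀ :=
        Groth.Agent.Lib.Helper24.Slqf.repWith_isOpenImmersion_of_isEmpty j₀
      have he₀ : RepWith @Etale e₀ := repWith_mono isOpenImmersion_le_etale
        (Groth.Agent.Lib.Helper24.Slqf.repWith_isOpenImmersion_of_isEmpty e₀)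
      let U : EtSpOver X := mkY (emptyOver S) e₀ he₀
      let j : U ⟶ Wt := mkHomTo Wt (ObjectProperty.homMk j₀) (by
        ext1
        exact (subsingleton_hom_of_isEmpty X.obj (emptyOver S)).elim _ _)
      have hPU : P U := (h3 U (emptyOver S) inferInstance ⟨Iso.refl _⟩).2
      have hBWt : B Wt := h2 W Wt ι hBW hι
        (isQuasiCompactSp_of_isCompact_range Wt.obj.left.property hY _ hι (by rw [hr]; exact isCompact_empty))
      have hm : Mono j₀ := mono_of_openImmersion hj₀o
      refine h4 Wt U U U j j (𝟙 U) (𝟙 U) hBWt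
        ((isQuasiCompactSp_yon_iff _).2 inferInstance) ⟨emptyOver S, inferInstance, ⟨Iso.refl _⟩⟩
        ?_ ?_ hPU hPU hPU
      · refine isElemDistSq_of_ptIso (IsAlgSpace.yon_obj _) Wt.obj.left.property j₀ hj₀o j₀
          (repWith_mono isOpenImmersion_le_etale hj₀o) fun x _ => (hemp.false x).elim
      · exact IsKernelPair.id_of_mono j₀
    | @step O' V hV g hg h hpt ih =>
      intro Wt ι hι hr
      have hO' : IsOpen O' := h.isOpen isOpen_empty
      have hO'c : IsCompact O' := h.isCompact isCompact_empty
      have hWt : IsAlgSpace Wt.obj.left.obj := Wt.obj.left.property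
      have hιm : Mono ι.hom.left.hom := mono_of_openImmersion hι
      have hιw : ι.hom.left.hom ≫ W.obj.hom.hom = Wt.obj.hom.hom :=
        congrArg (fun m => m.hom) (Over.w ι.hom)
      -- the realisation of `O'`
      let W₁ : Space S := ⟨(openPred O').sheaf, isAlgSpace_openPred hY hO'⟩
      let j₁ : W₁ ⟶ Y := ObjectProperty.homMk (openPred O').ι
      have hj₁ : RepWith @IsOpenImmersion j₁.hom := repWith_openPred hO'
      have hr₁ : Set.range (Points.map j₁.hom) = O' := range_openPred hO'
      let U : EtSpOver X := mkE W₁ (j₁ ≫ W.obj.hom)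
        (Groth.Agent.Lib.Helper24.IndEt.isEtaleMor_comp (isEtaleMor_of_openImmersion hj₁) hWet)
      let ιU : U ⟶ W := mkHomTo W j₁ rfl
      have hPU : P U := ih U ιU hj₁ hr₁
      -- lifts to `Wt`
      obtain ⟨k₀, hk₀⟩ := exists_lift_of_range_subset hι j₁.hom (by
        rw [hr₁, hr]; exact Set.subset_union_left)
      obtain ⟨f₀, hf₀⟩ := exists_lift_yon_of_range_subset hι g (fun t => by
        rw [hr]; exact Or.inr ⟨t, rfl⟩)
      have hko : RepWith @IsOpenImmersion k₀ := by
        have sq := isPullback_of_factor_mono k₀ ι.hom.left.hom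
        rw [hk₀] at sq
        exact repWith_of_isPullback _ sq hj₁
      have hkr : Set.range (Points.map k₀) = Points.map ι.hom.left.hom ⁻¹' O' := by
        ext x
        constructor
        · rintro ⟨z, rfl⟩
          change Points.map ι.hom.left.hom (Points.map k₀ z) ∈ O'
          rw [← Points.map_comp, hk₀, ← hr₁]
          exact ⟨z, rfl⟩
        · intro hx
          change Points.map ι.hom.left.hom x ∈ O' at hx
          rw [← hr₁] at hx
          obtain ⟨z, hz⟩ := hx
          refine ⟨z, injective_of_openImmersion hι ?_⟩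
          rw [← Points.map_comp, hk₀, hz]
      have hkc : IsCompact (Set.range (Points.map k₀)) := by
        have hemb : Topology.IsOpenEmbedding (Points.map ι.hom.left.hom) :=
          Topology.IsOpenEmbedding.of_continuous_injective_isOpenMap (Points.continuous_map _)
            (injective_of_openImmersion hι)
            (isOpenMap_points_of_repWith_universallyOpen hY
              (repWith_mono Groth.Agent.Lib.Helper24.Filt8.openImm_le_univOpen hι))
        rw [hemb.isInducing.isCompact_iff, hkr, Set.image_preimage_eq_inter_range, hr]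
        rw [Set.inter_eq_left.2 Set.subset_union_left]
        exact hO'c
      have hWts : IsQuasiSeparatedSp Wt.obj.left.obj := isQuasiSeparatedSp_of_mono ι.hom.left.hom hWs
      -- the chart over `X`
      have hgX : RepWith @Etale (g ≫ W.obj.hom.hom) := hWet g hg
      let Vo : EtSpOver X := mkY V (g ≫ W.obj.hom.hom) hgX
      have hPV : P Vo := (h3 Vo V hV ⟨Iso.refl _⟩).2
      -- the fibre product
      have sq := hko.rep.isPullback f₀
      have hso : IsOpenImmersion (hko.rep.snd f₀).left := hko.property_snd f₀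
      have hQc : CompactSpace ↥(hko.rep.pullback f₀).left :=
        compactSpace_rep_pullback hWt hWts k₀ hko hkc f₀
      let UV : EtSpOver X := mkY (hko.rep.pullback f₀)
        ((yon S).map (hko.rep.snd f₀) ≫ g ≫ W.obj.hom.hom) (etale_comp_open _ hgX)
      have hPUV : P UV := p6' B P h2 h3 h4 V hV _ hgX _ (hko.rep.snd f₀) hso hQc
      -- the morphisms
      let j : U ⟶ Wt := mkHomTo Wt (ObjectProperty.homMk k₀) (by
        ext1
        change k₀ ≫ Wt.obj.hom.hom = (openPred O').ι ≫ W.obj.hom.hom
        rw [← hιw, ← Category.assoc, hk₀]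
        rfl)
      let f : Vo ⟶ Wt := mkHomTo Wt (ObjectProperty.homMk f₀) (by
        ext1
        change f₀ ≫ Wt.obj.hom.hom = g ≫ W.obj.hom.hom
        rw [← hιw, ← Category.assoc, hf₀])
      let p : UV ⟶ U := mkHom (ObjectProperty.homMk (hko.rep.fst f₀)) (by
        ext1
        change hko.rep.fst f₀ ≫ (openPred O').ι ≫ W.obj.hom.hom =
          (yon S).map (hko.rep.snd f₀) ≫ g ≫ W.obj.hom.hom
        have h1 : (openPred O').ι = k₀ ≫ ι.hom.left.hom := hk₀.symm
        rw [h1, ← hf₀, Category.assoc, ← Category.assoc (hko.rep.fst f₀), sq.w, Category.assoc,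
          Category.assoc])
      let q : UV ⟶ Vo := mkHom (ObjectProperty.homMk ((yon S).map (hko.rep.snd f₀))) (by
        ext1
        rfl)
      have hBWt : B Wt := h2 W Wt ι hBW hι
        (isQuasiCompactSp_of_isCompact_range hWt hY _ hι (by
          rw [hr]
          have : CompactSpace ↥V.left := inferInstance
          exact hO'c.union (isCompact_range (Points.continuous_ofPt g))))
      have hUc : IsQuasiCompactSp U.obj.left.obj :=
        isQuasiCompactSp_of_isCompact_range W₁.property hY _ hj₁ (hr₁.symm ▸ hO'c)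
      refine h4 Wt U Vo UV j f p q hBWt hUc ⟨V, hV, ⟨Iso.refl _⟩⟩ ?_ sq hPU hPV hPUV
      exact isElemDistSq_of_chain_step hY W₁.property hWt j₁.hom ι.hom.left.hom hj₁ hι k₀ hk₀ g hg
        f₀ hf₀ (by rw [hr, hr₁]) (by rw [hr₁]; exact hpt)
  refine claim _ chain W (𝟙 W) ?_ ?_
  · have : (𝟙 W : W ⟶ W).hom.left.hom = 𝟙 Y.obj := rfl
    rw [this]
    exact repWith_of_isIso _ _
  · have : (𝟙 W : W ⟶ W).hom.left.hom = 𝟙 Y.obj := rfl
    rw [this]
    exact Set.range_eq_univ.2 fun y => ⟨y, Points.map_id y⟩

end Groth.Agent.S10767
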