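import Groth.Statements.S10768
import Groth.Agent.Lib.Helper24.IndReal
import Groth.Agent.Lib.Helper24.CoprodSp
import Groth.Agent.Lib.Helper24.SlqfInd
import Groth.Agent.Lib.Helper14.AlgSpQCMor

set_option autoImplicit false
universe u
open CategoryTheory CategoryTheory.Limits AlgebraicGeometry
open AlgSp

namespace Groth.Agent.S10768

open CategoryTheory CategoryTheory.Limits AlgebraicGeometry Opposite
open AlgSp Groth.Agent.Lib.Helper14.AS Groth.Agent.Lib.Helper24.IndPt Groth.Agent.Lib.Helper24.IndChain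
open Groth.Agent.Lib.Helper24.IndSq Groth.Agent.Lib.Helper24.IndReal Groth.Agent.Lib.Helper24.OpenSubSp
open Groth.Agent.Lib.Helper24.CoprodSp

set_option backward.isDefEq.respectTransparency.types false in

/-- Let X be a quasi-compact and quasi-separated algebraic space over S, W ⊂ X a quasi-compact open
subspace, and P a property of open subspaces of X (pairs of an algebraic space and a representable
open immersion into X). Assume (1) W has property P, and (2) given any elementary distinguished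
square (W₁ ⊂ W₂, V ⟶ W₂) where W₁ ⊂ W₂ are quasi-compact open subspaces of X containing W and V is
affine, P for W₁ implies P for W₂. Then P holds for X (with its identity). Quasi-separatedness is
relative to S with S quasi-separated. -/
theorem result {S : Scheme.{u}} [QuasiSeparatedSpace ↥S] (X : AlgSp.Space S)
    (hXc : AlgSp.IsQuasiCompactSp X.obj) (hXs : AlgSp.IsQuasiSeparatedSp X.obj)
    (P : ∀ U : AlgSp.Space S, (U ⟶ X) → Prop)
    (W : AlgSp.Space S) (jW : W ⟶ X) (hjW : AlgSp.RepWith @IsOpenImmersion jW.hom)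
    (hWc : AlgSp.IsQuasiCompactSp W.obj) (h1 : P W jW)
    (h2 : ∀ (W₁ W₂ V : AlgSp.Space S) (j₁ : W₁ ⟶ X) (j₂ : W₂ ⟶ X) (k : W₁ ⟶ W₂) (m : W ⟶ W₁) (f : V ⟶ W₂),
      AlgSp.RepWith @IsOpenImmersion j₁.hom → AlgSp.RepWith @IsOpenImmersion j₂.hom →
      k ≫ j₂ = j₁ → m ≫ j₁ = jW →
      AlgSp.IsQuasiCompactSp W₁.obj → AlgSp.IsQuasiCompactSp W₂.obj →
      (∃ T : Over S, IsAffine T.left ∧ Nonempty ((AlgSp.yon S).obj T ≅ V.obj)) →
      AlgSp.IsElemDistSq k.hom f.hom → P W₁ j₁ → P W₂ j₂) :
    P X (𝟙 X) := by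
  have hX := X.property
  have hO₀c : IsCompact (Set.range (Points.map jW.hom)) := by
    have := compactSpace_points_of_isQuasiCompactSp hWc
    exact isCompact_range (Points.continuous_map _)
  have hO₀o : IsOpen (Set.range (Points.map jW.hom)) := isOpen_range_of_openImmersion hX _ hjW
  -- one step
  have stepP : ∀ (W₁ W₂ : Space S) (j₁ : W₁ ⟶ X) (j₂ : W₂ ⟶ X) (V : Over S) (hV : IsAffine V.left)
      (g : (yon S).obj V ⟶ X.obj),
      RepWith @IsOpenImmersion j₁.hom → RepWith @IsOpenImmersion j₂.hom → RepWith @Etale g →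
      Set.range (Points.map jW.hom) ⊆ Set.range (Points.map j₁.hom) →
      Set.range (Points.map j₁.hom) ⊆ Set.range (Points.map j₂.hom) →
      Set.range (Points.ofPt g) ⊆ Set.range (Points.map j₂.hom) →
      Set.range (Points.map j₂.hom) ⊆ Set.range (Points.map j₁.hom) ∪ Set.range (Points.ofPt g) →
      IsCompact (Set.range (Points.map j₁.hom)) → IsCompact (Set.range (Points.map j₂.hom)) →
      (∀ x ∈ Set.range (Points.ofPt g), x ∉ Set.range (Points.map j₁.hom) → PtIso g x) →
      P W₁ j₁ → P W₂ j₂ := by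
    intro W₁ W₂ j₁ j₂ V hV g hj₁ hj₂ hg hW1 h12 hg2 hcov hc1 hc2 hpt hP
    obtain ⟨k₀, hk₀⟩ := exists_lift_of_range_subset hj₂ j₁.hom h12
    obtain ⟨m₀, hm₀⟩ := exists_lift_of_range_subset hj₁ jW.hom hW1
    obtain ⟨f₀, hf₀⟩ := exists_lift_yon_of_range_subset hj₂ g (fun t => hg2 ⟨t, rfl⟩)
    let Vs : Space S := ⟨(yon S).obj V, IsAlgSpace.yon_obj V⟩
    refine h2 W₁ W₂ Vs j₁ j₂ (ObjectProperty.homMk k₀) (ObjectProperty.homMk m₀)
      (ObjectProperty.homMk f₀) hj₁ hj₂ ?_ ?_
      (isQuasiCompactSp_of_isCompact_range W₁.property hX _ hj₁ hc1)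
      (isQuasiCompactSp_of_isCompact_range W₂.property hX _ hj₂ hc2)
      ⟨V, hV, ⟨Iso.refl _⟩⟩ ?_ hP
    · ext1; exact hk₀
    · ext1; exact hm₀
    · exact isElemDistSq_of_chain_step hX W₁.property W₂.property j₁.hom j₂.hom hj₁ hj₂ k₀ hk₀ g hg
        f₀ hf₀ hcov hpt
  have chain := chain_univ X hXc hXs (Set.range (Points.map jW.hom))
  have claim : ∀ O', Chain X.obj (Set.range (Points.map jW.hom)) O' → ∀ (W₂ : Space S) (j₂ : W₂ ⟶ X),
      RepWith @IsOpenImmersion j₂.hom → Set.range (Points.map j₂.hom) = O' → P W₂ j₂ := by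
    intro O' hch
    induction hch with
    | refl =>
      intro W₂ j₂ hj₂ hr
      obtain ⟨g⟩ := nonempty_hom_of_isEmpty X.obj (emptyOver S)
      have hge : RepWith @Etale g := repWith_mono isOpenImmersion_le_etale
        (Groth.Agent.Lib.Helper24.Slqf.repWith_isOpenImmersion_of_isEmpty g)
      have hgr : Set.range (Points.ofPt g) = ∅ := Set.range_eq_empty_iff.2 inferInstance
      refine stepP W W₂ jW j₂ (emptyOver S) inferInstance g hjW hj₂ hge subset_rfl hr.ge ?_ ?_
        hO₀c (hr ▸ hO₀c) ?_ h1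
      · rw [hgr]; exact Set.empty_subset _
      · rw [hr]; exact Set.subset_union_left
      · rw [hgr]; intro x hx; exact absurd hx (Set.notMem_empty x)
    | @step O' V hV g hg h hpt ih =>
      intro W₂ j₂ hj₂ hr
      have hO' : IsOpen O' := h.isOpen hO₀o
      have hO'c : IsCompact O' := h.isCompact hO₀c
      let W₁ : Space S := ⟨(openPred O').sheaf, isAlgSpace_openPred hX hO'⟩
      let j₁ : W₁ ⟶ X := ObjectProperty.homMk (openPred O').ι
      have hj₁ : RepWith @IsOpenImmersion j₁.hom := repWith_openPred hO'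
      have hr₁ : Set.range (Points.map j₁.hom) = O' := range_openPred hO'
      have hP₁ : P W₁ j₁ := ih W₁ j₁ hj₁ hr₁
      refine stepP W₁ W₂ j₁ j₂ V hV g hj₁ hj₂ hg ?_ ?_ ?_ ?_ ?_ ?_ ?_ hP₁
      · rw [hr₁]; exact h.subset
      · rw [hr₁, hr]; exact Set.subset_union_left
      · rw [hr]; exact Set.subset_union_right
      · rw [hr, hr₁]
      · rw [hr₁]; exact hO'c
      · rw [hr]; exact hO'c.union (by
          have : CompactSpace ↥V.left := inferInstance
          exact isCompact_range (Points.continuous_ofPt g))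
      · rw [hr₁]; exact hpt
  refine claim _ chain X (𝟙 X) ?_ ?_
  · exact repWith_of_isIso _ _
  · have : (𝟙 X : X ⟶ X).hom = 𝟙 X.obj := rfl
    rw [this]
    exact Set.range_eq_univ.2 fun y => ⟨y, Points.map_id y⟩

end Groth.Agent.S10768
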