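import Groth.Statements.S1077
import Groth.Agent.Lib.Helper20.SubobjectLattice
import Mathlib.Order.OrderIsoNat
-- import your own Groth.Agent.* helpers here

set_option autoImplicit false
universe v u
open CategoryTheory CategoryTheory.Limits
open CohDer

namespace Groth.Agent.S1077


lemma wellFoundedLT_Iic_of_covBy {α : Type*} [Lattice α] [IsModularLattice α] {a b : α}
    (h : a ⋖ b) (hw : WellFoundedLT (Set.Iic a)) : WellFoundedLT (Set.Iic b) := by
  have hfin : Finite (Set.Icc a b) := by rw [h.Icc_eq]; infer_instance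
  have : WellFoundedLT (Set.Icc a b) := Finite.to_wellFoundedLT
  let f : Set.Iic b → Set.Iic a × Set.Icc a b := fun A =>
    (⟨A.1 ⊓ a, inf_le_right⟩, ⟨A.1 ⊔ a, le_sup_right, sup_le A.2 h.le⟩)
  have hf : StrictMono f := by
    intro A B hAB
    have := strictMono_inf_prod_sup (z := a) (show A.1 < B.1 from hAB)
    exact this
  exact hf.wellFoundedLT

lemma wellFoundedGT_Iic_of_covBy {α : Type*} [Lattice α] [IsModularLattice α] {a b : α}
    (h : a ⋖ b) (hw : WellFoundedGT (Set.Iic a)) : WellFoundedGT (Set.Iic b) := by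
  have hfin : Finite (Set.Icc a b) := by rw [h.Icc_eq]; infer_instance
  have : WellFoundedGT (Set.Icc a b) := Finite.to_wellFoundedGT
  let f : Set.Iic b → Set.Iic a × Set.Icc a b := fun A =>
    (⟨A.1 ⊓ a, inf_le_right⟩, ⟨A.1 ⊔ a, le_sup_right, sup_le A.2 h.le⟩)
  have hf : StrictMono f := by
    intro A B hAB
    have := strictMono_inf_prod_sup (z := a) (show A.1 < B.1 from hAB)
    exact this
  exact hf.wellFoundedGT

/-- An object X of an abelian category is Artinian and Noetherian if and only if there is a finite chain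
of subobjects ⊥ = F₀ ≤ F₁ ≤ … ≤ Fₙ = ⊤ of X whose successive quotients Fᵢ₊₁/Fᵢ are simple. -/
theorem result {A : Type u} [Category.{v} A] [Abelian A] (X : A) :
    (IsArtinianObject X ∧ IsNoetherianObject X) ↔
      ∃ (n : ℕ) (F : Fin (n + 1) → Subobject X) (hF : Monotone F), F 0 = ⊥ ∧ F (Fin.last n) = ⊤ ∧
        ∀ i : Fin n, Simple (cokernel (Subobject.ofLE (F (Fin.castSucc i)) (F (Fin.succ i)) (hF (Fin.castSucc_lt_succ (i := i)).le))) := by
  open Groth.Agent.Lib.Helper20 in
  constructor
  · rintro ⟨hA, hN⟩
    obtain ⟨a, ha0, n, han, hcov⟩ := exists_covBy_seq_of_wellFoundedLT_wellFoundedGT (Subobject X)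
    have hmono : Monotone (fun i : Fin (n + 1) => a i) := by
      have key : ∀ k j : ℕ, j + k ≤ n → a j ≤ a (j + k) := by
        intro k
        induction k with
        | zero => intro j _; exact le_rfl
        | succ k ih =>
          intro j hj
          exact (ih j (by omega)).trans (hcov (j + k) (by omega)).le
      intro i j hij
      obtain ⟨k, hk⟩ := Nat.exists_eq_add_of_le (show (i : ℕ) ≤ j from hij)
      have := key k i (by omega)
      simpa [hk] using this
    refine ⟨n, fun i => a i, hmono, ?_, ?_, ?_⟩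
    · simpa using ha0.eq_bot
    · simpa using han.eq_top
    · intro i
      exact simple_cokernel_of_covBy (by simpa using hcov i i.2)
  · rintro ⟨n, F, hF, hF0, hFn, hs⟩
    have hcov : ∀ i : Fin n, F i.castSucc ⋖ F i.succ := fun i => by
      have := hs i
      exact covBy_of_simple_cokernel (hF (Fin.castSucc_lt_succ (i := i)).le)
    have key : ∀ i : Fin (n + 1), WellFoundedLT (Set.Iic (F i)) ∧ WellFoundedGT (Set.Iic (F i)) := by
      intro i
      induction i using Fin.induction with
      | zero =>
        rw [hF0]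
        have : Subsingleton (Set.Iic (⊥ : Subobject X)) :=
          ⟨fun x y => Subtype.ext ((le_bot_iff.mp x.2).trans (le_bot_iff.mp y.2).symm)⟩
        exact ⟨Finite.to_wellFoundedLT, Finite.to_wellFoundedGT⟩
      | succ i ih =>
        exact ⟨wellFoundedLT_Iic_of_covBy (hcov i) ih.1, wellFoundedGT_Iic_of_covBy (hcov i) ih.2⟩
    have htop := key (Fin.last n)
    rw [hFn] at htop
    let f : Subobject X → Set.Iic (⊤ : Subobject X) := fun x => ⟨x, Set.mem_Iic.mpr le_top⟩
    have hf : StrictMono f := fun x y hxy => hxy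
    have := htop.1
    have := htop.2
    exact ⟨isArtinianObject.is_of_prop hf.wellFoundedLT,
      isNoetherianObject.is_of_prop hf.wellFoundedGT⟩

end Groth.Agent.S1077
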