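import Groth.Statements.S1078
import Groth.Agent.Lib.Helper20.SubobjectLattice
-- import your own Groth.Agent.* helpers here

set_option autoImplicit false
universe v u
open CategoryTheory CategoryTheory.Limits
open CohDer

namespace Groth.Agent.S1078


open Groth.Agent.Lib.Helper20 JordanHolderLattice in
/-- The lattice-theoretic `Iso` relation on intervals of subobjects implies an isomorphism
of the quotients. -/
lemma nonempty_iso_of_iso {A : Type u} [Category.{v} A] [Abelian A] {X : A}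
    {a b c d : Subobject X} (hab : a ≤ b) (hcd : c ≤ d)
    (h : JordanHolderLattice.Iso (a, b) (c, d)) :
    Nonempty (cokernel (Subobject.ofLE a b hab) ≅ cokernel (Subobject.ofLE c d hcd)) := by
  let e : Subobject X × Subobject X → Subobject X × Subobject X → Prop := fun p q =>
    p = q ∨ ∃ (h1 : p.1 ≤ p.2) (h2 : q.1 ≤ q.2),
      Nonempty (cokernel (Subobject.ofLE p.1 p.2 h1) ≅ cokernel (Subobject.ofLE q.1 q.2 h2))
  have he : e (a, b) (c, d) := by
    refine JordanHolderLattice.Iso.rel e (fun {x} => Or.inl rfl) ?_ ?_ ?_ h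
    · rintro x y (rfl | ⟨h1, h2, ⟨i⟩⟩)
      · exact Or.inl rfl
      · exact Or.inr ⟨h2, h1, ⟨i.symm⟩⟩
    · rintro x y z (rfl | ⟨h1, h2, ⟨i⟩⟩) (rfl | ⟨h3, h4, ⟨j⟩⟩)
      · exact Or.inl rfl
      · exact Or.inr ⟨h3, h4, ⟨j⟩⟩
      · exact Or.inr ⟨h1, h2, ⟨i⟩⟩
      · exact Or.inr ⟨h1, h4, ⟨i ≪≫ j⟩⟩
    · intro x y _
      exact Or.inr ⟨le_sup_left, inf_le_right, nonempty_cokernel_sup_iso x y⟩
  rcases he with heq | ⟨h1, h2, hi⟩
  · obtain ⟨rfl, rfl⟩ := Prod.mk.inj heq
    exact ⟨Iso.refl _⟩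
  · exact hi

/-- Let X be an object of an abelian category with two finite chains of subobjects ⊥ = F₀ ≤ … ≤ Fₙ = ⊤
and ⊥ = G₀ ≤ … ≤ Gₘ = ⊤ whose successive quotients are simple. Then n = m, and after transporting
along this equality there is a permutation σ of the indices with Fᵢ₊₁/Fᵢ ≅ G_{σ(i)+1}/G_{σ(i)} for
all i. -/
theorem result {A : Type u} [Category.{v} A] [Abelian A] (X : A)
    (n : ℕ) (F : Fin (n + 1) → Subobject X) (hF : Monotone F) (hF0 : F 0 = ⊥) (hFn : F (Fin.last n) = ⊤) (hFs : ∀ i : Fin n, Simple (cokernel (Subobject.ofLE (F (Fin.castSucc i)) (F (Fin.succ i)) (hF (Fin.castSucc_lt_succ (i := i)).le))))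
    (m : ℕ) (G : Fin (m + 1) → Subobject X) (hG : Monotone G) (hG0 : G 0 = ⊥) (hGm : G (Fin.last m) = ⊤) (hGs : ∀ j : Fin m, Simple (cokernel (Subobject.ofLE (G (Fin.castSucc j)) (G (Fin.succ j)) (hG (Fin.castSucc_lt_succ (i := j)).le)))) :
    ∃ (e : n = m) (σ : Equiv.Perm (Fin m)), ∀ i : Fin n,
      Nonempty (cokernel (Subobject.ofLE (F (Fin.castSucc i)) (F (Fin.succ i)) (hF (Fin.castSucc_lt_succ (i := i)).le)) ≅
        cokernel (Subobject.ofLE (G (Fin.castSucc (σ (Fin.cast e i)))) (G (Fin.succ (σ (Fin.cast e i)))) (hG (Fin.castSucc_lt_succ (i := σ (Fin.cast e i))).le))) := by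
  open Groth.Agent.Lib.Helper20 in
  let s₁ : CompositionSeries (Subobject X) :=
    ⟨n, F, fun i => by
      have := hFs i
      exact covBy_of_simple_cokernel (hF (Fin.castSucc_lt_succ (i := i)).le)⟩
  let s₂ : CompositionSeries (Subobject X) :=
    ⟨m, G, fun j => by
      have := hGs j
      exact covBy_of_simple_cokernel (hG (Fin.castSucc_lt_succ (i := j)).le)⟩
  obtain ⟨f, hf⟩ := CompositionSeries.jordan_holder s₁ s₂ (hF0.trans hG0.symm) (hFn.trans hGm.symm)
  have e : n = m := Fin.equiv_iff_eq.mp ⟨f⟩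
  subst e
  refine ⟨rfl, f, fun i => ?_⟩
  exact nonempty_iso_of_iso _ _ (hf i)

end Groth.Agent.S1078
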