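import Groth.Statements.S1686
import Groth.Agent.Lib.Helper10.RelCartierStalk
import Groth.Agent.Lib.Helper14.SchemeDim2
import Groth.Agent.Lib.Helper18.TopDim

set_option autoImplicit false
universe u
open CategoryTheory CategoryTheory.Limits AlgebraicGeometry TopologicalSpace
open SDiv

namespace Groth.Agent.S1686

section aux

theorem le_pred_of_add_one_le {a : WithBot ℕ∞} {n : ℕ∞} (h : a + 1 ≤ ((n + 1 : ℕ∞) : WithBot ℕ∞)) :
    a ≤ (n : WithBot ℕ∞) := by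
  induction a using WithBot.recBotCoe with
  | bot => exact bot_le
  | coe a =>
    have h1 : ((a + 1 : ℕ∞) : WithBot ℕ∞) ≤ ((n + 1 : ℕ∞) : WithBot ℕ∞) := by exact_mod_cast h
    have h2 : a + 1 ≤ n + 1 := WithBot.coe_le_coe.mp h1
    have h3 : a ≤ n := (ENat.add_le_add_iff_right ENat.one_ne_top).mp h2
    exact WithBot.coe_le_coe.mpr h3

end aux

/-- Let D be the closed subscheme of an effective Cartier divisor on a scheme S and d a point of D with
image s in S. If the local dimension of S at s is finite, then the local dimension of D at d is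
strictly smaller. -/
theorem result (S : Scheme.{u}) (𝓘 : S.IdealSheafData) (h𝓘 : BlowUp.IsEffCartierIdeal 𝓘) (d : ↥𝓘.subscheme)
    (hfin : FlatMor.localDim ↥S (𝓘.subschemeι d) ≠ ⊤) :
    FlatMor.localDim ↥𝓘.subscheme d < FlatMor.localDim ↥S (𝓘.subschemeι d) := by
  obtain ⟨⟨O, hsO⟩, hO⟩ : ∃ U : {U : TopologicalSpace.Opens S // 𝓘.subschemeι d ∈ U},
      topologicalKrullDim (U.1 : Set S) = FlatMor.localDim S (𝓘.subschemeι d) := by
    haveI : Nonempty {U : TopologicalSpace.Opens S // 𝓘.subschemeι d ∈ U} := ⟨⟨⊤, trivial⟩⟩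
    obtain ⟨U, hU⟩ := ciInf_mem
      (fun U : {U : TopologicalSpace.Opens S // 𝓘.subschemeι d ∈ U} =>
        topologicalKrullDim (U.1 : Set S))
    exact ⟨U, hU⟩
  have hstalk : ∀ d' : 𝓘.subscheme, ringKrullDim (𝓘.subscheme.presheaf.stalk d') + 1 ≤
      ringKrullDim (S.presheaf.stalk (𝓘.subschemeι d')) := by
    intro d'
    obtain ⟨h, hnzd, hmax, ⟨e⟩⟩ :=
      Groth.Agent.Lib.Helper10.RelCartier.exists_stalk_equiv 𝓘 h𝓘 d'
    rw [← ringKrullDim_eq_of_ringEquiv e]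
    exact ringKrullDim_quotient_succ_le_of_nonZeroDivisor hnzd
  have hdimO := Groth.Agent.Lib.Helper14.AS.topologicalKrullDim_opens_eq_iSup_stalk O
  have hdimD := Groth.Agent.Lib.Helper14.AS.topologicalKrullDim_opens_eq_iSup_stalk
    (𝓘.subschemeι ⁻¹ᵁ O)
  have hle : FlatMor.localDim 𝓘.subscheme d ≤
      topologicalKrullDim ↥((𝓘.subschemeι ⁻¹ᵁ O : 𝓘.subscheme.Opens) : Set 𝓘.subscheme) :=
    Groth.Agent.Lib.Helper18.TopDim.localDim_le_topologicalKrullDim_open (𝓘.subschemeι ⁻¹ᵁ O) hsO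
  refine lt_of_le_of_lt hle ?_
  rw [hdimD]
  have hterm : ∀ o : ↥((𝓘.subschemeι ⁻¹ᵁ O : 𝓘.subscheme.Opens) : Set 𝓘.subscheme),
      ringKrullDim (𝓘.subscheme.presheaf.stalk o.1) + 1 ≤
        FlatMor.localDim S (𝓘.subschemeι d) := fun o => (hstalk o.1).trans (by
    rw [← hO, hdimO]
    exact le_iSup (fun o : ↥(O : Set S) => ringKrullDim (S.presheaf.stalk o.1))
      ⟨𝓘.subschemeι o.1, o.2⟩)
  obtain ⟨n, hn⟩ : ∃ n : ℕ∞, FlatMor.localDim S (𝓘.subschemeι d) =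
      ((n + 1 : ℕ∞) : WithBot ℕ∞) := by
    have h1 : (1 : WithBot ℕ∞) ≤ FlatMor.localDim S (𝓘.subschemeι d) := by
      have h2 := hterm ⟨d, hsO⟩
      have h0 : (0 : WithBot ℕ∞) ≤ ringKrullDim (𝓘.subscheme.presheaf.stalk d) :=
        ringKrullDim_nonneg_of_nontrivial
      calc (1 : WithBot ℕ∞) = 0 + 1 := by simp
        _ ≤ ringKrullDim (𝓘.subscheme.presheaf.stalk d) + 1 := add_le_add_left h0 1
        _ ≤ _ := h2
    obtain ⟨m, hm⟩ := WithBot.ne_bot_iff_exists.mp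
      (ne_bot_of_le_ne_bot (by simp : (1 : WithBot ℕ∞) ≠ ⊥) h1)
    have h1m : 1 ≤ m := by
      rw [← hm] at h1
      exact_mod_cast h1
    refine ⟨m - 1, ?_⟩
    rw [← hm, tsub_add_cancel_of_le h1m]
  have hsup : (⨆ o : ↥((𝓘.subschemeι ⁻¹ᵁ O : 𝓘.subscheme.Opens) : Set 𝓘.subscheme),
      ringKrullDim (𝓘.subscheme.presheaf.stalk o.1)) ≤ (n : WithBot ℕ∞) :=
    iSup_le fun o => le_pred_of_add_one_le (hn ▸ hterm o)
  refine lt_of_le_of_lt hsup ?_
  rw [hn]
  have hnt : n ≠ ⊤ := by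
    rintro rfl
    apply hfin
    rw [hn]
    rfl
  exact WithBot.coe_lt_coe.mpr ((ENat.lt_add_one_iff hnt).mpr le_rfl)

end Groth.Agent.S1686
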