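import Groth.Statements.S10794
import Groth.Agent.S1686
import Groth.Agent.Lib.Helper14.AlgSpDim

set_option autoImplicit false
universe u
open CategoryTheory CategoryTheory.Limits AlgebraicGeometry Topology TopologicalSpace
open AlgSp

namespace Groth.Agent.S10794

/-- Let X be an algebraic space over a scheme S, D ⟶ X an effective Cartier divisor (one-chart sense)
and x a point of |D|. If the dimension of X at the image of x is d, in the sense that some etale
scheme chart of X has local dimension d at a point over it, and d is finite, then the dimension of D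
at x is strictly smaller: some etale scheme chart of D has local dimension less than d at a point
over x. -/
theorem result {S : Scheme.{u}} (X D : AlgSp.Space S) (i : D ⟶ X)
    (hD : AlgSp.IsEffCartierSub i.hom) (x : AlgSp.Points D.obj) (d : WithBot ℕ∞)
    (hd : AlgSp.HasAt (fun U u => FlatMor.localDim ↥U u = d) X.obj (AlgSp.Points.map i.hom x)) (hfin : d ≠ ⊤) :
    AlgSp.HasAt (fun V v => FlatMor.localDim ↥V v < d) D.obj x := by
  obtain ⟨-, V, φ, I, fst, hφe, hφs, sq, hI⟩ := hD
  obtain ⟨U, a, u, hae, hu, hdU⟩ := hd
  have hfe : AlgSp.RepWith @Etale fst := Groth.Agent.Lib.Helper14.AS.repWith_of_isPullback _ sq.flip hφe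
  have hfs : AlgSp.RepWith @Surjective fst := Groth.Agent.Lib.Helper14.AS.repWith_of_isPullback _ sq.flip hφs
  obtain ⟨z, hz⟩ := Groth.Agent.Lib.Helper14.AS.ofPt_surjective_of_repWith hfs x
  have e1 : AlgSp.Points.ofPt φ (I.subschemeι z) = AlgSp.Points.ofPt a u := by
    rw [hu, ← hz, AlgSp.Points.map_ofPt, sq.w]
    exact (Groth.Agent.Lib.Helper14.AS.ofPt_yon_map_comp
      (Over.homMk I.subschemeι rfl : Over.mk (I.subschemeι ≫ V.hom) ⟶ V) φ z).symm
  have e2 : FlatMor.localDim ↥V.left (I.subschemeι z) = d := by
    rw [← hdU]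
    exact Groth.Agent.Lib.Helper14.AS.localDim_chart_indep φ hφe a hae _ _ e1
  refine ⟨_, fst, z, hfe, hz, ?_⟩
  have := Groth.Agent.S1686.result V.left I hI z (by rw [e2]; exact hfin)
  rw [e2] at this
  exact this

end Groth.Agent.S10794
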