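import Groth.Statements.S1685
import Groth.Agent.Lib.Helper10.RelCartierStalk
import Groth.Agent.Lib.Helper18.SkLift

set_option autoImplicit false
universe u
open CategoryTheory CategoryTheory.Limits AlgebraicGeometry TopologicalSpace
open SDiv

namespace Groth.Agent.S1685

section aux

theorem le_pred_of_add_one_le {a : WithBot ℕ∞} {n : ℕ∞} (h : a + 1 ≤ ((n + 1 : ℕ∞) : WithBot ℕ∞)) :
    a ≤ (n : WithBot ℕ∞) := by
  induction a using WithBot.recBotCoe with
  | bot => exact bot_le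
  | coe a =>
    have h1 : ((a + 1 : ℕ∞) : WithBot ℕ∞) ≤ ((n + 1 : ℕ∞) : WithBot ℕ∞) := by exact_mod_cast h
    have h2 : a + 1 ≤ n + 1 := WithBot.coe_le_coe.mp h1
    have h3 : a ≤ n := (ENat.add_le_add_iff_right ENat.one_ne_top).mp h2
    exact WithBot.coe_le_coe.mpr h3

end aux

/-- Let X be a locally Noetherian scheme all of whose local rings satisfy Serre's condition (S_k), and
let D be the closed subscheme of an effective Cartier divisor. Then all local rings of D satisfy
(S_{k-1}). -/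
theorem result (X : Scheme.{u}) [IsLocallyNoetherian X] (k : ℕ)
    (hX : ∀ x : ↥X, min (k : WithBot ℕ∞) (ringKrullDim (X.presheaf.stalk x)) ≤
      ((LocCoh.depth (X.presheaf.stalk x) (X.presheaf.stalk x) : ℕ∞) : WithBot ℕ∞))
    (𝓘 : X.IdealSheafData) (h𝓘 : BlowUp.IsEffCartierIdeal 𝓘) (d : ↥𝓘.subscheme) :
    min ((k - 1 : ℕ) : WithBot ℕ∞) (ringKrullDim (𝓘.subscheme.presheaf.stalk d)) ≤
      ((LocCoh.depth (𝓘.subscheme.presheaf.stalk d) (𝓘.subscheme.presheaf.stalk d) : ℕ∞) : WithBot ℕ∞) := by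
  obtain ⟨h, hnzd, hmax, ⟨e⟩⟩ :=
    Groth.Agent.Lib.Helper10.RelCartier.exists_stalk_equiv 𝓘 h𝓘 d
  haveI : Nontrivial (X.presheaf.stalk (𝓘.subschemeι d) ⧸ Ideal.span {h}) :=
    e.toRingHom.domain_nontrivial
  haveI : IsLocalRing (X.presheaf.stalk (𝓘.subschemeι d) ⧸ Ideal.span {h}) :=
    IsLocalRing.of_surjective' (Ideal.Quotient.mk _) Ideal.Quotient.mk_surjective
  haveI : IsNoetherianRing (𝓘.subscheme.presheaf.stalk d) := isNoetherianRing_of_ringEquiv _ e
  have hreg : IsSMulRegular (X.presheaf.stalk (𝓘.subschemeι d)) h :=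
    Module.Flat.isSMulRegular_of_nonZeroDivisors hnzd
  have hdep := Groth.Agent.Lib.Helper18.SkLift.depth_quotient_span_singleton_succ
    (X.presheaf.stalk (𝓘.subschemeι d)) hmax hreg
  have hdim := ringKrullDim_quotient_span_singleton_succ_eq_ringKrullDim_of_mem_nonZeroDivisors
    hnzd hmax
  rw [← Groth.Agent.Lib.Helper18.Serre.depth_self_eq_of_ringEquiv e,
    ← ringKrullDim_eq_of_ringEquiv e]
  have hX' := hX (𝓘.subschemeι d)
  rw [← hdep, ← hdim] at hX'
  rcases Nat.eq_zero_or_pos k with hk | hk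
  · subst hk
    refine (min_le_left _ _).trans ?_
    simp
  · obtain ⟨k', rfl⟩ : ∃ k', k = k' + 1 := ⟨k - 1, by omega⟩
    simp only [Nat.add_sub_cancel]
    apply le_pred_of_add_one_le
    refine le_trans ?_ hX'
    rw [le_min_iff]
    constructor
    · have : ((k' + 1 : ℕ) : WithBot ℕ∞) = (k' : WithBot ℕ∞) + 1 := by push_cast; rfl
      rw [this]
      exact add_le_add_left (min_le_left _ _) 1
    · exact add_le_add_left (min_le_right _ _) 1

end Groth.Agent.S1685
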