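import Groth.Statements.S10820
import Mathlib
import Groth.Agent.Helper19.ProjDim4
-- import your own Groth.Agent.* helpers here

set_option autoImplicit false
universe u
open AlgebraicGeometry Topology TopologicalSpace
open Variety

namespace Groth.Agent.S10820

/-- For a field k, n ≥ 2 and a nonzero homogeneous polynomial f of degree d ≥ 1 in n + 1 variables, the
hypersurface V_+(f) in projective n-space over k (as a subspace of Proj of the polynomial ring
graded by degree) is connected and nonempty. -/
theorem result (k : Type u) [Field k] (n d : ℕ) (hn : 2 ≤ n)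
    (f : MvPolynomial (Fin (n + 1)) k) (hf : f.IsHomogeneous d) (hd : 0 < d) (hf0 : f ≠ 0) :
    IsConnected (ProjectiveSpectrum.zeroLocus (CohB1.polyGrading n k)
      ({f} : Set (MvPolynomial (Fin (n + 1)) k))) := by
  classical
  have hfS : (Ideal.span {f}).IsHomogeneous (CohB1.polyGrading n k) :=
    Groth.Agent.Helper19.ProjDim.span_singleton_isHomogeneous k n f d hf
  have hfm : f ∈ Groth.Agent.Helper19.ProjDim.mplus k n :=
    HomogeneousIdeal.mem_irrelevant_of_mem (CohB1.polyGrading n k) hd hf
  have hmem : ∀ z : ProjectiveSpectrum (CohB1.polyGrading n k),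
      z ∈ ProjectiveSpectrum.zeroLocus (CohB1.polyGrading n k)
        ({f} : Set (MvPolynomial (Fin (n + 1)) k)) ↔ f ∈ z.asHomogeneousIdeal.toIdeal := by
    intro z
    rw [ProjectiveSpectrum.mem_zeroLocus, Set.singleton_subset_iff]
    exact Iff.rfl
  have hcohb : Order.coheight (Groth.Agent.Helper19.ProjDim.botPt k n) = (n : ℕ∞) :=
    Groth.Agent.Helper19.ProjDim.coheight_botPt k n
  constructor
  · have h1 : 1 ≤ Order.coheight (Groth.Agent.Helper19.ProjDim.botPt k n) := by
      rw [hcohb]
      exact_mod_cast (by omega : 1 ≤ n)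
    obtain ⟨y, _, hfy⟩ := Groth.Agent.Helper19.ProjDim.exists_pt_section k n _ h1 f hfS hfm
    exact ⟨y, (hmem y).mpr hfy⟩
  · apply isPreconnected_of_forall_pair
    intro a ha b hb
    rw [hmem] at ha hb
    obtain ⟨fa, hfa1, hfa2, hfa3, hfa4⟩ :=
      Groth.Agent.Helper19.ProjDim.exists_irreducible_factor_mem k n a f hf0 hfS ha
    obtain ⟨fb, hfb1, hfb2, hfb3, hfb4⟩ :=
      Groth.Agent.Helper19.ProjDim.exists_irreducible_factor_mem k n b f hf0 hfS hb
    let ya := Groth.Agent.Helper19.ProjDim.ptOfIrreducible k n fa hfa1 _ hfa2 a hfa3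
    let yb := Groth.Agent.Helper19.ProjDim.ptOfIrreducible k n fb hfb1 _ hfb2 b hfb3
    have hya : ya.asHomogeneousIdeal.toIdeal = Ideal.span {fa} := rfl
    have hyb : yb.asHomogeneousIdeal.toIdeal = Ideal.span {fb} := rfl
    have hyaa : ya ≤ a := by
      rw [Groth.Agent.Helper19.ProjDim.le_iff_ideal_le, hya]
      exact (Ideal.span_singleton_le_iff_mem _).mpr hfa3
    have hybb : yb ≤ b := by
      rw [Groth.Agent.Helper19.ProjDim.le_iff_ideal_le, hyb]
      exact (Ideal.span_singleton_le_iff_mem _).mpr hfb3
    have hfya : f ∈ ya.asHomogeneousIdeal.toIdeal := by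
      rw [hya]; exact Ideal.mem_span_singleton.mpr hfa4
    have hfyb : f ∈ yb.asHomogeneousIdeal.toIdeal := by
      rw [hyb]; exact Ideal.mem_span_singleton.mpr hfb4
    -- the dimension of `V_+(fa)`
    have hdrop := Groth.Agent.Helper19.ProjDim.dim_drop_pt k n
      (Groth.Agent.Helper19.ProjDim.botPt k n) fa
      (Groth.Agent.Helper19.ProjDim.span_singleton_isHomogeneous k n fa _ hfa2)
      (by
        rw [Groth.Agent.Helper19.ProjDim.botPt_toIdeal, Ideal.mem_bot]
        exact hfa1.ne_zero)
      ya (Groth.Agent.Helper19.ProjDim.botPt_le k n ya)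
      (by rw [hya]; exact Ideal.mem_span_singleton_self fa)
      (by
        intro z _ hfz hzy
        apply le_antisymm hzy
        rw [Groth.Agent.Helper19.ProjDim.le_iff_ideal_le, hya]
        exact (Ideal.span_singleton_le_iff_mem _).mpr hfz)
    rw [hcohb] at hdrop
    have h1 : 1 ≤ Order.coheight ya := by
      obtain ⟨c, hc⟩ := ENat.ne_top_iff_exists.mp
        (Groth.Agent.Helper19.ProjDim.coheight_ne_top k n ya)
      rw [← hc] at hdrop ⊢
      have : n = c + 1 := by exact_mod_cast hdrop
      have : 1 ≤ c := by omega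
      exact_mod_cast this
    have hfbm : fb ∈ Groth.Agent.Helper19.ProjDim.mplus k n :=
      (Groth.Agent.Helper19.ProjDim.ideal_lt_mplus k n b).le hfb3
    obtain ⟨c, hyac, hfbc⟩ := Groth.Agent.Helper19.ProjDim.exists_pt_section k n ya h1 fb
      (Groth.Agent.Helper19.ProjDim.span_singleton_isHomogeneous k n fb _ hfb2) hfbm
    have hybc : yb ≤ c := by
      rw [Groth.Agent.Helper19.ProjDim.le_iff_ideal_le, hyb]
      exact (Ideal.span_singleton_le_iff_mem _).mpr hfbc
    refine ⟨closure {ya} ∪ closure {yb}, ?_, Or.inl ?_, Or.inr ?_, ?_⟩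
    · apply Set.union_subset
      · intro z hz
        rw [Groth.Agent.Helper19.ProjDict.mem_closure_singleton_iff] at hz
        rw [hmem]
        exact (Groth.Agent.Helper19.ProjDim.le_iff_ideal_le k n ya z).mp hz hfya
      · intro z hz
        rw [Groth.Agent.Helper19.ProjDict.mem_closure_singleton_iff] at hz
        rw [hmem]
        exact (Groth.Agent.Helper19.ProjDim.le_iff_ideal_le k n yb z).mp hz hfyb
    · exact (Groth.Agent.Helper19.ProjDict.mem_closure_singleton_iff _ ya a).mpr hyaa
    · exact (Groth.Agent.Helper19.ProjDict.mem_closure_singleton_iff _ yb b).mpr hybb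
    · exact IsPreconnected.union c
        ((Groth.Agent.Helper19.ProjDict.mem_closure_singleton_iff _ ya c).mpr hyac)
        ((Groth.Agent.Helper19.ProjDict.mem_closure_singleton_iff _ yb c).mpr hybc)
        isPreconnected_singleton.closure isPreconnected_singleton.closure

end Groth.Agent.S10820
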