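import Groth.Statements.S10821
import Mathlib
import Groth.Agent.Helper19.ProjDim4
-- import your own Groth.Agent.* helpers here

set_option autoImplicit false
universe u
open AlgebraicGeometry Topology TopologicalSpace
open Variety

namespace Groth.Agent.S10821

/-- For a field k and an irreducible closed subset Z of projective n-space over k, Z has codimension 1
(the longest chain of irreducible closed subsets strictly above Z has length 1) if and only if Z is
the zero set V_+(f) of an irreducible homogeneous polynomial f in n + 1 variables. -/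
theorem result (k : Type u) [Field k] (n : ℕ)
    (Z : TopologicalSpace.IrreducibleCloseds (ProjectiveSpectrum (CohB1.polyGrading n k))) :
    Order.coheight Z = 1 ↔
      ∃ (d : ℕ) (f : MvPolynomial (Fin (n + 1)) k), f.IsHomogeneous d ∧ Irreducible f ∧
        (Z : Set (ProjectiveSpectrum (CohB1.polyGrading n k))) =
          ProjectiveSpectrum.zeroLocus (CohB1.polyGrading n k) ({f} : Set (MvPolynomial (Fin (n + 1)) k)) := by
  classical
  rw [Groth.Agent.Helper19.ProjDict.coheight_eq_height_genPt,
    Groth.Agent.Helper19.ProjDim.height_eq_one_iff]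
  have hZ := Groth.Agent.Helper19.ProjDict.coe_eq_closure_genPt (CohB1.polyGrading n k) Z
  have hcl : ∀ x : ProjectiveSpectrum (CohB1.polyGrading n k),
      closure ({x} : Set (ProjectiveSpectrum (CohB1.polyGrading n k))) =
        ProjectiveSpectrum.zeroLocus (CohB1.polyGrading n k)
          ((x.asHomogeneousIdeal.toIdeal : Ideal (MvPolynomial (Fin (n + 1)) k)) :
            Set (MvPolynomial (Fin (n + 1)) k)) :=
    fun x => Groth.Agent.Helper19.ProjDict.closure_singleton (CohB1.polyGrading n k) x
  constructor
  · rintro ⟨f, hirr, ⟨d, hd⟩, hx⟩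
    refine ⟨d, f, hd, hirr, ?_⟩
    rw [hZ, hcl, hx, ProjectiveSpectrum.zeroLocus_span]
  · rintro ⟨d, f, hd, hirr, hZf⟩
    obtain ⟨z, hz⟩ := Z.isIrreducible.nonempty
    have hfz : f ∈ z.asHomogeneousIdeal.toIdeal := by
      have : z ∈ ProjectiveSpectrum.zeroLocus (CohB1.polyGrading n k)
          ({f} : Set (MvPolynomial (Fin (n + 1)) k)) := by
        rw [← hZf]; exact hz
      rw [ProjectiveSpectrum.mem_zeroLocus, Set.singleton_subset_iff] at this
      exact this
    let y := Groth.Agent.Helper19.ProjDim.ptOfIrreducible k n f hirr d hd z hfz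
    have hy : (Z : Set (ProjectiveSpectrum (CohB1.polyGrading n k))) =
        closure ({y} : Set (ProjectiveSpectrum (CohB1.polyGrading n k))) := by
      rw [hZf, hcl, Groth.Agent.Helper19.ProjDim.ptOfIrreducible_toIdeal,
        ProjectiveSpectrum.zeroLocus_span]
    have hZy : Z = Groth.Agent.Helper19.ProjDict.clPt (CohB1.polyGrading n k) y :=
      TopologicalSpace.IrreducibleCloseds.ext hy
    refine ⟨f, hirr, ⟨d, hd⟩, ?_⟩
    rw [hZy, Groth.Agent.Helper19.ProjDict.genPt_clPt]
    rfl

end Groth.Agent.S10821
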