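import Groth.Statements.S10822
import Mathlib
import Groth.Agent.Helper19.ProjDim2
-- import your own Groth.Agent.* helpers here

set_option autoImplicit false
universe u
open AlgebraicGeometry Topology TopologicalSpace
open Variety

namespace Groth.Agent.S10822

/-- Let k be a field, X an irreducible closed subset of projective n-space over k of positive dimension,
and f a homogeneous polynomial in n + 1 variables whose zero set V_+(f) is nonempty and does not
contain X. Then X meets V_+(f), and every irreducible component C of X ∩ V_+(f) has dim C + 1 = dim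
X, i.e. codimension 1 in X (all maximal chains of irreducible closed subsets of X have length dim
X). -/
theorem result (k : Type u) [Field k] (n d : ℕ)
    (X : Set (ProjectiveSpectrum (CohB1.polyGrading n k))) (hXc : IsClosed X) (hXi : IsIrreducible X)
    (hXd : 0 < topologicalKrullDim ↥X)
    (f : MvPolynomial (Fin (n + 1)) k) (hf : f.IsHomogeneous d)
    (hV : (ProjectiveSpectrum.zeroLocus (CohB1.polyGrading n k)
      ({f} : Set (MvPolynomial (Fin (n + 1)) k))).Nonempty)
    (hX : ¬ X ⊆ ProjectiveSpectrum.zeroLocus (CohB1.polyGrading n k)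
      ({f} : Set (MvPolynomial (Fin (n + 1)) k))) :
    (X ∩ ProjectiveSpectrum.zeroLocus (CohB1.polyGrading n k)
        ({f} : Set (MvPolynomial (Fin (n + 1)) k))).Nonempty ∧
      ∀ C ∈ irreducibleComponents ↥(X ∩ ProjectiveSpectrum.zeroLocus (CohB1.polyGrading n k)
          ({f} : Set (MvPolynomial (Fin (n + 1)) k))),
        topologicalKrullDim ↥C + 1 = topologicalKrullDim ↥X := by
  classical
  obtain ⟨x, hx⟩ := Groth.Agent.Helper19.ProjDict.exists_generic (CohB1.polyGrading n k) X hXi hXc
  subst hx
  have hfS : (Ideal.span {f}).IsHomogeneous (CohB1.polyGrading n k) :=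
    Ideal.homogeneous_span (CohB1.polyGrading n k) {f} (by rintro _ rfl; exact ⟨d, hf⟩)
  have hfx : f ∉ x.asHomogeneousIdeal.toIdeal := by
    intro h
    apply hX
    intro z hz
    rw [Groth.Agent.Helper19.ProjDict.mem_closure_singleton_iff] at hz
    rw [ProjectiveSpectrum.mem_zeroLocus, Set.singleton_subset_iff]
    exact (Groth.Agent.Helper19.ProjDim.le_iff_ideal_le k n x z).mp hz h
  have hfm : f ∈ Groth.Agent.Helper19.ProjDim.mplus k n := by
    obtain ⟨z, hz⟩ := hV
    rw [ProjectiveSpectrum.mem_zeroLocus, Set.singleton_subset_iff] at hz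
    exact (Groth.Agent.Helper19.ProjDim.ideal_lt_mplus k n z).le hz
  have hdimX := Groth.Agent.Helper19.ProjDict.topologicalKrullDim_closure_singleton
    (CohB1.polyGrading n k) x
  have hpos : 1 ≤ Order.coheight x := by
    rw [hdimX] at hXd
    have h0 : (0 : ℕ∞) < Order.coheight x := by exact_mod_cast hXd
    exact Order.one_le_iff_pos.mpr h0
  constructor
  · obtain ⟨y, hxy, hfy⟩ := Groth.Agent.Helper19.ProjDim.exists_pt_section k n x hpos f hfS hfm
    refine ⟨y, (Groth.Agent.Helper19.ProjDict.mem_closure_singleton_iff _ x y).mpr hxy, ?_⟩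
    rw [ProjectiveSpectrum.mem_zeroLocus, Set.singleton_subset_iff]
    exact hfy
  · intro C hC
    have hWc : IsClosed (closure ({x} : Set (ProjectiveSpectrum (CohB1.polyGrading n k))) ∩
        ProjectiveSpectrum.zeroLocus (CohB1.polyGrading n k)
          ({f} : Set (MvPolynomial (Fin (n + 1)) k))) :=
      isClosed_closure.inter (ProjectiveSpectrum.isClosed_zeroLocus _ _)
    obtain ⟨y, hyW, hymin, hydim⟩ := Groth.Agent.Helper19.ProjDict.component_generic
      (CohB1.polyGrading n k) _ hWc C hC
    rw [hydim, hdimX]
    have hxy : x ≤ y := (Groth.Agent.Helper19.ProjDict.mem_closure_singleton_iff _ x y).mp hyW.1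
    have hfy : f ∈ y.asHomogeneousIdeal.toIdeal := by
      have := hyW.2
      rw [ProjectiveSpectrum.mem_zeroLocus, Set.singleton_subset_iff] at this
      exact this
    have key := Groth.Agent.Helper19.ProjDim.dim_drop_pt k n x f hfS hfx y hxy hfy
      (fun z hxz hfz hzy => hymin z
        ⟨(Groth.Agent.Helper19.ProjDict.mem_closure_singleton_iff _ x z).mpr hxz, by
          rw [ProjectiveSpectrum.mem_zeroLocus, Set.singleton_subset_iff]
          exact hfz⟩ hzy)
    rw [key]
    push_cast
    rfl

end Groth.Agent.S10822
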