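import Groth.Statements.S10823
import Mathlib
import Groth.Agent.Helper19.ProjDim3
-- import your own Groth.Agent.* helpers here

set_option autoImplicit false
universe u
open AlgebraicGeometry Topology TopologicalSpace
open Variety

namespace Groth.Agent.S10823

/-- Let k be a field, X an irreducible closed subset of projective n-space over k, and f_1, …, f_r
nonzero homogeneous polynomials of positive degrees in n + 1 variables. Then every irreducible
component C of X ∩ V_+(f_1, …, f_r) has codimension at most r in X, i.e. dim X ≤ dim C + r, and if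
dim X ≥ r the intersection is nonempty. -/
theorem result (k : Type u) [Field k] (n r : ℕ)
    (X : Set (ProjectiveSpectrum (CohB1.polyGrading n k))) (hXc : IsClosed X) (hXi : IsIrreducible X)
    (f : Fin r → MvPolynomial (Fin (n + 1)) k) (d : Fin r → ℕ)
    (hf : ∀ i, (f i).IsHomogeneous (d i)) (hd : ∀ i, 0 < d i) (hf0 : ∀ i, f i ≠ 0) :
    (∀ C ∈ irreducibleComponents ↥(X ∩ ProjectiveSpectrum.zeroLocus (CohB1.polyGrading n k) (Set.range f)),
        topologicalKrullDim ↥X ≤ topologicalKrullDim ↥C + (r : WithBot ℕ∞)) ∧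
      ((r : WithBot ℕ∞) ≤ topologicalKrullDim ↥X →
        (X ∩ ProjectiveSpectrum.zeroLocus (CohB1.polyGrading n k) (Set.range f)).Nonempty) := by
  classical
  obtain ⟨x, hx⟩ := Groth.Agent.Helper19.ProjDict.exists_generic (CohB1.polyGrading n k) X hXi hXc
  subst hx
  have hfS : ∀ i, (Ideal.span {f i}).IsHomogeneous (CohB1.polyGrading n k) := fun i =>
    Ideal.homogeneous_span (CohB1.polyGrading n k) {f i} (by rintro _ rfl; exact ⟨d i, hf i⟩)
  have hfm : ∀ i, f i ∈ Groth.Agent.Helper19.ProjDim.mplus k n := fun i =>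
    HomogeneousIdeal.mem_irrelevant_of_mem (CohB1.polyGrading n k) (hd i) (hf i)
  have hdimX := Groth.Agent.Helper19.ProjDict.topologicalKrullDim_closure_singleton
    (CohB1.polyGrading n k) x
  have hmemW : ∀ z : ProjectiveSpectrum (CohB1.polyGrading n k),
      z ∈ closure ({x} : Set (ProjectiveSpectrum (CohB1.polyGrading n k))) ∩
        ProjectiveSpectrum.zeroLocus (CohB1.polyGrading n k) (Set.range f) ↔
      x ≤ z ∧ ∀ i, f i ∈ z.asHomogeneousIdeal.toIdeal := by
    intro z
    rw [Set.mem_inter_iff, Groth.Agent.Helper19.ProjDict.mem_closure_singleton_iff,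
      ProjectiveSpectrum.mem_zeroLocus, Set.range_subset_iff]
    exact Iff.rfl
  constructor
  · intro C hC
    have hWc : IsClosed (closure ({x} : Set (ProjectiveSpectrum (CohB1.polyGrading n k))) ∩
        ProjectiveSpectrum.zeroLocus (CohB1.polyGrading n k) (Set.range f)) :=
      isClosed_closure.inter (ProjectiveSpectrum.isClosed_zeroLocus _ _)
    obtain ⟨y, hyW, hymin, hydim⟩ := Groth.Agent.Helper19.ProjDict.component_generic
      (CohB1.polyGrading n k) _ hWc C hC
    rw [hydim, hdimX]
    obtain ⟨hxy, hfy⟩ := (hmemW y).mp hyW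
    have key := Groth.Agent.Helper19.ProjDim.coheight_le_add k n r f hfS x y hxy hfy
      (fun z hxz hfz hzy => hymin z ((hmemW z).mpr ⟨hxz, hfz⟩) hzy)
    exact_mod_cast key
  · intro hr
    rw [hdimX] at hr
    have hr' : (r : ℕ∞) ≤ Order.coheight x := by exact_mod_cast hr
    obtain ⟨y, hxy, hfy⟩ := Groth.Agent.Helper19.ProjDim.exists_pt_sections k n r f hfS hfm x hr'
    exact ⟨y, (hmemW y).mpr ⟨hxy, hfy⟩⟩

end Groth.Agent.S10823
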