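import Groth.Statements.S10824
import Mathlib
import Groth.Agent.Helper19.HilbPlane
-- import your own Groth.Agent.* helpers here

set_option autoImplicit false
universe u
open Variety

namespace Groth.Agent.S10824

/-- Let k be a field, S the polynomial ring in three variables over k with degree-d part S_d, and f, g
nonzero homogeneous polynomials of positive degrees n and m with no common non-unit factor. Then for
every d ≥ n + m the degree-d part of S/(f, g), namely S_d modulo its intersection with the ideal (f,
g), has dimension n·m over k. -/
theorem result (k : Type u) [Field k] (n m d : ℕ)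
    (f g : MvPolynomial (Fin 3) k) (hf : f.IsHomogeneous n) (hg : g.IsHomogeneous m)
    (hn : 0 < n) (hm : 0 < m) (hf0 : f ≠ 0) (hg0 : g ≠ 0) (hfg : IsRelPrime f g) (hd : n + m ≤ d) :
    Module.finrank k
        (↥(MvPolynomial.homogeneousSubmodule (Fin 3) k d) ⧸
          Submodule.comap (MvPolynomial.homogeneousSubmodule (Fin 3) k d).subtype
            ((Ideal.span ({f, g} : Set (MvPolynomial (Fin 3) k))).restrictScalars k)) = n * m := by
  obtain ⟨t, rfl⟩ : ∃ t, d = n + m + t := Nat.exists_eq_add_of_le hd
  have key := Groth.Agent.Helper19.HilbPlane.finrank_quotient_pair n m t f g hf hg hg0 hfg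
  have hc : ∀ e : ℕ, Module.finrank k ↥(MvPolynomial.homogeneousSubmodule (Fin 3) k e) =
      (e + 2).choose 2 := by
    intro e
    rw [Groth.Agent.Helper19.HilbPlane.finrank_homogeneousSubmodule k (Fin 3) e, Fintype.card_fin,
      show 3 + e - 1 = e + 2 by omega]
    exact Nat.choose_symm_add
  rw [hc, hc, hc, hc] at key
  have h := congrArg (Nat.cast : ℕ → ℚ) key
  push_cast [Nat.cast_choose_two] at h
  have h2 : ((Module.finrank k
        (↥(MvPolynomial.homogeneousSubmodule (Fin 3) k (n + m + t)) ⧸
          Submodule.comap (MvPolynomial.homogeneousSubmodule (Fin 3) k (n + m + t)).subtype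
            ((Ideal.span ({f, g} : Set (MvPolynomial (Fin 3) k))).restrictScalars k)) : ℕ) : ℚ) =
      ((n * m : ℕ) : ℚ) := by
    push_cast
    linear_combination h
  exact_mod_cast h2

end Groth.Agent.S10824
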