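import Groth.Statements.S7552
import Mathlib.Topology.Sober
-- import your own Groth.Agent.* helpers here

set_option autoImplicit false
universe u
open PtTop

namespace Groth.Agent.S7552

open Set Function Topology TopologicalSpace


variable {X Y : Type u} [TopologicalSpace X] [TopologicalSpace Y]

/-- closure of a point as an irreducible closed set -/
def cl (x : X) : IrreducibleCloseds X := ⟨closure {x}, isIrreducible_singleton.closure, isClosed_closure⟩

lemma cl_le {x x' : X} (h : x ⤳ x') : cl x' ≤ cl x := by
  show closure {x'} ⊆ closure {x}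
  exact specializes_iff_closure_subset.mp h

lemma spec_case [QuasiSober Y] (f : X → Y) (hf : Continuous f) (hsp : SpecializingMap f)
    (p : LTSeries (IrreducibleCloseds Y)) :
    ∀ x : X, closure {f x} = (p.last : Set Y) →
      ∃ q : LTSeries (IrreducibleCloseds X), q.length = p.length ∧ q.last = cl x := by
  induction p using RelSeries.inductionOn' with
  | singleton y =>
    intro x _
    exact ⟨RelSeries.singleton _ (cl x), rfl, rfl⟩
  | snoc p Z hZ ih =>
    intro x hx
    rw [RelSeries.last_snoc] at hx
    obtain ⟨y', hy'⟩ := QuasiSober.sober p.last.isIrreducible' p.last.isClosed'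
    have hle : (p.last : Set Y) ⊆ Z := (le_of_lt hZ : p.last ≤ Z)
    have hy'Z : y' ∈ (Z : Set Y) := hle hy'.mem
    have hspec : f x ⤳ y' := by
      rw [specializes_iff_mem_closure, hx]
      exact hy'Z
    obtain ⟨x', hxx', hfx'⟩ := hsp hspec
    obtain ⟨q', hq'len, hq'last⟩ := ih x' (by rw [hfx']; exact hy'.def)
    have hlt : q'.last < cl x := by
      rw [hq'last]
      refine lt_of_le_of_ne (cl_le hxx') (fun heq => ?_)
      have h1 : closure {x} ⊆ closure {x'} := by
        have := congrArg (fun C : IrreducibleCloseds X => (C : Set X)) heq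
        exact this.ge
      have h2 : x' ⤳ x := specializes_iff_closure_subset.mpr h1
      have h3 : f x' ⤳ f x := h2.map hf
      rw [hfx'] at h3
      have hd : closure {y'} = (p.last : Set Y) := hy'.def
      have h4 : (Z : Set Y) ⊆ p.last := by
        have h5 : closure {f x} ⊆ closure {y'} := specializes_iff_closure_subset.mp h3
        rw [hx, hd] at h5
        exact h5
      exact absurd (show Z ≤ p.last from h4) (not_le_of_gt hZ)
    exact ⟨q'.snoc (cl x) hlt, by simp [hq'len], by simp⟩

lemma gen_case [QuasiSober Y] (f : X → Y) (hf : Continuous f) (hg : GeneralizingMap f)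
    (p : LTSeries (IrreducibleCloseds Y)) :
    ∀ x : X, closure {f x} = (p.head : Set Y) →
      ∃ q : LTSeries (IrreducibleCloseds X), q.length = p.length ∧ q.head = cl x := by
  induction p using RelSeries.inductionOn with
  | singleton y =>
    intro x _
    exact ⟨RelSeries.singleton _ (cl x), rfl, rfl⟩
  | cons p Z hZ ih =>
    intro x hx
    rw [RelSeries.head_cons] at hx
    obtain ⟨y', hy'⟩ := QuasiSober.sober p.head.isIrreducible' p.head.isClosed'
    have hle : (Z : Set Y) ⊆ p.head := (le_of_lt hZ : Z ≤ p.head)
    have hspec : y' ⤳ f x := by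
      rw [specializes_iff_closure_subset, hx, hy'.def]
      exact hle
    obtain ⟨x', hxx', hfx'⟩ := hg hspec
    obtain ⟨q', hq'len, hq'head⟩ := ih x' (by rw [hfx']; exact hy'.def)
    have hlt : cl x < q'.head := by
      rw [hq'head]
      refine lt_of_le_of_ne (cl_le hxx') (fun heq => ?_)
      have h1 : closure {x'} ⊆ closure {x} := by
        have := congrArg (fun C : IrreducibleCloseds X => (C : Set X)) heq
        exact this.ge
      have h2 : x ⤳ x' := specializes_iff_closure_subset.mpr h1
      have h3 : f x ⤳ f x' := h2.map hf
      rw [hfx'] at h3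
      have hd : closure {y'} = (p.head : Set Y) := hy'.def
      have h4 : (p.head : Set Y) ⊆ Z := by
        have h5 : closure {y'} ⊆ closure {f x} := specializes_iff_closure_subset.mp h3
        rw [hx, hd] at h5
        exact h5
      exact absurd (show p.head ≤ Z from h4) (not_le_of_gt hZ)
    exact ⟨q'.cons (cl x) hlt, by simp [hq'len], by simp⟩

/-- Let f : X → Y be a continuous surjective map of topological spaces with Y sober, and assume that
specializations lift along f or that generalizations lift along f. Then dim X ≥ dim Y (Krull
dimensions as suprema of lengths of chains of irreducible closed subsets). -/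
theorem result {X Y : Type u}
    [TopologicalSpace X] [TopologicalSpace Y] [QuasiSober Y] [T0Space Y]
    (f : X → Y) (hf : Continuous f) (hsurj : Function.Surjective f)
    (hlift : SpecializingMap f ∨ GeneralizingMap f) :
    topologicalKrullDim Y ≤ topologicalKrullDim X := by
  unfold topologicalKrullDim Order.krullDim
  refine iSup_le fun p => ?_
  rcases hlift with hsp | hg
  · obtain ⟨y, hy⟩ := QuasiSober.sober p.last.isIrreducible' p.last.isClosed'
    obtain ⟨x, rfl⟩ := hsurj y
    obtain ⟨q, hq, -⟩ := spec_case f hf hsp p x hy.def
    rw [← hq]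
    exact le_iSup (fun q : LTSeries (IrreducibleCloseds X) => (q.length : WithBot ℕ∞)) q
  · obtain ⟨y, hy⟩ := QuasiSober.sober p.head.isIrreducible' p.head.isClosed'
    obtain ⟨x, rfl⟩ := hsurj y
    obtain ⟨q, hq, -⟩ := gen_case f hf hg p x hy.def
    rw [← hq]
    exact le_iSup (fun q : LTSeries (IrreducibleCloseds X) => (q.length : WithBot ℕ∞)) q

end Groth.Agent.S7552
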