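import Groth.Statements.S10825
import Groth.Agent.S7552
import Mathlib.RingTheory.Norm.Transitivity
import Mathlib.FieldTheory.Minpoly.IsIntegrallyClosed
import Mathlib.RingTheory.Ideal.GoingUp
import Mathlib.RingTheory.KrullDimension.NonZeroDivisors
import Mathlib.Topology.Sober
-- import your own Groth.Agent.* helpers here

set_option autoImplicit false
universe u
open Topology
open CAlg

namespace Groth.Agent.S10825

open Polynomial


section norm

variable (A B K L : Type u) [CommRing A] [IsDomain A] [CommRing B] [IsDomain B] [Algebra A B]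
    [Field K] [Field L] [Algebra A K] [IsFractionRing A K] [Algebra B L] [IsFractionRing B L]
    [Algebra A L] [Algebra K L] [IsScalarTower A B L] [IsScalarTower A K L]
    [FiniteDimensional K L] [Algebra.IsIntegral A B] [IsIntegrallyClosed A]

include K L in
/-- the norm of `b` is divisible by `b` -/
lemma dvd_of_norm (b : B) (a : A) (ha : algebraMap A K a = Algebra.norm K (algebraMap B L b)) :
    b ∣ algebraMap A B a := by
  classical
  have hb : IsIntegral A b := Algebra.IsIntegral.isIntegral b
  set β : L := algebraMap B L b with hβ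
  have hβint : IsIntegral K β := (hb.map (IsScalarTower.toAlgHom A B L)).tower_top
  -- constant coefficient of the minimal polynomial
  set P := minpoly A b with hP
  set c₀ := P.coeff 0 with hc₀
  have hminK : minpoly K β = P.map (algebraMap A K) :=
    minpoly.isIntegrallyClosed_eq_field_fractions K L hb
  -- b divides c₀
  have hbc : b ∣ algebraMap A B c₀ := by
    have h1 : Polynomial.aeval b P = 0 := minpoly.aeval A b
    have h2 : P = X * P.divX + C c₀ := (Polynomial.X_mul_divX_add P).symm
    rw [h2] at h1
    simp only [map_add, map_mul, aeval_X, aeval_C] at h1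
    refine ⟨-(Polynomial.aeval b P.divX), ?_⟩
    have : algebraMap A B c₀ = -(b * Polynomial.aeval b P.divX) := eq_neg_of_add_eq_zero_right h1
    rw [this]
    ring
  -- the norm formula
  have hnorm : Algebra.norm K β =
      ((-1) ^ (IntermediateField.adjoin.powerBasis hβint).dim * algebraMap A K c₀) ^
        Module.finrank (IntermediateField.adjoin K {β}) L := by
    rw [Algebra.norm_eq_norm_adjoin K β]
    congr 1
    have h3 := Algebra.PowerBasis.norm_gen_eq_coeff_zero_minpoly
      (IntermediateField.adjoin.powerBasis hβint)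
    rw [IntermediateField.adjoin.powerBasis_gen] at h3
    rw [h3, IntermediateField.minpoly_gen, hminK, Polynomial.coeff_map]
  have he : 0 < Module.finrank (IntermediateField.adjoin K {β}) L := Module.finrank_pos
  obtain ⟨e, he'⟩ : ∃ e, Module.finrank (IntermediateField.adjoin K {β}) L = e + 1 :=
    ⟨_, (Nat.succ_pred_eq_of_pos he).symm⟩
  rw [he'] at hnorm
  set d := (IntermediateField.adjoin.powerBasis hβint).dim
  have haeq : a = ((-1) ^ d * c₀) ^ (e + 1) := by
    apply IsFractionRing.injective A K
    rw [ha, hnorm]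
    simp
  rw [haeq, pow_succ, map_mul]
  refine Dvd.dvd.mul_left ?_ _
  rw [map_mul]
  exact Dvd.dvd.mul_left hbc _

include K L in
lemma dvd_pow_of_dvd (b : B) (a : A) (ha : algebraMap A K a = Algebra.norm K (algebraMap B L b))
    (x : A) (hx : b ∣ algebraMap A B x) : a ∣ x ^ Module.finrank K L := by
  obtain ⟨y, hy⟩ := hx
  have hyint : IsIntegral A (algebraMap B L y) :=
    (Algebra.IsIntegral.isIntegral y).map (IsScalarTower.toAlgHom A B L)
  have hNy : IsIntegral A (Algebra.norm K (algebraMap B L y)) := Algebra.isIntegral_norm K hyint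
  obtain ⟨c, hc⟩ := IsIntegrallyClosed.isIntegral_iff.mp hNy
  refine ⟨c, ?_⟩
  apply IsFractionRing.injective A K
  rw [map_pow, map_mul, ha, hc, ← map_mul, ← map_mul, ← hy,
    ← IsScalarTower.algebraMap_apply A B L, IsScalarTower.algebraMap_apply A K L,
    Algebra.norm_algebraMap]

include K L in
lemma image_eq (b : B) (a : A) (ha : algebraMap A K a = Algebra.norm K (algebraMap B L b)) :
    PrimeSpectrum.comap (algebraMap A B) '' PrimeSpectrum.zeroLocus ({b} : Set B) =
      PrimeSpectrum.zeroLocus ({a} : Set A) := by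
  apply Set.Subset.antisymm
  · rintro _ ⟨q, hq, rfl⟩
    rw [PrimeSpectrum.mem_zeroLocus, Set.singleton_subset_iff] at hq ⊢
    obtain ⟨z, hz⟩ := dvd_of_norm A B K L b a ha
    show algebraMap A B a ∈ q.asIdeal
    rw [hz]
    exact q.asIdeal.mul_mem_right _ hq
  · intro p hp
    rw [PrimeSpectrum.mem_zeroLocus, Set.singleton_subset_iff] at hp
    have hJ : (Ideal.span {b}).comap (algebraMap A B) ≤ p.asIdeal := by
      intro x hx
      rw [Ideal.mem_comap, Ideal.mem_span_singleton] at hx
      obtain ⟨c, hc⟩ := dvd_pow_of_dvd A B K L b a ha x hx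
      have : x ^ Module.finrank K L ∈ p.asIdeal := by
        rw [hc]
        exact p.asIdeal.mul_mem_right _ hp
      exact p.isPrime.mem_of_pow_mem _ this
    obtain ⟨Q, hQb, hQprime, hQp⟩ :=
      Ideal.exists_ideal_over_prime_of_isIntegral p.asIdeal (Ideal.span {b}) hJ
    refine ⟨⟨Q, hQprime⟩, ?_, ?_⟩
    · rw [PrimeSpectrum.mem_zeroLocus, Set.singleton_subset_iff]
      exact hQb (Ideal.subset_span rfl)
    · exact PrimeSpectrum.ext hQp

end norm

/-- topological vs order-theoretic dimension of a closed subset of a prime spectrum -/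
lemma topDim_zeroLocus (R : Type u) [CommRing R] (I : Ideal R) :
    topologicalKrullDim ↥(PrimeSpectrum.zeroLocus (I : Set R)) =
      Order.krullDim ↥(PrimeSpectrum.zeroLocus (I : Set R)) := by
  rw [← ringKrullDim_quotient I, ← PrimeSpectrum.topologicalKrullDim_eq_ringKrullDim]
  have hemb := PrimeSpectrum.isClosedEmbedding_comap_of_surjective (R ⧸ I) (Ideal.Quotient.mk I)
    Ideal.Quotient.mk_surjective
  have hrange : Set.range (PrimeSpectrum.comap (Ideal.Quotient.mk I)) =
      PrimeSpectrum.zeroLocus (I : Set R) := by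
    rw [range_comap_of_surjective _ _ Ideal.Quotient.mk_surjective, Ideal.mk_ker]
  rw [← hrange]
  exact (IsHomeomorph.topologicalKrullDim_eq _
    hemb.isEmbedding.toHomeomorph.isHomeomorph).symm

lemma topDim_zeroLocus' (R : Type u) [CommRing R] (s : Set R) :
    topologicalKrullDim ↥(PrimeSpectrum.zeroLocus s) =
      Order.krullDim ↥(PrimeSpectrum.zeroLocus s) := by
  have := topDim_zeroLocus R (Ideal.span s)
  rwa [PrimeSpectrum.zeroLocus_span] at this

/-- Let A → B be an injective integral homomorphism of integral domains with fraction fields K and L, L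
a finite extension of K, and A integrally closed. For b in B the norm N_{L/K}(b) lies in A; if a
denotes this element of A, then the image of the closed set V(b) of Spec B under Spec B → Spec A is
exactly V(a), and V(b) and V(a) have the same dimension. -/
theorem result
    (A B K L : Type u) [CommRing A] [IsDomain A] [CommRing B] [IsDomain B] [Algebra A B]
    [Field K] [Field L] [Algebra A K] [IsFractionRing A K] [Algebra B L] [IsFractionRing B L]
    [Algebra A L] [Algebra K L] [IsScalarTower A B L] [IsScalarTower A K L]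
    [FiniteDimensional K L] [Algebra.IsIntegral A B] [IsIntegrallyClosed A]
    (hinj : Function.Injective (algebraMap A B))
    (b : B) (a : A) (ha : algebraMap A K a = Algebra.norm K (algebraMap B L b)) :
    PrimeSpectrum.comap (algebraMap A B) '' PrimeSpectrum.zeroLocus ({b} : Set B) =
        PrimeSpectrum.zeroLocus ({a} : Set A) ∧
      topologicalKrullDim ↥(PrimeSpectrum.zeroLocus ({b} : Set B)) =
        topologicalKrullDim ↥(PrimeSpectrum.zeroLocus ({a} : Set A)) := by
  have himg := image_eq A B K L b a ha
  refine ⟨himg, ?_⟩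
  have hmaps : Set.MapsTo (PrimeSpectrum.comap (algebraMap A B))
      (PrimeSpectrum.zeroLocus ({b} : Set B)) (PrimeSpectrum.zeroLocus ({a} : Set A)) := by
    intro q hq
    rw [← himg]
    exact ⟨q, hq, rfl⟩
  let g : ↥(PrimeSpectrum.zeroLocus ({b} : Set B)) → ↥(PrimeSpectrum.zeroLocus ({a} : Set A)) :=
    hmaps.restrict _ _ _
  have hgc : Continuous g := (PrimeSpectrum.continuous_comap (algebraMap A B)).restrict hmaps
  have hgs : Function.Surjective g := by
    rintro ⟨p, hp⟩
    rw [← himg] at hp
    obtain ⟨q, hq, rfl⟩ := hp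
    exact ⟨⟨q, hq⟩, rfl⟩
  apply le_antisymm
  · rw [topDim_zeroLocus', topDim_zeroLocus']
    refine Order.krullDim_le_of_strictMono g ?_
    intro q₁ q₂ h12
    have h12' : q₁.1.asIdeal < q₂.1.asIdeal := h12
    have := Ideal.IsIntegral.comap_lt_comap (R := A) h12'
    exact this
  · have : QuasiSober ↥(PrimeSpectrum.zeroLocus ({a} : Set A)) :=
      (PrimeSpectrum.isClosed_zeroLocus _).isClosedEmbedding_subtypeVal.quasiSober
    refine Groth.Agent.S7552.result g hgc hgs (Or.inl ?_)
    intro q p' hqp
    have h1 : (g q).1 ⤳ p'.1 := hqp.map continuous_subtype_val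
    have h2 : (g q).1.asIdeal ≤ p'.1.asIdeal := (PrimeSpectrum.le_iff_specializes _ _).mpr h1
    obtain ⟨Q, hQq, hQprime, hQp⟩ :=
      Ideal.exists_ideal_over_prime_of_isIntegral_of_isPrime p'.1.asIdeal q.1.asIdeal h2
    have hQb : (⟨Q, hQprime⟩ : PrimeSpectrum B) ∈ PrimeSpectrum.zeroLocus ({b} : Set B) := by
      have hq := q.2
      rw [PrimeSpectrum.mem_zeroLocus, Set.singleton_subset_iff] at hq ⊢
      exact hQq hq
    refine ⟨⟨⟨Q, hQprime⟩, hQb⟩, ?_, ?_⟩
    · show q ⤳ _
      rw [subtype_specializes_iff]
      exact (PrimeSpectrum.le_iff_specializes _ _).mp hQq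
    · exact Subtype.ext (PrimeSpectrum.ext hQp)

end Groth.Agent.S10825
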