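import Groth.Statements.S10826
import Mathlib.RingTheory.MvPowerSeries.Substitution
import Mathlib.RingTheory.MvPowerSeries.Order
import Mathlib.LinearAlgebra.Matrix.NonsingularInverse
-- import your own Groth.Agent.* helpers here

set_option autoImplicit false
open CAlg

namespace Groth.Agent.S10826

open MvPowerSeries

section helpers

variable {R : Type*} [CommRing R] {n : ℕ}

/-- `i` is the first index at which `d` is non-zero -/
def IsFirst (d : Fin n →₀ ℕ) (i : Fin n) : Prop := d i ≠ 0 ∧ ∀ j, j < i → d j = 0

theorem isFirst_unique {d : Fin n →₀ ℕ} {i i' : Fin n} (h : IsFirst d i) (h' : IsFirst d i') :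
    i = i' := by
  rcases lt_trichotomy i i' with hlt | heq | hgt
  · exact absurd (h'.2 i hlt) h.1
  · exact heq
  · exact absurd (h.2 i' hgt) h'.1

theorem exists_isFirst {d : Fin n →₀ ℕ} (hd : d ≠ 0) : ∃ i, IsFirst d i := by
  have hne : d.support.Nonempty := Finsupp.support_nonempty_iff.mpr hd
  refine ⟨d.support.min' hne, ?_, ?_⟩
  · exact Finsupp.mem_support_iff.mp (Finset.min'_mem _ hne)
  · intro j hj
    by_contra hne0
    have : j ∈ d.support := Finsupp.mem_support_iff.mpr hne0
    exact absurd (Finset.min'_le _ j this) (not_le.mpr hj)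

open Classical in
/-- the `i`-th piece of a power series -/
noncomputable def piece (f : MvPowerSeries (Fin n) R) (i : Fin n) : MvPowerSeries (Fin n) R :=
  fun e => if ∀ j, j < i → e j = 0 then coeff (e + Finsupp.single i 1) f else 0

open Classical in
theorem coeff_piece (f : MvPowerSeries (Fin n) R) (i : Fin n) (e : Fin n →₀ ℕ) :
    coeff e (piece f i) = if ∀ j, j < i → e j = 0 then coeff (e + Finsupp.single i 1) f else 0 :=
  rfl

open Classical in
theorem coeff_X_mul_piece (f : MvPowerSeries (Fin n) R) (i : Fin n) (d : Fin n →₀ ℕ) :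
    coeff d (X i * piece f i) = if IsFirst d i then coeff d f else 0 := by
  rw [X_def, coeff_monomial_mul, one_mul]
  by_cases hle : Finsupp.single i 1 ≤ d
  · rw [if_pos hle, coeff_piece]
    have hdi : d i ≠ 0 := by
      have := hle i
      simp at this
      omega
    have hsub : d - Finsupp.single i 1 + Finsupp.single i 1 = d := tsub_add_cancel_of_le hle
    rw [hsub]
    have hiff : (∀ j, j < i → (d - Finsupp.single i 1 : Fin n →₀ ℕ) j = 0) ↔ IsFirst d i := by
      constructor
      · intro h
        refine ⟨hdi, fun j hj => ?_⟩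
        have := h j hj
        rw [Finsupp.tsub_apply, Finsupp.single_apply, if_neg (ne_of_gt hj)] at this
        simpa using this
      · intro h j hj
        rw [Finsupp.tsub_apply, h.2 j hj]
        simp
    simp only [hiff]
  · rw [if_neg hle, if_neg]
    intro h
    apply hle
    intro j
    rw [Finsupp.single_apply]
    split_ifs with hij
    · subst hij
      exact Nat.one_le_iff_ne_zero.mpr h.1
    · exact Nat.zero_le _

theorem decomp (f : MvPowerSeries (Fin n) R) :
    f = C (constantCoeff f) + ∑ i, X i * piece f i := by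
  classical
  ext d
  rw [map_add, map_sum]
  simp only [coeff_X_mul_piece]
  by_cases hd : d = 0
  · subst hd
    rw [Finset.sum_eq_zero, add_zero, coeff_zero_C]
    · rfl
    · intro i _
      rw [if_neg]
      intro h
      exact h.1 rfl
  · obtain ⟨i₀, hi₀⟩ := exists_isFirst hd
    rw [coeff_C, if_neg hd, zero_add, Finset.sum_eq_single i₀, if_pos hi₀]
    · intro i _ hi
      rw [if_neg]
      intro h
      exact hi (isFirst_unique h hi₀)
    · intro h
      exact absurd (Finset.mem_univ _) h

/-- all coefficients in degree `< k` vanish -/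
def Ord (k : ℕ) (f : MvPowerSeries (Fin n) R) : Prop :=
  ∀ d : Fin n →₀ ℕ, Finsupp.degree d < k → coeff d f = 0

theorem ord_iff {k : ℕ} {f : MvPowerSeries (Fin n) R} : Ord k f ↔ (k : ℕ∞) ≤ f.order := by
  constructor
  · intro h
    exact nat_le_order h
  · intro h d hd
    apply coeff_of_lt_order
    exact lt_of_lt_of_le (by exact_mod_cast hd) h

theorem Ord.zero (f : MvPowerSeries (Fin n) R) : Ord 0 f := fun d hd => absurd hd (Nat.not_lt_zero _)

theorem Ord.mono {k l : ℕ} {f : MvPowerSeries (Fin n) R} (h : Ord k f) (hl : l ≤ k) : Ord l f :=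
  fun d hd => h d (lt_of_lt_of_le hd hl)

theorem Ord.add {k : ℕ} {f g : MvPowerSeries (Fin n) R} (hf : Ord k f) (hg : Ord k g) :
    Ord k (f + g) := fun d hd => by rw [map_add, hf d hd, hg d hd, add_zero]

theorem Ord.sub {k : ℕ} {f g : MvPowerSeries (Fin n) R} (hf : Ord k f) (hg : Ord k g) :
    Ord k (f - g) := fun d hd => by rw [map_sub, hf d hd, hg d hd, sub_zero]

theorem Ord.sum {k : ℕ} {ι : Type*} (s : Finset ι) (f : ι → MvPowerSeries (Fin n) R)
    (hf : ∀ i ∈ s, Ord k (f i)) : Ord k (∑ i ∈ s, f i) := fun d hd => by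
  rw [map_sum]
  exact Finset.sum_eq_zero fun i hi => hf i hi d hd

theorem Ord.mul {k l : ℕ} {f g : MvPowerSeries (Fin n) R} (hf : Ord k f) (hg : Ord l g) :
    Ord (k + l) (f * g) := by
  rw [ord_iff] at hf hg ⊢
  push_cast
  exact (add_le_add hf hg).trans le_order_mul

theorem ord_zero_elt (k : ℕ) : Ord k (0 : MvPowerSeries (Fin n) R) := fun d _ => by simp

theorem ord_X (i : Fin n) : Ord 1 (X i : MvPowerSeries (Fin n) R) := by
  intro d hd
  have : d = 0 := (Finsupp.degree_eq_zero_iff d).mp (by omega)
  subst this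
  exact coeff_zero_X i

theorem ord_one_iff {f : MvPowerSeries (Fin n) R} : Ord 1 f ↔ constantCoeff f = 0 := by
  constructor
  · intro h
    exact h 0 (by simp)
  · intro h d hd
    have : d = 0 := (Finsupp.degree_eq_zero_iff d).mp (by omega)
    subst this
    exact h

theorem eq_zero_of_forall_ord {f : MvPowerSeries (Fin n) R} (h : ∀ k, Ord k f) : f = 0 := by
  ext d
  rw [h (Finsupp.degree d + 1) d (Nat.lt_succ_self _)]
  simp

theorem ord_piece {k : ℕ} {f : MvPowerSeries (Fin n) R} (hf : Ord (k + 1) f) (i : Fin n) :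
    Ord k (piece f i) := by
  classical
  intro d hd
  rw [coeff_piece]
  split_ifs
  · apply hf
    rw [map_add, Finsupp.degree_single]
    omega
  · rfl

/-- decomposition of a series without constant term -/
theorem decomp' {f : MvPowerSeries (Fin n) R} (hf : constantCoeff f = 0) :
    f = ∑ i, X i * piece f i := by
  conv_lhs => rw [decomp f, hf, map_zero, zero_add]

section unipotent

variable (φ : MvPowerSeries (Fin n) R →ₐ[R] MvPowerSeries (Fin n) R)
  (hlin : ∀ i, Ord 2 (X i - φ (X i)))

include hlin

theorem ord_phi_X (i : Fin n) : Ord 1 (φ (X i)) := by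
  have h1 : φ (X i) = X i - (X i - φ (X i)) := by ring
  rw [h1]
  exact (ord_X i).sub ((hlin i).mono (by omega))

theorem sub_phi_eq {f : MvPowerSeries (Fin n) R} (hf : constantCoeff f = 0) :
    f - φ f = ∑ i, ((X i - φ (X i)) * piece f i + φ (X i) * (piece f i - φ (piece f i))) := by
  conv_lhs => rw [decomp' hf, map_sum, ← Finset.sum_sub_distrib]
  refine Finset.sum_congr rfl fun i _ => ?_
  rw [map_mul]
  ring

theorem ord_sub_phi_zero (f : MvPowerSeries (Fin n) R) : Ord 1 (f - φ f) := by
  obtain ⟨f', hf'⟩ : ∃ f', f' = f - C (constantCoeff f) := ⟨_, rfl⟩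
  have hc : constantCoeff f' = 0 := by rw [hf']; simp
  have hφC : φ (C (constantCoeff f)) = C (constantCoeff f) := by
    rw [c_eq_algebraMap, AlgHom.commutes]
  have : f - φ f = f' - φ f' := by
    rw [hf', map_sub, hφC]; ring
  rw [this, sub_phi_eq φ hlin hc]
  refine Ord.sum _ _ fun i _ => ?_
  refine Ord.add ?_ ?_
  · have := ((hlin i).mul (Ord.zero (piece f' i))).mono (l := 1) (by omega)
    exact this
  · have := ((ord_phi_X φ hlin i).mul (Ord.zero (piece f' i - φ (piece f' i))))
    exact this

theorem ord_sub_phi (k : ℕ) : ∀ f : MvPowerSeries (Fin n) R, Ord k f → Ord (k + 1) (f - φ f) := by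
  induction k with
  | zero => intro f _; exact ord_sub_phi_zero φ hlin f
  | succ k ih =>
    intro f hf
    have hc : constantCoeff f = 0 := ord_one_iff.mp (hf.mono (by omega))
    rw [sub_phi_eq φ hlin hc]
    refine Ord.sum _ _ fun i _ => ?_
    refine Ord.add ?_ ?_
    · have := ((hlin i).mul (ord_piece hf i))
      exact this.mono (by omega)
    · have := ((ord_phi_X φ hlin i).mul (ih _ (ord_piece hf i)))
      exact this.mono (by omega)

theorem ord_phi {k : ℕ} {f : MvPowerSeries (Fin n) R} (hf : Ord k f) : Ord k (φ f) := by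
  have h1 : φ f = f - (f - φ f) := by ring
  rw [h1]
  exact hf.sub ((ord_sub_phi φ hlin k f hf).mono (by omega))

theorem injective_of_unipotent : Function.Injective φ := by
  rw [injective_iff_map_eq_zero]
  intro f hf
  apply eq_zero_of_forall_ord
  intro k
  induction k with
  | zero => exact Ord.zero f
  | succ k ih =>
    have := ord_sub_phi φ hlin k f ih
    rwa [hf, sub_zero] at this

end unipotent

section unipotent_surj

variable (φ : MvPowerSeries (Fin n) R →ₐ[R] MvPowerSeries (Fin n) R)
  (hlin : ∀ i, Ord 2 (X i - φ (X i)))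

/-- iterates of `id - φ` -/
noncomputable def Nit (g : MvPowerSeries (Fin n) R) : ℕ → MvPowerSeries (Fin n) R
  | 0 => g
  | k + 1 => Nit g k - φ (Nit g k)

theorem phi_sum_Nit (g : MvPowerSeries (Fin n) R) (m : ℕ) :
    φ (∑ k ∈ Finset.range m, Nit φ g k) = g - Nit φ g m := by
  induction m with
  | zero => simp [Nit]
  | succ m ih =>
    rw [Finset.sum_range_succ, map_add, ih]
    change _ = g - (Nit φ g m - φ (Nit φ g m))
    ring

include hlin

theorem ord_Nit (g : MvPowerSeries (Fin n) R) (k : ℕ) : Ord k (Nit φ g k) := by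
  induction k with
  | zero => exact Ord.zero _
  | succ k ih => exact ord_sub_phi φ hlin k _ ih

theorem surjective_of_unipotent : Function.Surjective φ := by
  intro g
  obtain ⟨f, hf⟩ : ∃ f : MvPowerSeries (Fin n) R, ∀ d, coeff d f =
      ∑ k ∈ Finset.range (Finsupp.degree d + 1), coeff d (Nit φ g k) :=
    ⟨fun d => ∑ k ∈ Finset.range (Finsupp.degree d + 1), coeff d (Nit φ g k), fun d => rfl⟩
  refine ⟨f, ?_⟩
  rw [← sub_eq_zero]
  apply eq_zero_of_forall_ord
  intro m
  have h1 : Ord m (f - ∑ k ∈ Finset.range m, Nit φ g k) := by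
    intro d hd
    rw [map_sub, map_sum, hf, sub_eq_zero]
    apply Finset.sum_subset
    · intro k hk
      rw [Finset.mem_range] at hk ⊢
      omega
    · intro k hk hk'
      rw [Finset.mem_range] at hk hk'
      exact ord_Nit φ hlin g k d (by omega)
  have h2 : φ f - g = φ (f - ∑ k ∈ Finset.range m, Nit φ g k) - Nit φ g m := by
    rw [map_sub, phi_sum_Nit]
    ring
  rw [h2]
  exact (ord_phi φ hlin h1).sub (ord_Nit φ hlin g m)

theorem bijective_of_unipotent : Function.Bijective φ :=
  ⟨injective_of_unipotent φ hlin, surjective_of_unipotent φ hlin⟩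

end unipotent_surj

section linear

/-- the linear forms attached to a matrix -/
noncomputable def lin (M : Matrix (Fin n) (Fin n) R) (i : Fin n) : MvPowerSeries (Fin n) R :=
  ∑ j, C (M i j) * X j

theorem constantCoeff_lin (M : Matrix (Fin n) (Fin n) R) (i : Fin n) :
    constantCoeff (lin M i) = 0 := by
  simp [lin]

theorem hasSubst_lin (M : Matrix (Fin n) (Fin n) R) : HasSubst (lin M) :=
  hasSubst_of_constantCoeff_zero (constantCoeff_lin M)

/-- the linear substitution attached to a matrix -/
noncomputable def psi (M : Matrix (Fin n) (Fin n) R) :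
    MvPowerSeries (Fin n) R →ₐ[R] MvPowerSeries (Fin n) R :=
  substAlgHom (hasSubst_lin M)

theorem psi_X (M : Matrix (Fin n) (Fin n) R) (i : Fin n) : psi M (X i) = lin M i :=
  substAlgHom_X _ i

theorem alg_C (ψ : MvPowerSeries (Fin n) R →ₐ[R] MvPowerSeries (Fin n) R) (r : R) :
    ψ (C r) = C r := by
  rw [c_eq_algebraMap, AlgHom.commutes]

theorem psi_lin (A B : Matrix (Fin n) (Fin n) R) (i : Fin n) :
    psi A (lin B i) = lin (B * A) i := by
  unfold lin
  rw [map_sum]
  simp only [map_mul, alg_C, psi_X]
  unfold lin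
  simp only [Finset.mul_sum, Matrix.mul_apply, map_sum, Finset.sum_mul]
  rw [Finset.sum_comm]
  refine Finset.sum_congr rfl fun k _ => Finset.sum_congr rfl fun j _ => ?_
  rw [map_mul, mul_assoc]

theorem substAlgHom_congr {a b : Fin n → MvPowerSeries (Fin n) R} (h : a = b) (ha : HasSubst a)
    (hb : HasSubst b) :
    (substAlgHom ha : MvPowerSeries (Fin n) R →ₐ[R] MvPowerSeries (Fin n) R) = substAlgHom hb := by
  subst h
  rfl

theorem psi_comp (A B : Matrix (Fin n) (Fin n) R) : (psi A).comp (psi B) = psi (B * A) := by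
  have h := substAlgHom_comp_substAlgHom (R := R) (hasSubst_lin B) (hasSubst_lin A)
  have h2 : ((substAlgHom (hasSubst_lin A) : MvPowerSeries (Fin n) R →ₐ[R] _).restrictScalars R) =
      psi A := by
    ext1 f
    rfl
  rw [h2] at h
  change (psi A).comp (psi B) = _ at h
  rw [h]
  apply substAlgHom_congr
  funext i
  exact psi_lin A B i

theorem lin_one (i : Fin n) : lin (1 : Matrix (Fin n) (Fin n) R) i = X i := by
  unfold lin
  rw [Finset.sum_eq_single i]
  · simp
  · intro j _ hj
    rw [Matrix.one_apply_ne hj.symm]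
    simp
  · intro h
    exact absurd (Finset.mem_univ _) h

theorem psi_one : psi (1 : Matrix (Fin n) (Fin n) R) = AlgHom.id R _ := by
  have h : lin (1 : Matrix (Fin n) (Fin n) R) = X := funext lin_one
  unfold psi
  rw [substAlgHom_congr h (hasSubst_lin 1) HasSubst.X]
  ext1 f
  rw [substAlgHom_apply, subst_self]
  rfl

theorem degree_eq_one {d : Fin n →₀ ℕ} (hd : Finsupp.degree d = 1) :
    ∃ k, d = Finsupp.single k 1 := by
  have hne : d ≠ 0 := by
    intro h
    rw [h, map_zero] at hd
    exact absurd hd (by norm_num)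
  obtain ⟨k, hk⟩ : ∃ k, d k ≠ 0 := by
    by_contra hcon
    push Not at hcon
    exact hne (Finsupp.ext hcon)
  have hk1 : d k = 1 := by
    have := Finsupp.le_degree k d
    omega
  have hle : Finsupp.single k 1 ≤ d := by
    intro j
    rw [Finsupp.single_apply]
    split_ifs with hj
    · subst hj; omega
    · exact Nat.zero_le _
  have hsub : d - Finsupp.single k 1 + Finsupp.single k 1 = d := tsub_add_cancel_of_le hle
  have hdeg : Finsupp.degree (d - Finsupp.single k 1) = 0 := by
    have := congrArg Finsupp.degree hsub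
    rw [map_add, Finsupp.degree_single, hd] at this
    omega
  have hz := (Finsupp.degree_eq_zero_iff _).mp hdeg
  rw [hz, zero_add] at hsub
  exact ⟨k, hsub.symm⟩

end linear

end helpers

/-- Let R be a commutative ring, n ≥ 1, and φ an R-algebra homomorphism from the power series ring in n
variables over R to itself that sends each variable to a power series without constant term. If the
Jacobian matrix at the origin, whose (i, j) entry is the coefficient of X_j in φ(X_i), has
invertible determinant in R, then φ is an isomorphism (bijective). -/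
theorem result
    (R : Type*) [CommRing R] (n : ℕ) (hn : 1 ≤ n)
    (φ : MvPowerSeries (Fin n) R →ₐ[R] MvPowerSeries (Fin n) R)
    (h0 : ∀ i, MvPowerSeries.constantCoeff (φ (MvPowerSeries.X i)) = 0)
    (hJ : IsUnit (Matrix.det (Matrix.of fun i j : Fin n =>
      MvPowerSeries.coeff (Finsupp.single j 1) (φ (MvPowerSeries.X i))))) :
    Function.Bijective φ := by
  classical
  obtain ⟨J, hJdef⟩ : ∃ J : Matrix (Fin n) (Fin n) R, J = Matrix.of fun i j : Fin n =>
      MvPowerSeries.coeff (Finsupp.single j 1) (φ (MvPowerSeries.X i)) := ⟨_, rfl⟩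
  rw [← hJdef] at hJ
  obtain ⟨M, hM⟩ : ∃ M : Matrix (Fin n) (Fin n) R, M = J⁻¹ := ⟨_, rfl⟩
  have hMJ : M * J = 1 := by rw [hM]; exact Matrix.nonsing_inv_mul J hJ
  have hJM : J * M = 1 := by rw [hM]; exact Matrix.mul_nonsing_inv J hJ
  -- the modified endomorphism
  obtain ⟨φ', hφ'⟩ : ∃ φ' : MvPowerSeries (Fin n) R →ₐ[R] MvPowerSeries (Fin n) R,
      φ' = φ.comp (psi M) := ⟨_, rfl⟩
  have hφ'X : ∀ i, φ' (X i) = ∑ j, C (M i j) * φ (X j) := by
    intro i
    rw [hφ', AlgHom.comp_apply, psi_X]
    unfold lin
    rw [map_sum]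
    simp only [map_mul, alg_C]
  have hlin : ∀ i, Ord 2 (X i - φ' (X i)) := by
    intro i d hd
    rw [map_sub, hφ'X, map_sum, sub_eq_zero]
    simp only [coeff_C_mul]
    have hcases : Finsupp.degree d = 0 ∨ Finsupp.degree d = 1 := by omega
    rcases hcases with h | h
    · have hd0 : d = 0 := (Finsupp.degree_eq_zero_iff d).mp h
      subst hd0
      rw [coeff_zero_X]
      symm
      apply Finset.sum_eq_zero
      intro j _
      have := h0 j
      rw [← coeff_zero_eq_constantCoeff_apply] at this
      rw [this, mul_zero]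
    · obtain ⟨k, rfl⟩ := degree_eq_one h
      rw [coeff_index_single_X]
      have hmul : (M * J) i k = (1 : Matrix (Fin n) (Fin n) R) i k := by rw [hMJ]
      rw [Matrix.mul_apply, Matrix.one_apply] at hmul
      rw [hJdef] at hmul
      simp only [Matrix.of_apply] at hmul
      rw [hmul]
      by_cases hik : i = k
      · rw [if_pos hik, if_pos hik.symm]
      · rw [if_neg hik, if_neg (fun h => hik h.symm)]
  have hbij' : Function.Bijective φ' := bijective_of_unipotent φ' hlin
  -- `psi J` is bijective
  have h1 : (psi M).comp (psi J) = AlgHom.id R _ := by rw [psi_comp, hJM, psi_one]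
  have h2 : (psi J).comp (psi M) = AlgHom.id R _ := by rw [psi_comp, hMJ, psi_one]
  have hbijJ : Function.Bijective (psi J) := by
    refine ⟨?_, ?_⟩
    · intro x y hxy
      have := congrArg (psi M) hxy
      rw [← AlgHom.comp_apply, ← AlgHom.comp_apply, h1] at this
      exact this
    · intro y
      refine ⟨psi M y, ?_⟩
      rw [← AlgHom.comp_apply, h2]
      rfl
  have hφ : (φ : MvPowerSeries (Fin n) R → MvPowerSeries (Fin n) R) = φ' ∘ psi J := by
    funext f
    rw [Function.comp_apply, hφ', AlgHom.comp_apply, ← AlgHom.comp_apply (psi M), h1]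
    rfl
  rw [hφ]
  exact hbij'.comp hbijJ

end Groth.Agent.S10826
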