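import Groth.Statements.S10827
import Mathlib
import Groth.Agent.Helper19.HilbPlane
import Groth.Agent.Helper19.Dehomog
import Groth.Agent.S10824
-- import your own Groth.Agent.* helpers here

set_option autoImplicit false
universe u
open Variety

namespace Groth.Agent.S10827

section helpers
open MvPolynomial Groth.Agent.Helper19.Dehomog

variable {k : Type u} [Field k]

/-- core statement with abbreviations -/
theorem core (n m : ℕ) (f g : MvPolynomial (Fin 3) k) (hf : f.IsHomogeneous n)
    (hg : g.IsHomogeneous m)
    (hn : 0 < n) (hm : 0 < m) (hf0 : f ≠ 0) (hg0 : g ≠ 0) (hfg : IsRelPrime f g)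
    (hT : IsRelPrime (aeval (vv (0 : MvPolynomial (Fin 2) k)) f)
      (aeval (vv (0 : MvPolynomial (Fin 2) k)) g)) :
    Module.finrank k (MvPolynomial (Fin 2) k ⧸ Ideal.span
      ({aeval (vv (1 : MvPolynomial (Fin 2) k)) f, aeval (vv (1 : MvPolynomial (Fin 2) k)) g} :
        Set (MvPolynomial (Fin 2) k))) = n * m := by
  classical
  set I : Ideal (MvPolynomial (Fin 3) k) := Ideal.span {f, g} with hI
  set ev := aeval (R := k) (vv (1 : MvPolynomial (Fin 2) k)) with hev
  set J : Ideal (MvPolynomial (Fin 2) k) := Ideal.span {ev f, ev g} with hJ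
  have hJmap : J = Ideal.map ev I := by
    rw [hI, Ideal.map_span, Set.image_pair]
  have hevsurj : Function.Surjective ev := fun p => ⟨incl p, aeval_incl _ rfl rfl p⟩
  -- the maps L_d
  let L : ∀ d : ℕ, ↥(homogeneousSubmodule (Fin 3) k d) →ₗ[k] (MvPolynomial (Fin 2) k ⧸ J) :=
    fun d => ((Ideal.Quotient.mkₐ k J).toLinearMap.comp ev.toLinearMap).comp
      (homogeneousSubmodule (Fin 3) k d).subtype
  have hLapp : ∀ d (p : ↥(homogeneousSubmodule (Fin 3) k d)),
      L d p = Ideal.Quotient.mk J (ev p) := fun d p => rfl
  -- kernel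
  have hker : ∀ d, LinearMap.ker (L d) =
      Submodule.comap (homogeneousSubmodule (Fin 3) k d).subtype (I.restrictScalars k) := by
    intro d
    ext ⟨p, hp⟩
    rw [LinearMap.mem_ker, hLapp, Ideal.Quotient.eq_zero_iff_mem]
    show ev p ∈ J ↔ p ∈ I
    constructor
    · intro h
      rw [hJmap, Ideal.mem_map_iff_of_surjective ev hevsurj] at h
      obtain ⟨q, hq, hqp⟩ := h
      apply mem_of_mem_sup I (homogeneousComponent_mem_span_pair f g hf hg)
        (mem_of_X_mul_mem hm f g hg hT) d p hp
      obtain ⟨c, hc⟩ := exists_mul_of_aeval_eq_zero (vv 1) rfl rfl (p - q) (by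
        rw [map_sub, ← hev, hqp, sub_self])
      have hX : (X 2 - incl (vv (1 : MvPolynomial (Fin 2) k) 2) : MvPolynomial (Fin 3) k) =
          X 2 - 1 := by
        show X 2 - incl 1 = X 2 - 1
        rw [map_one]
      rw [hX] at hc
      have : p = q + (X 2 - 1) * c := by rw [← hc]; ring
      rw [this]
      exact Submodule.add_mem_sup hq (Ideal.mem_span_singleton'.mpr ⟨c, mul_comm _ _⟩)
    · intro h
      rw [hJmap]
      exact Ideal.mem_map_of_mem ev h
  -- finrank of range
  have hfin : ∀ d, n + m ≤ d → Module.finrank k (LinearMap.range (L d)) = n * m := by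
    intro d hd
    rw [← LinearEquiv.finrank_eq (L d).quotKerEquivRange, hker d]
    exact Groth.Agent.S10824.result k n m d f g hf hg hn hm hf0 hg0 hfg hd
  -- monotone
  have hmono1 : ∀ d, LinearMap.range (L d) ≤ LinearMap.range (L (d + 1)) := by
    rintro d _ ⟨⟨p, hp⟩, rfl⟩
    refine ⟨⟨X 2 * p, ?_⟩, ?_⟩
    · have := (isHomogeneous_X k (2 : Fin 3)).mul hp
      rwa [add_comm] at this
    · rw [hLapp, hLapp]
      show Ideal.Quotient.mk J (ev (X 2 * p)) = Ideal.Quotient.mk J (ev p)
      rw [map_mul, hev, aeval_X]
      show Ideal.Quotient.mk J (1 * _) = _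
      rw [one_mul]
  have hmono : ∀ e d, LinearMap.range (L d) ≤ LinearMap.range (L (d + e)) := by
    intro e
    induction e with
    | zero => intro d; exact le_rfl
    | succ e ih => intro d; exact (ih d).trans (hmono1 (d + e))
  -- stabilisation
  have hstab : ∀ e, LinearMap.range (L (n + m + e)) = LinearMap.range (L (n + m)) := by
    intro e
    symm
    apply Submodule.eq_of_le_of_finrank_eq (hmono e (n + m))
    rw [hfin _ le_rfl, hfin _ (by omega)]
  -- surjectivity
  have htop : LinearMap.range (L (n + m)) = ⊤ := by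
    rw [eq_top_iff]
    rintro a -
    obtain ⟨r, rfl⟩ := Ideal.Quotient.mk_surjective a
    obtain ⟨Q, hQ, hQe⟩ := exists_form_aeval_eq (incl r)
    rw [aeval_incl _ rfl rfl] at hQe
    have h1 : Ideal.Quotient.mk J r ∈ LinearMap.range (L (incl r).totalDegree) :=
      ⟨⟨Q, hQ⟩, by rw [hLapp]; show Ideal.Quotient.mk J (ev Q) = _; rw [hev, hQe]⟩
    have h2 := hmono (n + m) _ h1
    rw [add_comm, hstab] at h2
    exact h2
  have := hfin (n + m) le_rfl
  rw [htop, finrank_top] at this
  exact this

end helpers

/-- Let k be a field and f, g nonzero homogeneous polynomials of positive degrees n and m in three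
variables X, Y, T without common non-unit factor, and assume that f(X, Y, 0) and g(X, Y, 0) are also
without common non-unit factor in k[X, Y] (no common point of the two curves lies on the line T =
0). Then the quotient of k[X, Y] by the ideal generated by f(X, Y, 1) and g(X, Y, 1) has dimension
n·m over k. (The published statement is that two plane curves without common component have total
intersection number equal to the product of their degrees; its argument moves a line off the
finitely many common points and then proves exactly this affine count, which is what this row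
states, over an arbitrary field.) -/
theorem result (k : Type u) [Field k] (n m : ℕ)
    (f g : MvPolynomial (Fin 3) k) (hf : f.IsHomogeneous n) (hg : g.IsHomogeneous m)
    (hn : 0 < n) (hm : 0 < m) (hf0 : f ≠ 0) (hg0 : g ≠ 0) (hfg : IsRelPrime f g)
    (hT : IsRelPrime
      (MvPolynomial.aeval (Fin.cons (MvPolynomial.X 0) (Fin.cons (MvPolynomial.X 1)
        (Fin.cons 0 Fin.elim0)) : Fin 3 → MvPolynomial (Fin 2) k) f)
      (MvPolynomial.aeval (Fin.cons (MvPolynomial.X 0) (Fin.cons (MvPolynomial.X 1)
        (Fin.cons 0 Fin.elim0)) : Fin 3 → MvPolynomial (Fin 2) k) g)) :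
    Module.finrank k (MvPolynomial (Fin 2) k ⧸ Ideal.span
      ({MvPolynomial.aeval (Fin.cons (MvPolynomial.X 0) (Fin.cons (MvPolynomial.X 1)
          (Fin.cons 1 Fin.elim0)) : Fin 3 → MvPolynomial (Fin 2) k) f,
        MvPolynomial.aeval (Fin.cons (MvPolynomial.X 0) (Fin.cons (MvPolynomial.X 1)
          (Fin.cons 1 Fin.elim0)) : Fin 3 → MvPolynomial (Fin 2) k) g} :
        Set (MvPolynomial (Fin 2) k))) = n * m := by
  exact core n m f g hf hg hn hm hf0 hg0 hfg hT

end Groth.Agent.S10827
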