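import Groth.Statements.S10830
-- import your own Groth.Agent.* helpers here

set_option autoImplicit false
universe u
open Topology TopologicalSpace
open TopDim

namespace Groth.Agent.S10830

open Set Topology TopologicalSpace TopologicalSpace.IrreducibleCloseds

/-- In an irreducible topological space X of finite Krull dimension, every proper closed subset Y has
strictly smaller Krull dimension than X. -/
theorem result (X : Type u) [TopologicalSpace X]
    [IrreducibleSpace X] (hfin : topologicalKrullDim X ≠ ⊤) (Y : Set X) (hY : IsClosed Y) (hYX : Y ≠ Set.univ) :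
    topologicalKrullDim ↥Y < topologicalKrullDim X := by
  let T : IrreducibleCloseds X := ⟨univ, IrreducibleSpace.isIrreducible_univ X, isClosed_univ⟩
  have hTle : (Order.height T : WithBot ℕ∞) ≤ topologicalKrullDim X := Order.height_le_krullDim T
  by_cases hemp : IsEmpty (IrreducibleCloseds Y)
  · have h0 : topologicalKrullDim Y = ⊥ := Order.krullDim_eq_bot
    rw [h0]
    exact lt_of_lt_of_le (WithBot.bot_lt_coe _) hTle
  · rw [not_isEmpty_iff] at hemp
    have key : ∀ Z : IrreducibleCloseds Y, Order.height Z + 1 ≤ Order.height T := by
      intro Z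
      have h1 := Order.height_le_height_apply_of_strictMono _
        (map_strictMono_of_isInducing (IsInducing.subtypeVal (t := Y))) Z
      have h2 : map Subtype.val continuous_subtype_val Z < T := by
        refine lt_of_le_of_ne (fun x _ => mem_univ x) ?_
        intro heq
        apply hYX
        have h3 : closure (Subtype.val '' (Z : Set Y)) = univ :=
          congrArg (fun C : IrreducibleCloseds X => (C : Set X)) heq
        have hsub : closure (Subtype.val '' (Z : Set Y)) ⊆ Y :=
          closure_minimal (by rintro _ ⟨y, -, rfl⟩; exact y.2) hY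
        rw [h3] at hsub
        exact eq_univ_of_univ_subset hsub
      exact (add_le_add_left h1 1).trans (Order.height_add_one_le h2)
    have hTfin : Order.height T ≠ ⊤ := by
      intro h
      rw [h] at hTle
      exact hfin (top_le_iff.mp hTle)
    obtain ⟨d, hd⟩ := ENat.ne_top_iff_exists.mp hTfin
    have hZ : ∀ Z : IrreducibleCloseds Y, Order.height Z ≤ ((d - 1 : ℕ) : ℕ∞) ∧ 1 ≤ d := by
      intro Z
      have hk := key Z
      rw [← hd] at hk
      have hZfin : Order.height Z ≠ ⊤ := by
        intro h
        rw [h] at hk
        simp at hk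
      obtain ⟨n, hn⟩ := ENat.ne_top_iff_exists.mp hZfin
      rw [← hn] at hk ⊢
      have : n + 1 ≤ d := by exact_mod_cast hk
      constructor
      · exact_mod_cast (by omega : n ≤ d - 1)
      · omega
    have hd1 : 1 ≤ d := (hZ hemp.some).2
    have hsup : (⨆ Z : IrreducibleCloseds Y, Order.height Z) ≤ ((d - 1 : ℕ) : ℕ∞) :=
      iSup_le fun Z => (hZ Z).1
    have hY' : topologicalKrullDim Y = ((⨆ Z : IrreducibleCloseds Y, Order.height Z : ℕ∞) : WithBot ℕ∞) :=
      Order.krullDim_eq_iSup_height_of_nonempty
    rw [hY']
    refine lt_of_lt_of_le ?_ hTle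
    rw [← hd]
    have : ((d - 1 : ℕ) : ℕ∞) < (d : ℕ∞) := by exact_mod_cast (by omega : d - 1 < d)
    exact_mod_cast lt_of_le_of_lt hsup this

end Groth.Agent.S10830
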