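import Groth.Statements.S10831
-- import your own Groth.Agent.* helpers here

set_option autoImplicit false
universe u
open Topology TopologicalSpace
open TopDim

namespace Groth.Agent.S10831

open Set Topology TopologicalSpace TopologicalSpace.IrreducibleCloseds


lemma isIrreducible_preimage_val {X : Type u} [TopologicalSpace X] {Y W : Set X} (hWY : W ⊆ Y)
    (hW : IsIrreducible W) : IsIrreducible ((Subtype.val : Y → X) ⁻¹' W) := by
  constructor
  · obtain ⟨w, hw⟩ := hW.nonempty
    exact ⟨⟨w, hWY hw⟩, hw⟩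
  · intro U' V' hU' hV' hUne hVne
    obtain ⟨U, hU, rfl⟩ := isOpen_induced_iff.mp hU'
    obtain ⟨V, hV, rfl⟩ := isOpen_induced_iff.mp hV'
    obtain ⟨⟨a, haY⟩, haW, haU⟩ := hUne
    obtain ⟨⟨b, hbY⟩, hbW, hbV⟩ := hVne
    obtain ⟨z, hzW, hzU, hzV⟩ := hW.isPreirreducible U V hU hV ⟨a, haW, haU⟩ ⟨b, hbW, hbV⟩
    exact ⟨⟨z, hWY hzW⟩, hzW, hzU, hzV⟩

/-- The Krull dimension of a topological space is the supremum of the Krull dimensions of its
irreducible components. -/
theorem result (X : Type u) [TopologicalSpace X] :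
    topologicalKrullDim X = ⨆ Y ∈ irreducibleComponents X, topologicalKrullDim ↥Y := by
  apply le_antisymm
  · rw [topologicalKrullDim, Order.krullDim_eq_iSup_height]
    refine iSup_le fun Z => ?_
    obtain ⟨Y, hYirr, hZY, hYmax⟩ :=
      exists_preirreducible (Z : Set X) Z.isIrreducible.isPreirreducible
    have hYcomp : Y ∈ irreducibleComponents X := by
      refine ⟨⟨Z.isIrreducible.nonempty.mono hZY, hYirr⟩, ?_⟩
      intro u hu hYu
      exact (hYmax u hu.isPreirreducible hYu).le
    rw [Order.height_eq_krullDim_Iic]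
    refine le_trans ?_ (le_iSup₂ (f := fun (Y : Set X) (_ : Y ∈ irreducibleComponents X) => topologicalKrullDim ↥Y) Y hYcomp)
    let g : Set.Iic Z → IrreducibleCloseds ↥Y := fun W =>
      ⟨Subtype.val ⁻¹' (W.1 : Set X),
        isIrreducible_preimage_val (le_trans W.2 hZY) W.1.isIrreducible,
        W.1.isClosed.preimage continuous_subtype_val⟩
    refine Order.krullDim_le_of_strictMono g ?_
    intro W₁ W₂ h12
    have hle : (W₁.1 : Set X) ⊆ W₂.1 := (le_of_lt h12 : W₁ ≤ W₂)
    refine lt_of_le_of_ne (fun y hy => hle hy) ?_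
    intro heq
    apply ne_of_lt h12
    apply Subtype.ext
    apply SetLike.coe_injective
    apply subset_antisymm hle
    intro x hx
    have hxY : x ∈ Y := hZY (W₂.2 hx)
    have h1 : (⟨x, hxY⟩ : ↥Y) ∈ (g W₂ : Set ↥Y) := hx
    rw [← heq] at h1
    exact h1
  · exact iSup₂_le fun Y _ => topologicalKrullDim_subspace_le X Y

end Groth.Agent.S10831
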