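import Groth.Statements.S10832
import Mathlib

set_option autoImplicit false
universe u
open CategoryTheory AlgebraicGeometry Topology
open Variety

namespace Groth.Agent.S10832



open TopologicalSpace

theorem exists_le_of_sInf_le {B : Type u} [CommRing B] (p : Ideal B) (hp : p.IsPrime)
    (S : Set (Ideal B)) (hS : S.Finite) (h : sInf S ≤ p) : ∃ m ∈ S, m ≤ p := by
  induction S, hS using Set.Finite.induction_on with
  | empty =>
    rw [sInf_empty] at h
    exact absurd (top_le_iff.mp h) hp.ne_top
  | insert _ _ ih =>
    rename_i a S _ _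
    rw [sInf_insert] at h
    rcases hp.inf_le.mp h with h1 | h1
    · exact ⟨a, Set.mem_insert _ _, h1⟩
    · obtain ⟨m, hm, hmp⟩ := ih h1
      exact ⟨m, Set.mem_insert_of_mem _ hm, hmp⟩

theorem artinian_of_finite_spec (B : Type u) [CommRing B] [IsNoetherianRing B] [IsJacobsonRing B]
    [Finite (PrimeSpectrum B)] : IsArtinianRing B := by
  rw [isArtinianRing_iff_isNoetherianRing_krullDimLE_zero]
  refine ⟨inferInstance, Ring.krullDimLE_zero_iff.mpr fun p hp => ?_⟩
  have hjac : p.jacobson = p := IsJacobsonRing.out inferInstance hp.isRadical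
  have hfin : {J : Ideal B | p ≤ J ∧ J.IsMaximal}.Finite := by
    refine (Set.finite_range (PrimeSpectrum.asIdeal (R := B))).subset ?_
    intro J hJ
    exact ⟨⟨J, hJ.2.isPrime⟩, rfl⟩
  obtain ⟨m, hm, hmp⟩ := exists_le_of_sInf_le p hp _ hfin (le_of_eq hjac)
  have h1 : p = m := le_antisymm hm.1 hmp
  rw [h1]
  exact hm.2

theorem germ_bijective_of_discrete (X : Scheme.{u}) [DiscreteTopology X] :
    Function.Bijective (fun s : Γ(X, ⊤) => fun x : X => X.presheaf.germ ⊤ x trivial s) := by
  constructor
  · intro s t hst
    exact TopCat.Presheaf.section_ext X.sheaf ⊤ s t (fun x _ => congrFun hst x)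
  · intro t
    let V : X → X.Opens := fun x => ⟨{x}, isOpen_discrete _⟩
    have hxV : ∀ x, x ∈ V x := fun x => rfl
    have hex : ∀ x, ∃ s : Γ(X, V x), X.presheaf.germ (V x) x (hxV x) s = t x := by
      intro x
      obtain ⟨U, m, s, hs⟩ := X.presheaf.exists_germ_eq (t x)
      have hle : V x ≤ U := by
        intro y hy
        rw [Set.mem_singleton_iff.mp hy]
        exact m
      refine ⟨X.presheaf.map (homOfLE hle).op s, ?_⟩
      rw [← hs]
      exact TopCat.Presheaf.germ_res_apply X.presheaf (homOfLE hle) x (hxV x) s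
    choose sf hsf using hex
    have hcompat : TopCat.Presheaf.IsCompatible X.sheaf.1 V sf := by
      intro i j
      by_cases hij : i = j
      · subst hij
        rfl
      · have hbot : V i ⊓ V j = ⊥ := by
          ext y
          simp only [Opens.coe_inf, Set.mem_inter_iff, Opens.coe_bot, Set.mem_empty_iff_false,
            iff_false, not_and]
          intro h1 h2
          exact hij ((Set.mem_singleton_iff.mp h1).symm.trans (Set.mem_singleton_iff.mp h2))
        haveI : Subsingleton Γ(X, V i ⊓ V j) := by
          rw [hbot]; infer_instance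
        exact @Subsingleton.elim Γ(X, V i ⊓ V j) this _ _
    have hcover : (⊤ : X.Opens) ≤ iSup V := by
      intro x _
      exact Opens.mem_iSup.mpr ⟨x, hxV x⟩
    obtain ⟨s, hs, -⟩ := X.sheaf.existsUnique_gluing' V ⊤ (fun i => homOfLE le_top) hcover sf hcompat
    refine ⟨s, ?_⟩
    funext x
    show X.presheaf.germ ⊤ x trivial s = t x
    rw [← hsf x, ← hs x]
    exact (TopCat.Presheaf.germ_res_apply X.presheaf (homOfLE le_top) x (hxV x) s).symm

theorem isLocallyArtinian_of_finite (k : Type u) [Field k] {X : Scheme.{u}}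
    (f : X ⟶ Spec (CommRingCat.of k)) [LocallyOfFiniteType f] [Finite X] :
    IsLocallyArtinian X := by
  haveI : IsLocallyNoetherian X := LocallyOfFiniteType.isLocallyNoetherian f
  refine ⟨fun U => ?_⟩
  haveI : IsNoetherianRing Γ(X, U.1) := IsLocallyNoetherian.component_noetherian U
  have hft : (f.appLE ⊤ U.1 le_top).hom.FiniteType :=
    HasRingHomProperty.appLE (P := @LocallyOfFiniteType) f inferInstance
      ⟨⊤, isAffineOpen_top _⟩ U le_top
  haveI : IsArtinianRing Γ(Spec (CommRingCat.of k), ⊤) :=
    (Scheme.ΓSpecIso (CommRingCat.of k)).commRingCatIsoToRingEquiv.symm.isArtinianRing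
  haveI : IsJacobsonRing Γ(X, U.1) := hft.isJacobsonRing
  haveI : Finite (PrimeSpectrum Γ(X, U.1)) :=
    Finite.of_injective (fun q : PrimeSpectrum Γ(X, U.1) => U.2.fromSpec q)
      U.2.fromSpec.isOpenEmbedding.injective
  exact artinian_of_finite_spec Γ(X, U.1)

/-- For a nonempty scheme X of finite type over a field k the following are equivalent: X has Krull
dimension 0; X is affine with ring of global sections finite over k and equal to the product of all
its local rings via the germ maps; the underlying space of X is discrete; the underlying space of X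
is finite. -/
theorem result (k : Type u) [Field k] {X : Scheme.{u}} [Nonempty X]
    (f : X ⟶ Spec (CommRingCat.of k)) [LocallyOfFiniteType f] [QuasiCompact f] :
    [topologicalKrullDim ↥X = 0,
      IsAffine X ∧ f.appTop.hom.Finite ∧
        Function.Bijective (fun s : Γ(X, ⊤) => fun x : X => X.presheaf.germ ⊤ x trivial s),
      DiscreteTopology ↥X,
      Finite ↥X].TFAE := by

  haveI : IsLocallyNoetherian X := LocallyOfFiniteType.isLocallyNoetherian f
  haveI : CompactSpace X := QuasiCompact.compactSpace_of_compactSpace f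
  haveI hAart : IsArtinianRing Γ(Spec (CommRingCat.of k), ⊤) :=
    (Scheme.ΓSpecIso (CommRingCat.of k)).commRingCatIsoToRingEquiv.symm.isArtinianRing
  tfae_have 1 → 3 := by
    intro h1
    haveI : IsLocallyArtinian X := IsLocallyArtinian.of_topologicalKrullDim_le_zero (le_of_eq h1)
    infer_instance
  tfae_have 3 → 1 := by
    intro h3
    apply le_antisymm (topologicalKrullDim_zero_of_discreteTopology X)
    rw [topologicalKrullDim]
    haveI : Nonempty (IrreducibleCloseds X) := by
      obtain ⟨x⟩ := (inferInstance : Nonempty X)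
      exact ⟨⟨closure {x}, isIrreducible_singleton.closure, isClosed_closure⟩⟩
    exact Order.krullDim_nonneg
  tfae_have 3 → 4 := by
    intro h3
    exact finite_of_compact_of_discrete
  tfae_have 4 → 3 := by
    intro h4
    haveI : IsLocallyArtinian X := isLocallyArtinian_of_finite k f
    infer_instance
  tfae_have 3 → 2 := by
    intro h3
    haveI : Finite X := finite_of_compact_of_discrete
    haveI : IsLocallyArtinian X := isLocallyArtinian_of_finite k f
    haveI : IsAffine X := inferInstance
    refine ⟨inferInstance, ?_, germ_bijective_of_discrete X⟩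
    have hft : f.appTop.hom.FiniteType :=
      (HasRingHomProperty.iff_of_isAffine (P := @LocallyOfFiniteType)).mp inferInstance
    letI := f.appTop.hom.toAlgebra
    haveI : Algebra.FiniteType Γ(Spec (CommRingCat.of k), ⊤) Γ(X, ⊤) := hft
    exact Module.finite_of_isArtinianRing Γ(Spec (CommRingCat.of k), ⊤) Γ(X, ⊤)
  tfae_have 2 → 4 := by
    rintro ⟨haff, hfin, -⟩
    letI := f.appTop.hom.toAlgebra
    haveI : Module.Finite Γ(Spec (CommRingCat.of k), ⊤) Γ(X, ⊤) := hfin
    haveI : IsArtinianRing Γ(X, ⊤) := IsArtinianRing.of_finite Γ(Spec (CommRingCat.of k), ⊤) Γ(X, ⊤)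
    haveI : Finite (PrimeSpectrum Γ(X, ⊤)) := inferInstance
    exact Finite.of_injective (fun x : X => (X.isoSpec.hom x : PrimeSpectrum Γ(X, ⊤)))
      X.isoSpec.hom.homeomorph.injective
  tfae_finish

end Groth.Agent.S10832
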