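import Groth.Statements.S10834
import Mathlib
import Groth.Agent.Lib.Helper18.SkLift
import Groth.Agent.Lib.Helper16.RegularDim
import Groth.Agent.Lib.Helper18.SerreNormal

set_option autoImplicit false
universe u
open CAlg

namespace Groth.Agent.S10834



open IsLocalRing in
/-- a quotient of a regular local ring by one element of the maximal ideal is Cohen–Macaulay -/
theorem cm_quot (S : Type u) [CommRing S] [IsRegularLocalRing S] (t : S)
    (ht : t ∈ maximalIdeal S) [IsLocalRing (S ⧸ Ideal.span {t})] :
    ringKrullDim (S ⧸ Ideal.span {t}) =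
      ((LocCoh.depth (S ⧸ Ideal.span {t}) (S ⧸ Ideal.span {t}) : ℕ∞) : WithBot ℕ∞) := by
  have hdom : IsDomain S := Groth.Agent.Lib.Helper21.isDomain_of_isRegularLocalRing S
  have hCM := Groth.Agent.Lib.Helper16.PDR.isCohenMacaulayModule_self_of_isRegularLocalRing S
  unfold LocCoh.IsCohenMacaulayModule at hCM
  rw [Module.supportDim_self_eq_ringKrullDim] at hCM
  by_cases h0 : t = 0
  · subst h0
    have hbot : Ideal.span {(0 : S)} = ⊥ := by simp
    let e : (S ⧸ Ideal.span {(0 : S)}) ≃+* S :=
      (Ideal.quotEquivOfEq hbot).trans (RingEquiv.quotientBot S)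
    rw [ringKrullDim_eq_of_ringEquiv e,
      Groth.Agent.Lib.Helper18.Serre.depth_self_eq_of_ringEquiv e]
    exact hCM
  · have hreg : IsSMulRegular S t := by
      intro x y hxy
      exact mul_left_cancel₀ h0 hxy
    have h1 := Groth.Agent.Lib.Helper18.SkLift.depth_quotient_span_singleton_succ S ht hreg
    have h2 := ringKrullDim_quotient_span_singleton_succ_eq_ringKrullDim hreg ht
    rw [hCM, ← h1] at h2
    obtain ⟨n, hn⟩ := Groth.Agent.Lib.Helper21.exists_nat_eq_ringKrullDim
      (R := S ⧸ Ideal.span {t})
    rw [hn] at h2 ⊢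
    have h3 : (((n + 1 : ℕ) : ℕ∞) : WithBot ℕ∞) =
        ((LocCoh.depth (S ⧸ Ideal.span {t}) (S ⧸ Ideal.span {t}) + 1 : ℕ∞) : WithBot ℕ∞) := by
      rw [← h2]; push_cast; rfl
    have h4 : ((n + 1 : ℕ) : ℕ∞) =
        LocCoh.depth (S ⧸ Ideal.span {t}) (S ⧸ Ideal.span {t}) + 1 := WithBot.coe_eq_coe.mp h3
    have h5 : ((n : ℕ) : ℕ∞) = LocCoh.depth (S ⧸ Ideal.span {t}) (S ⧸ Ideal.span {t}) := by
      have : ((n : ℕ) : ℕ∞) + 1 = LocCoh.depth (S ⧸ Ideal.span {t}) (S ⧸ Ideal.span {t}) + 1 := by
        rw [← h4]; push_cast; rfl
      exact (ENat.add_left_injective_of_ne_top (ENat.one_ne_top)) this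
    rw [← h5]; rfl

open IsLocalRing in
theorem hasSk_two_quotient (A : Type u) [CommRing A]
    [IsNoetherianRing A] (hreg : ∀ (p : Ideal A) (_ : p.IsPrime), IsRegularLocalRing (Localization.AtPrime p))
    (f : A) :
    LocCoh.HasSk 2 (A ⧸ Ideal.span ({f} : Set A)) (A ⧸ Ideal.span ({f} : Set A)) := by
  rw [Groth.Agent.Lib.Helper18.Serre.hasSk_self_iff]
  intro q hq
  set p : Ideal A := q.comap (Ideal.Quotient.mk (Ideal.span {f})) with hp
  have hpprime : p.IsPrime := Ideal.comap_isPrime _ _
  have hfp : f ∈ p := by
    rw [hp, Ideal.mem_comap]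
    have : Ideal.Quotient.mk (Ideal.span {f}) f = 0 :=
      Ideal.Quotient.eq_zero_iff_mem.mpr (Ideal.subset_span rfl)
    rw [this]
    exact zero_mem _
  have hqeq : p.map (Ideal.Quotient.mk (Ideal.span {f})) = q :=
    Ideal.map_comap_of_surjective _ Ideal.Quotient.mk_surjective q
  have key' : ∀ (q' : Ideal (A ⧸ Ideal.span {f})) [q'.IsPrime],
      q' = p.map (Ideal.Quotient.mk (Ideal.span {f})) →
      min ((2 : ℕ) : WithBot ℕ∞) (q'.height : WithBot ℕ∞) ≤
        ((LocCoh.depth (Localization.AtPrime q') (Localization.AtPrime q') : ℕ∞) : WithBot ℕ∞) := by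
    intro q' hq'prime hq'eq
    subst hq'eq
    have hregp := hreg p hpprime
    set S := Localization.AtPrime p with hS
    set t' : S := algebraMap A S f with ht'
    have ht'm : t' ∈ maximalIdeal S := by
      have h3 : (maximalIdeal S).under A = p := Localization.AtPrime.under_maximalIdeal
      have h4 : f ∈ (maximalIdeal S).under A := by
        rw [h3]; exact hfp
      exact h4
    have hloc : IsLocalRing (S ⧸ Ideal.span {t'}) :=
      Groth.Agent.Lib.Helper21.isLocalRing_quotient_of_le_maximalIdeal
        ((Ideal.span_singleton_le_iff_mem _).mpr ht'm)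
    obtain ⟨e⟩ := Groth.Agent.Lib.Helper18.SkLift.nonempty_ringEquiv_quotient_localization f p hfp
    have h1 := cm_quot S t' ht'm
    rw [← ringKrullDim_eq_of_ringEquiv e,
      ← Groth.Agent.Lib.Helper18.Serre.depth_self_eq_of_ringEquiv e,
      IsLocalization.AtPrime.ringKrullDim_eq_height
        (p.map (Ideal.Quotient.mk (Ideal.span {f})))
        (Localization.AtPrime (p.map (Ideal.Quotient.mk (Ideal.span {f}))))] at h1
    rw [← h1]
    exact min_le_right _ _
  exact key' q hqeq.symm

/-- Let A be a Noetherian ring whose localizations at all prime ideals are regular local rings, and f an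
element of A generating a prime ideal, so that A/(f) is an integral domain (an integral hypersurface
in the regular affine scheme Spec A). Then A/(f) is normal (integrally closed in its fraction field)
if and only if it is regular in codimension 1, i.e. its localization at every prime at which the
local ring has dimension 1 is a regular local ring. -/
theorem result (A : Type u) [CommRing A]
    [IsNoetherianRing A] (hreg : ∀ (p : Ideal A) (_ : p.IsPrime), IsRegularLocalRing (Localization.AtPrime p))
    (f : A) (hf : (Ideal.span ({f} : Set A)).IsPrime) :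
    IsIntegrallyClosed (A ⧸ Ideal.span ({f} : Set A)) ↔
      ∀ q : PrimeSpectrum (A ⧸ Ideal.span ({f} : Set A)),
        ringKrullDim (Localization.AtPrime q.asIdeal) = 1 →
          IsRegularLocalRing (Localization.AtPrime q.asIdeal) := by

  classical
  set B := A ⧸ Ideal.span ({f} : Set A) with hB
  have hdomB : IsDomain B := (Ideal.Quotient.isDomain_iff_prime _).mpr hf
  constructor
  · intro hIC q hq1
    have hIC' : IsIntegrallyClosed (Localization.AtPrime q.asIdeal) :=
      isIntegrallyClosed_of_isLocalization _ q.asIdeal.primeCompl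
        q.asIdeal.primeCompl_le_nonZeroDivisors
    exact Groth.Agent.Lib.Helper18.Serre.isRegularLocalRing_of_isIntegrallyClosed_of_dim_le_one _
      hq1.le
  · intro hR1
    have hS2 : LocCoh.HasSk 2 B B := hasSk_two_quotient A hreg f
    have hRk : LocCoh.HasRk 1 B := by
      intro q hq hqh
      by_cases hq0 : q.height = 0
      · have hqbot : q = ⊥ := Ideal.height_eq_zero_iff_eq_bot.mp hq0
        have hdim : ringKrullDim (Localization.AtPrime q) ≤ 1 := by
          rw [IsLocalization.AtPrime.ringKrullDim_eq_height q (Localization.AtPrime q), hq0]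
          exact_mod_cast zero_le_one
        have hIC' : IsIntegrallyClosed (Localization.AtPrime q) := by
          have hfield : IsField (Localization.AtPrime q) := by
            have hdom' : IsDomain (Localization.AtPrime q) :=
              IsLocalization.isDomain_localization q.primeCompl_le_nonZeroDivisors
            have hk : Ring.KrullDimLE 0 (Localization.AtPrime q) := by
              rw [Ring.krullDimLE_iff,
                IsLocalization.AtPrime.ringKrullDim_eq_height q (Localization.AtPrime q), hq0]
              rfl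
            exact Ring.KrullDimLE.isField_of_isDomain
          exact hfield.toField.instIsIntegrallyClosed
        exact Groth.Agent.Lib.Helper18.Serre.isRegularLocalRing_of_isIntegrallyClosed_of_dim_le_one
          _ hdim
      · have hq1 : q.height = 1 := by
          have h1 : 1 ≤ q.height := Order.one_le_iff_pos.mpr (pos_iff_ne_zero.mpr hq0)
          exact le_antisymm (by exact_mod_cast hqh) h1
        have := hR1 ⟨q, hq⟩ (by
          rw [IsLocalization.AtPrime.ringKrullDim_eq_height q (Localization.AtPrime q), hq1]; rfl)
        exact this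
    have hall := (Groth.Agent.Lib.Helper18.Serre.serre_criterion_normal B).mpr ⟨hRk, hS2⟩
    exact IsIntegrallyClosed.of_localization_maximal fun p _ _ => (hall p).2

end Groth.Agent.S10834
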