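import Groth.Statements.S10836
import Mathlib.RingTheory.LocalRing.Module
import Mathlib.RingTheory.Localization.Free
import Mathlib.RingTheory.LocalProperties.Projective
import Mathlib.RingTheory.Localization.Finiteness
import Mathlib.RingTheory.Localization.Ideal
-- import your own Groth.Agent.* helpers here

set_option autoImplicit false
universe u
open Coh

namespace Groth.Agent.S10836

open TensorProduct Module


/-- the complement of a union of primes -/
def avoid {A : Type u} [CommRing A] (Z : Set (PrimeSpectrum A)) : Submonoid A where
  carrier := {x | ∀ p ∈ Z, x ∉ p.asIdeal}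
  one_mem' := fun p _ h => p.isPrime.ne_top ((Ideal.eq_top_iff_one _).mpr h)
  mul_mem' := by
    intro x y hx hy p hp hxy
    rcases p.isPrime.mem_or_mem hxy with h | h
    · exact hx p hp h
    · exact hy p hp h

lemma finite_maximalSpectrum {A : Type u} [CommRing A] (Z : Set (PrimeSpectrum A)) (hZ : Z.Finite) :
    Finite (MaximalSpectrum (Localization (avoid Z))) := by
  classical
  set S := avoid Z
  set Rₛ := Localization S
  have hmax : ∀ P : MaximalSpectrum Rₛ, ∃ p ∈ Z, P.asIdeal = Ideal.map (algebraMap A Rₛ) p.asIdeal := by
    intro P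
    set q := P.asIdeal.comap (algebraMap A Rₛ) with hq
    have hqS : ∀ x ∈ q, x ∉ S := by
      intro x hxq hxS
      have hu : IsUnit (algebraMap A Rₛ x) := IsLocalization.map_units Rₛ ⟨x, hxS⟩
      exact P.isMaximal.ne_top (Ideal.eq_top_of_isUnit_mem _ hxq hu)
    let T : Finset (Ideal A) := hZ.toFinset.image (fun p => p.asIdeal)
    have hsub : (q : Set A) ⊆ ⋃ J ∈ (T : Set (Ideal A)), ((id J : Ideal A) : Set A) := by
      intro x hx
      have := hqS x hx
      simp only [S, avoid, Submonoid.mem_mk, Subsemigroup.mem_mk, Set.mem_ofPred_eq, not_forall,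
        not_not] at this
      obtain ⟨p, hp, hxp⟩ := this
      simp only [Set.mem_iUnion]
      refine ⟨p.asIdeal, ?_, hxp⟩
      simp only [T, Finset.coe_image, Set.mem_image, Finset.mem_coe, Set.Finite.mem_toFinset]
      exact ⟨p, hp, rfl⟩
    obtain ⟨J, hJ, hqJ⟩ := (Ideal.subset_union_prime (f := fun J : Ideal A => id J)
      (⊤ : Ideal A) ⊤ (fun i hi _ _ => by
        simp only [T, Finset.mem_image, Set.Finite.mem_toFinset] at hi
        obtain ⟨p, -, rfl⟩ := hi
        exact p.isPrime)).mp hsub
    simp only [T, Finset.mem_image, Set.Finite.mem_toFinset] at hJ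
    obtain ⟨p, hpZ, rfl⟩ := hJ
    have hqp : q ≤ p.asIdeal := hqJ
    refine ⟨p, hpZ, ?_⟩
    have h1 : P.asIdeal ≤ Ideal.map (algebraMap A Rₛ) p.asIdeal := by
      rw [← IsLocalization.map_under S Rₛ P.asIdeal]
      exact Ideal.map_mono hqp
    have h2 : Ideal.map (algebraMap A Rₛ) p.asIdeal ≠ ⊤ := by
      rw [IsLocalization.map_algebraMap_ne_top_iff_disjoint S]
      rw [Set.disjoint_left]
      intro x hxS hxp
      exact hxS p hpZ hxp
    exact P.isMaximal.eq_of_le h2 h1
  choose F hFZ hF using hmax
  have hinj : Function.Injective (fun P : MaximalSpectrum Rₛ => (⟨F P, hFZ P⟩ : Z)) := by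
    intro P Q hPQ
    have : F P = F Q := congrArg Subtype.val hPQ
    apply MaximalSpectrum.ext
    rw [hF P, hF Q, this]
  have : Finite Z := hZ
  exact Finite.of_injective _ hinj

lemma finrank_quotient_eq_rankAtStalk {R' : Type u} [CommRing R'] (N : Type u) [AddCommGroup N]
    [Module R' N] [Module.Finite R' N] [Module.Flat R' N] (P : Ideal R') [hP : P.IsMaximal] :
    finrank (R' ⧸ P) ((R' ⧸ P) ⊗[R'] N) = rankAtStalk N ⟨P, hP.isPrime⟩ := by
  let _ := Ideal.Quotient.field P
  rw [rankAtStalk_eq]
  let e : P.ResidueField ⊗[R' ⧸ P] ((R' ⧸ P) ⊗[R'] N) ≃ₗ[P.ResidueField]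
      P.ResidueField ⊗[R'] N :=
    AlgebraTensorModule.cancelBaseChange R' (R' ⧸ P) P.ResidueField P.ResidueField N
  show _ = finrank P.ResidueField (P.ResidueField ⊗[R'] N)
  rw [← e.finrank_eq]
  exact (Module.finrank_baseChange (R := P.ResidueField) (S := R' ⧸ P)
    (M' := (R' ⧸ P) ⊗[R'] N)).symm

/-- Let A be a commutative ring, M a finitely generated projective A-module whose rank at every prime is
r, and Z a finite set of prime ideals of A. Then there is an element s of A outside every prime of Z
such that the localized module M_s has a basis of r elements over A_s. (The published statement is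
for a finite locally free module of constant rank r on a scheme and a finite set of points inside an
affine open Spec A, and produces a basic open D(s) containing the points on which the module is free
of rank r; its argument begins by replacing the scheme with Spec A, and this row states that case.) -/
theorem result (A : Type u) [CommRing A]
    (M : Type u) [AddCommGroup M] [Module A M] [Module.Finite A M] [Module.Projective A M] (r : ℕ)
    (hr : ∀ p : PrimeSpectrum A, Module.rankAtStalk M p = r)
    (Z : Set (PrimeSpectrum A)) (hZ : Z.Finite) :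
    ∃ s : A, (∀ p ∈ Z, s ∉ p.asIdeal) ∧
      Nonempty (Module.Basis (Fin r) (Localization.Away s) (LocalizedModule (Submonoid.powers s) M)) := by
  classical
  set S := avoid Z
  have hfin : Finite (MaximalSpectrum (Localization S)) := finite_maximalSpectrum Z hZ
  have hrk : ∀ P : MaximalSpectrum (Localization S),
      finrank (Localization S ⧸ P.1) ((Localization S ⧸ P.1) ⊗[Localization S]
        LocalizedModule S M) = r := by
    intro P
    have := P.isMaximal
    rw [finrank_quotient_eq_rankAtStalk (LocalizedModule S M) P.asIdeal,
      rankAtStalk_isBaseChange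
        (IsLocalizedModule.isBaseChange S (Localization S) (LocalizedModule.mkLinearMap S M))]
    exact hr _
  obtain ⟨b⟩ := Module.nonempty_basis_of_flat_of_finrank_eq (Localization S)
    (LocalizedModule S M) r hrk
  have : Module.FinitePresentation A M := Module.finitePresentation_of_projective A M
  obtain ⟨s, hs, b', -⟩ := Module.FinitePresentation.exists_basis_localizedModule_powers S
    (LocalizedModule.mkLinearMap S M) (Localization S) b
  exact ⟨s, hs, ⟨b'⟩⟩

end Groth.Agent.S10836
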