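import Groth.Statements.S10837
import Mathlib.AlgebraicGeometry.Morphisms.UnderlyingMap
import Mathlib.RingTheory.Spectrum.Prime.Topology
-- import your own Groth.Agent.* helpers here

set_option autoImplicit false
universe u
open CategoryTheory AlgebraicGeometry Topology
open Mor

namespace Groth.Agent.S10837

open AlgebraicGeometry CategoryTheory Mor


lemma generalizingMap_comap_of_isOpenMap {R S : Type u} [CommRing R] [CommRing S] (φ : R →+* S)
    (h : IsOpenMap (PrimeSpectrum.comap φ)) : GeneralizingMap (PrimeSpectrum.comap φ) := by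
  intro p q' hq'
  have hq'le : q'.asIdeal ≤ p.asIdeal.comap φ := (PrimeSpectrum.le_iff_specializes _ _).mpr hq'
  let M : Submonoid S := p.asIdeal.primeCompl ⊔ (q'.asIdeal.primeCompl.map φ)
  have hdisj : Disjoint ((q'.asIdeal.map φ : Ideal S) : Set S) (M : Set S) := by
    rw [Set.disjoint_left]
    intro x hxI hxM
    obtain ⟨g, hg, z, hz, rfl⟩ := Submonoid.mem_sup.mp hxM
    obtain ⟨b, hb, rfl⟩ := Submonoid.mem_map.mp hz
    have hopen : IsOpen (PrimeSpectrum.comap φ '' (PrimeSpectrum.basicOpen g : Set (PrimeSpectrum S))) :=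
      h _ (PrimeSpectrum.basicOpen g).isOpen
    have hmem : PrimeSpectrum.comap φ p ∈
        PrimeSpectrum.comap φ '' (PrimeSpectrum.basicOpen g : Set (PrimeSpectrum S)) :=
      ⟨p, hg, rfl⟩
    obtain ⟨p'', hp''g, hp''⟩ := hq'.mem_open hopen hmem
    have hI : q'.asIdeal.map φ ≤ p''.asIdeal := by
      rw [Ideal.map_le_iff_le_comap, ← hp'']
      exact le_rfl
    have hx := hI hxI
    rcases p''.isPrime.mem_or_mem hx with h1 | h1
    · exact hp''g h1
    · apply hb
      have : b ∈ (PrimeSpectrum.comap φ p'').asIdeal := h1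
      rw [hp''] at this
      exact this
  obtain ⟨p', hp'prime, hIp', hp'M⟩ := Ideal.exists_le_prime_disjoint _ M hdisj
  rw [Set.disjoint_left] at hp'M
  refine ⟨⟨p', hp'prime⟩, ?_, ?_⟩
  · show (⟨p', hp'prime⟩ : PrimeSpectrum S) ⤳ p
    rw [← PrimeSpectrum.le_iff_specializes]
    intro x hx
    by_contra hxp
    exact hp'M hx (Submonoid.mem_sup_left (show x ∈ p.asIdeal.primeCompl from hxp))
  · ext b
    constructor
    · intro hb
      by_contra hbq
      exact hp'M hb (Submonoid.mem_sup_right (Submonoid.mem_map.mpr ⟨b, hbq, rfl⟩))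
    · intro hb
      exact hIp' (Ideal.mem_map_of_mem φ hb)

/-- For a morphism of schemes f : X → Y which is open as a map of topological spaces, generalizations
lift along f: every generalization of f(x) is the image of a generalization of x. -/
theorem result {X Y : Scheme.{u}} (f : X ⟶ Y) (hf : IsOpenMap f.base) :
    GeneralizingMap f.base := by
  change topologically GeneralizingMap f
  replace hf : topologically IsOpenMap f := hf
  wlog hY : ∃ R, Y = Spec R
  · rw [IsZariskiLocalAtTarget.iff_of_openCover (P := topologically GeneralizingMap) Y.affineCover]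
    intro i
    dsimp only [Scheme.Cover.pullbackHom]
    refine this _ ?_ ⟨_, rfl⟩
    exact IsZariskiLocalAtTarget.of_isPullback (P := topologically IsOpenMap)
      (iY := Y.affineCover.f i) (IsPullback.of_hasPullback ..) hf
  obtain ⟨R, rfl⟩ := hY
  wlog hX : ∃ S, X = Spec S
  · rw [IsZariskiLocalAtSource.iff_of_openCover (P := topologically GeneralizingMap) X.affineCover]
    intro i
    refine this _ _ ?_ ⟨_, rfl⟩
    exact IsZariskiLocalAtSource.comp (P := topologically IsOpenMap) hf _
  obtain ⟨S, rfl⟩ := hX
  obtain ⟨φ, rfl⟩ := Spec.map_surjective f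
  exact generalizingMap_comap_of_isOpenMap φ.hom hf

end Groth.Agent.S10837
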