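import Groth.Statements.S10838
import Groth.Agent.S7552
import Groth.Agent.S10837
import Mathlib.AlgebraicGeometry.Properties
-- import your own Groth.Agent.* helpers here

set_option autoImplicit false
universe u
open CategoryTheory AlgebraicGeometry Topology
open Mor

namespace Groth.Agent.S10838

open AlgebraicGeometry CategoryTheory Mor

/-- For a morphism of schemes f : X → Y which is open as a map of topological spaces, the Krull
dimension of the image f(X) (with the subspace topology from Y) is at most the Krull dimension of X. -/
theorem result {X Y : Scheme.{u}} (f : X ⟶ Y) (hf : IsOpenMap f.base) :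
    topologicalKrullDim ↥(Set.range f.base) ≤ topologicalKrullDim ↥X := by
  have hgen : GeneralizingMap f.base := Groth.Agent.S10837.result f hf
  have hopen : IsOpen (Set.range f.base) := hf.isOpen_range
  have : QuasiSober ↥(Set.range f.base) := hopen.isOpenEmbedding_subtypeVal.quasiSober
  refine Groth.Agent.S7552.result (Set.rangeFactorization f.base)
    (f.base.hom.continuous.subtype_mk _) Set.rangeFactorization_surjective (Or.inr ?_)
  intro x y' hy'
  have h1 : (y' : Y) ⤳ f.base x := hy'.map continuous_subtype_val
  obtain ⟨x', hx', hfx'⟩ := hgen h1
  exact ⟨x', hx', Subtype.ext hfx'⟩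

end Groth.Agent.S10838
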