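import Groth.Statements.S10840
import Mathlib
import Groth.Agent.Helper19.ProjDim4
import Groth.Agent.Helper19.ProjDict2
-- import your own Groth.Agent.* helpers here

set_option autoImplicit false
universe u
open AlgebraicGeometry Topology
open Variety

namespace Groth.Agent.S10840

section helpers
open MvPolynomial Groth.Agent.Helper19.ProjDim Groth.Agent.Helper19.ProjDict

variable (k : Type u) [Field k]

local notation "S" => MvPolynomial (Fin (2 + 1)) k
local notation "𝒜" => CohB1.polyGrading 2 k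
local notation "P" => ProjectiveSpectrum (CohB1.polyGrading 2 k)

/-- a common nonunit divisor of two forms gives a nonmaximal common zero -/
theorem exists_nonmax_pt (f g d : S) (hfh : (Ideal.span {f}).IsHomogeneous 𝒜) (hf0 : f ≠ 0)
    (hdf : d ∣ f) (hdg : d ∣ g) (hd : ¬ IsUnit d) :
    ∃ y y' : P, f ∈ y.asHomogeneousIdeal.toIdeal ∧ g ∈ y.asHomogeneousIdeal.toIdeal ∧ y < y' := by
  have hne : Ideal.span {d} ≠ ⊤ := by
    intro h
    exact hd (Ideal.span_singleton_eq_top.mp h)
  obtain ⟨M, hM, hle⟩ := Ideal.exists_le_maximal _ hne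
  haveI := hM.isPrime
  obtain ⟨𝔭, h𝔭, _⟩ := Ideal.exists_minimalPrimes_le hle
  haveI h𝔭p : 𝔭.IsPrime := h𝔭.1.1
  have hht : 𝔭.height ≤ 1 := Ideal.height_le_one_of_isPrincipal_of_mem_minimalPrimes _ _ h𝔭
  have hd𝔭 : d ∈ 𝔭 := h𝔭.1.2 (Ideal.mem_span_singleton_self d)
  have hf𝔭 : f ∈ 𝔭 := 𝔭.mem_of_dvd hdf hd𝔭
  obtain ⟨q, hq, hq𝔭⟩ := Ideal.exists_minimalPrimes_le ((Ideal.span_singleton_le_iff_mem 𝔭).mpr hf𝔭)
  haveI hqp : q.IsPrime := hq.1.1
  have hqh := isHomogeneous_of_mem_minimalPrimes 𝒜 hfh hq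
  have hfq : f ∈ q := hq.1.2 (Ideal.mem_span_singleton_self f)
  have hq0 : (⊥ : Ideal S) < q := by
    rw [bot_lt_iff_ne_bot]
    intro h
    rw [h, Ideal.mem_bot] at hfq
    exact hf0 hfq
  haveI : (⊥ : Ideal S).IsPrime := Ideal.isPrime_bot
  have heq : q = 𝔭 := by
    by_contra hne
    have hlt : q < 𝔭 := lt_of_le_of_ne hq𝔭 hne
    have h1 := Ideal.height_add_one_le_of_lt_of_isPrime hq0
    have h2 := Ideal.height_add_one_le_of_lt_of_isPrime hlt
    rw [Ideal.height_bot, zero_add] at h1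
    have h3 : (2 : ℕ∞) ≤ 𝔭.height :=
      calc (2 : ℕ∞) = 1 + 1 := by norm_num
        _ ≤ q.height + 1 := by gcongr
        _ ≤ _ := h2
    have := h3.trans hht
    norm_num at this
  have hgq : g ∈ q := by rw [heq]; exact 𝔭.mem_of_dvd hdg hd𝔭
  -- dimension
  have hq' : q ∈ ((⊥ : Ideal S) ⊔ Ideal.span {f}).minimalPrimes := by rwa [bot_sup_eq]
  have hdrop := dim_drop k 2 (⊥ : Ideal S) f (by rwa [Ideal.mem_bot]) q hq'
  have h2 : ringKrullDim (S ⧸ (⊥ : Ideal S)) = ringKrullDim S :=
    ringKrullDim_eq_of_ringEquiv (RingEquiv.quotientBot S)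
  rw [h2, ringKrullDim_S] at hdrop
  have hdimq : ringKrullDim (S ⧸ q) = (((2 : ℕ) : ℕ∞) : WithBot ℕ∞) := by
    apply add_one_cancel_nat _ 2
    rw [← hdrop]
    norm_num
  have h1dim : 1 ≤ ringKrullDim (S ⧸ q) := by
    rw [hdimq]
    norm_num
  let y : P := ptOfDim k 2 q hqp hqh h1dim
  have hco : Order.coheight y ≠ 0 := by
    intro h0
    have := dim_eq_coheight_add_one k 2 y
    rw [ptOfDim_toIdeal, hdimq, h0] at this
    norm_num at this
  obtain ⟨y', hy'⟩ := not_isMax_iff.mp (Order.coheight_ne_zero.mp hco)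
  exact ⟨y, y', hfq, hgq, hy'⟩

end helpers

/-- For a field k and nonzero homogeneous polynomials f, g of positive degrees in three variables, the
common zero set V_+(f, g) in the projective plane over k is zero-dimensional as a topological
subspace exactly when f and g are coprime, i.e. their only common divisors are the non-zero
constants. -/
theorem result (k : Type u) [Field k] (n m : ℕ)
    (f g : MvPolynomial (Fin 3) k) (hf : f.IsHomogeneous n) (hg : g.IsHomogeneous m)
    (hn : 0 < n) (hm : 0 < m) (hf0 : f ≠ 0) (hg0 : g ≠ 0) :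
    topologicalKrullDim ↥(ProjectiveSpectrum.zeroLocus (CohB1.polyGrading 2 k)
        ({f, g} : Set (MvPolynomial (Fin 3) k))) = 0 ↔ IsRelPrime f g := by
  have hfh : (Ideal.span {f}).IsHomogeneous (CohB1.polyGrading 2 k) :=
    Groth.Agent.Helper19.ProjDim.span_singleton_isHomogeneous k 2 f n hf
  have hgh : (Ideal.span {g}).IsHomogeneous (CohB1.polyGrading 2 k) :=
    Groth.Agent.Helper19.ProjDim.span_singleton_isHomogeneous k 2 g m hg
  have hWc : IsClosed (ProjectiveSpectrum.zeroLocus (CohB1.polyGrading 2 k)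
      ({f, g} : Set (MvPolynomial (Fin 3) k))) := ProjectiveSpectrum.isClosed_zeroLocus _ _
  have hmemW : ∀ z : ProjectiveSpectrum (CohB1.polyGrading 2 k),
      z ∈ ProjectiveSpectrum.zeroLocus (CohB1.polyGrading 2 k)
        ({f, g} : Set (MvPolynomial (Fin 3) k)) ↔
      f ∈ z.asHomogeneousIdeal.toIdeal ∧ g ∈ z.asHomogeneousIdeal.toIdeal := by
    intro z
    rw [ProjectiveSpectrum.mem_zeroLocus]
    constructor
    · intro h
      exact ⟨h (by simp), h (by simp)⟩
    · rintro ⟨h1, h2⟩ a ha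
      rcases ha with rfl | rfl
      · exact h1
      · exact h2
  constructor
  · intro h0 d hdf hdg
    by_contra hd
    obtain ⟨y, y', hfy, hgy, hyy'⟩ := exists_nonmax_pt k f g d hfh hf0 hdf hdg hd
    exact Groth.Agent.Helper19.ProjDict.not_lt_of_topologicalKrullDim_eq_zero _ _ hWc h0
      ((hmemW y).mpr ⟨hfy, hgy⟩) hyy'
  · intro hrel
    have hfm : f ∈ Groth.Agent.Helper19.ProjDim.mplus k 2 :=
      HomogeneousIdeal.mem_irrelevant_of_mem (CohB1.polyGrading 2 k) hn hf
    have hgm : g ∈ Groth.Agent.Helper19.ProjDim.mplus k 2 :=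
      HomogeneousIdeal.mem_irrelevant_of_mem (CohB1.polyGrading 2 k) hm hg
    have hne : (ProjectiveSpectrum.zeroLocus (CohB1.polyGrading 2 k)
        ({f, g} : Set (MvPolynomial (Fin 3) k))).Nonempty := by
      obtain ⟨y, _, hy⟩ := Groth.Agent.Helper19.ProjDim.exists_pt_sections k 2 2 ![f, g]
        (by
          intro i
          fin_cases i
          · exact hfh
          · exact hgh)
        (by
          intro i
          fin_cases i
          · exact hfm
          · exact hgm)
        (Groth.Agent.Helper19.ProjDim.botPt k 2)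
        (by rw [Groth.Agent.Helper19.ProjDim.coheight_botPt])
      exact ⟨y, (hmemW y).mpr ⟨hy 0, hy 1⟩⟩
    apply Groth.Agent.Helper19.ProjDict.topologicalKrullDim_eq_zero_of_coheight _ _ hWc hne
    intro y hy
    rw [Order.coheight_eq_zero]
    by_contra hmax
    obtain ⟨y', hyy'⟩ := not_isMax_iff.mp hmax
    obtain ⟨hfy, hgy⟩ := (hmemW y).mp hy
    obtain ⟨p, hp1, hp2, hp3, hp4⟩ :=
      Groth.Agent.Helper19.ProjDim.exists_irreducible_factor_mem k 2 y f hf0 hfh hfy
    let z := Groth.Agent.Helper19.ProjDim.ptOfIrreducible k 2 p hp1 _ hp2 y hp3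
    have hzy : z ≤ y := (Groth.Agent.Helper19.ProjDim.le_iff_ideal_le k 2 z y).mpr
      ((Ideal.span_singleton_le_iff_mem _).mpr hp3)
    have hbz : Groth.Agent.Helper19.ProjDim.botPt k 2 < z := by
      apply lt_of_le_of_ne (Groth.Agent.Helper19.ProjDim.botPt_le k 2 z)
      intro h
      exact Groth.Agent.Helper19.ProjDim.ne_botPt_of_mem k 2 z p hp1.ne_zero
        (Ideal.mem_span_singleton_self p) h.symm
    have hzy' : z < y := by
      apply lt_of_le_of_ne hzy
      intro h
      have hgz : g ∈ Ideal.span {p} := by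
        have : g ∈ z.asHomogeneousIdeal.toIdeal := by rw [h]; exact hgy
        exact this
      have hpg : p ∣ g := Ideal.mem_span_singleton.mp hgz
      exact hp1.not_isUnit (hrel hp4 hpg)
    have h1 := Order.coheight_add_one_le hyy'
    have h2 := Order.coheight_add_one_le hzy'
    have h3 := Order.coheight_add_one_le hbz
    rw [Groth.Agent.Helper19.ProjDim.coheight_botPt] at h3
    have h4 : (3 : ℕ∞) ≤ ((2 : ℕ) : ℕ∞) :=
      calc (3 : ℕ∞) = 0 + 1 + 1 + 1 := by norm_num
        _ ≤ Order.coheight y' + 1 + 1 + 1 := by gcongr; exact zero_le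
        _ ≤ Order.coheight y + 1 + 1 := by gcongr
        _ ≤ Order.coheight z + 1 := by gcongr
        _ ≤ _ := h3
    norm_num at h4

end Groth.Agent.S10840
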