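import Groth.Statements.S10841
import Groth.Agent.Lib.Helper21.FibDim11
-- import your own Groth.Agent.* helpers here

set_option autoImplicit false
universe u
open CategoryTheory AlgebraicGeometry Topology
open Variety

namespace Groth.Agent.S10841

/-- Let k be a field, X an irreducible scheme of finite type over k, and f : Y → X a morphism over k
from a scheme Y of finite type over k whose image contains the generic point of X. Then dim Y ≥ dim
X. -/
theorem result (k : Type u) [Field k] {X Y : Scheme.{u}}
    (p : X ⟶ Spec (CommRingCat.of k)) (q : Y ⟶ Spec (CommRingCat.of k))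
    [LocallyOfFiniteType p] [QuasiCompact p] [LocallyOfFiniteType q] [QuasiCompact q]
    [IrreducibleSpace ↥X] (f : Y ⟶ X) (hf : f ≫ p = q)
    (hη : genericPoint ↥X ∈ Set.range f.base) :
    topologicalKrullDim ↥X ≤ topologicalKrullDim ↥Y := by
  let _ : X.Over (Spec (CommRingCat.of k)) := ⟨p⟩
  let _ : Y.Over (Spec (CommRingCat.of k)) := ⟨q⟩
  have : LocallyOfFiniteType (X ↘ Spec (CommRingCat.of k)) := ‹LocallyOfFiniteType p›
  have : LocallyOfFiniteType (Y ↘ Spec (CommRingCat.of k)) := ‹LocallyOfFiniteType q›
  have : LocallyOfFiniteType (f ≫ p) := by rw [hf]; infer_instance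
  have : LocallyOfFiniteType f := locallyOfFiniteType_of_comp f p
  obtain ⟨y, hy⟩ := hη
  obtain ⟨b, hb⟩ := Groth.Agent.Lib.Helper21.FibDim.exists_nat_trdeg k X (f y)
  obtain ⟨c, hc⟩ := Groth.Agent.Lib.Helper21.FibDim.exists_nat_trdeg_residueFieldMap f y
  have hbc := Groth.Agent.Lib.Helper21.FibDim.trdeg_add_of_comp k Y X f hf y b c hb hc
  have hdY := Groth.Agent.Lib.Helper21.FibDim.topologicalKrullDim_closure_singleton k Y y (b + c) hbc
  have hdX := Groth.Agent.Lib.Helper21.FibDim.topologicalKrullDim_closure_singleton k X (f y) b hb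
  have hX : topologicalKrullDim X = (b : WithBot ℕ∞) := by
    rw [← hdX, ← (Homeomorph.Set.univ X).isHomeomorph.topologicalKrullDim_eq]
    have : closure ({f y} : Set X) = Set.univ := by
      rw [hy]
      exact (genericPoint_spec X).def
    rw [this]
  rw [hX]
  refine le_trans ?_ (hdY ▸ topologicalKrullDim_subspace_le Y _)
  exact_mod_cast Nat.le_add_right b c

end Groth.Agent.S10841
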