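import Groth.Statements.S10844
-- import your own Groth.Agent.* helpers here
import Groth.Agent.Lib.Helper29.QCohPullbackSupp

set_option autoImplicit false
universe u
open RepF

namespace Groth.Agent.S10844

open AlgebraicGeometry CategoryTheory in
/-- For a scheme S and a homomorphism v : E → F of quasi-coherent O_S-modules with F of finite type,
there is an open subscheme U of S such that a morphism of schemes f : T → S factors through U (its
image lies in U) if and only if the pulled-back homomorphism f^*v : f^*E → f^*F is an epimorphism. -/
theorem result {S : Scheme.{u}} {E F : S.Modules}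
    [Coh.IsQCoh E] [Coh.IsQCoh F] (hF : CohB1.IsFT F) (v : E ⟶ F) :
    ∃ U : S.Opens, ∀ (T : Scheme.{u}) (f : T ⟶ S),
      Set.range f.base ⊆ (U : Set S) ↔ Epi ((Scheme.Modules.pullback f).map v) := by
  open Groth.Agent.Lib.Helper29.QCoh CategoryTheory.Limits in
  have : F.IsFiniteType := hF
  have : (cokernel v).IsFiniteType := isFiniteType_cokernel v
  refine ⟨⟨{s : S | Subsingleton ((cokernel v).presheaf.stalk s)},
    isOpen_setOf_subsingleton_stalk (cokernel v)⟩, fun T f => ?_⟩
  rw [epi_pullback_map_iff f v]
  constructor
  · intro h x
    exact h ⟨x, rfl⟩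
  · rintro h _ ⟨x, rfl⟩
    exact h x

end Groth.Agent.S10844
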