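import Groth.Statements.S10851
import Mathlib

set_option autoImplicit false
universe u
open Mero

namespace Groth.Agent.S10851

theorem dim_le_zero_of_not_one_le (d : WithBot ℕ∞) (h : ¬ (1 : WithBot ℕ∞) ≤ d) : d ≤ 0 := by
  rw [not_le] at h
  induction d using WithBot.recBotCoe with
  | bot => exact bot_le
  | coe n =>
    have h' : n < 1 := by exact_mod_cast h
    rw [ENat.lt_one_iff_eq_zero] at h'
    subst h'
    exact le_refl _

open AlgebraicGeometry in
/-- Let X be a locally Noetherian scheme and D a divisor on X (a global section of K_X^×/O_X^×). Then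
the support of D has codimension at least 1 in X: for every point z at which the germ of D is
non-trivial, the local ring O_{X,z} has Krull dimension at least 1. -/
theorem result {X : Scheme.{u}} [IsLocallyNoetherian X]
    (D : Mero.Divisor X) (z : X) (hz : z ∈ Mero.supp D) :
    (1 : WithBot ℕ∞) ≤ ringKrullDim (X.presheaf.stalk z) := by
  by_contra hcon
  have hd : ringKrullDim (X.presheaf.stalk z) ≤ 0 := dim_le_zero_of_not_one_le _ hcon
  haveI : Ring.KrullDimLE 0 (X.presheaf.stalk z) := Ring.krullDimLE_iff.mpr (by exact_mod_cast hd)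
  haveI : IsArtinianRing (X.presheaf.stalk z) := isArtinianRing_iff_krullDimLE_zero.mpr inferInstance
  have hunits : Mero.regStalk X z ≤ IsUnit.submonoid (X.presheaf.stalk z) := fun g hg =>
    IsArtinianRing.isUnit_of_mem_nonZeroDivisors (Mero.regStalk_le_nonZeroDivisors z hg)
  let e : X.presheaf.stalk z ≃ₐ[X.presheaf.stalk z] Mero.KStalk X z :=
    IsLocalization.atUnits (X.presheaf.stalk z) (Mero.regStalk X z) hunits
  apply hz
  obtain ⟨g, hg⟩ := QuotientGroup.mk_surjective (D.1 z)
  rw [← hg, QuotientGroup.eq_one_iff]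
  have hgu : IsUnit (e.symm (g : Mero.KStalk X z)) := g.isUnit.map e.symm
  refine ⟨hgu.unit, Units.ext ?_⟩
  change algebraMap (X.presheaf.stalk z) (Mero.KStalk X z) (e.symm (g : Mero.KStalk X z)) = g
  have : algebraMap (X.presheaf.stalk z) (Mero.KStalk X z) (e.symm (g : Mero.KStalk X z)) =
      e (e.symm (g : Mero.KStalk X z)) := by
    rw [← AlgEquiv.commutes e]
    rfl
  rw [this, AlgEquiv.apply_symm_apply]

end Groth.Agent.S10851
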