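import Groth.Statements.S10856
-- import your own Groth.Agent.* helpers here
import Groth.Agent.Lib.Helper29.MeroK4

set_option autoImplicit false
universe u
open Mero

namespace Groth.Agent.S10856

open AlgebraicGeometry CategoryTheory TopologicalSpace in
/-- Let X be a scheme and f a global section of the sheaf of meromorphic functions K_X. The domain of
definition of f, i.e. the set of points x whose value f_x ∈ K_{X,x} lies in the image of the local
ring O_{X,x}, is the underlying set of an open subscheme D of X, and D is schematically dense in X:
for every open subset V of X the restriction map from sections of O_X over V to sections over V ∩ D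
is injective. -/
theorem result {X : Scheme.{u}} (f : Γ(Mero.kmod X, ⊤)) :
    ∃ D : X.Opens,
      (D : Set X) = {x | f.1 ⟨x, Opens.mem_top x⟩ ∈ (algebraMap (X.presheaf.stalk x) (Mero.KStalk X x)).range} ∧
        ∀ V : X.Opens, Function.Injective (X.presheaf.map (homOfLE (inf_le_left : V ⊓ D ≤ V)).op) := by
  refine ⟨Groth.Agent.Lib.Helper29.QCoh.MeroK.dom f, ?_, ?_⟩
  · ext x
    constructor
    · rintro ⟨_, h⟩
      exact h
    · intro h
      exact ⟨Opens.mem_top x, h⟩
  · intro V
    exact Groth.Agent.Lib.Helper29.QCoh.MeroK.injective_res_dom f V le_top

end Groth.Agent.S10856
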