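import Groth.Statements.S10857
import Mathlib
import Groth.Agent.Helper19.FPExt7
-- import your own Groth.Agent.* helpers here

set_option autoImplicit false
universe u
open QCohSup

namespace Groth.Agent.S10857

section helpers

open AlgebraicGeometry CategoryTheory CategoryTheory.Limits TopologicalSpace
open Groth.Agent.Lib.Helper29.QCoh Groth.Agent.Helper19.FPExt

variable {X : Scheme.{u}}

/-- One section: locally around `x`, the germs of `f = u(g)` lie in the range of the stalk maps of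
`c.ι j ≫ u` for all large `j`. -/
theorem local_one {J : Type u} [SmallCategory J] [IsFiltered J] (D : J ⥤ X.Modules)
    (c : Cocone D) (hc : IsColimit c) (F : X.Modules) (u : c.pt ⟶ F)
    (V : X.Opens) (x : X) (hx : x ∈ V) (g : Γ(c.pt, V)) :
    ∃ (W : X.Opens) (hWV : W ≤ V) (l : J), x ∈ W ∧ ∀ j : J, Nonempty (l ⟶ j) → ∀ y (hy : y ∈ W),
      F.presheaf.germ V y (hWV hy) (u.app V g) ∈ stalkMapRange (c.ι.app j ≫ u) y := by
  obtain ⟨l, tl, h⟩ := exists_stalk_rep D c hc x (c.pt.presheaf.germ V x hx g)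
  obtain ⟨W₁, hxW₁, t, rfl⟩ := (D.obj l).presheaf.exists_germ_eq tl
  rw [stalkMap_germ] at h
  obtain ⟨W, hxW, i₁, i₂, e⟩ := c.pt.presheaf.germ_eq x hxW₁ hx _ _ h
  have hW1 : W ≤ W₁ := i₁.le
  have hWV : W ≤ V := i₂.le
  have e' : res c.pt hW1 ((c.ι.app l).app W₁ t) = res c.pt hWV g := e
  refine ⟨W, hWV, l, hxW, ?_⟩
  rintro j ⟨a⟩ y hy
  rw [mem_stalkMapRange]
  refine ⟨(D.obj j).presheaf.germ W₁ y (hW1 hy) ((D.map a).app W₁ t), ?_⟩
  rw [stalkMap_germ, ← germ_res F hWV y hy, ← app_res u hWV, ← e', app_res u hW1, germ_res]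
  congr 1
  have : D.map a ≫ c.ι.app j = c.ι.app l := c.w a
  rw [← this]
  rfl

theorem local_claim [CompactSpace X] {J : Type u} [SmallCategory J] [IsFiltered J]
    (D : J ⥤ X.Modules)
    (c : Cocone D) (hc : IsColimit c) [c.pt.IsQuasicoherent]
    (F : X.Modules) [F.IsQuasicoherent] [F.IsFiniteType] (u : c.pt ⟶ F) [Epi u] (x : X) :
    ∃ (W : X.Opens) (l : J), x ∈ W ∧ ∀ j : J, Nonempty (l ⟶ j) → ∀ y ∈ W,
      Function.Surjective (stalkMap (c.ι.app j ≫ u) y) := by
  classical
  obtain ⟨V, hV, hxV, -⟩ := exists_isAffineOpen_mem_and_subset (x := x) (U := (⊤ : X.Opens)) trivial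
  haveI : Module.Finite Γ(X, V) Γ(F, V) := module_finite_of_isFiniteType F hV
  obtain ⟨n, s, hs⟩ := Module.Finite.exists_fin (R := Γ(X, V)) (M := Γ(F, V))
  have hg : ∀ m : Fin n, ∃ g : Γ(c.pt, V), u.app V g = s m := fun m =>
    app_surjective_of_epi u hV (s m)
  choose g hg using hg
  have hloc := fun m : Fin n => local_one D c hc F u V x hxV (g m)
  choose W hWV l hxW hW using hloc
  obtain ⟨l₀, hl₀⟩ := IsFiltered.sup_objs_exists (Finset.univ.image l)
  refine ⟨V ⊓ Finset.univ.inf W, l₀, ⟨hxV, ?_⟩, ?_⟩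
  · change x ∈ ((Finset.univ.inf W : X.Opens) : Set X)
    rw [Opens.coe_finset_inf, Finset.inf_set_eq_iInter]
    simp only [Set.mem_iInter]
    intro m _
    exact hxW m
  · rintro j ⟨b⟩ y ⟨hyV, hy⟩
    have hyW : ∀ m, y ∈ W m := by
      intro m
      have : Finset.univ.inf W ≤ W m := Finset.inf_le (Finset.mem_univ m)
      exact this hy
    intro t
    have hspan := span_germ_eq_top_of_span_eq_top F hV s hs y hyV
    have ht : t ∈ Submodule.span (X.presheaf.stalk y)
        (Set.range fun i => F.presheaf.germ V y hyV (s i)) := by rw [hspan]; trivial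
    have hle : Submodule.span (X.presheaf.stalk y)
        (Set.range fun i => F.presheaf.germ V y hyV (s i)) ≤
          stalkMapRange (c.ι.app j ≫ u) y := by
      rw [Submodule.span_le]
      rintro _ ⟨m, rfl⟩
      obtain ⟨a⟩ := hl₀ (Finset.mem_image_of_mem l (Finset.mem_univ m))
      have := hW m j ⟨a ≫ b⟩ y (hyW m)
      rw [hg m] at this
      exact this
    exact (mem_stalkMapRange _ _ _).mp (hle ht)

end helpers

open AlgebraicGeometry CategoryTheory CategoryTheory.Limits in

open AlgebraicGeometry CategoryTheory CategoryTheory.Limits in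
/-- Take a quasi-compact scheme X, a finite-type quasi-coherent O_X-module F, and G a quasi-coherent
O_X-module which is the colimit of a filtered diagram of quasi-coherent O_X-modules G_j. A
homomorphism u : G → F is an epimorphism if and only if there is an index j₀ such that for every
index j admitting a map from j₀ the composite G_j → G → F is an epimorphism. -/
theorem result {X : Scheme.{u}} [CompactSpace X]
    {J : Type u} [SmallCategory J] [IsFiltered J] (D : J ⥤ X.Modules) [∀ j, Coh.IsQCoh (D.obj j)]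
    (c : Cocone D) (hc : IsColimit c) [Coh.IsQCoh c.pt]
    (F : X.Modules) [Coh.IsQCoh F] (hF : CohB1.IsFT F) (u : c.pt ⟶ F) :
    Epi u ↔ ∃ j₀ : J, ∀ j : J, Nonempty (j₀ ⟶ j) → Epi (c.ι.app j ≫ u) := by
  classical
  haveI : c.pt.IsQuasicoherent := ‹Coh.IsQCoh c.pt›
  haveI : F.IsQuasicoherent := ‹Coh.IsQCoh F›
  haveI : F.IsFiniteType := hF
  constructor
  · intro hu
    have hloc := fun x : X => local_claim D c hc F u x
    choose W l hxW hW using hloc
    obtain ⟨t, ht⟩ := isCompact_univ.elim_finite_subcover (fun x : X => ((W x : X.Opens) : Set X))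
      (fun x => (W x).2) (fun x _ => Set.mem_iUnion.mpr ⟨x, hxW x⟩)
    obtain ⟨j₀, hj₀⟩ := IsFiltered.sup_objs_exists (t.image l)
    refine ⟨j₀, ?_⟩
    rintro j ⟨b⟩
    rw [Groth.Agent.Lib.Helper29.QCoh.epi_iff_stalkMap_surjective]
    intro y
    have hy := ht (Set.mem_univ y)
    simp only [Set.mem_iUnion] at hy
    obtain ⟨x, hxt, hyx⟩ := hy
    obtain ⟨a⟩ := hj₀ (Finset.mem_image_of_mem l hxt)
    exact hW x j ⟨a ≫ b⟩ y hyx
  · rintro ⟨j₀, h⟩
    haveI := h j₀ ⟨𝟙 j₀⟩
    exact epi_of_epi (c.ι.app j₀) u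

end Groth.Agent.S10857
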