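import Groth.Statements.S10859
import Groth.Agent.Lib.Helper10.GrassClosedMain
import Groth.Agent.Lib.Helper10.GrassComap
import Groth.Agent.Lib.Helper10.AffPtYoneda2

set_option autoImplicit false
universe u
open Grass

namespace Groth.Agent.S10859

open AlgebraicGeometry CategoryTheory in
/-- Let R be a commutative ring, v : M₁ → M₂ a surjective homomorphism of R-modules and k a natural
number. Suppose X₁ and X₂ are schemes over Spec R representing the Grassmannian functors of rank-k
locally free quotients of M₁ and of M₂ (bijections e₁, e₂ between Spec R-morphisms Spec A → X_i and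
submodules of A ⊗_R M_i with finite projective quotient of constant rank k, compatible with base
change along R-algebra maps). Then there is a Spec R-morphism c : X₂ → X₁ which on A-valued points
sends a submodule N of A ⊗_R M₂ to its preimage under A ⊗ v, and every such c is a closed immersion.
(The published statement is for a surjection of quasi-coherent modules over an arbitrary base
scheme, where the two Grassmannians are known to be schemes; this row takes the base affine and the
two representing schemes as hypotheses, with no finiteness condition on the modules.) -/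
theorem result (R : Type u) [CommRing R]
    (M₁ M₂ : Type u) [AddCommGroup M₁] [Module R M₁]
    [AddCommGroup M₂] [Module R M₂]
    (v : M₁ →ₗ[R] M₂) (hv : Function.Surjective v) (k : ℕ)
    (X₁ X₂ : Over (Spec (CommRingCat.of R)))
    (e₁ : ∀ A : CommAlgCat.{u} R,
      (Over.mk (Spec.map (CommRingCat.ofHom (algebraMap R A))) ⟶ X₁) ≃
        (Module.Grassmannian.functor (R := R) (M := M₁) k).obj A)
    (he₁ : ∀ (A B : CommAlgCat.{u} R) (φ : A ⟶ B)
      (g : Over.mk (Spec.map (CommRingCat.ofHom (algebraMap R A))) ⟶ X₁)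
      (g' : Over.mk (Spec.map (CommRingCat.ofHom (algebraMap R B))) ⟶ X₁),
      g'.left = Spec.map (CommRingCat.ofHom φ.hom.toRingHom) ≫ g.left →
        e₁ B g' = (Module.Grassmannian.functor (R := R) (M := M₁) k).map φ (e₁ A g))
    (e₂ : ∀ A : CommAlgCat.{u} R,
      (Over.mk (Spec.map (CommRingCat.ofHom (algebraMap R A))) ⟶ X₂) ≃
        (Module.Grassmannian.functor (R := R) (M := M₂) k).obj A)
    (he₂ : ∀ (A B : CommAlgCat.{u} R) (φ : A ⟶ B)
      (g : Over.mk (Spec.map (CommRingCat.ofHom (algebraMap R A))) ⟶ X₂)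
      (g' : Over.mk (Spec.map (CommRingCat.ofHom (algebraMap R B))) ⟶ X₂),
      g'.left = Spec.map (CommRingCat.ofHom φ.hom.toRingHom) ≫ g.left →
        e₂ B g' = (Module.Grassmannian.functor (R := R) (M := M₂) k).map φ (e₂ A g)) :
    (∃ c : X₂ ⟶ X₁, ∀ (A : CommAlgCat.{u} R)
        (g : Over.mk (Spec.map (CommRingCat.ofHom (algebraMap R A))) ⟶ X₂),
        (e₁ A (g ≫ c)).toSubmodule = (e₂ A g).toSubmodule.comap (v.baseChange A)) ∧
      ∀ c : X₂ ⟶ X₁, (∀ (A : CommAlgCat.{u} R)
        (g : Over.mk (Spec.map (CommRingCat.ofHom (algebraMap R A))) ⟶ X₂),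
        (e₁ A (g ≫ c)).toSubmodule = (e₂ A g).toSubmodule.comap (v.baseChange A)) →
        IsClosedImmersion c.left := by
  classical
  have hτ := Groth.Agent.Lib.Helper10.GrassComap.comapG_map v hv k
  have hτinj : ∀ A : CommAlgCat.{u} R, Function.Injective
      (fun N : (Module.Grassmannian.functor (R := R) (M := M₂) k).obj A =>
        (Groth.Agent.Lib.Helper10.GrassComap.comapG v hv N :
          (Module.Grassmannian.functor (R := R) (M := M₁) k).obj A)) :=
    fun A => Groth.Agent.Lib.Helper10.GrassComap.comapG_injective v hv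
  -- part (a)
  obtain ⟨c₀, hc₀⟩ := Groth.Agent.Lib.Helper10.AffPtClosed.exists_hom_of_transform X₁ X₂
    (Module.Grassmannian.functor (R := R) (M := M₁) k)
    (Module.Grassmannian.functor (R := R) (M := M₂) k) e₁ he₁ e₂ he₂
    (fun A N => Groth.Agent.Lib.Helper10.GrassComap.comapG v hv N) hτ
  refine ⟨⟨c₀, fun A g => ?_⟩, ?_⟩
  · exact congrArg Module.Grassmannian.toSubmodule (hc₀ A g)
  -- part (b)
  intro c hc
  obtain ⟨Z, ι, hι, hZ⟩ := Groth.Agent.Lib.Helper10.GrassClosed.exists_closed_contains R M₁ k X₁
    e₁ he₁ (LinearMap.ker v : Set M₁)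
  haveI : Mono ι := inferInstance
  have hZ' : ∀ (A : CommAlgCat.{u} R)
      (g : Groth.Agent.Lib.Helper10.AffPtClosed.SpA R A ⟶ X₁),
      (∃ h : (Groth.Agent.Lib.Helper10.AffPtClosed.SpA R A).left ⟶ Z, h ≫ ι = g.left) ↔
        e₁ A g ∈ Set.range (fun N : (Module.Grassmannian.functor (R := R) (M := M₂) k).obj A =>
          (Groth.Agent.Lib.Helper10.GrassComap.comapG v hv N :
            (Module.Grassmannian.functor (R := R) (M := M₁) k).obj A)) := by
    intro A g
    rw [hZ A g]
    constructor
    · intro h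
      exact Groth.Agent.Lib.Helper10.GrassComap.exists_comapG_eq v hv A (e₁ A g) h
    · rintro ⟨N, hN⟩ m hm
      rw [← hN]
      exact Groth.Agent.Lib.Helper10.GrassComap.one_tmul_mem_comapG v hv N m hm
  obtain ⟨eZ, heZ, heZτ⟩ := Groth.Agent.Lib.Helper10.AffPtClosed.exists_rep_sub X₁
    (Module.Grassmannian.functor (R := R) (M := M₁) k)
    (Module.Grassmannian.functor (R := R) (M := M₂) k) e₁ he₁
    (fun A N => Groth.Agent.Lib.Helper10.GrassComap.comapG v hv N) hτ hτinj Z ι hZ'
  obtain ⟨i, hi⟩ := Groth.Agent.Lib.Helper10.AffPtClosed.exists_iso_of_transform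
    (Groth.Agent.Lib.Helper10.AffPtClosed.subOver X₁ Z ι) X₂
    (Module.Grassmannian.functor (R := R) (M := M₂) k)
    (Module.Grassmannian.functor (R := R) (M := M₂) k) eZ heZ e₂ he₂
    (fun A => Equiv.refl _) (fun A C φ N => rfl)
  have hcc : c = i.hom ≫ Groth.Agent.Lib.Helper10.AffPtClosed.subHom X₁ Z ι := by
    apply Groth.Agent.Lib.Helper10.AffPtClosed.hom_ext_of_pts
    intro A g
    apply (e₁ A).injective
    apply Module.Grassmannian.ext
    rw [hc A g, ← Category.assoc, ← heZτ A (g ≫ i.hom), hi A g]
    rfl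
  rw [hcc]
  change IsClosedImmersion (i.hom.left ≫ ι)
  haveI : IsIso i.hom.left := inferInstance
  infer_instance

end Groth.Agent.S10859
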