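import Groth.Statements.S10860
-- import your own Groth.Agent.* helpers here
import Mathlib

set_option autoImplicit false
universe u
open Mor

namespace Groth.Agent.S10860


open CategoryTheory AlgebraicGeometry

/-- A point in a finite fibre of a morphism locally of finite type is a quasi-finite point. -/
theorem quasiFiniteAt_of_finite_fibre {X Y : Scheme.{u}} (f : X ⟶ Y) [LocallyOfFiniteType f]
    (x : X) (hfin : (f.base ⁻¹' {f.base x}).Finite) : f.QuasiFiniteAt x := by
  rw [Scheme.Hom.quasiFiniteAt_iff_isOpen_singleton_asFiber]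
  have hF : Finite (f.fiber (f.base x)) := by
    have : Finite (f.base ⁻¹' {f.base x}) := hfin
    exact Finite.of_equiv _ (f.fiberHomeo (f.base x)).symm.toEquiv
  let g := f.fiberToSpecResidueField (f.base x)
  have hg : LocallyOfFiniteType g := by
    dsimp only [g, Scheme.Hom.fiberToSpecResidueField]
    exact MorphismProperty.pullback_snd _ _ inferInstance
  have hqf : LocallyQuasiFinite g :=
    LocallyQuasiFinite.of_finite_preimage_singleton g (fun z => Set.toFinite _)
  have hdisc : DiscreteTopology (f.fiber (f.base x)) := by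
    rw [← isDiscrete_univ_iff]
    have h1 := g.isDiscrete_preimage_singleton (g.base (f.asFiber x))
    have h2 : g.base ⁻¹' {g.base (f.asFiber x)} = Set.univ := by
      ext z
      simp only [Set.mem_preimage, Set.mem_singleton_iff, Set.mem_univ, iff_true]
      exact Subsingleton.elim _ _
    rwa [h2] at h1
  exact isOpen_discrete _

open CategoryTheory AlgebraicGeometry in
/-- For a proper morphism f : X → Y, the set V of points of Y with finite fibre is open, and f
restricted over V is finite (stated as the existence of an open subscheme of Y whose underlying set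
is exactly V and over which f is finite). -/
theorem result {X Y : Scheme.{u}} (f : X ⟶ Y) [IsProper f] :
    ∃ U : Y.Opens, (U : Set Y) = {y : Y | (f.base ⁻¹' {y}).Finite} ∧ IsFinite (f ∣_ U) := by
  classical
  let Q : X.Opens := f.quasiFiniteLocus
  have hZ : IsClosed (f.base '' ((Q : Set X)ᶜ)) := f.isClosedMap _ Q.2.isClosed_compl
  let U : Y.Opens := ⟨(f.base '' ((Q : Set X)ᶜ))ᶜ, hZ.isOpen_compl⟩
  have hU : ∀ x : X, f.base x ∈ U → f.QuasiFiniteAt x := by
    intro x hx
    by_contra hq
    exact hx ⟨x, hq, rfl⟩
  have hqf : LocallyQuasiFinite (f ∣_ U) := by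
    rw [← Scheme.Hom.quasiFiniteLocus_eq_top_iff, eq_top_iff]
    intro x' _
    rw [Scheme.Hom.mem_quasiFiniteLocus,
      ← Scheme.Hom.quasiFiniteAt_comp_iff (f := f ∣_ U) (g := U.ι), morphismRestrict_ι,
      Scheme.Hom.quasiFiniteAt_comp_iff_of_isOpenImmersion]
    exact hU _ x'.2
  have hfinite : IsFinite (f ∣_ U) := IsFinite.of_isProper_of_locallyQuasiFinite _
  refine ⟨U, ?_, hfinite⟩
  ext y
  constructor
  · intro hy
    have h1 := (f ∣_ U).finite_preimage_singleton ⟨y, hy⟩
    refine (h1.image Subtype.val).subset ?_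
    intro x hx
    have hxU : x ∈ f ⁻¹ᵁ U := by
      change f.base x ∈ U
      rw [show f.base x = y from hx]
      exact hy
    refine ⟨⟨x, hxU⟩, ?_, rfl⟩
    change (f ∣_ U).base ⟨x, hxU⟩ = ⟨y, hy⟩
    apply Subtype.ext
    rw [morphismRestrict_base_coe]
    exact hx
  · intro hy
    change y ∈ (f.base '' ((Q : Set X)ᶜ))ᶜ
    rintro ⟨x, hxQ, rfl⟩
    exact hxQ (quasiFiniteAt_of_finite_fibre f x hy)

end Groth.Agent.S10860
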