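import Groth.Statements.S10865
import Groth.Agent.Lib.Helper2.TFRep.Chain

set_option autoImplicit false
universe u
open Coherent

namespace Groth.Agent.S10865

open CategoryTheory CategoryTheory.Limits AlgebraicGeometry in
/-- Let X be a nonempty Noetherian scheme and K an isomorphism-closed class of O_X-modules such that (a)
in a short exact sequence of coherent modules, if the middle and right terms lie in K so does the
left one, and if the two outer terms lie in K so does the middle one; (b) if a coherent F has some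
d-fold direct sum (d ≥ 1) in K then F lies in K. If for every integral closed subscheme i : Z → X
there is a coherent O_Z-module with nonzero stalk at the generic point whose direct image under i
lies in K, then every coherent O_X-module lies in K. (For the empty scheme the hypotheses hold for
the empty class, so X is taken nonempty here.) -/
theorem result (X : Scheme.{u}) [IsNoetherian X] [Nonempty X]
    (K : ObjectProperty X.Modules) [K.IsClosedUnderIsomorphisms]
    (ha : ∀ S : ShortComplex X.Modules, S.ShortExact → Coh.IsCoh S.X₁ → Coh.IsCoh S.X₂ → Coh.IsCoh S.X₃ →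
      (K S.X₂ → K S.X₃ → K S.X₁) ∧ (K S.X₁ → K S.X₃ → K S.X₂))
    (hb : ∀ (F : X.Modules) (d : ℕ), 1 ≤ d → Coh.IsCoh F → K (∐ fun _ : Fin d => F) → K F)
    (hgen : ∀ (Z : Scheme.{u}) (i : Z ⟶ X) [IsClosedImmersion i] [IsIntegral Z],
      ∃ H : Z.Modules, Coh.IsCoh H ∧ Nontrivial (H.presheaf.stalk (genericPoint Z)) ∧
        K ((Scheme.Modules.pushforward i).obj H))
    (F : X.Modules) (hF : Coh.IsCoh F) : K F := by
  classical
  letI := CategoryTheory.Abelian.hasFiniteBiproducts (C := X.Modules)
  have hgen' : ∀ (Z : Set X) (hZ : IsClosed Z), IsIrreducible Z → Z ⊆ Set.univ → ∀ y : X,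
      closure {y} = Z → ∃ G : X.Modules, Coh.IsCoh G ∧ K G ∧ CohB1.support G ⊆ Z ∧
        ClSub.KilledByIdeal (Scheme.IdealSheafData.vanishingIdeal ⟨Z, hZ⟩) G ∧
          y ∈ CohB1.support G := by
    intro Z hZ hirr _ y hy
    haveI : IsIntegral (Scheme.IdealSheafData.vanishingIdeal ⟨Z, hZ⟩).subscheme :=
      Groth.Agent.Lib.Helper12.H12Dev.isIntegral_subscheme_vanishingIdeal ⟨Z, hZ⟩ hirr
    obtain ⟨H, hH, hnt, hKH⟩ := hgen _ (Scheme.IdealSheafData.vanishingIdeal ⟨Z, hZ⟩).subschemeι
    have hr : Set.range (Scheme.IdealSheafData.vanishingIdeal ⟨Z, hZ⟩).subschemeι = Z :=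
      Groth.Agent.Lib.Helper12.H12Dev.range_subschemeι_vanishingIdeal ⟨Z, hZ⟩
    have hpt : (Scheme.IdealSheafData.vanishingIdeal ⟨Z, hZ⟩).subschemeι
        (genericPoint (Scheme.IdealSheafData.vanishingIdeal ⟨Z, hZ⟩).subscheme) = y :=
      Groth.Agent.Lib.Helper12.H12Dev.closedImmersion_genericPoint _ y (hy.trans hr.symm)
    obtain ⟨h1, h2, h3, h4⟩ := Groth.Agent.Lib.Helper2.TFRep.push_witness ⟨Z, hZ⟩ hirr y hy H hH
      (fun ξ hξ => by
        have hξ' : ξ = genericPoint (Scheme.IdealSheafData.vanishingIdeal ⟨Z, hZ⟩).subscheme :=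
          (Scheme.IdealSheafData.vanishingIdeal
            ⟨Z, hZ⟩).subschemeι.isClosedEmbedding.injective (hξ.trans hpt.symm)
        rw [hξ']
        exact hnt)
    exact ⟨_, h1, hKH, h2, h3, h4⟩
  have h0 : ∀ M : X.Modules, IsZero M → K M := by
    intro M hM
    obtain ⟨x⟩ := ‹Nonempty X›
    obtain ⟨G, hG, hKG, -⟩ := hgen' (closure {x}) isClosed_closure
      isIrreducible_singleton.closure (Set.subset_univ _) x rfl
    have hS : (ShortComplex.mk (kernel.ι (𝟙 G)) (𝟙 G) (kernel.condition _)).ShortExact :=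
      ShortComplex.ShortExact.mk (ShortComplex.exact_kernel _)
    have hk : K (kernel (𝟙 G)) :=
      (ha _ hS (Groth.Agent.Lib.Helper12.H12Dev.isCoh_kernel _ hG hG) hG hG).1 hKG hKG
    have hz : IsZero (kernel (𝟙 G)) := isZero_kernel_of_mono _
    exact K.prop_of_iso (hz.iso hM) hk
  have hroot : ∀ (F : X.Modules) (q : ℕ), 0 < q → Coh.IsCoh F →
      K (⨁ fun _ : Fin q => F) → K F := by
    intro F q hq hF h
    exact hb F q hq hF (K.prop_of_iso (biproduct.isoCoproduct _) h)
  exact Groth.Agent.Lib.Helper2.TFRep.devissage_twoImp_roots (K := fun M => K M) h0 ha hroot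
    Set.univ hgen' F hF (Set.subset_univ _)

end Groth.Agent.S10865
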