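import Groth.Statements.S10866
import Groth.Agent.S10865
import Groth.Agent.Lib.Helper28.DCohRes28

set_option autoImplicit false
universe u
open Coherent

namespace Groth.Agent.S10866

open CategoryTheory AlgebraicGeometry in
/-- Let f : X → Y be a morphism of Noetherian schemes such that for every integral closed subscheme i :
Z → X there is a coherent O_Z-module with nonzero stalk at the generic point of Z whose direct image
under i followed by f is coherent on Y. Then the direct image f_*F of every coherent O_X-module F is
coherent. -/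
theorem result {X Y : Scheme.{u}} [IsNoetherian X] [IsNoetherian Y]
    (f : X ⟶ Y)
    (hgen : ∀ (Z : Scheme.{u}) (i : Z ⟶ X) [IsClosedImmersion i] [IsIntegral Z],
      ∃ H : Z.Modules, Coh.IsCoh H ∧ Nontrivial (H.presheaf.stalk (genericPoint Z)) ∧
        Coh.IsCoh ((Scheme.Modules.pushforward (i ≫ f)).obj H))
    (F : X.Modules) (hF : Coh.IsCoh F) : Coh.IsCoh ((Scheme.Modules.pushforward f).obj F) := by
  classical
  by_cases hne : Nonempty X
  swap
  · have hz : CategoryTheory.Limits.IsZero F := Groth.Agent.Lib.Helper12.H12Dev.isZero_of_support_eq_empty F (by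
      ext x
      exact (hne ⟨x⟩).elim)
    have hz' : CategoryTheory.Limits.IsZero ((Scheme.Modules.pushforward f).obj F) := Functor.map_isZero _ hz
    exact ⟨Groth.Agent.Lib.Helper28.DCohRes.isQuasicoherent_of_isZero hz',
      Groth.Agent.Lib.Helper28.DCohRes.isFiniteType_of_isZero hz'⟩
  have hqc : ∀ M : X.Modules, Coh.IsCoh M →
      ((Scheme.Modules.pushforward f).obj M).IsQuasicoherent := by
    intro M hM
    have := hM.1
    exact Groth.Agent.Lib.Helper29.QCoh.isQuasicoherent_pushforward_of_qcqs f M
  have hsub : ∀ (M N : X.Modules) (j : M ⟶ N), Coh.IsCoh M →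
      Mono ((Scheme.Modules.pushforward f).map j) →
      Coh.IsCoh ((Scheme.Modules.pushforward f).obj N) →
      Coh.IsCoh ((Scheme.Modules.pushforward f).obj M) := by
    intro M N j hM hj hN
    have := hqc M hM
    have := hN.1
    have := hN.2
    exact ⟨inferInstance, Groth.Agent.Lib.Helper29.QCoh.isFiniteType_of_mono
      ((Scheme.Modules.pushforward f).map j)⟩
  let K : ObjectProperty X.Modules := fun F => Coh.IsCoh ((Scheme.Modules.pushforward f).obj F)
  have : K.IsClosedUnderIsomorphisms := ⟨fun e h =>
    Groth.Agent.Lib.Helper12.H12Dev.isCoh_of_iso ((Scheme.Modules.pushforward f).mapIso e) h⟩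
  refine Groth.Agent.S10865.result X K ?_ ?_ ?_ F hF
  · intro S hS h1 h2 h3
    have := hS.mono_f
    constructor
    · intro hK2 _
      exact hsub S.X₁ S.X₂ S.f h1 inferInstance hK2
    · intro hK1 hK3
      have hex : (S.map (Scheme.Modules.pushforward f)).Exact :=
        hS.exact.map_of_mono_of_preservesKernel (Scheme.Modules.pushforward f) hS.mono_f
          inferInstance
      have := hK1.1
      have := hK1.2
      have := hK3.1
      have := hK3.2
      have := hqc S.X₂ h2
      exact Groth.Agent.Lib.Helper28.DCohRes.isCoh_of_five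
        (CategoryTheory.Limits.kernel.ι ((Scheme.Modules.pushforward f).map S.f))
        ((Scheme.Modules.pushforward f).map S.f) ((Scheme.Modules.pushforward f).map S.g)
        (CategoryTheory.Limits.cokernel.π ((Scheme.Modules.pushforward f).map S.g)) (CategoryTheory.Limits.kernel.condition _)
        (S.map (Scheme.Modules.pushforward f)).zero (CategoryTheory.Limits.cokernel.condition _)
        (ShortComplex.exact_kernel _) hex (ShortComplex.exact_cokernel _)
  · intro F d hd hF hK
    have hfac : CategoryTheory.Limits.Sigma.ι (fun _ : Fin d => F) ⟨0, hd⟩ ≫ CategoryTheory.Limits.Sigma.desc (fun _ => 𝟙 F) = 𝟙 F :=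
      CategoryTheory.Limits.Sigma.ι_desc _ _
    have hfac' : (Scheme.Modules.pushforward f).map (CategoryTheory.Limits.Sigma.ι (fun _ : Fin d => F) ⟨0, hd⟩) ≫
        (Scheme.Modules.pushforward f).map (CategoryTheory.Limits.Sigma.desc (fun _ => 𝟙 F)) = 𝟙 _ := by
      rw [← CategoryTheory.Functor.map_comp, hfac, CategoryTheory.Functor.map_id]
    have hm : Mono ((Scheme.Modules.pushforward f).map (CategoryTheory.Limits.Sigma.ι (fun _ : Fin d => F) ⟨0, hd⟩)) :=
      mono_of_mono_fac hfac'
    exact hsub F _ _ hF hm hK
  · intro Z i _ _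
    obtain ⟨H, hH, hnt, hc⟩ := hgen Z i
    exact ⟨H, hH, hnt, Groth.Agent.Lib.Helper12.H12Dev.isCoh_of_iso
      ((Scheme.Modules.pushforwardComp i f).symm.app H) hc⟩

end Groth.Agent.S10866
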