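import Groth.Statements.S10869
-- import your own Groth.Agent.* helpers here
import Groth.Agent.Lib.Helper29.Sky

set_option autoImplicit false
universe u
open Coh

namespace Groth.Agent.S10869

open CategoryTheory AlgebraicGeometry in
/-- For f : X → S quasi-compact and quasi-separated and F a quasi-coherent O_X-module, the counit
f^*f_*F → F is an epimorphism iff F is a quotient of f^*G for some quasi-coherent O_S-module G, iff
the restriction of F to the inverse image of every affine open of S is globally generated. -/
theorem result {X S : Scheme.{u}} (f : X ⟶ S) [QuasiCompact f] [QuasiSeparated f]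
    (F : X.Modules) (hF : Coh.IsQCoh F) :
    (Epi ((Scheme.Modules.pullbackPushforwardAdjunction f).counit.app F) ↔
      ∃ G : S.Modules, Coh.IsQCoh G ∧ ∃ φ : (Scheme.Modules.pullback f).obj G ⟶ F, Epi φ) ∧
    (Epi ((Scheme.Modules.pullbackPushforwardAdjunction f).counit.app F) ↔
      ∀ U : S.Opens, IsAffineOpen U → Curv2.IsGloballyGenerated (F.restrict (f ⁻¹ᵁ U).ι)) := by
  open Groth.Agent.Lib.Helper29.QCoh in
  have hq : F.IsQuasicoherent := hF
  refine ⟨⟨fun hepi => ?_, ?_⟩, ⟨fun hepi U hU => ?_, fun h => ?_⟩⟩
  · exact ⟨(Scheme.Modules.pushforward f).obj F, isQuasicoherent_pushforward_of_qcqs f F,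
      (Scheme.Modules.pullbackPushforwardAdjunction f).counit.app F, hepi⟩
  · rintro ⟨G, -, φ, hφ⟩
    have h1 : (Scheme.Modules.pullback f).map
        ((Scheme.Modules.pullbackPushforwardAdjunction f).homEquiv G F φ) ≫
        (Scheme.Modules.pullbackPushforwardAdjunction f).counit.app F = φ := by
      have := (Scheme.Modules.pullbackPushforwardAdjunction f).homEquiv_counit
        (g := (Scheme.Modules.pullbackPushforwardAdjunction f).homEquiv G F φ)
      rw [← this, Equiv.symm_apply_apply]
    exact epi_of_epi_fac h1
  · exact isGloballyGenerated_restrict_of_epi_counit f F hepi hU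
  · refine epi_counit_of_isGloballyGenerated_restrict f F fun x => ?_
    obtain ⟨U, hU, hxU, -⟩ := exists_isAffineOpen_mem_and_subset (x := f x) (U := ⊤) trivial
    exact ⟨U, hxU, h U hU⟩

end Groth.Agent.S10869
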