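import Groth.Statements.S10871
import Mathlib

set_option autoImplicit false
universe u
open AlgebraicGeometry
open Curves

namespace Groth.Agent.S10871



theorem local_principal (A : Type u) [CommRing A] [IsDedekindDomain A] (I : Ideal A)
    (p : Ideal A) [hpp : p.IsPrime] :
    ∃ g h : A, g ∉ p ∧ ∀ q : Ideal A, q.IsPrime → g ∉ q → (¬ I ≤ q ↔ h ∉ q) := by
  classical
  by_cases hIp : I ≤ p
  swap
  · obtain ⟨g, hgI, hgp⟩ := SetLike.not_le_iff_exists.mp hIp
    exact ⟨g, 1, hgp, fun q hq hgq =>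
      ⟨fun _ h1 => hq.ne_top ((Ideal.eq_top_iff_one _).mpr h1), fun _ hle => hgq (hle hgI)⟩⟩
  by_cases hI0 : I = ⊥
  · subst hI0
    exact ⟨1, 0, fun h => hpp.ne_top ((Ideal.eq_top_iff_one _).mpr h),
      fun q hq _ => ⟨fun h => absurd bot_le h, fun h => absurd q.zero_mem h⟩⟩
  have hp0 : p ≠ ⊥ := fun h => hI0 (le_bot_iff.mp (h ▸ hIp))
  haveI : IsDiscreteValuationRing (Localization.AtPrime p) :=
    IsLocalization.AtPrime.isDiscreteValuationRing_of_dedekind_domain A hp0 _
  obtain ⟨x, hx⟩ := (IsPrincipalIdealRing.principal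
    (Ideal.map (algebraMap A (Localization.AtPrime p)) I)).principal
  have hx' : Ideal.map (algebraMap A (Localization.AtPrime p)) I = Ideal.span {x} := hx
  have hxmem : x ∈ Ideal.map (algebraMap A (Localization.AtPrime p)) I := by
    rw [hx']
    exact Ideal.mem_span_singleton_self x
  obtain ⟨⟨⟨h, hhI⟩, s⟩, hxs⟩ :=
    (IsLocalization.mem_map_algebraMap_iff p.primeCompl (Localization.AtPrime p)).mp hxmem
  simp only at hxs
  have key : ∀ a ∈ I, ∃ g, g ∉ p ∧ g * a ∈ Ideal.span {h} := by
    intro a ha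
    have h1 : algebraMap A (Localization.AtPrime p) a ∈ Ideal.span {x} := by
      rw [← hx']
      exact Ideal.mem_map_of_mem _ ha
    obtain ⟨y, hy⟩ := Ideal.mem_span_singleton'.mp h1
    obtain ⟨c, t, rfl⟩ := IsLocalization.exists_mk'_eq p.primeCompl y
    have h2 : algebraMap A (Localization.AtPrime p) (c * h) =
        algebraMap A (Localization.AtPrime p) ((t : A) * (s : A) * a) := by
      rw [map_mul, map_mul, map_mul, ← hy, ← hxs]
      have h3 := IsLocalization.mk'_spec (Localization.AtPrime p) c t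
      rw [← h3]
      ring
    obtain ⟨u, hu⟩ := (IsLocalization.eq_iff_exists p.primeCompl (Localization.AtPrime p)).mp h2
    refine ⟨(u : A) * t * s, ?_, ?_⟩
    · intro hmem
      rcases hpp.mem_or_mem hmem with h4 | h4
      · rcases hpp.mem_or_mem h4 with h5 | h5
        · exact u.2 h5
        · exact t.2 h5
      · exact s.2 h4
    · rw [Ideal.mem_span_singleton']
      exact ⟨(u : A) * c, by linear_combination hu⟩
  obtain ⟨S, hS⟩ := (IsNoetherian.noetherian I : I.FG)
  have hfin : ∀ T : Finset A, (∀ a ∈ T, a ∈ I) →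
      ∃ g, g ∉ p ∧ ∀ a ∈ T, g * a ∈ Ideal.span {h} := by
    intro T
    induction T using Finset.induction_on with
    | empty =>
      intro _
      exact ⟨1, fun h => hpp.ne_top ((Ideal.eq_top_iff_one _).mpr h), by simp⟩
    | insert a T ha ih =>
      intro hT
      obtain ⟨g1, hg1, hg1T⟩ := ih (fun b hb => hT b (Finset.mem_insert_of_mem hb))
      obtain ⟨g2, hg2, hg2a⟩ := key a (hT a (Finset.mem_insert_self a T))
      refine ⟨g1 * g2, fun hmem => (hpp.mem_or_mem hmem).elim hg1 hg2, ?_⟩
      intro b hb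
      rcases Finset.mem_insert.mp hb with rfl | hb
      · rw [mul_assoc]
        exact Ideal.mul_mem_left _ _ hg2a
      · rw [mul_comm g1 g2, mul_assoc]
        exact Ideal.mul_mem_left _ _ (hg1T b hb)
  obtain ⟨g, hg, hgS⟩ := hfin S (fun a ha => hS ▸ Ideal.subset_span ha)
  have hgI : ∀ a ∈ I, g * a ∈ Ideal.span {h} := by
    intro a ha
    rw [← hS] at ha
    induction ha using Submodule.span_induction with
    | mem b hb => exact hgS b hb
    | zero => simp
    | add b c _ _ hb hc => rw [mul_add]; exact Ideal.add_mem _ hb hc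
    | smul r b _ hb =>
      rw [smul_eq_mul, mul_left_comm]
      exact Ideal.mul_mem_left _ _ hb
  refine ⟨g, h, hg, fun q hq hgq => ⟨?_, ?_⟩⟩
  · intro hIq hhq
    obtain ⟨a, haI, haq⟩ := SetLike.not_le_iff_exists.mp hIq
    have h1 : g * a ∈ q := ((Ideal.span_singleton_le_iff_mem q).mpr hhq) (hgI a haI)
    exact (hq.mem_or_mem h1).elim hgq haq
  · intro hhq hle
    exact hhq (hle hhI)

/-- Every open subscheme of the spectrum of a Dedekind domain is affine. -/
theorem result (A : Type u) [CommRing A] [IsDedekindDomain A]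
    (U : (Spec (CommRingCat.of A)).Opens) : IsAffineOpen U := by

  let T : Set (PrimeSpectrum A) := {x : PrimeSpectrum A | x ∉ U}
  have hcl : IsClosed T := U.2.isClosed_compl
  let I : Ideal A := PrimeSpectrum.vanishingIdeal T
  have hU : ∀ x : PrimeSpectrum A, x ∈ U ↔ ¬ I ≤ x.asIdeal := by
    intro x
    have h1 : PrimeSpectrum.zeroLocus (I : Set A) = T := by
      rw [PrimeSpectrum.zeroLocus_vanishingIdeal_eq_closure]
      exact hcl.closure_eq
    have h2 : x ∈ PrimeSpectrum.zeroLocus (I : Set A) ↔ I ≤ x.asIdeal :=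
      PrimeSpectrum.mem_zeroLocus x (I : Set A)
    rw [← h2, h1]
    simp [T]
  have haff : IsAffineHom U.ι := by
    apply isAffineHom_of_forall_exists_isAffineOpen
    intro x
    obtain ⟨g, h, hg, hgh⟩ := local_principal A I (x : PrimeSpectrum A).asIdeal
    refine ⟨PrimeSpectrum.basicOpen g, hg,
      IsAffineOpen.Spec_basicOpen (R := CommRingCat.of A) g, ?_⟩
    rw [← U.ι.isAffineOpen_iff_of_isOpenImmersion, U.ι.image_preimage_eq_opensRange_inf,
      Scheme.Opens.opensRange_ι]
    have h3 : U ⊓ PrimeSpectrum.basicOpen g = PrimeSpectrum.basicOpen (g * h) := by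
      ext y
      change (y ∈ U ∧ g ∉ (y : PrimeSpectrum A).asIdeal) ↔ g * h ∉ (y : PrimeSpectrum A).asIdeal
      constructor
      · rintro ⟨hyU, hgy⟩ hmem
        rcases (y : PrimeSpectrum A).2.mem_or_mem hmem with h1 | h1
        · exact hgy h1
        · exact ((hgh _ (y : PrimeSpectrum A).2 hgy).mp ((hU y).mp hyU)) h1
      · intro hmem
        have hgy : g ∉ (y : PrimeSpectrum A).asIdeal := fun h1 => hmem (Ideal.mul_mem_right _ _ h1)
        have hhy : h ∉ (y : PrimeSpectrum A).asIdeal := fun h1 => hmem (Ideal.mul_mem_left _ _ h1)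
        exact ⟨(hU y).mpr ((hgh _ (y : PrimeSpectrum A).2 hgy).mpr hhy), hgy⟩
    rw [h3]
    exact IsAffineOpen.Spec_basicOpen (R := CommRingCat.of A) (g * h)
  exact isAffine_of_isAffineHom U.ι

end Groth.Agent.S10871
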