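import Groth.Statements.S10877
import Mathlib

set_option autoImplicit false
universe u
open CategoryTheory AlgebraicGeometry
open FlatMor

namespace Groth.Agent.S10877



theorem injective_of_cover {X Y : Scheme.{u}} (f : X ⟶ Y) [IsSeparated f] {ι : Type u}
    (U : ι → X.Opens) (hU : ⨆ i, U i = ⊤) (hd : ∀ i, Dense (U i : Set X))
    (h : ∀ i, IsOpenImmersion ((U i).ι ≫ f)) : Function.Injective f.base := by
  intro x₁ x₂ hx
  obtain ⟨i, hi⟩ : ∃ i, x₁ ∈ U i := by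
    have : x₁ ∈ (⨆ i, U i : X.Opens) := by rw [hU]; trivial
    simpa [TopologicalSpace.Opens.mem_iSup] using this
  obtain ⟨j, hj⟩ : ∃ j, x₂ ∈ U j := by
    have : x₂ ∈ (⨆ i, U i : X.Opens) := by rw [hU]; trivial
    simpa [TopologicalSpace.Opens.mem_iSup] using this
  have hoi := h i
  have hoj := h j
  have hyW : f x₁ ∈ (((U i).ι ≫ f).opensRange ⊓ ((U j).ι ≫ f).opensRange : Y.Opens) :=
    ⟨⟨⟨x₁, hi⟩, rfl⟩, ⟨⟨x₂, hj⟩, hx.symm⟩⟩
  set W : Y.Opens := ((U i).ι ≫ f).opensRange ⊓ ((U j).ι ≫ f).opensRange with hW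
  let li : W.toScheme ⟶ (U i).toScheme := IsOpenImmersion.lift ((U i).ι ≫ f) W.ι (by
    rw [Scheme.Opens.range_ι]; exact fun y hy => hy.1)
  have hli : li ≫ (U i).ι ≫ f = W.ι := IsOpenImmersion.lift_fac _ _ _
  let lj : W.toScheme ⟶ (U j).toScheme := IsOpenImmersion.lift ((U j).ι ≫ f) W.ι (by
    rw [Scheme.Opens.range_ι]; exact fun y hy => hy.2)
  have hlj : lj ≫ (U j).ι ≫ f = W.ι := IsOpenImmersion.lift_fac _ _ _
  have hsi : (li ≫ (U i).ι) ≫ f = W.ι := by rw [Category.assoc, hli]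
  have hsj : (lj ≫ (U j).ι) ≫ f = W.ι := by rw [Category.assoc, hlj]
  let WO : Over Y := Over.mk W.ι
  let XO : Over Y := Over.mk f
  let si' : WO ⟶ XO := Over.homMk (li ≫ (U i).ι) hsi
  let sj' : WO ⟶ XO := Over.homMk (lj ≫ (U j).ι) hsj
  have hsepX : IsSeparated XO.hom := ‹IsSeparated f›
  have hci : IsClosedImmersion (Limits.equalizer.ι si' sj').left := inferInstance
  have hTrange : Set.range ((U i ⊓ U j).ι ≫ f) ⊆ Set.range W.ι := by
    rw [Scheme.Opens.range_ι]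
    rintro _ ⟨x, rfl⟩
    exact ⟨⟨⟨x.1, x.2.1⟩, rfl⟩, ⟨⟨x.1, x.2.2⟩, rfl⟩⟩
  let τ : (U i ⊓ U j).toScheme ⟶ W.toScheme :=
    IsOpenImmersion.lift W.ι ((U i ⊓ U j).ι ≫ f) hTrange
  have hτ : τ ≫ W.ι = (U i ⊓ U j).ι ≫ f := IsOpenImmersion.lift_fac _ _ _
  have hτi : τ ≫ li ≫ (U i).ι = (U i ⊓ U j).ι := by
    have e1 : τ ≫ li = X.homOfLE inf_le_left := by
      rw [← cancel_mono ((U i).ι ≫ f), Category.assoc, hli, hτ, ← Category.assoc, X.homOfLE_ι]
    rw [← Category.assoc, e1, X.homOfLE_ι]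
  have hτj : τ ≫ lj ≫ (U j).ι = (U i ⊓ U j).ι := by
    have e1 : τ ≫ lj = X.homOfLE inf_le_right := by
      rw [← cancel_mono ((U j).ι ≫ f), Category.assoc, hlj, hτ, ← Category.assoc, X.homOfLE_ι]
    rw [← Category.assoc, e1, X.homOfLE_ι]
  let TO : Over Y := Over.mk (τ ≫ W.ι)
  let τ' : TO ⟶ WO := Over.homMk τ rfl
  have hcond : τ' ≫ si' = τ' ≫ sj' := by
    ext1
    show τ ≫ li ≫ (U i).ι = τ ≫ lj ≫ (U j).ι
    rw [hτi, hτj]
  have hσ : (Limits.equalizer.lift τ' hcond).left ≫ (Limits.equalizer.ι si' sj').left = τ := by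
    rw [← Over.comp_left, Limits.equalizer.lift_ι]
    rfl
  have hdense : Dense (Set.range τ) := by
    rw [dense_iff_inter_open]
    intro N hN ⟨w, hw⟩
    -- N' = W.ι '' N open in Y
    have hN' : IsOpen (W.ι '' N) := W.ι.isOpenEmbedding.isOpenMap N hN
    have hMopen : IsOpen (((U i).ι ≫ f) ⁻¹' (W.ι '' N)) :=
      hN'.preimage ((U i).ι ≫ f).continuous
    have hMX : IsOpen ((U i).ι '' (((U i).ι ≫ f) ⁻¹' (W.ι '' N))) :=
      (U i).ι.isOpenEmbedding.isOpenMap _ hMopen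
    have hMne : ((U i).ι '' (((U i).ι ≫ f) ⁻¹' (W.ι '' N))).Nonempty := by
      refine ⟨(U i).ι (li w), li w, ?_, rfl⟩
      show ((U i).ι ≫ f) (li w) ∈ W.ι '' N
      refine ⟨w, hw, ?_⟩
      rw [← Scheme.Hom.comp_apply li, hli]
    obtain ⟨x, ⟨x', hx'N, rfl⟩, hxj⟩ := (dense_iff_inter_open.mp (hd j)) _ hMX hMne
    obtain ⟨n, hn, hnx⟩ := hx'N
    refine ⟨n, hn, ⟨⟨(U i).ι x', ⟨x'.2, hxj⟩⟩, ?_⟩⟩
    apply W.ι.isOpenEmbedding.injective
    rw [← Scheme.Hom.comp_apply τ, hτ, hnx]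
    rfl
  have hrange : Set.range (Limits.equalizer.ι si' sj').left = Set.univ := by
    have hcl : IsClosed (Set.range (Limits.equalizer.ι si' sj').left) :=
      (Limits.equalizer.ι si' sj').left.isClosedEmbedding.isClosed_range
    have hsub : Set.range τ ⊆ Set.range (Limits.equalizer.ι si' sj').left := by
      rw [← hσ]
      rintro _ ⟨t, rfl⟩
      exact ⟨_, rfl⟩
    have := closure_minimal hsub hcl
    rw [hdense.closure_eq] at this
    exact Set.eq_univ_of_univ_subset this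
  obtain ⟨ε, hε⟩ : (⟨f x₁, hyW⟩ : W) ∈ Set.range (Limits.equalizer.ι si' sj').left := by
    rw [hrange]; trivial
  have hsij : (li ≫ (U i).ι) ⟨f x₁, hyW⟩ = (lj ≫ (U j).ι) ⟨f x₁, hyW⟩ := by
    have hc : (Limits.equalizer.ι si' sj').left ≫ (li ≫ (U i).ι) =
        (Limits.equalizer.ι si' sj').left ≫ (lj ≫ (U j).ι) :=
      congr($(Limits.equalizer.condition si' sj').left)
    rw [← hε, ← Scheme.Hom.comp_apply, ← Scheme.Hom.comp_apply, hc]
  have h1 : x₁ = (li ≫ (U i).ι) ⟨f x₁, hyW⟩ := by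
    have e1 : (⟨x₁, hi⟩ : U i) = li ⟨f x₁, hyW⟩ := by
      apply ((U i).ι ≫ f).isOpenEmbedding.injective
      rw [← Scheme.Hom.comp_apply li, hli]
      rfl
    rw [Scheme.Hom.comp_apply, ← e1]
    rfl
  have h2 : x₂ = (lj ≫ (U j).ι) ⟨f x₁, hyW⟩ := by
    have e1 : (⟨x₂, hj⟩ : U j) = lj ⟨f x₁, hyW⟩ := by
      apply ((U j).ι ≫ f).isOpenEmbedding.injective
      rw [← Scheme.Hom.comp_apply lj, hlj]
      exact hx.symm
    rw [Scheme.Hom.comp_apply, ← e1]
    rfl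
  rw [h1, h2, hsij]

/-- A separated morphism f : X → Y, with X having finitely many irreducible components, which restricts
to an open immersion on each member of a cover of X by dense open subsets, is an open immersion. -/
theorem result {X Y : Scheme.{u}} (f : X ⟶ Y) [IsSeparated f]
    (hfin : (irreducibleComponents (X : Type u)).Finite) {ι : Type u} (U : ι → X.Opens)
    (hU : ⨆ i, U i = ⊤) (hd : ∀ i, Dense (U i : Set X)) (h : ∀ i, IsOpenImmersion ((U i).ι ≫ f)) :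
    IsOpenImmersion f := by

  have hinj := injective_of_cover f U hU hd h
  have hmem : ∀ x : X, ∃ i, x ∈ U i := by
    intro x
    have : x ∈ (⨆ i, U i : X.Opens) := by rw [hU]; trivial
    simpa [TopologicalSpace.Opens.mem_iSup] using this
  have hstalk : ∀ x, IsIso (f.stalkMap x) := by
    intro x
    obtain ⟨i, hi⟩ := hmem x
    have := h i
    have h1 : IsIso (((U i).ι ≫ f).stalkMap ⟨x, hi⟩) := inferInstance
    rw [Scheme.Hom.stalkMap_comp] at h1
    have h2 : IsIso ((U i).ι.stalkMap ⟨x, hi⟩) := inferInstance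
    exact @IsIso.of_isIso_comp_right _ _ _ _ _ (f.stalkMap ((U i).ι ⟨x, hi⟩))
      ((U i).ι.stalkMap ⟨x, hi⟩) h2 h1
  have hopen : IsOpenMap f.base := by
    intro O hO
    have e : f.base '' O = ⋃ i, ((U i).ι ≫ f).base '' ((U i).ι.base ⁻¹' O) := by
      ext y
      simp only [Set.mem_image, Set.mem_iUnion, Set.mem_preimage]
      constructor
      · rintro ⟨x, hxO, rfl⟩
        obtain ⟨i, hi⟩ := hmem x
        exact ⟨i, ⟨x, hi⟩, hxO, rfl⟩
      · rintro ⟨i, x', hx', rfl⟩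
        exact ⟨(U i).ι x', hx', rfl⟩
    rw [e]
    refine isOpen_iUnion fun i => ?_
    have := h i
    exact ((U i).ι ≫ f).isOpenEmbedding.isOpenMap _ (hO.preimage (U i).ι.continuous)
  exact IsOpenImmersion.of_isIso_stalkMap f
    (Topology.IsOpenEmbedding.of_continuous_injective_isOpenMap f.continuous hinj hopen)

end Groth.Agent.S10877
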