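import Groth.Statements.S10878
import Mathlib

set_option autoImplicit false
universe u
open CategoryTheory AlgebraicGeometry
open FlatMor

namespace Groth.Agent.S10878



theorem injective_of_cover' {X Y : Scheme.{u}} (f : X ⟶ Y) [IsSeparated f] {ι : Type u}
    (U : ι → X.Opens) (hU : ⨆ i, U i = ⊤) (hd : ∀ i, Dense (U i : Set X))
    (h : ∀ i, IsImmersion ((U i).ι ≫ f)) : Function.Injective f.base := by
  intro x₁ x₂ hx
  obtain ⟨i, hi⟩ : ∃ i, x₁ ∈ U i := by
    have : x₁ ∈ (⨆ i, U i : X.Opens) := by rw [hU]; trivial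
    simpa [TopologicalSpace.Opens.mem_iSup] using this
  obtain ⟨j, hj⟩ : ∃ j, x₂ ∈ U j := by
    have : x₂ ∈ (⨆ i, U i : X.Opens) := by rw [hU]; trivial
    simpa [TopologicalSpace.Opens.mem_iSup] using this
  have hoi := h i
  have hoj := h j
  let a : Limits.pullback ((U i).ι ≫ f) ((U j).ι ≫ f) ⟶ X := Limits.pullback.fst _ _ ≫ (U i).ι
  let b : Limits.pullback ((U i).ι ≫ f) ((U j).ι ≫ f) ⟶ X := Limits.pullback.snd _ _ ≫ (U j).ι
  have hab : a ≫ f = b ≫ f := by
    simp only [a, b, Category.assoc]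
    exact Limits.pullback.condition
  obtain ⟨z, hz1, hz2⟩ := Scheme.Pullback.exists_preimage_pullback
    (f := (U i).ι ≫ f) (g := (U j).ι ≫ f) ⟨x₁, hi⟩ ⟨x₂, hj⟩ hx
  let PO : Over Y := Over.mk (a ≫ f)
  let XO : Over Y := Over.mk f
  let a' : PO ⟶ XO := Over.homMk a rfl
  let b' : PO ⟶ XO := Over.homMk b hab.symm
  have hsepX : IsSeparated XO.hom := ‹IsSeparated f›
  have hci : IsClosedImmersion (Limits.equalizer.ι a' b').left := inferInstance
  let Δ : (U i ⊓ U j).toScheme ⟶ Limits.pullback ((U i).ι ≫ f) ((U j).ι ≫ f) :=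
    Limits.pullback.lift (X.homOfLE inf_le_left) (X.homOfLE inf_le_right) (by
      rw [← Category.assoc, ← Category.assoc, X.homOfLE_ι, X.homOfLE_ι])
  have hΔa : Δ ≫ a = (U i ⊓ U j).ι := by
    simp only [Δ, a]
    rw [← Category.assoc, Limits.pullback.lift_fst, X.homOfLE_ι]
  have hΔb : Δ ≫ b = (U i ⊓ U j).ι := by
    simp only [Δ, b]
    rw [← Category.assoc, Limits.pullback.lift_snd, X.homOfLE_ι]
  let TO : Over Y := Over.mk (Δ ≫ a ≫ f)
  let Δ' : TO ⟶ PO := Over.homMk Δ rfl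
  have hcond : Δ' ≫ a' = Δ' ≫ b' := by
    ext1
    show Δ ≫ a = Δ ≫ b
    rw [hΔa, hΔb]
  have hσ : (Limits.equalizer.lift Δ' hcond).left ≫ (Limits.equalizer.ι a' b').left = Δ := by
    rw [← Over.comp_left, Limits.equalizer.lift_ι]
    rfl
  have hdense : Dense (Set.range Δ) := by
    have hemb : Topology.IsEmbedding (Limits.pullback.fst ((U i).ι ≫ f) ((U j).ι ≫ f)) :=
      (Limits.pullback.fst ((U i).ι ≫ f) ((U j).ι ≫ f)).isEmbedding
    rw [dense_iff_closure_eq, hemb.closure_eq_preimage_closure_image, ← Set.range_comp]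
    have e1 : (Limits.pullback.fst ((U i).ι ≫ f) ((U j).ι ≫ f)) ∘ Δ =
        X.homOfLE (inf_le_left : U i ⊓ U j ≤ U i) := by
      ext t
      show (Δ ≫ Limits.pullback.fst ((U i).ι ≫ f) ((U j).ι ≫ f)) t = _
      rw [Limits.pullback.lift_fst]
    rw [e1]
    have hd2 : Dense (Set.range (X.homOfLE (inf_le_left : U i ⊓ U j ≤ U i))) := by
      have h1 : Dense ((U i).ι ⁻¹' (U j : Set X)) :=
        (hd j).preimage (U i).ι.isOpenEmbedding.isOpenMap
      refine h1.mono ?_
      intro t ht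
      refine ⟨⟨t.1, t.2, ht⟩, ?_⟩
      apply (U i).ι.isOpenEmbedding.injective
      rw [← Scheme.Hom.comp_apply, X.homOfLE_ι]
      rfl
    rw [hd2.closure_eq]
    simp
  have hrange : Set.range (Limits.equalizer.ι a' b').left = Set.univ := by
    have hcl : IsClosed (Set.range (Limits.equalizer.ι a' b').left) :=
      (Limits.equalizer.ι a' b').left.isClosedEmbedding.isClosed_range
    have hsub : Set.range Δ ⊆ Set.range (Limits.equalizer.ι a' b').left := by
      rw [← hσ]
      rintro _ ⟨t, rfl⟩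
      exact ⟨_, rfl⟩
    have := closure_minimal hsub hcl
    rw [hdense.closure_eq] at this
    exact Set.eq_univ_of_univ_subset this
  obtain ⟨ε, hε⟩ : z ∈ Set.range (Limits.equalizer.ι a' b').left := by
    rw [hrange]; trivial
  have hazb : a z = b z := by
    have hc : (Limits.equalizer.ι a' b').left ≫ a = (Limits.equalizer.ι a' b').left ≫ b :=
      congr($(Limits.equalizer.condition a' b').left)
    rw [← hε, ← Scheme.Hom.comp_apply, ← Scheme.Hom.comp_apply, hc]
  have h1 : a z = x₁ := by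
    show (Limits.pullback.fst _ _ ≫ (U i).ι) z = x₁
    rw [Scheme.Hom.comp_apply, hz1]
    rfl
  have h2 : b z = x₂ := by
    show (Limits.pullback.snd _ _ ≫ (U j).ι) z = x₂
    rw [Scheme.Hom.comp_apply, hz2]
    rfl
  rw [← h1, ← h2, hazb]

/-- A separated morphism f : X → Y, with X having finitely many irreducible components, which restricts
to an immersion on each member of a cover of X by dense open subsets, is an immersion. -/
theorem result {X Y : Scheme.{u}} (f : X ⟶ Y) [IsSeparated f]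
    (hfin : (irreducibleComponents (X : Type u)).Finite) {ι : Type u} (U : ι → X.Opens)
    (hU : ⨆ i, U i = ⊤) (hd : ∀ i, Dense (U i : Set X)) (h : ∀ i, IsImmersion ((U i).ι ≫ f)) :
    IsImmersion f := by

  have hinj := injective_of_cover' f U hU hd h
  have hmem : ∀ x : X, ∃ i, x ∈ U i := by
    intro x
    have : x ∈ (⨆ i, U i : X.Opens) := by rw [hU]; trivial
    simpa [TopologicalSpace.Opens.mem_iSup] using this
  let V : ι → Y.Opens := fun i => @Scheme.Hom.coborderRange _ _ ((U i).ι ≫ f) (h i)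
  have hpre : ∀ i, f ⁻¹ᵁ V i = U i := by
    intro i
    have := h i
    ext x
    constructor
    · intro hx
      have hx' : f x ∈ coborder (Set.range ((U i).ι ≫ f)) := hx
      have hcl : f x ∈ closure (Set.range ((U i).ι ≫ f)) := by
        have hxc : x ∈ closure (U i : Set X) := by rw [(hd i).closure_eq]; trivial
        have h2 := image_closure_subset_closure_image f.continuous ⟨x, hxc, rfl⟩
        have e : f.base '' (U i : Set X) = Set.range ((U i).ι ≫ f) := by
          ext y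
          constructor
          · rintro ⟨x', hx'U, rfl⟩
            exact ⟨⟨x', hx'U⟩, rfl⟩
          · rintro ⟨x', rfl⟩
            exact ⟨x'.1, x'.2, rfl⟩
        rw [e] at h2
        exact h2
      have hr : f x ∈ Set.range ((U i).ι ≫ f) := by
        rw [← coborder_inter_closure (s := Set.range ((U i).ι ≫ f))]; exact ⟨hx', hcl⟩
      obtain ⟨x', hx'⟩ := hr
      have e2 : (U i).ι x' = x := hinj hx'
      rw [← e2]; exact x'.2
    · intro hx
      exact subset_coborder ⟨⟨x, hx⟩, rfl⟩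
  have hrange : Set.range f ⊆ Set.range (⨆ i, V i : Y.Opens).ι := by
    rw [Scheme.Opens.range_ι]
    rintro _ ⟨x, rfl⟩
    obtain ⟨i, hi⟩ := hmem x
    have hxV : x ∈ f ⁻¹ᵁ V i := by rw [hpre]; exact hi
    exact TopologicalSpace.Opens.mem_iSup.mpr ⟨i, hxV⟩
  set W : Y.Opens := ⨆ i, V i with hW
  let f' : X ⟶ W.toScheme := IsOpenImmersion.lift W.ι f hrange
  have hf' : f' ≫ W.ι = f := IsOpenImmersion.lift_fac _ _ _
  have himm : IsImmersion f' := by
    apply IsZariskiLocalAtTarget.of_iSup_eq_top (P := @IsImmersion) (fun i => W.ι ⁻¹ᵁ V i)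
    · rw [← Scheme.Hom.preimage_iSup]
      exact Scheme.Opens.ι_preimage_self W
    · intro i
      have hO : f' ⁻¹ᵁ (W.ι ⁻¹ᵁ V i) = U i := by
        rw [← Scheme.Hom.comp_preimage, hf', hpre]
      have key : ∀ O' : X.Opens, O' = U i → IsImmersion (O'.ι ≫ f) := by
        rintro _ rfl; exact h i
      have h3 : IsImmersion ((f' ⁻¹ᵁ (W.ι ⁻¹ᵁ V i)).ι ≫ f) := key _ hO
      have h4 : (f' ∣_ (W.ι ⁻¹ᵁ V i)) ≫ ((W.ι ⁻¹ᵁ V i).ι ≫ W.ι) =
          (f' ⁻¹ᵁ (W.ι ⁻¹ᵁ V i)).ι ≫ f := by
        rw [← Category.assoc, morphismRestrict_ι, Category.assoc, hf']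
      have h5 : IsImmersion ((f' ∣_ (W.ι ⁻¹ᵁ V i)) ≫ ((W.ι ⁻¹ᵁ V i).ι ≫ W.ι)) := by
        rw [h4]; exact h3
      exact IsImmersion.of_comp _ ((W.ι ⁻¹ᵁ V i).ι ≫ W.ι)
  rw [← hf']
  infer_instance

end Groth.Agent.S10878
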