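import Groth.Statements.S10880
import Mathlib
import Groth.Agent.Lib.Helper25.RedDVR

set_option autoImplicit false
universe u
open CategoryTheory AlgebraicGeometry
open FlatMor

namespace Groth.Agent.S10880



open IsLocalRing Groth.Agent.Lib.Helper25.RedDVR in
theorem flat_of_reduced_mod (R : Type u) [CommRing R] [IsDomain R] [IsDiscreteValuationRing R]
    (A : Type u) [CommRing A] [Algebra R A] [IsNoetherianRing A]
    (hnil : ∀ n : A, IsNilpotent n → n ∈ (maximalIdeal R).map (algebraMap R A))
    (hdense : Dense {p : PrimeSpectrum A | p.asIdeal.comap (algebraMap R A) = ⊥}) :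
    Module.Flat R A := by
  obtain ⟨π, hπ⟩ := IsDiscreteValuationRing.exists_irreducible R
  set ϖ : A := algebraMap R A π with hϖ
  have hmax : (maximalIdeal R).map (algebraMap R A) = Ideal.span {ϖ} := by
    rw [hπ.maximalIdeal_eq, Ideal.map_span, Set.image_singleton]
  -- the π-power torsion ideal
  let T : Ideal A :=
    { carrier := {a | ∃ n : ℕ, ϖ ^ n * a = 0}
      add_mem' := by
        rintro a b ⟨n, hn⟩ ⟨m, hm⟩
        refine ⟨n + m, ?_⟩
        have : ϖ ^ (n + m) * (a + b) = ϖ ^ m * (ϖ ^ n * a) + ϖ ^ n * (ϖ ^ m * b) := by ring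
        rw [this, hn, hm, mul_zero, mul_zero, add_zero]
      zero_mem' := ⟨0, by simp⟩
      smul_mem' := by
        rintro c a ⟨n, hn⟩
        refine ⟨n, ?_⟩
        rw [smul_eq_mul, mul_left_comm, hn, mul_zero] }
  have hTmem : ∀ a, a ∈ T ↔ ∃ n : ℕ, ϖ ^ n * a = 0 := fun a => Iff.rfl
  have hnilT : ∀ a ∈ T, IsNilpotent a := by
    rintro a ⟨n, hn⟩
    rw [nilpotent_iff_mem_prime]
    intro p hp
    have hsub : {p : PrimeSpectrum A | p.asIdeal.comap (algebraMap R A) = ⊥} ⊆
        PrimeSpectrum.zeroLocus {a} := by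
      intro q hq
      rw [PrimeSpectrum.mem_zeroLocus, Set.singleton_subset_iff]
      have hq' : ϖ ∉ q.asIdeal := by
        intro h1
        have : π ∈ q.asIdeal.comap (algebraMap R A) := h1
        rw [hq] at this
        exact hπ.ne_zero this
      have h0 : ϖ ^ n * a ∈ q.asIdeal := by rw [hn]; exact zero_mem _
      rcases q.isPrime.mem_or_mem h0 with h | h
      · exact absurd (q.isPrime.mem_of_pow_mem _ h) hq'
      · exact h
    have hcl : closure {p : PrimeSpectrum A | p.asIdeal.comap (algebraMap R A) = ⊥} ⊆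
        PrimeSpectrum.zeroLocus {a} :=
      closure_minimal hsub (PrimeSpectrum.isClosed_zeroLocus _)
    rw [hdense.closure_eq] at hcl
    have := hcl (Set.mem_univ (⟨p, hp⟩ : PrimeSpectrum A))
    rw [PrimeSpectrum.mem_zeroLocus, Set.singleton_subset_iff] at this
    exact this
  have hle : T ≤ Ideal.span {ϖ} • T := by
    intro a ha
    have h1 := hnil a (hnilT a ha)
    rw [hmax, Ideal.mem_span_singleton] at h1
    obtain ⟨b, rfl⟩ := h1
    obtain ⟨n, hn⟩ := ha
    have hb : b ∈ T := ⟨n + 1, by rw [pow_succ, mul_assoc]; exact hn⟩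
    exact Submodule.smul_mem_smul (Ideal.mem_span_singleton_self ϖ) hb
  have hfg : (T : Submodule A A).FG := IsNoetherian.noetherian T
  obtain ⟨r, hr1, hr2⟩ :=
    Submodule.exists_sub_one_mem_and_smul_eq_zero_of_fg_of_le_smul (Ideal.span {ϖ}) T hfg hle
  rw [Ideal.mem_span_singleton] at hr1
  obtain ⟨c, hc⟩ := hr1
  have hT0 : ∀ a ∈ T, a = 0 := by
    intro a ha
    have h1 : a = (-(ϖ * c)) * a := by
      have := hr2 a ha
      rw [smul_eq_mul] at this
      have hr : r = 1 + ϖ * c := by rw [← hc]; ring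
      rw [hr] at this
      linear_combination this
    have h2 : ∀ k : ℕ, a = (-(ϖ * c)) ^ k * a := by
      intro k
      induction k with
      | zero => simp
      | succ k ih =>
        rw [pow_succ, mul_assoc, ← h1]
        exact ih
    obtain ⟨n, hn⟩ := ha
    rw [h2 n, neg_pow, mul_pow]
    have : (-1) ^ n * (ϖ ^ n * c ^ n) * a = (-1) ^ n * c ^ n * (ϖ ^ n * a) := by ring
    rw [this, hn, mul_zero]
  have htf : Module.IsTorsionFree R A := by
    rw [Module.isTorsionFree_iff_smul_eq_zero]
    intro x m hxm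
    by_cases hx : x = 0
    · exact Or.inl hx
    · right
      obtain ⟨n, u, rfl⟩ := IsDiscreteValuationRing.eq_unit_mul_pow_irreducible hx hπ
      apply hT0
      refine ⟨n, ?_⟩
      rw [Algebra.smul_def, map_mul, map_pow, mul_assoc] at hxm
      have hu : IsUnit (algebraMap R A (u : R)) := u.isUnit.map _
      exact (hu.mul_right_eq_zero).mp hxm
  infer_instance

/-- Let R be a discrete valuation ring and X a locally Noetherian scheme over Spec R whose
scheme-theoretic special fibre is reduced and such that every maximal point of the special fibre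
lies in the closure of the generic fibre, i.e. the generic fibre is dense in X. Then X is flat over
R. -/
theorem result (R : Type u) [CommRing R] [IsDomain R]
    [IsDiscreteValuationRing R] {X : Scheme.{u}} (f : X ⟶ Spec (CommRingCat.of R)) [IsLocallyNoetherian X]
    (hred : IsReduced (f.fiber (IsLocalRing.closedPoint R)))
    (hdense : Dense (f.base ⁻¹' {genericPoint (Spec (CommRingCat.of R))})) : Flat f := by

  apply IsZariskiLocalAtSource.of_iSup_eq_top (P := @Flat) (fun U : X.affineOpens => (U : X.Opens))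
    (iSup_affineOpens_eq_top X)
  rintro ⟨U, hU⟩
  have e : U.ι ≫ f = hU.isoSpec.hom ≫ (hU.fromSpec ≫ f) := by
    rw [← Category.assoc, hU.isoSpec_hom_fromSpec]
  show Flat (U.ι ≫ f)
  rw [e, MorphismProperty.cancel_left_of_respectsIso (P := @Flat)]
  obtain ⟨φ, hφ⟩ : ∃ φ : CommRingCat.of R ⟶ Γ(X, U), Spec.map φ = hU.fromSpec ≫ f :=
    ⟨Spec.preimage (hU.fromSpec ≫ f), Spec.map_preimage _⟩
  rw [← hφ, HasRingHomProperty.Spec_iff (P := @Flat)]
  have : IsNoetherianRing Γ(X, U) := IsLocallyNoetherian.component_noetherian ⟨U, hU⟩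
  algebraize [φ.hom]
  have hfib : IsReduced ((Spec.map φ).fiber (IsLocalRing.closedPoint R)) := by
    have : IsReduced (Limits.pullback f ((Spec (CommRingCat.of R)).fromSpecResidueField
        (IsLocalRing.closedPoint R))) := hred
    have e₁ : Spec.map φ ≫ 𝟙 _ = hU.fromSpec ≫ f := by simp [hφ]
    have e₂ : (Spec (CommRingCat.of R)).fromSpecResidueField (IsLocalRing.closedPoint R) ≫ 𝟙 _ =
        𝟙 _ ≫ (Spec (CommRingCat.of R)).fromSpecResidueField (IsLocalRing.closedPoint R) := by
      simp
    have hoi := Scheme.pullback_map_isOpenImmersion (Spec.map φ)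
        ((Spec (CommRingCat.of R)).fromSpecResidueField (IsLocalRing.closedPoint R)) f
        ((Spec (CommRingCat.of R)).fromSpecResidueField (IsLocalRing.closedPoint R))
        hU.fromSpec (𝟙 _) (𝟙 _) e₁ e₂
    exact @isReduced_of_isOpenImmersion _ _ _ hoi this
  have hfib' : _root_.IsReduced ((IsLocalRing.maximalIdeal R).Fiber Γ(X, U)) :=
    Groth.Agent.Lib.Helper25.RedDVR.isReduced_fiber_ring_of_isReduced_fiber_Spec
      (R := R) (S := Γ(X, U)) (IsLocalRing.closedPoint R) hfib
  have hnil : ∀ n : Γ(X, U), IsNilpotent n →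
      n ∈ (IsLocalRing.maximalIdeal R).map (algebraMap R Γ(X, U)) := fun n hn =>
    Groth.Agent.Lib.Helper25.RedDVR.mem_map_maximalIdeal_of_isNilpotent (R := R) n hn
  have hdense' : Dense {p : PrimeSpectrum Γ(X, U) |
      p.asIdeal.comap (algebraMap R Γ(X, U)) = ⊥} := by
    have h1 : Dense (hU.fromSpec.base ⁻¹' (f.base ⁻¹' {genericPoint (Spec (CommRingCat.of R))})) :=
      hdense.preimage hU.fromSpec.isOpenEmbedding.isOpenMap
    refine h1.mono ?_
    intro p hp
    have h2 : f.base (hU.fromSpec.base p) = genericPoint (Spec (CommRingCat.of R)) := hp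
    rw [genericPoint_eq_bot_of_affine] at h2
    have h3 : (Spec.map φ).base p = (⊥ : PrimeSpectrum R) := by
      rw [hφ]; exact h2
    have h4 := congrArg PrimeSpectrum.asIdeal h3
    exact h4
  exact flat_of_reduced_mod R Γ(X, U) hnil hdense'

end Groth.Agent.S10880
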