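import Groth.Statements.S10884
import Groth.Agent.Lib.Helper21.Img1
import Groth.Agent.Lib.Helper21.DimFun2
import Groth.Agent.Lib.Helper21.FibDim9
-- import your own Groth.Agent.* helpers here

set_option autoImplicit false
universe u
open CategoryTheory AlgebraicGeometry
open Variety

namespace Groth.Agent.S10884

/-- Let Y be a scheme of finite type over a field k and f : X → Y a dominant morphism of finite type all
of whose non-empty fibres have dimension r. Then dim X = r + dim Y. -/
theorem result (k : Type u) [Field k] {X Y : Scheme.{u}}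
    (q : Y ⟶ Spec (CommRingCat.of k)) [LocallyOfFiniteType q] [QuasiCompact q]
    (f : X ⟶ Y) [LocallyOfFiniteType f] [QuasiCompact f] (hdom : DenseRange f.base) (r : ℕ)
    (hfib : ∀ y : Y, (f.base ⁻¹' {y}).Nonempty → topologicalKrullDim (f.base ⁻¹' {y}) = r) :
    topologicalKrullDim X = (r : WithBot ℕ∞) + topologicalKrullDim Y := by
  let _ : Y.Over (Spec (CommRingCat.of k)) := ⟨q⟩
  let _ : X.Over (Spec (CommRingCat.of k)) := ⟨f ≫ q⟩
  have : LocallyOfFiniteType (Y ↘ Spec (CommRingCat.of k)) := ‹LocallyOfFiniteType q›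
  have : LocallyOfFiniteType (X ↘ Spec (CommRingCat.of k)) :=
    (inferInstance : LocallyOfFiniteType (f ≫ q))
  have : IsLocallyNoetherian Y := LocallyOfFiniteType.isLocallyNoetherian q
  have : IsLocallyNoetherian X := LocallyOfFiniteType.isLocallyNoetherian f
  have : CompactSpace Y := QuasiCompact.compactSpace_of_compactSpace q
  have : CompactSpace X := QuasiCompact.compactSpace_of_compactSpace f
  have : IsNoetherian X := {}
  -- fibre dimensions
  have hfib' : ∀ x : X, topologicalKrullDim (f.fiber (f x)) = r := by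
    intro x
    rw [(f.fiberHomeo (f x)).isHomeomorph.topologicalKrullDim_eq]
    exact hfib (f x) ⟨x, rfl⟩
  -- pointwise data
  have hpt : ∀ x : X, ∃ b c : ℕ,
      @Algebra.trdeg k (Y.residueField (f x)) _ _ (Curv2.resAlgebra k Y (f x)) = b ∧
      @Algebra.trdeg (Y.residueField (f x)) (X.residueField x) _ _
        (f.residueFieldMap x).hom.toAlgebra = c ∧
      topologicalKrullDim (closure ({x} : Set X)) = ((b + c : ℕ) : WithBot ℕ∞) ∧
      topologicalKrullDim (closure ({f x} : Set Y)) = (b : WithBot ℕ∞) := by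
    intro x
    obtain ⟨b, hb⟩ := Groth.Agent.Lib.Helper21.FibDim.exists_nat_trdeg k Y (f x)
    obtain ⟨c, hc⟩ := Groth.Agent.Lib.Helper21.FibDim.exists_nat_trdeg_residueFieldMap f x
    have h1 := Groth.Agent.Lib.Helper21.FibDim.trdeg_add_of_comp k X Y f rfl x b c hb hc
    exact ⟨b, c, hb, hc,
      Groth.Agent.Lib.Helper21.FibDim.topologicalKrullDim_closure_singleton k X x (b + c) h1,
      Groth.Agent.Lib.Helper21.FibDim.topologicalKrullDim_closure_singleton k Y (f x) b hb⟩
  apply le_antisymm
  · refine Groth.Agent.Lib.Helper21.Img.topologicalKrullDim_le_of_forall_closure' _ (fun x => ?_)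
    obtain ⟨b, c, hb, hc, hd1, hd2⟩ := hpt x
    rw [hd1]
    have hcr : (c : WithBot ℕ∞) ≤ r := by
      obtain ⟨N, hN, -, hall⟩ := Groth.Agent.Lib.Helper21.FibDim.exists_fibreDimAt_eq_trdeg f x
      have h1 := hall x specializes_rfl rfl
      rw [hc] at h1
      have h2 : c ≤ N := by exact_mod_cast h1
      have h3 := Groth.Agent.Lib.Helper21.FibDim.fibreDimAt_le_topologicalKrullDim_fiber f x
      rw [hN, hfib' x] at h3
      exact le_trans (by exact_mod_cast h2) h3
    have hbY : (b : WithBot ℕ∞) ≤ topologicalKrullDim Y := by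
      rw [← hd2]
      exact topologicalKrullDim_subspace_le Y _
    rw [Nat.cast_add, add_comm]
    exact add_le_add hcr hbY
  · rw [add_comm]
    have hY : topologicalKrullDim Y ≤ ⨆ y : Y, topologicalKrullDim (closure ({y} : Set Y)) :=
      Groth.Agent.Lib.Helper21.Img.topologicalKrullDim_le_of_forall_closure' _
        (fun y => le_iSup (fun y : Y => topologicalKrullDim (closure ({y} : Set Y))) y)
    refine le_trans (add_le_add_left hY _) ?_
    refine Groth.Agent.Lib.Helper21.FibDim.iSup_add_nat_le _ r _ (fun y => ?_)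
    -- a maximal generisation of `y`, which lies in the image
    obtain ⟨η, hηmax, hηy⟩ := Groth.Agent.Lib.Helper21.DimFun.exists_maximal_specializes y
    have hη : η ∈ closure (f '' (Set.univ : Set X)) := by
      rw [Set.image_univ, hdom.closure_range]
      exact Set.mem_univ _
    obtain ⟨x₀, -, hx₀⟩ := Groth.Agent.Lib.Helper21.Img.exists_specializes_of_mem_closure_image
      f f.continuous Set.univ isClosed_univ η hη
    have hx₀η : f x₀ = η := hηmax _ hx₀
    have hr : (r : WithBot ℕ∞) ≤ topologicalKrullDim (f.fiber η) := by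
      rw [← hx₀η, hfib' x₀]
    obtain ⟨x₁, hx₁η, hx₁r⟩ :=
      (Groth.Agent.Lib.Helper21.Img.le_topologicalKrullDim_fiber_iff' f η r).mp hr
    obtain ⟨m, hm, ⟨x₂, -, hx₂x₁, hx₂m⟩, -⟩ :=
      Groth.Agent.Lib.Helper21.FibDim.exists_fibreDimAt_eq_trdeg f x₁
    have hrm : r ≤ m := by
      rw [hm] at hx₁r
      exact_mod_cast hx₁r
    obtain ⟨b, c, hb, hc, hd1, hd2⟩ := hpt x₂
    have hcm : c = m := by
      have := hc.symm.trans hx₂m
      exact_mod_cast this
    have hfx₂ : f x₂ = η := hx₂x₁.trans hx₁η
    have h1 : topologicalKrullDim (closure ({y} : Set Y)) ≤ (b : WithBot ℕ∞) := by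
      rw [← hd2, hfx₂]
      refine Groth.Agent.Lib.Helper21.Img.topologicalKrullDim_mono
        (closure_minimal ?_ isClosed_closure)
      rw [Set.singleton_subset_iff]
      exact hηy.mem_closure
    have h2 : ((b + c : ℕ) : WithBot ℕ∞) ≤ topologicalKrullDim X := by
      rw [← hd1]
      exact topologicalKrullDim_subspace_le X _
    refine le_trans ?_ h2
    rw [Nat.cast_add]
    refine add_le_add h1 ?_
    rw [hcm]
    exact_mod_cast hrm

end Groth.Agent.S10884
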