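import Groth.Statements.S10885
import Groth.Agent.Lib.Helper21.Img1
import Groth.Agent.Lib.Helper21.DimFun2
import Groth.Agent.Lib.Helper21.FibDim9
-- import your own Groth.Agent.* helpers here

set_option autoImplicit false
universe u
open CategoryTheory AlgebraicGeometry
open Variety

namespace Groth.Agent.S10885

/-- Let Y be a scheme of finite type over a field k, r ≥ 0, and f : X → Y a morphism of finite type
whose fibre over every maximal point of Y has dimension at least r. Then dim X ≥ r + dim Y. -/
theorem result (k : Type u) [Field k] {X Y : Scheme.{u}}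
    (q : Y ⟶ Spec (CommRingCat.of k)) [LocallyOfFiniteType q] [QuasiCompact q]
    (f : X ⟶ Y) [LocallyOfFiniteType f] [QuasiCompact f] (r : ℕ)
    (hfib : ∀ η : Y, (∀ y : Y, y ⤳ η → y = η) → (r : WithBot ℕ∞) ≤ topologicalKrullDim (f.base ⁻¹' {η})) :
    (r : WithBot ℕ∞) + topologicalKrullDim Y ≤ topologicalKrullDim X := by
  let _ : Y.Over (Spec (CommRingCat.of k)) := ⟨q⟩
  let _ : X.Over (Spec (CommRingCat.of k)) := ⟨f ≫ q⟩
  have hlY : LocallyOfFiniteType (Y ↘ Spec (CommRingCat.of k)) := ‹LocallyOfFiniteType q›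
  have hlX : LocallyOfFiniteType (X ↘ Spec (CommRingCat.of k)) :=
    (inferInstance : LocallyOfFiniteType (f ≫ q))
  have hf' : f ≫ (Y ↘ Spec (CommRingCat.of k)) = X ↘ Spec (CommRingCat.of k) := rfl
  have : IsLocallyNoetherian Y := LocallyOfFiniteType.isLocallyNoetherian q
  -- the key inequality at maximal points
  have key : ∀ η : Y, (∀ y : Y, y ⤳ η → y = η) →
      (r : WithBot ℕ∞) + topologicalKrullDim ↥(closure ({η} : Set Y)) ≤ topologicalKrullDim X := by
    intro η hη
    have h1 := hfib η hη
    rw [← (f.fiberHomeo η).isHomeomorph.topologicalKrullDim_eq] at h1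
    obtain ⟨c, hc, hcr⟩ := (Groth.Agent.Lib.Helper21.Img.le_topologicalKrullDim_fiber_iff' f η r).mp h1
    obtain ⟨N, hN, ⟨ζ, -, hζf, hζt⟩, -⟩ :=
      Groth.Agent.Lib.Helper21.FibDim.exists_fibreDimAt_eq_trdeg f c
    rw [hN] at hcr
    have hrN : r ≤ N := by exact_mod_cast hcr
    have hζη : f ζ = η := hζf.trans hc
    obtain ⟨b, hb⟩ := Groth.Agent.Lib.Helper21.FibDim.exists_nat_trdeg k Y (f ζ)
    have hbc := Groth.Agent.Lib.Helper21.FibDim.trdeg_add_of_comp k X Y f hf' ζ b N hb hζt
    have hdX := Groth.Agent.Lib.Helper21.FibDim.topologicalKrullDim_closure_singleton k X ζ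
      (b + N) hbc
    have hdY := Groth.Agent.Lib.Helper21.FibDim.topologicalKrullDim_closure_singleton k Y (f ζ)
      b hb
    rw [hζη] at hdY
    rw [hdY]
    have h2 : topologicalKrullDim ↥(closure ({ζ} : Set X)) ≤ topologicalKrullDim X :=
      (Topology.IsEmbedding.subtypeVal).isInducing.topologicalKrullDim_le
    rw [hdX] at h2
    refine le_trans ?_ h2
    have : r + b ≤ b + N := by omega
    exact_mod_cast this
  by_cases hYe : IsEmpty Y
  · rw [Groth.Agent.Lib.Helper21.Img.topologicalKrullDim_eq_bot_of_isEmpty (T := Y), WithBot.add_bot]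
    exact bot_le
  · rw [not_isEmpty_iff] at hYe
    obtain ⟨y₀⟩ := hYe
    obtain ⟨η₀, hη₀, -⟩ := Groth.Agent.Lib.Helper21.DimFun.exists_maximal_specializes y₀
    have h0 := key η₀ hη₀
    induction hD : topologicalKrullDim X using WithBot.recBotCoe with
    | bot =>
      exfalso
      rw [hD] at h0
      obtain ⟨b, hb⟩ := Groth.Agent.Lib.Helper21.FibDim.exists_nat_trdeg k Y η₀
      rw [Groth.Agent.Lib.Helper21.FibDim.topologicalKrullDim_closure_singleton k Y η₀ b hb] at h0
      have : ((r + b : ℕ) : WithBot ℕ∞) ≤ ⊥ := by push_cast; exact h0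
      exact absurd (le_bot_iff.mp this) (WithBot.coe_ne_bot)
    | coe D =>
      induction D using ENat.recTopCoe with
      | top => exact le_top
      | coe N =>
        have hbound : ∀ η : Y, (∀ y : Y, y ⤳ η → y = η) →
            topologicalKrullDim ↥(closure ({η} : Set Y)) ≤ ((N - r : ℕ) : WithBot ℕ∞) := by
          intro η hη
          have h1 := key η hη
          rw [hD] at h1
          obtain ⟨b, hb⟩ := Groth.Agent.Lib.Helper21.FibDim.exists_nat_trdeg k Y η
          rw [Groth.Agent.Lib.Helper21.FibDim.topologicalKrullDim_closure_singleton k Y η b hb]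
            at h1 ⊢
          have h2 : r + b ≤ N := by exact_mod_cast h1
          have : b ≤ N - r := by omega
          exact_mod_cast this
        have hY : topologicalKrullDim Y ≤ ((N - r : ℕ) : WithBot ℕ∞) := by
          refine Groth.Agent.Lib.Helper21.Img.topologicalKrullDim_le_of_forall_closure' _ ?_
          intro y
          obtain ⟨η, hη, hηy⟩ := Groth.Agent.Lib.Helper21.DimFun.exists_maximal_specializes y
          refine le_trans ?_ (hbound η hη)
          exact Groth.Agent.Lib.Helper21.Img.topologicalKrullDim_mono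
            (specializes_iff_closure_subset.mp hηy)
        have hrN : r ≤ N := by
          rw [hD] at h0
          obtain ⟨b, hb⟩ := Groth.Agent.Lib.Helper21.FibDim.exists_nat_trdeg k Y η₀
          rw [Groth.Agent.Lib.Helper21.FibDim.topologicalKrullDim_closure_singleton k Y η₀ b hb]
            at h0
          have h2 : r + b ≤ N := by exact_mod_cast h0
          omega
        calc (r : WithBot ℕ∞) + topologicalKrullDim Y
            ≤ (r : WithBot ℕ∞) + ((N - r : ℕ) : WithBot ℕ∞) := add_le_add le_rfl hY
          _ = ((r + (N - r) : ℕ) : WithBot ℕ∞) := by push_cast; rfl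
          _ = ((N : ℕ) : WithBot ℕ∞) := by rw [Nat.add_sub_cancel' hrN]
          _ = _ := rfl

end Groth.Agent.S10885
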