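import Groth.Statements.S10886
import Mathlib.Topology.NoetherianSpace
import Mathlib.Topology.Sober
-- import your own Groth.Agent.* helpers here

set_option autoImplicit false
universe u
open CategoryTheory AlgebraicGeometry
open Curves

namespace Groth.Agent.S10886

section helpers
open TopologicalSpace

/-- in a T0 quasi-sober irreducible space of dimension one, a proper irreducible closed set is a point -/
theorem singleton_of_irreducible_closed {X : Type u} [TopologicalSpace X] [QuasiSober X] [T0Space X]
    [IrreducibleSpace X] (hX : topologicalKrullDim X = 1) (W : Set X) (hW : IsIrreducible W)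
    (hWc : IsClosed W) (hne : W ≠ Set.univ) : ∃ w, W = {w} := by
  obtain ⟨w, hw⟩ := QuasiSober.sober hW hWc
  refine ⟨w, ?_⟩
  have hwW : w ∈ W := hw.mem
  refine Set.eq_singleton_iff_unique_mem.mpr ⟨hwW, ?_⟩
  intro y hy
  by_contra hyw
  have hsub : closure {y} ⊆ W := hWc.closure_subset_iff.mpr (Set.singleton_subset_iff.mpr hy)
  have hne' : closure {y} ≠ W := by
    intro h
    rw [← hw.def] at h
    have : Inseparable y w := (inseparable_iff_closure_eq).mpr h
    exact hyw this.eq
  let c0 : IrreducibleCloseds X := ⟨closure {y}, isIrreducible_singleton.closure, isClosed_closure⟩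
  let c1 : IrreducibleCloseds X := ⟨W, hW, hWc⟩
  let c2 : IrreducibleCloseds X := ⟨Set.univ, IrreducibleSpace.isIrreducible_univ X, isClosed_univ⟩
  have h01 : c0 < c1 := by
    rw [← SetLike.coe_ssubset_coe]
    exact LE.le.ssubset_of_ne hsub hne'
  have h12 : c1 < c2 := by
    rw [← SetLike.coe_ssubset_coe]
    exact LE.le.ssubset_of_ne (Set.subset_univ _) hne
  have h1 := Order.height_add_one_le h01
  have h2 := Order.height_add_one_le h12
  have h3 : (2 : ℕ∞) ≤ Order.height c2 := by
    calc (2 : ℕ∞) = 0 + 1 + 1 := by norm_num
      _ ≤ Order.height c0 + 1 + 1 := by gcongr; exact bot_le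
      _ ≤ Order.height c1 + 1 := by gcongr
      _ ≤ Order.height c2 := h2
  have h4 := Order.height_le_krullDim c2
  rw [show Order.krullDim (IrreducibleCloseds X) = topologicalKrullDim X from rfl, hX] at h4
  have h5 : Order.height c2 ≤ 1 := by exact_mod_cast h4
  have : (2 : ℕ∞) ≤ 1 := h3.trans h5
  norm_num at this

theorem finite_closed_points_of_closed {X : Type u} [TopologicalSpace X] [QuasiSober X] [T0Space X]
    [IrreducibleSpace X] [NoetherianSpace X] (hX : topologicalKrullDim X = 1) (Z : Set X)
    (hZ : IsClosed Z) (hne : Z ≠ Set.univ) : Z.Finite ∧ ∀ x ∈ Z, IsClosed ({x} : Set X) := by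
  obtain ⟨S, hSf, hSc, hSi, rfl⟩ := NoetherianSpace.exists_finite_set_isClosed_irreducible hZ
  have hpt : ∀ t ∈ S, ∃ w, t = {w} := by
    intro t ht
    refine singleton_of_irreducible_closed hX t (hSi t ht) (hSc t ht) ?_
    intro h
    apply hne
    rw [Set.eq_univ_iff_forall]
    intro x
    exact ⟨t, ht, h ▸ Set.mem_univ x⟩
  constructor
  · refine Set.Finite.sUnion hSf ?_
    intro t ht
    obtain ⟨w, rfl⟩ := hpt t ht
    exact Set.finite_singleton w
  · rintro x ⟨t, ht, hxt⟩
    obtain ⟨w, rfl⟩ := hpt t ht
    rw [Set.mem_singleton_iff] at hxt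
    subst hxt
    exact hSc _ ht

end helpers

/-- In an irreducible Noetherian scheme of dimension one every constructible subset is either a finite
set of closed points or the complement of such a set; in particular it is open or closed. -/
theorem result {X : Scheme.{u}} [IsNoetherian X]
    [IrreducibleSpace X] (hX : topologicalKrullDim X = 1) (s : Set X) (hs : Topology.IsConstructible s) :
    (s.Finite ∧ (∀ x ∈ s, IsClosed ({x} : Set X))) ∨ (sᶜ.Finite ∧ ∀ x ∈ sᶜ, IsClosed ({x} : Set X)) := by
  induction hs using Topology.IsConstructible.empty_union_induction with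
  | open_retrocompact U hUopen hUcomp =>
    by_cases hU : U = ∅
    · left
      subst hU
      exact ⟨Set.finite_empty, fun x hx => absurd hx (Set.notMem_empty x)⟩
    · right
      refine finite_closed_points_of_closed hX Uᶜ hUopen.isClosed_compl ?_
      intro h
      apply hU
      rw [← compl_compl U, h, Set.compl_univ]
  | union s hs t ht ihs iht =>
    rcases ihs with ⟨hsf, hsc⟩ | ⟨hsf, hsc⟩
    · rcases iht with ⟨htf, htc⟩ | ⟨htf, htc⟩
      · left
        refine ⟨hsf.union htf, ?_⟩
        rintro x (hx | hx)
        · exact hsc x hx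
        · exact htc x hx
      · right
        have hsub : (s ∪ t)ᶜ ⊆ tᶜ := Set.compl_subset_compl.mpr Set.subset_union_right
        exact ⟨htf.subset hsub, fun x hx => htc x (hsub hx)⟩
    · right
      have hsub : (s ∪ t)ᶜ ⊆ sᶜ := Set.compl_subset_compl.mpr Set.subset_union_left
      exact ⟨hsf.subset hsub, fun x hx => hsc x (hsub hx)⟩
  | compl s hs ih =>
    rcases ih with h | h
    · right
      rw [compl_compl]
      exact h
    · left
      exact h

end Groth.Agent.S10886
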