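import Groth.Statements.S10888
import Groth.Agent.Lib.Helper25.FibreIso

set_option autoImplicit false
universe u
open CategoryTheory AlgebraicGeometry
open FlatMor

namespace Groth.Agent.S10888

/-- Let g : X → S and h : Y → S be proper and of finite presentation with g flat, and f : X → Y a
morphism over S. Then the locus U of points of S over which the fibre morphism X_s → Y_s is an
isomorphism is an open subset of S, and f restricts to an isomorphism over U. -/
theorem result {X Y S : Scheme.{u}} (g : X ⟶ S) (h : Y ⟶ S)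
    [IsProper g] [LocallyOfFinitePresentation g] [Flat g] [IsProper h] [LocallyOfFinitePresentation h]
    (f : X ⟶ Y) (w : f ≫ h = g) :
    ∃ U : S.Opens, (∀ s : S, s ∈ U ↔ ∃ e : g.fiber s ≅ h.fiber s, e.hom ≫ h.fiberι s = g.fiberι s ≫ f) ∧
      IsIso (f ∣_ (h ⁻¹ᵁ U)) := by
  have hpp : IsProper f := by
    have : IsProper (f ≫ h) := by rw [w]; infer_instance
    exact IsProper.of_comp f h
  have c1 : g ≫ 𝟙 S = f ≫ h := (Category.comp_id g).trans w.symm
  have c2 : ∀ {T : Scheme.{u}} (t : T ⟶ S), t ≫ 𝟙 S = 𝟙 T ≫ t := fun t =>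
    (Category.comp_id _).trans (Category.id_comp _).symm
  -- Step C
  have stepC : ∀ (U' : S.Opens), IsIso (f ∣_ (h ⁻¹ᵁ U')) → ∀ s ∈ U',
      ∃ e : g.fiber s ≅ h.fiber s, e.hom ≫ h.fiberι s = g.fiberι s ≫ f := by
    intro U' hU' s hs
    have hiso : IsIso (Limits.pullback.map g (S.fromSpecResidueField s) h (S.fromSpecResidueField s)
        f (𝟙 _) (𝟙 _) c1 (c2 _)) := by
      refine Groth.Agent.Lib.Helper25.FibreIso.of_restrict_of_isPullback
        (MorphismProperty.isomorphisms Scheme) (h ⁻¹ᵁ U') hU'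
        (Groth.Agent.Lib.Helper25.FibreIso.isPullback_map_fst g h f w
          (S.fromSpecResidueField s) c1 (c2 _)) ?_
      rintro _ ⟨z, rfl⟩
      change h (Limits.pullback.fst h (S.fromSpecResidueField s) z) ∈ U'
      rw [← Scheme.Hom.comp_apply, Limits.pullback.condition, Scheme.Hom.comp_apply]
      have : S.fromSpecResidueField s (Limits.pullback.snd h (S.fromSpecResidueField s) z) ∈
          Set.range (S.fromSpecResidueField s) := ⟨_, rfl⟩
      rw [Scheme.range_fromSpecResidueField] at this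
      rw [this]
      exact hs
    exact ⟨@asIso _ _ _ _ (Limits.pullback.map g (S.fromSpecResidueField s) h
        (S.fromSpecResidueField s) f (𝟙 _) (𝟙 _) c1 (c2 _)) hiso, Limits.pullback.lift_fst _ _ _⟩
  -- Step A + B
  have stepAB : ∀ s : S, (∃ e : g.fiber s ≅ h.fiber s, e.hom ≫ h.fiberι s = g.fiberι s ≫ f) →
      ∃ U' : S.Opens, s ∈ U' ∧ IsIso (f ∣_ (h ⁻¹ᵁ U')) := by
    rintro s ⟨e, he⟩
    let E : Limits.pullback g (S.fromSpecResidueField s) ⟶
        Limits.pullback h (S.fromSpecResidueField s) := e.hom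
    have hE : E ≫ Limits.pullback.fst h (S.fromSpecResidueField s) =
        Limits.pullback.fst g (S.fromSpecResidueField s) ≫ f := he
    have hEiso : IsIso E := inferInstanceAs (IsIso e.hom)
    have hmap1 : Limits.pullback.map g (S.fromSpecResidueField s) h (S.fromSpecResidueField s)
        f (𝟙 _) (𝟙 _) c1 (c2 _) ≫ Limits.pullback.fst h (S.fromSpecResidueField s) =
        Limits.pullback.fst g (S.fromSpecResidueField s) ≫ f := Limits.pullback.lift_fst _ _ _
    have hmap2 : Limits.pullback.map g (S.fromSpecResidueField s) h (S.fromSpecResidueField s)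
        f (𝟙 _) (𝟙 _) c1 (c2 _) ≫ Limits.pullback.snd h (S.fromSpecResidueField s) =
        Limits.pullback.snd g (S.fromSpecResidueField s) :=
      (Limits.pullback.lift_snd _ _ _).trans (Category.comp_id _)
    have heq : E = Limits.pullback.map g (S.fromSpecResidueField s) h (S.fromSpecResidueField s)
        f (𝟙 _) (𝟙 _) c1 (c2 _) := by
      apply Limits.pullback.hom_ext
      · exact hE.trans hmap1.symm
      · rw [← cancel_mono (S.fromSpecResidueField s), hmap2, Category.assoc,
          ← Limits.pullback.condition, ← Category.assoc, hE, Category.assoc, w,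
          Limits.pullback.condition]
    have hs : IsIso (Limits.pullback.map g (S.fromSpecResidueField s) h (S.fromSpecResidueField s)
        f (𝟙 _) (𝟙 _) c1 (c2 _)) := heq ▸ hEiso
    have hlift := Groth.Agent.Lib.Helper25.FibreIso.liftsOverFibre_of_isIso g h f w s _ _ hs
    have hfib : ∀ y : Y, h y = s → IsIso (f.fiberToSpecResidueField y) := by
      intro y hy
      subst hy
      exact Groth.Agent.Lib.Helper25.FibreIso.isIso_fiberToSpecResidueField_of_isIso g h f w y _ _ hs
    exact Groth.Agent.Lib.Helper25.FibreIso.exists_isIso_restrict_preimage g h f w h.isClosedMap s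
      hlift hfib
  let U : S.Opens := ⨆ U' : {U' : S.Opens // IsIso (f ∣_ (h ⁻¹ᵁ U'))}, U'.1
  refine ⟨U, fun s => ⟨fun hs => ?_, fun hs => ?_⟩, ?_⟩
  · obtain ⟨U', hsU'⟩ := TopologicalSpace.Opens.mem_iSup.mp hs
    exact stepC U'.1 U'.2 s hsU'
  · obtain ⟨U', hsU', hU'⟩ := stepAB s hs
    exact TopologicalSpace.Opens.mem_iSup.mpr ⟨⟨U', hU'⟩, hsU'⟩
  · apply IsZariskiLocalAtTarget.of_forall_exists_morphismRestrict
      (P := MorphismProperty.isomorphisms Scheme)
    intro y
    obtain ⟨U', hyU'⟩ := TopologicalSpace.Opens.mem_iSup.mp (show h y.1 ∈ U from y.2)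
    refine ⟨(h ⁻¹ᵁ U).ι ⁻¹ᵁ (h ⁻¹ᵁ U'.1), hyU', ?_⟩
    have e : (h ⁻¹ᵁ U).ι ''ᵁ ((h ⁻¹ᵁ U).ι ⁻¹ᵁ (h ⁻¹ᵁ U'.1)) = h ⁻¹ᵁ U'.1 := by
      rw [Scheme.Hom.image_preimage_eq_opensRange_inf, Scheme.Opens.opensRange_ι]
      refine inf_eq_right.mpr ?_
      intro z hz
      exact TopologicalSpace.Opens.mem_iSup.mpr ⟨U', hz⟩
    rw [MorphismProperty.arrow_mk_iso_iff (P := MorphismProperty.isomorphisms Scheme)
        (morphismRestrictRestrict _ _ _),
      MorphismProperty.arrow_mk_iso_iff (P := MorphismProperty.isomorphisms Scheme)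
        (morphismRestrictEq _ e)]
    exact U'.2


end Groth.Agent.S10888
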