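import Groth.Statements.S10890
import Mathlib
import Groth.Agent.Lib.Helper2.CauchyBinet

set_option autoImplicit false
universe u
open CAlgX

namespace Groth.Agent.S10890
section Aux

lemma schur {R : Type u} [CommRing R] {n m r : ℕ} (A : Matrix (Fin n) (Fin m) R)
    (s : Fin r → Fin n) (t : Fin r → Fin m) (hB : IsUnit (A.submatrix s t).det)
    (hminor : ∀ (f : Fin (r + 1) → Fin n) (g : Fin (r + 1) → Fin m), (A.submatrix f g).det = 0) :
    A = A.submatrix id t * (A.submatrix s t)⁻¹ * A.submatrix s id := by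
  classical
  ext i j
  let e : Fin (r + 1) ≃ Fin 1 ⊕ Fin r := (finCongr (Nat.add_comm r 1)).trans finSumFinEquiv.symm
  have h0 := hminor (Sum.elim (fun _ => i) s ∘ e) (Sum.elim (fun _ => j) t ∘ e)
  have hblk : A.submatrix (Sum.elim (fun _ : Fin 1 => i) s) (Sum.elim (fun _ : Fin 1 => j) t) =
      Matrix.fromBlocks (A.submatrix (fun _ : Fin 1 => i) (fun _ : Fin 1 => j))
        (A.submatrix (fun _ : Fin 1 => i) t) (A.submatrix s (fun _ : Fin 1 => j)) (A.submatrix s t) := by
    ext (x | x) (y | y) <;> rfl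
  have h1 : A.submatrix (Sum.elim (fun _ => i) s ∘ e) (Sum.elim (fun _ => j) t ∘ e) =
      (A.submatrix (Sum.elim (fun _ : Fin 1 => i) s) (Sum.elim (fun _ : Fin 1 => j) t)).submatrix e e := by
    rfl
  rw [h1, Matrix.det_submatrix_equiv_self, hblk] at h0
  letI := Matrix.invertibleOfIsUnitDet (A.submatrix s t) hB
  rw [Matrix.det_fromBlocks₂₂] at h0
  have h2 := (hB.mul_right_eq_zero).mp h0
  rw [Matrix.det_unique, Matrix.sub_apply, sub_eq_zero, Matrix.invOf_eq_nonsing_inv] at h2
  rw [show A i j = (A.submatrix (fun _ : Fin 1 => i) (fun _ : Fin 1 => j)) default default from rfl, h2]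
  simp [Matrix.mul_apply]


lemma dir2 (R : Type u) [CommRing R] [IsLocalRing R] (n m r : ℕ) (A : Matrix (Fin n) (Fin m) R)
    (h1 : CAlgX.minorIdeal A (r + 1) = ⊥) (h2 : CAlgX.minorIdeal A r = ⊤) :
    ∃ N' : Submodule R (Fin n → R), IsCompl (LinearMap.range (Matrix.mulVecLin A)) N' ∧
        Module.finrank R (LinearMap.range (Matrix.mulVecLin A)) = r := by
  classical
  obtain ⟨s, t, hB⟩ : ∃ (s : Fin r → Fin n) (t : Fin r → Fin m), IsUnit (A.submatrix s t).det := by
    by_contra hcon
    push_neg at hcon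
    have : CAlgX.minorIdeal A r ≤ IsLocalRing.maximalIdeal R := by
      unfold CAlgX.minorIdeal
      rw [Ideal.span_le]
      rintro _ ⟨⟨f, g⟩, rfl⟩
      exact (IsLocalRing.mem_maximalIdeal _).mpr (hcon f g)
    rw [h2] at this
    exact (IsLocalRing.maximalIdeal.isMaximal R).ne_top (top_le_iff.mp this)
  have hminor : ∀ (f : Fin (r + 1) → Fin n) (g : Fin (r + 1) → Fin m), (A.submatrix f g).det = 0 := by
    intro f g
    have : (A.submatrix f g).det ∈ CAlgX.minorIdeal A (r + 1) := Ideal.subset_span ⟨(f, g), rfl⟩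
    rw [h1] at this
    exact this
  have hA := schur A s t hB hminor
  have hBB : (A.submatrix s t) * (A.submatrix s t)⁻¹ = 1 := Matrix.mul_nonsing_inv _ hB
  have hBB' : (A.submatrix s t)⁻¹ * (A.submatrix s t) = 1 := Matrix.nonsing_inv_mul _ hB
  have hpi : ∀ x : Fin r → R, ((A.submatrix id t).mulVec x) ∘ s = (A.submatrix s t).mulVec x := by
    intro x
    funext k
    simp [Matrix.mulVec, dotProduct]
  have hrange : LinearMap.range (Matrix.mulVecLin A) = LinearMap.range (Matrix.mulVecLin (A.submatrix id t)) := by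
    apply le_antisymm
    · rintro _ ⟨y, rfl⟩
      refine ⟨((A.submatrix s t)⁻¹ * A.submatrix s id).mulVec y, ?_⟩
      simp only [Matrix.mulVecLin_apply]
      rw [Matrix.mulVec_mulVec, ← Matrix.mul_assoc, ← hA]
    · rintro _ ⟨x, rfl⟩
      refine ⟨(Matrix.of fun (j : Fin m) (k : Fin r) => if t k = j then (1 : R) else 0).mulVec x, ?_⟩
      simp only [Matrix.mulVecLin_apply]
      rw [Matrix.mulVec_mulVec]
      congr 1
      ext i k
      simp [Matrix.mul_apply]
  have hinj : Function.Injective (Matrix.mulVecLin (A.submatrix id t)) := by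
    intro x y hxy
    simp only [Matrix.mulVecLin_apply] at hxy
    have := congrArg (fun v => v ∘ s) hxy
    simp only [hpi] at this
    have h3 := congrArg (fun v => (A.submatrix s t)⁻¹.mulVec v) this
    simpa [Matrix.mulVec_mulVec, hBB'] using h3
  refine ⟨LinearMap.ker (LinearMap.funLeft R R s), ?_, ?_⟩
  · rw [hrange]
    constructor
    · rw [Submodule.disjoint_def]
      rintro _ ⟨u, rfl⟩ hker
      rw [LinearMap.mem_ker] at hker
      have h3 : (A.submatrix s t).mulVec u = 0 := by
        rw [← hpi]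
        exact hker
      have h4 := congrArg (fun v => (A.submatrix s t)⁻¹.mulVec v) h3
      simp only [Matrix.mulVec_mulVec, hBB', Matrix.one_mulVec, Matrix.mulVec_zero] at h4
      rw [h4, map_zero]
    · rw [Submodule.codisjoint_iff_exists_add_eq]
      intro v
      refine ⟨(A.submatrix id t).mulVec ((A.submatrix s t)⁻¹.mulVec (v ∘ s)),
        v - (A.submatrix id t).mulVec ((A.submatrix s t)⁻¹.mulVec (v ∘ s)), ⟨_, rfl⟩, ?_, by abel⟩
      rw [LinearMap.mem_ker, map_sub]
      show v ∘ s - ((A.submatrix id t).mulVec ((A.submatrix s t)⁻¹.mulVec (v ∘ s))) ∘ s = 0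
      rw [hpi, Matrix.mulVec_mulVec, hBB, Matrix.one_mulVec, sub_self]
  · rw [hrange]
    have e := LinearEquiv.ofInjective (Matrix.mulVecLin (A.submatrix id t)) hinj
    rw [← e.finrank_eq, Module.finrank_fin_fun]

open Groth.Agent.Lib.Helper2.CauchyBinet in
lemma dir1 (R : Type u) [CommRing R] [IsLocalRing R] (n m r : ℕ) (A : Matrix (Fin n) (Fin m) R)
    (N' : Submodule R (Fin n → R)) (hc : IsCompl (LinearMap.range (Matrix.mulVecLin A)) N')
    (hrk : Module.finrank R (LinearMap.range (Matrix.mulVecLin A)) = r) :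
    CAlgX.minorIdeal A (r + 1) = ⊥ ∧ CAlgX.minorIdeal A r = ⊤ := by
  classical
  have hproj : Module.Projective R (LinearMap.range (Matrix.mulVecLin A)) :=
    Module.Projective.of_split (LinearMap.range (Matrix.mulVecLin A)).subtype
      (Submodule.projectionOnto _ N' hc)
      (LinearMap.ext fun x => by
        simp only [LinearMap.comp_apply, Submodule.subtype_apply, LinearMap.id_apply]
        exact Submodule.projectionOnto_apply_left hc x)
  haveI : Module.Free R (LinearMap.range (Matrix.mulVecLin A)) := Module.free_of_flat_of_isLocalRing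
  let b : Module.Basis (Fin r) R (LinearMap.range (Matrix.mulVecLin A)) := Module.finBasisOfFinrankEq R _ hrk
  let iP : (Fin r → R) →ₗ[R] (Fin n → R) :=
    (LinearMap.range (Matrix.mulVecLin A)).subtype ∘ₗ b.equivFun.symm.toLinearMap
  let rho : (Fin n → R) →ₗ[R] (Fin r → R) :=
    b.equivFun.toLinearMap ∘ₗ Submodule.projectionOnto _ N' hc
  let cm : (Fin m → R) →ₗ[R] (Fin r → R) :=
    b.equivFun.toLinearMap ∘ₗ (Matrix.mulVecLin A).rangeRestrict
  have h_rho_iP : rho ∘ₗ iP = LinearMap.id := by
    refine LinearMap.ext fun x => ?_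
    simp only [rho, iP, LinearMap.comp_apply, Submodule.subtype_apply, LinearMap.id_apply,
      LinearEquiv.coe_coe]
    rw [Submodule.projectionOnto_apply_left hc, LinearEquiv.apply_symm_apply]
  have h_iP_cm : iP ∘ₗ cm = Matrix.mulVecLin A := by
    refine LinearMap.ext fun x => ?_
    simp only [iP, cm, LinearMap.comp_apply, Submodule.subtype_apply, LinearEquiv.coe_coe,
      LinearEquiv.symm_apply_apply]
    rfl
  have hcm_surj : LinearMap.range cm = ⊤ := by
    rw [LinearMap.range_eq_top]
    exact b.equivFun.surjective.comp (LinearMap.surjective_rangeRestrict _)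
  obtain ⟨sg, hsg⟩ := LinearMap.exists_rightInverse_of_surjective cm hcm_surj
  set Bm := LinearMap.toMatrix' iP with hBm
  set Bl := LinearMap.toMatrix' rho with hBl
  set Cm := LinearMap.toMatrix' cm with hCm
  set Cr := LinearMap.toMatrix' sg with hCr
  have hA : A = Bm * Cm := by
    rw [hBm, hCm, ← LinearMap.toMatrix'_comp, h_iP_cm]
    exact (LinearMap.toMatrix'_toLin' A).symm
  have hBlBm : Bl * Bm = 1 := by
    rw [hBl, hBm, ← LinearMap.toMatrix'_comp, h_rho_iP, LinearMap.toMatrix'_id]
  have hCmCr : Cm * Cr = 1 := by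
    rw [hCm, hCr, ← LinearMap.toMatrix'_comp, hsg, LinearMap.toMatrix'_id]
  constructor
  · -- (r+1)-minors vanish
    unfold CAlgX.minorIdeal
    rw [Ideal.span_eq_bot]
    rintro _ ⟨⟨f, g⟩, rfl⟩
    simp only
    have : A.submatrix f g = Bm.submatrix f id * Cm.submatrix id g := by
      rw [hA]
      exact Matrix.submatrix_mul Bm Cm f id g Function.bijective_id
    rw [this, cauchyBinet]
    apply Finset.sum_eq_zero
    rintro ⟨S, hS⟩ -
    exfalso
    have := Finset.card_le_univ S
    rw [hS, Fintype.card_fin] at this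
    omega
  · -- r-minors generate the unit ideal
    rw [Ideal.eq_top_iff_one]
    have h1 : (Bl * (A * Cr)).det = 1 := by
      rw [hA, Matrix.mul_assoc Bm Cm Cr, hCmCr, Matrix.mul_one, hBlBm, Matrix.det_one]
    rw [← h1, cauchyBinet]
    refine Ideal.sum_mem _ (fun S _ => Ideal.mul_mem_left _ _ ?_)
    have h2 : (A * Cr).submatrix (S.1.orderEmbOfFin S.2) id =
        (A.submatrix (S.1.orderEmbOfFin S.2) id) * Cr := by
      have := Matrix.submatrix_mul A Cr (S.1.orderEmbOfFin S.2) id id Function.bijective_id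
      rw [this, Matrix.submatrix_id_id]
    rw [h2, cauchyBinet]
    refine Ideal.sum_mem _ (fun T _ => Ideal.mul_mem_right _ _ ?_)
    exact Ideal.subset_span ⟨(fun i => S.1.orderEmbOfFin S.2 i, fun i => T.1.orderEmbOfFin T.2 i), rfl⟩
end Aux


/-- (i) ⇔ (ii): let R be a local ring, A an n × m matrix over R regarded as a linear map R^m → R^n, and
1 ≤ r ≤ n. Then the image of A is a direct summand of R^n of rank r if and only if every (r+1) ×
(r+1) minor of A is zero and the r × r minors of A generate the unit ideal. (The printed statement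
is over an arbitrary ring with 'direct summand of rank r'; its proof localises at once, and this row
states the local case, where a direct summand of R^n is free and its rank is its finrank.) -/
theorem result (R : Type u) [CommRing R] [IsLocalRing R] (n m r : ℕ)
    (hr : 1 ≤ r) (hrn : r ≤ n) (A : Matrix (Fin n) (Fin m) R) :
    (∃ N' : Submodule R (Fin n → R), IsCompl (LinearMap.range (Matrix.mulVecLin A)) N' ∧
        Module.finrank R (LinearMap.range (Matrix.mulVecLin A)) = r) ↔
      (CAlgX.minorIdeal A (r + 1) = ⊥ ∧ CAlgX.minorIdeal A r = ⊤) := by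
  classical
  constructor
  · rintro ⟨N', hc, hrk⟩
    exact dir1 R n m r A N' hc hrk
  · rintro ⟨h1, h2⟩
    exact dir2 R n m r A h1 h2

end Groth.Agent.S10890
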