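import Groth.Statements.S10891
-- import your own Groth.Agent.* helpers here

set_option autoImplicit false
universe u
open CAlg

namespace Groth.Agent.S10891

section helpers
open MvPolynomial

variable {k : Type u} [Field k]

/-- the twisting automorphism -/
noncomputable def sig (ζ : k) (a : ℕ) : MvPolynomial (Fin 2) k →ₐ[k] MvPolynomial (Fin 2) k :=
  MvPolynomial.aeval (fun i : Fin 2 => if i = 0 then MvPolynomial.C ζ⁻¹ * MvPolynomial.X 0
        else MvPolynomial.C (ζ⁻¹ ^ a) * (MvPolynomial.X 1 : MvPolynomial (Fin 2) k))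

theorem sig_monomial (ζ : k) (a : ℕ) (m : Fin 2 →₀ ℕ) (c : k) :
    sig ζ a (monomial m c) = monomial m (c * ζ⁻¹ ^ (m 0 + a * m 1)) := by
  rw [sig, aeval_monomial, Finsupp.prod_fintype _ _ (fun i => by simp), Fin.prod_univ_two]
  simp only [if_true, Fin.isValue, one_ne_zero, if_false]
  rw [mul_pow, mul_pow, ← C_pow, ← C_pow, ← pow_mul]
  have : monomial m (c * ζ⁻¹ ^ (m 0 + a * m 1)) =
      C (c * ζ⁻¹ ^ (m 0 + a * m 1)) * (X 0 ^ m 0 * X 1 ^ m 1) := by
    rw [monomial_eq, Finsupp.prod_fintype _ _ (fun i => by simp), Fin.prod_univ_two]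
  rw [this, pow_add, algebraMap_eq, C_mul, C_mul]
  ring

theorem coeff_sig (ζ : k) (a : ℕ) (p : MvPolynomial (Fin 2) k) (m : Fin 2 →₀ ℕ) :
    coeff m (sig ζ a p) = coeff m p * ζ⁻¹ ^ (m 0 + a * m 1) := by
  induction p using MvPolynomial.induction_on' with
  | monomial m' c =>
    rw [sig_monomial, coeff_monomial, coeff_monomial]
    split_ifs with h
    · subst h; rfl
    · simp
  | add p q hp hq =>
    rw [map_add, coeff_add, coeff_add, hp, hq, add_mul]

end helpers

/-- Let k be a field containing a primitive r-th root of unity ζ and 0 < a < r. The cyclic group of r-th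
roots of unity acts on k[X, Y] through the generator X ↦ ζ⁻¹ X, Y ↦ ζ^(−a) Y, and the ring of
invariants of this action is generated as a k-algebra by the monomials X^i Y^j with 0 ≤ i, j ≤ r,
(i, j) ≠ (r, r) and i + a·j ≡ 0 (mod r). (The printed statement writes n for the order of the group,
which the surrounding section calls r.) -/
theorem result (k : Type u) [Field k] (r a : ℕ) (ha : 0 < a) (har : a < r)
    (ζ : k) (hζ : IsPrimitiveRoot ζ r) (p : MvPolynomial (Fin 2) k) :
    MvPolynomial.aeval (fun i : Fin 2 => if i = 0 then MvPolynomial.C ζ⁻¹ * MvPolynomial.X 0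
        else MvPolynomial.C (ζ⁻¹ ^ a) * (MvPolynomial.X 1 : MvPolynomial (Fin 2) k)) p = p ↔
      p ∈ Algebra.adjoin k {q : MvPolynomial (Fin 2) k | ∃ i j : ℕ, i ≤ r ∧ j ≤ r ∧ ¬ (i = r ∧ j = r) ∧
        r ∣ i + a * j ∧ q = MvPolynomial.X 0 ^ i * MvPolynomial.X 1 ^ j} := by
  classical
  have hr : 0 < r := lt_of_le_of_lt (Nat.zero_le a) har
  have hζ' : IsPrimitiveRoot ζ⁻¹ r := hζ.inv
  change sig ζ a p = p ↔ _
  set G : Set (MvPolynomial (Fin 2) k) := {q : MvPolynomial (Fin 2) k | ∃ i j : ℕ, i ≤ r ∧ j ≤ r ∧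
    ¬ (i = r ∧ j = r) ∧ r ∣ i + a * j ∧ q = MvPolynomial.X 0 ^ i * MvPolynomial.X 1 ^ j} with hG
  have hXY : ∀ i j : ℕ, (MvPolynomial.X 0 ^ i * MvPolynomial.X 1 ^ j : MvPolynomial (Fin 2) k) =
      MvPolynomial.monomial (Finsupp.single 0 i + Finsupp.single 1 j) 1 := by
    intro i j
    rw [MvPolynomial.X_pow_eq_monomial, MvPolynomial.X_pow_eq_monomial, MvPolynomial.monomial_mul,
      one_mul]
  constructor
  · intro hfix
    have hsupp : ∀ m ∈ p.support, r ∣ m 0 + a * m 1 := by
      intro m hm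
      have h1 := coeff_sig ζ a p m
      rw [hfix] at h1
      have h2 : MvPolynomial.coeff m p ≠ 0 := MvPolynomial.mem_support_iff.mp hm
      have h3 : ζ⁻¹ ^ (m 0 + a * m 1) = 1 := by
        have : MvPolynomial.coeff m p * 1 = MvPolynomial.coeff m p * ζ⁻¹ ^ (m 0 + a * m 1) := by
          rw [mul_one]; exact h1
        exact (mul_left_cancel₀ h2 this).symm
      exact (hζ'.pow_eq_one_iff_dvd _).mp h3
    rw [MvPolynomial.as_sum p]
    refine Subalgebra.sum_mem _ (fun m hm => ?_)
    have hd := hsupp m hm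
    have hmon : MvPolynomial.monomial m (MvPolynomial.coeff m p) =
        MvPolynomial.C (MvPolynomial.coeff m p) * ((MvPolynomial.X 0 ^ r) ^ (m 0 / r) *
          (MvPolynomial.X 1 ^ r) ^ (m 1 / r) *
          (MvPolynomial.X 0 ^ (m 0 % r) * MvPolynomial.X 1 ^ (m 1 % r))) := by
      rw [MvPolynomial.monomial_eq, Finsupp.prod_fintype _ _ (fun i => by simp), Fin.prod_univ_two]
      congr 1
      have e0 : m 0 = r * (m 0 / r) + m 0 % r := (Nat.div_add_mod _ _).symm
      have e1 : m 1 = r * (m 1 / r) + m 1 % r := (Nat.div_add_mod _ _).symm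
      conv_lhs => rw [e0, e1]
      rw [pow_add, pow_add, pow_mul, pow_mul]
      ring
    rw [hmon]
    refine Subalgebra.mul_mem _ (Subalgebra.algebraMap_mem _ _) ?_
    refine Subalgebra.mul_mem _ (Subalgebra.mul_mem _ (Subalgebra.pow_mem _ ?_ _)
      (Subalgebra.pow_mem _ ?_ _)) ?_
    · apply Algebra.subset_adjoin
      refine ⟨r, 0, le_rfl, Nat.zero_le _, ?_, ?_, by rw [pow_zero, mul_one]⟩
      · rintro ⟨-, h⟩; omega
      · simp
    · apply Algebra.subset_adjoin
      refine ⟨0, r, Nat.zero_le _, le_rfl, ?_, ?_, by rw [pow_zero, one_mul]⟩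
      · rintro ⟨h, -⟩; omega
      · simp
    · apply Algebra.subset_adjoin
      have h0 : m 0 % r < r := Nat.mod_lt _ hr
      have h1 : m 1 % r < r := Nat.mod_lt _ hr
      refine ⟨m 0 % r, m 1 % r, h0.le, h1.le, ?_, ?_, rfl⟩
      · rintro ⟨h, -⟩; omega
      · have e0 : m 0 = r * (m 0 / r) + m 0 % r := (Nat.div_add_mod _ _).symm
        have e1 : m 1 = r * (m 1 / r) + m 1 % r := (Nat.div_add_mod _ _).symm
        have : m 0 + a * m 1 = r * (m 0 / r + a * (m 1 / r)) + (m 0 % r + a * (m 1 % r)) := by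
          conv_lhs => rw [e0, e1]
          ring
        rw [this] at hd
        exact (Nat.dvd_add_right (Dvd.intro _ rfl)).mp hd
  · intro hmem
    have hle : Algebra.adjoin k G ≤ AlgHom.equalizer (sig ζ a) (AlgHom.id k _) := by
      apply Algebra.adjoin_le
      rintro q ⟨i, j, -, -, -, hd, rfl⟩
      change sig ζ a _ = _
      rw [hXY, sig_monomial]
      have : ζ⁻¹ ^ ((Finsupp.single (0 : Fin 2) i + Finsupp.single (1 : Fin 2) j) 0 +
          a * (Finsupp.single (0 : Fin 2) i + Finsupp.single (1 : Fin 2) j) 1) = 1 := by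
        rw [hζ'.pow_eq_one_iff_dvd]
        simpa using hd
      rw [this, mul_one]
      rfl
    exact hle hmem

end Groth.Agent.S10891
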