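import Groth.Statements.S10895
import Mathlib
import Mathlib

set_option autoImplicit false
universe u
open CategoryTheory AlgebraicGeometry
open FlatMor

namespace Groth.Agent.S10895



section helpers

open TopologicalSpace Opposite

variable {X Y : Scheme.{u}}

theorem stalkMap_injective_of_flat (f : X ⟶ Y) (x : X) (hflat : (f.stalkMap x).hom.Flat) :
    Function.Injective (f.stalkMap x) := by
  algebraize [(f.stalkMap x).hom]
  have : Module.FaithfullyFlat (Y.presheaf.stalk (f x)) (X.presheaf.stalk x) :=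
    @Module.FaithfullyFlat.of_flat_of_isLocalHom _ _ _ _ _ _ _ hflat (f.toLRSHom.prop x)
  exact ‹RingHom.FaithfullyFlat _›.injective

theorem mem_basicOpen_pow' {U : Y.Opens} (s : Γ(Y, U)) (n : ℕ) (y : Y) (hy : y ∈ U)
    (hys : y ∈ Y.basicOpen s) : y ∈ Y.basicOpen (s ^ n) := by
  rcases Nat.eq_zero_or_pos n with rfl | hn
  · rw [pow_zero, Scheme.basicOpen_of_isUnit _ isUnit_one]; exact hy
  · rw [Y.basicOpen_pow s hn]; exact hys

theorem exists_mul_eq_zero_of_germ_eq_zero {V : Y.Opens} (hV : IsAffineOpen V) (y : Y)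
    (hy : y ∈ V) (a : Γ(Y, V)) (h : Y.presheaf.germ V y hy a = 0) :
    ∃ s : Γ(Y, V), y ∈ Y.basicOpen s ∧ s * a = 0 := by
  have h' : Y.presheaf.germ V y hy a = Y.presheaf.germ V y hy 0 := by rw [h, map_zero]
  obtain ⟨W, hyW, iU, iV, e⟩ := Y.presheaf.germ_eq y hy hy _ _ h'
  obtain ⟨r, hrW, hyr⟩ := hV.exists_basicOpen_le ⟨y, hyW⟩ hy
  have h3 : Y.presheaf.map (homOfLE (Y.basicOpen_le r)).op a = 0 := by
    have : Y.presheaf.map (homOfLE (Y.basicOpen_le r)).op a =
        Y.presheaf.map (homOfLE hrW).op (Y.presheaf.map iU.op a) := by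
      rw [← CommRingCat.comp_apply, ← Functor.map_comp]; rfl
    rw [this, e, map_zero, map_zero]
  obtain ⟨n, hn⟩ := exists_pow_mul_eq_zero_of_res_basicOpen_eq_zero_of_isAffineOpen Y hV a r h3
  exact ⟨r ^ n, mem_basicOpen_pow' r n y hy hyr, hn⟩

theorem exists_annihilator (f : X ⟶ Y) [IsClosedImmersion f] [LocallyOfFinitePresentation f]
    (x : X) (hinj : Function.Injective (f.stalkMap x)) (V : Y.Opens) (hV : IsAffineOpen V)
    (hxV : f x ∈ V) :
    ∃ s : Γ(Y, V), f x ∈ Y.basicOpen s ∧ ∀ a : Γ(Y, V), f.app V a = 0 → s * a = 0 := by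
  have hU : IsAffineOpen (f ⁻¹ᵁ V) := hV.preimage f
  have hsurj : Function.Surjective (f.app V) := f.app_surjective V hV
  have hfp : (f.app V).hom.FinitePresentation := by
    have := f.finitePresentation_appLE hV hU le_rfl
    rwa [← Scheme.Hom.app_eq_appLE] at this
  -- kernel is finitely generated
  have hfg : (RingHom.ker (f.app V).hom).FG := by
    algebraize [(f.app V).hom]
    exact Algebra.FinitePresentation.ker_fG_of_surjective (Algebra.ofId Γ(Y, V) Γ(X, f ⁻¹ᵁ V)) hsurj
  obtain ⟨G, hG⟩ := hfg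
  -- each generator is killed by some s
  have hgen : ∀ g ∈ G, ∃ s : Γ(Y, V), f x ∈ Y.basicOpen s ∧ s * g = 0 := by
    intro g hg
    have hgk : f.app V g = 0 := by
      have : g ∈ RingHom.ker (f.app V).hom := by rw [← hG]; exact Ideal.subset_span hg
      exact this
    apply exists_mul_eq_zero_of_germ_eq_zero hV (f x) hxV g
    apply hinj
    rw [map_zero, Scheme.Hom.germ_stalkMap_apply, hgk, map_zero]
  choose! t ht using hgen
  refine ⟨∏ g ∈ G, t g, ?_, ?_⟩
  · -- membership in basic open of a product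
    classical
    have : ∀ (G' : Finset Γ(Y, V)), G' ⊆ G → f x ∈ Y.basicOpen (∏ g ∈ G', t g) := by
      intro G'
      induction G' using Finset.induction_on with
      | empty =>
        intro _
        rw [Finset.prod_empty, Scheme.basicOpen_of_isUnit _ isUnit_one]; exact hxV
      | insert g G' hg ih =>
        intro hsub
        rw [Finset.prod_insert hg, Scheme.basicOpen_mul]
        exact ⟨(ht g (hsub (Finset.mem_insert_self _ _))).1,
          ih (fun z hz => hsub (Finset.mem_insert_of_mem hz))⟩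
    exact this G subset_rfl
  · intro a ha
    have hak : a ∈ Ideal.span (G : Set Γ(Y, V)) := by
      rw [hG]; exact ha
    refine Submodule.span_induction ?_ ?_ ?_ ?_ hak
    · intro g hg
      obtain ⟨c, hc⟩ := Finset.dvd_prod_of_mem t hg
      rw [hc, mul_comm (t g), mul_assoc, (ht g hg).2, mul_zero]
    · rw [mul_zero]
    · intro a b _ _ ha hb
      rw [mul_add, ha, hb, add_zero]
    · intro c a _ ha
      rw [smul_eq_mul, mul_left_comm, ha, mul_zero]

theorem res_eq_zero_of_eq {Z : Scheme.{u}} {U W W' : Z.Opens} (hW : W ≤ U) (hW' : W' ≤ U)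
    (e : W = W') (a : Γ(Z, U)) (h : Z.presheaf.map (homOfLE hW).op a = 0) :
    Z.presheaf.map (homOfLE hW').op a = 0 := by
  subst e; exact h

theorem app_injective_of_eq (f : X ⟶ Y) {W W' : Y.Opens} (e : W = W')
    (h : Function.Injective (f.app W)) : Function.Injective (f.app W') := by
  subst e; exact h

theorem app_basicOpen_injective (f : X ⟶ Y) [IsClosedImmersion f] (V : Y.Opens)
    (hV : IsAffineOpen V) (s : Γ(Y, V)) (hs : ∀ a : Γ(Y, V), f.app V a = 0 → s * a = 0) :
    Function.Injective (f.app (Y.basicOpen s)) := by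
  have hU : IsAffineOpen (f ⁻¹ᵁ V) := hV.preimage f
  have hloc := hV.isLocalization_basicOpen s
  rw [injective_iff_map_eq_zero]
  intro b hb
  obtain ⟨⟨a, ⟨_, n, rfl⟩⟩, hab⟩ := IsLocalization.surj (Submonoid.powers s) b
  have hab' : b * Y.presheaf.map (homOfLE (Y.basicOpen_le s)).op (s ^ n) =
      Y.presheaf.map (homOfLE (Y.basicOpen_le s)).op a := hab
  have hunit : IsUnit (Y.presheaf.map (homOfLE (Y.basicOpen_le s)).op s) :=
    IsLocalization.Away.algebraMap_isUnit s
  -- f.app D (a|) = 0
  have h1 : f.app (Y.basicOpen s) (Y.presheaf.map (homOfLE (Y.basicOpen_le s)).op a) = 0 := by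
    rw [← hab', map_mul, hb, zero_mul]
  have h2 : X.presheaf.map (homOfLE (f.preimage_mono (Y.basicOpen_le s))).op (f.app V a) = 0 := by
    rw [← h1]
    have := f.naturality (homOfLE (Y.basicOpen_le s)).op
    exact (congrArg (fun k => k.hom a) this).symm
  have h3 : X.presheaf.map (homOfLE (X.basicOpen_le (f.app V s))).op (f.app V a) = 0 :=
    res_eq_zero_of_eq _ _ (Scheme.preimage_basicOpen f s) _ h2
  obtain ⟨m, hm⟩ := exists_pow_mul_eq_zero_of_res_basicOpen_eq_zero_of_isAffineOpen X hU
    (f.app V a) (f.app V s) h3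
  have h4 : f.app V (s ^ m * a) = 0 := by rw [map_mul, map_pow, hm]
  have h5 : s ^ (m + 1) * a = 0 := by
    rw [pow_succ', mul_assoc]; exact hs _ h4
  have h6 : Y.presheaf.map (homOfLE (Y.basicOpen_le s)).op a = 0 := by
    have := congrArg (Y.presheaf.map (homOfLE (Y.basicOpen_le s)).op) h5
    rw [map_mul, map_pow, map_zero] at this
    exact (hunit.pow (m + 1)).mul_right_eq_zero.mp this
  rw [h6, map_pow] at hab'
  exact (hunit.pow n).mul_left_eq_zero.mp hab'

end helpers

/-- A closed immersion of finite presentation which is flat at a point x is an isomorphism over some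
open neighbourhood of the image of x. -/
theorem result {X Y : Scheme.{u}} (f : X ⟶ Y) [IsClosedImmersion f]
    [LocallyOfFinitePresentation f] (x : X) (hflat : (f.stalkMap x).hom.Flat) :
    ∃ V : Y.Opens, f.base x ∈ V ∧ IsIso (f ∣_ V) := by

  have hinj := stalkMap_injective_of_flat f x hflat
  obtain ⟨V, hV, hxV, -⟩ := exists_isAffineOpen_mem_and_subset (x := f.base x)
    (U := (⊤ : Y.Opens)) trivial
  obtain ⟨s, hxs, hs⟩ := exists_annihilator f x hinj V hV hxV
  refine ⟨Y.basicOpen s, hxs, ?_⟩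
  have hD : IsAffineOpen (Y.basicOpen s) := hV.basicOpen s
  haveI : IsAffine (Y.basicOpen s : Scheme.{u}) := hD
  apply IsClosedImmersion.isIso_of_injective_of_isAffine
  rw [morphismRestrict_appTop]
  have h1 : Function.Injective (f.app ((Y.basicOpen s).ι ''ᵁ ⊤)) :=
    app_injective_of_eq f (Scheme.Opens.ι_image_top _).symm (app_basicOpen_injective f V hV s hs)
  exact Function.Injective.comp (f := ⇑(f.app ((Y.basicOpen s).ι ''ᵁ ⊤)))
    (ConcreteCategory.bijective_of_isIso (X.presheaf.map
      (eqToHom (image_morphismRestrict_preimage f (Y.basicOpen s) ⊤)).op)).1 h1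

end Groth.Agent.S10895
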