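import Groth.Statements.S10898
import Mathlib.RingTheory.Ideal.KrullsHeightTheorem
import Mathlib.RingTheory.Polynomial.Basic
-- import your own Groth.Agent.* helpers here

set_option autoImplicit false
universe u
open Polynomial
open WDiv

namespace Groth.Agent.S10898

theorem comap_map_C {A : Type u} [CommRing A] (q : Ideal A) :
    (q.map (C : A →+* A[X])).comap (C : A →+* A[X]) = q := by
  ext a
  rw [Ideal.mem_comap, Ideal.mem_map_C_iff]
  constructor
  · intro h
    have := h 0
    rwa [coeff_C_zero] at this
  · intro h n
    rw [coeff_C]
    split_ifs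
    · exact h
    · exact q.zero_mem

theorem map_C_eq_bot_iff {A : Type u} [CommRing A] (q : Ideal A) :
    q.map (C : A →+* A[X]) = ⊥ ↔ q = ⊥ := by
  constructor
  · intro h
    rw [← comap_map_C q, h]
    ext a
    simp [Ideal.mem_comap]
  · rintro rfl
    exact Ideal.map_bot

/-- Let A be a Noetherian integral domain and P a prime ideal of height 1 of the polynomial ring A[X].
Then either P meets A in 0 only, or its contraction p = P ∩ A is a prime of height 1 of A and P is
the extension p·A[X]. (The published lemma also assumes A regular in codimension 1; that hypothesis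
is not used for this assertion.) -/
theorem result (A : Type u) [CommRing A] [IsDomain A]
    [IsNoetherianRing A] (P : Ideal A[X]) [P.IsPrime] (hP : P.height = 1) :
    P.comap (C : A →+* A[X]) = ⊥ ∨
      ((P.comap (C : A →+* A[X])).height = 1 ∧ P = (P.comap (C : A →+* A[X])).map C) := by
  by_cases hp : P.comap (C : A →+* A[X]) = ⊥
  · exact Or.inl hp
  right
  set p := P.comap (C : A →+* A[X]) with hpdef
  have hpprime : p.IsPrime := Ideal.IsPrime.comap _
  have hQle : p.map (C : A →+* A[X]) ≤ P := Ideal.map_comap_le
  have hQne : p.map (C : A →+* A[X]) ≠ ⊥ := fun h => hp ((map_C_eq_bot_iff p).mp h)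
  have hQh : (1 : ℕ∞) ≤ (p.map (C : A →+* A[X])).height := by
    rw [Order.one_le_iff_ne_zero]
    intro h
    exact hQne (Ideal.height_eq_zero_iff_eq_bot.mp h)
  have hQP : p.map (C : A →+* A[X]) = P :=
    Ideal.eq_of_le_of_height_le _ hQle (hP ▸ hQh)
  refine ⟨?_, hQP.symm⟩
  apply le_antisymm
  · have : p.height ≤ ((1 : ℕ) : ℕ∞) := by
      rw [Ideal.height_le_iff]
      intro q hq hqp
      have hq' : (q.map (C : A →+* A[X])).IsPrime := inferInstance
      have hlt : q.map (C : A →+* A[X]) < P := by
        rw [← hQP]
        refine lt_of_le_of_ne (Ideal.map_mono hqp.le) ?_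
        intro h
        have := congrArg (Ideal.comap (C : A →+* A[X])) h
        rw [comap_map_C, comap_map_C] at this
        exact hqp.ne this
      have h1 := Ideal.height_add_one_le_of_lt_of_isPrime hlt
      rw [hP] at h1
      have h0 : (q.map (C : A →+* A[X])).height = 0 := by
        generalize (q.map (C : A →+* A[X])).height = e at h1
        induction e using ENat.recTopCoe with
        | top => simp at h1
        | coe m =>
          have : m + 1 ≤ 1 := by exact_mod_cast h1
          have : m = 0 := by omega
          simp [this]
      have hq0 : q = ⊥ := (map_C_eq_bot_iff q).mp (Ideal.height_eq_zero_iff_eq_bot.mp h0)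
      rw [hq0, Ideal.height_bot]
      exact Nat.cast_pos.mpr one_pos
    simpa using this
  · rw [Order.one_le_iff_ne_zero]
    intro h
    exact hp (Ideal.height_eq_zero_iff_eq_bot.mp h)

end Groth.Agent.S10898
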