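import Groth.Statements.S10899
import Mathlib
import Groth.Agent.Lib.Helper17.DVRPrincipal
import Groth.Agent.S10898

set_option autoImplicit false
universe u
open Polynomial
open WDiv

namespace Groth.Agent.S10899

/-- Let A be a Noetherian integral domain which is regular in codimension 1, i.e. whose localization at
every prime ideal of height 1 is a discrete valuation ring. Then the polynomial ring A[X] is regular
in codimension 1 as well: its localization at every prime ideal of height 1 is a discrete valuation
ring. -/
theorem result (A : Type u) [CommRing A]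
    [IsDomain A] [IsNoetherianRing A]
    (hR1 : ∀ (p : Ideal A) [p.IsPrime], p.height = 1 → IsDiscreteValuationRing (Localization.AtPrime p))
    (P : Ideal A[X]) [P.IsPrime] (hP : P.height = 1) :
    IsDiscreteValuationRing (Localization.AtPrime P) := by
  classical
  have hP0 : P ≠ ⊥ := by
    intro h
    rw [h, Ideal.height_bot] at hP
    exact zero_ne_one hP
  rcases Groth.Agent.S10898.result A P hP with h0 | ⟨hht, hPeq⟩
  · -- horizontal case
    letI : Algebra A[X] (FractionRing A)[X] := Polynomial.algebra A (FractionRing A)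
    haveI : IsLocalization ((nonZeroDivisors A).map (C : A →+* A[X])) (FractionRing A)[X] :=
      Polynomial.isLocalization (nonZeroDivisors A) (FractionRing A)
    have hinj : Function.Injective (algebraMap A[X] (FractionRing A)[X]) :=
      Polynomial.map_injective _ (IsFractionRing.injective A (FractionRing A))
    obtain ⟨g, hgen⟩ := IsPrincipalIdealRing.principal (P.map (algebraMap A[X] (FractionRing A)[X]))
    change P.map (algebraMap A[X] (FractionRing A)[X]) = Ideal.span {g} at hgen
    have hgPK : g ∈ P.map (algebraMap A[X] (FractionRing A)[X]) :=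
      hgen ▸ Ideal.mem_span_singleton_self g
    rw [IsLocalization.mem_map_algebraMap_iff ((nonZeroDivisors A).map (C : A →+* A[X]))] at hgPK
    obtain ⟨⟨⟨g', hg'⟩, ⟨_, d, hd, rfl⟩⟩, hgd⟩ := hgPK
    apply Groth.Agent.Lib.Helper17.DVRPrincipal.isDVR_of_principal P hP0 g' hg' P (Ideal.span_eq P)
    intro f hf
    have hfK : algebraMap A[X] (FractionRing A)[X] f ∈
        P.map (algebraMap A[X] (FractionRing A)[X]) := Ideal.mem_map_of_mem _ hf
    rw [hgen, Ideal.mem_span_singleton'] at hfK
    obtain ⟨h, hh⟩ := hfK
    obtain ⟨⟨h', ⟨_, e, he, rfl⟩⟩, hhe⟩ :=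
      IsLocalization.surj ((nonZeroDivisors A).map (C : A →+* A[X])) h
    refine ⟨C (d * e), ?_, h', ?_⟩
    · intro hmem
      have : d * e ∈ P.comap (C : A →+* A[X]) := hmem
      rw [h0, Ideal.mem_bot] at this
      exact mul_ne_zero (nonZeroDivisors.ne_zero hd) (nonZeroDivisors.ne_zero he) this
    · apply hinj
      simp only at hgd hhe
      rw [map_mul, C_mul, map_mul (algebraMap A[X] (FractionRing A)[X]) h' g',
        map_mul (algebraMap A[X] (FractionRing A)[X]) (C d) (C e), ← hh, ← hgd, ← hhe]
      ring
  · -- vertical case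
    haveI : (P.comap (C : A →+* A[X])).IsPrime := Ideal.comap_isPrime _ _
    haveI := hR1 (P.comap (C : A →+* A[X])) hht
    have hinj : Function.Injective
        (algebraMap A (Localization.AtPrime (P.comap (C : A →+* A[X])))) :=
      IsLocalization.injective _ (P.comap (C : A →+* A[X])).primeCompl_le_nonZeroDivisors
    obtain ⟨ϖ, hϖ⟩ := IsPrincipalIdealRing.principal
      (IsLocalRing.maximalIdeal (Localization.AtPrime (P.comap (C : A →+* A[X]))))
    change IsLocalRing.maximalIdeal (Localization.AtPrime (P.comap (C : A →+* A[X]))) =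
      Ideal.span {ϖ} at hϖ
    obtain ⟨t, s₀, hts⟩ := IsLocalization.exists_mk'_eq (P.comap (C : A →+* A[X])).primeCompl ϖ
    have hm : IsLocalRing.maximalIdeal (Localization.AtPrime (P.comap (C : A →+* A[X]))) =
        Ideal.span {algebraMap A (Localization.AtPrime (P.comap (C : A →+* A[X]))) t} := by
      rw [hϖ, Ideal.span_singleton_eq_span_singleton]
      have : algebraMap A (Localization.AtPrime (P.comap (C : A →+* A[X]))) t =
          ϖ * algebraMap A (Localization.AtPrime (P.comap (C : A →+* A[X]))) s₀ := by
        rw [← hts, IsLocalization.mk'_spec]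
      rw [this]
      exact associated_mul_unit_right ϖ _ (IsLocalization.map_units _ s₀)
    have htp : t ∈ P.comap (C : A →+* A[X]) := by
      rw [← IsLocalization.AtPrime.to_map_mem_maximal_iff
        (Localization.AtPrime (P.comap (C : A →+* A[X]))) (P.comap (C : A →+* A[X])) t, hm]
      exact Ideal.mem_span_singleton_self _
    have hgen : ∀ f ∈ P.comap (C : A →+* A[X]),
        ∃ s' ∉ P.comap (C : A →+* A[X]), ∃ u, f * s' = u * t := by
      intro f hf
      have hfm : algebraMap A (Localization.AtPrime (P.comap (C : A →+* A[X]))) f ∈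
          IsLocalRing.maximalIdeal (Localization.AtPrime (P.comap (C : A →+* A[X]))) :=
        (IsLocalization.AtPrime.to_map_mem_maximal_iff _ (P.comap (C : A →+* A[X])) f).2 hf
      rw [hm, Ideal.mem_span_singleton'] at hfm
      obtain ⟨c, hc⟩ := hfm
      obtain ⟨u, s', hus⟩ := IsLocalization.exists_mk'_eq (P.comap (C : A →+* A[X])).primeCompl c
      refine ⟨s', s'.2, u, hinj ?_⟩
      rw [map_mul, map_mul, ← hc, ← hus, mul_right_comm, mul_comm (IsLocalization.mk' _ u s'),
        IsLocalization.mk'_spec']
    apply Groth.Agent.Lib.Helper17.DVRPrincipal.isDVR_of_principal P hP0 (C t) htp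
      ((C : A →+* A[X]) '' (P.comap (C : A →+* A[X]) : Set A)) hPeq.symm
    rintro _ ⟨f, hf, rfl⟩
    obtain ⟨s', hs', u, hu⟩ := hgen f hf
    refine ⟨C s', fun h => hs' h, C u, ?_⟩
    rw [← C_mul, ← C_mul, hu]

end Groth.Agent.S10899
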