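import Groth.Statements.S1090
import Groth.Agent.Lib27.FilD4
-- import your own Groth.Agent.* helpers here

set_option autoImplicit false
universe v u
open CategoryTheory CategoryTheory.Limits Opposite
open FilD

namespace Groth.Agent.S1090

/-- Let A be an abelian category with enough injectives, f : X ⟶ Y a morphism of finite filtered
objects, and X[0] ⟶ I, Y[0] ⟶ J filtered quasi-isomorphisms into complexes of filtered injective
objects vanishing in negative degrees. Then there is a morphism of complexes I ⟶ J making the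
evident square with f[0] commute. -/
theorem result {A : Type u} [Category.{v} A] [Abelian A] [EnoughInjectives A] {X Y : FilD.FilF A} (f : X ⟶ Y)
    (I : CochainComplex (FilD.FilF A) ℤ) [I.IsStrictlyGE 0] (hI : ∀ n, FilD.IsFilteredInjective (I.X n))
    (a : (CochainComplex.singleFunctor (FilD.FilF A) 0).obj X ⟶ I) (ha : FilD.IsFilteredQuasiIso a)
    (J : CochainComplex (FilD.FilF A) ℤ) [J.IsStrictlyGE 0] (hJ : ∀ n, FilD.IsFilteredInjective (J.X n))
    (b : (CochainComplex.singleFunctor (FilD.FilF A) 0).obj Y ⟶ J) (hb : FilD.IsFilteredQuasiIso b) :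
    ∃ φ : I ⟶ J, a ≫ φ = (CochainComplex.singleFunctor (FilD.FilF A) 0).map f ≫ b := by
  obtain ⟨β, hβ⟩ := (Groth.Agent.Lib27.FilDLib.bijective_precomp a J 0 hJ ha).2
    ((HomotopyCategory.quotient _ _).map ((CochainComplex.singleFunctor (FilD.FilF A) 0).map f ≫ b))
  obtain ⟨φ, rfl⟩ := (HomotopyCategory.quotient _ _).map_surjective β
  refine ⟨φ, ?_⟩
  dsimp only at hβ
  rw [← Functor.map_comp] at hβ
  have h := HomotopyCategory.homotopyOfEq _ _ hβ
  apply HomologicalComplex.from_single_hom_ext
  have hc := h.comm 0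
  rw [dNext_eq _ (show (ComplexShape.up ℤ).Rel 0 1 from rfl),
    prevD_eq _ (show (ComplexShape.up ℤ).Rel (-1) 0 from rfl)] at hc
  have hz : IsZero (J.X (-1)) := J.isZero_of_isStrictlyGE 0 (-1) (by omega)
  rw [hz.eq_of_tgt (h.hom 0 (-1)) 0, Limits.zero_comp, add_zero] at hc
  have hd : ((CochainComplex.singleFunctor (FilD.FilF A) 0).obj X).d 0 1 = 0 :=
    HomologicalComplex.single_obj_d _ _ _ _ _
  rw [hd, Limits.zero_comp, zero_add] at hc
  exact hc

end Groth.Agent.S1090
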