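import Groth.Statements.S10902
import Mathlib
import Groth.Agent.Lib.Helper9.FibreDim
import Groth.Agent.Lib.Helper23.Cartier
import Groth.Agent.Lib.Helper21.DimTr

set_option autoImplicit false
universe u
open TensorProduct
open SmVar

namespace Groth.Agent.S10902

open KaehlerDifferential Groth.Agent.Lib.Helper9.FibreDim

/-- `κ(q) ⊗_A Ω_{A/k} → Ω_{κ(q)/k}` is surjective. -/
theorem mapBaseChange_residueField_surjective (k : Type u) [Field k]
    (A : Type u) [CommRing A] [Algebra k A] (q : Ideal A) [q.IsPrime] :
    Function.Surjective (KaehlerDifferential.mapBaseChange k A q.ResidueField) := by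
  have hex := KaehlerDifferential.exact_mapBaseChange_map k A q.ResidueField
  have : Algebra.FormallyUnramified A q.ResidueField :=
    Algebra.FormallyUnramified.comp A (Localization.AtPrime q) q.ResidueField
  have : Subsingleton (Ω[q.ResidueField⁄A]) := inferInstance
  intro x
  exact (hex x).1 (Subsingleton.elim _ _)


/-- Let k be a field and A a k-algebra of finite type (X = Spec A a k-scheme of finite type), P a prime
ideal of A, and suppose P contains a prime q with dim A/q ≥ n, i.e. the point P lies on an
irreducible component of X of dimension at least n. Then the fibre at P of the sheaf of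
differentials of X over k has dimension at least n over the residue field: dim_{κ(P)} (κ(P) ⊗_A
Ω_{A/k}) ≥ n. (The published statement asks every irreducible component of X to have dimension ≥ n
and concludes this at every point.) -/
theorem result (k : Type u) [Field k]
    (A : Type u) [CommRing A] [Algebra k A] [Algebra.FiniteType k A] (n : ℕ)
    (P : Ideal A) [P.IsPrime] (q : Ideal A) [q.IsPrime] (hqP : q ≤ P)
    (hq : (n : WithBot ℕ∞) ≤ ringKrullDim (A ⧸ q)) :
    n ≤ Module.finrank P.ResidueField (P.ResidueField ⊗[A] (Ω[A⁄k])) := by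
  -- Ω is a finite module
  have hfinΩ : Module.Finite A (Ω[A⁄k]) := inferInstance
  -- step 1: upper semicontinuity
  have h1 : fibreDim (Ω[A⁄k]) (⟨q, inferInstance⟩ : PrimeSpectrum A) ≤
      fibreDim (Ω[A⁄k]) (⟨P, inferInstance⟩ : PrimeSpectrum A) := by
    have hev := fibreDim_eventually_le (A := A) (Ω[A⁄k]) (⟨P, inferInstance⟩ : PrimeSpectrum A)
    have hspec : (⟨q, inferInstance⟩ : PrimeSpectrum A) ⤳ ⟨P, inferInstance⟩ := by
      rw [← PrimeSpectrum.le_iff_specializes]
      exact hqP
    have hev' : ∀ᶠ x' in nhds (⟨q, inferInstance⟩ : PrimeSpectrum A),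
        fibreDim (Ω[A⁄k]) x' ≤ fibreDim (Ω[A⁄k]) (⟨P, inferInstance⟩ : PrimeSpectrum A) := hspec hev
    exact hev'.self_of_nhds
  unfold fibreDim at h1
  simp only at h1
  refine le_trans ?_ h1
  -- step 2: surjection onto Ω_{κ(q)/k}
  have hsurj := mapBaseChange_residueField_surjective k A q
  have hfin2 : Module.Finite q.ResidueField (q.ResidueField ⊗[A] (Ω[A⁄k])) := inferInstance
  have h2 : Module.finrank q.ResidueField (Ω[q.ResidueField⁄k]) ≤
      Module.finrank q.ResidueField (q.ResidueField ⊗[A] (Ω[A⁄k])) :=
    LinearMap.finrank_le_finrank_of_surjective hsurj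
  refine le_trans ?_ h2
  -- step 3: Cartier
  have hess : Algebra.EssFiniteType k q.ResidueField := Algebra.EssFiniteType.comp k A q.ResidueField
  obtain ⟨hf1, hf2, h3⟩ := Groth.Agent.Lib.Helper23.Cartier.t2469main (K := k) (L := q.ResidueField)
  -- step 4: dimension = trdeg
  obtain ⟨s, hs1, hs2⟩ := Groth.Agent.Lib.Helper21.DimTr.exists_nat_trdeg_eq_and_dim_eq k (A ⧸ q)
    q.ResidueField
  rw [hs2] at hq
  have hns : n ≤ s := by exact_mod_cast hq
  rw [hs1] at h3
  simp only [Cardinal.toNat_natCast] at h3
  omega

end Groth.Agent.S10902
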