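import Groth.Statements.S10903
import Mathlib
import Groth.Agent.Lib.Helper16.CIAss
import Groth.Agent.Lib.Helper5.ProjDimThm

set_option autoImplicit false
universe u
open CInt

namespace Groth.Agent.S10903

section helpers
open CInt

theorem result_aux (k : Type u) [Field k] (n r : ℕ)
    (hr : r ≤ n) (f : Fin r → MvPolynomial (Fin (n + 1)) k) (d : Fin r → ℕ)
    (hf : ∀ i, (f i).IsHomogeneous (d i)) (hd : ∀ i, 0 < d i)
    (hJ : (Ideal.span (Set.range f)).height = r) (g : MvPolynomial (Fin (n + 1)) k)
    (hg : ∀ i : Fin (n + 1), ∃ m : ℕ, MvPolynomial.X i ^ m * g ∈ Ideal.span (Set.range f)) :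
    g ∈ Ideal.span (Set.range f) := by
  classical
  by_contra hgJ
  set J := Ideal.span (Set.range f) with hJdef
  let m : Ideal (MvPolynomial (Fin (n + 1)) k) :=
    RingHom.ker (MvPolynomial.constantCoeff : MvPolynomial (Fin (n + 1)) k →+* k)
  have hm_max : m.IsMaximal :=
    RingHom.ker_isMaximal_of_surjective _ (fun a => ⟨MvPolynomial.C a, MvPolynomial.constantCoeff_C _ a⟩)
  have hJm : J ≤ m := by
    rw [hJdef, Ideal.span_le]
    rintro _ ⟨i, rfl⟩
    change MvPolynomial.constantCoeff (f i) = 0
    rw [MvPolynomial.constantCoeff_eq]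
    apply (hf i).coeff_eq_zero
    simp
    exact (hd i).ne
  have hass : m ∈ associatedPrimes (MvPolynomial (Fin (n + 1)) k) (MvPolynomial (Fin (n + 1)) k ⧸ J) := by
    have hx : (Ideal.Quotient.mk J g) ≠ 0 := by rwa [Ne, Ideal.Quotient.eq_zero_iff_mem]
    obtain ⟨P, hP, hle⟩ := exists_le_isAssociatedPrime_of_isNoetherianRing
      (MvPolynomial (Fin (n + 1)) k) (Ideal.Quotient.mk J g) hx
    have hPprime := hP.isPrime
    have hXP : ∀ i, (MvPolynomial.X i : MvPolynomial (Fin (n + 1)) k) ∈ P := by
      intro i
      obtain ⟨e, he⟩ := hg i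
      apply hPprime.mem_of_pow_mem e
      apply hle
      rw [Submodule.mem_colon_singleton, Submodule.mem_bot]
      change Submodule.Quotient.mk (MvPolynomial.X i ^ e • g) = 0
      rw [Submodule.Quotient.mk_eq_zero]
      exact he
    have hmP : m ≤ P := by
      intro p hp
      have h1 : p ∈ MvPolynomial.idealOfVars (Fin (n + 1)) k ^ 1 := by
        rw [MvPolynomial.mem_pow_idealOfVars_iff']
        intro x hx
        have hx0 : x = 0 := by
          have : x.degree = 0 := by omega
          exact (Finsupp.degree_eq_zero_iff x).mp this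
        rw [hx0]
        exact hp
      rw [pow_one] at h1
      refine (Ideal.span_le.mpr ?_) h1
      rintro _ ⟨i, rfl⟩
      exact hXP i
    have : m = P := hm_max.eq_of_le hPprime.ne_top hmP
    rw [this]; exact hP
  have : m.IsPrime := hm_max.isPrime
  have hreg : IsRegularLocalRing (Localization.AtPrime m) :=
    IsRegularRing.isRegularLocalRing_localization m
  have hCM := Groth.Agent.Lib.Helper16.PDR.isCohenMacaulayModule_self_of_isRegularLocalRing
    (Localization.AtPrime m)
  have hhm : ((n + 1 : ℕ) : ℕ∞) ≤ m.height :=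
    Groth.Agent.Lib.Helper5.le_height_ker_constantCoeff k (n + 1)
  refine Groth.Agent.Lib.Helper16.CIAss.not_mem_associatedPrimes m hCM r f
    (fun i => hJm (Ideal.subset_span ⟨i, rfl⟩)) (by rw [hJ]) ?_ hass
  refine lt_of_lt_of_le ?_ hhm
  exact_mod_cast Nat.lt_succ_of_le hr

end helpers

/-- Let k be a field, S = k[x_0, …, x_n], and f_1, …, f_r with r ≤ n homogeneous polynomials of positive
degrees whose ideal J = (f_1, …, f_r) has height r — the subscheme of P^n_k cut out by the
hypersurfaces f_i = 0 has codimension r, an ideal-theoretic complete intersection. Then J is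
saturated with respect to the irrelevant ideal (x_0, …, x_n): an element g of S such that, for each
i, x_i^m g ∈ J for some m, already lies in J. Hence J is the full homogeneous ideal of that
subscheme (a global complete intersection). -/
theorem result (k : Type u) [Field k] (n r : ℕ)
    (hr : r ≤ n) (f : Fin r → MvPolynomial (Fin (n + 1)) k) (d : Fin r → ℕ)
    (hf : ∀ i, (f i).IsHomogeneous (d i)) (hd : ∀ i, 0 < d i)
    (hJ : (Ideal.span (Set.range f)).height = r) (g : MvPolynomial (Fin (n + 1)) k)
    (hg : ∀ i : Fin (n + 1), ∃ m : ℕ, MvPolynomial.X i ^ m * g ∈ Ideal.span (Set.range f)) :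
    g ∈ Ideal.span (Set.range f) := by
  exact result_aux k n r hr f d hf hd hJ g hg

end Groth.Agent.S10903
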