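import Groth.Statements.S10909
import Mathlib
import Groth.Agent.Lib.Helper9.SmoothPt
import Groth.Agent.Lib.Helper18.SerreReg2
import Groth.Agent.Lib.Helper21.RegularLocal
import Groth.Agent.Lib.Helper23.SmoothField
import Groth.Agent.S10902

set_option autoImplicit false
universe u
open TensorProduct
open SmVar

namespace Groth.Agent.S10909

open Groth.Agent.Lib.Helper9.SmoothPt Groth.Agent.Lib.Helper9.FibreDim IsLocalRing

/-- regularity at a closed point in terms of the fibre of the differentials -/
theorem isRegularLocalRing_iff_fibre (k : Type u) [Field k]
    [IsAlgClosed k] (A : Type u) [CommRing A] [Algebra k A] [Algebra.FiniteType k A]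
    (hirr : (nilradical A).IsPrime) (n : ℕ) (hn : ringKrullDim A = n) (m : Ideal A) [hm : m.IsMaximal] :
    IsRegularLocalRing (Localization.AtPrime m) ↔
      Module.finrank m.ResidueField (m.ResidueField ⊗[A] Ω[A⁄k]) = n := by
  have hnoeth : IsNoetherianRing A := Algebra.FiniteType.isNoetherianRing k A
  have hnoeth' : IsNoetherianRing (Localization.AtPrime m) :=
    IsLocalization.isNoetherianRing m.primeCompl _ inferInstance
  rw [IsRegularLocalRing.iff_finrank_cotangentSpace,
    finrank_fibre_eq_finrank_cotangentSpace k A m (bijective_algebraMap_residueField k A m),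
    IsLocalization.AtPrime.ringKrullDim_eq_height m (Localization.AtPrime m),
    height_eq_ringKrullDim_of_isMaximal k A hirr m, hn]
  exact Nat.cast_inj


/-- Let k be an algebraically closed field and A a k-algebra of finite type with irreducible spectrum
(the nilradical of A is prime) and Krull dimension n; X = Spec A is then an irreducible separated
k-scheme of finite type of dimension n. Then X is a nonsingular variety — A is reduced and every
localization of A at a prime is a regular local ring — if and only if the module of Kähler
differentials Ω_{A/k} is locally free of rank n: projective, with fibre κ(P) ⊗_A Ω_{A/k} of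
dimension n at every prime P. -/
theorem result (k : Type u) [Field k]
    [IsAlgClosed k] (A : Type u) [CommRing A] [Algebra k A] [Algebra.FiniteType k A]
    (hirr : (nilradical A).IsPrime) (n : ℕ) (hn : ringKrullDim A = n) :
    (IsReduced A ∧ IsRegularRing A) ↔
      (Module.Projective A (Ω[A⁄k]) ∧
        ∀ (P : Ideal A) [P.IsPrime],
          Module.finrank P.ResidueField (P.ResidueField ⊗[A] Ω[A⁄k]) = n) := by
  have hnoeth : IsNoetherianRing A := Algebra.FiniteType.isNoetherianRing k A
  have hfinΩ : Module.Finite A (Ω[A⁄k]) := inferInstance
  constructor
  · rintro ⟨hred, hreg⟩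
    -- all fibres have dimension `n`
    have hfib : ∀ (P : Ideal A) [P.IsPrime],
        Module.finrank P.ResidueField (P.ResidueField ⊗[A] Ω[A⁄k]) = n := by
      intro P hP
      apply le_antisymm
      · obtain ⟨m, hm, hPm⟩ := Ideal.exists_le_maximal P hP.ne_top
        have hmp : m.IsPrime := hm.isPrime
        have h1 := fibreDim_le_of_le (Ω[A⁄k]) P m hPm
        have h2 := (isRegularLocalRing_iff_fibre k A hirr n hn m).1 inferInstance
        omega
      · have hq : (n : WithBot ℕ∞) ≤ ringKrullDim (A ⧸ nilradical A) := by
          rw [ringKrullDim_quotient_nilradical k A hirr, hn]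
        exact Groth.Agent.S10902.result k A n P (nilradical A) (nilradical_le_prime P) hq
    refine ⟨?_, fun P _ => hfib P⟩
    have hfp : Module.FinitePresentation A (Ω[A⁄k]) := Module.finitePresentation_of_finite A _
    apply projective_of_fibreDim_locallyConstant (A := A) (Ω[A⁄k])
    intro x
    refine Filter.Eventually.of_forall fun x' => ?_
    unfold fibreDim
    rw [hfib x'.asIdeal, hfib x.asIdeal]
  · rintro ⟨-, hfib⟩
    have hmax : ∀ (m : Ideal A) [m.IsMaximal], IsRegularLocalRing (Localization.AtPrime m) := by
      intro m hm
      exact (isRegularLocalRing_iff_fibre k A hirr n hn m).2 (hfib m)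
    constructor
    · apply isReduced_ofLocalizationMaximal
      intro m hm
      have := hmax m
      have := Groth.Agent.Lib.Helper21.isDomain_of_isRegularLocalRing (Localization.AtPrime m)
      infer_instance
    · rw [isRegularRing_iff]
      intro P hP
      obtain ⟨m, hm, hPm⟩ := Ideal.exists_le_maximal P hP.ne_top
      have hmp : m.IsPrime := hm.isPrime
      have hreg := hmax m
      have : IsRegularRing (Localization m.primeCompl) := by
        rw [isRegularRing_iff]
        intro p hp
        exact Groth.Agent.Lib.Helper18.SerreReg.isRegularLocalRing_localization_atPrime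
          (Localization.AtPrime m) p
      apply Groth.Agent.Lib.Helper23.SmoothField.isRegularLocalRing_atPrime_of_localization
        m.primeCompl P
      rw [Set.disjoint_left]
      intro x hx hxP
      exact hx (hPm hxP)

end Groth.Agent.S10909
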