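import Groth.Statements.S10910
import Mathlib
import Groth.Agent.Lib.Helper23.SmoothField
import Groth.Agent.Lib.Helper23.FieldSep3

set_option autoImplicit false
universe u
open TensorProduct
open SmVar

namespace Groth.Agent.S10910

/-- over an algebraically closed field a regular ring is geometrically regular -/
theorem isGeometricallyRegular_of_isAlgClosed (k : Type u) [Field k] [IsAlgClosed k]
    (C : Type u) [CommRing C] [Algebra k C] [IsRegularRing C] :
    CAlg.IsGeometricallyRegular k C := by
  intro k' _ _ hfin
  have hint : Algebra.IsIntegral k k' := Algebra.IsIntegral.of_finite k k'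
  have hbij : Function.Bijective (algebraMap k k') := IsAlgClosed.algebraMap_bijective_of_isIntegral
  let e0 : k ≃ₐ[k] k' := AlgEquiv.ofBijective (Algebra.ofId k k') hbij
  let e : C ≃ₐ[k] k' ⊗[k] C :=
    (Algebra.TensorProduct.lid k C).symm.trans (Algebra.TensorProduct.congr e0 AlgEquiv.refl)
  exact IsRegularRing.of_ringEquiv e.toRingEquiv

/-- for a finite type algebra over an algebraically closed field: regular iff formally smooth -/
theorem isRegularRing_iff_formallySmooth (k : Type u) [Field k] [IsAlgClosed k]
    (C : Type u) [CommRing C] [Algebra k C] [Algebra.FiniteType k C] :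
    IsRegularRing C ↔ Algebra.FormallySmooth k C := by
  have hnoeth : IsNoetherianRing C := Algebra.FiniteType.isNoetherianRing k C
  constructor
  · intro h
    exact ((Groth.Agent.Lib.Helper23.SmoothField.tfae_global (k₀ := k) (k := k) (C := C)).out 3 0).mp
      (isGeometricallyRegular_of_isAlgClosed k C)
  · intro h
    exact Groth.Agent.Lib.Helper23.FieldSep.isRegularRing_of_formallySmooth_field k C


/-- Let k be an algebraically closed field, A a k-algebra of finite type which is an integral domain all
of whose localizations at primes are regular (X = Spec A is a nonsingular affine variety), and B an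
A-algebra with surjective structure map A → B whose nilradical is prime (Y = Spec B is an
irreducible closed subscheme of X, with ideal I = ker(A → B)). Then every localization of B is
regular (Y is nonsingular) if and only if (i) Ω_{B/k} is a projective B-module (locally free) and
(ii) the conormal map I/I² → B ⊗_A Ω_{A/k}, class of x ↦ 1 ⊗ dx, is injective, i.e. the conormal
sequence 0 → I/I² → B ⊗_A Ω_{A/k} → Ω_{B/k} → 0 is exact on the left as well. -/
theorem result (k : Type u) [Field k]
    [IsAlgClosed k] (A B : Type u) [CommRing A] [CommRing B] [Algebra k A] [Algebra.FiniteType k A]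
    [IsDomain A] [IsRegularRing A] [Algebra A B] [Algebra k B] [IsScalarTower k A B]
    (hsurj : Function.Surjective (algebraMap A B)) (hirr : (nilradical B).IsPrime) :
    IsRegularRing B ↔
      (Module.Projective B (Ω[B⁄k]) ∧
        Function.Injective (KaehlerDifferential.kerCotangentToTensor k A B)) := by
  have hA : Algebra.FormallySmooth k A := (isRegularRing_iff_formallySmooth k A).1 inferInstance
  have hftB : Algebra.FiniteType k B :=
    Algebra.FiniteType.of_surjective (IsScalarTower.toAlgHom k A B) hsurj
  rw [isRegularRing_iff_formallySmooth k B, Algebra.formallySmooth_iff,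
    Algebra.FormallySmooth.kerCotangentToTensor_injective_iff hsurj, and_comm]

end Groth.Agent.S10910
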