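import Groth.Statements.S10912
import Mathlib
import Groth.Agent.Lib.Helper20.OrdOpen

set_option autoImplicit false
universe u
open CategoryTheory CategoryTheory.Limits AlgebraicGeometry TopologicalSpace
open WDiv

namespace Groth.Agent.S10912


/-- Let X be an integral Noetherian separated scheme which is regular in codimension 1, and U a nonempty
open subscheme whose complement has codimension at least 2: every point not in U has coheight ≥ 2 in
the specialization order. Then restriction identifies the divisor class groups of X and U;
concretely, since all points of coheight 1 lie in U, a Weil divisor D on X (integer-valued function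
with finite support inside the coheight-1 points) is the divisor of a nonzero rational function on X
if and only if its restriction to U is the divisor of a nonzero rational function on U. -/
theorem result (X : Scheme.{u}) [IsIntegral X]
    [IsNoetherian X] [X.IsSeparated]
    (hR1 : ∀ x : ↥X, Order.coheight x = 1 → IsDiscreteValuationRing ↑(X.presheaf.stalk x))
    (U : X.Opens) [Nonempty U] (hcod : ∀ x : ↥X, x ∉ U → 2 ≤ Order.coheight x)
    (D : ↥X → ℤ) (hD : ∀ x, Order.coheight x ≠ 1 → D x = 0) (hfin : {x | D x ≠ 0}.Finite) :
    (∃ f : ↑X.functionField, f ≠ 0 ∧ ∀ x : ↥X, Order.coheight x = 1 → Scheme.ord f x = D x) ↔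
      ∃ g : ↑(U : Scheme.{u}).functionField, g ≠ 0 ∧
        ∀ u : ↥(U : Scheme.{u}), Order.coheight u = 1 → Scheme.ord g u = D u.1 := by

  constructor
  · rintro ⟨f, hf, hord⟩
    refine ⟨Groth.Agent.Lib.Helper20.OrdOpen.ffMap U f, (map_ne_zero _).mpr hf, fun u hu => ?_⟩
    have hx : Order.coheight (U.ι u) = 1 := by
      rw [coheight_eq_of_isOpenImmersion]; exact hu
    have := hR1 (U.ι u) hx
    rw [Groth.Agent.Lib.Helper20.OrdOpen.ord_ffMap U u hu f hf]
    exact hord (U.ι u) hx
  · rintro ⟨g, hg, hord⟩
    obtain ⟨f, rfl⟩ := Groth.Agent.Lib.Helper20.OrdOpen.ffMap_surjective U g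
    have hf : f ≠ 0 := by
      rintro rfl
      exact hg (map_zero _)
    refine ⟨f, hf, fun x hx => ?_⟩
    have hxU : x ∈ U := by
      by_contra h
      have := hcod x h
      rw [hx] at this
      norm_num at this
    obtain ⟨u, hux⟩ : ∃ u : ↥(U : Scheme.{u}), U.ι u = x := ⟨⟨x, hxU⟩, rfl⟩
    have hu : Order.coheight u = 1 := by
      rw [← coheight_eq_of_isOpenImmersion U.ι, hux]; exact hx
    have : IsDiscreteValuationRing (X.presheaf.stalk (U.ι u)) := by
      rw [hux]; exact hR1 x hx
    have h1 := Groth.Agent.Lib.Helper20.OrdOpen.ord_ffMap U u hu f hf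
    have h2 := hord u hu
    rw [h1] at h2
    have hux' : u.1 = x := hux
    rw [hux'] at h2
    rw [← h2, hux]

end Groth.Agent.S10912
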