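import Groth.Statements.S10915
import Mathlib
import Groth.Agent.Helper19.ProjDim4
import Groth.Agent.Helper19.ProjDict2
-- import your own Groth.Agent.* helpers here

set_option autoImplicit false
universe u
open ProjDeg

namespace Groth.Agent.S10915

section helpers
open MvPolynomial Groth.Agent.Helper19.ProjDim Groth.Agent.Helper19.ProjDict

variable (k : Type u) [Field k] (n : ℕ)

local notation "S" => MvPolynomial (Fin (n + 1)) k
local notation "𝒜" => CohB1.polyGrading n k
local notation "P" => ProjectiveSpectrum (CohB1.polyGrading n k)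

theorem mplus_le_of_X_mem (q : Ideal S) (h : ∀ i, (X i : S) ∈ q) : mplus k n ≤ q := by
  intro f hf
  have h1 := sub_C_mem_of_X_mem k n q h f
  rw [(mem_mplus_iff k n f).mp hf, map_zero, sub_zero] at h1
  exact h1

/-- linear form avoiding finitely many relevant primes -/
theorem exists_linear_notMem [Infinite k] (T : Set (Ideal S)) (hT : T.Finite)
    (hrel : ∀ q ∈ T, ¬ mplus k n ≤ q) :
    ∃ ℓ : S, ℓ.IsHomogeneous 1 ∧ ∀ q ∈ T, ℓ ∉ q := by
  by_contra hcon
  push Not at hcon
  haveI : Finite ↥T := hT.to_subtype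
  let V : Submodule k S := homogeneousSubmodule (Fin (n + 1)) k 1
  let p : ↥T → Subspace k ↥V := fun q => Submodule.comap V.subtype (q.1.restrictScalars k)
  have hcov : ⋃ q, (p q : Set ↥V) = Set.univ := by
    apply Set.eq_univ_of_forall
    intro ℓ
    obtain ⟨q, hqT, hq⟩ := hcon ℓ.1 ℓ.2
    exact Set.mem_iUnion.mpr ⟨⟨q, hqT⟩, hq⟩
  obtain ⟨q, hq⟩ := Subspace.exists_eq_top_of_iUnion_eq_univ hcov
  apply hrel q.1 q.2
  apply mplus_le_of_X_mem
  intro i
  have : (⟨X i, isHomogeneous_X k i⟩ : ↥V) ∈ p q := by rw [hq]; trivial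
  exact this

theorem exists_forms [Infinite k] : ∀ (s : ℕ) (J : Ideal S), J.IsHomogeneous 𝒜 →
    (∀ y : P, J ≤ y.asHomogeneousIdeal.toIdeal → Order.coheight y + 1 ≤ (s : ℕ∞)) →
    ∃ h : Fin s → S, (∀ i, (h i).IsHomogeneous 1) ∧
      ∀ y : P, ¬ (J ⊔ Ideal.span (Set.range h) ≤ y.asHomogeneousIdeal.toIdeal) := by
  intro s
  induction s with
  | zero =>
    intro J hJ hb
    refine ⟨fun i => i.elim0, fun i => i.elim0, ?_⟩
    intro y hy
    have := hb y (le_sup_left.trans hy)
    simp at this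
  | succ s ih =>
    intro J hJ hb
    obtain ⟨ℓ, hℓ1, hℓ2⟩ := exists_linear_notMem k n {q ∈ J.minimalPrimes | ¬ mplus k n ≤ q}
      ((Ideal.finite_minimalPrimes_of_isNoetherianRing S J).subset (Set.sep_subset _ _))
      (fun q hq => hq.2)
    have hℓh : (Ideal.span {ℓ}).IsHomogeneous 𝒜 := span_singleton_isHomogeneous k n ℓ 1 hℓ1
    have hJ' : (J ⊔ Ideal.span {ℓ}).IsHomogeneous 𝒜 := hJ.sup hℓh
    obtain ⟨h', hh'1, hh'2⟩ := ih (J ⊔ Ideal.span {ℓ}) hJ' (by
      intro y hy
      have hJy : J ≤ y.asHomogeneousIdeal.toIdeal := le_sup_left.trans hy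
      have hℓy : ℓ ∈ y.asHomogeneousIdeal.toIdeal :=
        hy (Ideal.mem_sup_right (Ideal.mem_span_singleton_self ℓ))
      obtain ⟨q, hq, hqy⟩ := Ideal.exists_minimalPrimes_le hJy
      have hqh := isHomogeneous_of_mem_minimalPrimes 𝒜 hJ hq
      let z := ptOfLe k n q hq.1.1 hqh y hqy
      have hzy : z ≤ y := (le_iff_ideal_le k n z y).mpr hqy
      have hℓz : ℓ ∉ q := hℓ2 q ⟨hq, z.not_irrelevant_le⟩
      have hlt : z < y := by
        apply lt_of_le_of_ne hzy
        intro h
        apply hℓz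
        have : ℓ ∈ z.asHomogeneousIdeal.toIdeal := by rw [h]; exact hℓy
        exact this
      have h1 := Order.coheight_add_one_le hlt
      have h2 := hb z hq.1.2
      have h3 : Order.coheight y + 1 + 1 ≤ (s : ℕ∞) + 1 :=
        calc Order.coheight y + 1 + 1 ≤ Order.coheight z + 1 := by gcongr
          _ ≤ (s : ℕ∞) + 1 := by push_cast at h2; exact h2
      exact (ENat.add_le_add_iff_right (by simp)).mp h3)
    refine ⟨Fin.cons ℓ h', ?_, ?_⟩
    · intro i
      refine Fin.cases ?_ ?_ i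
      · simpa using hℓ1
      · intro j
        simpa using hh'1 j
    · intro y hy
      apply hh'2 y
      rw [Fin.range_cons, Ideal.span_insert, ← sup_assoc] at hy
      exact hy

end helpers

/-- Let k be an algebraically closed field, R = k[X_0, …, X_n] graded by degree, and I a homogeneous
prime ideal with dim R/I = r + 1, so that X = V_+(I) ⊆ P^n_k is a projective variety of dimension r.
Then there are r + 1 linear forms h_1, …, h_{r+1} (homogeneous of degree 1) whose common zero set in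
P^n_k does not meet X, i.e. the ideal I + (h_1, …, h_{r+1}) contains some power of the irrelevant
ideal (X_0, …, X_n). (The published statement says that a generic linear subspace of dimension n − r
− 1 misses X; this row asserts only that one such subspace, cut out by r + 1 linear forms, exists.) -/
theorem result (k : Type u) [Field k] [IsAlgClosed k]
    (n r : ℕ) (I : Ideal (MvPolynomial (Fin (n + 1)) k)) (hIh : I.IsHomogeneous (CohB1.polyGrading n k)) [I.IsPrime]
    (hdim : ringKrullDim (MvPolynomial (Fin (n + 1)) k ⧸ I) = (r : WithBot ℕ∞) + 1) :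
    ∃ h : Fin (r + 1) → MvPolynomial (Fin (n + 1)) k, (∀ i, (h i).IsHomogeneous 1) ∧
      ∃ N : ℕ, (Ideal.span (Set.range (MvPolynomial.X : Fin (n + 1) → MvPolynomial (Fin (n + 1)) k))) ^ N ≤
        I ⊔ Ideal.span (Set.range h) := by
  classical
  have h1dim : 1 ≤ ringKrullDim (MvPolynomial (Fin (n + 1)) k ⧸ I) := by
    rw [hdim]
    exact le_add_of_nonneg_left (by exact_mod_cast (zero_le : (0 : ℕ∞) ≤ (r : ℕ∞)))
  let x : ProjectiveSpectrum (CohB1.polyGrading n k) :=
    Groth.Agent.Helper19.ProjDim.ptOfDim k n I inferInstance hIh h1dim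
  have hx := Groth.Agent.Helper19.ProjDim.dim_eq_coheight_add_one k n x
  rw [Groth.Agent.Helper19.ProjDim.ptOfDim_toIdeal, hdim] at hx
  have hx' : Order.coheight x + 1 = ((r + 1 : ℕ) : ℕ∞) := by
    have : (((r + 1 : ℕ) : ℕ∞) : WithBot ℕ∞) = ((Order.coheight x + 1 : ℕ∞) : WithBot ℕ∞) := by
      rw [← hx]
      push_cast
      rfl
    exact (WithBot.coe_injective this).symm
  obtain ⟨h, hh1, hh2⟩ := exists_forms k n (r + 1) I hIh (by
    intro y hy
    have hxy : x ≤ y := (Groth.Agent.Helper19.ProjDim.le_iff_ideal_le k n x y).mpr hy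
    rw [← hx']
    gcongr)
  refine ⟨h, hh1, ?_⟩
  have hKh : (I ⊔ Ideal.span (Set.range h)).IsHomogeneous (CohB1.polyGrading n k) :=
    hIh.sup (Ideal.homogeneous_span (CohB1.polyGrading n k) _
      (by rintro _ ⟨i, rfl⟩; exact ⟨1, hh1 i⟩))
  have hrad : Groth.Agent.Helper19.ProjDim.mplus k n ≤ (I ⊔ Ideal.span (Set.range h)).radical := by
    rw [← Ideal.sInf_minimalPrimes]
    apply le_sInf
    intro q hq
    by_contra hnot
    have hqh := Groth.Agent.Helper19.ProjDim.isHomogeneous_of_mem_minimalPrimes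
      (CohB1.polyGrading n k) hKh hq
    exact hh2 ⟨⟨q, hqh⟩, hq.1.1, hnot⟩ hq.1.2
  obtain ⟨N, hN⟩ := Ideal.exists_pow_le_of_le_radical_of_fg hrad (IsNoetherian.noetherian _)
  refine ⟨N, le_trans (Ideal.pow_right_mono ?_ N) hN⟩
  exact Ideal.span_le.mpr (by rintro _ ⟨i, rfl⟩; exact Groth.Agent.Helper19.ProjDim.X_mem_mplus k n i)

end Groth.Agent.S10915
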