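import Groth.Statements.S10918
import Groth.Agent.Lib.Helper16.Liaison5
import Groth.Agent.Lib.Helper18.SerreNormal

set_option autoImplicit false
universe u
open CInt

namespace Groth.Agent.S10918

section helpers
open CInt

theorem result_aux (k : Type u) [Field k] (n r : ℕ) (hr : r < n) (f : Fin r → MvPolynomial (Fin (n + 1)) k) (d : Fin r → ℕ)
    (hf : ∀ i, (f i).IsHomogeneous (d i)) (hd : ∀ i, 0 < d i)
    (hJ : (Ideal.span (Set.range f)).height = r)
    (hnorm : ∀ (Q : Ideal (MvPolynomial (Fin (n + 1)) k ⧸ Ideal.span (Set.range f))) [Q.IsPrime],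
      (∃ i, Ideal.Quotient.mk (Ideal.span (Set.range f)) (MvPolynomial.X i) ∉ Q) →
        IsDomain (Localization.AtPrime Q) ∧ IsIntegrallyClosed (Localization.AtPrime Q)) :
    IsDomain (MvPolynomial (Fin (n + 1)) k ⧸ Ideal.span (Set.range f)) ∧
      IsIntegrallyClosed (MvPolynomial (Fin (n + 1)) k ⧸ Ideal.span (Set.range f)) := by
  classical
  have hJhom : (Ideal.span (Set.range f)).IsHomogeneous (GrSyz.stdGr k (Fin (n + 1))) := by
    apply Ideal.homogeneous_span
    rintro _ ⟨i, rfl⟩
    refine ⟨(d i : ℤ), ?_⟩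
    rw [GrSyz.mem_stdGr_iff]
    intro m hm
    have h1 := hf i hm
    rw [Finsupp.weight_apply] at h1 ⊢
    rw [← h1]
    simp [Finsupp.sum]
  have hG : LocCoh.IsGorensteinRing (MvPolynomial (Fin (n + 1)) k ⧸ Ideal.span (Set.range f)) :=
    Groth.Agent.Lib.Helper16.Liaison.isGorensteinRing_quot_span_range r f hJ
  have hS2 : LocCoh.HasSk 2 (MvPolynomial (Fin (n + 1)) k ⧸ Ideal.span (Set.range f))
      (MvPolynomial (Fin (n + 1)) k ⧸ Ideal.span (Set.range f)) :=
    Groth.Agent.Lib.Helper16.Liaison.hasSk_of_isGorensteinRing _ 2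
  have hJtop : Ideal.span (Set.range f) ≠ ⊤ := by
    intro h
    rw [h, Ideal.height_top] at hJ
    exact ENat.top_ne_natCast _ hJ
  have hJirr : Ideal.span (Set.range f) ≤ Groth.Agent.Lib.Helper16.Liaison.irr k (n + 1) :=
    Groth.Agent.Lib.Helper16.Liaison.le_irr_of_isHomogeneous hJhom hJtop
  have hsurj : Function.Surjective (Ideal.Quotient.mk (Ideal.span (Set.range f))) :=
    Ideal.Quotient.mk_surjective
  have hmprime : ((Groth.Agent.Lib.Helper16.Liaison.irr k (n + 1)).map (Ideal.Quotient.mk (Ideal.span (Set.range f)))).IsPrime :=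
    Ideal.map_isPrime_of_surjective hsurj (by rwa [Ideal.mk_ker])
  -- the vertex has height at least two
  have hvertex : (2 : WithBot ℕ∞) ≤ ringKrullDim (Localization.AtPrime
      ((Groth.Agent.Lib.Helper16.Liaison.irr k (n + 1)).map (Ideal.Quotient.mk (Ideal.span (Set.range f))))) := by
    obtain ⟨P, hP, hPm⟩ := Ideal.exists_minimalPrimes_le hJirr
    have h1 := Groth.Agent.Lib.Helper16.Liaison.height_add_eq_of_mem_minimalPrimes k (MvPolynomial (Fin (n + 1)) k)
      (Ideal.span (Set.range f)) (Groth.Agent.Lib.Helper16.Liaison.irr k (n + 1)) hP hPm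
    have h2 : P.height = r := Groth.Agent.Lib.Helper16.Liaison.height_eq_of_mem_minimalPrimes_span_range r f hJ hP
    have h3 : ringKrullDim (MvPolynomial (Fin (n + 1)) k) = ((n + 1 : ℕ) : WithBot ℕ∞) := by
      rw [MvPolynomial.ringKrullDim_of_isNoetherianRing, ringKrullDim_eq_zero_of_field]
      simp
    rw [h2, h3] at h1
    generalize ringKrullDim (Localization.AtPrime
      ((Groth.Agent.Lib.Helper16.Liaison.irr k (n + 1)).map (Ideal.Quotient.mk (Ideal.span (Set.range f))))) = x at h1 ⊢
    induction x using WithBot.recBotCoe with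
    | bot =>
      rw [WithBot.add_bot] at h1
      exact absurd h1.symm (WithBot.natCast_ne_bot _)
    | coe x =>
      induction x using ENat.recTopCoe with
      | top =>
        exact_mod_cast le_top
      | coe x =>
        have h4 : r + x = n + 1 := by exact_mod_cast h1
        have h5 : 2 ≤ x := by omega
        have h6 : (2 : ℕ∞) ≤ (x : ℕ∞) := by exact_mod_cast h5
        exact WithBot.coe_le_coe.mpr h6
  have hvertex' : ((2 : ℕ∞) : WithBot ℕ∞) ≤ ((((Groth.Agent.Lib.Helper16.Liaison.irr k (n + 1)).map
      (Ideal.Quotient.mk (Ideal.span (Set.range f)))).height : ℕ∞) : WithBot ℕ∞) := by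
    rw [← IsLocalization.AtPrime.ringKrullDim_eq_height ((Groth.Agent.Lib.Helper16.Liaison.irr k (n + 1)).map
      (Ideal.Quotient.mk (Ideal.span (Set.range f)))) (Localization.AtPrime ((Groth.Agent.Lib.Helper16.Liaison.irr k (n + 1)).map
      (Ideal.Quotient.mk (Ideal.span (Set.range f)))))]
    exact hvertex
  have hR1 : LocCoh.HasRk 1 (MvPolynomial (Fin (n + 1)) k ⧸ Ideal.span (Set.range f)) := by
    intro Q hQ hQht
    by_cases hex : ∃ i, Ideal.Quotient.mk (Ideal.span (Set.range f)) (MvPolynomial.X i) ∉ Q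
    · obtain ⟨hdom, hic⟩ := hnorm Q hex
      refine Groth.Agent.Lib.Helper18.Serre.isRegularLocalRing_of_isIntegrallyClosed_of_dim_le_one _ ?_
      rw [IsLocalization.AtPrime.ringKrullDim_eq_height Q (Localization.AtPrime Q)]
      exact_mod_cast hQht
    · exfalso
      push Not at hex
      have hle : Groth.Agent.Lib.Helper16.Liaison.irr k (n + 1) ≤ Q.comap (Ideal.Quotient.mk (Ideal.span (Set.range f))) := by
        intro p hp
        have hp' : p ∈ MvPolynomial.idealOfVars (Fin (n + 1)) k := by
          rw [← pow_one (MvPolynomial.idealOfVars (Fin (n + 1)) k),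
            MvPolynomial.mem_pow_idealOfVars_iff']
          intro x hx
          have hx0 : x = 0 := by
            have : Finsupp.degree x = 0 := by omega
            exact (Finsupp.degree_eq_zero_iff x).mp this
          rw [hx0]
          exact hp
        have hsp : MvPolynomial.idealOfVars (Fin (n + 1)) k ≤
            Q.comap (Ideal.Quotient.mk (Ideal.span (Set.range f))) := by
          rw [Ideal.span_le]
          rintro _ ⟨i, rfl⟩
          exact hex i
        exact hsp hp'
      have hcomap_prime : (Q.comap (Ideal.Quotient.mk (Ideal.span (Set.range f)))).IsPrime :=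
        Ideal.comap_isPrime _ _
      have heq : Groth.Agent.Lib.Helper16.Liaison.irr k (n + 1) = Q.comap (Ideal.Quotient.mk (Ideal.span (Set.range f))) :=
        (Groth.Agent.Lib.Helper16.Liaison.irr_isMaximal k (n + 1)).eq_of_le hcomap_prime.ne_top hle
      have hQeq : Q = (Groth.Agent.Lib.Helper16.Liaison.irr k (n + 1)).map (Ideal.Quotient.mk (Ideal.span (Set.range f))) := by
        rw [heq, Ideal.map_comap_of_surjective _ hsurj]
      rw [hQeq] at hQht
      have h6 : (2 : ℕ∞) ≤ ((1 : ℕ) : ℕ∞) := le_trans (WithBot.coe_le_coe.mp hvertex') hQht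
      have h7 : (2 : ℕ) ≤ 1 := by exact_mod_cast h6
      omega
  have hloc := (Groth.Agent.Lib.Helper18.Serre.serre_criterion_normal
    (MvPolynomial (Fin (n + 1)) k ⧸ Ideal.span (Set.range f))).mpr ⟨hR1, hS2⟩
  have hred : IsReduced (MvPolynomial (Fin (n + 1)) k ⧸ Ideal.span (Set.range f)) :=
    Groth.Agent.Lib.Helper18.Serre.isReduced_of_R1_S2 hR1 hS2
  have hdomv := (hloc ((Groth.Agent.Lib.Helper16.Liaison.irr k (n + 1)).map
    (Ideal.Quotient.mk (Ideal.span (Set.range f))))).1
  -- the kernel of localization at the vertex, pulled back to the polynomial ring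
  have hbotprime : (⊥ : Ideal (Localization.AtPrime ((Groth.Agent.Lib.Helper16.Liaison.irr k (n + 1)).map
      (Ideal.Quotient.mk (Ideal.span (Set.range f)))))).IsPrime := Ideal.isPrime_bot
  set p0 : Ideal (MvPolynomial (Fin (n + 1)) k) :=
    ((⊥ : Ideal (Localization.AtPrime ((Groth.Agent.Lib.Helper16.Liaison.irr k (n + 1)).map
      (Ideal.Quotient.mk (Ideal.span (Set.range f)))))).comap (algebraMap _ _)).comap
      (Ideal.Quotient.mk (Ideal.span (Set.range f))) with hp0
  have hp0prime : p0.IsPrime := Ideal.comap_isPrime _ _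
  have hJp0 : Ideal.span (Set.range f) ≤ p0 := by
    intro x hx
    rw [hp0, Ideal.mem_comap, Ideal.Quotient.eq_zero_iff_mem.mpr hx]
    exact Ideal.zero_mem _
  have hall : ∀ P ∈ (Ideal.span (Set.range f)).minimalPrimes, P = p0 := by
    intro P hP
    have hPirr : P ≤ Groth.Agent.Lib.Helper16.Liaison.irr k (n + 1) := Groth.Agent.Lib.Helper16.Liaison.le_irr_of_mem_minimalPrimes hJhom hP
    have hPp : P.IsPrime := hP.1.1
    have hle : p0 ≤ P := by
      intro s hs
      rw [hp0, Ideal.mem_comap, Ideal.mem_comap, Ideal.mem_bot,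
        IsLocalization.map_eq_zero_iff ((Groth.Agent.Lib.Helper16.Liaison.irr k (n + 1)).map
          (Ideal.Quotient.mk (Ideal.span (Set.range f)))).primeCompl] at hs
      obtain ⟨⟨t', ht'⟩, hts⟩ := hs
      obtain ⟨t, rfl⟩ := hsurj t'
      have htirr : t ∉ Groth.Agent.Lib.Helper16.Liaison.irr k (n + 1) := fun h => ht' (Ideal.mem_map_of_mem _ h)
      have htsJ : t * s ∈ Ideal.span (Set.range f) := by
        rw [← Ideal.Quotient.eq_zero_iff_mem, map_mul]
        exact hts
      rcases hPp.mem_or_mem (hP.1.2 htsJ) with h | h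
      · exact absurd (hPirr h) htirr
      · exact h
    exact le_antisymm (hP.2 ⟨hp0prime, hJp0⟩ hle) hle
  have hJrad : (Ideal.span (Set.range f)).radical = Ideal.span (Set.range f) := by
    exact ((Ideal.isRadical_iff_quotient_reduced _).mpr hred).radical
  have hJeq : Ideal.span (Set.range f) = p0 := by
    rw [← hJrad, ← Ideal.sInf_minimalPrimes]
    obtain ⟨P, hP, -⟩ := Ideal.exists_minimalPrimes_le hJirr
    apply le_antisymm
    · exact (sInf_le hP).trans (hall P hP).le
    · apply le_sInf
      intro P' hP'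
      rw [hall P' hP']
  have hJprime : (Ideal.span (Set.range f)).IsPrime := hJeq ▸ hp0prime
  have hdom : IsDomain (MvPolynomial (Fin (n + 1)) k ⧸ Ideal.span (Set.range f)) :=
    Ideal.Quotient.isDomain _
  exact ⟨hdom, Groth.Agent.Lib.Helper18.Serre.isIntegrallyClosed_of_isDomain_of_R1_S2 hR1 hS2⟩

end helpers

/-- Let k be a field, S = k[x_0, …, x_n], and f_1, …, f_r with r < n homogeneous polynomials of positive
degrees whose ideal J has height r, so that Y = V_+(J) ⊆ P^n_k is a global complete intersection of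
dimension n − r ≥ 1 with homogeneous coordinate ring S' = S/J. Suppose Y is normal, expressed on the
affine cone: for every prime ideal Q of S' not containing all the classes of the x_i (every point of
the cone Spec S' other than the vertex), the localization S'_Q is an integrally closed domain. Then
S' is an integrally closed domain, i.e. Y is projectively normal. -/
theorem result
    (k : Type u) [Field k] (n r : ℕ) (hr : r < n) (f : Fin r → MvPolynomial (Fin (n + 1)) k) (d : Fin r → ℕ)
    (hf : ∀ i, (f i).IsHomogeneous (d i)) (hd : ∀ i, 0 < d i)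
    (hJ : (Ideal.span (Set.range f)).height = r)
    (hnorm : ∀ (Q : Ideal (MvPolynomial (Fin (n + 1)) k ⧸ Ideal.span (Set.range f))) [Q.IsPrime],
      (∃ i, Ideal.Quotient.mk (Ideal.span (Set.range f)) (MvPolynomial.X i) ∉ Q) →
        IsDomain (Localization.AtPrime Q) ∧ IsIntegrallyClosed (Localization.AtPrime Q)) :
    IsDomain (MvPolynomial (Fin (n + 1)) k ⧸ Ideal.span (Set.range f)) ∧
      IsIntegrallyClosed (MvPolynomial (Fin (n + 1)) k ⧸ Ideal.span (Set.range f)) := by
  exact result_aux k n r hr f d hf hd hJ hnorm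

end Groth.Agent.S10918
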