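import Groth.Statements.S10926
import Groth.Agent.S10925
import Groth.Agent.Lib.Helper22.EGA7.InvLift

set_option autoImplicit false
universe u
open CategoryTheory CategoryTheory.Limits AlgebraicGeometry
open PicF

namespace Groth.Agent.S10926


/-- Let k be an algebraically closed field, Y an integral scheme of finite type over k, f : X → Y flat
and projective (f = i ≫ pr for a closed immersion i : X → P^n_Y) with every fibre X_y integral, and
L, M invertible O_X-modules whose pullbacks to each fibre X_y are isomorphic. Then there is an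
invertible O_Y-module E with L ≅ M ⊗ f^*E. -/
theorem result (k : Type u) [Field k] [IsAlgClosed k]
    {X Y : Scheme.{u}} (g : Y ⟶ Spec (CommRingCat.of k)) [LocallyOfFiniteType g] [QuasiCompact g]
    [IsIntegral Y] (n : ℕ) (i : X ⟶ CohB1.ProjSpaceOver n Y) [IsClosedImmersion i]
    (f : X ⟶ Y) (hf : f = i ≫ CohB1.ProjSpaceOver.toBase n Y) [Flat f]
    (hint : ∀ y : Y, IsIntegral (f.fiber y))
    (L M : X.Modules) (hL : PicF.IsInvertible L) (hM : PicF.IsInvertible M)
    (hLM : ∀ y : Y, Nonempty ((Scheme.Modules.pullback (f.fiberι y)).obj L ≅ (Scheme.Modules.pullback (f.fiberι y)).obj M)) :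
    ∃ E : Y.Modules, PicF.IsInvertible E ∧
      Nonempty (L ≅ CohB1.tensorMod M ((Scheme.Modules.pullback f).obj E)) := by
  open Groth.Agent.Lib.Helper22.EGA7 Groth.Agent.Lib.Helper29.QCoh in
  let N : X.Modules := CohB1.tensorMod (RefHull.homSh M (unitM X)) L
  have hN : PicF.IsInvertible N := isInvertible_tensorMod (Dual.isInvertible_dual hM) hL
  have htriv : ∀ y : Y, Nonempty ((Scheme.Modules.pullback (f.fiberι y)).obj N ≅
      Coh.structureModule (f.fiber y)) := by
    intro y
    obtain ⟨e⟩ := hLM y
    exact nonempty_pullback_dual_tensor_iso_unit (f.fiberι y) hM hL e.symm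
  obtain ⟨hinv, hiso⟩ := Groth.Agent.S10925.result k g n i f hf hint N hN htriv
  refine ⟨(Scheme.Modules.pushforward f).obj N, hinv, ⟨?_⟩⟩
  exact (tensorDualCancel hM L).symm ≪≫ tensorCongr (Iso.refl M)
    (asIso ((Scheme.Modules.pullbackPushforwardAdjunction f).counit.app N)).symm

end Groth.Agent.S10926
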