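import Mathlib
import Groth.Statements.S10929
-- import your own Groth.Agent.* helpers here

set_option autoImplicit false
universe u
open CategoryTheory CategoryTheory.Limits AlgebraicGeometry
open Variety

namespace Groth.Agent.S10929

/-- Let k be an algebraically closed field of characteristic zero, X and Y integral schemes of finite
type over k and f : X → Y a dominant k-morphism. Then there is a nonempty open subscheme U of X such
that f restricted to U is a smooth morphism U → Y. -/
theorem result (k : Type u) [Field k] [IsAlgClosed k] [CharZero k]
    {X Y : Scheme.{u}} (qX : X ⟶ Spec (CommRingCat.of k)) (qY : Y ⟶ Spec (CommRingCat.of k))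
    [LocallyOfFiniteType qX] [QuasiCompact qX] [LocallyOfFiniteType qY] [QuasiCompact qY]
    [IsIntegral X] [IsIntegral Y] (f : X ⟶ Y) (hf : f ≫ qY = qX) (hdom : DenseRange f.base) :
    ∃ U : X.Opens, (U : Set ↥X).Nonempty ∧ Smooth (U.ι ≫ f) := by
  have hft : LocallyOfFiniteType f := by
    have : LocallyOfFiniteType (f ≫ qY) := hf ▸ inferInstance
    exact locallyOfFiniteType_of_comp f qY
  have : IsLocallyNoetherian Y := LocallyOfFiniteType.isLocallyNoetherian qY
  have hfp : LocallyOfFinitePresentation f := inferInstance
  refine ⟨f.smoothLocus, ⟨genericPoint X, ?_⟩, ?_⟩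
  · set η := genericPoint X with hηdef
    have hη : closure {f η} = Set.univ := by
      have := (genericPoint_spec X).image f.continuous
      rw [Set.image_univ] at this
      have h2 : closure (Set.range f) = Set.univ := hdom.closure_range
      rw [h2] at this
      exact this
    have hfield : IsField (Y.presheaf.stalk (f η)) :=
      isField_stalk_of_closure_mem_irreducibleComponents Y _
        (by rw [hη]; simp [irreducibleComponents_eq_singleton])
    have hess := LocallyOfFiniteType.stalkMap f η
    change (f.stalkMap η).hom.FormallySmooth
    algebraize [(f.stalkMap η).hom]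
    let _ : Field (Y.presheaf.stalk (f η)) := hfield.toField
    have : CharZero (Y.presheaf.stalk (f η)) := by
      let φ : k →+* Y.presheaf.stalk (f η) :=
        (CommRingCat.Hom.hom (Y.presheaf.germ ⊤ (f η) trivial)).comp
          ((CommRingCat.Hom.hom qY.appTop).comp
            (CommRingCat.Hom.hom (Scheme.ΓSpecIso (CommRingCat.of k)).inv))
      exact charZero_of_injective_ringHom φ.injective
    exact Algebra.FormallySmooth.of_perfectField
  · rw [← Scheme.Hom.smoothLocus_eq_top_iff, ← Scheme.Hom.preimage_smoothLocus_eq]
    simp

end Groth.Agent.S10929
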