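import Mathlib
import Groth.Statements.S10930
import Groth.Agent.Lib.Helper4.GenericSmooth

set_option autoImplicit false
universe u
open CategoryTheory CategoryTheory.Limits AlgebraicGeometry
open Variety

namespace Groth.Agent.S10930

/-- Let k be an algebraically closed field of characteristic zero, X and Y varieties over k (integral,
separated and of finite type over k) with X nonsingular, i.e. smooth over k, and f : X → Y a
k-morphism. Then there is a nonempty open subscheme V of Y such that the restriction f⁻¹(V) → V of f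
is smooth. -/
theorem result (k : Type u) [Field k] [IsAlgClosed k] [CharZero k]
    {X Y : Scheme.{u}} (qX : X ⟶ Spec (CommRingCat.of k)) (qY : Y ⟶ Spec (CommRingCat.of k))
    [LocallyOfFiniteType qX] [QuasiCompact qX] [IsSeparated qX] [Smooth qX]
    [LocallyOfFiniteType qY] [QuasiCompact qY] [IsSeparated qY]
    [IsIntegral X] [IsIntegral Y] (f : X ⟶ Y) (hf : f ≫ qY = qX) :
    ∃ V : Y.Opens, (V : Set ↥Y).Nonempty ∧ Smooth (f ∣_ V) := by
  subst hf
  have hft : LocallyOfFiniteType f := locallyOfFiniteType_of_comp f qY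
  have : IsLocallyNoetherian Y := LocallyOfFiniteType.isLocallyNoetherian qY
  have : IsLocallyNoetherian X := LocallyOfFiniteType.isLocallyNoetherian (f ≫ qY)
  have : CompactSpace X := QuasiCompact.compactSpace_of_compactSpace (f ≫ qY)
  have : IsNoetherian X := {}
  have hfp : LocallyOfFinitePresentation f := inferInstance
  have hA : ∀ x : X, f x = genericPoint Y → x ∈ f.smoothLocus := fun x hx =>
    Groth.Agent.Lib.Helper4.mem_smoothLocus_of_eq_genericPoint k qY f x hx
  have hB := Groth.Agent.Lib.Helper4.not_mem_closure_image_compl_of_fibre_subset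
    f.continuous (genericPoint_spec Y) f.smoothLocus.isOpen hA
  let V : Y.Opens := ⟨(closure (f '' (f.smoothLocus : Set X)ᶜ))ᶜ, isClosed_closure.isOpen_compl⟩
  refine ⟨V, ⟨genericPoint Y, hB⟩, ?_⟩
  have hle : f ⁻¹ᵁ V ≤ f.smoothLocus := by
    intro x hxV
    by_contra hx
    exact hxV (subset_closure ⟨x, hx, rfl⟩)
  have h1 : Smooth ((f ⁻¹ᵁ V).ι ≫ f) := by
    rw [← Scheme.Hom.smoothLocus_eq_top_iff, ← Scheme.Hom.preimage_smoothLocus_eq, eq_top_iff]
    intro x _
    exact hle x.2
  have h2 : Smooth ((f ∣_ V) ≫ V.ι) := by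
    rw [morphismRestrict_ι]; exact h1
  exact MorphismProperty.of_postcomp (W := @Smooth) (W' := @IsOpenImmersion) (f ∣_ V) V.ι
    inferInstance h2

end Groth.Agent.S10930
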