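import Groth.Statements.S10932
import Groth.Agent.Lib.Helper4.ExtRing

set_option autoImplicit false
universe u
open CategoryTheory
open CAlg

namespace Groth.Agent.S10932

theorem result (A : Type u) [CommRing A] [IsRegularLocalRing A]
    (n : ℕ) (hn : ringKrullDim A = n) (M : Type u) [AddCommGroup M] [Module A M] [Module.Finite A M]
    (h : ∀ j : ℕ, 1 ≤ j → j ≤ n →
      Subsingleton (Abelian.Ext (ModuleCat.of A M) (ModuleCat.of A A) j)) :
    Module.Free A M := by
  have hserre : HasProjectiveDimensionLT (ModuleCat.of A M) (n + 1) :=
    Groth.Agent.Lib.Helper4.hasProjectiveDimensionLT_of_isRegularLocalRing_of_finite A n hn M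
  have key : ∀ k : ℕ, k ≤ n → HasProjectiveDimensionLT (ModuleCat.of A M) (n - k + 1) := by
    intro k
    induction k with
    | zero => intro _; simpa using hserre
    | succ k ih =>
      intro hk
      have h1 := ih (by omega)
      have h2 : n - k + 1 = (n - (k + 1)) + 2 := by omega
      rw [h2] at h1
      exact Groth.Agent.Lib.Helper4.hasProjectiveDimensionLT_of_ext_self_subsingleton A M
        (n - (k + 1)) h1 (h _ (by omega) (by omega))
  have h0 := key n le_rfl
  rw [Nat.sub_self, zero_add, ← projective_iff_hasProjectiveDimensionLT_one] at h0
  have hproj : Module.Projective A M := (ModuleCat.of A M).projective_of_module_projective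
  exact Module.free_of_flat_of_isLocalRing

end Groth.Agent.S10932
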