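import Groth.Statements.S10933
import Groth.Agent.Lib.Helper4.ExtRing

set_option autoImplicit false
universe u
open CategoryTheory
open CAlg

namespace Groth.Agent.S10933

theorem result (A : Type u) [CommRing A] [IsRegularLocalRing A]
    (M : Type u) [AddCommGroup M] [Module A M] [Module.Finite A M] (d : ℕ) :
    projectiveDimension (ModuleCat.of A M) = (d : WithBot ℕ∞) ↔
      ((∀ j : ℕ, d < j → Subsingleton (Abelian.Ext (ModuleCat.of A M) (ModuleCat.of A A) j)) ∧
        Nontrivial (Abelian.Ext (ModuleCat.of A M) (ModuleCat.of A A) d)) := by
  constructor
  · intro hpd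
    have hle : HasProjectiveDimensionLT (ModuleCat.of A M) (d + 1) :=
      (projectiveDimension_le_iff _ d).mp hpd.le
    refine ⟨fun j hj => HasProjectiveDimensionLT.subsingleton _ (d + 1) j hj _, ?_⟩
    by_contra hnt
    rw [not_nontrivial_iff_subsingleton] at hnt
    cases d with
    | zero =>
      have h0 : projectiveDimension (ModuleCat.of A M) = 0 := by exact_mod_cast hpd
      obtain ⟨hproj, hnz⟩ := (projectiveDimension_eq_zero_iff _).mp h0
      have hproj' : Module.Projective A M := (ModuleCat.of A M).projective_of_module_projective
      have hfree : Module.Free A M := Module.free_of_flat_of_isLocalRing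
      have hnt' : Nontrivial M := by
        by_contra hcon
        rw [not_nontrivial_iff_subsingleton] at hcon
        exact hnz (ModuleCat.isZero_of_subsingleton _)
      let b := Module.Free.chooseBasis A M
      have hne : Nonempty (Module.Free.ChooseBasisIndex A M) := b.index_nonempty
      obtain ⟨i⟩ := hne
      have hsub : Subsingleton (ModuleCat.of A M ⟶ ModuleCat.of A A) :=
        Abelian.Ext.homEquiv₀.symm.subsingleton
      have h1 : ModuleCat.ofHom (b.coord i) = 0 := Subsingleton.elim _ _
      have h2 : b.coord i (b i) = 0 := by
        have := congrArg (fun f => f.hom (b i)) h1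
        simpa using this
      rw [Module.Basis.coord_apply, Module.Basis.repr_self, Finsupp.single_eq_same] at h2
      exact one_ne_zero h2
    | succ p =>
      have h1 : HasProjectiveDimensionLT (ModuleCat.of A M) (p + 1) :=
        Groth.Agent.Lib.Helper4.hasProjectiveDimensionLT_of_ext_self_subsingleton A M p hle hnt
      have h2 := projectiveDimension_lt_iff.mpr h1
      rw [hpd] at h2
      exact lt_irrefl _ h2
  · rintro ⟨hvan, hnt⟩
    have hsf : ((IsLocalRing.maximalIdeal A).spanFinrank : WithBot ℕ∞) = ringKrullDim A :=
      IsRegularLocalRing.spanFinrank_maximalIdeal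
    set n := (IsLocalRing.maximalIdeal A).spanFinrank with hn
    have hserre : HasProjectiveDimensionLT (ModuleCat.of A M) (n + 1) :=
      Groth.Agent.Lib.Helper4.hasProjectiveDimensionLT_of_isRegularLocalRing_of_finite A n
        hsf.symm M
    have hle : HasProjectiveDimensionLT (ModuleCat.of A M) (d + 1) := by
      by_cases hnd : n ≤ d
      · exact hasProjectiveDimensionLT_of_ge _ (n + 1) (d + 1) (by omega)
      · have key : ∀ k : ℕ, k ≤ n - d →
            HasProjectiveDimensionLT (ModuleCat.of A M) (n - k + 1) := by
          intro k
          induction k with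
          | zero => intro _; simpa using hserre
          | succ k ih =>
            intro hk
            have h1 := ih (by omega)
            have h2 : n - k + 1 = (n - (k + 1)) + 2 := by omega
            rw [h2] at h1
            exact Groth.Agent.Lib.Helper4.hasProjectiveDimensionLT_of_ext_self_subsingleton A M
              (n - (k + 1)) h1 (hvan _ (by omega))
        have := key (n - d) le_rfl
        have h3 : n - (n - d) + 1 = d + 1 := by omega
        rwa [h3] at this
    apply le_antisymm
    · exact (projectiveDimension_le_iff _ d).mpr hle
    · rw [projectiveDimension_ge_iff]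
      intro hlt
      have : Subsingleton (Abelian.Ext (ModuleCat.of A M) (ModuleCat.of A A) d) :=
        HasProjectiveDimensionLT.subsingleton _ d d le_rfl _
      exact not_subsingleton _ this

end Groth.Agent.S10933
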