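import Groth.Statements.S10936
import Groth.Agent.Lib.Helper25.FibreDimRank4
import Groth.Agent.Lib.Helper25.CotangentSmooth
import Groth.Agent.Lib.Helper13.SurjectiveDescent

set_option autoImplicit false
universe u
open CategoryTheory CategoryTheory.Limits AlgebraicGeometry
open Variety

namespace Groth.Agent.S10936

/-- (a)⇔(c): let k be an algebraically closed field, X and Y nonsingular varieties over k (integral,
separated, of finite type and smooth over k) with dim Y = dY and dim X = dY + n, and f : X → Y a
k-morphism. Then f is smooth of relative dimension n if and only if for every closed point x of X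
the tangent map T_x f : T_x X → T_{f(x)} Y is surjective — equivalently, the cotangent map
m_{f(x)}/m_{f(x)}^2 → m_x/m_x^2 of the local rings is injective. -/
theorem result (k : Type u) [Field k] [IsAlgClosed k]
    {X Y : Scheme.{u}} (qX : X ⟶ Spec (CommRingCat.of k)) (qY : Y ⟶ Spec (CommRingCat.of k))
    [IsIntegral X] [IsSeparated qX] [LocallyOfFiniteType qX] [QuasiCompact qX] [Smooth qX]
    [IsIntegral Y] [IsSeparated qY] [LocallyOfFiniteType qY] [QuasiCompact qY] [Smooth qY]
    (f : X ⟶ Y) (hf : f ≫ qY = qX) (n dY : ℕ) (hY : topologicalKrullDim ↥Y = dY)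
    (hX : topologicalKrullDim ↥X = ((dY + n : ℕ) : WithBot ℕ∞)) :
    SmoothOfRelativeDimension n f ↔
      ∀ x : X, IsClosed ({x} : Set ↥X) → Function.Injective (FixPt.cotangentMapAt f x (f.base x) rfl) := by
  subst hf
  haveI : IsSeparated f := IsSeparated.of_comp f qY
  haveI : LocallyOfFinitePresentation f :=
    Groth.Agent.Lib.Helper13.locallyOfFinitePresentation_of_comp f qY
  haveI hsY : SmoothOfRelativeDimension dY qY :=
    Groth.Agent.Lib.Helper25.SmoothRelDimRank.smoothOfRelativeDimension_of_isIntegral qY dY hY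
  haveI hsX : SmoothOfRelativeDimension (dY + n) (f ≫ qY) :=
    Groth.Agent.Lib.Helper25.SmoothRelDimRank.smoothOfRelativeDimension_of_isIntegral (f ≫ qY)
      (dY + n) hX
  constructor
  · intro hsm x hx
    haveI : Smooth f := SmoothOfRelativeDimension.smooth n f
    rw [← Groth.Agent.Lib.Helper25.CotangentSmooth.mem_smoothLocus_iff_cotangentMapAt_injective
      f qY x hx, Scheme.Hom.smoothLocus_eq_top]
    trivial
  · intro hinj
    haveI : Smooth f := by
      rw [← Scheme.Hom.smoothLocus_eq_top_iff, ← TopologicalSpace.Opens.coe_eq_univ,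
        ← not_ne_iff, ← Set.nonempty_compl]
      intro H
      haveI : JacobsonSpace ↥X := LocallyOfFiniteType.jacobsonSpace (f ≫ qY)
      obtain ⟨g, hg, hgc⟩ := nonempty_inter_closedPoints H
        f.smoothLocus.2.isClosed_compl.isLocallyClosed
      exact hg ((Groth.Agent.Lib.Helper25.CotangentSmooth.mem_smoothLocus_iff_cotangentMapAt_injective
        f qY g hgc).mpr (hinj g hgc))
    refine Groth.Agent.Lib.Helper25.FibreDimRank.smoothOfRelativeDimension_of_fibreDimAt_eq f n ?_
    intro x
    obtain ⟨m, V, hxV, hm⟩ :=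
      Groth.Agent.Lib.Helper25.FibreDimRank.exists_opens_smoothOfRelativeDimension f x
    have e1 := Groth.Agent.Lib.Helper25.FibreDimRank.fibreDimAt_comp_of_smooth f qY x
    rw [Groth.Agent.Lib.Helper25.FibreDimRank.fibreDimAt_eq_of_smoothOfRelativeDimension (dY + n)
      (f ≫ qY),
      Groth.Agent.Lib.Helper25.FibreDimRank.fibreDimAt_eq_of_smoothOfRelativeDimension dY qY] at e1
    let x' : V.toScheme := ⟨x, hxV⟩
    have e2 := Groth.Agent.Lib.Helper6.EtaleSq.fibreDimAt_etale_square f (V.ι ≫ f) V.ι (𝟙 Y)
      (by rw [Category.comp_id]) x'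
    have e3 : V.ι x' = x := rfl
    rw [e3, Groth.Agent.Lib.Helper25.FibreDimRank.fibreDimAt_eq_of_smoothOfRelativeDimension m
      (V.ι ≫ f)] at e2
    rw [e2] at e1 ⊢
    have : dY + n = m + dY := by exact_mod_cast e1
    have : m = n := by omega
    rw [this]


end Groth.Agent.S10936
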