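import Groth.Statements.S10937
import Groth.Agent.Lib.Helper25.FibreDimRank4
import Groth.Agent.S5005

set_option autoImplicit false
universe u
open CategoryTheory CategoryTheory.Limits AlgebraicGeometry
open Variety

namespace Groth.Agent.S10937

/-- (a)⇔(b): let k be an algebraically closed field, X and Y nonsingular varieties over k (integral,
separated, of finite type and smooth over k) with dim Y = dY and dim X = dY + n, and f : X → Y a
k-morphism. Then f is smooth of relative dimension n if and only if Ω_{X/Y} (the conormal sheaf of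
the diagonal of f) is locally free of rank n. -/
theorem result (k : Type u) [Field k] [IsAlgClosed k]
    {X Y : Scheme.{u}} (qX : X ⟶ Spec (CommRingCat.of k)) (qY : Y ⟶ Spec (CommRingCat.of k))
    [IsIntegral X] [IsSeparated qX] [LocallyOfFiniteType qX] [QuasiCompact qX] [Smooth qX]
    [IsIntegral Y] [IsSeparated qY] [LocallyOfFiniteType qY] [QuasiCompact qY] [Smooth qY]
    (f : X ⟶ Y) (hf : f ≫ qY = qX) (n dY : ℕ) (hY : topologicalKrullDim ↥Y = dY)
    (hX : topologicalKrullDim ↥X = ((dY + n : ℕ) : WithBot ℕ∞)) :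
    SmoothOfRelativeDimension n f ↔ FlatMod.IsFinLocFreeOfRank n (Omega.sheaf f) := by
  subst hf
  haveI : IsSeparated f := IsSeparated.of_comp f qY
  have hd : OmegaSh.IsUniversal (OmegaSh.dOmega f) := Groth.Agent.S5005.result f
  haveI hsY : SmoothOfRelativeDimension dY qY :=
    Groth.Agent.Lib.Helper25.SmoothRelDimRank.smoothOfRelativeDimension_of_isIntegral qY dY hY
  haveI hsX : SmoothOfRelativeDimension (dY + n) (f ≫ qY) :=
    Groth.Agent.Lib.Helper25.SmoothRelDimRank.smoothOfRelativeDimension_of_isIntegral (f ≫ qY)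
      (dY + n) hX
  constructor
  · intro hsm
    haveI : Smooth f := SmoothOfRelativeDimension.smooth n f
    intro x
    obtain ⟨U, m, hxU, hiso, hm⟩ :=
      Groth.Agent.Lib.Helper25.FibreDimRank.exists_free_of_universal f _ _ hd x
    rw [Groth.Agent.Lib.Helper25.FibreDimRank.fibreDimAt_eq_of_smoothOfRelativeDimension n f x] at hm
    have hnm : n = m := by exact_mod_cast hm
    subst hnm
    exact ⟨U, hxU, hiso⟩
  · intro hfree
    haveI : Smooth f := by
      refine Groth.Agent.Lib.Helper25.FibreDimRank.smooth_of_isFinLocFreeOfRank qY f _ _ hd n hfree ?_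
      intro x
      rw [Groth.Agent.Lib.Helper25.FibreDimRank.fibreDimAt_eq_of_smoothOfRelativeDimension (dY + n)
        (f ≫ qY),
        Groth.Agent.Lib.Helper25.FibreDimRank.fibreDimAt_eq_of_smoothOfRelativeDimension dY qY]
      push_cast
      rfl
    refine Groth.Agent.Lib.Helper25.FibreDimRank.smoothOfRelativeDimension_of_fibreDimAt_eq f n ?_
    intro x
    obtain ⟨m, V, hxV, hm⟩ :=
      Groth.Agent.Lib.Helper25.FibreDimRank.exists_opens_smoothOfRelativeDimension f x
    have e1 := Groth.Agent.Lib.Helper25.FibreDimRank.fibreDimAt_comp_of_smooth f qY x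
    rw [Groth.Agent.Lib.Helper25.FibreDimRank.fibreDimAt_eq_of_smoothOfRelativeDimension (dY + n)
      (f ≫ qY),
      Groth.Agent.Lib.Helper25.FibreDimRank.fibreDimAt_eq_of_smoothOfRelativeDimension dY qY] at e1
    let x' : V.toScheme := ⟨x, hxV⟩
    have e2 := Groth.Agent.Lib.Helper6.EtaleSq.fibreDimAt_etale_square f (V.ι ≫ f) V.ι (𝟙 Y)
      (by rw [Category.comp_id]) x'
    have e3 : V.ι x' = x := rfl
    rw [e3, Groth.Agent.Lib.Helper25.FibreDimRank.fibreDimAt_eq_of_smoothOfRelativeDimension m
      (V.ι ≫ f)] at e2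
    rw [e2] at e1 ⊢
    have : dY + n = m + dY := by exact_mod_cast e1
    have : m = n := by omega
    rw [this]


end Groth.Agent.S10937
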