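import Groth.Statements.S10939
import Mathlib
import Groth.Agent.Helper19.ProjAvoid
-- import your own Groth.Agent.* helpers here

set_option autoImplicit false
universe u
open CategoryTheory CategoryTheory.Limits AlgebraicGeometry
open Variety

namespace Groth.Agent.S10939

/-- Let k be a field, P = P^n_k = Proj k[x_0, …, x_n], and i_X : X → P, i_Y : Y → P closed immersions
with X of dimension r. Then there are homogeneous polynomials h_1, …, h_{r+1} of positive degree,
with basic opens D_j = D_+(h_j) and hypersurfaces H_j = P ∖ D_j, such that every H_j contains Y and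
X ∖ Y = ⋃_j (X ∖ H_j), i.e. every point of X outside Y lies in some D_j; moreover each X ∖ H_j = X ∩
D_j is affine. (The published statement takes X and Y reduced; the assertion only concerns the
underlying closed sets.) -/
theorem result (k : Type u) [Field k] (n r : ℕ)
    {X Y : Scheme.{u}} (iX : X ⟶ CohB1.ProjSpace n k) (iY : Y ⟶ CohB1.ProjSpace n k)
    [IsClosedImmersion iX] [IsClosedImmersion iY] (hX : topologicalKrullDim ↥X = r) :
    ∃ (h : Fin (r + 1) → MvPolynomial (Fin (n + 1)) k) (D : Fin (r + 1) → (CohB1.ProjSpace n k).Opens),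
      (∀ j, D j = Proj.basicOpen (CohB1.polyGrading n k) (h j)) ∧
      (∀ j, ∃ d : ℕ, 0 < d ∧ (h j).IsHomogeneous d) ∧
      (∀ j, Set.range iY.base ⊆ (D j : Set ↥(CohB1.ProjSpace n k))ᶜ) ∧
      (Set.range iX.base \ Set.range iY.base ⊆ ⋃ j, (D j : Set ↥(CohB1.ProjSpace n k))) ∧
      ∀ j, IsAffineOpen (iX ⁻¹ᵁ (D j)) := by
  classical
  have hX'c : IsClosed (Set.range iX.base : Set (ProjectiveSpectrum (CohB1.polyGrading n k))) :=
    iX.isClosedEmbedding.isClosed_range
  have hY'c : IsClosed (Set.range iY.base : Set (ProjectiveSpectrum (CohB1.polyGrading n k))) :=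
    iY.isClosedEmbedding.isClosed_range
  have hmemX : ∀ y : ProjectiveSpectrum (CohB1.polyGrading n k),
      y ∈ (Set.range iX.base : Set (ProjectiveSpectrum (CohB1.polyGrading n k))) ↔
      (ProjectiveSpectrum.vanishingIdeal
        (Set.range iX.base : Set (ProjectiveSpectrum (CohB1.polyGrading n k)))).toIdeal ≤
        y.asHomogeneousIdeal.toIdeal := by
    intro y
    have h1 : ProjectiveSpectrum.zeroLocus (CohB1.polyGrading n k)
        ((ProjectiveSpectrum.vanishingIdeal
          (Set.range iX.base : Set (ProjectiveSpectrum (CohB1.polyGrading n k))) :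
          HomogeneousIdeal (CohB1.polyGrading n k)) : Set (MvPolynomial (Fin (n + 1)) k)) =
        (Set.range iX.base : Set (ProjectiveSpectrum (CohB1.polyGrading n k))) := by
      rw [ProjectiveSpectrum.zeroLocus_vanishingIdeal_eq_closure, hX'c.closure_eq]
    conv_lhs => rw [← h1]
    rw [ProjectiveSpectrum.mem_zeroLocus]
    exact Iff.rfl
  have hmemY : ∀ y : ProjectiveSpectrum (CohB1.polyGrading n k),
      y ∈ (Set.range iY.base : Set (ProjectiveSpectrum (CohB1.polyGrading n k))) ↔
      (ProjectiveSpectrum.vanishingIdeal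
        (Set.range iY.base : Set (ProjectiveSpectrum (CohB1.polyGrading n k)))).toIdeal ≤
        y.asHomogeneousIdeal.toIdeal := by
    intro y
    have h1 : ProjectiveSpectrum.zeroLocus (CohB1.polyGrading n k)
        ((ProjectiveSpectrum.vanishingIdeal
          (Set.range iY.base : Set (ProjectiveSpectrum (CohB1.polyGrading n k))) :
          HomogeneousIdeal (CohB1.polyGrading n k)) : Set (MvPolynomial (Fin (n + 1)) k)) =
        (Set.range iY.base : Set (ProjectiveSpectrum (CohB1.polyGrading n k))) := by
      rw [ProjectiveSpectrum.zeroLocus_vanishingIdeal_eq_closure, hY'c.closure_eq]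
    conv_lhs => rw [← h1]
    rw [ProjectiveSpectrum.mem_zeroLocus]
    exact Iff.rfl
  have hdimX' : topologicalKrullDim
      ↥(Set.range iX.base : Set (ProjectiveSpectrum (CohB1.polyGrading n k))) = r := by
    rw [← hX]
    symm
    exact IsHomeomorph.topologicalKrullDim_eq _
      (iX.isClosedEmbedding.isEmbedding.toHomeomorph.isHomeomorph)
  obtain ⟨h, hh1, hh2⟩ := Groth.Agent.Helper19.ProjDim.exists_forms_avoid k n (r + 1)
    (ProjectiveSpectrum.vanishingIdeal
      (Set.range iX.base : Set (ProjectiveSpectrum (CohB1.polyGrading n k)))).toIdeal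
    (ProjectiveSpectrum.vanishingIdeal
      (Set.range iY.base : Set (ProjectiveSpectrum (CohB1.polyGrading n k)))).toIdeal
    (HomogeneousIdeal.isHomogeneous _) (HomogeneousIdeal.isHomogeneous _) (by
      intro y hy _
      have hyX := (hmemX y).mpr hy
      have h1 := Groth.Agent.Helper19.ProjDim.coheight_le_topologicalKrullDim
        (CohB1.polyGrading n k) _ y
        (Groth.Agent.Helper19.ProjDict.closure_singleton_subset_of_mem _ hX'c hyX)
      rw [hdimX'] at h1
      have h2 : Order.coheight y ≤ (r : ℕ∞) := by exact_mod_cast h1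
      push_cast
      gcongr)
  refine ⟨h, fun j => Proj.basicOpen (CohB1.polyGrading n k) (h j), fun j => rfl,
    fun j => (hh1 j).2, ?_, ?_, ?_⟩
  · intro j y hy hmem
    have h1 : h j ∈ (ProjectiveSpectrum.vanishingIdeal
      (Set.range iY.base : Set (ProjectiveSpectrum (CohB1.polyGrading n k)))) := (hh1 j).1
    rw [ProjectiveSpectrum.mem_vanishingIdeal] at h1
    exact hmem (h1 y hy)
  · rintro y ⟨hyX, hyY⟩
    by_contra hnot
    apply hyY
    apply (hmemY y).mpr
    apply hh2 y ((hmemX y).mp hyX)
    intro j
    by_contra hj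
    exact hnot (Set.mem_iUnion.mpr ⟨j, hj⟩)
  · intro j
    obtain ⟨d, hd, hhd⟩ := (hh1 j).2
    have hD : @IsAffineOpen (CohB1.ProjSpace n k) (Proj.basicOpen (CohB1.polyGrading n k) (h j)) :=
      Proj.isAffineOpen_basicOpen (CohB1.polyGrading n k) (h j) hhd hd
    exact hD.preimage iX

end Groth.Agent.S10939
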