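import Groth.Statements.S10940
import Mathlib
import Groth.Agent.Helper19.ProjOpenDim
-- import your own Groth.Agent.* helpers here

set_option autoImplicit false
universe u
open CategoryTheory CategoryTheory.Limits AlgebraicGeometry
open Variety

namespace Groth.Agent.S10940

section helpers

theorem affine_of_closed_range {X Y : Scheme.{u}} (j : X ⟶ Y) [IsImmersion j] (D : Y.Opens)
    (hD : IsAffineOpen D)
    (hcl : ∀ p ∈ D, p ∈ closure (Set.range j.base) → p ∈ Set.range j.base) :
    IsAffineOpen (j ⁻¹ᵁ D) := by
  haveI : IsAffine (D : Scheme) := hD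
  haveI : IsClosedImmersion (j ∣_ D) := by
    apply IsClosedImmersion.of_isPreimmersion
    have hrange : Set.range (j ∣_ D).base =
        Subtype.val ⁻¹' (closure (Set.range j.base)) := by
      ext ⟨p, hp⟩
      constructor
      · rintro ⟨x, hx⟩
        have h1 : j.base x.1 = p := by
          have h2 := morphismRestrict_base_coe j D x
          rw [hx] at h2
          exact h2.symm
        exact subset_closure ⟨x.1, h1⟩
      · intro hcl'
        obtain ⟨x, hx⟩ := hcl p hp hcl'
        have hxD : x ∈ j ⁻¹ᵁ D := by
          show j.base x ∈ D
          rw [hx]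
          exact hp
        refine ⟨⟨x, hxD⟩, Subtype.ext ?_⟩
        rw [morphismRestrict_base_coe]
        exact hx
    rw [hrange]
    exact isClosed_closure.preimage continuous_subtype_val
  exact isAffine_of_isAffineHom (j ∣_ D)

end helpers

/-- Let k be a field and X a quasi-projective variety over k of dimension r: an integral scheme with an
immersion j : X → P^n_k. Then X admits a cover by r + 1 affine open subschemes. (Consequently the
cohomology of every quasi-coherent O_X-module vanishes above degree r; that consequence is the
general vanishing above the number of affines in a cover and is not restated here. The published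
statement is for varieties over an algebraically closed field; the argument, r + 1 hypersurfaces
through the boundary of the closure of X, works over any field, so k is an arbitrary field here.) -/
theorem result (k : Type u) [Field k] (n r : ℕ)
    {X : Scheme.{u}} (j : X ⟶ CohB1.ProjSpace n k) [IsImmersion j] [IsIntegral X]
    (hX : topologicalKrullDim ↥X = r) :
    ∃ U : Fin (r + 1) → X.Opens, (∀ i, IsAffineOpen (U i)) ∧ ⨆ i, U i = ⊤ := by
  classical
  have hUlc : IsLocallyClosed (Set.range j.base : Set (ProjectiveSpectrum (CohB1.polyGrading n k))) :=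
    j.isLocallyClosed_range
  have hY'c : IsClosed (closure (Set.range j.base) \ Set.range j.base :
      Set (ProjectiveSpectrum (CohB1.polyGrading n k))) := by
    have := hUlc.isOpen_coborder
    exact isOpen_compl_iff.mp this
  have hmemX : ∀ y : ProjectiveSpectrum (CohB1.polyGrading n k),
      y ∈ closure (Set.range j.base : Set (ProjectiveSpectrum (CohB1.polyGrading n k))) ↔
      (ProjectiveSpectrum.vanishingIdeal
        (closure (Set.range j.base : Set (ProjectiveSpectrum (CohB1.polyGrading n k))))).toIdeal ≤
        y.asHomogeneousIdeal.toIdeal := by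
    intro y
    have h1 : ProjectiveSpectrum.zeroLocus (CohB1.polyGrading n k)
        ((ProjectiveSpectrum.vanishingIdeal
          (closure (Set.range j.base : Set (ProjectiveSpectrum (CohB1.polyGrading n k)))) :
          HomogeneousIdeal (CohB1.polyGrading n k)) : Set (MvPolynomial (Fin (n + 1)) k)) =
        closure (Set.range j.base : Set (ProjectiveSpectrum (CohB1.polyGrading n k))) := by
      rw [ProjectiveSpectrum.zeroLocus_vanishingIdeal_eq_closure, closure_closure]
    conv_lhs => rw [← h1]
    rw [ProjectiveSpectrum.mem_zeroLocus]
    exact Iff.rfl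
  have hmemY : ∀ y : ProjectiveSpectrum (CohB1.polyGrading n k),
      y ∈ (closure (Set.range j.base) \ Set.range j.base :
        Set (ProjectiveSpectrum (CohB1.polyGrading n k))) ↔
      (ProjectiveSpectrum.vanishingIdeal
        (closure (Set.range j.base) \ Set.range j.base :
          Set (ProjectiveSpectrum (CohB1.polyGrading n k)))).toIdeal ≤
        y.asHomogeneousIdeal.toIdeal := by
    intro y
    have h1 : ProjectiveSpectrum.zeroLocus (CohB1.polyGrading n k)
        ((ProjectiveSpectrum.vanishingIdeal
          (closure (Set.range j.base) \ Set.range j.base :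
            Set (ProjectiveSpectrum (CohB1.polyGrading n k))) :
          HomogeneousIdeal (CohB1.polyGrading n k)) : Set (MvPolynomial (Fin (n + 1)) k)) =
        (closure (Set.range j.base) \ Set.range j.base :
          Set (ProjectiveSpectrum (CohB1.polyGrading n k))) := by
      rw [ProjectiveSpectrum.zeroLocus_vanishingIdeal_eq_closure, hY'c.closure_eq]
    conv_lhs => rw [← h1]
    rw [ProjectiveSpectrum.mem_zeroLocus]
    exact Iff.rfl
  have hdimU : topologicalKrullDim
      ↥(Set.range j.base : Set (ProjectiveSpectrum (CohB1.polyGrading n k))) = r := by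
    rw [← hX]
    symm
    exact IsHomeomorph.topologicalKrullDim_eq _
      (j.isEmbedding.toHomeomorph.isHomeomorph)
  obtain ⟨h, hh1, hh2⟩ := Groth.Agent.Helper19.ProjDim.exists_forms_avoid k n (r + 1)
    (ProjectiveSpectrum.vanishingIdeal
      (closure (Set.range j.base : Set (ProjectiveSpectrum (CohB1.polyGrading n k))))).toIdeal
    (ProjectiveSpectrum.vanishingIdeal
      (closure (Set.range j.base) \ Set.range j.base :
        Set (ProjectiveSpectrum (CohB1.polyGrading n k)))).toIdeal
    (HomogeneousIdeal.isHomogeneous _) (HomogeneousIdeal.isHomogeneous _) (by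
      intro y hy hJy
      have hyX := (hmemX y).mpr hy
      have hyU : y ∈ (Set.range j.base : Set (ProjectiveSpectrum (CohB1.polyGrading n k))) := by
        by_contra hnU
        exact hJy ((hmemY y).mp ⟨hyX, hnU⟩)
      have h1 := Groth.Agent.Helper19.ProjDim.coheight_le_dim_of_isLocallyClosed k n _ hUlc y hyU
      rw [hdimU] at h1
      have h2 : Order.coheight y ≤ (r : ℕ∞) := by exact_mod_cast h1
      push_cast
      gcongr)
  refine ⟨fun i => j ⁻¹ᵁ (Proj.basicOpen (CohB1.polyGrading n k) (h i)), ?_, ?_⟩
  · intro i
    obtain ⟨d, hd, hhd⟩ := (hh1 i).2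
    have hD : @IsAffineOpen (CohB1.ProjSpace n k) (Proj.basicOpen (CohB1.polyGrading n k) (h i)) :=
      Proj.isAffineOpen_basicOpen (CohB1.polyGrading n k) (h i) hhd hd
    refine affine_of_closed_range j _ hD ?_
    intro p hp hcl
    by_contra hnU
    have hJ := (hmemY p).mp ⟨hcl, hnU⟩
    exact hp (hJ (hh1 i).1)
  · rw [eq_top_iff]
    intro x _
    have hxU : j.base x ∈ (Set.range j.base : Set (ProjectiveSpectrum (CohB1.polyGrading n k))) :=
      ⟨x, rfl⟩
    by_contra hnot
    have hall : ∀ i, h i ∈ (show ProjectiveSpectrum (CohB1.polyGrading n k) from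
        j.base x).asHomogeneousIdeal.toIdeal := by
      intro i
      by_contra hi
      exact hnot (TopologicalSpace.Opens.mem_iSup.mpr ⟨i, hi⟩)
    have hJ := hh2 (j.base x) ((hmemX _).mp (subset_closure hxU)) hall
    exact ((hmemY _).mpr hJ).2 hxU

end Groth.Agent.S10940
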