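import Groth.Statements.S11322
import Groth.Agent.Lib.Helper21.FibDim8
-- import your own Groth.Agent.* helpers here

set_option autoImplicit false
universe u
open CategoryTheory AlgebraicGeometry
open FlatMor

namespace Groth.Agent.S11322

/-- Let k be a field, X and Y schemes of finite type over k with Y irreducible, f : X → Y a flat
k-morphism and n a natural number. Then all irreducible components of X have dimension dim Y + n if
and only if, for each point y of Y (generic points included), all irreducible components of the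
fibre of f over y have dimension n. -/
theorem result (k : Type u) [Field k]
    {X Y : Scheme.{u}} (qX : X ⟶ Spec (CommRingCat.of k)) (qY : Y ⟶ Spec (CommRingCat.of k))
    [LocallyOfFiniteType qX] [QuasiCompact qX] [LocallyOfFiniteType qY] [QuasiCompact qY]
    [IrreducibleSpace ↥Y] (f : X ⟶ Y) (hf : f ≫ qY = qX) [Flat f] (n : ℕ) :
    (∀ Z : Set ↥X, Z ∈ irreducibleComponents ↥X → topologicalKrullDim ↥Z = topologicalKrullDim ↥Y + (n : WithBot ℕ∞)) ↔
      ∀ (y : Y) (Z : Set ↥(f.fiber y)), Z ∈ irreducibleComponents ↥(f.fiber y) →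
        topologicalKrullDim ↥Z = (n : WithBot ℕ∞) := by
  let _ : X.Over (Spec (CommRingCat.of k)) := ⟨qX⟩
  let _ : Y.Over (Spec (CommRingCat.of k)) := ⟨qY⟩
  have hlX : LocallyOfFiniteType (X ↘ Spec (CommRingCat.of k)) := ‹LocallyOfFiniteType qX›
  have hlY : LocallyOfFiniteType (Y ↘ Spec (CommRingCat.of k)) := ‹LocallyOfFiniteType qY›
  have hf' : f ≫ (Y ↘ Spec (CommRingCat.of k)) = X ↘ Spec (CommRingCat.of k) := hf
  have hft : LocallyOfFiniteType f := by
    have h0 : LocallyOfFiniteType (f ≫ qY) := by rw [hf]; infer_instance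
    exact locallyOfFiniteType_of_comp f qY
  have : IsLocallyNoetherian Y := LocallyOfFiniteType.isLocallyNoetherian qY
  have huniv : topologicalKrullDim ↥(Set.univ : Set ↥Y) = topologicalKrullDim ↥Y :=
    IsHomeomorph.topologicalKrullDim_eq _ (Homeomorph.Set.univ ↥Y).isHomeomorph
  -- key dimension formula for components of `X`
  have key : ∀ ξ : X, closure {ξ} ∈ irreducibleComponents X → ∃ e : ℕ,
      fibreDimAt f ξ = e ∧
      topologicalKrullDim (closure ({ξ} : Set X)) = topologicalKrullDim ↥Y + (e : WithBot ℕ∞) := by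
    intro ξ hξ
    obtain ⟨b, e, hc, hb, he, hdim⟩ :=
      Groth.Agent.Lib.Helper21.FibDim.exists_dim_eq_add_of_flat k X Y f hf' ξ hξ
    rw [irreducibleComponents_eq_singleton, Set.mem_singleton_iff] at hc
    rw [hc, huniv] at hb
    refine ⟨e, he, ?_⟩
    rw [hdim, hb]
    push_cast
    rfl
  have hYnat : ∃ b : ℕ, topologicalKrullDim ↥Y = (b : WithBot ℕ∞) := by
    obtain ⟨b, hb⟩ := Groth.Agent.Lib.Helper21.FibDim.exists_nat_trdeg k Y (genericPoint Y)
    exact ⟨b, Groth.Agent.Lib.Helper21.ChartPt.topologicalKrullDim_eq_of_irreducible k Y b hb⟩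
  obtain ⟨b, hbY⟩ := hYnat
  constructor
  · intro h y Z hZ
    obtain ⟨z, hz, hdimZ, hmax⟩ :=
      Groth.Agent.Lib.Helper21.FibDim.exists_isGenericPoint_fiber f y Z hZ
    obtain ⟨ξ, m, hcomp, hsp, hn1, -, hn3, -⟩ :=
      Groth.Agent.Lib.Helper21.FibDim.exists_generic_trdeg_eq_of_flat f (f.fiberι y z) hmax
    obtain ⟨e, he, hdim⟩ := key ξ hcomp
    have h1 := h _ hcomp
    rw [hdim, hbY] at h1
    have hen : e = n := by
      have h2 : ((b + e : ℕ) : WithBot ℕ∞) = ((b + n : ℕ) : WithBot ℕ∞) := by
        push_cast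
        exact h1
      have h3 : b + e = b + n := by exact_mod_cast h2
      omega
    have hem : e = m := by
      rw [he] at hn3
      exact_mod_cast hn3
    rw [hdimZ, hn1, ← hem, hen]
  · intro h Z hZ
    obtain ⟨ξ, hξ⟩ :=
      Groth.Agent.Lib.Helper21.FibDim.exists_isGenericPoint_of_mem_irreducibleComponents Z hZ
    have hZ' : Z = closure {ξ} := hξ.def.symm
    subst hZ'
    obtain ⟨e, he, hdim⟩ := key ξ hZ
    have hmax : ∀ x' : X, x' ⤳ ξ → x' = ξ :=
      Groth.Agent.Lib.Helper21.FibDim.eq_of_specializes_of_closure_mem ξ hZ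
    have he' := Groth.Agent.Lib.Helper21.FibDim.fibreDimAt_eq_of_components f ξ hmax n (h (f ξ))
    have hen : e = n := by
      rw [he] at he'
      exact_mod_cast he'
    rw [hdim, hen]

end Groth.Agent.S11322
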