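import Groth.Statements.S10944
import Mathlib.AlgebraicGeometry.Morphisms.UniversallyOpen

set_option autoImplicit false
universe u
open CategoryTheory AlgebraicGeometry
open FlatMor

namespace Groth.Agent.S10944

/-- Let f : X → Y be a flat morphism of Noetherian schemes and Y' an irreducible component of Y. Then
f⁻¹(Y') is the union of the irreducible components Z of X with f(Z) ⊆ Y'. -/
theorem result {X Y : Scheme.{u}}
    [IsNoetherian X] [IsNoetherian Y] (f : X ⟶ Y) [Flat f]
    (Y' : Set ↥Y) (hY' : Y' ∈ irreducibleComponents ↥Y) :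
    f.base ⁻¹' Y' = ⋃₀ {Z : Set ↥X | Z ∈ irreducibleComponents ↥X ∧ f.base '' Z ⊆ Y'} := by
  have hY'closed : IsClosed Y' := isClosed_of_mem_irreducibleComponents Y' hY'
  have hY'irr : IsIrreducible Y' := hY'.1
  apply Set.Subset.antisymm
  · intro x hx
    obtain ⟨η, hη⟩ := QuasiSober.sober hY'irr hY'closed
    have hηx : η ⤳ f.base x := by
      rw [specializes_iff_mem_closure, hη.def]
      exact hx
    obtain ⟨x', hx'x, hfx'⟩ := Flat.generalizingMap f hηx
    obtain ⟨Z, hZ, hZsub⟩ := exists_mem_irreducibleComponents_subset_of_isIrreducible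
      (closure {x'}) isIrreducible_singleton.closure
    have hZclosed : IsClosed Z := isClosed_of_mem_irreducibleComponents Z hZ
    obtain ⟨ξ, hξ⟩ := QuasiSober.sober hZ.1 hZclosed
    refine ⟨Z, ⟨hZ, ?_⟩, hZsub (specializes_iff_mem_closure.mp hx'x)⟩
    have hx'Z : x' ∈ Z := hZsub (subset_closure rfl)
    have hξx' : ξ ⤳ x' := by
      rw [specializes_iff_mem_closure, hξ.def]
      exact hx'Z
    have hfξη : f.base ξ ⤳ η := by
      have := hξx'.map f.base.hom.continuous
      rwa [hfx'] at this
    have hsub : Y' ⊆ closure {f.base ξ} := by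
      rw [← hη.def]
      exact closure_minimal (Set.singleton_subset_iff.mpr (specializes_iff_mem_closure.mp hfξη))
        isClosed_closure
    have heq : closure {f.base ξ} = Y' :=
      (hsub.antisymm (hY'.2 isIrreducible_singleton.closure hsub)).symm ▸ rfl
    rw [← hξ.def, ← heq]
    exact image_closure_subset_closure_image f.base.hom.continuous |>.trans (by simp)
  · rintro x ⟨Z, ⟨-, hZ⟩, hxZ⟩
    exact hZ ⟨x, hxZ, rfl⟩

end Groth.Agent.S10944
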