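import Groth.Statements.S10946
import Groth.Agent.Lib.Helper5.ColimTopGen
import Groth.Agent.Lib.Helper5.ToSheafColim
import Groth.Agent.S2128

set_option autoImplicit false
universe u
open CategoryTheory AlgebraicGeometry
open Coherent

namespace Groth.Agent.S10946

/-- Let X be a Noetherian separated scheme and n a natural number such that H^i(X, F) = 0 for all
coherent O_X-modules F and all i > n. Then H^i(X, G) = 0 for all quasi-coherent O_X-modules G and
all i > n. -/
theorem result (X : Scheme.{u}) [IsNoetherian X]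
    [X.IsSeparated] (n : ℕ)
    (h : ∀ F : X.Modules, Coh.IsCoh F → ∀ i : ℕ, n < i → Subsingleton (Coh.HH X F i))
    (G : X.Modules) (hG : Coh.IsQCoh G) (i : ℕ) (hi : n < i) :
    Subsingleton (Coh.HH X G i) := by
  haveI : QuasiSeparatedSpace X :=
    (AlgebraicGeometry.quasiSeparatedSpace_iff_quasiSeparated X).2
      (inferInstance : AlgebraicGeometry.QuasiSeparated (CategoryTheory.Limits.terminal.from X))
  obtain ⟨K, hK1, hK2, D, c, hc, hfp, hpt⟩ := Groth.Agent.S2128.result X G hG
  subst hpt
  suffices hx : ∀ x : Coh.HH X c.pt i, x = 0 from ⟨fun a b => (hx a).trans (hx b).symm⟩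
  intro x
  have hTc : CategoryTheory.Limits.IsColimit
      ((SheafOfModules.toSheaf X.ringCatSheaf).mapCocone c) :=
    CategoryTheory.Limits.isColimitOfPreserves (SheafOfModules.toSheaf X.ringCatSheaf) hc
  obtain ⟨k, y, hy⟩ := Groth.Agent.Lib.Helper5.ColimTopGen.H_rep (X := X.carrier)
    ((SheafOfModules.toSheaf X.ringCatSheaf).mapCocone c) hTc i x
  haveI : SheafOfModules.IsFinitePresentation (R := X.ringCatSheaf) (D.obj k) := hfp k
  have hq : SheafOfModules.IsQuasicoherent (R := X.ringCatSheaf) (D.obj k) := inferInstance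
  have hft : SheafOfModules.IsFiniteType (R := X.ringCatSheaf) (D.obj k) := inferInstance
  have hs : Subsingleton (Coh.HH X (D.obj k) i) := h (D.obj k) ⟨hq, hft⟩ i hi
  have hy0 : y = 0 := hs.elim y 0
  rw [← hy, hy0, map_zero]

end Groth.Agent.S10946
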