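import Groth.Statements.S10953
import Mathlib.AlgebraicGeometry.Morphisms.Separated

set_option autoImplicit false
universe u
open RedSep

namespace Groth.Agent.S10953

set_option backward.isDefEq.respectTransparency false in
open AlgebraicGeometry CategoryTheory in
/-- For a morphism of schemes f : X → S to an affine scheme S such that any two points of X with the
same image in S lie in one common affine open subset of X, the morphism f is separated. -/
theorem result {X S : Scheme.{u}} [IsAffine S] (f : X ⟶ S)
    (h : ∀ x y : X, f x = f y → ∃ U : X.Opens, IsAffineOpen U ∧ x ∈ U ∧ y ∈ U) :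
    IsSeparated f := by
  open Limits in
  constructor
  let 𝒲 : (pullback f f).OpenCover := Scheme.Cover.mkOfCovers X.affineOpens
    (fun U => pullback (U.1.ι ≫ f) (U.1.ι ≫ f))
    (fun U => pullback.map (U.1.ι ≫ f) (U.1.ι ≫ f) f f U.1.ι U.1.ι (𝟙 S) (by simp) (by simp))
    (by
      intro z
      obtain ⟨U, hU, hx, hy⟩ := h (pullback.fst f f z) (pullback.snd f f z) (by
        rw [← Scheme.Hom.comp_apply, ← Scheme.Hom.comp_apply, pullback.condition])
      refine ⟨⟨U, hU⟩, ?_⟩
      have hr := Scheme.Pullback.range_map (f := U.ι ≫ f) (g := U.ι ≫ f) f f U.ι U.ι (𝟙 S)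
        (by simp) (by simp)
      have hz : z ∈ Set.range (pullback.map (U.ι ≫ f) (U.ι ≫ f) f f U.ι U.ι (𝟙 S)
          (by simp) (by simp)) := by
        rw [hr]
        exact ⟨by simpa using hx, by simpa using hy⟩
      exact hz)
  apply IsZariskiLocalAtTarget.of_openCover (P := @IsClosedImmersion) 𝒲
  intro U
  have hpb := pullback_map_diagonal_isPullback U.1.ι U.1.ι f
  have : IsAffine U.1.toScheme := U.2
  have hci : IsClosedImmersion (pullback.map U.1.ι U.1.ι (U.1.ι ≫ f) (U.1.ι ≫ f) (𝟙 _) (𝟙 _) f
      (by simp) (by simp)) := by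
    have hfs : pullback.fst U.1.ι U.1.ι = pullback.snd U.1.ι U.1.ι := by
      rw [← cancel_mono U.1.ι]
      exact pullback.condition
    have heq : pullback.map U.1.ι U.1.ι (U.1.ι ≫ f) (U.1.ι ≫ f) (𝟙 _) (𝟙 _) f
        (by simp) (by simp) = pullback.fst U.1.ι U.1.ι ≫ pullback.diagonal (U.1.ι ≫ f) := by
      ext
      · simp
      · simp [hfs]
    rw [heq]
    infer_instance
  have key : IsClosedImmersion (hpb.isoPullback.hom ≫ pullback.snd (pullback.diagonal f)
      (pullback.map (U.1.ι ≫ f) (U.1.ι ≫ f) f f U.1.ι U.1.ι (𝟙 S) (by simp) (by simp))) := by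
    rw [hpb.isoPullback_hom_snd]
    exact hci
  exact (MorphismProperty.cancel_left_of_respectsIso @IsClosedImmersion
    hpb.isoPullback.hom _).mp key

end Groth.Agent.S10953
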