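import Groth.Statements.S10956
import Mathlib.RingTheory.Kaehler.TensorProduct

set_option autoImplicit false
universe u
open scoped TensorProduct
open CAlg

namespace Groth.Agent.S10956

open KaehlerDifferential

attribute [local instance] Algebra.TensorProduct.rightAlgebra in
theorem result (R A B : Type u) [CommRing R] [CommRing A] [CommRing B]
    [Algebra R A] [Algebra R B] :
    ∃ r : Ω[(A ⊗[R] B)⁄R] →ₗ[A ⊗[R] B] ((A ⊗[R] B) ⊗[A] Ω[A⁄R]),
      (∀ (a : A) (b : B), r (KaehlerDifferential.D R (A ⊗[R] B) (a ⊗ₜ[R] b)) =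
          ((1 : A) ⊗ₜ[R] b) ⊗ₜ[A] KaehlerDifferential.D R A a) ∧
        Function.Bijective (fun ω : Ω[(A ⊗[R] B)⁄R] =>
          (r ω, KaehlerDifferential.map R A (A ⊗[R] B) (A ⊗[R] B) ω)) := by
  let T := A ⊗[R] B
  have hpo : Algebra.IsPushout R B A T := inferInstance
  let r : Ω[T⁄R] →ₗ[T] (T ⊗[A] Ω[A⁄R]) :=
    (tensorKaehlerEquiv R B A T).symm.toLinearMap ∘ₗ KaehlerDifferential.map R B T T
  have hr : ∀ (a : A) (b : B), r (D R T (a ⊗ₜ[R] b)) = ((1 : A) ⊗ₜ[R] b) ⊗ₜ[A] D R A a := by
    intro a b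
    simp only [r, LinearMap.comp_apply, LinearEquiv.coe_coe, map_D]
    change (tensorKaehlerEquiv R B A (A ⊗[R] B)).symm (D B (A ⊗[R] B) (a ⊗ₜ b)) = _
    rw [tensorKaehlerEquiv_symm_D_tmul', Algebra.TensorProduct.right_algebraMap_apply]
  have hretr : ∀ y : T ⊗[A] Ω[A⁄R], r (mapBaseChange R A T y) = y := by
    intro y
    induction y using TensorProduct.induction_on with
    | zero => simp
    | add y z hy hz => rw [map_add, map_add, hy, hz]
    | tmul t ω =>
      have hω : ω ∈ Submodule.span A (Set.range (D R A)) := by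
        rw [span_range_derivation]; trivial
      induction hω using Submodule.span_induction generalizing t with
      | mem ω h =>
        obtain ⟨a, rfl⟩ := h
        rw [mapBaseChange_tmul, map_smul, map_D]
        have h1 : algebraMap A T a = a ⊗ₜ[R] (1 : B) := rfl
        rw [h1, hr, TensorProduct.smul_tmul', smul_eq_mul]
        congr 1
        rw [← Algebra.TensorProduct.one_def, mul_one]
      | zero => simp
      | add ω₁ ω₂ _ _ h₁ h₂ =>
        rw [TensorProduct.tmul_add, map_add, map_add, h₁, h₂]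
      | smul a ω _ h =>
        rw [← TensorProduct.smul_tmul]
        exact h _
  refine ⟨r, hr, ?_, ?_⟩
  · intro ω₁ ω₂ h
    simp only [Prod.mk.injEq] at h
    obtain ⟨h1, h2⟩ := h
    have h3 : map R A T T (ω₁ - ω₂) = 0 := by rw [map_sub, h2, sub_self]
    obtain ⟨y, hy⟩ := (exact_mapBaseChange_map R A T (ω₁ - ω₂)).mp h3
    have h4 : y = 0 := by
      rw [← hretr y, hy, map_sub, h1, sub_self]
    rw [h4, map_zero] at hy
    exact (sub_eq_zero.mp hy.symm)
  · rintro ⟨y, z⟩
    obtain ⟨ω₀, hω₀⟩ := KaehlerDifferential.map_surjective R A T z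
    refine ⟨ω₀ + mapBaseChange R A T (y - r ω₀), ?_⟩
    simp only [Prod.mk.injEq]
    constructor
    · rw [map_add, hretr]; abel
    · rw [map_add, hω₀]
      have : map R A T T (mapBaseChange R A T (y - r ω₀)) = 0 :=
        (exact_mapBaseChange_map R A T _).mpr ⟨_, rfl⟩
      rw [this, add_zero]

end Groth.Agent.S10956
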