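import Groth.Statements.S10957
import Mathlib

set_option autoImplicit false
universe u
open CAlg

namespace Groth.Agent.S10957

theorem result
    (A : Type u) [CommRing A] [IsDomain A] [IsNoetherianRing A] [IsLocalRing A] [IsIntegrallyClosed A]
    (a : A) (ha : a ≠ 0)
    (hass : IsLocalRing.maximalIdeal A ∈ associatedPrimes A (A ⧸ Ideal.span ({a} : Set A))) :
    IsDiscreteValuationRing A := by
  classical
  obtain ⟨-, y, hy⟩ := isAssociatedPrime_iff.mp hass
  obtain ⟨b, rfl⟩ := Ideal.Quotient.mk_surjective y
  have hmem : ∀ r : A, r ∈ IsLocalRing.maximalIdeal A ↔ r * b ∈ Ideal.span ({a} : Set A) := by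
    intro r
    rw [hy, Submodule.mem_colon_singleton, Submodule.mem_bot, ← Ideal.Quotient.eq_zero_iff_mem,
      map_mul]
    rfl
  have hb : b ∉ Ideal.span ({a} : Set A) := by
    intro hb
    have : (1 : A) ∈ IsLocalRing.maximalIdeal A := by
      rw [hmem, one_mul]; exact hb
    exact (Ideal.ne_top_iff_one _).mp (IsLocalRing.maximalIdeal.isMaximal A).ne_top this
  -- A is not a field
  have hnf : ¬ IsField A := by
    intro hf
    apply hb
    have : IsUnit a := by
      obtain ⟨a', ha'⟩ := hf.mul_inv_cancel ha
      exact IsUnit.of_mul_eq_one a' ha'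
    rw [Ideal.span_singleton_eq_top.mpr this]
    trivial
  have hm0 : IsLocalRing.maximalIdeal A ≠ ⊥ := IsLocalRing.isField_iff_maximalIdeal_eq.not.mp hnf
  suffices hprin : (IsLocalRing.maximalIdeal A).IsPrincipal from
    ((IsDiscreteValuationRing.TFAE A hnf).out 4 0).mp hprin
  let K := FractionRing A
  let x : K := algebraMap A K b / algebraMap A K a
  have haK : algebraMap A K a ≠ 0 := by
    simpa using ha
  let N : Submodule A K := Submodule.map (Algebra.linearMap A K) (IsLocalRing.maximalIdeal A)
  by_cases hx : ∀ n ∈ N, x • n ∈ N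
  · exfalso
    have hN0 : N ≠ ⊥ := by
      intro h
      apply hm0
      rw [eq_bot_iff]
      intro m hm
      have : algebraMap A K m ∈ N := ⟨m, hm, rfl⟩
      rw [h, Submodule.mem_bot] at this
      rw [Submodule.mem_bot]
      exact (IsFractionRing.injective A K) (by rw [this, map_zero])
    have hNfg : N.FG := (IsNoetherian.noetherian (IsLocalRing.maximalIdeal A)).map _
    have hint : IsIntegral A x := isIntegral_of_smul_mem_submodule N hN0 hNfg x hx
    obtain ⟨c, hc⟩ := IsIntegrallyClosed.isIntegral_iff.mp hint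
    apply hb
    rw [Ideal.mem_span_singleton']
    refine ⟨c, ?_⟩
    apply IsFractionRing.injective A K
    rw [map_mul, hc]
    simp only [x]
    rw [div_mul_cancel₀ _ haK]
  · push Not at hx
    obtain ⟨n, ⟨m, hm, rfl⟩, hxn⟩ := hx
    obtain ⟨c, hc⟩ := Ideal.mem_span_singleton'.mp ((hmem m).mp hm)
    -- x * m = c
    have hxm : x • (Algebra.linearMap A K m) = algebraMap A K c := by
      simp only [x, Algebra.linearMap_apply, smul_eq_mul]
      rw [div_mul_eq_mul_div, div_eq_iff haK, ← map_mul, ← map_mul, mul_comm b m, ← hc]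
    have hcu : IsUnit c := by
      by_contra hcu
      apply hxn
      rw [hxm]
      exact ⟨c, (IsLocalRing.mem_maximalIdeal c).mpr hcu, rfl⟩
    refine ⟨⟨m, ?_⟩⟩
    apply le_antisymm
    · intro m' hm'
      obtain ⟨c', hc'⟩ := Ideal.mem_span_singleton'.mp ((hmem m').mp hm')
      have h1 : c * m' = c' * m := by
        apply mul_left_cancel₀ ha
        calc a * (c * m') = (c * a) * m' := by ring
          _ = (m * b) * m' := by rw [hc]
          _ = (m' * b) * m := by ring
          _ = (c' * a) * m := by rw [hc']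
          _ = a * (c' * m) := by ring
      obtain ⟨u, rfl⟩ := hcu
      rw [Submodule.mem_span_singleton]
      refine ⟨↑u⁻¹ * c', ?_⟩
      rw [smul_eq_mul, mul_assoc, ← h1, ← mul_assoc, Units.inv_mul, one_mul]
    · rw [Submodule.span_singleton_le_iff_mem]
      exact hm

end Groth.Agent.S10957
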