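import Groth.Statements.S10959
import Mathlib
import Mathlib

set_option autoImplicit false
universe u
open CategoryTheory MonoidalCategory CartesianMonoidalCategory MonObj GrpObj AlgebraicGeometry
open AbVar

namespace Groth.Agent.S10959



section helpers

variable {K : Type u} [Field K] [IsAlgClosed K]

local notation "SK" => Spec (CommRingCat.of K)

theorem exists_kpoint (A : Over SK) [LocallyOfFiniteType A.hom] (U : Set A.left) (hU : IsOpen U)
    (hne : U.Nonempty) :
    ∃ (x : 𝟙_ (Over SK) ⟶ A) (a : A.left), a ∈ U ∧ ∀ p, x.left.base p = a := by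
  have : JacobsonSpace ↥A.left := LocallyOfFiniteType.jacobsonSpace A.hom
  have h1 : closure (U ∩ closedPoints A.left) = closure U :=
    JacobsonSpace.closure_inter_closedPoints_eq_closure hU.isLocallyClosed
  have h2 : (U ∩ closedPoints A.left).Nonempty := by
    by_contra hcon
    rw [Set.not_nonempty_iff_eq_empty] at hcon
    rw [hcon, closure_empty] at h1
    obtain ⟨a, ha⟩ := hne
    have : a ∈ closure U := subset_closure ha
    rw [← h1] at this
    exact this
  obtain ⟨a, haU, ha⟩ := h2
  refine ⟨Over.homMk (pointOfClosedPoint A.hom a ha) (by simp), a, haU, fun p => ?_⟩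
  exact pointOfClosedPoint_apply A.hom a ha p

end helpers

/-- Let K be an algebraically closed field and A an abelian variety over K (a group scheme over Spec K
with proper smooth structure morphism and irreducible underlying space). Let Z be a closed subset of
A which is not all of A, and z a K-valued point of A. Then there is a K-valued point x of A such
that the point underlying z lies neither in the translate of Z by x nor in the translate of Z by the
inverse of x; here the translation by x is the morphism A → A given on points by a ↦ a·x, the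
product of the identity and the constant map x in the group of morphisms into A. (The published
statement takes Z to be the support of an effective divisor; this row allows any closed subset other
than A.) -/
theorem result
    (K : Type u) [Field K] [IsAlgClosed K] (A : Over (Spec (CommRingCat.of K)))
    [GrpObj A] [IsProper A.hom] [Smooth A.hom] [IrreducibleSpace A.left]
    (Z : Set A.left) (hZ : IsClosed Z) (hZne : Z ≠ Set.univ)
    (z : 𝟙_ (Over (Spec (CommRingCat.of K))) ⟶ A) :
    ∃ x : 𝟙_ (Over (Spec (CommRingCat.of K))) ⟶ A,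
      Disjoint (Set.range z.left.base)
        ((𝟙 A * (toUnit A ≫ x)).left.base '' Z ∪ (𝟙 A * (toUnit A ≫ x)⁻¹).left.base '' Z) := by

  have : LocallyOfFiniteType A.hom := inferInstance
  -- auxiliary morphisms
  set φ₁ : A ⟶ A := (toUnit A ≫ z) * 𝟙 A with hφ₁
  set φ₂ : A ⟶ A := (toUnit A ≫ z) * (𝟙 A)⁻¹ with hφ₂
  set ψ₁ : A ⟶ A := (toUnit A ≫ z)⁻¹ * 𝟙 A with hψ₁
  set ψ₂ : A ⟶ A := (𝟙 A)⁻¹ * (toUnit A ≫ z) with hψ₂
  have e₁ : ψ₁ ≫ φ₁ = 𝟙 A := by
    rw [hφ₁, MonObj.comp_mul, Category.comp_id, ← Category.assoc, comp_toUnit, hψ₁,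
      mul_inv_cancel_left]
  have e₂ : ψ₂ ≫ φ₂ = 𝟙 A := by
    rw [hφ₂, MonObj.comp_mul, GrpObj.comp_inv, Category.comp_id, ← Category.assoc, comp_toUnit,
      hψ₂, _root_.mul_inv_rev, _root_.inv_inv, mul_inv_cancel_left]
  obtain ⟨b, hb⟩ : ∃ b : A.left, b ∉ Z := by
    by_contra hcon
    push_neg at hcon
    exact hZne (Set.eq_univ_of_forall hcon)
  have hφ₁pt : ∀ c : A.left, φ₁.left.base (ψ₁.left.base c) = c := by
    intro c
    have := congrArg (fun f : A ⟶ A => f.left.base c) e₁
    simpa using this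
  have hφ₂pt : ∀ c : A.left, φ₂.left.base (ψ₂.left.base c) = c := by
    intro c
    have := congrArg (fun f : A ⟶ A => f.left.base c) e₂
    simpa using this
  have hU₁ : IsOpen (φ₁.left.base ⁻¹' Zᶜ) := hZ.isOpen_compl.preimage φ₁.left.continuous
  have hU₂ : IsOpen (φ₂.left.base ⁻¹' Zᶜ) := hZ.isOpen_compl.preimage φ₂.left.continuous
  have hne₁ : (φ₁.left.base ⁻¹' Zᶜ).Nonempty := ⟨ψ₁.left.base b, by
    show φ₁.left.base (ψ₁.left.base b) ∈ Zᶜ
    rw [hφ₁pt]; exact hb⟩
  have hne₂ : (φ₂.left.base ⁻¹' Zᶜ).Nonempty := ⟨ψ₂.left.base b, by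
    show φ₂.left.base (ψ₂.left.base b) ∈ Zᶜ
    rw [hφ₂pt]; exact hb⟩
  have hne : (φ₁.left.base ⁻¹' Zᶜ ∩ φ₂.left.base ⁻¹' Zᶜ).Nonempty :=
    nonempty_preirreducible_inter hU₁ hU₂ hne₁ hne₂
  obtain ⟨x, a, ⟨ha₁, ha₂⟩, hxa⟩ := exists_kpoint A _ (hU₁.inter hU₂) hne
  refine ⟨x, ?_⟩
  -- translations
  set Rp : A ⟶ A := 𝟙 A * (toUnit A ≫ x) with hRp
  set Rm : A ⟶ A := 𝟙 A * (toUnit A ≫ x)⁻¹ with hRm
  have r₁ : Rp ≫ Rm = 𝟙 A := by
    rw [hRm, MonObj.comp_mul, GrpObj.comp_inv, Category.comp_id, ← Category.assoc, comp_toUnit,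
      hRp, mul_inv_cancel_right]
  have r₂ : Rm ≫ Rp = 𝟙 A := by
    rw [hRp, MonObj.comp_mul, Category.comp_id, ← Category.assoc, comp_toUnit,
      hRm, inv_mul_cancel_right]
  have zRm : z ≫ Rm = x ≫ φ₂ := by
    rw [hRm, hφ₂, MonObj.comp_mul, MonObj.comp_mul, GrpObj.comp_inv, GrpObj.comp_inv,
      Category.comp_id, Category.comp_id, ← Category.assoc, ← Category.assoc, comp_toUnit,
      comp_toUnit, toUnit_unit, Category.id_comp, Category.id_comp]
  have zRp : z ≫ Rp = x ≫ φ₁ := by
    rw [hRp, hφ₁, MonObj.comp_mul, MonObj.comp_mul,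
      Category.comp_id, Category.comp_id, ← Category.assoc, ← Category.assoc, comp_toUnit,
      comp_toUnit, toUnit_unit, Category.id_comp, Category.id_comp]
  rw [Set.disjoint_left]
  rintro _ ⟨p, rfl⟩ (⟨c, hcZ, hc⟩ | ⟨c, hcZ, hc⟩)
  · -- z p = Rp c, so Rm (z p) = c ∈ Z but Rm (z p) = φ₂ (x p) = φ₂ a ∉ Z
    have h1 : Rm.left.base (Rp.left.base c) = c := by
      have := congrArg (fun f : A ⟶ A => f.left.base c) r₁
      simpa using this
    have h2 : Rm.left.base (z.left.base p) = φ₂.left.base (x.left.base p) := by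
      have := congrArg (fun f : 𝟙_ (Over (Spec (CommRingCat.of K))) ⟶ A => f.left.base p) zRm
      simpa using this
    rw [← hc, h1, hxa] at h2
    rw [h2] at hcZ
    exact ha₂ hcZ
  · have h1 : Rp.left.base (Rm.left.base c) = c := by
      have := congrArg (fun f : A ⟶ A => f.left.base c) r₂
      simpa using this
    have h2 : Rp.left.base (z.left.base p) = φ₁.left.base (x.left.base p) := by
      have := congrArg (fun f : 𝟙_ (Over (Spec (CommRingCat.of K))) ⟶ A => f.left.base p) zRp
      simpa using this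
    rw [← hc, h1, hxa] at h2
    rw [h2] at hcZ
    exact ha₁ hcZ

end Groth.Agent.S10959
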