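import Groth.Statements.S10963
-- import your own Groth.Agent.* helpers here
import Groth.Agent.Lib.Helper29.Glue1
import Groth.Agent.Lib.Helper29.Ample

set_option autoImplicit false
universe u
open CategoryTheory AlgebraicGeometry TopologicalSpace Opposite
open PicF

namespace Groth.Agent.S10963

open Groth.Agent.Lib.Helper29.QCoh in
theorem aux_cocycle (X : Scheme.{u}) {ι : Type u} (U : ι → X.Opens)
    (η : ∀ i j : ι, (Γ(X, U i ⊓ U j))ˣ)
    (hη : ∀ i j k : ι,
      X.presheaf.map (homOfLE (inf_le_inf_right (U k) inf_le_left : U i ⊓ U j ⊓ U k ≤ U i ⊓ U k)).op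
          (η i k : Γ(X, U i ⊓ U k)) =
        X.presheaf.map (homOfLE (inf_le_left : U i ⊓ U j ⊓ U k ≤ U i ⊓ U j)).op (η i j : Γ(X, U i ⊓ U j)) *
          X.presheaf.map (homOfLE (inf_le_inf_right (U k) inf_le_right : U i ⊓ U j ⊓ U k ≤ U j ⊓ U k)).op
            (η j k : Γ(X, U j ⊓ U k)))
    (i j k : ι) (W : X.Opens) (hi : W ≤ U i) (hj : W ≤ U j) (hk : W ≤ U k) :
    rres X (le_inf hi hk) (η i k : Γ(X, U i ⊓ U k)) =
      rres X (le_inf hi hj) (η i j : Γ(X, U i ⊓ U j)) *
        rres X (le_inf hj hk) (η j k : Γ(X, U j ⊓ U k)) := by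
  have h := congrArg (rres X (le_inf (le_inf hi hj) hk : W ≤ U i ⊓ U j ⊓ U k)) (hη i j k)
  rw [map_mul] at h
  change rres X _ (rres X _ _) = rres X _ (rres X _ _) * rres X _ (rres X _ _) at h
  rw [rres_rres, rres_rres, rres_rres] at h
  exact h

/-- Let X be a scheme, (U_i)_{i ∈ ι} an open cover of X and, for all i, j, a unit η_ij of the ring of
functions on U_i ∩ U_j, such that on every triple intersection U_i ∩ U_j ∩ U_k the cocycle identity
η_ik = η_ij · η_jk holds. Then there exist an invertible O_X-module L and sections s_i of L over U_i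
such that each s_i generates L over U_i — for every open V ⊆ U_i the map r ↦ r · s_i|_V from
functions on V to sections of L over V is bijective — and s_i|_{U_i ∩ U_j} = η_ij · s_j|_{U_i ∩ U_j}
for all i, j. (This is the surjectivity of the map from invertible modules trivialised by the cover
to Čech 1-cohomology classes of the cover with values in the sheaf of units.) -/
theorem result (X : Scheme.{u}) {ι : Type u} (U : ι → X.Opens)
    (hU : iSup U = ⊤) (η : ∀ i j : ι, (Γ(X, U i ⊓ U j))ˣ)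
    (hη : ∀ i j k : ι,
      X.presheaf.map (homOfLE (inf_le_inf_right (U k) inf_le_left : U i ⊓ U j ⊓ U k ≤ U i ⊓ U k)).op
          (η i k : Γ(X, U i ⊓ U k)) =
        X.presheaf.map (homOfLE (inf_le_left : U i ⊓ U j ⊓ U k ≤ U i ⊓ U j)).op (η i j : Γ(X, U i ⊓ U j)) *
          X.presheaf.map (homOfLE (inf_le_inf_right (U k) inf_le_right : U i ⊓ U j ⊓ U k ≤ U j ⊓ U k)).op
            (η j k : Γ(X, U j ⊓ U k))) :
    ∃ (L : X.Modules) (s : ∀ i : ι, Γ(L, U i)),
      PicF.IsInvertible L ∧
      (∀ (i : ι) (V : X.Opens) (h : V ≤ U i),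
        Function.Bijective (fun r : Γ(X, V) => r • L.presheaf.map (homOfLE h).op (s i))) ∧
      ∀ i j : ι, L.presheaf.map (homOfLE (inf_le_left : U i ⊓ U j ≤ U i)).op (s i) =
        (η i j : Γ(X, U i ⊓ U j)) • L.presheaf.map (homOfLE (inf_le_right : U i ⊓ U j ≤ U j)).op (s j) := by
  have hη' := aux_cocycle X U η hη
  have hone : ∀ i, η i i = 1 := by
    intro i
    have h := hη' i i i (U i ⊓ U i) inf_le_left inf_le_left inf_le_left
    rw [Groth.Agent.Lib.Helper29.QCoh.rres_self] at h
    have h3 : η i i * 1 = η i i * η i i := by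
      rw [mul_one]
      exact Units.ext h
    exact (mul_left_cancel h3).symm
  have hinv : ∀ (i j : ι) (W : X.Opens) (h : W ≤ U i ⊓ U j),
      Groth.Agent.Lib.Helper29.QCoh.rres X h (η i j : Γ(X, U i ⊓ U j)) *
        Groth.Agent.Lib.Helper29.QCoh.rres X h (((η i j)⁻¹ : (Γ(X, U i ⊓ U j))ˣ) : Γ(X, U i ⊓ U j)) = 1 := by
    intro i j W h
    rw [← map_mul, Units.mul_inv, map_one]
  let c : Groth.Agent.Lib.Helper29.QCoh.Glue.Cocycle U :=
    { g := fun i j => (((η i j)⁻¹ : (Γ(X, U i ⊓ U j))ˣ) : Γ(X, U i ⊓ U j))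
      one := fun i => by
        rw [hone i, inv_one, Units.val_one]
      mul := by
        intro i j k W hi hj hk
        have hu : IsUnit (Groth.Agent.Lib.Helper29.QCoh.rres X (le_inf hi hk)
            (η i k : Γ(X, U i ⊓ U k))) := (η i k).isUnit.map _
        apply hu.mul_left_cancel
        rw [hinv i k W (le_inf hi hk), hη' i j k W hi hj hk, mul_mul_mul_comm,
          hinv i j W (le_inf hi hj), hinv j k W (le_inf hj hk), mul_one] }
  have hU' : ∀ x : X, ∃ i, x ∈ U i := by
    intro x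
    have hx : x ∈ iSup U := by
      rw [hU]
      trivial
    exact TopologicalSpace.Opens.mem_iSup.mp hx
  obtain ⟨L, e, hL, he, htr⟩ :=
    Groth.Agent.Lib.Helper29.QCoh.Glue.exists_invertible_of_cocycle hU' c
  refine ⟨L, e, hL, fun i V h => he i V h, fun i j => ?_⟩
  have h1 := htr i j
  change Groth.Agent.Lib.Helper29.QCoh.res L _ (e i) =
    (η i j : Γ(X, U i ⊓ U j)) • Groth.Agent.Lib.Helper29.QCoh.res L _ (e j)
  rw [h1, smul_smul, Units.mul_inv, one_smul]

end Groth.Agent.S10963
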