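import Groth.Statements.S10964
import Mathlib
import Mathlib
import Groth.Agent.Lib.Helper29.Cocycle

set_option autoImplicit false
universe u
open CategoryTheory AlgebraicGeometry TopologicalSpace Opposite
open PicF

namespace Groth.Agent.S10964



section helpers

open TopologicalSpace Opposite
open Groth.Agent.Lib.Helper29.QCoh

variable {X : Scheme.{u}} {L : X.Modules}

theorem isTriv_unit_smul {U : X.Opens} {e : Γ(L, U)} (hT : IsTriv L U e) (c : (Γ(X, U))ˣ) :
    IsTriv L U ((c : Γ(X, U)) • e) := by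
  intro W hW
  have hb := hT W hW
  set cW : (Γ(X, W))ˣ := Units.map (X.presheaf.map (homOfLE hW).op).hom.toMonoidHom c with hcW
  have : (fun r : Γ(X, W) => r • res L hW ((c : Γ(X, U)) • e)) =
      (fun r : Γ(X, W) => r • res L hW e) ∘ (fun r : Γ(X, W) => r * (cW : Γ(X, W))) := by
    funext r
    simp only [Function.comp_apply]
    rw [res_smul, smul_smul]
    rfl
  rw [this]
  refine hb.comp ?_
  exact ⟨fun a b h => by simpa using h, fun a => ⟨a * ((cW⁻¹ : (Γ(X, W))ˣ) : Γ(X, W)), by simp⟩⟩

end helpers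

open Groth.Agent.Lib.Helper29.QCoh TopologicalSpace Opposite

/-- Let X be a scheme with an open cover (U_i)_{i ∈ ι}. Let L and L' be O_X-modules with sections s_i of
L and s'_i of L' over U_i that generate there (for every open V ⊆ U_i, r ↦ r · s_i|_V is a bijection
from functions on V onto sections of L over V, and likewise for s'_i), and let η_ij, η'_ij be the
functions on U_i ∩ U_j with s_i = η_ij · s_j and s'_i = η'_ij · s'_j there. Then L and L' are
isomorphic as O_X-modules if and only if there is a family of units u_i of the rings of functions on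
the U_i with η'_ij · u_i|_{U_i ∩ U_j} = u_j|_{U_i ∩ U_j} · η_ij for all i, j. (So two invertible
modules trivialised by the cover are isomorphic exactly when their transition cocycles define the
same Čech cohomology class.) -/
theorem result (X : Scheme.{u}) {ι : Type u} (U : ι → X.Opens)
    (hU : iSup U = ⊤) (L L' : X.Modules) (s : ∀ i : ι, Γ(L, U i)) (s' : ∀ i : ι, Γ(L', U i))
    (hs : ∀ (i : ι) (V : X.Opens) (h : V ≤ U i),
        Function.Bijective (fun r : Γ(X, V) => r • L.presheaf.map (homOfLE h).op (s i)))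
    (hs' : ∀ (i : ι) (V : X.Opens) (h : V ≤ U i),
        Function.Bijective (fun r : Γ(X, V) => r • L'.presheaf.map (homOfLE h).op (s' i)))
    (η η' : ∀ i j : ι, Γ(X, U i ⊓ U j))
    (hη : ∀ i j : ι, L.presheaf.map (homOfLE (inf_le_left : U i ⊓ U j ≤ U i)).op (s i) =
        η i j • L.presheaf.map (homOfLE (inf_le_right : U i ⊓ U j ≤ U j)).op (s j))
    (hη' : ∀ i j : ι, L'.presheaf.map (homOfLE (inf_le_left : U i ⊓ U j ≤ U i)).op (s' i) =
        η' i j • L'.presheaf.map (homOfLE (inf_le_right : U i ⊓ U j ≤ U j)).op (s' j)) :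
    Nonempty (L ≅ L') ↔ ∃ u : ∀ i : ι, (Γ(X, U i))ˣ, ∀ i j : ι,
      η' i j * X.presheaf.map (homOfLE (inf_le_left : U i ⊓ U j ≤ U i)).op (u i : Γ(X, U i)) =
        X.presheaf.map (homOfLE (inf_le_right : U i ⊓ U j ≤ U j)).op (u j : Γ(X, U j)) * η i j := by

  have hcov : ∀ x : X, ∃ i, x ∈ U i := by
    intro x
    have : x ∈ (iSup U : X.Opens) := by rw [hU]; trivial
    exact Opens.mem_iSup.mp this
  have hT : ∀ i, IsTriv L (U i) (s i) := fun i V h => hs i V h
  have hT' : ∀ i, IsTriv L' (U i) (s' i) := fun i V h => hs' i V h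
  have hη₁ : ∀ i j, res L (inf_le_left : U i ⊓ U j ≤ U i) (s i) =
      η i j • res L (inf_le_right : U i ⊓ U j ≤ U j) (s j) := hη
  have hη₂ : ∀ i j, res L' (inf_le_left : U i ⊓ U j ≤ U i) (s' i) =
      η' i j • res L' (inf_le_right : U i ⊓ U j ≤ U j) (s' j) := hη'
  constructor
  · rintro ⟨φ⟩
    -- φ(s_i) = u_i • s'_i
    choose a ha using fun i => (hT' i).exists_eq_smul (φ.hom.app (U i) (s i))
    have hgen : ∀ i, IsTriv L' (U i) (φ.hom.app (U i) (s i)) := fun i => (hT i).of_iso φ
    choose b hb using fun i => (hgen i).exists_eq_smul (s' i)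
    have hab : ∀ i, a i * b i = 1 := by
      intro i
      apply (hT' i).smul_left_cancel
      rw [one_smul, mul_comm, ← smul_smul, ← ha i, ← hb i]
    refine ⟨fun i => ⟨a i, b i, hab i, by rw [mul_comm]; exact hab i⟩, fun i j => ?_⟩
    show η' i j * X.presheaf.map (homOfLE (inf_le_left : U i ⊓ U j ≤ U i)).op (a i) =
        X.presheaf.map (homOfLE (inf_le_right : U i ⊓ U j ≤ U j)).op (a j) * η i j
    apply ((hT' j).restrict (inf_le_right : U i ⊓ U j ≤ U j)).smul_left_cancel
    have h1 : res L' (inf_le_left : U i ⊓ U j ≤ U i) (φ.hom.app (U i) (s i)) =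
        (X.presheaf.map (homOfLE (inf_le_left : U i ⊓ U j ≤ U i)).op (a i) * η' i j) •
          res L' (inf_le_right : U i ⊓ U j ≤ U j) (s' j) := by
      rw [ha i, res_smul, hη₂, smul_smul]
    have h2 : res L' (inf_le_left : U i ⊓ U j ≤ U i) (φ.hom.app (U i) (s i)) =
        (η i j * X.presheaf.map (homOfLE (inf_le_right : U i ⊓ U j ≤ U j)).op (a j)) •
          res L' (inf_le_right : U i ⊓ U j ≤ U j) (s' j) := by
      rw [← app_res, hη₁, Scheme.Modules.Hom.app_smul, app_res, ha j, res_smul, smul_smul]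
    rw [mul_comm (η' i j), mul_comm _ (η i j), ← h1, ← h2]
  · rintro ⟨u, hu⟩
    have hn : ∀ i, IsTriv L' (U i) ((u i : Γ(X, U i)) • s' i) := fun i =>
      isTriv_unit_smul (hT' i) (u i)
    have hc : ∀ i j, ∃ g : Γ(X, U i ⊓ U j),
        res L (inf_le_left : U i ⊓ U j ≤ U i) (s i) =
          g • res L (inf_le_right : U i ⊓ U j ≤ U j) (s j) ∧
        res L' (inf_le_left : U i ⊓ U j ≤ U i) ((u i : Γ(X, U i)) • s' i) =
          g • res L' (inf_le_right : U i ⊓ U j ≤ U j) ((u j : Γ(X, U j)) • s' j) := by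
      intro i j
      refine ⟨η i j, hη₁ i j, ?_⟩
      rw [res_smul, res_smul, hη₂, smul_smul, smul_smul, mul_comm, hu i j, mul_comm]
    obtain ⟨φ, -⟩ := exists_iso_of_cocycle (U := U) (m := s)
      (n := fun i => (u i : Γ(X, U i)) • s' i) hcov hT hn hc
    exact ⟨φ⟩

end Groth.Agent.S10964
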