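import Groth.Statements.S10966
-- import your own Groth.Agent.* helpers here
import Groth.Agent.Lib.Helper29.VA5

set_option autoImplicit false
universe u
open CategoryTheory CategoryTheory.Limits AlgebraicGeometry
open RelAmple

namespace Groth.Agent.S10966

/-- Let R be a nonzero ring and X an affine scheme of finite type over R, with structure morphism q : X
→ Spec R. Then every invertible O_X-module L is very ample relative to q: there are a natural number
n and an immersion i : X → P^n over Spec R, compatible with q, such that i^*O(1) ≅ L. -/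
theorem result (R : Type u) [CommRing R] [Nontrivial R]
    {X : Scheme.{u}} [IsAffine X] (q : X ⟶ Spec (CommRingCat.of R)) [LocallyOfFiniteType q]
    (L : X.Modules) (hL : PicF.IsInvertible L) :
    RelAmple.IsRelVeryAmplePn q L := by
  have hA : CohB1.IsAmple (Groth.Agent.Lib.Helper29.QCoh.unitM X) :=
    Groth.Agent.Lib.Helper29.QCoh.isAmple_of_isQuasiAffine
      (Groth.Agent.Lib.Helper29.QCoh.isInvertible_unit X)
  obtain ⟨n₀, hn₀⟩ := Groth.Agent.Lib.Helper29.QCoh.exists_isRelVeryAmplePn_of_isAmple q hA hL
  exact Groth.Agent.Lib.Helper29.QCoh.isRelVeryAmplePn_of_iso q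
    (Groth.Agent.Lib.Helper29.QCoh.tensorCongr
      (Groth.Agent.Lib.Helper29.QCoh.tensorPowUnit X n₀) (Iso.refl L) ≪≫
      Groth.Agent.Lib.Helper29.QCoh.tensorUnitL L) (hn₀ n₀ le_rfl)

end Groth.Agent.S10966
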