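import Mathlib
import Groth.Statements.S10967
-- import your own Groth.Agent.* helpers here

set_option autoImplicit false
universe u
open CategoryTheory AlgebraicGeometry TopologicalSpace
open MoreMor

namespace Groth.Agent.S10967

/-- Quasi-affine over an affine base: call a morphism f : X → Y quasi-affine when Y has a cover by
affine opens V_i whose preimages f⁻¹(V_i) are quasi-affine schemes (quasi-compact open subschemes of
affine schemes; equivalently quasi-compact with X → Spec Γ(X, O_X) an immersion). If Y is affine and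
f is quasi-affine in this sense, then X is a quasi-affine scheme. -/
theorem result {X Y : Scheme.{u}} [IsAffine Y]
    (f : X ⟶ Y) {ι : Type u} (V : ι → Y.Opens) (hV : iSup V = ⊤) (hVa : ∀ i, IsAffineOpen (V i))
    (hq : ∀ i, Scheme.IsQuasiAffine (↑(f ⁻¹ᵁ V i) : Scheme.{u})) :
    X.IsQuasiAffine := by
  have hqc : QuasiCompact f := by
    rw [IsZariskiLocalAtTarget.iff_of_iSup_eq_top (P := @QuasiCompact) V hV]
    intro i
    have : IsAffine (V i) := hVa i
    rw [HasAffineProperty.iff_of_isAffine (P := @QuasiCompact)]
    infer_instance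
  have hqs : QuasiSeparated f := by
    rw [IsZariskiLocalAtTarget.iff_of_iSup_eq_top (P := @QuasiSeparated) V hV]
    intro i
    have : IsAffine (V i) := hVa i
    rw [HasAffineProperty.iff_of_isAffine (P := @QuasiSeparated)]
    infer_instance
  have : CompactSpace X := QuasiCompact.compactSpace_of_compactSpace f
  have : QuasiSeparatedSpace X := quasiSeparatedSpace_of_quasiSeparated f
  suffices IsOpenImmersion X.toSpecΓ by constructor
  refine IsZariskiLocalAtTarget.of_forall_source_exists_preimage _ fun x ↦ ?_
  -- choose `i` and a global section `s` of `Y`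
  have hx : f x ∈ iSup V := by rw [hV]; trivial
  obtain ⟨i, hi⟩ := Opens.mem_iSup.mp hx
  obtain ⟨s, hsV, hxs⟩ := (isAffineOpen_top Y).exists_basicOpen_le ⟨f x, hi⟩ (by trivial)
  set r : Γ(X, ⊤) := f.appTop s with hr
  have hle : X.basicOpen r ≤ f ⁻¹ᵁ V i := by
    rw [hr, ← Scheme.preimage_basicOpen_top]
    exact f.preimage_mono hsV
  have hxr : x ∈ X.basicOpen r := by
    rw [hr, ← Scheme.preimage_basicOpen_top]
    exact hxs
  have : CompactSpace (X.basicOpen r) :=
    isCompact_iff_compactSpace.mp (isCompact_basicOpen X isCompact_univ r)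
  have hqa : Scheme.IsQuasiAffine (X.basicOpen r) :=
    Scheme.IsQuasiAffine.of_isImmersion (X.homOfLE hle)
  refine ⟨PrimeSpectrum.basicOpen r, (X.toSpecΓ_preimage_basicOpen r).ge hxr, ?_⟩
  suffices IsOpenImmersion ((X.basicOpen r).ι ≫ X.toSpecΓ) by
    convert! this <;> rw [Scheme.toSpecΓ_preimage_basicOpen]
  rw [← Scheme.Opens.toSpecΓ_SpecMap_presheaf_map_top]
  have := isLocalization_basicOpen_of_qcqs isCompact_univ isQuasiSeparated_univ r
  have h1 : IsOpenImmersion (X.basicOpen r).toSpecΓ := by
    delta Scheme.Opens.toSpecΓ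
    infer_instance
  exact MorphismProperty.comp_mem _ _ _ h1 (.of_isLocalization r)

end Groth.Agent.S10967
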