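import Groth.Statements.S10978
import Mathlib
import Groth.Agent.Lib.Helper2.FunFld.Exists

set_option autoImplicit false
open FunFld

namespace Groth.Agent.S10978

/-- In a function field of one variable the elements without poles are the constants, `L(0) = k`. -/
theorem result (k K : Type*) [Field k] [Field K] [Algebra k K]
    (hK : FunFld.IsFunctionField k K) : FunFld.L (0 : FunFld.Divisor k K) = 1 := by
  ext x
  rw [Submodule.one_eq_range, LinearMap.mem_range]
  constructor
  · intro hx
    by_contra hne
    have hx' : x ∉ Set.range (algebraMap k K) := by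
      rintro ⟨c, rfl⟩
      exact hne ⟨c, by simp [Algebra.linearMap_apply]⟩
    have htr := Groth.Agent.Lib.Helper2.FF.transcendental_of_not_mem_range hK hx'
    obtain ⟨Q, hQ⟩ := Groth.Agent.Lib.Helper2.FF.exists_place_one_lt hK htr
    have := hx Q
    simp only [Finsupp.coe_zero, Pi.zero_apply, WithZero.exp_zero] at this
    exact absurd this (not_le.2 hQ)
  · rintro ⟨c, rfl⟩
    intro P
    simp only [Finsupp.coe_zero, Pi.zero_apply, WithZero.exp_zero, Algebra.linearMap_apply]
    exact P.2.1 c

end Groth.Agent.S10978
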