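import Groth.Statements.S10984
import Mathlib
import Groth.Agent.Lib.Helper2.FunFld.AdeleG

set_option autoImplicit false
open FunFld

namespace Groth.Agent.S10984

/-- `dim_k W(D) = g - δ(D)` for every divisor `D` of a function field of one variable of genus `g`,
where `W(D)` is the space of Weil differentials vanishing on `A(D) + K`. -/
theorem result (k K : Type*) [Field k] [Field K] [Algebra k K]
    (hK : FunFld.IsFunctionField k K) (D : FunFld.Divisor k K) :
    FiniteDimensional k (FunFld.WD D) ∧
    (Module.finrank k (FunFld.WD D) : ℤ) = (FunFld.genus k K : ℤ) - (D.deg + 1 - FunFld.ell D) := by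
  obtain ⟨h1, h2⟩ := Groth.Agent.Lib.Helper2.FF.finIdx_adele hK D
  haveI : FiniteDimensional k (↥(FunFld.adele k K) ⧸ FunFld.ADK D) := h1
  have e : Module.Dual k (↥(FunFld.adele k K) ⧸ FunFld.ADK D) ≃ₗ[k] FunFld.WD D :=
    Submodule.dualQuotEquivDualAnnihilator (FunFld.ADK D)
  refine ⟨Module.Finite.equiv e, ?_⟩
  have h3 : Module.finrank k (FunFld.WD D) = Module.finrank k (↥(FunFld.adele k K) ⧸ FunFld.ADK D) := by
    rw [← e.finrank_eq, Subspace.dual_finrank_eq]
  rw [h3]
  exact h2

end Groth.Agent.S10984
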