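import Groth.Statements.S10996
import Mathlib
import Groth.Agent.Lib.Helper2.FunFld.Rational

set_option autoImplicit false
open FunFld

namespace Groth.Agent.S10996

/-- In a function field of one variable of positive genus, distinct places of degree one are not
linearly equivalent. -/
theorem result (k K : Type*) [Field k] [Field K] [Algebra k K]
    (hK : FunFld.IsFunctionField k K) (hg : 0 < FunFld.genus k K) (P P' : FunFld.Place k K) (hP : P.deg = 1) (hP' : P'.deg = 1)
    (x : K) (hx : x ≠ 0) (h : Finsupp.single P 1 - Finsupp.single P' 1 = FunFld.div k x) : P = P' := by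
  exact Groth.Agent.Lib.Helper2.FF.eq_of_single_sub_single_eq_div hK hg P P' hP hP' x hx h
end Groth.Agent.S10996
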