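import Groth.Statements.S11002
import Mathlib
import Groth.Agent.Lib.Helper9.FunFldInsep

set_option autoImplicit false
universe u v
open FunFld

namespace Groth.Agent.S11002

/-- In a geometric function field of one variable of characteristic `p > 0`, `x ∈ kK^p` iff `dx = 0` in
`Ω_{K/k}` iff `x` is not a separating variable (`K/k(x)` not separable algebraic). -/
theorem result (k : Type u) (K : Type v) [Field k] [Field K] [Algebra k K] (p : ℕ) [Fact p.Prime] [CharP K p]
    (hK : FunFld.IsFunctionField k K) (hg : FunFld.IsGeometric k K) (x : K) :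
    (x ∈ IntermediateField.adjoin k (Set.range fun y : K => y ^ p) ↔ KaehlerDifferential.D k K x = 0) ∧
    (x ∈ IntermediateField.adjoin k (Set.range fun y : K => y ^ p) ↔
      ¬ Algebra.IsSeparable (IntermediateField.adjoin k ({x} : Set K)) K) := by
  obtain ⟨⟨x₁, hx₁, hfin₁⟩, hclosed⟩ := hK
  obtain ⟨t, ht, hsep⟩ := Groth.Agent.Lib.Helper9.FunFld.exists_separating_variable hx₁ hfin₁ hg
  have hess : Algebra.EssFiniteType k K :=
    Groth.Agent.Lib.Helper9.FunFld.essFiniteType_of_finite_adjoin hfin₁
  have hfr := Groth.Agent.Lib.Helper9.FunFld.finrank_kaehler_eq_one_of_separating ht hsep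
  have hA : x ∈ IntermediateField.adjoin k (Set.range fun y : K => y ^ p) ↔
      KaehlerDifferential.D k K x = 0 :=
    ⟨fun h => Groth.Agent.Lib.Helper9.FunFld.D_eq_zero_of_mem_adjoin_pow p h,
      fun h => Groth.Agent.Lib.Helper9.FunFld.mem_adjoin_pow_of_D_eq_zero p ht hsep h⟩
  refine ⟨hA, ?_⟩
  constructor
  · intro hx hsepx
    -- `x` is transcendental
    have hxtr : Transcendental k x := by
      intro halg
      have h1 : Algebra.IsAlgebraic k (IntermediateField.adjoin k ({x} : Set K)) :=
        IntermediateField.isAlgebraic_adjoin_simple halg.isIntegral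
      have h2 : Algebra.IsAlgebraic (IntermediateField.adjoin k ({x} : Set K)) K :=
        inferInstance
      have h3 : Algebra.IsAlgebraic k K :=
        Algebra.IsAlgebraic.trans k (IntermediateField.adjoin k ({x} : Set K)) K
      exact hx₁ (Algebra.IsAlgebraic.isAlgebraic x₁)
    exact Groth.Agent.Lib.Helper9.FunFld.D_ne_zero_of_separating hxtr hsepx (hA.mp hx)
  · intro hns
    by_contra hx
    exact hns (Groth.Agent.Lib.Helper9.FunFld.isSeparable_adjoin_simple_of_D_ne_zero hfr
      (fun h => hx (hA.mpr h)))

end Groth.Agent.S11002
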