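import Groth.Statements.S11004
import Mathlib
import Groth.Agent.Lib.Helper2.FunFld.SepPl
import Groth.Agent.Lib.Helper2.FunFld.InfPl

set_option autoImplicit false
universe u v
open FunFld

namespace Groth.Agent.S11004
open Groth.Agent.Lib.Helper2.FF

/-- A geometric function field of one variable has infinitely many places with residue field separable
over `k`. -/
theorem result (k : Type u) (K : Type v) [Field k] [Field K] [Algebra k K]
    (hK : FunFld.IsFunctionField k K) (hg : FunFld.IsGeometric k K) :
    {P : FunFld.Place k K | Algebra.IsSeparable k (IsLocalRing.ResidueField P.O)}.Infinite := by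
  classical
  obtain ⟨⟨x₁, hx₁, hfin⟩, hcl⟩ := id hK
  rcases finite_or_infinite k with hfk | hik
  · -- finite constant field: every place is separable
    haveI : Infinite (FunFld.Place k K) := infinite_places hK
    have hall : ∀ P : FunFld.Place k K, Algebra.IsSeparable k (IsLocalRing.ResidueField P.O) := by
      intro P
      have hfd := finiteDimensional_residueField P hK
      haveI : @Module.Finite k (IsLocalRing.ResidueField P.O) _ _ (Algebra.toModule) := hfd
      haveI : Algebra.IsAlgebraic k (IsLocalRing.ResidueField P.O) := Algebra.IsAlgebraic.of_finite k _
      exact Algebra.IsAlgebraic.isSeparable_of_perfectField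
    have : {P : FunFld.Place k K | Algebra.IsSeparable k (IsLocalRing.ResidueField P.O)} = Set.univ := by
      ext P
      simp only [Set.mem_ofPred_eq, Set.mem_univ, iff_true]
      exact hall P
    rw [this]
    exact Set.infinite_univ
  · obtain ⟨t, ht, hsep⟩ := Groth.Agent.Lib.Helper9.FunFld.exists_separating_variable hx₁ hfin hg
    haveI := Groth.Agent.Lib.Helper9.FunFld.finite_adjoin_of_transcendental hx₁ hfin ht
    exact infinite_separable_places_of_infinite hK ht

end Groth.Agent.S11004
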