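import Groth.Statements.S11005
import Mathlib

set_option autoImplicit false
universe u v
open FunFld

namespace Groth.Agent.S11005

open IntermediateField in
open scoped IntermediateField.algebraAdjoinAdjoin in
/-- A transcendental element of a field of finite degree over `k(x₁)` (with `x₁` transcendental)
generates a subfield over which the big field is algebraic. -/
theorem isAlgebraic_adjoin_of_transcendental {k : Type u} {K : Type v} [Field k] [Field K]
    [Algebra k K] {x₁ x : K} (hx₁ : Transcendental k x₁)
    (hfin₁ : FiniteDimensional (IntermediateField.adjoin k ({x₁} : Set K)) K)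
    (hx : Transcendental k x) :
    Algebra.IsAlgebraic (IntermediateField.adjoin k ({x} : Set K)) K := by
  have hind₁ : AlgebraicIndependent k (fun _ : PUnit.{v+1} => x₁) :=
    (algebraicIndependent_unique_type_iff).mpr hx₁
  have hr₁ : Set.range (fun _ : PUnit.{v+1} => x₁) = {x₁} := Set.range_const
  have halg₁ : Algebra.IsAlgebraic (Algebra.adjoin k (Set.range (fun _ : PUnit.{v+1} => x₁))) K := by
    rw [hr₁]
    have : Algebra.IsAlgebraic (IntermediateField.adjoin k ({x₁} : Set K)) K :=
      Algebra.IsAlgebraic.of_finite _ _
    exact (IsFractionRing.comap_isAlgebraic_iff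
      (K := IntermediateField.adjoin k ({x₁} : Set K))).mpr this
  have hB₁ : IsTranscendenceBasis k (fun _ : PUnit.{v+1} => x₁) :=
    hind₁.isTranscendenceBasis_iff_isAlgebraic.mpr halg₁
  have htr : Algebra.trdeg k K = 1 := by
    rw [← hB₁.cardinalMk_eq_trdeg]; simp
  have hind : AlgebraicIndependent k (fun _ : PUnit.{v+1} => x) :=
    (algebraicIndependent_unique_type_iff).mpr hx
  have hB : IsTranscendenceBasis k (fun _ : PUnit.{v+1} => x) :=
    hind.isTranscendenceBasis_of_trdeg_le_of_finite (by simp [htr])
  have halg := hB.isAlgebraic_field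
  have hr : Set.range (fun _ : PUnit.{v+1} => x) = {x} := Set.range_const
  rwa [hr] at halg

/-- An intermediate field `K₀` of a geometric function field of one variable `K/k` that is
transcendental over `k` is again a geometric function field of one variable over `k`. -/
theorem result (k : Type u) (K : Type v) [Field k] [Field K] [Algebra k K]
    (hK : FunFld.IsFunctionField k K) (hg : FunFld.IsGeometric k K) (K₀ : IntermediateField k K)
    (h₀ : ∃ x ∈ K₀, Transcendental k x) : FunFld.IsFunctionField k K₀ ∧ FunFld.IsGeometric k K₀ := by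
  obtain ⟨⟨x₁, hx₁, hfin₁⟩, hclosed⟩ := hK
  obtain ⟨x, hxK₀, hx⟩ := h₀
  refine ⟨⟨⟨⟨x, hxK₀⟩, ?_, ?_⟩, ?_⟩, ?_⟩
  · -- transcendental in K₀
    intro h
    exact hx ((isAlgebraic_algebraMap_iff (A := K) (algebraMap K₀ K).injective).mpr h)
  · -- finiteness
    set x₀ : K₀ := ⟨x, hxK₀⟩ with hx₀
    set F₀ : IntermediateField k K₀ := IntermediateField.adjoin k ({x₀} : Set K₀) with hF₀
    have hlift : IntermediateField.lift F₀ = IntermediateField.adjoin k ({x} : Set K) :=
      IntermediateField.lift_adjoin_simple (F := k) K₀ x₀
    have halgF : Algebra.IsAlgebraic (IntermediateField.lift F₀) K := by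
      rw [hlift]; exact isAlgebraic_adjoin_of_transcendental hx₁ hfin₁ hx
    have halg₀ : Algebra.IsAlgebraic F₀ K :=
      Algebra.IsAlgebraic.of_ringHom_of_comp_eq (S := IntermediateField.lift F₀) (B := K)
        (IntermediateField.liftAlgEquiv F₀ : F₀ →+* IntermediateField.lift F₀) (RingHom.id K)
        (IntermediateField.liftAlgEquiv F₀).surjective Function.injective_id rfl
    have hess₁ : Algebra.EssFiniteType k (IntermediateField.adjoin k ({x₁} : Set K)) :=
      IntermediateField.essFiniteType_iff.mpr ⟨{x₁}, by simp⟩
    have hess₂ : Algebra.EssFiniteType (IntermediateField.adjoin k ({x₁} : Set K)) K :=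
      inferInstance
    have hessK : Algebra.EssFiniteType k K :=
      Algebra.EssFiniteType.comp k (IntermediateField.adjoin k ({x₁} : Set K)) K
    have hess₀ : Algebra.EssFiniteType F₀ K := Algebra.EssFiniteType.of_comp k F₀ K
    have hfin₀ : Module.Finite F₀ K := Algebra.finite_of_essFiniteType_of_isAlgebraic
    exact FiniteDimensional.of_injective (IsScalarTower.toAlgHom F₀ K₀ K).toLinearMap
      (algebraMap K₀ K).injective
  · intro y hy
    have hy' : IsAlgebraic k (algebraMap K₀ K y) :=
      (isAlgebraic_algebraMap_iff (A := K) (algebraMap K₀ K).injective).mpr hy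
    obtain ⟨c, hc⟩ := hclosed _ hy'
    exact ⟨c, Subtype.ext hc⟩
  · intro k' _ _ hfd
    have hF : IsField (TensorProduct k k' K) := hg k' hfd
    -- work with `K₀ ⊗ k'`
    let φ : TensorProduct k K₀ k' →ₐ[k] TensorProduct k K k' :=
      Algebra.TensorProduct.map K₀.val (AlgHom.id k k')
    have hφ : Function.Injective φ := by
      have : ⇑φ = ⇑(LinearMap.rTensor k' K₀.val.toLinearMap) := rfl
      rw [this]
      exact Module.Flat.rTensor_preserves_injective_linearMap (M := k') K₀.val.toLinearMap
        Subtype.val_injective
    let ψ : TensorProduct k K₀ k' →+* TensorProduct k k' K :=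
      ((Algebra.TensorProduct.comm k K k').toAlgHom.comp φ).toRingHom
    have hψ : Function.Injective ψ := (Algebra.TensorProduct.comm k K k').injective.comp hφ
    have := hF.isDomain
    have hdom : IsDomain (TensorProduct k K₀ k') := hψ.isDomain ψ
    have hint : Algebra.IsIntegral k k' := Algebra.IsIntegral.of_finite k k'
    have hfield : IsField (TensorProduct k K₀ k') :=
      isField_of_isIntegral_of_isField' (R := K₀) (S := TensorProduct k K₀ k')
        (Field.toIsField K₀)
    exact (Algebra.TensorProduct.comm k k' K₀).toMulEquiv.isField hfield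

end Groth.Agent.S11005
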