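import Groth.Statements.S11007
import Mathlib
import Groth.Agent.Lib.Helper9.FunFldInsep

set_option autoImplicit false
universe u v
open FunFld

namespace Groth.Agent.S11007

/-- In a geometric function field of one variable of characteristic `p > 0`, `kK^p` is the only
intermediate field over which `K` is purely inseparable of degree `p`. The companion assertion about
the natural map on Kähler differentials is not stated. -/
theorem result (k : Type u) (K : Type v) [Field k] [Field K] [Algebra k K] (p : ℕ) [Fact p.Prime] [CharP K p]
    (hK : FunFld.IsFunctionField k K) (hg : FunFld.IsGeometric k K) (K₀ : IntermediateField k K) :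
    (IsPurelyInseparable K₀ K ∧ Module.finrank K₀ K = p) ↔ K₀ = IntermediateField.adjoin k (Set.range fun y : K => y ^ p) := by
  obtain ⟨⟨x₁, hx₁, hfin₁⟩, hclosed⟩ := hK
  obtain ⟨t, ht, hsep⟩ := Groth.Agent.Lib.Helper9.FunFld.exists_separating_variable hx₁ hfin₁ hg
  have hfrL := Groth.Agent.Lib.Helper9.FunFld.finrank_adjoin_pow_of_separating p ht hsep
  have hp : p.Prime := Fact.out
  have hpk : CharP k p := (algebraMap k K).charP (algebraMap k K).injective p
  constructor
  · rintro ⟨hpi, hfr⟩
    have : ExpChar K₀ p :=
      haveI : CharP K₀ p := (algebraMap K₀ K).charP (algebraMap K₀ K).injective p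
      ExpChar.prime hp
    have hfd : FiniteDimensional K₀ K :=
      Module.finite_of_finrank_pos (hfr.symm ▸ hp.pos)
    have hle : IntermediateField.adjoin k (Set.range fun y : K => y ^ p) ≤ K₀ := by
      rw [IntermediateField.adjoin_le_iff]
      rintro _ ⟨y, rfl⟩
      obtain ⟨n, c, hmin⟩ := IsPurelyInseparable.minpoly_eq_X_pow_sub_C (F := K₀) p y
      have hdeg : (minpoly K₀ y).natDegree ≤ p := hfr ▸ minpoly.natDegree_le y
      rw [hmin, Polynomial.natDegree_X_pow_sub_C] at hdeg
      have hn : n ≤ 1 := by
        by_contra hn
        push Not at hn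
        have : p ^ 2 ≤ p ^ n := Nat.pow_le_pow_right hp.pos hn
        have : p < p ^ 2 := by nlinarith [hp.two_le]
        omega
      have haeval := minpoly.aeval K₀ y
      rw [hmin] at haeval
      simp only [map_sub, map_pow, Polynomial.aeval_X, Polynomial.aeval_C] at haeval
      have hyc : y ^ p ^ n = algebraMap K₀ K c := sub_eq_zero.mp haeval
      interval_cases n
      · simp only [pow_zero, pow_one] at hyc
        have hy : y ∈ K₀ := hyc ▸ c.2
        exact pow_mem hy p
      · simp only [pow_one] at hyc
        change y ^ p ∈ K₀
        rw [hyc]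
        exact c.2
    have hfdL : FiniteDimensional (IntermediateField.adjoin k (Set.range fun y : K => y ^ p)) K :=
      Module.finite_of_finrank_pos (hfrL.symm ▸ hp.pos)
    exact (IntermediateField.eq_of_le_of_finrank_eq' hle (hfrL.trans hfr.symm)).symm
  · rintro rfl
    refine ⟨?_, hfrL⟩
    have : ExpChar (IntermediateField.adjoin k (Set.range fun y : K => y ^ p)) p :=
      haveI : CharP (IntermediateField.adjoin k (Set.range fun y : K => y ^ p)) p :=
        RingHom.charP (algebraMap (IntermediateField.adjoin k (Set.range fun y : K => y ^ p)) K)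
          (FaithfulSMul.algebraMap_injective _ _) p
      ExpChar.prime hp
    rw [isPurelyInseparable_iff_pow_mem _ p]
    intro y
    refine ⟨1, ⟨⟨y ^ p, IntermediateField.subset_adjoin _ _ ⟨y, rfl⟩⟩, ?_⟩⟩
    simp

end Groth.Agent.S11007
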