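import Groth.Statements.S11010
import Mathlib
import Groth.Agent.Lib.Helper2.FunFld.GEO3
import Groth.Agent.Lib.Helper9.FunFld
import Groth.Agent.Lib.Helper9.FunFldSep

set_option autoImplicit false
universe u v
open FunFld

namespace Groth.Agent.S11010
open IntermediateField

/-- A finite separable extension `K'/k'` of a geometric function field of one variable `K/k` (with `k'`
the constant field of `K'`) is again geometric. (The published statement has no separability
hypothesis on `K'/K`; for `k = 𝔽_p(s,t)`, `K = k(x)` and `K' = K(y)` with `y^p = s x^p + t`, the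
field `k` is algebraically closed in `K'` yet `k(s^{1/p}, t^{1/p}) ⊗_k K'` has nonzero nilpotents,
so `K'/K` is taken separable here.) -/
theorem result (k k' : Type u) (K K' : Type v) [Field k] [Field k'] [Field K] [Field K']
    [Algebra k k'] [Algebra k K] [Algebra K K'] [Algebra k' K'] [Algebra k K']
    [IsScalarTower k k' K'] [IsScalarTower k K K'] [FiniteDimensional K K'] [Algebra.IsSeparable K K']
    (hK : FunFld.IsFunctionField k K) (hg : FunFld.IsGeometric k K)
    (hK' : FunFld.IsFunctionField k' K') : FunFld.IsGeometric k' K' := by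
  classical
  obtain ⟨⟨x₁, hx₁, hfin⟩, hclK⟩ := id hK
  obtain ⟨t₀, ht₀, hsep⟩ := Groth.Agent.Lib.Helper9.FunFld.exists_separating_variable hx₁ hfin hg
  haveI : FiniteDimensional k⟮t₀⟯ K :=
    Groth.Agent.Lib.Helper9.FunFld.finite_adjoin_of_transcendental hx₁ hfin ht₀
  haveI : Algebra.IsSeparable k⟮t₀⟯ K := hsep
  set t : K' := algebraMap K K' t₀ with ht
  haveI hfinK' : Module.Finite k⟮t₀⟯ K' := Module.Finite.trans K K'
  haveI hsepK' : Algebra.IsSeparable k⟮t₀⟯ K' := Algebra.IsSeparable.trans k⟮t₀⟯ K K'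
  -- `t` is transcendental over `k'`
  have httr : Transcendental k' t := by
    intro halg
    obtain ⟨c, hc⟩ := hK'.2 t halg
    obtain ⟨⟨x', hx', -⟩, -⟩ := id hK'
    apply hx'
    -- `k⟮t₀⟯` maps into the bottom field of `K'/k'`
    let M : IntermediateField k K :=
      ((⊥ : IntermediateField k' K').restrictScalars k).comap (IsScalarTower.toAlgHom k K K')
    have hle : k⟮t₀⟯ ≤ M := by
      rw [IntermediateField.adjoin_simple_le_iff]
      change algebraMap K K' t₀ ∈ (⊥ : IntermediateField k' K')
      rw [IntermediateField.mem_bot]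
      exact ⟨c, hc⟩
    let f : k⟮t₀⟯ →+* (⊥ : IntermediateField k' K') :=
      ((algebraMap K K').comp (algebraMap k⟮t₀⟯ K)).codRestrict (⊥ : IntermediateField k' K')
        (fun y => hle y.2)
    have hx'alg : IsAlgebraic k⟮t₀⟯ x' := Algebra.IsAlgebraic.isAlgebraic x'
    have h1 : IsAlgebraic (⊥ : IntermediateField k' K') x' :=
      hx'alg.ringHom_of_comp_eq f (RingHom.id K') f.injective (by ext y; rfl)
    exact IsAlgebraic.restrictScalars k' h1
  -- separability over `k'(t)`
  let M₂ : IntermediateField k K :=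
    ((k'⟮t⟯ : IntermediateField k' K').restrictScalars k).comap (IsScalarTower.toAlgHom k K K')
  have hle₂ : k⟮t₀⟯ ≤ M₂ := by
    rw [IntermediateField.adjoin_simple_le_iff]
    change algebraMap K K' t₀ ∈ (k'⟮t⟯ : IntermediateField k' K')
    exact IntermediateField.mem_adjoin_simple_self k' t
  let f₂ : k⟮t₀⟯ →+* (k'⟮t⟯ : IntermediateField k' K') :=
    ((algebraMap K K').comp (algebraMap k⟮t₀⟯ K)).codRestrict (k'⟮t⟯ : IntermediateField k' K')
      (fun y => hle₂ y.2)
  letI : Algebra k⟮t₀⟯ (k'⟮t⟯ : IntermediateField k' K') := f₂.toAlgebra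
  haveI : IsScalarTower k⟮t₀⟯ (k'⟮t⟯ : IntermediateField k' K') K' :=
    IsScalarTower.of_algebraMap_eq (fun y => rfl)
  haveI : Algebra.IsSeparable (k'⟮t⟯ : IntermediateField k' K') K' :=
    Algebra.isSeparable_tower_top_of_isSeparable k⟮t₀⟯ _ K'
  haveI : FiniteDimensional (k'⟮t⟯ : IntermediateField k' K') K' :=
    Module.Finite.of_restrictScalars_finite k⟮t₀⟯ _ K'
  exact Groth.Agent.Lib.Helper2.Geo.isGeometric_of_separating hK'.2 httr

end Groth.Agent.S11010
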