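import Groth.Statements.S11011
import Mathlib
import Groth.Agent.Lib.Helper2.FunFld.PInsep2

set_option autoImplicit false
universe u v
open FunFld

namespace Groth.Agent.S11011

/-- For a place `P` of a geometric function field of one variable `K/k` and a finite extension `k'/k`
with either `k'/k` or `F_P/k` purely inseparable, `P` has exactly one place of `k' ⊗_k K` above it. -/
theorem result (k k' : Type u) (K K' : Type v) [Field k] [Field k'] [Field K] [Field K']
    [Algebra k k'] [FiniteDimensional k k'] [Algebra k K] [Algebra K K'] [Algebra k' K'] [Algebra k K']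
    [IsScalarTower k k' K'] [IsScalarTower k K K']
    (h : Function.Bijective (Algebra.TensorProduct.productMap
      (IsScalarTower.toAlgHom k k' K') (IsScalarTower.toAlgHom k K K')))
    (hK : FunFld.IsFunctionField k K) (hg : FunFld.IsGeometric k K) (P : FunFld.Place k K)
    (hpi : IsPurelyInseparable k k' ∨ IsPurelyInseparable k (IsLocalRing.ResidueField P.O)) :
    ∃! Q : FunFld.Place k K', FunFld.IsOver Q P := by
  classical
  haveI := Groth.Agent.Lib.Helper2.FF.finiteDimensional_cExt (K := K) (K' := K') h
  obtain ⟨⟨Q, hQ⟩⟩ := Groth.Agent.Lib.Helper2.FF.nonempty_overP (K' := K') P hK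
  refine ⟨Q, hQ, fun Q' hQ' => ?_⟩
  rcases hpi with hpi | hpi
  · haveI := hpi
    haveI := Groth.Agent.Lib.Helper2.FF.isPurelyInseparable_cExt (K := K) (K' := K') h.surjective
    exact Groth.Agent.Lib.Helper2.FF.place_unique_of_isPurelyInseparable hQ' hQ
  · haveI := hpi
    exact Groth.Agent.Lib.Helper2.FF.place_unique_cExt_of_residue_pi h hK P hQ' hQ

end Groth.Agent.S11011
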