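import Groth.Statements.S11017
import Mathlib

set_option autoImplicit false
open FunFld

namespace Groth.Agent.S11017

/-- For a Weil differential `ω` with divisor `C`, `ord_P [ω] ≥ e` iff `ω` kills every repartition
concentrated at `P` with `P`-component of order at least `-e`. -/
theorem result (k K : Type*) [Field k] [Field K] [Algebra k K] (ω : Module.Dual k (FunFld.adele k K)) (C : FunFld.Divisor k K) (hω : FunFld.IsDivOf ω C)
    (P : FunFld.Place k K) (e : ℤ) :
    e ≤ C P ↔ ∀ (a : FunFld.Place k K → K) (ha : a ∈ FunFld.adele k K),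
      (∀ Q, Q ≠ P → a Q = 0) → P.1 (a P) ≤ WithZero.exp e → ω ⟨a, ha⟩ = 0 := by
  classical
  set E : FunFld.Divisor k K := C.update P e with hE
  have hEP : E P = e := by simp [hE]
  have hEQ : ∀ Q, Q ≠ P → E Q = C Q := fun Q hQ => by simp [hE, Function.update_of_ne hQ]
  constructor
  · intro he a ha hconc hval
    have hle : E ≤ C := by
      intro Q
      by_cases hQ : Q = P
      · subst hQ; rw [hEP]; exact he
      · rw [hEQ Q hQ]
    have hmem : ω ∈ FunFld.WD E := (hω E).mpr hle
    rw [FunFld.WD, Submodule.mem_dualAnnihilator] at hmem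
    apply hmem
    change a ∈ FunFld.AD E ⊔ LinearMap.range (FunFld.diag k K)
    refine Submodule.mem_sup_left fun Q => ?_
    by_cases hQ : Q = P
    · subst hQ; rw [hEP]; exact hval
    · rw [hconc Q hQ, map_zero]; exact zero_le
  · intro H
    by_contra hlt
    push Not at hlt
    have hmem : ω ∈ FunFld.WD E := by
      rw [FunFld.WD, Submodule.mem_dualAnnihilator]
      intro b hb
      have hb' : (b : FunFld.Place k K → K) ∈ FunFld.AD E ⊔ LinearMap.range (FunFld.diag k K) := hb
      obtain ⟨a', ha', y, ⟨x, rfl⟩, hsum⟩ := Submodule.mem_sup.mp hb'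
      set aP : FunFld.Place k K → K := Pi.single P (a' P) with haPdef
      have haPP : aP P = a' P := by simp [haPdef]
      have haPQ : ∀ Q, Q ≠ P → aP Q = 0 := fun Q hQ => by simp [haPdef, Pi.single_eq_of_ne hQ]
      have haP : aP ∈ FunFld.adele k K := by
        change ∀ᶠ Q : FunFld.Place k K in Filter.cofinite, Q.1 (aP Q) ≤ 1
        rw [Filter.eventually_cofinite]
        refine Set.Finite.subset (Set.finite_singleton P) fun Q hQ => ?_
        by_contra hne
        apply hQ
        rw [haPQ Q hne, map_zero]
        exact zero_le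
      have h1 : ω ⟨aP, haP⟩ = 0 := by
        refine H aP haP haPQ ?_
        rw [haPP, ← hEP]
        exact ha' P
      have hC : ω ∈ FunFld.WD C := (hω C).mpr le_rfl
      rw [FunFld.WD, Submodule.mem_dualAnnihilator] at hC
      have h2 : ω (b - ⟨aP, haP⟩) = 0 := by
        apply hC
        change ((b - ⟨aP, haP⟩ : FunFld.adele k K) : FunFld.Place k K → K) ∈
          FunFld.AD C ⊔ LinearMap.range (FunFld.diag k K)
        have : ((b - ⟨aP, haP⟩ : FunFld.adele k K) : FunFld.Place k K → K) =
            (a' - aP) + FunFld.diag k K x := by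
          rw [Submodule.coe_sub, ← hsum]
          simp only
          abel
        rw [this]
        refine Submodule.add_mem_sup (fun Q => ?_) ⟨x, rfl⟩
        by_cases hQ : Q = P
        · subst hQ
          rw [Pi.sub_apply, haPP, sub_self, map_zero]
          exact zero_le
        · rw [Pi.sub_apply, haPQ Q hQ, sub_zero, ← hEQ Q hQ]
          exact ha' Q
      have : b = (b - ⟨aP, haP⟩) + ⟨aP, haP⟩ := by abel
      rw [this, map_add, h1, h2, add_zero]
    have hle := (hω E).mp hmem
    have := hle P
    rw [hEP] at this
    exact absurd this (not_le.mpr hlt)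

end Groth.Agent.S11017
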