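import Groth.Statements.S11018
import Mathlib
import Groth.Agent.Lib.Helper2.FunFld.NonSing

set_option autoImplicit false
universe u v
open FunFld

namespace Groth.Agent.S11018

/-- Every place with separable residue field is nonsingular: for all finite `k'/k` the integral closure
of `O_P` in `k' ⊗_k K` is `k' ⊗_k O_P`. -/
theorem result (k k' : Type u) (K K' : Type v) [Field k] [Field k'] [Field K] [Field K']
    [Algebra k k'] [FiniteDimensional k k'] [Algebra k K] [Algebra K K'] [Algebra k' K'] [Algebra k K']
    [IsScalarTower k k' K'] [IsScalarTower k K K']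
    (h : Function.Bijective (Algebra.TensorProduct.productMap
      (IsScalarTower.toAlgHom k k' K') (IsScalarTower.toAlgHom k K K')))
    (hK : FunFld.IsFunctionField k K) (hg : FunFld.IsGeometric k K)
    (P : FunFld.Place k K) [Algebra.IsSeparable k (IsLocalRing.ResidueField P.O)]
    [Algebra P.O K'] [IsScalarTower P.O K K'] :
    (integralClosure P.O K').toSubring =
      (Algebra.adjoin P.O (Set.range (algebraMap k' K'))).toSubring := by
  classical
  haveI hfin : @Module.Finite k (IsLocalRing.ResidueField P.O) _ _ (Place.algRes P).toModule := by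
    haveI := Groth.Agent.Lib.Helper2.FF.finiteDimensional_residueField P hK
    exact Module.Finite.equiv (Groth.Agent.Lib.Helper2.FF.resFieldModEquiv P)
  apply le_antisymm
  · intro z hz
    have hz' : IsIntegral P.O z := hz
    have := Groth.Agent.Lib.Helper2.FF.integralClosure_le_range_PhiO
      (F := IsLocalRing.ResidueField P.O) h P (Groth.Agent.Lib.Helper2.FF.resAlg P)
      (Groth.Agent.Lib.Helper2.FF.resAlg_surjective P)
      (Groth.Agent.Lib.Helper2.FF.resAlg_eq_zero_iff P) z hz'
    exact (Groth.Agent.Lib.Helper2.FF.mem_adjoin_iff_mem_range P z).2 this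
  · have hle : Algebra.adjoin P.O (Set.range (algebraMap k' K')) ≤ integralClosure P.O K' := by
      apply Algebra.adjoin_le
      rintro _ ⟨c, rfl⟩
      have hc : IsIntegral k c := (Algebra.IsAlgebraic.isAlgebraic (R := k) c).isIntegral
      have h2 : IsIntegral k (algebraMap k' K' c) := hc.map (IsScalarTower.toAlgHom k k' K')
      obtain ⟨p, hpm, hp⟩ := h2
      refine ⟨p.map (algebraMap k P.O), hpm.map _, ?_⟩
      rw [Polynomial.eval₂_map]
      have : (algebraMap P.O K').comp (algebraMap k P.O) = algebraMap k K' := by
        ext c
        change algebraMap P.O K' (algebraMap k P.O c) = algebraMap k K' c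
        rw [IsScalarTower.algebraMap_apply P.O K K', IsScalarTower.algebraMap_apply k K K']
        rfl
      rw [this]
      exact hp
    intro z hz
    exact hle hz

end Groth.Agent.S11018
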