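import Groth.Statements.S11025
import Mathlib

set_option autoImplicit false
open FunFld

namespace Groth.Agent.S11025

open WithZero

section
variable {K K' : Type*} [Field K] [Field K'] [Algebra K K']
  (v : Valuation K' (WithZero (Multiplicative ℤ)))

/-- `σ` lies in the `i`-th ramification group of `v` (lower numbering shifted by one). -/
def InG (σ : K' ≃ₐ[K] K') (i : ℤ) : Prop :=
  ∀ x : K', v x ≤ 1 → v (σ x - x) ≤ exp (-i)

variable {v}

lemma exp_neg_le_one {i : ℤ} (hi : 0 ≤ i) : (exp (-i) : WithZero (Multiplicative ℤ)) ≤ 1 := by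
  rw [← exp_zero, exp_le_exp]; omega

lemma InG.map_le_one {σ : K' ≃ₐ[K] K'} {i : ℤ} (h : InG v σ i) (hi : 0 ≤ i) {x : K'}
    (hx : v x ≤ 1) : v (σ x) ≤ 1 := by
  have : σ x = (σ x - x) + x := by ring
  rw [this]
  exact (v.map_add _ _).trans (max_le ((h x hx).trans (exp_neg_le_one hi)) hx)

lemma InG.pow {σ : K' ≃ₐ[K] K'} {i : ℤ} (h : InG v σ i) (hi : 0 ≤ i) (n : ℕ) :
    InG v (σ ^ n) i := by
  induction n with
  | zero => intro x _; simp
  | succ n ih =>
    intro x hx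
    have : (σ ^ (n + 1)) x - x = ((σ ^ n) (σ x) - σ x) + (σ x - x) := by
      rw [pow_succ, AlgEquiv.mul_apply]; ring
    rw [this]
    exact (v.map_add _ _).trans (max_le (ih _ (h.map_le_one hi hx)) (h x hx))

/-- Elements of the `i`-th ramification group move `𝔪^j` into `𝔪^(j+i-1)`. -/
lemma InG.shift {σ : K' ≃ₐ[K] K'} {i : ℤ} (h : InG v σ i) (hi : 1 ≤ i) {t : K'}
    (ht : v t = exp (-1)) (j : ℕ) :
    ∀ y : K', v y ≤ exp (-(j : ℤ)) → v (σ y - y) ≤ exp (-((j : ℤ) + i - 1)) := by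
  have ht0 : t ≠ 0 := by
    intro h0; rw [h0, map_zero] at ht; exact exp_ne_zero ht.symm
  have ht1 : v t ≤ 1 := by rw [ht]; exact exp_neg_le_one (by norm_num)
  have hσt : v (σ t) ≤ exp (-1) := by
    have : σ t = (σ t - t) + t := by ring
    rw [this]
    refine (v.map_add _ _).trans (max_le ((h t ht1).trans ?_) ht.le)
    rw [exp_le_exp]; omega
  induction j with
  | zero =>
    intro y hy
    simp only [Nat.cast_zero, neg_zero, exp_zero] at hy
    refine (h y hy).trans ?_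
    rw [exp_le_exp]; simp
  | succ j ih =>
    intro y hy
    set y' := y / t with hy'
    have hyt : y = t * y' := by rw [hy']; field_simp
    have hvy' : v y' ≤ exp (-(j : ℤ)) := by
      rw [hy', map_div₀, ht, div_le_iff₀ exp_pos, ← exp_add]
      refine hy.trans ?_
      rw [exp_le_exp]; push_cast; omega
    have hdecomp : σ y - y = σ t * (σ y' - y') + (σ t - t) * y' := by
      rw [hyt, map_mul]; ring
    rw [hdecomp]
    refine (v.map_add _ _).trans (max_le ?_ ?_)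
    · rw [map_mul]
      refine (mul_le_mul' hσt (ih y' hvy')).trans ?_
      rw [← exp_add, exp_le_exp]; push_cast; omega
    · rw [map_mul]
      refine (mul_le_mul' (h t ht1) hvy').trans ?_
      rw [← exp_add, exp_le_exp]; push_cast; omega

/-- For `σ ∈ G_i`, `i ≥ 2`, and `y ∈ 𝔪^i`: `σ y - y ∈ 𝔪^(i+1)`. -/
lemma InG.shift' {σ : K' ≃ₐ[K] K'} {i : ℕ} (h : InG v σ i) (hi : 2 ≤ i) {t : K'}
    (ht : v t = exp (-1)) {y : K'} (hy : v y ≤ exp (-(i : ℤ))) :
    v (σ y - y) ≤ exp (-((i : ℤ) + 1)) := by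
  refine (h.shift (by omega) ht i y hy).trans ?_
  rw [exp_le_exp]; omega

lemma InG.comm_aux {σ τ : K' ≃ₐ[K] K'} {i : ℕ} (hσ : InG v σ i) (hτ : InG v τ i) (hi : 2 ≤ i)
    {t : K'} (ht : v t = exp (-1)) {x : K'} (hx : v x ≤ 1) :
    v (σ (τ x) - τ (σ x)) ≤ exp (-((i : ℤ) + 1)) := by
  have : σ (τ x) - τ (σ x) =
      (σ (τ x - x) - (τ x - x)) - (τ (σ x - x) - (σ x - x)) := by
    simp only [map_sub]; ring
  rw [this]
  refine (Valuation.map_sub _ _ _).trans (max_le ?_ ?_)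
  · exact hσ.shift' hi ht (hτ x hx)
  · exact hτ.shift' hi ht (hσ x hx)

lemma InG.pow_sub {σ : K' ≃ₐ[K] K'} {i : ℕ} (hσ : InG v σ i) (hi : 2 ≤ i)
    {t : K'} (ht : v t = exp (-1)) (n : ℕ) {x : K'} (hx : v x ≤ 1) :
    v ((σ ^ n) x - x - n • (σ x - x)) ≤ exp (-((i : ℤ) + 1)) := by
  induction n with
  | zero => simp
  | succ n ih =>
    have : (σ ^ (n + 1)) x - x - (n + 1) • (σ x - x) =
        ((σ ^ n) x - x - n • (σ x - x)) + ((σ ^ n) (σ x - x) - (σ x - x)) := by
      rw [pow_succ, AlgEquiv.mul_apply, succ_nsmul]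
      have : (σ ^ n) (σ x) = (σ ^ n) x + (σ ^ n) (σ x - x) := by
        rw [← map_add]; congr 1; ring
      rw [this]; ring
    rw [this]
    refine (v.map_add _ _).trans (max_le ih ?_)
    exact (hσ.pow (by omega) n).shift' hi ht (hσ x hx)

end

/-- For `i ≥ 2` the ramification quotient `G_i/G_{i+1}` embeds in the additive group of the residue
field: it is abelian, trivial in characteristic `0`, and elementary abelian of exponent `p` in
characteristic `p`. (Residue field of `Q` assumed separable over `k`.) -/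
theorem result (k K K' : Type*) [Field k] [Field K] [Field K'] [Algebra k K] [Algebra K K'] [Algebra k K']
    [IsScalarTower k K K'] [FiniteDimensional K K'] (hK : FunFld.IsFunctionField k K) (hg : FunFld.IsGeometric k K) [IsGalois K K'] (Q : FunFld.Place k K') [Algebra.IsSeparable k (IsLocalRing.ResidueField Q.O)]
    (i : ℕ) (hi : 2 ≤ i) (σ τ : K' ≃ₐ[K] K') (hσ : (∀ x : K', Q.1 x ≤ 1 → Q.1 (σ x - x) ≤ WithZero.exp (-(i : ℤ)))) (hτ : (∀ x : K', Q.1 x ≤ 1 → Q.1 (τ x - x) ≤ WithZero.exp (-(i : ℤ)))) :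
    (∀ x : K', Q.1 x ≤ 1 → Q.1 ((σ * τ * σ⁻¹ * τ⁻¹) x - x) ≤ WithZero.exp (-((i + 1) : ℤ))) ∧
    (ringChar K = 0 → (∀ x : K', Q.1 x ≤ 1 → Q.1 (σ x - x) ≤ WithZero.exp (-((i + 1) : ℤ)))) ∧
    ∀ p : ℕ, p.Prime → ringChar K = p → (∀ x : K', Q.1 x ≤ 1 → Q.1 ((σ ^ p) x - x) ≤ WithZero.exp (-((i + 1) : ℤ))) := by
  obtain ⟨t, ht⟩ := Q.2.2 (WithZero.exp (-1))
  have hσ' : InG Q.1 σ (i : ℤ) := hσ
  have hτ' : InG Q.1 τ (i : ℤ) := hτ
  have hi0 : (0 : ℤ) ≤ (i : ℤ) := by omega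
  refine ⟨?_, ?_, ?_⟩
  · intro x hx
    -- inverses preserve the valuation ring
    have hinv : ∀ ρ : K' ≃ₐ[K] K', InG Q.1 ρ (i : ℤ) → ∀ y : K', Q.1 y ≤ 1 → Q.1 (ρ⁻¹ y) ≤ 1 := by
      intro ρ hρ y hy
      have hfin : ρ⁻¹ = ρ ^ (orderOf ρ - 1) := by
        rw [inv_eq_iff_mul_eq_one, ← pow_succ', Nat.sub_add_cancel (orderOf_pos ρ), pow_orderOf_eq_one]
      rw [hfin]
      have h1 := (hρ.pow hi0 (orderOf ρ - 1)) y hy
      have : (ρ ^ (orderOf ρ - 1)) y = ((ρ ^ (orderOf ρ - 1)) y - y) + y := by ring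
      rw [this]
      exact (Q.1.map_add _ _).trans (max_le (h1.trans (exp_neg_le_one hi0)) hy)
    set y := σ⁻¹ (τ⁻¹ x) with hy
    have hy1 : Q.1 y ≤ 1 := hinv σ hσ' _ (hinv τ hτ' _ hx)
    have hx' : x = τ (σ y) := by
      rw [hy]
      rw [← AlgEquiv.mul_apply σ, mul_inv_cancel, AlgEquiv.one_apply, ← AlgEquiv.mul_apply τ,
        mul_inv_cancel, AlgEquiv.one_apply]
    have : (σ * τ * σ⁻¹ * τ⁻¹) x - x = σ (τ y) - τ (σ y) := by
      rw [← hx']
      simp only [AlgEquiv.mul_apply, hy]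
    rw [this]
    have := hσ'.comm_aux hτ' hi ht hy1
    simpa [neg_add] using this
  · intro hchar x hx
    have : CharP K 0 := ringChar.of_eq hchar
    have : CharZero K := CharP.charP_to_charZero K
    have : CharZero k := (algebraMap k K).charZero
    set n := orderOf σ with hn
    have hnpos : 0 < n := orderOf_pos σ
    have h1 := hσ'.pow_sub hi ht n hx
    rw [pow_orderOf_eq_one, AlgEquiv.one_apply, sub_self, zero_sub, Valuation.map_neg] at h1
    have hnk : Q.1 ((n : K')) = 1 := by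
      have hc1 : Q.1 (algebraMap k K' (n : k)) ≤ 1 := Q.2.1 _
      have hc2 : Q.1 (algebraMap k K' ((n : k)⁻¹)) ≤ 1 := Q.2.1 _
      rw [map_natCast] at hc1
      rw [map_inv₀, map_natCast, map_inv₀] at hc2
      have hne : Q.1 (n : K') ≠ 0 := by
        rw [Valuation.ne_zero_iff]
        have : CharZero K' := (algebraMap K K').charZero_iff (algebraMap K K').injective |>.mp inferInstance
        exact_mod_cast hnpos.ne'
      exact le_antisymm hc1 ((inv_le_one₀ (zero_lt_iff.mpr hne)).mp hc2)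
    rw [nsmul_eq_mul, map_mul, hnk, one_mul] at h1
    simpa [neg_add] using h1
  · intro p hp hchar x hx
    have : CharP K p := ringChar.of_eq hchar
    have hp0 : (p : K') = 0 := by
      rw [← map_natCast (algebraMap K K'), CharP.cast_eq_zero, map_zero]
    have h1 := hσ'.pow_sub hi ht p hx
    rw [nsmul_eq_mul, hp0, zero_mul, sub_zero] at h1
    simpa [neg_add] using h1

end Groth.Agent.S11025
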