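import Groth.Statements.S11027
import Mathlib

set_option autoImplicit false
open FunFld

namespace Groth.Agent.S11027

open WithZero Polynomial

section
variable {k K' : Type*} [Field k] [Field K'] [Algebra k K']

lemma exp_neg_le_one {i : ℤ} (hi : 0 ≤ i) : (exp (-i) : WithZero (Multiplicative ℤ)) ≤ 1 := by
  rw [← exp_zero, exp_le_exp]; omega

lemma le_exp_neg_one_of_lt_one {a : WithZero (Multiplicative ℤ)} (h : a < 1) : a ≤ exp (-1) := by
  by_cases h0 : a = 0
  · rw [h0]; exact zero_le
  · rw [← exp_log h0] at h ⊢
    rw [← exp_zero, exp_lt_exp] at h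
    rw [exp_le_exp]; omega

variable (Q : FunFld.Place k K')

lemma val_eq_one_of_not_mem (a : Q.O) (ha : a ∉ IsLocalRing.maximalIdeal Q.O) :
    Q.1 (a : K') = 1 := by
  have hu : IsUnit a := by
    by_contra h
    exact ha ((IsLocalRing.mem_maximalIdeal a).mpr h)
  obtain ⟨b, hb⟩ := isUnit_iff_exists_inv.mp hu
  have h1 : Q.1 (a : K') * Q.1 (b : K') = 1 := by
    rw [← map_mul, ← MulMemClass.coe_mul, hb]; simp
  have ha1 : Q.1 (a : K') ≤ 1 := a.2
  have hb1 : Q.1 (b : K') ≤ 1 := b.2
  by_contra hne
  have hlt : Q.1 (a : K') < 1 := lt_of_le_of_ne ha1 hne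
  have : Q.1 (a : K') * Q.1 (b : K') < 1 := by
    calc Q.1 (a : K') * Q.1 (b : K') ≤ Q.1 (a : K') * 1 := mul_le_mul' le_rfl hb1
      _ = Q.1 (a : K') := mul_one _
      _ < 1 := hlt
  exact this.ne h1

lemma val_lt_one_of_mem (a : Q.O) (ha : a ∈ IsLocalRing.maximalIdeal Q.O) :
    Q.1 (a : K') < 1 := by
  have ha1 : Q.1 (a : K') ≤ 1 := a.2
  refine lt_of_le_of_ne ha1 fun h1 => ?_
  have ha0 : (a : K') ≠ 0 := by
    intro h0; rw [h0, map_zero] at h1; exact zero_ne_one h1
  have hinv : Q.1 ((a : K')⁻¹) ≤ 1 := by rw [map_inv₀, h1, inv_one]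
  have hu : IsUnit a := isUnit_iff_exists_inv.mpr ⟨⟨(a : K')⁻¹, hinv⟩, by
    apply Subtype.ext; simp [mul_inv_cancel₀ ha0]⟩
  exact (IsLocalRing.mem_maximalIdeal a).mp ha hu

end

/-- For `σ` in the inertia group of a place `Q` and a local parameter `t` at `Q`, `σ ∈ G_j` iff `σ(t) ≡
t mod Q^j`. (Residue field of `Q` assumed separable over `k`.) -/
theorem result (k K K' : Type*) [Field k] [Field K] [Field K'] [Algebra k K] [Algebra K K'] [Algebra k K']
    [IsScalarTower k K K'] [FiniteDimensional K K'] (hK : FunFld.IsFunctionField k K) (hg : FunFld.IsGeometric k K) [IsGalois K K'] (Q : FunFld.Place k K') [Algebra.IsSeparable k (IsLocalRing.ResidueField Q.O)]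
    (σ : K' ≃ₐ[K] K') (hσ : (∀ x : K', Q.1 x ≤ 1 → Q.1 (σ x - x) ≤ WithZero.exp (-(1 : ℤ)))) (t : K') (ht : Q.1 t = WithZero.exp (-1))
    (j : ℕ) (hj : 1 ≤ j) :
    (∀ x : K', Q.1 x ≤ 1 → Q.1 (σ x - x) ≤ WithZero.exp (-(j : ℤ))) ↔ Q.1 (σ t - t) ≤ WithZero.exp (-(j : ℤ)) := by
  constructor
  · intro h
    exact h t (by rw [ht]; exact exp_neg_le_one (by norm_num))
  · -- induction on `j`
    have key : ∀ j : ℕ, 1 ≤ j → Q.1 (σ t - t) ≤ WithZero.exp (-(j : ℤ)) →
        ∀ x : K', Q.1 x ≤ 1 → Q.1 (σ x - x) ≤ WithZero.exp (-(j : ℤ)) := by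
      intro j hj
      induction j, hj using Nat.le_induction with
      | base => intro _; simpa using hσ
      | succ j hj ih =>
        intro htj x hx
        have htj' : Q.1 (σ t - t) ≤ WithZero.exp (-(j : ℤ)) := by
          refine htj.trans ?_
          rw [exp_le_exp]; push_cast; omega
        have IH := ih htj'
        have ht0 : t ≠ 0 := by
          intro h0; rw [h0, map_zero] at ht; exact exp_ne_zero ht.symm
        have ht1 : Q.1 t ≤ 1 := by rw [ht]; exact exp_neg_le_one (by norm_num)
        have hσt : Q.1 (σ t) ≤ WithZero.exp (-1) := by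
          have : σ t = (σ t - t) + t := by ring
          rw [this]
          exact (Q.1.map_add _ _).trans (max_le (hσ t ht1) ht.le)
        -- elements of the maximal ideal are moved by at most `exp (-(j+1))`
        have hm : ∀ y : K', Q.1 y ≤ WithZero.exp (-1) →
            Q.1 (σ y - y) ≤ WithZero.exp (-((j + 1 : ℕ) : ℤ)) := by
          intro y hy
          set w := y / t with hw
          have hyt : y = t * w := by rw [hw]; field_simp
          have hvw : Q.1 w ≤ 1 := by
            rw [hw, map_div₀, ht, div_le_iff₀ exp_pos, one_mul]; exact hy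
          have hdecomp : σ y - y = σ t * (σ w - w) + (σ t - t) * w := by
            rw [hyt, map_mul]; ring
          rw [hdecomp]
          refine (Q.1.map_add _ _).trans (max_le ?_ ?_)
          · rw [map_mul]
            refine (mul_le_mul' hσt (IH w hvw)).trans ?_
            rw [← exp_add, exp_le_exp]; push_cast; omega
          · rw [map_mul]
            calc Q.1 (σ t - t) * Q.1 w ≤ WithZero.exp (-((j + 1 : ℕ) : ℤ)) * 1 :=
                  mul_le_mul' htj hvw
              _ = _ := mul_one _
        -- the separable minimal polynomial of the residue class of `x`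
        let xO : Q.O := ⟨x, hx⟩
        set xbar := IsLocalRing.residue Q.O xO with hxbar
        set f := minpoly k xbar with hf
        have hsep : f.Separable := Algebra.IsSeparable.isSeparable k xbar
        set fO : Polynomial Q.O := f.map (algebraMap k Q.O) with hfO
        have hres : ∀ g : Polynomial k, IsLocalRing.residue Q.O ((g.map (algebraMap k Q.O)).eval xO) =
            Polynomial.aeval xbar g := by
          intro g
          rw [Polynomial.aeval_def, Polynomial.eval_map, Polynomial.hom_eval₂]
          rfl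
        have hval : ∀ (g : Polynomial k) (z : Q.O),
            (((g.map (algebraMap k Q.O)).eval z : Q.O) : K') = Polynomial.aeval (z : K') g := by
          intro g z
          rw [Polynomial.aeval_def, Polynomial.eval_map]
          exact Polynomial.hom_eval₂ g (algebraMap k Q.O) Q.O.subtype z
        -- `y = f(x)` lies in the maximal ideal
        set yO : Q.O := fO.eval xO with hyO
        have hy_mem : yO ∈ IsLocalRing.maximalIdeal Q.O := by
          rw [← IsLocalRing.residue_eq_zero_iff, hyO, hfO, hres, hf, minpoly.aeval]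
        have hy1 : Q.1 (yO : K') ≤ WithZero.exp (-1) :=
          le_exp_neg_one_of_lt_one (val_lt_one_of_mem Q yO hy_mem)
        -- `f'(x)` is a unit
        set dO : Q.O := fO.derivative.eval xO with hdO
        have hd_unit : Q.1 (dO : K') = 1 := by
          apply val_eq_one_of_not_mem
          rw [← IsLocalRing.residue_eq_zero_iff, hdO, hfO, Polynomial.derivative_map, hres]
          exact hsep.aeval_derivative_ne_zero (minpoly.aeval _ _)
        -- `δ = σ x - x`
        have hδ1 : Q.1 (σ x - x) ≤ WithZero.exp (-1) := by simpa using hσ x hx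
        have hδO : Q.1 (σ x - x) ≤ 1 := hδ1.trans (exp_neg_le_one (by norm_num))
        let δO : Q.O := ⟨σ x - x, hδO⟩
        obtain ⟨hO, hexp⟩ := Polynomial.binomExpansion fO xO δO
        -- transport to `K'`
        have hσy : σ (yO : K') = ((fO.eval (xO + δO) : Q.O) : K') := by
          rw [hyO, hfO, hval, hval]
          have h1 := Polynomial.aeval_algHom_apply ((σ.restrictScalars k : K' ≃ₐ[k] K') : K' →ₐ[k] K') x f
          have h2 : ((xO + δO : Q.O) : K') = σ x := by
            change x + (σ x - x) = σ x; ring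
          rw [h2]
          exact h1.symm
        have hdiff : σ (yO : K') - (yO : K') = (σ x - x) * ((dO : K') + (hO : K') * (σ x - x)) := by
          rw [hσy, hexp]
          change ((yO : K') + (dO : K') * (σ x - x) + (hO : K') * (σ x - x) ^ 2) - (yO : K') = _
          ring
        have hunit : Q.1 ((dO : K') + (hO : K') * (σ x - x)) = 1 := by
          rw [Valuation.map_add_eq_of_lt_left, hd_unit]
          rw [hd_unit, map_mul]
          calc Q.1 (hO : K') * Q.1 (σ x - x) ≤ 1 * WithZero.exp (-1) := mul_le_mul' hO.2 hδ1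
            _ = WithZero.exp (-1) := one_mul _
            _ < 1 := by rw [← exp_zero, exp_lt_exp]; norm_num
        have := hm (yO : K') hy1
        rw [hdiff, map_mul, hunit, mul_one] at this
        exact this
    exact key j hj

end Groth.Agent.S11027
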