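import Groth.Statements.S11024
import Mathlib
import Groth.Agent.S11025
import Groth.Agent.S11027

set_option autoImplicit false
open FunFld

namespace Groth.Agent.S11024

open WithZero Groth.Agent.S11025

section
variable {k K K' : Type*} [Field k] [Field K] [Field K'] [Algebra k K] [Algebra K K']
  [Algebra k K'] [IsScalarTower k K K'] [FiniteDimensional K K'] (Q : FunFld.Place k K')

lemma inv_eq_pow (σ : K' ≃ₐ[K] K') : σ⁻¹ = σ ^ (orderOf σ - 1) := by
  rw [inv_eq_iff_mul_eq_one, ← pow_succ', Nat.sub_add_cancel (orderOf_pos σ), pow_orderOf_eq_one]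

/-- The first ramification group (inertia-type group) of the place `Q`. -/
def G1 : Subgroup (K' ≃ₐ[K] K') where
  carrier := {σ | InG Q.1 σ 1}
  one_mem' := by intro x _; simp
  mul_mem' := by
    intro σ τ hσ hτ x hx
    have : (σ * τ) x - x = (σ (τ x) - τ x) + (τ x - x) := by rw [AlgEquiv.mul_apply]; ring
    rw [this]
    exact (Q.1.map_add _ _).trans
      (max_le (hσ _ (InG.map_le_one hτ (by norm_num) hx)) (hτ x hx))
  inv_mem' := by
    intro σ hσ
    change InG Q.1 σ⁻¹ 1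
    rw [inv_eq_pow]
    exact InG.pow hσ (by norm_num) _

lemma mem_G1 {σ : K' ≃ₐ[K] K'} : σ ∈ G1 (K := K) Q ↔ InG Q.1 σ 1 := Iff.rfl

variable {Q}

lemma val_apply_uniformizer {σ : K' ≃ₐ[K] K'} (hσ : σ ∈ G1 (K := K) Q) {t : K'}
    (ht : Q.1 t = exp (-1)) : Q.1 (σ t) = exp (-1) := by
  have hσ1 : InG Q.1 σ 1 := hσ
  have hσinv : InG Q.1 σ⁻¹ 1 := (G1 Q).inv_mem hσ
  have ht1 : Q.1 t ≤ 1 := by rw [ht]; exact exp_neg_le_one (by norm_num)
  have hle : Q.1 (σ t) ≤ exp (-1) := by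
    have : σ t = (σ t - t) + t := by ring
    rw [this]
    exact (Q.1.map_add _ _).trans (max_le (hσ1 t ht1) ht.le)
  have hnot : ¬ Q.1 (σ t) ≤ exp (-2) := by
    intro h2
    have h3 := InG.shift hσinv (le_refl 1) ht 2 (σ t) (by simpa using h2)
    have h4 : Q.1 t ≤ exp (-2) := by
      have : t = (σ⁻¹ (σ t) - σ t) + σ t := by
        have : σ⁻¹ (σ t) = t := by
          rw [← AlgEquiv.mul_apply, inv_mul_cancel, AlgEquiv.one_apply]
        rw [this]; ring
      rw [this]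
      refine (Q.1.map_add _ _).trans (max_le (h3.trans ?_) h2)
      rw [exp_le_exp]; norm_num
    rw [ht, exp_le_exp] at h4
    norm_num at h4
  have h0 : Q.1 (σ t) ≠ 0 := by
    intro h0; apply hnot; rw [h0]; exact zero_le
  rw [← exp_log h0] at hle hnot ⊢
  rw [exp_le_exp] at hle hnot
  congr 1
  omega

lemma val_ratio {σ : K' ≃ₐ[K] K'} (hσ : σ ∈ G1 (K := K) Q) {t : K'}
    (ht : Q.1 t = exp (-1)) : Q.1 (σ t / t) = 1 := by
  rw [map_div₀, val_apply_uniformizer hσ ht, ht, div_self exp_ne_zero]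

/-- The character `σ ↦ σ t / t mod 𝔪` on the first ramification group. -/
noncomputable def θ {t : K'} (ht : Q.1 t = exp (-1)) :
    G1 (K := K) Q →* (IsLocalRing.ResidueField Q.O)ˣ :=
  MonoidHom.mk' (fun σ => Units.mk0
      (IsLocalRing.residue Q.O ⟨σ.1 t / t, (val_ratio σ.2 ht).le⟩) (by
        intro h0
        rw [IsLocalRing.residue_eq_zero_iff] at h0
        have := Groth.Agent.S11027.val_lt_one_of_mem Q _ h0
        rw [val_ratio σ.2 ht] at this
        exact lt_irrefl _ this)) (by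
    intro σ τ
    apply Units.ext
    simp only [Units.val_mk0, Units.val_mul]
    rw [← map_mul]
    have ht0 : t ≠ 0 := by
      intro h0; rw [h0, map_zero] at ht; exact exp_ne_zero ht.symm
    set a : K' := τ.1 t / t with ha
    have ha1 : Q.1 a ≤ 1 := (val_ratio τ.2 ht).le
    have hσa : Q.1 (σ.1 a) ≤ 1 := InG.map_le_one σ.2 (by norm_num) ha1
    have hprod : ((σ * τ : G1 (K := K) Q) : K' ≃ₐ[K] K') t / t = σ.1 a * (σ.1 t / t) := by
      rw [Subgroup.coe_mul, AlgEquiv.mul_apply]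
      have : τ.1 t = a * t := by rw [ha]; field_simp
      rw [this, map_mul]; field_simp
    have h1 : (⟨((σ * τ : G1 (K := K) Q) : K' ≃ₐ[K] K') t / t,
        (val_ratio (σ * τ).2 ht).le⟩ : Q.O) = ⟨σ.1 a, hσa⟩ * ⟨σ.1 t / t, (val_ratio σ.2 ht).le⟩ := by
      apply Subtype.ext; exact hprod
    rw [h1, map_mul, map_mul, mul_comm]
    congr 1
    -- `σ a ≡ a` modulo the maximal ideal
    rw [← sub_eq_zero, ← map_sub, IsLocalRing.residue_eq_zero_iff]
    by_contra hnm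
    have := Groth.Agent.S11027.val_eq_one_of_not_mem Q _ hnm
    have h2 : Q.1 (σ.1 a - a) ≤ exp (-1) := by simpa using σ.2 a ha1
    change Q.1 (σ.1 a - a) = 1 at this
    rw [this, ← exp_zero, exp_le_exp] at h2
    norm_num at h2)

lemma θ_apply {t : K'} (ht : Q.1 t = exp (-1)) (σ : G1 (K := K) Q) :
    ((θ ht σ : (IsLocalRing.ResidueField Q.O)ˣ) : IsLocalRing.ResidueField Q.O) =
      IsLocalRing.residue Q.O ⟨σ.1 t / t, (val_ratio σ.2 ht).le⟩ := rfl

lemma val_sub_le_of_θ_eq_one {t : K'} (ht : Q.1 t = exp (-1)) (σ : G1 (K := K) Q)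
    (h : θ ht σ = 1) : Q.1 (σ.1 t - t) ≤ exp (-2) := by
  have ht0 : t ≠ 0 := by
    intro h0; rw [h0, map_zero] at ht; exact exp_ne_zero ht.symm
  have h1 : IsLocalRing.residue Q.O ⟨σ.1 t / t, (val_ratio σ.2 ht).le⟩ = 1 := by
    rw [← θ_apply ht σ, h]; rfl
  rw [← map_one (IsLocalRing.residue Q.O), ← sub_eq_zero, ← map_sub,
    IsLocalRing.residue_eq_zero_iff] at h1
  have h2 := Groth.Agent.S11027.val_lt_one_of_mem Q _ h1
  change Q.1 (σ.1 t / t - 1) < 1 at h2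
  have h3 : σ.1 t - t = (σ.1 t / t - 1) * t := by field_simp
  have h4 := Groth.Agent.S11027.le_exp_neg_one_of_lt_one h2
  rw [h3, map_mul, ht]
  refine (mul_le_mul' h4 le_rfl).trans ?_
  rw [← exp_add, exp_le_exp]; norm_num

end

/-- The quotient `G₁/G₂` of the first two ramification groups of a place in a finite Galois extension of
a geometric function field of one variable is cyclic. (Residue field of `Q` assumed separable over
`k`, stronger than the published `F_Q/F_P` separable.) -/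
theorem result (k K K' : Type*) [Field k] [Field K] [Field K'] [Algebra k K] [Algebra K K'] [Algebra k K']
    [IsScalarTower k K K'] [FiniteDimensional K K'] (hK : FunFld.IsFunctionField k K) (hg : FunFld.IsGeometric k K) [IsGalois K K'] (Q : FunFld.Place k K') [Algebra.IsSeparable k (IsLocalRing.ResidueField Q.O)] :
    ∃ σ₀ : K' ≃ₐ[K] K', (∀ x : K', Q.1 x ≤ 1 → Q.1 (σ₀ x - x) ≤ WithZero.exp (-(1 : ℤ))) ∧
      ∀ σ : K' ≃ₐ[K] K', (∀ x : K', Q.1 x ≤ 1 → Q.1 (σ x - x) ≤ WithZero.exp (-(1 : ℤ))) →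
        ∃ n : ℕ, (∀ x : K', Q.1 x ≤ 1 → Q.1 (((σ₀ ^ n)⁻¹ * σ) x - x) ≤ WithZero.exp (-(2 : ℤ))) := by
  obtain ⟨t, ht⟩ := Q.2.2 (WithZero.exp (-1))
  classical
  let S : Subgroup (IsLocalRing.ResidueField Q.O)ˣ := (θ (K := K) ht).range
  have : Finite S := Finite.of_surjective (θ (K := K) ht).rangeRestrict
    (θ (K := K) ht).rangeRestrict_surjective
  obtain ⟨g, hgen⟩ := IsCyclic.exists_monoid_generator (α := S)
  obtain ⟨σ₀, hσ₀⟩ := g.2
  refine ⟨σ₀.1, σ₀.2, fun σ hσ => ?_⟩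
  obtain ⟨n, hn⟩ := hgen ⟨θ ht ⟨σ, hσ⟩, ⟨⟨σ, hσ⟩, rfl⟩⟩
  refine ⟨n, ?_⟩
  have hn' : (θ ht σ₀) ^ n = θ ht ⟨σ, hσ⟩ := by
    have := congrArg Subtype.val hn
    simpa [← hσ₀] using this
  set ρ : G1 (K := K) Q := (σ₀ ^ n)⁻¹ * ⟨σ, hσ⟩ with hρ
  have hρ1 : θ ht ρ = 1 := by
    rw [hρ, map_mul, map_inv, map_pow, hn', inv_mul_cancel]
  have h2 := val_sub_le_of_θ_eq_one ht ρ hρ1
  have hρ' : (ρ : K' ≃ₐ[K] K') = (σ₀.1 ^ n)⁻¹ * σ := by
    simp [hρ]
  rw [← hρ']
  exact (Groth.Agent.S11027.result k K K' hK hg Q ρ.1 ρ.2 t ht 2 (by norm_num)).mpr h2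

end Groth.Agent.S11024
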