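import Groth.Statements.S11026
import Mathlib
import Groth.Agent.Lib.Helper9.FunFldInsep

set_option autoImplicit false
universe u v
open FunFld

namespace Groth.Agent.S11026

/-- A weakly separable finite extension `K'/k'` of a geometric function field `K/k` (the map `Ω_{K/k} →
Ω_{K'/k'}` injective) is separable over the compositum `k'K`. -/
theorem result (k k' : Type u) (K K' : Type v) [Field k] [Field k'] [Field K] [Field K']
    [Algebra k k'] [Algebra k K] [Algebra K K'] [Algebra k' K'] [Algebra k K']
    [IsScalarTower k k' K'] [IsScalarTower k K K'] [FiniteDimensional K K']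
    (hK : FunFld.IsFunctionField k K) (hg : FunFld.IsGeometric k K)
    (hK' : FunFld.IsFunctionField k' K') (hg' : FunFld.IsGeometric k' K')
    (hw : Function.Injective (KaehlerDifferential.map k k' K K')) :
    Algebra.IsSeparable (IntermediateField.adjoin K (Set.range (algebraMap k' K'))) K' := by
  obtain ⟨⟨x₁, hx₁, hfin₁⟩, -⟩ := hK
  obtain ⟨t, ht, hsep⟩ := Groth.Agent.Lib.Helper9.FunFld.exists_separating_variable hx₁ hfin₁ hg
  have hDt := Groth.Agent.Lib.Helper9.FunFld.D_ne_zero_of_separating ht hsep
  obtain ⟨⟨y₁, hy₁, hfiny₁⟩, -⟩ := hK'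
  obtain ⟨t', ht', hsep'⟩ :=
    Groth.Agent.Lib.Helper9.FunFld.exists_separating_variable hy₁ hfiny₁ hg'
  have hfr' := Groth.Agent.Lib.Helper9.FunFld.finrank_kaehler_eq_one_of_separating ht' hsep'
  have hess' : Algebra.EssFiniteType k' K' :=
    Groth.Agent.Lib.Helper9.FunFld.essFiniteType_of_finite_adjoin hfiny₁
  obtain ⟨x, hx⟩ : ∃ x : K', x = algebraMap K K' t := ⟨_, rfl⟩
  have hDx : KaehlerDifferential.D k' K' x ≠ 0 := by
    rw [hx, ← KaehlerDifferential.map_D k k' K K']
    exact fun h => hDt (hw (by rw [h, map_zero]))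
  have hsepx : Algebra.IsSeparable (IntermediateField.adjoin k' ({x} : Set K')) K' :=
    Groth.Agent.Lib.Helper9.FunFld.isSeparable_adjoin_simple_of_D_ne_zero hfr' hDx
  obtain ⟨M, hM⟩ : ∃ M : IntermediateField K K',
    M = IntermediateField.adjoin K (Set.range (algebraMap k' K')) := ⟨_, rfl⟩
  rw [← hM]
  let M' : IntermediateField k' K' := M.toSubfield.toIntermediateField
    (fun c => hM ▸ IntermediateField.subset_adjoin _ _ ⟨c, rfl⟩)
  have hle : IntermediateField.adjoin k' ({x} : Set K') ≤ M' := by
    rw [IntermediateField.adjoin_simple_le_iff]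
    exact hx ▸ M.algebraMap_mem t
  let f : IntermediateField.adjoin k' ({x} : Set K') →+* M :=
    RingHom.codRestrict (algebraMap (IntermediateField.adjoin k' ({x} : Set K')) K') M.toSubfield
      (fun z => hle z.2)
  let _ : Algebra (IntermediateField.adjoin k' ({x} : Set K')) M := f.toAlgebra
  have : IsScalarTower (IntermediateField.adjoin k' ({x} : Set K')) M K' :=
    IsScalarTower.of_algebraMap_eq (fun z => rfl)
  exact Algebra.isSeparable_tower_top_of_isSeparable
    (IntermediateField.adjoin k' ({x} : Set K')) (L := M) K'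

end Groth.Agent.S11026
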