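import Groth.Statements.S11030
import Mathlib
import Groth.Agent.Lib.Helper2.FunFld.SP1
import Groth.Agent.Lib.Helper2.FunFld.ExtSum
import Groth.Agent.Lib.Helper2.FunFld.Residue
import Groth.Agent.Lib.Helper9.FunFldInsep
import Groth.Agent.Lib.Helper9.FunFldSep
import Groth.Agent.S11005

set_option autoImplicit false
universe u v
open FunFld

namespace Groth.Agent.S11030
open Groth.Agent.Lib.Helper2.FF KaehlerDifferential

/-- In a geometric function field of one variable, a local parameter at a place with separable residue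
field is a separating variable: `dt ≠ 0` in `Ω_{K/k}`. (The duality isomorphism `Ω_K ≅ W_K` and the
order of `dt` at `P` are not stated.) -/
theorem result (k : Type u) (K : Type v) [Field k] [Field K] [Algebra k K]
    (hK : FunFld.IsFunctionField k K) (hg : FunFld.IsGeometric k K) (P : FunFld.Place k K)
    [Algebra.IsSeparable k (IsLocalRing.ResidueField P.O)] (t : K) (ht : P.1 t = WithZero.exp (-1)) :
    KaehlerDifferential.D k K t ≠ 0 := by
  classical
  have ht0 : t ≠ 0 := by
    rintro rfl
    rw [map_zero] at ht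
    exact WithZero.exp_ne_zero ht.symm
  have httr : Transcendental k t := by
    intro halg
    obtain ⟨c, hc⟩ := hK.2 t halg
    have hc0 : c ≠ 0 := by
      rintro rfl
      rw [map_zero] at hc
      exact ht0 hc.symm
    have h1 : P.1 (algebraMap k K c) ≤ 1 := P.2.1 c
    have h2 : P.1 (algebraMap k K c⁻¹) ≤ 1 := P.2.1 c⁻¹
    rw [map_inv₀, map_inv₀] at h2
    rw [hc, ht] at h1 h2
    have h3 : (1 : WithZero (Multiplicative ℤ)) ≤ WithZero.exp (-1) := by
      have := (inv_le_one₀ (zero_lt_iff.2 WithZero.exp_ne_zero)).1 h2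
      exact this
    rw [← WithZero.exp_zero, WithZero.exp_le_exp] at h3
    omega
  obtain ⟨⟨x₁, hx₁, hfin⟩, hcl⟩ := id hK
  obtain ⟨t₀, ht₀, hsep⟩ := Groth.Agent.Lib.Helper9.FunFld.exists_separating_variable hx₁ hfin hg
  obtain h0 | ⟨p, hp, hpk⟩ := CharP.exists' k
  · have : CharZero (IntermediateField.adjoin k ({t} : Set K)) :=
      charZero_of_injective_algebraMap (algebraMap k _).injective
    have : Algebra.IsAlgebraic (IntermediateField.adjoin k ({t} : Set K)) K :=
      Groth.Agent.S11005.isAlgebraic_adjoin_of_transcendental hx₁ hfin httr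
    have hsep' : Algebra.IsSeparable (IntermediateField.adjoin k ({t} : Set K)) K := inferInstance
    exact Groth.Agent.Lib.Helper9.FunFld.D_ne_zero_of_separating httr hsep'
  · haveI : ExpChar k p := ExpChar.prime hp.out
    haveI : CharP K p := charP_of_injective_algebraMap (algebraMap k K).injective p
    intro hD
    have hmem := Groth.Agent.Lib.Helper9.FunFld.mem_adjoin_pow_of_D_eq_zero p ht₀ hsep hD
    have hfr := Groth.Agent.Lib.Helper9.FunFld.finrank_adjoin_pow_of_separating p ht₀ hsep
    obtain ⟨K₁, hK₁def⟩ : ∃ L : IntermediateField k K,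
      L = IntermediateField.adjoin k (Set.range fun z : K => z ^ p) := ⟨_, rfl⟩
    rw [← hK₁def] at hmem hfr
    have hpow : ∀ z : K, z ^ p ∈ Set.range (algebraMap K₁ K) := by
      intro z
      have : z ^ p ∈ K₁ := by
        rw [hK₁def]
        exact IntermediateField.subset_adjoin k _ ⟨z, rfl⟩
      exact ⟨⟨z ^ p, this⟩, rfl⟩
    have hKF : FunFld.IsFunctionField k K₁ :=
      (Groth.Agent.S11005.result k K hK hg K₁ ⟨x₁ ^ p, by
        rw [hK₁def]; exact IntermediateField.subset_adjoin k _ ⟨x₁, rfl⟩,
        by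
          intro halg
          exact hx₁ (halg.of_pow hp.out.pos)⟩).1
    haveI : FiniteDimensional K₁ K :=
      Module.finite_of_finrank_pos (by rw [hfr]; exact hp.out.pos)
    obtain ⟨P₁, e, he⟩ := exists_isOverWith (K := K₁) (K' := K) hKF P
    -- `e = 1`
    have he1 : e = 1 := by
      have h1 := he ⟨t, hmem⟩
      change P.1 t = _ at h1
      rw [ht] at h1
      have hne : P₁.1 ⟨t, hmem⟩ ≠ 0 := by
        intro h0
        rw [h0, zero_pow (by have := isOverWith_one_le he; omega)] at h1
        exact WithZero.exp_ne_zero h1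
      rw [← WithZero.exp_log hne, ← WithZero.exp_nsmul, WithZero.exp_inj, nsmul_eq_mul] at h1
      have hdvd : (e : ℤ) ∣ 1 := ⟨-(WithZero.log (P₁.1 ⟨t, hmem⟩)), by linarith⟩
      have := Int.natAbs_dvd_natAbs.2 hdvd
      simpa using this
    haveI : ExpChar K₁ p := expChar_of_injective_algebraMap (algebraMap k K₁).injective p
    haveI : IsPurelyInseparable K₁ K := by
      rw [isPurelyInseparable_iff_pow_mem K₁ p]
      intro z
      exact ⟨1, by rw [pow_one]; exact hpow z⟩
    have hdeg : P.deg = P₁.deg := deg_eq_of_pow_mem_of_isSeparable he p hpow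
    obtain ⟨-, hsum⟩ := sum_ramIdx_mul_deg (K' := K) hKF P₁
    have h2 := hsum {P} (fun Q => by
      rw [Finset.mem_singleton]
      constructor
      · rintro rfl; exact ⟨e, he⟩
      · intro hQ; exact place_unique_of_isPurelyInseparable hQ ⟨e, he⟩)
    rw [Finset.sum_singleton, ramIdx_eq he, he1, one_mul, hfr, hdeg] at h2
    have hpos : 0 < P₁.deg := deg_pos P₁ hKF
    have hp1 : p = 1 := by
      have : 1 * P₁.deg = p * P₁.deg := by rw [one_mul]; exact h2
      exact (Nat.eq_of_mul_eq_mul_right hpos this).symm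
    exact hp.out.one_lt.ne' hp1

end Groth.Agent.S11030
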