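import Groth.Statements.S11034
import Mathlib
import Groth.Agent.Lib.Helper26.FunFldRatPlace

set_option autoImplicit false
open FunFld

namespace Groth.Agent.S11034

open scoped WithZero
open Groth.Agent.Lib.Helper2.FF Groth.Agent.Lib.Helper26.FunFldRatPlace

/-- For `char k ≠ 2` and `K = k(x, y)`, `y² = f(x)` with `f` squarefree, each irreducible factor `p` of
`f` has a unique place `P` of `K` above it, with `e(P|p) = 2`, `f(P|p) = 1` and `deg P = deg p`. The
zero divisor of `y` and the behaviour above the infinite place of `k(x)` are not stated. -/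
theorem result (k K : Type*) [Field k] [Field K] (h2 : ringChar k ≠ 2) [Algebra k K]
    [Algebra (RatFunc k) K] [IsScalarTower k (RatFunc k) K]
    (hdeg : Module.finrank (RatFunc k) K = 2) (y : K) (f : Polynomial k) (hf : Squarefree f)
    (hd : 1 ≤ f.natDegree)
    (heq : y ^ 2 = algebraMap (RatFunc k) K (algebraMap (Polynomial k) (RatFunc k) f))
    (p : Polynomial k) (hp : Irreducible p) (hpf : p ∣ f)
    (P₀ : FunFld.Place k (RatFunc k)) (hP₀ : P₀.1 (algebraMap (Polynomial k) (RatFunc k) p) < 1) :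
    (∃! P : FunFld.Place k K, FunFld.IsOver P P₀) ∧
    ∀ P : FunFld.Place k K, FunFld.IsOver P P₀ → FunFld.IsOverWith P P₀ 2 ∧ P.deg = P₀.deg := by
  classical
  haveI : FiniteDimensional (RatFunc k) K := Module.finite_of_finrank_pos (by omega)
  have hK0 : IsFunctionField k (RatFunc k) := isFunctionField_ratFunc
  have hlt : w P₀ p < 1 := hP₀
  have hf0 : f ≠ 0 := by
    rintro rfl
    simp at hd
  obtain ⟨h, rfl⟩ := hpf
  have hnd : ¬ p ∣ h := by
    intro hd
    have : p * p ∣ p * h := mul_dvd_mul_left p hd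
    exact hp.not_isUnit (hf p this)
  have hwf : P₀.1 (algebraMap (Polynomial k) (RatFunc k) (p * h)) = WithZero.exp (-1 : ℤ) := by
    change w P₀ (p * h) = _
    rw [map_mul, w_p_eq P₀ hp hlt, w_eq_one_of_not_dvd P₀ hp hlt hnd, mul_one]
  have hy0 : y ≠ 0 := by
    rintro rfl
    have h1 : algebraMap (RatFunc k) K (algebraMap (Polynomial k) (RatFunc k) (p * h)) = 0 := by
      rw [← heq]; simp
    rw [map_eq_zero, map_eq_zero_iff _ (IsFractionRing.injective (Polynomial k) (RatFunc k))] at h1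
    exact hf0 h1
  have key : ∀ (Q : FunFld.Place k K) (e : ℕ), IsOverWith Q P₀ e → 2 ≤ e := by
    intro Q e he
    have h1 := he (algebraMap (Polynomial k) (RatFunc k) (p * h))
    rw [← heq, hwf, map_pow] at h1
    change (v Q y) ^ 2 = _ at h1
    rw [v_eq_exp_neg_ord Q hy0, ← WithZero.exp_nsmul, ← WithZero.exp_nsmul, WithZero.exp_inj] at h1
    have he1 := isOverWith_one_le he
    simp only [smul_eq_mul, nsmul_eq_mul] at h1
    push_cast at h1
    omega
  obtain ⟨hfin, hsum⟩ := sum_ramIdx_mul_deg (K' := K) hK0 P₀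
  have hsum' := hsum hfin.toFinset (fun Q => hfin.mem_toFinset)
  rw [hdeg] at hsum'
  have hP₀pos := deg_pos P₀ hK0
  have hterm : ∀ Q ∈ hfin.toFinset, 2 * P₀.deg ≤ ramIdx Q P₀ * Q.deg := by
    intro Q hQ
    obtain ⟨e, he⟩ := hfin.mem_toFinset.1 hQ
    rw [ramIdx_eq he]
    exact Nat.mul_le_mul (key Q e he) (deg_le_of_isOverWith he (deg_pos_of_finite hK0 Q))
  have hcard : hfin.toFinset.card ≤ 1 := by
    by_contra hcon
    have h1 := Finset.card_nsmul_le_sum hfin.toFinset _ _ hterm
    rw [hsum', smul_eq_mul] at h1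
    have h3 : 2 * (2 * P₀.deg) ≤ hfin.toFinset.card * (2 * P₀.deg) :=
      Nat.mul_le_mul_right _ (by omega)
    omega
  have hne : hfin.toFinset.Nonempty := by
    by_contra hcon
    rw [Finset.not_nonempty_iff_eq_empty] at hcon
    rw [hcon, Finset.sum_empty] at hsum'
    omega
  obtain ⟨Q₀, hQ₀⟩ := Finset.card_eq_one.1 (le_antisymm hcard (Finset.card_pos.2 hne))
  have hmem : ∀ Q : FunFld.Place k K, IsOver Q P₀ ↔ Q = Q₀ := by
    intro Q
    have h1 : Q ∈ hfin.toFinset ↔ IsOver Q P₀ := hfin.mem_toFinset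
    rw [← h1, hQ₀, Finset.mem_singleton]
  refine ⟨⟨Q₀, (hmem Q₀).2 rfl, fun Q hQ => (hmem Q).1 hQ⟩, fun P hP => ?_⟩
  obtain rfl := (hmem P).1 hP
  rw [hQ₀, Finset.sum_singleton] at hsum'
  obtain ⟨e, he⟩ := hP
  rw [ramIdx_eq he] at hsum'
  have h1 := key P e he
  have h3 := deg_le_of_isOverWith he (deg_pos_of_finite hK0 P)
  have he2 : e = 2 := by
    by_contra hne
    have : 3 ≤ e := by omega
    have : 3 * P₀.deg ≤ e * P.deg := Nat.mul_le_mul this h3
    omega
  subst he2
  exact ⟨he, by omega⟩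

end Groth.Agent.S11034
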