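import Groth.Statements.S11038
import Mathlib
import Groth.Agent.Lib.Helper2.FunFld.ZetaR

set_option autoImplicit false
open FunFld

namespace Groth.Agent.S11038

/-- `L_K(1) = h_K`, the class number, where `L_K(t) = (1 - t)(1 - q t) Z_K(t)` is the numerator of the
zeta function. -/
theorem result
    (k K : Type*) [Field k] [Finite k] [Field K] [Algebra k K]
    (hK : FunFld.IsFunctionField k K) (p : Polynomial ℤ)
    (hp : (p : PowerSeries ℤ) = FunFld.numerZ k K) :
    p.eval 1 = (FunFld.classNum k K : ℤ) := by
  obtain ⟨p₀, hp₀, h1⟩ := Groth.Agent.Lib.Helper2.FF.exists_poly_numerZ hK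
  have : p = p₀ := Polynomial.coe_injective ℤ (hp.trans hp₀.symm)
  rw [this, h1]

end Groth.Agent.S11038
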