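import Groth.Statements.S11043
import Mathlib

set_option autoImplicit false
open FunFld

namespace Groth.Agent.S11043

open Polynomial Finset

theorem prod_nthRoots_eq_prod_range {n : ℕ} (hn : 0 < n) {ω : ℂ} (hω : IsPrimitiveRoot ω n)
    (F : ℂ → ℂ) : ∏ θ ∈ nthRootsFinset n (1 : ℂ), F θ = ∏ k ∈ range n, F (ω ^ k) := by
  have : NeZero n := ⟨hn.ne'⟩
  symm
  refine Finset.prod_bij (fun k _ => ω ^ k) ?_ ?_ ?_ ?_
  · intro k _
    rw [mem_nthRootsFinset hn, ← pow_mul, mul_comm, pow_mul, hω.pow_eq_one, one_pow]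
  · intro i hi j hj hij
    exact hω.pow_inj (mem_range.mp hi) (mem_range.mp hj) hij
  · intro θ hθ
    obtain ⟨i, hi, hiθ⟩ := hω.eq_pow_of_pow_eq_one ((mem_nthRootsFinset hn 1).mp hθ)
    exact ⟨i, mem_range.mpr hi, hiθ⟩
  · intro k _
    rfl

theorem prod_range_mul_periodic {m : ℕ} (G : ℕ → ℂ) (hG : ∀ k, G (k + m) = G k) (e : ℕ) :
    ∏ k ∈ range (m * e), G k = (∏ k ∈ range m, G k) ^ e := by
  induction e with
  | zero => simp
  | succ e ih =>
    rw [Nat.mul_succ, Finset.prod_range_add, ih, pow_succ]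
    congr 1
    apply Finset.prod_congr rfl
    intro k _
    have : ∀ j, G (m * j + k) = G k := by
      intro j
      induction j with
      | zero => simp
      | succ j ihj =>
        rw [Nat.mul_succ, add_right_comm, hG, ihj]
    exact this e

theorem key (n d : ℕ) (hn : 0 < n) (hd : 0 < d) (t : ℂ) :
    (1 - t ^ (n * d / Nat.gcd n d)) ^ Nat.gcd n d =
      ∏ θ ∈ nthRootsFinset n (1 : ℂ), (1 - θ ^ d * t ^ d) := by
  set e := Nat.gcd n d with he
  have he0 : 0 < e := Nat.gcd_pos_of_pos_left d hn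
  obtain ⟨m, hm⟩ : e ∣ n := Nat.gcd_dvd_left n d
  have hm' : n = m * e := by rw [hm, mul_comm]
  have hm0 : 0 < m := by
    rcases Nat.eq_zero_or_pos m with h | h
    · rw [h, zero_mul] at hm'; omega
    · exact h
  have hω : IsPrimitiveRoot (Complex.exp (2 * Real.pi * Complex.I / n)) n :=
    Complex.isPrimitiveRoot_exp n hn.ne'
  set ω := Complex.exp (2 * Real.pi * Complex.I / n) with hωdef
  have hω' : IsPrimitiveRoot (ω ^ d) m := by
    have h1 : orderOf (ω ^ d) = m := by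
      rw [orderOf_pow' ω hd.ne', ← hω.eq_orderOf, ← he, hm, Nat.mul_div_cancel_left m he0]
    rw [← h1]
    exact IsPrimitiveRoot.orderOf _
  have hexp : n * d / e = d * m := by
    rw [hm', mul_right_comm, Nat.mul_div_cancel _ he0, mul_comm]
  rw [hexp, prod_nthRoots_eq_prod_range hn hω (fun θ => 1 - θ ^ d * t ^ d)]
  have h2 : ∀ k, (1 - (ω ^ k) ^ d * t ^ d) = (fun k => 1 - ((ω ^ d) ^ k) * t ^ d) k := by
    intro k
    simp only
    rw [← pow_mul, ← pow_mul, mul_comm k d]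
  simp only [h2]
  rw [hm', prod_range_mul_periodic (fun k => 1 - ((ω ^ d) ^ k) * t ^ d)
    (by
      intro k
      change 1 - (ω ^ d) ^ (k + m) * t ^ d = 1 - (ω ^ d) ^ k * t ^ d
      rw [pow_add, hω'.pow_eq_one, mul_one]) e]
  congr 1
  rw [← prod_nthRoots_eq_prod_range hm0 hω' (fun θ => 1 - θ * t ^ d)]
  have h3 := hω'.pow_sub_pow_eq_prod_sub_mul (1 : ℂ) (t ^ d) hm0
  rw [← h3, one_pow, ← pow_mul]

/-- For positive integers `n`, `d` with `e = gcd(n, d)`, in `ℂ[t]` one has `(1 - t^{nd/e})^e = ∏_{θⁿ =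
1} (1 - (θ t)^d)`, the product over the complex `n`-th roots of unity. -/
theorem result (n d : ℕ) (hn : 0 < n) (hd : 0 < d) :
    ((1 : Polynomial ℂ) - Polynomial.X ^ (n * d / Nat.gcd n d)) ^ Nat.gcd n d =
      ∏ θ ∈ Polynomial.nthRootsFinset n (1 : ℂ),
        (1 - Polynomial.C (θ ^ d) * Polynomial.X ^ d) := by
  apply Polynomial.funext
  intro t
  have := key n d hn hd t
  simp only [eval_pow, eval_sub, eval_one, eval_X, eval_prod, eval_mul, eval_C]
  exact this

end Groth.Agent.S11043
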