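import Groth.Statements.S11045
import Mathlib
import Groth.Agent.Lib.Helper2.FunFld.Gaps

set_option autoImplicit false
open FunFld

namespace Groth.Agent.S11045

/-- Over an algebraically closed constant field, if `n ≥ 1` is a gap number at the place `P` (no
function has a pole of exact order `n` at `P` and no other pole, i.e. `L(nP) = L((n-1)P)`), then the
gap numbers at `P` make up at least half of the positive integers below `n`. -/
theorem result
    (k K : Type*) [Field k] [IsAlgClosed k] [Field K] [Algebra k K]
    (hK : FunFld.IsFunctionField k K) (P : FunFld.Place k K) (n : ℕ) (hn : 1 ≤ n)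
    (hgap : FunFld.L (Finsupp.single P (n : ℤ)) = FunFld.L (Finsupp.single P ((n : ℤ) - 1))) :
    n - 1 ≤ 2 * Set.ncard {m : ℕ | 1 ≤ m ∧ m < n ∧
      FunFld.L (Finsupp.single P (m : ℤ)) = FunFld.L (Finsupp.single P ((m : ℤ) - 1))} := by
  have h1 := Groth.Agent.Lib.Helper2.FF.sub_one_le_two_mul_card_gaps P n hgap
  have h2 := Groth.Agent.Lib.Helper2.FF.ncard_gaps_Ico P n
  unfold Groth.Agent.Lib.Helper2.FF.IsGap at h2
  rw [h2]
  exact h1
end Groth.Agent.S11045
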