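import Groth.Statements.S11049
import Mathlib

set_option autoImplicit false
open CAlg

namespace Groth.Agent.S11049

open Module in
theorem finrank_of_exact {K A B C : Type*} [Field K] [AddCommGroup A] [Module K A]
    [AddCommGroup B] [Module K B] [AddCommGroup C] [Module K C]
    (f : A →ₗ[K] B) (g : B →ₗ[K] C) (hf : Function.Injective f) (hg : Function.Surjective g)
    (h : Function.Exact f g) [FiniteDimensional K B] :
    finrank K B = finrank K A + finrank K C := by
  have h1 := LinearMap.finrank_range_add_finrank_ker g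
  rw [LinearMap.range_eq_top.mpr hg, finrank_top] at h1
  have h2 : LinearMap.ker g = LinearMap.range f := LinearMap.exact_iff.mp h
  rw [h2, LinearMap.finrank_range_of_inj hf] at h1
  omega

theorem result
    (k R : Type*) [Field k] [CommRing R]
    [IsDomain R] [Algebra k R] (S : Subalgebra k R) (x : S) (hx : (x : R) ≠ 0)
    [Module.Finite k (R ⧸ Subalgebra.toSubmodule S)]
    [Module.Finite k (R ⧸ Ideal.span {(x : R)})] :
    Module.finrank k (R ⧸ Ideal.span {(x : R)}) = Module.finrank k (S ⧸ Ideal.span {x}) := by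
  classical
  let S' : Submodule k R := Subalgebra.toSubmodule S
  let mx : R →ₗ[k] R := LinearMap.mulLeft k (x : R)
  have hmx : ∀ a, mx a = (x : R) * a := fun a => rfl
  have hmxinj : Function.Injective mx := fun a b hab => mul_left_cancel₀ hx hab
  let xS : Submodule k R := S'.map mx
  have hxS : ∀ r, r ∈ xS ↔ ∃ s ∈ S, (x : R) * s = r := by
    intro r
    simp only [xS, Submodule.mem_map, S', Subalgebra.mem_toSubmodule, hmx]
  let V := R ⧸ xS
  let πx : R →ₗ[k] R ⧸ Ideal.span {(x : R)} := (Ideal.Quotient.mkₐ k _).toLinearMap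
  have hπx : ∀ r, πx r = 0 ↔ r ∈ Ideal.span {(x : R)} := fun r =>
    Ideal.Quotient.eq_zero_iff_mem
  -- first sequence
  let f₁ : (R ⧸ S') →ₗ[k] V := S'.liftQ (xS.mkQ ∘ₗ mx) (by
    intro s hs
    rw [LinearMap.mem_ker, LinearMap.comp_apply, Submodule.mkQ_apply,
      Submodule.Quotient.mk_eq_zero, hxS]
    exact ⟨s, hs, rfl⟩)
  let g₁ : V →ₗ[k] R ⧸ Ideal.span {(x : R)} := xS.liftQ πx (by
    intro r hr
    obtain ⟨s, -, rfl⟩ := (hxS r).mp hr
    rw [LinearMap.mem_ker, hπx]
    exact Ideal.mul_mem_right _ _ (Ideal.mem_span_singleton_self _))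
  have hf₁ : Function.Injective f₁ := by
    rw [← LinearMap.ker_eq_bot, LinearMap.ker_eq_bot']
    intro y hy
    obtain ⟨a, rfl⟩ := Submodule.Quotient.mk_surjective _ y
    have h1 : xS.mkQ (mx a) = 0 := hy
    rw [Submodule.mkQ_apply, Submodule.Quotient.mk_eq_zero, hxS] at h1
    obtain ⟨s, hs, hsa⟩ := h1
    have : s = a := mul_left_cancel₀ hx hsa
    rw [Submodule.Quotient.mk_eq_zero]
    exact this ▸ hs
  have hg₁ : Function.Surjective g₁ := by
    intro y
    obtain ⟨r, rfl⟩ := Ideal.Quotient.mk_surjective y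
    exact ⟨Submodule.Quotient.mk r, rfl⟩
  have hex₁ : Function.Exact f₁ g₁ := by
    intro v
    constructor
    · intro hv
      obtain ⟨r, rfl⟩ := Submodule.Quotient.mk_surjective _ v
      have h1 : πx r = 0 := hv
      rw [hπx, Ideal.mem_span_singleton'] at h1
      obtain ⟨a, rfl⟩ := h1
      refine ⟨Submodule.Quotient.mk a, ?_⟩
      change xS.mkQ (mx a) = _
      rw [hmx, mul_comm]
      rfl
    · rintro ⟨y, rfl⟩
      obtain ⟨a, rfl⟩ := Submodule.Quotient.mk_surjective _ y
      change πx (mx a) = 0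
      rw [hπx, hmx]
      exact Ideal.mul_mem_right _ _ (Ideal.mem_span_singleton_self _)
  have hVfin : Module.Finite k V := Module.Finite.of_exact hex₁ hg₁
  -- second sequence
  let φ₂ : S →ₗ[k] V := xS.mkQ ∘ₗ S.val.toLinearMap
  let f₂' : (S ⧸ (Ideal.span {x}).restrictScalars k) →ₗ[k] V :=
    ((Ideal.span {x}).restrictScalars k).liftQ φ₂ (by
      intro s hs
      rw [Submodule.restrictScalars_mem, Ideal.mem_span_singleton'] at hs
      obtain ⟨s', rfl⟩ := hs
      rw [LinearMap.mem_ker]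
      change xS.mkQ ((s' * x : S) : R) = 0
      rw [Submodule.mkQ_apply, Submodule.Quotient.mk_eq_zero, hxS]
      exact ⟨s', s'.2, by push_cast; ring⟩)
  let f₂ : (S ⧸ Ideal.span {x}) →ₗ[k] V :=
    f₂' ∘ₗ (Submodule.Quotient.restrictScalarsEquiv k (Ideal.span {x})).symm.toLinearMap
  let g₂ : V →ₗ[k] R ⧸ S' := xS.liftQ S'.mkQ (by
    intro r hr
    obtain ⟨s, hs, rfl⟩ := (hxS r).mp hr
    rw [LinearMap.mem_ker, Submodule.mkQ_apply, Submodule.Quotient.mk_eq_zero]
    exact S.mul_mem x.2 hs)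
  have hf₂' : Function.Injective f₂' := by
    rw [← LinearMap.ker_eq_bot, LinearMap.ker_eq_bot']
    intro y hy
    obtain ⟨s, rfl⟩ := Submodule.Quotient.mk_surjective _ y
    have h1 : xS.mkQ (s : R) = 0 := hy
    rw [Submodule.mkQ_apply, Submodule.Quotient.mk_eq_zero, hxS] at h1
    obtain ⟨s', hs', hs's⟩ := h1
    rw [Submodule.Quotient.mk_eq_zero, Submodule.restrictScalars_mem, Ideal.mem_span_singleton']
    refine ⟨⟨s', hs'⟩, ?_⟩
    apply Subtype.ext
    push_cast
    rw [← hs's, mul_comm]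
  have hf₂ : Function.Injective f₂ :=
    hf₂'.comp (Submodule.Quotient.restrictScalarsEquiv k (Ideal.span {x})).symm.injective
  have hg₂ : Function.Surjective g₂ := by
    intro y
    obtain ⟨r, rfl⟩ := Submodule.Quotient.mk_surjective _ y
    exact ⟨Submodule.Quotient.mk r, rfl⟩
  have hex₂ : Function.Exact f₂ g₂ := by
    intro v
    constructor
    · intro hv
      obtain ⟨r, rfl⟩ := Submodule.Quotient.mk_surjective _ v
      have h1 : S'.mkQ r = 0 := hv
      rw [Submodule.mkQ_apply, Submodule.Quotient.mk_eq_zero] at h1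
      refine ⟨Submodule.Quotient.restrictScalarsEquiv k (Ideal.span {x})
        (Submodule.Quotient.mk ⟨r, h1⟩), ?_⟩
      simp only [f₂, LinearMap.comp_apply, LinearEquiv.coe_coe, LinearEquiv.symm_apply_apply]
      rfl
    · rintro ⟨y, rfl⟩
      obtain ⟨y', rfl⟩ := (Submodule.Quotient.restrictScalarsEquiv k (Ideal.span {x})).surjective y
      obtain ⟨s, rfl⟩ := Submodule.Quotient.mk_surjective _ y'
      simp only [f₂, LinearMap.comp_apply, LinearEquiv.coe_coe, LinearEquiv.symm_apply_apply]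
      change S'.mkQ (s : R) = 0
      rw [Submodule.mkQ_apply, Submodule.Quotient.mk_eq_zero]
      exact s.2
  have e1 := finrank_of_exact f₁ g₁ hf₁ hg₁ hex₁
  have e2 := finrank_of_exact f₂ g₂ hf₂ hg₂ hex₂
  omega

end Groth.Agent.S11049
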