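import Groth.Statements.S11050
import Mathlib
import Groth.Agent.Lib.Helper9.FunFldInsep

set_option autoImplicit false
open FunFld

namespace Groth.Agent.S11050

/-- Over an algebraically closed constant field, let `W` be a finite-dimensional subspace of the
function field `K` containing `1` and generating `K` over `k` (the span of an effective birational
projective map). Then `W` contains a separating variable `x`, and for each separating `x ∈ W` some
`y ∈ W` gives `K = k(x, y)`. -/
theorem result
    (k K : Type*) [Field k] [IsAlgClosed k] [Field K] [Algebra k K]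
    (hK : FunFld.IsFunctionField k K) (W : Submodule k K)
    [FiniteDimensional k W] (h1 : (1 : K) ∈ W)
    (hW : IntermediateField.adjoin k (W : Set K) = ⊤) :
    (∃ x ∈ W, Algebra.IsSeparable (IntermediateField.adjoin k ({x} : Set K)) K) ∧
    ∀ x ∈ W, Algebra.IsSeparable (IntermediateField.adjoin k ({x} : Set K)) K →
      ∃ y ∈ W, IntermediateField.adjoin k ({x, y} : Set K) = ⊤ := by
  obtain ⟨⟨x₁, hx₁, hfin₁⟩, -⟩ := hK
  have hg : FunFld.IsGeometric k K := Groth.Agent.Lib.Helper9.FunFld.isGeometric_of_isAlgClosed
  obtain ⟨t, ht, hsep⟩ := Groth.Agent.Lib.Helper9.FunFld.exists_separating_variable hx₁ hfin₁ hg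
  have hDt := Groth.Agent.Lib.Helper9.FunFld.D_ne_zero_of_separating ht hsep
  have hfr := Groth.Agent.Lib.Helper9.FunFld.finrank_kaehler_eq_one_of_separating ht hsep
  have hess : Algebra.EssFiniteType k K :=
    Groth.Agent.Lib.Helper9.FunFld.essFiniteType_of_finite_adjoin hfin₁
  constructor
  · obtain ⟨x, hxW, hDx⟩ :=
      Groth.Agent.Lib.Helper9.FunFld.exists_mem_D_ne_zero_of_adjoin_eq_top hW hDt
    exact ⟨x, hxW,
      Groth.Agent.Lib.Helper9.FunFld.isSeparable_adjoin_simple_of_D_ne_zero hfr hDx⟩
  · intro x hxW hsepx
    obtain ⟨F, hF⟩ : ∃ F : IntermediateField k K, F = IntermediateField.adjoin k ({x} : Set K) :=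
      ⟨_, rfl⟩
    rw [← hF] at hsepx
    have hessF : Algebra.EssFiniteType F K := Algebra.EssFiniteType.of_comp k F K
    have hfinF : FiniteDimensional F K := Algebra.finite_of_essFiniteType_of_isAlgebraic
    have hfinI : Finite (IntermediateField F K) :=
      Field.finite_intermediateField_of_exists_primitive_element F K
        (Field.exists_primitive_element F K)
    -- the subspaces `W ∩ E`
    let q : {E : IntermediateField F K // E ≠ ⊤} → Subspace k W := fun E =>
      Submodule.comap W.subtype (E.1.restrictScalars k).toSubalgebra.toSubmodule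
    have hne : ¬ (⋃ E, (q E : Set W)) = Set.univ := by
      intro hcov
      obtain ⟨E, hE⟩ := Subspace.exists_eq_top_of_iUnion_eq_univ hcov
      apply E.2
      have hWE : (W : Set K) ⊆ (E.1.restrictScalars k : Set K) := by
        intro w hw
        have : (⟨w, hw⟩ : W) ∈ q E := hE ▸ Submodule.mem_top
        exact this
      have h1 : IntermediateField.adjoin k (W : Set K) ≤ E.1.restrictScalars k :=
        IntermediateField.adjoin_le_iff.mpr hWE
      rw [hW] at h1
      apply IntermediateField.restrictScalars_injective k
      rw [IntermediateField.restrictScalars_top]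
      exact top_le_iff.mp h1
    obtain ⟨y, hy⟩ : ∃ y : W, y ∉ ⋃ E, (q E : Set W) := by
      by_contra hcon
      push Not at hcon
      exact hne (Set.eq_univ_of_forall hcon)
    refine ⟨y.1, y.2, ?_⟩
    have hFy : (IntermediateField.adjoin F ({(y : K)} : Set K)) = ⊤ := by
      by_contra hne'
      apply hy
      rw [Set.mem_iUnion]
      refine ⟨⟨(IntermediateField.adjoin F ({(y : K)} : Set K)), hne'⟩, ?_⟩
      change (y : K) ∈ ((IntermediateField.adjoin F ({(y : K)} : Set K)).restrictScalars k)
      exact IntermediateField.mem_adjoin_simple_self F (y : K)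
    have h2 := congrArg (IntermediateField.restrictScalars k) hFy
    rw [hF, IntermediateField.adjoin_adjoin_left, IntermediateField.restrictScalars_top] at h2
    rw [← h2]
    congr 1

end Groth.Agent.S11050
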