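import Groth.Statements.S11055
import Mathlib
import Groth.Agent.Lib.Helper26.LocRing2

set_option autoImplicit false
open FunFld

namespace Groth.Agent.S11055

open scoped IntermediateField
open Groth.Agent.Lib.Helper2.FF
open Groth.Agent.Lib.Helper26.FunFldAlgClosed
open Groth.Agent.Lib.Helper26.LocRing
open Groth.Agent.Lib.Helper26.LocRing2

/-- Over an algebraically closed constant field, a projective map `φ = (φ₀, …, φₙ)`, `n ≥ 1`, with span
`W` and divisor `[φ]` is nonsingular at the place `P` if and only if `W ∩ L([φ] - P - Q)` has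
codimension `2` in `W` for every place `Q`. Here a projective map is nonsingular at a place when its
local ring there (quotients of polynomials over `k` in the ratios `φᵢ/φⱼ`, `φⱼ` of least order at
the place, with denominator a unit there) is the whole valuation ring. (The published statement is
for any projective map; the published proof uses the finiteness property of the local ring that is
established for birational maps, so `φ` is taken birational here: the ratios `φᵢ/φ₀` generate `K`
over `k`.) -/
theorem result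
    (k K : Type*) [Field k] [IsAlgClosed k] [Field K] [Algebra k K]
    (hK : FunFld.IsFunctionField k K) {n : ℕ} (hn : 1 ≤ n)
    (φ : Fin (n + 1) → K) (hφ : LinearIndependent k φ)
    (hbir : IntermediateField.adjoin k (Set.range fun i => φ i / φ 0) = ⊤) (P : FunFld.Place k K) :
    FunFld.IsNonsingularAt φ P ↔ ∀ Q : FunFld.Place k K,
      Module.finrank k ↥(Submodule.span k (Set.range φ) ⊓
          FunFld.L (FunFld.mapDiv k φ - Finsupp.single P 1 - Finsupp.single Q 1)) + 2 =
        Module.finrank k ↥(Submodule.span k (Set.range φ)) := by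
  classical
  have hφ0 : ∀ i, φ i ≠ 0 := fun i => hφ.ne_zero i
  rw [isNonsingularAt_iff_sep hK φ hφ0 P]
  have hφL : ∀ i, φ i ∈ L (mapDiv k φ) := mem_L_mapDiv hK φ hφ0
  obtain ⟨j, hj⟩ := exists_v_eq_mapDiv hK φ hφ0 P
  obtain ⟨D, hD⟩ : ∃ D, D = mapDiv k φ := ⟨_, rfl⟩
  rw [← hD] at hφL hj ⊢
  set W := Submodule.span k (Set.range φ) with hW
  have hWL : W ≤ L D := Submodule.span_le.2 (by rintro _ ⟨i, rfl⟩; exact hφL i)
  have hWfin : Module.Finite k W := FiniteDimensional.span_of_finite k (Set.finite_range φ)
  refine forall_congr' fun Q => ?_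
  set V₁ := W ⊓ L (D - (Finsupp.single P 1 : Divisor k K)) with hV₁
  set V₂ := W ⊓ L (D - (Finsupp.single P 1 : Divisor k K) - (Finsupp.single Q 1 : Divisor k K))
    with hV₂
  have h21 : V₂ ≤ V₁ := inf_le_inf_left _ (L_sub_single_le _ _)
  have h10 : V₁ ≤ W := inf_le_left
  have hc : Module.finrank k W ≤ Module.finrank k V₁ + 1 := by
    have := finrank_inf_L_le hK W D P
    rwa [inf_eq_left.2 hWL] at this
  have hb : Module.finrank k V₁ ≤ Module.finrank k V₂ + 1 :=
    finrank_inf_L_le hK W (D - (Finsupp.single P 1 : Divisor k K)) Q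
  have hlt : Module.finrank k V₁ < Module.finrank k W := by
    apply Submodule.finrank_lt_finrank_of_lt
    refine lt_of_le_of_ne h10 ?_
    intro he
    have h1 : φ j ∈ V₁ := by rw [he]; exact Submodule.subset_span ⟨j, rfl⟩
    have h2 := ((mem_L_sub_single_iff D P (φ j)).1 h1.2).2
    rw [hj, WithZero.exp_le_exp] at h2
    omega
  have hle2 : Module.finrank k V₂ ≤ Module.finrank k V₁ := Submodule.finrank_mono h21
  constructor
  · rintro ⟨w, hw, hwP, hwQ⟩
    have hw1 : w ∈ V₁ := ⟨hw, (mem_L_sub_single_iff D P w).2 ⟨hWL hw, (lt_exp_iff_le _ _).1 hwP⟩⟩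
    have hw2 : w ∉ V₂ := by
      rintro ⟨-, h⟩
      have := ((mem_L_sub_single_iff _ Q w).1 h).2
      rw [hwQ, WithZero.exp_le_exp] at this
      omega
    have hlt2 : Module.finrank k V₂ < Module.finrank k V₁ := by
      apply Submodule.finrank_lt_finrank_of_lt
      exact lt_of_le_of_ne h21 (fun he => hw2 (he ▸ hw1))
    omega
  · intro h
    have hne : ¬ V₁ ≤ V₂ := by
      intro hle
      have := Submodule.finrank_mono hle
      omega
    obtain ⟨w, hw1, hw2⟩ := SetLike.not_le_iff_exists.1 hne
    refine ⟨w, hw1.1, ?_, ?_⟩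
    · exact (lt_exp_iff_le _ _).2 ((mem_L_sub_single_iff D P w).1 hw1.2).2
    · apply v_eq_of_not_mem_sub_single hw1.2
      intro h3
      exact hw2 ⟨hw1.1, h3⟩

end Groth.Agent.S11055
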