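import Groth.Statements.S11057
import Mathlib
import Groth.Agent.Lib.Helper26.LocRing

set_option autoImplicit false
open FunFld

namespace Groth.Agent.S11057

open scoped IntermediateField
open Groth.Agent.Lib.Helper2.FF
open Groth.Agent.Lib.Helper26.FunFldAlgClosed

theorem ell_eq_one_of_gonality {k K : Type*} [Field k] [Field K] [Algebra k K]
    (hK : FunFld.IsFunctionField k K)
    (h2 : ∀ x : K, Transcendental k x →
      2 < Module.finrank (IntermediateField.adjoin k ({x} : Set K)) K)
    {E : Divisor k K} (hE0 : 0 ≤ E) (hE : E.deg ≤ 2) : ell E = 1 := by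
  classical
  have h1 : 1 ≤ ell E := by
    have := ell_mono hK hE0
    rwa [ell_zero hK] at this
  by_contra hne
  have h3 : 2 ≤ ell E := by omega
  have hnle : ¬ L E ≤ L (0 : Divisor k K) := by
    intro hle
    have := finiteDimensional_L hK (0 : Divisor k K)
    have h4 := Submodule.finrank_mono hle
    rw [← ell_def, ← ell_def, ell_zero hK] at h4
    omega
  obtain ⟨x, hxE, hx0⟩ := SetLike.not_le_iff_exists.1 hnle
  have hxr : x ∉ Set.range (algebraMap k K) := by
    rintro ⟨c, rfl⟩
    apply hx0
    rw [L_zero hK]
    exact Submodule.mem_one.2 ⟨c, rfl⟩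
  have htr := transcendental_of_not_mem_range hK hxr
  have hxne : x ≠ 0 := by
    rintro rfl
    exact hx0 (Submodule.zero_mem _)
  have hle : pdiv (k := k) x ≤ E := by
    intro Q
    rw [pdiv_apply hK]
    have h5 := (v_le_exp_iff Q hxne _).1 (hxE Q)
    have h6 : 0 ≤ E Q := hE0 Q
    apply max_le <;> omega
  have h7 := deg_mono hle
  rw [deg_pdiv hK htr] at h7
  have h8 := h2 x htr
  omega

/-- Over an algebraically closed constant field, if `K` has degree at least `3` over every subfield
`k(x)` generated by a nonconstant element, then the canonical map (given by a basis of `L(D)` for a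
canonical divisor `D`) is an embedding, i.e. nonsingular at every place. Here a projective map is
nonsingular at a place when its local ring there (quotients of polynomials over `k` in the ratios
`φᵢ/φⱼ`, `φⱼ` of least order at the place, with denominator a unit there) is the whole valuation
ring. -/
theorem result
    (k K : Type*) [Field k] [IsAlgClosed k] [Field K] [Algebra k K]
    (hK : FunFld.IsFunctionField k K)
    (h2 : ∀ x : K, Transcendental k x →
      2 < Module.finrank (IntermediateField.adjoin k ({x} : Set K)) K)
    (D : FunFld.Divisor k K) (hD : FunFld.IsCanonical k K D) {n : ℕ} (φ : Fin (n + 1) → K)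
    (hφ : LinearIndependent k φ) (hspan : Submodule.span k (Set.range φ) = FunFld.L D)
    (P : FunFld.Place k K) : FunFld.IsNonsingularAt φ P := by
  classical
  have hdeg : ∀ Q : FunFld.Place k K, Q.deg = 1 := fun Q => deg_eq_one hK Q
  have hsingle : ∀ Q : FunFld.Place k K, (0 : Divisor k K) ≤ Finsupp.single Q 1 := by
    intro Q R
    by_cases h : Q = R
    · subst h; simp
    · simp [Finsupp.single_eq_of_ne (Ne.symm h)]
  have key : ∀ E : Divisor k K, 0 ≤ E → E.deg ≤ 2 →
      (ell (D - E) : ℤ) = genus k K - E.deg := by
    intro E hE0 hE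
    have h1 := riemann_roch hK D hD (D - E)
    rw [sub_sub_cancel, ell_eq_one_of_gonality hK h2 hE0 hE, deg_sub, deg_canonical hK hD] at h1
    rw [h1]; push_cast; ring
  have hC := ell_canonical hK hD
  have e1 : ∀ Q : FunFld.Place k K,
      (ell (D - (Finsupp.single Q 1 : Divisor k K)) : ℤ) = genus k K - 1 := by
    intro Q
    have := key _ (hsingle Q) (by rw [deg_single, hdeg Q]; norm_num)
    rw [this, deg_single, hdeg Q]; norm_num
  apply Groth.Agent.Lib.Helper26.LocRing.isNonsingularAt_of_ell hK φ D P hspan
  · intro Q
    have := e1 Q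
    omega
  · intro Q
    have h3 := key ((Finsupp.single P 1 : Divisor k K) + (Finsupp.single Q 1 : Divisor k K))
      (add_nonneg (hsingle P) (hsingle Q))
      (by rw [deg_add, deg_single, deg_single, hdeg P, hdeg Q]; norm_num)
    rw [← sub_sub, deg_add, deg_single, deg_single, hdeg P, hdeg Q] at h3
    have := e1 P
    push_cast at h3
    omega

end Groth.Agent.S11057
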