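import Groth.Statements.S11058
import Mathlib
import Groth.Agent.Lib.Helper26.LocRing3
import Groth.Agent.Lib.Helper2.FunFld.Finite

set_option autoImplicit false
open FunFld

namespace Groth.Agent.S11058

open scoped IntermediateField
open Groth.Agent.Lib.Helper2.FF
open Groth.Agent.Lib.Helper26.FunFldAlgClosed
open Groth.Agent.Lib.Helper26.LocRing
open Groth.Agent.Lib.Helper26.LocRing2
open Groth.Agent.Lib.Helper26.LocRing3

/-- Over an algebraically closed constant field, a birational projective map `φ = (φ₀, …, φₙ)` (the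
ratios `φᵢ/φ₀` generate `K` over `k`) is nonsingular at all but finitely many places. Here a
projective map is nonsingular at a place when its local ring there (quotients of polynomials over
`k` in the ratios `φᵢ/φⱼ`, `φⱼ` of least order at the place, with denominator a unit there) is the
whole valuation ring. -/
theorem result
    (k K : Type*) [Field k] [IsAlgClosed k] [Field K] [Algebra k K]
    (hK : FunFld.IsFunctionField k K) {n : ℕ} (hn : 1 ≤ n) (φ : Fin (n + 1) → K)
    (hφ : LinearIndependent k φ)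
    (hbir : IntermediateField.adjoin k (Set.range fun i => φ i / φ 0) = ⊤) :
    {P : FunFld.Place k K | ¬ FunFld.IsNonsingularAt φ P}.Finite := by
  classical
  have hφ0 : ∀ i, φ i ≠ 0 := fun i => hφ.ne_zero i
  have hφL : ∀ i, φ i ∈ L (mapDiv k φ) := mem_L_mapDiv hK φ hφ0
  have hex : ∀ Q : FunFld.Place k K, ∃ i, v Q (φ i) = WithZero.exp (mapDiv k φ Q) :=
    exists_v_eq_mapDiv hK φ hφ0
  have hd : 1 ≤ (mapDiv k φ).deg := one_le_deg_mapDiv hK hn φ hφ
  obtain ⟨D, hD⟩ : ∃ D, D = mapDiv k φ := ⟨_, rfl⟩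
  rw [← hD] at hφL hex hd
  have hbpf : ∀ Q : FunFld.Place k K, ∃ w ∈ Submodule.span k (Set.range φ),
      v Q w = WithZero.exp (D Q) := by
    intro Q
    obtain ⟨i, hi⟩ := hex Q
    exact ⟨φ i, Submodule.subset_span ⟨i, rfl⟩, hi⟩
  set g := genus k K with hg
  set e := 2 * g + 1 with he
  set A := Algebra.adjoin k (Set.range fun i => φ i / φ 0) with hA
  -- every element of `K` is a quotient of elements of `A`
  have hfrac : ∀ x : K, ∃ u ∈ A, ∃ w ∈ A, w ≠ 0 ∧ x * w = u := by
    intro x
    have hx : x ∈ IntermediateField.adjoin k (Set.range fun i => φ i / φ 0) := by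
      rw [hbir]; trivial
    obtain ⟨r, hr, t, ht, hxrt⟩ := IntermediateField.mem_adjoin_iff_div.1 hx
    by_cases ht0 : t = 0
    · refine ⟨0, zero_mem _, 1, one_mem _, one_ne_zero, ?_⟩
      rw [hxrt, ht0, div_zero, zero_mul]
    · exact ⟨r, hr, t, ht, ht0, by rw [hxrt]; field_simp⟩
  choose u hu w hw hw0 huw using hfrac
  obtain ⟨S, hS⟩ := (Submodule.fg_iff_finiteDimensional _).2 (finiteDimensional_L hK (e • D))
  -- the bad set
  have hfin1 : {P : FunFld.Place k K | v P (φ 0) ≠ WithZero.exp (D P)}.Finite := by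
    apply Set.Finite.subset (D + FunFld.div k (φ 0)).support.finite_toSet
    intro Q hQ
    simp only [Finset.mem_coe, Finsupp.mem_support_iff, Finsupp.add_apply, div_apply hK]
    intro h0
    apply hQ
    rw [v_eq_exp_neg_ord Q (hφ0 0)]
    congr 1
    omega
  have hfin2 : ∀ x : K, x ≠ 0 → {P : FunFld.Place k K | v P x ≠ 1}.Finite := by
    intro x hx
    apply Set.Finite.subset (finite_support_ord hK x)
    intro Q hQ
    simp only [Function.mem_support]
    intro h0
    exact hQ ((v_eq_one_iff Q hx).2 h0)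
  have hfin3 : (⋃ f ∈ S, {P : FunFld.Place k K | v P (w (f / φ 0 ^ e)) ≠ 1}).Finite :=
    Set.Finite.biUnion S.finite_toSet fun f _ => hfin2 _ (hw0 _)
  apply Set.Finite.subset (hfin1.union hfin3)
  intro P hP
  by_contra hcon
  apply hP
  simp only [Set.mem_union, Set.mem_ofPred_eq, Set.mem_iUnion, not_or, not_exists, not_not] at hcon
  obtain ⟨hc1, hc2⟩ := hcon
  apply isNonsingularAt_of_gens hK φ D hφL hbpf 0 hd P hc1
  intro f hf
  have hS' : ∀ x ∈ (fun f => f / φ 0 ^ e) '' (S : Set K), ∃ u ∈ A, ∃ w ∈ A,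
      v P w = 1 ∧ x * w = u := by
    rintro _ ⟨f, hfS, rfl⟩
    exact ⟨_, hu _, _, hw _, hc2 f hfS, huw _⟩
  apply span_le_locRing φ P 0 hS'
  rw [← hS] at hf
  refine Submodule.span_induction
    (p := fun f _ => f / φ 0 ^ e ∈ Submodule.span A ((fun f => f / φ 0 ^ e) '' (S : Set K)))
    ?_ ?_ ?_ ?_ hf
  · intro x hx; exact Submodule.subset_span ⟨x, hx, rfl⟩
  · rw [zero_div]; exact Submodule.zero_mem _
  · intro x y _ _ hx hy; rw [add_div]; exact Submodule.add_mem _ hx hy
  · intro c x _ hx
    rw [smul_div_assoc]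
    have : c • (x / φ 0 ^ e) = (algebraMap k A c) • (x / φ 0 ^ e) := by rw [algebraMap_smul]
    rw [this]; exact Submodule.smul_mem _ _ hx

end Groth.Agent.S11058
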