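import Groth.Statements.S11065
import Mathlib
import Groth.Agent.Lib.Helper26.LocRing2

set_option autoImplicit false
open FunFld

namespace Groth.Agent.S11065

open scoped IntermediateField
open Groth.Agent.Lib.Helper2.FF
open Groth.Agent.Lib.Helper26.FunFldAlgClosed
open Groth.Agent.Lib.Helper26.LocRing
open Groth.Agent.Lib.Helper26.LocRing2

/-- Over an algebraically closed constant field, a projective map `φ = (φ₀, …, φₙ)`, `n ≥ 1`, is
nonsingular at the place `P` if and only if its local ring at `P` lies in the valuation ring of no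
place other than `P` and contains a local parameter at `P`. Here the local ring of a projective map
at a place consists of the quotients of polynomials over `k` in the ratios `φᵢ/φⱼ`, `φⱼ` of least
order at the place, with denominator a unit there; the map is nonsingular at the place when this
ring is the whole valuation ring. (The published statement is for any projective map; the published
proof uses the finiteness property of the local ring that is established for birational maps, so `φ`
is taken birational here: the ratios `φᵢ/φ₀` generate `K` over `k`.) -/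
theorem result
    (k K : Type*) [Field k] [IsAlgClosed k] [Field K] [Algebra k K]
    (hK : FunFld.IsFunctionField k K) {n : ℕ} (hn : 1 ≤ n)
    (φ : Fin (n + 1) → K) (hφ : LinearIndependent k φ)
    (hbir : IntermediateField.adjoin k (Set.range fun i => φ i / φ 0) = ⊤) (P : FunFld.Place k K) :
    FunFld.IsNonsingularAt φ P ↔
      (∀ Q : FunFld.Place k K, (∀ z : K, FunFld.InLocRing φ P z → Q.1 z ≤ 1) → Q = P) ∧
        ∃ t : K, FunFld.InLocRing φ P t ∧ P.1 t = WithZero.exp (-1) := by
  classical
  have hφ0 : ∀ i, φ i ≠ 0 := fun i => hφ.ne_zero i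
  have hPdeg : P.deg = 1 := deg_eq_one hK P
  constructor
  · intro hns
    refine ⟨fun Q hQ => ?_, ?_⟩
    · by_contra hne
      obtain ⟨z, hzP, hzQ⟩ := exists_O_diff hK (Ne.symm hne)
      exact absurd hzQ (not_lt.2 (hQ z (hns z hzP)))
    · obtain ⟨t, ht⟩ := exists_uniformizer P
      refine ⟨t, hns t ?_, ht⟩
      change v P t ≤ 1
      rw [ht, ← WithZero.exp_zero, WithZero.exp_le_exp]; norm_num
  · rintro ⟨h1, t, htin, ht⟩
    rw [isNonsingularAt_iff_sep hK φ hφ0 P]
    have hφL : ∀ i, φ i ∈ L (mapDiv k φ) := mem_L_mapDiv hK φ hφ0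
    have hex : ∀ Q : FunFld.Place k K, ∃ i, v Q (φ i) = WithZero.exp (mapDiv k φ Q) :=
      exists_v_eq_mapDiv hK φ hφ0
    obtain ⟨D, hD⟩ : ∃ D, D = mapDiv k φ := ⟨_, rfl⟩
    rw [← hD] at hφL hex ⊢
    obtain ⟨j, hj⟩ := hex P
    have hj0 := hφ0 j
    have hjle : ∀ i, v P (φ i) ≤ v P (φ j) := fun i => by rw [hj]; exact hφL i P
    intro Q
    by_cases hQP : Q = P
    · subst hQP
      obtain ⟨w, hw, hvw⟩ := exists_span_of_uniformizer Q hPdeg φ j hj0 hjle htin ht
      rw [hj, ← WithZero.exp_add] at hvw
      refine ⟨w, hw, ?_, ?_⟩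
      · rw [hvw, WithZero.exp_lt_exp]; omega
      · rw [hvw]; congr 1; simp; ring
    · by_contra hcon
      push Not at hcon
      have hDQ : (D - (Finsupp.single P 1 : Divisor k K)) Q = D Q := by
        simp [Finsupp.single_eq_of_ne hQP]
      have hns' : ∀ w ∈ Submodule.span k (Set.range φ), v P w < WithZero.exp (D P) →
          v Q w < WithZero.exp (D Q) := by
        intro w hw hwP
        have h1 := hcon w hw hwP
        rw [hDQ] at h1
        have hwL : w ∈ L D := (Submodule.span_le.2 (by rintro _ ⟨i, rfl⟩; exact hφL i)) hw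
        exact lt_of_le_of_ne (hwL Q) h1
      obtain ⟨-, h2⟩ := inLocRing_le_of_not_sep P Q hPdeg φ D hφL j hj (hex Q) hns'
      exact hQP (h1 Q fun z hz => (h2 z hz).1)

end Groth.Agent.S11065
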