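import Groth.Statements.S11066
import Mathlib
import Groth.Agent.Lib.Helper26.LocRing2

set_option autoImplicit false
open FunFld

namespace Groth.Agent.S11066

open scoped IntermediateField
open Groth.Agent.Lib.Helper2.FF
open Groth.Agent.Lib.Helper26.FunFldAlgClosed
open Groth.Agent.Lib.Helper26.LocRing
open Groth.Agent.Lib.Helper26.LocRing2

/-- Over an algebraically closed constant field, for an effective projective map `φ` normalized at the
place `P` (`1` in the span of the entries, all entries integral at `P`), the local ring of `φ` at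
`P` has an element of order one at `P` (a local parameter) exactly when the span of the entries has
one. The local ring consists of the quotients of polynomials over `k` in the ratios `φᵢ/φⱼ`, `φⱼ` of
least order at `P`, with denominator a unit at `P`. -/
theorem result
    (k K : Type*) [Field k] [IsAlgClosed k] [Field K] [Algebra k K]
    (hK : FunFld.IsFunctionField k K) {n : ℕ} (φ : Fin (n + 1) → K)
    (P : FunFld.Place k K) (heff : (1 : K) ∈ Submodule.span k (Set.range φ))
    (hnorm : ∀ i, P.1 (φ i) ≤ 1) :
    (∃ t : K, FunFld.InLocRing φ P t ∧ P.1 t = WithZero.exp (-1)) ↔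
      ∃ t ∈ Submodule.span k (Set.range φ), P.1 t = WithZero.exp (-1) := by
  classical
  have hPdeg : P.deg = 1 := deg_eq_one hK P
  -- some entry is a unit at `P`
  have hex : ∃ i, v P (φ i) = 1 := by
    by_contra hcon
    push Not at hcon
    have hlt : ∀ i, v P (φ i) < 1 := fun i => lt_of_le_of_ne (hnorm i) (hcon i)
    have : v P (1 : K) < 1 := by
      refine Submodule.span_induction (p := fun w _ => v P w < 1) ?_ ?_ ?_ ?_ heff
      · rintro _ ⟨i, rfl⟩; exact hlt i
      · simp
      · intro x y _ _ hx hy
        exact (Valuation.map_add _ _ _).trans_lt (max_lt hx hy)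
      · intro c x _ hx
        exact (v_smul_le P c x).trans_lt hx
    rw [map_one] at this
    exact lt_irrefl _ this
  obtain ⟨i₀, hi₀⟩ := hex
  constructor
  · rintro ⟨t, htin, ht⟩
    obtain ⟨j, hj0, hj, -⟩ := id htin
    have hvj : v P (φ j) = 1 := le_antisymm (hnorm j) (by rw [← hi₀]; exact hj i₀)
    obtain ⟨w, hw, hvw⟩ := exists_span_of_uniformizer P hPdeg φ j hj0 hj htin ht
    rw [hvj, mul_one] at hvw
    exact ⟨w, hw, hvw⟩
  · rintro ⟨t, ht, hvt⟩
    have hi₀0 : φ i₀ ≠ 0 := by
      intro h; rw [h, map_zero] at hi₀; exact zero_ne_one hi₀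
    refine ⟨t, ⟨i₀, hi₀0, fun i => by
      change v P (φ i) ≤ v P (φ i₀)
      rw [hi₀]; exact hnorm i, t / φ i₀, div_mem_adjoin φ i₀ ht, 1 / φ i₀,
      div_mem_adjoin φ i₀ heff, ?_, by ring⟩, hvt⟩
    change v P (1 / φ i₀) = 1
    rw [map_div₀, map_one, hi₀, div_one]

end Groth.Agent.S11066
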