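import Groth.Statements.S11070
import Mathlib
import Groth.Agent.Lib.Helper26.PlaneModel4

set_option autoImplicit false
open FunFld

namespace Groth.Agent.S11070

open Groth.Agent.Lib.Helper26.PlaneModel4

/-- Over an algebraically closed constant field, a plane curve `V = V(f)` with natural map `(1 : x :
y)`, `K = k(x, y)`, has degree `deg V = deg f`: the degree of the divisor of the map `(1 : x : y)`
equals the total degree of the irreducible polynomial relation `f(x, y) = 0`. -/
theorem result
    (k K : Type*) [Field k] [IsAlgClosed k] [Field K] [Algebra k K]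
    (hK : FunFld.IsFunctionField k K) (x y : K)
    (hxy : IntermediateField.adjoin k ({x, y} : Set K) = ⊤) (f : MvPolynomial (Fin 2) k)
    (hf : Irreducible f) (hfxy : MvPolynomial.aeval ![x, y] f = 0) :
    (FunFld.mapDiv k ![(1 : K), x, y]).deg = f.totalDegree := by
  classical
  have : Infinite k := IsAlgClosed.instInfinite
  obtain ⟨G, hG0, hker, hdeg⟩ := exists_ker_eq_span hK x y hxy
  rw [← hdeg]
  have hfk : f ∈ RingHom.ker (MvPolynomial.aeval ![x, y] : MvPolynomial (Fin 2) k →ₐ[k] K) :=
    hfxy
  rw [hker, Ideal.mem_span_singleton] at hfk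
  obtain ⟨q, hq⟩ := hfk
  have hGu : ¬ IsUnit G := by
    intro hu
    have h1 : (1 : MvPolynomial (Fin 2) k) ∈
        RingHom.ker (MvPolynomial.aeval ![x, y] : MvPolynomial (Fin 2) k →ₐ[k] K) := by
      rw [hker]
      rw [Ideal.span_singleton_eq_top.2 hu]; trivial
    rw [RingHom.mem_ker, map_one] at h1
    exact one_ne_zero h1
  have hqu : IsUnit q := (hf.isUnit_or_isUnit hq).resolve_left hGu
  obtain ⟨u, rfl⟩ := hqu
  have hu0 : (u : MvPolynomial (Fin 2) k).totalDegree = 0 := by
    have h1 : ((u : MvPolynomial (Fin 2) k) * ((u⁻¹ : (MvPolynomial (Fin 2) k)ˣ) :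
        MvPolynomial (Fin 2) k)).totalDegree = 0 := by
      rw [Units.mul_inv, MvPolynomial.totalDegree_one]
    rw [MvPolynomial.totalDegree_mul_of_isDomain (Units.ne_zero _) (Units.ne_zero _)] at h1
    omega
  rw [hq, MvPolynomial.totalDegree_mul_of_isDomain hG0 (Units.ne_zero _), hu0, add_zero]

end Groth.Agent.S11070
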