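import Groth.Statements.S11071
import Mathlib
import Groth.Agent.Lib.Helper2.FunFld.Jac6

set_option autoImplicit false
open FunFld

namespace Groth.Agent.S11071
open Groth.Agent.Lib.Helper2.FF Groth.Agent.Lib.Helper2.Jac

/-- Over an algebraically closed constant field, let `φ = (φ₀, …, φₙ)`, `n ≥ 1`, be a birational
projective map, `f₁, …, f_r` homogeneous generators of its ideal of homogeneous relations (the ideal
of the image curve), and `P` a place at which all `φᵢ/φ₀` are integral, with image point `a`. Then
`φ` is nonsingular at `P` if and only if the matrix `(∂fᵢ/∂Xⱼ(a))`, `1 ≤ j ≤ n`, has rank `n - 1`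
(entries read in the residue field of `P`). Here the local ring of `φ` at `P` consists of the
quotients of polynomials over `k` in the ratios `φᵢ/φ₀` with denominator a unit at `P`; `φ` is
nonsingular at `P` when this ring is the whole valuation ring. -/
theorem result (k K : Type*) [Field k] [IsAlgClosed k] [Field K] [Algebra k K]
    (hK : FunFld.IsFunctionField k K) {n : ℕ} (hn : 1 ≤ n)
    (φ : Fin (n + 1) → K) (hφ : LinearIndependent k φ)
    (hbir : IntermediateField.adjoin k (Set.range fun i => φ i / φ 0) = ⊤)
    (P : FunFld.Place k K) (hP : ∀ i, P.1 (φ i) ≤ P.1 (φ 0)) {r : ℕ}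
    (f : Fin r → MvPolynomial (Fin (n + 1)) k)
    (hhom : ∀ i, (f i).IsHomogeneous (f i).totalDegree)
    (hgen : Ideal.span (Set.range f) =
      RingHom.ker (MvPolynomial.aeval fun i => Polynomial.C (φ i) * Polynomial.X))
    (M : Matrix (Fin r) (Fin n) P.O)
    (hM : ∀ i j, ((M i j : P.O) : K) =
      MvPolynomial.aeval (fun l => φ l / φ 0) (MvPolynomial.pderiv j.succ (f i))) :
    FunFld.IsNonsingularAt φ P ↔ (M.map (IsLocalRing.residue P.O)).rank = n - 1 := by
  classical
  have h0 : φ 0 ≠ 0 := hφ.ne_zero 0
  set ψ : Fin (n + 1) → K := fun i => φ i / φ 0 with hψ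
  have hψle : ∀ i, v P (ψ i) ≤ 1 := by
    intro i
    rw [hψ]; simp only
    rw [map_div₀]
    exact (div_le_one₀ (by rw [pos_iff_ne_zero]; exact (Valuation.ne_zero_iff _).2 h0)).2 (hP i)
  choose b hb using fun i => Groth.Agent.Lib.Helper26.FunFldLocal.exists_const_sub_lt hK P (hψle i)
  have hcrit := nonsing_iff_ker_line hK φ P 0 h0 hP hbir f hgen b hb
  rw [hcrit]
  -- the residue field is `k`
  have hbij := Groth.Agent.Lib.Helper26.FunFldLocal.algebraMap_residueField_bijective hK P
  let e : k ≃+* IsLocalRing.ResidueField P.O := RingEquiv.ofBijective (algebraMap k _) hbij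
  -- the entries of the reduced matrix
  let c : Fin r → Fin n → k := fun i j' => MvPolynomial.eval b (MvPolynomial.pderiv j'.succ (f i))
  set Mb := M.map (IsLocalRing.residue P.O) with hMb
  have hMc : ∀ i j', Mb i j' = e (c i j') := by
    intro i j'
    rw [hMb, Matrix.map_apply]
    have h1 : resAlg P (M i j' - algebraMap k P.O (c i j')) = 0 := by
      rw [resAlg_eq_zero_iff]
      have e1 : ((M i j' - algebraMap k P.O (c i j') : P.O) : K) =
          MvPolynomial.aeval ψ (MvPolynomial.pderiv j'.succ (f i)) - algebraMap k K (c i j') := by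
        push_cast; rw [hM i j']; rfl
      rw [e1]
      exact (lt_one_iff_le_exp _).2 (v_taylor0 P ψ b hb _)
    rw [map_sub, sub_eq_zero, AlgHom.commutes] at h1
    exact h1
  have hdd : ∀ (d : Fin (n + 1) → k), d 0 = 0 → ∀ i,
      dd b d (f i) = ∑ j' : Fin n, c i j' * d j'.succ := by
    intro d hd0 i
    unfold dd
    rw [Fin.sum_univ_succ, hd0, zero_mul, zero_add]
    exact Finset.sum_congr rfl (fun j' _ => mul_comm _ _)
  have hmulVec : ∀ (w : Fin n → IsLocalRing.ResidueField P.O) i,
      (Mb.mulVec w) i = e (∑ j' : Fin n, c i j' * e.symm (w j')) := by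
    intro w i
    rw [Matrix.mulVec, dotProduct, map_sum]
    refine Finset.sum_congr rfl (fun j' _ => ?_)
    rw [map_mul, hMc, RingEquiv.apply_symm_apply]
  -- rank-nullity
  have hrn := LinearMap.finrank_range_add_finrank_ker Mb.mulVecLin
  rw [Module.finrank_fin_fun] at hrn
  have hrank : Mb.rank = Module.finrank (IsLocalRing.ResidueField P.O)
      (LinearMap.range Mb.mulVecLin) := rfl
  have hiff : Mb.rank = n - 1 ↔
      Module.finrank (IsLocalRing.ResidueField P.O) (LinearMap.ker Mb.mulVecLin) = 1 := by
    rw [hrank]; omega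
  rw [hiff, finrank_eq_one_iff']
  constructor
  · rintro ⟨s, hs0, hs0', hsker, hsuniq⟩
    have hs'mem : (fun j' : Fin n => e (s j'.succ)) ∈ LinearMap.ker Mb.mulVecLin := by
      rw [LinearMap.mem_ker]
      funext i
      rw [Matrix.mulVecLin_apply, hmulVec]
      simp only [RingEquiv.symm_apply_apply, Pi.zero_apply]
      rw [← hdd s hs0' i, hsker i, map_zero]
    refine ⟨⟨_, hs'mem⟩, ?_, ?_⟩
    · intro h
      apply hs0
      have h1 := congrArg Subtype.val h
      funext l
      refine Fin.cases ?_ (fun j' => ?_) l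
      · exact hs0'
      · have h2 := congrFun h1 j'
        simp only [ZeroMemClass.coe_zero, Pi.zero_apply] at h2
        exact (map_eq_zero_iff e e.injective).1 h2
    · rintro ⟨w, hw⟩
      rw [LinearMap.mem_ker] at hw
      let d : Fin (n + 1) → k := Fin.cons 0 (fun j' => e.symm (w j'))
      have hd0 : d 0 = 0 := rfl
      have hdker : ∀ i, dd b d (f i) = 0 := by
        intro i
        rw [hdd d hd0 i]
        have h1 := congrFun hw i
        rw [Matrix.mulVecLin_apply, hmulVec] at h1
        simp only [Pi.zero_apply] at h1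
        have h2 := (map_eq_zero_iff e e.injective).1 h1
        rw [← h2]
        refine Finset.sum_congr rfl (fun j' _ => ?_)
        simp [d]
      obtain ⟨c₀, hc₀⟩ := hsuniq d hd0 hdker
      refine ⟨e c₀, ?_⟩
      apply Subtype.ext
      funext j'
      have h1 := congrFun hc₀ j'.succ
      simp only [d, Fin.cons_succ, Pi.smul_apply, smul_eq_mul] at h1
      simp only [SetLike.val_smul, Pi.smul_apply, smul_eq_mul]
      rw [← map_mul, ← h1, RingEquiv.apply_symm_apply]
  · rintro ⟨⟨s', hs'⟩, hs'0, hs'uniq⟩
    rw [LinearMap.mem_ker] at hs'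
    let s : Fin (n + 1) → k := Fin.cons 0 (fun j' => e.symm (s' j'))
    have hs0' : s 0 = 0 := rfl
    refine ⟨s, ?_, hs0', ?_, ?_⟩
    · intro h
      apply hs'0
      apply Subtype.ext
      funext j'
      have h1 := congrFun h j'.succ
      simp only [s, Fin.cons_succ, Pi.zero_apply] at h1
      simp only [ZeroMemClass.coe_zero, Pi.zero_apply]
      exact (map_eq_zero_iff e.symm e.symm.injective).1 h1
    · intro i
      rw [hdd s hs0' i]
      have h1 := congrFun hs' i
      rw [Matrix.mulVecLin_apply, hmulVec] at h1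
      simp only [Pi.zero_apply] at h1
      have h2 := (map_eq_zero_iff e e.injective).1 h1
      rw [← h2]
      refine Finset.sum_congr rfl (fun j' _ => ?_)
      simp [s]
    · intro d hd0 hdker
      have hwmem : (fun j' : Fin n => e (d j'.succ)) ∈ LinearMap.ker Mb.mulVecLin := by
        rw [LinearMap.mem_ker]
        funext i
        rw [Matrix.mulVecLin_apply, hmulVec]
        simp only [RingEquiv.symm_apply_apply, Pi.zero_apply]
        rw [← hdd d hd0 i, hdker i, map_zero]
      obtain ⟨c₀, hc₀⟩ := hs'uniq ⟨_, hwmem⟩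
      refine ⟨e.symm c₀, ?_⟩
      funext l
      refine Fin.cases ?_ (fun j' => ?_) l
      · rw [hd0]; simp [s]
      · have h1 := congrArg Subtype.val hc₀
        have h2 := congrFun h1 j'
        simp only [SetLike.val_smul, Pi.smul_apply, smul_eq_mul] at h2
        simp only [s, Pi.smul_apply, Fin.cons_succ, smul_eq_mul]
        rw [← map_mul, h2, RingEquiv.symm_apply_apply]

end Groth.Agent.S11071
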