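import Groth.Statements.S11072
import Mathlib
import Groth.Agent.Lib.Helper2.FunFld.Jac7

set_option autoImplicit false
open FunFld

namespace Groth.Agent.S11072
open Groth.Agent.Lib.Helper2.FF Groth.Agent.Lib.Helper2.Jac

theorem fin3_cover : ∀ j l : Fin 3, l = j ∨ l = j + 1 ∨ l = j + 2 := by decide

theorem fin3_ne1 : ∀ j : Fin 3, j + 1 ≠ j := by decide

theorem fin3_ne2 : ∀ j : Fin 3, j + 2 ≠ j := by decide

theorem fin3_ne12 : ∀ j : Fin 3, j + 1 ≠ j + 2 := by decide

theorem sum_fin3 {R : Type*} [AddCommMonoid R] (j : Fin 3) (F : Fin 3 → R) :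
    ∑ l, F l = F j + F (j + 1) + F (j + 2) := by
  fin_cases j
  · simp [Fin.sum_univ_three]
  · simp only [Fin.mk_one, Fin.isValue, Fin.sum_univ_three]
    have e1 : (1 : Fin 3) + 1 = 2 := by decide
    have e2 : (1 : Fin 3) + 2 = 0 := by decide
    rw [e1, e2]; abel
  · simp only [Fin.reduceFinMk, Fin.isValue, Fin.sum_univ_three]
    have e1 : (2 : Fin 3) + 1 = 0 := by decide
    have e2 : (2 : Fin 3) + 2 = 1 := by decide
    rw [e1, e2]; abel


/-- Over an algebraically closed constant field, a plane curve with defining irreducible homogeneous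
polynomial `f` and birational natural map `φ = (φ₀ : φ₁ : φ₂)` is singular at the point `a = φ(P)`
(coordinates `(φᵢ/φⱼ)(P)` for an entry `φⱼ` of least order at `P`, read in the residue field) if and
only if `∂f/∂Xᵢ(a) = 0` for `i = 0, 1, 2`. Here `φ` is nonsingular at `P` when its local ring there
(quotients of polynomials over `k` in the `φᵢ/φⱼ` with denominator a unit at `P`) is the whole
valuation ring. -/
theorem result (k K : Type*) [Field k] [IsAlgClosed k] [Field K] [Algebra k K]
    (hK : FunFld.IsFunctionField k K) (φ : Fin 3 → K)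
    (hφ : LinearIndependent k φ)
    (hbir : IntermediateField.adjoin k (Set.range fun i => φ i / φ 0) = ⊤)
    (f : MvPolynomial (Fin 3) k) (hf : Irreducible f) (hhom : f.IsHomogeneous f.totalDegree)
    (hfφ : MvPolynomial.aeval φ f = 0) (P : FunFld.Place k K) (j : Fin 3)
    (hj : ∀ i, P.1 (φ i) ≤ P.1 (φ j)) (a : Fin 3 → P.O) (ha : ∀ i, ((a i : P.O) : K) = φ i / φ j) :
    ¬ FunFld.IsNonsingularAt φ P ↔
      ∀ l : Fin 3, MvPolynomial.aeval (fun i => IsLocalRing.residue P.O (a i))
        (MvPolynomial.pderiv l f) = 0 := by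
  classical
  have hj0 : φ j ≠ 0 := hφ.ne_zero j
  have h00 : φ 0 ≠ 0 := hφ.ne_zero 0
  set ψ : Fin 3 → K := fun i => φ i / φ j with hψ
  have hψle : ∀ i, v P (ψ i) ≤ 1 := by
    intro i
    have : ψ i = ((a i : P.O) : K) := (ha i).symm
    rw [this]
    exact (mem_O_iff P _).1 (a i).2
  choose b hb using fun i => Groth.Agent.Lib.Helper26.FunFldLocal.exists_const_sub_lt hK P (hψle i)
  have hres : ∀ l, IsLocalRing.residue P.O (a l) =
      algebraMap k (IsLocalRing.ResidueField P.O) (b l) := by
    intro l
    have h1 : resAlg P (a l - algebraMap k P.O (b l)) = 0 := by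
      rw [resAlg_eq_zero_iff]
      have e : ((a l - algebraMap k P.O (b l) : P.O) : K) = ψ l - algebraMap k K (b l) := by
        push_cast; rw [ha l]; rfl
      rw [e]; exact hb l
    rw [map_sub, sub_eq_zero, AlgHom.commutes] at h1
    exact h1
  have hI := Ih_eq_span_of_irreducible hK φ h00 hbir f hf hhom hfφ
  have hfrac : IntermediateField.adjoin k (Set.range fun i => φ i / φ j) = ⊤ := by
    rw [eq_top_iff, ← hbir, IntermediateField.adjoin_le_iff]
    rintro _ ⟨i, rfl⟩
    have e : φ i / φ 0 = (φ i / φ j) / (φ 0 / φ j) := by field_simp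
    change φ i / φ 0 ∈ _
    rw [e]
    exact div_mem (IntermediateField.subset_adjoin _ _ ⟨i, rfl⟩)
      (IntermediateField.subset_adjoin _ _ ⟨0, rfl⟩)
  have hcrit := nonsing_iff_ker_line hK φ P j hj0 hj hfrac (fun _ : Unit => f)
    (by rw [Set.range_const, hI]) b hb
  set cc : Fin 3 → k := fun l => MvPolynomial.eval b (MvPolynomial.pderiv l f) with hcc
  have hpart : ∀ l, MvPolynomial.aeval (fun i => IsLocalRing.residue P.O (a i))
      (MvPolynomial.pderiv l f) = algebraMap k (IsLocalRing.ResidueField P.O) (cc l) := by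
    intro l
    have e : (fun l => IsLocalRing.residue P.O (a l)) =
        fun l => algebraMap k (IsLocalRing.ResidueField P.O) (b l) := funext hres
    rw [e, aeval_algebraMap_eq]
  have hgoal : (∀ l : Fin 3, MvPolynomial.aeval (fun i => IsLocalRing.residue P.O (a i))
      (MvPolynomial.pderiv l f) = 0) ↔ ∀ l, cc l = 0 := by
    refine forall_congr' (fun l => ?_)
    rw [hpart l, map_eq_zero_iff _ (algebraMap k (IsLocalRing.ResidueField P.O)).injective]
  rw [hgoal, hcrit]
  have hdd : ∀ d : Fin 3 → k, dd b d f = d j * cc j + d (j + 1) * cc (j + 1) +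
      d (j + 2) * cc (j + 2) := by
    intro d
    unfold dd
    rw [sum_fin3 j]
  -- `b j = 1`
  have hbj : b j = 1 := by
    have h1 := hb j
    rw [hψ] at h1
    simp only [div_self hj0] at h1
    by_contra hne
    have h2 : (1 : K) - algebraMap k K (b j) = algebraMap k K (1 - b j) := by
      rw [map_sub, map_one]
    rw [h2, v_algebraMap P (sub_ne_zero.2 (Ne.symm hne))] at h1
    exact lt_irrefl _ h1
  -- Euler
  have hψf : MvPolynomial.aeval ψ f = 0 := by
    have h1 := aeval_mul_of_isHomogeneous (K := K) hhom (φ j)⁻¹ φ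
    have e : ψ = fun i => (φ j)⁻¹ * φ i := by
      funext i; rw [hψ]; simp only; rw [div_eq_inv_mul]
    rw [e, h1, hfφ, mul_zero]
  have hfb : MvPolynomial.eval b f = 0 := by
    apply eval_eq_zero_of_v_lt P ψ b hb f
    rw [hψf, map_zero]; exact zero_lt_one
  have hE := hhom.sum_X_mul_pderiv
  have hE2 : cc j + b (j + 1) * cc (j + 1) + b (j + 2) * cc (j + 2) = 0 := by
    have := congrArg (MvPolynomial.eval b) hE
    rw [map_sum, map_nsmul, hfb, smul_zero, sum_fin3 j] at this
    simp only [map_mul, MvPolynomial.eval_X, hbj, one_mul] at this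
    exact this
  constructor
  · intro hnot
    by_contra hcon
    push Not at hcon
    apply hnot
    have hne : cc (j + 1) ≠ 0 ∨ cc (j + 2) ≠ 0 := by
      by_contra h
      push Not at h
      obtain ⟨l, hl⟩ := hcon
      have hj' : cc j = 0 := by rw [h.1, h.2] at hE2; simpa using hE2
      rcases fin3_cover j l with rfl | rfl | rfl
      · exact hl hj'
      · exact hl h.1
      · exact hl h.2
    let s : Fin 3 → k := fun l => if l = j + 1 then -cc (j + 2) else if l = j + 2 then cc (j + 1)
      else 0
    have hsj : s j = 0 := by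
      simp only [s]
      rw [if_neg (fin3_ne1 j).symm, if_neg (fin3_ne2 j).symm]
    have hs1 : s (j + 1) = -cc (j + 2) := by simp only [s, if_true]
    have hs2 : s (j + 2) = cc (j + 1) := by
      simp only [s, if_neg (fin3_ne12 j).symm, if_true]
    refine ⟨s, ?_, hsj, ?_, ?_⟩
    · intro h0
      rcases hne with h | h
      · apply h; rw [← hs2, h0]; rfl
      · apply h
        have : -cc (j + 2) = 0 := by rw [← hs1, h0]; rfl
        exact neg_eq_zero.1 this
    · intro _
      rw [hdd, hsj, hs1, hs2]; ring
    · intro d hdj hd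
      have hd' := hd ()
      rw [hdd, hdj] at hd'
      by_cases h1 : cc (j + 1) = 0
      · have h2 : cc (j + 2) ≠ 0 := by
          rcases hne with h | h
          · exact absurd h1 h
          · exact h
        refine ⟨-d (j + 1) / cc (j + 2), ?_⟩
        funext l
        rcases fin3_cover j l with rfl | rfl | rfl
        · simp [hdj, hsj]
        · simp only [Pi.smul_apply, smul_eq_mul, hs1]; field_simp
        · simp only [Pi.smul_apply, smul_eq_mul, hs2, h1, mul_zero]
          rw [h1] at hd'
          have : d (j + 2) * cc (j + 2) = 0 := by linear_combination hd'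
          rcases mul_eq_zero.1 this with h | h
          · exact h
          · exact absurd h h2
      · refine ⟨d (j + 2) / cc (j + 1), ?_⟩
        funext l
        rcases fin3_cover j l with rfl | rfl | rfl
        · simp [hdj, hsj]
        · simp only [Pi.smul_apply, smul_eq_mul, hs1]
          field_simp
          linear_combination hd'
        · simp only [Pi.smul_apply, smul_eq_mul, hs2]; field_simp
  · intro hall
    rintro ⟨s, hs0, hsj, -, hsuniq⟩
    have hker : ∀ d : Fin 3 → k, ∀ _ : Unit, dd b d f = 0 := by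
      intro d _
      rw [hdd, hall, hall, hall]; ring
    obtain ⟨c₁, hc₁⟩ := hsuniq (Pi.single (j + 1) 1)
      (by rw [Pi.single_eq_of_ne (fin3_ne1 j).symm]) (hker _)
    obtain ⟨c₂, hc₂⟩ := hsuniq (Pi.single (j + 2) 1)
      (by rw [Pi.single_eq_of_ne (fin3_ne2 j).symm]) (hker _)
    have h1 := congrFun hc₁ (j + 1)
    have h2 := congrFun hc₂ (j + 1)
    have h3 := congrFun hc₂ (j + 2)
    simp only [Pi.single_eq_same, Pi.smul_apply, smul_eq_mul] at h1 h3
    rw [Pi.single_eq_of_ne (fin3_ne12 j), Pi.smul_apply, smul_eq_mul] at h2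
    have hs1 : s (j + 1) ≠ 0 := by
      intro h; rw [h, mul_zero] at h1; exact one_ne_zero h1
    have hc20 : c₂ = 0 := by
      rcases mul_eq_zero.1 h2.symm with h | h
      · exact h
      · exact absurd h hs1
    rw [hc20, zero_mul] at h3
    exact one_ne_zero h3

end Groth.Agent.S11072
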