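import Groth.Statements.S11073
import Mathlib
import Groth.Agent.Lib.Helper26.PlaneModel5

set_option autoImplicit false
open FunFld

namespace Groth.Agent.S11073

open Groth.Agent.Lib.Helper26.PlaneModel5

/-- Over an algebraically closed constant field, the ideal of a projective plane curve — here the curve
with function field `K = k(x, y)`, whose ideal is the kernel of `X₀ ↦ T, X₁ ↦ xT, X₂ ↦ yT` into
`K[T]` — is principal, with an irreducible homogeneous generator. -/
theorem result
    (k K : Type*) [Field k] [IsAlgClosed k] [Field K] [Algebra k K]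
    (hK : FunFld.IsFunctionField k K) (x y : K)
    (hxy : IntermediateField.adjoin k ({x, y} : Set K) = ⊤) :
    ∃ f : MvPolynomial (Fin 3) k, Irreducible f ∧ f.IsHomogeneous f.totalDegree ∧
      RingHom.ker (MvPolynomial.aeval fun i => Polynomial.C (![(1 : K), x, y] i) * Polynomial.X) =
        Ideal.span {f} := by
  classical
  have : Infinite k := IsAlgClosed.instInfinite
  obtain ⟨G, N, hG0, hhom, -, hker⟩ := exists_ker_eq_span_homog hK x y hxy
  refine ⟨G, ?_, ?_, hker⟩
  · have hprime : (Ideal.span {G} : Ideal (MvPolynomial (Fin 3) k)).IsPrime := by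
      rw [← hker]; exact RingHom.ker_isPrime _
    exact ((Ideal.span_singleton_prime hG0).1 hprime).irreducible
  · rw [hhom.totalDegree hG0]; exact hhom

end Groth.Agent.S11073
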