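import Groth.Statements.S11074
import Mathlib
import Groth.Agent.Lib.Helper2.FunFld.Jac2

set_option autoImplicit false
open FunFld

namespace Groth.Agent.S11074
open Groth.Agent.Lib.Helper2.FF Groth.Agent.Lib.Helper2.Jac

/-- Over an algebraically closed constant field, at a nonsingular point `a = φ(P)` of a plane curve
`V(f)` with birational natural map `φ = (φ₀ : φ₁ : φ₂)`, the tangent line is `(∂f/∂X₀(a) : ∂f/∂X₁(a)
: ∂f/∂X₂(a))`: the corresponding linear form, pulled back along `φ` normalized at `P`, vanishes to
order at least `2` at `P` (the tangent line being the one line whose pullback vanishes to order `≥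
2`). Nonsingular at `P` means that the local ring of `φ` at `P` (quotients of polynomials over `k`
in the `φᵢ/φⱼ`, `φⱼ` of least order at `P`, denominator a unit at `P`) is the whole valuation ring. -/
theorem result
    (k K : Type*) [Field k] [IsAlgClosed k] [Field K] [Algebra k K]
    (hK : FunFld.IsFunctionField k K) (φ : Fin 3 → K) (hφ : LinearIndependent k φ)
    (hbir : IntermediateField.adjoin k (Set.range fun i => φ i / φ 0) = ⊤)
    (f : MvPolynomial (Fin 3) k) (hf : Irreducible f) (hhom : f.IsHomogeneous f.totalDegree)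
    (hfφ : MvPolynomial.aeval φ f = 0) (P : FunFld.Place k K) (j : Fin 3)
    (hj : ∀ i, P.1 (φ i) ≤ P.1 (φ j)) (hns : FunFld.IsNonsingularAt φ P) (a : Fin 3 → P.O)
    (ha : ∀ i, ((a i : P.O) : K) = φ i / φ j) (c : Fin 3 → k)
    (hc : ∀ i, algebraMap k (IsLocalRing.ResidueField P.O) (c i) =
      MvPolynomial.aeval (fun l => IsLocalRing.residue P.O (a l)) (MvPolynomial.pderiv i f)) :
    P.1 (∑ i, c i • (φ i / φ j)) ≤ WithZero.exp (-2) := by
  classical
  have hj0 : φ j ≠ 0 := hφ.ne_zero j
  set ψ : Fin 3 → K := fun i => φ i / φ j with hψ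
  have hψf : MvPolynomial.aeval ψ f = 0 := by
    have h1 := aeval_mul_of_isHomogeneous (K := K) hhom (φ j)⁻¹ φ
    have e : ψ = fun i => (φ j)⁻¹ * φ i := by
      funext i; rw [hψ]; simp only; rw [div_eq_inv_mul]
    rw [e, h1, hfφ, mul_zero]
  have hψle : ∀ i, v P (ψ i) ≤ 1 := by
    intro i
    have : ψ i = ((a i : P.O) : K) := (ha i).symm
    rw [this]
    exact (mem_O_iff P _).1 (a i).2
  choose b hb using fun i => Groth.Agent.Lib.Helper26.FunFldLocal.exists_const_sub_lt hK P (hψle i)
  have hres : ∀ l, IsLocalRing.residue P.O (a l) =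
      algebraMap k (IsLocalRing.ResidueField P.O) (b l) := by
    intro l
    have h1 : resAlg P (a l - algebraMap k P.O (b l)) = 0 := by
      rw [resAlg_eq_zero_iff]
      have e : ((a l - algebraMap k P.O (b l) : P.O) : K) = ψ l - algebraMap k K (b l) := by
        push_cast; rw [ha l]; rfl
      rw [e]; exact hb l
    rw [map_sub, sub_eq_zero, AlgHom.commutes] at h1
    exact h1
  have hceq : ∀ i, c i = MvPolynomial.eval b (MvPolynomial.pderiv i f) := by
    intro i
    apply (algebraMap k (IsLocalRing.ResidueField P.O)).injective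
    rw [hc i]
    have e : (fun l => IsLocalRing.residue P.O (a l)) =
        fun l => algebraMap k (IsLocalRing.ResidueField P.O) (b l) := funext hres
    rw [e, aeval_algebraMap_eq]
  have hfb : MvPolynomial.eval b f = 0 := by
    apply eval_eq_zero_of_v_lt P ψ b hb f
    rw [hψf, map_zero]; exact zero_lt_one
  have hT := v_taylor1 P ψ b hb f
  rw [hψf, hfb, map_zero, sub_zero, zero_sub, Valuation.map_neg] at hT
  have hE := hhom.sum_X_mul_pderiv
  have hE2 : ∑ l, b l * c l = 0 := by
    have := congrArg (MvPolynomial.eval b) hE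
    rw [map_sum, map_nsmul, hfb, smul_zero] at this
    rw [← this]
    refine Finset.sum_congr rfl (fun l _ => ?_)
    rw [map_mul, MvPolynomial.eval_X, hceq l]
  have e : ∑ i, c i • (φ i / φ j) =
      ∑ l, algebraMap k K (MvPolynomial.eval b (MvPolynomial.pderiv l f)) *
        (ψ l - algebraMap k K (b l)) := by
    have h1 : ∑ l, algebraMap k K (MvPolynomial.eval b (MvPolynomial.pderiv l f)) *
        (ψ l - algebraMap k K (b l)) =
        ∑ l, c l • ψ l - algebraMap k K (∑ l, b l * c l) := by
      rw [map_sum, ← Finset.sum_sub_distrib]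
      refine Finset.sum_congr rfl (fun l _ => ?_)
      rw [← hceq l, Algebra.smul_def, map_mul]; ring
    rw [h1, hE2, map_zero, sub_zero]
  rw [e]
  exact hT

end Groth.Agent.S11074
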