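import Groth.Statements.S11076
import Mathlib
import Groth.Agent.Lib.Helper26.LocRing2
import Groth.Agent.S11078

set_option autoImplicit false
open FunFld

namespace Groth.Agent.S11076

open scoped IntermediateField
open Groth.Agent.Lib.Helper2.FF
open Groth.Agent.Lib.Helper26.FunFldAlgClosed
open Groth.Agent.Lib.Helper26.LocRing
open Groth.Agent.Lib.Helper26.LocRing2

/-- Over an algebraically closed constant field, a projective curve (given by a birational projective
map `φ = (φ₀, …, φₙ)`, `n ≥ 1`) is nonsingular at the point `a = φ(P)` if and only if some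
hyperplane `∑ cᵢ Xᵢ` has intersection multiplicity `1` with it at `a`: the sum over the places `Q`
of the fibre of `a` of `[φ](Q) + ord_Q(∑ cᵢ φᵢ)` is `1`. Nonsingular at `P` means that the local
ring of `φ` at `P` (quotients of polynomials over `k` in the `φᵢ/φⱼ`, `φⱼ` of least order at `P`,
denominator a unit at `P`) is the whole valuation ring. Two places have the same image point when
some entry `φⱼ` has least order at both and each `φᵢ/φⱼ` is congruent to one constant modulo both
maximal ideals. -/
theorem result (k K : Type*) [Field k] [IsAlgClosed k] [Field K] [Algebra k K]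
    (hK : FunFld.IsFunctionField k K) {n : ℕ} (hn : 1 ≤ n)
    (φ : Fin (n + 1) → K) (hφ : LinearIndependent k φ)
    (hbir : IntermediateField.adjoin k (Set.range fun i => φ i / φ 0) = ⊤)
    (P : FunFld.Place k K) :
    FunFld.IsNonsingularAt φ P ↔ ∃ c : Fin (n + 1) → k, ∑ i, c i • φ i ≠ 0 ∧
      ∑ᶠ Q ∈ {Q : FunFld.Place k K | FunFld.SameImage φ P Q},
        ((FunFld.mapDiv k φ) Q + Q.ord (∑ i, c i • φ i)) = 1 := by
  classical
  have hφ0 : ∀ i, φ i ≠ 0 := fun i => hφ.ne_zero i
  have hPdeg : P.deg = 1 := deg_eq_one hK P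
  have hφL : ∀ i, φ i ∈ L (mapDiv k φ) := mem_L_mapDiv hK φ hφ0
  have hex : ∀ Q : FunFld.Place k K, ∃ i, v Q (φ i) = WithZero.exp (mapDiv k φ Q) :=
    exists_v_eq_mapDiv hK φ hφ0
  have hsep := isNonsingularAt_iff_sep hK φ hφ0 P
  obtain ⟨D, hD⟩ : ∃ D, D = mapDiv k φ := ⟨_, rfl⟩
  rw [← hD] at hφL hex hsep ⊢
  have hWL : Submodule.span k (Set.range φ) ≤ L D :=
    Submodule.span_le.2 (by rintro _ ⟨i, rfl⟩; exact hφL i)
  -- `P` lies in its own fibre
  have hPP : SameImage φ P P := by
    obtain ⟨j, hj⟩ := hex P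
    have hjle : ∀ i, v P (φ i) ≤ v P (φ j) := fun i => by rw [hj]; exact hφL i P
    refine ⟨j, hφ0 j, hjle, hjle, fun i => ?_⟩
    have hle : v P (φ i / φ j) ≤ 1 := by
      rw [map_div₀]; exact div_le_one_of_le₀ (hjle i) zero_le
    obtain ⟨c, hc⟩ := exists_sub_lt_one P hPdeg hle
    exact ⟨c, hc, hc⟩
  -- vanishing at the image point is the same at all places of the fibre
  have hfib : ∀ Q : FunFld.Place k K, SameImage φ P Q → ∀ w ∈ Submodule.span k (Set.range φ),
      (v P w < WithZero.exp (D P) ↔ v Q w < WithZero.exp (D Q)) := by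
    rintro Q ⟨j, hj0, hjP, hjQ, hc⟩ w hw
    choose c hcP hcQ using hc
    have hvP : v P (φ j) = WithZero.exp (D P) := by
      obtain ⟨i, hi⟩ := hex P
      exact le_antisymm (hφL j P) (by rw [← hi]; exact hjP i)
    have hvQ : v Q (φ j) = WithZero.exp (D Q) := by
      obtain ⟨i, hi⟩ := hex Q
      exact le_antisymm (hφL j Q) (by rw [← hi]; exact hjQ i)
    obtain ⟨κ, hκ1, hκ2⟩ := common_residue P Q _ c hcP hcQ (div_mem_adjoin φ j hw)
    have h1 := v_lt_one_iff_of_residue P hκ1
    have h2 := v_lt_one_iff_of_residue Q hκ2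
    rw [map_div₀, hvP, div_lt_one₀ WithZero.exp_pos] at h1
    rw [map_div₀, hvQ, div_lt_one₀ WithZero.exp_pos] at h2
    exact h1.trans h2.symm
  have hterm : ∀ (Q : FunFld.Place k K) (w : K), w ≠ 0 →
      (v Q w < WithZero.exp (D Q) ↔ 1 ≤ D Q + Q.ord w) := by
    intro Q w hw
    rw [v_eq_exp_neg_ord Q hw, WithZero.exp_lt_exp]
    constructor <;> intro h <;> omega
  have hterm0 : ∀ (Q : FunFld.Place k K) (w : K), w ≠ 0 → w ∈ L D → 0 ≤ D Q + Q.ord w := by
    intro Q w hw hwL
    have := (v_le_exp_iff Q hw _).1 (hwL Q)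
    omega
  constructor
  · intro hns
    obtain ⟨w, hw, hwP, hwP2⟩ := hsep.1 hns P
    obtain ⟨c, rfl⟩ := (Submodule.mem_span_range_iff_exists_fun k).1 hw
    have hw0 : ∑ i, c i • φ i ≠ 0 := by
      intro h; rw [h, map_zero] at hwP2; exact WithZero.exp_ne_zero hwP2.symm
    refine ⟨c, hw0, ?_⟩
    have hF : {Q : FunFld.Place k K | SameImage φ P Q} = {P} := by
      ext Q
      simp only [Set.mem_setOf_eq, Set.mem_singleton_iff]
      constructor
      · intro hQ
        by_contra hne
        have h1 := (Groth.Agent.S11078.result k K hK hn φ hφ P Q).1 hQ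
        obtain ⟨z, hzP, hzQ⟩ := exists_O_diff hK (Ne.symm hne)
        exact absurd hzQ (not_lt.2 (h1 z (hns z hzP)).1)
      · rintro rfl; exact hPP
    rw [hF, finsum_mem_singleton]
    rw [v_eq_exp_neg_ord P hw0, WithZero.exp_inj] at hwP2
    simp at hwP2
    omega
  · rintro ⟨c, hw0, hsum⟩
    set w := ∑ i, c i • φ i with hw
    have hwW : w ∈ Submodule.span k (Set.range φ) :=
      (Submodule.mem_span_range_iff_exists_fun k).2 ⟨c, rfl⟩
    have hwL : w ∈ L D := hWL hwW
    -- the term at `P` is positive
    have hP1 : v P w < WithZero.exp (D P) := by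
      by_contra hcon
      have hall : ∀ Q ∈ {Q : FunFld.Place k K | SameImage φ P Q}, D Q + Q.ord w = 0 := by
        intro Q hQ
        have h1 : ¬ v Q w < WithZero.exp (D Q) := fun h => hcon ((hfib Q hQ w hwW).2 h)
        have h2 := hterm0 Q w hw0 hwL
        have h3 := (hterm Q w hw0).not.1 h1
        omega
      rw [finsum_mem_congr rfl hall] at hsum
      simp at hsum
    have hge : ∀ Q ∈ {Q : FunFld.Place k K | SameImage φ P Q}, 1 ≤ D Q + Q.ord w := by
      intro Q hQ
      exact (hterm Q w hw0).1 ((hfib Q hQ w hwW).1 hP1)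
    have hFfin : {Q : FunFld.Place k K | SameImage φ P Q}.Finite := by
      by_contra hinf
      have : ({Q : FunFld.Place k K | SameImage φ P Q} ∩
          Function.support fun Q => D Q + Q.ord w).Infinite := by
        have e : {Q : FunFld.Place k K | SameImage φ P Q} ∩
            Function.support (fun Q => D Q + Q.ord w) =
            {Q : FunFld.Place k K | SameImage φ P Q} := by
          apply Set.inter_eq_left.2
          intro Q hQ
          have := hge Q hQ
          simp only [Function.mem_support]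
          omega
        rw [e]; exact hinf
      rw [finsum_mem_eq_zero_of_infinite this] at hsum
      exact zero_ne_one hsum
    rw [finsum_mem_eq_finite_toFinset_sum _ hFfin] at hsum
    have hcard : (hFfin.toFinset.card : ℤ) ≤ 1 := by
      have := Finset.card_nsmul_le_sum hFfin.toFinset (fun Q => D Q + Q.ord w) 1
        (fun Q hQ => hge Q (hFfin.mem_toFinset.1 hQ))
      rw [hsum] at this
      simpa using this
    have hPmem : P ∈ hFfin.toFinset := hFfin.mem_toFinset.2 hPP
    have hFeq : hFfin.toFinset = {P} := by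
      have h1 : hFfin.toFinset.card = 1 := by
        have : 0 < hFfin.toFinset.card := Finset.card_pos.2 ⟨P, hPmem⟩
        have h2 : hFfin.toFinset.card ≤ 1 := by exact_mod_cast hcard
        omega
      obtain ⟨a, ha⟩ := Finset.card_eq_one.1 h1
      rw [ha] at hPmem ⊢
      rw [Finset.mem_singleton.1 hPmem]
    rw [hFeq, Finset.sum_singleton] at hsum
    rw [hsep]
    obtain ⟨j, hj⟩ := hex P
    intro Q
    by_cases hQP : Q = P
    · subst hQP
      refine ⟨w, hwW, hP1, ?_⟩
      rw [v_eq_exp_neg_ord Q hw0]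
      congr 1
      simp
      omega
    · by_contra hcon
      push Not at hcon
      have hDQ : (D - (Finsupp.single P 1 : Divisor k K)) Q = D Q := by
        simp [Finsupp.single_eq_of_ne hQP]
      have hns' : ∀ w ∈ Submodule.span k (Set.range φ), v P w < WithZero.exp (D P) →
          v Q w < WithZero.exp (D Q) := by
        intro w hw hwP
        have h1 := hcon w hw hwP
        rw [hDQ] at h1
        exact lt_of_le_of_ne (hWL hw Q) h1
      obtain ⟨-, h2⟩ := inLocRing_le_of_not_sep P Q hPdeg φ D hφL j hj (hex Q) hns'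
      have h3 := (Groth.Agent.S11078.result k K hK hn φ hφ P Q).2 h2
      have h4 : Q ∈ hFfin.toFinset := hFfin.mem_toFinset.2 h3
      rw [hFeq, Finset.mem_singleton] at h4
      exact hQP h4

end Groth.Agent.S11076
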