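import Mathlib
import Groth.Statements.S11079
-- import your own Groth.Agent.* helpers here

set_option autoImplicit false
universe u
open CAlg

namespace Groth.Agent.S11079

/-- Let L/K be a finite Galois extension of fields, n a natural number, and B a map from the Galois
group of L over K to the invertible n × n matrices over L such that B(σ) · σ(B(τ)) = B(στ) for all
σ, τ, where σ acts on matrices entrywise and στ is the automorphism applying τ first. Then there is
an invertible matrix A over L with B(σ) = A⁻¹ · σ(A) for every σ; that is, every 1-cocycle of the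
Galois group with values in GL_n(L) is a coboundary. -/
theorem result (K L : Type u) [Field K] [Field L]
    [Algebra K L] [FiniteDimensional K L] [IsGalois K L] (n : ℕ)
    (B : (L ≃ₐ[K] L) → GL (Fin n) L)
    (hB : ∀ σ τ : L ≃ₐ[K] L,
      (B σ : Matrix (Fin n) (Fin n) L) * (B τ : Matrix (Fin n) (Fin n) L).map σ = (B (σ * τ) : Matrix (Fin n) (Fin n) L)) :
    ∃ A : GL (Fin n) L, ∀ σ : L ≃ₐ[K] L,
      (B σ : Matrix (Fin n) (Fin n) L) = ((A⁻¹ : GL (Fin n) L) : Matrix (Fin n) (Fin n) L) * (A : Matrix (Fin n) (Fin n) L).map σ := by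
  classical
  set Bm : (L ≃ₐ[K] L) → Matrix (Fin n) (Fin n) L :=
    fun σ => (B σ : Matrix (Fin n) (Fin n) L) with hBm
  set P : Matrix (Fin n) (Fin n) L → Matrix (Fin n) (Fin n) L :=
    fun C => ∑ τ : L ≃ₐ[K] L, Bm τ * C.map τ with hP
  have hmap : ∀ (σ : L ≃ₐ[K] L) (M : Matrix (Fin n) (Fin n) L),
      M.map σ = (σ : L →+* L).mapMatrix M := fun σ M => rfl
  have key : ∀ C σ, Bm σ * (P C).map σ = P C := by
    intro C σ
    have h1 : (P C).map σ = ∑ τ : L ≃ₐ[K] L, (Bm τ).map σ * C.map (σ * τ) := by
      rw [hmap, hP]
      simp only [map_sum, map_mul]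
      refine Finset.sum_congr rfl fun τ _ => ?_
      congr 1
    rw [h1, Finset.mul_sum]
    simp_rw [← Matrix.mul_assoc, hBm, hB]
    exact Fintype.sum_equiv (Equiv.mulLeft σ) _ _ (fun τ => rfl)
  obtain ⟨C, hC⟩ : ∃ C, IsUnit (P C) := by
    set b : (Fin n → L) → (Fin n → L) :=
      fun x => ∑ τ : L ≃ₐ[K] L, (Bm τ).mulVec (fun k => τ (x k)) with hb
    have hspan : Submodule.span L (Set.range b) = ⊤ := by
      by_contra hne
      obtain ⟨u, hu0, hu⟩ := Submodule.exists_dual_map_eq_bot_of_lt_top
        (lt_top_iff_ne_top.mpr hne) inferInstance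
      have hub : ∀ x, u (b x) = 0 := by
        intro x
        have : u (b x) ∈ (Submodule.span L (Set.range b)).map u :=
          Submodule.mem_map_of_mem (Submodule.subset_span ⟨x, rfl⟩)
        rw [hu] at this
        exact (Submodule.mem_bot L).mp this
      have hw : ∀ (j : Fin n) (τ : L ≃ₐ[K] L), u ((Bm τ).mulVec (Pi.single j 1)) = 0 := by
        intro j
        have hli := linearIndependent_algHom_toLinearMap K L L
        have hli' : LinearIndependent L
            (fun τ : L ≃ₐ[K] L => ((τ : L →ₐ[K] L).toLinearMap : L →ₗ[K] L)) :=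
          hli.comp _ AlgEquiv.coe_toAlgHom_injective
        rw [Fintype.linearIndependent_iff] at hli'
        apply hli' (fun τ => u ((Bm τ).mulVec (Pi.single j 1)))
        ext c
        have h2 := hub (Pi.single j c)
        rw [hb] at h2
        simp only [map_sum] at h2
        simp only [LinearMap.coe_sum, Finset.sum_apply, LinearMap.smul_apply,
          AlgHom.toLinearMap_apply, AlgEquiv.coe_toAlgHom, smul_eq_mul, LinearMap.zero_apply]
        rw [← h2]
        refine Finset.sum_congr rfl fun τ _ => ?_
        have h3 : (fun k => τ ((Pi.single j c : Fin n → L) k)) = τ c • (Pi.single j 1 : Fin n → L) := by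
          ext k
          by_cases hk : k = j
          · subst hk; simp
          · simp [Pi.single_eq_of_ne hk]
        rw [h3, Matrix.mulVec_smul, map_smul, smul_eq_mul, mul_comm]
      apply hu0
      have h4 : u ∘ₗ (Bm 1).mulVecLin = 0 := by
        apply LinearMap.pi_ext
        intro j c
        have : (Pi.single j c : Fin n → L) = c • (Pi.single j 1 : Fin n → L) := by
          ext k
          by_cases hk : k = j
          · subst hk; simp
          · simp [Pi.single_eq_of_ne hk]
        simp only [LinearMap.comp_apply, Matrix.mulVecLin_apply, LinearMap.zero_apply]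
        rw [this, Matrix.mulVec_smul, map_smul, hw, smul_zero]
      refine LinearMap.ext fun y => ?_
      have h5 : y = (Bm 1).mulVec
          ((((B 1)⁻¹ : GL (Fin n) L) : Matrix (Fin n) (Fin n) L).mulVec y) := by
        rw [Matrix.mulVec_mulVec, hBm]
        simp
      rw [h5]
      exact LinearMap.congr_fun h4 _
    obtain ⟨f, hfmem, hfspan, hfli⟩ := Submodule.exists_fun_fin_finrank_span_eq L (Set.range b)
    have hm : Module.finrank L (Submodule.span L (Set.range b)) = n := by
      rw [hspan]; simp
    revert f
    rw [hm]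
    intro f hfmem hfspan hfli
    choose x hx using hfmem
    refine ⟨Matrix.of (fun k j => x j k), ?_⟩
    rw [← Matrix.linearIndependent_cols_iff_isUnit]
    have hcol : (P (Matrix.of (fun k j => x j k))).col = f := by
      ext j i
      rw [← hx j, hb, hP]
      simp only [Matrix.col, Matrix.transpose_apply, Matrix.sum_apply, Finset.sum_apply,
        Matrix.mul_apply, Matrix.mulVec, dotProduct, Matrix.map_apply, Matrix.of_apply]
    rw [hcol]
    exact hfli
  refine ⟨(hC.unit)⁻¹, fun σ => ?_⟩
  rw [inv_inv]
  have h6 : (P C).map σ * (((hC.unit)⁻¹ : GL (Fin n) L) : Matrix (Fin n) (Fin n) L).map σ = 1 := by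
    rw [hmap, hmap, ← map_mul]
    have : P C * (((hC.unit)⁻¹ : GL (Fin n) L) : Matrix (Fin n) (Fin n) L) = 1 := by
      have := Units.mul_inv hC.unit
      simpa using this
    rw [this, map_one]
  calc (B σ : Matrix (Fin n) (Fin n) L)
      = Bm σ * ((P C).map σ * (((hC.unit)⁻¹ : GL (Fin n) L) : Matrix (Fin n) (Fin n) L).map σ) := by
        rw [h6, mul_one]
    _ = P C * (((hC.unit)⁻¹ : GL (Fin n) L) : Matrix (Fin n) (Fin n) L).map σ := by
        rw [← Matrix.mul_assoc, key]
    _ = _ := by simp

end Groth.Agent.S11079
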