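import Mathlib
import Groth.Statements.S11080
-- import your own Groth.Agent.* helpers here

set_option autoImplicit false
universe u
open CAlg

namespace Groth.Agent.S11080

/-- Valuation rings over a curve: let A be a Dedekind domain with fraction field K. A valuation subring
O of K contains A and is different from K if and only if O is the valuation ring of the v-adic
valuation of K at some nonzero prime v of A (equivalently O is the local ring of A at a maximal
ideal, a discrete valuation ring). (The published statement takes A to be the coordinate ring of a
nonsingular affine curve over an algebraically closed field, which is such a Dedekind domain; its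
proof uses only that the local rings of A at nonzero primes are discrete valuation rings and that
nonzero primes are maximal.) -/
theorem result (A K : Type u) [CommRing A]
    [IsDedekindDomain A] [Field K] [Algebra A K] [IsFractionRing A K] (O : ValuationSubring K) :
    ((algebraMap A K).range ≤ O.toSubring ∧ O ≠ ⊤) ↔
      ∃ v : IsDedekindDomain.HeightOneSpectrum A, O = (v.valuation K).valuationSubring := by
  constructor
  · rintro ⟨hA, hO⟩
    have hAO : ∀ a : A, algebraMap A K a ∈ O := fun a => hA ⟨a, rfl⟩
    set f : A →+* O := (algebraMap A K).codRestrict O hAO with hf
    set p : Ideal A := Ideal.comap f (IsLocalRing.maximalIdeal O) with hp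
    have hpprime : p.IsPrime := Ideal.comap_isPrime f _
    -- elements outside `p` have valuation one
    have hunit : ∀ a : A, a ∉ p → O.valuation (algebraMap A K a) = 1 := by
      intro a ha
      have h1 : f a ∉ IsLocalRing.maximalIdeal O := ha
      have h2 : IsUnit (f a) := by
        by_contra h
        exact h1 ((IsLocalRing.mem_maximalIdeal _).mpr h)
      exact (O.valuation_eq_one_iff (f a)).mp h2
    have hpbot : p ≠ ⊥ := by
      intro hbot
      apply hO
      rw [eq_top_iff]
      intro x _
      obtain ⟨a, b, hb, rfl⟩ := IsFractionRing.div_surjective (A := A) x
      have hb0 : b ≠ 0 := nonZeroDivisors.ne_zero hb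
      rw [← O.valuation_le_one_iff, map_div₀]
      have hbv : O.valuation (algebraMap A K b) = 1 := hunit b (by rw [hbot]; simpa using hb0)
      rw [hbv, div_one]
      exact (O.valuation_le_one_iff _).mpr (hAO a)
    let v : IsDedekindDomain.HeightOneSpectrum A := ⟨p, hpprime, hpbot⟩
    refine ⟨v, ?_⟩
    have hle : IsDedekindDomain.HeightOneSpectrum.valuationSubringAtPrime K v ≤ O := by
      intro x hx
      have hx1 : v.valuation K x ≤ 1 :=
        IsDedekindDomain.HeightOneSpectrum.valuationSubringAtPrime_le_valuation v hx
      obtain ⟨n, d, hnd⟩ := v.exists_primeCompl_mul_eq_of_integer x hx1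
      have hd : O.valuation (algebraMap A K d) = 1 := hunit d d.2
      rw [← O.valuation_le_one_iff]
      have := congrArg O.valuation hnd
      rw [map_mul, hd, mul_one] at this
      rw [this]
      exact (O.valuation_le_one_iff _).mpr (hAO n)
    have := ValuationSubring.eq_of_le_of_ne_top _ hle hO
    rw [← this]
    exact IsDedekindDomain.HeightOneSpectrum.valuationSubringAtPrime_eq_valuationSubring v
  · rintro ⟨v, rfl⟩
    refine ⟨?_, ?_⟩
    · rintro _ ⟨a, rfl⟩
      exact v.valuation_le_one a
    · simp only [ne_eq, Valuation.valuationSubring_eq_top_iff, not_not]
      infer_instance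

end Groth.Agent.S11080
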