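import Mathlib
import Groth.Statements.S11081
import Groth.Agent.Lib.Helper4.TraceDedekind
import Groth.Agent.Lib.Helper10.TracePi

set_option autoImplicit false
universe u
attribute [local instance] FractionRing.liftAlgebra
open CAlg

namespace Groth.Agent.S11081

set_option linter.deprecated false

attribute [local instance] Ideal.Quotient.field in
attribute [local instance] Ideal.Quotient.algebraQuotientOfRamificationIdxNeZero in
open Ideal UniqueFactorizationMonoid in
/-- `tr (y | B/pB) = ∑_P e_P • tr (y | B/P)`, the sum over the prime factors of `pB`. -/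
theorem trace_quotient_map_eq_sum (A B : Type u) [CommRing A] [CommRing B]
    [IsDedekindDomain B] [Algebra A B] [Module.Finite A B]
    (p : Ideal A) [p.IsMaximal] (hI : p.map (algebraMap A B) ≠ ⊥) (y : B) :
    Algebra.trace (A ⧸ p) (B ⧸ p.map (algebraMap A B)) (Ideal.Quotient.mk _ y) =
      ∑ P : (factors (p.map (algebraMap A B))).toFinset,
        ramificationIdx' p P.1 • Algebra.trace (A ⧸ p) (B ⧸ P.1) (Ideal.Quotient.mk _ y) := by
  classical
  let ψ := Factors.piQuotientLinearEquiv B p hI
  rw [Algebra.trace_apply, ← LinearMap.trace_conj' _ ψ, Groth.Agent.Lib.Helper10.trace_pi]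
  refine Finset.sum_congr rfl fun P _ => ?_
  rw [← Groth.Agent.Lib.Helper4.trace_quotient_pow_ramificationIdx A B p P y, Algebra.trace_apply]
  congr 1
  ext z
  let φ := Factors.piQuotientEquiv p hI
  have h1 : ∀ x, ψ x = φ x := fun x => rfl
  have h2 : ∀ x, ψ.symm x = φ.symm x := fun x => rfl
  simp only [LinearMap.coe_comp, Function.comp_apply, LinearEquiv.conj_apply_apply,
    LinearMap.proj_apply, Algebra.coe_lmul_eq_mul, LinearMap.mul_apply',
    h1, h2, map_mul, RingEquiv.apply_symm_apply]
  rw [Pi.mul_apply, Factors.piQuotientEquiv_mk]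
  simp

/-- Let A be a Dedekind domain, B a Dedekind domain which is a finitely generated torsion-free A-algebra
whose fraction field is separable over that of A (B is the integral closure of A in a finite
separable extension), p a nonzero prime ideal of A and y an element of B. Then the class modulo p of
the trace of y from B to A is the sum over the primes Q of B lying over p of e(Q|p) times the trace,
from B/Q to A/p, of the class of y modulo Q. -/
theorem result (A B : Type u) [CommRing A] [CommRing B]
    [IsDedekindDomain A] [IsDedekindDomain B] [Algebra A B] [Module.Finite A B] [Module.IsTorsionFree A B]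
    [Algebra.IsSeparable (FractionRing A) (FractionRing B)]
    (p : Ideal A) [p.IsMaximal] (hp : p ≠ ⊥) (y : B) :
    Ideal.Quotient.mk p (Algebra.intTrace A B y) =
      ∑ᶠ Q : p.primesOver B,
        Q.1.ramificationIdx A •
          Algebra.trace (A ⧸ p) (B ⧸ Q.1) (Ideal.Quotient.mk Q.1 y) := by
  classical
  have hI : p.map (algebraMap A B) ≠ ⊥ := Ideal.map_ne_bot_of_ne_bot hp
  rw [← Algebra.trace_quotient_eq_of_isDedekindDomain B p y, trace_quotient_map_eq_sum A B p hI y]
  have hset : ∀ Q : Ideal B, Q ∈ p.primesOver B ↔
      Q ∈ (UniqueFactorizationMonoid.factors (p.map (algebraMap A B))).toFinset := by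
    intro Q
    rw [← IsDedekindDomain.coe_primesOverFinset hp B]
    rfl
  let e : p.primesOver B ≃ (UniqueFactorizationMonoid.factors (p.map (algebraMap A B))).toFinset :=
    Equiv.subtypeEquivRight hset
  rw [← finsum_eq_sum_of_fintype, ← finsum_comp_equiv e]
  refine finsum_congr fun Q => ?_
  have h1 : Ideal.ramificationIdx' p Q.1 = Q.1.ramificationIdx A :=
    Ideal.ramificationIdx'_eq_ramificationIdx p Q.1 hp
  change Ideal.ramificationIdx' p Q.1 • _ = _
  rw [h1]
  rfl

end Groth.Agent.S11081
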