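import Groth.Statements.S11084
import Mathlib

set_option autoImplicit false
universe u
open CAlg

namespace Groth.Agent.S11084



section
open Multiplicative WithZero IsDedekindDomain HeightOneSpectrum Valuation Polynomial

theorem adic_case {k : Type u} [Field k] {Γ : Type*} [LinearOrderedCommGroupWithZero Γ]
    (v : Valuation (RatFunc k) Γ) [v.IsNontrivial] [v.IsTrivialOn k] (hle : v RatFunc.X ≤ 1) :
    v.IsEquiv ((RatFunc.valuationIdeal hle).valuation (RatFunc k)) := by
  rw [Valuation.isEquiv_iff_val_le_one]
  intro f
  rcases eq_or_ne f 0 with rfl | hf0
  · simp
  · induction f using RatFunc.induction_on with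
    | f p q hq0 =>
      have hp0 : p ≠ 0 := by
        rintro rfl
        simp at hf0
      have hπ1 := RatFunc.valuation_uniformizingPolynomial_lt_one hle
      have hπ0 : v (RatFunc.uniformizingPolynomial hle : RatFunc k) ≠ 0 := by
        simpa using RatFunc.uniformizingPolynomial_ne_zero hle
      simp only [map_div₀, valuation_of_algebraMap, intValuation_def, exp_neg, if_neg hp0,
        if_neg hq0, div_inv_eq_mul]
      rw [RatFunc.valuation_eq_valuation_uniformizingPolynomial_pow_of_valuation_X_le_one hle hp0,
        RatFunc.valuation_eq_valuation_uniformizingPolynomial_pow_of_valuation_X_le_one hle hq0]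
      generalize (Associates.mk (RatFunc.valuationIdeal hle).asIdeal).count
        (Associates.mk (Ideal.span {p})).factors = a
      generalize (Associates.mk (RatFunc.valuationIdeal hle).asIdeal).count
        (Associates.mk (Ideal.span {q})).factors = b
      have hpos : 0 < v (RatFunc.uniformizingPolynomial hle : RatFunc k) :=
        lt_of_le_of_ne zero_le' (Ne.symm hπ0)
      rw [map_pow, map_pow, div_le_one₀ (pow_pos hpos b),
        pow_le_pow_iff_right_of_lt_one₀ hpos hπ1,
        inv_mul_le_one₀ (WithZero.exp_pos), WithZero.exp_le_exp, Nat.cast_le]

end

/-- Let k be a field and O a valuation subring of the field of rational functions k(x). Then O contains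
the constants k and is different from k(x) if and only if O is the valuation ring of the P-adic
valuation at a nonzero prime P of the polynomial ring k[x], or O is the valuation ring of the
valuation at infinity (given by the degree). (The published statement has k algebraically closed, so
that these valuation rings correspond to the points of the projective line; the published proof does
not use that k is algebraically closed. The published statement also asserts that distinct points
give distinct valuation rings, which this row does not state, and counts k(x) itself among the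
valuation rings containing k; this row excludes it.) -/
theorem result (k : Type u) [Field k] [DecidableEq (RatFunc k)]
    (O : ValuationSubring (RatFunc k)) :
    ((algebraMap k (RatFunc k)).range ≤ O.toSubring ∧ O ≠ ⊤) ↔
      ((∃ v : IsDedekindDomain.HeightOneSpectrum (Polynomial k), O = (v.valuation (RatFunc k)).valuationSubring) ∨
        O = (RatFunc.inftyValuation k).valuationSubring) := by

  constructor
  · rintro ⟨hk, htop⟩
    have hmem : ∀ x, O.valuation x ≤ 1 ↔ x ∈ O := O.valuation_le_one_iff
    haveI : O.valuation.IsTrivialOn k := by
      refine ⟨fun a ha => ?_⟩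
      have h1 : algebraMap k (RatFunc k) a ∈ O := hk ⟨a, rfl⟩
      have h2 : algebraMap k (RatFunc k) a⁻¹ ∈ O := hk ⟨a⁻¹, rfl⟩
      refine le_antisymm ((hmem _).mpr h1) ?_
      have h3 := (hmem _).mpr h2
      rw [map_inv₀, map_inv₀] at h3
      have hne : O.valuation (algebraMap k (RatFunc k) a) ≠ 0 := by
        rw [Ne, map_eq_zero, map_eq_zero_iff _ (algebraMap k (RatFunc k)).injective]
        exact ha
      have hpos : 0 < O.valuation (algebraMap k (RatFunc k) a) :=
        lt_of_le_of_ne zero_le' (Ne.symm hne)
      exact (inv_le_one₀ hpos).mp h3
    haveI : O.valuation.IsNontrivial := by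
      have : ∃ x, x ∉ O := by
        by_contra hall
        push Not at hall
        exact htop (eq_top_iff.mpr (fun x _ => hall x))
      obtain ⟨x, hx⟩ := this
      have hx1 : ¬ O.valuation x ≤ 1 := fun h => hx ((hmem x).mp h)
      refine ⟨x, ?_, ?_⟩
      · intro h0
        exact hx1 (h0 ▸ zero_le')
      · intro h1
        exact hx1 (le_of_eq h1)
    by_cases hX : O.valuation RatFunc.X ≤ 1
    · left
      refine ⟨RatFunc.valuationIdeal hX, ?_⟩
      have := adic_case O.valuation hX
      rw [Valuation.isEquiv_iff_valuationSubring] at this
      rw [← this, ValuationSubring.valuationSubring_valuation]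
    · right
      have := RatFunc.valuation_isEquiv_inftyValuation_of_one_lt_valuation_X
        (v := O.valuation) (not_le.mp hX)
      rw [Valuation.isEquiv_iff_valuationSubring] at this
      rw [← this, ValuationSubring.valuationSubring_valuation]
  · rintro (⟨v, rfl⟩ | rfl)
    · constructor
      · rintro _ ⟨c, rfl⟩
        change (v.valuation (RatFunc k)) (algebraMap k (RatFunc k) c) ≤ 1
        rw [IsScalarTower.algebraMap_apply k (Polynomial k) (RatFunc k)]
        exact v.valuation_le_one _
      · intro h
        obtain ⟨π, hπ⟩ := v.valuation_exists_uniformizer (RatFunc k)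
        have h1 : π⁻¹ ∈ (v.valuation (RatFunc k)).valuationSubring := by rw [h]; trivial
        rw [Valuation.mem_valuationSubring_iff, map_inv₀, hπ, ← WithZero.exp_neg, neg_neg,
          ← WithZero.exp_zero, WithZero.exp_le_exp] at h1
        omega
    · constructor
      · rintro _ ⟨c, rfl⟩
        change (RatFunc.inftyValuation k) (algebraMap k (RatFunc k) c) ≤ 1
        by_cases hc : c = 0
        · simp [hc]
        · rw [RatFunc.algebraMap_eq_C, RatFunc.inftyValuation.C k hc]
      · intro h
        have h1 : RatFunc.X ∈ (RatFunc.inftyValuation k).valuationSubring := by rw [h]; trivial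
        rw [Valuation.mem_valuationSubring_iff, RatFunc.inftyValuation.X,
          ← WithZero.exp_zero, WithZero.exp_le_exp] at h1
        omega

end Groth.Agent.S11084
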