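import Groth.Statements.S11087
import Groth.Agent.Lib.Helper25.CompleteDVR
import Groth.Agent.Lib.Helper25.HenselFinite

set_option autoImplicit false
universe u
attribute [local instance] FractionRing.liftAlgebra
open CAlg

namespace Groth.Agent.S11087

/-- Let A be a complete discrete valuation ring and K a perfect field contained in A such that K → A →
A/m is bijective. Let B be a Dedekind domain which is a finite torsion-free A-algebra with fraction
field separable over that of A (the integral closure of A in a finite separable extension of its
fraction field). Then for every maximal ideal M of B and every b in B there is exactly one element c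
of B which is algebraic over K and congruent to b modulo M; in other words the algebraic closure of
K in B is a subfield mapping isomorphically onto B/M. -/
theorem result (K A B : Type u) [Field K]
    [PerfectField K] [CommRing A] [IsDomain A] [IsDiscreteValuationRing A]
    [IsAdicComplete (IsLocalRing.maximalIdeal A) A]
    [Algebra K A] (hK : Function.Bijective ((IsLocalRing.residue A).comp (algebraMap K A)))
    [CommRing B] [IsDedekindDomain B] [Algebra A B] [Module.Finite A B] [Module.IsTorsionFree A B]
    [Algebra.IsSeparable (FractionRing A) (FractionRing B)] [Algebra K B] [IsScalarTower K A B]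
    (M : Ideal B) [M.IsMaximal] (b : B) :
    ∃! c : B, IsAlgebraic K c ∧ b - c ∈ M := by
  classical
  have hA : HenselianLocalRing A := Groth.Agent.Lib.Helper25.henselianLocalRing_of_isAdicComplete A
  have huniq : ∀ Q : Ideal B, Q.IsMaximal → Q = M := fun Q hQ ↦
    Groth.Agent.Lib.Helper25.maximal_unique_of_finite_of_henselian (A := A) B Q M hQ inferInstance
  have hBloc : IsLocalRing B := IsLocalRing.of_unique_max_ideal ⟨M, ‹_›, fun Q hQ ↦ huniq Q hQ⟩
  have hMeq : IsLocalRing.maximalIdeal B = M := huniq _ (IsLocalRing.maximalIdeal.isMaximal B)
  have hB : HenselianLocalRing B := Groth.Agent.Lib.Helper25.henselianLocalRing_of_finite A B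
  -- an algebraic element in `M` is zero
  have hzero : ∀ d : B, IsAlgebraic K d → d ∈ M → d = 0 := by
    intro d hd hdM
    by_contra hd0
    have hint : IsIntegral K d := hd.isIntegral
    have hc : (minpoly K d).coeff 0 ≠ 0 := minpoly.coeff_zero_ne_zero hint hd0
    have hmem : algebraMap K B ((minpoly K d).coeff 0) ∈ M := by
      have h0 := minpoly.aeval K d
      rw [← Polynomial.divX_mul_X_add (minpoly K d)] at h0
      simp only [map_add, map_mul, Polynomial.aeval_X, Polynomial.aeval_C] at h0
      have : algebraMap K B ((minpoly K d).coeff 0) =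
          -(Polynomial.aeval d (minpoly K d).divX * d) := by linear_combination h0
      rw [this]
      exact M.neg_mem (M.mul_mem_left _ hdM)
    have hu : IsUnit (algebraMap K B ((minpoly K d).coeff 0)) := (IsUnit.mk0 _ hc).map _
    exact (Ideal.IsMaximal.ne_top ‹_›) (Ideal.eq_top_of_isUnit_mem _ hmem hu)
  -- existence
  have hex : ∃ c : B, IsAlgebraic K c ∧ b - c ∈ M := by
    have hfin1 : Module.Finite K (IsLocalRing.ResidueField A) :=
      Module.Finite.of_surjective (Algebra.linearMap K (IsLocalRing.ResidueField A)) hK.2
    have hfin2 : Module.Finite K (IsLocalRing.ResidueField B) :=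
      Module.Finite.trans (IsLocalRing.ResidueField A) (IsLocalRing.ResidueField B)
    set b' : IsLocalRing.ResidueField B := IsLocalRing.residue B b with hb'
    have hint : IsIntegral K b' := Algebra.IsIntegral.isIntegral b'
    set g := minpoly K b' with hg
    have hgsep : g.Separable := PerfectField.separable_of_irreducible (minpoly.irreducible hint)
    have hgmonic : g.Monic := minpoly.monic hint
    have hH : ∀ f : Polynomial B, f.Monic → ∀ a₀ : IsLocalRing.ResidueField B,
        Polynomial.aeval a₀ f = 0 → Polynomial.aeval a₀ (Polynomial.derivative f) ≠ 0 →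
        ∃ a : B, f.IsRoot a ∧ IsLocalRing.residue B a = a₀ :=
      ((HenselianLocalRing.TFAE B).out 0 1).mp hB
    obtain ⟨c, hc, hcb⟩ := hH
      (g.map (algebraMap K B)) (hgmonic.map _) b'
      (by rw [Polynomial.aeval_map_algebraMap]; exact minpoly.aeval K b')
      (by
        rw [Polynomial.derivative_map, Polynomial.aeval_map_algebraMap]
        exact hgsep.aeval_derivative_ne_zero (minpoly.aeval K b'))
    refine ⟨c, ⟨g, hgmonic.ne_zero, ?_⟩, ?_⟩
    · have := hc
      rwa [Polynomial.IsRoot, Polynomial.eval_map_algebraMap] at this
    · rw [← hMeq, ← Ideal.Quotient.eq]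
      exact hcb.symm
  obtain ⟨c, hc, hcb⟩ := hex
  refine ⟨c, ⟨hc, hcb⟩, fun c' ⟨hc', hcb'⟩ ↦ ?_⟩
  have h1 : IsAlgebraic K (c' - c) := hc'.sub hc
  have h2 : c' - c ∈ M := by
    have := M.sub_mem hcb hcb'
    simpa using this
  exact sub_eq_zero.mp (hzero _ h1 h2)

end Groth.Agent.S11087
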