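import Groth.Statements.S11088
import Groth.Agent.Lib.Helper25.CompleteDVRNorm

set_option autoImplicit false
universe u
attribute [local instance] FractionRing.liftAlgebra
open CAlg

namespace Groth.Agent.S11088

/-- Let A be a complete discrete valuation ring with maximal ideal m and B a Dedekind domain which is a
finite torsion-free A-algebra with fraction field separable over that of A (the integral closure of
A in a finite separable extension). Then for every maximal ideal M of B, with f the degree of B/M
over A/m, and every nonzero x in B, the multiplicity of m in the ideal generated by the norm of x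
equals f times the multiplicity of M in the ideal generated by x: v(N(x)) = f · w(x). -/
theorem result (A B : Type u) [CommRing A] [IsDomain A] [IsDiscreteValuationRing A]
    [IsAdicComplete (IsLocalRing.maximalIdeal A) A]
    [CommRing B] [IsDedekindDomain B] [Algebra A B] [Module.Finite A B] [Module.IsTorsionFree A B]
    [Algebra.IsSeparable (FractionRing A) (FractionRing B)]
    (M : Ideal B) [M.IsMaximal] (x : B) (hx : x ≠ 0) :
    emultiplicity (IsLocalRing.maximalIdeal A) (Ideal.span {Algebra.intNorm A B x}) =
      (M.inertiaDeg A : ℕ∞) * emultiplicity M (Ideal.span {x}) := by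
  classical
  have : HenselianLocalRing A := Groth.Agent.Lib.Helper25.henselianLocalRing_of_isAdicComplete A
  have huniq : ∀ Q : Ideal B, Q.IsMaximal → Q = M := fun Q hQ ↦
    Groth.Agent.Lib.Helper25.maximal_unique_of_finite_of_henselian (A := A) B Q M hQ inferInstance
  obtain ⟨hrel, -⟩ := Groth.Agent.Lib.Helper25.relNorm_eq_pow_inertiaDeg_of_unique A B M huniq
  have hI : Ideal.span {x} ≠ ⊥ := by simpa using hx
  obtain ⟨-, hpow⟩ := Groth.Agent.Lib.Helper25.eq_pow_card_normalizedFactors B M huniq _ hI
  set w := Multiset.card (UniqueFactorizationMonoid.normalizedFactors (Ideal.span {x})) with hw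
  have hm0 : IsLocalRing.maximalIdeal A ≠ ⊥ := IsDiscreteValuationRing.not_a_field A
  have hMm : M.LiesOver (IsLocalRing.maximalIdeal A) :=
    Groth.Agent.Lib.Helper25.liesOver_maximalIdeal A B M
  have hM0 : M ≠ ⊥ := Ideal.ne_bot_of_liesOver_of_ne_bot hm0 M
  have hmu : ¬ IsUnit (IsLocalRing.maximalIdeal A) := by
    rw [Ideal.isUnit_iff]; exact Ideal.IsPrime.ne_top'
  have hMu : ¬ IsUnit M := by
    rw [Ideal.isUnit_iff]; exact Ideal.IsPrime.ne_top'
  have h1 : Ideal.span {Algebra.intNorm A B x} =
      IsLocalRing.maximalIdeal A ^ (M.inertiaDeg A * w) := by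
    rw [← Ideal.relNorm_singleton, hpow, map_pow, hrel, ← pow_mul]
  rw [h1]
  conv_rhs => rw [hpow]
  rw [emultiplicity_pow_self hm0 hmu, emultiplicity_pow_self hM0 hMu]
  push_cast
  rfl

end Groth.Agent.S11088
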