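import Groth.Statements.S11095
import Mathlib

set_option autoImplicit false
universe u
open CAlg

namespace Groth.Agent.S11095

open Polynomial

theorem irreducible_map_of_algClosed_in {K₀ F₀ : Type*} [Field K₀] [Field F₀] [Algebra K₀ F₀]
    (h : algebraicClosure K₀ F₀ = ⊥) (g : K₀[X]) (hgm : g.Monic) (hg : Irreducible g) :
    Irreducible (g.map (algebraMap K₀ F₀)) := by
  have hlift : ∀ f : F₀[X], f.Monic → f ∣ g.map (algebraMap K₀ F₀) →
      ∃ f₀ : K₀[X], f₀.map (algebraMap K₀ F₀) = f ∧ f₀.natDegree = f.natDegree ∧ f₀.Monic := by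
    intro f hf hdvd
    apply lifts_and_natDegree_eq_and_monic _ hf
    rw [lifts_iff_coeff_lifts]
    intro n
    have hint : IsIntegral K₀ (f.coeff n) := Polynomial.isIntegral_coeff_of_dvd g f hgm hf hdvd n
    have hmem : f.coeff n ∈ algebraicClosure K₀ F₀ := by
      rw [mem_algebraicClosure_iff]
      exact hint.isAlgebraic
    rw [h] at hmem
    obtain ⟨c, hc⟩ := IntermediateField.mem_bot.mp hmem
    exact ⟨c, hc⟩
  rw [(hgm.map _).irreducible_iff_natDegree]
  rw [hgm.irreducible_iff_natDegree] at hg
  refine ⟨?_, ?_⟩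
  · intro h1
    apply hg.1
    have : g.map (algebraMap K₀ F₀) = (1 : K₀[X]).map (algebraMap K₀ F₀) := by simpa using h1
    exact Polynomial.map_injective _ (algebraMap K₀ F₀).injective this
  · intro a b ha hb hab
    obtain ⟨a₀, ha₀, hda, ha₀m⟩ := hlift a ha ⟨b, hab.symm⟩
    obtain ⟨b₀, hb₀, hdb, hb₀m⟩ := hlift b hb ⟨a, by rw [← hab, mul_comm]⟩
    have : a₀ * b₀ = g := by
      apply Polynomial.map_injective _ (algebraMap K₀ F₀).injective
      rw [Polynomial.map_mul, ha₀, hb₀, hab]
    rcases hg.2 a₀ b₀ ha₀m hb₀m this with h0 | h0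
    · left; rw [← hda, h0]
    · right; rw [← hdb, h0]

/-- Linear disjointness of a subfield `A` in which `K₀` is algebraically closed and a finite
separable subextension `L`. -/
theorem linearDisjoint_of_finite {K₀ Ω : Type*} [Field K₀] [PerfectField K₀] [Field Ω] [Algebra K₀ Ω]
    (A L : IntermediateField K₀ Ω) (hA : algebraicClosure K₀ A = ⊥) [FiniteDimensional K₀ L] :
    A.LinearDisjoint L := by
  have : Algebra.IsSeparable K₀ L := inferInstance
  let pb := Field.powerBasisOfFiniteOfSeparable K₀ L
  apply IntermediateField.LinearDisjoint.of_basis_right' pb.basis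
  set β : Ω := (pb.gen : Ω) with hβ
  have hint : IsIntegral K₀ pb.gen := Algebra.IsIntegral.isIntegral _
  have hintβ : IsIntegral K₀ β := by
    have := hint.map (IsScalarTower.toAlgHom K₀ L Ω)
    simpa using this
  have hirr := irreducible_map_of_algClosed_in hA (minpoly K₀ β) (minpoly.monic hintβ)
    (minpoly.irreducible hintβ)
  have hmin : (minpoly K₀ β).map (algebraMap K₀ A) = minpoly A β := by
    apply minpoly.eq_of_irreducible_of_monic hirr
    · rw [Polynomial.aeval_map_algebraMap, minpoly.aeval]
    · exact (minpoly.monic hintβ).map _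
  have hdim : (minpoly A β).natDegree = pb.dim := by
    rw [← hmin, Polynomial.natDegree_map]
    have : minpoly K₀ β = minpoly K₀ pb.gen := by
      rw [hβ]
      exact (minpoly.algebraMap_eq (algebraMap L Ω).injective pb.gen)
    rw [this, pb.natDegree_minpoly]
  have hli := (linearIndependent_pow (K := A) β).comp (Fin.cast hdim.symm) (Fin.cast_injective _)
  convert hli using 1
  · ext i
    simp [hβ]
  · rfl


/-- Let K₀ be a perfect field, K an algebraic extension of K₀ and F₀ a field extension of K₀ such that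
K₀ is algebraically closed in F₀. Then the K₀-algebra F₀ ⊗ K is a field; consequently F₀ and K,
embedded in it by x ↦ x ⊗ 1 and y ↦ 1 ⊗ y, are linearly disjoint over K₀. -/
theorem result (K₀ F₀ K : Type u)
    [Field K₀] [PerfectField K₀] [Field F₀] [Algebra K₀ F₀] [Field K] [Algebra K₀ K]
    [Algebra.IsAlgebraic K₀ K] (h : algebraicClosure K₀ F₀ = ⊥) :
    IsField (TensorProduct K₀ F₀ K) := by
  let Ω := AlgebraicClosure F₀
  let fa : F₀ →ₐ[K₀] Ω := IsScalarTower.toAlgHom K₀ F₀ Ω
  let fb : K →ₐ[K₀] Ω := IsAlgClosed.lift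
  have hAcl : algebraicClosure K₀ fa.fieldRange = ⊥ := by
    rw [eq_bot_iff]
    intro x hx
    rw [mem_algebraicClosure_iff] at hx
    obtain ⟨y, hy⟩ := x.2
    have hy' : (AlgEquiv.ofInjectiveField fa) y = x := Subtype.ext hy
    have hyalg : IsAlgebraic K₀ y := by
      rw [← hy'] at hx
      exact (isAlgebraic_algHom_iff (AlgEquiv.ofInjectiveField fa).toAlgHom
        (AlgEquiv.ofInjectiveField fa).injective).mp hx
    have hymem : y ∈ algebraicClosure K₀ F₀ := (mem_algebraicClosure_iff).mpr hyalg
    rw [h] at hymem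
    obtain ⟨c, hc⟩ := IntermediateField.mem_bot.mp hymem
    rw [IntermediateField.mem_bot]
    refine ⟨c, ?_⟩
    rw [← hy', ← hc]
    exact ((AlgEquiv.ofInjectiveField fa).commutes c).symm
  have hBint : Algebra.IsIntegral K₀ fb.fieldRange.toSubalgebra := by
    refine ⟨fun x => ?_⟩
    obtain ⟨y, hy⟩ := x.2
    have hy' : (AlgEquiv.ofInjectiveField fb) y = x := Subtype.ext hy
    have : IsIntegral K₀ y := Algebra.IsIntegral.isIntegral y
    have h2 := this.map (AlgEquiv.ofInjectiveField fb)
    rw [hy'] at h2
    exact h2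
  have H : fa.fieldRange.LinearDisjoint fb.fieldRange := by
    rw [IntermediateField.linearDisjoint_iff']
    apply Subalgebra.LinearDisjoint.of_linearDisjoint_finite_right
    intro B' hB' hfin
    have halg : ∀ x ∈ (B' : Set Ω), IsAlgebraic K₀ x := by
      intro x hx
      have : IsIntegral K₀ (⟨x, hx⟩ : B') := Algebra.IsIntegral.isIntegral _
      have h2 := this.map B'.val
      exact h2.isAlgebraic
    set L := IntermediateField.adjoin K₀ (B' : Set Ω) with hLdef
    have hL : L.toSubalgebra = B' := by
      rw [hLdef, IntermediateField.adjoin_toSubalgebra_of_isAlgebraic halg, Algebra.adjoin_eq]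
    have hLfin : FiniteDimensional K₀ L := by
      have e : B' ≃ₗ[K₀] L := (Subalgebra.equivOfEq _ _ hL.symm).toLinearEquiv
      exact Module.Finite.equiv e
    have := linearDisjoint_of_finite fa.fieldRange L hAcl
    rw [IntermediateField.linearDisjoint_iff', hL] at this
    exact this
  exact IntermediateField.LinearDisjoint.isField_of_isAlgebraic' H (Or.inr inferInstance)

end Groth.Agent.S11095
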