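import Groth.Statements.S1110
-- import your own Groth.Agent.* helpers here
import Groth.Agent.Lib.Helper29.Res1

set_option autoImplicit false
universe u
open CategoryTheory AlgebraicGeometry
open Perf

namespace Groth.Agent.S1110

/-- For an affine morphism f : X ⟶ Y over a quasi-compact, quasi-separated Y, the resolution property
passes from Y up to X. (The source also treats quasi-affine f.) -/
theorem result {X Y : Scheme.{u}} (f : X ⟶ Y) [IsAffineHom f] [CompactSpace ↥Y] [QuasiSeparatedSpace ↥Y]
    (hY : PerfAux.HasResolutionProperty Y) : PerfAux.HasResolutionProperty X := by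
  intro M hM hM'
  have : M.IsQuasicoherent := hM
  have : M.IsFiniteType := hM'
  have : CompactSpace X := QuasiCompact.compactSpace_of_compactSpace f
  have := Groth.Agent.Lib.Helper29.QCoh.isQuasicoherent_pushforward_of_qcqs f M
  obtain ⟨E, π, hE, hπ⟩ :=
    Groth.Agent.Lib.Helper29.QCoh.Res.exists_epi_pullback_of_hasResolutionProperty f hY M
      (fun x => by
        obtain ⟨V, hV, hxV, -⟩ :=
          AlgebraicGeometry.exists_isAffineOpen_mem_and_subset (x := f x)
            (U := (⊤ : Y.Opens)) trivial
        have hfV : IsAffineOpen (f ⁻¹ᵁ V) := hV.preimage f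
        obtain ⟨r, σ, hσ⟩ :=
          Groth.Agent.Lib.Helper29.QCoh.exists_fin_sections_span_germ_eq_top M hfV
        exact ⟨V, hV, hxV, r, σ, hσ⟩)
  exact ⟨_, π, Groth.Agent.Lib.Helper29.QCoh.isFinLocFree_pullback f hE, hπ⟩

end Groth.Agent.S1110
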