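import Groth.Statements.S11108
import Mathlib
import Groth.Agent.Lib.Helper4.SS1

set_option autoImplicit false
universe u
open CategoryTheory AlgebraicGeometry
open Neron

namespace Groth.Agent.S11108


open Groth.Agent.Lib.Helper4 in
/-- Let R be a strictly Henselian discrete valuation ring — Henselian with algebraically closed residue
field — and p : X → Spec R a smooth morphism. Then the image of the reduction map from R-valued
points of X to the special fibre is dense in the special fibre: every point of X over the closed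
point of Spec R lies in the closure of the set of points s(𝔪), s a section of p and 𝔪 the closed
point. -/
theorem result (R : Type u) [CommRing R] [IsDomain R]
    [IsDiscreteValuationRing R] [HenselianLocalRing R] [IsAlgClosed (IsLocalRing.ResidueField R)]
    {X : Scheme.{u}} (p : X ⟶ Spec (CommRingCat.of R)) [Smooth p]
    (x : X) (hx : p.base x = IsLocalRing.closedPoint R) :
    x ∈ closure {y : X | ∃ s : Spec (CommRingCat.of R) ⟶ X, s ≫ p = 𝟙 _ ∧
      s.base (IsLocalRing.closedPoint R) = y} := by
  rw [mem_closure_iff]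
  intro W hW hxW
  obtain ⟨U, hU, hxU, hUW⟩ := exists_isAffineOpen_mem_and_subset (x := x)
    (U := (⟨W, hW⟩ : X.Opens)) hxW
  let B : CommRingCat := Γ(X, U)
  let j : Spec B ⟶ X := hU.fromSpec
  obtain ⟨φ, hφ⟩ : ∃ φ : CommRingCat.of R ⟶ B, Spec.map φ = j ≫ p :=
    ⟨Spec.preimage _, Spec.map_preimage _⟩
  haveI : Smooth (Spec.map φ) := by
    rw [hφ]
    infer_instance
  have hφsm : φ.hom.Smooth := (HasRingHomProperty.Spec_iff (P := @Smooth)).mp inferInstance
  letI : Algebra R B := φ.hom.toAlgebra
  haveI : Algebra.Smooth R B := hφsm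
  have hne : (IsLocalRing.maximalIdeal R).map (algebraMap R B) ≠ ⊤ := by
    obtain ⟨y, hy⟩ : x ∈ Set.range j := by
      rw [hU.range_fromSpec]
      exact hxU
    have h1 : (Spec.map φ).base y = IsLocalRing.closedPoint R := by
      rw [hφ]
      change p.base (j.base y) = _
      rw [hy, hx]
    have h2 : y.asIdeal.comap φ.hom = IsLocalRing.maximalIdeal R :=
      congrArg PrimeSpectrum.asIdeal h1
    intro htop
    have h3 : (IsLocalRing.maximalIdeal R).map (algebraMap R B) ≤ y.asIdeal := by
      rw [Ideal.map_le_iff_le_comap, ← h2]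
      exact le_rfl
    rw [htop] at h3
    exact y.isPrime.ne_top (top_le_iff.mp h3)
  obtain ⟨τ⟩ := SS.exists_section_of_smooth R B hne
  let s : Spec (CommRingCat.of R) ⟶ X := Spec.map (CommRingCat.ofHom τ.toRingHom) ≫ j
  have hs : s ≫ p = 𝟙 _ := by
    rw [Category.assoc, ← hφ, ← Spec.map_comp]
    have : φ ≫ CommRingCat.ofHom τ.toRingHom = 𝟙 _ := by
      ext r
      exact τ.commutes r
    rw [this, Spec.map_id]
  refine ⟨s.base (IsLocalRing.closedPoint R), ?_, ⟨s, hs, rfl⟩⟩
  apply hUW
  have hmem : s.base (IsLocalRing.closedPoint R) ∈ Set.range j :=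
    ⟨(Spec.map (CommRingCat.ofHom τ.toRingHom)).base (IsLocalRing.closedPoint R), rfl⟩
  rw [hU.range_fromSpec] at hmem
  exact hmem

end Groth.Agent.S11108
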