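import Groth.Statements.S11115
import Mathlib
import Groth.Agent.Lib.Helper17.DerKInj
import Groth.Agent.S0484

set_option autoImplicit false
universe u
open CategoryTheory CategoryTheory.Limits AlgebraicGeometry
attribute [local instance] HasDerivedCategory.standard
open Perf

namespace Groth.Agent.S11115

/-- Let f : X ⟶ Y be a quasi-compact quasi-separated morphism of schemes and assume the unbounded
derived direct image Rf_* exists. If F in D(O_X) has cohomology sheaves vanishing below degree n,
then so has Rf_* F. (The published statement restricts F to complexes with quasi-coherent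
cohomology; this row allows any F.) -/
theorem result {X Y : Scheme.{u}} (f : X ⟶ Y) [QuasiCompact f] [QuasiSeparated f] [DCoh.HasRpush f]
    (F : DCoh.D X) (n : ℤ) [F.IsGE n] : ((DCoh.Rpush f).obj F).IsGE n := by
  classical
  have hG : IsGrothendieckAbelian.{u} X.Modules :=
    Groth.Agent.S0484.result (Opens.grothendieckTopology X) X.ringCatSheaf
  have hE : EnoughInjectives X.Modules := inferInstance
  obtain ⟨K, hK, ⟨e⟩⟩ := DerivedCategory.exists_iso_Q_obj_of_isGE F n
  obtain ⟨L, i, hi, hL, hLn⟩ :=
    CochainComplex.Plus.modelCategoryQuillen.exists_quasiIso_injective K n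
  have : L.IsKInjective := CochainComplex.isKInjective_of_injective L n
  have hres : Groth.Agent.Lib.Helper17.DerKInj.HasKInjRes X.Modules :=
    Groth.Agent.Lib.Helper17.DerKInj.hasKInjRes_of_isGrothendieckAbelian
  let α := (DCoh.pushKh f).totalRightDerivedUnit DerivedCategory.Qh
    (HomotopyCategory.quasiIso X.Modules (ComplexShape.up ℤ))
  have hiso : IsIso (α.app ((HomotopyCategory.quotient _ _).obj L)) :=
    Groth.Agent.Lib.Helper17.DerAbs.isIso_app
      (Groth.Agent.Lib.Helper17.DerKInj.enoughLocal_Qh hres)
      (Groth.Agent.Lib.Helper17.DerKInj.compat_Qh _) (DCoh.Rpush f) α ⟨L, inferInstance, rfl⟩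
      (Groth.Agent.Lib.Helper17.DerKInj.isLocalObj_Qh L)
  have : IsIso (DerivedCategory.Q.map i) := by
    rw [DerivedCategory.isIso_Q_map_iff_quasiIso]
    exact hi
  let e1 : F ≅ DerivedCategory.Q.obj L := e ≪≫ asIso (DerivedCategory.Q.map i)
  let e2 : (DCoh.Rpush f).obj F ≅
      DerivedCategory.Q.obj (((Scheme.Modules.pushforward f).mapHomologicalComplex
        (ComplexShape.up ℤ)).obj L) :=
    (DCoh.Rpush f).mapIso e1 ≪≫ (asIso (α.app ((HomotopyCategory.quotient _ _).obj L))).symm
  have : CochainComplex.IsStrictlyGE (((Scheme.Modules.pushforward f).mapHomologicalComplex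
        (ComplexShape.up ℤ)).obj L) n := by
    rw [CochainComplex.isStrictlyGE_iff]
    intro j hj
    exact ((Scheme.Modules.pushforward f)).map_isZero (L.isZero_of_isStrictlyGE n j hj)
  exact DerivedCategory.TStructure.t.isGE_of_iso e2.symm n

end Groth.Agent.S11115
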