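import Groth.Statements.S1113
import Mathlib.Algebra.Homology.DerivedCategory.TStructure
-- import your own Groth.Agent.* helpers here

set_option autoImplicit false
universe w v u
open CategoryTheory CategoryTheory.Limits
open CohDer

namespace Groth.Agent.S1113


open HomologicalComplex DerivedCategory

/-- A chain map between complexes concentrated in a single degree `m` which is zero on `H^m`
is zero. -/
lemma eq_zero_of_homologyMap_eq_zero {A : Type u} [Category.{v} A] [Abelian A]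
    {M M' : CochainComplex A ℤ} (m : ℤ)
    [M.IsStrictlyGE m] [M.IsStrictlyLE m] [M'.IsStrictlyGE m] [M'.IsStrictlyLE m]
    (g : M ⟶ M') (hg : HomologicalComplex.homologyMap g m = 0) : g = 0 := by
  ext i
  by_cases hi : i = m
  · subst hi
    have h1 : M.d i (i + 1) = 0 := (M.isZero_of_isStrictlyLE i (i + 1) (by simp)).eq_of_tgt _ _
    have h1' : M'.d i (i + 1) = 0 := (M'.isZero_of_isStrictlyLE i (i + 1) (by simp)).eq_of_tgt _ _
    have h2' : M'.d (i - 1) i = 0 := (M'.isZero_of_isStrictlyGE i (i - 1) (by simp)).eq_of_src _ _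
    have : IsIso (M.iCycles i) := M.isIso_iCycles i (i + 1) (by simp) h1
    have : IsIso (M'.homologyπ i) := M'.isIso_homologyπ (i - 1) i (by simp) h2'
    have e1 : HomologicalComplex.cyclesMap g i ≫ M'.homologyπ i = 0 := by
      rw [← HomologicalComplex.homologyπ_naturality, hg, comp_zero]
    have e2 : HomologicalComplex.cyclesMap g i = 0 := by
      rw [← cancel_mono (M'.homologyπ i), e1, zero_comp]
    rw [← cancel_epi (M.iCycles i), ← HomologicalComplex.cyclesMap_i, e2, zero_comp]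
    simp
  · rcases lt_or_gt_of_ne hi with h | h
    · exact (M.isZero_of_isStrictlyGE m i h).eq_of_src _ _
    · exact (M.isZero_of_isStrictlyLE m i h).eq_of_src _ _

lemma fac_aux {D : Type*} [Category D] {X X3 T Y : D} (π : X ⟶ T) (sg : X ⟶ X3) (c : X3 ⟶ T)
    [IsIso c] (e : π = sg ≫ c) (ψ : X ⟶ Y) (g : X3 ⟶ Y) (hg : ψ = sg ≫ g) :
    π ≫ inv c ≫ g = ψ := by
  subst e hg
  simp

lemma exists_fac_of_ιTruncLE_comp_eq_zero {A : Type u} [Category.{v} A] [Abelian A]
    [HasDerivedCategory.{w} A] (L : CochainComplex A ℤ) (m m' : ℤ) (h : m + 1 = m')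
    {Y : DerivedCategory A} (ψ : Q.obj L ⟶ Y) (hψ : Q.map (L.ιTruncLE m) ≫ ψ = 0) :
    ∃ ψ' : Q.obj (L.truncGE m') ⟶ Y, Q.map (L.πTruncGE m') ≫ ψ' = ψ := by
  have hS := L.shortComplexTruncLE_shortExact m
  obtain ⟨g, hg⟩ := Pretriangulated.Triangle.yoneda_exact₂ _ (triangleOfSES_distinguished hS) ψ hψ
  have hg' : ψ = Q.map ((L.shortComplexTruncLE m).g) ≫ g := hg
  have e : Q.map (L.πTruncGE m') = Q.map ((L.shortComplexTruncLE m).g) ≫
      Q.map (L.shortComplexTruncLEX₃ToTruncGE m m' h) := by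
    rw [← L.g_shortComplexTruncLEX₃ToTruncGE m m' h]
    exact Q.map_comp _ _
  refine ⟨inv (Q.map (L.shortComplexTruncLEX₃ToTruncGE m m' h)) ≫ g, ?_⟩
  exact fac_aux _ _ _ e ψ g hg'

/-- Let K : ℕᵒᵖ ⥤ CochainComplex A ℤ be a sequence of cochain maps … → K₂ → K₁ → K₀ in an abelian
category with Hⁱ(K₀) = 0 for i < 0 and such that for every j < n the map Hʲ(Kⱼ₊₁) → Hʲ(Kⱼ) is zero.
Then in the derived category the composite Kₙ → K₀ factors through the canonical truncation Kₙ →
τ_{≥ n}Kₙ. -/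
theorem result {A : Type u} [Category.{v} A] [Abelian A] [HasDerivedCategory.{w} A]
    (K : ℕᵒᵖ ⥤ CochainComplex A ℤ) (n : ℕ)
    (h0 : ∀ i : ℤ, i < 0 → IsZero ((K.obj (Opposite.op 0)).homology i))
    (hz : ∀ j : ℕ, j < n → HomologicalComplex.homologyMap (K.map (homOfLE (Nat.le_succ j)).op) (j : ℤ) = 0) :
    ∃ φ : DerivedCategory.Q.obj ((K.obj (Opposite.op n)).truncGE (n : ℤ)) ⟶ DerivedCategory.Q.obj (K.obj (Opposite.op 0)),
      DerivedCategory.Q.map ((K.obj (Opposite.op n)).πTruncGE (n : ℤ)) ≫ φ = DerivedCategory.Q.map (K.map (homOfLE (Nat.zero_le n)).op) := by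
  let t : ∀ m : ℕ, K.obj (Opposite.op m) ⟶ K.obj (Opposite.op 0) :=
    fun m => K.map (homOfLE (Nat.zero_le m)).op
  let f : ∀ m : ℕ, K.obj (Opposite.op (m + 1)) ⟶ K.obj (Opposite.op m) :=
    fun m => K.map (homOfLE (Nat.le_succ m)).op
  have ht : ∀ m, t (m + 1) = f m ≫ t m := by
    intro m
    simp only [t, f]
    rw [← K.map_comp]
    rfl
  suffices ∀ m : ℕ, m ≤ n → ∃ φ : Q.obj ((K.obj (Opposite.op m)).truncGE (m : ℤ)) ⟶
      Q.obj (K.obj (Opposite.op 0)),
      Q.map ((K.obj (Opposite.op m)).πTruncGE (m : ℤ)) ≫ φ = Q.map (t m) from this n le_rfl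
  intro m hm
  induction m with
  | zero =>
    have h1 : (K.obj (Opposite.op 0)).IsGE ((0 : ℕ) : ℤ) := by
      rw [CochainComplex.isGE_iff]
      intro i hi
      rw [HomologicalComplex.exactAt_iff_isZero_homology]
      exact h0 i (by simpa using hi)
    have h2 : QuasiIso ((K.obj (Opposite.op 0)).πTruncGE ((0 : ℕ) : ℤ)) :=
      (CochainComplex.quasiIso_πTruncGE_iff _ _).mpr h1
    have h3 : IsIso (Q.map ((K.obj (Opposite.op 0)).πTruncGE ((0 : ℕ) : ℤ))) := by
      rw [isIso_Q_map_iff_quasiIso]; exact h2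
    refine ⟨inv (Q.map ((K.obj (Opposite.op 0)).πTruncGE ((0 : ℕ) : ℤ))), ?_⟩
    rw [IsIso.hom_inv_id]
    have : t 0 = 𝟙 _ := by
      simp only [t]
      exact K.map_id _
    rw [this, Q.map_id]
  | succ m ih =>
    obtain ⟨φ, hφ⟩ := ih (by omega)
    have hzm := hz m (by omega)
    let g := CochainComplex.truncGEMap (f m) (m : ℤ)
    let ψ : Q.obj ((K.obj (Opposite.op (m + 1))).truncGE (m : ℤ)) ⟶ Q.obj (K.obj (Opposite.op 0)) :=
      Q.map g ≫ φ
    have hψ1 : Q.map ((K.obj (Opposite.op (m + 1))).πTruncGE (m : ℤ)) ≫ ψ = Q.map (t (m + 1)) := by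
      simp only [ψ, g]
      rw [← Category.assoc, ← Q.map_comp, CochainComplex.πTruncGE_naturality, Q.map_comp,
        Category.assoc, hφ, ← Q.map_comp, ← ht]
    have hg : HomologicalComplex.homologyMap g (m : ℤ) = 0 := by
      have e := congrArg (fun x => HomologicalComplex.homologyMap x (m : ℤ))
        (CochainComplex.πTruncGE_naturality (f m) (m : ℤ))
      simp only [HomologicalComplex.homologyMap_comp] at e
      rw [← cancel_epi (HomologicalComplex.homologyMap
        ((K.obj (Opposite.op (m + 1))).πTruncGE (m : ℤ)) (m : ℤ))]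
      rw [comp_zero]
      simp only [g]
      rw [e]
      simp only [f]
      rw [hzm, zero_comp]
    have hz' : CochainComplex.truncLEMap g (m : ℤ) = 0 := by
      apply eq_zero_of_homologyMap_eq_zero (m := (m : ℤ))
      have e := congrArg (fun x => HomologicalComplex.homologyMap x (m : ℤ))
        (CochainComplex.ιTruncLE_naturality g (m : ℤ))
      simp only [HomologicalComplex.homologyMap_comp] at e
      rw [← cancel_mono (HomologicalComplex.homologyMap
        (((K.obj (Opposite.op m)).truncGE (m : ℤ)).ιTruncLE (m : ℤ)) (m : ℤ))]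
      rw [zero_comp, e, hg, comp_zero]
    have hψ2 : Q.map (((K.obj (Opposite.op (m + 1))).truncGE (m : ℤ)).ιTruncLE (m : ℤ)) ≫ ψ = 0 := by
      simp only [ψ]
      rw [← Category.assoc, ← Q.map_comp, ← CochainComplex.ιTruncLE_naturality, hz', zero_comp,
        Q.map_zero, zero_comp]
    obtain ⟨ψ', hψ'⟩ := exists_fac_of_ιTruncLE_comp_eq_zero
      ((K.obj (Opposite.op (m + 1))).truncGE (m : ℤ)) (m : ℤ) ((m + 1 : ℕ) : ℤ)
      (by push_cast; rfl) ψ hψ2
    refine ⟨Q.map (CochainComplex.truncGEMap ((K.obj (Opposite.op (m + 1))).πTruncGE (m : ℤ))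
      ((m + 1 : ℕ) : ℤ)) ≫ ψ', ?_⟩
    rw [← Category.assoc, ← Q.map_comp, CochainComplex.πTruncGE_naturality, Q.map_comp,
      Category.assoc, hψ', hψ1]

end Groth.Agent.S1113
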