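import Groth.Statements.S11134
import Mathlib
import Groth.Agent.Lib.Helper28.KFlatSite2

set_option autoImplicit false
universe u
open CategoryTheory
open ModSite

namespace Groth.Agent.S11134

/-- On a small ringed site (C, J, O) with commutative O, for every object x of C the module O_x =
j_{x!}(O restricted to C/x), placed in degree 0 as a cochain complex, is K-flat. -/
theorem result {C : Type u} [SmallCategory C] {J : GrothendieckTopology C}
    (O : Sheaf J CommRingCat.{u}) (x : C) :
    ModSite.IsKFlat ((CochainComplex.singleFunctor (ModSite.Mod O) 0).obj (ModSite.freeOn O x)) := by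
  exact Groth.Agent.Lib.Helper28.KFlatSite.isKFlat_single (ModSite.freeOn O x)
    (Groth.Agent.Lib.Helper17.ProjFormula.isFlat_freeOn (O := O) x) 0

end Groth.Agent.S11134
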