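import Groth.Statements.S11135
import Mathlib.RingTheory.IntegralClosure.IntegrallyClosed
import Mathlib.RingTheory.Localization.FractionRing
import Mathlib.Algebra.GroupWithZero.NonZeroDivisors

set_option autoImplicit false
universe u
open InvTh

namespace Groth.Agent.S11135


section Aux

variable {ι : Type u} [Fintype ι] (D : ι → Type u) [∀ i, CommRing (D i)] [∀ i, IsDomain (D i)]
  {R : Type u} [CommRing R] (F : Set ((Π i, D i) →+* R))
  (hF : ∀ f ∈ F, ∀ s ∈ nonZeroDivisors (Π i, D i), f s ∈ nonZeroDivisors R)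
  (A : Subring (Π i, D i)) (hA : ∀ a, a ∈ A ↔ ∀ f ∈ F, ∀ f' ∈ F, f a = f' a)

open Classical in
/-- The support idempotent of an element of the product. -/
noncomputable def supp (a : Π i, D i) : Π i, D i := fun i => if a i = 0 then 0 else 1

variable {D}

omit [Fintype ι] in
theorem mem_nonZeroDivisors_of_forall_ne_zero (ν : Π i, D i) (h : ∀ i, ν i ≠ 0) :
    ν ∈ nonZeroDivisors (Π i, D i) := by
  rw [mem_nonZeroDivisors_iff_right]
  intro x hx
  funext i
  have := congrFun hx i
  simp only [Pi.mul_apply, Pi.zero_apply] at this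
  exact (mul_eq_zero.mp this).resolve_right (h i)

omit [Fintype ι] [∀ i, IsDomain (D i)] in
theorem supp_mul_self (a : Π i, D i) : a * supp D a = a := by
  funext i
  simp only [supp, Pi.mul_apply]
  split_ifs with h
  · rw [h, mul_zero]
  · rw [mul_one]

omit [Fintype ι] [∀ i, IsDomain (D i)] in
theorem supp_idem (a : Π i, D i) : supp D a * supp D a = supp D a := by
  funext i
  simp only [supp, Pi.mul_apply]
  split_ifs <;> simp

omit [Fintype ι] in
theorem add_one_sub_supp_mem (a : Π i, D i) :
    a + 1 - supp D a ∈ nonZeroDivisors (Π i, D i) := by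
  apply mem_nonZeroDivisors_of_forall_ne_zero
  intro i
  simp only [supp, Pi.add_apply, Pi.sub_apply, Pi.one_apply]
  split_ifs with h
  · rw [h]; simp
  · simpa using h

include hF in
omit [Fintype ι] in
theorem supp_aux {f f' : (Π i, D i) →+* R} (hf : f ∈ F) (a : Π i, D i)
    (hfa : f a = f' a) : f (supp D a) * (1 - f' (supp D a)) = 0 := by
  have h1 : f (a + 1 - supp D a) ∈ nonZeroDivisors R := hF f hf _ (add_one_sub_supp_mem a)
  rw [← mul_right_mem_nonZeroDivisors_eq_zero_iff h1]
  have e1 : f a * f (supp D a) = f a := by rw [← map_mul, supp_mul_self]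
  have e2 : f a * f' (supp D a) = f a := by rw [hfa, ← map_mul, supp_mul_self]
  have e3 : f (supp D a) * f (supp D a) = f (supp D a) := by rw [← map_mul, supp_idem]
  rw [map_sub, map_add, map_one]
  linear_combination (1 - f' (supp D a)) * e1 - e2 - (1 - f' (supp D a)) * e3

include hF hA in
omit [Fintype ι] in
theorem supp_mem {a : Π i, D i} (ha : a ∈ A) : supp D a ∈ A := by
  rw [hA]
  intro f hf f' hf'
  have hfa : f a = f' a := (hA a).mp ha f hf f' hf'
  have h1 := supp_aux F hF hf a hfa
  have h2 := supp_aux F hF hf' a hfa.symm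
  linear_combination h1 - h2

/-- `i ~ j` iff every element of `A` vanishes at `i` exactly when it vanishes at `j`. -/
def rel : Setoid ι where
  r i j := ∀ a ∈ A, (a i = 0 ↔ a j = 0)
  iseqv := ⟨fun _ _ _ => Iff.rfl, fun h a ha => (h a ha).symm,
    fun h1 h2 a ha => (h1 a ha).trans (h2 a ha)⟩

open Classical in
/-- The indicator of an equivalence class. -/
noncomputable def ind (c : Quotient (rel A)) : Π i, D i :=
  fun i => if Quotient.mk (rel A) i = c then 1 else 0

include hF hA in
theorem ind_mem (c : Quotient (rel A)) : ind A c ∈ A := by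
  classical
  obtain ⟨i₀, rfl⟩ := Quotient.exists_rep c
  have hex : ∀ j : ι, ∃ g ∈ A, g i₀ ≠ 0 ∧ (¬ (rel A).r i₀ j → g j = 0) := by
    intro j
    by_cases h : (rel A).r i₀ j
    · exact ⟨1, A.one_mem, one_ne_zero, fun h' => absurd h h'⟩
    · have h' : ∃ a ∈ A, ¬ (a i₀ = 0 ↔ a j = 0) := by
        by_contra hcon
        push Not at hcon
        exact h hcon
      obtain ⟨a, haA, ha⟩ := h'
      by_cases h0 : a i₀ = 0
      · have hj : a j ≠ 0 := fun hj => ha ⟨fun _ => hj, fun _ => h0⟩
        refine ⟨1 - supp D a, A.sub_mem A.one_mem (supp_mem F hF A hA haA), ?_, fun _ => ?_⟩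
        · simp [supp, h0]
        · simp [supp, hj]
      · have hj : a j = 0 := by
          by_contra hj
          exact ha ⟨fun h1 => absurd h1 h0, fun h1 => absurd h1 hj⟩
        exact ⟨a, haA, h0, fun _ => hj⟩
  choose g hgA hg0 hgj using hex
  have hεA : (∏ j, g j) ∈ A := Subring.prod_mem A (fun j _ => hgA j)
  have hε0 : (∏ j, g j) i₀ ≠ 0 := by
    rw [Finset.prod_apply]
    exact Finset.prod_ne_zero_iff.mpr (fun j _ => hg0 j)
  have hεj : ∀ j, ¬ (rel A).r i₀ j → (∏ j, g j) j = 0 := by
    intro j hj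
    rw [Finset.prod_apply]
    exact Finset.prod_eq_zero (Finset.mem_univ j) (hgj j hj)
  have hsupp : supp D (∏ j, g j) = ind A (Quotient.mk (rel A) i₀) := by
    funext j
    simp only [supp, ind]
    by_cases hj : (rel A).r i₀ j
    · have h1 : (∏ j, g j) j ≠ 0 := fun h => hε0 ((hj _ hεA).mpr h)
      have h2 : Quotient.mk (rel A) j = Quotient.mk (rel A) i₀ := Quotient.sound ((rel A).symm hj)
      rw [if_neg h1, if_pos h2]
    · have h2 : ¬ Quotient.mk (rel A) j = Quotient.mk (rel A) i₀ := fun h =>
        hj ((rel A).symm (Quotient.exact h))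
      rw [if_pos (hεj j hj), if_neg h2]
  rw [← hsupp]
  exact supp_mem F hF A hA hεA

/-- Restriction of elements of `A` to an equivalence class. -/
def ρ (c : Quotient (rel A)) :
    A →+* Π i : {i : ι // Quotient.mk (rel A) i = c}, D i.1 :=
  (RingHom.pi (fun i => Pi.evalRingHom D i.1)).comp A.subtype

omit [Fintype ι] [∀ i, IsDomain (D i)] in
theorem ρ_apply (c : Quotient (rel A)) (a : A) (i : {i : ι // Quotient.mk (rel A) i = c}) :
    ρ A c a i = (a : Π i, D i) i.1 := rfl

/-- The factor rings. -/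
abbrev E (c : Quotient (rel A)) : Type u := (ρ A c).range

omit [Fintype ι] [∀ i, IsDomain (D i)] in
theorem eq_zero_iff_of_class {c : Quotient (rel A)} (a : A)
    (i j : {i : ι // Quotient.mk (rel A) i = c}) :
    (a : Π i, D i) i.1 = 0 ↔ (a : Π i, D i) j.1 = 0 :=
  (Quotient.exact (i.2.trans j.2.symm) : (rel A).r i.1 j.1) a a.2

omit [Fintype ι] [∀ i, IsDomain (D i)] in
theorem E_eq_zero_iff {c : Quotient (rel A)} (x : E A c)
    (i : {i : ι // Quotient.mk (rel A) i = c}) : x = 0 ↔ x.1 i = 0 := by
  constructor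
  · intro h; rw [h]; rfl
  · intro h
    obtain ⟨a, ha⟩ := x.2
    apply Subtype.ext
    funext j
    have h1 : (a : Π i, D i) i.1 = 0 := by rw [← ρ_apply, ha]; exact h
    have h2 := (eq_zero_iff_of_class A a i j).mp h1
    rw [← ha, ρ_apply]; exact h2

instance instIsDomainE (c : Quotient (rel A)) : IsDomain (E A c) := by
  obtain ⟨i₀, hi₀⟩ := Quotient.exists_rep c
  let i : {i : ι // Quotient.mk (rel A) i = c} := ⟨i₀, hi₀⟩
  have hnt : Nontrivial (E A c) := by
    refine ⟨⟨1, 0, ?_⟩⟩
    rw [Ne, E_eq_zero_iff A 1 i]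
    show ¬ ((1 : D i.1) = 0)
    exact one_ne_zero
  have hnzd : NoZeroDivisors (E A c) := by
    refine ⟨fun {x y} hxy => ?_⟩
    rw [E_eq_zero_iff A x i, E_eq_zero_iff A y i]
    have h := (E_eq_zero_iff A (x * y) i).mp hxy
    exact mul_eq_zero.mp h
  exact NoZeroDivisors.to_isDomain _

/-- The comparison map. -/
def Φ : A →+* Π c : Quotient (rel A), E A c :=
  RingHom.pi (fun c => (ρ A c).rangeRestrict)

omit [Fintype ι] [∀ i, IsDomain (D i)] in
theorem Φ_injective : Function.Injective (Φ A) := by
  rw [injective_iff_map_eq_zero]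
  intro a ha
  apply Subtype.ext
  funext i
  have h1 := congrFun ha (Quotient.mk (rel A) i)
  have h2 := congrArg (fun x : E A (Quotient.mk (rel A) i) => x.1 ⟨i, rfl⟩) h1
  exact h2

include hF hA in
theorem Φ_surjective : Function.Surjective (Φ A) := by
  classical
  intro y
  have hex : ∀ c, ∃ a : A, ρ A c a = (y c).1 := fun c => (y c).2
  choose a ha using hex
  refine ⟨∑ c, ⟨ind A c, ind_mem F hF A hA c⟩ * a c, ?_⟩
  funext c'
  apply Subtype.ext
  funext i
  show (((∑ c, (⟨ind A c, ind_mem F hF A hA c⟩ : A) * a c : A) : Π i, D i)) i.1 = (y c').1 i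
  rw [← ha c', ρ_apply]
  have h1 : ((∑ c, (⟨ind A c, ind_mem F hF A hA c⟩ : A) * a c : A) : Π i, D i) =
      ∑ c, ind A c * (a c : Π i, D i) := by
    rw [← Subring.coe_subtype, map_sum]
    simp
  rw [h1, Finset.sum_apply, Finset.sum_eq_single c']
  · simp [ind, i.2]
  · intro c _ hc
    have : ¬ Quotient.mk (rel A) i.1 = c := fun h => hc (h.symm.trans i.2)
    simp [ind, this]
  · intro h; exact absurd (Finset.mem_univ c') h

include hF hA in
theorem isIntegrallyClosed_E [∀ i, IsIntegrallyClosed (D i)] (c : Quotient (rel A)) :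
    IsIntegrallyClosed (E A c) := by
  classical
  rw [isIntegrallyClosed_iff (FractionRing (E A c))]
  intro x hx
  obtain ⟨a, b, hb, rfl⟩ := IsFractionRing.div_surjective (A := E A c) x
  have hb0 : b ≠ 0 := nonZeroDivisors.ne_zero hb
  have hcomp : ∀ i : {i : ι // Quotient.mk (rel A) i = c}, ∃ s : D i.1, b.1 i * s = a.1 i := by
    intro i
    let ev : E A c →+* D i.1 :=
      (Pi.evalRingHom (fun j : {i : ι // Quotient.mk (rel A) i = c} => D j.1) i).comp
        (Subring.subtype _)
    have hevinj : Function.Injective ev := by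
      rw [injective_iff_map_eq_zero]
      intro x hx
      exact (E_eq_zero_iff A x i).mpr hx
    let g : E A c →+* FractionRing (D i.1) :=
      (algebraMap (D i.1) (FractionRing (D i.1))).comp ev
    have hg : Function.Injective g :=
      (IsFractionRing.injective (D i.1) (FractionRing (D i.1))).comp hevinj
    let gl : FractionRing (E A c) →+* FractionRing (D i.1) := IsFractionRing.lift hg
    have hgl : ∀ e, gl (algebraMap (E A c) (FractionRing (E A c)) e) = g e :=
      IsFractionRing.lift_algebraMap hg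
    have hint : IsIntegral (D i.1) (gl (algebraMap (E A c) (FractionRing (E A c)) a /
        algebraMap (E A c) (FractionRing (E A c)) b)) := by
      obtain ⟨p, hpm, hp⟩ := hx
      refine ⟨p.map ev, hpm.map ev, ?_⟩
      rw [Polynomial.eval₂_map]
      have h1 : (algebraMap (D i.1) (FractionRing (D i.1))).comp ev =
          gl.comp (algebraMap (E A c) (FractionRing (E A c))) := by
        ext e
        exact (hgl e).symm
      rw [h1, ← Polynomial.hom_eval₂, hp, map_zero]
    obtain ⟨s, hs⟩ := IsIntegrallyClosed.algebraMap_eq_of_integral hint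
    refine ⟨s, ?_⟩
    apply IsFractionRing.injective (D i.1) (FractionRing (D i.1))
    have hgb : g b ≠ 0 := fun h => hb0 (hg (h.trans (map_zero g).symm))
    rw [map_mul, hs, map_div₀, hgl, hgl]
    show g b * (g a / g b) = g a
    field_simp
  choose s hs using hcomp
  obtain ⟨a', ha'⟩ := a.2
  obtain ⟨b', hb'⟩ := b.2
  let st : Π i, D i := fun i => if h : Quotient.mk (rel A) i = c then s ⟨i, h⟩ else 0
  have hεA : ind A c ∈ A := ind_mem F hF A hA c
  have hνmem : (b' : Π i, D i) * ind A c + (1 - ind A c) ∈ nonZeroDivisors (Π i, D i) := by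
    apply mem_nonZeroDivisors_of_forall_ne_zero
    intro i
    simp only [ind, Pi.add_apply, Pi.mul_apply, Pi.sub_apply, Pi.one_apply]
    by_cases h : Quotient.mk (rel A) i = c
    · rw [if_pos h, mul_one, sub_self, add_zero]
      have h1 : b.1 ⟨i, h⟩ ≠ 0 := fun h0 => hb0 ((E_eq_zero_iff A b ⟨i, h⟩).mpr h0)
      rw [← hb', ρ_apply] at h1
      exact h1
    · rw [if_neg h, mul_zero, sub_zero, zero_add]
      exact one_ne_zero
  have hνst : ((b' : Π i, D i) * ind A c + (1 - ind A c)) * st = ind A c * (a' : Π i, D i) := by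
    funext i
    simp only [ind, st, Pi.add_apply, Pi.mul_apply, Pi.sub_apply, Pi.one_apply]
    by_cases h : Quotient.mk (rel A) i = c
    · rw [if_pos h, dif_pos h, mul_one, sub_self, add_zero, one_mul]
      have h1 := hs ⟨i, h⟩
      rw [← hb', ← ha', ρ_apply, ρ_apply] at h1
      exact h1
    · rw [if_neg h, dif_neg h, mul_zero, zero_mul]
  have hνA : (b' : Π i, D i) * ind A c + (1 - ind A c) ∈ A :=
    A.add_mem (A.mul_mem b'.2 hεA) (A.sub_mem A.one_mem hεA)
  have hwA : ind A c * (a' : Π i, D i) ∈ A := A.mul_mem hεA a'.2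
  have hst : st ∈ A := by
    rw [hA]
    intro f hf f' hf'
    have h1 : f ((b' : Π i, D i) * ind A c + (1 - ind A c)) ∈ nonZeroDivisors R :=
      hF f hf _ hνmem
    have h2 := (hA _).mp hνA f hf f' hf'
    have h3 := (hA _).mp hwA f hf f' hf'
    have h4 : f ((b' : Π i, D i) * ind A c + (1 - ind A c)) * f st =
        f (ind A c * (a' : Π i, D i)) := by rw [← map_mul, hνst]
    have h5 : f' ((b' : Π i, D i) * ind A c + (1 - ind A c)) * f' st =
        f' (ind A c * (a' : Π i, D i)) := by rw [← map_mul, hνst]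
    rw [← sub_eq_zero, ← mul_right_mem_nonZeroDivisors_eq_zero_iff h1]
    linear_combination h4 - h5 - f' st * h2 + h3
  refine ⟨⟨ρ A c ⟨st, hst⟩, ⟨_, rfl⟩⟩, ?_⟩
  have hb1 : algebraMap (E A c) (FractionRing (E A c)) b ≠ 0 := fun h =>
    hb0 (IsFractionRing.injective (E A c) (FractionRing (E A c)) (h.trans (map_zero _).symm))
  rw [eq_div_iff hb1, ← map_mul]
  congr 1
  apply Subtype.ext
  funext i
  show st i.1 * b.1 i = a.1 i
  simp only [st]
  rw [dif_pos i.2, mul_comm]
  exact hs i

end Aux

/-- Suppose S is the product of a finite family of integrally closed domains (a finite product of normal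
domains), R is any commutative ring, and F is a family of ring maps S → R each carrying
non-zero-divisors of S to non-zero-divisors of R. Then the subring A of S on which all members of F
coincide (a ∈ A iff f(a) = f'(a) for all f, f' in F) is ring-isomorphic to a product of finitely
many integrally closed domains. -/
theorem result {ι : Type u} [Fintype ι] (D : ι → Type u)
    [∀ i, CommRing (D i)] [∀ i, IsDomain (D i)] [∀ i, IsIntegrallyClosed (D i)]
    (R : Type u) [CommRing R] (F : Set ((Π i, D i) →+* R))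
    (hF : ∀ f ∈ F, ∀ s ∈ nonZeroDivisors (Π i, D i), f s ∈ nonZeroDivisors R)
    (A : Subring (Π i, D i)) (hA : ∀ a, a ∈ A ↔ ∀ f ∈ F, ∀ f' ∈ F, f a = f' a) :
    ∃ (κ : Type u) (_ : Fintype κ) (E : κ → Type u) (_ : ∀ j, CommRing (E j)) (_ : ∀ j, IsDomain (E j))
      (_ : ∀ j, IsIntegrallyClosed (E j)), Nonempty (A ≃+* Π j, E j) := by
  classical
  refine ⟨Quotient (rel A), inferInstance, fun c => E A c, fun c => inferInstance,
    fun c => instIsDomainE A c, fun c => isIntegrallyClosed_E F hF A hA c, ⟨?_⟩⟩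
  exact RingEquiv.ofBijective (Φ A) ⟨Φ_injective A, Φ_surjective F hF A hA⟩

end Groth.Agent.S11135
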