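import Groth.Statements.S11136
import Mathlib.RingTheory.Invariant.Basic
import Mathlib.RingTheory.Ideal.GoingUp
import Mathlib.RingTheory.Spectrum.Prime.Noetherian
import Mathlib.RingTheory.Spectrum.Prime.Topology
import Mathlib.Topology.NoetherianSpace

set_option autoImplicit false
universe u v
open InvTh

namespace Groth.Agent.S11136


theorem isOpen_connectedComponent_of_noetherianSpace {α : Type*} [TopologicalSpace α]
    [TopologicalSpace.NoetherianSpace α] (x : α) : IsOpen (connectedComponent x) := by
  have hfin : (irreducibleComponents α).Finite :=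
    TopologicalSpace.NoetherianSpace.finite_irreducibleComponents
  let S : Set (Set α) := {Z ∈ irreducibleComponents α | ¬ Z ⊆ connectedComponent x}
  have hS : (connectedComponent x)ᶜ = ⋃₀ S := by
    ext y
    constructor
    · intro hy
      refine ⟨irreducibleComponent y, ⟨irreducibleComponent_mem_irreducibleComponents y, ?_⟩,
        mem_irreducibleComponent⟩
      intro hsub
      exact hy (hsub mem_irreducibleComponent)
    · rintro ⟨Z, ⟨hZ, hZx⟩, hyZ⟩ hy
      apply hZx
      have hZc : IsPreconnected Z := hZ.1.isPreirreducible.isPreconnected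
      have := hZc.subset_connectedComponent hyZ
      rwa [← connectedComponent_eq hy] at this
  rw [← isClosed_compl_iff, hS]
  have hSfin : S.Finite := hfin.subset (fun Z hZ => hZ.1)
  rw [Set.sUnion_eq_biUnion]
  exact hSfin.isClosed_biUnion (fun Z hZ => isClosed_of_mem_irreducibleComponents Z hZ.1)

/-- Let a finite group G act on a Noetherian commutative ring R by ring automorphisms, with ring of
invariants A (A → R injective with image the fixed elements). When the prime spectrum of A is
connected, any two connected components of Spec R are exchanged by some element of G: for all points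
x, y of Spec R there is g in G whose induced self-map of Spec R carries the connected component of x
onto the connected component of y. -/
theorem result
    (A : Type u) (R : Type v) [CommRing A] [CommRing R] [Algebra A R] [IsNoetherianRing R]
    (G : Type u) [Group G] [Finite G] [MulSemiringAction G R] [SMulCommClass G A R]
    [Algebra.IsInvariant A R G] [FaithfulSMul A R]
    [ConnectedSpace (PrimeSpectrum A)] (x y : PrimeSpectrum R) :
    ∃ g : G, PrimeSpectrum.comap (MulSemiringAction.toRingHom G R g) '' connectedComponent x =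
      connectedComponent y := by
  classical
  have hint : Algebra.IsIntegral A R := Algebra.IsInvariant.isIntegral A R G
  have hinj : Function.Injective (algebraMap A R) := FaithfulSMul.algebraMap_injective A R
  let φ : G → PrimeSpectrum R → PrimeSpectrum R :=
    fun g => PrimeSpectrum.comap (MulSemiringAction.toRingHom G R g)
  let π : PrimeSpectrum R → PrimeSpectrum A := PrimeSpectrum.comap (algebraMap A R)
  have hφmul : ∀ (g h : G) (P : PrimeSpectrum R), φ g (φ h P) = φ (h * g) P := by
    intro g h P
    apply PrimeSpectrum.ext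
    ext r
    simp only [φ, PrimeSpectrum.comap_asIdeal, Ideal.mem_comap, MulSemiringAction.toRingHom_apply,
      mul_smul]
  have hφone : ∀ P : PrimeSpectrum R, φ 1 P = P := by
    intro P
    apply PrimeSpectrum.ext
    ext r
    simp only [φ, PrimeSpectrum.comap_asIdeal, Ideal.mem_comap, MulSemiringAction.toRingHom_apply,
      one_smul]
  have hφcont : ∀ g, Continuous (φ g) := fun g => PrimeSpectrum.continuous_comap _
  have hφinv : ∀ (g : G) (P : PrimeSpectrum R), φ g (φ g⁻¹ P) = P := by
    intro g P
    rw [hφmul, inv_mul_cancel, hφone]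
  have hφinv' : ∀ (g : G) (P : PrimeSpectrum R), φ g⁻¹ (φ g P) = P := by
    intro g P
    rw [hφmul, mul_inv_cancel, hφone]
  have hφclosed : ∀ g, IsClosedMap (φ g) := by
    intro g T hT
    have : φ g '' T = φ g⁻¹ ⁻¹' T := by
      ext P
      constructor
      · rintro ⟨Q, hQ, rfl⟩
        show φ g⁻¹ (φ g Q) ∈ T
        rwa [hφinv']
      · intro hP
        exact ⟨φ g⁻¹ P, hP, hφinv g P⟩
    rw [this]
    exact hT.preimage (hφcont g⁻¹)
  have hφopen : ∀ g, IsOpenMap (φ g) := by
    intro g T hT
    have : φ g '' T = φ g⁻¹ ⁻¹' T := by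
      ext P
      constructor
      · rintro ⟨Q, hQ, rfl⟩
        show φ g⁻¹ (φ g Q) ∈ T
        rwa [hφinv']
      · intro hP
        exact ⟨φ g⁻¹ P, hP, hφinv g P⟩
    rw [this]
    exact hT.preimage (hφcont g⁻¹)
  have hπφ : ∀ (g : G) (P : PrimeSpectrum R), π (φ g P) = π P := by
    intro g P
    apply PrimeSpectrum.ext
    ext a
    simp only [φ, π, PrimeSpectrum.comap_asIdeal, Ideal.mem_comap,
      MulSemiringAction.toRingHom_apply, smul_algebraMap]
  have hfiber : ∀ P Q : PrimeSpectrum R, π P = π Q → ∃ g : G, Q = φ g P := by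
    intro P Q hPQ
    have h1 : P.asIdeal.under A = Q.asIdeal.under A := congrArg PrimeSpectrum.asIdeal hPQ
    obtain ⟨g, hg⟩ := Algebra.IsInvariant.exists_smul_of_under_eq A R G P.asIdeal Q.asIdeal h1
    refine ⟨g⁻¹, ?_⟩
    apply PrimeSpectrum.ext
    rw [hg, Ideal.pointwise_smul_eq_comap]
    rfl
  have hπclosed : IsClosedMap π :=
    PrimeSpectrum.isClosedMap_comap_of_isIntegral _ (algebraMap_isIntegral_iff.mpr hint)
  have hπsurj : Function.Surjective π := by
    intro p
    obtain ⟨Q, -, hQprime, hQ⟩ := Ideal.exists_ideal_over_prime_of_isIntegral p.asIdeal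
      (⊥ : Ideal R) (by
        intro a ha
        rw [Ideal.mem_comap, Ideal.mem_bot] at ha
        have : a = 0 := hinj (ha.trans (map_zero _).symm)
        rw [this]
        exact Ideal.zero_mem _)
    exact ⟨⟨Q, hQprime⟩, PrimeSpectrum.ext hQ⟩
  let S : Set (PrimeSpectrum R) := ⋃ g : G, φ g '' connectedComponent x
  have hSclosed : IsClosed S :=
    isClosed_iUnion_of_finite fun g => hφclosed g _ isClosed_connectedComponent
  have hSopen : IsOpen S :=
    isOpen_iUnion fun g => hφopen g _ (isOpen_connectedComponent_of_noetherianSpace x)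
  have hSstable : ∀ (g : G) (P : PrimeSpectrum R), P ∈ S → φ g P ∈ S := by
    intro g P hP
    obtain ⟨h, c, hc, rfl⟩ := Set.mem_iUnion.mp hP
    exact Set.mem_iUnion.mpr ⟨h * g, c, hc, (hφmul g h c).symm⟩
  have hsat : ∀ P Q : PrimeSpectrum R, π P = π Q → P ∈ S → Q ∈ S := by
    intro P Q hPQ hP
    obtain ⟨g, rfl⟩ := hfiber P Q hPQ
    exact hSstable g P hP
  have hcompl : (π '' S)ᶜ = π '' Sᶜ := by
    ext p
    constructor
    · intro hp
      obtain ⟨Q, rfl⟩ := hπsurj p
      exact ⟨Q, fun hQ => hp ⟨Q, hQ, rfl⟩, rfl⟩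
    · rintro ⟨Q, hQ, rfl⟩ ⟨P, hP, hPQ⟩
      exact hQ (hsat P Q hPQ hP)
  have hclopen : IsClopen (π '' S) := by
    refine ⟨hπclosed _ hSclosed, ?_⟩
    rw [← isClosed_compl_iff, hcompl]
    exact hπclosed _ hSopen.isClosed_compl
  have hxS : x ∈ S := Set.mem_iUnion.mpr ⟨1, x, mem_connectedComponent, hφone x⟩
  have huniv : π '' S = Set.univ := by
    rcases isClopen_iff.mp hclopen with h | h
    · exact absurd h (Set.Nonempty.ne_empty ⟨π x, x, hxS, rfl⟩)
    · exact h
  have hyS : y ∈ S := by
    have : π y ∈ π '' S := by rw [huniv]; trivial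
    obtain ⟨P, hP, hPy⟩ := this
    exact hsat P y hPy hP
  obtain ⟨g, c, hc, hcy⟩ := Set.mem_iUnion.mp hyS
  refine ⟨g, ?_⟩
  show φ g '' connectedComponent x = connectedComponent y
  have h1 : φ g '' connectedComponent x = connectedComponent (φ g x) := by
    apply Set.Subset.antisymm ((hφcont g).image_connectedComponent_subset x)
    intro z hz
    refine ⟨φ g⁻¹ z, ?_, hφinv g z⟩
    have h2 := (hφcont g⁻¹).image_connectedComponent_subset (φ g x) ⟨z, hz, rfl⟩
    rwa [hφinv'] at h2
  rw [h1]
  apply connectedComponent_eq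
  rw [← hcy, ← h1]
  exact ⟨c, hc, rfl⟩

end Groth.Agent.S11136
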