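import Groth.Statements.S11142
import Mathlib.AlgebraicGeometry.Morphisms.UniversallyOpen
import Mathlib.AlgebraicGeometry.Noetherian

set_option autoImplicit false
universe u
open CategoryTheory AlgebraicGeometry
open FlatMor

namespace Groth.Agent.S11142

/-- For a flat morphism f : X → Y between locally Noetherian schemes, the preimage under f of any dense
open subset of Y is dense in X. -/
theorem result (X Y : Scheme.{u}) [IsLocallyNoetherian X]
    [IsLocallyNoetherian Y] (f : X ⟶ Y) [Flat f] (U : Y.Opens) (hU : Dense (U : Set Y)) :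
    Dense ((f ⁻¹ᵁ U : X.Opens) : Set X) := by
  rw [dense_iff_inter_open]
  intro V hV hVne
  obtain ⟨x, hx⟩ := hVne
  -- an affine open neighbourhood of `f x`
  obtain ⟨W, hW, hyW, -⟩ := exists_isAffineOpen_mem_and_subset
    (show f x ∈ (⊤ : Y.Opens) from trivial)
  have hnoeth : IsNoetherianRing Γ(Y, W) := IsLocallyNoetherian.component_noetherian ⟨W, hW⟩
  have hT : TopologicalSpace.NoetherianSpace W := noetherianSpace_of_isAffineOpen W hW
  obtain ⟨y', hy'⟩ : ∃ y' : W.toScheme, W.ι y' = f x := by
    have : f x ∈ Set.range W.ι := by rw [Scheme.Opens.range_ι]; exact hyW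
    exact this
  have hZ : irreducibleComponent y' ∈ irreducibleComponents W.toScheme :=
    irreducibleComponent_mem_irreducibleComponents y'
  obtain ⟨o, ho, hone, hoZ⟩ :=
    TopologicalSpace.NoetherianSpace.exists_isOpen_nonempty_subset_irreducibleComponent _ hZ
  have hirr : IsIrreducible (irreducibleComponent y') := isIrreducible_irreducibleComponent
  have hcl : IsClosed (irreducibleComponent y') := isClosed_irreducibleComponent
  obtain ⟨ζ, hζ⟩ := QuasiSober.sober hirr hcl
  -- `ζ` specializes to `y'`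
  have h1 : ζ ⤳ y' := by
    rw [specializes_iff_mem_closure, hζ.def]
    exact mem_irreducibleComponent
  have h1' : W.ι ζ ⤳ f x := hy' ▸ h1.map W.ι.continuous
  -- `ζ ∈ U`
  have hoY : IsOpen (W.ι '' o : Set Y) := W.ι.isOpenEmbedding.isOpenMap o ho
  obtain ⟨u, huo, huU⟩ := hU.inter_open_nonempty _ hoY (hone.image _)
  obtain ⟨u', hu'o, rfl⟩ := huo
  have h2 : ζ ⤳ u' := by
    rw [specializes_iff_mem_closure, hζ.def]
    exact hoZ hu'o
  have h2' : W.ι ζ ⤳ W.ι u' := h2.map W.ι.continuous
  have hζU : W.ι ζ ∈ (U : Set Y) := h2'.mem_open U.isOpen huU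
  -- lift the generalization
  obtain ⟨x', hx'x, hfx'⟩ := (Flat.generalizingMap f) h1'
  refine ⟨x', hx'x.mem_open hV hx, ?_⟩
  show f x' ∈ U
  rw [hfx']
  exact hζU

end Groth.Agent.S11142
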