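import Groth.Statements.S11147
import Mathlib.RingTheory.Unramified.Field
import Mathlib.FieldTheory.PurelyInseparable.PerfectClosure
import Mathlib.LinearAlgebra.TensorProduct.Basis
import Mathlib.FieldTheory.IntermediateField.Adjoin.Algebra

set_option autoImplicit false
universe u
open FrobAlg

namespace Groth.Agent.S11147

open TensorProduct in
lemma relFrob_tmul (p : ℕ) [Fact p.Prime] (k K : Type u) [Field k]
    [Field K] [Algebra k K] [CharP k p] [CharP K p] (b : K) (a : Twist p k) :
    relFrob p k K (b ⊗ₜ[k] a) = b ^ p * algebraMap k K ((toTwist p k).symm a) := by
  simp [relFrob, frobHom, inclHom, toTarget, frobenius_def]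


/-- Let p be a prime and k ⊆ K fields of characteristic p such that K is finitely generated over k as a
field. Then the relative Frobenius ring homomorphism K ⊗_{k,Frob} k → K, b ⊗ a ↦ b^p a (the
Radu–André homomorphism of k → K), is bijective exactly when K is algebraic over k and every element
of K is separable over k. -/
theorem result (p : ℕ) [Fact p.Prime] (k K : Type u) [Field k]
    [Field K] [Algebra k K] [CharP k p] [CharP K p] (hfg : (⊤ : IntermediateField k K).FG) :
    Function.Bijective (FrobAlg.relFrob p k K) ↔ Algebra.IsSeparable k K := by
  have hp : p.Prime := Fact.out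
  have : ExpChar k p := ExpChar.prime hp
  constructor
  · intro hbij
    have : Algebra.EssFiniteType k K := IntermediateField.fg_top_iff.1 hfg
    have hD : ∀ x : K, KaehlerDifferential.D k K x = 0 := by
      intro x
      obtain ⟨z, rfl⟩ := hbij.2 x
      induction z using TensorProduct.induction_on with
      | zero => simp
      | tmul b a =>
        rw [relFrob_tmul, Derivation.leibniz, Derivation.leibniz_pow, Derivation.map_algebraMap]
        simp only [Derivation.map_algebraMap, smul_zero, zero_add, smul_eq_zero]
        right
        rw [← Nat.cast_smul_eq_nsmul K, CharP.cast_eq_zero K p, zero_smul]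
      | add z w hz hw => rw [map_add, map_add, hz, hw, add_zero]
    have : Subsingleton (Ω[K⁄k]) := by
      rw [← Submodule.subsingleton_iff K, ← subsingleton_iff_bot_eq_top,
        ← KaehlerDifferential.span_range_derivation k K, eq_comm, Submodule.span_eq_bot]
      rintro _ ⟨x, rfl⟩
      exact hD x
    have : Algebra.FormallyUnramified k K := ⟨inferInstance⟩
    exact Algebra.FormallyUnramified.isSeparable k K
  · intro hsep
    classical
    let b := Module.Free.chooseBasis k K
    let b' := b.mapPowExpCharPowOfIsSeparable p 1
    have hb' : ∀ i, b' i = b i ^ p := by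
      intro i
      simp [b', Module.Basis.mapPowExpCharPowOfIsSeparable]
    have hsum : ∀ c : Module.Free.ChooseBasisIndex k K →₀ Twist p k,
        relFrob p k K (c.sum fun i n => b i ⊗ₜ[k] n) =
          Finsupp.linearCombination k b' (c.mapRange (toTwist p k).symm (map_zero _)) := by
      intro c
      rw [map_finsuppSum, Finsupp.linearCombination_apply, Finsupp.sum_mapRange_index (by simp)]
      refine Finsupp.sum_congr fun i _ => ?_
      rw [relFrob_tmul, hb', Algebra.smul_def, mul_comm]
    constructor
    · rw [injective_iff_map_eq_zero]
      intro z hz
      obtain ⟨c, rfl⟩ := TensorProduct.eq_repr_basis_left b z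
      rw [hsum] at hz
      have h0 := linearIndependent_iff.1 b'.linearIndependent _ hz
      have hc : c = 0 := by
        ext i
        have := DFunLike.congr_fun h0 i
        simpa using this
      rw [hc]; simp
    · intro x
      refine ⟨((b'.repr x).mapRange (toTwist p k) (map_zero _)).sum fun i n => b i ⊗ₜ[k] n, ?_⟩
      rw [hsum]
      have : ((b'.repr x).mapRange (toTwist p k) (map_zero _)).mapRange (toTwist p k).symm (map_zero _)
          = b'.repr x := by
        ext i; simp
      rw [this, Module.Basis.linearCombination_repr]

end Groth.Agent.S11147
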