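import Groth.Statements.S11152
import Mathlib
import Groth.Agent.Lib.Helper9.WayOut

set_option autoImplicit false
universe w w' v v' u u'
open CategoryTheory CategoryTheory.Limits
open CohDer

namespace Groth.Agent.S11152
section Aux

open CategoryTheory CategoryTheory.Limits CategoryTheory.Pretriangulated DerivedCategory

section Four

variable {C : Type*} [Category C] [Abelian C]
  {A B D E A' B' D' E' : C}
  (f : A ⟶ B) (g : B ⟶ D) (h : D ⟶ E) (f' : A' ⟶ B') (g' : B' ⟶ D') (h' : D' ⟶ E')
  (α : A ⟶ A') (β : B ⟶ B') (γ : D ⟶ D') (δ : E ⟶ E')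
  (w₀ : f ≫ β = α ≫ f') (w₁ : g ≫ γ = β ≫ g') (w₂ : h ≫ δ = γ ≫ h')

include w₀ w₁ w₂ in
theorem four_mono (hfg : f ≫ g = 0) (hgh : g ≫ h = 0) (hf'g' : f' ≫ g' = 0)
    (ex₁ : (ShortComplex.mk g h hgh).Exact) (ex₂ : (ShortComplex.mk f' g' hf'g').Exact)
    (hα : Epi α) (hβ : Mono β) (hδ : Mono δ) : Mono γ := by
  let φ : ComposableArrows.mk₃ f g h ⟶ ComposableArrows.mk₃ f' g' h' :=
    ComposableArrows.homMk₃ α β γ δ w₀ w₁ w₂
  exact Abelian.mono_of_epi_of_mono_of_mono' φ hfg ex₁.exact_toComposableArrows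
    ex₂.exact_toComposableArrows hα hβ hδ

include w₀ w₁ w₂ in
theorem four_epi (hgh : g ≫ h = 0) (hf'g' : f' ≫ g' = 0) (hg'h' : g' ≫ h' = 0)
    (ex₁ : (ShortComplex.mk g h hgh).Exact) (ex₂ : (ShortComplex.mk f' g' hf'g').Exact)
    (hα : Epi α) (hγ : Epi γ) (hδ : Mono δ) : Epi β := by
  let φ : ComposableArrows.mk₃ f g h ⟶ ComposableArrows.mk₃ f' g' h' :=
    ComposableArrows.homMk₃ α β γ δ w₀ w₁ w₂
  exact Abelian.epi_of_epi_of_epi_of_mono' φ ex₁.exact_toComposableArrows
    ex₂.exact_toComposableArrows hg'h' hα hγ hδ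

end Four

lemma epi_of_isIso' {C : Type*} [Category C] {X Y : C} (f : X ⟶ Y) (h : IsIso f) : Epi f :=
  inferInstance

lemma mono_of_isIso' {C : Type*} [Category C] {X Y : C} (f : X ⟶ Y) (h : IsIso f) : Mono f :=
  inferInstance

variable {A : Type u} [Category.{v} A] [Abelian A] [HasDerivedCategory.{w} A]
    {B : Type u'} [Category.{v'} B] [Abelian B] [HasDerivedCategory.{w'} B]
    (F G : DerivedCategory A ⥤ DerivedCategory B) [F.CommShift ℤ] [G.CommShift ℤ]
    [F.IsTriangulated] [G.IsTriangulated] (η : F ⟶ G) [NatTrans.CommShift η ℤ]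

/-- uniform lower bound for `F(X[0])` -/
lemma exists_bound
    (hF : ∀ n₁ : ℤ, ∃ n₂ : ℤ, ∀ Y : DerivedCategory A, Y.IsGE n₂ → (F.obj Y).IsGE n₁) :
    ∃ N : ℤ, ∀ X : A, (F.obj ((singleFunctor A 0).obj X)).IsGE N := by
  obtain ⟨n₂, hn₂⟩ := hF 0
  refine ⟨-n₂, fun X => ?_⟩
  have h1 : (((singleFunctor A 0).obj X)⟦(-n₂ : ℤ)⟧).IsGE n₂ :=
    TStructure.t.isGE_shift _ 0 (-n₂) n₂ (by ring)
  have h2 : (F.obj (((singleFunctor A 0).obj X)⟦(-n₂ : ℤ)⟧)).IsGE 0 := hn₂ _ h1
  haveI : TStructure.t.IsGE ((shiftFunctor (DerivedCategory A) (-n₂) ⋙ F).obj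
      ((singleFunctor A 0).obj X)) 0 := h2
  have h3 : ((F.obj ((singleFunctor A 0).obj X))⟦(-n₂ : ℤ)⟧).IsGE 0 :=
    TStructure.t.isGE_of_iso ((F.commShiftIso (-n₂ : ℤ)).app _) 0
  exact TStructure.t.isGE_of_shift _ (-n₂) (-n₂) 0 (by ring)

variable (P : ObjectProperty A) (hP : ∀ X : A, ∃ (Y : A) (i : X ⟶ Y), P Y ∧ Mono i)
    (hη : ∀ X : A, P X → IsIso (η.app ((singleFunctor A 0).obj X)))

/-- the data attached to an object: the triangle and the comparison -/
structure Dat (X : A) where
  I : A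
  X₁ : A
  hI : P I
  T : Triangle (DerivedCategory A)
  hT : T ∈ distTriang _
  h₁ : T.obj₁ = (singleFunctor A 0).obj X
  h₂ : T.obj₂ = (singleFunctor A 0).obj I
  h₃ : T.obj₃ = (singleFunctor A 0).obj X₁

include hP in
lemma nonempty_dat (X : A) : Nonempty (Dat P X) := by
  obtain ⟨I, i, hI, hi⟩ := hP X
  let S : ShortComplex A := ShortComplex.mk i (cokernel.π i) (cokernel.condition i)
  have hS : S.ShortExact :=
    { exact := ShortComplex.exact_cokernel i
      mono_f := hi
      epi_g := inferInstanceAs (Epi (cokernel.π i)) }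
  exact ⟨⟨I, cokernel i, hI, hS.singleTriangle, hS.singleTriangle_distinguished, rfl, rfl, rfl⟩⟩

include hP hη in
/-- mono step -/
lemma mono_step (j : ℤ)
    (ih : ∀ j' < j, ∀ X : A, IsIso ((homologyFunctor B j').map
      (η.app ((singleFunctor A 0).obj X)))) (X : A) :
    Mono ((homologyFunctor B j).map (η.app ((singleFunctor A 0).obj X))) := by
  obtain ⟨⟨I, X₁, hI, T, hT, h₁, h₂, h₃⟩⟩ := nonempty_dat P hP X
  obtain ⟨T₁, T₂, T₃, m₁, m₂, m₃⟩ := T
  dsimp at h₁ h₂ h₃
  subst h₁ h₂ h₃
  set T : Triangle (DerivedCategory A) := Triangle.mk m₁ m₂ m₃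
  have hTF := F.map_distinguished T hT
  have hTG := G.map_distinguished T hT
  let φ := Groth.Agent.Lib.Helper9.mapTriangleHom F G η T
  have hIiso : IsIso (η.app ((singleFunctor A 0).obj I)) := hη I hI
  have hX₁iso := ih (j - 1) (by lia) X₁
  refine four_mono
    ((homologyFunctor B (j - 1)).map (F.mapTriangle.obj T).mor₂)
    (HomologySequence.δ (F.mapTriangle.obj T) (j - 1) j (by lia))
    ((homologyFunctor B j).map (F.mapTriangle.obj T).mor₁)
    ((homologyFunctor B (j - 1)).map (G.mapTriangle.obj T).mor₂)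
    (HomologySequence.δ (G.mapTriangle.obj T) (j - 1) j (by lia))
    ((homologyFunctor B j).map (G.mapTriangle.obj T).mor₁)
    ((homologyFunctor B (j - 1)).map φ.hom₂) ((homologyFunctor B (j - 1)).map φ.hom₃)
    ((homologyFunctor B j).map φ.hom₁) ((homologyFunctor B j).map φ.hom₂)
    ?_ ?_ ?_
    (HomologySequence.comp_δ _ hTF _ _ _) (HomologySequence.δ_comp _ hTF _ _ _)
    (HomologySequence.comp_δ _ hTG _ _ _)
    (HomologySequence.exact₁ _ hTF _ _ _) (HomologySequence.exact₃ _ hTG _ _ _)
    ?_ ?_ ?_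
  · rw [← Functor.map_comp, ← Functor.map_comp, φ.comm₂]
  · exact ((homologyFunctor B 0).homologySequenceδ_naturality _ _ φ (j - 1) j (by lia)).symm
  · rw [← Functor.map_comp, ← Functor.map_comp, φ.comm₁]
  · have h : IsIso ((homologyFunctor B (j - 1)).map (η.app ((singleFunctor A 0).obj I))) :=
      inferInstance
    exact epi_of_isIso' _ h
  · exact mono_of_isIso' _ hX₁iso
  · have h : IsIso ((homologyFunctor B j).map (η.app ((singleFunctor A 0).obj I))) :=
      inferInstance
    exact mono_of_isIso' _ h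

include hP hη in
/-- epi step -/
lemma epi_step (j : ℤ)
    (ih : ∀ j' < j, ∀ X : A, IsIso ((homologyFunctor B j').map
      (η.app ((singleFunctor A 0).obj X)))) (X : A) :
    Epi ((homologyFunctor B j).map (η.app ((singleFunctor A 0).obj X))) := by
  obtain ⟨⟨I, X₁, hI, T, hT, h₁, h₂, h₃⟩⟩ := nonempty_dat P hP X
  obtain ⟨T₁, T₂, T₃, m₁, m₂, m₃⟩ := T
  dsimp at h₁ h₂ h₃
  subst h₁ h₂ h₃
  set T : Triangle (DerivedCategory A) := Triangle.mk m₁ m₂ m₃
  have hTF := F.map_distinguished T hT
  have hTG := G.map_distinguished T hT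
  let φ := Groth.Agent.Lib.Helper9.mapTriangleHom F G η T
  have hIiso : IsIso (η.app ((singleFunctor A 0).obj I)) := hη I hI
  have hX₁iso := ih (j - 1) (by lia) X₁
  have hX₁mono := mono_step F G η P hP hη j ih X₁
  refine four_epi
    (HomologySequence.δ (F.mapTriangle.obj T) (j - 1) j (by lia))
    ((homologyFunctor B j).map (F.mapTriangle.obj T).mor₁)
    ((homologyFunctor B j).map (F.mapTriangle.obj T).mor₂)
    (HomologySequence.δ (G.mapTriangle.obj T) (j - 1) j (by lia))
    ((homologyFunctor B j).map (G.mapTriangle.obj T).mor₁)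
    ((homologyFunctor B j).map (G.mapTriangle.obj T).mor₂)
    ((homologyFunctor B (j - 1)).map φ.hom₃) ((homologyFunctor B j).map φ.hom₁)
    ((homologyFunctor B j).map φ.hom₂) ((homologyFunctor B j).map φ.hom₃)
    ?_ ?_ ?_
    (by rw [← Functor.map_comp, comp_distTriang_mor_zero₁₂ _ hTF, Functor.map_zero])
    (HomologySequence.δ_comp _ hTG _ _ _)
    (by rw [← Functor.map_comp, comp_distTriang_mor_zero₁₂ _ hTG, Functor.map_zero])
    (HomologySequence.exact₂ _ hTF _) (HomologySequence.exact₁ _ hTG _ _ _)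
    ?_ ?_ ?_
  · exact ((homologyFunctor B 0).homologySequenceδ_naturality _ _ φ (j - 1) j (by lia)).symm
  · rw [← Functor.map_comp, ← Functor.map_comp, φ.comm₁]
  · rw [← Functor.map_comp, ← Functor.map_comp, φ.comm₂]
  · exact epi_of_isIso' _ hX₁iso
  · have h : IsIso ((homologyFunctor B j).map (η.app ((singleFunctor A 0).obj I))) :=
      inferInstance
    exact epi_of_isIso' _ h
  · exact hX₁mono

end Aux


/-- Fix abelian categories A and B, P a class of objects of A such that every object of A admits a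
monomorphism into an object of P, F and G triangulated functors from D(A) to D(B) which are both
way-out right (given n₁ there is n₂ such that H^i(Y) = 0 for i < n₂ implies H^i(F Y) = 0 for i <
n₁), and η : F ⟶ G a morphism of triangulated functors. If η_X is an isomorphism for every object X
of P placed in degree 0, then η_X is an isomorphism for every object X of A placed in degree 0.
(Stated for functors defined on all of D(A) and the thick subcategory taken to be all of A.) -/
theorem result {A : Type u} [Category.{v} A] [Abelian A] [HasDerivedCategory.{w} A]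
    {B : Type u'} [Category.{v'} B] [Abelian B] [HasDerivedCategory.{w'} B]
    (P : ObjectProperty A) (hP : ∀ X : A, ∃ (Y : A) (i : X ⟶ Y), P Y ∧ Mono i)
    (F G : DerivedCategory A ⥤ DerivedCategory B) [F.CommShift ℤ] [G.CommShift ℤ]
    [F.IsTriangulated] [G.IsTriangulated] (η : F ⟶ G) [NatTrans.CommShift η ℤ]
    (hF : ∀ n₁ : ℤ, ∃ n₂ : ℤ, ∀ Y : DerivedCategory A, Y.IsGE n₂ → (F.obj Y).IsGE n₁)
    (hG : ∀ n₁ : ℤ, ∃ n₂ : ℤ, ∀ Y : DerivedCategory A, Y.IsGE n₂ → (G.obj Y).IsGE n₁)
    (hη : ∀ X : A, P X → IsIso (η.app ((DerivedCategory.singleFunctor A 0).obj X)))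
    (X : A) :
    IsIso (η.app ((DerivedCategory.singleFunctor A 0).obj X)) := by
  classical
  obtain ⟨NF, hNF⟩ := exists_bound F hF
  obtain ⟨NG, hNG⟩ := exists_bound G hG
  have key : ∀ k : ℕ, ∀ j : ℤ, j < min NF NG + k → ∀ X : A,
      IsIso ((DerivedCategory.homologyFunctor B j).map
        (η.app ((DerivedCategory.singleFunctor A 0).obj X))) := by
    intro k
    induction k with
    | zero =>
      intro j hj X
      have h1 : Limits.IsZero ((DerivedCategory.homologyFunctor B j).obj
          (F.obj ((DerivedCategory.singleFunctor A 0).obj X))) :=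
        haveI := hNF X
        DerivedCategory.isZero_of_isGE _ NF j (by
          have := min_le_left NF NG
          push_cast at hj
          lia)
      have h2 : Limits.IsZero ((DerivedCategory.homologyFunctor B j).obj
          (G.obj ((DerivedCategory.singleFunctor A 0).obj X))) :=
        haveI := hNG X
        DerivedCategory.isZero_of_isGE _ NG j (by
          have := min_le_right NF NG
          push_cast at hj
          lia)
      exact ⟨0, h1.eq_of_src _ _, h2.eq_of_src _ _⟩
    | succ k ih =>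
      intro j hj X
      by_cases hjk : j < min NF NG + k
      · exact ih j hjk X
      · have hj' : j = min NF NG + k := by
          push_cast at hj
          lia
        have ih' : ∀ j' < j, ∀ X : A, IsIso ((DerivedCategory.homologyFunctor B j').map
            (η.app ((DerivedCategory.singleFunctor A 0).obj X))) := by
          intro j' hj'' X
          exact ih j' (by lia) X
        have := mono_step F G η P hP hη j ih' X
        have := epi_step F G η P hP hη j ih' X
        exact isIso_of_mono_of_epi _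
  rw [DerivedCategory.isIso_iff]
  intro n
  obtain ⟨k, hk⟩ : ∃ k : ℕ, n < min NF NG + k := by
    refine ⟨(n - min NF NG + 1).toNat, ?_⟩
    have := Int.self_le_toNat (n - min NF NG + 1)
    lia
  exact key k n hk X

end Groth.Agent.S11152
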