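import Groth.Statements.S11153
import Mathlib
import Groth.Agent.Lib.Helper17.IRes
import Groth.Agent.Lib.Helper17.InjAmp

set_option autoImplicit false
universe w v u
open CategoryTheory CategoryTheory.Limits
open CohDer

namespace Groth.Agent.S11153

/-- (i) ⇔ (iii): let A be an abelian category with enough injectives and K a bounded below cochain
complex of objects of A. Then K admits a quasi-isomorphism into a bounded complex of injective
objects of A if and only if there is an integer n₀ such that Hom_{D(A)}(Y[0], K[i]) = 0 for every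
object Y of A and every i > n₀. -/
theorem result {A : Type u} [Category.{v} A] [Abelian A]
    [HasDerivedCategory.{w} A] [EnoughInjectives A]
    (K : CochainComplex A ℤ) (a : ℤ) [K.IsStrictlyGE a] :
    (∃ (I : CochainComplex A ℤ) (b c : ℤ) (f : K ⟶ I), I.IsStrictlyGE b ∧ I.IsStrictlyLE c ∧
        (∀ n : ℤ, Injective (I.X n)) ∧ QuasiIso f) ↔
      ∃ n₀ : ℤ, ∀ (Y : A) (i : ℤ), n₀ < i →
        ∀ φ : (DerivedCategory.singleFunctor A 0).obj Y ⟶ (DerivedCategory.Q.obj K)⟦i⟧, φ = 0 := by
  classical
  constructor
  · rintro ⟨I, b, c, f, hb, hc, hinj, hf⟩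
    refine ⟨c, fun Y i hi φ => ?_⟩
    haveI := hf
    haveI : ∀ n, Injective (I.X n) := hinj
    haveI hKI : I.IsKInjective := CochainComplex.isKInjective_of_injective I b
    apply Groth.Agent.Lib.Helper17.InjAmp.eq_zero_of_unshift (DerivedCategory.Q.obj K) i
    intro Z ψ
    obtain ⟨c', hc'⟩ := Groth.Agent.Lib.Helper17.InjAmp.exists_Q_map_eq
      ((HomologicalComplex.single A (ComplexShape.up ℤ) i).obj Z) I (ψ ≫ DerivedCategory.Q.map f)
    have hc0 : c' = 0 := by
      apply HomologicalComplex.from_single_hom_ext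
      exact (CochainComplex.isZero_of_isStrictlyLE I c i hi).eq_of_tgt _ _
    rw [hc0, Functor.map_zero] at hc'
    have h7 := congrArg (fun t => t ≫ inv (DerivedCategory.Q.map f)) hc'.symm
    simp only [Category.assoc, IsIso.hom_inv_id, Category.comp_id, zero_comp] at h7
    exact h7
  · rintro ⟨n₀, hvan⟩
    let m : ℤ := max n₀ a
    have hm₀ : n₀ ≤ m := le_max_left _ _
    have hma : a ≤ m := le_max_right _ _
    let P : A → Prop := fun Y => Injective Y
    have hP0 : ∃ Z : A, IsZero Z ∧ P Z := by
      obtain ⟨Z, hZ⟩ := HasZeroObject.zero (C := A)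
      exact ⟨Z, hZ, ⟨fun g f _ => ⟨0, hZ.eq_of_tgt _ _⟩⟩⟩
    have hl : Groth.Agent.Lib.Helper17.IRes.Hull P :=
      Groth.Agent.Lib.Helper17.IRes.Hull.ofExists (fun Y =>
        ⟨Injective.under Y, Injective.ι Y, inferInstance, inferInstance⟩)
    obtain ⟨I, α, hI, hIP, -, hα⟩ :=
      Groth.Agent.Lib.Helper17.IRes.exists_coresolution hP0 hl a K
    haveI := hα
    haveI : ∀ n, Injective (I.X n) := hIP
    haveI hKI : I.IsKInjective := CochainComplex.isKInjective_of_injective I a
    have hsec : ∀ i : ℤ, m < i → ∃ s : I.cycles i ⟶ I.X (i - 1),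
        s ≫ I.d (i - 1) i = I.iCycles i := by
      intro i hi
      have hv := Groth.Agent.Lib.Helper17.InjAmp.eq_zero_of_shift (DerivedCategory.Q.obj K) i
        (fun F φ => hvan F i (by lia) φ) _
        (DerivedCategory.Q.map (Groth.Agent.Lib.Helper17.InjAmp.cyclesToComplex I i) ≫
          inv (DerivedCategory.Q.map α))
      have h0 : DerivedCategory.Q.map (Groth.Agent.Lib.Helper17.InjAmp.cyclesToComplex I i) = 0 := by
        have h4 := congrArg (fun t => t ≫ DerivedCategory.Q.map α) hv
        simp only [Category.assoc, IsIso.inv_hom_id, Category.comp_id, zero_comp] at h4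
        exact h4
      obtain ⟨h⟩ := Groth.Agent.Lib.Helper17.InjAmp.homotopy_of_Q_map_eq_zero _ I _ h0
      exact Groth.Agent.Lib.Helper17.InjAmp.exists_section_of_homotopy I i h
    haveI hIb : I.IsLE m := by
      rw [CochainComplex.isLE_iff]
      intro i hi
      obtain ⟨s, hs⟩ := hsec i hi
      exact Groth.Agent.Lib.Helper17.InjAmp.exactAt_of_section I i s hs
    have hcyc : Injective (I.cycles m) := by
      obtain ⟨s, hs⟩ := hsec (m + 1) (by lia)
      have := Groth.Agent.Lib.Helper17.InjAmp.injective_cycles_of_section I (m + 1) s hs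
      rwa [show m + 1 - 1 = m by lia] at this
    have hJinj : ∀ n, Injective ((I.truncLE m).X n) := by
      intro n
      rcases lt_trichotomy n m with hn | hn | hn
      · exact Injective.of_iso (I.truncLEXIso m n hn).symm inferInstance
      · rw [hn]
        exact Injective.of_iso (I.truncLEXIsoCycles m).symm hcyc
      · have hz : IsZero ((I.truncLE m).X n) := CochainComplex.isZero_of_isStrictlyLE _ m n hn
        exact ⟨fun g f _ => ⟨0, hz.eq_of_tgt _ _⟩⟩
    haveI := hJinj
    haveI hJa : (I.truncLE m).IsStrictlyGE a := by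
      rw [CochainComplex.isStrictlyGE_iff]
      intro n hn
      exact IsZero.of_iso (CochainComplex.isZero_of_isStrictlyGE I a n hn)
        (I.truncLEXIso m n (by lia))
    haveI hKJ : (I.truncLE m).IsKInjective := CochainComplex.isKInjective_of_injective _ a
    obtain ⟨r, hr⟩ := Groth.Agent.Lib.Helper17.InjAmp.exists_Q_map_eq I (I.truncLE m)
      (inv (DerivedCategory.Q.map (I.ιTruncLE m)))
    have hrq : QuasiIso r := by
      rw [← DerivedCategory.isIso_Q_map_iff_quasiIso, hr]
      infer_instance
    refine ⟨I.truncLE m, a, m, α ≫ r, hJa, inferInstance, hJinj, ?_⟩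
    infer_instance

end Groth.Agent.S11153
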