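import Groth.Statements.S11159
import Mathlib
import Groth.Agent.Lib.Helper17.InjAmp

set_option autoImplicit false
universe w v u
open CategoryTheory CategoryTheory.Limits CategoryTheory.Pretriangulated
open CohDer

namespace Groth.Agent.S11159

/-- Let A be an abelian category with enough injectives and X ⟶ Y ⟶ Z ⟶ X⟦1⟧ a distinguished triangle in
D(A). If X and Z are each isomorphic in D(A) to a bounded complex of injective objects of A, then so
is Y. -/
theorem result {A : Type u} [Category.{v} A] [Abelian A]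
    [HasDerivedCategory.{w} A] [EnoughInjectives A]
    (T : Triangle (DerivedCategory A)) (hT : T ∈ distTriang (DerivedCategory A))
    (h₁ : (∃ (I : CochainComplex A ℤ) (b c : ℤ), I.IsStrictlyGE b ∧ I.IsStrictlyLE c ∧
        (∀ n : ℤ, Injective (I.X n)) ∧ Nonempty (T.obj₁ ≅ DerivedCategory.Q.obj I)))
    (h₃ : (∃ (I : CochainComplex A ℤ) (b c : ℤ), I.IsStrictlyGE b ∧ I.IsStrictlyLE c ∧
        (∀ n : ℤ, Injective (I.X n)) ∧ Nonempty (T.obj₃ ≅ DerivedCategory.Q.obj I))) :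
    (∃ (I : CochainComplex A ℤ) (b c : ℤ), I.IsStrictlyGE b ∧ I.IsStrictlyLE c ∧
        (∀ n : ℤ, Injective (I.X n)) ∧ Nonempty (T.obj₂ ≅ DerivedCategory.Q.obj I)) := by
  classical
  obtain ⟨I₁, b₁, c₁, hb₁, hc₁, hinj₁, ⟨e₁⟩⟩ := h₁
  obtain ⟨I₃, b₃, c₃, hb₃, hc₃, hinj₃, ⟨e₃⟩⟩ := h₃
  let a : ℤ := min b₁ b₃
  let b : ℤ := max (max c₁ c₃) a
  have hab : a ≤ b := le_max_right _ _
  have ha₁ : a ≤ b₁ := min_le_left _ _
  have ha₃ : a ≤ b₃ := min_le_right _ _
  have hb₁' : c₁ ≤ b := (le_max_left _ _).trans (le_max_left _ _)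
  have hb₃' : c₃ ≤ b := (le_max_right _ _).trans (le_max_left _ _)
  have v₁ := (Groth.Agent.Lib.Helper17.InjAmp.injAmp_iff T.obj₁ a b hab).2
    ⟨I₁, hinj₁, fun i hi => by
      rcases hi with hi | hi
      · exact CochainComplex.isZero_of_isStrictlyGE I₁ b₁ i (by lia)
      · exact CochainComplex.isZero_of_isStrictlyLE I₁ c₁ i (by lia), ⟨e₁.symm⟩⟩
  have v₃ := (Groth.Agent.Lib.Helper17.InjAmp.injAmp_iff T.obj₃ a b hab).2
    ⟨I₃, hinj₃, fun i hi => by
      rcases hi with hi | hi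
      · exact CochainComplex.isZero_of_isStrictlyGE I₃ b₃ i (by lia)
      · exact CochainComplex.isZero_of_isStrictlyLE I₃ c₃ i (by lia), ⟨e₃.symm⟩⟩
  have v₂ : ∀ (F : A) (i : ℤ), (i < a ∨ b < i) →
      ∀ φ : (DerivedCategory.singleFunctor A 0).obj F ⟶
        (shiftFunctor (DerivedCategory A) i).obj T.obj₂, φ = 0 := by
    intro F i hi φ
    have hTi := Triangle.shift_distinguished T hT i
    obtain ⟨ψ, hψ⟩ := Triangle.coyoneda_exact₂ _ hTi φ (v₃ F i hi _)
    rw [hψ, v₁ F i hi ψ]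
    exact zero_comp
  obtain ⟨I, hinj, hzero, ⟨e⟩⟩ := (Groth.Agent.Lib.Helper17.InjAmp.injAmp_iff T.obj₂ a b hab).1 v₂
  refine ⟨I, a, b, ?_, ?_, hinj, ⟨e.symm⟩⟩
  · rw [CochainComplex.isStrictlyGE_iff]
    intro i hi
    exact hzero i (Or.inl hi)
  · rw [CochainComplex.isStrictlyLE_iff]
    intro i hi
    exact hzero i (Or.inr hi)

end Groth.Agent.S11159
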