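import Groth.Statements.S11160
import Mathlib
import Groth.Agent.Lib.Helper17.IRes

set_option autoImplicit false
universe w w' v v' u u'
open CategoryTheory CategoryTheory.Limits
open CohDer

namespace Groth.Agent.S11160

/-- Let ι : A' ⥤ A be an exact fully faithful functor of abelian categories whose essential image is
closed under extensions (a thick abelian subcategory), and suppose every object of A' admits a
monomorphism into an object of A' whose image in A is injective (A' has enough A-injectives). Then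
the induced triangulated functor D(A') ⥤ D(A) is fully faithful on cohomologically bounded below
objects. -/
theorem result {A' : Type u'} [Category.{v'} A'] [Abelian A'] [HasDerivedCategory.{w'} A']
    {A : Type u} [Category.{v} A] [Abelian A] [HasDerivedCategory.{w} A]
    (ι : A' ⥤ A) [ι.Additive] [PreservesFiniteLimits ι] [PreservesFiniteColimits ι] [ι.Full] [ι.Faithful]
    (hext : ∀ S : ShortComplex A, S.ShortExact → ι.essImage S.X₁ → ι.essImage S.X₃ → ι.essImage S.X₂)
    (hinj : ∀ X' : A', ∃ (Y' : A') (i : X' ⟶ Y'), Mono i ∧ Injective (ι.obj Y'))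
    (X Y : DerivedCategory A') (a b : ℤ) [X.IsGE a] [Y.IsGE b] :
    Function.Bijective (fun f : X ⟶ Y => ι.mapDerivedCategory.map f) := by
  classical
  -- the class of objects of A' with injective image
  let P : A' → Prop := fun Y' => Injective (ι.obj Y')
  have hP0 : ∃ Z : A', IsZero Z ∧ P Z := by
    obtain ⟨Z, hZ⟩ := HasZeroObject.zero (C := A')
    refine ⟨Z, hZ, ?_⟩
    have hz : IsZero (ι.obj Z) := ι.map_isZero hZ
    exact ⟨fun g f _ => ⟨0, hz.eq_of_tgt _ _⟩⟩
  have hl : Groth.Agent.Lib.Helper17.IRes.Hull P :=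
    Groth.Agent.Lib.Helper17.IRes.Hull.ofExists (fun X' => by
      obtain ⟨Y', i, hi, hY⟩ := hinj X'
      exact ⟨Y', i, hY, hi⟩)
  -- representatives
  obtain ⟨L, hL, ⟨eY⟩⟩ := Y.exists_iso_Q_obj_of_isGE b
  obtain ⟨I, α, hI, hIP, -, hα⟩ :=
    Groth.Agent.Lib.Helper17.IRes.exists_coresolution hP0 hl b L
  haveI := hα
  let K : CochainComplex A' ℤ := DerivedCategory.Q.objPreimage X
  let eX : DerivedCategory.Q.obj K ≅ X := DerivedCategory.Q.objObjPreimageIso X
  let eY' : Y ≅ DerivedCategory.Q.obj I := eY ≪≫ asIso (DerivedCategory.Q.map α)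
  -- K-injectivity
  haveI : ∀ n, Injective (I.X n) := fun n => ι.injective_of_map_injective (hIP n)
  haveI hKI : I.IsKInjective := CochainComplex.isKInjective_of_injective I b
  let I₂ : CochainComplex A ℤ := (ι.mapHomologicalComplex (ComplexShape.up ℤ)).obj I
  haveI : ∀ n, Injective (I₂.X n) := fun n => hIP n
  haveI : I₂.IsStrictlyGE b := by
    dsimp only [I₂]; infer_instance
  haveI hKI₂ : I₂.IsKInjective := CochainComplex.isKInjective_of_injective I₂ b
  -- reduce to X₀ = Qh Kh, Y₀ = Qh Ih
  let Kh := (HomotopyCategory.quotient A' (ComplexShape.up ℤ)).obj K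
  let Ih := (HomotopyCategory.quotient A' (ComplexShape.up ℤ)).obj I
  let F := ι.mapDerivedCategory
  let eX₀ : X ≅ DerivedCategory.Qh.obj Kh :=
    eX.symm ≪≫ ((DerivedCategory.quotientCompQhIso A').app K).symm
  let eY₀ : Y ≅ DerivedCategory.Qh.obj Ih :=
    eY' ≪≫ ((DerivedCategory.quotientCompQhIso A').app I).symm
  -- the key bijection
  have key : Function.Bijective
      (fun φ : Kh ⟶ Ih => F.map (DerivedCategory.Qh.map φ)) := by
    have h := ι.mapDerivedCategoryFactorsh
    have e1 : (fun φ : Kh ⟶ Ih => F.map (DerivedCategory.Qh.map φ)) =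
        (fun ψ => h.hom.app Kh ≫ ψ ≫ h.inv.app Ih) ∘
          (fun χ : (ι.mapHomotopyCategory (ComplexShape.up ℤ)).obj Kh ⟶
              (ι.mapHomotopyCategory (ComplexShape.up ℤ)).obj Ih => DerivedCategory.Qh.map χ) ∘
          (fun φ : Kh ⟶ Ih => (ι.mapHomotopyCategory (ComplexShape.up ℤ)).map φ) := by
      funext φ
      have := h.hom.naturality φ
      dsimp at this ⊢
      rw [← reassoc_of% this]
      simp
      rfl
    rw [e1]
    refine Function.Bijective.comp ?_ (Function.Bijective.comp ?_ ?_)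
    · constructor
      · intro ψ₁ ψ₂ hψ
        dsimp at hψ
        simpa using hψ
      · intro ψ
        refine ⟨h.inv.app Kh ≫ ψ ≫ h.hom.app Ih, ?_⟩
        simp
        exact Category.comp_id _
    · exact CochainComplex.IsKInjective.Qh_map_bijective
        ((ι.mapHomotopyCategory (ComplexShape.up ℤ)).obj Kh) I₂
    · exact ⟨(ι.mapHomotopyCategory (ComplexShape.up ℤ)).map_injective,
        (ι.mapHomotopyCategory (ComplexShape.up ℤ)).map_surjective⟩
  have hQh : Function.Bijective (fun φ : Kh ⟶ Ih => DerivedCategory.Qh.map φ) :=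
    CochainComplex.IsKInjective.Qh_map_bijective Kh I
  have key₀ : Function.Bijective
      (fun g : DerivedCategory.Qh.obj Kh ⟶ DerivedCategory.Qh.obj Ih => F.map g) := by
    have : (fun φ : Kh ⟶ Ih => F.map (DerivedCategory.Qh.map φ)) =
        (fun g : DerivedCategory.Qh.obj Kh ⟶ DerivedCategory.Qh.obj Ih => F.map g) ∘
          (fun φ : Kh ⟶ Ih => DerivedCategory.Qh.map φ) := rfl
    rw [this] at key
    exact (Function.Bijective.of_comp_iff _ hQh).1 key
  constructor
  · intro f₁ f₂ hf
    dsimp at hf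
    have : eX₀.inv ≫ f₁ ≫ eY₀.hom = eX₀.inv ≫ f₂ ≫ eY₀.hom := by
      apply key₀.1
      dsimp only
      simp only [Functor.map_comp]
      rw [hf]
    simpa using this
  · intro g
    obtain ⟨g₀, hg₀⟩ := key₀.2 (F.map eX₀.inv ≫ g ≫ F.map eY₀.hom)
    refine ⟨eX₀.hom ≫ g₀ ≫ eY₀.inv, ?_⟩
    dsimp only at hg₀ ⊢
    have h1 : F.map eX₀.hom ≫ F.map eX₀.inv = 𝟙 _ := by
      rw [← F.map_comp, eX₀.hom_inv_id, F.map_id]
    have h2 : F.map eY₀.hom ≫ F.map eY₀.inv = 𝟙 _ := by
      rw [← F.map_comp, eY₀.hom_inv_id, F.map_id]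
    rw [F.map_comp, F.map_comp, hg₀]
    simp only [Category.assoc, h2]
    rw [reassoc_of% h1]
    exact Category.comp_id _

end Groth.Agent.S11160
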