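import Groth.Statements.S11165
import Groth.Agent.Lib.Helper5.RpushAb
import Groth.Agent.Lib.Helper22.Cech.AffineMorphism
import Groth.Agent.Lib.Helper22.CohTop.PushInjective
import Groth.Agent.Lib.Helper22.DimShiftIso

set_option autoImplicit false
universe u
open CategoryTheory CategoryTheory.Limits AlgebraicGeometry
open Coherent

namespace Groth.Agent.S11165

/-- Let f : X ⟶ Y be a separated morphism of schemes, U an open of X on which f restricts to an affine
morphism, i : U ⟶ X the inclusion and F a quasi-coherent O_X-module. Then i_*(F|_U) is acyclic for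
f_*: its higher direct images R^j f_* vanish for j > 0. (The binder asserting injective resolutions
of O_X-modules always holds.) -/
theorem result {X Y : Scheme.{u}} (f : X ⟶ Y) [IsSeparated f]
    (U : X.Opens) [IsAffineHom (U.ι ≫ f)] (F : X.Modules) (hF : Coh.IsQCoh F)
    [HasInjectiveResolutions X.Modules] (j : ℕ) (hj : 0 < j) :
    IsZero ((Coh.Rpush f j).obj ((Scheme.Modules.pushforward U.ι).obj ((Scheme.Modules.restrictFunctor U.ι).obj F))) := by
  haveI : IsAffineHom U.ι := IsAffineHom.of_comp U.ι f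
  haveI : F.IsQuasicoherent := hF
  let G : (U : Scheme.{u}).Modules := (Scheme.Modules.restrictFunctor U.ι).obj F
  haveI : G.IsQuasicoherent := inferInstanceAs (F.restrict U.ι).IsQuasicoherent
  obtain ⟨k, rfl⟩ : ∃ k, j = k + 1 := ⟨j - 1, by omega⟩
  have e0 : Coh.pushAb U.ι ⋙ Coh.pushAb f ≅ Coh.pushAb (U.ι ≫ f) := Iso.refl _
  obtain ⟨e1⟩ := Groth.Agent.Lib.Helper22.DimShift.nonempty_rightDerived_comp_iso
    (Coh.pushAb U.ι) (Coh.pushAb f) (Coh.pushAb (U.ι ≫ f)) e0
    (fun I hI => Groth.Agent.Lib.Helper22.CohTop.injective_push U.ι.base I) (k + 1) (Coh.toAb G)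
    (fun q => Groth.Agent.Lib.Helper22.Cech.isZero_RpushAb_succ U.ι G q)
  have hz1 : IsZero ((Coh.RpushAb f (k + 1)).obj ((Coh.pushAb U.ι).obj (Coh.toAb G))) :=
    (Groth.Agent.Lib.Helper22.Cech.isZero_RpushAb_succ (U.ι ≫ f) G k).of_iso e1
  obtain ⟨e2⟩ := Groth.Agent.Lib.Helper5.RpushAb.main f
    ((Scheme.Modules.pushforward U.ι).obj G) (k + 1)
  have hz2 : IsZero (Coh.toAb ((Coh.Rpush f (k + 1)).obj
      ((Scheme.Modules.pushforward U.ι).obj G))) := hz1.of_iso e2
  refine (IsZero.iff_id_eq_zero _).2 ?_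
  apply (SheafOfModules.toSheaf Y.ringCatSheaf).map_injective
  exact ((SheafOfModules.toSheaf Y.ringCatSheaf).map_id _).trans
    (((IsZero.iff_id_eq_zero _).1 hz2).trans
      ((SheafOfModules.toSheaf Y.ringCatSheaf).map_zero _ _).symm)

end Groth.Agent.S11165
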