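import Groth.Statements.S11180
import Mathlib
import Groth.Agent.Lib.Helper21.AdicNoetherian

set_option autoImplicit false
universe u
open scoped TensorProduct
open CAlg

namespace Groth.Agent.S11180

open IsLocalRing


/-- Let A be a Noetherian ring and M an A-module. If an element m of M is such that 1 ⊗ m = 0 in B ⊗_A M
for every A-algebra B which is a complete Noetherian local ring, flat over A, then m = 0.
(Equivalently the natural map from M to the limit of the modules B ⊗_A M over all such B is
injective.) -/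
theorem result (A : Type u) [CommRing A] [IsNoetherianRing A] (M : Type u) [AddCommGroup M] [Module A M] (m : M) (h : ∀ (B : Type u) [CommRing B] [Algebra A B] [IsNoetherianRing B] [IsLocalRing B], IsAdicComplete (IsLocalRing.maximalIdeal B) B → Module.Flat A B → (1 : B) ⊗ₜ[A] m = 0) : m = 0 := by
  by_contra hm
  let σ : A →ₗ[A] M := LinearMap.toSpanSingleton A M m
  let I : Ideal A := LinearMap.ker σ
  have hItop : I ≠ ⊤ := by
    intro htop
    have : (1 : A) ∈ I := by rw [htop]; trivial
    rw [LinearMap.mem_ker, LinearMap.toSpanSingleton_apply, one_smul] at this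
    exact hm this
  obtain ⟨𝔭, h𝔭, hI𝔭⟩ := Ideal.exists_le_maximal I hItop
  have : 𝔭.IsPrime := h𝔭.isPrime
  let Ap := Localization.AtPrime 𝔭
  let B := AdicCompletion (maximalIdeal Ap) Ap
  have hBN : IsNoetherianRing B :=
    Groth.Agent.Lib.Helper21.isNoetherianRing_adicCompletion_of_fg (maximalIdeal Ap)
      (maximalIdeal Ap).fg_of_isNoetherianRing
  have hflat1 : Module.Flat A Ap := IsLocalization.flat Ap 𝔭.primeCompl
  have hflat2 : Module.Flat Ap B := inferInstance
  have hflat : Module.Flat A B := Module.Flat.trans A Ap B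
  have h0 := h B inferInstance hflat
  -- ι : A/I ↪ M
  let ι : A ⧸ I →ₗ[A] M := I.liftQ σ le_rfl
  have hι : Function.Injective ι := by
    rw [← LinearMap.ker_eq_bot]
    exact Submodule.ker_liftQ_eq_bot _ _ _ le_rfl
  have hιB : Function.Injective (ι.lTensor B) :=
    Module.Flat.lTensor_preserves_injective_linearMap ι hι
  have h1 : (1 : B) ⊗ₜ[A] (Ideal.Quotient.mk I 1) = (0 : B ⊗[A] (A ⧸ I)) := by
    apply hιB
    rw [map_zero, LinearMap.lTensor_tmul]
    have : ι (Ideal.Quotient.mk I 1) = m := by
      change I.liftQ σ le_rfl (Submodule.Quotient.mk 1) = m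
      rw [Submodule.liftQ_apply, LinearMap.toSpanSingleton_apply, one_smul]
    rw [this]
    exact h0
  -- map to the residue field
  have hmem : ∀ a ∈ 𝔭, algebraMap A B a ∈ maximalIdeal B := by
    intro a ha
    have h2 : algebraMap A Ap a ∈ maximalIdeal Ap :=
      (IsLocalization.AtPrime.to_map_mem_maximal_iff Ap 𝔭 a).mpr ha
    have h3 : algebraMap A B a = algebraMap Ap B (algebraMap A Ap a) :=
      IsScalarTower.algebraMap_apply A Ap B a
    rw [h3]
    exact map_nonunit (algebraMap Ap B) _ h2
  let κ := ResidueField B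
  let ψ : A ⧸ I →ₗ[A] κ := I.liftQ (Algebra.linearMap A κ) (by
    intro a ha
    rw [LinearMap.mem_ker, Algebra.linearMap_apply, IsScalarTower.algebraMap_apply A B κ]
    exact (residue_eq_zero_iff _).mpr (hmem a (hI𝔭 ha)))
  let resB : B →ₗ[A] κ := (IsScalarTower.toAlgHom A B κ).toLinearMap
  let φ : B ⊗[A] (A ⧸ I) →ₗ[A] κ := TensorProduct.lift ((LinearMap.mul A κ).compl₁₂ resB ψ)
  have h2 : φ ((1 : B) ⊗ₜ[A] (Ideal.Quotient.mk I 1)) = 1 := by
    simp only [φ, TensorProduct.lift.tmul, LinearMap.compl₁₂_apply, LinearMap.mul_apply']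
    have e1 : resB 1 = 1 := map_one (IsScalarTower.toAlgHom A B κ)
    have e2 : ψ (Ideal.Quotient.mk I 1) = 1 := by
      change I.liftQ (Algebra.linearMap A κ) _ (Submodule.Quotient.mk 1) = 1
      rw [Submodule.liftQ_apply, Algebra.linearMap_apply, map_one]
    rw [e1, e2, mul_one]
  rw [h1, map_zero] at h2
  exact zero_ne_one h2

end Groth.Agent.S11180
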