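import Groth.Statements.S11188
-- import your own Groth.Agent.* helpers here
import Groth.Agent.Lib.Helper29.ObsK
import Groth.Agent.Lib.Helper29.ObsV

set_option autoImplicit false
universe u
open CategoryTheory MonoidalCategory CartesianMonoidalCategory MonObj GrpObj AlgebraicGeometry
open scoped TensorProduct
open AGF

namespace Groth.Agent.S11188

section Helpers

open Groth.Agent.Lib.Helper29.AffAttr Groth.Agent.Lib.Helper29.RTrans

variable {k : Type u} [Field k]

attribute [local instance] Groth.Agent.Lib.Helper29.AffAttr.algΓ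

theorem isRTransInv_comp {G H T : Over (Spec (CommRingCat.of k))} [GrpObj G] (h : T ⟶ H)
    (i : H ⟶ G) (f : Γ(G.left, ⊤)) (hf : AGF.IsRTransInv i f) : AGF.IsRTransInv (h ≫ i) f := by
  change appAlg ((G ◁ (h ≫ i)) ≫ μ[G]) f = appAlg (CartesianMonoidalCategory.fst G T) f
  have hf' : appAlg ((G ◁ i) ≫ μ[G]) f = appAlg (CartesianMonoidalCategory.fst G H) f := hf
  have h1 : (G ◁ (h ≫ i)) ≫ μ[G] = (G ◁ h) ≫ (G ◁ i) ≫ μ[G] := by
    rw [MonoidalCategory.whiskerLeft_comp, Category.assoc]
  have h2 : CartesianMonoidalCategory.fst G T = (G ◁ h) ≫ CartesianMonoidalCategory.fst G H := by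
    rw [whiskerLeft_fst]
  rw [h1, appAlg_comp, hf', ← appAlg_comp, ← h2]

theorem eval_eq_of_isRTransInv {G : Over (Spec (CommRingCat.of k))} [GrpObj G]
    (g : VecGrp.pt k k ⟶ G) (f : Γ(G.left, ⊤)) (hf : AGF.IsRTransInv g f) :
    (1 : VecGrp.pt k k ⟶ G).left.appTop f = g.left.appTop f := by
  rw [isRTransInv_iff] at hf
  have h1 : (1 : VecGrp.pt k k ⟶ G) ≫ rg g = g := by
    rw [rg, MonObj.comp_mul, Category.comp_id, ← Category.assoc,
      pt_ext ((1 : VecGrp.pt k k ⟶ G) ≫ tG G) (𝟙 _), Category.id_comp, _root_.one_mul]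
  change appAlg (1 : VecGrp.pt k k ⟶ G) f = appAlg g f
  rw [← h1, appAlg_comp, hf]

end Helpers

/-- (1) ⇔ (2) ⇔ (3): let k be an algebraically closed field, G a linear algebraic group over k (an
affine smooth group scheme over k) and H a closed subgroup of G (a smooth closed subgroup scheme, i
: H → G). The following are equivalent: (i) H is observable in G, i.e. a rational point of G whose
right translation fixes every right-H-invariant global function on G lies in H; (ii) there are a
finite-dimensional rational G-module V and a vector v in V whose stabiliser, on rational points, is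
H; (iii) there are finitely many right-H-invariant global functions on G which separate the cosets
gH: two rational points of G at which they all take the same values differ by right multiplication
by a rational point of H. -/
theorem result (k : Type u) [Field k] [IsAlgClosed k]
    (G : Over (Spec (CommRingCat.of k))) [GrpObj G] [IsAffine G.left] [Smooth G.hom]
    (H : Over (Spec (CommRingCat.of k))) [GrpObj H] [Smooth H.hom] (i : H ⟶ G) [IsMonHom i]
    [IsClosedImmersion i.left] :
    List.TFAE [
      AGF.IsObservableIn k i,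
      ∃ (V : Type u) (_ : AddCommGroup V) (_ : Module k V) (_ : Module.Finite k V) (ρ : VecGrp.GMod G V) (v : V),
        AGF.IsStabOnPts k i ρ v,
      ∃ s : Finset Γ(G.left, ⊤), (∀ f ∈ s, AGF.IsRTransInv i f) ∧
        ∀ g g' : VecGrp.pt k k ⟶ G, (∀ f ∈ s, g.left.appTop f = g'.left.appTop f) →
          ∃ h : VecGrp.pt k k ⟶ H, g' = g * (h ≫ i)] := by
  haveI : LocallyOfFiniteType G.hom := inferInstance
  haveI : IsLocallyNoetherian G.left := LocallyOfFiniteType.isLocallyNoetherian G.hom
  haveI : IsNoetherianRing Γ(G.left, ⊤) :=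
    IsLocallyNoetherian.component_noetherian ⟨⊤, isAffineOpen_top G.left⟩
  haveI : CompactSpace G.left := inferInstance
  haveI : QuasiSeparatedSpace G.left := inferInstance
  haveI : QuasiCompact G.hom := inferInstance
  haveI : QuasiCompact (G ⊗ G).hom := Groth.Agent.Lib.Helper29.LinRep.qc_tensor G G
  haveI : LocallyOfFiniteType (G ⊗ G).hom := Groth.Agent.Lib.Helper29.LinRep.lft_tensor G G
  haveI : CompactSpace (G ⊗ G).left := Groth.Agent.Lib.Helper29.LinRep.compact_left (G ⊗ G)
  haveI : QuasiSeparatedSpace (G ⊗ G).left := Groth.Agent.Lib.Helper29.LinRep.qs_left (G ⊗ G)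
  haveI : LocallyOfFiniteType H.hom := inferInstance
  haveI : AlgebraicGeometry.IsReduced H.left :=
    Groth.Agent.Lib.Helper14.isReduced_of_smooth_scheme H.hom
  tfae_have 1 → 2 := by
    intro hobs
    obtain ⟨s, hs1, hs2⟩ := Groth.Agent.Lib.Helper29.RTrans.exists_finset_determines G i
    obtain ⟨V, iV1, iV2, iV3, ρ, v, hv⟩ := Groth.Agent.Lib.Helper29.ObsV.exists_gmod_stab G s
    refine ⟨V, iV1, iV2, iV3, ρ, v, ?_⟩
    intro g
    rw [hv]
    constructor
    · intro h
      exact hobs g (hs2 g h)
    · rintro ⟨h, rfl⟩ f hf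
      exact isRTransInv_comp h i f (hs1 f hf)
  tfae_have 2 → 3 := by
    rintro ⟨V, iV1, iV2, iV3, ρ, v, hst⟩
    exact Groth.Agent.Lib.Helper29.ObsK.separates_of_stab i ρ v hst
  tfae_have 3 → 1 := by
    rintro ⟨s, hs1, hs2⟩ g hg
    obtain ⟨h, hh⟩ := hs2 1 g (fun f hf =>
      eval_eq_of_isRTransInv g f (hg f (hs1 f hf)))
    exact ⟨h, by rw [hh, _root_.one_mul]⟩
  tfae_finish

end Groth.Agent.S11188
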