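import Groth.Statements.S11198
-- import your own Groth.Agent.* helpers here
import Groth.Agent.Lib.Helper29.QuotDesc1
import Groth.Agent.Lib.Helper29.LinRep5

set_option autoImplicit false
universe u
open CategoryTheory MonoidalCategory CartesianMonoidalCategory MonObj GrpObj AlgebraicGeometry
open scoped TensorProduct
open AGF

namespace Groth.Agent.S11198

/-- Let k be an algebraically closed field, G a linear algebraic group over k and H₁ ⊆ H₂ ⊆ G closed
subgroups (smooth closed subgroup schemes i₁ : H₁ → H₂, i₂ : H₂ → G), such that the quotient H₂/H₁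
(the scheme X with H₂-action a and base point o) is proper over k and irreducible. Then a global
function on G is invariant under right translation by H₁ if and only if it is invariant under right
translation by H₂. -/
theorem result (k : Type u) [Field k] [IsAlgClosed k]
    (G : Over (Spec (CommRingCat.of k))) [GrpObj G] [IsAffine G.left] [Smooth G.hom]
    (H₂ : Over (Spec (CommRingCat.of k))) [GrpObj H₂] [Smooth H₂.hom] (i₂ : H₂ ⟶ G) [IsMonHom i₂] [IsClosedImmersion i₂.left]
    (H₁ : Over (Spec (CommRingCat.of k))) [GrpObj H₁] [Smooth H₁.hom] (i₁ : H₁ ⟶ H₂) [IsMonHom i₁] [IsClosedImmersion i₁.left]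
    (X : Over (Spec (CommRingCat.of k))) (a : AlgGrp.Action H₂ X) (o : 𝟙_ (Over (Spec (CommRingCat.of k))) ⟶ X) (hX : AGF.IsQuotient i₁ X a o)
    [IsProper X.hom] [IrreducibleSpace X.left] :
    AGF.rTransInv (i₁ ≫ i₂) = AGF.rTransInv i₂ := by
  haveI : IsAffine H₂.left := isAffine_of_isAffineHom i₂.left
  haveI : AlgebraicGeometry.IsReduced H₂.left :=
    Groth.Agent.Lib.Helper14.isReduced_of_smooth_scheme H₂.hom
  haveI : LocallyOfFiniteType G.hom := inferInstance
  haveI : LocallyOfFiniteType H₂.hom := inferInstance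
  haveI : LocallyOfFiniteType (G ⊗ H₂).hom := Groth.Agent.Lib.Helper29.LinRep.lft_tensor G H₂
  haveI : Smooth (G ⊗ H₂).hom :=
    inferInstanceAs (Smooth (Limits.pullback.fst G.hom H₂.hom ≫ G.hom))
  haveI : AlgebraicGeometry.IsReduced (G ⊗ H₂).left :=
    Groth.Agent.Lib.Helper14.isReduced_of_smooth_scheme (G ⊗ H₂).hom
  exact Groth.Agent.Lib.Helper29.QDesc.rTransInv_eq i₂ i₁ a o hX

end Groth.Agent.S11198
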