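import Groth.Statements.S11207
-- import your own Groth.Agent.* helpers here
import Groth.Agent.Lib.Helper29.TransP3
import Groth.Agent.Lib.Helper29.RegRep4

set_option autoImplicit false
universe u
open CategoryTheory MonoidalCategory CartesianMonoidalCategory MonObj GrpObj AlgebraicGeometry
open scoped TensorProduct
open AGF

namespace Groth.Agent.S11207

open Groth.Agent.Lib.Helper29.RegRep

attribute [local instance] Groth.Agent.Lib.Helper29.RegRep.algk

theorem fg_of_subringFG {k : Type u} [Field k] {G H : Over (Spec (CommRingCat.of k))}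
    [GrpObj G] [GrpObj H] (i : H ⟶ G)
    (h : AGF.SubringFGOver k G (AGF.rTransInv i)) : Algebra.FiniteType k (rInvAlg i) := by
  obtain ⟨s, hs1, hs2⟩ := h
  rw [← Subalgebra.fg_iff_finiteType]
  refine ⟨s, le_antisymm (Algebra.adjoin_le fun x hx => (mem_rInvAlg_iff i x).mpr (hs1 hx)) ?_⟩
  intro f hf
  have h1 := hs2 ((mem_rInvAlg_iff i f).mp hf)
  rw [← Subalgebra.mem_toSubring, Algebra.adjoin_eq_ring_closure]
  exact h1

theorem subringFG_of_fg {k : Type u} [Field k] {G H : Over (Spec (CommRingCat.of k))}
    [GrpObj G] [GrpObj H] (i : H ⟶ G)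
    (h : Algebra.FiniteType k (rInvAlg i)) : AGF.SubringFGOver k G (AGF.rTransInv i) := by
  rw [← Subalgebra.fg_iff_finiteType] at h
  obtain ⟨s, hs⟩ := h
  refine ⟨s, ?_, ?_⟩
  · intro x hx
    have h1 : x ∈ Algebra.adjoin k (↑s : Set Γ(G.left, ⊤)) := Algebra.subset_adjoin hx
    rw [hs] at h1
    exact (mem_rInvAlg_iff i x).mp h1
  · intro f hf
    have hf' : f ∈ rInvAlg i := (mem_rInvAlg_iff i f).mpr hf
    rw [← hs, ← Subalgebra.mem_toSubring, Algebra.adjoin_eq_ring_closure] at hf'
    exact hf'

theorem fixedSubalgebra_rreg_eq {k : Type u} [Field k] {G H : Over (Spec (CommRingCat.of k))}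
    [GrpObj G] [GrpObj H] [IsAffine G.left] (i : H ⟶ G) [IsMonHom i] :
    (rreg (𝟙 G)).fixedSubalgebra (rreg_isMult (𝟙 G)) i = rInvAlg i := by
  ext f
  constructor
  · intro hf
    apply (mem_rInvAlg_iff i f).mpr
    apply isRTransInv_of_mem_fixedUnder i f
    intro B _ _ h
    have h1 := hf B h
    rw [rreg_apply, Category.comp_id] at h1 ⊢
    exact h1
  · intro hf B _ _ h
    have h1 := mem_fixedUnder_of_isRTransInv i f ((mem_rInvAlg_iff i f).mp hf) B h
    rw [rreg_apply, Category.comp_id] at h1 ⊢
    exact h1

/-- (a) ⇔ (b): let k be an algebraically closed field, G a linear algebraic group over k whose identity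
component is reductive, and H a closed subgroup of G. Assume that invariants of reductive groups
over k on finitely generated algebras are finitely generated (a standard result, carried as a
hypothesis). Then k[G]^H is finitely generated over the constants if and only if, for every finitely
generated commutative k-algebra A with a rational action of G by algebra automorphisms, the algebra
of H-invariants A^H is finitely generated over k. -/
theorem result (k : Type u) [Field k] [IsAlgClosed k]
    (G : Over (Spec (CommRingCat.of k))) [GrpObj G] [IsAffine G.left] [Smooth G.hom]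
    (H : Over (Spec (CommRingCat.of k))) [GrpObj H] [Smooth H.hom] (i : H ⟶ G) [IsMonHom i]
    [IsClosedImmersion i.left]
    (hG : VecGrp.IsReductiveGrp k G) (thmA : VecGrp.ReductiveInvariantsFG k) :
    AGF.SubringFGOver k G (AGF.rTransInv i) ↔
      ∀ (A : Type u) [CommRing A] [Algebra k A] [Algebra.FiniteType k A] (ρ : VecGrp.GMod G A) (hρ : ρ.IsMult),
        Algebra.FiniteType k ↥(ρ.fixedSubalgebra hρ i) := by
  haveI : IsAffine H.left := isAffine_of_isAffineHom i.left
  constructor
  · intro ha A _ _ _ ρ hρ
    exact finiteType_fixed i ρ hρ (fg_of_subringFG i ha) hG thmA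
  · intro hb
    haveI : Algebra.FiniteType k Γ(G.left, ⊤) := finiteType_algk G
    have h1 := hb Γ(G.left, ⊤) (rreg (𝟙 G)) (rreg_isMult (𝟙 G))
    rw [fixedSubalgebra_rreg_eq] at h1
    exact subringFG_of_fg i h1

end Groth.Agent.S11207
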