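import Groth.Statements.S11217
import Mathlib

set_option autoImplicit false
universe u
open CategoryTheory MonoidalCategory CartesianMonoidalCategory MonObj GrpObj AlgebraicGeometry
open scoped TensorProduct
open AGF

namespace Groth.Agent.S11217

open MvPolynomial
open MvPolynomial

variable {k : Type u} [Field k]

theorem term_zero (s mu : Fin 7 →₀ ℕ) (p : MvPolynomial (Fin 7) k) (t : Fin 7) (h : mu t < s t) :
    coeff mu (monomial s 1 * p) = 0 := by
  rw [coeff_monomial_mul', if_neg]
  intro hle
  exact absurd (hle t) (not_le.mpr h)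

theorem term_main (s : Fin 7 →₀ ℕ) (j : Fin 7) (d : Fin 7 →₀ ℕ) (hd : 1 ≤ d j)
    (f : MvPolynomial (Fin 7) k) :
    coeff (d - Finsupp.single j 1 + s) (monomial s 1 * pderiv j f) = coeff d f * (d j : k) := by
  have hle : Finsupp.single j 1 ≤ d := Finsupp.single_le_iff.mpr hd
  rw [coeff_monomial_mul', if_pos le_add_self, add_tsub_cancel_right, _root_.one_mul, coeff_pderiv,
    tsub_add_cancel_of_le hle, Finsupp.tsub_apply, Finsupp.single_eq_same]
  congr 1
  have : ((d j - 1 : ℕ) : k) + 1 = ((d j - 1 + 1 : ℕ) : k) := by push_cast; ring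
  rw [this, Nat.sub_add_cancel hd]

theorem mkDer_eq (g : Fin 7 → MvPolynomial (Fin 7) k) (f : MvPolynomial (Fin 7) k) :
    mkDerivation k g f = ∑ i, g i * pderiv i f := by
  induction f using MvPolynomial.induction_on with
  | C a => simp
  | add p q hp hq => simp only [map_add, hp, hq, mul_add, Finset.sum_add_distrib]
  | mul_X p j hp =>
    rw [Derivation.leibniz, mkDerivation_X, hp]
    simp only [Derivation.leibniz, pderiv_X, smul_eq_mul, mul_add]
    rw [Finset.sum_add_distrib, Finset.mul_sum]
    congr 1
    · rw [Finset.sum_eq_single j]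
      · rw [Pi.single_eq_same]
        ring
      · intro i _ hi
        rw [Pi.single_eq_of_ne' hi]
        ring
      · intro h
        exact absurd (Finset.mem_univ j) h
    · refine Finset.sum_congr rfl fun i _ => ?_
      ring


/-- Let k be a field of characteristic zero and m ≥ 2; in the polynomial ring k[x, y, z, s, t, u, v]
(variables 0, …, 6) let δ be the k-derivation with δ(x) = δ(y) = δ(z) = 0, δ(s) = x^(m+1), δ(t) =
y^(m+1), δ(u) = z^(m+1), δ(v) = (xyz)^m, and grade by total degree in s, t, u, v. If f is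
homogeneous of degree n ≥ 1 for this grading and δ(f) = 0, then every coefficient of f, as a
polynomial in s, t, u, v over k[x, y, z], lies in the ideal (x, y, z): every monomial of f has
positive degree in x, y, z. (The published statement allows n = 0, where the constant 1 is a
counterexample; this row assumes n ≥ 1. The published definition of the derivation gives δ(v) =
(xyz)^(m+1), for which the assertion fails: v − (yz)^(m+1)·s is killed by δ and has the monomial v
with coefficient 1; this row uses δ(v) = (xyz)^m, the exponent of the published action formula and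
of the published examples of invariants.) -/
theorem result (k : Type u) [Field k] [CharZero k] (m : ℕ) (hm : 2 ≤ m) (n : ℕ) (hn : 1 ≤ n)
    (f : MvPolynomial (Fin 7) k)
    (hf : MvPolynomial.IsWeightedHomogeneous (![0, 0, 0, 1, 1, 1, 1] : Fin 7 → ℕ) f n)
    (hδ : MvPolynomial.mkDerivation k
      (![0, 0, 0, MvPolynomial.X 0 ^ (m + 1), MvPolynomial.X 1 ^ (m + 1), MvPolynomial.X 2 ^ (m + 1),
        (MvPolynomial.X 0 * MvPolynomial.X 1 * MvPolynomial.X 2) ^ m] : Fin 7 → MvPolynomial (Fin 7) k) f = 0) :
    ∀ d ∈ f.support, 0 < d 0 + d 1 + d 2 := by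
  intro d hd
  by_contra hcon
  have h0 : d 0 = 0 := by omega
  have h1 : d 1 = 0 := by omega
  have h2 : d 2 = 0 := by omega
  have hcoeff : coeff d f ≠ 0 := mem_support_iff.mp hd
  have hw := hf hcoeff
  rw [Finsupp.weight_apply, Finsupp.sum_fintype _ _ (fun i => by simp), Fin.sum_univ_seven] at hw
  simp only [smul_eq_mul, Matrix.cons_val_zero, Matrix.cons_val_one, Matrix.cons_val] at hw
  -- the derivation formula
  rw [mkDer_eq, Fin.sum_univ_seven] at hδ
  simp only [Matrix.cons_val_zero, Matrix.cons_val_one, Matrix.cons_val, zero_mul, zero_add] at hδ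
  have e3 : (X 0 : MvPolynomial (Fin 7) k) ^ (m + 1) = monomial (Finsupp.single 0 (m + 1)) 1 :=
    X_pow_eq_monomial
  have e4 : (X 1 : MvPolynomial (Fin 7) k) ^ (m + 1) = monomial (Finsupp.single 1 (m + 1)) 1 :=
    X_pow_eq_monomial
  have e5 : (X 2 : MvPolynomial (Fin 7) k) ^ (m + 1) = monomial (Finsupp.single 2 (m + 1)) 1 :=
    X_pow_eq_monomial
  have e6 : ((X 0 : MvPolynomial (Fin 7) k) * X 1 * X 2) ^ m =
      monomial (Finsupp.single 0 m + Finsupp.single 1 m + Finsupp.single 2 m) 1 := by
    rw [mul_pow, mul_pow, X_pow_eq_monomial, X_pow_eq_monomial, X_pow_eq_monomial, monomial_mul,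
      monomial_mul, _root_.mul_one, _root_.mul_one]
  rw [e3, e4, e5, e6] at hδ
  have hcoef : ∀ mu : Fin 7 →₀ ℕ, coeff mu
      (monomial (Finsupp.single 0 (m + 1)) 1 * pderiv 3 f +
        monomial (Finsupp.single 1 (m + 1)) 1 * pderiv 4 f +
        monomial (Finsupp.single 2 (m + 1)) 1 * pderiv 5 f +
        monomial (Finsupp.single 0 m + Finsupp.single 1 m + Finsupp.single 2 m) 1 * pderiv 6 f) = 0 := by
    intro mu
    rw [hδ, coeff_zero]
  have hne : ∀ j : Fin 7, 1 ≤ d j → coeff d f * (d j : k) ≠ 0 := by
    intro j hj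
    refine mul_ne_zero hcoeff ?_
    rw [Nat.cast_ne_zero]
    omega
  have hj : 1 ≤ d 3 ∨ 1 ≤ d 4 ∨ 1 ≤ d 5 ∨ 1 ≤ d 6 := by omega
  rcases hj with hj | hj | hj | hj
  · have := hcoef (d - Finsupp.single 3 1 + Finsupp.single 0 (m + 1))
    rw [coeff_add, coeff_add, coeff_add, term_main _ 3 d hj,
      term_zero _ _ _ 1 (by simp [h1]), term_zero _ _ _ 2 (by simp [h2]),
      term_zero _ _ _ 1 (by simp [h1]; omega)] at this
    simp only [add_zero] at this
    exact hne 3 hj this
  · have := hcoef (d - Finsupp.single 4 1 + Finsupp.single 1 (m + 1))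
    rw [coeff_add, coeff_add, coeff_add, term_main _ 4 d hj,
      term_zero _ _ _ 0 (by simp [h0]), term_zero _ _ _ 2 (by simp [h2]),
      term_zero _ _ _ 0 (by simp [h0]; omega)] at this
    simp only [add_zero, zero_add] at this
    exact hne 4 hj this
  · have := hcoef (d - Finsupp.single 5 1 + Finsupp.single 2 (m + 1))
    rw [coeff_add, coeff_add, coeff_add, term_main _ 5 d hj,
      term_zero _ _ _ 0 (by simp [h0]), term_zero _ _ _ 1 (by simp [h1]),
      term_zero _ _ _ 0 (by simp [h0]; omega)] at this
    simp only [add_zero, zero_add] at this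
    exact hne 5 hj this
  · have := hcoef (d - Finsupp.single 6 1 +
      (Finsupp.single 0 m + Finsupp.single 1 m + Finsupp.single 2 m))
    rw [coeff_add, coeff_add, coeff_add, term_main _ 6 d hj,
      term_zero _ _ _ 0 (by simp [h0]), term_zero _ _ _ 1 (by simp [h1]),
      term_zero _ _ _ 2 (by simp [h2])] at this
    simp only [add_zero, zero_add] at this
    exact hne 6 hj this

end Groth.Agent.S11217
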