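import Groth.Statements.S11218
import Mathlib
import Groth.Agent.Lib.Helper10.ProperQuot1

set_option autoImplicit false
universe u
open CategoryTheory MonoidalCategory CartesianMonoidalCategory MonObj GrpObj AlgebraicGeometry
open scoped TensorProduct
open AGF

namespace Groth.Agent.S11218

/-- Let k be an algebraically closed field, G a linear algebraic group over k (an affine smooth group
scheme over k) and H a closed subgroup of G (a smooth closed subgroup scheme, i : H → G), such that
the quotient G/H (the scheme Y with action b and base point o′) is proper over k (complete). Let G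
act on a variety X over k (separated, of finite type) and let x be a rational point of X; let Z ⊆ X
be the closure of the H-orbit of x. Then the closure of the G-orbit of x is G·Z, the image under the
action map of the preimage of Z in G × X. (The published statement takes X affine; the argument does
not use this, and this row drops it.) -/
theorem result (k : Type u) [Field k] [IsAlgClosed k]
    (G : Over (Spec (CommRingCat.of k))) [GrpObj G] [IsAffine G.left] [Smooth G.hom]
    (H : Over (Spec (CommRingCat.of k))) [GrpObj H] [Smooth H.hom] (i : H ⟶ G) [IsMonHom i]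
    [IsClosedImmersion i.left]
    (Y : Over (Spec (CommRingCat.of k))) (b : AlgGrp.Action G Y) (o' : 𝟙_ (Over (Spec (CommRingCat.of k))) ⟶ Y) (hY : AGF.IsQuotient i Y b o')
    [IsProper Y.hom]
    (X : Over (Spec (CommRingCat.of k))) [IsSeparated X.hom] [LocallyOfFiniteType X.hom] [QuasiCompact X.hom]
    (a : AlgGrp.Action G X) (x : 𝟙_ (Over (Spec (CommRingCat.of k))) ⟶ X) :
    closure (Set.range ⇑(a.orbitMap x).left.base) =
      ⇑a.act.left.base '' (⇑(snd G X).left.base ⁻¹' closure (Set.range ⇑(i ≫ a.orbitMap x).left.base)) := by
  haveI : LocallyOfFiniteType G.hom := inferInstance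
  let aH : AlgGrp.Action H X := a.restrict i
  have horb : aH.orbitMap x = i ≫ a.orbitMap x := by
    rw [AlgGrp.Action.comp_orbitMap]
    change CartesianMonoidalCategory.lift (𝟙 H) (toUnit H ≫ x) ≫ (i ▷ X) ≫ a.act = _
    rw [lift_whiskerRight_assoc, Category.id_comp]
  set O : Set ↥X.left := Set.range ⇑(a.orbitMap x).left.base with hOdef
  set Z : Set ↥X.left := closure (Set.range ⇑(i ≫ a.orbitMap x).left.base) with hZdef
  have hZst : Groth.Agent.Lib.Helper10.ClosedOrb.Stable aH Z := by
    rw [hZdef, ← horb]
    exact (Groth.Agent.Lib.Helper10.ClosedOrb.stable_range_orbitMap aH x).closure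
  have hOst : Groth.Agent.Lib.Helper10.ClosedOrb.Stable a O :=
    Groth.Agent.Lib.Helper10.ClosedOrb.stable_range_orbitMap a x
  have hcl := Groth.Agent.Lib.Helper10.ProperQuot.isClosed_act_image a i b o' hY Z isClosed_closure hZst
  have hZO : Z ⊆ closure O := by
    apply closure_mono
    rintro _ ⟨h, rfl⟩
    exact ⟨i.left h, rfl⟩
  apply Set.Subset.antisymm
  · apply closure_minimal _ hcl
    rintro _ ⟨g, rfl⟩
    refine ⟨(CartesianMonoidalCategory.lift (𝟙 G) (toUnit G ≫ x)).left g, ?_, rfl⟩
    change (CartesianMonoidalCategory.snd G X).left ((CartesianMonoidalCategory.lift (𝟙 G) (toUnit G ≫ x)).left g) ∈ Z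
    rw [← Scheme.Hom.comp_apply, ← Over.comp_left, CartesianMonoidalCategory.lift_snd]
    apply subset_closure
    have hx : η[H] ≫ i ≫ a.orbitMap x = x := by
      rw [← horb, AlgGrp.Action.comp_orbitMap, MonObj.one_eq_one]
      have : toUnit (𝟙_ (Over (Spec (CommRingCat.of k)))) = 𝟙 _ := toUnit_unique _ _
      rw [this, Category.id_comp, AlgGrp.Action.lift_one_act]
    refine ⟨η[H].left ((toUnit G).left g), ?_⟩
    rw [← Scheme.Hom.comp_apply, ← Over.comp_left, hx]
    rfl
  · rintro _ ⟨w, hw, rfl⟩
    exact hOst.closure w (hZO hw)

end Groth.Agent.S11218
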