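import Groth.Statements.S11221
import Mathlib

set_option autoImplicit false
universe u
open CategoryTheory MonoidalCategory CartesianMonoidalCategory MonObj GrpObj AlgebraicGeometry
open scoped TensorProduct
open AGF

namespace Groth.Agent.S11221

/-- Let R be a Noetherian integrally closed domain with fraction field K and let p be a prime ideal of R
of height one. Then there is f ∈ K which is not in R but lies in the local ring R_q ⊆ K of every
height-one prime q ≠ p (f = a/b with b ∉ q): a rational function on Spec R with a pole along V(p)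
only. (The published statement is for the coordinate ring of a normal affine variety; this row is
for any Noetherian integrally closed domain, which is all the argument uses.) -/
theorem result (R : Type u) [CommRing R] [IsDomain R] [IsNoetherianRing R] [IsIntegrallyClosed R]
    (p : Ideal R) [p.IsPrime] (hp : p.height = 1) :
    ∃ f : FractionRing R, f ∉ Set.range ⇑(algebraMap R (FractionRing R)) ∧
      ∀ q : Ideal R, q.IsPrime → q.height = 1 → q ≠ p →
        ∃ a b : R, b ∉ q ∧ f * algebraMap R (FractionRing R) b = algebraMap R (FractionRing R) a := by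
  classical
  have hpne : p ≠ ⊥ := Ideal.ne_bot_of_height_eq_one hp
  obtain ⟨a, hap, ha0⟩ := Submodule.exists_mem_ne_zero_of_ne_bot hpne
  have hfin : p.FiniteHeight := ⟨Or.inr (by rw [hp]; exact ENat.one_ne_top)⟩
  have hle : Ideal.span {a} ≤ p := (Ideal.span_singleton_le_iff_mem _).mpr hap
  have hmin : p ∈ (Ideal.span {a}).minimalPrimes := by
    apply Ideal.mem_minimalPrimes_of_height_le hle
    rw [hp]
    exact Ideal.one_le_height_span_singleton_of_mem_nonZeroDivisors
      (mem_nonZeroDivisors_of_ne_zero ha0)
  -- p is an associated prime of R ⧸ (a)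
  have hass : p ∈ associatedPrimes R (R ⧸ Ideal.span {a}) := by
    apply Module.associatedPrimes.minimalPrimes_annihilator_subset_associatedPrimes R (R ⧸ Ideal.span {a})
    rw [Ideal.annihilator_quotient]
    exact hmin
  obtain ⟨-, x, hx⟩ := (Submodule.isAssociatedPrime_iff).mp hass
  obtain ⟨b, rfl⟩ := Ideal.Quotient.mk_surjective x
  have hmem : ∀ r : R, r ∈ p ↔ r * b ∈ Ideal.span {a} := by
    intro r
    rw [hx, Submodule.mem_colon_singleton, Submodule.mem_bot, ← Ideal.Quotient.eq_zero_iff_mem]
    rfl
  have hb : b ∉ Ideal.span {a} := by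
    intro hb
    have : (1 : R) ∈ p := (hmem 1).mpr (by simpa using hb)
    exact (Ideal.IsPrime.ne_top inferInstance) ((Ideal.eq_top_iff_one p).mpr this)
  have ha' : algebraMap R (FractionRing R) a ≠ 0 := by
    simpa using ha0
  refine ⟨algebraMap R (FractionRing R) b / algebraMap R (FractionRing R) a, ?_, ?_⟩
  · rintro ⟨c, hc⟩
    apply hb
    rw [Ideal.mem_span_singleton]
    refine ⟨c, ?_⟩
    apply IsFractionRing.injective R (FractionRing R)
    rw [map_mul, hc]
    field_simp
  · intro q hq hq1 hqp
    -- p is not contained in q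
    have hnle : ¬ p ≤ q := by
      intro hpq
      have hfq : q.FiniteHeight := ⟨Or.inr (by rw [hq1]; exact ENat.one_ne_top)⟩
      exact hqp (Ideal.eq_of_le_of_height_le p hpq (by rw [hp, hq1])).symm
    obtain ⟨s, hsp, hsq⟩ := Set.not_subset.mp hnle
    obtain ⟨c, hc⟩ := Ideal.mem_span_singleton.mp ((hmem s).mp hsp)
    refine ⟨c, s, hsq, ?_⟩
    rw [div_mul_eq_mul_div, div_eq_iff ha', ← map_mul, ← map_mul]
    congr 1
    rw [mul_comm b s, hc, mul_comm]

end Groth.Agent.S11221
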