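import Groth.Statements.S11223
import Groth.Agent.Lib.Helper2.Graded
import Mathlib.RingTheory.MvPolynomial.Homogeneous
import Mathlib.RingTheory.MvPolynomial.Ideal
import Mathlib.RingTheory.Finiteness.Ideal
import Mathlib.RingTheory.IntegralClosure.IsIntegralClosure.Basic

set_option autoImplicit false
universe u
open CAlg

namespace Groth.Agent.S11223

/-- Let k be a field, let z_1, ..., z_m be homogeneous polynomials of positive degree in the polynomial
ring k[x_1, ..., x_n], and suppose the radical of the ideal (z_1, ..., z_m) is the ideal (x_1, ...,
x_n) generated by the variables. Then the polynomial ring is integral over the subalgebra generated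
by z_1, ..., z_m. (The published statement is over an algebraically closed field; this row takes any
field, which its proof allows.) -/
theorem result (k : Type u) [Field k] (n m : ℕ)
    (z : Fin m → MvPolynomial (Fin n) k) (d : Fin m → ℕ) (hd : ∀ i, 0 < d i)
    (hz : ∀ i, (z i).IsHomogeneous (d i))
    (hrad : (Ideal.span (Set.range z)).radical =
      Ideal.span (Set.range (MvPolynomial.X : Fin n → MvPolynomial (Fin n) k))) :
    Algebra.IsIntegral (Algebra.adjoin k (Set.range z)) (MvPolynomial (Fin n) k) := by
  classical
  let _ := MvPolynomial.gradedAlgebra (σ := Fin n) (R := k)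
  -- a power of the irrelevant ideal lies in Z
  obtain ⟨N', hN'⟩ : ∃ N' : ℕ, MvPolynomial.idealOfVars (Fin n) k ^ N' ≤ Ideal.span (Set.range z) := by
    have hfg : (Ideal.span (Set.range z)).radical.FG := by
      rw [hrad]
      exact MvPolynomial.idealOfVars_fg (Fin n) k
    obtain ⟨N', h⟩ := Ideal.exists_radical_pow_le_of_fg _ hfg
    rw [hrad] at h
    exact ⟨N', h⟩
  -- finite generating sets of the low-degree pieces
  have hfgD : ∀ D : ℕ, ∃ G : Finset (MvPolynomial (Fin n) k), Submodule.span k (G : Set (MvPolynomial (Fin n) k)) =
      MvPolynomial.homogeneousSubmodule (Fin n) k D :=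
    fun D => MvPolynomial.homogeneousSubmodule_fg (Fin n) k D
  choose G hG using hfgD
  let GG : Finset (MvPolynomial (Fin n) k) := (Finset.range N').biUnion G
  let T : Submodule (Algebra.adjoin k (Set.range z)) (MvPolynomial (Fin n) k) :=
    Submodule.span (Algebra.adjoin k (Set.range z)) (GG : Set (MvPolynomial (Fin n) k))
  have hlow : ∀ D < N', ∀ f ∈ MvPolynomial.homogeneousSubmodule (Fin n) k D, f ∈ T := by
    intro D hD f hf
    rw [← hG D] at hf
    have : Submodule.span k (G D : Set (MvPolynomial (Fin n) k)) ≤ T.restrictScalars k := by
      rw [Submodule.span_le]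
      intro g hg
      apply Submodule.subset_span
      simp only [GG, Finset.coe_biUnion, Set.mem_iUnion]
      exact ⟨D, Finset.mem_coe.mpr (Finset.mem_range.mpr hD), hg⟩
    exact this hf
  have key : ∀ D : ℕ, ∀ f ∈ MvPolynomial.homogeneousSubmodule (Fin n) k D, f ∈ T := by
    intro D
    induction D using Nat.strong_induction_on with
    | _ D ih =>
      intro f hf
      by_cases hD : D < N'
      · exact hlow D hD f hf
      · push Not at hD
        have hfZ : f ∈ Ideal.span (Set.range z) := by
          apply hN'
          rw [MvPolynomial.mem_pow_idealOfVars_iff]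
          intro x hx
          have hfh : f.IsHomogeneous D := hf
          have h1 := hfh (MvPolynomial.mem_support_iff.mp hx)
          have h2 : Finsupp.degree x = D := by
            have h3 := DFunLike.congr_fun (Finsupp.degree_eq_weight_one (R := ℕ) (σ := Fin n)) x
            rw [h3]
            exact h1
          rw [h2]
          exact hD
        refine Groth.Agent.Lib.Helper2.span_homogeneous_induction
          (MvPolynomial.homogeneousSubmodule (Fin n) k) (Set.range z) ?_ hf hfZ
          (fun y => y ∈ T) (zero_mem _) (fun a b => add_mem) ?_
        · rintro _ ⟨i, rfl⟩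
          exact ⟨d i, hz i⟩
        · rintro _ ⟨i, rfl⟩ d' k' c hd' hc hkd
          by_cases he0 : z i = 0
          · rw [he0, mul_zero]; exact zero_mem _
          have hdd : d' = d i := DirectSum.degree_eq_of_mem_mem
            (MvPolynomial.homogeneousSubmodule (Fin n) k) hd' (hz i) he0
          have hk' : k' < D := by
            have := hd i
            omega
          have hcT : c ∈ T := ih k' hk' c hc
          have : c * z i = (⟨z i, Algebra.subset_adjoin ⟨i, rfl⟩⟩ : Algebra.adjoin k (Set.range z)) • c := by
            rw [mul_comm]
            rfl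
          rw [this]
          exact T.smul_mem _ hcT
  have htop : T = ⊤ := by
    rw [eq_top_iff]
    intro x _
    rw [← DirectSum.sum_support_decompose (MvPolynomial.homogeneousSubmodule (Fin n) k) x]
    exact sum_mem fun i _ => key i _ (Submodule.coe_mem _)
  have hfin : Module.Finite (Algebra.adjoin k (Set.range z)) (MvPolynomial (Fin n) k) :=
    ⟨⟨GG, htop⟩⟩
  exact Algebra.IsIntegral.of_finite _ _

end Groth.Agent.S11223
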