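import Groth.Statements.S11233
import Mathlib.Algebra.MvPolynomial.Funext
import Mathlib.LinearAlgebra.Matrix.NonsingularInverse
import Mathlib.FieldTheory.IsAlgClosed.Basic

set_option autoImplicit false
universe u
open CAlg

namespace Groth.Agent.S11233

/-- Let k be an algebraically closed field, A an integral domain which is a k-algebra, T an m by m
matrix over A with invertible determinant, and let the additive group k^m act on the polynomial ring
A[y_1, ..., y_m] by the A-algebra maps y_s ↦ y_s + Σ_r h_r T_rs. Then the only invariant polynomials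
are the constants: a polynomial fixed by all these substitutions lies in A. -/
theorem result (k : Type u) [Field k] [IsAlgClosed k]
    (A : Type u) [CommRing A] [IsDomain A] [Algebra k A] (m : ℕ) (T : Matrix (Fin m) (Fin m) A)
    (hT : IsUnit T.det) (f : MvPolynomial (Fin m) A)
    (hf : ∀ h : Fin m → k, MvPolynomial.aeval
      (fun s : Fin m => MvPolynomial.X s + MvPolynomial.C (∑ r : Fin m, algebraMap k A (h r) * T r s)) f = f) :
    ∃ a : A, f = MvPolynomial.C a := by
  classical
  have h1 : ∀ h : Fin m → k,
      MvPolynomial.aeval (fun s => ∑ r, algebraMap k A (h r) * T r s) f =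
        MvPolynomial.aeval (0 : Fin m → A) f := by
    intro h
    have := congrArg (MvPolynomial.aeval (R := A) (0 : Fin m → A)) (hf h)
    rw [MvPolynomial.comp_aeval_apply] at this
    simpa using this
  have hinf : (Set.range (algebraMap k A)).Infinite := by
    have : Infinite k := IsAlgClosed.instInfinite
    exact Set.infinite_range_of_injective (algebraMap k A).injective
  have h2 : MvPolynomial.aeval (fun s => ∑ r, (MvPolynomial.X r : MvPolynomial (Fin m) A) *
      MvPolynomial.C (T r s)) f = MvPolynomial.C (MvPolynomial.aeval (0 : Fin m → A) f) := by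
    apply MvPolynomial.funext_set (fun _ => Set.range (algebraMap k A)) (fun _ => hinf)
    intro x hx
    choose h hh using fun i => hx i (Set.mem_univ i)
    rw [← MvPolynomial.aeval_eq_eval, MvPolynomial.comp_aeval_apply]
    simp only [map_sum, map_mul, MvPolynomial.aeval_X, MvPolynomial.aeval_C,
      Algebra.algebraMap_self, RingHom.id_apply]
    have := h1 h
    simp only [hh] at this
    exact this
  have h3 := congrArg (MvPolynomial.aeval (R := A)
    (fun r => ∑ t, (MvPolynomial.X t : MvPolynomial (Fin m) A) * MvPolynomial.C (T⁻¹ t r))) h2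
  rw [MvPolynomial.comp_aeval_apply] at h3
  have h4 : (fun s => (MvPolynomial.aeval (R := A)
      (fun r => ∑ t, (MvPolynomial.X t : MvPolynomial (Fin m) A) * MvPolynomial.C (T⁻¹ t r)))
      (∑ r, (MvPolynomial.X r : MvPolynomial (Fin m) A) * MvPolynomial.C (T r s))) =
      MvPolynomial.X := by
    funext s
    simp only [map_sum, map_mul, MvPolynomial.aeval_X, MvPolynomial.aeval_C,
      MvPolynomial.algebraMap_eq]
    simp only [Finset.sum_mul, mul_assoc, ← MvPolynomial.C_mul]
    rw [Finset.sum_comm]
    simp only [← Finset.mul_sum, ← map_sum]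
    have : ∀ t, ∑ r, T⁻¹ t r * T r s = (1 : Matrix (Fin m) (Fin m) A) t s := by
      intro t
      rw [← Matrix.nonsing_inv_mul T hT, Matrix.mul_apply]
    simp only [this, Matrix.one_apply]
    simp
  rw [h4, MvPolynomial.aeval_X_left_apply] at h3
  exact ⟨_, by simpa using h3⟩

end Groth.Agent.S11233
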