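import Groth.Statements.S11234
-- import your own Groth.Agent.* helpers here
import Groth.Agent.Lib.Helper29.Epi1

set_option autoImplicit false
universe u
open CategoryTheory MonoidalCategory CartesianMonoidalCategory MonObj GrpObj AlgebraicGeometry
open scoped TensorProduct
open AGF

namespace Groth.Agent.S11234

/-- Let k be an algebraically closed field, G a linear algebraic group over k (affine, smooth) and H a
smooth closed subgroup of G. The following are equivalent: (b) every global function on G invariant
under right translation by H is a constant; (c) for every rational G-module E, the H-invariants of E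
coincide with the G-invariants; (e) two homomorphisms from G to a linear algebraic group which agree
on H are equal. (The published list also contains the statement that H is epimorphic in the sense of
its hull under the stabilizer correspondence, and the statement that complementary H-stable
subspaces of a rational G-module are G-stable; this row states the other three.) -/
theorem result (k : Type u) [Field k] [IsAlgClosed k]
    (G : Over (Spec (CommRingCat.of k))) [GrpObj G] [IsAffine G.left] [Smooth G.hom]
    (H : Over (Spec (CommRingCat.of k))) [GrpObj H] [Smooth H.hom] (i : H ⟶ G) [IsMonHom i]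
    [IsClosedImmersion i.left] :
    List.TFAE [
      ∀ f : Γ(G.left, ⊤), ((G ◁ i) ≫ μ[G]).left.appTop f = (fst G H).left.appTop f →
        ∃ c : k, f = G.hom.appTop ((Scheme.ΓSpecIso (CommRingCat.of k)).inv c),
      ∀ (E : Type u) [AddCommGroup E] [Module k E] (ρ : VecGrp.GMod G E),
        ρ.fixedUnder i = ρ.fixedUnder (𝟙 G),
      ∀ (G' : Over (Spec (CommRingCat.of k))) [GrpObj G'] [IsAffine G'.left] [Smooth G'.hom]
        (r s : G ⟶ G') [IsMonHom r] [IsMonHom s], i ≫ r = i ≫ s → r = s] := by
  haveI : LocallyOfFiniteType G.hom := inferInstance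
  haveI : QuasiCompact G.hom := inferInstance
  haveI : CompactSpace G.left := inferInstance
  haveI : QuasiSeparatedSpace G.left := inferInstance
  haveI : QuasiCompact (G ⊗ G).hom := Groth.Agent.Lib.Helper29.LinRep.qc_tensor G G
  haveI : LocallyOfFiniteType (G ⊗ G).hom := Groth.Agent.Lib.Helper29.LinRep.lft_tensor G G
  haveI : CompactSpace (G ⊗ G).left := Groth.Agent.Lib.Helper29.LinRep.compact_left (G ⊗ G)
  haveI : QuasiSeparatedSpace (G ⊗ G).left := Groth.Agent.Lib.Helper29.LinRep.qs_left (G ⊗ G)
  haveI : IsAffine H.left := isAffine_of_isAffineHom i.left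
  haveI : CompactSpace H.left := inferInstance
  haveI : QuasiSeparatedSpace H.left := inferInstance
  have conv : (∀ f : Γ(G.left, ⊤), AGF.IsRTransInv i f →
      ∃ r : Γ(Spec (CommRingCat.of k), ⊤), G.hom.appTop.hom r = f) →
      ∀ f : Γ(G.left, ⊤), ((G ◁ i) ≫ μ[G]).left.appTop f = (fst G H).left.appTop f →
        ∃ c : k, f = G.hom.appTop ((Scheme.ΓSpecIso (CommRingCat.of k)).inv c) := by
    intro h f hf
    obtain ⟨r, hr⟩ := h f hf
    refine ⟨(Scheme.ΓSpecIso (CommRingCat.of k)).hom.hom r, ?_⟩
    have e : (Scheme.ΓSpecIso (CommRingCat.of k)).inv.hom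
        ((Scheme.ΓSpecIso (CommRingCat.of k)).hom.hom r) = r := by
      change ((Scheme.ΓSpecIso (CommRingCat.of k)).hom ≫
        (Scheme.ΓSpecIso (CommRingCat.of k)).inv).hom r = r
      rw [Iso.hom_inv_id]
      rfl
    change f = G.hom.appTop.hom ((Scheme.ΓSpecIso (CommRingCat.of k)).inv.hom
      ((Scheme.ΓSpecIso (CommRingCat.of k)).hom.hom r))
    rw [e]
    exact hr.symm
  tfae_have 1 → 2 := by
    intro hb E _ _ ρ
    exact Groth.Agent.Lib.Helper29.Epi.fixed_eq_of_const i ρ hb
  tfae_have 1 → 3 := by
    intro hb G' _ _ _ r s _ _ hrs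
    exact Groth.Agent.Lib.Helper29.Epi.epi_of_const i hb G' r s hrs
  tfae_have 2 → 1 := by
    intro hc
    apply conv
    intro f hf
    exact Groth.Agent.Lib.Helper29.LinRep.const_of_wv G i
      (fun J _ _ mm h1 hmul c hH j =>
        Groth.Agent.Lib.Helper29.Epi.wv_of_fixed G mm h1 hmul c i hc hH j) f hf
  tfae_have 3 → 1 := by
    intro he
    apply conv
    intro f hf
    exact Groth.Agent.Lib.Helper29.LinRep.const_of_wv G i
      (fun J _ _ mm h1 hmul c hH j =>
        Groth.Agent.Lib.Helper29.LinRep.wv_eq_zero_of_epi G mm h1 hmul c i he hH j) f hf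
  tfae_finish

end Groth.Agent.S11234
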