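import Groth.Statements.S11235
import Mathlib.Algebra.Polynomial.Roots
import Mathlib.RingTheory.Ideal.Maps
import Mathlib.FieldTheory.IsAlgClosed.Basic
import Mathlib.RingTheory.Ideal.Quotient.Basic

set_option autoImplicit false
universe u
open CAlg

namespace Groth.Agent.S11235

/-- Let k be an algebraically closed field, A a commutative k-algebra, α ∈ k, and M a maximal ideal of
the polynomial ring A[x] containing x - α. Let I ⊆ M be an ideal whose zero set in Spec A[x] is
invariant under the automorphisms x ↦ c·x, c ∈ k nonzero (equivalently: the image of I under each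
such A-algebra automorphism has the same radical as I). Then there is a maximal ideal of A[x]
containing I and x. -/
theorem result (k : Type u) [Field k] [IsAlgClosed k]
    (A : Type u) [CommRing A] [Algebra k A] (α : k)
    (M : Ideal (Polynomial A)) (hM : M.IsMaximal)
    (hα : Polynomial.X - Polynomial.C (algebraMap k A α) ∈ M)
    (I : Ideal (Polynomial A)) (hIM : I ≤ M)
    (hI : ∀ c : kˣ, (I.map (Polynomial.aeval (R := A)
      (algebraMap k A (c : k) • (Polynomial.X : Polynomial A)))).radical = I.radical) :
    ∃ N : Ideal (Polynomial A), N.IsMaximal ∧ I ≤ N ∧ Polynomial.X ∈ N := by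
  classical
  by_cases hα0 : α = 0
  · refine ⟨M, hM, hIM, ?_⟩
    simpa [hα0] using hα
  set α' : A := algebraMap k A α with hα'
  let m : Ideal A := M.comap (Polynomial.C : A →+* Polynomial A)
  -- evaluation at α' sends M into m
  have hev : ∀ f ∈ M, f.eval α' ∈ m := by
    intro f hf
    change Polynomial.C (f.eval α') ∈ M
    have hdvd : Polynomial.X - Polynomial.C α' ∣ f - Polynomial.C (f.eval α') :=
      Polynomial.X_sub_C_dvd_sub_C_eval
    have h1 : f - Polynomial.C (f.eval α') ∈ M := Ideal.mem_of_dvd M hdvd hα
    have h2 := M.sub_mem hf h1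
    simpa using h2
  have hm1 : (1 : A) ∉ m := by
    intro h1
    apply hM.ne_top
    rw [Ideal.eq_top_iff_one]
    have : Polynomial.C (1 : A) ∈ M := h1
    simpa using this
  have hmmax : m.IsMaximal := by
    rw [Ideal.isMaximal_iff]
    refine ⟨hm1, ?_⟩
    intro J a hmJ ham haJ
    have haM : Polynomial.C a ∉ M := ham
    obtain ⟨g, h, hh, hgh⟩ := hM.exists_inv haM
    have := congrArg (Polynomial.eval α') hgh
    simp only [Polynomial.eval_add, Polynomial.eval_mul, Polynomial.eval_C,
      Polynomial.eval_one] at this
    rw [← this]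
    exact J.add_mem (J.mul_mem_left _ haJ) (hmJ (hev h hh))
  -- key evaluation property
  have hkey : ∀ f ∈ I, ∀ c : kˣ, f.eval (algebraMap k A (c : k) * α') ∈ m := by
    intro f hf c
    have h1 : Polynomial.aeval (R := A) (algebraMap k A (c : k) • (Polynomial.X : Polynomial A)) f
        ∈ M := by
      have h2 : Polynomial.aeval (R := A)
          (algebraMap k A (c : k) • (Polynomial.X : Polynomial A)) f ∈
          (I.map (Polynomial.aeval (R := A)
            (algebraMap k A (c : k) • (Polynomial.X : Polynomial A)))).radical :=
        Ideal.le_radical (Ideal.mem_map_of_mem _ hf)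
      rw [hI c] at h2
      have h3 : I.radical ≤ M := by
        rw [← hM.isPrime.radical]
        exact Ideal.radical_mono hIM
      exact h3 h2
    have h4 := hev _ h1
    have h5 : (Polynomial.aeval (R := A)
        (algebraMap k A (c : k) • (Polynomial.X : Polynomial A)) f).eval α' =
        f.eval (algebraMap k A (c : k) * α') := by
      rw [Polynomial.aeval_def, Polynomial.algebraMap_eq, ← Polynomial.comp,
        Polynomial.eval_comp]
      simp [Algebra.smul_def]
    rwa [h5] at h4
  let N : Ideal (Polynomial A) := m.comap (Polynomial.evalRingHom (0 : A))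
  have hsurj : Function.Surjective (Polynomial.evalRingHom (0 : A)) := by
    intro a
    exact ⟨Polynomial.C a, by simp⟩
  refine ⟨N, Ideal.comap_isMaximal_of_surjective _ hsurj, ?_, ?_⟩
  · intro f hf
    change f.eval 0 ∈ m
    have : (m).IsMaximal := hmmax
    let _ : Field (A ⧸ m) := Ideal.Quotient.field m
    let fbar : Polynomial (A ⧸ m) := f.map (Ideal.Quotient.mk m)
    have hroots : ∀ c : kˣ, fbar.IsRoot (Ideal.Quotient.mk m (algebraMap k A (c : k) * α')) := by
      intro c
      rw [Polynomial.IsRoot, Polynomial.eval_map, Polynomial.eval₂_at_apply,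
        Ideal.Quotient.eq_zero_iff_mem]
      exact hkey f hf c
    have hinj : Set.InjOn
        (fun c : k => Ideal.Quotient.mk m (algebraMap k A c * α')) {c : k | c ≠ 0} := by
      intro c₁ _ c₂ _ h
      have h' : ((Ideal.Quotient.mk m).comp (algebraMap k A)) (c₁ * α) =
          ((Ideal.Quotient.mk m).comp (algebraMap k A)) (c₂ * α) := by
        simpa [hα'] using h
      have := ((Ideal.Quotient.mk m).comp (algebraMap k A)).injective h'
      exact mul_right_cancel₀ hα0 this
    have hkinf : Set.Infinite {c : k | c ≠ 0} := by
      have : Infinite k := IsAlgClosed.instInfinite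
      exact (Set.finite_singleton (0 : k)).infinite_compl
    have hinf : Set.Infinite {x | fbar.IsRoot x} := by
      refine Set.Infinite.mono ?_ (hkinf.image hinj)
      rintro _ ⟨c, hc, rfl⟩
      exact hroots (Units.mk0 c hc)
    have hzero : fbar = 0 := Polynomial.eq_zero_of_infinite_isRoot fbar hinf
    have hc0 : fbar.coeff 0 = 0 := by rw [hzero]; simp
    rw [Polynomial.coeff_map, Ideal.Quotient.eq_zero_iff_mem] at hc0
    rwa [← Polynomial.coeff_zero_eq_eval_zero]
  · change (Polynomial.X : Polynomial A).eval 0 ∈ m
    simp

end Groth.Agent.S11235
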