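import Groth.Statements.S11240
import Mathlib.LinearAlgebra.Matrix.Transvection
import Mathlib.LinearAlgebra.Matrix.Determinant.Basic
import Mathlib.Algebra.MvPolynomial.Eval

set_option autoImplicit false
universe u
open AGF

namespace Groth.Agent.S11240


lemma transvection_mul_apply {R : Type*} [CommRing R] {n m : ℕ} (i j : Fin n) (b : R)
    (X : Matrix (Fin n) (Fin m) R) (a : Fin n) (c : Fin m) :
    (Matrix.transvection i j b * X) a c = X a c + if a = i then b * X j c else 0 := by
  rw [Matrix.transvection, Matrix.add_mul, Matrix.one_mul, Matrix.add_apply]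
  congr 1
  by_cases h : a = i
  · subst h
    simp
  · simp [h, Matrix.single_mul_apply_of_ne]

/-- For a single root subgroup: let k be an algebraically closed field and X = (x_ab) the generic n × m
matrix over the polynomial ring k[x_ab]. Let i ≠ j be row indices and let I (rows) and J (columns)
be strictly increasing sequences of length p. The minor of X with rows I and columns J is invariant
under replacing X by (1 + b·E_ij)·X for every b ∈ k (the one-parameter unipotent group adding b
times row j to row i) if and only if j occurs in I whenever i does. (The published statement gives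
the criterion for the group generated by several such root subgroups, which is the conjunction of
these.) -/
theorem result (k : Type u) [Field k] [IsAlgClosed k] (n m p : ℕ)
    (i j : Fin n) (hij : i ≠ j) (I : Fin p ↪o Fin n) (J : Fin p ↪o Fin m) :
    (∀ b : k, ((Matrix.transvection i j (MvPolynomial.C b) *
        (Matrix.of fun a c => (MvPolynomial.X (a, c) : MvPolynomial (Fin n × Fin m) k))).submatrix I J).det =
        ((Matrix.of fun a c => (MvPolynomial.X (a, c) : MvPolynomial (Fin n × Fin m) k)).submatrix I J).det) ↔
      (i ∈ Set.range I → j ∈ Set.range I) := by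
  classical
  set X : Matrix (Fin n) (Fin m) (MvPolynomial (Fin n × Fin m) k) :=
    Matrix.of fun a c => (MvPolynomial.X (a, c) : MvPolynomial (Fin n × Fin m) k) with hX
  set A : Matrix (Fin p) (Fin p) (MvPolynomial (Fin n × Fin m) k) := X.submatrix I J with hA
  -- description when `i = I r₀`
  have hupd : ∀ (b : k) (r₀ : Fin p), I r₀ = i →
      (Matrix.transvection i j (MvPolynomial.C b) * X).submatrix I J =
        A.updateRow r₀ (A r₀ +
          (MvPolynomial.C b : MvPolynomial (Fin n × Fin m) k) • fun c => X j (J c)) := by
    intro b r₀ hr₀
    ext r c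
    rw [Matrix.submatrix_apply, transvection_mul_apply]
    by_cases hr : r = r₀
    · subst hr
      rw [Matrix.updateRow_self, if_pos hr₀]
      simp [hA]
    · rw [Matrix.updateRow_ne hr]
      have : I r ≠ i := by
        rw [← hr₀]
        exact fun h => hr (I.injective h)
      rw [if_neg this, add_zero]
      rfl
  constructor
  · intro hall hi
    obtain ⟨r₀, hr₀⟩ := hi
    by_contra hj
    have h1 := hall 1
    rw [hupd 1 r₀ hr₀, Matrix.det_updateRow_add, Matrix.det_updateRow_smul,
      Matrix.updateRow_eq_self, map_one, one_mul] at h1
    have hY : (A.updateRow r₀ (fun c => X j (J c))).det = 0 := by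
      have := h1
      rw [add_eq_left] at this
      exact this
    -- specialise the variables to get the identity matrix
    let I' : Fin p → Fin n := fun r => if r = r₀ then j else I r
    have hI'inj : Function.Injective I' := by
      intro r r' h
      simp only [I'] at h
      by_cases h1 : r = r₀ <;> by_cases h2 : r' = r₀
      · rw [h1, h2]
      · rw [if_pos h1, if_neg h2] at h
        exact (hj ⟨r', h.symm⟩).elim
      · rw [if_neg h1, if_pos h2] at h
        exact (hj ⟨r, h⟩).elim
      · rw [if_neg h1, if_neg h2] at h
        exact I.injective h
    let φ : MvPolynomial (Fin n × Fin m) k →ₐ[k] k :=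
      MvPolynomial.aeval (fun ac : Fin n × Fin m => if ∃ r, ac = (I' r, J r) then (1 : k) else 0)
    have hYentry : ∀ r c, (A.updateRow r₀ (fun c => X j (J c))) r c = MvPolynomial.X (I' r, J c) := by
      intro r c
      by_cases hr : r = r₀
      · subst hr
        rw [Matrix.updateRow_self]
        simp [I', hX]
      · rw [Matrix.updateRow_ne hr]
        simp [I', hr, hA, hX]
    have hφY : φ.mapMatrix (A.updateRow r₀ (fun c => X j (J c))) = 1 := by
      ext r c
      rw [AlgHom.mapMatrix_apply, Matrix.map_apply, hYentry, Matrix.one_apply]
      simp only [φ, MvPolynomial.aeval_X]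
      by_cases hrc : r = c
      · subst hrc
        rw [if_pos ⟨r, rfl⟩, if_pos rfl]
      · rw [if_neg hrc, if_neg]
        rintro ⟨r', hr'⟩
        rw [Prod.mk.injEq] at hr'
        have h3 := hI'inj hr'.1
        have h4 := J.injective hr'.2
        exact hrc (h3.trans h4.symm)
    have := congrArg φ hY
    rw [AlgHom.map_det, hφY, Matrix.det_one, map_zero] at this
    exact one_ne_zero this
  · intro himp b
    by_cases hi : i ∈ Set.range I
    · obtain ⟨r₀, hr₀⟩ := hi
      obtain ⟨r₁, hr₁⟩ := himp ⟨r₀, hr₀⟩
      have hne : r₀ ≠ r₁ := by
        intro h
        apply hij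
        rw [← hr₀, ← hr₁, h]
      rw [hupd b r₀ hr₀]
      have : (fun c => X j (J c)) = A r₁ := by
        funext c
        simp [hA, hr₁]
      rw [this]
      exact Matrix.det_updateRow_add_smul_self A hne _
    · congr 1
      ext r c
      rw [Matrix.submatrix_apply, transvection_mul_apply]
      have : I r ≠ i := fun h => hi ⟨r, h⟩
      rw [if_neg this, add_zero]
      rfl

end Groth.Agent.S11240
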