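import Groth.Statements.S11243
import Mathlib.LinearAlgebra.RootSystem.Base
import Mathlib.LinearAlgebra.RootSystem.Reduced

set_option autoImplicit false
universe u v w
open RootD

namespace Groth.Agent.S11243

/-- (b), for a connected group, as a statement about its root datum: let P be a finite reduced
crystallographic root pairing over ℤ with weight lattice M, and b a base of P (simple roots,
determining the positive roots). Then there is an additive map h : M → ℤ which is positive on every
positive root (so that h strictly increases along the dominance order) and non-negative on every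
dominant weight, i.e. on every ω ∈ M pairing non-negatively with all simple coroots. (Part (c),
invariance under the component group of a disconnected group, is not stated.) -/
theorem result {ι : Type u} {M : Type v} {N : Type w}
    [Fintype ι] [AddCommGroup M] [AddCommGroup N]
    (P : RootPairing ι ℤ M N) [P.IsReduced] [P.IsCrystallographic] (b : P.Base) :
    ∃ h : M →+ ℤ, (∀ i : ι, b.IsPos i → 0 < h (P.root i)) ∧
      ∀ ω : M, (∀ j ∈ b.support, 0 ≤ P.toLinearMap ω (P.coroot j)) → 0 ≤ h ω := by
  classical
  have htf : Module.IsTorsionFree ℤ N := by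
    have : Module.IsTorsionFree ℤ (Module.Dual ℤ M) := inferInstance
    exact Function.Injective.moduleIsTorsionFree (P.flip.toPerfPair)
      (P.flip.toPerfPair.injective) (fun r x => map_smul _ r x)
  have htfM : Module.IsTorsionFree ℤ M := by
    have : Module.IsTorsionFree ℤ (Module.Dual ℤ N) := inferInstance
    exact Function.Injective.moduleIsTorsionFree (P.toPerfPair)
      (P.toPerfPair.injective) (fun r x => map_smul _ r x)
  have hred : P.flip.IsReduced := inferInstance
  let b' : P.flip.Base := b.flip
  let Pos : Finset ι := Finset.univ.filter (fun i => b'.IsPos i)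
  let ρ : N := ∑ i ∈ Pos, P.coroot i
  let h : M →+ ℤ := (P.toLinearMap.flip ρ).toAddMonoidHom
  have hh : ∀ ω, h ω = ∑ i ∈ Pos, P.toLinearMap ω (P.coroot i) := by
    intro ω
    change P.toLinearMap ω ρ = _
    simp only [ρ, map_sum]
  have hinv : ∀ j i, P.reflectionPerm j (P.reflectionPerm j i) = i := fun j i =>
    P.reflectionPerm_self j i
  have hstep : ∀ j ∈ b.support, ∀ i, i ∈ Pos.erase j → P.reflectionPerm j i ∈ Pos.erase j := by
    intro j hj i hi
    rw [Finset.mem_erase] at hi ⊢
    obtain ⟨hij, hiPos⟩ := hi
    have hiPos' : b'.IsPos i := (Finset.mem_filter.mp hiPos).2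
    have h1 : b'.IsPos (P.flip.reflectionPerm j i) :=
      RootPairing.Base.IsPos.reflectionPerm hiPos' hj hij
    refine ⟨?_, Finset.mem_filter.mpr ⟨Finset.mem_univ _, h1⟩⟩
    intro heq
    have h2 : i = P.reflectionPerm j j := by
      rw [← hinv j i, heq]
    have h3 : b'.height (P.flip.reflectionPerm j j) = - b'.height j :=
      b'.height_reflectionPerm_self j
    have h4 : b'.height j = 1 := RootPairing.Base.height_one_of_mem_support hj
    have h5 : 0 < b'.height i := hiPos'
    rw [h2] at h5
    change 0 < b'.height (P.flip.reflectionPerm j j) at h5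
    rw [h3, h4] at h5
    omega
  have hsimple : ∀ j ∈ b.support, h (P.root j) = 2 := by
    intro j hj
    rw [hh]
    simp only [RootPairing.root_coroot_eq_pairing]
    have hjPos : j ∈ Pos := by
      refine Finset.mem_filter.mpr ⟨Finset.mem_univ _, ?_⟩
      exact b'.isPos_of_mem_support hj
    rw [← Finset.add_sum_erase _ _ hjPos, P.pairing_same]
    have hzero : ∑ i ∈ Pos.erase j, P.pairing j i = 0 := by
      have hperm : ∑ i ∈ Pos.erase j, P.pairing j (P.reflectionPerm j i) =
          ∑ i ∈ Pos.erase j, P.pairing j i := by
        apply Finset.sum_equiv (P.reflectionPerm j)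
        · intro i
          constructor
          · exact hstep j hj i
          · intro hi
            have := hstep j hj _ hi
            rwa [hinv] at this
        · intro i _
          rfl
      have hneg : ∀ i, P.pairing j (P.reflectionPerm j i) = - P.pairing j i := by
        intro i
        rw [P.pairing_reflectionPerm, P.pairing_reflectionPerm_self_left]
      simp only [hneg, Finset.sum_neg_distrib] at hperm
      omega
    rw [hzero, add_zero]
  refine ⟨h, ?_, ?_⟩
  · intro i hi
    obtain ⟨f, -, hf | hf⟩ := b.exists_root_eq_sum_nat_or_neg i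
    · have hf' : P.root i = ∑ j ∈ b.support, ((f j : ℕ) : ℤ) • P.root j := by
        rw [hf]
        simp
      have hht : b.height i = ∑ j ∈ b.support, ((f j : ℕ) : ℤ) :=
        RootPairing.Base.height_eq_sum hf'
      have hpos : 0 < b.height i := hi
      rw [hf', map_sum]
      have : ∀ j ∈ b.support, h (((f j : ℕ) : ℤ) • P.root j) = 2 * ((f j : ℕ) : ℤ) := by
        intro j hj
        rw [map_zsmul, hsimple j hj]
        simp [mul_comm]
      rw [Finset.sum_congr rfl this, ← Finset.mul_sum, ← hht]
      omega
    · have hf' : P.root i = ∑ j ∈ b.support, (-((f j : ℕ) : ℤ)) • P.root j := by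
        rw [hf]
        simp
      have hht : b.height i = ∑ j ∈ b.support, (-((f j : ℕ) : ℤ)) :=
        RootPairing.Base.height_eq_sum hf'
      have hpos : 0 < b.height i := hi
      have : ∑ j ∈ b.support, (-((f j : ℕ) : ℤ)) ≤ 0 :=
        Finset.sum_nonpos (fun j _ => by simp)
      omega
  · intro ω hω
    rw [hh]
    apply Finset.sum_nonneg
    intro i hi
    have hiPos' : b'.IsPos i := (Finset.mem_filter.mp hi).2
    obtain ⟨f, -, hf | hf⟩ := b'.exists_root_eq_sum_nat_or_neg i
    · have hf2 : P.coroot i = ∑ j ∈ b.support, f j • P.coroot j := hf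
      rw [hf2, map_sum]
      apply Finset.sum_nonneg
      intro j hj
      rw [map_nsmul]
      exact nsmul_nonneg (hω j hj) _
    · have hf' : P.flip.root i = ∑ j ∈ b'.support, (-((f j : ℕ) : ℤ)) • P.flip.root j := by
        rw [hf]
        simp
      have hht : b'.height i = ∑ j ∈ b'.support, (-((f j : ℕ) : ℤ)) :=
        RootPairing.Base.height_eq_sum hf'
      have hpos : 0 < b'.height i := hiPos'
      have : ∑ j ∈ b'.support, (-((f j : ℕ) : ℤ)) ≤ 0 :=
        Finset.sum_nonpos (fun j _ => by simp)
      omega

end Groth.Agent.S11243
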