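import Groth.Statements.S11244
import Mathlib
import Groth.Agent.Lib.Helper10.OrbitDim9

set_option autoImplicit false
universe u
open CategoryTheory MonoidalCategory CartesianMonoidalCategory MonObj GrpObj AlgebraicGeometry
open scoped TensorProduct
open AGF

namespace Groth.Agent.S11244

/-- Let k be an algebraically closed field, G a linear algebraic group over k (affine, smooth) acting on
an irreducible variety X over k (reduced, separated, of finite type). For a rational point x of X
let dim G·x be the dimension of the closure of its orbit. Then for every r the set of rational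
points x with dim G·x ≤ r is closed: there is a closed subset Z of X whose rational points are
exactly those x. (The second assertion, that the points of maximal orbit dimension form a dense open
subset, follows.) -/
theorem result (k : Type u) [Field k] [IsAlgClosed k]
    (G : Over (Spec (CommRingCat.of k))) [GrpObj G] [IsAffine G.left] [Smooth G.hom]
    (X : Over (Spec (CommRingCat.of k))) [IrreducibleSpace ↥X.left] [IsReduced X.left]
    [IsSeparated X.hom] [LocallyOfFiniteType X.hom] [QuasiCompact X.hom]
    (a : AlgGrp.Action G X) (r : ℕ) :
    ∃ Z : Set ↥X.left, IsClosed Z ∧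
      ∀ x : 𝟙_ (Over (Spec (CommRingCat.of k))) ⟶ X,
        topologicalKrullDim ↥(closure (Set.range ⇑(a.orbitMap x).left.base)) ≤ (r : WithBot ℕ∞) ↔
          Set.range ⇑x.left.base ⊆ Z := by
  haveI : LocallyOfFiniteType G.hom := inferInstance
  haveI : QuasiCompact G.hom := inferInstance
  let pt : ↥(𝟙_ (Over (Spec (CommRingCat.of k)))).left := IsLocalRing.closedPoint k
  obtain ⟨Z, hZcl, hZ⟩ :=
    Groth.Agent.Lib.Helper10.OrbitDim.exists_isClosed_dim_orbit_le a pt r
  refine ⟨Z, hZcl, fun x => ?_⟩
  change topologicalKrullDim ↥(closure (Set.range (a.orbitMap x).left)) ≤ (r : WithBot ℕ∞) ↔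
    Set.range x.left ⊆ Z
  rw [hZ x]
  constructor
  · rintro h _ ⟨q, rfl⟩
    rw [Groth.Agent.Lib.Helper10.IdComp.pt_eq k pt q]
    exact h
  · intro h
    exact h ⟨pt, rfl⟩

end Groth.Agent.S11244
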