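import Groth.Statements.S11257
import Groth.Agent.Lib.Helper16.RegSeqExact

set_option autoImplicit false
universe u
open W4bk4grassmannian

namespace Groth.Agent.S11257

section helpers
open W4bk4grassmannian

theorem result_aux (A : Type u) [CommRing A] [IsDomain A]
    [IsNoetherianRing A] [IsLocalRing A] (I J : Ideal A) (d : ℕ) (hd : 0 < d) (f : Fin d → A)
    (hf : ∀ k, f k ∈ IsLocalRing.maximalIdeal A)
    (hIJd : ((d - 1 : ℕ) : ℕ∞) ≤ LocCoh.depth A (A ⧸ (I ⊔ J)))
    (hId : (d : ℕ∞) ≤ LocCoh.depth A (A ⧸ I)) (hJd : (d : ℕ∞) ≤ LocCoh.depth A (A ⧸ J))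
    (hI : RingTheory.Sequence.IsRegular (A ⧸ I) (List.ofFn f))
    (hJ : RingTheory.Sequence.IsRegular (A ⧸ J) (List.ofFn f))
    (hIJ : RingTheory.Sequence.IsRegular (A ⧸ (I ⊔ J)) ((List.ofFn f).take (d - 1))) :
    RingTheory.Sequence.IsRegular (A ⧸ (I ⊓ J)) (List.ofFn f) := by
  classical
  let ι : (A ⧸ (I ⊓ J)) →ₗ[A] (A ⧸ I) × (A ⧸ J) :=
    Submodule.liftQ (I ⊓ J) (LinearMap.prod (Submodule.mkQ I) (Submodule.mkQ J)) (by
      intro a ha
      rw [LinearMap.mem_ker]
      show ((Submodule.Quotient.mk a : A ⧸ I), (Submodule.Quotient.mk a : A ⧸ J)) = 0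
      rw [Prod.mk_eq_zero]
      exact ⟨(Submodule.Quotient.mk_eq_zero _).mpr ha.1, (Submodule.Quotient.mk_eq_zero _).mpr ha.2⟩)
  let p₁ : (A ⧸ I) →ₗ[A] (A ⧸ (I ⊔ J)) := Submodule.mapQ I (I ⊔ J) LinearMap.id (by
        intro a ha; exact Submodule.mem_sup_left ha)
  let p₂ : (A ⧸ J) →ₗ[A] (A ⧸ (I ⊔ J)) := Submodule.mapQ J (I ⊔ J) LinearMap.id (by
        intro a ha; exact Submodule.mem_sup_right ha)
  let π : (A ⧸ I) × (A ⧸ J) →ₗ[A] (A ⧸ (I ⊔ J)) := LinearMap.coprod p₁ (-p₂)
  have hι : Function.Injective ι := by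
    rw [injective_iff_map_eq_zero]
    intro x hx
    obtain ⟨a, rfl⟩ := Submodule.mkQ_surjective _ x
    have h1 : ((Submodule.Quotient.mk a : A ⧸ I), (Submodule.Quotient.mk a : A ⧸ J)) = 0 := hx
    rw [Prod.mk_eq_zero, Submodule.Quotient.mk_eq_zero, Submodule.Quotient.mk_eq_zero] at h1
    exact (Submodule.Quotient.mk_eq_zero _).mpr ⟨h1.1, h1.2⟩
  have hπ : Function.Surjective π := by
    intro y
    obtain ⟨a, rfl⟩ := Submodule.mkQ_surjective _ y
    refine ⟨(Submodule.Quotient.mk a, 0), ?_⟩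
    show p₁ (Submodule.Quotient.mk a) + (-p₂) 0 = _
    rw [map_zero, add_zero]
    rfl
  have hex : Function.Exact ι π := by
    rintro ⟨x, y⟩
    obtain ⟨a, rfl⟩ := Submodule.mkQ_surjective _ x
    obtain ⟨b, rfl⟩ := Submodule.mkQ_surjective _ y
    have hπab : π (Submodule.Quotient.mk a, Submodule.Quotient.mk b) =
        Submodule.Quotient.mk (a - b) := by
      show p₁ (Submodule.Quotient.mk a) + (-p₂) (Submodule.Quotient.mk b) = _
      rw [LinearMap.neg_apply, Submodule.mapQ_apply, Submodule.mapQ_apply, ← sub_eq_add_neg,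
        LinearMap.id_apply, LinearMap.id_apply, ← Submodule.Quotient.mk_sub]
    show π (Submodule.Quotient.mk a, Submodule.Quotient.mk b) = 0 ↔ _
    rw [hπab, Submodule.Quotient.mk_eq_zero]
    constructor
    · intro hab
      obtain ⟨i, hi, j, hj, hij⟩ := Submodule.mem_sup.mp hab
      refine ⟨Submodule.Quotient.mk (a - i), ?_⟩
      show ((Submodule.Quotient.mk (a - i) : A ⧸ I), (Submodule.Quotient.mk (a - i) : A ⧸ J)) = _
      rw [Prod.mk.injEq]
      constructor
      · show (Submodule.Quotient.mk (a - i) : A ⧸ I) = Submodule.Quotient.mk a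
        rw [Submodule.Quotient.eq]
        have : a - i - a = -i := by ring
        rw [this]
        exact Submodule.neg_mem _ hi
      · show (Submodule.Quotient.mk (a - i) : A ⧸ J) = Submodule.Quotient.mk b
        rw [Submodule.Quotient.eq]
        have : a - i - b = j := by
          have h2 : j = a - b - i := by rw [← hij]; ring
          rw [h2]; ring
        rw [this]
        exact hj
    · rintro ⟨z, hz⟩
      obtain ⟨c, rfl⟩ := Submodule.mkQ_surjective _ z
      have h1 : ((Submodule.Quotient.mk c : A ⧸ I), (Submodule.Quotient.mk c : A ⧸ J)) =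
          (Submodule.Quotient.mk a, Submodule.Quotient.mk b) := hz
      rw [Prod.mk.injEq, Submodule.Quotient.eq, Submodule.Quotient.eq] at h1
      have : a - b = -(c - a) + (c - b) := by ring
      rw [this]
      exact Submodule.add_mem _ (Submodule.mem_sup_left (Submodule.neg_mem _ h1.1))
        (Submodule.mem_sup_right h1.2)
  have hN := Groth.Agent.Lib.Helper16.RegSeqExact.isWeaklyRegular_prod (List.ofFn f) (A ⧸ I) (A ⧸ J)
    hI.toIsWeaklyRegular hJ.toIsWeaklyRegular
  have hlen : (List.ofFn f).length - 1 = d - 1 := by rw [List.length_ofFn]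
  have hQ : RingTheory.Sequence.IsWeaklyRegular (A ⧸ (I ⊔ J))
      ((List.ofFn f).take ((List.ofFn f).length - 1)) := by
    rw [hlen]; exact hIJ.toIsWeaklyRegular
  have hM := Groth.Agent.Lib.Helper16.RegSeqExact.isWeaklyRegular_of_exact (List.ofFn f)
    (A ⧸ (I ⊓ J)) ((A ⧸ I) × (A ⧸ J)) (A ⧸ (I ⊔ J)) ι π hι hπ hex hN hQ
  have hnt : Nontrivial (A ⧸ (I ⊓ J)) := by
    have h1 : Nontrivial (A ⧸ I) := hI.nontrivial
    rw [Ideal.Quotient.nontrivial_iff] at h1 ⊢
    exact fun h => h1 (top_le_iff.mp (h ▸ inf_le_left))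
  exact RingTheory.Sequence.IsRegular.of_isWeaklyRegular_of_mem_maximalIdeal (A ⧸ (I ⊓ J))
    (by
      intro r hr
      rw [List.mem_ofFn] at hr
      obtain ⟨k, rfl⟩ := hr
      exact hf k) hM

end helpers

/-- Let A be a Noetherian local integral domain with maximal ideal m, I and J ideals of A, d ≥ 1, and
f_1, …, f_d ∈ m. Assume depth A/(I+J) ≥ d - 1, depth A/I ≥ d and depth A/J ≥ d (depths of the
quotients as A-modules), that f_1, …, f_d is a regular sequence on A/I and on A/J, and that f_1, …,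
f_{d-1} is a regular sequence on A/(I+J). Then f_1, …, f_d is a regular sequence on A/(I ∩ J). -/
theorem result (A : Type u) [CommRing A] [IsDomain A]
    [IsNoetherianRing A] [IsLocalRing A] (I J : Ideal A) (d : ℕ) (hd : 0 < d) (f : Fin d → A)
    (hf : ∀ k, f k ∈ IsLocalRing.maximalIdeal A)
    (hIJd : ((d - 1 : ℕ) : ℕ∞) ≤ LocCoh.depth A (A ⧸ (I ⊔ J)))
    (hId : (d : ℕ∞) ≤ LocCoh.depth A (A ⧸ I)) (hJd : (d : ℕ∞) ≤ LocCoh.depth A (A ⧸ J))
    (hI : RingTheory.Sequence.IsRegular (A ⧸ I) (List.ofFn f))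
    (hJ : RingTheory.Sequence.IsRegular (A ⧸ J) (List.ofFn f))
    (hIJ : RingTheory.Sequence.IsRegular (A ⧸ (I ⊔ J)) ((List.ofFn f).take (d - 1))) :
    RingTheory.Sequence.IsRegular (A ⧸ (I ⊓ J)) (List.ofFn f) := by
  exact result_aux A I J d hd f hf hIJd hId hJd hI hJ hIJ

end Groth.Agent.S11257
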