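import Groth.Statements.S1126
import Mathlib

set_option autoImplicit false
open CategoryTheory CategoryTheory.Limits AlgebraicGeometry Opposite
universe u
open Desc

namespace Groth.Agent.S1126

/-- If the base change of a morphism along a quasi-compact flat surjective morphism to its target is a
universal homeomorphism, then the morphism is a universal homeomorphism. (Stated for a single
quasi-compact flat surjective base change; combined with Zariski-locality on the target this gives
the fpqc-local form.) -/
theorem result :
    MorphismProperty.DescendsAlong (FlatMor.IsUnivHomeo.{u})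
      (@Surjective ⊓ @Flat ⊓ @QuasiCompact : MorphismProperty Scheme.{u}) := by
  have heq : FlatMor.IsUnivHomeo.{u} =
      (@UniversallyClosed ⊓ @UniversallyInjective ⊓ @Surjective : MorphismProperty Scheme.{u}) := by
    ext X Y f
    constructor
    · intro h
      refine ⟨⟨⟨?_⟩, ⟨?_⟩⟩, ?_⟩
      · intro X' Y' i₁ i₂ f' hpb
        exact (h i₁ i₂ f' hpb).isClosedMap
      · intro X' Y' i₁ i₂ f' hpb
        exact (h i₁ i₂ f' hpb).injective
      · exact ⟨(h _ _ _ IsPullback.of_id_snd).surjective⟩
    · rintro ⟨⟨h1, h2⟩, h3⟩
      intro X' Y' i₁ i₂ f' hpb
      have h1' : UniversallyClosed f' :=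
        MorphismProperty.of_isPullback (P := @UniversallyClosed) hpb.flip h1
      have h2' : UniversallyInjective f' :=
        MorphismProperty.of_isPullback (P := @UniversallyInjective) hpb.flip h2
      have h3' : Surjective f' :=
        MorphismProperty.of_isPullback (P := @Surjective) hpb.flip h3
      change IsHomeomorph f'
      rw [isHomeomorph_iff_continuous_isClosedMap_bijective]
      exact ⟨f'.continuous, f'.isClosedMap, f'.injective, f'.surjective⟩
  rw [heq]
  infer_instance

end Groth.Agent.S1126
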