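import Groth.Statements.S11271
import Mathlib

set_option autoImplicit false
universe u
open W4bk4grassmannian

namespace Groth.Agent.S11271

open W4bk4grassmannian in
/-- Semistable matrices are the matrices of full rank: let K be an algebraically closed field, 0 < d <
n, and let SL_d(K) act on n × d matrices by right multiplication; a matrix A is semistable when the
zero matrix is not in the Zariski closure of its orbit, i.e. when some polynomial in the entries
vanishes at A g for every g ∈ SL_d(K) but not at 0. Then A is semistable if and only if its columns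
are linearly independent. -/
theorem result (K : Type u) [Field K]
    [IsAlgClosed K] (d n : ℕ) (hd : 0 < d) (hdn : d < n) (A : Matrix (Fin n) (Fin d) K) :
    LinearIndependent K A.transpose ↔
      ∃ f : MatRing K d n, (∀ g : Matrix.SpecialLinearGroup (Fin d) K,
        MvPolynomial.eval (fun p : Fin n × Fin d => (A * (g : Matrix (Fin d) (Fin d) K)) p.1 p.2) f = 0) ∧
        MvPolynomial.eval (fun _ : Fin n × Fin d => (0 : K)) f ≠ 0 := by
  classical
  haveI : NeZero d := ⟨hd.ne'⟩
  constructor
  · intro hli
    -- left inverse
    have hinj : Function.Injective (Matrix.toLin' A) := by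
      have h1 : Function.Injective A.transpose.vecMul := Matrix.vecMul_injective_iff.2 hli
      intro x y hxy
      apply h1
      simpa [Matrix.vecMul_transpose] using hxy
    obtain ⟨g, hg⟩ := LinearMap.exists_leftInverse_of_injective (Matrix.toLin' A)
      (LinearMap.ker_eq_bot.2 hinj)
    let B : Matrix (Fin d) (Fin n) K := LinearMap.toMatrix' g
    have hBA : B * A = 1 := by
      have : LinearMap.toMatrix' (g ∘ₗ Matrix.toLin' A) = 1 := by
        rw [hg]; exact LinearMap.toMatrix'_id
      rw [LinearMap.toMatrix'_comp, LinearMap.toMatrix'_toLin'] at this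
      exact this
    let M : Matrix (Fin d) (Fin d) (MvPolynomial (Fin n × Fin d) K) :=
      Matrix.of fun i j => ∑ k : Fin n, MvPolynomial.C (B i k) * MvPolynomial.X (k, j)
    have hM : ∀ x : Fin n × Fin d → K, MvPolynomial.eval x M.det =
        (B * Matrix.of (fun k j => x (k, j))).det := by
      intro x
      rw [RingHom.map_det]
      congr 1
      ext i j
      simp [M, Matrix.mul_apply]
    refine ⟨M.det - 1, ?_, ?_⟩
    · intro g'
      rw [map_sub, map_one, hM]
      have : (Matrix.of fun k j => (A * (g' : Matrix (Fin d) (Fin d) K)) k j) =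
          A * (g' : Matrix (Fin d) (Fin d) K) := rfl
      rw [this, ← Matrix.mul_assoc, hBA, Matrix.one_mul, g'.2, sub_self]
    · rw [map_sub, map_one, hM]
      have h00 : (Matrix.of fun (k : Fin n) (j : Fin d) => (0 : K)) = 0 := rfl
      haveI hne : Nonempty (Fin d) := ⟨⟨0, hd⟩⟩
      rw [h00, Matrix.mul_zero, Matrix.det_zero]
      simp
  · rintro ⟨f, hf, hf0⟩
    by_contra hli
    rw [Fintype.not_linearIndependent_iff] at hli
    obtain ⟨v, hv, i₀, hi₀⟩ := hli
    have hAv : A.mulVec v = 0 := by
      ext k
      have := congrFun hv k
      simp only [Finset.sum_apply, Pi.smul_apply, Matrix.transpose_apply, smul_eq_mul,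
        Pi.zero_apply] at this
      rw [Pi.zero_apply, ← this]
      simp [Matrix.mulVec, dotProduct, mul_comm]
    let w : Fin d → K := Pi.single i₀ (v i₀)⁻¹
    have hwv : w ⬝ᵥ v = 1 := by
      simp [w, inv_mul_cancel₀ hi₀]
    have key : ∀ t : K, t ≠ 0 →
        MvPolynomial.eval (fun p : Fin n × Fin d => t * A p.1 p.2) f = 0 := by
      intro t ht
      let c : K := t⁻¹ ^ (d - 1) - t
      let h : Matrix (Fin d) (Fin d) K := t • (1 : Matrix (Fin d) (Fin d) K) + c • Matrix.vecMulVec v w
      have hdet : h.det = 1 := by
        have h1 : h = t • ((1 : Matrix (Fin d) (Fin d) K) +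
            Matrix.replicateCol Unit ((c / t) • v) * Matrix.replicateRow Unit w) := by
          ext i j
          simp [h, Matrix.vecMulVec_apply, Matrix.mul_apply, mul_add]
          field_simp
        rw [h1, Matrix.det_smul, Matrix.det_one_add_replicateCol_mul_replicateRow,
          dotProduct_smul, hwv, Fintype.card_fin]
        simp only [c, smul_eq_mul, mul_one]
        have hd' : d = (d - 1) + 1 := by omega
        have : (1 : K) + (t⁻¹ ^ (d - 1) - t) / t = t⁻¹ ^ d := by
          rw [sub_div, div_self ht]
          conv_rhs => rw [hd', pow_succ]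
          rw [div_eq_mul_inv]; ring
        rw [this, ← mul_pow, mul_inv_cancel₀ ht, one_pow]
      have hAh : A * h = t • A := by
        simp only [h, Matrix.mul_add, Matrix.mul_smul, Matrix.mul_one, Matrix.mul_vecMulVec, hAv]
        ext i j
        simp [Matrix.vecMulVec]
      have := hf ⟨h, hdet⟩
      simp only [hAh] at this
      simpa using this
    let p : Polynomial K := MvPolynomial.aeval
      (fun q : Fin n × Fin d => Polynomial.C (A q.1 q.2) * Polynomial.X) f
    have hp : ∀ t : K, p.eval t = MvPolynomial.eval (fun q : Fin n × Fin d => t * A q.1 q.2) f := by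
      intro t
      have h2 : (Polynomial.evalRingHom t).comp
          (MvPolynomial.aeval (fun q : Fin n × Fin d => Polynomial.C (A q.1 q.2) * Polynomial.X) :
            MvPolynomial (Fin n × Fin d) K →ₐ[K] Polynomial K).toRingHom =
          MvPolynomial.eval (fun q : Fin n × Fin d => t * A q.1 q.2) := by
        apply MvPolynomial.ringHom_ext
        · intro a
          simp only [RingHom.coe_comp, Function.comp_apply, AlgHom.toRingHom_eq_coe, RingHom.coe_coe,
            MvPolynomial.aeval_C, MvPolynomial.eval_C, Polynomial.coe_evalRingHom,
            Polynomial.algebraMap_apply, Polynomial.eval_C, Algebra.algebraMap_self, RingHom.id_apply]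
        · intro q
          simp only [RingHom.coe_comp, Function.comp_apply, AlgHom.toRingHom_eq_coe, RingHom.coe_coe,
            MvPolynomial.aeval_X, MvPolynomial.eval_X, Polynomial.coe_evalRingHom,
            Polynomial.eval_mul, Polynomial.eval_C, Polynomial.eval_X]
          ring
      exact congrArg (fun φ => φ f) h2
    have hp0 : p = 0 := by
      apply Polynomial.eq_zero_of_infinite_isRoot
      apply Set.Infinite.mono (s := {(0 : K)}ᶜ)
      · intro t ht
        change p.eval t = 0
        rw [hp]
        exact key t ht
      · exact (Set.finite_singleton (0 : K)).infinite_compl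
    apply hf0
    have h0 := hp 0
    rw [hp0, Polynomial.eval_zero] at h0
    have h1 : (fun q : Fin n × Fin d => (0 : K) * A q.1 q.2) = fun _ => 0 := by
      funext q; simp
    rw [h1] at h0
    exact h0.symm

end Groth.Agent.S11271
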