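import Groth.Statements.S11276
import Groth.Agent.Lib.Helper16.GrVertex
import Groth.Agent.Lib.Helper16.CMInf

set_option autoImplicit false
universe u v
open W4bk4grassmannian

namespace Groth.Agent.S11276

section helpers
open W4bk4grassmannian

theorem result_aux (K : Type u) [Field K] (A : Type v) [CommRing A]
    [Algebra K A] [IsNoetherianRing A] (𝒜 : ℕ → Submodule K A) [GradedAlgebra 𝒜]
    (h0 : ∀ a ∈ 𝒜 0, ∃ c : K, algebraMap K A c = a) (I J : Ideal A) (hI : I.IsHomogeneous 𝒜)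
    (hJ : J.IsHomogeneous 𝒜) (e : ℕ) (he : 1 ≤ e)
    (hIcm : LocCoh.IsCohenMacaulayRing (A ⧸ I)) (hJcm : LocCoh.IsCohenMacaulayRing (A ⧸ J))
    (hIJcm : LocCoh.IsCohenMacaulayRing (A ⧸ (I ⊔ J)))
    (hIdim : ringKrullDim (A ⧸ I) = (e : WithBot ℕ∞)) (hJdim : ringKrullDim (A ⧸ J) = (e : WithBot ℕ∞))
    (hIJdim : ringKrullDim (A ⧸ (I ⊔ J)) = ((e - 1 : ℕ) : WithBot ℕ∞))
    [hm : ((HomogeneousIdeal.irrelevant 𝒜).toIdeal.map (Ideal.Quotient.mk (I ⊓ J))).IsPrime] :
    LocCoh.IsCohenMacaulayLocalRing (Localization.AtPrime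
        ((HomogeneousIdeal.irrelevant 𝒜).toIdeal.map (Ideal.Quotient.mk (I ⊓ J)))) ∧
      ringKrullDim (Localization.AtPrime
        ((HomogeneousIdeal.irrelevant 𝒜).toIdeal.map (Ideal.Quotient.mk (I ⊓ J)))) = (e : WithBot ℕ∞) := by
  classical
  have hsurjI : Function.Surjective (Ideal.Quotient.mk I) := Ideal.Quotient.mk_surjective
  have hsurjJ : Function.Surjective (Ideal.Quotient.mk J) := Ideal.Quotient.mk_surjective
  have hsurjIJ : Function.Surjective (Ideal.Quotient.mk (I ⊔ J)) := Ideal.Quotient.mk_surjective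
  have hsurjinf : Function.Surjective (Ideal.Quotient.mk (I ⊓ J)) := Ideal.Quotient.mk_surjective
  have hbot : ∀ n : ℕ, ((n : ℕ) : WithBot ℕ∞) ≠ ⊥ := fun n => WithBot.natCast_ne_bot n
  have htop_of : ∀ (X : Ideal A) (n : ℕ), ringKrullDim (A ⧸ X) = (n : WithBot ℕ∞) → X ≠ ⊤ := by
    intro X n hX h
    have hsub : Subsingleton (A ⧸ X) := by
      rw [h]
      exact Ideal.Quotient.subsingleton_iff.mpr rfl
    rw [ringKrullDim_eq_bot_of_subsingleton] at hX
    exact hbot n hX.symm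
  have hItop : I ≠ ⊤ := htop_of I e hIdim
  have hJtop : J ≠ ⊤ := htop_of J e hJdim
  have hIJtop : I ⊔ J ≠ ⊤ := htop_of (I ⊔ J) (e - 1) hIJdim
  have hnt : Nontrivial A := by
    by_contra hcon
    rw [not_nontrivial_iff_subsingleton] at hcon
    exact hItop (Subsingleton.elim _ _)
  have hmax : (HomogeneousIdeal.irrelevant 𝒜).toIdeal.IsMaximal :=
    Groth.Agent.Lib.Helper16.GrVertex.irrelevant_isMaximal 𝒜 h0
  have hIJhom : (I ⊔ J).IsHomogeneous 𝒜 := hI.sup hJ
  have hIm : I ≤ (HomogeneousIdeal.irrelevant 𝒜).toIdeal :=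
    Groth.Agent.Lib.Helper16.GrVertex.le_irrelevant_of_isHomogeneous 𝒜 h0 I hI hItop
  have hJm : J ≤ (HomogeneousIdeal.irrelevant 𝒜).toIdeal :=
    Groth.Agent.Lib.Helper16.GrVertex.le_irrelevant_of_isHomogeneous 𝒜 h0 J hJ hJtop
  have hIJm : I ⊔ J ≤ (HomogeneousIdeal.irrelevant 𝒜).toIdeal := sup_le hIm hJm
  have hI' : ((HomogeneousIdeal.irrelevant 𝒜).toIdeal.map (Ideal.Quotient.mk I)).IsPrime :=
    Ideal.map_isPrime_of_surjective hsurjI (by rwa [Ideal.mk_ker])
  have hJ' : ((HomogeneousIdeal.irrelevant 𝒜).toIdeal.map (Ideal.Quotient.mk J)).IsPrime :=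
    Ideal.map_isPrime_of_surjective hsurjJ (by rwa [Ideal.mk_ker])
  have hIJ' : ((HomogeneousIdeal.irrelevant 𝒜).toIdeal.map (Ideal.Quotient.mk (I ⊔ J))).IsPrime :=
    Ideal.map_isPrime_of_surjective hsurjIJ (by rwa [Ideal.mk_ker])
  -- depth of the three Cohen–Macaulay localizations
  have hdepth : ∀ (X : Ideal A) (hX : X.IsHomogeneous 𝒜) (hXtop : X ≠ ⊤) (n : ℕ)
      (hXdim : ringKrullDim (A ⧸ X) = (n : WithBot ℕ∞))
      [hX' : ((HomogeneousIdeal.irrelevant 𝒜).toIdeal.map (Ideal.Quotient.mk X)).IsPrime]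
      (hcm : LocCoh.IsCohenMacaulayLocalRing (Localization.AtPrime
        ((HomogeneousIdeal.irrelevant 𝒜).toIdeal.map (Ideal.Quotient.mk X)))),
      (n : ℕ∞) ≤ LocCoh.depth (Localization.AtPrime
        ((HomogeneousIdeal.irrelevant 𝒜).toIdeal.map (Ideal.Quotient.mk X)))
        (Localization.AtPrime
        ((HomogeneousIdeal.irrelevant 𝒜).toIdeal.map (Ideal.Quotient.mk X))) := by
    intro X hX hXtop n hXdim hX' hcm
    have h1 := hcm.supportDim_eq_depth
    rw [Module.supportDim_self_eq_ringKrullDim,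
      IsLocalization.AtPrime.ringKrullDim_eq_height
        ((HomogeneousIdeal.irrelevant 𝒜).toIdeal.map (Ideal.Quotient.mk X))
        (Localization.AtPrime ((HomogeneousIdeal.irrelevant 𝒜).toIdeal.map (Ideal.Quotient.mk X))),
      Groth.Agent.Lib.Helper16.GrVertex.height_map_irrelevant_eq 𝒜 h0 X hX hXtop, hXdim] at h1
    have h2 : ((n : ℕ∞) : WithBot ℕ∞) = ((LocCoh.depth (Localization.AtPrime
        ((HomogeneousIdeal.irrelevant 𝒜).toIdeal.map (Ideal.Quotient.mk X)))
        (Localization.AtPrime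
        ((HomogeneousIdeal.irrelevant 𝒜).toIdeal.map (Ideal.Quotient.mk X))) : ℕ∞) : WithBot ℕ∞) := by
      exact_mod_cast h1
    exact le_of_eq (WithBot.coe_injective h2)
  have hdI := hdepth I hI hItop e hIdim
    (hIcm.isCohenMacaulayLocalRing_localization _)
  have hdJ := hdepth J hJ hJtop e hJdim
    (hJcm.isCohenMacaulayLocalRing_localization _)
  have hdIJ := hdepth (I ⊔ J) hIJhom hIJtop (e - 1) hIJdim
    (hIJcm.isCohenMacaulayLocalRing_localization _)
  -- the dimension bound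
  have hdim : ringKrullDim (Localization.AtPrime
      ((HomogeneousIdeal.irrelevant 𝒜).toIdeal.map (Ideal.Quotient.mk (I ⊓ J)))) ≤
      (e : WithBot ℕ∞) := by
    rw [IsLocalization.AtPrime.ringKrullDim_eq_height
      ((HomogeneousIdeal.irrelevant 𝒜).toIdeal.map (Ideal.Quotient.mk (I ⊓ J)))
      (Localization.AtPrime ((HomogeneousIdeal.irrelevant 𝒜).toIdeal.map (Ideal.Quotient.mk (I ⊓ J))))]
    obtain ⟨P, hP, hPle, hle⟩ := Groth.Agent.Lib.Helper16.GrVertex.exists_prime_height_le_height_map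
      ((HomogeneousIdeal.irrelevant 𝒜).toIdeal.map (Ideal.Quotient.mk (I ⊓ J)))
    have hQP : (((HomogeneousIdeal.irrelevant 𝒜).toIdeal.map (Ideal.Quotient.mk (I ⊓ J))).map
        (Ideal.Quotient.mk P)).IsPrime :=
      Ideal.map_isPrime_of_surjective Ideal.Quotient.mk_surjective (by rwa [Ideal.mk_ker])
    have h1 : (((((HomogeneousIdeal.irrelevant 𝒜).toIdeal.map (Ideal.Quotient.mk (I ⊓ J))).map
        (Ideal.Quotient.mk P)).height : ℕ∞) : WithBot ℕ∞) ≤ ringKrullDim ((A ⧸ I ⊓ J) ⧸ P) :=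
      Ideal.height_le_ringKrullDim_of_isPrime
    have hPc : (P.comap (Ideal.Quotient.mk (I ⊓ J))).IsPrime := Ideal.comap_isPrime _ _
    have hle2 : I ⊓ J ≤ P.comap (Ideal.Quotient.mk (I ⊓ J)) := by
      intro x hx
      rw [Ideal.mem_comap, Ideal.Quotient.eq_zero_iff_mem.mpr hx]
      exact P.zero_mem
    have h2 : ringKrullDim ((A ⧸ I ⊓ J) ⧸ P) ≤ (e : WithBot ℕ∞) := by
      rcases (Ideal.IsPrime.inf_le hPc).mp hle2 with hIP | hJP
      · rw [← hIdim]
        refine ringKrullDim_le_of_surjective (Ideal.Quotient.lift I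
          ((Ideal.Quotient.mk P).comp (Ideal.Quotient.mk (I ⊓ J))) (fun a ha => ?_)) ?_
        · rw [RingHom.comp_apply, Ideal.Quotient.eq_zero_iff_mem]
          exact hIP ha
        · apply Ideal.Quotient.lift_surjective_of_surjective
          exact Ideal.Quotient.mk_surjective.comp hsurjinf
      · rw [← hJdim]
        refine ringKrullDim_le_of_surjective (Ideal.Quotient.lift J
          ((Ideal.Quotient.mk P).comp (Ideal.Quotient.mk (I ⊓ J))) (fun a ha => ?_)) ?_
        · rw [RingHom.comp_apply, Ideal.Quotient.eq_zero_iff_mem]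
          exact hJP ha
        · apply Ideal.Quotient.lift_surjective_of_surjective
          exact Ideal.Quotient.mk_surjective.comp hsurjinf
    exact (WithBot.coe_le_coe.mpr hle).trans (h1.trans h2)
  exact Groth.Agent.Lib.Helper16.CMInf.cm_inf (HomogeneousIdeal.irrelevant 𝒜).toIdeal I J hIm hJm e he
    hdI hdJ hdIJ hdim

end helpers

/-- With the conclusion at the irrelevant ideal: let K be a field, A a commutative Noetherian K-algebra
graded by ℕ with degree-zero part K, I and J homogeneous ideals of A such that A/I and A/J are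
Cohen–Macaulay rings of Krull dimension e and A/(I + J) is a Cohen–Macaulay ring of Krull dimension
e - 1, where e ≥ 1. Let m be the image in A/(I ∩ J) of the irrelevant ideal A_+ (assumed prime; it
is maximal). Then the local ring (A/(I ∩ J))_m is Cohen–Macaulay of Krull dimension e. (The
published lemma concludes that A/(I ∩ J) itself is Cohen–Macaulay of dimension e; this row states
the conclusion at the irrelevant ideal only, from which the global one follows by the graded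
local–global principle.) -/
theorem result (K : Type u) [Field K] (A : Type v) [CommRing A]
    [Algebra K A] [IsNoetherianRing A] (𝒜 : ℕ → Submodule K A) [GradedAlgebra 𝒜]
    (h0 : ∀ a ∈ 𝒜 0, ∃ c : K, algebraMap K A c = a) (I J : Ideal A) (hI : I.IsHomogeneous 𝒜)
    (hJ : J.IsHomogeneous 𝒜) (e : ℕ) (he : 1 ≤ e)
    (hIcm : LocCoh.IsCohenMacaulayRing (A ⧸ I)) (hJcm : LocCoh.IsCohenMacaulayRing (A ⧸ J))
    (hIJcm : LocCoh.IsCohenMacaulayRing (A ⧸ (I ⊔ J)))
    (hIdim : ringKrullDim (A ⧸ I) = (e : WithBot ℕ∞)) (hJdim : ringKrullDim (A ⧸ J) = (e : WithBot ℕ∞))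
    (hIJdim : ringKrullDim (A ⧸ (I ⊔ J)) = ((e - 1 : ℕ) : WithBot ℕ∞))
    [hm : ((HomogeneousIdeal.irrelevant 𝒜).toIdeal.map (Ideal.Quotient.mk (I ⊓ J))).IsPrime] :
    LocCoh.IsCohenMacaulayLocalRing (Localization.AtPrime
        ((HomogeneousIdeal.irrelevant 𝒜).toIdeal.map (Ideal.Quotient.mk (I ⊓ J)))) ∧
      ringKrullDim (Localization.AtPrime
        ((HomogeneousIdeal.irrelevant 𝒜).toIdeal.map (Ideal.Quotient.mk (I ⊓ J)))) = (e : WithBot ℕ∞) := by
  exact result_aux K A 𝒜 h0 I J hI hJ e he hIcm hJcm hIJcm hIdim hJdim hIJdim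

end Groth.Agent.S11276
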