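import Groth.Statements.S11277
-- import your own Groth.Agent.* helpers here

set_option autoImplicit false
universe u v
open W4bk4grassmannian

namespace Groth.Agent.S11277

/-- Let K be a field, R = ⊕_{i ≥ 0} R_i an ℕ-graded commutative K-algebra which is an integral domain,
and s ∈ R_e a homogeneous element of degree e > 0. Let R_(s) ⊆ R[1/s] be the homogeneous
localization (fractions f / s^k with f homogeneous of degree k e). Then the image of s in R[1/s] is
transcendental over R_(s). -/
theorem result (K : Type u) [Field K] (R : Type v) [CommRing R]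
    [IsDomain R] [Algebra K R] (𝒜 : ℕ → Submodule K R) [GradedAlgebra 𝒜] (e : ℕ) (he : 0 < e) (s : R)
    (hs : s ∈ 𝒜 e) :
    Transcendental (HomogeneousLocalization.Away 𝒜 s) (algebraMap R (Localization.Away s) s) := by
  classical
  rintro ⟨p, hp0, hp⟩
  apply hp0
  by_cases hs0 : s = 0
  · subst hs0
    have h1 : Subsingleton (Localization.Away (0 : R)) :=
      IsLocalization.subsingleton (M := Submonoid.powers (0 : R)) ⟨1, by simp⟩
    have h2 : Subsingleton (HomogeneousLocalization.Away 𝒜 (0 : R)) :=
      (HomogeneousLocalization.val_injective (𝒜 := 𝒜)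
        (x := Submonoid.powers (0 : R))).subsingleton
    exact Subsingleton.elim _ _
  have hinj : Function.Injective (algebraMap R (Localization.Away s)) :=
    IsLocalization.injective _ (powers_le_nonZeroDivisors_of_noZeroDivisors hs0)
  choose n f hf hnf using fun i =>
    HomogeneousLocalization.Away.mk_surjective 𝒜 hs (p.coeff i)
  set N := p.natDegree with hN
  let D := ∑ i ∈ Finset.range (N + 1), n i
  have hD : ∀ i ∈ Finset.range (N + 1), n i ≤ D := fun i hi =>
    Finset.single_le_sum (f := n) (fun _ _ => Nat.zero_le _) hi
  have hsum : ∑ i ∈ Finset.range (N + 1), f i * s ^ (D - n i + i) = 0 := by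
    apply hinj
    rw [map_zero, map_sum]
    have h0 : Polynomial.aeval (algebraMap R (Localization.Away s) s) p *
        algebraMap R (Localization.Away s) s ^ D = 0 := by rw [hp, zero_mul]
    rw [Polynomial.aeval_eq_sum_range, Finset.sum_mul] at h0
    rw [← h0]
    apply Finset.sum_congr rfl
    intro i hi
    rw [Algebra.smul_def, ← hnf i, HomogeneousLocalization.algebraMap_apply,
      HomogeneousLocalization.Away.val_mk, map_mul, map_pow]
    have hmk : algebraMap R (Localization.Away s) (f i) =
        Localization.mk (f i) ⟨s ^ n i, by use n i⟩ * algebraMap R (Localization.Away s) s ^ n i := by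
      rw [← map_pow, Localization.mk_eq_mk']
      exact (IsLocalization.mk'_spec (Localization.Away s) (f i)
        (⟨s ^ n i, by use n i⟩ : Submonoid.powers s)).symm
    rw [hmk, mul_assoc, mul_assoc, ← pow_add, ← pow_add]
    congr 2
    have := hD i hi
    omega
  have hmem : ∀ i ∈ Finset.range (N + 1), f i * s ^ (D - n i + i) ∈ 𝒜 ((D + i) • e) := by
    intro i hi
    have h1 := SetLike.mul_mem_graded (hf i) (SetLike.pow_mem_graded (D - n i + i) hs)
    have h2 : n i • e + (D - n i + i) • e = (D + i) • e := by
      have := hD i hi
      rw [← add_smul]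
      congr 1
      omega
    rwa [h2] at h1
  have key : ∀ j ∈ Finset.range (N + 1), f j = 0 := by
    intro j hj
    have h1 := congrArg (GradedRing.proj 𝒜 ((D + j) • e)) hsum
    rw [map_sum, map_zero, Finset.sum_eq_single j] at h1
    · rw [GradedRing.proj_apply, DirectSum.decompose_of_mem_same 𝒜 (hmem j hj)] at h1
      rcases mul_eq_zero.mp h1 with h | h
      · exact h
      · exact (pow_ne_zero _ hs0 h).elim
    · intro i hi hij
      rw [GradedRing.proj_apply, DirectSum.decompose_of_mem_ne 𝒜 (hmem i hi)]
      intro h
      apply hij
      have h' : (D + i) * e = (D + j) * e := by simpa [smul_eq_mul] using h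
      have := Nat.eq_of_mul_eq_mul_right he h'
      omega
    · intro h
      exact absurd hj h
  apply Polynomial.ext
  intro j
  rw [Polynomial.coeff_zero]
  by_cases hj : j ∈ Finset.range (N + 1)
  · apply HomogeneousLocalization.val_injective
    rw [← hnf j, HomogeneousLocalization.Away.val_mk, key j hj, Localization.mk_zero,
      HomogeneousLocalization.val_zero]
  · apply Polynomial.coeff_eq_zero_of_natDegree_lt
    simp only [Finset.mem_range, not_lt] at hj
    omega

end Groth.Agent.S11277
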