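import Groth.Statements.S11278
import Groth.Agent.S11277
import Mathlib.RingTheory.Ideal.UFD
import Mathlib.RingTheory.Polynomial.UniqueFactorization
import Mathlib.RingTheory.Algebraic.Basic

set_option autoImplicit false
universe u v
open W4bk4grassmannian

namespace Groth.Agent.S11278

/-- Unique factorization lifts from the homogeneous localization at a prime element of degree one, in
the generality of the published argument: let K be a field, R = ⊕_{i ≥ 0} R_i a Noetherian ℕ-graded
commutative K-algebra which is an integral domain, and s ∈ R_1 a homogeneous element of degree one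
which is a prime element of R. If the homogeneous localization R_(s) (degree-zero part of R[1/s])
has unique factorization, then R is a unique factorization domain. (The published statement is the
case where R is the homogeneous coordinate ring of a Schubert variety, s the Plücker coordinate of
the least index, which is a prime element there, and R_(s) the coordinate ring of the opposite
cell.) -/
theorem result (K : Type u) [Field K] (R : Type v)
    [CommRing R] [IsDomain R] [IsNoetherianRing R] [Algebra K R] (𝒜 : ℕ → Submodule K R) [GradedAlgebra 𝒜]
    (s : R) (hs : s ∈ 𝒜 1) (hp : Prime s)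
    (h : UniqueFactorizationMonoid (HomogeneousLocalization.Away 𝒜 s)) :
    UniqueFactorizationMonoid R := by
  classical
  have hs0 : s ≠ 0 := hp.ne_zero
  rw [UniqueFactorizationMonoid.iff_localizationAway_of_prime hp]
  let s' : Localization.Away s := algebraMap R _ s
  let φ : Polynomial (HomogeneousLocalization.Away 𝒜 s) →ₐ[HomogeneousLocalization.Away 𝒜 s]
      Localization.Away s := Polynomial.aeval s'
  have hφinj : Function.Injective φ :=
    transcendental_iff_injective.mp (Groth.Agent.S11277.result K R 𝒜 1 one_pos s hs)
  have hs'unit : IsUnit s' := IsLocalization.Away.algebraMap_isUnit s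
  have hφX : φ Polynomial.X = s' := Polynomial.aeval_X s'
  -- every element of `R` is in the image of `φ`
  have himg : ∀ a : R, ∃ q, φ q = algebraMap R (Localization.Away s) a := by
    intro a
    induction a using DirectSum.Decomposition.inductionOn 𝒜 with
    | zero => exact ⟨0, by simp⟩
    | @homogeneous d a =>
      have ha : (a : R) ∈ 𝒜 (d • 1) := by simp
      refine ⟨Polynomial.C (HomogeneousLocalization.Away.mk 𝒜 hs d (a : R) ha) *
        Polynomial.X ^ d, ?_⟩
      rw [map_mul, map_pow, hφX]
      rw [show φ (Polynomial.C (HomogeneousLocalization.Away.mk 𝒜 hs d (a : R) ha)) =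
        algebraMap _ _ (HomogeneousLocalization.Away.mk 𝒜 hs d (a : R) ha) from
        Polynomial.aeval_C _ _]
      rw [HomogeneousLocalization.algebraMap_apply, HomogeneousLocalization.Away.val_mk,
        ← map_pow, Localization.mk_eq_mk']
      exact IsLocalization.mk'_spec (Localization.Away s) (a : R)
        (⟨s ^ d, by use d⟩ : Submonoid.powers s)
    | add a a' ha ha' =>
      obtain ⟨q, hq⟩ := ha
      obtain ⟨q', hq'⟩ := ha'
      exact ⟨q + q', by rw [map_add, map_add, hq, hq']⟩
  let _ : Algebra (Polynomial (HomogeneousLocalization.Away 𝒜 s)) (Localization.Away s) :=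
    φ.toRingHom.toAlgebra
  have halg : ∀ q, algebraMap (Polynomial (HomogeneousLocalization.Away 𝒜 s))
      (Localization.Away s) q = φ q := fun q => rfl
  have hloc : IsLocalization.Away
      (Polynomial.X : Polynomial (HomogeneousLocalization.Away 𝒜 s)) (Localization.Away s) := by
    rw [IsLocalization.Away, isLocalization_iff]
    refine ⟨?_, ?_, ?_⟩
    · rintro ⟨_, n, rfl⟩
      rw [halg, map_pow, hφX]
      exact hs'unit.pow n
    · intro y
      obtain ⟨n, a, hna⟩ := IsLocalization.Away.surj s y
      obtain ⟨q, hq⟩ := himg a
      refine ⟨(q, ⟨Polynomial.X ^ n, n, rfl⟩), ?_⟩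
      rw [halg, halg, map_pow, hφX, hq]
      exact hna
    · intro q q' hqq'
      exact ⟨1, by simpa using hφinj hqq'⟩
  have := h
  exact UniqueFactorizationMonoid.of_isLocalization
    (Submonoid.powers (Polynomial.X : Polynomial (HomogeneousLocalization.Away 𝒜 s)))
    (Localization.Away s)

end Groth.Agent.S11278
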