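import Groth.Statements.S1128
-- import your own Groth.Agent.* helpers here

set_option autoImplicit false
open CategoryTheory CategoryTheory.Limits AlgebraicGeometry Opposite
universe u
open Desc

namespace Groth.Agent.S1128


open TensorProduct in
theorem flat_of_comp_faithfullyFlat (A B C : Type*) [CommRing A] [CommRing B] [CommRing C]
    [Algebra A B] [Algebra B C] [Algebra A C] [IsScalarTower A B C]
    [Module.Flat A C] [Module.FaithfullyFlat B C] : Module.Flat A B := by
  rw [Module.Flat.iff_lTensor_preserves_injective_linearMap]
  intro N P _ _ _ _ f hf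
  have h1 : Function.Injective (f.baseChange B) := by
    rw [← Module.FaithfullyFlat.lTensor_injective_iff_injective B C]
    have h2 : Function.Injective (f.lTensor C) :=
      Module.Flat.lTensor_preserves_injective_linearMap f hf
    have h3 : ((f.baseChange B).lTensor C) =
        ((AlgebraTensorModule.cancelBaseChange A B B C P).symm.toLinearMap ∘ₗ
          ((f.baseChange C).restrictScalars B) ∘ₗ
          (AlgebraTensorModule.cancelBaseChange A B B C N).toLinearMap) := by
      ext c n
      simp
    rw [h3]
    simp only [LinearMap.coe_comp, LinearEquiv.coe_coe]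
    refine (LinearEquiv.injective _).comp (Function.Injective.comp ?_ (LinearEquiv.injective _))
    exact h2
  exact h1

/-- If f is flat and surjective and the composite of f with g is flat, then g is flat; together with
stability of flatness under composition this says flatness is fpqc local on the source. -/
theorem result {X' X Y : Scheme.{u}} (f : X' ⟶ X) (g : X ⟶ Y) [Flat f]
    [Surjective f] [Flat (f ≫ g)] : Flat g := by
  rw [Flat.iff_flat_stalkMap]
  intro x
  obtain ⟨x', rfl⟩ := f.surjective x
  have h1 : ((f.stalkMap x').hom.comp (g.stalkMap (f x')).hom).Flat := by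
    have h0 := Flat.stalkMap (f ≫ g) x'
    rw [Scheme.Hom.stalkMap_comp f g x'] at h0
    exact h0
  have h2 : (f.stalkMap x').hom.Flat := Flat.stalkMap f x'
  algebraize [(g.stalkMap (f x')).hom, (f.stalkMap x').hom,
    (f.stalkMap x').hom.comp (g.stalkMap (f x')).hom]
  have : IsLocalHom (algebraMap (X.presheaf.stalk (f x')) (X'.presheaf.stalk x')) :=
    inferInstanceAs (IsLocalHom (f.stalkMap x').hom)
  have : Module.FaithfullyFlat (X.presheaf.stalk (f x')) (X'.presheaf.stalk x') :=
    Module.FaithfullyFlat.of_flat_of_isLocalHom
  exact flat_of_comp_faithfullyFlat (Y.presheaf.stalk (g (f x'))) (X.presheaf.stalk (f x'))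
    (X'.presheaf.stalk x')

end Groth.Agent.S1128
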