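import Groth.Statements.S11283
import Groth.Agent.Lib.Helper1.ExalCompl

set_option autoImplicit false
universe u
open Deform

namespace Groth.Agent.S11283

/-- Let k be an algebraically closed field, Λ a complete local Noetherian k-algebra with residue field
k, R a local Noetherian Λ-algebra with local structure map and residue field k, and R̂ the
completion of R at its maximal ideal. Let L be a simple R-module (a one-dimensional k-vector space
on which R acts through its residue field) carrying a compatible R̂-module structure. Then inverse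
image of Λ-extensions along R → R̂ induces a bijection o(R̂/Λ) → o(R/Λ) on classes of Λ-extensions
by L: two Λ-extensions of R̂ by L whose inverse images over R are equivalent are equivalent, and
every Λ-extension of R by L is equivalent to the inverse image of one of R̂. -/
theorem result
    {k : Type u} [Field k] [IsAlgClosed k]
    {Λ : Type u} [CommRing Λ] [Algebra k Λ] [IsLocalRing Λ] [IsNoetherianRing Λ]
    [IsAdicComplete (IsLocalRing.maximalIdeal Λ) Λ]
    (hΛ : ∀ a : Λ, ∃ c : k, a - algebraMap k Λ c ∈ IsLocalRing.maximalIdeal Λ)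
    {R : Type u} [CommRing R] [Algebra Λ R] [IsLocalRing R] [IsNoetherianRing R]
    [IsLocalHom (algebraMap Λ R)]
    (hR : ∀ r : R, ∃ c : k, r - algebraMap Λ R (algebraMap k Λ c) ∈ IsLocalRing.maximalIdeal R)
    (L : Type u) [AddCommGroup L] [Module (AdicCompletion (IsLocalRing.maximalIdeal R) R) L] [Module R L]
    [IsScalarTower R (AdicCompletion (IsLocalRing.maximalIdeal R) R) L] [IsSimpleModule R L] :
    (∀ X X' : Exal.Ext Λ (AdicCompletion (IsLocalRing.maximalIdeal R) R) L,
        Nonempty ((X.pullback R).Equiv (X'.pullback R)) → Nonempty (X.Equiv X')) ∧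
    (∀ Y : Exal.Ext Λ R L, ∃ X : Exal.Ext Λ (AdicCompletion (IsLocalRing.maximalIdeal R) R) L,
        Nonempty ((X.pullback R).Equiv Y)) := by
  haveI : IsSimpleModule (AdicCompletion (IsLocalRing.maximalIdeal R) R) L :=
    Groth.Agent.Lib.Helper1.ExalCompl.isSimpleModule_completion L
  constructor
  · rintro X X' ⟨ε⟩
    obtain ⟨n₁, h₁⟩ := Groth.Agent.Lib.Helper1.ExalCompl.exists_valid X
    obtain ⟨n₂, h₂⟩ := Groth.Agent.Lib.Helper1.ExalCompl.exists_valid X'
    obtain ⟨n₃, h₃⟩ := Groth.Agent.Lib.Helper1.ExalCompl.exists_valid (X.pullback R)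
    have hn : 1 ≤ n₁ + n₂ + n₃ + 1 := by omega
    have hv₁ := h₁.mono (show n₁ ≤ n₁ + n₂ + n₃ + 1 by omega)
    have hv₂ := h₂.mono (show n₂ ≤ n₁ + n₂ + n₃ + 1 by omega)
    have hv₃ := h₃.mono (show n₃ ≤ n₁ + n₂ + n₃ + 1 by omega)
    obtain ⟨e1⟩ := Groth.Agent.Lib.Helper1.ExalCompl.C_equiv_of_hom (X.pullback R) _ hn hv₃ X hv₁
      (Groth.Agent.Lib.Helper1.ExalCompl.pullbackFst R X)
      (fun e => Groth.Agent.Lib.Helper1.ExalCompl.proj_pullbackFst R X e)
      (fun z => Groth.Agent.Lib.Helper1.ExalCompl.pullbackFst_incl R X z)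
    obtain ⟨e2⟩ := Groth.Agent.Lib.Helper1.ExalCompl.C_equiv_of_hom (X.pullback R) _ hn hv₃ X' hv₂
      ((Groth.Agent.Lib.Helper1.ExalCompl.pullbackFst R X').comp (ε.toAlgEquiv : _ →ₐ[Λ] _))
      (fun e => by
        change X'.proj (Groth.Agent.Lib.Helper1.ExalCompl.pullbackFst R X' (ε.toAlgEquiv e)) = _
        rw [Groth.Agent.Lib.Helper1.ExalCompl.proj_pullbackFst, ε.proj_apply])
      (fun z => by
        change Groth.Agent.Lib.Helper1.ExalCompl.pullbackFst R X' (ε.toAlgEquiv ((X.pullback R).incl z)) = _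
        rw [ε.apply_incl, Groth.Agent.Lib.Helper1.ExalCompl.pullbackFst_incl])
    exact ⟨e1.symm.trans e2⟩
  · intro Y
    obtain ⟨n, hv⟩ := Groth.Agent.Lib.Helper1.ExalCompl.exists_valid Y
    exact ⟨Groth.Agent.Lib.Helper1.ExalCompl.C Y (n + 1) (by omega) (hv.mono (by omega)),
      Groth.Agent.Lib.Helper1.ExalCompl.pullback_C_equiv Y (n + 1) (by omega) (hv.mono (by omega))⟩

end Groth.Agent.S11283
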