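import Groth.Statements.S11284
import Mathlib
import Groth.Agent.Lib.Helper17.ExtLoc

set_option autoImplicit false
universe u
open Deform

namespace Groth.Agent.S11284

/-- Let k be an algebraically closed field and A → B a map of finitely generated k-algebras with B
reduced and smooth over A at every minimal prime of B (the morphism Spec B → Spec A is smooth on a
dense open subset). Let E → B be a surjection of A-algebras whose kernel I has square zero and is,
as a B-module, finitely generated and projective (an extension of B over A by a locally free
module). Then the conormal map I = I/I^2 → B ⊗_E Ω_{E/A} is injective, so that the relative conormal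
sequence 0 → I → B ⊗_E Ω_{E/A} → Ω_{B/A} → 0 of the extension is exact also on the left. This is the
affine case of the statement for a morphism of finite type of algebraic schemes and a coherent
locally free kernel. -/
theorem result
    {k : Type u} [Field k] [IsAlgClosed k]
    {A B : Type u} [CommRing A] [CommRing B] [Algebra k A] [Algebra k B] [Algebra A B]
    [IsScalarTower k A B] [Algebra.FiniteType k A] [Algebra.FiniteType k B] [IsReduced B]
    (hsm : ∀ p : PrimeSpectrum B, p.asIdeal ∈ minimalPrimes B → Algebra.IsSmoothAt A p.asIdeal)
    (P : Algebra.Extension.{u} A B) (hsq : P.ker ^ 2 = ⊥)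
    [Module.Finite B P.Cotangent] [Module.Projective B P.Cotangent] :
    Function.Injective P.cotangentComplex := by
  have hA : IsNoetherianRing A := Algebra.FiniteType.isNoetherianRing k A
  have hft : Algebra.FiniteType A B := Algebra.FiniteType.of_restrictScalars_finiteType k A B
  have hfp : Algebra.FinitePresentation A B := Algebra.FinitePresentation.of_finiteType.1 hft
  rw [injective_iff_map_eq_zero]
  intro x hx
  apply Groth.Agent.Lib.Helper17.ExtLoc.eq_zero_of_forall_minimalPrimes (B := B) x
  intro p hp
  have hpp : p.IsPrime := hp.1.1
  have hsmp : Algebra.IsSmoothAt A p := hsm ⟨p, hpp⟩ hp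
  obtain ⟨f, hfp', hfs⟩ := Algebra.IsSmoothAt.exists_notMem_smooth A p
  have hσ : algebraMap P.Ring B (P.σ f) = f := P.algebraMap_σ f
  have hfs' : Algebra.FormallySmooth A (Localization.Away (algebraMap P.Ring B (P.σ f))) := by
    rw [hσ]; exact hfs.1
  obtain ⟨n, hn⟩ := Groth.Agent.Lib.Helper17.ExtLoc.exists_pow_smul_eq_zero P hsq (P.σ f) x hx
  rw [hσ] at hn
  exact ⟨f ^ n, fun h => hfp' (hpp.mem_of_pow_mem n h), hn⟩

end Groth.Agent.S11284
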