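import Groth.Statements.S11287
import Groth.Agent.Lib.Helper1.PSLift

set_option autoImplicit false
universe u
open Deform

namespace Groth.Agent.S11287

/-- Let k be an algebraically closed field, Λ a complete local Noetherian k-algebra with residue field
k, P = Λ[[X_1, …, X_d]] the power series ring, J an ideal of P contained in (X_1, …, X_d)^2, R =
P/J, and L a simple R-module (a copy of the residue field k). Then: (a) for every Λ-extension 0 → L
→ E → R → 0 the quotient map P → R lifts to a Λ-algebra map u : P → E; (b) for two such extensions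
E, E' with lifts u, u', the extensions are equivalent if and only if u and u' send every element of
J to the images of the same element of L (the restrictions J → L of the lifts agree); (c) every
P-linear map J → L is the restriction of a lift for some extension. Thus the classes of Λ-extensions
of R by L correspond bijectively to Hom_P(J, L), the dual of J/m_P J; this is the identification of
the obstruction space o(R/Λ) for a complete R (the general case reduces to it by passing to the
completion). -/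
theorem result
    {k : Type u} [Field k] [IsAlgClosed k]
    {Λ : Type u} [CommRing Λ] [Algebra k Λ] [IsLocalRing Λ] [IsNoetherianRing Λ]
    [IsAdicComplete (IsLocalRing.maximalIdeal Λ) Λ]
    (hΛ : ∀ a : Λ, ∃ c : k, a - algebraMap k Λ c ∈ IsLocalRing.maximalIdeal Λ)
    (d : ℕ) (J : Ideal (MvPowerSeries (Fin d) Λ))
    (hJ : J ≤ Ideal.span (Set.range (MvPowerSeries.X : Fin d → MvPowerSeries (Fin d) Λ)) ^ 2)
    (L : Type u) [AddCommGroup L] [Module (MvPowerSeries (Fin d) Λ ⧸ J) L] [Module (MvPowerSeries (Fin d) Λ) L]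
    [IsScalarTower (MvPowerSeries (Fin d) Λ) (MvPowerSeries (Fin d) Λ ⧸ J) L] [IsSimpleModule (MvPowerSeries (Fin d) Λ ⧸ J) L] :
    (∀ X : Exal.Ext Λ (MvPowerSeries (Fin d) Λ ⧸ J) L,
        ∃ u : MvPowerSeries (Fin d) Λ →ₐ[Λ] X.E, ∀ p, X.proj (u p) = Ideal.Quotient.mk J p) ∧
    (∀ (X X' : Exal.Ext Λ (MvPowerSeries (Fin d) Λ ⧸ J) L) (u : MvPowerSeries (Fin d) Λ →ₐ[Λ] X.E) (u' : MvPowerSeries (Fin d) Λ →ₐ[Λ] X'.E),
        (∀ p, X.proj (u p) = Ideal.Quotient.mk J p) → (∀ p, X'.proj (u' p) = Ideal.Quotient.mk J p) →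
        (Nonempty (X.Equiv X') ↔ ∀ j ∈ J, ∃ z : L, X.incl z = u j ∧ X'.incl z = u' j)) ∧
    (∀ δ : J →ₗ[MvPowerSeries (Fin d) Λ] L, ∃ (X : Exal.Ext Λ (MvPowerSeries (Fin d) Λ ⧸ J) L) (u : MvPowerSeries (Fin d) Λ →ₐ[Λ] X.E),
        (∀ p, X.proj (u p) = Ideal.Quotient.mk J p) ∧ ∀ j : J, X.incl (δ j) = u j) := by
  classical
  have hsurj : Function.Surjective (algebraMap (MvPowerSeries (Fin d) Λ) (MvPowerSeries (Fin d) Λ ⧸ J)) :=
    Ideal.Quotient.mk_surjective
  have hker : ∀ x : MvPowerSeries (Fin d) Λ,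
      x ∈ RingHom.ker (algebraMap (MvPowerSeries (Fin d) Λ) (MvPowerSeries (Fin d) Λ ⧸ J)) ↔ x ∈ J := by
    intro x
    rw [RingHom.mem_ker]
    exact Ideal.Quotient.eq_zero_iff_mem
  refine ⟨fun X => Groth.Agent.Lib.Helper1.PSLift.exists_lift_powerSeries J L X, ?_, ?_⟩
  · intro X X' u u' hu hu'
    constructor
    · rintro ⟨e⟩ j hj
      have h0 : X.proj (u j) = 0 := by
        rw [hu]
        exact Ideal.Quotient.eq_zero_iff_mem.mpr hj
      obtain ⟨z, hz⟩ : ∃ z, X.incl z = u j := ⟨_, X.incl_kerLift _ h0⟩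
      refine ⟨z, hz, ?_⟩
      rw [← e.apply_incl, hz]
      obtain ⟨D, hadd, hmul, -, hD⟩ := Groth.Agent.Lib.Helper1.ExalGen.exists_derivation_of_lifts X'
        ((e.toAlgEquiv : X.E →ₐ[Λ] X'.E).comp u) u'
        (fun r => by
          rw [AlgHom.comp_apply]
          change X'.proj (e.toAlgEquiv (u r)) = _
          rw [e.proj_apply, hu]
          rfl) hu'
      -- the derivation vanishes on the square of the ideal of the variables
      have hntL : Nontrivial L := IsSimpleModule.nontrivial (MvPowerSeries (Fin d) Λ ⧸ J) L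
      have hntR : Nontrivial (MvPowerSeries (Fin d) Λ ⧸ J) := Module.nontrivial (MvPowerSeries (Fin d) Λ ⧸ J) L
      have hlocR : IsLocalRing (MvPowerSeries (Fin d) Λ ⧸ J) :=
        IsLocalRing.of_surjective' (Ideal.Quotient.mk J) Ideal.Quotient.mk_surjective
      have hlh : IsLocalHom (Ideal.Quotient.mk J) :=
        IsLocalHom.of_surjective (Ideal.Quotient.mk J) Ideal.Quotient.mk_surjective
      have hann : Module.annihilator (MvPowerSeries (Fin d) Λ ⧸ J) L =
          IsLocalRing.maximalIdeal (MvPowerSeries (Fin d) Λ ⧸ J) :=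
        IsLocalRing.eq_maximalIdeal (IsSimpleModule.annihilator_isMaximal (R := MvPowerSeries (Fin d) Λ ⧸ J) (M := L))
      have h𝔫 : ∀ a ∈ Ideal.span (Set.range (MvPowerSeries.X : Fin d → MvPowerSeries (Fin d) Λ)),
          ∀ l : L, algebraMap (MvPowerSeries (Fin d) Λ) (MvPowerSeries (Fin d) Λ ⧸ J) a • l = 0 := by
        intro a ha l
        have h1 : a ∈ IsLocalRing.maximalIdeal (MvPowerSeries (Fin d) Λ) := by
          revert a
          change Ideal.span _ ≤ _
          rw [Ideal.span_le]
          rintro _ ⟨i, rfl⟩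
          exact Groth.Agent.Lib.Helper1.PSLift.not_isUnit_X i
        have h2 : algebraMap (MvPowerSeries (Fin d) Λ) (MvPowerSeries (Fin d) Λ ⧸ J) a ∈
            Module.annihilator (MvPowerSeries (Fin d) Λ ⧸ J) L := by
          rw [hann, IsLocalRing.mem_maximalIdeal, mem_nonunits_iff]
          intro hu'
          exact h1 (hlh.map_nonunit _ hu')
        exact Module.mem_annihilator.mp h2 l
      have hsq : ∀ x ∈ Ideal.span (Set.range (MvPowerSeries.X : Fin d → MvPowerSeries (Fin d) Λ)) ^ 2,
          D x = 0 := by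
        intro x hx
        rw [pow_two] at hx
        refine Submodule.mul_induction_on hx ?_ ?_
        · intro f hf g hg
          rw [hmul, h𝔫 f hf, h𝔫 g hg, add_zero]
        · intro f g hf hg
          rw [hadd, hf, hg, add_zero]
      have h3 := hD j
      rw [hsq j (hJ hj), map_zero] at h3
      exact (sub_eq_zero.mp h3.symm)
    · intro h
      exact Groth.Agent.Lib.Helper1.ExalGen.nonempty_equiv_of_lifts hsurj X X' u u' hu hu'
        (fun x => h x.1 ((hker x.1).mp x.2))
  · intro δ
    have hle : RingHom.ker (algebraMap (MvPowerSeries (Fin d) Λ) (MvPowerSeries (Fin d) Λ ⧸ J)) ≤ J :=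
      fun x hx => (hker x).mp hx
    refine ⟨Groth.Agent.Lib.Helper1.ExalGen.ext Λ hsurj (δ.comp (Submodule.inclusion hle)),
      Groth.Agent.Lib.Helper1.ExalGen.extLift Λ hsurj (δ.comp (Submodule.inclusion hle)),
      fun p => Groth.Agent.Lib.Helper1.ExalGen.proj_extLift hsurj _ p, fun j => ?_⟩
    have := Groth.Agent.Lib.Helper1.ExalGen.extLift_eq_incl (A := Λ) hsurj (δ.comp (Submodule.inclusion hle))
      ⟨j.1, (hker j.1).mpr j.2⟩
    rw [this]
    rfl

end Groth.Agent.S11287
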