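import Groth.Statements.S11288
import Mathlib.LinearAlgebra.Basis.VectorSpace
import Mathlib.Tactic.LinearCombination
import Mathlib.Tactic.Abel
import Mathlib.RingTheory.Ideal.Quotient.Operations
import Mathlib.RingTheory.LocalRing.MaximalIdeal.Basic

set_option autoImplicit false
universe u
open Deform

namespace Groth.Agent.S11288

/-- Let K be a field, R' a local Artinian K-algebra with residue field K, and t a nonzero element of the
maximal ideal m' of R' with m' t = 0, so that R' → R = R'/(t) is a small extension of R. Then the
extension is trivial, i.e. the projection admits a section which is a K-algebra map, if and only if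
t is not in m'^2; equivalently, iff the surjection m'/m'^2 → m_R/m_R^2 induced on cotangent spaces,
whose kernel is spanned by the class of t, is not bijective. For instance K[t]/(t^(n+1)) →
K[t]/(t^n) is a non-trivial small extension for n ≥ 2. (The published example allows any local
K-algebra with residue field K; the row takes R' Artinian, the case in which the subalgebra
generated by lifts of a basis of the cotangent space maps onto R.) -/
theorem result
    {K : Type u} [Field K]
    {R' : Type u} [CommRing R'] [Algebra K R'] [IsLocalRing R'] [IsArtinianRing R']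
    (hres : ∀ a : R', ∃ c : K, a - algebraMap K R' c ∈ IsLocalRing.maximalIdeal R')
    (t : R') (ht : t ∈ IsLocalRing.maximalIdeal R') (ht0 : t ≠ 0)
    (htm : ∀ a ∈ IsLocalRing.maximalIdeal R', a * t = 0) :
    (∃ s : (R' ⧸ Ideal.span {t}) →ₐ[K] R', ∀ x, Ideal.Quotient.mk (Ideal.span {t}) (s x) = x) ↔
      t ∉ IsLocalRing.maximalIdeal R' ^ 2 := by
  classical
  have ht2 : t * t = 0 := htm t ht
  constructor
  · rintro ⟨s, hs⟩ htsq
    have hker : ∀ a : R', ∃ r : R', s (Ideal.Quotient.mk (Ideal.span {t}) a) = a - r * t := by
      intro a
      have h1 : Ideal.Quotient.mk (Ideal.span {t}) (s (Ideal.Quotient.mk (Ideal.span {t}) a)) =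
          Ideal.Quotient.mk (Ideal.span {t}) a := hs _
      rw [Ideal.Quotient.eq, Ideal.mem_span_singleton'] at h1
      obtain ⟨r, hr⟩ := h1
      exact ⟨-r, by rw [neg_mul, sub_neg_eq_add, hr]; ring⟩
    have key : ∀ x ∈ IsLocalRing.maximalIdeal R' ^ 2,
        s (Ideal.Quotient.mk (Ideal.span {t}) x) = x := by
      intro x hx
      rw [pow_two] at hx
      refine Submodule.mul_induction_on hx ?_ ?_
      · intro a ha b hb
        obtain ⟨r, hr⟩ := hker a
        obtain ⟨r', hr'⟩ := hker b
        rw [map_mul, map_mul, hr, hr']
        have h1 : a * t = 0 := htm a ha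
        have h2 : b * t = 0 := htm b hb
        calc (a - r * t) * (b - r' * t)
            = a * b - r' * (a * t) - r * (b * t) + r * r' * (t * t) := by ring
          _ = a * b := by rw [h1, h2, ht2]; ring
      · intro x y hx hy
        rw [map_add, map_add, hx, hy]
    have h3 := key t htsq
    rw [Ideal.Quotient.eq_zero_iff_mem.mpr (Ideal.mem_span_singleton_self t), map_zero] at h3
    exact ht0 h3.symm
  · intro htsq
    let W : Submodule K R' := Submodule.span K {(1 : R')} ⊔
      (IsLocalRing.maximalIdeal R' ^ 2).restrictScalars K
    have htW : t ∉ W := by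
      intro h
      obtain ⟨u, hu, y, hy, huy⟩ := Submodule.mem_sup.mp h
      obtain ⟨c, rfl⟩ := Submodule.mem_span_singleton.mp hu
      have hy' : y ∈ IsLocalRing.maximalIdeal R' ^ 2 := hy
      have hc : c = 0 := by
        by_contra hc
        have h1 : c • (1 : R') ∈ IsLocalRing.maximalIdeal R' := by
          have h2 : c • (1 : R') = t - y := by rw [← huy]; ring
          rw [h2]
          exact (IsLocalRing.maximalIdeal R').sub_mem ht (Ideal.pow_le_self two_ne_zero hy')
        have hu' : IsUnit (c • (1 : R')) := by
          rw [Algebra.smul_def, mul_one]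
          exact (IsUnit.mk0 c hc).map (algebraMap K R')
        exact (IsLocalRing.mem_maximalIdeal _).mp h1 hu'
      subst hc
      rw [zero_smul, zero_add] at huy
      exact htsq (huy ▸ hy')
    obtain ⟨lam, hlamW, hlamt⟩ := LinearMap.exists_extend_of_notMem (0 : W →ₗ[K] K) htW 1
    have hlam0 : ∀ w ∈ W, lam w = 0 := fun w hw => by
      simpa using LinearMap.congr_fun hlamW ⟨w, hw⟩
    have hlam1 : lam 1 = 0 :=
      hlam0 1 (Submodule.mem_sup_left (Submodule.mem_span_singleton_self 1))
    have hlamsq : ∀ y ∈ IsLocalRing.maximalIdeal R' ^ 2, lam y = 0 :=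
      fun y hy => hlam0 y (Submodule.mem_sup_right hy)
    choose c hc using hres
    have hxt : ∀ x : R', x * t = c x • t := by
      intro x
      have h1 := htm _ (hc x)
      rw [Algebra.smul_def]
      linear_combination h1
    have hder : ∀ x x' : R', lam (x * x') = c x * lam x' + c x' * lam x := by
      intro x x'
      have hy : lam (x - algebraMap K R' (c x)) = lam x := by
        rw [map_sub, Algebra.algebraMap_eq_smul_one, map_smul, hlam1, smul_zero, sub_zero]
      have hy' : lam (x' - algebraMap K R' (c x')) = lam x' := by
        rw [map_sub, Algebra.algebraMap_eq_smul_one, map_smul, hlam1, smul_zero, sub_zero]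
      have hyy : lam ((x - algebraMap K R' (c x)) * (x' - algebraMap K R' (c x'))) = 0 := by
        apply hlamsq
        rw [pow_two]
        exact Ideal.mul_mem_mul (hc x) (hc x')
      have hexp : x * x' = (c x * c x') • (1 : R') + c x • (x' - algebraMap K R' (c x')) +
          c x' • (x - algebraMap K R' (c x)) +
          (x - algebraMap K R' (c x)) * (x' - algebraMap K R' (c x')) := by
        simp only [Algebra.smul_def, map_mul]
        ring
      rw [hexp, map_add, map_add, map_add, map_smul, map_smul, map_smul, hy, hy', hyy, hlam1]
      simp only [smul_eq_mul]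
      ring
    let e : R' →ₐ[K] R' := AlgHom.ofLinearMap (LinearMap.id - lam.smulRight t)
      (by simp [hlam1])
      (by
        intro x x'
        simp only [LinearMap.sub_apply, LinearMap.id_apply, LinearMap.smulRight_apply]
        rw [hder]
        have h1 : (x - lam x • t) * (x' - lam x' • t) =
            x * x' - lam x' • (x * t) - lam x • (x' * t) + (lam x * lam x') • (t * t) := by
          simp only [Algebra.smul_def, map_mul]
          ring
        rw [h1, hxt x, hxt x', ht2, smul_zero, add_zero, smul_smul, smul_smul, add_smul]
        rw [mul_comm (lam x') (c x), mul_comm (lam x) (c x')]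
        abel)
    have he : ∀ x, e x = x - lam x • t := fun x => rfl
    have het : e t = 0 := by rw [he, hlamt, one_smul, sub_self]
    refine ⟨Ideal.Quotient.liftₐ (Ideal.span {t}) e ?_, ?_⟩
    · intro a ha
      obtain ⟨r, rfl⟩ := Ideal.mem_span_singleton'.mp ha
      rw [map_mul, het, mul_zero]
    · intro x
      obtain ⟨a, rfl⟩ := Ideal.Quotient.mk_surjective x
      have : Ideal.Quotient.liftₐ (Ideal.span {t}) e (by
          intro a ha
          obtain ⟨r, rfl⟩ := Ideal.mem_span_singleton'.mp ha
          rw [map_mul, het, mul_zero]) (Ideal.Quotient.mk (Ideal.span {t}) a) = e a := rfl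
      rw [this, he, Ideal.Quotient.eq]
      have : a - lam a • t - a = (-(algebraMap K R' (lam a))) * t := by
        rw [Algebra.smul_def]; ring
      rw [this]
      exact Ideal.mul_mem_left _ _ (Ideal.mem_span_singleton_self t)

end Groth.Agent.S11288
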