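import Groth.Statements.S11294
import Mathlib.Algebra.DualNumber
import Mathlib.RingTheory.Ideal.Maps
import Mathlib.RingTheory.Ideal.Quotient.Basic

set_option autoImplicit false
universe u
open Deform

namespace Groth.Agent.S11294


open TrivSqZeroExt in
/-- The ideal of the dual numbers attached to a normal homomorphism. -/
def idealOf {P : Type u} [CommRing P] (J : Ideal P) (φ : J →ₗ[P] (P ⧸ J)) :
    Ideal (DualNumber P) where
  carrier := {x | ∃ h : x.fst ∈ J, Ideal.Quotient.mk J x.snd = φ ⟨x.fst, h⟩}
  add_mem' := by
    rintro x y ⟨hx, hx'⟩ ⟨hy, hy'⟩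
    refine ⟨by simpa using J.add_mem hx hy, ?_⟩
    have : (⟨(x + y).fst, by simpa using J.add_mem hx hy⟩ : J) = ⟨x.fst, hx⟩ + ⟨y.fst, hy⟩ := by
      ext; simp
    rw [this, map_add, ← hx', ← hy']
    simp
  zero_mem' := by
    refine ⟨by simp, ?_⟩
    have : (⟨(0 : DualNumber P).fst, by simp⟩ : J) = 0 := by ext; simp
    rw [this, map_zero]
    simp
  smul_mem' := by
    rintro c x ⟨hx, hx'⟩
    have hmem : (c • x).fst ∈ J := by
      simpa using J.mul_mem_left c.fst hx
    refine ⟨hmem, ?_⟩
    have : (⟨(c • x).fst, hmem⟩ : J) = c.fst • ⟨x.fst, hx⟩ := by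
      ext; simp
    rw [this, map_smul, ← hx']
    simp only [smul_eq_mul, TrivSqZeroExt.snd_mul, MulOpposite.smul_eq_mul_unop,
      MulOpposite.unop_op, map_add, map_mul]
    rw [Ideal.Quotient.eq_zero_iff_mem.mpr hx, mul_zero, add_zero]
    rfl

open TrivSqZeroExt in
lemma mem_idealOf {P : Type u} [CommRing P] (J : Ideal P) (φ : J →ₗ[P] (P ⧸ J)) (a b : P) :
    (inl a + inr b : DualNumber P) ∈ idealOf J φ ↔
      ∃ h : a ∈ J, Ideal.Quotient.mk J b = φ ⟨a, h⟩ := by
  change (∃ h : (inl a + inr b : DualNumber P).fst ∈ J,
    Ideal.Quotient.mk J (inl a + inr b : DualNumber P).snd =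
      φ ⟨(inl a + inr b : DualNumber P).fst, h⟩) ↔ _
  have h1 : (inl a + inr b : DualNumber P).fst = a := by simp
  have h2 : (inl a + inr b : DualNumber P).snd = b := by simp
  constructor
  · rintro ⟨h, h'⟩
    refine ⟨h1 ▸ h, ?_⟩
    rw [h2] at h'
    rw [h']
    congr 1
    exact Subtype.ext h1
  · rintro ⟨h, h'⟩
    refine ⟨h1.symm ▸ h, ?_⟩
    rw [h2, h']
    congr 1
    exact Subtype.ext h1.symm

open TrivSqZeroExt in
/-- Let P be a commutative ring, J an ideal, and P[ε] the ring of dual numbers over P. First-order
embedded deformations of Spec(P/J) in Spec P, namely ideals J' of P[ε] lifting J (the image of J'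
under ε ↦ 0 is J) with P[ε]/J' flat over the dual numbers — flatness being replaced by the condition
that every element of P[ε]/J' annihilated by ε is a multiple of ε (equivalent to flatness over k[ε]
when P is an algebra over a field k) — are in canonical bijection with Hom_P(J, P/J) =
Hom_{P/J}(J/J^2, P/J), the normal module: to φ corresponds the ideal of all a + εb with a in J and b
reducing to φ(a) modulo J. The first clause says this rule defines exactly one ideal for each φ; the
second says an ideal J' is a flat lift of J precisely when its membership is given by this rule for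
some φ. (The published statement is the global one, identifying first-order deformations of a closed
subscheme X of an algebraic scheme Y with H^0(X, N_{X/Y}); this row is the affine computation in its
proof, valid for every commutative ring P.) -/
theorem result (P : Type u) [CommRing P] (J : Ideal P) :
    (∀ φ : J →ₗ[P] (P ⧸ J), ∃! J' : Ideal (DualNumber P),
        ∀ a b : P, (inl a + inr b : DualNumber P) ∈ J' ↔ ∃ h : a ∈ J, Ideal.Quotient.mk J b = φ ⟨a, h⟩) ∧
    (∀ J' : Ideal (DualNumber P),
      (J'.map (TrivSqZeroExt.fstHom P P P) = J ∧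
        ∀ m : DualNumber P ⧸ J', Ideal.Quotient.mk J' DualNumber.eps * m = 0 →
          ∃ m' : DualNumber P ⧸ J', m = Ideal.Quotient.mk J' DualNumber.eps * m') ↔
      ∃ φ : J →ₗ[P] (P ⧸ J), ∀ a b : P,
        (inl a + inr b : DualNumber P) ∈ J' ↔ ∃ h : a ∈ J, Ideal.Quotient.mk J b = φ ⟨a, h⟩) := by
  have hext : ∀ J₁ J₂ : Ideal (DualNumber P),
      (∀ a b : P, (inl a + inr b : DualNumber P) ∈ J₁ ↔ (inl a + inr b : DualNumber P) ∈ J₂) →
      J₁ = J₂ := by
    intro J₁ J₂ h
    ext x
    rw [← TrivSqZeroExt.inl_fst_add_inr_snd_eq x]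
    exact h _ _
  constructor
  · intro φ
    refine ⟨idealOf J φ, mem_idealOf J φ, ?_⟩
    intro J'' hJ''
    apply hext
    intro a b
    rw [hJ'' a b, mem_idealOf]
  · intro J'
    constructor
    · rintro ⟨hmap, hflat⟩
      have hfst : ∀ a : P, a ∈ J ↔ ∃ b : P, (inl a + inr b : DualNumber P) ∈ J' := by
        intro a
        rw [← hmap, Ideal.mem_map_iff_of_surjective _ (by
          intro r; exact ⟨inl r, by simp [TrivSqZeroExt.fstHom]⟩)]
        constructor
        · rintro ⟨x, hx, rfl⟩
          refine ⟨x.snd, ?_⟩
          have : (inl ((TrivSqZeroExt.fstHom P P P) x) + inr x.snd : DualNumber P) = x :=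
            TrivSqZeroExt.inl_fst_add_inr_snd_eq x
          rw [this]
          exact hx
        · rintro ⟨b, hb⟩
          exact ⟨_, hb, by simp [TrivSqZeroExt.fstHom]⟩
      have hzero : ∀ c : P, (inl 0 + inr c : DualNumber P) ∈ J' ↔ c ∈ J := by
        intro c
        constructor
        · intro hc
          have h1 : Ideal.Quotient.mk J' DualNumber.eps *
              Ideal.Quotient.mk J' (inl c : DualNumber P) = 0 := by
            rw [← map_mul, Ideal.Quotient.eq_zero_iff_mem]
            have : (DualNumber.eps : DualNumber P) * inl c = inl 0 + inr c := by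
              ext <;> simp
            rw [this]
            exact hc
          obtain ⟨m', hm'⟩ := hflat _ h1
          obtain ⟨y, rfl⟩ := Ideal.Quotient.mk_surjective m'
          rw [← map_mul, Ideal.Quotient.eq] at hm'
          rw [hfst]
          refine ⟨-y.fst, ?_⟩
          have : (inl c + inr (-y.fst) : DualNumber P) = inl c - DualNumber.eps * y := by
            ext <;> simp
          rw [this]
          exact hm'
        · intro hc
          obtain ⟨d, hd⟩ := (hfst c).mp hc
          have : (inl 0 + inr c : DualNumber P) = DualNumber.eps * (inl c + inr d) := by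
            ext <;> simp
          rw [this]
          exact J'.mul_mem_left _ hd
      have hwd : ∀ a b b' : P, (inl a + inr b : DualNumber P) ∈ J' →
          (inl a + inr b' : DualNumber P) ∈ J' → Ideal.Quotient.mk J b = Ideal.Quotient.mk J b' := by
        intro a b b' h1 h2
        rw [Ideal.Quotient.eq, ← hzero]
        have : (inl 0 + inr (b - b') : DualNumber P) = (inl a + inr b) - (inl a + inr b') := by
          ext <;> simp
        rw [this]
        exact J'.sub_mem h1 h2
      have hch : ∀ a : J, ∃ b : P, (inl (a : P) + inr b : DualNumber P) ∈ J' :=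
        fun a => (hfst a).mp a.2
      choose g hg using hch
      let φ : J →ₗ[P] (P ⧸ J) :=
        { toFun := fun a => Ideal.Quotient.mk J (g a)
          map_add' := by
            intro a a'
            rw [← map_add]
            apply hwd ((a + a' : J) : P) _ _ (hg (a + a'))
            have : (inl ((a + a' : J) : P) + inr (g a + g a') : DualNumber P) =
                (inl (a : P) + inr (g a)) + (inl (a' : P) + inr (g a')) := by
              ext <;> simp
            rw [this]
            exact J'.add_mem (hg a) (hg a')
          map_smul' := by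
            intro c a
            simp only [RingHom.id_apply]
            change _ = Ideal.Quotient.mk J (c • g a)
            rw [smul_eq_mul]
            apply hwd ((c • a : J) : P) _ _ (hg (c • a))
            have : (inl ((c • a : J) : P) + inr (c * g a) : DualNumber P) =
                inl c * (inl (a : P) + inr (g a)) := by
              ext <;> simp
            rw [this]
            exact J'.mul_mem_left _ (hg a) }
      refine ⟨φ, ?_⟩
      intro a b
      constructor
      · intro hab
        have ha : a ∈ J := (hfst a).mpr ⟨b, hab⟩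
        exact ⟨ha, hwd a b (g ⟨a, ha⟩) hab (hg ⟨a, ha⟩)⟩
      · rintro ⟨ha, hb⟩
        have h1 : Ideal.Quotient.mk J b = Ideal.Quotient.mk J (g ⟨a, ha⟩) := hb
        rw [Ideal.Quotient.eq, ← hzero] at h1
        have : (inl a + inr b : DualNumber P) =
            (inl a + inr (g ⟨a, ha⟩)) + (inl 0 + inr (b - g ⟨a, ha⟩)) := by
          ext <;> simp
        rw [this]
        exact J'.add_mem (hg ⟨a, ha⟩) h1
    · rintro ⟨φ, hφ⟩
      constructor
      · ext a
        rw [Ideal.mem_map_iff_of_surjective _ (by
          intro r; exact ⟨inl r, by simp [TrivSqZeroExt.fstHom]⟩)]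
        constructor
        · rintro ⟨x, hx, rfl⟩
          rw [← TrivSqZeroExt.inl_fst_add_inr_snd_eq x, hφ] at hx
          exact hx.1
        · intro ha
          obtain ⟨b, hb⟩ := Ideal.Quotient.mk_surjective (φ ⟨a, ha⟩)
          exact ⟨inl a + inr b, (hφ a b).mpr ⟨ha, hb⟩, by simp [TrivSqZeroExt.fstHom]⟩
      · intro m hm
        obtain ⟨x, rfl⟩ := Ideal.Quotient.mk_surjective m
        rw [← map_mul, Ideal.Quotient.eq_zero_iff_mem] at hm
        have hx : (DualNumber.eps : DualNumber P) * x = inl 0 + inr x.fst := by
          ext <;> simp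
        rw [hx, hφ] at hm
        obtain ⟨_, h0⟩ := hm
        have hxJ : x.fst ∈ J := by
          rw [← Ideal.Quotient.eq_zero_iff_mem, h0]
          have : (⟨(0 : P), J.zero_mem⟩ : J) = 0 := rfl
          rw [this, map_zero]
        obtain ⟨c, hc⟩ := Ideal.Quotient.mk_surjective
          (Ideal.Quotient.mk J x.snd - φ ⟨x.fst, hxJ⟩)
        refine ⟨Ideal.Quotient.mk J' (inl c), ?_⟩
        rw [← map_mul, Ideal.Quotient.eq]
        have : x - DualNumber.eps * inl c = inl x.fst + inr (x.snd - c) := by
          ext <;> simp
        rw [this, hφ]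
        refine ⟨hxJ, ?_⟩
        rw [map_sub, hc]
        ring

end Groth.Agent.S11294
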