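import Groth.Statements.S11298
import Mathlib
-- import your own Groth.Agent.* helpers here

set_option autoImplicit false
universe u v
open LocCoh

namespace Groth.Agent.S11298


open RingTheory.Sequence in
theorem isWeaklyRegular_dual {B : Type u} [CommRing B] {M : Type v} [AddCommGroup M] [Module B M]
    (x y : B) (hx : IsSMulRegular B x) (hy : IsSMulRegular (QuotSMulTop x B) y) :
    IsWeaklyRegular (M →ₗ[B] B) [x, y] := by
  rw [isWeaklyRegular_cons_iff, isWeaklyRegular_cons_iff]
  refine ⟨?_, ?_, IsWeaklyRegular.nil _ _⟩
  · intro f g hfg
    ext m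
    have := LinearMap.congr_fun hfg m
    simp only [LinearMap.smul_apply] at this
    exact hx this
  · rw [isSMulRegular_iff_right_eq_zero_of_smul]
    intro c hc
    obtain ⟨f, rfl⟩ := Submodule.Quotient.mk_surjective _ c
    rw [← Submodule.Quotient.mk_smul, Submodule.Quotient.mk_eq_zero,
      Submodule.mem_smul_pointwise_iff_exists] at hc
    obtain ⟨g, -, hg⟩ := hc
    -- y f = x g
    have hfm : ∀ m, ∃ b : B, x * b = f m := by
      intro m
      have h1 : y • f m = x • g m := by
        have := LinearMap.congr_fun hg m
        simp only [LinearMap.smul_apply] at this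
        exact this.symm
      have h2 : y • (Submodule.Quotient.mk (f m) : QuotSMulTop x B) = 0 := by
        rw [← Submodule.Quotient.mk_smul, Submodule.Quotient.mk_eq_zero,
          Submodule.mem_smul_pointwise_iff_exists]
        exact ⟨g m, Submodule.mem_top, h1.symm⟩
      have h3 := (isSMulRegular_iff_right_eq_zero_of_smul.mp hy) _ h2
      rw [Submodule.Quotient.mk_eq_zero, Submodule.mem_smul_pointwise_iff_exists] at h3
      obtain ⟨b, -, hb⟩ := h3
      exact ⟨b, hb⟩
    choose hfun hh using hfm
    have hxinj : ∀ a b : B, x * a = x * b → a = b := fun a b hab => hx hab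
    let h : M →ₗ[B] B :=
      { toFun := hfun
        map_add' := fun m m' => by
          apply hxinj
          rw [mul_add, hh, hh, hh, map_add]
        map_smul' := fun r m => by
          apply hxinj
          rw [RingHom.id_apply, hh, smul_eq_mul, mul_left_comm, hh, map_smul, smul_eq_mul] }
    rw [Submodule.Quotient.mk_eq_zero, Submodule.mem_smul_pointwise_iff_exists]
    refine ⟨h, Submodule.mem_top, ?_⟩
    ext m
    simp only [LinearMap.smul_apply, smul_eq_mul]
    exact hh m

/-- Let X = Spec B be an affine Noetherian scheme, Z = V(I) a closed subscheme and G a coherent sheaf,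
i.e. a finitely generated B-module M, with dual G^v = Hom_B(M, B). If depth_Z(O_X) ≥ 2 then
depth_Z(G^v) ≥ 2. Here the depth along I of a module N is the supremum of the lengths of N-regular
sequences contained in I (and is infinite when I N = N). (The published statement adds that sections
of the dual over X and over X minus Z agree; this row omits that clause.) -/
theorem result (B : Type u) [CommRing B] [IsNoetherianRing B]
    (I : Ideal B) (M : Type v) [AddCommGroup M] [Module B M] [Module.Finite B M]
    (h : 2 ≤ LocCoh.idealDepth I B) : 2 ≤ LocCoh.idealDepth I (M →ₗ[B] B) := by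
  unfold LocCoh.idealDepth at h ⊢
  split_ifs with hN
  · exact le_top
  · split_ifs at h with hB
    · -- I = ⊤
      exfalso
      apply hN
      have hI : I = ⊤ := by
        have : I • (⊤ : Submodule B B) = I := by simp
        rw [this] at hB
        exact hB
      rw [hI, Submodule.top_smul]
    · -- a weakly regular sequence of length ≥ 2
      have hlt : (1 : ℕ∞) < ⨆ (rs : List B)
          (_ : RingTheory.Sequence.IsWeaklyRegular B rs ∧ ∀ r ∈ rs, r ∈ I), (rs.length : ℕ∞) :=
        lt_of_lt_of_le (by norm_num) h
      obtain ⟨rs, hrs⟩ := lt_iSup_iff.mp hlt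
      obtain ⟨⟨hreg, hmem⟩, hlen⟩ := lt_iSup_iff.mp hrs
      have hlen' : 1 < rs.length := by exact_mod_cast hlen
      match rs, hreg, hmem, hlen' with
      | x :: y :: rest, hreg, hmem, _ =>
        rw [RingTheory.Sequence.isWeaklyRegular_cons_iff,
          RingTheory.Sequence.isWeaklyRegular_cons_iff] at hreg
        obtain ⟨hx, hy, -⟩ := hreg
        have hdual := isWeaklyRegular_dual (M := M) x y hx hy
        refine le_trans ?_ (le_iSup₂ (f := fun (rs : List B)
          (_ : RingTheory.Sequence.IsWeaklyRegular (M →ₗ[B] B) rs ∧ ∀ r ∈ rs, r ∈ I) =>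
            (rs.length : ℕ∞)) [x, y] ⟨hdual, ?_⟩)
        · simp
        · intro r hr
          simp only [List.mem_cons, List.mem_nil_iff, or_false] at hr
          rcases hr with rfl | rfl
          · exact hmem _ (by simp)
          · exact hmem _ (by simp)

end Groth.Agent.S11298
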