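import Groth.Statements.S11299
import Mathlib.Algebra.Module.Projective
import Mathlib.LinearAlgebra.Quotient.Basic
import Mathlib.LinearAlgebra.FreeModule.Basic
import Mathlib.RingTheory.Ideal.Quotient.Basic

set_option autoImplicit false
universe u
open CAlg

namespace Groth.Agent.S11299


section aux

variable {P : Type u} [CommRing P] (J : Ideal P)
variable {F : Type u} [AddCommGroup F] [Module P F] (j : F →ₗ[P] P)
variable {F' : Type u} [AddCommGroup F'] [Module P F'] (j' : F' →ₗ[P] P)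

/-- The trivial (Koszul) relations. -/
def Rtr : Submodule P F := Submodule.span P {y : F | ∃ u v : F, y = j u • v - j v • u}

/-- Maps on relations vanishing on trivial relations. -/
def Hs : Submodule P (LinearMap.ker j →ₗ[P] (P ⧸ J)) :=
  LinearMap.ker (LinearMap.lcomp P (P ⧸ J)
    (Submodule.comap (LinearMap.ker j).subtype (Rtr j)).subtype)

/-- Restrictions of maps on `F`. -/
def Rest : Submodule P (LinearMap.ker j →ₗ[P] (P ⧸ J)) :=
  LinearMap.range (LinearMap.lcomp P (P ⧸ J) (LinearMap.ker j).subtype)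

/-- The module `T²` of the presentation. -/
def T2 : Submodule P ((LinearMap.ker j →ₗ[P] (P ⧸ J)) ⧸ Rest J j) :=
  Submodule.map (Rest J j).mkQ (Hs J j)

lemma mem_Hs (φ : LinearMap.ker j →ₗ[P] (P ⧸ J)) :
    φ ∈ Hs J j ↔ ∀ r : LinearMap.ker j, (r : F) ∈ Rtr j → φ r = 0 := by
  rw [Hs, LinearMap.mem_ker]
  constructor
  · intro h r hr
    have := LinearMap.congr_fun h ⟨r, hr⟩
    exact this
  · intro h
    ext ⟨r, hr⟩
    exact h r hr

lemma mem_Rest (φ : LinearMap.ker j →ₗ[P] (P ⧸ J)) :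
    φ ∈ Rest J j ↔ ∃ ψ : F →ₗ[P] (P ⧸ J), ψ ∘ₗ (LinearMap.ker j).subtype = φ := by
  rw [Rest, LinearMap.mem_range]
  rfl

variable {j j'}

lemma map_mem_Rtr (α : F →ₗ[P] F') (hα : j' ∘ₗ α = j) {x : F} (hx : x ∈ Rtr j) :
    α x ∈ Rtr j' := by
  have hα' : ∀ y, j' (α y) = j y := fun y => LinearMap.congr_fun hα y
  induction hx using Submodule.span_induction with
  | mem y hy =>
    obtain ⟨u, v, rfl⟩ := hy
    apply Submodule.subset_span
    refine ⟨α u, α v, ?_⟩
    rw [map_sub, map_smul, map_smul, hα', hα']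
  | zero => rw [map_zero]; exact zero_mem _
  | add y z _ _ hy hz => rw [map_add]; exact add_mem hy hz
  | smul c y _ hy => rw [map_smul]; exact Submodule.smul_mem _ c hy

/-- The restriction of a map of presentations to the relation modules. -/
def resR (α : F →ₗ[P] F') (hα : j' ∘ₗ α = j) : LinearMap.ker j →ₗ[P] LinearMap.ker j' :=
  α.restrict (fun x hx => by
    rw [LinearMap.mem_ker] at hx ⊢
    rw [← hx, ← hα]
    rfl)

@[simp] lemma resR_coe (α : F →ₗ[P] F') (hα : j' ∘ₗ α = j) (r : LinearMap.ker j) :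
    ((resR α hα r : LinearMap.ker j') : F') = α r := rfl

lemma pull_mem_Rest (α : F →ₗ[P] F') (hα : j' ∘ₗ α = j) :
    Rest J j' ≤ Submodule.comap (LinearMap.lcomp P (P ⧸ J) (resR α hα)) (Rest J j) := by
  intro φ hφ
  rw [Submodule.mem_comap, mem_Rest]
  obtain ⟨ψ, rfl⟩ := (mem_Rest J j' φ).mp hφ
  refine ⟨ψ ∘ₗ α, ?_⟩
  ext r
  rfl

lemma pull_mem_Hs (α : F →ₗ[P] F') (hα : j' ∘ₗ α = j) {φ : LinearMap.ker j' →ₗ[P] (P ⧸ J)}
    (hφ : φ ∈ Hs J j') : φ ∘ₗ resR α hα ∈ Hs J j := by
  rw [mem_Hs] at hφ ⊢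
  intro r hr
  exact hφ (resR α hα r) (map_mem_Rtr α hα hr)

/-- The induced map on `T²`. -/
def T2map (α : F →ₗ[P] F') (hα : j' ∘ₗ α = j) : T2 J j' →ₗ[P] T2 J j :=
  (Submodule.mapQ (Rest J j') (Rest J j) (LinearMap.lcomp P (P ⧸ J) (resR α hα))
    (pull_mem_Rest J α hα)).restrict (by
      rintro x ⟨φ, hφ, rfl⟩
      exact ⟨φ ∘ₗ resR α hα, pull_mem_Hs J α hα hφ, rfl⟩)

lemma T2map_mk (α : F →ₗ[P] F') (hα : j' ∘ₗ α = j) (φ : LinearMap.ker j' →ₗ[P] (P ⧸ J))
    (hφ : (Rest J j').mkQ φ ∈ T2 J j') :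
    ((T2map J α hα ⟨(Rest J j').mkQ φ, hφ⟩ : T2 J j) :
      (LinearMap.ker j →ₗ[P] (P ⧸ J)) ⧸ Rest J j) = (Rest J j).mkQ (φ ∘ₗ resR α hα) := rfl

lemma mkQ_comp_resR_eq (γ : F →ₗ[P] F) (hγ : j ∘ₗ γ = j) (φ : LinearMap.ker j →ₗ[P] (P ⧸ J)) :
    (Rest J j).mkQ (φ ∘ₗ resR γ hγ) = (Rest J j).mkQ φ := by
  rw [← sub_eq_zero, ← map_sub, Submodule.mkQ_apply, Submodule.Quotient.mk_eq_zero, mem_Rest]
  have hδ : ∀ x : F, (γ - (LinearMap.id : F →ₗ[P] F)) x ∈ LinearMap.ker j := by
    intro x
    rw [LinearMap.mem_ker, LinearMap.sub_apply, map_sub, LinearMap.id_apply]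
    have := LinearMap.congr_fun hγ x
    rw [LinearMap.comp_apply] at this
    rw [this, sub_self]
  refine ⟨φ ∘ₗ (LinearMap.codRestrict (LinearMap.ker j) (γ - (LinearMap.id : F →ₗ[P] F)) hδ), ?_⟩
  ext r
  simp only [LinearMap.comp_apply, LinearMap.sub_apply, Submodule.subtype_apply]
  rw [← map_sub]
  congr 1

variable (j j')

lemma exists_lift [Module.Free P F] (hj : LinearMap.range j = J) (hj' : LinearMap.range j' = J) :
    ∃ α : F →ₗ[P] F', j' ∘ₗ α = j := by
  have h1 : ∀ x, j x ∈ (J : Submodule P P) := fun x => hj ▸ LinearMap.mem_range_self j x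
  have h2 : ∀ x, j' x ∈ (J : Submodule P P) := fun x => hj' ▸ LinearMap.mem_range_self j' x
  have hsurj : Function.Surjective (LinearMap.codRestrict (J : Submodule P P) j' h2) := by
    rintro ⟨y, hy⟩
    rw [← hj'] at hy
    obtain ⟨x, rfl⟩ := hy
    exact ⟨x, rfl⟩
  obtain ⟨α, hα⟩ := Module.projective_lifting_property
    (LinearMap.codRestrict (J : Submodule P P) j' h2)
    (LinearMap.codRestrict (J : Submodule P P) j h1) hsurj
  refine ⟨α, ?_⟩
  ext x
  have := congrArg Subtype.val (LinearMap.congr_fun hα x)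
  exact this

theorem nonempty_equiv [Module.Free P F] [Module.Free P F'] (hj : LinearMap.range j = J)
    (hj' : LinearMap.range j' = J) : Nonempty (T2 J j ≃ₗ[P] T2 J j') := by
  obtain ⟨α, hα⟩ := exists_lift J j j' hj hj'
  obtain ⟨β, hβ⟩ := exists_lift J j' j hj' hj
  have hβα : j ∘ₗ (β ∘ₗ α) = j := by rw [← LinearMap.comp_assoc, hβ, hα]
  have hαβ : j' ∘ₗ (α ∘ₗ β) = j' := by rw [← LinearMap.comp_assoc, hα, hβ]
  refine ⟨LinearEquiv.ofLinearMap (T2map J β hβ) (T2map J α hα) ?_ ?_⟩
  · ext ⟨x, hx⟩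
    obtain ⟨φ, hφ, rfl⟩ := hx
    change ((T2map J β hβ (T2map J α hα ⟨(Rest J j').mkQ φ, _⟩) : T2 J j') :
      (LinearMap.ker j' →ₗ[P] (P ⧸ J)) ⧸ Rest J j') = (Rest J j').mkQ φ
    refine Eq.trans ?_ (mkQ_comp_resR_eq J (α ∘ₗ β) hαβ φ)
    rfl
  · ext ⟨x, hx⟩
    obtain ⟨φ, hφ, rfl⟩ := hx
    change ((T2map J α hα (T2map J β hβ ⟨(Rest J j).mkQ φ, _⟩) : T2 J j) :
      (LinearMap.ker j →ₗ[P] (P ⧸ J)) ⧸ Rest J j) = (Rest J j).mkQ φ
    refine Eq.trans ?_ (mkQ_comp_resR_eq J (β ∘ₗ α) hβα φ)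
    rfl

end aux

/-- The second cotangent module does not depend on the presentation: let P be a commutative ring, J an
ideal and B = P/J. For a presentation of J, i.e. a finitely generated free P-module F with a
P-linear map j : F → P with image J, let R = ker j be the relation module and R^tr ⊆ R the span of
the trivial relations j(u) • v - j(v) • u; the module T^2 of the presentation is the quotient of
Hom_B(R/R^tr, B), realised as the P-linear maps R → P/J vanishing on R^tr, by the restrictions to R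
of the P-linear maps F → P/J (here: the image of that submodule in the quotient of Hom_P(R, P/J) by
the restrictions). Then for two presentations (F, j) and (F', j') of the same ideal J the two
modules T^2 are isomorphic as P-modules (existence of an isomorphism; the comparison maps depend on
expressing one system of generators through the other). (The published statement takes B essentially
of finite type over a field and P smooth; this row allows any commutative ring P and ideal J.) -/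
theorem result (P : Type u) [CommRing P] (J : Ideal P)
    (F : Type u) [AddCommGroup F] [Module P F] [Module.Free P F] [Module.Finite P F]
    (F' : Type u) [AddCommGroup F'] [Module P F'] [Module.Free P F'] [Module.Finite P F']
    (j : F →ₗ[P] P) (j' : F' →ₗ[P] P) (hj : LinearMap.range j = J) (hj' : LinearMap.range j' = J) :
    Nonempty (↥(Submodule.map
          (LinearMap.range (LinearMap.lcomp P (P ⧸ J) (LinearMap.ker j).subtype)).mkQ
          (LinearMap.ker (LinearMap.lcomp P (P ⧸ J)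
            (Submodule.comap (LinearMap.ker j).subtype
              (Submodule.span P {y : F | ∃ u v : F, y = j u • v - j v • u})).subtype))) ≃ₗ[P]
      ↥(Submodule.map
          (LinearMap.range (LinearMap.lcomp P (P ⧸ J) (LinearMap.ker j').subtype)).mkQ
          (LinearMap.ker (LinearMap.lcomp P (P ⧸ J)
            (Submodule.comap (LinearMap.ker j').subtype
              (Submodule.span P {y : F' | ∃ u v : F', y = j' u • v - j' v • u})).subtype)))) := by
  exact nonempty_equiv J j j' hj hj'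

end Groth.Agent.S11299
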