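import Groth.Statements.S11301
import Groth.Agent.Lib.Lead.Koszul.Resol2
import Groth.Agent.S1642

set_option autoImplicit false
universe u
open CategoryTheory CategoryTheory.Limits AlgebraicGeometry
open Variety

namespace Groth.Agent.S11301

/-- m-regularity via linear resolutions: in one-step form: let k be an algebraically closed field and F
a coherent module on P^n_k. Then F is m-regular if and only if there are b ≥ 0 and an epimorphism
O(-m)^b → F (from the direct sum of b copies of O(-m)) whose kernel is (m+1)-regular. (The published
statement is the equivalent characterisation by a resolution ... → O(-m-2)^{b_2} → O(-m-1)^{b_1} →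
O(-m)^{b_0} → F → 0; it follows from this one-step form by induction, and conversely.) -/
theorem result (k : Type u) [Field k] [IsAlgClosed k] (n : ℕ)
    (F : (CohB1.ProjSpace n k).Modules) (hF : Coh.IsCoh F) (m : ℤ) :
    Curv2.IsMRegular k n F m ↔
      ∃ (b : ℕ) (φ : (∐ fun _ : Fin b => Twist.twistProjSpace n k (-m)) ⟶ F),
        Epi φ ∧ Curv2.IsMRegular k n (kernel φ) (m + 1) := by
  constructor
  · intro h
    have hreg : ∀ r : ℤ, m ≤ r → Curv2.IsMRegular k n F r := by
      intro r hr
      induction r, hr using Int.le_induction with
      | base => exact h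
      | succ r hr ih => exact Groth.Agent.S1642.result k n F hF r ih
    obtain ⟨b, φ, hφ, hK⟩ :=
      Groth.Agent.Lib.Lead.Koszul.exists_epi_coprod_twist_kernel_regular n k F hF m
        (fun r hr p hp1 hpn => hreg r hr p hp1 hpn)
    exact ⟨b, φ, hφ, hK⟩
  · rintro ⟨b, φ, hφ, hK⟩
    exact Groth.Agent.Lib.Lead.Koszul.regular_of_epi_coprod_twist n k F hF m b φ hK

end Groth.Agent.S11301
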