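import Groth.Statements.S11302
import Mathlib
import Groth.Agent.Lib.Lead.CIT1

set_option autoImplicit false
universe u
open Deform

namespace Groth.Agent.S11302

open Groth.Agent.Lib.Lead MvPolynomial


open MvPolynomial in
/-- T^1 of a complete intersection; the hypersurface case P/(f, ∂f/∂X_1, ..., ∂f/∂X_d) is n = 1: let k
be an algebraically closed field, P = k[X_1, ..., X_d], f_1, ..., f_n a regular sequence in P (each
f_i a non-zero-divisor modulo the preceding ones), J the ideal they generate and B = P/J. The first
cotangent module T^1_B — the cokernel of Der_k(P, B) → Hom_P(J, B), a derivation being restricted to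
J — is isomorphic, as a P-module, to B^n modulo the B-submodule generated by the d columns
(∂f_1/∂X_j, ..., ∂f_n/∂X_j), j = 1, ..., d, of the Jacobian matrix reduced modulo J, through the map
sending the class of φ : J → B to the class of (φ(f_1), ..., φ(f_n)). (The published formula allows
P to be a localisation of the polynomial ring; this row takes the polynomial ring.) -/
theorem result (k : Type u) [Field k] [IsAlgClosed k] (d n : ℕ)
    (f : Fin n → MvPolynomial (Fin d) k) (hreg : RingTheory.Sequence.IsWeaklyRegular (MvPolynomial (Fin d) k) (List.ofFn f)) :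
    ∃ e : ((↥(Ideal.span (Set.range f)) →ₗ[MvPolynomial (Fin d) k] (MvPolynomial (Fin d) k ⧸ Ideal.span (Set.range f))) ⧸
            Submodule.span (MvPolynomial (Fin d) k)
              {ψ : ↥(Ideal.span (Set.range f)) →ₗ[MvPolynomial (Fin d) k] (MvPolynomial (Fin d) k ⧸ Ideal.span (Set.range f)) |
                ∃ D : Derivation k (MvPolynomial (Fin d) k) (MvPolynomial (Fin d) k ⧸ Ideal.span (Set.range f)), ∀ a : ↥(Ideal.span (Set.range f)), ψ a = D (a : MvPolynomial (Fin d) k)}) ≃ₗ[MvPolynomial (Fin d) k]
          ((Fin n → MvPolynomial (Fin d) k ⧸ Ideal.span (Set.range f)) ⧸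
            Submodule.span (MvPolynomial (Fin d) k ⧸ Ideal.span (Set.range f))
              (Set.range fun j : Fin d => fun i : Fin n => Ideal.Quotient.mk (Ideal.span (Set.range f)) (pderiv j (f i)))),
      ∀ φ : ↥(Ideal.span (Set.range f)) →ₗ[MvPolynomial (Fin d) k] (MvPolynomial (Fin d) k ⧸ Ideal.span (Set.range f)),
        e (Submodule.Quotient.mk φ) =
          Submodule.Quotient.mk (fun i : Fin n => φ ⟨f i, Ideal.subset_span (Set.mem_range_self i)⟩) := by
  classical
  let evE := LinearEquiv.ofBijective (CIT1.ev f) ⟨CIT1.ev_injective f, CIT1.ev_surjective f hreg⟩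
  have hevE : ∀ φ, evE φ = CIT1.ev f φ := fun φ => rfl
  have hmap : (Submodule.span (MvPolynomial (Fin d) k)
      {ψ : ↥(Ideal.span (Set.range f)) →ₗ[MvPolynomial (Fin d) k]
          (MvPolynomial (Fin d) k ⧸ Ideal.span (Set.range f)) |
        ∃ D : Derivation k (MvPolynomial (Fin d) k)
          (MvPolynomial (Fin d) k ⧸ Ideal.span (Set.range f)),
          ∀ a : ↥(Ideal.span (Set.range f)), ψ a = D (a : MvPolynomial (Fin d) k)}).map
        (evE : _ →ₗ[MvPolynomial (Fin d) k] _) =
      (Submodule.span (MvPolynomial (Fin d) k ⧸ Ideal.span (Set.range f))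
        (Set.range fun j : Fin d => fun i : Fin n =>
          Ideal.Quotient.mk (Ideal.span (Set.range f)) (pderiv j (f i)))).restrictScalars
        (MvPolynomial (Fin d) k) := by
    apply le_antisymm
    · rw [Submodule.map_le_iff_le_comap, Submodule.span_le]
      rintro ψ ⟨D, hD⟩
      change evE ψ ∈ Submodule.span (MvPolynomial (Fin d) k ⧸ Ideal.span (Set.range f)) _
      have h1 : evE ψ = ∑ j, D (X j) • (fun i : Fin n =>
          Ideal.Quotient.mk (Ideal.span (Set.range f)) (pderiv j (f i))) := by
        funext i
        change ψ ⟨f i, _⟩ = _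
        rw [hD, CIT1.der_formula f D (f i), Finset.sum_apply]
        refine Finset.sum_congr rfl (fun j _ => ?_)
        rw [Pi.smul_apply, smul_eq_mul, mul_comm, CIT1.smul_eq_mk_mul]
      rw [h1]
      exact Submodule.sum_mem _ (fun j _ => Submodule.smul_mem _ _
        (Submodule.subset_span ⟨j, rfl⟩))
    · intro y hy
      change y ∈ Submodule.span (MvPolynomial (Fin d) k ⧸ Ideal.span (Set.range f)) _ at hy
      induction hy using Submodule.span_induction with
      | mem y hy =>
        obtain ⟨j, rfl⟩ := hy
        let Dj : Derivation k (MvPolynomial (Fin d) k)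
            (MvPolynomial (Fin d) k ⧸ Ideal.span (Set.range f)) :=
          mkDerivation k (Pi.single j 1)
        refine ⟨CIT1.restrictDer f Dj, Submodule.subset_span ⟨Dj, fun a => rfl⟩, ?_⟩
        funext i
        change Dj (f i) = _
        rw [CIT1.der_formula f Dj (f i), Finset.sum_eq_single j]
        · change (pderiv j (f i)) • (mkDerivation k (Pi.single j 1) (X j) :
            MvPolynomial (Fin d) k ⧸ Ideal.span (Set.range f)) = _
          rw [mkDerivation_X, Pi.single_eq_same, CIT1.smul_eq_mk_mul, mul_one]
        · intro j' _ hj'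
          change (pderiv j' (f i)) • (mkDerivation k (Pi.single j 1) (X j') :
            MvPolynomial (Fin d) k ⧸ Ideal.span (Set.range f)) = _
          rw [mkDerivation_X, Pi.single_eq_of_ne hj', smul_zero]
        · intro hj
          exact absurd (Finset.mem_univ j) hj
      | zero => exact Submodule.zero_mem _
      | add y z _ _ hy hz => exact Submodule.add_mem _ hy hz
      | smul b y _ hy =>
        obtain ⟨q, rfl⟩ := Ideal.Quotient.mk_surjective b
        have h2 : (Ideal.Quotient.mk (Ideal.span (Set.range f)) q) • y = q • y := by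
          rw [← Ideal.Quotient.algebraMap_eq, algebraMap_smul]
        rw [h2]
        exact Submodule.smul_mem _ q hy
  refine ⟨(Submodule.Quotient.equiv _ _ evE hmap).trans
    (Submodule.Quotient.restrictScalarsEquiv (MvPolynomial (Fin d) k) _), fun φ => ?_⟩
  rfl

end Groth.Agent.S11302
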