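import Groth.Statements.S11306
import Mathlib
-- import your own Groth.Agent.* helpers here

set_option autoImplicit false
universe u
open TensorProduct
open CAlg

namespace Groth.Agent.S11306

/-- Take a Noetherian local domain A, with residue field k and fraction field K, and let M be a finitely
generated A-module. If k ⊗_A M and K ⊗_A M have the same dimension r (over k and over K
respectively), then M is a free A-module of rank r. -/
theorem result (A : Type u) [CommRing A] [IsDomain A]
    [IsNoetherianRing A] [IsLocalRing A] (M : Type u) [AddCommGroup M] [Module A M] [Module.Finite A M] (r : ℕ)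
    (hk : Module.finrank (IsLocalRing.ResidueField A) (IsLocalRing.ResidueField A ⊗[A] M) = r)
    (hK : Module.finrank (FractionRing A) (FractionRing A ⊗[A] M) = r) :
    Module.Free A M ∧ Module.finrank A M = r := by
  classical
  let k := IsLocalRing.ResidueField A
  let K := FractionRing A
  -- a basis of `k ⊗ M` indexed by `Fin r`
  let b : Module.Basis (Fin r) k (k ⊗[A] M) := Module.finBasisOfFinrankEq k (k ⊗[A] M) hk
  have hsurj : Function.Surjective (TensorProduct.mk A k M 1) :=
    TensorProduct.mk_surjective A M k Ideal.Quotient.mk_surjective
  choose f hf using fun i => hsurj (b i)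
  have hspan : Submodule.span A (Set.range f) = ⊤ :=
    IsLocalRing.span_eq_top_of_tmul_eq_basis f b hf
  let φ : (Fin r → A) →ₗ[A] M := Fintype.linearCombination A f
  have hφs : Function.Surjective φ := by
    rw [← LinearMap.range_eq_top, Fintype.range_linearCombination]
    exact hspan
  -- the base change of `φ` to `K`
  let ψ : K ⊗[A] (Fin r → A) →ₗ[K] K ⊗[A] M := φ.baseChange K
  have hψs : Function.Surjective ψ := by
    have : Function.Surjective (φ.lTensor K) := LinearMap.lTensor_surjective K hφs
    exact this
  have hrk : Module.finrank K (K ⊗[A] (Fin r → A)) = Module.finrank K (K ⊗[A] M) := by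
    rw [hK, Module.finrank_baseChange, Module.finrank_pi, Fintype.card_fin]
  have hMfin : Module.Finite K (K ⊗[A] M) := inferInstance
  have hψi : Function.Injective ψ :=
    (LinearMap.injective_iff_surjective_of_finrank_eq_finrank hrk).mpr hψs
  have hinj : Function.Injective (TensorProduct.mk A K (Fin r → A) 1) :=
    Module.Flat.tensorProduct_mk_injective (R := A) (S := K) (Fin r → A)
  have hφi : Function.Injective φ := by
    rw [injective_iff_map_eq_zero]
    intro x hx
    apply hinj
    apply hψi
    rw [map_zero, map_zero]
    show ψ (1 ⊗ₜ[A] x) = 0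
    rw [LinearMap.baseChange_tmul, hx, TensorProduct.tmul_zero]
  let e : (Fin r → A) ≃ₗ[A] M := LinearEquiv.ofBijective φ ⟨hφi, hφs⟩
  refine ⟨Module.Free.of_equiv e, ?_⟩
  rw [← e.finrank_eq, Module.finrank_pi, Fintype.card_fin]

end Groth.Agent.S11306
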