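import Groth.Statements.S11311
import Mathlib
import Groth.Agent.Lib.Helper23.FieldSep3
import Groth.Agent.S3436
import Groth.Agent.S14437

set_option autoImplicit false
universe u
open CAlg

open IsLocalRing TensorProduct

namespace S11311aux

/-- `κ ⊗ Ω_{B/k}` has the dimension of the cotangent space when the residue field is `k`. -/
theorem finrank_tensor_kaehler (k B : Type u) [Field k] [CommRing B] [Algebra k B]
    [IsLocalRing B] [IsNoetherianRing B]
    (hres : Function.Bijective (algebraMap k (ResidueField B))) :
    Module.finrank (ResidueField B) (ResidueField B ⊗[B] Ω[B⁄k]) =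
      Module.finrank (ResidueField B) (CotangentSpace B) := by
  have hle : maximalIdeal k ≤ Ideal.comap (IsScalarTower.toAlgHom k k B) (maximalIdeal B) := by
    rw [IsLocalRing.maximalIdeal_eq_bot]
    exact bot_le
  have hA : Function.Bijective (algebraMap k (ResidueField k)) :=
    ⟨(algebraMap k (ResidueField k)).injective, IsLocalRing.residue_surjective⟩
  have h := Groth.Agent.S14437.result k k B hle hA hres
  have h0 : Module.finrank k ↥(LinearMap.range (Ideal.mapCotangent (maximalIdeal k)
      (maximalIdeal B) (IsScalarTower.toAlgHom k k B) hle)) = 0 := by
    have hz : ∀ x : (maximalIdeal k).Cotangent, x = 0 := by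
      intro x
      obtain ⟨y, rfl⟩ := Ideal.toCotangent_surjective _ x
      have hy : y = 0 := by
        apply Subtype.ext
        have h1 : (y : k) ∈ maximalIdeal k := y.2
        have h2 : maximalIdeal k = ⊥ := IsLocalRing.maximalIdeal_eq_bot
        have h3 : (y : k) ∈ (⊥ : Ideal k) := h2 ▸ h1
        exact h3
      rw [hy, map_zero]
    have : Subsingleton ↥(LinearMap.range (Ideal.mapCotangent (maximalIdeal k)
      (maximalIdeal B) (IsScalarTower.toAlgHom k k B) hle)) := by
      constructor
      rintro ⟨_, x, rfl⟩ ⟨_, y, rfl⟩
      rw [hz x, hz y]
    exact Module.finrank_zero_of_subsingleton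
  rw [h0, add_zero] at h
  rw [h]
  exact Groth.Agent.Lib.Helper17.CotFibre.finrank_eq_of_tower k B hres (CotangentSpace B)

theorem main (k B : Type u) [Field k] [CommRing B] [Algebra k B]
    [IsLocalRing B] [Algebra.EssFiniteType k B]
    (hres : Function.Bijective (algebraMap k (IsLocalRing.ResidueField B)))
    (d : ℕ) (hd : ringKrullDim B = (d : WithBot ℕ∞)) :
    ((Module.Free B (KaehlerDifferential k B) ∧ Module.finrank B (KaehlerDifferential k B) = d) →
        IsRegularLocalRing B) ∧
      (PerfectField k → IsRegularLocalRing B →
        Module.Free B (KaehlerDifferential k B) ∧ Module.finrank B (KaehlerDifferential k B) = d) := by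
  have hN : IsNoetherianRing B := Algebra.EssFiniteType.isNoetherianRing k B
  have key := finrank_tensor_kaehler k B hres
  constructor
  · rintro ⟨hfree, hrank⟩
    rw [IsRegularLocalRing.iff_finrank_cotangentSpace, hd, ← key, Module.finrank_baseChange, hrank]
  · intro _ hreg
    have hfs0 : Algebra.FormallySmooth k (B ⧸ maximalIdeal B) :=
      Algebra.FormallySmooth.of_equiv
        (AlgEquiv.ofBijective (Algebra.ofId k (ResidueField B)) hres)
    let _ : Field (B ⧸ maximalIdeal B) := Ideal.Quotient.field _
    have h1 : PP16.SymGrBijective B (maximalIdeal B) :=
      (Groth.Agent.Lib.Helper23.SymGrRegular.isRegularLocalRing_iff_symGrBijective _).mp hreg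
    have h2 : Module.Projective (B ⧸ maximalIdeal B) (maximalIdeal B).Cotangent :=
      Module.Projective.of_free
    have h3 := (Groth.Agent.Lib.Helper23.AdicSmoothSym.adicSmooth_iff
      (A := k) (B := B) (maximalIdeal B)).mpr ⟨h2, h1⟩
    have hfs : Algebra.FormallySmooth k B := Groth.Agent.S3436.formallySmooth_of_adic k B h3
    have hfree : Module.Free B (Ω[B⁄k]) := Module.free_of_flat_of_isLocalRing
    refine ⟨hfree, ?_⟩
    have h4 := (IsRegularLocalRing.iff_finrank_cotangentSpace B).mp hreg
    rw [hd, ← key, Module.finrank_baseChange] at h4
    exact_mod_cast h4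

end S11311aux

namespace Groth.Agent.S11311

/-- Let k be a field and B a local ring containing k whose residue field is k (the composite k → B → B/m
is bijective), and which is a localization of a finitely generated k-algebra (essentially of finite
type over k); let d = dim B. If the module of differentials Ω_{B/k} is free of rank d then B is a
regular local ring. Conversely, if k is perfect and B is a regular local ring, then Ω_{B/k} is free
of rank d. (The published statement assumes k perfect as one of its hypotheses and asserts the
equivalence; its proof of the first implication does not use perfectness, so that hypothesis is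
placed on the converse only.) -/
theorem result (k B : Type u) [Field k] [CommRing B] [Algebra k B]
    [IsLocalRing B] [Algebra.EssFiniteType k B]
    (hres : Function.Bijective (algebraMap k (IsLocalRing.ResidueField B)))
    (d : ℕ) (hd : ringKrullDim B = (d : WithBot ℕ∞)) :
    ((Module.Free B (KaehlerDifferential k B) ∧ Module.finrank B (KaehlerDifferential k B) = d) →
        IsRegularLocalRing B) ∧
      (PerfectField k → IsRegularLocalRing B →
        Module.Free B (KaehlerDifferential k B) ∧ Module.finrank B (KaehlerDifferential k B) = d) := by
  exact S11311aux.main k B hres d hd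

end Groth.Agent.S11311
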