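import Groth.Statements.S11320
import Groth.Agent.Lib.Helper22.ColimCoh.Top

set_option autoImplicit false
universe u
open CategoryTheory CategoryTheory.Limits
open CohTop

namespace Groth.Agent.S11320

/-- On a Noetherian topological space X, the direct limit, in the category of abelian sheaves, of a
directed system (F_i) of flasque abelian sheaves indexed by a nonempty directed preorder is flasque
(all its restriction maps are surjective). -/
theorem result {X : TopCat.{u}} [TopologicalSpace.NoetherianSpace X]
    (ι : Type u) [Preorder ι] [IsDirected ι (· ≤ ·)] [Nonempty ι]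
    (D : ι ⥤ CohTop.Ab X) (hD : ∀ i : ι, TopCat.Sheaf.IsFlasque (D.obj i)) :
    TopCat.Sheaf.IsFlasque (colimit D : CohTop.Ab X) := by
  have hpre : PrespectralSpace X :=
    PrespectralSpace.of_isTopologicalBasis (B := {U : Set X | IsOpen U})
      TopologicalSpace.isTopologicalBasis_opens
      (fun U _ => TopologicalSpace.NoetherianSpace.isCompact U)
  constructor
  intro U V i
  rw [AddCommGrpCat.epi_iff_surjective]
  intro s
  have hV : V.unop ∈ Groth.Agent.Lib.Helper22.ColimCoh.Top.Bc X :=
    TopologicalSpace.NoetherianSpace.isCompact _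
  obtain ⟨j, t, ht⟩ := Groth.Agent.Lib.Helper22.ColimCoh.sec_rep
    (B := Groth.Agent.Lib.Helper22.ColimCoh.Top.Bc X)
    (Cov := Groth.Agent.Lib.Helper22.ColimCoh.Top.Covc X)
    Groth.Agent.Lib.Helper22.ColimCoh.Top.h1 Groth.Agent.Lib.Helper22.ColimCoh.Top.h2
    (fun _ _ _ h => h.1) (colimit.cocone D) (colimit.isColimit D) V.unop hV s
  have hfl := (hD j).epi i
  rw [AddCommGrpCat.epi_iff_surjective] at hfl
  obtain ⟨t', ht'⟩ := hfl t
  refine ⟨(colimit.ι D j).hom.app U t', ?_⟩
  have hnat := NatTrans.naturality_apply (colimit.ι D j).hom i t'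
  rw [ht'] at hnat
  exact hnat.symm.trans ht

end Groth.Agent.S11320
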