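import Groth.Statements.S11326
import Groth.Agent.Lib.Lead.SD.Perfect
import Groth.Agent.S0845

set_option autoImplicit false
universe u
open CategoryTheory AlgebraicGeometry
open ProjDual

namespace Groth.Agent.S11326

/-- Let A be a Noetherian ring, r ≥ 1, X = P^r_A and ω = O_X(-r-1). Then there is an A-linear
isomorphism t : H^r(X, ω) ≅ A such that for every integer n and every A-linear form ψ on H^r(X,
O_X(-n-r-1)) there is exactly one morphism of O_X-modules φ : O_X(-n-r-1) → ω with ψ = t ∘ H^r(φ).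
(The published form of the pairing assertion is a perfect pairing H^0(X, O_X(n)) × H^r(X,
O_X(-n-r-1)) → H^r(X, ω) ≅ A of finitely generated free A-modules; here the first factor is written
as Hom(O_X(-n-r-1), ω), which the pairing identifies with H^0(X, O_X(n)), and only the resulting
bijection onto the A-dual of H^r(X, O_X(-n-r-1)) is stated.) -/
theorem result (A : Type u) [CommRing A]
    [IsNoetherianRing A] (r : ℕ) (hr : 1 ≤ r) :
    ∃ t : Coh.HH (CohB1.ProjSpace r A) (Twist.twistProjSpace r A (-((r : ℤ) + 1))) r ≃ₗ[A] A,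
      ∀ (n : ℤ) (ψ : Coh.HH (CohB1.ProjSpace r A) (Twist.twistProjSpace r A (-(n + r + 1))) r →ₗ[A] A),
        ∃! φ : Twist.twistProjSpace r A (-(n + r + 1)) ⟶ Twist.twistProjSpace r A (-((r : ℤ) + 1)),
          ∀ x : Coh.HH (CohB1.ProjSpace r A) (Twist.twistProjSpace r A (-(n + r + 1))) r,
            ψ x = t (Sheaf.H.map ((SheafOfModules.toSheaf (CohB1.ProjSpace r A).ringCatSheaf).map φ) r x) := by
  obtain ⟨m, rfl⟩ : ∃ m, r = m + 1 := ⟨r - 1, by omega⟩
  obtain ⟨t0⟩ := Groth.Agent.S0845.result A (m + 1) 0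
  have hcast : (-((((m + 1 : ℕ) : ℤ)) + 1 + ((0 : ℕ) : ℤ))) = -((((m + 1 : ℕ) : ℤ)) + 1) := by
    push_cast; ring
  rw [hcast] at t0
  refine ⟨t0.trans (Groth.Agent.Lib.Lead.SD.constEquiv (Fin (m + 1 + 1)) A), fun n ψ => ?_⟩
  exact Groth.Agent.Lib.Lead.SD.perfect_twist m (-(n + ((m + 1 : ℕ) : ℤ) + 1))
    (-(((m + 1 : ℕ) : ℤ) + 1)) (by push_cast; ring) _ ψ

end Groth.Agent.S11326
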