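import Groth.Statements.S11327
import Groth.Agent.Lib.Helper17.ExtZero
import Groth.Prelude.Def_CxOX

set_option autoImplicit false
universe u
open CategoryTheory AlgebraicGeometry
open Coherent

namespace Groth.Agent.S11327

/-- Let X be a scheme, U an open subscheme of X and I an injective object of the category of
O_X-modules. Then the restriction I|_U is an injective object of the category of O_U-modules.
(Stated for schemes; the published statement is for an arbitrary ringed space.) -/
theorem result (X : Scheme.{u}) (U : X.Opens) (I : X.Modules)
    (hI : Injective I) : Injective (I.restrict U.ι) := by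
  have h1 : (ModSite.extZero X.sheaf U).PreservesMonomorphisms :=
    Groth.Agent.Lib.Helper17.ExtZero.extZero_preservesMonomorphisms X.sheaf U
  have h0 : (Scheme.Modules.overEquiv U).inverse.PreservesMonomorphisms :=
    Functor.preservesMonomorphisms_of_adjunction (Scheme.Modules.overEquiv U).toAdjunction
  have h2 : ((Scheme.Modules.overEquiv U).inverse ⋙
      ModSite.extZero X.sheaf U).PreservesMonomorphisms :=
    @Functor.preservesMonomorphisms_comp _ _ _ _ _ _ _ _ h0 h1
  haveI h3 : (CxOX.extZero U.ι).PreservesMonomorphisms :=
    @Functor.PreservesMonomorphisms.of_iso _ _ _ _ _ _ h2 (CxOX.extZeroIsoSite U).symm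
  haveI := hI
  exact Injective.injective_of_adjoint (CxOX.extZeroAdj U.ι) I

end Groth.Agent.S11327
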