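import Groth.Statements.S11329
import Groth.Agent.Lib.Helper5.TildeFlasque
import Groth.Agent.Lib.Helper5.LCDepth

set_option autoImplicit false
universe u
open CategoryTheory AlgebraicGeometry Opposite
open Coherent

namespace Groth.Agent.S11329

/-- Let A be a Noetherian ring and I an injective A-module. Then the quasi-coherent sheaf I~ on Spec A
associated with I is flasque: for all opens U ⊆ V of Spec A the restriction map I~(V) → I~(U) is
surjective. -/
theorem result (A : Type u) [CommRing A] [IsNoetherianRing A]
    (I : Type u) [AddCommGroup I] [Module A I] [Module.Injective A I]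
    (U V : (Spec (CommRingCat.of A)).Opens) (hUV : U ≤ V) :
    Function.Surjective ((tilde (ModuleCat.of A I)).val.map (homOfLE hUV).op).hom := by
  haveI hinj : Injective (ModuleCat.of A I) := Module.injective_object_of_injective_module A I
  have hH1 : ∀ gs : List A, Limits.IsZero
      (Groth.Agent.Lib.Helper5.CechClosed.Hq gs (ModuleCat.of A I) 1) := by
    intro gs
    have h1 : Subsingleton ((localCohomology (Ideal.span {x | x ∈ gs}) 1).obj (ModuleCat.of A I)) := by
      apply Groth.Agent.Lib.Helper16.LC.subsingleton_H_of_forall
      intro k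
      refine ⟨fun x y => ?_⟩
      rw [Abelian.Ext.eq_zero_of_injective x, Abelian.Ext.eq_zero_of_injective y]
    obtain ⟨e⟩ := Groth.Agent.Lib.Helper5.ExtCechH0.nonempty_extCechH_iso_localCohomology gs
      (ModuleCat.of A I) 1
    have j := Groth.Agent.Lib.Helper5.KoszulSections.hqIso gs (ModuleCat.of A I) 1 (1 : ℤ) rfl
    haveI : Subsingleton (Groth.Agent.Lib.Helper5.CechClosed.Hq gs (ModuleCat.of A I) (1 : ℤ)) :=
      (e.toLinearEquiv.toEquiv.symm.trans j.toLinearEquiv.toEquiv).symm.subsingleton
    exact ModuleCat.isZero_of_subsingleton _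
  have hfl := Groth.Agent.Lib.Helper5.TildeFlasque.flasque_of_H1 A I hH1
  have h := hfl.epi (homOfLE hUV).op
  exact (AddCommGrpCat.epi_iff_surjective _).1 h

end Groth.Agent.S11329
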