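import Groth.Statements.S11330
import Groth.Agent.Lib.Helper21.GGCrit
-- import your own Groth.Agent.* helpers here

set_option autoImplicit false
universe u
open CategoryTheory CategoryTheory.Limits AlgebraicGeometry
open Curves

namespace Groth.Agent.S11330

/-- Let k be an algebraically closed field and X a curve over k (an integral scheme, proper over k, of
dimension one, with all local rings regular), and L an invertible O_X-module. Then L is generated by
its global sections (a quotient of a free O_X-module) if and only if for every closed point P of X,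
with ideal sheaf I_P ⊆ O_X, dim_k H^0(X, L ⊗ I_P) = dim_k H^0(X, L) - 1. -/
theorem result (k : Type u) [Field k] [IsAlgClosed k] (X : Scheme.{u}) [X.Over (Spec (CommRingCat.of k))]
    [IsIntegral X] [IsProper (X ↘ (Spec (CommRingCat.of k)))] (hdim : topologicalKrullDim X = 1)
    (hreg : ∀ x : X, IsRegularLocalRing (X.presheaf.stalk x)) (L : X.Modules) (hL : PicF.IsInvertible L) :
    Curv2.IsGloballyGenerated L ↔
      ∀ (P : X) (hP : IsClosed ({P} : Set X)),
        Module.finrank k (Coh.HH X (CohB1.tensorMod L (ClSub.idealMod (Scheme.IdealSheafData.vanishingIdeal ⟨{P}, hP⟩))) 0) + 1 = Module.finrank k (Coh.HH X L 0) := by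
  have hconv : ∀ (P : X) (hP : IsClosed ({P} : Set X)),
      Module.finrank k (Coh.HH X (CohB1.tensorMod L
        (ClSub.idealMod (Scheme.IdealSheafData.vanishingIdeal ⟨{P}, hP⟩))) 0) =
      Module.finrank k (Coh.HH X (CohB1.tensorMod
        (ClSub.idealMod (Scheme.IdealSheafData.vanishingIdeal ⟨{P}, hP⟩)) L) 0) :=
    fun P hP => (Groth.Agent.Lib.Helper21.CDeg.HHlinEquiv k
      (Groth.Agent.Lib.Helper29.QCoh.tensorBraid _ _) 0).finrank_eq
  constructor
  · intro hgg P hP
    rw [hconv P hP]
    exact (Groth.Agent.Lib.Helper21.GGCrit.finrank_eq_iff_exists_mem_genLocus k X P hP L hL).mpr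
      (Groth.Agent.Lib.Helper29.QCoh.exists_mem_genLocus_of_isGloballyGenerated hL hgg P)
  · intro h
    apply Groth.Agent.Lib.Helper29.QCoh.isGloballyGenerated_of_genAt
    have hcl : ∀ (P : X), IsClosed ({P} : Set X) →
        ∃ σ : Groth.Agent.Lib.Helper29.QCoh.unitM X ⟶ L, P ∈ CohB1.genLocus L σ := by
      intro P hP
      have h1 := h P hP
      rw [hconv P hP] at h1
      exact (Groth.Agent.Lib.Helper21.GGCrit.finrank_eq_iff_exists_mem_genLocus k X P hP L hL).mp h1
    intro x
    by_cases hx : x = genericPoint X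
    · obtain ⟨q, hq, -, -⟩ := Groth.Agent.Lib.Helper21.RegPt.exists_closed_cartier_point k X hdim ⊤
        ⟨genericPoint X, trivial⟩
      obtain ⟨σ, hσ⟩ := hcl q hq
      have hgen : genericPoint X ∈ CohB1.genLocus L σ := by
        have h2 := (genericPoint_spec X).mem_open_set_iff (CohB1.genLocus L σ).isOpen
        exact h2.mpr ⟨q, trivial, hσ⟩
      rw [hx]
      exact Groth.Agent.Lib.Helper21.GGCrit.genAt_of_mem_genLocus σ hgen
    · obtain ⟨σ, hσ⟩ := hcl x
        (Groth.Agent.Lib.Helper21.CDeg.isClosed_singleton_of_ne_genericPoint X hdim.le x hx)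
      exact Groth.Agent.Lib.Helper21.GGCrit.genAt_of_mem_genLocus σ hσ

end Groth.Agent.S11330
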