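import Groth.Statements.S11353
import Groth.Agent.Lib.Helper21.Biprod2
-- import your own Groth.Agent.* helpers here

set_option autoImplicit false
universe u
open CategoryTheory CategoryTheory.Limits AlgebraicGeometry
open Curves

namespace Groth.Agent.S11353

/-- Let C be a curve over an algebraically closed field k (integral, proper over k, of dimension one,
all local rings regular) and E a decomposable locally free sheaf of rank 2 — E ≅ L₁ ⊕ L₂ with L₁, L₂
invertible — which is normalized: H^0(C, E) ≠ 0 while H^0(C, E ⊗ M) = 0 for every invertible M of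
negative degree. Then E ≅ O_C ⊕ L for an invertible L with deg L ≤ 0; in particular e = -deg E ≥ 0. -/
theorem result (k : Type u) [Field k] [IsAlgClosed k] (C : Scheme.{u}) [C.Over (Spec (CommRingCat.of k))]
    [IsIntegral C] [IsProper (C ↘ (Spec (CommRingCat.of k)))] (hdimC : topologicalKrullDim C = 1)
    (hregC : ∀ x : C, IsRegularLocalRing (C.presheaf.stalk x))
    (E L₁ L₂ : C.Modules) (hL₁ : PicF.IsInvertible L₁) (hL₂ : PicF.IsInvertible L₂) (hE : Nonempty (E ≅ L₁ ⊞ L₂))
    (hn0 : Nontrivial (Coh.HH C E 0))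
    (hneg : ∀ M : C.Modules, PicF.IsInvertible M → Curv2.deg k C M 1 < 0 → Subsingleton (Coh.HH C (CohB1.tensorMod E M) 0)) :
    ∃ L : C.Modules, PicF.IsInvertible L ∧ Curv2.deg k C L 1 ≤ 0 ∧ Nonempty (E ≅ Coh.structureModule C ⊞ L) := by
  obtain ⟨eE⟩ := hE
  have hO1 := Groth.Agent.Lib.Helper21.TwistDown.finrank_HH_zero_unit k C
  -- no summand has positive degree
  have hdegle : ∀ (L : C.Modules) (i : L ⟶ E) (r : E ⟶ L), PicF.IsInvertible L → i ≫ r = 𝟙 L →
      Curv2.deg k C L 1 ≤ 0 := by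
    intro L i r hL hir
    by_contra hpos
    rw [not_le] at hpos
    obtain ⟨L', hL', ⟨eL⟩⟩ := Groth.Agent.Lib.Helper29.QCoh.Dual.exists_inverse hL
    have dL' : Curv2.deg k C L' 1 < 0 := by
      have h3 := Groth.Agent.Lib.Helper21.CDeg.deg_tensorMod k C hdimC.le hL' hL
      rw [Groth.Agent.Lib.Helper21.CDeg.deg_of_iso k eL 1,
        Groth.Agent.Lib.Helper21.CDeg.deg_structureModule] at h3
      omega
    have hsub := hneg L' hL' dL'
    have hret : ((Groth.Agent.Lib.Lead.TwistExact.tensorRight L').map i) ≫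
        ((Groth.Agent.Lib.Lead.TwistExact.tensorRight L').map r) =
        𝟙 ((Groth.Agent.Lib.Lead.TwistExact.tensorRight L').obj L) := by
      rw [← CategoryTheory.Functor.map_comp, hir, CategoryTheory.Functor.map_id]
    have hsub2 : Subsingleton (Coh.HH C (CohB1.tensorMod L L') 0) :=
      Groth.Agent.Lib.Helper21.Biprod2.subsingleton_HH_of_retract k
        ((Groth.Agent.Lib.Lead.TwistExact.tensorRight L').map i)
        ((Groth.Agent.Lib.Lead.TwistExact.tensorRight L').map r) hret 0 hsub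
    have e1 : Module.finrank k (Coh.HH C (CohB1.tensorMod L L') 0) = 1 := by
      rw [(Groth.Agent.Lib.Helper21.CDeg.HHlinEquiv k
        (Groth.Agent.Lib.Helper29.QCoh.tensorBraid L L' ≪≫ eL) 0).finrank_eq]
      exact hO1
    rw [Module.finrank_zero_of_subsingleton] at e1
    exact zero_ne_one e1
  have hd1 : Curv2.deg k C L₁ 1 ≤ 0 :=
    hdegle L₁ (biprod.inl ≫ eE.inv) (eE.hom ≫ biprod.fst) hL₁ (by simp)
  have hd2 : Curv2.deg k C L₂ 1 ≤ 0 :=
    hdegle L₂ (biprod.inr ≫ eE.inv) (eE.hom ≫ biprod.snd) hL₂ (by simp)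
  -- a summand with a section and degree `≤ 0` is trivial
  have htriv : ∀ (L : C.Modules), PicF.IsInvertible L → Curv2.deg k C L 1 ≤ 0 →
      Nontrivial (Coh.HH C L 0) → Nonempty (Coh.structureModule C ≅ L) := by
    intro L hL hd hnt
    have hpos : 0 < Module.finrank k (Coh.HH C L 0) := by
      have := Groth.Agent.Lib.Helper21.SecAdd.finite_HH_zero k C _ hL
      exact Module.finrank_pos
    obtain ⟨σ, hσ⟩ := Groth.Agent.Lib.Helper21.TwistDown.exists_section_ne_zero k C L hpos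
    obtain ⟨hd', -⟩ := Groth.Agent.Lib.Helper21.CDeg.deg_eq_finrank_of_section k C hdimC.le hL σ hσ
    have hd0 : Curv2.deg k C L 1 = 0 := by
      have : (0 : ℤ) ≤ Curv2.deg k C L 1 := by rw [hd']; positivity
      omega
    exact Groth.Agent.Lib.Helper21.BPF.isIso_of_deg_zero k C hdimC L hL hd0 (by omega)
  have hntE : Nontrivial (Coh.HH C (L₁ ⊞ L₂) 0) :=
    (Groth.Agent.Lib.Helper21.CDeg.HHlinEquiv k eE 0).toEquiv.symm.nontrivial
  rcases Groth.Agent.Lib.Helper21.Biprod2.nontrivial_HH_of_biprod k L₁ L₂ 0 hntE with h | h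
  · obtain ⟨i⟩ := htriv L₁ hL₁ hd1 h
    exact ⟨L₂, hL₂, hd2, ⟨eE ≪≫ biprod.mapIso i.symm (Iso.refl L₂)⟩⟩
  · obtain ⟨i⟩ := htriv L₂ hL₂ hd2 h
    exact ⟨L₁, hL₁, hd1, ⟨eE ≪≫ biprod.braiding L₁ L₂ ≪≫ biprod.mapIso i.symm (Iso.refl L₁)⟩⟩

end Groth.Agent.S11353
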