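import Groth.Statements.S1564
import Groth.Agent.Lib.Helper21.CDeg7
-- import your own Groth.Agent.* helpers here

set_option autoImplicit false
universe u
open CategoryTheory CategoryTheory.Limits AlgebraicGeometry
open Curves

namespace Groth.Agent.S1564

/-- Let X be a proper curve over a field k (an integral scheme of dimension 1, proper over k) with
H^0(X, O_X) of dimension 1 over k, and L an invertible O_X-module with H^0(X, L) ≠ 0. Then dim_k
H^0(X, L) ≤ deg L + 1, and if equality holds and deg L > 0 then X has genus zero, i.e. H^1(X, O_X) =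
0. (This is the statement that a linear series of degree d and dimension r has r ≤ d, with equality
for d ≥ 1 only in genus zero. The published statement does not exclude r = d = 0 in the equality
clause, where (O_X, H^0(X, O_X)) is a linear series on every such curve and the conclusion fails in
positive genus; the hypothesis 0 < deg L is therefore added to the equality clause here.) -/
theorem result (k : Type u) [Field k] (X : Scheme.{u}) [X.Over (Spec (CommRingCat.of k))]
    [IsIntegral X] [IsProper (X ↘ (Spec (CommRingCat.of k)))] (hdim : topologicalKrullDim X = 1)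
    (h0 : Module.finrank k (Coh.HH X (Coh.structureModule X) 0) = 1)
    (L : X.Modules) (hL : PicF.IsInvertible L) (hs : Nontrivial (Coh.HH X L 0)) :
    (Module.finrank k (Coh.HH X L 0) : ℤ) ≤ Curv2.deg k X L 1 + 1 ∧
      ((Module.finrank k (Coh.HH X L 0) : ℤ) = Curv2.deg k X L 1 + 1 → 0 < Curv2.deg k X L 1 →
        Curv2.genus k X = 0) := by
  obtain ⟨v, hv⟩ := exists_ne (0 : Coh.HH X L 0)
  have hσ : Groth.Agent.Lib.Helper29.QCoh.hh0 L v ≠ 0 := fun h =>
    hv ((Groth.Agent.Lib.Helper29.QCoh.hh0 L).injective (h.trans (map_zero _).symm))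
  have hs : Groth.Agent.Lib.Helper29.QCoh.homOfSection L
      (Groth.Agent.Lib.Helper29.QCoh.hh0 L v) ≠ 0 := by
    intro h0
    apply hσ
    have h1 := Groth.Agent.Lib.Helper29.QCoh.homOfSection_app_one L
      (Groth.Agent.Lib.Helper29.QCoh.hh0 L v)
    rw [h0] at h1
    exact h1.symm
  obtain ⟨hdeg, -⟩ := Groth.Agent.Lib.Helper21.CDeg.deg_eq_finrank_of_section k X hdim.le hL _ hs
  obtain ⟨hle, hsurj⟩ := Groth.Agent.Lib.Helper21.CDeg.finrank_HH_zero_le k X hL _ hs
  have h0' : Module.finrank k (Coh.HH X (Groth.Agent.Lib.Helper29.QCoh.unitM X) 0) = 1 := h0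
  rw [h0'] at hle hsurj
  refine ⟨?_, fun heq hpos => ?_⟩
  · rw [hdeg]
    exact_mod_cast (by omega : Module.finrank k (Coh.HH X L 0) ≤
      Module.finrank k (Coh.HH X (cokernel (Groth.Agent.Lib.Helper29.QCoh.homOfSection L
        (Groth.Agent.Lib.Helper29.QCoh.hh0 L v))) 0) + 1)
  · rw [hdeg] at heq hpos
    have heq' : Module.finrank k (Coh.HH X L 0) = 1 +
        Module.finrank k (Coh.HH X (cokernel (Groth.Agent.Lib.Helper29.QCoh.homOfSection L
          (Groth.Agent.Lib.Helper29.QCoh.hh0 L v))) 0) := by
      have : (Module.finrank k (Coh.HH X L 0) : ℤ) = ((1 +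
        Module.finrank k (Coh.HH X (cokernel (Groth.Agent.Lib.Helper29.QCoh.homOfSection L
          (Groth.Agent.Lib.Helper29.QCoh.hh0 L v))) 0) : ℕ) : ℤ) := by
        rw [heq]; push_cast; ring
      exact_mod_cast this
    have hpos' : 0 < Module.finrank k (Coh.HH X (cokernel
        (Groth.Agent.Lib.Helper29.QCoh.homOfSection L
          (Groth.Agent.Lib.Helper29.QCoh.hh0 L v))) 0) := by exact_mod_cast hpos
    have := Groth.Agent.Lib.Helper21.CDeg.subsingleton_HH_one_of_surjective k X hdim.le hL _ hs
      (hsurj heq') hpos'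
    unfold Curv2.genus
    exact Module.finrank_zero_of_subsingleton

end Groth.Agent.S1564
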