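import Groth.Statements.S11355
import Groth.Agent.Lib.Helper21.BPF
import Groth.Agent.Lib.Helper21.GenusZero
import Groth.Agent.S1564
-- import your own Groth.Agent.* helpers here

set_option autoImplicit false
universe u
open CategoryTheory CategoryTheory.Limits AlgebraicGeometry
open Curves

namespace Groth.Agent.S11355

/-- Let k be an algebraically closed field and X a curve over k (an integral scheme, proper over k, of
dimension one, with all local rings regular), of genus g ≥ 2. If X is hyperelliptic its g^1_2 is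
unique: for any two linear series (M, s), (M', s') of degree 2 and dimension 1 on X (invertible
modules of degree 2, each with two k-linearly independent global sections), M ≅ M' (existence of an
isomorphism; for g ≥ 2 such a module has exactly a 2-dimensional space of sections, so the linear
series coincide). -/
theorem result (k : Type u) [Field k] [IsAlgClosed k] (X : Scheme.{u}) [X.Over (Spec (CommRingCat.of k))]
    [IsIntegral X] [IsProper (X ↘ (Spec (CommRingCat.of k)))] (hdim : topologicalKrullDim X = 1)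
    (hreg : ∀ x : X, IsRegularLocalRing (X.presheaf.stalk x)) (hg : 2 ≤ Curv2.genus k X)
    (M : X.Modules) (s : Fin 2 → LinSer.Sect X M) (hM : LinSer.IsLinSer k X M 2 1 s)
    (M' : X.Modules) (s' : Fin 2 → LinSer.Sect X M') (hM' : LinSer.IsLinSer k X M' 2 1 s') :
    Nonempty (M ≅ M') := by
  have : IsLocallyNoetherian X :=
    LocallyOfFiniteType.isLocallyNoetherian (X ↘ Spec (CommRingCat.of k))
  obtain ⟨hMi, dM, hMli⟩ := hM
  obtain ⟨hM'i, dM', hM'li⟩ := hM'
  have hO1 := Groth.Agent.Lib.Helper21.TwistDown.finrank_HH_zero_unit k X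
  -- invertible modules of degree `d > 0` have `h⁰ ≤ d`
  have hbound : ∀ (L : X.Modules), PicF.IsInvertible L → 0 < Curv2.deg k X L 1 →
      (Module.finrank k (Coh.HH X L 0) : ℤ) ≤ Curv2.deg k X L 1 := by
    intro L hL hd
    by_cases h0 : Module.finrank k (Coh.HH X L 0) = 0
    · rw [h0]; push_cast; omega
    · have : Nontrivial (Coh.HH X L 0) := Module.nontrivial_of_finrank_pos (Nat.pos_of_ne_zero h0)
      obtain ⟨h1, h2⟩ := Groth.Agent.S1564.result k X hdim hO1 L hL inferInstance
      by_contra hcon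
      have heq : (Module.finrank k (Coh.HH X L 0) : ℤ) = Curv2.deg k X L 1 + 1 := by omega
      have := h2 heq hd
      omega
  -- both modules have exactly two sections
  have h0M : Module.finrank k (Coh.HH X M 0) = 2 := by
    have h1 := Groth.Agent.Lib.Helper21.BPF.le_finrank_of_linIndep k X M hMi s hMli
    have h2 := hbound M hMi (by rw [dM]; norm_num)
    rw [dM] at h2
    push_cast at h2
    omega
  have h0M' : Module.finrank k (Coh.HH X M' 0) = 2 := by
    have h1 := Groth.Agent.Lib.Helper21.BPF.le_finrank_of_linIndep k X M' hM'i s' hM'li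
    have h2 := hbound M' hM'i (by rw [dM']; norm_num)
    rw [dM'] at h2
    push_cast at h2
    omega
  -- `M` is generated by its sections at every point
  have hgen : ∀ x : X, ∃ σ : Groth.Agent.Lib.Helper29.QCoh.unitM X ⟶ M, x ∈ CohB1.genLocus M σ := by
    intro x
    by_cases hx : x = genericPoint X
    · obtain ⟨σ, hσ⟩ := Groth.Agent.Lib.Helper21.TwistDown.exists_section_ne_zero k X M (by omega)
      rw [hx]
      exact ⟨σ, Groth.Agent.Lib.Helper21.CDeg.genericPoint_mem_genLocus hMi σ hσ⟩
    · have hq := Groth.Agent.Lib.Helper21.CDeg.isClosed_singleton_of_ne_genericPoint X hdim.le x hx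
      have hpid : IsPrincipalIdealRing (X.presheaf.stalk x) := by
        have := hreg x
        exact Groth.Agent.Lib.Helper29.QCoh.isPrincipalIdealRing_of_isRegularLocalRing_of_dim_le_one _
          ((Groth.Agent.Lib.Helper29.QCoh.ringKrullDim_stalk_le_topologicalKrullDim X x).trans
            hdim.le)
      have hnf := Groth.Agent.Lib.Helper21.RegPt.not_isField_stalk_of_isClosed hdim x hq
      have hcart := Groth.Agent.Lib.Helper21.RegPt.isEffCartierIdeal_vanishingIdeal_point x hq
        hpid hnf
      have hJ := Groth.Agent.Lib.Helper21.TwistDown.isInvertible_idealMod _ hcart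
      have dJ := Groth.Agent.Lib.Helper21.GenusZero.deg_idealMod_point k X hdim x hq hcart
      have hJM := Groth.Agent.Lib.Helper29.QCoh.isInvertible_tensorMod hJ hMi
      have dJM := Groth.Agent.Lib.Helper21.CDeg.deg_tensorMod k X hdim.le hJ hMi
      rw [dJ, dM] at dJM
      have h1 := hbound _ hJM (by rw [dJM]; norm_num)
      rw [dJM] at h1
      obtain ⟨-, h2⟩ := Groth.Agent.Lib.Helper21.BPF.h0_ideal_seq k X
        (Scheme.IdealSheafData.vanishingIdeal ⟨{x}, hq⟩) M hMi
      have hQ0 := Groth.Agent.Lib.Helper21.RegPt.finrank_HH_zero_quotMod_point k X x hq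
      have hQst : ∀ y, y ∉ ({x} : Set X) → Subsingleton ((ClSub.quotMod
          (Scheme.IdealSheafData.vanishingIdeal ⟨{x}, hq⟩)).presheaf.stalk y) :=
        fun y hy => Groth.Agent.Lib.Helper21.RegPt.subsingleton_stalk_quotMod_point X x hq y hy
      have hZ : ∀ T : Set X, T ⊆ ({x} : Set X) → IsClosed T := by
        intro T hT
        rcases Set.subset_singleton_iff_eq.mp hT with h | h
        · rw [h]; exact isClosed_empty
        · rw [h]; exact hq
      have : (ClSub.quotMod (Scheme.IdealSheafData.vanishingIdeal ⟨{x}, hq⟩)).IsQuasicoherent :=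
        (Groth.Agent.Lib.Helper17.ExtTorsionGeom.isCoh_pushforward_unit
          (Scheme.IdealSheafData.vanishingIdeal ⟨{x}, hq⟩).subschemeι).1
      obtain ⟨Ψ⟩ := Groth.Agent.Lib.Helper21.CDeg.nonempty_linearEquiv_HH_zero_tensorMod k
        (ClSub.quotMod (Scheme.IdealSheafData.vanishingIdeal ⟨{x}, hq⟩)) M hMi {x} hZ hQst
      rw [← Ψ.finrank_eq, hQ0] at h2
      apply (Groth.Agent.Lib.Helper21.GGCrit.finrank_eq_iff_exists_mem_genLocus k X x hq M hMi).mp
      push_cast at h1
      omega
  obtain ⟨s₁, s₂, hcov⟩ := Groth.Agent.Lib.Helper21.BPF.exists_pencil' k X M hMi hgen h0M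
  -- suppose the modules are not isomorphic
  by_contra hne
  rw [not_nonempty_iff] at hne
  obtain ⟨D', hD', ⟨eD⟩⟩ := Groth.Agent.Lib.Helper29.QCoh.Dual.exists_inverse hMi
  have hN₀ := Groth.Agent.Lib.Helper29.QCoh.isInvertible_tensorMod hM'i hD'
  have iso1 : CohB1.tensorMod (CohB1.tensorMod M' D') M ≅ M' :=
    Groth.Agent.Lib.Helper29.QCoh.tensorAssoc M' D' M ≪≫
      Groth.Agent.Lib.Helper29.QCoh.tensorCongr (Iso.refl M') eD ≪≫
      Groth.Agent.Lib.Helper29.QCoh.tensorUnitR M'
  have e3 : Module.finrank k (Coh.HH X (CohB1.tensorMod M' D') 0) = 0 := by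
    by_contra hne0
    have dN : Curv2.deg k X (CohB1.tensorMod M' D') 1 = 0 := by
      have h3 := Groth.Agent.Lib.Helper21.CDeg.deg_tensorMod k X hdim.le hN₀ hMi
      rw [Groth.Agent.Lib.Helper21.CDeg.deg_of_iso k iso1 1] at h3
      omega
    obtain ⟨i⟩ := Groth.Agent.Lib.Helper21.BPF.isIso_of_deg_zero k X hdim _ hN₀ dN hne0
    exact hne.false ((Groth.Agent.Lib.Helper29.QCoh.tensorUnitL M).symm ≪≫
      Groth.Agent.Lib.Helper29.QCoh.tensorCongr i (Iso.refl M) ≪≫ iso1)
  -- the tower `P n = M' ⊗ M^{-1} ⊗ M^{n+1}`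
  let P : ℕ → X.Modules := Groth.Agent.Lib.Helper21.BPF.tower (CohB1.tensorMod M' D') M
  have hP0 : P 0 = CohB1.tensorMod (CohB1.tensorMod M' D') M := rfl
  have hPs : ∀ n, P (n + 1) = CohB1.tensorMod (P n) M := fun _ => rfl
  have hPi : ∀ n, PicF.IsInvertible (P n) := by
    intro n
    induction n with
    | zero => exact Groth.Agent.Lib.Helper29.QCoh.isInvertible_tensorMod hN₀ hMi
    | succ n ih => rw [hPs]; exact Groth.Agent.Lib.Helper29.QCoh.isInvertible_tensorMod ih hMi
  have hPd : ∀ n : ℕ, Curv2.deg k X (P n) 1 = 2 + 2 * n := by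
    intro n
    induction n with
    | zero =>
      rw [hP0, Groth.Agent.Lib.Helper21.CDeg.deg_of_iso k iso1 1, dM']
      norm_num
    | succ n ih =>
      rw [hPs, Groth.Agent.Lib.Helper21.CDeg.deg_tensorMod k X hdim.le (hPi n) hMi, ih, dM]
      push_cast
      ring
  have ha0 : Module.finrank k (Coh.HH X (P 0) 0) = 2 := by
    rw [hP0, (Groth.Agent.Lib.Helper21.CDeg.HHlinEquiv k iso1 0).finrank_eq, h0M']
  have hb0 := Groth.Agent.Lib.Helper21.BPF.two_mul_finrank_le k X (CohB1.tensorMod M' D') M
    hN₀ hMi s₁ s₂ hcov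
  have hbn : ∀ n, 2 * Module.finrank k (Coh.HH X (P (n + 1)) 0) ≤
      Module.finrank k (Coh.HH X (P (n + 1 + 1)) 0) + Module.finrank k (Coh.HH X (P n) 0) :=
    fun n => Groth.Agent.Lib.Helper21.BPF.two_mul_finrank_le k X (P n) M (hPi n) hMi s₁ s₂ hcov
  have hb0' : 2 * Module.finrank k (Coh.HH X (P 0) 0) ≤
      Module.finrank k (Coh.HH X (P (0 + 1)) 0) +
        Module.finrank k (Coh.HH X (CohB1.tensorMod M' D') 0) := hb0
  clear hb0
  have hgrow : ∀ n, Module.finrank k (Coh.HH X (P n) 0) + 2 ≤
      Module.finrank k (Coh.HH X (P (n + 1)) 0) ∧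
      2 * n + 2 ≤ Module.finrank k (Coh.HH X (P n) 0) := by
    intro n
    induction n with
    | zero => constructor <;> omega
    | succ n ih =>
      have := hbn n
      constructor <;> omega
  -- contradiction in large degree
  obtain ⟨-, hbig⟩ := hgrow (Curv2.genus k X)
  have v := Groth.Agent.Lib.Helper21.TwistDown.h1_vanish k X hdim _ (hPi (Curv2.genus k X))
    (by rw [hPd]; omega)
  have z : Module.finrank k (Coh.HH X (P (Curv2.genus k X)) 1) = 0 := by
    have := v; exact Module.finrank_zero_of_subsingleton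
  have rrP := Groth.Agent.Lib.Helper21.BPF.rr k X hdim (P (Curv2.genus k X))
  rw [hPd, z] at rrP
  push_cast at rrP
  omega

end Groth.Agent.S11355
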