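import Groth.Statements.S11360
import Groth.Agent.Lib.Helper2.DualLoc
import Groth.Agent.Lib.Helper13.DRingInj

set_option autoImplicit false
universe u
open CategoryTheory
attribute [local instance] HasDerivedCategory.standard
open Dual

namespace Groth.Agent.S11360
section Aux
open CategoryTheory.Limits DerivedCategory

variable {B : Type u} [CommRing B]

lemma bijective_smul_id_of_iso {X Y : Dual.D B} (e : X ≅ Y)
    (h : Function.Bijective (fun b : B => b • 𝟙 X)) : Function.Bijective (fun b : B => b • 𝟙 Y) := by
  have : (fun b : B => b • 𝟙 Y) = (e.homCongr e) ∘ (fun b : B => b • 𝟙 X) := by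
    funext b
    simp [Iso.homCongr]
  rw [this]
  exact (e.homCongr e).bijective.comp h

lemma subsingleton_shift_of_iso {X Y : Dual.D B} (e : X ≅ Y) (i : ℤ)
    (h : Subsingleton (X ⟶ X⟦i⟧)) : Subsingleton (Y ⟶ Y⟦i⟧) :=
  (e.homCongr ((shiftFunctor (Dual.D B) i).mapIso e)).symm.subsingleton

end Aux

/-- Let A be a Noetherian ring and R an object of D(A) with finite cohomology modules and of finite
injective dimension (isomorphic to a bounded complex of injective modules). If for every prime p of
A the derived base change of R to A_p (the total left derived functor of extension of scalars,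
assumed to exist) is a dualizing complex for A_p, then R is a dualizing complex for A. (The
published statement is for a locally Noetherian scheme and the stalks at all points; this row is the
affine case. Without the global finite injective dimension hypothesis the conclusion fails, e.g. for
a regular Noetherian ring of infinite Krull dimension.) -/
theorem result (A : Type u) [CommRing A] [IsNoetherianRing A] (R : Dual.D A) (hfin : ∀ i : ℤ, Module.Finite A (Dual.HD A R i)) (hfid : DRing.HasFiniteInjDim A R) [∀ p : PrimeSpectrum A, DRing.HasLBaseChange (algebraMap A (Localization.AtPrime p.asIdeal))] (h : ∀ p : PrimeSpectrum A, Dual.IsDualizing (Localization.AtPrime p.asIdeal) ((DRing.LBaseChange (algebraMap A (Localization.AtPrime p.asIdeal))).obj R)) : Dual.IsDualizing A R := by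
  classical
  obtain ⟨a, b, hab⟩ := hfid
  have hab' := hab
  obtain ⟨E, hE, hinjE, ⟨e⟩⟩ := hab'
  haveI : E.IsStrictlyGE a := by
    rw [CochainComplex.isStrictlyGE_iff]
    intro n hn
    exact hE n (Or.inl hn)
  haveI : E.IsStrictlyLE b := by
    rw [CochainComplex.isStrictlyLE_iff]
    intro n hn
    exact hE n (Or.inr hn)
  haveI : R.IsGE a := DerivedCategory.TStructure.t.isGE_of_iso e a
  haveI : R.IsLE b := DerivedCategory.TStructure.t.isLE_of_iso e b
  have hK : DRing.IsPseudoCoherent' A R := by
    rw [Groth.Agent.Lib.Helper13.DR.isPseudoCoherent'_iff_forall]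
    intro m'
    rw [Groth.Agent.Lib.Helper13.DR.isPseudoCoherent_iff_of_isNoetherianRing]
    exact ⟨⟨b, fun j hj => ModuleCat.subsingleton_of_isZero (R.isZero_of_isLE b j hj)⟩,
      fun j _ => hfin j⟩
  refine ⟨inferInstance, ⟨a, b, fun M _ _ i hi =>
    Groth.Agent.Lib.Helper13.DR.ext_subsingleton_of_hasInjAmplitudeIn R a b hab M i hi⟩, hfin, ?_, ?_⟩
  · apply Groth.Agent.Lib.Helper2.DualLoc.bijective_toEnd R hK a
    intro m _
    exact bijective_smul_id_of_iso
      ((Groth.Agent.Lib.Helper13.Shriek.LBaseChangeFlatIso A (Localization.AtPrime m)).app R)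
      (h ⟨m, inferInstance⟩).toEnd_bijective
  · intro i hi
    apply Groth.Agent.Lib.Helper2.DualLoc.subsingleton_hom_shift R hK a i
    intro m _
    exact subsingleton_shift_of_iso
      ((Groth.Agent.Lib.Helper13.Shriek.LBaseChangeFlatIso A (Localization.AtPrime m)).app R) i
      ((h ⟨m, inferInstance⟩).ext_self_subsingleton i hi)

end Groth.Agent.S11360
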