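import Groth.Statements.S11395
import Mathlib
import Groth.Agent.Lib.Helper10.RigidAA3
import Groth.Agent.Lib.Helper10.KPts1

set_option autoImplicit false
universe u
open CategoryTheory MonoidalCategory CartesianMonoidalCategory MonObj GrpObj AlgebraicGeometry CategoryTheory.Limits
open AlgGrp

namespace Groth.Agent.S11395

/-- Over an algebraically closed field k, let X, Y and Z be k-schemes of finite type such that the only
global functions on X are the constants, Y is connected and Z is separated over k. Let f : X × Y → Z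
be a k-morphism and y₀, z₀ rational points of Y, Z such that the restriction of f to X × y₀ is the
constant morphism with value z₀ (as a morphism of schemes; for reduced X this is the condition on
closed points). Then there is a unique morphism g : Y → Z with f = g ∘ pr₂. -/
theorem result (k : Type u) [Field k] [IsAlgClosed k]
    (X Y Z : Over (Spec (CommRingCat.of k))) [LocallyOfFiniteType X.hom] [QuasiCompact X.hom]
    [LocallyOfFiniteType Y.hom] [QuasiCompact Y.hom] [LocallyOfFiniteType Z.hom] [QuasiCompact Z.hom]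
    (hX : Function.Bijective ((Scheme.ΓSpecIso (CommRingCat.of k)).inv ≫ X.hom.appTop).hom)
    [ConnectedSpace ↥Y.left] [IsSeparated Z.hom]
    (f : X ⊗ Y ⟶ Z) (y₀ : 𝟙_ (Over (Spec (CommRingCat.of k))) ⟶ Y) (z₀ : 𝟙_ (Over (Spec (CommRingCat.of k))) ⟶ Z)
    (hf : (X ◁ y₀) ≫ f = toUnit _ ≫ z₀) :
    ∃! g : Y ⟶ Z, f = snd X Y ≫ g := by
  haveI : Nonempty ↥X.left := by
    by_contra h
    haveI : IsEmpty ↥X.left := not_nonempty_iff.mp h
    have := hX.injective (Subsingleton.elim (α := Γ(X.left, ⊤)) _ _ : _ = _) (a₁ := (0 : k)) (a₂ := 1)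
    exact zero_ne_one this
  obtain ⟨φ, hφ⟩ := Groth.Agent.Lib.Helper10.KPts.exists_section (K := k) X.hom
  let x₀ : 𝟙_ (Over (Spec (CommRingCat.of k))) ⟶ X := Over.homMk φ hφ
  haveI : IsLocallyNoetherian Y.left := LocallyOfFiniteType.isLocallyNoetherian Y.hom
  haveI : IsLocallyNoetherian X.left := LocallyOfFiniteType.isLocallyNoetherian X.hom
  haveI : QuasiSeparated X.hom :=
    (HasAffineProperty.iff_of_isAffine (P := @QuasiSeparated)).mpr inferInstance
  haveI : Nonempty ↥(𝟙_ (Over (Spec (CommRingCat.of k)))).left :=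
    inferInstanceAs (Nonempty (PrimeSpectrum k))
  have hgood : Groth.Agent.Lib.Helper10.RigidAA.Good x₀ f y₀ := by
    apply Groth.Agent.Lib.Helper10.RigidAA.good_of_factor x₀ f y₀ z₀
    rw [hf]
    congr 1
    exact toUnit_unique _ _
  have key := Groth.Agent.Lib.Helper10.RigidAA.rigidity X Y Z hX x₀ f y₀ hgood
  refine ⟨CartesianMonoidalCategory.lift (toUnit Y ≫ x₀) (𝟙 Y) ≫ f, key, ?_⟩
  intro g hg
  have h1 : CartesianMonoidalCategory.lift (toUnit Y ≫ x₀) (𝟙 Y) ≫ CartesianMonoidalCategory.snd X Y
      = 𝟙 Y := lift_snd _ _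
  rw [hg, reassoc_of% h1]

end Groth.Agent.S11395
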