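import Groth.Statements.S11421
import Mathlib
import Groth.Agent.Lib.Helper10.RigidAA4
import Groth.Agent.Lib.Helper10.KPts1

set_option autoImplicit false
universe u
open CategoryTheory MonoidalCategory CartesianMonoidalCategory MonObj GrpObj AlgebraicGeometry CategoryTheory.Limits
open AlgGrp

namespace Groth.Agent.S11421

/-- Over an algebraically closed field k, let G be an algebraic group (smooth k-group scheme of finite
type) whose only global functions are the constants, H a connected algebraic group, S a connected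
k-scheme of finite type and f : G × S → H a morphism of k-schemes. Then there are a unique
k-morphism φ : S → H and a unique homomorphism ψ : G → H with f(g, s) = φ(s) · ψ(g) on points. (This
is the decomposition, over a connected base, behind the identification of the functor of morphisms
from G to H with H × Hom_gp(G, H); the published statement is the equivalence of representability of
that functor with anti-affineness of G, whose converse direction is not stated here.) -/
theorem result (k : Type u) [Field k] [IsAlgClosed k]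
    (G H S : Over (Spec (CommRingCat.of k))) [GrpObj G] [Smooth G.hom] [QuasiCompact G.hom]
    (hG : Function.Bijective ((Scheme.ΓSpecIso (CommRingCat.of k)).inv ≫ G.hom.appTop).hom)
    [GrpObj H] [Smooth H.hom] [QuasiCompact H.hom] [ConnectedSpace ↥H.left]
    [LocallyOfFiniteType S.hom] [QuasiCompact S.hom] [ConnectedSpace ↥S.left]
    (f : G ⊗ S ⟶ H) :
    ∃ (φ : S ⟶ H) (ψ : G ⟶ H), IsMonHom ψ ∧ f = (snd G S ≫ φ) * (fst G S ≫ ψ) ∧
      ∀ (φ' : S ⟶ H) (ψ' : G ⟶ H), IsMonHom ψ' → f = (snd G S ≫ φ') * (fst G S ≫ ψ') → φ' = φ ∧ ψ' = ψ := by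
  haveI : LocallyOfFiniteType G.hom := inferInstance
  haveI := Groth.Agent.Lib.Helper10.RigidAA.quasiSeparated_of_lft G
  haveI : IsLocallyNoetherian S.left := LocallyOfFiniteType.isLocallyNoetherian S.hom
  obtain ⟨s₁, hs₁⟩ := Groth.Agent.Lib.Helper10.KPts.exists_section (K := k) S.hom
  let s₀ : 𝟙_ (Over (Spec (CommRingCat.of k))) ⟶ S := Over.homMk s₁ hs₁
  -- φ(s) = f(e, s)
  let φ : S ⟶ H := CartesianMonoidalCategory.lift (toUnit S ≫ η[G]) (𝟙 S) ≫ f
  -- F(g, s) = φ(s)⁻¹ f(g, s)
  let F : G ⊗ S ⟶ H := (CartesianMonoidalCategory.snd G S ≫ φ)⁻¹ * f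
  have hF : CartesianMonoidalCategory.lift (toUnit S ≫ η[G]) (𝟙 S) ≫ F = 1 := by
    show CartesianMonoidalCategory.lift (toUnit S ≫ η[G]) (𝟙 S) ≫
      ((CartesianMonoidalCategory.snd G S ≫ φ)⁻¹ * f) = 1
    rw [MonObj.comp_mul, GrpObj.comp_inv, lift_snd_assoc, Category.id_comp]
    exact inv_mul_cancel _
  -- ψ(g) = F(g, s₀)
  let ψ : G ⟶ H := CartesianMonoidalCategory.lift (𝟙 G) (toUnit G ≫ s₀) ≫ F
  have e0 : η[G] ≫ CartesianMonoidalCategory.lift (𝟙 G) (toUnit G ≫ s₀) =
      s₀ ≫ CartesianMonoidalCategory.lift (toUnit S ≫ η[G]) (𝟙 S) := by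
    apply CartesianMonoidalCategory.hom_ext
    · rw [Category.assoc, lift_fst, Category.assoc, lift_fst, Category.comp_id, ← Category.assoc,
        toUnit_unique (s₀ ≫ toUnit S) (𝟙 _), Category.id_comp]
    · rw [Category.assoc, lift_snd, Category.assoc, lift_snd, Category.comp_id, ← Category.assoc,
        toUnit_unique (η[G] ≫ toUnit G) (𝟙 _), Category.id_comp]
  have hψ1 : η[G] ≫ ψ = η[H] := by
    show η[G] ≫ CartesianMonoidalCategory.lift (𝟙 G) (toUnit G ≫ s₀) ≫ F = η[H]
    rw [← Category.assoc, e0, Category.assoc, hF, MonObj.comp_one, Hom.one_def,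
      toUnit_unique (toUnit _) (𝟙 _), Category.id_comp]
  haveI hψ : IsMonHom ψ :=
    Groth.Agent.Lib.Helper10.RigidAA.isMonHom_of_antiAffine G H hG ψ hψ1
  -- Φ(g, s) = F(g, s) ψ(g)⁻¹
  let Φ : G ⊗ S ⟶ H := F * (CartesianMonoidalCategory.fst G S ≫ ψ)⁻¹
  have h1 : (G ◁ s₀) ≫ Φ = 1 := by
    show (G ◁ s₀) ≫ (F * (CartesianMonoidalCategory.fst G S ≫ ψ)⁻¹) = 1
    rw [MonObj.comp_mul, GrpObj.comp_inv, whiskerLeft_fst_assoc, mul_inv_eq_one]
    show (G ◁ s₀) ≫ F = CartesianMonoidalCategory.fst G _ ≫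
      CartesianMonoidalCategory.lift (𝟙 G) (toUnit G ≫ s₀) ≫ F
    rw [← Category.assoc (CartesianMonoidalCategory.fst G _)]
    congr 1
    apply CartesianMonoidalCategory.hom_ext
    · rw [whiskerLeft_fst, Category.assoc, lift_fst, Category.comp_id]
    · rw [whiskerLeft_snd, Category.assoc, lift_snd, ← Category.assoc]
      congr 1
      exact toUnit_unique _ _
  have h2 : CartesianMonoidalCategory.lift (toUnit S ≫ η[G]) (𝟙 S) ≫ Φ = 1 := by
    show CartesianMonoidalCategory.lift (toUnit S ≫ η[G]) (𝟙 S) ≫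
      (F * (CartesianMonoidalCategory.fst G S ≫ ψ)⁻¹) = 1
    rw [MonObj.comp_mul, GrpObj.comp_inv, hF, lift_fst_assoc, Category.assoc, hψ1, ← Hom.one_def]
    simp
  have hΦ := Groth.Agent.Lib.Helper10.RigidAA.eq_one_of_rigid G S H hG η[G] s₀ Φ h1 h2
  have hFψ : F = CartesianMonoidalCategory.fst G S ≫ ψ := by
    have : F * (CartesianMonoidalCategory.fst G S ≫ ψ)⁻¹ = 1 := hΦ
    rwa [mul_inv_eq_one] at this
  have hf : f = (CartesianMonoidalCategory.snd G S ≫ φ) * (CartesianMonoidalCategory.fst G S ≫ ψ) := by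
    rw [← hFψ]
    show f = (CartesianMonoidalCategory.snd G S ≫ φ) * ((CartesianMonoidalCategory.snd G S ≫ φ)⁻¹ * f)
    rw [mul_inv_cancel_left]
  refine ⟨φ, ψ, hψ, hf, ?_⟩
  intro φ' ψ' hψ' hf'
  have hφ' : φ' = φ := by
    show φ' = CartesianMonoidalCategory.lift (toUnit S ≫ η[G]) (𝟙 S) ≫ f
    rw [hf', MonObj.comp_mul, lift_snd_assoc, lift_fst_assoc, Category.id_comp, Category.assoc,
      IsMonHom.one_hom, ← Hom.one_def, _root_.mul_one]
  refine ⟨hφ', ?_⟩
  have h3 : CartesianMonoidalCategory.fst G S ≫ ψ' = CartesianMonoidalCategory.fst G S ≫ ψ := by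
    have := hf.symm.trans hf'
    rw [hφ'] at this
    exact (mul_left_cancel this).symm
  have h4 := congrArg (fun m => CartesianMonoidalCategory.lift (𝟙 G) (toUnit G ≫ s₀) ≫ m) h3
  simp only [lift_fst_assoc, Category.id_comp] at h4
  exact h4

end Groth.Agent.S11421
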