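import Groth.Statements.S11404
import Mathlib
import Groth.Agent.Lib.Helper10.RigidAA8
import Groth.Agent.S11421

set_option autoImplicit false
universe u
open CategoryTheory MonoidalCategory CartesianMonoidalCategory MonObj GrpObj AlgebraicGeometry CategoryTheory.Limits
open AlgGrp

namespace Groth.Agent.S11404

/-- Over an algebraically closed field k, let A be an abelian variety (a proper, smooth, connected
k-group scheme) and S a connected k-scheme of finite type. For every automorphism f of A × S over S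
there are a unique k-morphism g : S → A and a unique group automorphism h of A with f(a, s) = (g(s)
· h(a), s) on points. (This is the functor-of-points form, over a connected base, of the
identification of the automorphism group scheme of A with the semidirect product of A, acting by
translations, and the constant group of group automorphisms; in particular the neutral component is
A.) -/
theorem result (k : Type u) [Field k] [IsAlgClosed k]
    (A S : Over (Spec (CommRingCat.of k))) [GrpObj A] [IsProper A.hom] [Smooth A.hom] [ConnectedSpace ↥A.left]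
    [LocallyOfFiniteType S.hom] [QuasiCompact S.hom] [ConnectedSpace ↥S.left]
    (f : A ⊗ S ≅ A ⊗ S) (hf : f.hom ≫ snd A S = snd A S) :
    ∃ (g : S ⟶ A) (h : A ⟶ A), IsMonHom h ∧ IsIso h ∧
      f.hom ≫ fst A S = (snd A S ≫ g) * (fst A S ≫ h) ∧
      ∀ (g' : S ⟶ A) (h' : A ⟶ A), IsMonHom h' →
        f.hom ≫ fst A S = (snd A S ≫ g') * (fst A S ≫ h') → g' = g ∧ h' = h := by
  have hA := Groth.Agent.Lib.Helper10.RigidAA.bijective_of_proper_smooth A
  haveI : QuasiCompact A.hom := inferInstance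
  obtain ⟨φ, ψ, hψ, hF, huniq⟩ := Groth.Agent.S11421.result k A A S hA
    (f.hom ≫ CartesianMonoidalCategory.fst A S)
  obtain ⟨φ', ψ', hψ', hF', huniq'⟩ := Groth.Agent.S11421.result k A A S hA
    (f.inv ≫ CartesianMonoidalCategory.fst A S)
  obtain ⟨φ₀, ψ₀, hψ₀, hF₀, huniq₀⟩ := Groth.Agent.S11421.result k A A S hA
    (CartesianMonoidalCategory.fst A S)
  have hf' : f.inv ≫ CartesianMonoidalCategory.snd A S = CartesianMonoidalCategory.snd A S := by
    rw [Iso.inv_comp_eq, hf]
  -- the identity decomposition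
  have hid : CartesianMonoidalCategory.fst A S =
      (CartesianMonoidalCategory.snd A S ≫ (1 : S ⟶ A)) *
        (CartesianMonoidalCategory.fst A S ≫ 𝟙 A) := by
    rw [MonObj.comp_one, Category.comp_id, _root_.one_mul]
  have hψ₀id : (𝟙 A : A ⟶ A) = ψ₀ := (huniq₀ 1 (𝟙 A) inferInstance hid).2
  -- composites
  have key : ∀ (φ₁ φ₂ : S ⟶ A) (ψ₁ ψ₂ : A ⟶ A) [IsMonHom ψ₂] (g₁ g₂ : A ⊗ S ⟶ A ⊗ S)
      (h₁ : g₁ ≫ CartesianMonoidalCategory.fst A S =
        (CartesianMonoidalCategory.snd A S ≫ φ₁) * (CartesianMonoidalCategory.fst A S ≫ ψ₁))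
      (h₁' : g₁ ≫ CartesianMonoidalCategory.snd A S = CartesianMonoidalCategory.snd A S)
      (h₂ : g₂ ≫ CartesianMonoidalCategory.fst A S =
        (CartesianMonoidalCategory.snd A S ≫ φ₂) * (CartesianMonoidalCategory.fst A S ≫ ψ₂)),
      (g₁ ≫ g₂) ≫ CartesianMonoidalCategory.fst A S =
        (CartesianMonoidalCategory.snd A S ≫ (φ₂ * (φ₁ ≫ ψ₂))) *
          (CartesianMonoidalCategory.fst A S ≫ (ψ₁ ≫ ψ₂)) := by
    intro φ₁ φ₂ ψ₁ ψ₂ _ g₁ g₂ h₁ h₁' h₂
    rw [Category.assoc, h₂, MonObj.comp_mul, ← Category.assoc, h₁', ← Category.assoc g₁, h₁,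
      MonObj.mul_comp, MonObj.comp_mul, Category.assoc, Category.assoc, _root_.mul_assoc]
  have h1 : ψ ≫ ψ' = 𝟙 A := by
    have := key φ φ' ψ ψ' f.hom f.inv hF hf hF'
    rw [Iso.hom_inv_id, Category.id_comp] at this
    rw [hψ₀id]
    exact (huniq₀ _ (ψ ≫ ψ') inferInstance this).2
  have h2 : ψ' ≫ ψ = 𝟙 A := by
    have := key φ' φ ψ' ψ f.inv f.hom hF' hf' hF
    rw [Iso.inv_hom_id, Category.id_comp] at this
    rw [hψ₀id]
    exact (huniq₀ _ (ψ' ≫ ψ) inferInstance this).2
  exact ⟨φ, ψ, hψ, ⟨ψ', h1, h2⟩, hF, huniq⟩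

end Groth.Agent.S11404
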