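import Groth.Statements.S11405
-- import your own Groth.Agent.* helpers here
import Groth.Agent.Lib.Helper29.LinRep7

set_option autoImplicit false
universe u
open CategoryTheory MonoidalCategory CartesianMonoidalCategory MonObj GrpObj AlgebraicGeometry CategoryTheory.Limits
open AlgGrp

namespace Groth.Agent.S11405

/-- Over an algebraically closed field k, the following are equivalent for an algebraic group G (a
smooth k-group scheme of finite type): (i) the only global functions on G are the constants; (ii)
every finite-dimensional linear representation of G is trivial (every point of G with values in a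
k-algebra B acts as the identity on B ⊗ M, for every G-module structure on a finite-dimensional
k-vector space M); (iii) every action of G on a variety (integral, separated k-scheme of finite
type) with a fixed rational point is the trivial action. Stated as (i) ⇔ (ii) and (i) ⇔ (iii). -/
theorem result (k : Type u) [Field k] [IsAlgClosed k]
    (G : Over (Spec (CommRingCat.of k))) [GrpObj G] [Smooth G.hom] [QuasiCompact G.hom] :
    (Function.Bijective ((Scheme.ΓSpecIso (CommRingCat.of k)).inv ≫ G.hom.appTop).hom ↔
      ∀ (M : Type u) [AddCommGroup M] [Module k M] [Module.Finite k M] (m : VecGrp.GMod G M)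
        (B : Type u) [CommRing B] [Algebra k B] (g : VecGrp.pt k B ⟶ G), m.ρ B g = 1) ∧
    (Function.Bijective ((Scheme.ΓSpecIso (CommRingCat.of k)).inv ≫ G.hom.appTop).hom ↔
      ∀ (X : Over (Spec (CommRingCat.of k))) [LocallyOfFiniteType X.hom] [QuasiCompact X.hom] [IsSeparated X.hom]
        [IsIntegral X.left] (a : AlgGrp.Action G X) (x : 𝟙_ (Over (Spec (CommRingCat.of k))) ⟶ X), a.IsFixedPt x → a.act = snd G X) := by
  haveI : LocallyOfFiniteType G.hom := inferInstance
  haveI : CompactSpace G.left := Groth.Agent.Lib.Helper29.LinRep.compact_left G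
  haveI : QuasiSeparatedSpace G.left := Groth.Agent.Lib.Helper29.LinRep.qs_left G
  haveI : QuasiCompact (G ⊗ G).hom := Groth.Agent.Lib.Helper29.LinRep.qc_tensor G G
  haveI : LocallyOfFiniteType (G ⊗ G).hom := Groth.Agent.Lib.Helper29.LinRep.lft_tensor G G
  haveI : CompactSpace (G ⊗ G).left := Groth.Agent.Lib.Helper29.LinRep.compact_left (G ⊗ G)
  haveI : QuasiSeparatedSpace (G ⊗ G).left := Groth.Agent.Lib.Helper29.LinRep.qs_left (G ⊗ G)
  have hinj : Function.Injective
      ((Scheme.ΓSpecIso (CommRingCat.of k)).inv ≫ G.hom.appTop).hom := by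
    haveI : Nontrivial Γ(Spec (CommRingCat.of k), ⊤) :=
      (Groth.Agent.Lib.Helper29.AffAttr.isField_Γ_Spec k).nontrivial
    haveI : Nontrivial Γ(G.left, ⊤) :=
      RingHom.domain_nontrivial (show Γ(G.left, ⊤) →+* Γ(Spec (CommRingCat.of k), ⊤) from
        η[G].left.appTop.hom)
    exact RingHom.injective _
  have hsurj : (∀ f : Γ(G.left, ⊤), ∃ r : Γ(Spec (CommRingCat.of k), ⊤),
      G.hom.appTop.hom r = f) →
      Function.Surjective ((Scheme.ΓSpecIso (CommRingCat.of k)).inv ≫ G.hom.appTop).hom := by
    intro h f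
    obtain ⟨r, hr⟩ := h f
    refine ⟨(Scheme.ΓSpecIso (CommRingCat.of k)).hom.hom r, ?_⟩
    have e : (Scheme.ΓSpecIso (CommRingCat.of k)).inv.hom
        ((Scheme.ΓSpecIso (CommRingCat.of k)).hom.hom r) = r := by
      change ((Scheme.ΓSpecIso (CommRingCat.of k)).hom ≫
        (Scheme.ΓSpecIso (CommRingCat.of k)).inv).hom r = r
      rw [Iso.hom_inv_id]
      rfl
    change G.hom.appTop.hom ((Scheme.ΓSpecIso (CommRingCat.of k)).inv.hom
      ((Scheme.ΓSpecIso (CommRingCat.of k)).hom.hom r)) = f
    rw [e]
    exact hr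
  refine ⟨⟨?_, ?_⟩, ⟨?_, ?_⟩⟩
  · intro hG M _ _ _ m B _ _ g
    exact Groth.Agent.Lib.Helper29.GModTriv.rho_eq_one_of_bijective m hG B g
  · intro h
    refine ⟨hinj, hsurj fun f => ?_⟩
    exact Groth.Agent.Lib.Helper29.LinRep.const_of_matrix_trivial G
      (fun J _ _ mm h1 hmul =>
        Groth.Agent.Lib.Helper29.GModMat.matrix_trivial_of_gmod_trivial G
          (fun M _ _ _ m B _ _ g => h M m B g) J mm h1 hmul) f
  · intro hG X _ _ _ _ a x hx
    exact Groth.Agent.Lib.Helper29.LinRep.trivial_of_bijective_conn G hG X a x hx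
  · intro h
    refine ⟨hinj, hsurj fun f => ?_⟩
    exact Groth.Agent.Lib.Helper29.LinRep.const_of_trivial G
      (fun J _ a x hx => h (Groth.Agent.Lib.Helper29.LinRep.AJ k J) a x hx) f

end Groth.Agent.S11405
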