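import Groth.Statements.S11420
import Mathlib
import Groth.Agent.Lib.Helper10.RigidAA10

set_option autoImplicit false
universe u
open CategoryTheory MonoidalCategory CartesianMonoidalCategory MonObj GrpObj AlgebraicGeometry CategoryTheory.Limits
open AlgGrp

namespace Groth.Agent.S11420

/-- Over an algebraically closed field k, let X and Y be complete varieties (proper, integral, separated
k-schemes of finite type) and let a connected k-group scheme of finite type G act on X × Y. Then
there are unique actions of G on X and on Y such that the given action is the product action g·(x,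
y) = (g·x, g·y). (This is the form, for actions of connected group schemes, of the identification of
the neutral component of the automorphism group scheme of X × Y with the product of those of X and
Y; the representability of these group schemes is not asserted here.) -/
theorem result (k : Type u) [Field k] [IsAlgClosed k]
    (G X Y : Over (Spec (CommRingCat.of k))) [GrpObj G] [LocallyOfFiniteType G.hom] [QuasiCompact G.hom] [ConnectedSpace ↥G.left]
    [IsProper X.hom] [IsIntegral X.left]
    [IsProper Y.hom] [IsIntegral Y.left]
    (a : AlgGrp.Action G (X ⊗ Y)) :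
    ∃ (b : AlgGrp.Action G X) (c : AlgGrp.Action G Y),
      a.act = lift ((G ◁ fst X Y) ≫ b.act) ((G ◁ snd X Y) ≫ c.act) ∧
      ∀ (b' : AlgGrp.Action G X) (c' : AlgGrp.Action G Y),
        a.act = lift ((G ◁ fst X Y) ≫ b'.act) ((G ◁ snd X Y) ≫ c'.act) → b' = b ∧ c' = c := by
  have hX := Groth.Agent.Lib.Helper10.RigidAA.bijective_of_universallyClosed X
  have hY := Groth.Agent.Lib.Helper10.RigidAA.bijective_of_universallyClosed Y
  obtain ⟨x₁, hx₁⟩ := Groth.Agent.Lib.Helper10.KPts.exists_section (K := k) X.hom
  obtain ⟨y₁, hy₁⟩ := Groth.Agent.Lib.Helper10.KPts.exists_section (K := k) Y.hom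
  let x₀ : 𝟙_ (Over (Spec (CommRingCat.of k))) ⟶ X := Over.homMk x₁ hx₁
  let y₀ : 𝟙_ (Over (Spec (CommRingCat.of k))) ⟶ Y := Over.homMk y₁ hy₁
  exact Groth.Agent.Lib.Helper10.RigidAA.exists_product_actions G X Y hX hY x₀ y₀ a

end Groth.Agent.S11420
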