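import Groth.Statements.S11438
import Mathlib
import Groth.Agent.Lib.Helper26.RigF

set_option autoImplicit false
universe u
open CategoryTheory MonoidalCategory CartesianMonoidalCategory MonObj GrpObj AlgebraicGeometry Topology
open GIT

namespace Groth.Agent.S11438

/-- Let S be connected and locally Noetherian, G a locally Noetherian group scheme separated over S, X →
S proper and flat with κ(s) → H⁰(X_s, O_{X_s}) bijective for every s, and f, g : X → G morphisms
over S which agree on one fibre X_s. Then there is a section t of G over S with f = (t ∘ p) · g, the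
product taken in the group of X-valued points of G. -/
theorem result (S : Scheme.{u}) [IsLocallyNoetherian S] [ConnectedSpace S]
    (X G : Over S) [GrpObj G] [IsLocallyNoetherian G.left] [IsSeparated G.hom] [IsProper X.hom] [Flat X.hom]
    (h0 : ∀ s : S, Function.Bijective (Limits.pullback.snd X.hom (S.fromSpecResidueField s)).appTop)
    (f g : X ⟶ G) (s : S)
    (hs : Limits.pullback.fst X.hom (S.fromSpecResidueField s) ≫ f.left =
      Limits.pullback.fst X.hom (S.fromSpecResidueField s) ≫ g.left) :
    ∃ t : 𝟙_ (Over S) ⟶ G, f = (toUnit X ≫ t) * g := by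
  have HF : Groth.Agent.Lib.Helper26.RigD.HFib X.hom :=
    Groth.Agent.Lib.Helper26.RigE.hfib_of_residue X.hom (fun t => h0 t)
  let m : X ⟶ G := f * g⁻¹
  have hgood : Groth.Agent.Lib.Helper26.RigD.Good X.hom m.left s := by
    apply Groth.Agent.Lib.Helper26.RigE.good_of_const
    refine ⟨S.fromSpecResidueField s ≫ η[G].left, ?_⟩
    let Xs : Over S := Over.mk (Limits.pullback.fst X.hom (S.fromSpecResidueField s) ≫ X.hom)
    let jj : Xs ⟶ X := Over.homMk (Limits.pullback.fst X.hom (S.fromSpecResidueField s)) rfl
    have hjj : jj ≫ f = jj ≫ g := by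
      ext
      exact hs
    have h1 : jj ≫ m = 1 := by
      change jj ≫ (f * g⁻¹) = 1
      rw [MonObj.comp_mul, GrpObj.comp_inv, hjj, mul_inv_cancel]
    have h2 := congrArg (fun k => k.left) h1
    simp only [Over.comp_left, jj, Over.homMk_left] at h2
    rw [h2, Hom.one_def]
    simp [Xs, Limits.pullback.condition]
  have hall := Groth.Agent.Lib.Helper26.RigF.all_good_of_connected X.hom HF m.left G.hom (𝟙 S)
    (by rw [Over.w m, Category.comp_id]) s hgood
  obtain ⟨t, ht⟩ := Groth.Agent.Lib.Helper26.RigF.over_rigidity S X G HF m hall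
  refine ⟨t, ?_⟩
  rw [← ht]
  simp [m]

end Groth.Agent.S11438
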