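import Groth.Statements.S11439
import Mathlib
import Groth.Agent.Lib.Helper26.RigF

set_option autoImplicit false
universe u
open CategoryTheory MonoidalCategory CartesianMonoidalCategory MonObj GrpObj AlgebraicGeometry Topology
open GIT

namespace Groth.Agent.S11439

/-- Let S be locally Noetherian, G a locally Noetherian group scheme separated over S, X → S proper and
flat with κ(s) → H⁰(X_s, O_{X_s}) bijective for every s, and Y connected, locally Noetherian,
separated over S with a section over S. Then every morphism f : X ×_S Y → G over S factors as f = (g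
∘ p₁) · (h ∘ p₂) with g : X → G and h : Y → G. -/
theorem result (S : Scheme.{u}) [IsLocallyNoetherian S]
    (X Y G : Over S) [GrpObj G] [IsLocallyNoetherian G.left] [IsSeparated G.hom] [IsProper X.hom] [Flat X.hom]
    (h0 : ∀ s : S, Function.Bijective (Limits.pullback.snd X.hom (S.fromSpecResidueField s)).appTop)
    [IsLocallyNoetherian Y.left] [IsSeparated Y.hom] [ConnectedSpace Y.left] (e : 𝟙_ (Over S) ⟶ Y)
    (f : X ⊗ Y ⟶ G) :
    ∃ (g : X ⟶ G) (h : Y ⟶ G), f = (fst X Y ≫ g) * (snd X Y ≫ h) := by
  have HF : Groth.Agent.Lib.Helper26.RigD.HFib X.hom :=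
    Groth.Agent.Lib.Helper26.RigE.hfib_of_residue X.hom (fun t => h0 t)
  let i : X ⟶ X ⊗ Y := lift (𝟙 X) (toUnit X ≫ e)
  let g : X ⟶ G := i ≫ f
  let m : X ⊗ Y ⟶ G := (fst X Y ≫ g)⁻¹ * f
  have him : i ≫ m = 1 := by
    change i ≫ ((fst X Y ≫ g)⁻¹ * f) = 1
    rw [MonObj.comp_mul, GrpObj.comp_inv, ← Category.assoc, lift_fst, Category.id_comp]
    exact inv_mul_cancel _
  let sndL : Limits.pullback X.hom Y.hom ⟶ Y.left := Limits.pullback.snd X.hom Y.hom
  have HF' : Groth.Agent.Lib.Helper26.RigD.HFib sndL :=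
    Groth.Agent.Lib.Helper26.RigF.hfib_snd X.hom Y.hom HF
  have hπ : m.left ≫ G.hom = sndL ≫ Y.hom := by
    rw [Over.w m]
    exact (Limits.pullback.condition (f := X.hom) (g := Y.hom))
  -- the cartesian square
  have hsq : IsPullback i.left X.hom sndL e.left := by
    have hr : IsPullback (Limits.pullback.fst X.hom Y.hom) sndL X.hom Y.hom :=
      IsPullback.of_hasPullback X.hom Y.hom
    have h1 : i.left ≫ Limits.pullback.fst X.hom Y.hom = 𝟙 X.left := by
      have h : (i ≫ fst X Y).left = (𝟙 X : X ⟶ X).left := by rw [lift_fst]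
      exact h
    have h2 : e.left ≫ Y.hom = 𝟙 S := by simpa using Over.w e
    have h3 : i.left ≫ sndL = X.hom ≫ e.left := by
      have h : (i ≫ snd X Y).left = (toUnit X ≫ e).left := by rw [lift_snd]
      rw [Over.comp_left, Over.comp_left, Over.toUnit_left] at h
      exact h
    have ho : IsPullback (i.left ≫ Limits.pullback.fst X.hom Y.hom) X.hom X.hom (e.left ≫ Y.hom) := by
      rw [h1, h2]
      exact IsPullback.id_horiz X.hom
    exact IsPullback.of_right ho h3 hr
  obtain ⟨y₁⟩ : Nonempty Y.left := inferInstance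
  let y₀ : Y.left := e.left.base (Y.hom.base y₁)
  have hgood : Groth.Agent.Lib.Helper26.RigD.Good sndL m.left y₀ := by
    have key : ∀ z : ↥(Limits.pullback X.hom Y.hom), sndL.base z = y₀ →
        m.left.base z = η[G].left.base (Y.hom.base y₀) := by
      intro z hz
      obtain ⟨w, hw, -⟩ := Scheme.Pullback.exists_preimage_pullback (f := sndL) (g := e.left) z
        (Y.hom.base y₁) hz
      let x : X.left := hsq.isoPullback.inv.base w
      have hx : i.left.base x = z := by
        rw [← hw, ← Groth.Agent.Lib.Helper26.RigD.comp_base_apply', IsPullback.isoPullback_inv_fst]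
      have h5 := congrArg (fun k => k.left) him
      simp only [Over.comp_left] at h5
      rw [← hx, ← Groth.Agent.Lib.Helper26.RigD.comp_base_apply', h5, Hom.one_def]
      have h6 : (toUnit X ≫ η[G]).left = X.hom ≫ η[G].left := by simp
      rw [h6, Groth.Agent.Lib.Helper26.RigD.comp_base_apply']
      congr 1
      have h7 : X.hom = i.left ≫ sndL ≫ Y.hom := by
        rw [← Category.assoc, hsq.w, Category.assoc]
        have h2 : e.left ≫ Y.hom = 𝟙 S := by simpa using Over.w e
        rw [h2, Category.comp_id]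
      rw [h7, Groth.Agent.Lib.Helper26.RigD.comp_base_apply',
        Groth.Agent.Lib.Helper26.RigD.comp_base_apply', hx, hz]
    intro z₁ z₂ h₁ h₂
    rw [key z₁ h₁, key z₂ h₂]
  have hall := Groth.Agent.Lib.Helper26.RigF.all_good_of_connected sndL HF' m.left G.hom Y.hom hπ
    y₀ hgood
  obtain ⟨σ, hσ1, hσ2⟩ := Groth.Agent.Lib.Helper26.RigF.main_of_good sndL HF' m.left G.hom Y.hom
    hπ hall
  refine ⟨g, Over.homMk σ hσ2, ?_⟩
  have hm : snd X Y ≫ Over.homMk σ hσ2 = m := by
    ext
    simpa using hσ1
  rw [hm]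
  simp [m]

end Groth.Agent.S11439
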