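import Groth.Statements.S1561
import Groth.Agent.S4991
import Groth.Agent.Lib.Helper25.RegularSepSmooth
import Groth.Agent.Lib.Helper23.FieldSmooth

set_option autoImplicit false
universe u
open CategoryTheory CategoryTheory.Limits AlgebraicGeometry
open Variety

namespace Groth.Agent.S1561

/-- Let X be reduced and locally of finite type over a perfect field k. Then a point lies in the smooth
locus of X → Spec k exactly when its local ring is regular, and this locus is dense in X. -/
theorem result (k : Type u) [Field k] (X : Scheme.{u}) [X.Over (Spec (CommRingCat.of k))] [PerfectField k] [IsReduced X]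
    [LocallyOfFinitePresentation (X ↘ (Spec (CommRingCat.of k)))] :
    (∀ x : X, x ∈ (X ↘ (Spec (CommRingCat.of k))).smoothLocus ↔ IsRegularLocalRing (X.presheaf.stalk x)) ∧
      Dense ((X ↘ (Spec (CommRingCat.of k))).smoothLocus : Set X) := by
  refine ⟨fun x => ⟨fun hx => ?_, fun hreg => ?_⟩,
    Scheme.Hom.dense_smoothLocus_of_perfectField (X ↘ (Spec (CommRingCat.of k)))⟩
  · have : IsLocallyNoetherian (Spec (CommRingCat.of k)) := inferInstance
    rw [Groth.Agent.S4991.result (X ↘ (Spec (CommRingCat.of k))) x
      ⟨(X ↘ (Spec (CommRingCat.of k))).smoothLocus, hx,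
        Groth.Agent.Lib.Helper13.smooth_ι_comp_of_le_smoothLocus _ _ le_rfl⟩]
    have hτ := Groth.Agent.Lib.Helper25.GrpTangent.bijective_τ
      ((X ↘ (Spec (CommRingCat.of k))) x)
    exact IsRegularLocalRing.of_ringEquiv (RingEquiv.ofBijective _ hτ)
  · let _ : Algebra k (X.presheaf.stalk x) :=
      (Groth.Agent.Lib.Helper25.GrpTangent.τ ((X ↘ (Spec (CommRingCat.of k))) x) ≫
        (X ↘ (Spec (CommRingCat.of k))).stalkMap x).hom.toAlgebra
    have : Algebra.FormallySmooth k (IsLocalRing.ResidueField (X.presheaf.stalk x)) :=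
      Groth.Agent.Lib.Helper23.FieldSmooth.formallySmooth_of_perfectField k _
    have : Algebra.IsGeometricallyReduced k (IsLocalRing.ResidueField (X.presheaf.stalk x)) :=
      (Groth.Agent.Lib.Helper23.FieldSep.formallySmooth_iff_isGeometricallyReduced k _).mp
        inferInstance
    exact Groth.Agent.Lib.Helper25.RegularSepSmooth.mem_smoothLocus_of_regular
      (X ↘ (Spec (CommRingCat.of k))) x rfl


end Groth.Agent.S1561
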