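import Groth.Statements.S11452
import Mathlib
import Groth.Agent.Helper19.TrivDef2
import Groth.Agent.Lib.Helper21.RegularLocal
import Groth.Agent.S1561
import Groth.Agent.S1318
-- import your own Groth.Agent.* helpers here

set_option autoImplicit false
universe u
open CategoryTheory AlgebraicGeometry
open DefT

namespace Groth.Agent.S11452

/-- Let k be an algebraically closed field, X an affine scheme of finite type over k whose local rings
are all regular, A a local Artin k-algebra with a k-algebra augmentation e : A → k, and g : X' →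
Spec A a flat morphism whose fibre over the k-point Spec k → Spec A given by e is X (with its
structure map to Spec k). Then there is an isomorphism from X' to the trivial deformation X ×_{Spec
k} Spec A compatible with the projections to Spec A. -/
theorem result (k : Type u) [Field k]
    [IsAlgClosed k] (X : Scheme.{u}) (hX : X ⟶ Spec (CommRingCat.of k)) [IsAffine X]
    [LocallyOfFiniteType hX] (hreg : ∀ x : X, IsRegularLocalRing (X.presheaf.stalk x))
    (A : Type u) [CommRing A] [IsLocalRing A] [IsArtinianRing A] [Algebra k A] (e : A →ₐ[k] k)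
    (X' : Scheme.{u}) (g : X' ⟶ Spec (CommRingCat.of A)) [Flat g] (i : X ⟶ X')
    (hsq : IsPullback i hX g (Spec.map (CommRingCat.ofHom e.toRingHom))) :
    ∃ φ : X' ≅ Limits.pullback hX (Spec.map (CommRingCat.ofHom (algebraMap k A))),
      φ.hom ≫ Limits.pullback.snd hX (Spec.map (CommRingCat.ofHom (algebraMap k A))) = g := by
  -- `hX` is smooth
  haveI : Smooth hX := by
    letI : X.Over (Spec (CommRingCat.of k)) := ⟨hX⟩
    haveI : ∀ x : X, _root_.IsReduced (X.presheaf.stalk x) := fun x => by
      haveI := hreg x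
      haveI := Groth.Agent.Lib.Helper21.isDomain_of_isRegularLocalRing
        (X.presheaf.stalk x)
      infer_instance
    haveI : IsReduced X := isReduced_of_isReduced_stalk X
    haveI hfp : LocallyOfFinitePresentation hX :=
      LocallyOfFinitePresentation.iff_locallyOfFiniteType.mpr inferInstance
    haveI : LocallyOfFinitePresentation (X ↘ Spec (CommRingCat.of k)) := hfp
    have h := (Groth.Agent.S1561.result k X).1
    refine Scheme.Hom.smoothLocus_eq_top_iff.mp ?_
    ext x
    simp only [TopologicalSpace.Opens.coe_top, Set.mem_univ, iff_true]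
    exact (h x).mpr (hreg x)
  -- the thickening `Spec k ⟶ Spec A`
  have hesurj : Function.Surjective e := fun c => ⟨algebraMap k A c, e.commutes c⟩
  have hek : Spec.map (CommRingCat.ofHom e.toRingHom) ≫
      Spec.map (CommRingCat.ofHom (algebraMap k A)) = 𝟙 _ := by
    rw [← Spec.map_comp, ← Spec.map_id]
    congr 1
    ext c
    exact e.commutes c
  haveI : IsClosedImmersion (Spec.map (CommRingCat.ofHom e.toRingHom)) :=
    IsClosedImmersion.spec_of_surjective _ hesurj
  have hnilA : IsNilpotent (RingHom.ker (CommRingCat.ofHom e.toRingHom).hom) := by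
    have hmax : (RingHom.ker e.toRingHom).IsMaximal :=
      RingHom.ker_isMaximal_of_surjective e.toRingHom hesurj
    have h1 : RingHom.ker e.toRingHom = IsLocalRing.maximalIdeal A :=
      IsLocalRing.eq_maximalIdeal hmax
    have h2 : (⊥ : Ideal A).jacobson = IsLocalRing.maximalIdeal A :=
      IsLocalRing.jacobson_eq_maximalIdeal ⊥ bot_ne_top
    change IsNilpotent (RingHom.ker e.toRingHom)
    rw [h1, ← h2]
    exact IsArtinianRing.isNilpotent_jacobson_bot
  have hnilΓ := Groth.Agent.Helper19.TrivDef.isNilpotent_ker_appTop_SpecMap _ hnilA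
  have hnilS : IsNilpotent (Spec.map (CommRingCat.ofHom e.toRingHom)).ker := by
    apply Groth.Agent.Helper19.TrivDef.isNilpotent_of_ideal_top
    rw [Scheme.Hom.ker_apply]
    exact hnilΓ
  have hsurj := Groth.Agent.Helper19.TrivDef.surjective_of_isNilpotent_ker _ hnilS
  haveI : Surjective (Spec.map (CommRingCat.ofHom e.toRingHom)) := ⟨hsurj⟩
  have hS : MoreMor.IsFiniteOrderThickening (Spec.map (CommRingCat.ofHom e.toRingHom)) :=
    ⟨⟨inferInstance, inferInstance⟩, hnilS⟩
  haveI : IsClosedImmersion i := Groth.Agent.Helper19.DefSm.isClosedImmersion_of_isPullback hsq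
  haveI : Surjective i := MorphismProperty.of_isPullback (P := @Surjective) hsq.flip ‹_›
  haveI : IsAffine X' := Groth.Agent.S0440.result i (Surjective.surj)
  have hnil : IsNilpotent (RingHom.ker i.appTop.hom) := by
    haveI : IsClosedImmersion (Spec.map (CommRingCat.ofHom e.toRingHom) ∣_ ⊤) :=
      IsZariskiLocalAtTarget.restrict ‹_› ⊤
    have hk := Groth.Agent.Helper19.RegImmBC.ker_app_baseChange hsq.flip
      ⟨⊤, isAffineOpen_top (Spec (CommRingCat.of A))⟩ ⟨⊤, isAffineOpen_top X'⟩ le_top
    obtain ⟨n, hn⟩ := hnilΓ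
    refine ⟨n, ?_⟩
    change (RingHom.ker (i.app ⊤).hom) ^ n = 0
    rw [hk, ← Ideal.map_pow]
    change Ideal.map _ ((RingHom.ker (Spec.map (CommRingCat.ofHom e.toRingHom)).appTop.hom) ^ n) = 0
    rw [hn, Ideal.zero_eq_bot, Ideal.map_bot]
    rfl
  have hq : i ≫ g ≫ Spec.map (CommRingCat.ofHom (algebraMap k A)) = hX := by
    rw [← Category.assoc, hsq.w, Category.assoc, hek, Category.comp_id]
  obtain ⟨r, hr1, hr2⟩ := Groth.Agent.Helper19.TrivDef.exists_retraction_of_smooth_affine i
    (Surjective.surj) hX (g ≫ Spec.map (CommRingCat.ofHom (algebraMap k A))) hq hnil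
  let ak := Spec.map (CommRingCat.ofHom (algebraMap k A))
  let ek := Spec.map (CommRingCat.ofHom e.toRingHom)
  let ψ : X' ⟶ Limits.pullback hX ak := Limits.pullback.lift r g hr2
  have hψ1 : ψ ≫ Limits.pullback.fst hX ak = r := Limits.pullback.lift_fst _ _ _
  have hψ2 : ψ ≫ Limits.pullback.snd hX ak = g := Limits.pullback.lift_snd _ _ _
  have hiYc : 𝟙 X ≫ hX = (hX ≫ ek) ≫ ak := by
    rw [Category.id_comp, Category.assoc, hek, Category.comp_id]
  let iY : X ⟶ Limits.pullback hX ak := Limits.pullback.lift (𝟙 X) (hX ≫ ek) hiYc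
  have hiY1 : iY ≫ Limits.pullback.fst hX ak = 𝟙 X := Limits.pullback.lift_fst _ _ _
  have hiY2 : iY ≫ Limits.pullback.snd hX ak = hX ≫ ek := Limits.pullback.lift_snd _ _ _
  have hcY : IsPullback iY hX (Limits.pullback.snd hX ak) ek := by
    have right : IsPullback (Limits.pullback.fst hX ak) (Limits.pullback.snd hX ak) hX ak :=
      IsPullback.of_hasPullback _ _
    have outer : IsPullback (iY ≫ Limits.pullback.fst hX ak) hX hX (ek ≫ ak) := by
      rw [hiY1, hek]
      exact IsPullback.of_horiz_isIso ⟨by simp⟩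
    exact IsPullback.of_right outer hiY2 right
  have hcX : IsPullback i (𝟙 X ≫ hX) (ψ ≫ Limits.pullback.snd hX ak) ek := by
    rw [Category.id_comp, hψ2]; exact hsq
  have w : i ≫ ψ = 𝟙 X ≫ iY := by
    apply Limits.pullback.hom_ext
    · rw [Category.assoc, hψ1, hr1, Category.assoc, hiY1, Category.id_comp]
    · rw [Category.assoc, hψ2, hsq.w, Category.assoc, hiY2, Category.id_comp]
  haveI : Flat (ψ ≫ Limits.pullback.snd hX ak) := by rw [hψ2]; infer_instance
  haveI : IsIso ψ := (Groth.Agent.S1318.result i iY ek (𝟙 X) ψ hX (Limits.pullback.snd hX ak)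
    hS hcX hcY w).mp inferInstance
  exact ⟨asIso ψ, hψ2⟩

end Groth.Agent.S11452
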