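import Groth.Statements.S11454
import Groth.Agent.Lib.Helper1.RegLift2

set_option autoImplicit false
universe u
open DefT

namespace Groth.Agent.S11454

/-- Let C' be a local Artin ring, J ⊊ C' a proper ideal annihilated by the maximal ideal, C = C'/J, A' a
flat C'-algebra whose reduction modulo the maximal ideal of C' is a Cohen–Macaulay local ring, and A
= A'/JA'. If a'_1, …, a'_r ∈ A' have images in A forming a regular sequence with A/(a_1, …, a_r)
flat over C, then a'_1, …, a'_r is a regular sequence on A' and A'/(a'_1, …, a'_r) is flat over C'.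
(Regular sequences stand in for the exactness of the Koszul complexes in the published statement;
over a Noetherian local ring with the elements in the maximal ideal the two are equivalent.) -/
theorem result (C' : Type u) [CommRing C'] [IsLocalRing C'] [IsArtinianRing C'] (J : Ideal C')
    (hJ : IsLocalRing.maximalIdeal C' * J = ⊥) (hJne : J ≠ ⊤) (A' : Type u) [CommRing A'] [Algebra C' A'] [Module.Flat C' A']
    [LocCoh.IsCohenMacaulayLocalRing (A' ⧸ (IsLocalRing.maximalIdeal C').map (algebraMap C' A'))]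
    (r : ℕ) (a' : Fin r → A')
    (hreg : RingTheory.Sequence.IsRegular (A' ⧸ J.map (algebraMap C' A'))
      (List.ofFn (fun i => Ideal.Quotient.mk (J.map (algebraMap C' A')) (a' i))))
    [Module.Flat (C' ⧸ J) ((A' ⧸ J.map (algebraMap C' A')) ⧸
      Ideal.span (Set.range (fun i => Ideal.Quotient.mk (J.map (algebraMap C' A')) (a' i))))] :
    RingTheory.Sequence.IsRegular A' (List.ofFn a') ∧ Module.Flat C' (A' ⧸ Ideal.span (Set.range a')) := by
  classical
  have hJle : J ≤ IsLocalRing.maximalIdeal C' := IsLocalRing.le_maximalIdeal hJne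
  obtain ⟨n, hn⟩ : ∃ n : ℕ, IsLocalRing.maximalIdeal C' ^ n = ⊥ := by
    have h := IsArtinianRing.isNilpotent_jacobson_bot (R := C')
    rw [IsLocalRing.jacobson_eq_maximalIdeal ⊥ bot_ne_top] at h
    obtain ⟨n, hn⟩ := h
    exact ⟨n, hn⟩
  -- Noetherianity
  have hnA : ((IsLocalRing.maximalIdeal C').map (algebraMap C' A')) ^ n = ⊥ := by
    rw [← Ideal.map_pow, hn, Ideal.map_bot]
  haveI : IsNoetherianRing A' :=
    Groth.Agent.Lib.Helper1.isNoetherianRing_of_quotient_of_fg_of_nilpotent
      ((IsLocalRing.maximalIdeal C').map (algebraMap C' A'))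
      (Ideal.FG.map (IsNoetherian.noetherian (IsLocalRing.maximalIdeal C')) (algebraMap C' A')) n hnA
  -- the base `C = C' ⧸ J`
  haveI : Nontrivial (C' ⧸ J) := Ideal.Quotient.nontrivial_iff.2 hJne
  haveI : IsLocalRing (C' ⧸ J) := IsLocalRing.of_surjective' (Ideal.Quotient.mk J) Ideal.Quotient.mk_surjective
  have hmaxC : ∀ c : C' ⧸ J, c ∈ IsLocalRing.maximalIdeal (C' ⧸ J) →
      ∃ c₀ ∈ IsLocalRing.maximalIdeal C', Ideal.Quotient.mk J c₀ = c := by
    intro c hc
    obtain ⟨c₀, rfl⟩ := Ideal.Quotient.mk_surjective c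
    refine ⟨c₀, ?_, rfl⟩
    rw [IsLocalRing.mem_maximalIdeal, mem_nonunits_iff] at hc ⊢
    exact fun h => hc (h.map _)
  have hnC : IsLocalRing.maximalIdeal (C' ⧸ J) ^ n = ⊥ := by
    have h1 : IsLocalRing.maximalIdeal (C' ⧸ J) ≤ (IsLocalRing.maximalIdeal C').map (Ideal.Quotient.mk J) := by
      intro c hc
      obtain ⟨c₀, hc₀, rfl⟩ := hmaxC c hc
      exact Ideal.mem_map_of_mem _ hc₀
    have h2 := Ideal.pow_right_mono h1 n
    rw [← Ideal.map_pow, hn, Ideal.map_bot] at h2
    exact le_bot_iff.mp h2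
  -- the elements are in the radical of `A' ⧸ J A'`
  have hofList : ∀ {R : Type u} [CommRing R] (f : Fin r → R), Ideal.ofList (List.ofFn f) = Ideal.span (Set.range f) := by
    intro R _ f
    unfold Ideal.ofList
    congr 1
    ext x
    simp [List.mem_ofFn]
  have hjac : ∀ x ∈ List.ofFn (fun i => Ideal.Quotient.mk (J.map (algebraMap C' A')) (a' i)),
      x ∈ Ideal.jacobson (⊥ : Ideal (A' ⧸ J.map (algebraMap C' A'))) := by
    intro x hx
    refine Groth.Agent.Lib.Helper1.RegLift.mem_jacobson_bot_of_not_isUnit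
      (Groth.Agent.Lib.Helper1.RegLift.rho J hJle A')
      (Groth.Agent.Lib.Helper1.RegLift.rho_surjective J hJle A')
      (Groth.Agent.Lib.Helper1.RegLift.rho_ker_nilpotent J hJle A' n hn) x ?_
    intro hu
    apply hreg.top_ne_smul
    have hmem : x ∈ Ideal.ofList (List.ofFn (fun i => Ideal.Quotient.mk (J.map (algebraMap C' A')) (a' i))) :=
      Ideal.subset_span hx
    have htop := Ideal.eq_top_of_isUnit_mem _ hmem hu
    rw [htop, smul_eq_mul, Ideal.mul_top]
  -- flatness hypothesis in the form needed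
  have hflat0 : Module.Flat (C' ⧸ J) ((A' ⧸ J.map (algebraMap C' A')) ⧸
      (Ideal.ofList (List.ofFn (fun i => Ideal.Quotient.mk (J.map (algebraMap C' A')) (a' i))) • ⊤ :
        Submodule (A' ⧸ J.map (algebraMap C' A')) (A' ⧸ J.map (algebraMap C' A')))) := by
    have heq : (Ideal.ofList (List.ofFn (fun i => Ideal.Quotient.mk (J.map (algebraMap C' A')) (a' i))) • ⊤ :
        Submodule (A' ⧸ J.map (algebraMap C' A')) (A' ⧸ J.map (algebraMap C' A'))) =
        Ideal.span (Set.range (fun i => Ideal.Quotient.mk (J.map (algebraMap C' A')) (a' i))) := by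
      rw [smul_eq_mul, Ideal.mul_top, hofList]
    exact Module.Flat.of_linearEquiv ((Submodule.quotEquivOfEq _ _ heq).restrictScalars (C' ⧸ J))
  obtain ⟨-, hres⟩ := Groth.Agent.Lib.Helper1.RegLift.residue_isWeaklyRegular (C := C' ⧸ J)
    (A := A' ⧸ J.map (algebraMap C' A')) n hnC
    (List.ofFn (fun i => Ideal.Quotient.mk (J.map (algebraMap C' A')) (a' i)))
    (A' ⧸ J.map (algebraMap C' A')) hjac hreg.toIsWeaklyRegular hflat0
  have hw0 := hres ((A' ⧸ J.map (algebraMap C' A')) ⧸
      Groth.Agent.Lib.Helper1.RegLift.mM (C := C' ⧸ J) (A := A' ⧸ J.map (algebraMap C' A'))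
        (A' ⧸ J.map (algebraMap C' A')))
    (Submodule.mkQ _) (Submodule.mkQ_surjective _)
    (fun x => by rw [Submodule.mkQ_apply, Submodule.Quotient.mk_eq_zero])
  -- as a sequence of elements of `A'`
  have hlist : (List.ofFn a').map (algebraMap A' (A' ⧸ J.map (algebraMap C' A'))) =
      List.ofFn (fun i => Ideal.Quotient.mk (J.map (algebraMap C' A')) (a' i)) := by
    rw [List.map_ofFn]
    rfl
  rw [← hlist, RingTheory.Sequence.isWeaklyRegular_map_algebraMap_iff] at hw0
  -- the quotient map from `A'`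
  let p : A' →ₗ[A'] ((A' ⧸ J.map (algebraMap C' A')) ⧸
      Groth.Agent.Lib.Helper1.RegLift.mM (C := C' ⧸ J) (A := A' ⧸ J.map (algebraMap C' A'))
        (A' ⧸ J.map (algebraMap C' A'))) :=
    ((Submodule.mkQ _).restrictScalars A') ∘ₗ (Submodule.mkQ (J.map (algebraMap C' A')))
  have hp : Function.Surjective p :=
    (Submodule.mkQ_surjective _).comp (Submodule.mkQ_surjective _)
  have hpx : ∀ x : A', p x = 0 ↔ Ideal.Quotient.mk (J.map (algebraMap C' A')) x ∈
      (IsLocalRing.maximalIdeal (C' ⧸ J)).map (algebraMap (C' ⧸ J) (A' ⧸ J.map (algebraMap C' A'))) := by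
    intro x
    change Submodule.Quotient.mk (Ideal.Quotient.mk (J.map (algebraMap C' A')) x) = 0 ↔ _
    rw [Submodule.Quotient.mk_eq_zero]
    change _ ∈ ((IsLocalRing.maximalIdeal (C' ⧸ J)).map
      (algebraMap (C' ⧸ J) (A' ⧸ J.map (algebraMap C' A')))) • (⊤ : Submodule _ (A' ⧸ J.map (algebraMap C' A'))) ↔ _
    rw [smul_eq_mul, Ideal.mul_top]
  have hker : ∀ x : A', p x = 0 ↔ x ∈ Groth.Agent.Lib.Helper1.RegLift.mM (C := C') (A := A') A' := by
    intro x
    rw [hpx]
    change _ ↔ x ∈ ((IsLocalRing.maximalIdeal C').map (algebraMap C' A')) • (⊤ : Submodule A' A')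
    rw [smul_eq_mul, Ideal.mul_top]
    constructor
    · intro hx
      have h1 : (IsLocalRing.maximalIdeal (C' ⧸ J)).map (algebraMap (C' ⧸ J) (A' ⧸ J.map (algebraMap C' A'))) ≤
          ((IsLocalRing.maximalIdeal C').map (algebraMap C' A')).map
            (Ideal.Quotient.mk (J.map (algebraMap C' A'))) := by
        rw [Ideal.map_le_iff_le_comap]
        intro c hc
        obtain ⟨c₀, hc₀, rfl⟩ := hmaxC c hc
        rw [Ideal.mem_comap]
        have : algebraMap (C' ⧸ J) (A' ⧸ J.map (algebraMap C' A')) (Ideal.Quotient.mk J c₀) =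
            Ideal.Quotient.mk (J.map (algebraMap C' A')) (algebraMap C' A' c₀) := rfl
        rw [this]
        exact Ideal.mem_map_of_mem _ (Ideal.mem_map_of_mem _ hc₀)
      obtain ⟨x₁, hx₁, e⟩ := (Ideal.mem_map_iff_of_surjective _ Ideal.Quotient.mk_surjective).1 (h1 hx)
      have hd : x - x₁ ∈ J.map (algebraMap C' A') := Ideal.Quotient.eq.mp e.symm
      have : x = x₁ + (x - x₁) := by ring
      rw [this]
      exact Ideal.add_mem _ hx₁ (Ideal.map_mono hJle hd)
    · intro hx
      have h2 : (IsLocalRing.maximalIdeal C').map (algebraMap C' A') ≤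
          ((IsLocalRing.maximalIdeal (C' ⧸ J)).map
            (algebraMap (C' ⧸ J) (A' ⧸ J.map (algebraMap C' A')))).comap
              (Ideal.Quotient.mk (J.map (algebraMap C' A'))) := by
        rw [Ideal.map_le_iff_le_comap]
        intro c hc
        rw [Ideal.mem_comap, Ideal.mem_comap]
        have : Ideal.Quotient.mk (J.map (algebraMap C' A')) (algebraMap C' A' c) =
            algebraMap (C' ⧸ J) (A' ⧸ J.map (algebraMap C' A')) (Ideal.Quotient.mk J c) := rfl
        rw [this]
        refine Ideal.mem_map_of_mem _ ?_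
        rw [IsLocalRing.mem_maximalIdeal, mem_nonunits_iff]
        intro hu
        rw [IsLocalRing.mem_maximalIdeal, mem_nonunits_iff] at hc
        apply hc
        haveI : IsLocalHom (Ideal.Quotient.mk J) :=
          IsLocalHom.of_surjective _ Ideal.Quotient.mk_surjective
        exact IsUnit.of_map _ _ hu
      exact h2 hx
  obtain ⟨hw, hfl⟩ := Groth.Agent.Lib.Helper1.RegLift.isWeaklyRegular_and_flat (C := C') n hn
    (List.ofFn a') A' _ p hp hker hw0
  refine ⟨⟨hw, ?_⟩, ?_⟩
  · intro htop
    apply hreg.top_ne_smul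
    rw [hofList, smul_eq_mul, Ideal.mul_top] at htop ⊢
    have h3 : (Ideal.span (Set.range a')).map (Ideal.Quotient.mk (J.map (algebraMap C' A'))) =
        Ideal.span (Set.range (fun i => Ideal.Quotient.mk (J.map (algebraMap C' A')) (a' i))) := by
      rw [Ideal.map_span]
      congr 1
      ext x
      constructor
      · rintro ⟨_, ⟨i, rfl⟩, rfl⟩
        exact ⟨i, rfl⟩
      · rintro ⟨i, rfl⟩
        exact ⟨a' i, ⟨i, rfl⟩, rfl⟩
    rw [← h3, ← htop, Ideal.map_top]
  · have heq : (Ideal.ofList (List.ofFn a') • ⊤ : Submodule A' A') = Ideal.span (Set.range a') := by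
      rw [smul_eq_mul, Ideal.mul_top, hofList]
    exact Module.Flat.of_linearEquiv ((Submodule.quotEquivOfEq _ _ heq).restrictScalars C').symm

end Groth.Agent.S11454
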