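import Groth.Statements.S11455
import Groth.Agent.Lib.Helper1.FlatLift2

set_option autoImplicit false
universe u
open DefT

namespace Groth.Agent.S11455

/-- Let C' be a local Artin ring, J ⊊ C' a proper ideal annihilated by the maximal ideal, C = C'/J, A' a
flat C'-algebra whose reduction modulo the maximal ideal of C' is a Cohen–Macaulay local ring, A =
A'/JA', and a_1, …, a_r a regular sequence on A with A/(a_1, …, a_r) flat over C. Then every ideal
I' of A' with A'/I' flat over C' and with image (a_1, …, a_r) in A is generated by some lifts a'_1,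
…, a'_r of the a_i. -/
theorem result (C' : Type u) [CommRing C'] [IsLocalRing C'] [IsArtinianRing C'] (J : Ideal C')
    (hJ : IsLocalRing.maximalIdeal C' * J = ⊥) (hJne : J ≠ ⊤) (A' : Type u) [CommRing A'] [Algebra C' A'] [Module.Flat C' A']
    [LocCoh.IsCohenMacaulayLocalRing (A' ⧸ (IsLocalRing.maximalIdeal C').map (algebraMap C' A'))]
    (r : ℕ) (a : Fin r → A' ⧸ J.map (algebraMap C' A'))
    (hreg : RingTheory.Sequence.IsRegular (A' ⧸ J.map (algebraMap C' A')) (List.ofFn a))
    [Module.Flat (C' ⧸ J) ((A' ⧸ J.map (algebraMap C' A')) ⧸ Ideal.span (Set.range a))]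
    (I' : Ideal A') [Module.Flat C' (A' ⧸ I')]
    (hI' : I'.map (Ideal.Quotient.mk (J.map (algebraMap C' A'))) = Ideal.span (Set.range a)) :
    ∃ a' : Fin r → A', (∀ i, Ideal.Quotient.mk (J.map (algebraMap C' A')) (a' i) = a i) ∧
      I' = Ideal.span (Set.range a') := by
  classical
  have hJle : J ≤ IsLocalRing.maximalIdeal C' := IsLocalRing.le_maximalIdeal hJne
  have hJ2 : J * J = ⊥ := le_bot_iff.mp ((Ideal.mul_mono_left hJle).trans hJ.le)
  -- choose lifts in I'
  have hlift : ∀ i, ∃ x ∈ I', Ideal.Quotient.mk (J.map (algebraMap C' A')) x = a i := by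
    intro i
    have h1 : a i ∈ I'.map (Ideal.Quotient.mk (J.map (algebraMap C' A'))) := by
      rw [hI']; exact Ideal.subset_span ⟨i, rfl⟩
    exact (Ideal.mem_map_iff_of_surjective _ Ideal.Quotient.mk_surjective).1 h1
  choose a' ha'mem ha' using hlift
  refine ⟨a', ha', ?_⟩
  have hle : Ideal.span (Set.range a') ≤ I' := by
    rw [Ideal.span_le]
    rintro _ ⟨i, rfl⟩
    exact ha'mem i
  have hmap : (Ideal.span (Set.range a')).map (Ideal.Quotient.mk (J.map (algebraMap C' A'))) =
      Ideal.span (Set.range a) := by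
    rw [Ideal.map_span]
    congr 1
    ext x
    constructor
    · rintro ⟨_, ⟨i, rfl⟩, rfl⟩
      exact ⟨i, (ha' i).symm⟩
    · rintro ⟨i, rfl⟩
      exact ⟨a' i, ⟨i, rfl⟩, ha' i⟩
  -- I' ∩ J A' ≤ J I'
  have hinter : ∀ y ∈ I', y ∈ J.map (algebraMap C' A') → y ∈ J.map (algebraMap C' A') * I' := by
    intro y hy hyJ
    obtain ⟨z, rfl⟩ := Groth.Agent.Lib.Helper1.FlatLift.exists_mu_eq J A' y hyJ
    have h1 : (Ideal.Quotient.mkₐ C' I').toLinearMap.rTensor ↥J z = 0 := by
      apply Groth.Agent.Lib.Helper1.FlatLift.mu_injective J (A' ⧸ I')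
      rw [Groth.Agent.Lib.Helper1.FlatLift.mu_natural, map_zero]
      exact Ideal.Quotient.eq_zero_iff_mem.2 hy
    have h2 := Groth.Agent.Lib.Helper1.FlatLift.eq_zero_of_rTensor_eq_zero J
      (Ideal.Quotient.mkₐ C' I') (Ideal.Quotient.mkₐ_surjective C' I')
      ((Ideal.Quotient.mkₐ C' (J.map (algebraMap C' A') * I')).toLinearMap ∘ₗ
        Groth.Agent.Lib.Helper1.FlatLift.mu J A')
      (by
        intro x hx j
        change Ideal.Quotient.mk _ (Groth.Agent.Lib.Helper1.FlatLift.mu J A' (x ⊗ₜ j)) = 0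
        rw [Groth.Agent.Lib.Helper1.FlatLift.mu_tmul, Ideal.Quotient.eq_zero_iff_mem, Algebra.smul_def]
        exact Ideal.mul_mem_mul (Ideal.mem_map_of_mem _ j.2) (Ideal.Quotient.eq_zero_iff_mem.1 hx))
      z h1
    exact Ideal.Quotient.eq_zero_iff_mem.1 h2
  have hstep : I' ≤ Ideal.span (Set.range a') ⊔ J.map (algebraMap C' A') * I' := by
    intro y hy
    have h1 : Ideal.Quotient.mk (J.map (algebraMap C' A')) y ∈
        (Ideal.span (Set.range a')).map (Ideal.Quotient.mk (J.map (algebraMap C' A'))) := by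
      rw [hmap, ← hI']
      exact Ideal.mem_map_of_mem _ hy
    obtain ⟨y'', hy'', e⟩ := (Ideal.mem_map_iff_of_surjective _ Ideal.Quotient.mk_surjective).1 h1
    have hd : y - y'' ∈ J.map (algebraMap C' A') := Ideal.Quotient.eq.mp e.symm
    have hd' : y - y'' ∈ J.map (algebraMap C' A') * I' := hinter _ (I'.sub_mem hy (hle hy'')) hd
    have : y = y'' + (y - y'') := by ring
    rw [this]
    exact Ideal.add_mem _ (Ideal.mem_sup_left hy'') (Ideal.mem_sup_right hd')
  have hJJ : J.map (algebraMap C' A') * J.map (algebraMap C' A') = ⊥ := by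
    rw [← Ideal.map_mul, hJ2, Ideal.map_bot]
  apply le_antisymm _ hle
  calc I' ≤ Ideal.span (Set.range a') ⊔ J.map (algebraMap C' A') * I' := hstep
    _ ≤ Ideal.span (Set.range a') ⊔ J.map (algebraMap C' A') *
          (Ideal.span (Set.range a') ⊔ J.map (algebraMap C' A') * I') :=
        sup_le_sup_left (Ideal.mul_mono_right hstep) _
    _ ≤ Ideal.span (Set.range a') := by
        rw [Ideal.mul_sup, ← mul_assoc, hJJ, Ideal.bot_mul, sup_bot_eq]
        exact sup_le le_rfl Ideal.mul_le_right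

end Groth.Agent.S11455
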