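import Groth.Statements.S11456
import Groth.Agent.Lib.Helper1.RegLift

set_option autoImplicit false
universe u
open DefT

namespace Groth.Agent.S11456

/-- Let C be a local Artin ring with maximal ideal m, A a flat C-algebra such that A₀ = A/mA is a
Cohen–Macaulay local ring, and I ⊆ A an ideal with A/I flat over C whose image in A₀ is generated by
a regular sequence b_1, …, b_r on A₀. Then I is generated by r elements a_1, …, a_r forming a
regular sequence on A (so the Koszul complex on the a_i resolves A/I). -/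
theorem result (C : Type u) [CommRing C]
    [IsLocalRing C] [IsArtinianRing C] (A : Type u) [CommRing A] [Algebra C A] [Module.Flat C A]
    [LocCoh.IsCohenMacaulayLocalRing (A ⧸ (IsLocalRing.maximalIdeal C).map (algebraMap C A))]
    (I : Ideal A) [Module.Flat C (A ⧸ I)] (r : ℕ)
    (b : Fin r → A ⧸ (IsLocalRing.maximalIdeal C).map (algebraMap C A))
    (hb : RingTheory.Sequence.IsRegular (A ⧸ (IsLocalRing.maximalIdeal C).map (algebraMap C A)) (List.ofFn b))
    (hI : I.map (Ideal.Quotient.mk ((IsLocalRing.maximalIdeal C).map (algebraMap C A))) = Ideal.span (Set.range b)) :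
    ∃ a : Fin r → A, RingTheory.Sequence.IsRegular A (List.ofFn a) ∧ I = Ideal.span (Set.range a) := by
  classical
  -- nilpotence of the maximal ideal
  obtain ⟨n, hn⟩ : ∃ n : ℕ, IsLocalRing.maximalIdeal C ^ n = ⊥ := by
    have h := IsArtinianRing.isNilpotent_jacobson_bot (R := C)
    rw [IsLocalRing.jacobson_eq_maximalIdeal ⊥ bot_ne_top] at h
    obtain ⟨n, hn⟩ := h
    exact ⟨n, hn⟩
  have hnA : ((IsLocalRing.maximalIdeal C).map (algebraMap C A)) ^ n = ⊥ := by
    rw [← Ideal.map_pow, hn, Ideal.map_bot]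
  -- lifts
  have hlift : ∀ i, ∃ x ∈ I, Ideal.Quotient.mk ((IsLocalRing.maximalIdeal C).map (algebraMap C A)) x = b i := by
    intro i
    have h1 : b i ∈ I.map (Ideal.Quotient.mk ((IsLocalRing.maximalIdeal C).map (algebraMap C A))) := by
      rw [hI]; exact Ideal.subset_span ⟨i, rfl⟩
    exact (Ideal.mem_map_iff_of_surjective _ Ideal.Quotient.mk_surjective).1 h1
  choose a hamem ha using hlift
  have hle : Ideal.span (Set.range a) ≤ I := by
    rw [Ideal.span_le]
    rintro _ ⟨i, rfl⟩
    exact hamem i
  have hmap : (Ideal.span (Set.range a)).map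
      (Ideal.Quotient.mk ((IsLocalRing.maximalIdeal C).map (algebraMap C A))) = Ideal.span (Set.range b) := by
    rw [Ideal.map_span]
    congr 1
    ext x
    constructor
    · rintro ⟨_, ⟨i, rfl⟩, rfl⟩
      exact ⟨i, (ha i).symm⟩
    · rintro ⟨i, rfl⟩
      exact ⟨a i, ⟨i, rfl⟩, ha i⟩
  have hstep : I ≤ Ideal.span (Set.range a) ⊔ (IsLocalRing.maximalIdeal C).map (algebraMap C A) * I := by
    intro y hy
    have h1 : Ideal.Quotient.mk ((IsLocalRing.maximalIdeal C).map (algebraMap C A)) y ∈
        (Ideal.span (Set.range a)).map (Ideal.Quotient.mk ((IsLocalRing.maximalIdeal C).map (algebraMap C A))) := by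
      rw [hmap, ← hI]
      exact Ideal.mem_map_of_mem _ hy
    obtain ⟨y'', hy'', e⟩ := (Ideal.mem_map_iff_of_surjective _ Ideal.Quotient.mk_surjective).1 h1
    have hd : y - y'' ∈ (IsLocalRing.maximalIdeal C).map (algebraMap C A) := Ideal.Quotient.eq.mp e.symm
    have hd' := Groth.Agent.Lib.Helper1.RegLift.mem_mul_of_mem_of_mem_map (IsLocalRing.maximalIdeal C) I
      (y - y'') (I.sub_mem hy (hle hy'')) hd
    have : y = y'' + (y - y'') := by ring
    rw [this]
    exact Ideal.add_mem _ (Ideal.mem_sup_left hy'') (Ideal.mem_sup_right hd')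
  have hIeq : I = Ideal.span (Set.range a) :=
    le_antisymm (Groth.Agent.Lib.Helper1.RegLift.le_of_le_sup_mul _ I _ hstep n hnA) hle
  refine ⟨a, ?_, hIeq⟩
  -- regularity
  have hofList : ∀ {R : Type u} [CommRing R] (f : Fin r → R), Ideal.ofList (List.ofFn f) = Ideal.span (Set.range f) := by
    intro R _ f
    unfold Ideal.ofList
    congr 1
    ext x
    simp [List.mem_ofFn]
  have hlist : (List.ofFn a).map (algebraMap A (A ⧸ (IsLocalRing.maximalIdeal C).map (algebraMap C A))) =
      List.ofFn b := by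
    rw [List.map_ofFn]
    congr 1
    funext i
    exact ha i
  have hw0 : RingTheory.Sequence.IsWeaklyRegular (A ⧸ (IsLocalRing.maximalIdeal C).map (algebraMap C A))
      (List.ofFn a) := by
    rw [← RingTheory.Sequence.isWeaklyRegular_map_algebraMap_iff
      (A ⧸ (IsLocalRing.maximalIdeal C).map (algebraMap C A)), hlist]
    exact hb.toIsWeaklyRegular
  have hw := (Groth.Agent.Lib.Helper1.RegLift.isWeaklyRegular_and_flat (C := C) n hn (List.ofFn a) A
    (A ⧸ (IsLocalRing.maximalIdeal C).map (algebraMap C A))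
    (Submodule.mkQ ((IsLocalRing.maximalIdeal C).map (algebraMap C A)))
    (Submodule.mkQ_surjective _)
    (by
      intro x
      rw [Submodule.mkQ_apply, Submodule.Quotient.mk_eq_zero]
      change x ∈ _ ↔ x ∈ ((IsLocalRing.maximalIdeal C).map (algebraMap C A)) • (⊤ : Submodule A A)
      rw [smul_eq_mul, Ideal.mul_top])
    hw0).1
  refine ⟨hw, ?_⟩
  intro htop
  apply hb.top_ne_smul
  rw [hofList b, smul_eq_mul, Ideal.mul_top, ← hI]
  rw [hofList a, smul_eq_mul, Ideal.mul_top, ← hIeq] at htop
  rw [← htop, Ideal.map_top]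

end Groth.Agent.S11456
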