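import Groth.Statements.S11464
import Groth.Agent.Lib.Helper1.FlatLift

set_option autoImplicit false
universe u
open scoped TensorProduct
open DefT

namespace Groth.Agent.S11464

/-- Let C' be a local Artin ring, J ⊊ C' a proper ideal annihilated by the maximal ideal, C = C'/J, A' a
flat C'-algebra, A = A'/JA', I ⊆ A an ideal with B = A/I flat over C, and I', I'' ⊆ A' two ideals
with C'-flat quotients both reducing to I. Then there is a unique A'-linear φ : I → B ⊗_{C'} J (=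
Hom_A(I, J ⊗_C B)) such that for all x ∈ I, all lifts x' ∈ I' and x'' ∈ I'' of x, and every z ∈ A'
⊗_{C'} J mapping to x'' − x' under multiplication, the image of z in B ⊗_{C'} J is φ(x). With the
existence half this makes the set of such ideals a pseudotorsor under Hom_A(I, J ⊗_C B). -/
theorem result (C' : Type u) [CommRing C'] [IsLocalRing C'] [IsArtinianRing C'] (J : Ideal C')
    (hJ : IsLocalRing.maximalIdeal C' * J = ⊥) (hJne : J ≠ ⊤) (A' : Type u) [CommRing A'] [Algebra C' A'] [Module.Flat C' A']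
    (I : Ideal (A' ⧸ J.map (algebraMap C' A')))
    [Module.Flat (C' ⧸ J) ((A' ⧸ J.map (algebraMap C' A')) ⧸ I)]
    (I' I'' : Ideal A') [Module.Flat C' (A' ⧸ I')] [Module.Flat C' (A' ⧸ I'')]
    (hI' : I'.map (Ideal.Quotient.mk (J.map (algebraMap C' A'))) = I)
    (hI'' : I''.map (Ideal.Quotient.mk (J.map (algebraMap C' A'))) = I) :
    ∃! φ : ↥I →ₗ[A'] (((A' ⧸ J.map (algebraMap C' A')) ⧸ I) ⊗[C'] ↥J),
      (∀ (x : (A' ⧸ J.map (algebraMap C' A'))) (hx : x ∈ I) (x' x'' : A'), x' ∈ I' → x'' ∈ I'' →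
          Ideal.Quotient.mk (J.map (algebraMap C' A')) x' = x → Ideal.Quotient.mk (J.map (algebraMap C' A')) x'' = x →
          ∀ z : A' ⊗[C'] ↥J, TensorProduct.rid C' A' (LinearMap.lTensor A' (Submodule.subtype J) z) = x'' - x' →
            LinearMap.rTensor ↥J (IsScalarTower.toAlgHom C' A' ((A' ⧸ J.map (algebraMap C' A')) ⧸ I)).toLinearMap z = φ ⟨x, hx⟩) := by
  classical
  have hπ' : ∀ a ∈ I', (IsScalarTower.toAlgHom C' A' ((A' ⧸ J.map (algebraMap C' A')) ⧸ I)) a = 0 := by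
    intro a ha
    change Ideal.Quotient.mk I (Ideal.Quotient.mk (J.map (algebraMap C' A')) a) = 0
    rw [Ideal.Quotient.eq_zero_iff_mem, ← hI']
    exact Ideal.mem_map_of_mem _ ha
  have hπ'' : ∀ a ∈ I'', (IsScalarTower.toAlgHom C' A' ((A' ⧸ J.map (algebraMap C' A')) ⧸ I)) a = 0 := by
    intro a ha
    change Ideal.Quotient.mk I (Ideal.Quotient.mk (J.map (algebraMap C' A')) a) = 0
    rw [Ideal.Quotient.eq_zero_iff_mem, ← hI'']
    exact Ideal.mem_map_of_mem _ ha
  -- uniqueness of the class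
  have U : ∀ (x' x'' y' y'' : A') (z w : A' ⊗[C'] ↥J), x' ∈ I' → y' ∈ I' → x'' ∈ I'' → y'' ∈ I'' →
      Ideal.Quotient.mk (J.map (algebraMap C' A')) x' = Ideal.Quotient.mk (J.map (algebraMap C' A')) y' →
      Ideal.Quotient.mk (J.map (algebraMap C' A')) x'' = Ideal.Quotient.mk (J.map (algebraMap C' A')) y'' →
      Groth.Agent.Lib.Helper1.FlatLift.mu J A' z = x'' - x' →
      Groth.Agent.Lib.Helper1.FlatLift.mu J A' w = y'' - y' →
      LinearMap.rTensor ↥J (IsScalarTower.toAlgHom C' A' ((A' ⧸ J.map (algebraMap C' A')) ⧸ I)).toLinearMap z =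
      LinearMap.rTensor ↥J (IsScalarTower.toAlgHom C' A' ((A' ⧸ J.map (algebraMap C' A')) ⧸ I)).toLinearMap w := by
    intro x' x'' y' y'' z w hx' hy' hx'' hy'' h1 h2 hz hw
    have d1 : x' - y' ∈ J.map (algebraMap C' A') := Ideal.Quotient.eq.mp h1
    have d2 : x'' - y'' ∈ J.map (algebraMap C' A') := Ideal.Quotient.eq.mp h2
    obtain ⟨w', hw'⟩ := Groth.Agent.Lib.Helper1.FlatLift.exists_mu_eq J A' _ d1
    obtain ⟨w'', hw''⟩ := Groth.Agent.Lib.Helper1.FlatLift.exists_mu_eq J A' _ d2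
    have e1 := Groth.Agent.Lib.Helper1.FlatLift.rTensor_eq_zero_of_mu_mem J
      (IsScalarTower.toAlgHom C' A' ((A' ⧸ J.map (algebraMap C' A')) ⧸ I)) I' hπ' w'
      (by rw [hw']; exact I'.sub_mem hx' hy')
    have e2 := Groth.Agent.Lib.Helper1.FlatLift.rTensor_eq_zero_of_mu_mem J
      (IsScalarTower.toAlgHom C' A' ((A' ⧸ J.map (algebraMap C' A')) ⧸ I)) I'' hπ'' w''
      (by rw [hw'']; exact I''.sub_mem hx'' hy'')
    have e3 : z - w = w'' - w' := by
      apply Groth.Agent.Lib.Helper1.FlatLift.mu_injective J A'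
      rw [map_sub, map_sub, hz, hw, hw', hw'']
      ring
    have e4 : z = w + (w'' - w') := by rw [← e3]; abel
    rw [e4, map_add, map_sub, e1, e2, sub_zero, add_zero]
  -- existence of data
  have D : ∀ x : ↥I, ∃ (x' x'' : A') (z : A' ⊗[C'] ↥J), x' ∈ I' ∧ x'' ∈ I'' ∧
      Ideal.Quotient.mk (J.map (algebraMap C' A')) x' = x.1 ∧
      Ideal.Quotient.mk (J.map (algebraMap C' A')) x'' = x.1 ∧
      Groth.Agent.Lib.Helper1.FlatLift.mu J A' z = x'' - x' := by
    rintro ⟨x, hx⟩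
    have h1 : x ∈ I'.map (Ideal.Quotient.mk (J.map (algebraMap C' A'))) := by rw [hI']; exact hx
    have h2 : x ∈ I''.map (Ideal.Quotient.mk (J.map (algebraMap C' A'))) := by rw [hI'']; exact hx
    obtain ⟨x', hx', e'⟩ := (Ideal.mem_map_iff_of_surjective _ Ideal.Quotient.mk_surjective).1 h1
    obtain ⟨x'', hx'', e''⟩ := (Ideal.mem_map_iff_of_surjective _ Ideal.Quotient.mk_surjective).1 h2
    have d : x'' - x' ∈ J.map (algebraMap C' A') := Ideal.Quotient.eq.mp (e''.trans e'.symm)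
    obtain ⟨z, hz⟩ := Groth.Agent.Lib.Helper1.FlatLift.exists_mu_eq J A' _ d
    exact ⟨x', x'', z, hx', hx'', e', e'', hz⟩
  choose X' X'' Z hX' hX'' hm' hm'' hZ using D
  let φ : ↥I →ₗ[A'] (((A' ⧸ J.map (algebraMap C' A')) ⧸ I) ⊗[C'] ↥J) :=
    { toFun := fun x => LinearMap.rTensor ↥J
        (IsScalarTower.toAlgHom C' A' ((A' ⧸ J.map (algebraMap C' A')) ⧸ I)).toLinearMap (Z x)
      map_add' := fun x y => by
        rw [← map_add]
        refine U (X' (x + y)) (X'' (x + y)) (X' x + X' y) (X'' x + X'' y) (Z (x + y)) (Z x + Z y)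
          (hX' _) (I'.add_mem (hX' _) (hX' _)) (hX'' _) (I''.add_mem (hX'' _) (hX'' _)) ?_ ?_ (hZ _) ?_
        · rw [hm', map_add, hm', hm']; rfl
        · rw [hm'', map_add, hm'', hm'']; rfl
        · rw [map_add, hZ, hZ]; ring
      map_smul' := fun a x => by
        rw [RingHom.id_apply, ← Groth.Agent.Lib.Helper1.FlatLift.rTensor_smul]
        refine U (X' (a • x)) (X'' (a • x)) (a * X' x) (a * X'' x) (Z (a • x)) (a • Z x)
          (hX' _) (I'.mul_mem_left _ (hX' _)) (hX'' _) (I''.mul_mem_left _ (hX'' _)) ?_ ?_ (hZ _) ?_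
        · rw [hm', map_mul, hm']; rfl
        · rw [hm'', map_mul, hm'']; rfl
        · rw [Groth.Agent.Lib.Helper1.FlatLift.mu_smul, hZ]; ring }
  refine ⟨φ, ?_, ?_⟩
  · intro x hx x' x'' hx' hx'' e' e'' z hz
    change _ = LinearMap.rTensor ↥J
        (IsScalarTower.toAlgHom C' A' ((A' ⧸ J.map (algebraMap C' A')) ⧸ I)).toLinearMap (Z ⟨x, hx⟩)
    exact U x' x'' (X' ⟨x, hx⟩) (X'' ⟨x, hx⟩) z (Z ⟨x, hx⟩) hx' (hX' _) hx'' (hX'' _)
      (by rw [e', hm']) (by rw [e'', hm'']) hz (hZ _)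
  · intro ψ hψ
    ext x
    have := hψ x.1 x.2 (X' x) (X'' x) (hX' x) (hX'' x) (hm' x) (hm'' x) (Z x) (hZ x)
    exact this.symm

end Groth.Agent.S11464
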