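import Groth.Statements.S11465
import Groth.Agent.Lib.Helper1.FlatLift2

set_option autoImplicit false
universe u
open scoped TensorProduct
open DefT

namespace Groth.Agent.S11465

/-- Let C' be a local Artin ring, J ⊊ C' a proper ideal annihilated by the maximal ideal, C = C'/J, A' a
flat C'-algebra, A = A'/JA', I ⊆ A an ideal with B = A/I flat over C, I' ⊆ A' an ideal with C'-flat
quotient reducing to I, and φ : I → B ⊗_{C'} J an A'-linear map. Then there is exactly one ideal I''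
⊆ A' with C'-flat quotient reducing to I whose difference from I' is φ: for all x ∈ I, all lifts x'
∈ I', x'' ∈ I'' of x and all z ∈ A' ⊗_{C'} J mapping to x'' − x', the image of z in B ⊗_{C'} J is
φ(x). -/
theorem result (C' : Type u) [CommRing C'] [IsLocalRing C'] [IsArtinianRing C'] (J : Ideal C')
    (hJ : IsLocalRing.maximalIdeal C' * J = ⊥) (hJne : J ≠ ⊤) (A' : Type u) [CommRing A'] [Algebra C' A'] [Module.Flat C' A']
    (I : Ideal (A' ⧸ J.map (algebraMap C' A')))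
    [Module.Flat (C' ⧸ J) ((A' ⧸ J.map (algebraMap C' A')) ⧸ I)]
    (I' : Ideal A') [Module.Flat C' (A' ⧸ I')]
    (hI' : I'.map (Ideal.Quotient.mk (J.map (algebraMap C' A'))) = I)
    (φ : ↥I →ₗ[A'] (((A' ⧸ J.map (algebraMap C' A')) ⧸ I) ⊗[C'] ↥J)) :
    ∃! I'' : Ideal A', Module.Flat C' (A' ⧸ I'') ∧
      I''.map (Ideal.Quotient.mk (J.map (algebraMap C' A'))) = I ∧
      (∀ (x : (A' ⧸ J.map (algebraMap C' A'))) (hx : x ∈ I) (x' x'' : A'), x' ∈ I' → x'' ∈ I'' →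
          Ideal.Quotient.mk (J.map (algebraMap C' A')) x' = x → Ideal.Quotient.mk (J.map (algebraMap C' A')) x'' = x →
          ∀ z : A' ⊗[C'] ↥J, TensorProduct.rid C' A' (LinearMap.lTensor A' (Submodule.subtype J) z) = x'' - x' →
            LinearMap.rTensor ↥J (IsScalarTower.toAlgHom C' A' ((A' ⧸ J.map (algebraMap C' A')) ⧸ I)).toLinearMap z = φ ⟨x, hx⟩) := by
  classical
  have hJle : J ≤ IsLocalRing.maximalIdeal C' := IsLocalRing.le_maximalIdeal hJne
  have hJ2 : J * J = ⊥ := le_bot_iff.mp ((Ideal.mul_mono_left hJle).trans hJ.le)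
  have hπ : ∀ a, (IsScalarTower.toAlgHom C' A' ((A' ⧸ J.map (algebraMap C' A')) ⧸ I)) a =
      Ideal.Quotient.mk I (Ideal.Quotient.mk (J.map (algebraMap C' A')) a) := fun a => rfl
  have memI : ∀ x' ∈ I', Ideal.Quotient.mk (J.map (algebraMap C' A')) x' ∈ I := by
    intro x' hx'
    rw [← hI']
    exact Ideal.mem_map_of_mem _ hx'
  have hπ' : ∀ a ∈ I', (IsScalarTower.toAlgHom C' A' ((A' ⧸ J.map (algebraMap C' A')) ⧸ I)) a = 0 := by
    intro a ha
    rw [hπ, Ideal.Quotient.eq_zero_iff_mem]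
    exact memI a ha
  have hπsurj : Function.Surjective (IsScalarTower.toAlgHom C' A' ((A' ⧸ J.map (algebraMap C' A')) ⧸ I)) := by
    intro b
    obtain ⟨b', rfl⟩ := Ideal.Quotient.mk_surjective b
    obtain ⟨a, rfl⟩ := Ideal.Quotient.mk_surjective b'
    exact ⟨a, rfl⟩
  have hmk_mu : ∀ z : A' ⊗[C'] ↥J, Ideal.Quotient.mk (J.map (algebraMap C' A'))
      (Groth.Agent.Lib.Helper1.FlatLift.mu J A' z) = 0 := fun z =>
    Ideal.Quotient.eq_zero_iff_mem.2 (Groth.Agent.Lib.Helper1.FlatLift.mu_mem J A' z)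
  -- decomposition of the kernel of π relative to an ideal reducing to I
  have decomp : ∀ K : Ideal A', K.map (Ideal.Quotient.mk (J.map (algebraMap C' A'))) = I →
      ∀ a, (IsScalarTower.toAlgHom C' A' ((A' ⧸ J.map (algebraMap C' A')) ⧸ I)) a = 0 →
      ∃ y ∈ K, ∃ v : A' ⊗[C'] ↥J, a = y + Groth.Agent.Lib.Helper1.FlatLift.mu J A' v := by
    intro K hK a ha
    rw [hπ, Ideal.Quotient.eq_zero_iff_mem, ← hK] at ha
    obtain ⟨y, hy, hya⟩ := (Ideal.mem_map_iff_of_surjective _ Ideal.Quotient.mk_surjective).1 ha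
    have hd : a - y ∈ J.map (algebraMap C' A') := Ideal.Quotient.eq.mp hya.symm
    obtain ⟨v, hv⟩ := Groth.Agent.Lib.Helper1.FlatLift.exists_mu_eq J A' _ hd
    exact ⟨y, hy, v, by rw [hv]; ring⟩
  -- the difference property
  let Diff : Ideal A' → Prop := fun K =>
    ∀ (x : (A' ⧸ J.map (algebraMap C' A'))) (hx : x ∈ I) (x' x'' : A'), x' ∈ I' → x'' ∈ K →
      Ideal.Quotient.mk (J.map (algebraMap C' A')) x' = x → Ideal.Quotient.mk (J.map (algebraMap C' A')) x'' = x →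
      ∀ z : A' ⊗[C'] ↥J, TensorProduct.rid C' A' (LinearMap.lTensor A' (Submodule.subtype J) z) = x'' - x' →
        LinearMap.rTensor ↥J (IsScalarTower.toAlgHom C' A' ((A' ⧸ J.map (algebraMap C' A')) ⧸ I)).toLinearMap z = φ ⟨x, hx⟩
  -- comparison of two solutions
  have key : ∀ K₁ K₂ : Ideal A', K₁.map (Ideal.Quotient.mk (J.map (algebraMap C' A'))) = I →
      K₂.map (Ideal.Quotient.mk (J.map (algebraMap C' A'))) = I → Diff K₁ → Diff K₂ → K₁ ≤ K₂ := by
    intro K₁ K₂ h1 h2 d1 d2 y hy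
    have hyI : Ideal.Quotient.mk (J.map (algebraMap C' A')) y ∈ I := by
      rw [← h1]; exact Ideal.mem_map_of_mem _ hy
    have hyI' : Ideal.Quotient.mk (J.map (algebraMap C' A')) y ∈
        I'.map (Ideal.Quotient.mk (J.map (algebraMap C' A'))) := by rw [hI']; exact hyI
    have hyI2 : Ideal.Quotient.mk (J.map (algebraMap C' A')) y ∈
        K₂.map (Ideal.Quotient.mk (J.map (algebraMap C' A'))) := by rw [h2]; exact hyI
    obtain ⟨x', hx', ex'⟩ := (Ideal.mem_map_iff_of_surjective _ Ideal.Quotient.mk_surjective).1 hyI'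
    obtain ⟨y₂, hy₂, ey₂⟩ := (Ideal.mem_map_iff_of_surjective _ Ideal.Quotient.mk_surjective).1 hyI2
    obtain ⟨z₁, hz₁⟩ := Groth.Agent.Lib.Helper1.FlatLift.exists_mu_eq J A' (y - x')
      (Ideal.Quotient.eq.mp ex'.symm)
    obtain ⟨z₂, hz₂⟩ := Groth.Agent.Lib.Helper1.FlatLift.exists_mu_eq J A' (y₂ - x')
      (Ideal.Quotient.eq.mp (ey₂.trans ex'.symm))
    have e1 := d1 _ hyI x' y hx' hy ex' rfl z₁ hz₁
    have e2 := d2 _ hyI x' y₂ hx' hy₂ ex' ey₂ z₂ hz₂
    have e3 : LinearMap.rTensor ↥J (IsScalarTower.toAlgHom C' A' ((A' ⧸ J.map (algebraMap C' A')) ⧸ I)).toLinearMap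
        (z₁ - z₂) = 0 := by rw [map_sub, e1, e2, sub_self]
    have e4 := Groth.Agent.Lib.Helper1.FlatLift.eq_zero_of_rTensor_eq_zero J
      (IsScalarTower.toAlgHom C' A' ((A' ⧸ J.map (algebraMap C' A')) ⧸ I)) hπsurj
      ((Ideal.Quotient.mkₐ C' K₂).toLinearMap ∘ₗ Groth.Agent.Lib.Helper1.FlatLift.mu J A')
      (by
        intro a ha j
        obtain ⟨y', hy', v, rfl⟩ := decomp K₂ h2 a ha
        change Ideal.Quotient.mk K₂ (Groth.Agent.Lib.Helper1.FlatLift.mu J A'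
          ((y' + Groth.Agent.Lib.Helper1.FlatLift.mu J A' v) ⊗ₜ j)) = 0
        rw [Groth.Agent.Lib.Helper1.FlatLift.mu_tmul, smul_add, ← map_smul,
          Groth.Agent.Lib.Helper1.FlatLift.smul_tensor_eq_zero J hJ2, map_zero, add_zero,
          Ideal.Quotient.eq_zero_iff_mem, Algebra.smul_def]
        exact K₂.mul_mem_left _ hy')
      (z₁ - z₂) e3
    have e5 : Groth.Agent.Lib.Helper1.FlatLift.mu J A' (z₁ - z₂) ∈ K₂ := Ideal.Quotient.eq_zero_iff_mem.1 e4
    rw [map_sub, hz₁, hz₂] at e5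
    have : y = (y - x' - (y₂ - x')) + y₂ := by ring
    rw [this]
    exact K₂.add_mem e5 hy₂
  -- the ideal
  let K : Ideal A' :=
    { carrier := {y | ∃ (x' : A') (hx' : x' ∈ I') (z : A' ⊗[C'] ↥J),
        Groth.Agent.Lib.Helper1.FlatLift.mu J A' z = y - x' ∧
        LinearMap.rTensor ↥J (IsScalarTower.toAlgHom C' A' ((A' ⧸ J.map (algebraMap C' A')) ⧸ I)).toLinearMap z =
          φ ⟨Ideal.Quotient.mk (J.map (algebraMap C' A')) x', memI x' hx'⟩}
      add_mem' := by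
        rintro y₁ y₂ ⟨x₁, hx₁, z₁, hz₁, hφ₁⟩ ⟨x₂, hx₂, z₂, hz₂, hφ₂⟩
        refine ⟨x₁ + x₂, I'.add_mem hx₁ hx₂, z₁ + z₂, ?_, ?_⟩
        · rw [map_add, hz₁, hz₂]; ring
        · rw [map_add, hφ₁, hφ₂, ← map_add]
          congr 1
      zero_mem' := by
        refine ⟨0, I'.zero_mem, 0, ?_, ?_⟩
        · rw [map_zero, sub_zero]
        · rw [map_zero]
          have : (⟨Ideal.Quotient.mk (J.map (algebraMap C' A')) 0, memI 0 I'.zero_mem⟩ : ↥I) = 0 :=
            Subtype.ext (map_zero _)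
          rw [this, map_zero]
      smul_mem' := by
        rintro a y ⟨x₁, hx₁, z₁, hz₁, hφ₁⟩
        refine ⟨a * x₁, I'.mul_mem_left _ hx₁, a • z₁, ?_, ?_⟩
        · rw [Groth.Agent.Lib.Helper1.FlatLift.mu_smul, hz₁, smul_eq_mul]; ring
        · rw [Groth.Agent.Lib.Helper1.FlatLift.rTensor_smul, hφ₁, ← map_smul]
          congr 1 }
  have hKmem : ∀ y, y ∈ K ↔ ∃ (x' : A') (hx' : x' ∈ I') (z : A' ⊗[C'] ↥J),
        Groth.Agent.Lib.Helper1.FlatLift.mu J A' z = y - x' ∧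
        LinearMap.rTensor ↥J (IsScalarTower.toAlgHom C' A' ((A' ⧸ J.map (algebraMap C' A')) ⧸ I)).toLinearMap z =
          φ ⟨Ideal.Quotient.mk (J.map (algebraMap C' A')) x', memI x' hx'⟩ := fun y => Iff.rfl
  have hKmap : K.map (Ideal.Quotient.mk (J.map (algebraMap C' A'))) = I := by
    apply le_antisymm
    · rw [Ideal.map_le_iff_le_comap]
      intro y hy
      obtain ⟨x', hx', z, hz, -⟩ := (hKmem y).1 hy
      rw [Ideal.mem_comap]
      have : y = x' + Groth.Agent.Lib.Helper1.FlatLift.mu J A' z := by rw [hz]; ring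
      rw [this, map_add, hmk_mu, add_zero]
      exact memI x' hx'
    · intro x hx
      have hx1 : x ∈ I'.map (Ideal.Quotient.mk (J.map (algebraMap C' A'))) := by rw [hI']; exact hx
      obtain ⟨x', hx', rfl⟩ := (Ideal.mem_map_iff_of_surjective _ Ideal.Quotient.mk_surjective).1 hx1
      obtain ⟨z, hz⟩ := LinearMap.rTensor_surjective ↥J
        (g := (IsScalarTower.toAlgHom C' A' ((A' ⧸ J.map (algebraMap C' A')) ⧸ I)).toLinearMap) hπsurj
        (φ ⟨Ideal.Quotient.mk (J.map (algebraMap C' A')) x', hx⟩)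
      have hy : x' + Groth.Agent.Lib.Helper1.FlatLift.mu J A' z ∈ K :=
        (hKmem _).2 ⟨x', hx', z, by ring, hz⟩
      have := Ideal.mem_map_of_mem (Ideal.Quotient.mk (J.map (algebraMap C' A'))) hy
      rwa [map_add, hmk_mu, add_zero] at this
  have hKdiff : Diff K := by
    intro x hx x' x'' hx' hx'' ex' ex'' z hz
    obtain ⟨x₀, hx₀, z₀, hz₀, hφ₀⟩ := (hKmem x'').1 hx''
    have hx₀x : Ideal.Quotient.mk (J.map (algebraMap C' A')) x₀ = x := by
      have : x'' = x₀ + Groth.Agent.Lib.Helper1.FlatLift.mu J A' z₀ := by rw [hz₀]; ring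
      rw [← ex'', this, map_add, hmk_mu, add_zero]
    have e1 := Groth.Agent.Lib.Helper1.FlatLift.rTensor_eq_zero_of_mu_mem J
      (IsScalarTower.toAlgHom C' A' ((A' ⧸ J.map (algebraMap C' A')) ⧸ I)) I' hπ' (z - z₀)
      (by
        rw [map_sub, hz₀]
        change TensorProduct.rid C' A' (LinearMap.lTensor A' (Submodule.subtype J) z) - _ ∈ I'
        rw [hz]
        have : x'' - x' - (x'' - x₀) = x₀ - x' := by ring
        rw [this]
        exact I'.sub_mem hx₀ hx')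
    rw [map_sub, sub_eq_zero] at e1
    rw [e1, hφ₀]
    congr 1
    exact Subtype.ext hx₀x
  have hKb : ∀ z : A' ⊗[C'] ↥J, Groth.Agent.Lib.Helper1.FlatLift.mu J A' z ∈ K →
      (Ideal.Quotient.mkₐ C' K).toLinearMap.rTensor ↥J z = 0 := by
    intro z hz
    obtain ⟨x₀, hx₀, z₀, hz₀, hφ₀⟩ := (hKmem _).1 hz
    have hx₀0 : Ideal.Quotient.mk (J.map (algebraMap C' A')) x₀ = 0 := by
      have : x₀ = Groth.Agent.Lib.Helper1.FlatLift.mu J A' z - Groth.Agent.Lib.Helper1.FlatLift.mu J A' z₀ := by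
        rw [hz₀]; ring
      rw [this, map_sub, hmk_mu, hmk_mu, sub_zero]
    have hφ0 : LinearMap.rTensor ↥J (IsScalarTower.toAlgHom C' A' ((A' ⧸ J.map (algebraMap C' A')) ⧸ I)).toLinearMap
        z₀ = 0 := by
      rw [hφ₀]
      have : (⟨Ideal.Quotient.mk (J.map (algebraMap C' A')) x₀, memI x₀ hx₀⟩ : ↥I) = 0 := Subtype.ext hx₀0
      rw [this, map_zero]
    have e1 := Groth.Agent.Lib.Helper1.FlatLift.rTensor_eq_zero_of_mu_mem J
      (IsScalarTower.toAlgHom C' A' ((A' ⧸ J.map (algebraMap C' A')) ⧸ I)) I' hπ' (z - z₀)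
      (by
        rw [map_sub, hz₀]
        have : Groth.Agent.Lib.Helper1.FlatLift.mu J A' z - (Groth.Agent.Lib.Helper1.FlatLift.mu J A' z - x₀) = x₀ := by
          ring
        rw [this]
        exact hx₀)
    rw [map_sub, hφ0, sub_zero] at e1
    refine Groth.Agent.Lib.Helper1.FlatLift.eq_zero_of_rTensor_eq_zero J
      (IsScalarTower.toAlgHom C' A' ((A' ⧸ J.map (algebraMap C' A')) ⧸ I)) hπsurj
      ((Ideal.Quotient.mkₐ C' K).toLinearMap.rTensor ↥J) ?_ z e1
    intro a ha j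
    obtain ⟨y', hy', v, rfl⟩ := decomp K hKmap a ha
    rw [LinearMap.rTensor_tmul]
    change Ideal.Quotient.mk K (y' + Groth.Agent.Lib.Helper1.FlatLift.mu J A' v) ⊗ₜ[C'] j = 0
    rw [map_add, Ideal.Quotient.eq_zero_iff_mem.2 hy', zero_add]
    have : Ideal.Quotient.mk K (Groth.Agent.Lib.Helper1.FlatLift.mu J A' v) =
        Groth.Agent.Lib.Helper1.FlatLift.mu J (A' ⧸ K) ((Ideal.Quotient.mkₐ C' K).toLinearMap.rTensor ↥J v) := by
      rw [Groth.Agent.Lib.Helper1.FlatLift.mu_natural]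
      rfl
    rw [this, Groth.Agent.Lib.Helper1.FlatLift.mu_tmul_eq_zero J hJ2]
  have hKflat : Module.Flat C' (A' ⧸ K) := by
    have := Groth.Agent.Lib.Helper1.FlatLift.flat_baseChange_quotient J I K hKmap
    exact Groth.Agent.Lib.Helper1.FlatLift.flat_quotient_of_sq_zero J hJ2 K hKb
  refine ⟨K, ⟨hKflat, hKmap, hKdiff⟩, ?_⟩
  rintro K₂ ⟨-, h2, d2⟩
  exact le_antisymm (key K₂ K h2 hKmap d2 hKdiff) (key K K₂ hKmap h2 hKdiff d2)

end Groth.Agent.S11465
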