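import Groth.Statements.S11469
import Groth.Agent.Lib.Helper1.FlatLift3

set_option autoImplicit false
universe u
open scoped TensorProduct
open DefT

namespace Groth.Agent.S11469

/-- Let C' be a local Artin ring with maximal ideal m, J ⊊ C' a proper ideal with mJ = 0, A' a
C'-algebra, M' an A'-module flat over C', and M₀ = M'/mM'. Then (1) every A'-linear endomorphism σ
of M' that is the identity modulo JM' is bijective, and there is exactly one A'-linear τ : M₀ → M₀
⊗_{C'} J such that, for all x ∈ M' and all z ∈ M' ⊗_{C'} J mapping to σ(x) − x in M', the image of z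
in M₀ ⊗_{C'} J is τ applied to the class of x; and (2) every A'-linear τ : M₀ → M₀ ⊗_{C'} J comes in
this way from some such σ. Thus the automorphisms of the extension M' inducing the identity on
M'/JM' correspond to Hom(M₀, M₀ ⊗ J). -/
theorem result (C' : Type u) [CommRing C'] [IsLocalRing C']
    [IsArtinianRing C'] (J : Ideal C') (hJ : IsLocalRing.maximalIdeal C' * J = ⊥) (hJne : J ≠ ⊤)
    (A' : Type u) [CommRing A'] [Algebra C' A'] (M' : Type u) [AddCommGroup M'] [Module A' M'] [Module C' M']
    [IsScalarTower C' A' M'] [Module.Flat C' M'] :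
    (∀ σ : M' →ₗ[A'] M', (∀ x : M', σ x - x ∈ (J.map (algebraMap C' A')) • (⊤ : Submodule A' M')) →
      Function.Bijective σ ∧
        ∃! τ : (M' ⧸ ((IsLocalRing.maximalIdeal C').map (algebraMap C' A')) • (⊤ : Submodule A' M')) →ₗ[A'] ((M' ⧸ ((IsLocalRing.maximalIdeal C').map (algebraMap C' A')) • (⊤ : Submodule A' M')) ⊗[C'] ↥J),
          (∀ (x : M') (z : M' ⊗[C'] ↥J), TensorProduct.rid C' M' (LinearMap.lTensor M' (Submodule.subtype J) z) = σ x - x →
            LinearMap.rTensor ↥J ((Submodule.mkQ (((IsLocalRing.maximalIdeal C').map (algebraMap C' A')) • (⊤ : Submodule A' M'))).restrictScalars C') z =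
              τ (Submodule.mkQ _ x))) ∧
    (∀ τ : (M' ⧸ ((IsLocalRing.maximalIdeal C').map (algebraMap C' A')) • (⊤ : Submodule A' M')) →ₗ[A'] ((M' ⧸ ((IsLocalRing.maximalIdeal C').map (algebraMap C' A')) • (⊤ : Submodule A' M')) ⊗[C'] ↥J),
      ∃ σ : M' →ₗ[A'] M', (∀ x : M', σ x - x ∈ (J.map (algebraMap C' A')) • (⊤ : Submodule A' M')) ∧
          (∀ (x : M') (z : M' ⊗[C'] ↥J), TensorProduct.rid C' M' (LinearMap.lTensor M' (Submodule.subtype J) z) = σ x - x →
            LinearMap.rTensor ↥J ((Submodule.mkQ (((IsLocalRing.maximalIdeal C').map (algebraMap C' A')) • (⊤ : Submodule A' M'))).restrictScalars C') z =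
              τ (Submodule.mkQ _ x))) := by
  classical
  have hJle : J ≤ IsLocalRing.maximalIdeal C' := IsLocalRing.le_maximalIdeal hJne
  have hJ2 : J * J = ⊥ := le_bot_iff.mp ((Ideal.mul_mono_left hJle).trans hJ.le)
  have hmuinj : Function.Injective (Groth.Agent.Lib.Helper1.FlatLift.mu J M') :=
    Groth.Agent.Lib.Helper1.FlatLift.mu_injective J M'
  -- elements of `J` kill `J M'`
  have hJJ : ∀ y : M', y ∈ (J.map (algebraMap C' A')) • (⊤ : Submodule A' M') → ∀ c ∈ J, c • y = 0 := by
    intro y hy
    refine Groth.Agent.Lib.Helper1.FlatLift.smulTop_induction J (fun y => ∀ c ∈ J, c • y = 0) ?_ ?_ ?_ y hy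
    · intro c _; exact smul_zero _
    · intro x y hx hy c hc; rw [smul_add, hx c hc, hy c hc, add_zero]
    · intro c' hc' m c hc
      rw [smul_smul]
      have : c * c' = 0 := by
        have h : c * c' ∈ J * J := Ideal.mul_mem_mul hc hc'
        rw [hJ2] at h
        exact h
      rw [this, zero_smul]
  -- elements of `𝔪` kill `M₀ ⊗ J`
  have h𝔪w : ∀ (c : C'), c ∈ IsLocalRing.maximalIdeal C' →
      ∀ w : (M' ⧸ ((IsLocalRing.maximalIdeal C').map (algebraMap C' A')) • (⊤ : Submodule A' M')) ⊗[C'] ↥J,
        c • w = 0 := fun c hc w =>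
    Groth.Agent.Lib.Helper1.FlatLift.smul_tensor_eq_zero' J (IsLocalRing.maximalIdeal C') hJ c hc w
  constructor
  · intro σ hσ
    -- ν = σ - id
    have hν : ∀ y : M', y ∈ (J.map (algebraMap C' A')) • (⊤ : Submodule A' M') → σ y - y = 0 := by
      intro y hy
      refine Groth.Agent.Lib.Helper1.FlatLift.smulTop_induction J (fun y => σ y - y = 0) ?_ ?_ ?_ y hy
      · rw [map_zero, sub_zero]
      · intro x y hx hy
        rw [map_add]
        have : σ x + σ y - (x + y) = (σ x - x) + (σ y - y) := by abel
        rw [this, hx, hy, add_zero]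
      · intro c hc m
        have h1 : σ (c • m) = c • σ m := by
          rw [← algebraMap_smul A' c m, map_smul, algebraMap_smul]
        rw [h1, ← smul_sub]
        exact hJJ _ (hσ m) c hc
    have hνν : ∀ x : M', σ (σ x - x) = σ x - x := fun x => sub_eq_zero.mp (hν _ (hσ x))
    have hbij : Function.Bijective σ := by
      constructor
      · rw [injective_iff_map_eq_zero]
        intro x hx
        have h1 := hνν x
        rw [hx, zero_sub, map_neg, neg_inj] at h1
        rw [← h1, hx]
      · intro y
        refine ⟨y - (σ y - y), ?_⟩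
        rw [map_sub, hνν]
        abel
    refine ⟨hbij, ?_⟩
    -- choose z_x
    have hz : ∀ x : M', ∃ z : M' ⊗[C'] ↥J, Groth.Agent.Lib.Helper1.FlatLift.mu J M' z = σ x - x := fun x =>
      Groth.Agent.Lib.Helper1.FlatLift.exists_mu_eq_of_mem_smulTop J M' _ (hσ x)
    choose Z hZ using hz
    let T : M' →ₗ[A'] (M' ⧸ ((IsLocalRing.maximalIdeal C').map (algebraMap C' A')) • (⊤ : Submodule A' M')) ⊗[C'] ↥J :=
      { toFun := fun x => Groth.Agent.Lib.Helper1.FlatLift.redMap (A' := A') J (IsLocalRing.maximalIdeal C') M' (Z x)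
        map_add' := fun x y => by
          rw [← map_add]
          congr 1
          apply hmuinj
          rw [map_add, hZ, hZ, hZ, map_add]
          abel
        map_smul' := fun a x => by
          rw [RingHom.id_apply, ← map_smul]
          congr 1
          apply hmuinj
          rw [Groth.Agent.Lib.Helper1.FlatLift.mu_smulA, hZ, hZ, map_smul, smul_sub] }
    have hT : ∀ x, T x = Groth.Agent.Lib.Helper1.FlatLift.redMap (A' := A') J (IsLocalRing.maximalIdeal C') M' (Z x) :=
      fun x => rfl
    have hTker : ((IsLocalRing.maximalIdeal C').map (algebraMap C' A')) • (⊤ : Submodule A' M') ≤ LinearMap.ker T := by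
      intro x hx
      rw [LinearMap.mem_ker]
      refine Groth.Agent.Lib.Helper1.FlatLift.smulTop_induction (IsLocalRing.maximalIdeal C')
        (fun x => T x = 0) (map_zero _) ?_ ?_ x hx
      · intro x y hx hy
        rw [map_add, hx, hy, add_zero]
      · intro c hc m
        rw [← algebraMap_smul A' c m, map_smul, algebraMap_smul]
        exact h𝔪w c hc _
    let τ := Submodule.liftQ _ T hTker
    have hτ : ∀ x, τ (Submodule.mkQ _ x) = T x := fun x => rfl
    refine ⟨τ, ?_, ?_⟩
    · intro x z hz
      rw [← Groth.Agent.Lib.Helper1.FlatLift.redMap_apply (A' := A') J (IsLocalRing.maximalIdeal C') M' z, hτ, hT]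
      congr 1
      apply hmuinj
      rw [hZ]
      exact hz
    · intro τ' hτ'
      apply LinearMap.ext
      intro y
      obtain ⟨x, rfl⟩ := Submodule.mkQ_surjective _ y
      rw [hτ, hT]
      exact (hτ' x (Z x) (hZ x)).symm
  · intro τ
    let E := Groth.Agent.Lib.Helper1.FlatLift.redEquiv (A' := A') J (IsLocalRing.maximalIdeal C') hJ M'
    let σ : M' →ₗ[A'] M' := LinearMap.id +
      (Groth.Agent.Lib.Helper1.FlatLift.muA (A' := A') J M') ∘ₗ E.symm.toLinearMap ∘ₗ τ ∘ₗ
        (Submodule.mkQ (((IsLocalRing.maximalIdeal C').map (algebraMap C' A')) • (⊤ : Submodule A' M')))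
    have hσ : ∀ x, σ x - x = Groth.Agent.Lib.Helper1.FlatLift.mu J M' (E.symm (τ (Submodule.mkQ _ x))) := by
      intro x
      change x + Groth.Agent.Lib.Helper1.FlatLift.mu J M' (E.symm (τ (Submodule.mkQ _ x))) - x = _
      abel
    refine ⟨σ, ?_, ?_⟩
    · intro x
      rw [hσ]
      exact Groth.Agent.Lib.Helper1.FlatLift.mu_mem_smulTop J M' _
    · intro x z hz
      have h1 : z = E.symm (τ (Submodule.mkQ _ x)) := by
        apply hmuinj
        rw [← hσ]
        exact hz
      rw [← Groth.Agent.Lib.Helper1.FlatLift.redEquiv_apply (A' := A') J (IsLocalRing.maximalIdeal C') hJ M' z, h1]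
      exact LinearEquiv.apply_symm_apply E _

end Groth.Agent.S11469
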