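import Groth.Statements.S1147
import Mathlib
import Groth.Agent.Lib.Helper23.QFFlat

set_option autoImplicit false
universe u
open Desc

namespace Groth.Agent.S1147

section helpers
open Desc

/-- maximal primes avoiding `g` -/
theorem exists_prime_max_avoid {A : Type u} [CommRing A] (P : Ideal A) [hP : P.IsPrime] (g : A)
    (hg : g ∉ P) :
    ∃ p : Ideal A, p.IsPrime ∧ P ≤ p ∧ g ∉ p ∧
      ∀ p' : Ideal A, p'.IsPrime → p ≤ p' → g ∉ p' → p' = p := by
  classical
  let M : Submonoid A := Submonoid.powers g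
  let S := Localization.Away g
  have hdisj : ∀ I : Ideal A, I.IsPrime → g ∉ I → Disjoint (M : Set A) (I : Set A) := by
    intro I hI hgI
    rw [Set.disjoint_left]
    rintro x ⟨n, rfl⟩ hx
    exact hgI (hI.mem_of_pow_mem n hx)
  have hPS : (P.map (algebraMap A S)).IsPrime :=
    IsLocalization.isPrime_of_isPrime_disjoint M S P hP (hdisj P hP hg)
  obtain ⟨M', hM', hPM'⟩ := Ideal.exists_le_maximal _ hPS.ne_top
  refine ⟨M'.comap (algebraMap A S), Ideal.comap_isPrime _ _, ?_, ?_, ?_⟩
  · exact Ideal.map_le_iff_le_comap.mp hPM'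
  · intro hmem
    rw [Ideal.mem_comap] at hmem
    exact hM'.ne_top (Ideal.eq_top_of_isUnit_mem _ hmem (IsLocalization.Away.algebraMap_isUnit g))
  · intro p' hp' hle hgp'
    have h1 : (p'.map (algebraMap A S)).IsPrime :=
      IsLocalization.isPrime_of_isPrime_disjoint M S p' hp' (hdisj p' hp' hgp')
    have h2 : M' ≤ p'.map (algebraMap A S) := by
      rw [← IsLocalization.map_comap M S M']
      exact Ideal.map_mono hle
    have h3 : M' = p'.map (algebraMap A S) := hM'.eq_of_le h1.ne_top h2
    rw [h3]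
    exact (IsLocalization.under_map_of_isPrime_disjoint M S hp' (hdisj p' hp' hgp')).symm

set_option linter.style.haveILetI false in
/-- core: descent of the Jacobson property along quasi-finite faithfully flat maps -/
theorem core (A C : Type u) [CommRing A] [CommRing C] [Algebra A C]
    [Module.FaithfullyFlat A C] [Algebra.QuasiFinite A C] [hJ : IsJacobsonRing C] :
    IsJacobsonRing A := by
  classical
  rw [isJacobsonRing_iff_prime_eq]
  intro P hP
  refine le_antisymm ?_ Ideal.le_jacobson
  intro g hg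
  by_contra hgP
  obtain ⟨p, hp, hPp, hgp, hmax⟩ := exists_prime_max_avoid P g hgP
  have hpnm : ¬ p.IsMaximal := fun h => hgp ((Ideal.mem_sInf.mp hg) ⟨hPp, h⟩)
  obtain ⟨m, hm, hpm⟩ := Ideal.exists_le_maximal p hp.ne_top
  haveI := hm.isPrime
  have hpm' : p ≠ m := fun h => hpnm (h ▸ hm)
  obtain ⟨⟨m', hm'⟩, hm'm⟩ :=
    PrimeSpectrum.comap_surjective_of_faithfullyFlat (A := A) (B := C) ⟨m, hm.isPrime⟩
  have hm'm2 : m'.comap (algebraMap A C) = m := congrArg PrimeSpectrum.asIdeal hm'm
  haveI : m'.LiesOver m := ⟨hm'm2.symm⟩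
  obtain ⟨q, hqm', hq, hqp⟩ := Ideal.exists_ideal_le_liesOver_of_le (p := p) (q := m) m' hpm
  have hqp2 : q.comap (algebraMap A C) = p := hqp.over.symm
  have hqJ : q.jacobson = q := (isJacobsonRing_iff_prime_eq.mp hJ) q hq
  have hqnm : ¬ q.IsMaximal := by
    intro hqmax
    have : q = m' := hqmax.eq_of_le hm'.ne_top hqm'
    apply hpm'
    rw [← hqp2, this, hm'm2]
  have hgq : algebraMap A C g ∉ q := by
    intro h
    apply hgp
    rw [← hqp2]
    exact h
  -- the finite set of maximal ideals over `q` avoiding `g`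
  let T : Set (Ideal C) := {M | q ≤ M ∧ M.IsMaximal ∧ algebraMap A C g ∉ M}
  have hTsub : T ⊆ p.primesOver C := by
    rintro M ⟨hqM, hMmax, hgM⟩
    refine ⟨hMmax.isPrime, ⟨?_⟩⟩
    have h1 : p ≤ M.comap (algebraMap A C) := by
      rw [← hqp2]
      exact Ideal.comap_mono hqM
    exact (hmax _ (Ideal.comap_isPrime _ _) h1 hgM).symm
  have hTfin : T.Finite := (Algebra.QuasiFinite.finite_primesOver p).subset hTsub
  have hchoice : ∀ M ∈ T, ∃ x ∈ M, x ∉ q := by
    rintro M ⟨hqM, hMmax, hgM⟩
    by_contra hcon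
    push Not at hcon
    have hMq : M ≤ q := hcon
    exact hqnm ((le_antisymm hMq hqM) ▸ hMmax)
  let f : Ideal C → C := fun M => if h : ∃ x ∈ M, x ∉ q then h.choose else 1
  have hf1 : ∀ M ∈ T, f M ∈ M := by
    intro M hM
    have h := hchoice M hM
    simp only [f, dif_pos h]
    exact h.choose_spec.1
  have hf2 : ∀ M ∈ T, f M ∉ q := by
    intro M hM
    have h := hchoice M hM
    simp only [f, dif_pos h]
    exact h.choose_spec.2
  let x : C := ∏ M ∈ hTfin.toFinset, f M
  have hxq : x ∉ q := by
    intro hx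
    rw [Ideal.IsPrime.prod_mem_iff] at hx
    obtain ⟨M, hM, hfM⟩ := hx
    exact hf2 M (hTfin.mem_toFinset.mp hM) hfM
  have hxM : ∀ M ∈ T, x ∈ M := by
    intro M hM
    have hM' : M ∈ hTfin.toFinset := hTfin.mem_toFinset.mpr hM
    have : x = f M * ∏ N ∈ hTfin.toFinset.erase M, f N := (Finset.mul_prod_erase _ _ hM').symm
    rw [this]
    exact Ideal.mul_mem_right _ _ (hf1 M hM)
  have hmem : algebraMap A C g * x ∈ q.jacobson := by
    rw [Ideal.jacobson, Ideal.mem_sInf]
    rintro M ⟨hqM, hMmax⟩
    by_cases hgM : algebraMap A C g ∈ M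
    · exact Ideal.mul_mem_right _ _ hgM
    · exact Ideal.mul_mem_left _ _ (hxM M ⟨hqM, hMmax, hgM⟩)
  rw [hqJ] at hmem
  rcases hq.mem_or_mem hmem with h | h
  · exact hgq h
  · exact hxq h

end helpers

/-- Let A → B be a faithfully flat ring map of finite presentation. If B is a Jacobson ring then so is
A. (This is the affine descent direction of the statement that the Jacobson property is fppf local.) -/
theorem result (A B : Type u) [CommRing A] [CommRing B] [Algebra A B]
    [Module.FaithfullyFlat A B] [Algebra.FinitePresentation A B] [IsJacobsonRing B] : IsJacobsonRing A := by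
  obtain ⟨S', i1, i2, hqf, hft, hff, hfp, ⟨f⟩⟩ :=
    Groth.Agent.Lib.Helper23.QFFlat.exists_quasiFinite_faithfullyFlat A B
  haveI : IsJacobsonRing S' := by
    have h1 : (f.toRingHom.comp (algebraMap A B)).FiniteType := by
      have : f.toRingHom.comp (algebraMap A B) = algebraMap A S' := by
        ext a
        simp
      rw [this]
      exact RingHom.finiteType_algebraMap.mpr hft
    exact (RingHom.FiniteType.of_comp_finiteType h1).isJacobsonRing
  exact core A S'

end Groth.Agent.S1147
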