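import Groth.Statements.S1148
import Mathlib.RingTheory.Ideal.GoingDown
import Mathlib.RingTheory.LocalRing.ResidueField.Fiber
import Mathlib.RingTheory.Ideal.MinimalPrime.Noetherian
import Mathlib.RingTheory.FiniteType
import Mathlib.RingTheory.FiniteStability
-- import your own Groth.Agent.* helpers here

set_option autoImplicit false
universe u
open Desc

namespace Groth.Agent.S1148

/-- Affine form (finiteness of irreducible components of quasi-compact opens is fppf local; this is the
ascent direction for a morphism of affine schemes). Let A → B be a flat ring map of finite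
presentation. If Spec A has finitely many irreducible components, then so does Spec B. -/
theorem result (A B : Type u) [CommRing A] [CommRing B] [Algebra A B]
    [Module.Flat A B] [Algebra.FinitePresentation A B] (h : (irreducibleComponents (PrimeSpectrum A)).Finite) :
    (irreducibleComponents (PrimeSpectrum B)).Finite := by
  have hA : (minimalPrimes A).Finite := by
    rw [← PrimeSpectrum.vanishingIdeal_irreducibleComponents]
    exact h.image _
  rw [← PrimeSpectrum.zeroLocus_minimalPrimes]
  refine Set.Finite.image _ ?_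
  -- each minimal prime of `B` lies over a minimal prime of `A`
  have hunder : ∀ q ∈ minimalPrimes B, q.under A ∈ minimalPrimes A := by
    intro q hq
    rw [minimalPrimes_eq_minimals] at hq ⊢
    have hqp : q.IsPrime := hq.1
    refine ⟨Ideal.IsPrime.under A q, ?_⟩
    intro p' hp' hle
    obtain ⟨Q, hQle, hQ, hQo⟩ := Ideal.exists_ideal_le_liesOver_of_le (p := p') (q := q.under A) q hle
    have : Q = q := le_antisymm hQle (hq.2 hQ hQle)
    rw [hQo.over, this]
  have hsub : minimalPrimes B ⊆ ⋃ p ∈ minimalPrimes A, {q | q ∈ minimalPrimes B ∧ q.under A = p} := by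
    intro q hq
    simp only [Set.mem_iUnion, Set.mem_ofPred_eq, exists_prop]
    exact ⟨q.under A, hunder q hq, hq, rfl⟩
  refine Set.Finite.subset (Set.Finite.biUnion hA ?_) hsub
  intro p hp
  have hpp : p.IsPrime := Ideal.IsMinimalPrime.isPrime hp
  let P : PrimeSpectrum A := ⟨p, hpp⟩
  have hN : IsNoetherianRing (P.asIdeal.Fiber B) :=
    Algebra.FiniteType.isNoetherianRing P.asIdeal.ResidueField _
  have hfin : (minimalPrimes (P.asIdeal.Fiber B)).Finite := minimalPrimes.finite_of_isNoetherianRing _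
  let e := PrimeSpectrum.preimageOrderIsoFiber A B P
  have hmem : ∀ q : Ideal B, q ∈ minimalPrimes B ∧ q.under A = p →
      ∃ hq : q.IsPrime, (⟨q, hq⟩ : PrimeSpectrum B) ∈ PrimeSpectrum.comap (algebraMap A B) ⁻¹' {P} := by
    rintro q ⟨hq, hqp⟩
    refine ⟨Ideal.IsMinimalPrime.isPrime hq, ?_⟩
    simp only [Set.mem_preimage, Set.mem_singleton_iff]
    ext1
    exact hqp
  let f : {q : Ideal B | q ∈ minimalPrimes B ∧ q.under A = p} → Ideal (P.asIdeal.Fiber B) :=
    fun q => (e ⟨⟨q.1, (hmem q.1 q.2).1⟩, (hmem q.1 q.2).2⟩).asIdeal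
  have hf_inj : Function.Injective f := by
    intro q₁ q₂ h12
    have := e.injective (PrimeSpectrum.ext h12)
    ext1
    simpa using congrArg (fun x => x.1.asIdeal) this
  have hf_mem : ∀ q, f q ∈ minimalPrimes (P.asIdeal.Fiber B) := by
    intro q
    rw [minimalPrimes_eq_minimals]
    refine ⟨(e _).isPrime, ?_⟩
    intro Q' hQ' hle
    let Q'' : PrimeSpectrum (P.asIdeal.Fiber B) := ⟨Q', hQ'⟩
    have h1 : Q'' ≤ e ⟨⟨q.1, (hmem q.1 q.2).1⟩, (hmem q.1 q.2).2⟩ := hle
    have h2 : e.symm Q'' ≤ ⟨⟨q.1, (hmem q.1 q.2).1⟩, (hmem q.1 q.2).2⟩ := by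
      rw [← e.le_iff_le]; simpa using h1
    have hqmin : Minimal Ideal.IsPrime q.1 := (IsMinimalPrime.iff_minimal q.1).mp q.2.1
    have h3 : q.1 ≤ (e.symm Q'').1.asIdeal := hqmin.2 (e.symm Q'').1.isPrime h2
    have h4 : (⟨⟨q.1, (hmem q.1 q.2).1⟩, (hmem q.1 q.2).2⟩ : PrimeSpectrum.comap (algebraMap A B) ⁻¹' {P}) ≤ e.symm Q'' := h3
    have h5 : e ⟨⟨q.1, (hmem q.1 q.2).1⟩, (hmem q.1 q.2).2⟩ ≤ Q'' := by
      rw [← e.symm.le_iff_le]; simpa using h4
    exact h5
  have : Finite {q : Ideal B | q ∈ minimalPrimes B ∧ q.under A = p} := by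
    have := hfin.to_subtype
    exact Finite.of_injective (fun q => (⟨f q, hf_mem q⟩ : minimalPrimes (P.asIdeal.Fiber B)))
      (fun q₁ q₂ h12 => hf_inj (by simpa using congrArg Subtype.val h12))
  exact Set.toFinite _

end Groth.Agent.S1148
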