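import Groth.Statements.S11483
import Groth.Agent.Lib.Helper2.DegAdd.GenIso

set_option autoImplicit false
universe u
open CategoryTheory CategoryTheory.Limits AlgebraicGeometry
open Curves

namespace Groth.Agent.S11483

/-- Stable bundles are simple. Let X be a nonsingular projective curve over an algebraically closed
field k (smooth, proper, integral, of dimension one) and E a locally free sheaf of rank r on X which
is stable: every locally free subsheaf G of rank s with 0 < s < r has deg G · r < deg E · s (degrees
computed as χ − rank·χ(O_X)). Then every nonzero endomorphism of E is an isomorphism. (The published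
statement concludes that the endomorphisms of E are exactly the scalars; over the algebraically
closed field k this is equivalent, the endomorphism ring being a finite-dimensional division
algebra, and the form stated here avoids the k-linear structure on endomorphisms.) -/
theorem result (k : Type u) [Field k] [IsAlgClosed k] (X : Scheme.{u})
    [X.Over (Spec (CommRingCat.of k))] (hX : Curve.IsSmoothProperCurve k X (X ↘ Spec (CommRingCat.of k))) (r : ℕ)
    (E : X.Modules) (hE : FlatMod.IsFinLocFreeOfRank r E)
    (hst : ∀ (G : X.Modules) (s : ℕ) (ι : G ⟶ E), Mono ι → FlatMod.IsFinLocFreeOfRank s G → 0 < s → s < r →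
      Curv2.deg k X G s * (r : ℤ) < Curv2.deg k X E r * (s : ℤ))
    (φ : E ⟶ E) (hφ : φ ≠ 0) : IsIso φ := by
  obtain ⟨hprop, hsm, hint, hdim⟩ := hX
  have hne : Nonempty X := inferInstance
  obtain ⟨a, b, ha, hb, hrab, hd⟩ :=
    Groth.Agent.Lib.Helper2.DegAdd.exists_ker_im_decomp k (le_of_eq hdim) r r hE hE φ
  have hb0 : 0 < b := by
    by_contra hb0
    have hb' : b = 0 := by omega
    subst hb'
    have hz := Groth.Agent.Lib.Helper2.DegAdd.isZero_of_rank_zero hb
    apply hφ
    rw [← CategoryTheory.Abelian.image.fac φ, hz.eq_of_src (CategoryTheory.Abelian.image.ι φ) 0,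
      CategoryTheory.Limits.comp_zero]
  have hrab' : (r : ℤ) = (a : ℤ) + (b : ℤ) := by exact_mod_cast hrab
  have ha0 : a = 0 := by
    by_contra ha0
    have ha1 : 0 < a := Nat.pos_of_ne_zero ha0
    have hK := hst (CategoryTheory.Limits.kernel φ) a (CategoryTheory.Limits.kernel.ι φ)
      inferInstance ha ha1 (by omega)
    have hI := hst (CategoryTheory.Abelian.image φ) b (CategoryTheory.Abelian.image.ι φ)
      inferInstance hb hb0 (by omega)
    generalize Curv2.deg k X E r = dE at *
    generalize Curv2.deg k X (CategoryTheory.Limits.kernel φ) a = dK at *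
    generalize Curv2.deg k X (CategoryTheory.Abelian.image φ) b = dI at *
    rw [hd, hrab'] at hK hI
    nlinarith
  subst ha0
  have hKz := Groth.Agent.Lib.Helper2.DegAdd.isZero_of_rank_zero ha
  have hmono : CategoryTheory.Mono φ :=
    CategoryTheory.Preadditive.mono_of_isZero_kernel φ hKz
  exact Groth.Agent.Lib.Helper2.DegAdd.isIso_of_mono_of_deg_eq k (le_of_eq hdim) φ r hE hE rfl

end Groth.Agent.S11483
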