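import Groth.Statements.S11493
import Mathlib

set_option autoImplicit false
universe u
open CategoryTheory
open VBPn

namespace Groth.Agent.S11493
section Aux
open Abelian

variable {A : Type u} [CommRing A]

lemma ext_vanish_iff (S : ShortComplex (ModuleCat.{u} A)) (hS : S.ShortExact) [Projective S.X₁] :
    (∀ y : Ext S.X₂ S.X₁ 1, y = 0) ↔
      ∀ x : Ext S.X₃ S.X₁ 1, ∃ f : S.X₁ ⟶ S.X₁,
        hS.extClass.comp (Ext.mk₀ f) (add_zero 1) = x := by
  constructor
  · intro h x
    obtain ⟨x₁, hx₁⟩ := Ext.contravariant_sequence_exact₃ hS S.X₁ x (h _) (n₀ := 0) (by norm_num)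
    obtain ⟨f, rfl⟩ := (Ext.mk₀_bijective _ _).2 x₁
    exact ⟨f, hx₁⟩
  · intro h y
    have h0 : (Ext.mk₀ S.f).comp y (zero_add 1) = 0 := Ext.eq_zero_of_projective _
    obtain ⟨x, rfl⟩ := Ext.contravariant_sequence_exact₂ hS S.X₁ y h0
    obtain ⟨f, rfl⟩ := h x
    exact hS.comp_extClass_assoc _ _

/-- shortExact from linear maps -/
theorem shortExact_of_linearMaps {N' N N'' : Type u} [AddCommGroup N'] [Module A N']
    [AddCommGroup N] [Module A N] [AddCommGroup N''] [Module A N'']
    (f : N' →ₗ[A] N) (g : N →ₗ[A] N'') (hf : Function.Injective f) (hg : Function.Surjective g)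
    (hfg : Function.Exact f g) :
    (ModuleCat.shortComplexOfCompEqZero f g hfg.linearMap_comp_eq_zero).ShortExact where
  exact := ModuleCat.shortComplex_exact _ hfg
  mono_f := by
    simpa [ModuleCat.shortComplexOfCompEqZero, ModuleCat.mono_iff_injective] using hf
  epi_g := by
    simpa [ModuleCat.shortComplexOfCompEqZero, ModuleCat.epi_iff_surjective] using hg

/-- if `0 → K → F → M → 0` with `K` finite free and `Ext¹(M, A) = 0` then `M` is projective -/
lemma projective_of_ext_vanish {F M X : Type u} [AddCommGroup F] [Module A F]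
    [AddCommGroup M] [Module A M] [AddCommGroup X] [Module A X] (e : X ≃ₗ[A] A)
    (π : F →ₗ[A] M) (hπ : Function.Surjective π) [Module.Projective A F]
    [Module.Free A (LinearMap.ker π)] [Module.Finite A (LinearMap.ker π)]
    (h : ∀ y : Ext (ModuleCat.of A M) (ModuleCat.of A X) 1, y = 0) :
    Module.Projective A M := by
  classical
  let K := LinearMap.ker π
  have hT := shortExact_of_linearMaps K.subtype π K.subtype_injective hπ
    (LinearMap.exact_subtype_ker_map π)
  set T := ModuleCat.shortComplexOfCompEqZero K.subtype π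
    (LinearMap.exact_subtype_ker_map π).linearMap_comp_eq_zero with hTdef
  let b := Module.Free.chooseBasis A K
  -- extension of functionals
  have hext : ∀ c : K →ₗ[A] X, ∃ d : F →ₗ[A] X, d ∘ₗ K.subtype = c := by
    intro c
    let x₁ : Ext T.X₁ (ModuleCat.of A X) 0 := Ext.mk₀ (ModuleCat.ofHom c)
    obtain ⟨x₂, hx₂⟩ := Ext.contravariant_sequence_exact₁ hT (ModuleCat.of A X) x₁
      (n₁ := 1) (by norm_num) (h _)
    obtain ⟨d, rfl⟩ := (Ext.mk₀_bijective _ _).2 x₂
    rw [Ext.mk₀_comp_mk₀] at hx₂
    have := (Ext.mk₀_bijective _ _).1 hx₂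
    refine ⟨d.hom, ?_⟩
    have h2 := congrArg ModuleCat.Hom.hom this
    exact h2
  choose d hd using hext
  let r : F →ₗ[A] K := ∑ j, (LinearMap.toSpanSingleton A K (b j)) ∘ₗ e.toLinearMap ∘ₗ
    d (e.symm.toLinearMap ∘ₗ b.coord j)
  have hr : ∀ k : K, r k.1 = k := by
    intro k
    have h1 : ∀ j, d (e.symm.toLinearMap ∘ₗ b.coord j) k.1 = e.symm (b.coord j k) := by
      intro j
      have := congrArg (fun φ => φ k) (hd (e.symm.toLinearMap ∘ₗ b.coord j))
      exact this
    simp only [r, LinearMap.sum_apply, LinearMap.comp_apply, LinearMap.toSpanSingleton_apply, h1,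
      LinearEquiv.coe_coe, LinearEquiv.apply_symm_apply, Module.Basis.coord_apply]
    exact b.sum_repr k
  -- section
  let t : F →ₗ[A] F := LinearMap.id - K.subtype ∘ₗ r
  have ht : K ≤ LinearMap.ker t := by
    intro k hk
    rw [LinearMap.mem_ker]
    simp only [t, LinearMap.sub_apply, LinearMap.id_apply, LinearMap.comp_apply]
    rw [hr ⟨k, hk⟩]
    simp
  let i : M →ₗ[A] F := (K.liftQ t ht) ∘ₗ (LinearMap.quotKerEquivOfSurjective π hπ).symm.toLinearMap
  refine Module.Projective.of_split i π ?_
  ext m
  obtain ⟨v, rfl⟩ := hπ m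
  have h1 : (LinearMap.quotKerEquivOfSurjective π hπ).symm (π v) = Submodule.Quotient.mk v := by
    rw [LinearEquiv.symm_apply_eq]
    rfl
  simp only [i, LinearMap.comp_apply, LinearEquiv.coe_coe, h1, LinearMap.id_apply]
  rw [Submodule.liftQ_apply]
  simp only [t, LinearMap.sub_apply, LinearMap.id_apply, LinearMap.comp_apply, map_sub]
  have : π (K.subtype (r v)) = 0 := (r v).2
  rw [this, sub_zero]

end Aux


/-- Let A be a Noetherian local ring and I an ideal with a free resolution of length 1, 0 → A^p → A^q →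
I → 0 (equivalently: a surjection A^q → I with free kernel). Let 0 → A → M → I → 0 be an extension
with class e ∈ Ext^1(I, A). Then M is free if and only if e generates the A-module Ext^1(I, A); the
A-module structure being through End(A) = A, this says every element of Ext^1(I, A) is the composite
of e with an endomorphism of A. -/
theorem result (A : Type u) [CommRing A] [IsNoetherianRing A] [IsLocalRing A]
    (I : Ideal A)
    (hres : ∃ (q : ℕ) (φ : (Fin q → A) →ₗ[A] ↥I), Function.Surjective φ ∧ Module.Free A ↥(LinearMap.ker φ))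
    (S : ShortComplex (ModuleCat.{u} A)) (hS : S.ShortExact)
    (h₁ : Nonempty (S.X₁ ≅ ModuleCat.of A A)) (h₃ : Nonempty (S.X₃ ≅ ModuleCat.of A ↥I)) :
    Module.Free A S.X₂ ↔
      ∀ x : Abelian.Ext S.X₃ S.X₁ 1, ∃ f : S.X₁ ⟶ S.X₁, hS.extClass.comp (Abelian.Ext.mk₀ f) (add_zero 1) = x := by
  classical
  obtain ⟨e₁⟩ := h₁
  obtain ⟨e₃⟩ := h₃
  haveI : Projective (ModuleCat.of A A) := (IsProjective.iff_projective (R := A) A).1 inferInstance
  haveI : Projective S.X₁ := Projective.of_iso e₁.symm inferInstance
  rw [← ext_vanish_iff S hS]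
  constructor
  · intro hfree y
    haveI : Module.Projective A S.X₂ := inferInstance
    haveI : Projective S.X₂ := (IsProjective.iff_projective (R := A) S.X₂).1 inferInstance
    exact Abelian.Ext.eq_zero_of_projective y
  · intro h
    obtain ⟨q, φ, hφ, hK⟩ := hres
    have hf : Function.Injective S.f.hom := (ModuleCat.mono_iff_injective S.f).1 hS.mono_f
    have hg : Function.Surjective S.g.hom := (ModuleCat.epi_iff_surjective S.g).1 hS.epi_g
    have hfg : Function.Exact S.f.hom S.g.hom :=
      (ShortComplex.ShortExact.moduleCat_exact_iff_function_exact S).1 hS.exact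
    let l₁ : S.X₁ ≃ₗ[A] A := e₁.toLinearEquiv
    let l₃ : S.X₃ ≃ₗ[A] I := e₃.toLinearEquiv
    obtain ⟨s, hs⟩ := Module.projective_lifting_property S.g.hom (l₃.symm.toLinearMap ∘ₗ φ) hg
    let π : (A × (Fin q → A)) →ₗ[A] S.X₂ := (S.f.hom ∘ₗ l₁.symm.toLinearMap).coprod s
    have hπ : Function.Surjective π := by
      intro m
      obtain ⟨v, hv⟩ := hφ (l₃ (S.g.hom m))
      have h1 : S.g.hom (m - s v) = 0 := by
        rw [map_sub]
        have := congrArg (fun ψ => ψ v) hs
        simp only [LinearMap.comp_apply, LinearEquiv.coe_coe] at this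
        rw [this, hv, LinearEquiv.symm_apply_apply, sub_self]
      obtain ⟨y, hy⟩ := (hfg _).1 h1
      refine ⟨(l₁ y, v), ?_⟩
      simp only [π, LinearMap.coprod_apply, LinearMap.comp_apply, LinearEquiv.coe_coe,
        LinearEquiv.symm_apply_apply, hy]
      abel
    -- the kernel of π is isomorphic to the kernel of φ
    let θ : LinearMap.ker π →ₗ[A] LinearMap.ker φ :=
      LinearMap.codRestrict _ ((LinearMap.snd A A (Fin q → A)) ∘ₗ (LinearMap.ker π).subtype) (by
        intro k
        rw [LinearMap.mem_ker]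
        have hk : π k.1 = 0 := k.2
        have h2 : S.g.hom (π k.1) = 0 := by rw [hk, map_zero]
        simp only [π, LinearMap.coprod_apply, LinearMap.comp_apply, LinearEquiv.coe_coe,
          map_add] at h2
        have h3 : S.g.hom (S.f.hom (l₁.symm k.1.1)) = 0 := (hfg _).2 ⟨_, rfl⟩
        rw [h3, zero_add] at h2
        have := congrArg (fun ψ => ψ k.1.2) hs
        simp only [LinearMap.comp_apply, LinearEquiv.coe_coe] at this
        rw [this] at h2
        have h4 := congrArg l₃ h2
        rw [LinearEquiv.apply_symm_apply, map_zero] at h4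
        exact h4)
    have hθi : Function.Injective θ := by
      rw [← LinearMap.ker_eq_bot, LinearMap.ker_eq_bot']
      intro k hk
      have h2 : k.1.2 = 0 := congrArg Subtype.val hk
      have hk' : π k.1 = 0 := k.2
      simp only [π, LinearMap.coprod_apply, LinearMap.comp_apply, LinearEquiv.coe_coe, h2,
        map_zero, add_zero] at hk'
      have h3 : l₁.symm k.1.1 = 0 := hf (by rw [hk', map_zero])
      have h4 : k.1.1 = 0 := by
        have := congrArg l₁ h3
        rwa [LinearEquiv.apply_symm_apply, map_zero] at this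
      apply Subtype.ext
      exact Prod.ext h4 h2
    have hθs : Function.Surjective θ := by
      intro v
      have hv : φ v.1 = 0 := v.2
      have h1 : S.g.hom (s v.1) = 0 := by
        have := congrArg (fun ψ => ψ v.1) hs
        simp only [LinearMap.comp_apply, LinearEquiv.coe_coe] at this
        rw [this, hv, map_zero]
      obtain ⟨y, hy⟩ := (hfg _).1 h1
      refine ⟨⟨(-(l₁ y), v.1), ?_⟩, ?_⟩
      · rw [LinearMap.mem_ker]
        simp only [π, LinearMap.coprod_apply, LinearMap.comp_apply, LinearEquiv.coe_coe,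
          map_neg, LinearEquiv.symm_apply_apply, hy]
        abel
      · apply Subtype.ext
        rfl
    let Θ : LinearMap.ker π ≃ₗ[A] LinearMap.ker φ := LinearEquiv.ofBijective θ ⟨hθi, hθs⟩
    haveI : Module.Free A (LinearMap.ker π) := Module.Free.of_equiv Θ.symm
    haveI : Module.Projective A S.X₂ :=
      projective_of_ext_vanish (X := S.X₁) l₁ π hπ h
    haveI : Module.Finite A S.X₂ := Module.Finite.of_surjective π hπ
    exact Module.free_of_flat_of_isLocalRing

end Groth.Agent.S11493
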