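import Groth.Statements.S11496
import Groth.Agent.Lib.Helper16.ABApps
import Groth.Agent.Lib.Helper18.SerreReg2

set_option autoImplicit false
universe u
open CategoryTheory
open VBPn

namespace Groth.Agent.S11496

section helpers
open CategoryTheory
open VBPn

theorem result_aux (A : Type u) [CommRing A] [IsRegularLocalRing A]
    (M : Type u) [AddCommGroup M] [Module A M] [Module.Finite A M] (i : ℕ) (p : Ideal A) [p.IsPrime]
    (h : Nontrivial (Abelian.Ext
      (ModuleCat.of (Localization.AtPrime p) (LocalizedModule p.primeCompl M))
      (ModuleCat.of (Localization.AtPrime p) (Localization.AtPrime p)) i)) :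
    ringKrullDim (A ⧸ p) + (i : WithBot ℕ∞) ≤ ringKrullDim A := by
  have hreg : IsRegularLocalRing (Localization.AtPrime p) :=
    Groth.Agent.Lib.Helper18.SerreReg.isRegularLocalRing_localization_atPrime A p
  obtain ⟨d', hd'⟩ := Groth.Agent.Lib.Helper18.SerreReg.exists_ringKrullDim_eq_nat
    (Localization.AtPrime p)
  have hpd := Groth.Agent.Lib.Helper4.hasProjectiveDimensionLT_of_isRegularLocalRing_of_finite
    (Localization.AtPrime p) d' hd' (LocalizedModule p.primeCompl M)
  have hi : i ≤ d' := by
    by_contra hcon
    push Not at hcon
    have := HasProjectiveDimensionLT.subsingleton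
      (ModuleCat.of (Localization.AtPrime p) (LocalizedModule p.primeCompl M)) (d' + 1) i hcon
      (ModuleCat.of (Localization.AtPrime p) (Localization.AtPrime p))
    exact not_subsingleton _ this
  have h1 := Groth.Agent.Lib.Helper16.PDR.ringKrullDim_eq_quotient_add_height A p
  have h2 := IsLocalization.AtPrime.ringKrullDim_eq_height p (Localization.AtPrime p)
  rw [h1, ← h2, hd']
  have : (i : WithBot ℕ∞) ≤ (d' : WithBot ℕ∞) := by exact_mod_cast hi
  exact add_le_add le_rfl this

end helpers

/-- Let A be a regular local ring, M a finitely generated A-module and i ≥ 0. The support of Ext^i_A(M,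
A) has dimension at most dim A − i: for every prime ideal p of A such that Ext^i over the
localization A_p of M_p into A_p is nonzero (this Ext group is the localization at p of Ext^i_A(M,
A)), one has dim(A/p) + i ≤ dim A. The published statement is for coherent analytic sheaves on an
n-dimensional complex manifold; this row is stated for any regular local ring. -/
theorem result (A : Type u) [CommRing A] [IsRegularLocalRing A]
    (M : Type u) [AddCommGroup M] [Module A M] [Module.Finite A M] (i : ℕ) (p : Ideal A) [p.IsPrime]
    (h : Nontrivial (Abelian.Ext
      (ModuleCat.of (Localization.AtPrime p) (LocalizedModule p.primeCompl M))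
      (ModuleCat.of (Localization.AtPrime p) (Localization.AtPrime p)) i)) :
    ringKrullDim (A ⧸ p) + (i : WithBot ℕ∞) ≤ ringKrullDim A := by
  exact result_aux A M i p h

end Groth.Agent.S11496
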