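import Groth.Statements.S11497
import Mathlib


set_option autoImplicit false
universe w v u
open CategoryTheory
open VBPn

namespace Groth.Agent.S11497

/-- In an abelian category, let M : A → B → C and M' : A' → B' → C' be monads, i.e. short complexes
whose first map is a monomorphism and whose second map is an epimorphism, with cohomology (homology)
objects E and E'. Suppose Hom(B, A') = 0, Hom(C, B') = 0 and Ext^1(C, A') = Ext^1(B, A') = Ext^1(C,
B') = Ext^2(C, A') = 0. Then the map sending a morphism of monads M → M' to the induced morphism E →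
E' is bijective. The published statement is for monads of vector bundles on a complex manifold X,
with Ext^i(C, A') written H^i(X, C^* ⊗ A'); this row is stated in any abelian category. -/
theorem result {C : Type u} [Category.{v} C] [Abelian C] [HasExt.{w} C]
    (M M' : ShortComplex C) [Mono M.f] [Epi M.g] [Mono M'.f] [Epi M'.g]
    (hBA : ∀ f : M.X₂ ⟶ M'.X₁, f = 0) (hCB : ∀ f : M.X₃ ⟶ M'.X₂, f = 0)
    (hCA₁ : Subsingleton (Abelian.Ext M.X₃ M'.X₁ 1)) (hBA₁ : Subsingleton (Abelian.Ext M.X₂ M'.X₁ 1))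
    (hCB₁ : Subsingleton (Abelian.Ext M.X₃ M'.X₂ 1)) (hCA₂ : Subsingleton (Abelian.Ext M.X₃ M'.X₁ 2)) :
    Function.Bijective (fun φ : M ⟶ M' => ShortComplex.homologyMap φ) := by
  classical
  open Abelian in
  -- the two short exact sequences attached to a monad
  have key : ∀ (N : ShortComplex C) [Mono N.f] [Epi N.g],
      (ShortComplex.mk N.iCycles N.g N.iCycles_g).ShortExact ∧
      (ShortComplex.mk N.toCycles N.homologyπ N.toCycles_comp_homologyπ).ShortExact := by
    intro N _ _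
    constructor
    · exact
        { exact := ShortComplex.exact_of_f_is_kernel _ N.cyclesIsKernel
          mono_f := inferInstanceAs (Mono N.iCycles)
          epi_g := inferInstanceAs (Epi N.g) }
    · have : Mono (N.toCycles ≫ N.iCycles) := by rw [N.toCycles_i]; infer_instance
      have : Mono N.toCycles := mono_of_mono N.toCycles N.iCycles
      exact
        { exact := ShortComplex.exact_of_g_is_cokernel _ N.homologyIsCokernel
          mono_f := inferInstanceAs (Mono N.toCycles)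
          epi_g := inferInstanceAs (Epi N.homologyπ) }
  obtain ⟨hS₂, hS₁⟩ := key M
  obtain ⟨hS₂', hS₁'⟩ := key M'
  have := hS₁'.mono_f
  have := hS₂.epi_g
  have := hS₂.mono_f
  -- Ext¹(cycles M, A') = 0
  have hKA₁ : ∀ x : Ext M.cycles M'.X₁ 1, x = 0 := by
    intro x
    obtain ⟨x₂, hx₂⟩ := Ext.contravariant_sequence_exact₁ hS₂ M'.X₁ x (n₁ := 2) (by norm_num)
      (Subsingleton.elim _ _)
    rw [← hx₂, Subsingleton.elim x₂ 0, Ext.comp_zero]
  constructor
  · -- injectivity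
    intro φ₁ φ₂ h
    simp only at h
    have hδ : ShortComplex.homologyMap (φ₁ - φ₂) = 0 := by
      rw [ShortComplex.homologyMap_sub, h, sub_self]
    suffices hz : φ₁ - φ₂ = 0 from sub_eq_zero.mp hz
    set δ := φ₁ - φ₂ with hδdef
    have h1 : ShortComplex.cyclesMap δ ≫ M'.homologyπ = 0 := by
      rw [← ShortComplex.homologyπ_naturality, hδ, Limits.comp_zero]
    -- cyclesMap δ factors through A'
    obtain ⟨κ, hκ⟩ : ∃ κ : M.cycles ⟶ M'.X₁, κ ≫ M'.toCycles = ShortComplex.cyclesMap δ :=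
      ⟨hS₁'.exact.lift (ShortComplex.cyclesMap δ) h1, hS₁'.exact.lift_f _ _⟩
    have hκ0 : κ = 0 := by
      obtain ⟨x₂, hx₂⟩ := Ext.contravariant_sequence_exact₁ hS₂ M'.X₁ (Ext.mk₀ κ) (n₁ := 1)
        (by norm_num) (Subsingleton.elim _ _)
      obtain ⟨κ', rfl⟩ := (Ext.mk₀_bijective _ _).2 x₂
      rw [hBA κ', Ext.mk₀_zero, Ext.comp_zero] at hx₂
      exact (Ext.mk₀_bijective M.cycles M'.X₁).1 (by rw [← hx₂, Ext.mk₀_zero])
    have hc0 : ShortComplex.cyclesMap δ = 0 := by rw [← hκ, hκ0, Limits.zero_comp]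
    have h2 : M.iCycles ≫ δ.τ₂ = 0 := by
      rw [← ShortComplex.cyclesMap_i, hc0, Limits.zero_comp]
    have hτ₂ : δ.τ₂ = 0 := by
      have : δ.τ₂ = M.g ≫ hS₂.exact.desc δ.τ₂ h2 := (hS₂.exact.g_desc _ _).symm
      rw [this, hCB (hS₂.exact.desc δ.τ₂ h2), Limits.comp_zero]
    have hτ₁ : δ.τ₁ = 0 := by
      rw [← cancel_mono M'.f, Limits.zero_comp, δ.comm₁₂, hτ₂, Limits.comp_zero]
    have hτ₃ : δ.τ₃ = 0 := by
      rw [← cancel_epi M.g, Limits.comp_zero, ← δ.comm₂₃, hτ₂, Limits.zero_comp]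
    exact ShortComplex.hom_ext _ _ hτ₁ hτ₂ hτ₃
  · -- surjectivity
    intro φE
    -- lift cycles M → homology M' to cycles M'
    obtain ⟨ψ', hψ'⟩ : ∃ ψ' : M.cycles ⟶ M'.cycles, ψ' ≫ M'.homologyπ = M.homologyπ ≫ φE := by
      obtain ⟨x₂, hx₂⟩ := Ext.covariant_sequence_exact₃ M.cycles hS₁' (Ext.mk₀ (M.homologyπ ≫ φE))
        (n₁ := 1) (by norm_num) (hKA₁ _)
      obtain ⟨ψ', rfl⟩ := (Ext.mk₀_bijective _ _).2 x₂
      refine ⟨ψ', (Ext.mk₀_bijective M.cycles M'.homology).1 ?_⟩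
      rw [← hx₂, Ext.mk₀_comp_mk₀]
    -- extend to B → B'
    obtain ⟨β, hβ⟩ : ∃ β : M.X₂ ⟶ M'.X₂, M.iCycles ≫ β = ψ' ≫ M'.iCycles := by
      obtain ⟨x₂, hx₂⟩ := Ext.contravariant_sequence_exact₁ hS₂ M'.X₂
        (Ext.mk₀ (ψ' ≫ M'.iCycles)) (n₁ := 1) (by norm_num) (Subsingleton.elim _ _)
      obtain ⟨β, rfl⟩ := (Ext.mk₀_bijective _ _).2 x₂
      refine ⟨β, (Ext.mk₀_bijective M.cycles M'.X₂).1 ?_⟩
      rw [← hx₂, Ext.mk₀_comp_mk₀]
    have h3 : M.iCycles ≫ β ≫ M'.g = 0 := by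
      rw [← Category.assoc, hβ, Category.assoc, M'.iCycles_g, Limits.comp_zero]
    let γ : M.X₃ ⟶ M'.X₃ := hS₂.exact.desc (β ≫ M'.g) h3
    have hγ : M.g ≫ γ = β ≫ M'.g := hS₂.exact.g_desc _ _
    have h4 : (M.toCycles ≫ ψ') ≫ M'.homologyπ = 0 := by
      rw [Category.assoc, hψ', ← Category.assoc, M.toCycles_comp_homologyπ, Limits.zero_comp]
    let α : M.X₁ ⟶ M'.X₁ := hS₁'.exact.lift (M.toCycles ≫ ψ') h4
    have hα : α ≫ M'.toCycles = M.toCycles ≫ ψ' := hS₁'.exact.lift_f _ _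
    let φ : M ⟶ M' :=
      { τ₁ := α
        τ₂ := β
        τ₃ := γ
        comm₁₂ := by
          rw [← M'.toCycles_i, ← Category.assoc, hα, Category.assoc, ← hβ, ← Category.assoc,
            M.toCycles_i]
        comm₂₃ := hγ.symm }
    refine ⟨φ, ?_⟩
    change ShortComplex.homologyMap φ = φE
    rw [← cancel_epi M.homologyπ, ShortComplex.homologyπ_naturality, ← hψ']
    congr 1
    rw [← cancel_mono M'.iCycles, ShortComplex.cyclesMap_i, ← hβ]

end Groth.Agent.S11497
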