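import Groth.Statements.S11499
import Mathlib.RingTheory.Localization.BaseChange
import Mathlib.RingTheory.Localization.Integer
import Mathlib.LinearAlgebra.Dimension.Free
import Mathlib.LinearAlgebra.FreeModule.Finite.Basic
import Mathlib.RingTheory.Finiteness.Basic
import Mathlib.RingTheory.TensorProduct.Finite
import Mathlib.LinearAlgebra.Basis.VectorSpace
import Mathlib.LinearAlgebra.Dimension.DivisionRing

set_option autoImplicit false
universe u
open TensorProduct
open VBPn

namespace Groth.Agent.S11499

theorem aux (A : Type u) [CommRing A] [IsDomain A]
    (M : Type u) [AddCommGroup M] [Module A M] [Module.Finite A M] [NoZeroSMulDivisors A M] (r : ℕ)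
    (hr : Module.finrank (FractionRing A) (FractionRing A ⊗[A] M) = r) :
    ∃ f : M →ₗ[A] (Fin r → A), Function.Injective f := by
  classical
  let K := FractionRing A
  let V := K ⊗[A] M
  let b : Module.Basis (Fin r) K V := Module.finBasisOfFinrankEq K V hr
  let j : M →ₗ[A] V := TensorProduct.mk A K M 1
  have hj : Function.Injective j := by
    intro x y hxy
    obtain ⟨c, hc⟩ := (IsLocalizedModule.eq_iff_exists (nonZeroDivisors A) j).1 hxy
    exact smul_right_injective M (nonZeroDivisors.ne_zero c.2) hc
  let ψ : M →ₗ[A] (Fin r → K) := (b.equivFun.restrictScalars A).toLinearMap ∘ₗ j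
  have hψ : Function.Injective ψ := (b.equivFun.restrictScalars A).injective.comp hj
  obtain ⟨s, hs⟩ := (Module.Finite.fg_top : (⊤ : Submodule A M).FG)
  obtain ⟨d, hd⟩ := IsLocalization.exist_integer_multiples_of_finite (nonZeroDivisors A)
    (fun p : s × Fin r => ψ p.1.1 p.2)
  let ι : (Fin r → A) →ₗ[A] (Fin r → K) := (Algebra.linearMap A K).compLeft (Fin r)
  have hι : Function.Injective ι := by
    intro x y hxy
    funext i
    exact IsFractionRing.injective A K (congrFun hxy i)
  let g : M →ₗ[A] (Fin r → K) := (d : A) • ψ
  have hg : ∀ m, g m ∈ LinearMap.range ι := by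
    intro m
    have hm : m ∈ Submodule.span A (s : Set M) := by rw [hs]; trivial
    have : Submodule.span A (s : Set M) ≤ (LinearMap.range ι).comap g := by
      rw [Submodule.span_le]
      intro x hx
      refine ⟨fun i => (hd (⟨x, hx⟩, i)).choose, ?_⟩
      funext i
      exact (hd (⟨x, hx⟩, i)).choose_spec
    exact this hm
  have hginj : Function.Injective g := by
    intro x y hxy
    have : ψ ((d : A) • x) = ψ ((d : A) • y) := by
      rw [map_smul, map_smul]
      exact hxy
    exact smul_right_injective M (nonZeroDivisors.ne_zero d.2) (hψ this)
  refine ⟨(LinearEquiv.ofInjective ι hι).symm.toLinearMap ∘ₗ g.codRestrict _ hg, ?_⟩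
  intro x y hxy
  apply hginj
  have := (LinearEquiv.ofInjective ι hι).symm.injective hxy
  exact congrArg Subtype.val this

/-- Let A be an integral domain with fraction field K and M a finitely generated torsion-free A-module
of rank r (K ⊗_A M is r-dimensional over K). Then there is an injective A-linear map M → A^r. The
published statement is for torsion-free coherent sheaves on a complex manifold, locally near a
point; this row is its statement for one stalk, over any domain. -/
theorem result (A : Type u) [CommRing A] [IsDomain A]
    (M : Type u) [AddCommGroup M] [Module A M] [Module.Finite A M] [NoZeroSMulDivisors A M] (r : ℕ)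
    (hr : Module.finrank (FractionRing A) (FractionRing A ⊗[A] M) = r) :
    ∃ f : M →ₗ[A] (Fin r → A), Function.Injective f := by
  exact aux A M r hr

end Groth.Agent.S11499
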