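import Groth.Statements.S11521
import Groth.Agent.Lib.Helper3.Heart
import Mathlib.Algebra.Homology.ShortComplex.ShortExact

set_option autoImplicit false
universe v u v' u'
open CategoryTheory CategoryTheory.Limits CategoryTheory.Pretriangulated CategoryTheory.Triangulated
open PervT

namespace Groth.Agent.S11521

set_option backward.defeqAttrib.useBackward true in
set_option backward.isDefEq.respectTransparency false in
theorem aux {C : Type u} [Category.{v} C] [Preadditive C] [HasZeroObject C] [HasShift C ℤ] [∀ n : ℤ, (shiftFunctor C n).Additive] [Pretriangulated C] [IsTriangulated C] (t : TStructure C) {H : Type u'} [Category.{v'} H] [Abelian H] [t.Heart H] {X Y Z : H} (u : X ⟶ Y) (v : Y ⟶ Z) :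
    (∃ huv : u ≫ v = 0, (ShortComplex.mk u v huv).ShortExact) ↔
      ∃ (w : t.ιHeart.obj Z ⟶ (t.ιHeart.obj X)⟦(1 : ℤ)⟧),
        Triangle.mk (t.ιHeart.map u) (t.ιHeart.map v) w ∈ distTriang C := by
  have hι := Groth.Agent.Lib.Helper3.heart_hι t (H := H)
  have hA := Groth.Agent.Lib.Helper3.heart_admissible t (H := H)
  constructor
  · rintro ⟨huv, hS⟩
    have := hS.epi_g
    have := hS.mono_f
    dsimp at this
    obtain ⟨X₁, i, δ, hT⟩ := AbelianSubcategory.exists_distinguished_triangle_of_epi hι hA v
    have hk₁ := AbelianSubcategory.isLimitKernelForkOfDistTriang hι i v δ hT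
    have hk₂ : IsLimit (KernelFork.ofι u huv) := hS.exact.fIsKernel
    let φ : X ≅ X₁ := IsLimit.conePointUniqueUpToIso hk₂ hk₁
    have hφ : φ.hom ≫ i = u :=
      IsLimit.conePointUniqueUpToIso_hom_comp hk₂ hk₁ WalkingParallelPair.zero
    refine ⟨δ ≫ (shiftFunctor C (1 : ℤ)).map (t.ιHeart.map φ.inv), ?_⟩
    refine isomorphic_distinguished _ hT _
      (Triangle.isoMk _ _ (t.ιHeart.mapIso φ) (Iso.refl _) (Iso.refl _) ?_ ?_ ?_)
    · dsimp
      rw [Category.comp_id, ← Functor.map_comp, hφ]
    · simp
    · dsimp
      rw [Category.id_comp, Category.assoc, ← Functor.map_comp, ← Functor.map_comp,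
        Iso.inv_hom_id, CategoryTheory.Functor.map_id, CategoryTheory.Functor.map_id, Category.comp_id]
  · rintro ⟨w, hT⟩
    have hk := AbelianSubcategory.isLimitKernelForkOfDistTriang hι u v w hT
    have hc := AbelianSubcategory.isColimitCokernelCoforkOfDistTriang hι u v w hT
    have huv : u ≫ v = 0 := t.ιHeart.map_injective (by
      have := comp_distTriang_mor_zero₁₂ _ hT
      dsimp at this
      rw [Functor.map_comp, this, Functor.map_zero])
    refine ⟨huv, ShortComplex.ShortExact.mk' ?_ ?_ ?_⟩
    · exact ShortComplex.exact_of_f_is_kernel _ hk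
    · exact Fork.IsLimit.mono hk
    · exact Cofork.IsColimit.epi hc

/-- Let `C` be a triangulated category (octahedron axiom included) with a t-structure `t`, and let `H`
be an abelian category identified with the heart of `t` through a fully faithful additive functor
`ι` whose essential image is the heart. For morphisms `u : X ⟶ Y` and `v : Y ⟶ Z` in `H`, the
sequence `0 ⟶ X ⟶ Y ⟶ Z ⟶ 0` is a complex and is short exact if and only if there is a morphism `w :
ι Z ⟶ (ι X)⟦1⟧` such that `(ι u, ι v, w)` is a distinguished triangle of `C`. -/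
theorem result {C : Type u} [Category.{v} C] [Preadditive C] [HasZeroObject C] [HasShift C ℤ] [∀ n : ℤ, (shiftFunctor C n).Additive] [Pretriangulated C] [IsTriangulated C] (t : TStructure C) {H : Type u'} [Category.{v'} H] [Abelian H] [t.Heart H] {X Y Z : H} (u : X ⟶ Y) (v : Y ⟶ Z) :
    (∃ huv : u ≫ v = 0, (ShortComplex.mk u v huv).ShortExact) ↔
      ∃ (w : t.ιHeart.obj Z ⟶ (t.ιHeart.obj X)⟦(1 : ℤ)⟧),
        Triangle.mk (t.ιHeart.map u) (t.ιHeart.map v) w ∈ distTriang C := by
  exact aux t u v

end Groth.Agent.S11521
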