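import Groth.Statements.S11523
import Mathlib

set_option autoImplicit false
universe v u v' u'
open CategoryTheory CategoryTheory.Limits
open PervT

namespace Groth.Agent.S11523
section Aux

variable {A : Type u} [Category.{v} A] [Abelian A] {B : Type u'} [Category.{v'} B] [Abelian B]

theorem key (u : A ⥤ B) [u.Full] [u.Faithful] [PreservesFiniteLimits u] [PreservesFiniteColimits u]
    [u.PreservesZeroMorphisms]
    (hlen : ∀ X : A, IsArtinianObject X ∧ IsNoetherianObject X)
    (hsimple : ∀ X : A, Simple X → Simple (u.obj X)) (X : A) :
    ∀ (S : Subobject X) (X' : A) (p : X ⟶ X') [Epi p], kernelSubobject p = S →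
      ∀ (K : B) (i : K ⟶ u.obj X') [Mono i], (∀ (Z : A) (f : u.obj Z ⟶ K), f = 0) → IsZero K := by
  haveI := (hlen X).2
  intro S
  induction S using WellFoundedGT.induction with
  | ind S ih =>
    intro X' p _ hS K i _ hK
    by_cases hX' : IsZero X'
    · exact IsZero.of_mono i (u.map_isZero hX')
    haveI := (hlen X').1
    obtain ⟨T, hT⟩ := exists_simple_subobject hX'
    haveI := hT
    haveI := hsimple _ hT
    set q := cokernel.π T.arrow with hq
    -- T.arrow is kernel of q
    have hker : IsLimit (KernelFork.ofι T.arrow (cokernel.condition T.arrow)) :=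
      Abelian.monoIsKernelOfCokernel _ (colimit.isColimit _)
    have hker' := KernelFork.mapIsLimit _ hker u
    -- strict increase
    have hlt : S < kernelSubobject (p ≫ q) := by
      rw [← hS]
      refine lt_of_le_of_ne (kernelSubobject_comp_le p q) ?_
      intro heq
      -- pullback of T along p
      have h1 : (pullback.fst p T.arrow) ≫ p ≫ q = 0 := by
        rw [← Category.assoc, pullback.condition, Category.assoc, hq, cokernel.condition, comp_zero]
      have h2 : (pullback.fst p T.arrow) ≫ p = 0 := by
        have := factorThruKernelSubobject (p ≫ q) (pullback.fst p T.arrow) h1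
        have hfac : (kernelSubobject (p ≫ q)).Factors (pullback.fst p T.arrow) :=
          (kernelSubobject_factors_iff _ _).2 h1
        rw [← heq] at hfac
        exact (kernelSubobject_factors_iff _ _).1 hfac
      rw [pullback.condition] at h2
      have h3 : T.arrow = 0 := by
        have : Epi (pullback.snd p T.arrow) := inferInstance
        exact (cancel_epi (pullback.snd p T.arrow)).1 (by rw [h2, comp_zero])
      have h4 : IsZero (T : A) := by
        rw [IsZero.iff_id_eq_zero]
        exact (cancel_mono T.arrow).1 (by rw [h3, comp_zero, comp_zero])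
      exact Simple.not_isZero _ h4
    -- dichotomy
    have hsnd : pullback.snd i (u.map T.arrow) = 0 := by
      by_contra hne
      haveI : Mono (pullback.snd i (u.map T.arrow)) := inferInstance
      haveI := isIso_of_mono_of_nonzero hne
      have hf := hK _ (inv (pullback.snd i (u.map T.arrow)) ≫ pullback.fst i (u.map T.arrow))
      have h5 : u.map T.arrow = 0 := by
        have : u.map T.arrow = (inv (pullback.snd i (u.map T.arrow)) ≫
            pullback.fst i (u.map T.arrow)) ≫ i := by
          rw [Category.assoc, pullback.condition, IsIso.inv_hom_id_assoc]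
        rw [this, hf, zero_comp]
      have h6 : T.arrow = 0 := u.map_injective (by rw [h5, u.map_zero])
      have h4 : IsZero (T : A) := by
        rw [IsZero.iff_id_eq_zero]
        exact (cancel_mono T.arrow).1 (by rw [h6, comp_zero, comp_zero])
      exact Simple.not_isZero _ h4
    have : Mono (i ≫ u.map q) := by
      refine Preadditive.mono_of_cancel_zero _ ?_
      intro P g hg
      have hg' : (g ≫ i) ≫ u.map q = 0 := by rw [Category.assoc, hg]
      obtain ⟨l, hl'⟩ : ∃ l : P ⟶ u.obj (T : A), l ≫ u.map T.arrow = g ≫ i :=
        ⟨(KernelFork.IsLimit.lift' hker' (g ≫ i) hg').1,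
          (KernelFork.IsLimit.lift' hker' (g ≫ i) hg').2⟩
      have h7 : pullback.lift g l hl'.symm ≫ pullback.snd i (u.map T.arrow) = l :=
        pullback.lift_snd _ _ _
      rw [hsnd, comp_zero] at h7
      rw [← h7, zero_comp] at hl'
      exact (cancel_mono i).1 (by rw [← hl', zero_comp])
    have := ih _ hlt _ (p ≫ q) rfl K (i ≫ u.map q) hK
    exact this

end Aux


/-- Let `u : A ⥤ B` be a fully faithful exact functor of abelian categories admitting a left adjoint and
a right adjoint `uStar`. Suppose every object of `A` has finite length (it is both an artinian and a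
noetherian object) and that `u` sends simple objects to simple objects. Then for every object `Y` of
`B` the counit `u (uStar Y) ⟶ Y` of the adjunction `u ⊣ uStar` is a monomorphism. (The published
statement also lists two further conditions equivalent to this one: that for every object `Y` of `B`
the unit `Y ⟶ u (L Y)` of the adjunction `L ⊣ u` of the left adjoint `L` is an epimorphism, and that
the essential image of `u` is stable under subobjects and quotients; this row states only the counit
condition.) -/
theorem result {A : Type u} [Category.{v} A] [Abelian A] {B : Type u'} [Category.{v'} B] [Abelian B]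
    (u : A ⥤ B) [u.Full] [u.Faithful] [PreservesFiniteLimits u] [PreservesFiniteColimits u] [u.IsRightAdjoint]
    (uStar : B ⥤ A) (adj : u ⊣ uStar)
    (hlen : ∀ X : A, IsArtinianObject X ∧ IsNoetherianObject X)
    (hsimple : ∀ X : A, Simple X → Simple (u.obj X)) (Y : B) :
    Mono (adj.counit.app Y) := by
  classical
  have hz : IsZero (kernel (adj.counit.app Y)) := by
    refine key u hlen hsimple (uStar.obj Y) (kernelSubobject (𝟙 _)) (uStar.obj Y) (𝟙 _) rfl
      (kernel (adj.counit.app Y)) (kernel.ι _) ?_
    intro Z f
    obtain ⟨g, hg⟩ := u.map_surjective (f ≫ kernel.ι (adj.counit.app Y))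
    have h1 : u.map g ≫ adj.counit.app Y = 0 := by
      rw [hg, Category.assoc, kernel.condition, comp_zero]
    have h2 : g = 0 := by
      have := adj.homEquiv_counit (X := Z) (Y := Y) (g := g)
      have h3 : (adj.homEquiv Z Y).symm g = 0 := by rw [this, h1]
      haveI : uStar.IsRightAdjoint := adj.isRightAdjoint
      have h4 : g = adj.homEquiv Z Y ((adj.homEquiv Z Y).symm g) := by simp
      rw [h4, h3, adj.homEquiv_unit, Functor.map_zero, comp_zero]
    rw [h2, u.map_zero] at hg
    exact (cancel_mono (kernel.ι (adj.counit.app Y))).1 (by rw [← hg, zero_comp])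
  exact Preadditive.mono_of_kernel_zero (hz.eq_of_src _ _)

end Groth.Agent.S11523
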