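import Groth.Statements.S1153
import Groth.Agent.Lib.Helper25.ProperOver
import Groth.Agent.Lib.Helper25.ProperDescent

set_option autoImplicit false
open CategoryTheory CategoryTheory.Limits AlgebraicGeometry Opposite
universe u
open Desc

namespace Groth.Agent.S1153

open Groth.Agent.Lib.Helper25.ProperOver Groth.Agent.Lib.Helper25.ProperDescent in
/-- Let f : X ⟶ Y be locally of finite type, Z a closed subset of X and g : Y' ⟶ Y quasi-compact, flat
and surjective. If the preimage of Z in X ×_Y Y' is proper over Y', then Z is proper over Y. -/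
theorem result {X Y Y' : Scheme.{u}} (f : X ⟶ Y) [LocallyOfFiniteType f] (Z : Set X) (hZ : IsClosed Z)
    (g : Y' ⟶ Y) [QuasiCompact g] [Flat g] [Surjective g]
    (h : ClSub.IsProperOver (pullback.snd f g) ((pullback.fst f g).base ⁻¹' Z)) :
    ClSub.IsProperOver f Z := by
  refine ⟨hZ, ?_⟩
  set i₀ := (Scheme.IdealSheafData.vanishingIdeal ⟨Z, hZ⟩).subschemeι with hi₀
  have hr : Set.range (pullback.fst (pullback.fst f g) i₀) = (pullback.fst f g).base ⁻¹' Z := by
    rw [Scheme.Pullback.range_fst, range_subschemeι_vanishingIdeal]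
  have hpb : IsPullback (pullback.snd (pullback.fst f g) i₀)
      (pullback.fst (pullback.fst f g) i₀ ≫ pullback.snd f g) (i₀ ≫ f) g :=
    (IsPullback.of_hasPullback (pullback.fst f g) i₀).flip.paste_vert (IsPullback.of_hasPullback f g)
  have hp : IsProper (pullback.fst (pullback.fst f g) i₀ ≫ pullback.snd f g) :=
    (isProperOver_iff_of_range_eq _ _ _ hr).1 h
  exact MorphismProperty.of_isPullback_of_descendsAlong (P := @IsProper)
    (Q := (@Surjective ⊓ @Flat ⊓ @QuasiCompact : MorphismProperty Scheme.{u})) hpb.flip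
    ⟨⟨‹_›, ‹_›⟩, ‹_›⟩ hp


end Groth.Agent.S1153
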