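import Groth.Statements.S11538
import Mathlib
import Groth.Agent.Lib.Helper9.FlatCrit

set_option autoImplicit false
universe u v
open scoped TensorProduct
open AdicRing

namespace Groth.Agent.S11538

open Groth.Agent.Lib.Helper9 Function


/-- Let A be a commutative ring, π an element of A which is not a zero divisor and M an A-module. Then M
is flat over A if and only if the π-power torsion of M vanishes, (A/πA) ⊗_A M is flat over A/πA, and
A[π⁻¹] ⊗_A M is flat over A[π⁻¹]. -/
theorem result
    (A : Type u) [CommRing A] (π : A) (hπ : π ∈ nonZeroDivisors A)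
    (M : Type v) [AddCommGroup M] [Module A M] :
    Module.Flat A M ↔
      (∀ (x : M) (n : ℕ), π ^ n • x = 0 → x = 0) ∧
        Module.Flat (A ⧸ Ideal.span {π}) ((A ⧸ Ideal.span {π}) ⊗[A] M) ∧
        Module.Flat (Localization.Away π) ((Localization.Away π) ⊗[A] M) := by
  constructor
  · intro hM
    refine ⟨?_, inferInstance, inferInstance⟩
    intro x n hx
    have hreg : IsSMulRegular M (π ^ n) :=
      Module.Flat.isSMulRegular_of_nonZeroDivisors (pow_mem hπ n)
    exact hreg (show π ^ n • x = π ^ n • 0 by rw [hx, smul_zero])
  · rintro ⟨htf, hq, hloc⟩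
    set I : Ideal A := Ideal.span {π} with hI_def
    -- I ⊗ M → A ⊗ M is injective
    have hI : Injective (I.subtype.rTensor M) := by
      let e : A →ₗ[A] I := LinearMap.toSpanSingleton A I ⟨π, Ideal.mem_span_singleton_self π⟩
      have he : Surjective e := by
        rintro ⟨y, hy⟩
        obtain ⟨a, rfl⟩ := Ideal.mem_span_singleton'.mp hy
        exact ⟨a, Subtype.ext (by simp [e])⟩
      refine rTensor_injective_of_comp_surjective M e he _ ?_
      have h1 : I.subtype ∘ₗ e = π • LinearMap.id := by
        ext
        simp [e]
      rw [h1, LinearMap.rTensor_smul, LinearMap.rTensor_id]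
      intro a b hab
      simp only [LinearMap.smul_apply, LinearMap.id_coe, id_eq] at hab
      have h2 : π • (TensorProduct.lid A M (a - b)) = 0 := by
        rw [← map_smul, smul_sub, hab, sub_self, map_zero]
      have h3 : TensorProduct.lid A M (a - b) = 0 := htf _ 1 (by rw [pow_one]; exact h2)
      have h4 : a - b = 0 := (TensorProduct.lid A M).injective (by rw [h3, map_zero])
      exact sub_eq_zero.mp h4
    rw [Module.Flat.iff_rTensor_injective']
    intro J
    -- (b) J ⊗ M has no π-torsion
    have hb : ∀ z : J ⊗[A] M, π • z = 0 → z = 0 := by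
      have hT : TorOneVanish A M (J ⧸ (I • (⊤ : Submodule A J))) :=
        torOneVanish_of_isTorsionBySet I hI (Module.isTorsionBySet_quotient_ideal_smul J I)
      let μ : J →ₗ[A] J := π • LinearMap.id
      have hμ : Injective μ := by
        rintro ⟨a, ha⟩ ⟨b, hb⟩ hab
        have h1 : π * a = π * b := congrArg Subtype.val hab
        have h2 : π * (a - b) = 0 := by rw [mul_sub, h1, sub_self]
        exact Subtype.ext (sub_eq_zero.mp ((mul_left_mem_nonZeroDivisors_eq_zero_iff hπ).mp h2))
      have hex : Exact μ (I • (⊤ : Submodule A J)).mkQ := by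
        intro y
        rw [Submodule.mkQ_apply, Submodule.Quotient.mk_eq_zero, hI_def,
          Submodule.ideal_span_singleton_smul]
        constructor
        · intro hy
          obtain ⟨x, -, rfl⟩ := hy
          exact ⟨x, rfl⟩
        · rintro ⟨x, rfl⟩
          exact ⟨x, trivial, rfl⟩
      have hinj := hT J J μ _ hμ hex (Submodule.mkQ_surjective _)
      intro z hz
      apply hinj
      rw [map_zero]
      simp only [μ, LinearMap.rTensor_smul, LinearMap.rTensor_id, LinearMap.smul_apply,
        LinearMap.id_coe, id_eq]
      exact hz
    have hb' : ∀ (k : ℕ) (z : J ⊗[A] M), π ^ k • z = 0 → z = 0 := by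
      intro k
      induction k with
      | zero => intro z hz; simpa using hz
      | succ k ih =>
        intro z hz
        rw [pow_succ, mul_smul] at hz
        exact hb z (ih _ hz)
    -- (a) kernel elements are π-power torsion
    rw [injective_iff_map_eq_zero]
    intro z hz
    let A' := Localization.Away π
    let M' := A' ⊗[A] M
    have hflat : Module.Flat A M' := Module.Flat.trans A A' M'
    have hinj : Injective (J.subtype.rTensor M') :=
      Module.Flat.rTensor_preserves_injective_linearMap _ J.injective_subtype
    let ι : M →ₗ[A] M' := TensorProduct.mk A A' M 1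
    have h1 : ι.lTensor J z = 0 := by
      apply hinj
      rw [map_zero, ← LinearMap.comp_apply, LinearMap.rTensor_comp_lTensor,
        ← LinearMap.lTensor_comp_rTensor, LinearMap.comp_apply, hz, map_zero]
    have h2 : ∀ w : J ⊗[A] M, TensorProduct.leftComm A J A' M (ι.lTensor J w)
        = TensorProduct.mk A A' (J ⊗[A] M) 1 w := by
      intro w
      induction w using TensorProduct.induction_on with
      | zero => simp
      | add x y hx hy => simp only [map_add, hx, hy]
      | tmul j m =>
        simp only [ι, LinearMap.lTensor_tmul]
        exact TensorProduct.leftComm_tmul (R := A) j (1 : A') m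
    have h3 : TensorProduct.mk A A' (J ⊗[A] M) 1 z = 0 := by
      rw [← h2, h1, map_zero]
    obtain ⟨⟨s, k, rfl⟩, hs⟩ := (IsLocalizedModule.eq_zero_iff (Submonoid.powers π)
      (TensorProduct.mk A A' (J ⊗[A] M) 1)).mp h3
    exact hb' k z hs

end Groth.Agent.S11538
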