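import Groth.Statements.S11545
import Groth.Agent.Lib.Helper25.AdicLift

set_option autoImplicit false
universe u
open AdicRing

namespace Groth.Agent.S11545

open Groth.Agent.Lib.Helper25.AdicLift

section chart

variable {A : Type u} [CommRing A] {ι : Type} (f : ι → A) (i : ι)
  {B : Type u} [CommRing B] (φ : A →+* B) (b : {j : ι // j ≠ i} → B)

/-- the ring map on the chart algebra -/
noncomputable def chartHom (hb : ∀ j : {j : ι // j ≠ i}, φ (f i) * b j = φ (f j.1)) :
    chartAlg f i →+* B :=
  Ideal.Quotient.lift _ (MvPolynomial.eval₂Hom φ b) (by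
    intro x hx
    refine Submodule.span_induction ?_ ?_ ?_ ?_ hx
    · rintro _ ⟨j, rfl⟩
      simp [hb j]
    · simp
    · intro x y _ _ hx hy; rw [map_add, hx, hy, add_zero]
    · intro a x _ hx; rw [smul_eq_mul, map_mul, hx, mul_zero])

lemma chartHom_algebraMap (hb : ∀ j : {j : ι // j ≠ i}, φ (f i) * b j = φ (f j.1)) (a : A) :
    chartHom f i φ b hb (algebraMap A (chartAlg f i) a) = φ a := by
  change chartHom f i φ b hb (Ideal.Quotient.mk _ (MvPolynomial.C a)) = _
  simp [chartHom]

lemma chartHom_X (hb : ∀ j : {j : ι // j ≠ i}, φ (f i) * b j = φ (f j.1))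
    (j : {j : ι // j ≠ i}) :
    chartHom f i φ b hb (Ideal.Quotient.mk _ (MvPolynomial.X j)) = b j := by
  simp [chartHom]

lemma chart_rel (j : {j : ι // j ≠ i}) :
    algebraMap A (chartAlg f i) (f i) * Ideal.Quotient.mk _ (MvPolynomial.X j) =
      algebraMap A (chartAlg f i) (f j.1) := by
  change Ideal.Quotient.mk _ (MvPolynomial.C (f i)) * Ideal.Quotient.mk _ (MvPolynomial.X j) =
    Ideal.Quotient.mk _ (MvPolynomial.C (f j.1))
  rw [← map_mul, Ideal.Quotient.eq]
  exact Ideal.subset_span ⟨j, rfl⟩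

/-- ring homs out of the chart algebra agreeing on `A` are equal when `φ (f i)` is a
nonzerodivisor -/
lemma chartHom_ext (θ₁ θ₂ : chartAlg f i →+* B)
    (h : ∀ a, θ₁ (algebraMap A _ a) = θ₂ (algebraMap A _ a))
    (hnzd : θ₁ (algebraMap A _ (f i)) ∈ nonZeroDivisors B) : θ₁ = θ₂ := by
  apply Ideal.Quotient.ringHom_ext
  apply MvPolynomial.ringHom_ext
  · intro a
    exact h a
  · intro j
    change θ₁ (Ideal.Quotient.mk _ (MvPolynomial.X j)) = θ₂ (Ideal.Quotient.mk _ (MvPolynomial.X j))
    have e1 := congrArg θ₁ (chart_rel f i j)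
    have e2 := congrArg θ₂ (chart_rel f i j)
    rw [map_mul] at e1 e2
    rw [← h (f i), ← h (f j.1), ← e1] at e2
    have h3 : θ₁ (algebraMap A _ (f i)) *
        (θ₂ (Ideal.Quotient.mk _ (MvPolynomial.X j)) -
          θ₁ (Ideal.Quotient.mk _ (MvPolynomial.X j))) = 0 := by
      rw [mul_sub, e2, sub_self]
    have := (mem_nonZeroDivisors_iff.1 hnzd).1 _ h3
    exact (sub_eq_zero.1 this).symm

end chart



/-- Let R be a base ring of class (N) or (V) for the ideal I, A an admissible R-algebra, f_0, ..., f_r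
elements generating an open ideal 𝔞 of A, and A_i = C_i/(f_i-power torsion) the i-th chart algebra
of the formal blowing-up of 𝔞. Let B be an R-algebra complete and separated for the I-adic topology
and φ : A → B an R-algebra homomorphism such that the ideal 𝔞B is generated by φ(f_i), a
non-zero-divisor of B. Then there is exactly one R-algebra homomorphism A_i → B whose composite with
A → A_i is φ. -/
theorem result
    (R : Type u) [CommRing R] (I : Ideal R) (hR : AdicRing.IsBase R I)
    (A : Type u) [CommRing A] [Algebra R A] (hA : AdicRing.Admissible R I A)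
    (r : ℕ) (f : Fin (r + 1) → A) (k : ℕ)
    (hopen : (I ^ k).map (algebraMap R A) ≤ Ideal.span (Set.range f)) (i : Fin (r + 1))
    (B : Type u) [CommRing B] [Algebra R B] [IsAdicComplete (I.map (algebraMap R B)) B]
    (φ : A →ₐ[R] B) (hnzd : φ (f i) ∈ nonZeroDivisors B)
    (hgen : (Ideal.span (Set.range f)).map φ = Ideal.span {φ (f i)}) :
    ∃! ψ : AdicRing.chartAdm I f i →ₐ[R] B,
      ψ.comp (IsScalarTower.toAlgHom R A (AdicRing.chartAdm I f i)) = φ := by
  have hIfg : I.FG := by
    rcases hR.2 with ⟨hN, -⟩ | ⟨-, -, -, t, -, rfl⟩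
    · exact IsNoetherian.noetherian I
    · exact ⟨{t}, by simp⟩
  have hdvd : ∀ j : {j : Fin (r + 1) // j ≠ i}, ∃ bj, φ (f i) * bj = φ (f j.1) := by
    intro j
    have : φ (f j.1) ∈ Ideal.span {φ (f i)} :=
      hgen ▸ Ideal.mem_map_of_mem φ (Ideal.subset_span ⟨j.1, rfl⟩)
    obtain ⟨c, hc⟩ := Ideal.mem_span_singleton'.1 this
    exact ⟨c, by rw [mul_comm]; exact hc⟩
  choose b hb using hdvd
  set θ₀ := chartHom f i (φ : A →+* B) b hb with hθ₀
  let ψ₀ : chartAlg f i →ₐ[R] B :=
    { θ₀ with
      commutes' := fun x => by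
        change θ₀ (algebraMap R (chartAlg f i) x) = _
        rw [IsScalarTower.algebraMap_apply R A (chartAlg f i), hθ₀]
        refine (chartHom_algebraMap f i (φ : A →+* B) b hb _).trans ?_
        exact φ.commutes x }
  have hψ₀ : ∀ c, ψ₀ c = θ₀ c := fun _ => rfl
  set ψh := extend I ψ₀ with hψh
  have hψh_alg : ∀ a : A, ψh (algebraMap A (chartCompl I f i) a) = φ a := by
    intro a
    change ψh (AdicCompletion.of _ _ (algebraMap A (chartAlg f i) a)) = _
    rw [hψh, extend_of, hψ₀, hθ₀]
    exact chartHom_algebraMap f i (φ : A →+* B) b hb a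
  have hker : ∀ x : chartCompl I f i,
      x ∈ (⨆ n : ℕ, Submodule.torsionBy (chartCompl I f i) (chartCompl I f i)
        (algebraMap A (chartCompl I f i) (f i) ^ n) : Ideal (chartCompl I f i)) → ψh x = 0 := by
    intro x hx
    have hle : (⨆ n : ℕ, Submodule.torsionBy (chartCompl I f i) (chartCompl I f i)
        (algebraMap A (chartCompl I f i) (f i) ^ n) : Ideal (chartCompl I f i)) ≤
        RingHom.ker (ψh : chartCompl I f i →+* B) := by
      refine iSup_le fun n => ?_
      intro y hy
      rw [Submodule.mem_torsionBy_iff, smul_eq_mul] at hy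
      rw [RingHom.mem_ker]
      have h1 := congrArg ψh hy
      rw [map_mul, map_pow, hψh_alg, map_zero] at h1
      exact (mem_nonZeroDivisors_iff.1 (pow_mem hnzd n)).1 _ h1
    exact hle hx
  set ψ := Ideal.Quotient.liftₐ _ ψh hker with hψ
  have hψφ : ψ.comp (IsScalarTower.toAlgHom R A (AdicRing.chartAdm I f i)) = φ := by
    ext a
    change ψ (Ideal.Quotient.mk _ (algebraMap A (chartCompl I f i) a)) = φ a
    rw [hψ, Ideal.Quotient.liftₐ_apply]
    exact hψh_alg a
  refine ⟨ψ, hψφ, ?_⟩
  intro ψ' hψ'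
  apply Ideal.Quotient.algHom_ext
  apply ext_of_FG I hIfg
  intro c
  have key : ((ψ'.comp (Ideal.Quotient.mkₐ R _) : chartCompl I f i →ₐ[R] B) :
        chartCompl I f i →+* B).comp (algebraMap (chartAlg f i) (chartCompl I f i)) =
      ((ψ.comp (Ideal.Quotient.mkₐ R _) : chartCompl I f i →ₐ[R] B) :
        chartCompl I f i →+* B).comp (algebraMap (chartAlg f i) (chartCompl I f i)) := by
    apply chartHom_ext f i
    · intro a
      have e1 := congrArg (fun g : A →ₐ[R] B => g a) hψ'
      have e2 := congrArg (fun g : A →ₐ[R] B => g a) hψφ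
      exact e1.trans e2.symm
    · have e1 := congrArg (fun g : A →ₐ[R] B => g (f i)) hψ'
      have : ((ψ'.comp (Ideal.Quotient.mkₐ R _) : chartCompl I f i →ₐ[R] B) :
        chartCompl I f i →+* B).comp (algebraMap (chartAlg f i) (chartCompl I f i))
          (algebraMap A (chartAlg f i) (f i)) = φ (f i) := e1
      rw [this]
      exact hnzd
  exact congrArg (fun g : chartAlg f i →+* B => g c) key


end Groth.Agent.S11545
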