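import Groth.Statements.S1156
import Mathlib.LinearAlgebra.TensorProduct.Associator
import Mathlib.Algebra.Algebra.Bilinear

set_option autoImplicit false
universe u
open scoped TensorProduct
open Desc

namespace Groth.Agent.S1156

/-- Exactness of the extended Amitsur complex in degree 0 (injectivity in degree −1 being standard). Let
R → A be faithfully flat and M an R-module. An element x of A ⊗_R M with 1 ⊗ x = (a ⊗ m ↦ a ⊗ 1 ⊗
m)(x) in A ⊗_R A ⊗_R M lies in the image of m ↦ 1 ⊗ m. -/
theorem result (R A : Type u) [CommRing R] [CommRing A] [Algebra R A] [Module.FaithfullyFlat R A]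
    (M : Type u) [AddCommGroup M] [Module R M] (x : A ⊗[R] M)
    (hx : TensorProduct.mk R A (A ⊗[R] M) 1 x = LinearMap.lTensor A (TensorProduct.mk R A M 1) x) :
    x ∈ LinearMap.range (TensorProduct.mk R A M 1) := by
  set e : M →ₗ[R] A ⊗[R] M := TensorProduct.mk R A M 1 with he
  set d : A ⊗[R] M →ₗ[R] A ⊗[R] (A ⊗[R] M) :=
    TensorProduct.mk R A (A ⊗[R] M) 1 - LinearMap.lTensor A e with hd
  suffices hex : Function.Exact e d by
    apply (hex x).mp
    simp [hd, hx]
  apply Module.FaithfullyFlat.lTensor_reflects_exact R A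
  -- contracting homotopies
  let s : A ⊗[R] (A ⊗[R] M) →ₗ[R] A ⊗[R] M :=
    (LinearMap.mul' R A).rTensor M ∘ₗ (TensorProduct.assoc R A A M).symm.toLinearMap
  let s' : A ⊗[R] (A ⊗[R] (A ⊗[R] M)) →ₗ[R] A ⊗[R] (A ⊗[R] M) :=
    (LinearMap.mul' R A).rTensor (A ⊗[R] M) ∘ₗ
      (TensorProduct.assoc R A A (A ⊗[R] M)).symm.toLinearMap
  have h1 : s' ∘ₗ (TensorProduct.mk R A (A ⊗[R] M) 1).lTensor A = LinearMap.id := by
    ext b y
    simp [s']
  have h2 : s' ∘ₗ (LinearMap.lTensor A e).lTensor A = (LinearMap.lTensor A e) ∘ₗ s := by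
    ext b a m
    simp [s', s, he]
  have h3 : d ∘ₗ e = 0 := by
    ext m
    simp [hd, he]
  intro y
  constructor
  · intro hy
    refine ⟨s y, ?_⟩
    have hy' : (TensorProduct.mk R A (A ⊗[R] M) 1).lTensor A y
        = (LinearMap.lTensor A e).lTensor A y := by
      have : (LinearMap.lTensor A d) y = 0 := hy
      rw [hd, LinearMap.lTensor_sub, LinearMap.sub_apply, sub_eq_zero] at this
      exact this
    have := congrArg s' hy'
    rw [← LinearMap.comp_apply, ← LinearMap.comp_apply, h1, h2] at this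
    simpa using this.symm
  · rintro ⟨m, rfl⟩
    rw [← LinearMap.comp_apply, ← LinearMap.lTensor_comp, h3]
    simp

end Groth.Agent.S1156
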