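import Groth.Statements.S1163
import Groth.Agent.Lib.Helper17.FlatAlg
import Mathlib.RingTheory.Flat.FaithfullyFlat.Algebra

set_option autoImplicit false
open CategoryTheory CategoryTheory.Limits AlgebraicGeometry Opposite
universe u
open Desc

namespace Groth.Agent.S1163

/-- Ring-level statement: `A → B → C → B'` with `A → C` flat and `B → B'` flat and local. -/
theorem flat_of_ringHoms {A B C B' : Type u} [CommRing A] [CommRing B] [CommRing C] [CommRing B']
    [IsLocalRing B] [IsLocalRing B']
    (α : A →+* B) (β : B →+* C) (γ : C →+* B') (h1 : (β.comp α).Flat)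
    (h2 : (γ.comp β).Flat) [IsLocalHom (γ.comp β)] : α.Flat := by
  algebraize [α, β, γ, β.comp α, γ.comp β, (γ.comp β).comp α]
  have : Module.FaithfullyFlat B B' := Module.FaithfullyFlat.of_flat_of_isLocalHom
  have : Module.Flat A B' := Groth.Agent.Lib.Helper17.flat_of_retract_tensor A B C B'
  exact Groth.Agent.Lib.Helper17.flat_of_flat_of_faithfullyFlat A B B'

/-- The case P = flat, single fppf cover: Let f : X ⟶ Y and q : Y ⟶ Z be morphisms of schemes, and
suppose there is a flat, surjective morphism g : Y' ⟶ Y locally of finite presentation which factors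
through f. If f ≫ q is flat, then q is flat. -/
theorem result {X Y Z Y' : Scheme.{u}} (f : X ⟶ Y) (q : Y ⟶ Z) (g : Y' ⟶ Y) [Flat g] [Surjective g]
    [LocallyOfFinitePresentation g] (l : Y' ⟶ X) (hl : l ≫ f = g) [Flat (f ≫ q)] : Flat q := by
  subst hl
  rw [Flat.iff_flat_stalkMap]
  intro y
  obtain ⟨y', rfl⟩ := (l ≫ f).surjective y
  have h1 : ((f ≫ q).stalkMap (l y')).hom.Flat := Flat.stalkMap (f ≫ q) (l y')
  have h2 : ((l ≫ f).stalkMap y').hom.Flat := Flat.stalkMap (l ≫ f) y'
  have hloc : IsLocalHom ((l ≫ f).stalkMap y').hom := inferInstance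
  rw [Scheme.Hom.stalkMap_comp] at h1 h2 hloc
  exact flat_of_ringHoms (q.stalkMap (f (l y'))).hom (f.stalkMap (l y')).hom
    (l.stalkMap y').hom h1 h2

end Groth.Agent.S1163
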