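import Groth.Statements.S1167
import Mathlib
import Groth.Agent.Lib.Helper10.HilbLib2

set_option autoImplicit false
open CategoryTheory CategoryTheory.Limits AlgebraicGeometry
universe u
open HilbD

namespace Groth.Agent.S1167

set_option maxHeartbeats 4000000
set_option synthInstance.maxHeartbeats 400000

open CategoryTheory.Limits PicF Groth.Agent.Lib.Helper10.ClosedSubF Groth.Agent.Lib.Helper10.WeilClosed
  Groth.Agent.Lib.Helper10.HilbLib

/-- if `(H, Z)` is universal, two morphisms to `H` agree iff the pullbacks of `Z` agree. -/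
theorem eq_of_pull_eq {X S : Scheme.{u}} (f : X ⟶ S) (d : ℕ) (H : Over S) (Z : HilbD.Obj f d H)
    (hZ : HilbD.IsUniversal f d H Z) {T : Over S} (a b : T ⟶ H)
    (h : HilbD.pull f a Z.1 = HilbD.pull f b Z.1) : a = b :=
  (hZ T (pullObj f a Z)).unique rfl h.symm

/-- Let f : X → S be a separated morphism of schemes and let (H, Z) represent the Hilbert functor of
points of degree d of X over S (Z the universal object on H). Then H → S is separated. -/
theorem result {X S : Scheme.{u}} (f : X ⟶ S) [IsSeparated f] (d : ℕ)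
    (H : Over S) (Z : HilbD.Obj f d H) (hZ : HilbD.IsUniversal f d H Z) : IsSeparated H.hom := by
  let P : Over S := Over.mk (pullback.fst H.hom H.hom ≫ H.hom)
  let p₁ : P ⟶ H := Over.homMk (pullback.fst H.hom H.hom) rfl
  let p₂ : P ⟶ H := Over.homMk (pullback.snd H.hom H.hom) pullback.condition.symm
  let I₁ := HilbD.pull f p₁ Z.1
  let I₂ := HilbD.pull f p₂ Z.1
  have h₁ : AffLocProj (I₁.subschemeι ≫ XTproj f P) :=
    affLocProj_of_isFinLocFreeOfDeg (pull_mem f p₁ Z)
  have h₂ : AffLocProj (I₂.subschemeι ≫ XTproj f P) :=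
    affLocProj_of_isFinLocFreeOfDeg (pull_mem f p₂ Z)
  obtain ⟨E, e, he, hE⟩ := exists_repBy_eqLocus (XTproj f P) I₁ I₂ h₁ h₂
  let Φ : SubF P.left :=
    { P := fun T t => t ≫ pullback.fst H.hom H.hom = t ≫ pullback.snd H.hom H.hom
      pre := fun T T' s t h => by rw [Category.assoc, Category.assoc, h] }
  have hΦe : Φ.RepBy e := by
    intro T t
    let T' : Over S := Over.mk (t ≫ P.hom)
    let t' : T' ⟶ P := Over.homMk t rfl
    rw [hE t (XTmap f t') (XTproj f T') (isPullback_XTmap f t')]
    change _ ↔ (HilbD.pull f p₁ Z.1).comap (XTmap f t') = (HilbD.pull f p₂ Z.1).comap (XTmap f t')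
    rw [← pull_eq_comap, ← pull_eq_comap, ← pull_comp, ← pull_comp]
    constructor
    · intro h
      have h1 : (t' ≫ p₁).left = (t' ≫ p₂).left := h
      have h2 : t' ≫ p₁ = t' ≫ p₂ := Over.OverMorphism.ext h1
      rw [h2]
    · intro h
      exact congrArg (fun m => m.left) (eq_of_pull_eq f d H Z hZ _ _ h)
  have hΦΔ : Φ.RepBy (pullback.diagonal H.hom) := by
    intro T t
    constructor
    · intro h
      refine ⟨t ≫ pullback.fst H.hom H.hom, ?_⟩
      apply pullback.hom_ext
      · rw [Category.assoc, pullback.diagonal_fst, Category.comp_id]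
      · rw [Category.assoc, pullback.diagonal_snd, Category.comp_id]
        exact h
    · rintro ⟨w, rfl⟩
      change (w ≫ pullback.diagonal H.hom) ≫ _ = (w ≫ pullback.diagonal H.hom) ≫ _
      rw [Category.assoc, Category.assoc, pullback.diagonal_fst, pullback.diagonal_snd]
  obtain ⟨φ, hφ⟩ := hΦΔ.exists_iso hΦe
  refine ⟨?_⟩
  rw [← hφ]
  infer_instance

end Groth.Agent.S1167
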