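import Groth.Statements.S1168
import Mathlib
import Groth.Agent.Lib.Helper10.HilbLib2

set_option autoImplicit false
open CategoryTheory CategoryTheory.Limits AlgebraicGeometry
universe u
open HilbD

namespace Groth.Agent.S1168

set_option maxHeartbeats 4000000
set_option synthInstance.maxHeartbeats 400000

open CategoryTheory.Limits PicF Groth.Agent.Lib.Helper10.ClosedSubF Groth.Agent.Lib.Helper10.WeilClosed
  Groth.Agent.Lib.Helper10.HilbLib

/-- if `(H, Z)` is universal, two morphisms to `H` agree iff the pullbacks of `Z` agree. -/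
theorem eq_of_pull_eq {X S : Scheme.{u}} (f : X ⟶ S) (d : ℕ) (H : Over S) (Z : HilbD.Obj f d H)
    (hZ : HilbD.IsUniversal f d H Z) {T : Over S} (a b : T ⟶ H)
    (h : HilbD.pull f a Z.1 = HilbD.pull f b Z.1) : a = b :=
  (hZ T (pullObj f a Z)).unique rfl h.symm

/-- The construction: a universal pair for `X` together with a closed immersion to `H` classifying
the push-forward. -/
theorem exists_universal {X Y S : Scheme.{u}} (i : X ⟶ Y) [IsClosedImmersion i] (g : Y ⟶ S)
    (d : ℕ) (H : Over S) (Z : HilbD.Obj g d H) (hZ : HilbD.IsUniversal g d H Z) :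
    ∃ (H' : Over S) (Z' : HilbD.Obj (i ≫ g) d H') (m₀ : H' ⟶ H),
      HilbD.IsUniversal (i ≫ g) d H' Z' ∧ IsClosedImmersion m₀.left ∧
        HilbD.pull g m₀ Z.1 = HilbD.push i g H' Z'.1 := by
  have h₁ : AffLocProj (Z.1.subschemeι ≫ XTproj g H) := affLocProj_of_isFinLocFreeOfDeg Z.2
  obtain ⟨E, e, he, hE⟩ := exists_repBy_incl (XTproj g H) Z.1 (iT i g H).ker h₁
  let H' : Over S := Over.mk (e ≫ H.hom)
  let m₀ : H' ⟶ H := Over.homMk e rfl
  haveI : Mono m₀ := by
    haveI : Mono m₀.left := inferInstanceAs (Mono e)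
    exact Over.mono_of_mono_left _
  let J := HilbD.pull g m₀ Z.1
  have hJ : Mor2.IsFinLocFreeOfDeg d (J.subschemeι ≫ XTproj g H') := pull_mem g m₀ Z
  have hle : (iT i g H').ker ≤ J := by
    have := (hE e (XTmap g m₀) (XTproj g H') (isPullback_XTmap g m₀)).1 ⟨𝟙 _, Category.id_comp _⟩
    rw [ker_iT_comap i g m₀, ← pull_eq_comap] at this
    exact this
  have hle' : (iT i g H').ker ≤ J.subschemeι.ker := by
    rw [Scheme.IdealSheafData.ker_subschemeι]
    exact hle
  let ζ : J.subscheme ⟶ XT (i ≫ g) H' := IsClosedImmersion.lift (iT i g H') J.subschemeι hle'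
  have hζ : ζ ≫ iT i g H' = J.subschemeι := IsClosedImmersion.lift_fac _ _ _
  haveI : IsClosedImmersion ζ := by
    haveI : IsClosedImmersion (ζ ≫ iT i g H') := by rw [hζ]; infer_instance
    exact IsClosedImmersion.of_comp_isClosedImmersion ζ (iT i g H')
  have hζfin : Mor2.IsFinLocFreeOfDeg d (ζ ≫ XTproj (i ≫ g) H') := by
    rw [← iT_snd i g H', ← Category.assoc, hζ]
    exact hJ
  let Z' : HilbD.Obj (i ≫ g) d H' := objOfClosedImm (i ≫ g) ζ hζfin
  have hpush : HilbD.pull g m₀ Z.1 = HilbD.push i g H' Z'.1 := by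
    change J = HilbD.push i g H' ζ.ker
    rw [push_ker, hζ, Scheme.IdealSheafData.ker_subschemeι]
  refine ⟨H', Z', m₀, ?_, he, hpush⟩
  intro T Z''
  -- the classifying morphism to `H`
  obtain ⟨γ, hγ, hγuniq⟩ := hZ T (pushObj i g T Z'')
  have hγ' : HilbD.pull g γ Z.1 = HilbD.push i g T Z''.1 := hγ
  -- it factors through `E`
  have hfac : ∃ w : T.left ⟶ E, w ≫ e = γ.left := by
    rw [hE γ.left (XTmap g γ) (XTproj g T) (isPullback_XTmap g γ), ker_iT_comap i g γ,
      ← pull_eq_comap, hγ']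
    exact le_push i g T _
  obtain ⟨w, hw⟩ := hfac
  let γ' : T ⟶ H' := Over.homMk w (by
    change w ≫ e ≫ H.hom = T.hom
    rw [← Category.assoc, hw, Over.w])
  have hγ'γ : γ' ≫ m₀ = γ := Over.OverMorphism.ext hw
  refine ⟨γ', ?_, ?_⟩
  · apply push_injective i g T
    rw [← pull_push, ← hpush, ← pull_comp, hγ'γ, hγ']
  · intro γ₁ hγ₁
    have hγ₁' : HilbD.pull (i ≫ g) γ₁ Z'.1 = Z''.1 := hγ₁
    have h1 : γ₁ ≫ m₀ = γ := by
      apply hγuniq
      change HilbD.pull g (γ₁ ≫ m₀) Z.1 = HilbD.push i g T Z''.1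
      rw [pull_comp, hpush, pull_push, hγ₁']
    rw [← cancel_mono m₀, h1, hγ'γ]

/-- Let i : X ⟶ Y be a closed immersion of schemes over S (structure morphisms i ≫ g and g) and suppose
(H, Z) represents the degree-d Hilbert functor of points of Y over S. Then the degree-d Hilbert
functor of points of X over S is representable, and for any representing pair (H', Z') the unique
S-morphism H' ⟶ H classifying the image of Z' in Y ×_S H' is a closed immersion. -/
theorem result {X Y S : Scheme.{u}} (i : X ⟶ Y) [IsClosedImmersion i] (g : Y ⟶ S)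
    (d : ℕ) (H : Over S) (Z : HilbD.Obj g d H) (hZ : HilbD.IsUniversal g d H Z) :
    HilbD.Representable (i ≫ g) d ∧
    ∀ (H' : Over S) (Z' : HilbD.Obj (i ≫ g) d H') (_ : HilbD.IsUniversal (i ≫ g) d H' Z') (m : H' ⟶ H),
      HilbD.pull g m Z.1 = HilbD.push i g H' Z'.1 → IsClosedImmersion m.left := by
  obtain ⟨H₀, Z₀, m₀, hZ₀, hm₀, hpush₀⟩ := exists_universal i g d H Z hZ
  refine ⟨⟨H₀, Z₀, hZ₀⟩, ?_⟩
  intro H' Z' hZ' m hm
  -- comparison isomorphism between the two universal pairs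
  obtain ⟨φ, hφ, -⟩ := hZ₀ H' Z'
  obtain ⟨ψ, hψ, -⟩ := hZ' H₀ Z₀
  have hφ' : HilbD.pull (i ≫ g) φ Z₀.1 = Z'.1 := hφ
  have hψ' : HilbD.pull (i ≫ g) ψ Z'.1 = Z₀.1 := hψ
  have h1 : φ ≫ ψ = 𝟙 H' := by
    apply eq_of_pull_eq (i ≫ g) d H' Z' hZ'
    rw [pull_comp, hψ', hφ', pull_id]
  have h2 : ψ ≫ φ = 𝟙 H₀ := by
    apply eq_of_pull_eq (i ≫ g) d H₀ Z₀ hZ₀
    rw [pull_comp, hφ', hψ', pull_id]
  have hm' : m = φ ≫ m₀ := by
    apply eq_of_pull_eq g d H Z hZ
    rw [hm, pull_comp, hpush₀, pull_push, hφ']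
  haveI : IsIso φ.left := ⟨⟨ψ.left, by rw [← Over.comp_left, h1, Over.id_left],
    by rw [← Over.comp_left, h2, Over.id_left]⟩⟩
  haveI := hm₀
  rw [hm', Over.comp_left]
  infer_instance

end Groth.Agent.S1168
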