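import Groth.Statements.S1178
import Mathlib
import Groth.Agent.Helper19.FPExt3
-- import your own Groth.Agent.* helpers here

set_option autoImplicit false
open CategoryTheory CategoryTheory.Limits AlgebraicGeometry Opposite
universe u
open Desc

namespace Groth.Agent.S1178

section helpers
open Groth.Agent.Lib.Helper29.QCoh Groth.Agent.Helper19.FPExt

theorem fp_of_fp_restrictScalars (A B M : Type*) [CommRing A] [CommRing B] [Algebra A B]
    [AddCommGroup M] [Module A M] [Module B M] [IsScalarTower A B M] [Module.Finite A B]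
    [Module.FinitePresentation A M] : Module.FinitePresentation B M := by
  haveI : Module.Finite B M := Module.Finite.of_restrictScalars_finite A B M
  obtain ⟨n, f, hf⟩ := Module.Finite.exists_fin' B M
  refine Module.finitePresentation_of_surjective f hf ?_
  apply Submodule.FG.of_restrictScalars A
  have h := Module.FinitePresentation.fg_ker (f.restrictScalars A) hf
  rwa [LinearMap.ker_restrictScalars] at h

variable {X Y : Scheme.{u}}

/-- Sections of the pushforward over an affine open, for a finite morphism of finite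
presentation. -/
theorem fp_pushforward_iff (f : X ⟶ Y) [IsFinite f] [LocallyOfFinitePresentation f]
    (F : X.Modules) {V : Y.Opens} (hV : IsAffineOpen V) :
    Module.FinitePresentation Γ(Y, V) Γ((Scheme.Modules.pushforward f).obj F, V) ↔
      Module.FinitePresentation Γ(X, f ⁻¹ᵁ V) Γ(F, f ⁻¹ᵁ V) := by
  have hU : IsAffineOpen (f ⁻¹ᵁ V) := hV.preimage f
  letI : Algebra Γ(Y, V) Γ(X, f ⁻¹ᵁ V) := (f.app V).hom.toAlgebra
  letI : Module Γ(Y, V) Γ(F, f ⁻¹ᵁ V) :=
    (inferInstance : Module Γ(Y, V) Γ((Scheme.Modules.pushforward f).obj F, V))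
  haveI : IsScalarTower Γ(Y, V) Γ(X, f ⁻¹ᵁ V) Γ(F, f ⁻¹ᵁ V) :=
    IsScalarTower.of_algebraMap_smul fun _ _ => rfl
  have hfin : (f.app V).hom.Finite := f.finite_app V hV
  haveI : Module.Finite Γ(Y, V) Γ(X, f ⁻¹ᵁ V) := hfin
  have hfp : (f.appLE V (f ⁻¹ᵁ V) le_rfl).hom.FinitePresentation :=
    f.finitePresentation_appLE hV hU le_rfl
  have hfp' : (f.app V).hom.FinitePresentation := by
    rwa [Scheme.Hom.appLE_eq_app] at hfp
  haveI : Algebra.FinitePresentation Γ(Y, V) Γ(X, f ⁻¹ᵁ V) := hfp'
  haveI : Module.FinitePresentation Γ(Y, V) Γ(X, f ⁻¹ᵁ V) :=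
    Module.FinitePresentation.of_finite_of_finitePresentation _ _
  constructor
  · intro h
    haveI : Module.FinitePresentation Γ(Y, V) Γ(F, f ⁻¹ᵁ V) := h
    exact fp_of_fp_restrictScalars Γ(Y, V) Γ(X, f ⁻¹ᵁ V) Γ(F, f ⁻¹ᵁ V)
  · intro h
    haveI := h
    exact Module.FinitePresentation.trans Γ(Y, V) Γ(F, f ⁻¹ᵁ V) Γ(X, f ⁻¹ᵁ V)

end helpers

/-- Let f : X ⟶ Y be finite and locally of finite presentation and F a quasi-coherent O_X-module. Then F
is finitely presented exactly when its pushforward f_*F is a finitely presented O_Y-module. -/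
theorem result {X Y : Scheme.{u}} (f : X ⟶ Y) [IsFinite f] [LocallyOfFinitePresentation f]
    (F : X.Modules) [F.IsQuasicoherent] :
    CohB1.IsFP F ↔ CohB1.IsFP ((Scheme.Modules.pushforward f).obj F) := by
  open Groth.Agent.Lib.Helper29.QCoh in
  haveI : ((Scheme.Modules.pushforward f).obj F).IsQuasicoherent :=
    isQuasicoherent_pushforward_of_qcqs f F
  constructor
  · intro h
    haveI : F.IsFinitePresentation := h
    refine isFinitePresentation_of_module_finitePresentation _
      (fun V : Y.affineOpens => (V : Y.Opens)) (isOpenCover_affineOpens Y) (fun V => V.2)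
      (fun V => ?_)
    rw [fp_pushforward_iff f F V.2]
    exact module_finitePresentation_of_isFinitePresentation F (V.2.preimage f)
  · intro h
    haveI : ((Scheme.Modules.pushforward f).obj F).IsFinitePresentation := h
    refine isFinitePresentation_of_module_finitePresentation F
      (fun V : Y.affineOpens => f ⁻¹ᵁ (V : Y.Opens)) ?_ (fun V => V.2.preimage f) (fun V => ?_)
    · rw [TopologicalSpace.IsOpenCover, eq_top_iff]
      rintro x -
      obtain ⟨V, hxV⟩ := (isOpenCover_affineOpens Y).exists_mem (f x)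
      exact TopologicalSpace.Opens.mem_iSup.mpr ⟨V, hxV⟩
    · rw [← fp_pushforward_iff f F V.2]
      exact module_finitePresentation_of_isFinitePresentation _ V.2

end Groth.Agent.S1178
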