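import Groth.Statements.S1181
import Mathlib
import Groth.Agent.Lib.Helper10.FinLocFreeDescent

set_option autoImplicit false
open CategoryTheory CategoryTheory.Limits AlgebraicGeometry
universe u
open HilbD

namespace Groth.Agent.S1181

set_option maxHeartbeats 4000000
set_option synthInstance.maxHeartbeats 400000

open CategoryTheory.Limits PicF Groth.Agent.Lib.Helper10.ClosedSubF Groth.Agent.Lib.Helper10.WeilClosed
  Groth.Agent.Lib.Helper10.HilbLib Groth.Agent.Lib.Helper10.FinLocFreeDescent
  Groth.Agent.Lib.Helper25.ClosedDescent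

/-- Let f : X ⟶ S, d a natural number, T an S-scheme and g : T' ⟶ T quasi-compact, flat and surjective,
viewed over S. Let Z' be a closed subscheme of X ×_S T' finite locally free of degree d over T'
whose two pullbacks to X ×_S (T' ×_T T') coincide. Then there is exactly one closed subscheme of X
×_S T, finite locally free of degree d over T, pulling back to Z'. -/
theorem result {X S : Scheme.{u}} (f : X ⟶ S) (d : ℕ) (T : Over S) {T' : Scheme.{u}} (g : T' ⟶ T.left)
    [QuasiCompact g] [Flat g] [Surjective g] (Z' : HilbD.Obj f d (HilbD.coverOver T g))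
    (hZ' : HilbD.pull f (HilbD.overlapFst T g) Z'.1 = HilbD.pull f (HilbD.overlapSnd T g) Z'.1) :
    ∃! I : (PicF.XT f T).IdealSheafData, Mor2.IsFinLocFreeOfDeg d (I.subschemeι ≫ PicF.XTproj f T) ∧
      HilbD.pull f (HilbD.coverHom T g) I = Z'.1 := by
  let Tc := HilbD.coverOver T g
  let c : Tc ⟶ T := HilbD.coverHom T g
  let To := HilbD.overlapOver T g
  let o₁ : To ⟶ Tc := HilbD.overlapFst T g
  let o₂ : To ⟶ Tc := HilbD.overlapSnd T g
  let π := XTmap f c
  have hπ : IsPullback π (XTproj f Tc) (XTproj f T) g := isPullback_XTmap f c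
  haveI : Flat π := MorphismProperty.of_isPullback hπ.flip ‹Flat g›
  haveI : Surjective π := MorphismProperty.of_isPullback hπ.flip ‹Surjective g›
  haveI : QuasiCompact π := MorphismProperty.of_isPullback hπ.flip ‹QuasiCompact g›
  have ho : o₁ ≫ c = o₂ ≫ c := by
    apply Over.OverMorphism.ext
    exact pullback.condition
  have hcomm : XTmap f o₂ ≫ π = XTmap f o₁ ≫ π := by
    rw [← XTmap_comp, ← XTmap_comp, ho]
  have hκ : IsPullback (XTmap f o₂) (XTmap f o₁) π π := by
    refine IsPullback.of_right ?_ hcomm hπ.flip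
    have h1 : IsPullback (XTproj f To) (XTmap f o₁) (pullback.fst g g) (XTproj f Tc) :=
      (isPullback_XTmap f o₁).flip
    have h2 := h1.paste_horiz (IsPullback.of_hasPullback g g).flip
    have e1 : XTmap f o₂ ≫ XTproj f Tc = XTproj f To ≫ pullback.snd g g := XTmap_snd f o₂
    have e2 : π ≫ XTproj f T = XTproj f Tc ≫ g := XTmap_snd f c
    rw [e1, e2]
    exact h2
  have hI : Z'.1.comap (pullback.fst π π) = Z'.1.comap (pullback.snd π π) := by
    let e := hκ.isoPullback
    have e1 : e.hom ≫ pullback.fst π π = XTmap f o₂ := hκ.isoPullback_hom_fst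
    have e2 : e.hom ≫ pullback.snd π π = XTmap f o₁ := hκ.isoPullback_hom_snd
    have h3 : (Z'.1.comap (pullback.fst π π)).comap e.hom =
        (Z'.1.comap (pullback.snd π π)).comap e.hom := by
      rw [← Scheme.IdealSheafData.comap_comp, ← Scheme.IdealSheafData.comap_comp, e1, e2,
        ← pull_eq_comap, ← pull_eq_comap]
      exact hZ'.symm
    have h4 := congrArg (fun J => J.comap e.inv) h3
    simp only [← Scheme.IdealSheafData.comap_comp, Iso.inv_hom_id_assoc] at h4
    exact h4
  let I := Z'.1.map π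
  have hcomap : I.comap π = Z'.1 := comap_map_eq_of_stable π Z'.1 hI
  have hfin : Mor2.IsFinLocFreeOfDeg d (I.subschemeι ≫ XTproj f T) := by
    let a' := pullback.fst π I.subschemeι
    have hker : a'.ker = Z'.1 := hcomap
    have h1 : Mor2.IsFinLocFreeOfDeg d (a' ≫ XTproj f Tc) := by
      refine isFinLocFreeOfDeg_of_ker a' _ ?_
      rw [hker]
      exact Z'.2
    have h2 : IsPullback (pullback.snd π I.subschemeι) (a' ≫ XTproj f Tc)
        (I.subschemeι ≫ XTproj f T) g :=
      (IsPullback.of_hasPullback π I.subschemeι).flip.paste_vert hπ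
    exact isFinLocFreeOfDeg_of_isPullback_of_fpqc h2 h1
  refine ⟨I, ⟨hfin, ?_⟩, ?_⟩
  · change HilbD.pull f c I = Z'.1
    rw [pull_eq_comap]
    exact hcomap
  · rintro I₂ ⟨-, hI₂⟩
    have hI₂' : I₂.comap π = Z'.1 := by
      rw [← pull_eq_comap]
      exact hI₂
    change I₂ = Z'.1.map π
    rw [← hI₂', map_comap_eq]

end Groth.Agent.S1181
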