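import Groth.Statements.S1183
import Groth.Agent.Lib.Helper25.RegularSmooth

set_option autoImplicit false
universe u
open Desc

namespace Groth.Agent.S1183

/-- Let A → B be a smooth ring map of Noetherian rings and k a natural number. If A satisfies (R_k) then
so does B; and if moreover A → B is faithfully flat and B satisfies (R_k), then A does. -/
theorem result (A B : Type u) [CommRing A] [CommRing B] [IsNoetherianRing A] [IsNoetherianRing B]
    [Algebra A B] [Algebra.Smooth A B] (k : ℕ) :
    (LocCoh.HasRk k A → LocCoh.HasRk k B) ∧
    (Module.FaithfullyFlat A B → LocCoh.HasRk k B → LocCoh.HasRk k A) := by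
  have hflat : Module.Flat A B := inferInstance
  constructor
  · intro hA q hq hqk
    have : q.LiesOver (q.under A) := ⟨rfl⟩
    have hp : (q.under A).height ≤ k := by
      have h1 := Ideal.height_eq_height_add_of_liesOver_of_hasGoingDown (q.under A) q
      calc (q.under A).height ≤ q.height := by rw [h1]; exact le_self_add
        _ ≤ k := hqk
    have := hA (q.under A) hp
    exact Groth.Agent.Lib.Helper25.RegularSmooth.isRegularLocalRing_of_smooth (q.under A) q
  · intro hff hB p hp hpk
    obtain ⟨Q, hQ⟩ := PrimeSpectrum.comap_surjective_of_faithfullyFlat (A := A) (B := B) ⟨p, hp⟩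
    have hQp : Q.asIdeal.comap (algebraMap A B) = p := congrArg PrimeSpectrum.asIdeal hQ
    have hle : p.map (algebraMap A B) ≤ Q.asIdeal := by
      rw [Ideal.map_le_iff_le_comap, hQp]
    obtain ⟨q, hqmin, hqQ⟩ := Ideal.exists_minimalPrimes_le hle
    have hqprime : q.IsPrime := hqmin.1.1
    have hqp : q.under A = p := by
      apply le_antisymm
      · intro a ha
        rw [← hQp]
        exact hqQ ha
      · rw [Ideal.under_def, ← Ideal.map_le_iff_le_comap]
        exact hqmin.1.2
    have : q.LiesOver p := ⟨hqp.symm⟩
    have hht : q.height = p.height := by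
      rw [Ideal.height_eq_height_add_of_liesOver_of_hasGoingDown p q]
      have hmin : q.map (Ideal.Quotient.mk (p.map (algebraMap A B))) ∈
          minimalPrimes (B ⧸ p.map (algebraMap A B)) := by
        have h1 := Ideal.minimalPrimes_map_of_surjective
          (f := Ideal.Quotient.mk (p.map (algebraMap A B))) Ideal.Quotient.mk_surjective
          (p.map (algebraMap A B))
        rw [Ideal.map_quotient_self, Ideal.mk_ker, sup_idem] at h1
        change _ ∈ (⊥ : Ideal _).minimalPrimes
        rw [h1]
        exact ⟨q, hqmin, rfl⟩
      have : (q.map (Ideal.Quotient.mk (p.map (algebraMap A B)))).IsPrime := hmin.1.1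
      rw [Ideal.height_eq_zero_iff.mpr hmin, add_zero]
    have hreg := hB q (by rw [hht]; exact hpk)
    let _ := Localization.AtPrime.algebraOfLiesOver p q
    have : Module.Flat (Localization.AtPrime p) (Localization.AtPrime q) := by
      rw [Module.flat_iff_of_isLocalization (Localization.AtPrime p) p.primeCompl]
      exact Module.Flat.trans A B (Localization.AtPrime q)
    have : IsNoetherianRing (Localization.AtPrime p) :=
      IsLocalization.isNoetherianRing p.primeCompl _ inferInstance
    exact Groth.Agent.Lib.Helper18.SerreReg.isRegularLocalRing_of_flat_of_isLocalHom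
      (Localization.AtPrime p) (Localization.AtPrime q)


end Groth.Agent.S1183
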