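import Groth.Statements.S1186
import Groth.Agent.Lib.Helper1.FE9

set_option autoImplicit false
universe u
open Pi1

namespace Groth.Agent.S1186

open AlgebraicGeometry CategoryTheory CategoryTheory.Limits in
/-- Let i : Z ⟶ X be a closed immersion and j : Z ⟶ Y an integral morphism such that every fibre of j
lies in the preimage under i of some affine open of X, and let a : X ⟶ W, b : Y ⟶ W exhibit W as the
pushout of i and j in the category of schemes. If U is finite étale over X and V is finite étale
over Y with U ×_X Z ≅ V ×_Y Z over Z, then there is a finite étale cover T of W whose restrictions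
to X and to Y are isomorphic to U and to V respectively. (This is the essential-surjectivity part of
an equivalence between finite étale covers of W and the 2-fibre product of the categories of finite
étale covers of X and of Y over that of Z; only the gluing of objects is asserted, and the
compatibility of the two identifications over Z is not asserted.) -/
theorem result {Z X Y W : Scheme.{u}} (i : Z ⟶ X) [IsClosedImmersion i] (j : Z ⟶ Y) [IsIntegralHom j]
    (h3 : ∀ y : Y, ∃ U : X.Opens, IsAffineOpen U ∧ ∀ z : Z, j.base z = y → i.base z ∈ U)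
    (a : X ⟶ W) (b : Y ⟶ W) (hpo : IsPushout i j a b)
    (U : FEt.Cat X) (V : FEt.Cat Y) (e : (FEt.restrict i).obj U ≅ (FEt.restrict j).obj V) :
    ∃ T : FEt.Cat W, Nonempty ((FEt.restrict a).obj T ≅ U) ∧ Nonempty ((FEt.restrict b).obj T ≅ V) := by
  haveI : IsFinite U.hom := U.prop.1
  haveI : Etale U.hom := U.prop.2
  haveI : IsFinite V.hom := V.prop.1
  haveI : Etale V.hom := V.prop.2
  have hc : Groth.Agent.Lib.Helper1.FP.Covering i j :=
    Groth.Agent.Lib.Helper1.FP.covering_of_integral i j (fun y => by
      obtain ⟨O, hO, h⟩ := h3 y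
      exact ⟨O, hO, fun z hz => h z hz⟩)
  have hX : IsPullback (pullback.fst U.hom i) (pullback.snd U.hom i) U.hom i :=
    IsPullback.of_hasPullback _ _
  have hY0 : IsPullback (pullback.fst V.hom j) (pullback.snd V.hom j) V.hom j :=
    IsPullback.of_hasPullback _ _
  let eL : pullback U.hom i ≅ pullback V.hom j :=
    (MorphismProperty.Over.forget FEt.prop ⊤ Z ⋙ CategoryTheory.Over.forget Z).mapIso e
  have hw : eL.inv ≫ pullback.snd U.hom i = pullback.snd V.hom j := Over.w e.inv.hom
  have hY : IsPullback (eL.hom ≫ pullback.fst V.hom j) (pullback.snd U.hom i) V.hom j := by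
    refine IsPullback.of_iso hY0 eL.symm (Iso.refl _) (Iso.refl _) (Iso.refl _) ?_ ?_ ?_ ?_
    · simp
    · rw [Iso.refl_hom, Category.comp_id, Iso.symm_hom]; exact hw.symm
    · simp
    · simp
  obtain ⟨T, τ, a', b', hfin, het, hpa, hpb⟩ :=
    Groth.Agent.Lib.Helper1.FP.FEt.exists_glued i j hc a b hpo U.hom V.hom _ _ _ hX hY
  let O : FEt.Cat W := CategoryTheory.MorphismProperty.Over.mk ⊤ τ ⟨hfin, het⟩
  refine ⟨O, ⟨CategoryTheory.MorphismProperty.Over.isoMk hpa.isoPullback.symm ?_⟩,
    ⟨CategoryTheory.MorphismProperty.Over.isoMk hpb.isoPullback.symm ?_⟩⟩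
  · exact hpa.isoPullback_inv_snd
  · exact hpb.isoPullback_inv_snd

end Groth.Agent.S1186
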