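import Groth.Statements.S1188
import Mathlib

set_option autoImplicit false
universe u v w
open CategoryTheory PreGaloisCategory
open Pi1

namespace Groth.Agent.S1188

section helpers
open CategoryTheory PreGaloisCategory
open Pi1

open Limits

section
variable {C C' : Type u} [Category.{v} C] [Category.{v} C'] [GaloisCategory C] [GaloisCategory C']
    (H : C ⥤ C') [PreservesFiniteLimits H] [PreservesFiniteColimits H]
    (F' : C' ⥤ FintypeCat.{w}) [FiberFunctor F'] [FiberFunctor (H ⋙ F')]

theorem continuous_autWhisker : Continuous (Pi1X.autWhisker H F') := by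
  letI inst : ∀ X : C, MulAction (Aut F') ((H ⋙ F').obj X) := fun X =>
    inferInstanceAs (MulAction (Aut F') (F'.obj (H.obj X)))
  haveI : IsNaturalSMul (H ⋙ F') (Aut F') :=
    ⟨fun σ X Y f x => (mulAction_naturality F' σ (H.map f) x).symm⟩
  haveI : ∀ X : C, ContinuousSMul (Aut F') ((H ⋙ F').obj X) := fun X =>
    continuousSMul_aut_fiber F' (H.obj X)
  have hc := toAut_continuous (H ⋙ F') (Aut F')
  have : (Pi1X.autWhisker H F' : Aut F' → Aut (H ⋙ F')) = toAut (H ⋙ F') (Aut F') := by
    funext σ
    ext X x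
    rfl
  rw [this]
  exact hc

theorem injective_of_cond
    (hc : ∀ X' : C', IsConnected X' → ∃ (X : C) (Y' : C') (p : Y' ⟶ X') (q : Y' ⟶ H.obj X),
      Epi p ∧ Mono q) : Function.Injective (Pi1X.autWhisker H F') := by
  rw [injective_iff_map_eq_one]
  intro σ hσ
  have htriv : ∀ (X : C) (x : F'.obj (H.obj X)), σ • x = x := by
    intro X x
    have h1 := congrArg (fun τ : Aut (H ⋙ F') => τ.hom.app X) hσ
    exact ConcreteCategory.congr_hom h1 x
  have hconn : ∀ (X' : C') [IsConnected X'] (x : F'.obj X'), σ • x = x := by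
    intro X' _ x
    obtain ⟨X, Y', p, q, hp, hq⟩ := hc X' inferInstance
    obtain ⟨y, rfl⟩ := surjective_on_fiber_of_epi F' p x
    rw [mulAction_naturality]
    congr 1
    apply ConcreteCategory.injective_of_mono_of_preservesPullback (F'.map q)
    rw [← mulAction_naturality, htriv]
  ext X' x
  obtain ⟨Y, i, y, rfl, hY, hi⟩ := fiber_in_connected_component F' X' x
  show σ • F'.map i y = F'.map i y
  rw [mulAction_naturality, hconn Y y]

theorem cond_of_injective (hinj : Function.Injective (Pi1X.autWhisker H F')) (X' : C')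
    [IsConnected X'] :
    ∃ (X : C) (Y' : C') (p : Y' ⟶ X') (q : Y' ⟶ H.obj X), Epi p ∧ Mono q := by
  classical
  obtain ⟨x'⟩ := nonempty_fiber_of_isConnected F' X'
  let U' : Set (Aut F') := MulAction.stabilizer (Aut F') x'
  have hU' : IsOpen U' := stabilizer_isOpen (Aut F') x'
  have hK : IsCompact (U'ᶜ) := hU'.isClosed_compl.isCompact
  have hhK : IsClosed (Pi1X.autWhisker H F' '' U'ᶜ) :=
    (hK.image (continuous_autWhisker H F')).isClosed
  have hV : IsOpen (Pi1X.autWhisker H F' '' U'ᶜ)ᶜ := hhK.isOpen_compl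
  have h1V : (1 : Aut (H ⋙ F')) ∈ (Pi1X.autWhisker H F' '' U'ᶜ)ᶜ := by
    rintro ⟨g, hg, hg1⟩
    have : g = 1 := hinj (hg1.trans (map_one (Pi1X.autWhisker H F')).symm)
    exact hg (this ▸ one_mem (MulAction.stabilizer (Aut F') x'))
  obtain ⟨P, -, hP⟩ := (nhds_one_has_basis_stabilizers (H ⋙ F')).mem_iff.mp (hV.mem_nhds h1V)
  let X : C := P.obj
  let x : F'.obj (H.obj X) := P.pt
  have hstab : ∀ σ : Aut F', σ • x = x → σ • x' = x' := by
    intro σ hσ
    by_contra hne
    have : Pi1X.autWhisker H F' σ ∈ (Pi1X.autWhisker H F' '' U'ᶜ)ᶜ := hP hσ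
    exact this ⟨σ, hne, rfl⟩
  obtain ⟨Y', q, y, hy, hY', hq⟩ := fiber_in_connected_component F' (H.obj X) x
  have htrans := FiberFunctor.isPretransitive_of_isConnected F' Y'
  choose s hs using fun e : F'.obj Y' => MulAction.exists_smul_eq (Aut F') y e
  let φfun : F'.obj Y' → F'.obj X' := fun e => s e • x'
  have hstab' : ∀ σ : Aut F', σ • y = y → σ • x' = x' := by
    intro σ hσ
    apply hstab
    rw [← hy, mulAction_naturality, hσ]
  have hφ : ∀ (ρ : Aut F') (e : F'.obj Y'), φfun (ρ • e) = ρ • φfun e := by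
    intro ρ e
    show s (ρ • e) • x' = ρ • (s e • x')
    have h1 : ((s (ρ • e))⁻¹ * ρ * s e) • y = y := by
      rw [mul_smul, mul_smul, hs e, inv_smul_eq_iff, hs (ρ • e)]
    have h2 := hstab' _ h1
    rw [mul_smul, mul_smul, inv_smul_eq_iff] at h2
    exact h2.symm
  let φ : (functorToAction F').obj Y' ⟶ (functorToAction F').obj X' :=
    { hom := FintypeCat.homMk φfun
      comm := fun σ => by
        ext e
        exact hφ σ e }
  obtain ⟨p, hp⟩ := (functorToAction F').map_surjective φ
  haveI : Nonempty (F'.obj Y') := ⟨y⟩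
  exact ⟨X, Y', p, q, epi_of_nonempty_of_isConnected F' p, hq⟩

theorem main :
    Function.Injective (Pi1X.autWhisker H F') ↔
      ∀ X' : C', IsConnected X' → ∃ (X : C) (Y' : C') (p : Y' ⟶ X') (q : Y' ⟶ H.obj X), Epi p ∧ Mono q :=
  ⟨fun hinj X' hX' => by haveI := hX'; exact cond_of_injective H F' hinj X', injective_of_cond H F'⟩

end

end helpers

/-- Let H : C ⥤ C' be an exact functor between Galois categories and F' a fibre functor on C' such that
F' ∘ H is a fibre functor on C; write h : π_1(C', F') → π_1(C, F' ∘ H) for the induced homomorphism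
of fundamental groups. Then h is injective if and only if for every connected object X' of C' there
are an object X of C, an object Y' of C', an epimorphism Y' ⟶ X' and a monomorphism Y' ⟶ H(X). -/
theorem result {C C' : Type u} [Category.{v} C] [Category.{v} C'] [GaloisCategory C] [GaloisCategory C']
    (H : C ⥤ C') [Limits.PreservesFiniteLimits H] [Limits.PreservesFiniteColimits H]
    (F' : C' ⥤ FintypeCat.{w}) [FiberFunctor F'] [FiberFunctor (H ⋙ F')] :
    Function.Injective (Pi1X.autWhisker H F') ↔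
      ∀ X' : C', IsConnected X' → ∃ (X : C) (Y' : C') (p : Y' ⟶ X') (q : Y' ⟶ H.obj X), Epi p ∧ Mono q := by
  exact main H F'

end Groth.Agent.S1188
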