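import Groth.Statements.S1189
import Mathlib

set_option autoImplicit false
universe u v w
open CategoryTheory PreGaloisCategory
open Pi1

namespace Groth.Agent.S1189

section helpers
open CategoryTheory PreGaloisCategory
open Pi1

open Limits

section
variable {C : Type u} [Category.{v} C] [GaloisCategory C] (F : C ⥤ FintypeCat.{w}) [FiberFunctor F]

theorem subsingleton_fiber_terminal : Subsingleton (F.obj (⊤_ C)) := by
  have h : IsTerminal (F.obj (⊤_ C)) :=
    IsTerminal.isTerminalObj F (⊤_ C) terminalIsTerminal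
  constructor
  intro a b
  have := h.hom_ext (FintypeCat.homMk (X := FintypeCat.of PUnit.{w+1}) (fun _ => a))
    (FintypeCat.homMk (fun _ => b))
  exact ConcreteCategory.congr_hom this PUnit.unit

theorem smul_eq_of_iso_coprod_terminal {Y : C} {n : ℕ} (e : Y ≅ ∐ fun _ : Fin n => ⊤_ C)
    (σ : Aut F) (x : F.obj Y) : σ • x = x := by
  have := subsingleton_fiber_terminal F
  set x' := F.map e.hom x with hx'
  have hx : x = F.map e.inv x' := by
    show x = (F.map e.hom ≫ F.map e.inv) x
    rw [← F.map_comp, e.hom_inv_id, F.map_id]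
    rfl
  have key : σ • x' = x' := by
    let c : Cofan (fun _ : Fin n => ⊤_ C) := Cofan.mk _ (Sigma.ι (fun _ : Fin n => ⊤_ C))
    have hc : IsColimit c := coproductIsCoproduct _
    have hc' : IsColimit (F.mapCocone c) := isColimitOfPreserves F hc
    obtain ⟨⟨j⟩, z, hz⟩ := Concrete.isColimit_exists_rep _ hc' x'
    have hz' : F.map (Sigma.ι (fun _ : Fin n => ⊤_ C) j) z = x' := hz
    rw [← hz', mulAction_naturality]
    congr 1
    exact Subsingleton.elim _ _
  rw [hx, mulAction_naturality, key]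

/-- A connected object on whose fibre `Aut F` acts trivially is terminal. -/
theorem isIso_terminal_from_of_isConnected (Y : C) [IsConnected Y]
    (h : ∀ (σ : Aut F) (x : F.obj Y), σ • x = x) : IsIso (terminal.from Y) := by
  have h1 : Subsingleton (F.obj Y) := by
    constructor
    intro a b
    obtain ⟨σ, hσ⟩ := MulAction.exists_smul_eq (Aut F) a b
    rw [← hσ, h]
  have h2 := subsingleton_fiber_terminal F
  have : IsIso (F.map (terminal.from Y)) := by
    apply (ConcreteCategory.isIso_iff_bijective (F.map (terminal.from Y))).mpr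
    constructor
    · intro a b _
      exact Subsingleton.elim _ _
    · intro z
      obtain ⟨y⟩ := nonempty_fiber_of_isConnected F Y
      exact ⟨y, Subsingleton.elim _ _⟩
  exact isIso_of_reflects_iso (terminal.from Y) F

theorem exists_iso_coprod_terminal_of_smul_eq (Y : C)
    (h : ∀ (σ : Aut F) (x : F.obj Y), σ • x = x) :
    ∃ n : ℕ, Nonempty (Y ≅ ∐ fun _ : Fin n => ⊤_ C) := by
  obtain ⟨ι, hι, f, e, hf⟩ := has_decomp_connected_components' Y
  have hiso : ∀ i, IsIso (terminal.from (f i)) := by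
    intro i
    haveI := hf i
    apply isIso_terminal_from_of_isConnected F
    intro σ x
    have hmono : Mono (Sigma.ι f i ≫ e.hom) := by
      haveI : Mono (Sigma.ι f i) :=
        MonoCoprod.mono_inj _ (Cofan.mk _ (Sigma.ι f)) (coproductIsCoproduct f) i
      infer_instance
    have hinj : Function.Injective (F.map (Sigma.ι f i ≫ e.hom)) :=
      ConcreteCategory.injective_of_mono_of_preservesPullback (F.map (Sigma.ι f i ≫ e.hom))
    apply hinj
    rw [← mulAction_naturality, h]
  obtain ⟨n, ⟨en⟩⟩ := Finite.exists_equiv_fin ι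
  refine ⟨n, ⟨e.symm ≪≫ ?_⟩⟩
  have e1 : ∐ f ≅ ∐ fun _ : ι => ⊤_ C :=
    Sigma.mapIso (fun i => asIso (terminal.from (f i)))
  have e2 : (∐ fun _ : ι => ⊤_ C) ≅ ∐ fun _ : Fin n => ⊤_ C :=
    (Sigma.reindex en.symm (fun _ : ι => ⊤_ C)).symm
  exact e1 ≪≫ e2

end

theorem main {C C' C'' : Type u} [Category.{v} C] [Category.{v} C'] [Category.{v} C'']
    [GaloisCategory C] [GaloisCategory C'] [GaloisCategory C'']
    (H : C ⥤ C') [Limits.PreservesFiniteLimits H] [Limits.PreservesFiniteColimits H]
    (H' : C' ⥤ C'') [Limits.PreservesFiniteLimits H'] [Limits.PreservesFiniteColimits H']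
    (F'' : C'' ⥤ FintypeCat.{w}) [FiberFunctor F''] [FiberFunctor (H' ⋙ F'')] [FiberFunctor (H ⋙ (H' ⋙ F''))] :
    (∀ σ : Aut F'', Pi1X.autWhisker H (H' ⋙ F'') (Pi1X.autWhisker H' F'' σ) = 1) ↔
      ∀ X : C, ∃ n : ℕ, Nonempty (H'.obj (H.obj X) ≅ ∐ fun _ : Fin n => ⊤_ C'') := by
  constructor
  · intro h X
    apply exists_iso_coprod_terminal_of_smul_eq F''
    intro σ x
    have h1 := congrArg (fun τ : Aut (H ⋙ (H' ⋙ F'')) => τ.hom.app X) (h σ)
    exact ConcreteCategory.congr_hom h1 x
  · intro h σ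
    ext X x
    obtain ⟨n, ⟨e⟩⟩ := h X
    exact smul_eq_of_iso_coprod_terminal F'' e σ x

end helpers

/-- Let H : C ⥤ C' and H' : C' ⥤ C'' be exact functors between Galois categories and F'' a fibre functor
on C'' such that F'' ∘ H' and F'' ∘ H' ∘ H are fibre functors; let h' : π_1(C'', F'') → π_1(C', F''
∘ H') and h : π_1(C', F'' ∘ H') → π_1(C, F'' ∘ H' ∘ H) be the induced homomorphisms. Then h ∘ h' is
trivial if and only if for every object X of C the object H'(H(X)) is isomorphic to a finite
coproduct of copies of the final object. -/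
theorem result {C C' C'' : Type u} [Category.{v} C] [Category.{v} C'] [Category.{v} C'']
    [GaloisCategory C] [GaloisCategory C'] [GaloisCategory C'']
    (H : C ⥤ C') [Limits.PreservesFiniteLimits H] [Limits.PreservesFiniteColimits H]
    (H' : C' ⥤ C'') [Limits.PreservesFiniteLimits H'] [Limits.PreservesFiniteColimits H']
    (F'' : C'' ⥤ FintypeCat.{w}) [FiberFunctor F''] [FiberFunctor (H' ⋙ F'')] [FiberFunctor (H ⋙ (H' ⋙ F''))] :
    (∀ σ : Aut F'', Pi1X.autWhisker H (H' ⋙ F'') (Pi1X.autWhisker H' F'' σ) = 1) ↔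
      ∀ X : C, ∃ n : ℕ, Nonempty (H'.obj (H.obj X) ≅ ∐ fun _ : Fin n => ⊤_ C'') := by
  exact main H H' F''

end Groth.Agent.S1189
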