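import Groth.Statements.S5146
import Mathlib
import Groth.Agent.S1187

set_option autoImplicit false
universe u v w
open CategoryTheory PreGaloisCategory
open Pi1

namespace Groth.Agent.S5146

section helpers
open CategoryTheory PreGaloisCategory
open Pi1

open Limits

theorem main {C C' : Type u} [Category.{v} C] [Category.{v} C']
    [GaloisCategory C] [GaloisCategory C'] (H : C ⥤ C') [PreservesFiniteLimits H] [PreservesFiniteColimits H]
    (F' : C' ⥤ FintypeCat.{w}) [FiberFunctor F'] [FiberFunctor (H ⋙ F')] (X : C) [IsConnected X]
    (a : (H ⋙ F').obj X) :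
    (Pi1X.autWhisker H F').range ≤ MulAction.stabilizer (Aut (H ⋙ F')) a ↔
      ∃ s : ⊤_ C' ⟶ H.obj X, ∀ t : F'.obj (⊤_ C'), F'.map s t = a := by
  have hsub := Groth.Agent.S1187.subsingleton_fiber_terminal F'
  constructor
  · intro hle
    have hfix : ∀ σ : Aut F', σ • (show F'.obj (H.obj X) from a) = a := by
      intro σ
      exact hle ⟨σ, rfl⟩
    let φ : (functorToAction F').obj (⊤_ C') ⟶ (functorToAction F').obj (H.obj X) :=
      { hom := FintypeCat.homMk (fun _ => a)
        comm := fun σ => by
          ext e
          exact (hfix σ).symm }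
    obtain ⟨s, hs⟩ := (functorToAction F').map_surjective φ
    refine ⟨s, fun t => ?_⟩
    have := congrArg (fun m => m.hom) hs
    exact ConcreteCategory.congr_hom this t
  · rintro ⟨s, hs⟩ _ ⟨σ, rfl⟩
    obtain ⟨t⟩ := Groth.Agent.S1187.nonempty_fiber_terminal F'
    show σ • (show F'.obj (H.obj X) from a) = a
    rw [← hs t, mulAction_naturality]
    congr 1
    exact hsub.elim _ _

end helpers

open CategoryTheory.Limits in
/-- For an exact functor H : C ⥤ C' of Galois categories with compatible fibre functors F' and F' ∘ H,
the induced homomorphism u of fundamental groups and a pointed connected object (X, a) of C with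
stabilizer U of a: the image of u lies in U if and only if H(X) has a section from the final object
of C' sending the point to a. -/
theorem result {C C' : Type u} [Category.{v} C] [Category.{v} C']
    [GaloisCategory C] [GaloisCategory C'] (H : C ⥤ C') [PreservesFiniteLimits H] [PreservesFiniteColimits H]
    (F' : C' ⥤ FintypeCat.{w}) [FiberFunctor F'] [FiberFunctor (H ⋙ F')] (X : C) [IsConnected X]
    (a : (H ⋙ F').obj X) :
    (Pi1X.autWhisker H F').range ≤ MulAction.stabilizer (Aut (H ⋙ F')) a ↔
      ∃ s : ⊤_ C' ⟶ H.obj X, ∀ t : F'.obj (⊤_ C'), F'.map s t = a := by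
  exact main H F' X a

end Groth.Agent.S5146
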