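import Groth.Statements.S5148
import Mathlib
import Groth.Agent.S1188

set_option autoImplicit false
universe u v w
open CategoryTheory PreGaloisCategory
open Pi1

namespace Groth.Agent.S5148

section helpers
open CategoryTheory PreGaloisCategory
open Pi1

open Limits

section
variable {C C' : Type u} [Category.{v} C] [Category.{v} C'] [GaloisCategory C] [GaloisCategory C']
    (H : C ⥤ C') [PreservesFiniteLimits H] [PreservesFiniteColimits H]
    (F' : C' ⥤ FintypeCat.{w}) [FiberFunctor F'] [FiberFunctor (H ⋙ F')]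

/-- If `ker u` fixes `a'`, some pointed connected subobject of some `H X` maps to `(X', a')`. -/
theorem exists_of_ker_le (X' : C') [IsConnected X'] (a' : F'.obj X')
    (hker : (Pi1X.autWhisker H F').ker ≤ MulAction.stabilizer (Aut F') a') :
    ∃ (X : C) (Y' : C') (i : Y' ⟶ H.obj X) (q : Y' ⟶ X') (y : F'.obj Y'),
      Mono i ∧ IsConnected Y' ∧ F'.map q y = a' := by
  classical
  let U' : Set (Aut F') := MulAction.stabilizer (Aut F') a'
  have hU' : IsOpen U' := stabilizer_isOpen (Aut F') a'
  have hK : IsCompact (U'ᶜ) := hU'.isClosed_compl.isCompact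
  have hhK : IsClosed (Pi1X.autWhisker H F' '' U'ᶜ) :=
    (hK.image (Groth.Agent.S1188.continuous_autWhisker H F')).isClosed
  have hV : IsOpen (Pi1X.autWhisker H F' '' U'ᶜ)ᶜ := hhK.isOpen_compl
  have h1V : (1 : Aut (H ⋙ F')) ∈ (Pi1X.autWhisker H F' '' U'ᶜ)ᶜ := by
    rintro ⟨g, hg, hg1⟩
    exact hg (hker hg1)
  obtain ⟨P, -, hP⟩ := (nhds_one_has_basis_stabilizers (H ⋙ F')).mem_iff.mp (hV.mem_nhds h1V)
  let X : C := P.obj
  let x : F'.obj (H.obj X) := P.pt
  have hstab : ∀ σ : Aut F', σ • x = x → σ • a' = a' := by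
    intro σ hσ
    by_contra hne
    have : Pi1X.autWhisker H F' σ ∈ (Pi1X.autWhisker H F' '' U'ᶜ)ᶜ := hP hσ
    exact this ⟨σ, hne, rfl⟩
  obtain ⟨Y', q, y, hy, hY', hq⟩ := fiber_in_connected_component F' (H.obj X) x
  have htrans := FiberFunctor.isPretransitive_of_isConnected F' Y'
  choose s hs using fun e : F'.obj Y' => MulAction.exists_smul_eq (Aut F') y e
  let φfun : F'.obj Y' → F'.obj X' := fun e => s e • a'
  have hstab' : ∀ σ : Aut F', σ • y = y → σ • a' = a' := by
    intro σ hσ
    apply hstab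
    rw [← hy, mulAction_naturality, hσ]
  have hφ : ∀ (ρ : Aut F') (e : F'.obj Y'), φfun (ρ • e) = ρ • φfun e := by
    intro ρ e
    show s (ρ • e) • a' = ρ • (s e • a')
    have h1 : ((s (ρ • e))⁻¹ * ρ * s e) • y = y := by
      rw [mul_smul, mul_smul, hs e, inv_smul_eq_iff, hs (ρ • e)]
    have h2 := hstab' _ h1
    rw [mul_smul, mul_smul, inv_smul_eq_iff] at h2
    exact h2.symm
  let φ : (functorToAction F').obj Y' ⟶ (functorToAction F').obj X' :=
    { hom := FintypeCat.homMk φfun
      comm := fun σ => by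
        ext e
        exact hφ σ e }
  obtain ⟨p, hp⟩ := (functorToAction F').map_surjective φ
  refine ⟨X, Y', q, p, y, hq, hY', ?_⟩
  have h3 := congrArg (fun m => m.hom) hp
  have h4 : F'.map p y = φfun y := ConcreteCategory.congr_hom h3 y
  rw [h4]
  exact hstab' _ (hs y)

theorem ker_le_of_exists (X' : C') [IsConnected X'] (a' : F'.obj X')
    (h : ∃ (X : C) (Y' : C') (i : Y' ⟶ H.obj X) (q : Y' ⟶ X'), Mono i ∧ IsConnected Y') :
    (Pi1X.autWhisker H F').ker ≤ MulAction.stabilizer (Aut F') a' := by
  obtain ⟨X, Y', i, q, hi, hY'⟩ := h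
  intro σ hσ
  rw [MonoidHom.mem_ker] at hσ
  have htriv : ∀ (x : F'.obj (H.obj X)), σ • x = x := by
    intro x
    have h1 := congrArg (fun τ : Aut (H ⋙ F') => τ.hom.app X) hσ
    exact ConcreteCategory.congr_hom h1 x
  rw [MulAction.mem_stabilizer_iff]
  haveI : Nonempty (F'.obj Y') := nonempty_fiber_of_isConnected F' Y'
  obtain ⟨y, rfl⟩ := surjective_of_nonempty_fiber_of_isConnected F' q a'
  rw [mulAction_naturality]
  congr 1
  apply ConcreteCategory.injective_of_mono_of_preservesPullback (F'.map i)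
  rw [← mulAction_naturality, htriv]

end

end helpers

open CategoryTheory.Limits in
/-- For an exact functor H : C ⥤ C' of Galois categories with compatible fibre functors, the induced
homomorphism u of fundamental groups and a connected object X' of C' with a point a' of its fibre
and stabilizer U': the kernel of u lies in U' if and only if some connected subobject of some H(X)
maps to X'. -/
theorem result {C C' : Type u} [Category.{v} C] [Category.{v} C']
    [GaloisCategory C] [GaloisCategory C'] (H : C ⥤ C') [PreservesFiniteLimits H] [PreservesFiniteColimits H]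
    (F' : C' ⥤ FintypeCat.{w}) [FiberFunctor F'] [FiberFunctor (H ⋙ F')] (X' : C') [IsConnected X']
    (a' : F'.obj X') :
    (Pi1X.autWhisker H F').ker ≤ MulAction.stabilizer (Aut F') a' ↔
      ∃ (X : C) (Y' : C') (i : Y' ⟶ H.obj X) (q : Y' ⟶ X'), Mono i ∧ IsConnected Y' := by
  constructor
  · intro hker
    obtain ⟨X, Y', i, q, y, hi, hY', -⟩ := exists_of_ker_le H F' X' a' hker
    exact ⟨X, Y', i, q, hi, hY'⟩
  · exact ker_le_of_exists H F' X' a'

end Groth.Agent.S5148
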