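import Groth.Statements.S5149
import Mathlib
import Groth.Agent.S1187
import Groth.Agent.S1188
import Groth.Agent.S5146
import Groth.Agent.S5148

set_option autoImplicit false
universe u v w
open CategoryTheory PreGaloisCategory
open Pi1

namespace Groth.Agent.S5149

section helpers
open CategoryTheory PreGaloisCategory
open Pi1

open Limits
open scoped FintypeCatDiscrete

theorem exists_pointed_connected_stabilizer_eq {C : Type u} [Category.{v} C] [GaloisCategory C]
    (F : C ⥤ FintypeCat.{w}) [FiberFunctor F] (V : Subgroup (Aut F))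
    (hV : IsOpen (V : Set (Aut F))) :
    ∃ (X : C) (_ : IsConnected X) (a : F.obj X), MulAction.stabilizer (Aut F) a = V := by
  classical
  haveI : Finite (Aut F ⧸ V) := V.quotient_finite_of_isOpen hV
  let n := Nat.card (Aut F ⧸ V)
  let e : (Aut F ⧸ V) ≃ ULift.{w} (Fin n) := (Finite.equivFin _).trans Equiv.ulift.symm
  letI actT : MulAction (Aut F) (ULift.{w} (Fin n)) :=
    { smul := fun g t => e (g • e.symm t)
      one_smul := fun t => by
        show e ((1 : Aut F) • e.symm t) = t
        rw [one_smul, Equiv.apply_symm_apply]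
      mul_smul := fun g h t => by
        show e ((g * h) • e.symm t) = e (g • e.symm (e (h • e.symm t)))
        rw [mul_smul, Equiv.symm_apply_apply] }
  have hsmul : ∀ (g : Aut F) (t : ULift.{w} (Fin n)), g • t = e (g • e.symm t) := fun _ _ => rfl
  let T : FintypeCat.{w} := FintypeCat.of (ULift.{w} (Fin n))
  letI : MulAction (Aut F) T := actT
  let Y : Action FintypeCat.{w} (Aut F) := Action.FintypeCat.ofMulAction (Aut F) T
  have hstabT : ∀ t : ULift.{w} (Fin n), IsOpen (MulAction.stabilizer (Aut F) t : Set (Aut F)) := by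
    intro t
    obtain ⟨g, hg⟩ := QuotientGroup.mk_surjective (e.symm t)
    have : (MulAction.stabilizer (Aut F) t : Set (Aut F)) = (fun x : Aut F => g⁻¹ * x * g) ⁻¹' (V : Set (Aut F)) := by
      ext x
      simp only [SetLike.mem_coe, MulAction.mem_stabilizer_iff, Set.mem_preimage, hsmul]
      rw [Equiv.apply_eq_iff_eq_symm_apply, ← hg]
      show ((x * g : Aut F) : Aut F ⧸ V) = (g : Aut F ⧸ V) ↔ _
      rw [eq_comm, QuotientGroup.eq, mul_assoc]
    rw [this]
    exact hV.preimage (by fun_prop)
  have hY : Y.IsContinuous := by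
    haveI : DiscreteTopology ((forget₂ (Action FintypeCat (Aut F)) TopCat).obj Y) := ⟨rfl⟩
    exact continuousSMul_iff_stabilizer_isOpen.mpr (fun t => hstabT t)
  obtain ⟨X, ⟨φ⟩⟩ := Functor.EssSurj.mem_essImage (F := functorToContAction F) ⟨Y, hY⟩
  -- the underlying equivariant bijection
  let ψ : (functorToAction F).obj X ≅ Y := (ObjectProperty.ι _).mapIso φ
  let f : F.obj X → ULift.{w} (Fin n) := fun x => ψ.hom.hom x
  let f' : ULift.{w} (Fin n) → F.obj X := fun t => ψ.inv.hom t
  have hf'f : ∀ x, f' (f x) = x := by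
    intro x
    have h1 : (ψ.hom ≫ ψ.inv).hom x = x := by
      rw [ψ.hom_inv_id]
      rfl
    exact h1
  have hff' : ∀ t, f (f' t) = t := by
    intro t
    have h1 : (ψ.inv ≫ ψ.hom).hom t = t := by
      rw [ψ.inv_hom_id]
      rfl
    exact h1
  have hψ : ∀ (g : Aut F) (x : F.obj X), f (g • x) = e (g • e.symm (f x)) := by
    intro g x
    have := ψ.hom.comm g
    exact ConcreteCategory.congr_hom this x
  have hinj : Function.Injective f := fun x y hxy => by
    rw [← hf'f x, ← hf'f y, hxy]
  obtain ⟨a, ha⟩ : ∃ a, f a = e ((1 : Aut F) : Aut F ⧸ V) := ⟨f' _, hff' _⟩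
  have hstab : MulAction.stabilizer (Aut F) a = V := by
    ext g
    rw [MulAction.mem_stabilizer_iff]
    constructor
    · intro hg
      have h1 := hψ g a
      rw [hg, ha, Equiv.symm_apply_apply, Equiv.apply_eq_iff_eq, eq_comm] at h1
      have h2 : ((g * 1 : Aut F) : Aut F ⧸ V) = ((1 : Aut F) : Aut F ⧸ V) := h1
      rw [eq_comm, QuotientGroup.eq] at h2
      simpa using h2
    · intro hg
      apply hinj
      rw [hψ, ha, Equiv.symm_apply_apply]
      congr 1
      show ((g * 1 : Aut F) : Aut F ⧸ V) = ((1 : Aut F) : Aut F ⧸ V)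
      rw [eq_comm, QuotientGroup.eq]
      simpa using hg
  have htrans : MulAction.IsPretransitive (Aut F) (F.obj X) := by
    constructor
    intro x y
    obtain ⟨gx, hgx⟩ := QuotientGroup.mk_surjective (e.symm (f x))
    obtain ⟨gy, hgy⟩ := QuotientGroup.mk_surjective (e.symm (f y))
    refine ⟨gy * gx⁻¹, hinj ?_⟩
    rw [hψ, ← hgx]
    rw [← Equiv.eq_symm_apply, ← hgy]
    show (((gy * gx⁻¹) * gx : Aut F) : Aut F ⧸ V) = _
    rw [inv_mul_cancel_right]
  haveI : Nonempty (F.obj X) := ⟨a⟩
  exact ⟨X, Groth.Agent.S1187.isConnected_of_isPretransitive F X, a, hstab⟩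


theorem main {C C' C'' : Type u} [Category.{v} C] [Category.{v} C'] [Category.{v} C'']
    [GaloisCategory C] [GaloisCategory C'] [GaloisCategory C'']
    (H : C ⥤ C') [PreservesFiniteLimits H] [PreservesFiniteColimits H]
    (H' : C' ⥤ C'') [PreservesFiniteLimits H'] [PreservesFiniteColimits H']
    (F'' : C'' ⥤ FintypeCat.{w}) [FiberFunctor F''] [FiberFunctor (H' ⋙ F'')] [FiberFunctor (H ⋙ (H' ⋙ F''))] :
    (Pi1X.autWhisker H (H' ⋙ F'')).ker ≤ (Pi1X.autWhisker H' F'').range ↔
      ∀ (X' : C') (a' : (H' ⋙ F'').obj X'), IsConnected X' →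
        (∃ s : ⊤_ C'' ⟶ H'.obj X', ∀ t : F''.obj (⊤_ C''), F''.map s t = a') →
          ∃ (X : C) (Y' : C') (i : Y' ⟶ H.obj X) (q : Y' ⟶ X'), Mono i ∧ IsConnected Y' := by
  constructor
  · intro hle X' a' hX' hs
    haveI := hX'
    have h1 : (Pi1X.autWhisker H' F'').range ≤ MulAction.stabilizer (Aut (H' ⋙ F'')) a' :=
      (Groth.Agent.S5146.result H' F'' X' a').mpr hs
    exact (Groth.Agent.S5148.result H (H' ⋙ F'') X' a').mp (hle.trans h1)
  · intro hcond σ hσ
    have hclosed : IsClosed ((Pi1X.autWhisker H' F'').range : Set (Aut (H' ⋙ F''))) := by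
      rw [MonoidHom.coe_range]
      exact (isCompact_range (Groth.Agent.S1188.continuous_autWhisker H' F'')).isClosed
    let K : ClosedSubgroup (Aut (H' ⋙ F'')) := ⟨(Pi1X.autWhisker H' F'').range, hclosed⟩
    have hK := ProfiniteGrp.closedSubgroup_eq_sInf_open K
    have hmem : σ ∈ sInf {N : Subgroup (Aut (H' ⋙ F'')) | IsOpen (N : Set (Aut (H' ⋙ F''))) ∧
        (K : Subgroup (Aut (H' ⋙ F''))) ≤ N} := by
      rw [Subgroup.mem_sInf]
      rintro V ⟨hVopen, hKV⟩
      obtain ⟨X', hX', a', ha'⟩ := exists_pointed_connected_stabilizer_eq (H' ⋙ F'') V hVopen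
      haveI := hX'
      have h1 : (Pi1X.autWhisker H' F'').range ≤ MulAction.stabilizer (Aut (H' ⋙ F'')) a' := by
        rw [ha']
        exact hKV
      have hs := (Groth.Agent.S5146.result H' F'' X' a').mp h1
      have h2 := hcond X' a' hX' hs
      have h3 := (Groth.Agent.S5148.result H (H' ⋙ F'') X' a').mpr h2
      rw [← ha']
      exact h3 hσ
    rw [← hK] at hmem
    exact hmem

end helpers

open CategoryTheory.Limits in
/-- For exact functors H : C ⥤ C', H' : C' ⥤ C'' of Galois categories with compatible fibre functors and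
induced homomorphisms u' and u of fundamental groups, the kernel of u is contained in the image of
u' if and only if every pointed connected object (X', a') of C' for which H'(X') has a section from
the final object through a' admits a morphism from a connected subobject of some H(X). (The
published statement writes this inclusion as Ker u ⊇ Im u', which is the condition that u ∘ u' be
trivial; this row states Ker u ⊆ Im u', which is what the published argument establishes.) -/
theorem result {C C' C'' : Type u} [Category.{v} C] [Category.{v} C'] [Category.{v} C'']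
    [GaloisCategory C] [GaloisCategory C'] [GaloisCategory C'']
    (H : C ⥤ C') [PreservesFiniteLimits H] [PreservesFiniteColimits H]
    (H' : C' ⥤ C'') [PreservesFiniteLimits H'] [PreservesFiniteColimits H']
    (F'' : C'' ⥤ FintypeCat.{w}) [FiberFunctor F''] [FiberFunctor (H' ⋙ F'')] [FiberFunctor (H ⋙ (H' ⋙ F''))] :
    (Pi1X.autWhisker H (H' ⋙ F'')).ker ≤ (Pi1X.autWhisker H' F'').range ↔
      ∀ (X' : C') (a' : (H' ⋙ F'').obj X'), IsConnected X' →
        (∃ s : ⊤_ C'' ⟶ H'.obj X', ∀ t : F''.obj (⊤_ C''), F''.map s t = a') →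
          ∃ (X : C) (Y' : C') (i : Y' ⟶ H.obj X) (q : Y' ⟶ X'), Mono i ∧ IsConnected Y' := by
  exact main H H' F''

end Groth.Agent.S5149
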