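import Groth.Statements.S1190
import Mathlib
import Groth.Agent.S1187
import Groth.Agent.S1188
import Groth.Agent.S1189
import Groth.Agent.S5149

set_option autoImplicit false
universe u v w
open CategoryTheory PreGaloisCategory
open Pi1

namespace Groth.Agent.S1190

section helpers
open CategoryTheory PreGaloisCategory
open Pi1

open Limits

section
variable {C : Type u} [Category.{v} C] [GaloisCategory C] (F : C ⥤ FintypeCat.{w}) [FiberFunctor F]

theorem exists_hom_of_stabilizer_le (Y : C) [IsConnected Y] (y : F.obj Y) (X : C) (a : F.obj X)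
    (h : MulAction.stabilizer (Aut F) y ≤ MulAction.stabilizer (Aut F) a) :
    ∃ q : Y ⟶ X, F.map q y = a := by
  classical
  have htrans := FiberFunctor.isPretransitive_of_isConnected F Y
  choose s hs using fun e : F.obj Y => MulAction.exists_smul_eq (Aut F) y e
  let φfun : F.obj Y → F.obj X := fun e => s e • a
  have hstab' : ∀ σ : Aut F, σ • y = y → σ • a = a := fun σ hσ => h hσ
  have hφ : ∀ (ρ : Aut F) (e : F.obj Y), φfun (ρ • e) = ρ • φfun e := by
    intro ρ e
    show s (ρ • e) • a = ρ • (s e • a)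
    have h1 : ((s (ρ • e))⁻¹ * ρ * s e) • y = y := by
      rw [mul_smul, mul_smul, hs e, inv_smul_eq_iff, hs (ρ • e)]
    have h2 := hstab' _ h1
    rw [mul_smul, mul_smul, inv_smul_eq_iff] at h2
    exact h2.symm
  let φ : (functorToAction F).obj Y ⟶ (functorToAction F).obj X :=
    { hom := FintypeCat.homMk φfun
      comm := fun σ => by
        ext e
        exact hφ σ e }
  obtain ⟨p, hp⟩ := (functorToAction F).map_surjective φ
  refine ⟨p, ?_⟩
  have h3 := congrArg (fun m => m.hom) hp
  have h4 : F.map p y = φfun y := ConcreteCategory.congr_hom h3 y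
  rw [h4]
  exact hstab' _ (hs y)

theorem nonempty_iso_of_stabilizer_eq (Y X : C) [IsConnected Y] [IsConnected X] (y : F.obj Y)
    (a : F.obj X) (h : MulAction.stabilizer (Aut F) y = MulAction.stabilizer (Aut F) a) :
    Nonempty (Y ≅ X) := by
  obtain ⟨q, hq⟩ := exists_hom_of_stabilizer_le F Y y X a h.le
  obtain ⟨q', hq'⟩ := exists_hom_of_stabilizer_le F X a Y y h.ge
  refine ⟨⟨q, q', ?_, ?_⟩⟩
  · apply evaluation_injective_of_isConnected F Y Y y
    show F.map (q ≫ q') y = F.map (𝟙 Y) y
    rw [F.map_comp, F.map_id]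
    show F.map q' (F.map q y) = y
    rw [hq, hq']
  · apply evaluation_injective_of_isConnected F X X a
    show F.map (q' ≫ q) a = F.map (𝟙 X) a
    rw [F.map_comp, F.map_id]
    show F.map q (F.map q' a) = a
    rw [hq', hq]

/-- The kernel of the action on a fibre is a closed subgroup. -/
theorem isClosed_ker_toPermHom (X : C) :
    IsClosed ((MulAction.toPermHom (Aut F) (F.obj X)).ker : Set (Aut F)) := by
  have : ((MulAction.toPermHom (Aut F) (F.obj X)).ker : Set (Aut F)) =
      ⋂ x : F.obj X, (MulAction.stabilizer (Aut F) x : Set (Aut F)) := by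
    ext σ
    simp only [SetLike.mem_coe, MonoidHom.mem_ker, Set.mem_iInter, MulAction.mem_stabilizer_iff]
    constructor
    · intro h x
      exact congrArg (fun p : Equiv.Perm (F.obj X) => p x) h
    · intro h
      ext x
      exact h x
  rw [this]
  exact isClosed_iInter fun x => Subgroup.isClosed_of_isOpen _ (stabilizer_isOpen (Aut F) x)

end

section
variable {C C' C'' : Type u} [Category.{v} C] [Category.{v} C'] [Category.{v} C'']
    [GaloisCategory C] [GaloisCategory C'] [GaloisCategory C'']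
    (H : C ⥤ C') [PreservesFiniteLimits H] [PreservesFiniteColimits H]
    (H' : C' ⥤ C'') [PreservesFiniteLimits H'] [PreservesFiniteColimits H']
    (F'' : C'' ⥤ FintypeCat.{w}) [FiberFunctor F''] [FiberFunctor (H' ⋙ F'')]

/-- `H' X'` is totally split iff the image of `π₁(C'')` acts trivially on the fibre of `X'`. -/
theorem split_iff_range_trivial (X' : C') :
    (∃ n : ℕ, Nonempty (H'.obj X' ≅ ∐ fun _ : Fin n => ⊤_ C'')) ↔
      ∀ (σ : Aut F'') (x : F''.obj (H'.obj X')), σ • x = x := by
  constructor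
  · rintro ⟨n, ⟨e⟩⟩ σ x
    exact Groth.Agent.S1189.smul_eq_of_iso_coprod_terminal F'' e σ x
  · intro h
    exact Groth.Agent.S1189.exists_iso_coprod_terminal_of_smul_eq F'' (H'.obj X') h

theorem range_trivial_iff_le_ker (X' : C') :
    (∀ (σ : Aut F'') (x : F''.obj (H'.obj X')), σ • x = x) ↔
      (Subgroup.normalClosure (Set.range (Pi1X.autWhisker H' F''))).topologicalClosure ≤
        (MulAction.toPermHom (Aut (H' ⋙ F'')) ((H' ⋙ F'').obj X')).ker := by
  constructor
  · intro h
    apply Subgroup.topologicalClosure_minimal _ _ (isClosed_ker_toPermHom (H' ⋙ F'') X')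
    apply Subgroup.normalClosure_le_normal
    rintro _ ⟨σ, rfl⟩
    rw [SetLike.mem_coe, MonoidHom.mem_ker]
    ext x
    exact h σ x
  · intro h σ x
    have h1 : Pi1X.autWhisker H' F'' σ ∈
        (Subgroup.normalClosure (Set.range (Pi1X.autWhisker H' F''))).topologicalClosure :=
      Subgroup.le_topologicalClosure _ (Subgroup.subset_normalClosure ⟨σ, rfl⟩)
    have h2 := h h1
    rw [MonoidHom.mem_ker] at h2
    exact congrArg (fun p : Equiv.Perm ((H' ⋙ F'').obj X') => p x) h2

end

section
variable {C C' : Type u} [Category.{v} C] [Category.{v} C'] [GaloisCategory C] [GaloisCategory C']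
    (H : C ⥤ C') [PreservesFiniteLimits H] [PreservesFiniteColimits H]
    (F' : C' ⥤ FintypeCat.{w}) [FiberFunctor F'] [FiberFunctor (H ⋙ F')]

theorem exists_iso_of_connected [H.Full] (hs : Function.Surjective (Pi1X.autWhisker H F'))
    (X' : C') [IsConnected X'] (a' : F'.obj X')
    (hker : (Pi1X.autWhisker H F').ker ≤ MulAction.stabilizer (Aut F') a') :
    ∃ X : C, Nonempty (H.obj X ≅ X') := by
  let U' := MulAction.stabilizer (Aut F') a'
  let U : Subgroup (Aut (H ⋙ F')) := U'.map (Pi1X.autWhisker H F')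
  have hcomap : U.comap (Pi1X.autWhisker H F') = U' := by
    rw [Subgroup.comap_map_eq]
    exact sup_eq_left.mpr hker
  have hcont := Groth.Agent.S1188.continuous_autWhisker H F'
  have hq : Topology.IsQuotientMap (Pi1X.autWhisker H F') :=
    (hcont.isClosedMap).isQuotientMap hcont hs
  have hUopen : IsOpen (U : Set (Aut (H ⋙ F'))) := by
    rw [← hq.isOpen_preimage]
    have : ((Pi1X.autWhisker H F') ⁻¹' (U : Set _)) = (U' : Set (Aut F')) := by
      rw [← hcomap]
      rfl
    rw [this]
    exact stabilizer_isOpen (Aut F') a'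
  obtain ⟨X, hX, a, ha⟩ :=
    Groth.Agent.S5149.exists_pointed_connected_stabilizer_eq (H ⋙ F') U hUopen
  haveI := hX
  haveI := Groth.Agent.S1187.isConnected_map_of_full H F' X
  refine ⟨X, nonempty_iso_of_stabilizer_eq F' (H.obj X) X' (show F'.obj (H.obj X) from a) a' ?_⟩
  show _ = U'
  rw [← hcomap, ← ha]
  ext σ
  rfl

theorem exists_iso_of_ker_le [H.Full] (hs : Function.Surjective (Pi1X.autWhisker H F'))
    (X' : C')
    (hker : (Pi1X.autWhisker H F').ker ≤ (MulAction.toPermHom (Aut F') (F'.obj X')).ker) :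
    ∃ X : C, Nonempty (H.obj X ≅ X') := by
  obtain ⟨ι, hι, f, e, hf⟩ := has_decomp_connected_components' X'
  have hi : ∀ i, ∃ X : C, Nonempty (H.obj X ≅ f i) := by
    intro i
    haveI := hf i
    obtain ⟨y⟩ := nonempty_fiber_of_isConnected F' (f i)
    apply exists_iso_of_connected H F' hs (f i) y
    intro σ hσ
    rw [MulAction.mem_stabilizer_iff]
    have h1 := hker hσ
    rw [MonoidHom.mem_ker] at h1
    have hmono : Mono (Sigma.ι f i ≫ e.hom) := by
      haveI : Mono (Sigma.ι f i) :=
        MonoCoprod.mono_inj _ (Cofan.mk _ (Sigma.ι f)) (coproductIsCoproduct f) i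
      infer_instance
    apply ConcreteCategory.injective_of_mono_of_preservesPullback (F'.map (Sigma.ι f i ≫ e.hom))
    rw [← mulAction_naturality]
    exact congrArg (fun p : Equiv.Perm (F'.obj X') => p _) h1
  choose Xi hXi using hi
  haveI : Fintype ι := Fintype.ofFinite ι
  refine ⟨∐ Xi, ⟨?_⟩⟩
  exact PreservesCoproduct.iso H Xi ≪≫ Sigma.mapIso (fun i => (hXi i).some) ≪≫ e

end

section
variable {C C' C'' : Type u} [Category.{v} C] [Category.{v} C'] [Category.{v} C'']
    [GaloisCategory C] [GaloisCategory C'] [GaloisCategory C'']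
    (H : C ⥤ C') [PreservesFiniteLimits H] [PreservesFiniteColimits H]
    (H' : C' ⥤ C'') [PreservesFiniteLimits H'] [PreservesFiniteColimits H']
    (F'' : C'' ⥤ FintypeCat.{w}) [FiberFunctor F''] [FiberFunctor (H' ⋙ F'')]
    [FiberFunctor (H ⋙ (H' ⋙ F''))]

theorem forward
    (hs : Function.Surjective (Pi1X.autWhisker H (H' ⋙ F'')))
    (ht : ∀ σ : Aut F'', Pi1X.autWhisker H (H' ⋙ F'') (Pi1X.autWhisker H' F'' σ) = 1)
    (hk : (Pi1X.autWhisker H (H' ⋙ F'')).ker =
      (Subgroup.normalClosure (Set.range (Pi1X.autWhisker H' F''))).topologicalClosure) :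
    (H.Full ∧ H.Faithful) ∧
      ∀ X' : C', (∃ X : C, Nonempty (H.obj X ≅ X')) ↔
        ∃ n : ℕ, Nonempty (H'.obj X' ≅ ∐ fun _ : Fin n => ⊤_ C'') := by
  have hfull : H.Full := Groth.Agent.S1187.full_of_surjective H (H' ⋙ F'') hs
  refine ⟨⟨hfull, Functor.Faithful.of_comp H (H' ⋙ F'')⟩, fun X' => ⟨?_, ?_⟩⟩
  · rintro ⟨X, ⟨e⟩⟩
    obtain ⟨n, ⟨e'⟩⟩ := (Groth.Agent.S1189.result H H' F'').mp ht X
    exact ⟨n, ⟨H'.mapIso e.symm ≪≫ e'⟩⟩
  · intro hsplit
    have h1 := (range_trivial_iff_le_ker H' F'' X').mp ((split_iff_range_trivial H' F'' X').mp hsplit)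
    rw [← hk] at h1
    exact exists_iso_of_ker_le H (H' ⋙ F'') hs X' h1

theorem backward [H.Full]
    (hess : ∀ X' : C', (∃ X : C, Nonempty (H.obj X ≅ X')) ↔
        ∃ n : ℕ, Nonempty (H'.obj X' ≅ ∐ fun _ : Fin n => ⊤_ C'')) :
    Function.Surjective (Pi1X.autWhisker H (H' ⋙ F'')) ∧
      (∀ σ : Aut F'', Pi1X.autWhisker H (H' ⋙ F'') (Pi1X.autWhisker H' F'' σ) = 1) ∧
      (Pi1X.autWhisker H (H' ⋙ F'')).ker =
        (Subgroup.normalClosure (Set.range (Pi1X.autWhisker H' F''))).topologicalClosure := by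
  have hs := Groth.Agent.S1187.surjective_of_full H (H' ⋙ F'')
  have ht : ∀ σ : Aut F'', Pi1X.autWhisker H (H' ⋙ F'') (Pi1X.autWhisker H' F'' σ) = 1 :=
    (Groth.Agent.S1189.result H H' F'').mpr (fun X => (hess (H.obj X)).mp ⟨X, ⟨Iso.refl _⟩⟩)
  refine ⟨hs, ht, le_antisymm ?_ ?_⟩
  · intro σ hσ
    have hnormal : ((Subgroup.normalClosure (Set.range (Pi1X.autWhisker H' F''))).topologicalClosure).Normal :=
      Subgroup.is_normal_topologicalClosure _
    let K : ClosedSubgroup (Aut (H' ⋙ F'')) :=
      ⟨(Subgroup.normalClosure (Set.range (Pi1X.autWhisker H' F''))).topologicalClosure,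
        Subgroup.isClosed_topologicalClosure _⟩
    have hK := ProfiniteGrp.closedSubgroup_eq_sInf_open K
    have hmem : σ ∈ sInf {N : Subgroup (Aut (H' ⋙ F'')) | IsOpen (N : Set (Aut (H' ⋙ F''))) ∧
        (K : Subgroup (Aut (H' ⋙ F''))) ≤ N} := by
      rw [Subgroup.mem_sInf]
      rintro V ⟨hVopen, hKV⟩
      obtain ⟨X', hX', a', ha'⟩ :=
        Groth.Agent.S5149.exists_pointed_connected_stabilizer_eq (H' ⋙ F'') V hVopen
      haveI := hX'
      -- `N` acts trivially on the fibre of `X'`
      have hNker : (Subgroup.normalClosure (Set.range (Pi1X.autWhisker H' F''))).topologicalClosure ≤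
          (MulAction.toPermHom (Aut (H' ⋙ F'')) ((H' ⋙ F'').obj X')).ker := by
        intro ν hν
        rw [MonoidHom.mem_ker]
        ext x
        obtain ⟨τ, hτ⟩ := MulAction.exists_smul_eq (Aut (H' ⋙ F'')) a' x
        show ν • x = x
        have h1 : τ⁻¹ * ν * τ ∈ (Subgroup.normalClosure (Set.range (Pi1X.autWhisker H' F''))).topologicalClosure := by
          have := hnormal.conj_mem ν hν τ⁻¹
          simpa using this
        have h2 : τ⁻¹ * ν * τ ∈ MulAction.stabilizer (Aut (H' ⋙ F'')) a' := by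
          rw [ha']
          exact hKV h1
        rw [MulAction.mem_stabilizer_iff, mul_smul, mul_smul, hτ, inv_smul_eq_iff, hτ] at h2
        exact h2
      have hsplit := (split_iff_range_trivial H' F'' X').mpr
        ((range_trivial_iff_le_ker H' F'' X').mpr hNker)
      obtain ⟨X, ⟨e⟩⟩ := (hess X').mpr hsplit
      rw [← ha', MulAction.mem_stabilizer_iff]
      rw [MonoidHom.mem_ker] at hσ
      have htriv : ∀ (x : (H' ⋙ F'').obj (H.obj X)), σ • x = x := by
        intro x
        have h1 := congrArg (fun τ : Aut (H ⋙ (H' ⋙ F'')) => τ.hom.app X) hσ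
        exact ConcreteCategory.congr_hom h1 x
      have ha'' : a' = (H' ⋙ F'').map e.hom ((H' ⋙ F'').map e.inv a') := by
        show a' = ((H' ⋙ F'').map e.inv ≫ (H' ⋙ F'').map e.hom) a'
        rw [← CategoryTheory.Functor.map_comp, e.inv_hom_id, CategoryTheory.Functor.map_id]
        rfl
      rw [ha'', mulAction_naturality, htriv]
    rw [← hK] at hmem
    exact hmem
  · apply Subgroup.topologicalClosure_minimal
    · apply Subgroup.normalClosure_le_normal
      rintro _ ⟨σ, rfl⟩
      exact ht σ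
    · have : ((Pi1X.autWhisker H (H' ⋙ F'')).ker : Set (Aut (H' ⋙ F''))) =
          (Pi1X.autWhisker H (H' ⋙ F'')) ⁻¹' {1} := by
        ext σ
        simp [MonoidHom.mem_ker]
      rw [this]
      exact isClosed_singleton.preimage (Groth.Agent.S1188.continuous_autWhisker H (H' ⋙ F''))

end

end helpers

/-- Let H : C ⥤ C' and H' : C' ⥤ C'' be exact functors between Galois categories, F'' a fibre functor on
C'' with F'' ∘ H' and F'' ∘ H' ∘ H fibre functors, and h', h the induced homomorphisms of
fundamental groups. Then: h is surjective, h ∘ h' is trivial and the kernel of h is the closed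
normal subgroup generated by the image of h', if and only if H is fully faithful and its essential
image consists exactly of those X' in C' for which H'(X') is a finite coproduct of copies of the
final object. -/
theorem result {C C' C'' : Type u} [Category.{v} C] [Category.{v} C'] [Category.{v} C'']
    [GaloisCategory C] [GaloisCategory C'] [GaloisCategory C'']
    (H : C ⥤ C') [Limits.PreservesFiniteLimits H] [Limits.PreservesFiniteColimits H]
    (H' : C' ⥤ C'') [Limits.PreservesFiniteLimits H'] [Limits.PreservesFiniteColimits H']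
    (F'' : C'' ⥤ FintypeCat.{w}) [FiberFunctor F''] [FiberFunctor (H' ⋙ F'')] [FiberFunctor (H ⋙ (H' ⋙ F''))] :
    (Function.Surjective (Pi1X.autWhisker H (H' ⋙ F'')) ∧
      (∀ σ : Aut F'', Pi1X.autWhisker H (H' ⋙ F'') (Pi1X.autWhisker H' F'' σ) = 1) ∧
      (Pi1X.autWhisker H (H' ⋙ F'')).ker = (Subgroup.normalClosure (Set.range (Pi1X.autWhisker H' F''))).topologicalClosure) ↔
    ((H.Full ∧ H.Faithful) ∧
      ∀ X' : C', (∃ X : C, Nonempty (H.obj X ≅ X')) ↔ ∃ n : ℕ, Nonempty (H'.obj X' ≅ ∐ fun _ : Fin n => ⊤_ C'')) := by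
  constructor
  · rintro ⟨hs, ht, hk⟩
    exact forward H H' F'' hs ht hk
  · rintro ⟨⟨hfull, -⟩, hess⟩
    exact backward H H' F'' hess

end Groth.Agent.S1190
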