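import Groth.Statements.S1191
import Groth.Agent.Lib.Helper26.FiberAss

set_option autoImplicit false
universe u
open FlatMor

namespace Groth.Agent.S1191

open TensorProduct in
/-- For a finitely presented algebra S over R, a finitely presented S-module N and a prime q of S over
p, some element of S outside q maps into every associated prime of the fibre module of N over p that
is not contained in the extension of q to the fibre ring. -/
theorem result {R S : Type u} [CommRing R] [CommRing S] [Algebra R S] [Algebra.FinitePresentation R S]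
    (N : Type u) [AddCommGroup N] [Module S N] [Module R N] [IsScalarTower R S N] [Module.FinitePresentation S N]
    (p : Ideal R) [p.IsPrime] (q : Ideal S) [q.IsPrime] [q.LiesOver p] :
    ∃ g : S, g ∉ q ∧ ∀ r ∈ associatedPrimes (p.Fiber S) (FlatCA.fiberMod p S N),
      ¬ r ≤ FlatCA.fiberIdeal p q → (1 : p.ResidueField) ⊗ₜ[R] g ∈ r := by
  classical
  letI : Algebra S (p.Fiber S) := Algebra.TensorProduct.rightAlgebra
  haveI : Algebra.FiniteType p.ResidueField (p.Fiber S) := inferInstance
  haveI : IsNoetherianRing (p.Fiber S) := Algebra.FiniteType.isNoetherianRing p.ResidueField _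
  haveI : Module.Finite (p.Fiber S) (FlatCA.fiberMod p S N) :=
    inferInstanceAs (Module.Finite (p.Fiber S) ((p.Fiber S) ⊗[S] N))
  have hfin : (associatedPrimes (p.Fiber S) (FlatCA.fiberMod p S N)).Finite :=
    associatedPrimes.finite _ _
  -- the key pointwise choice
  have key : ∀ r : Ideal (p.Fiber S), ¬ r ≤ FlatCA.fiberIdeal p q →
      ∃ g : S, g ∉ q ∧ (1 : p.ResidueField) ⊗ₜ[R] g ∈ r := by
    intro r hr
    obtain ⟨z, hzr, hzJ⟩ := SetLike.not_le_iff_exists.1 hr
    obtain ⟨t, ht, s, hts⟩ := Ideal.Fiber.exists_smul_eq_one_tmul p (S := S) z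
    refine ⟨s, ?_, ?_⟩
    · intro hsq
      apply hzJ
      have h1 : (1 : p.ResidueField) ⊗ₜ[R] s ∈ FlatCA.fiberIdeal p q := by
        have : (Algebra.TensorProduct.includeRight (R := R) (A := p.ResidueField) (B := S)).toRingHom s
            ∈ FlatCA.fiberIdeal p q := Ideal.mem_map_of_mem _ hsq
        simpa using this
      rw [← hts, Groth.Agent.Lib.Helper26.FiberAss.smul_eq_includeRight_mul] at h1
      exact (Ideal.unit_mul_mem_iff_mem _
        (Groth.Agent.Lib.Helper26.FiberAss.isUnit_includeRight_algebraMap p ht)).1 h1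
    · rw [← hts, Algebra.smul_def]
      exact Ideal.mul_mem_left _ _ hzr
  choose! gf hgq hgr using key
  refine ⟨∏ r ∈ hfin.toFinset.filter (fun r => ¬ r ≤ FlatCA.fiberIdeal p q), gf r, ?_, ?_⟩
  · intro hmem
    rw [Ideal.IsPrime.prod_mem_iff] at hmem
    obtain ⟨r, hr, hrq⟩ := hmem
    rw [Finset.mem_filter] at hr
    exact hgq r hr.2 hrq
  · intro r hr hrJ
    have hmem : r ∈ hfin.toFinset.filter (fun r => ¬ r ≤ FlatCA.fiberIdeal p q) := by
      rw [Finset.mem_filter, Set.Finite.mem_toFinset]
      exact ⟨hr, hrJ⟩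
    have hdvd := Finset.dvd_prod_of_mem gf hmem
    obtain ⟨c, hc⟩ := hdvd
    rw [hc]
    have : (1 : p.ResidueField) ⊗ₜ[R] (gf r * c) =
        ((1 : p.ResidueField) ⊗ₜ[R] gf r) * ((1 : p.ResidueField) ⊗ₜ[R] c) := by
      rw [Algebra.TensorProduct.tmul_mul_tmul, one_mul]
    rw [this]
    exact Ideal.mul_mem_right _ _ (hgr r hrJ)

end Groth.Agent.S1191
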