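import Groth.Statements.S1193
import Groth.Agent.Lib27.Misc.NzdLoc
import Groth.Agent.Lib.Helper26.FiberAss

set_option autoImplicit false
universe u
open FlatMor

namespace Groth.Agent.S1193

open IsLocalRing in
/-- Let R be a local ring, S an R-algebra whose closed fibre ring is Noetherian and N an S-module whose
closed fibre module N/𝔪N is finite. Let Σ be the set of elements of S acting injectively on N/𝔪N.
Then a prime of S is disjoint from Σ exactly when it lies inside an associated prime of N/𝔪N (the
primes of the localization at Σ), the localization of S at Σ has finitely many maximal ideals, and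
an ideal of that localization is maximal exactly when it is prime and contracts to a maximal member
of the set of associated primes of N/𝔪N. -/
theorem result {R S : Type u} [CommRing R] [IsLocalRing R] [CommRing S] [Algebra R S]
    (N : Type u) [AddCommGroup N] [Module S N] [Module R N] [IsScalarTower R S N]
    [IsNoetherianRing ((maximalIdeal R).Fiber S)]
    [Module.Finite ((maximalIdeal R).Fiber S) (FlatCA.fiberMod (maximalIdeal R) S N)] :
    (∀ (q : Ideal S) [q.IsPrime], Disjoint (q : Set S) (FlatCA.nzdFiber R S N) ↔
        ∃ q' ∈ associatedPrimes S (FlatCA.fiberMod (maximalIdeal R) S N), q ≤ q') ∧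
    {Q : Ideal (Localization (FlatCA.nzdFiber R S N)) | Q.IsMaximal}.Finite ∧
    (∀ Q : Ideal (Localization (FlatCA.nzdFiber R S N)), Q.IsMaximal ↔ (Q.IsPrime ∧
        Maximal (fun r => r ∈ associatedPrimes S (FlatCA.fiberMod (maximalIdeal R) S N))
          (Q.comap (algebraMap S (Localization (FlatCA.nzdFiber R S N)))))) := by
  classical
  letI := Algebra.TensorProduct.rightAlgebra (R := R) (A := (maximalIdeal R).ResidueField) (B := S)
  set F := (maximalIdeal R).Fiber S with hF
  set X := FlatCA.fiberMod (maximalIdeal R) S N with hX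
  let φ : S →+* F := (Algebra.TensorProduct.includeRight (R := R)
    (A := (maximalIdeal R).ResidueField) (B := S)).toRingHom
  have hc : ∀ (s : S) (x : X), φ s • x = s • x := fun s x =>
    Groth.Agent.Lib.Helper26.FiberAss.includeRight_smul (maximalIdeal R) N s x
  have hφ : Function.Surjective φ := by
    intro z
    induction z using TensorProduct.induction_on with
    | zero => exact ⟨0, map_zero φ⟩
    | tmul c s =>
      obtain ⟨r, rfl⟩ := Ideal.algebraMap_residueField_surjective (maximalIdeal R) c
      refine ⟨r • s, ?_⟩
      change (1 : (maximalIdeal R).ResidueField) ⊗ₜ[R] (r • s) = _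
      rw [Algebra.algebraMap_eq_smul_one, TensorProduct.smul_tmul]
    | add x y hx hy =>
      obtain ⟨a, ha⟩ := hx
      obtain ⟨b, hb⟩ := hy
      exact ⟨a + b, by rw [map_add, ha, hb]⟩
  have hAss : associatedPrimes S X = Ideal.comap φ '' associatedPrimes F X :=
    Groth.Agent.Lib27.AssSurj.associatedPrimes_eq_image φ hc hφ
  have hfin : (associatedPrimes S X).Finite := by
    rw [hAss]
    exact (associatedPrimes.finite F X).image _
  have hzd : ∀ s : S, s ∉ nonZeroSMulDivisors S X → ∃ q ∈ associatedPrimes S X, s ∈ q := by
    intro s hs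
    have h1 : φ s ∉ nonZeroSMulDivisors F X := by
      intro h
      apply hs
      have := Groth.Agent.Lib27.AssSurj.nzd_eq_preimage (X := X) φ hc
      have h2 : s ∈ (nonZeroSMulDivisors S X : Set S) := by rw [this]; exact h
      exact h2
    rw [mem_nonZeroSMulDivisors_iff] at h1
    push Not at h1
    obtain ⟨x, hx0, hx⟩ := h1
    have h2 : φ s ∈ ⋃ p ∈ associatedPrimes F X, (p : Set F) := by
      rw [biUnion_associatedPrimes_eq_zero_divisors]
      exact ⟨x, hx, hx0⟩
    simp only [Set.mem_iUnion] at h2
    obtain ⟨Q, hQ, hsQ⟩ := h2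
    refine ⟨Ideal.comap φ Q, ?_, hsQ⟩
    rw [hAss]
    exact ⟨Q, hQ, rfl⟩
  refine ⟨?_, ?_, ?_⟩
  · intro q _
    exact Groth.Agent.Lib27.NzdLoc.disjoint_iff hfin hzd q
  · exact Groth.Agent.Lib27.NzdLoc.finite_isMaximal hfin hzd _
  · intro Q
    exact Groth.Agent.Lib27.NzdLoc.isMaximal_iff hfin hzd _ Q

end Groth.Agent.S1193
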