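import Groth.Statements.S1194
import Groth.Agent.S2107
import Groth.Agent.Lib27.FibInj.UnivInj
import Groth.Agent.Lib.Helper26.FiberAss

set_option autoImplicit false
universe u
open FlatMor

namespace Groth.Agent.S1194

open Groth.Agent.Lib.Helper26.FiberAss in
/-- kernel of `N → fibre module over the maximal ideal` -/
theorem toFiberMod_eq_zero_iff {R S : Type u} [CommRing R] [IsLocalRing R] [CommRing S]
    [Algebra R S] (N : Type u) [AddCommGroup N] [Module S N] [Module R N] [IsScalarTower R S N]
    (x : N) :
    FlatCA.toFiberMod (IsLocalRing.maximalIdeal R) S N x = 0 ↔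
      x ∈ (IsLocalRing.maximalIdeal R).map (algebraMap R S) • (⊤ : Submodule S N) := by
  rw [← (fiberModEquiv (S := S) (IsLocalRing.maximalIdeal R) N).map_eq_zero_iff,
    fiberModEquiv_toFiberMod, tmul_one_eq_zero_iff, mem_map_smul_top_iff]
  constructor
  · rintro ⟨r, hr, h⟩
    have hu : IsUnit r := by
      by_contra hne
      exact hr ((IsLocalRing.mem_maximalIdeal r).2 hne)
    obtain ⟨v, hv⟩ := hu.exists_left_inv
    have := Submodule.smul_mem _ v h
    rwa [smul_smul, hv, one_smul] at this
  · intro h
    exact ⟨1, fun h1 => (IsLocalRing.maximalIdeal.isMaximal R).ne_top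
      ((Ideal.eq_top_iff_one _).2 h1), by rwa [one_smul]⟩

/-- Let R → S be a local homomorphism of local rings which is essentially of finite presentation, and N
a finitely presented S-module flat over R. Then multiplication by any element of S acting
injectively on N/𝔪_R N is a universally injective map of R-modules on N, and the localization map
from N to its localization at all such elements is universally injective over R. -/
theorem result {R S : Type u} [CommRing R] [IsLocalRing R] [CommRing S] [IsLocalRing S] [Algebra R S]
    [IsLocalHom (algebraMap R S)] (hS : FlatCA.EssFinitePresentation R S)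
    (N : Type u) [AddCommGroup N] [Module S N] [Module R N] [IsScalarTower R S N] [Module.FinitePresentation S N] [Module.Flat R N] :
    (∀ s ∈ FlatCA.nzdFiber R S N, FlatCA.UnivInj R ((LinearMap.lsmul S N s).restrictScalars R)) ∧
    FlatCA.UnivInj R ((LocalizedModule.mkLinearMap (FlatCA.nzdFiber R S N) N).restrictScalars R) := by
  have part1 : ∀ s ∈ FlatCA.nzdFiber R S N,
      FlatCA.UnivInj R ((LinearMap.lsmul S N s).restrictScalars R) := by
    intro s hs Q _ _
    have hu : ∀ x : N, (LinearMap.lsmul S N s) x ∈
        (IsLocalRing.maximalIdeal R).map (algebraMap R S) • (⊤ : Submodule S N) →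
        x ∈ (IsLocalRing.maximalIdeal R).map (algebraMap R S) • (⊤ : Submodule S N) := by
      intro x hx
      rw [← toFiberMod_eq_zero_iff] at hx ⊢
      rw [LinearMap.lsmul_apply, map_smul] at hx
      exact (mem_nonZeroSMulDivisors_iff.1 hs) _ hx
    obtain ⟨hinj, hflat⟩ := Groth.Agent.S2107.result (R := R) (S := S) hS (LinearMap.lsmul S N s) hu
    have e1 : (N ⧸ LinearMap.range ((LinearMap.lsmul S N s).restrictScalars R)) ≃ₗ[R]
        (N ⧸ (LinearMap.range (LinearMap.lsmul S N s)).restrictScalars R) :=
      Submodule.quotEquivOfEq _ _ (LinearMap.range_restrictScalars (LinearMap.lsmul S N s))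
    haveI : Module.Flat R (N ⧸ LinearMap.range ((LinearMap.lsmul S N s).restrictScalars R)) :=
      Module.Flat.of_linearEquiv
        (e1 ≪≫ₗ Submodule.Quotient.restrictScalarsEquiv R (LinearMap.range (LinearMap.lsmul S N s)))
    exact Groth.Agent.Lib27.FibInj.lTensor_injective_of_flat_coker
      ((LinearMap.lsmul S N s).restrictScalars R) hinj Q
  refine ⟨part1, ?_⟩
  intro Q _ _
  exact Groth.Agent.Lib27.FibInj.lTensor_mkLinearMap_injective (R := R) (FlatCA.nzdFiber R S N)
    (fun t ht Q' _ _ => part1 t ht Q') Q

end Groth.Agent.S1194
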