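import Groth.Statements.S1195
import Groth.Agent.Lib27.FibInj.AssAvoid
import Groth.Agent.Lib27.FibInj.AtPrime
import Groth.Agent.Lib27.FibInj.UnivInj
import Groth.Agent.Lib.Helper12.UnivInjAss

set_option autoImplicit false
universe u
open FlatMor

namespace Groth.Agent.S1195

open TensorProduct in
/-- Let S be a finitely presented R-algebra, N a finitely presented S-module flat over R, and S' a flat
S-algebra such that every prime q of S (over p in R) whose extension to the fibre ring over p is an
associated prime of the fibre module of N is the contraction of a prime of S'. Then the base change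
map N → S' ⊗_S N is universally injective as a map of R-modules. -/
theorem result {R S S' : Type u} [CommRing R] [CommRing S] [CommRing S'] [Algebra R S] [Algebra S S'] [Algebra R S'] [IsScalarTower R S S']
    [Algebra.FinitePresentation R S] [Module.Flat S S']
    (N : Type u) [AddCommGroup N] [Module S N] [Module R N] [IsScalarTower R S N] [Module.FinitePresentation S N] [Module.Flat R N]
    (h : ∀ (p : Ideal R) (q : Ideal S) [p.IsPrime] [q.IsPrime] [q.LiesOver p],
      FlatCA.fiberIdeal p q ∈ associatedPrimes (p.Fiber S) (FlatCA.fiberMod p S N) →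
      ∃ q' : Ideal S', q'.IsPrime ∧ q'.comap (algebraMap S S') = q) :
    FlatCA.UnivInj R ((TensorProduct.mk S S' N 1).restrictScalars R) := by
  classical
  intro Q _ _
  rw [injective_iff_map_eq_zero]
  intro z hz
  by_contra hne
  -- the element of `N ⊗ Q`
  obtain ⟨x, hxdef⟩ : ∃ x, x = TensorProduct.comm R Q N z := ⟨_, rfl⟩
  have hx0 : x ≠ 0 := by
    rw [hxdef]
    intro h0
    exact hne ((TensorProduct.comm R Q N).injective (h0.trans (map_zero _).symm))
  have hx1 : (1 : S') ⊗ₜ[S] x = 0 := by
    rw [hxdef, ← Groth.Agent.Lib27.FibInj.transportEquiv_lTensor, hz, map_zero]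
  -- a maximal ideal containing the annihilator
  have hI : LinearMap.ker (LinearMap.toSpanSingleton S (N ⊗[R] Q) x) ≠ ⊤ := by
    intro htop
    have : (1 : S) ∈ LinearMap.ker (LinearMap.toSpanSingleton S (N ⊗[R] Q) x) := by
      rw [htop]; trivial
    rw [LinearMap.mem_ker, LinearMap.toSpanSingleton_apply, one_smul] at this
    exact hx0 this
  obtain ⟨q₀, hq₀max, hIq₀⟩ := Ideal.exists_le_maximal _ hI
  haveI : q₀.IsPrime := hq₀max.isPrime
  obtain ⟨p, hp⟩ : ∃ p : Ideal R, p = q₀.comap (algebraMap R S) := ⟨_, rfl⟩
  haveI : p.IsPrime := by rw [hp]; exact Ideal.comap_isPrime _ _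
  -- the fibre ring is Noetherian
  haveI : IsNoetherianRing (p.Fiber S) :=
    Algebra.FiniteType.isNoetherianRing p.ResidueField _
  haveI : Module.Flat R (LocalizedModule q₀.primeCompl N) :=
    Groth.Agent.Lib.Helper18.Fl.flat_localizedModule q₀.primeCompl
  -- every element of the annihilator is a zero divisor on the fibre over `p`
  have hZD : ∀ s ∈ LinearMap.ker (LinearMap.toSpanSingleton S (N ⊗[R] Q) x),
      ∃ m : FlatCA.fiberMod p S N, m ≠ 0 ∧ s • m = 0 := by
    intro s hs
    by_contra hcon
    push Not at hcon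
    have hnzd : ∀ m : FlatCA.fiberMod p S N, s • m = 0 → m = 0 := by
      intro m hm
      by_contra hm0
      exact hcon m hm0 hm
    have hker : ∀ y : N, FlatCA.toFiberMod p S N y = 0 ↔
        ∃ r ∉ p, r • y ∈ p • (⊤ : Submodule R N) := by
      intro y
      rw [← (Groth.Agent.Lib.Helper26.FiberAss.fiberModEquiv (S := S) p N).map_eq_zero_iff,
        Groth.Agent.Lib.Helper26.FiberAss.fiberModEquiv_toFiberMod,
        Groth.Agent.Lib.Helper26.FiberAss.tmul_one_eq_zero_iff]
    have hu : ∀ y : N, (∃ t ∉ q₀, t • (LinearMap.lsmul S N s) y ∈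
        (q₀.comap (algebraMap R S)) • (⊤ : Submodule R N)) →
        ∃ t ∉ q₀, t • y ∈ (q₀.comap (algebraMap R S)) • (⊤ : Submodule R N) := by
      rw [← hp]
      rintro y ⟨t, ht, hmem⟩
      have h1 : FlatCA.toFiberMod p S N (t • s • y) = 0 := by
        rw [hker]
        exact ⟨1, fun h1 => (Ideal.IsPrime.ne_top inferInstance) ((Ideal.eq_top_iff_one _).2 h1),
          by rw [one_smul]; exact hmem⟩
      rw [smul_comm t s y, map_smul] at h1
      have h2 := hnzd _ h1
      rw [hker] at h2
      obtain ⟨r, hr, hmem'⟩ := h2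
      refine ⟨algebraMap R S r * t, fun hmul => ?_, ?_⟩
      · rcases Ideal.IsPrime.mem_or_mem inferInstance hmul with h' | h'
        · exact hr (by rw [hp]; exact h')
        · exact ht h'
      · rw [mul_smul, algebraMap_smul]
        exact hmem'
    obtain ⟨hinj, hflat⟩ := Groth.Agent.Lib27.FibInj.fibInj_at_prime q₀ (LinearMap.lsmul S N s) hu
    haveI := hflat
    have huniv := Groth.Agent.Lib27.FibInj.lTensor_injective_of_flat_coker
      ((LocalizedModule.map q₀.primeCompl (LinearMap.lsmul S N s)).restrictScalars R) hinj Q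
    -- `s • x = 0`
    rw [LinearMap.mem_ker, LinearMap.toSpanSingleton_apply,
      Groth.Agent.Lib27.FibInj.smul_eq_rTensor_lsmul, hxdef, LinearMap.rTensor_comm] at hs
    have h3 : ((LinearMap.lsmul S N s).restrictScalars R).lTensor Q z = 0 :=
      (TensorProduct.comm R Q N).injective (hs.trans (map_zero _).symm)
    -- the image of `z` in `Q ⊗ N_q₀` vanishes
    have h4 : ((LocalizedModule.mkLinearMap q₀.primeCompl N).restrictScalars R).lTensor Q z = 0 := by
      apply huniv
      rw [map_zero, ← LinearMap.comp_apply, ← LinearMap.lTensor_comp]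
      have hcomm : ((LocalizedModule.map q₀.primeCompl (LinearMap.lsmul S N s)).restrictScalars R) ∘ₗ
          ((LocalizedModule.mkLinearMap q₀.primeCompl N).restrictScalars R) =
          ((LocalizedModule.mkLinearMap q₀.primeCompl N).restrictScalars R) ∘ₗ
            ((LinearMap.lsmul S N s).restrictScalars R) := by
        ext y
        simp only [LinearMap.coe_comp, LinearMap.coe_restrictScalars, Function.comp_apply,
          LocalizedModule.mkLinearMap_apply, LocalizedModule.map_mk]
      rw [hcomm, LinearMap.lTensor_comp, LinearMap.comp_apply, h3, map_zero]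
    obtain ⟨t, ht⟩ := Groth.Agent.Lib27.FibInj.exists_smul_comm_eq_zero_of_lTensor_mkLinearMap
      q₀.primeCompl Q z h4
    have : (t : S) ∈ LinearMap.ker (LinearMap.toSpanSingleton S (N ⊗[R] Q) x) := by
      rw [LinearMap.mem_ker, LinearMap.toSpanSingleton_apply, hxdef]
      exact ht
    exact t.2 (hIq₀ this)
  haveI : Module.Finite S N := inferInstance
  obtain ⟨Q₁, hQ₁, hle⟩ := Groth.Agent.Lib27.FibInj.exists_ass_fiber_of_zeroDivisors p N _ hZD
  haveI : Q₁.IsPrime := hQ₁.isPrime
  haveI hqprime : (Q₁.comap (Algebra.TensorProduct.includeRight (R := R)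
      (A := p.ResidueField) (B := S)).toRingHom).IsPrime := Ideal.comap_isPrime _ _
  haveI : (Q₁.comap (Algebra.TensorProduct.includeRight (R := R)
      (A := p.ResidueField) (B := S)).toRingHom).LiesOver p := by
    constructor
    have h1 : Q₁.LiesOver p := inferInstance
    refine h1.over.trans ?_
    ext r
    simp only [Ideal.under_def, Ideal.mem_comap]
    have : algebraMap R (p.Fiber S) r = (Algebra.TensorProduct.includeRight (R := R)
        (A := p.ResidueField) (B := S)) (algebraMap R S r) := by
      rw [Algebra.TensorProduct.algebraMap_apply, Algebra.TensorProduct.includeRight_apply,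
        Algebra.algebraMap_eq_smul_one, Algebra.algebraMap_eq_smul_one (A := S),
        TensorProduct.smul_tmul]
    rw [this]
    rfl
  have hfi : FlatCA.fiberIdeal p (Q₁.comap (Algebra.TensorProduct.includeRight (R := R)
      (A := p.ResidueField) (B := S)).toRingHom) = Q₁ :=
    H12UnivInjAss.map_comap_includeRight p Q₁
  obtain ⟨q', hq'p, hq'⟩ := h p _ (by rw [hfi]; exact hQ₁)
  haveI := hq'p
  exact Groth.Agent.Lib27.FibInj.false_of_tmul_eq_zero x hx1 q' (by rw [hq']; exact hle)

end Groth.Agent.S1195
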