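import Groth.Statements.S1196
import Groth.Agent.S1194
import Groth.Agent.Lib27.FibInj.AssAvoid

set_option autoImplicit false
universe u
open FlatMor

namespace Groth.Agent.S1196

open TensorProduct IsLocalRing in
/-- Let R → S be a local homomorphism of local rings, essentially of finite presentation, N a finitely
presented S-module flat over R, and S' a flat S-algebra such that every prime of S which is an
associated prime of N/𝔪_R N is the contraction of a prime of S'. Then N → S' ⊗_S N is universally
injective as a map of R-modules. -/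
theorem result {R S S' : Type u} [CommRing R] [IsLocalRing R] [CommRing S] [IsLocalRing S] [CommRing S'] [Algebra R S] [IsLocalHom (algebraMap R S)] [Algebra S S'] [Algebra R S'] [IsScalarTower R S S']
    (hS : FlatCA.EssFinitePresentation R S) [Module.Flat S S']
    (N : Type u) [AddCommGroup N] [Module S N] [Module R N] [IsScalarTower R S N] [Module.FinitePresentation S N] [Module.Flat R N]
    (h : ∀ q ∈ associatedPrimes S (FlatCA.fiberMod (maximalIdeal R) S N),
      ∃ q' : Ideal S', q'.IsPrime ∧ q'.comap (algebraMap S S') = q) :
    FlatCA.UnivInj R ((TensorProduct.mk S S' N 1).restrictScalars R) := by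
  classical
  intro Q _ _
  rw [injective_iff_map_eq_zero]
  intro z hz
  by_contra hne
  have hS' := hS
  obtain ⟨S₀, _, _, _, _, Msub, hfp, hloc⟩ := hS
  -- the fibre ring is Noetherian
  haveI : Algebra.EssFiniteType R S₀ := inferInstance
  haveI : Algebra.EssFiniteType S₀ S := Algebra.EssFiniteType.of_isLocalization S Msub
  haveI : Algebra.EssFiniteType R S := Algebra.EssFiniteType.comp R S₀ S
  haveI : IsNoetherianRing ((IsLocalRing.maximalIdeal R).Fiber S) :=
    Algebra.EssFiniteType.isNoetherianRing (IsLocalRing.maximalIdeal R).ResidueField _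
  -- the element of `N ⊗ Q`
  obtain ⟨x, hxdef⟩ : ∃ x, x = TensorProduct.comm R Q N z := ⟨_, rfl⟩
  have hx0 : x ≠ 0 := by
    rw [hxdef]
    intro h0
    exact hne ((TensorProduct.comm R Q N).injective (h0.trans (map_zero _).symm))
  have hx1 : (1 : S') ⊗ₜ[S] x = 0 := by
    rw [hxdef, ← Groth.Agent.Lib27.FibInj.transportEquiv_lTensor, hz, map_zero]
  -- every element of the annihilator is a zero divisor on the closed fibre
  have hZD : ∀ s ∈ LinearMap.ker (LinearMap.toSpanSingleton S (N ⊗[R] Q) x),
      ∃ m : FlatCA.fiberMod (IsLocalRing.maximalIdeal R) S N, m ≠ 0 ∧ s • m = 0 := by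
    intro s hs
    by_contra hcon
    push Not at hcon
    have hnzd : s ∈ FlatCA.nzdFiber R S N := by
      rw [mem_nonZeroSMulDivisors_iff]
      intro m hm
      by_contra hm0
      exact hcon m hm0 hm
    have hinj := (Groth.Agent.S1194.result hS' N).1 s hnzd Q
    rw [LinearMap.mem_ker, LinearMap.toSpanSingleton_apply] at hs
    have h2 : s • x = LinearMap.rTensor Q ((LinearMap.lsmul S N s).restrictScalars R) x := by
      generalize x = w
      induction w using TensorProduct.induction_on with
      | zero => simp
      | tmul n q => rw [TensorProduct.smul_tmul']; rfl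
      | add w₁ w₂ h₁ h₂ => rw [smul_add, map_add, h₁, h₂]
    rw [h2, hxdef, LinearMap.rTensor_comm] at hs
    have h3 := (TensorProduct.comm R Q N).injective (hs.trans (map_zero _).symm)
    exact hne (hinj (h3.trans (map_zero _).symm))
  haveI : Module.Finite S N := inferInstance
  obtain ⟨Q₁, hQ₁, hle⟩ := Groth.Agent.Lib27.FibInj.exists_ass_fiber_of_zeroDivisors
    (IsLocalRing.maximalIdeal R) N _ hZD
  -- the contraction is an associated prime over `S`
  have hQ₁' := hQ₁
  rw [AssociatedPrimes.mem_iff, isAssociatedPrime_iff] at hQ₁'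
  obtain ⟨hQ₁p, m, hm⟩ := hQ₁'
  have hq : Q₁.comap (Algebra.TensorProduct.includeRight (R := R)
      (A := (IsLocalRing.maximalIdeal R).ResidueField) (B := S)).toRingHom ∈
      associatedPrimes S (FlatCA.fiberMod (maximalIdeal R) S N) := by
    haveI : (Q₁.comap (Algebra.TensorProduct.includeRight (R := R)
      (A := (IsLocalRing.maximalIdeal R).ResidueField) (B := S)).toRingHom).IsPrime :=
      Ideal.comap_isPrime _ _
    refine ⟨inferInstance, m, ?_⟩
    have : Q₁.comap (Algebra.TensorProduct.includeRight (R := R)
        (A := (IsLocalRing.maximalIdeal R).ResidueField) (B := S)).toRingHom =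
        Submodule.colon (⊥ : Submodule S (FlatCA.fiberMod (maximalIdeal R) S N)) {m} := by
      ext s
      rw [Ideal.mem_comap, hm, Submodule.mem_colon_singleton, Submodule.mem_colon_singleton,
        Submodule.mem_bot, Submodule.mem_bot]
      change (Algebra.TensorProduct.includeRight (R := R)
        (A := (IsLocalRing.maximalIdeal R).ResidueField) (B := S) s) • m = 0 ↔ _
      rw [Groth.Agent.Lib.Helper26.FiberAss.includeRight_smul]
    rw [← this]
    exact (Ideal.IsPrime.radical inferInstance).symm
  obtain ⟨q', hq'p, hq'⟩ := h _ hq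
  haveI := hq'p
  exact Groth.Agent.Lib27.FibInj.false_of_tmul_eq_zero x hx1 q' (by rw [hq']; exact hle)

end Groth.Agent.S1196
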