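import Groth.Statements.S6267
import Groth.Agent.S6305
import Mathlib

set_option autoImplicit false
universe u
open CAlg

open scoped TensorProduct

namespace Groth.Agent.S6267

/-- Let R be a ring and f : M → M' a map of R-modules with M' flat. Then f is universally injective
exactly when, for each finitely generated ideal I of R, the induced map M ⊗ R/I → M' ⊗ R/I (that is,
M/IM → M'/IM') is injective. -/
theorem result {R : Type u} [CommRing R] {M M' : Type u} [AddCommGroup M] [Module R M] [AddCommGroup M'] [Module R M'] [Module.Flat R M'] (f : M →ₗ[R] M') : CAlgX.UniversallyInjective R f ↔ ∀ I : Ideal R, I.FG → Function.Injective (f.rTensor (R ⧸ I)) := by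
  constructor
  · intro h I _
    exact h (R ⧸ I)
  · intro h
    -- the cokernel of f
    let C := M' ⧸ LinearMap.range f
    have hexact : Function.Exact f (LinearMap.range f).mkQ := LinearMap.exact_map_mkQ_range f
    have hg : Function.Surjective (LinearMap.range f).mkQ := Submodule.mkQ_surjective _
    -- f is injective
    have hf : Function.Injective f := by
      have h0 := h ⊥ Submodule.fg_bot
      intro m m' hmm
      have h1 : (f.rTensor (R ⧸ (⊥ : Ideal R))) (m ⊗ₜ 1) = (f.rTensor (R ⧸ (⊥ : Ideal R))) (m' ⊗ₜ 1) := by
        simp only [LinearMap.rTensor_tmul, hmm]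
      have h2 := h0 h1
      -- apply the map M ⊗ R/⊥ → M
      let e : (R ⧸ (⊥ : Ideal R)) ≃ₗ[R] R :=
        (Submodule.quotEquivOfEqBot (⊥ : Ideal R) rfl)
      have h3 := congrArg (fun t => TensorProduct.rid R M ((e.toLinearMap.lTensor M) t)) h2
      have he : e 1 = 1 := by
        change (Submodule.quotEquivOfEqBot (⊥ : Ideal R) rfl) ((⊥ : Ideal R).mkQ 1) = 1
        rw [Submodule.mkQ_apply, Submodule.quotEquivOfEqBot_apply_mk]
      simpa [he] using h3
    -- C is flat
    have hC : Module.Flat R C := by
      rw [Module.Flat.iff_rTensor_injective]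
      intro I hI
      refine Groth.Agent.S6269.rTensor_injective_of_exact f (LinearMap.range f).mkQ hexact hg
        I.subtype I.mkQ (LinearMap.exact_subtype_mkQ I) (Submodule.mkQ_surjective I)
        (Module.Flat.rTensor_preserves_injective_linearMap _ (Submodule.injective_subtype I)) ?_
      rw [LinearMap.lTensor_inj_iff_rTensor_inj]
      exact h I hI
    exact (Groth.Agent.S6305.result C).mp hC M M' f (LinearMap.range f).mkQ hf hexact hg

end Groth.Agent.S6267
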