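import Groth.Statements.S2124
import Groth.Agent.Lib27.Compl.Null3
import Groth.Agent.S6267
import Groth.Agent.S6347

set_option autoImplicit false
universe u
open CAlg

namespace Groth.Agent.S2124

/-- Let `R` be Noetherian and `I`-adically complete and `α` any index set. The map from the `I`-adic
completion of the direct sum `⊕_α R` to the product `∏_α R^∧ = ∏_α R`, induced by the coordinate
projections, is universally injective. -/
theorem result {R : Type u} [CommRing R] [IsNoetherianRing R] (I : Ideal R)
    [IsAdicComplete I R] (α : Type u) :
    CAlgX.UniversallyInjective R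
      (LinearMap.pi fun a : α => AdicCompletion.map I (Finsupp.lapply a : (α →₀ R) →ₗ[R] R) :
        AdicCompletion I (α →₀ R) →ₗ[R] (α → AdicCompletion I R)) := by
  haveI hflat : Module.Flat R (α → AdicCompletion I R) := by
    haveI : Module.Flat R (α → R) := (Groth.Agent.S6347.result R α).1
    exact Module.Flat.of_linearEquiv
      (LinearEquiv.piCongrRight fun _ : α => (AdicCompletion.ofLinearEquiv I R).symm)
  rw [Groth.Agent.S6267.result]
  intro J _
  exact Groth.Agent.Lib27.Compl.rTensor_quotient_injective _ J
    (Groth.Agent.Lib27.Compl.mem_smul_top_of_coord_mem I J)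

end Groth.Agent.S2124
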