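import Groth.Statements.S1198
import Groth.Agent.Lib27.Compl.Section3
import Groth.Agent.S1197
import Groth.Agent.S6338

set_option autoImplicit false
universe u
open FlatMor

namespace Groth.Agent.S1198

/-- Let R be a Noetherian ring complete with respect to an ideal I and M a flat R-module whose reduction
M/IM is projective over R/I. Then M's I-adic completion is a flat and Mittag-Leffler R-module. -/
theorem result (R : Type u) [CommRing R] [IsNoetherianRing R] (I : Ideal R) [IsAdicComplete I R]
    (M : Type u) [AddCommGroup M] [Module R M] [Module.Flat R M]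
    [Module.Projective (R ⧸ I) (M ⧸ (I • ⊤ : Submodule R M))] :
    Module.Flat R (AdicCompletion I M) ∧ CAlg.IsMittagLeffler R (AdicCompletion I M) := by
  let g : (M →₀ R) →ₗ[R] M := Finsupp.linearCombination R id
  have hg : Function.Surjective g := fun m => ⟨Finsupp.single m 1, by simp [g]⟩
  obtain ⟨s, hs⟩ := Groth.Agent.Lib27.Compl.exists_section_adicCompletion I g hg
  obtain ⟨hflat, hML⟩ := Groth.Agent.S1197.result R I M
  let r : AdicCompletion I (M →₀ R) →ₗ[R] AdicCompletion I M :=
    (AdicCompletion.map I g).restrictScalars R
  have hrs : r ∘ₗ s = LinearMap.id := by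
    apply LinearMap.ext
    intro x
    exact hs x
  refine ⟨Module.Flat.of_retract s r hrs, ?_⟩
  have huniv : CAlgX.UniversallyInjective R s := by
    intro Q _ _
    apply Function.LeftInverse.injective (g := r.rTensor Q)
    intro y
    rw [← LinearMap.comp_apply, ← LinearMap.rTensor_comp, hrs, LinearMap.rTensor_id,
      LinearMap.id_apply]
  exact Groth.Agent.S6338.result R s huniv hML

end Groth.Agent.S1198
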