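import Groth.Statements.S3024
import Mathlib
import Groth.Agent.Lib.Helper10.HomSp1
import Groth.Agent.Lib.Helper10.IdComp8
import Groth.Agent.S5355

set_option autoImplicit false
universe u
open CategoryTheory MonoidalCategory CartesianMonoidalCategory MonObj GrpObj AlgebraicGeometry TensorProduct
open SGA3

namespace Groth.Agent.S3024

section Aux

open Groth.Agent.Lib.Helper10.HomSp CategoryTheory.Limits GrpObj

variable {k : Type u} [Field k]

theorem flat_over_field (X : Over (Spec (CommRingCat.of k))) : Flat X.hom := by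
  haveI : Subsingleton ↥(Spec (CommRingCat.of k)) :=
    inferInstanceAs (Subsingleton (PrimeSpectrum k))
  infer_instance

theorem flat_fst (X Y : Over (Spec (CommRingCat.of k))) : Flat (fst X Y).left := by
  haveI := flat_over_field Y
  rw [Over.fst_left]
  infer_instance

theorem flat_snd (X Y : Over (Spec (CommRingCat.of k))) : Flat (snd X Y).left := by
  haveI := flat_over_field X
  rw [Over.snd_left]
  infer_instance

theorem dominant_whiskerRight {A B : Over (Spec (CommRingCat.of k))} (g : A ⟶ B)
    (C : Over (Spec (CommRingCat.of k)))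
    [IsSchemeTheoreticallyDominant g.left] [QuasiCompact g.left] :
    IsSchemeTheoreticallyDominant (g ▷ C).left ∧ QuasiCompact (g ▷ C).left := by
  have sq : IsPullback (g ▷ C).left (fst A C).left (fst B C).left g.left :=
    (isPullback_whiskerRight_fst g C).map (Over.forget _)
  haveI := flat_fst B C
  exact ⟨IsSchemeTheoreticallyDominant.of_isPullback sq.flip,
    MorphismProperty.of_isPullback sq.flip ‹QuasiCompact g.left›⟩

theorem dominant_whiskerLeft (C : Over (Spec (CommRingCat.of k)))
    {A B : Over (Spec (CommRingCat.of k))} (g : A ⟶ B)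
    [IsSchemeTheoreticallyDominant g.left] [QuasiCompact g.left] :
    IsSchemeTheoreticallyDominant (C ◁ g).left ∧ QuasiCompact (C ◁ g).left := by
  have sq : IsPullback (C ◁ g).left (snd C A).left (snd C B).left g.left :=
    (isPullback_whiskerLeft_snd C g).map (Over.forget _)
  haveI := flat_snd C B
  exact ⟨IsSchemeTheoreticallyDominant.of_isPullback sq.flip,
    MorphismProperty.of_isPullback sq.flip ‹QuasiCompact g.left›⟩


theorem core (k : Type u) [Field k]
    (H G K : Over (Spec (CommRingCat.of k))) [GrpObj H] [GrpObj G]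
    (f : H ⟶ G) [IsMonHom f] [QuasiCompact f.left]
    (i : K ⟶ G) [IsClosedImmersion i.left] (g : H ⟶ K) (hgi : g ≫ i = f)
    [IsSchemeTheoreticallyDominant g.left] :
    ∃ (_ : GrpObj K), IsMonHom i ∧ IsMonHom g ∧ QuasiCompact g.left ∧ Surjective g.left := by

  classical
  haveI : QuasiCompact g.left := by
    haveI : QuasiCompact (g.left ≫ i.left) := by
      rw [← Over.comp_left, hgi]; infer_instance
    exact QuasiCompact.of_comp g.left i.left
  haveI : Mono i := by
    haveI : Mono i.left := inferInstance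
    exact (Over.forget _).mono_of_mono_map ‹_›
  obtain ⟨hd1, hq1⟩ := dominant_whiskerRight g H
  obtain ⟨hd2, hq2⟩ := dominant_whiskerLeft K g
  haveI : IsSchemeTheoreticallyDominant (g ⊗ₘ g).left := by
    rw [MonoidalCategory.tensorHom_def, Over.comp_left]; infer_instance
  let φ : K ⊗ K ⟶ G := (fst K K ≫ i)⁻¹ * (snd K K ≫ i)
  have hφ : (g ⊗ₘ g) ≫ φ = (((fst H H)⁻¹ * snd H H) ≫ g) ≫ i := by
    rw [Category.assoc, hgi, MonObj.mul_comp, GrpObj.inv_comp]
    simp only [φ, MonObj.comp_mul, GrpObj.comp_inv]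
    rw [← Category.assoc, ← Category.assoc, tensorHom_fst, tensorHom_snd, Category.assoc,
      Category.assoc, hgi]
  have hker : i.left.ker ≤ φ.left.ker := by
    have h1 : ((g ⊗ₘ g) ≫ φ).left.ker = φ.left.ker := by
      rw [Over.comp_left, Scheme.Hom.ker_comp, (g ⊗ₘ g).left.ker_eq_bot,
        Scheme.IdealSheafData.map_bot]
    rw [← h1, hφ, Over.comp_left]
    exact Scheme.Hom.le_ker_comp _ _
  let ψl : (K ⊗ K).left ⟶ K.left := IsClosedImmersion.lift i.left φ.left hker
  have hψl : ψl ≫ i.left = φ.left := IsClosedImmersion.lift_fac _ _ _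
  let ψ : K ⊗ K ⟶ K := Over.homMk ψl (by
    have := Over.w φ
    rw [← hψl, Category.assoc, Over.w i] at this
    exact this)
  have hψ : ψ ≫ i = φ := by
    ext1
    exact hψl
  let e : 𝟙_ (Over (Spec (CommRingCat.of k))) ⟶ K := η[H] ≫ g
  have he : e ≫ i = η[G] := by
    rw [Category.assoc, hgi]
    exact IsMonHom.one_hom f
  have hsub : ∀ (T : Over (Spec (CommRingCat.of k))) (k₁ k₂ : T ⟶ K),
      (lift k₁ k₂ ≫ ψ) ≫ i = (k₁ ≫ i)⁻¹ * (k₂ ≫ i) := by
    intro T k₁ k₂
    rw [Category.assoc, hψ]
    simp only [φ, MonObj.comp_mul, GrpObj.comp_inv]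
    rw [← Category.assoc, ← Category.assoc, lift_fst, lift_snd]
  -- the induced group structure on `K`
  let v : K ⟶ K := lift (𝟙 K) (toUnit K ≫ e) ≫ ψ
  have hv : v ≫ i = i ≫ ι[G] := by
    rw [hsub, Category.id_comp, Category.assoc, he, ← Hom.inv_def]
    have : toUnit K ≫ η[G] = 1 := by
      rw [Hom.one_def]
    rw [this, _root_.mul_one]
  let m : K ⊗ K ⟶ K := lift (fst K K ≫ v) (snd K K) ≫ ψ
  have hm : m ≫ i = (fst K K ≫ i) * (snd K K ≫ i) := by
    rw [hsub, Category.assoc, hv, ← Category.assoc, ← Hom.inv_def, _root_.inv_inv]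
  letI : GrpObj K := Groth.Agent.Lib.Helper10.IdComp.grpObjOfMono i m hm e he v hv
  haveI : IsMonHom i := Groth.Agent.Lib.Helper10.IdComp.isMonHom_ofMono i m hm e he v hv
  haveI : IsMonHom g := by
    refine ⟨rfl, ?_⟩
    rw [← cancel_mono i, Category.assoc, hgi, Category.assoc, IsMonHom.mul_hom (f := f),
      IsMonHom.mul_hom (f := i), ← Category.assoc, tensorHom_comp_tensorHom, hgi]
  have hdense : DenseRange g.left.base := g.left.denseRange
  exact ⟨inferInstance, inferInstance, inferInstance, ‹QuasiCompact g.left›,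
    (Groth.Agent.S5355.result k H K g hdense).1⟩

theorem ker_toImage_eq_bot {X Y : Scheme.{u}} (f : X ⟶ Y) : f.toImage.ker = ⊥ := by
  set g := f.toImage with hg
  have hc : g.imageι ≫ f.imageι = g.imageι ≫ f.imageι := rfl
  have h1 : (g.imageι ≫ f.imageι).ker = f.imageι.ker := by
    apply le_antisymm
    · have h2 : (g.imageι ≫ f.imageι).ker ≤ (g.toImage ≫ g.imageι ≫ f.imageι).ker :=
        Scheme.Hom.le_ker_comp _ _
      rw [Scheme.Hom.toImage_imageι_assoc, hg, Scheme.Hom.toImage_imageι] at h2
      refine h2.trans ?_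
      change f.ker ≤ f.ker.subschemeι.ker
      rw [Scheme.IdealSheafData.ker_subschemeι]
    · exact Scheme.Hom.le_ker_comp _ _
  haveI : IsIso g.imageι :=
    IsClosedImmersion.isIso_of_ker_eq (g.imageι ≫ f.imageι) f.imageι g.imageι rfl h1
  exact (Scheme.isIso_subschemeι_iff_eq_bot g.ker).mp ‹IsIso g.imageι›

end Aux

/-- Let f : H → G be a quasi-compact homomorphism of group schemes over a field k. Then f factors as a
homomorphism f' : H → H' followed by a homomorphism i : H' → G which is a closed immersion (H' is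
the schematic image of f, a closed subgroup scheme of G), with f' schematically dominant,
quasi-compact and surjective. -/
theorem result (k : Type u) [Field k] (H G : Over (Spec (CommRingCat.of k))) [GrpObj H] [GrpObj G]
    (f : H ⟶ G) [IsMonHom f] [QuasiCompact f.left] :
    ∃ (H' : Over (Spec (CommRingCat.of k))) (_ : GrpObj H') (i : H' ⟶ G) (f' : H ⟶ H'),
      IsMonHom i ∧ IsMonHom f' ∧ f' ≫ i = f ∧ IsClosedImmersion i.left ∧
      f'.left.ker = ⊥ ∧ QuasiCompact f'.left ∧ Surjective f'.left := by
  let K : Over (Spec (CommRingCat.of k)) := Over.mk (f.left.imageι ≫ G.hom)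
  let i : K ⟶ G := Over.homMk f.left.imageι rfl
  let g : H ⟶ K := Over.homMk f.left.toImage (by
    change f.left.toImage ≫ f.left.imageι ≫ G.hom = H.hom
    rw [Scheme.Hom.toImage_imageι_assoc, Over.w f])
  have hgi : g ≫ i = f := by
    ext1
    exact Scheme.Hom.toImage_imageι f.left
  haveI : IsClosedImmersion i.left := inferInstanceAs (IsClosedImmersion f.left.imageι)
  have hker : g.left.ker = ⊥ := ker_toImage_eq_bot f.left
  haveI : IsSchemeTheoreticallyDominant g.left := ⟨hker⟩
  obtain ⟨hK, h1, h2, h3, h4⟩ := core k H G K f i g hgi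
  exact ⟨K, hK, i, g, h1, h2, hgi, ‹_›, hker, h3, h4⟩

end Groth.Agent.S3024
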