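import Groth.Statements.S12058
import Mathlib


set_option autoImplicit false
universe w v u
open CategoryTheory CategoryTheory.Limits CategoryTheory.Abelian
open SGA3

namespace Groth.Agent.S12058

/-- In an abelian category, let 0 → A' → A → A'' → 0 be a short exact sequence, φ : A' ⟶ Q a morphism
and π : A'' ⟶ P an epimorphism with kernel C. Consider the quadruples (B, f, g, h) with 0 → Q → B →
P → 0 short exact (maps f, g) and h : A ⟶ B such that the squares commute: (A' → A → B) = (A' → Q →
B) and (A → B → P) = (A → A'' → P). Such a quadruple exists if and only if the image in Ext¹(C, Q)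
of the class of the given extension in Ext¹(A'', A') (push forward along φ, pull back along the
inclusion C → A'') is zero. -/
theorem result {C : Type u} [Category.{v} C] [Abelian C]
    [HasExt.{w} C] {S : ShortComplex C} (hS : S.ShortExact) {Q P : C} (φ : S.X₁ ⟶ Q) (π : S.X₃ ⟶ P) [Epi π] :
    (∃ (B : C) (f : Q ⟶ B) (g : B ⟶ P) (h : S.X₂ ⟶ B) (w : f ≫ g = 0),
        (ShortComplex.mk f g w).ShortExact ∧ S.f ≫ h = φ ≫ f ∧ h ≫ g = S.g ≫ π) ↔
      (Ext.mk₀ (kernel.ι π)).comp (hS.extClass.comp (Ext.mk₀ φ) (add_zero 1)) (zero_add 1) = 0 := by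
  classical
  constructor
  · rintro ⟨B, f, g, h, w, hS', hc1, hc2⟩
    let ψ : S ⟶ ShortComplex.mk f g w :=
      { τ₁ := φ
        τ₂ := h
        τ₃ := π
        comm₁₂ := hc1.symm
        comm₂₃ := hc2 }
    have hnat := ShortComplex.ShortExact.extClass_naturality hS hS' ψ
    change hS.extClass.comp (Ext.mk₀ φ) (add_zero 1) = (Ext.mk₀ π).comp hS'.extClass (zero_add 1)
      at hnat
    rw [hnat, Ext.mk₀_comp_mk₀_assoc, kernel.condition, Ext.mk₀_zero, Ext.zero_comp]
  · intro hzero
    have := hS.mono_f
    have := hS.epi_g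
    -- K = preimage of C = ker π in A
    let k : kernel (S.g ≫ π) ⟶ S.X₂ := kernel.ι (S.g ≫ π)
    have hk : k ≫ S.g ≫ π = 0 := kernel.condition _
    let j : S.X₁ ⟶ kernel (S.g ≫ π) := kernel.lift _ S.f (by rw [S.zero_assoc, zero_comp])
    have hj : j ≫ k = S.f := kernel.lift_ι _ _ _
    let q : kernel (S.g ≫ π) ⟶ kernel π := kernel.lift π (k ≫ S.g) (by rw [Category.assoc, hk])
    have hq : q ≫ kernel.ι π = k ≫ S.g := kernel.lift_ι _ _ _
    have hjq : j ≫ q = 0 := by
      rw [← cancel_mono (kernel.ι π), Category.assoc, hq, ← Category.assoc, hj, S.zero, zero_comp]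
    have hmonoj : Mono j := by
      have : Mono (j ≫ k) := by rw [hj]; infer_instance
      exact mono_of_mono j k
    have hepiq : Epi q := by
      rw [epi_iff_surjective_up_to_refinements]
      intro T c
      obtain ⟨T', e, he, a, ha⟩ := surjective_up_to_refinements_of_epi S.g (c ≫ kernel.ι π)
      have ha0 : a ≫ S.g ≫ π = 0 := by
        rw [← Category.assoc, ← ha, Category.assoc, Category.assoc, kernel.condition, comp_zero,
          comp_zero]
      have hka : kernel.lift (S.g ≫ π) a ha0 ≫ k = a := kernel.lift_ι _ _ _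
      refine ⟨T', e, he, kernel.lift _ a ha0, ?_⟩
      rw [← cancel_mono (kernel.ι π), Category.assoc, Category.assoc, hq, reassoc_of% hka, ← ha]
    have hSK : (ShortComplex.mk j q hjq).ShortExact :=
      { exact := by
          refine ShortComplex.exact_of_f_is_kernel _ (KernelFork.IsLimit.ofι _ _
            (fun {T} t ht => hS.exact.lift (t ≫ k) (by
              rw [Category.assoc, ← hq, ← Category.assoc, ht, zero_comp])) ?_ ?_)
          · intro T t ht
            rw [← cancel_mono k, Category.assoc, hj]
            exact hS.exact.lift_f _ _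
          · intro T t ht m hm
            rw [← cancel_mono S.f]
            rw [hS.exact.lift_f, ← hm, Category.assoc, hj]
        mono_f := hmonoj
        epi_g := hepiq }
    -- class of S_K is the pullback of the class of S
    let ψ : ShortComplex.mk j q hjq ⟶ S :=
      { τ₁ := 𝟙 _
        τ₂ := k
        τ₃ := kernel.ι π
        comm₁₂ := by simp [hj]
        comm₂₃ := hq.symm }
    have hnat := ShortComplex.ShortExact.extClass_naturality hSK hS ψ
    change hSK.extClass.comp (Ext.mk₀ (𝟙 S.X₁)) (add_zero 1) =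
      (Ext.mk₀ (kernel.ι π)).comp hS.extClass (zero_add 1) at hnat
    rw [Ext.comp_mk₀_id] at hnat
    have hz' : hSK.extClass.comp (Ext.mk₀ φ) (add_zero 1) = 0 := by
      rw [hnat, Ext.comp_assoc_of_third_deg_zero]
      exact hzero
    obtain ⟨x₂, hx₂⟩ := Ext.contravariant_sequence_exact₁ hSK Q (Ext.mk₀ φ) (n₁ := 1) (by norm_num) hz'
    obtain ⟨φ', rfl⟩ := (Ext.mk₀_bijective _ _).2 x₂
    have hφ' : j ≫ φ' = φ := (Ext.mk₀_bijective _ _).1 (by rw [← hx₂, Ext.mk₀_comp_mk₀])
    -- B = pushout of Q ← K → A
    let B := pushout φ' k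
    let f : Q ⟶ B := pushout.inl φ' k
    let h : S.X₂ ⟶ B := pushout.inr φ' k
    have hcond : φ' ≫ f = k ≫ h := pushout.condition
    let g : B ⟶ P := pushout.desc 0 (S.g ≫ π) (by rw [comp_zero, hk])
    have hfg : f ≫ g = 0 := pushout.inl_desc _ _ _
    have hhg : h ≫ g = S.g ≫ π := pushout.inr_desc _ _ _
    have hepig : Epi g := by
      have : Epi (h ≫ g) := by rw [hhg]; infer_instance
      exact epi_of_epi h g
    have hmonof : Mono f := inferInstanceAs (Mono (pushout.inl φ' k))
    -- S.g ≫ π is the cokernel of k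
    have hcok : IsColimit (CokernelCofork.ofπ (S.g ≫ π) hk) :=
      Abelian.epiIsCokernelOfKernel (KernelFork.ofι k hk) (kernelIsKernel (S.g ≫ π))
    refine ⟨B, f, g, h, hfg, ?_, ?_, hhg⟩
    · refine
        { exact := ?_
          mono_f := hmonof
          epi_g := hepig }
      refine ShortComplex.exact_of_g_is_cokernel _ (CokernelCofork.IsColimit.ofπ _ _
        (fun {T} t ht => hcok.desc (CokernelCofork.ofπ (h ≫ t) (by
          rw [← Category.assoc, ← hcond, Category.assoc, ht, comp_zero]))) ?_ ?_)
      · intro T t ht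
        have h1 : (S.g ≫ π) ≫ hcok.desc (CokernelCofork.ofπ (h ≫ t) (by
            rw [← Category.assoc, ← hcond, Category.assoc, ht, comp_zero])) = h ≫ t :=
          hcok.fac _ WalkingParallelPair.one
        apply pushout.hom_ext
        · change f ≫ g ≫ _ = f ≫ t
          rw [← Category.assoc, hfg, zero_comp, ht]
        · change h ≫ g ≫ _ = h ≫ t
          rw [← Category.assoc, hhg, h1]
      · intro T t ht m hm
        have h1 : (S.g ≫ π) ≫ hcok.desc (CokernelCofork.ofπ (h ≫ t) (by
            rw [← Category.assoc, ← hcond, Category.assoc, ht, comp_zero])) = h ≫ t :=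
          hcok.fac _ WalkingParallelPair.one
        have : Epi (S.g ≫ π) := inferInstance
        rw [← cancel_epi (S.g ≫ π), h1, ← hm, ← Category.assoc, hhg]
    · rw [← hφ', Category.assoc, hcond, ← Category.assoc, hj]

end Groth.Agent.S12058
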