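import Groth.Statements.S12059
import Groth.Agent.Lib.Helper7.FiniteQuotient

set_option autoImplicit false
universe u
open CategoryTheory CategoryTheory.Limits AlgebraicGeometry
open SGA1

namespace Groth.Agent.S12059

/-- Let a finite group G act on a commutative ring A by ring automorphisms σ_g, and let B → A be
injective, G-equivariant for the trivial action on B, with image containing all G-invariants (so B
is the ring of invariants A^G). Let ρ be an action of G on Spec A by scheme automorphisms whose
automorphisms are exactly the maps Spec(σ_g). Then Spec A ⟶ Spec B is a quotient of Spec A by G, and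
the structure sheaf of Spec B is the sheaf of G-invariants of the direct image of the structure
sheaf of Spec A: the map is affine and G-invariant, and for every open U of Spec B the sections of
the structure sheaf of Spec B over U map injectively onto the G-invariant sections of the structure
sheaf of Spec A over the inverse image of U. -/
theorem result (G : Type u) [Group G] [Finite G] (A B : Type u) [CommRing A] [CommRing B]
    [Algebra B A] [MulSemiringAction G A] [SMulCommClass G B A] [Algebra.IsInvariant B A G] [FaithfulSMul B A]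
    (ρ : G →* Aut (Spec (CommRingCat.of A)))
    (hρ : Set.range (fun g : G => (ρ g).hom) =
      Set.range (fun g : G => Spec.map (CommRingCat.ofHom (MulSemiringAction.toRingHom G A g)))) :
    SGA1.IsQuot ρ (Spec.map (CommRingCat.ofHom (algebraMap B A))) := by
  set p := Spec.map (CommRingCat.ofHom (algebraMap B A)) with hp
  have hρ1 : ∀ g : G, ∃ g' : G, (ρ g).hom =
      Spec.map (CommRingCat.ofHom (MulSemiringAction.toRingHom G A g')) := by
    intro g
    have : (ρ g).hom ∈ Set.range (fun g : G => (ρ g).hom) := ⟨g, rfl⟩
    rw [hρ] at this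
    obtain ⟨g', hg'⟩ := this
    exact ⟨g', hg'.symm⟩
  have hρ2 : ∀ g' : G, ∃ g : G, (ρ g).hom =
      Spec.map (CommRingCat.ofHom (MulSemiringAction.toRingHom G A g')) := by
    intro g'
    have : Spec.map (CommRingCat.ofHom (MulSemiringAction.toRingHom G A g')) ∈
        Set.range (fun g : G => (ρ g).hom) := by rw [hρ]; exact ⟨g', rfl⟩
    exact this
  have hinv : ∀ g : G, (ρ g).hom ≫ p = p := by
    intro g
    obtain ⟨g', hg'⟩ := hρ1 g
    rw [hg', hp, ← Spec.map_comp]
    congr 1
    ext b
    exact smul_algebraMap g' b
  -- global sections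
  have happ : ∀ {R S : CommRingCat.{u}} (φ : R ⟶ S) (s : Γ(Spec R, ⊤)),
      (Scheme.ΓSpecIso S).hom.hom ((Spec.map φ).appTop.hom s) =
        φ.hom ((Scheme.ΓSpecIso R).hom.hom s) := by
    intro R S φ s
    exact congrArg (fun f => f.hom s) (Scheme.ΓSpecIso_naturality φ)
  have hbijA : Function.Bijective (Scheme.ΓSpecIso (CommRingCat.of A)).hom.hom :=
    ConcreteCategory.bijective_of_isIso _
  have hbijB : Function.Bijective (Scheme.ΓSpecIso (CommRingCat.of B)).hom.hom :=
    ConcreteCategory.bijective_of_isIso _
  refine Groth.Agent.Lib.Helper7.FiniteQuotient.isQuot_of_affine_cover ρ p hinv {⊤} (fun y => ⟨⊤, rfl, trivial⟩) ?_ ?_ ?_ ?_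
  · rintro _ rfl; exact isAffineOpen_top _
  · rintro _ rfl; exact isAffineOpen_top _
  · rintro _ rfl
    intro s t hst
    apply hbijB.1
    apply (FaithfulSMul.algebraMap_injective B A)
    have h1 := happ (CommRingCat.ofHom (algebraMap B A)) s
    have h2 := happ (CommRingCat.ofHom (algebraMap B A)) t
    simp only [CommRingCat.hom_ofHom] at h1 h2
    rw [← h1, ← h2]
    exact congrArg _ hst
  · rintro _ rfl s hs
    have hinvA : ∀ g' : G, g' • (Scheme.ΓSpecIso (CommRingCat.of A)).hom.hom s =
        (Scheme.ΓSpecIso (CommRingCat.of A)).hom.hom s := by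
      intro g'
      obtain ⟨g, hg⟩ := hρ2 g'
      have h1 := happ (CommRingCat.ofHom (MulSemiringAction.toRingHom G A g')) s
      simp only [CommRingCat.hom_ofHom, MulSemiringAction.toRingHom_apply] at h1
      rw [← h1]
      congr 1
      have h2 := hs g
      have h3 : Groth.Agent.Lib.Helper7.FiniteQuotient.actHom ρ p hinv ⊤ g =
          (Spec.map (CommRingCat.ofHom (MulSemiringAction.toRingHom G A g'))).appTop := by
        unfold Groth.Agent.Lib.Helper7.FiniteQuotient.actHom
        rw [Groth.Agent.Lib.Helper7.FiniteQuotient.appLE_congr_hom hg]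
        exact (Scheme.Hom.app_eq_appLE _).symm
      rw [h3] at h2
      exact h2
    obtain ⟨b, hb⟩ := Algebra.IsInvariant.isInvariant (A := B) (G := G) _ hinvA
    refine ⟨(Scheme.ΓSpecIso (CommRingCat.of B)).inv.hom b, ?_⟩
    apply hbijA.1
    have h1 := happ (CommRingCat.ofHom (algebraMap B A)) ((Scheme.ΓSpecIso (CommRingCat.of B)).inv.hom b)
    simp only [CommRingCat.hom_ofHom] at h1
    have h4 : (Scheme.ΓSpecIso (CommRingCat.of B)).hom.hom
        ((Scheme.ΓSpecIso (CommRingCat.of B)).inv.hom b) = b := by
      rw [← RingHom.comp_apply, ← CommRingCat.hom_comp, Iso.inv_hom_id]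
      rfl
    rw [h4, hb] at h1
    exact h1

end Groth.Agent.S12059
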