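import Groth.Statements.S1206
import Mathlib.RingTheory.Ideal.Oka
import Mathlib.RingTheory.Ideal.Colon
import Mathlib.Order.CompactlyGenerated.Basic
import Mathlib.RingTheory.Noetherian.Defs
import Mathlib.RingTheory.LocalRing.MaximalIdeal.Basic

set_option autoImplicit false
universe u
open FlatMor

namespace Groth.Agent.S1206

/-- For a family of f.g. ideals closed under products such that every prime containing `g`
contains a member, `span {g}` itself contains a member. -/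
theorem exists_le_span {A : Type u} [CommRing A]
    (𝒮 : Set (Ideal A)) (hfg : ∀ I ∈ 𝒮, I.FG) (hmul : ∀ I ∈ 𝒮, ∀ J ∈ 𝒮, I * J ∈ 𝒮)
    (hS : 𝒮.Nonempty) (g : A)
    (hcov : ∀ (p : Ideal A), p.IsPrime → g ∈ p → ∃ I ∈ 𝒮, I ≤ p) :
    ∃ I ∈ 𝒮, I ≤ Ideal.span {g} := by
  let P : Ideal A → Prop := fun 𝔞 => g ∉ 𝔞 ∨ ∃ I ∈ 𝒮, I ≤ 𝔞
  have hP : Ideal.IsOka P := by
    refine ⟨?_, ?_⟩
    · obtain ⟨I, hI⟩ := hS
      exact Or.inr ⟨I, hI, le_top⟩
    · intro 𝔞 a h1 h2
      by_cases hg : g ∈ 𝔞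
      · right
        have hg1 : g ∈ 𝔞 ⊔ Ideal.span {a} := Ideal.mem_sup_left hg
        have hg2 : g ∈ 𝔞.colon (Ideal.span {a}) := Ideal.le_colon hg
        obtain ⟨I₁, hI₁, h1⟩ := h1.resolve_left (fun h => h hg1)
        obtain ⟨I₂, hI₂, h2⟩ := h2.resolve_left (fun h => h hg2)
        refine ⟨I₁ * I₂, hmul _ hI₁ _ hI₂, ?_⟩
        refine (Ideal.mul_mono h1 h2).trans ?_
        rw [Ideal.sup_mul]
        refine sup_le (Ideal.mul_le_left) ?_
        rw [Ideal.span_singleton_mul_le_iff]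
        intro z hz
        rw [Ideal.mem_colon_span_singleton] at hz
        rwa [mul_comm]
      · exact Or.inl hg
  have key : ∀ 𝔞, P 𝔞 := by
    refine hP.forall_of_forall_prime' ?_ ?_
    · intro C hC hchain J hJ hsup
      have hgJ : g ∈ J := by
        by_contra h
        exact hC hJ (Or.inl h)
      have hgs : g ∈ sSup C := (le_sSup hJ) hgJ
      obtain ⟨I, hI, hIs⟩ := hsup.resolve_left (fun h => h hgs)
      have hcomp : IsCompactElement I := (Submodule.fg_iff_compact I).mp (hfg I hI)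
      rw [CompleteLattice.isCompactElement_iff_le_of_directed_sSup_le] at hcomp
      obtain ⟨K, hK, hIK⟩ := hcomp C ⟨J, hJ⟩ hchain.directedOn hIs
      exact ⟨K, hK, Or.inr ⟨I, hI, hIK⟩⟩
    · intro p hp
      by_cases hg : g ∈ p
      · exact Or.inr (hcov p hp hg)
      · exact Or.inl hg
  exact (key (Ideal.span {g})).resolve_left (fun h => h (Ideal.mem_span_singleton_self g))

/-- Let A be a local domain which is not a field and 𝒮 a set of finitely generated ideals of A, closed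
under products, such that the union of the closed sets V(I), I ∈ 𝒮, is exactly the set of nonzero
primes (every nonzero prime contains a member of 𝒮 and no member is zero). Then the intersection of
all members of 𝒮 is zero. -/
theorem result (A : Type u) [CommRing A] [IsDomain A] [IsLocalRing A] (hA : ¬ IsField A)
    (𝒮 : Set (Ideal A)) (hfg : ∀ I ∈ 𝒮, I.FG) (hmul : ∀ I ∈ 𝒮, ∀ J ∈ 𝒮, I * J ∈ 𝒮)
    (hne : ∀ I ∈ 𝒮, I ≠ ⊥) (hcov : ∀ (p : Ideal A), p.IsPrime → p ≠ ⊥ → ∃ I ∈ 𝒮, I ≤ p) :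
    sInf 𝒮 = ⊥ := by
  have hm : IsLocalRing.maximalIdeal A ≠ ⊥ := by
    intro h
    exact hA (IsLocalRing.isField_iff_maximalIdeal_eq.mpr h)
  obtain ⟨I₀, hI₀, hI₀m⟩ := hcov _ inferInstance hm
  rw [eq_bot_iff]
  intro f hf
  rw [Ideal.mem_bot]
  by_contra hf0
  have hfI : ∀ I ∈ 𝒮, f ∈ I := fun I hI => (Ideal.mem_sInf.mp hf) hI
  have hfm : f ∈ IsLocalRing.maximalIdeal A := hI₀m (hfI I₀ hI₀)
  have hf2 : f ^ 2 ≠ 0 := pow_ne_zero 2 hf0
  obtain ⟨I, hI, hIf⟩ := exists_le_span 𝒮 hfg hmul ⟨I₀, hI₀⟩ (f ^ 2) (by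
    intro p hp hgp
    refine hcov p hp ?_
    rintro rfl
    exact hf2 (by simpa using hgp))
  have : f ∈ Ideal.span {f ^ 2} := hIf (hfI I hI)
  rw [Ideal.mem_span_singleton'] at this
  obtain ⟨a, ha⟩ := this
  have h1 : a * f = 1 := by
    have : f * (a * f) = f * 1 := by rw [mul_one]; nth_rewrite 3 [← ha]; ring
    exact mul_left_cancel₀ hf0 this
  have hunit : IsUnit f := IsUnit.of_mul_eq_one a (by rw [mul_comm]; exact h1)
  exact (IsLocalRing.mem_maximalIdeal f).mp hfm hunit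

end Groth.Agent.S1206
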