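import Groth.Statements.S12067
import Groth.Agent.Lib.Helper7.ComodUnip

set_option autoImplicit false
universe u
open TensorProduct
open SGA3t2b

namespace Groth.Agent.S12067

open Groth.Agent.Lib.Helper7.Comod in
lemma exists_step {k : Type u} [Field k] {A : Type u} [CommRing A] [HopfAlgebra k A]
    (hU : HopfRep.IsUnipotent k A)
    {V : Type u} [AddCommGroup V] [Module k V] [HopfRep.Comod k A V] [Module.Finite k V]
    (W : Submodule k V) (hW : HopfRep.IsSubcomod (k := k) (A := A) W) (hne : W ≠ ⊤) :
    ∃ W' : Submodule k V, W ≤ W' ∧ HopfRep.IsSubcomod (k := k) (A := A) W' ∧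
      Module.finrank k ↥W' = Module.finrank k ↥W + 1 ∧
      ∀ v ∈ W', HopfRep.Comod.coact (k := k) (A := A) v - v ⊗ₜ[k] (1 : A) ∈
        LinearMap.range (W.subtype.rTensor A) := by
  have hnt : Nontrivial (V ⧸ W) := Submodule.Quotient.nontrivial_iff.2 hne
  have hfix := @hU (V ⧸ W) _ _ (ComodSub.Comod.quot inferInstance W hW) inferInstance hnt
  have hlt := lt_nextFix_of_fixedPts_ne_bot hW hfix
  obtain ⟨w, hw1, hw2⟩ := SetLike.exists_of_lt hlt
  have hw0 : w ≠ 0 := by
    rintro rfl
    exact hw2 W.zero_mem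
  have hle : W ⊔ Submodule.span k {w} ≤ nextFix k A W := by
    refine sup_le (le_nextFix hW) ?_
    rw [Submodule.span_le]
    intro x hx
    rw [Set.mem_singleton_iff] at hx
    subst hx
    exact hw1
  have hd : ∀ v ∈ W ⊔ Submodule.span k {w},
      HopfRep.Comod.coact (k := k) (A := A) v - v ⊗ₜ[k] (1 : A) ∈
        LinearMap.range (W.subtype.rTensor A) := fun v hv => (mem_nextFix W v).1 (hle hv)
  refine ⟨W ⊔ Submodule.span k {w}, le_sup_left, ?_, ?_, hd⟩
  · intro v hv
    have h1 : HopfRep.Comod.coact (k := k) (A := A) v =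
        (HopfRep.Comod.coact (k := k) (A := A) v - v ⊗ₜ[k] (1 : A)) + v ⊗ₜ[k] (1 : A) := by
      rw [sub_add_cancel]
    rw [h1]
    exact Submodule.add_mem _ (range_rTensor_mono le_sup_left (hd v hv))
      (tmul_mem_range_rTensor hv 1)
  · have h1 := Submodule.finrank_sup_add_finrank_inf_eq W (Submodule.span k {w})
    have h2 : W ⊓ Submodule.span k {w} = ⊥ :=
      disjoint_iff.1 ((Submodule.disjoint_span_singleton' hw0).2 hw2)
    rw [h2, finrank_bot, finrank_span_singleton hw0] at h1
    omega

/-- The recursive flag. -/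
noncomputable def stepF {k : Type u} [Field k] {A : Type u} [CommRing A] [HopfAlgebra k A]
    (hU : HopfRep.IsUnipotent k A)
    (V : Type u) [AddCommGroup V] [Module k V] [HopfRep.Comod k A V] [Module.Finite k V] :
    ℕ → {W : Submodule k V // HopfRep.IsSubcomod (k := k) (A := A) W}
  | 0 => ⟨⊥, Groth.Agent.Lib.Helper7.Comod.isSubcomod_bot⟩
  | n + 1 =>
    if h : (stepF hU V n).1 = ⊤ then stepF hU V n
    else ⟨Classical.choose (exists_step hU (stepF hU V n).1 (stepF hU V n).2 h),
      (Classical.choose_spec (exists_step hU (stepF hU V n).1 (stepF hU V n).2 h)).2.1⟩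

lemma stepF_succ {k : Type u} [Field k] {A : Type u} [CommRing A] [HopfAlgebra k A]
    (hU : HopfRep.IsUnipotent k A)
    (V : Type u) [AddCommGroup V] [Module k V] [HopfRep.Comod k A V] [Module.Finite k V]
    (n : ℕ) (h : (stepF hU V n).1 ≠ ⊤) :
    (stepF hU V n).1 ≤ (stepF hU V (n + 1)).1 ∧
      Module.finrank k ↥(stepF hU V (n + 1)).1 = Module.finrank k ↥(stepF hU V n).1 + 1 ∧
      ∀ v ∈ (stepF hU V (n + 1)).1, HopfRep.Comod.coact (k := k) (A := A) v - v ⊗ₜ[k] (1 : A) ∈
        LinearMap.range ((stepF hU V n).1.subtype.rTensor A) := by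
  have hs := Classical.choose_spec (exists_step hU (stepF hU V n).1 (stepF hU V n).2 h)
  have he : stepF hU V (n + 1) =
      ⟨Classical.choose (exists_step hU (stepF hU V n).1 (stepF hU V n).2 h), hs.2.1⟩ := by
    rw [stepF, dif_neg h]
  rw [he]
  exact ⟨hs.1, hs.2.2.1, hs.2.2.2⟩

lemma stepF_finrank {k : Type u} [Field k] {A : Type u} [CommRing A] [HopfAlgebra k A]
    (hU : HopfRep.IsUnipotent k A)
    (V : Type u) [AddCommGroup V] [Module k V] [HopfRep.Comod k A V] [Module.Finite k V]
    (n : ℕ) (hn : n ≤ Module.finrank k V) :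
    Module.finrank k ↥(stepF hU V n).1 = n := by
  induction n with
  | zero => simp only [stepF]; exact finrank_bot k V
  | succ n ih =>
    have h1 := ih (by omega)
    have hne : (stepF hU V n).1 ≠ ⊤ := by
      intro htop
      rw [htop, finrank_top] at h1
      omega
    rw [(stepF_succ hU V n hne).2.1, h1]


/-- In Hopf-algebra form, let k be a field and A a finitely generated commutative Hopf algebra over k
(an affine algebraic group G) which is unipotent: every nonzero finite-dimensional comodule has a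
nonzero fixed vector. Then every finite-dimensional comodule V (a finite-dimensional representation
of G), of dimension n, has a flag of subcomodules 0 = V_0 ⊂ V_1 ⊂ ⋯ ⊂ V_n = V with one-dimensional
successive quotients on which G acts trivially: for v ∈ V_(i+1) the coaction of v is congruent to v
⊗ 1 modulo V_i ⊗ A. -/
theorem result (k : Type u) [Field k] (A : Type u) [CommRing A]
    [HopfAlgebra k A] [Algebra.FiniteType k A] (hU : HopfRep.IsUnipotent k A)
    (V : Type u) [AddCommGroup V] [Module k V] [HopfRep.Comod k A V] [Module.Finite k V] :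
    ∃ F : Fin (Module.finrank k V + 1) → Submodule k V,
      F 0 = ⊥ ∧ F (Fin.last _) = ⊤ ∧
      (∀ i : Fin (Module.finrank k V + 1), HopfRep.IsSubcomod (k := k) (A := A) (F i)) ∧
      ∀ i : Fin (Module.finrank k V), F i.castSucc ≤ F i.succ ∧
        Module.finrank k ↥(F i.succ) = Module.finrank k ↥(F i.castSucc) + 1 ∧
        ∀ v ∈ F i.succ, HopfRep.Comod.coact (k := k) (A := A) v - v ⊗ₜ[k] (1 : A) ∈
          LinearMap.range ((F i.castSucc).subtype.rTensor A) := by
  refine ⟨fun i => (stepF hU V i.val).1, ?_, ?_, fun i => (stepF hU V i.val).2, ?_⟩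
  · simp [stepF]
  · apply Submodule.eq_top_of_finrank_eq
    exact stepF_finrank hU V _ le_rfl
  · intro i
    have h1 := stepF_finrank hU V i.val (by omega)
    have hne : (stepF hU V i.val).1 ≠ ⊤ := by
      intro htop
      rw [htop, finrank_top] at h1
      omega
    have hs := stepF_succ hU V i.val hne
    exact ⟨hs.1, hs.2.1, hs.2.2⟩

end Groth.Agent.S12067
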