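import Groth.Statements.S1207
import Groth.Agent.S1206
import Mathlib.RingTheory.Ideal.Quotient.Operations
import Mathlib.RingTheory.LocalRing.RingHom.Basic

set_option autoImplicit false
universe u
open FlatMor

namespace Groth.Agent.S1207

/-- Let A be a local ring and I, J ideals of A with J finitely generated, J ≠ A, and I ⊆ J^n for all n ≥
1. Then every prime p not containing J which is maximal among the primes not containing J (a closed
point of Spec A ∖ V(J)) contains I. (The published statement leaves the hypothesis J ≠ A implicit;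
for J = A the assertion fails.) -/
theorem result (A : Type u) [CommRing A] [IsLocalRing A] (I J : Ideal A) (hJ : J.FG) (hJ1 : J ≠ ⊤)
    (hI : ∀ n : ℕ, 1 ≤ n → I ≤ J ^ n) (p : Ideal A) [p.IsPrime] (hp : ¬ J ≤ p)
    (hmax : ∀ (p' : Ideal A), p'.IsPrime → p ≤ p' → ¬ J ≤ p' → p' = p) : I ≤ p := by
  have hloc : IsLocalRing (A ⧸ p) := .of_surjective' _ Ideal.Quotient.mk_surjective
  have hJm : J ≤ IsLocalRing.maximalIdeal A := IsLocalRing.le_maximalIdeal hJ1
  set π := Ideal.Quotient.mk p with hπ
  have hnf : ¬ IsField (A ⧸ p) := by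
    intro hf
    have hpmax : p.IsMaximal := Ideal.Quotient.maximal_of_isField p hf
    have : p = IsLocalRing.maximalIdeal A := IsLocalRing.eq_maximalIdeal hpmax
    exact hp (this ▸ hJm)
  have hJbar : J.map π ≠ ⊥ := by
    intro h
    apply hp
    rw [Ideal.map_eq_bot_iff_le_ker, Ideal.mk_ker] at h
    exact h
  have key := Groth.Agent.S1206.result (A ⧸ p) hnf
    (Set.range (fun n : ℕ => (J.map π) ^ (n + 1)))
    (by
      rintro _ ⟨n, rfl⟩
      exact (hJ.map π).pow)
    (by
      rintro _ ⟨n, rfl⟩ _ ⟨m, rfl⟩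
      exact ⟨n + m + 1, by simp only [← pow_add]; congr 1; omega⟩)
    (by
      rintro _ ⟨n, rfl⟩ h
      exact hJbar (pow_eq_zero_iff (n.succ_ne_zero) |>.mp h))
    (by
      intro q hq hq0
      refine ⟨J.map π, ⟨0, by simp⟩, ?_⟩
      rw [Ideal.map_le_iff_le_comap]
      by_contra hJq
      have h1 : p ≤ q.comap π := by
        intro x hx
        rw [Ideal.mem_comap]
        have : π x = 0 := Ideal.Quotient.eq_zero_iff_mem.mpr hx
        rw [this]; exact q.zero_mem
      have h2 := hmax (q.comap π) (Ideal.comap_isPrime π q) h1 hJq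
      apply hq0
      rw [eq_bot_iff]
      intro y hy
      obtain ⟨x, rfl⟩ := Ideal.Quotient.mk_surjective y
      have : x ∈ q.comap π := hy
      rw [h2] at this
      rw [Ideal.mem_bot]
      exact Ideal.Quotient.eq_zero_iff_mem.mpr this)
  intro x hx
  have : π x ∈ sInf (Set.range (fun n : ℕ => (J.map π) ^ (n + 1))) := by
    rw [Ideal.mem_sInf]
    rintro _ ⟨n, rfl⟩
    show π x ∈ Ideal.map π J ^ (n + 1)
    rw [← Ideal.map_pow]
    exact Ideal.mem_map_of_mem π (hI (n + 1) (by omega) hx)
  rw [key, Ideal.mem_bot] at this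
  exact Ideal.Quotient.eq_zero_iff_mem.mp this

end Groth.Agent.S1207
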