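import Groth.Statements.S12071
import Mathlib
-- import your own Groth.Agent.* helpers here

set_option autoImplicit false
open RootD

namespace Groth.Agent.S12071

/-- Let G be the group generated by two elements x, y subject to x² = y² = 1 (the infinite dihedral
group; here Mathlib's DihedralGroup 0 with x = sr 0 and y = sr 1, so that x y = r 1). Then every
normal subgroup of G containing neither x nor y is generated by an element (x y)^n with n > 0; such
a subgroup is cyclic, generated by r n. (The published statement does not exclude the trivial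
subgroup, for which no n > 0 works; this row assumes the subgroup nontrivial.) -/
theorem result (N : Subgroup (DihedralGroup 0)) [N.Normal]
    (hN : N ≠ ⊥) (hx : DihedralGroup.sr (0 : ZMod 0) ∉ N) (hy : DihedralGroup.sr (1 : ZMod 0) ∉ N) :
    ∃ n : ℕ, 0 < n ∧ N = Subgroup.zpowers (DihedralGroup.r (n : ZMod 0)) := by
  -- no reflection lies in `N`
  have hsr : ∀ i : ZMod 0, DihedralGroup.sr i ∉ N := by
    intro i hi
    have hconj : ∀ j : ZMod 0, DihedralGroup.sr (i - (j + j)) ∈ N := by
      intro j
      have := ‹N.Normal›.conj_mem _ hi (DihedralGroup.r j)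
      rw [DihedralGroup.r_mul_sr, DihedralGroup.inv_r, DihedralGroup.sr_mul_r] at this
      have h2 : i - j + -j = i - (j + j) := by ring
      rwa [h2] at this
    obtain ⟨j, hj | hj⟩ := Int.even_or_odd' (show ℤ from i)
    · apply hx
      have := hconj (show ZMod 0 from j)
      have h2 : i - ((show ZMod 0 from j) + (show ZMod 0 from j)) = (0 : ZMod 0) := by
        show (show ℤ from i) - (j + j) = 0
        omega
      rwa [h2] at this
    · apply hy
      have := hconj (show ZMod 0 from j)
      have h2 : i - ((show ZMod 0 from j) + (show ZMod 0 from j)) = (1 : ZMod 0) := by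
        show (show ℤ from i) - (j + j) = 1
        omega
      rwa [h2] at this
  -- the subgroup of rotations in `N`
  let S : AddSubgroup ℤ :=
    { carrier := {k : ℤ | @DihedralGroup.r 0 k ∈ N}
      add_mem' := by
        intro a b ha hb
        have := N.mul_mem ha hb
        rwa [DihedralGroup.r_mul_r] at this
      zero_mem' := by
        show DihedralGroup.r (0 : ZMod 0) ∈ N
        rw [DihedralGroup.r_zero]; exact N.one_mem
      neg_mem' := by
        intro a ha
        have := N.inv_mem ha
        rwa [DihedralGroup.inv_r] at this }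
  obtain ⟨a, ha⟩ := Int.subgroup_cyclic S
  have hmem : ∀ k : ℤ, @DihedralGroup.r 0 k ∈ N ↔ a ∣ k := by
    intro k
    have : k ∈ S ↔ a ∣ k := by
      rw [ha, ← AddSubgroup.zmultiples_eq_closure, Int.mem_zmultiples_iff]
    exact this
  have ha0 : a ≠ 0 := by
    rintro rfl
    apply hN
    rw [Subgroup.eq_bot_iff_forall]
    intro g hg
    cases g with
    | r k =>
      have := (hmem k).mp hg
      rw [zero_dvd_iff] at this
      have hk : k = (0 : ZMod 0) := this
      rw [hk, DihedralGroup.r_zero]
    | sr k => exact absurd hg (hsr k)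
  refine ⟨a.natAbs, Int.natAbs_pos.mpr ha0, ?_⟩
  have hcast : ((a.natAbs : ℕ) : ZMod 0) = (show ZMod 0 from (a.natAbs : ℤ)) := by
    rfl
  apply le_antisymm
  · intro g hg
    cases g with
    | r k =>
      have hk := (hmem k).mp hg
      have hk' : (a.natAbs : ℤ) ∣ k := Int.natAbs_dvd.mpr hk
      obtain ⟨m, hm⟩ := hk'
      rw [Subgroup.mem_zpowers_iff]
      refine ⟨m, ?_⟩
      rw [DihedralGroup.r_zpow]
      congr 1
      rw [hcast]
      show (a.natAbs : ℤ) * ((m : ℤ) : ZMod 0) = k
      rw [hm]
    | sr k => exact absurd hg (hsr k)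
  · rw [Subgroup.zpowers_le]
    rw [hcast]
    exact (hmem _).mpr (Int.dvd_natAbs.mpr dvd_rfl)

end Groth.Agent.S12071
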