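import Groth.Statements.S12073
import Groth.Agent.Lib.Helper1.ObjDescCover
import Groth.Agent.Lib.Helper13.IntegralDescent

set_option autoImplicit false
universe u
open CategoryTheory CategoryTheory.Limits AlgebraicGeometry
open Pi1

namespace Groth.Agent.S12073
open CategoryTheory.Limits Groth.Agent.Lib.Helper5 Groth.Agent.Lib.Helper13 Groth.Agent.Lib.Helper13.LimitDescent

/-- Let X = lim X_i be the limit of a cofiltered system of quasi-compact quasi-separated schemes with
affine transition morphisms, given by a limit cone. Then: (1) every finite étale cover of X is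
isomorphic, over X, to the base change of a finite étale cover of some X_i; (2) if two morphisms
between finite étale covers of some X_i have the same base change to X, then they have the same base
change to some X_j with j → i. (Fullness — every morphism over X between base changes comes from
some stage — is part of the published statement and is not stated here; nor is the consequence on
fundamental groups.) -/
theorem result {I : Type u} [SmallCategory I] [IsCofiltered I]
    (D : I ⥤ Scheme.{u}) (c : Limits.Cone D) (hc : Limits.IsLimit c)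
    [∀ (i j : I) (f : i ⟶ j), IsAffineHom (D.map f)] [∀ i, CompactSpace (D.obj i)]
    [∀ i, QuasiSeparatedSpace (D.obj i)] :
    (∀ V : FEt.Cat c.pt, ∃ (i : I) (Vi : FEt.Cat (D.obj i)), Nonempty ((FEt.restrict (c.π.app i)).obj Vi ≅ V)) ∧
    (∀ (i : I) (Vi Wi : FEt.Cat (D.obj i)) (φ ψ : Vi ⟶ Wi),
      (FEt.restrict (c.π.app i)).map φ = (FEt.restrict (c.π.app i)).map ψ →
      ∃ (j : I) (a : j ⟶ i), (FEt.restrict (D.map a)).map φ = (FEt.restrict (D.map a)).map ψ) := by
  haveI hAff : ∀ {i j : I} (t : i ⟶ j), IsAffineHom (D.map t) := fun t => inferInstance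
  refine ⟨?_, ?_⟩
  · intro V
    haveI : IsFinite V.hom := V.prop.1
    haveI : Etale V.hom := V.prop.2
    obtain ⟨i, W, v, g, h1, h2, h3, sq⟩ :=
      Groth.Agent.Lib.Helper1.ObjDesc.desc_of_finitePresentation hc V.hom
    let M : Groth.Agent.Lib.Helper1.ObjDesc.Model D c V.hom i := ⟨W, v, g, sq⟩
    have hM : M.IsFP := ⟨h1, h2, h3⟩
    haveI : LocallyOfFinitePresentation M.v := h1
    haveI : QuasiCompact M.v := h2
    haveI : CompactSpace M.V := QuasiCompact.compactSpace_of_compactSpace M.v
    obtain ⟨j₁, hj₁⟩ := M.exists_etale hc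
    have hM₁ := Groth.Agent.Lib.Helper1.ObjDesc.Model.reindex_isFP hM j₁
    haveI : LocallyOfFinitePresentation (M.reindex j₁).v := hM₁.1
    haveI : QuasiCompact (M.reindex j₁).v := hM₁.2.1
    haveI : QuasiSeparated (M.reindex j₁).v := hM₁.2.2
    obtain ⟨j₂, hj₂⟩ := (M.reindex j₁).exists_of_conclusion @IsFinite
      (Groth.Agent.Lib.Helper13.LimitDescent.exists_isFinite_descend hc
        (g₀ := 𝟙 _) (g := 𝟙 _) (qY := c.π.app j₁.left) IsPullback.of_id_snd (M.reindex j₁).sq)
    have het : Etale ((M.reindex j₁).reindex j₂).v :=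
      MorphismProperty.of_isPullback ((M.reindex j₁).isPullback_proj j₂) hj₁
    refine ⟨j₂.left, MorphismProperty.Over.mk ⊤ ((M.reindex j₁).reindex j₂).v ⟨hj₂, het⟩, ⟨?_⟩⟩
    refine MorphismProperty.Over.isoMk ((M.reindex j₁).reindex j₂).sq.isoPullback.symm ?_
    exact ((M.reindex j₁).reindex j₂).sq.isoPullback_inv_snd
  · intro i Vi Wi φ ψ h
    haveI : IsFinite Vi.hom := Vi.prop.1
    haveI : IsFinite Wi.hom := Wi.prop.1
    have hφ : φ.left ≫ Wi.hom = Vi.hom := MorphismProperty.Over.w φ
    have hψ : ψ.left ≫ Wi.hom = Vi.hom := MorphismProperty.Over.w ψ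
    have hleft : ((FEt.restrict (c.π.app i)).map φ).left = ((FEt.restrict (c.π.app i)).map ψ).left :=
      congrArg (fun m => m.left) h
    have h1 : ((FEt.restrict (c.π.app i)).map φ).left ≫ pullback.fst Wi.hom (c.π.app i) =
        pullback.fst Vi.hom (c.π.app i) ≫ φ.left := pullback.lift_fst _ _ _
    have h2 : ((FEt.restrict (c.π.app i)).map ψ).left ≫ pullback.fst Wi.hom (c.π.app i) =
        pullback.fst Vi.hom (c.π.app i) ≫ ψ.left := pullback.lift_fst _ _ _
    have key : pullback.fst Vi.hom (c.π.app i) ≫ φ.left =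
        pullback.fst Vi.hom (c.π.app i) ≫ ψ.left := by rw [← h1, ← h2, hleft]
    have key' : pullback.snd (c.π.app i) Vi.hom ≫ φ.left =
        pullback.snd (c.π.app i) Vi.hom ≫ ψ.left := by
      rw [← pullbackSymmetry_hom_comp_fst, Category.assoc, Category.assoc, key]
    haveI : ∀ j, CompactSpace ((bcDiagram D i Vi.hom).obj j) := fun j =>
      compactSpace_Yj D i Vi.hom j
    obtain ⟨k, hik, hk⟩ := Scheme.exists_hom_comp_eq_comp_of_locallyOfFiniteType
      (bcDiagram D i Vi.hom) (tY D i Vi.hom) Wi.hom (bcCone D c i Vi.hom)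
      (isLimitBcCone D c hc i Vi.hom) (i := Over.mk (𝟙 i))
      (pYj D i Vi.hom (Over.mk (𝟙 i)) ≫ φ.left) (pYj D i Vi.hom (Over.mk (𝟙 i)) ≫ ψ.left)
      (((Category.assoc _ _ _).trans
        (congrArg (fun m => pYj D i Vi.hom (Over.mk (𝟙 i)) ≫ m) hφ)).symm)
      (((Category.assoc _ _ _).trans
        (congrArg (fun m => pYj D i Vi.hom (Over.mk (𝟙 i)) ≫ m) hψ)).symm)
      (by
        have := bcCone_π_app_snd D c i Vi.hom (Over.mk (𝟙 i))
        rw [reassoc_of% this, reassoc_of% this]
        exact key')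
    have e1 : (bcDiagram D i Vi.hom).map hik ≫ pYj D i Vi.hom (Over.mk (𝟙 i)) =
        pYj D i Vi.hom k := bcDiagram_map_pYj D i Vi.hom hik
    rw [reassoc_of% e1, reassoc_of% e1] at hk
    have hk' : pullback.fst Vi.hom (D.map k.hom) ≫ φ.left =
        pullback.fst Vi.hom (D.map k.hom) ≫ ψ.left := by
      rw [← pullbackSymmetry_hom_comp_snd, Category.assoc, Category.assoc]
      exact congrArg (fun m => (pullbackSymmetry Vi.hom (D.map k.hom)).hom ≫ m) hk
    refine ⟨k.left, k.hom, ?_⟩
    apply MorphismProperty.Over.Hom.ext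
    change pullback.lift (pullback.fst Vi.hom (D.map k.hom) ≫ φ.left)
      (pullback.snd Vi.hom (D.map k.hom)) _ = pullback.lift
      (pullback.fst Vi.hom (D.map k.hom) ≫ ψ.left) (pullback.snd Vi.hom (D.map k.hom)) _
    apply pullback.hom_ext
    · rw [pullback.lift_fst, pullback.lift_fst, hk']
    · rw [pullback.lift_snd, pullback.lift_snd]

end Groth.Agent.S12073
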