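import Groth.Statements.S12076
import Mathlib
import Groth.Agent.Lib.Helper4.RootDPos

set_option autoImplicit false
open RootD

namespace Groth.Agent.S12076

open Groth.Agent.Lib.Helper4.RootDLib in
/-- Let Δ be a system of simple roots (a base b of a root pairing P over ℤ) and Γ₀ the subgroup
generated by the roots. Then Γ₀ has a structure of totally ordered group for which the roots > 0 are
exactly the positive roots defined by Δ and for which the height (the additive function with value 1
on each simple root) is monotone. The order is given here by its positive cone C ⊆ Γ₀: 0 ∉ C, C + C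
⊆ C, and for every x ≠ 0 exactly one of x, −x lies in C (x < y meaning y − x ∈ C). -/
theorem result {ι M N : Type*} [AddCommGroup M] [AddCommGroup N]
    (P : RootPairing ι ℤ M N) [Finite ι] (b : P.Base) :
    ∃ C : Set ↥(Submodule.span ℤ (Set.range P.root)),
      0 ∉ C ∧ (∀ x ∈ C, ∀ y ∈ C, x + y ∈ C) ∧ (∀ x, x ≠ 0 → (x ∈ C ∨ -x ∈ C)) ∧ (∀ x ∈ C, -x ∉ C) ∧
      (∀ i : ι, (⟨P.root i, Submodule.subset_span (Set.mem_range_self i)⟩ : ↥(Submodule.span ℤ (Set.range P.root))) ∈ C ↔
        b.IsPos i) ∧
      ∀ φ : ↥(Submodule.span ℤ (Set.range P.root)) →+ ℤ,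
        (∀ j ∈ b.support, φ ⟨P.root j, Submodule.subset_span (Set.mem_range_self j)⟩ = 1) →
        ∀ x y : ↥(Submodule.span ℤ (Set.range P.root)), y - x ∈ C → φ x ≤ φ y := by
  classical
  have : Fintype ι := Fintype.ofFinite ι
  obtain ⟨B, hB⟩ : ∃ B : Module.Basis b.support ℤ ↥(Submodule.span ℤ (Set.range P.root)),
      ∀ j : b.support, ((B j : ↥(Submodule.span ℤ (Set.range P.root))) : M) = P.root j :=
    ⟨b.toWeightBasisInt, fun j => b.coe_toWeightBasisInt_apply j⟩
  -- the height
  obtain ⟨h, hh⟩ : ∃ h : ↥(Submodule.span ℤ (Set.range P.root)) →ₗ[ℤ] ℤ, ∀ j, h (B j) = 1 :=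
    ⟨B.constr ℤ (fun _ => (1 : ℤ)), fun j => B.constr_basis ℤ _ j⟩
  -- the coordinates
  let e : b.support ≃ Fin (Fintype.card b.support) := Fintype.equivFin _
  let ψ : ↥(Submodule.span ℤ (Set.range P.root)) →+ Lex (Fin (Fintype.card b.support) → ℤ) :=
    { toFun := fun x => toLex (fun k => B.repr x (e.symm k))
      map_zero' := by
        apply ofLex_inj.mp
        funext k
        simp
        rfl
      map_add' := by
        intro x y
        apply ofLex_inj.mp
        funext k
        simp
        rfl }
  have hψinj : ∀ x, ψ x = 0 → x = 0 := by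
    intro x hx
    apply B.repr.injective
    rw [map_zero]
    ext j
    have := congrArg (fun f => (ofLex f) (e j)) hx
    simp [ψ] at this
    exact this.trans rfl
  have hheight : ∀ i : ι, h ⟨P.root i, Submodule.subset_span (Set.mem_range_self i)⟩ =
      b.height i := by
    intro i
    obtain ⟨f, -, -, hf⟩ := b.exists_root_eq_sum_int i
    rw [RootPairing.Base.height_eq_sum hf]
    have hsum : (⟨P.root i, Submodule.subset_span (Set.mem_range_self i)⟩ :
        ↥(Submodule.span ℤ (Set.range P.root))) = ∑ j : b.support, f j • B j := by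
      apply Subtype.ext
      rw [Submodule.coe_sum]
      simp only [Submodule.coe_smul, hB]
      rw [Finset.sum_coe_sort b.support (fun j => f j • P.root j)]
      exact hf
    rw [hsum, map_sum]
    simp only [map_smul, hh, smul_eq_mul, mul_one]
    rw [Finset.sum_coe_sort b.support f]
  refine ⟨{x | 0 < h x ∨ (h x = 0 ∧ 0 < ψ x)}, ?_, ?_, ?_, ?_, ?_, ?_⟩
  · rintro (h0 | ⟨-, h0⟩)
    · rw [map_zero] at h0; exact lt_irrefl _ h0
    · rw [map_zero] at h0; exact lt_irrefl _ h0
  · rintro x hx y hy
    simp only [Set.mem_ofPred_eq, map_add] at hx hy ⊢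
    rcases hx with hx | ⟨hx, hx'⟩ <;> rcases hy with hy | ⟨hy, hy'⟩
    · left; omega
    · left; omega
    · left; omega
    · right; exact ⟨by omega, add_pos hx' hy'⟩
  · intro x hx
    simp only [Set.mem_ofPred_eq, map_neg]
    rcases lt_trichotomy (h x) 0 with h1 | h1 | h1
    · right; left; omega
    · have hne : ψ x ≠ 0 := fun h0 => hx (hψinj x h0)
      rcases lt_trichotomy (ψ x) 0 with h2 | h2 | h2
      · right; right; exact ⟨by omega, neg_pos.mpr h2⟩
      · exact absurd h2 hne
      · left; right; exact ⟨h1, h2⟩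
    · left; left; exact h1
  · intro x hx hx'
    simp only [Set.mem_ofPred_eq, map_neg] at hx hx'
    rcases hx with hx | ⟨hx, hx2⟩ <;> rcases hx' with hx' | ⟨hx', hx2'⟩
    · omega
    · omega
    · omega
    · exact lt_asymm hx2 (neg_pos.mp hx2')
  · intro i
    simp only [Set.mem_ofPred_eq]
    rw [hheight, RootPairing.Base.isPos_iff]
    have hne := b.height_ne_zero i
    constructor
    · rintro (h1 | ⟨h1, -⟩)
      · exact h1
      · exact absurd h1 hne
    · intro h1
      exact Or.inl h1
  · intro φ hφ x y hxy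
    have hφh : φ.toIntLinearMap = h := by
      apply B.ext
      intro j
      rw [hh]
      have := hφ j j.2
      have hBj : B j = ⟨P.root j, Submodule.subset_span (Set.mem_range_self (j : ι))⟩ :=
        Subtype.ext (hB j)
      rw [← hBj] at this
      exact this
    have h1 : 0 ≤ h (y - x) := by
      rcases hxy with h2 | ⟨h2, -⟩
      · exact h2.le
      · exact h2.ge
    rw [← hφh] at h1
    have h2 : 0 ≤ φ (y - x) := h1
    rw [map_sub] at h2
    omega

end Groth.Agent.S12076
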