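import Groth.Statements.S12078
import Mathlib.RingTheory.Bezout
import Mathlib.LinearAlgebra.Matrix.NonsingularInverse
-- import your own Groth.Agent.* helpers here

set_option autoImplicit false
universe u
open CAlg

namespace Groth.Agent.S12078

/-- An elementary divisor domain is Bézout. Here `R` is a domain such that for all `n, m ≥ 1` and every
`n × m` matrix `A` there are invertible matrices `U` (`n × n`) and `V` (`m × m`) with `U * A * V`
zero off the diagonal and with diagonal entries `f 0 ∣ f 1 ∣ f 2 ∣ …`; the conclusion is that every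
finitely generated ideal of `R` is principal. -/
theorem result (R : Type u) [CommRing R] [IsDomain R]
    (hR : ∀ n m : ℕ, 1 ≤ n → 1 ≤ m → ∀ A : Matrix (Fin n) (Fin m) R,
      ∃ (U : (Matrix (Fin n) (Fin n) R)ˣ) (V : (Matrix (Fin m) (Fin m) R)ˣ) (f : ℕ → R),
        (∀ k : ℕ, f k ∣ f (k + 1)) ∧
        ∀ (i : Fin n) (j : Fin m), ((U : Matrix (Fin n) (Fin n) R) * A * (V : Matrix (Fin m) (Fin m) R)) i j =
          if (i : ℕ) = (j : ℕ) then f i else 0) :
    IsBezout R := by
  rw [IsBezout.iff_span_pair_isPrincipal]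
  intro a b
  set A : Matrix (Fin 1) (Fin 2) R := !![a, b] with hAdef
  obtain ⟨U, V, f, -, h⟩ := hR 1 2 le_rfl (by norm_num) A
  set B : Matrix (Fin 1) (Fin 2) R := (U : Matrix (Fin 1) (Fin 1) R) * A * (V : Matrix (Fin 2) (Fin 2) R)
    with hBdef
  have hB0 : B 0 0 = f 0 := by simpa using h 0 0
  have hB1 : B 0 1 = 0 := by simpa using h 0 1
  have hA : ((U⁻¹ : (Matrix (Fin 1) (Fin 1) R)ˣ) : Matrix (Fin 1) (Fin 1) R) * B *
      ((V⁻¹ : (Matrix (Fin 2) (Fin 2) R)ˣ) : Matrix (Fin 2) (Fin 2) R) = A := by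
    rw [hBdef, Matrix.mul_assoc (U : Matrix (Fin 1) (Fin 1) R) A, ← Matrix.mul_assoc
      ((U⁻¹ : (Matrix (Fin 1) (Fin 1) R)ˣ) : Matrix (Fin 1) (Fin 1) R), Units.inv_mul,
      Matrix.one_mul, Matrix.mul_assoc, Units.mul_inv, Matrix.mul_one]
  have ha : a = A 0 0 := by simp [hAdef]
  have hb : b = A 0 1 := by simp [hAdef]
  have hd : f 0 ∈ Ideal.span {a, b} := by
    rw [← hB0, hBdef, Matrix.mul_apply, Fin.sum_univ_two]
    simp only [Matrix.mul_apply, Fin.sum_univ_one]
    have h0 : A 0 0 = a := ha.symm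
    have h1 : A 0 1 = b := hb.symm
    rw [h0, h1]
    refine Ideal.add_mem _ (Ideal.mul_mem_right _ _ (Ideal.mul_mem_left _ _ ?_))
      (Ideal.mul_mem_right _ _ (Ideal.mul_mem_left _ _ ?_))
    · exact Ideal.subset_span (by simp)
    · exact Ideal.subset_span (by simp)
  have hAentry : ∀ j, A 0 j ∈ Ideal.span {f 0} := by
    intro j
    rw [← hA, Matrix.mul_apply, Fin.sum_univ_two]
    simp only [Matrix.mul_apply, Fin.sum_univ_one, hB0, hB1, mul_zero, zero_mul, add_zero]
    exact Ideal.mul_mem_right _ _ (Ideal.mul_mem_left _ _ (Ideal.subset_span rfl))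
  have heq : Ideal.span {a, b} = Ideal.span {f 0} := by
    apply le_antisymm
    · rw [Ideal.span_le]
      rintro x (rfl | hx)
      · rw [ha]; exact hAentry 0
      · rw [Set.mem_singleton_iff.mp hx, hb]; exact hAentry 1
    · rw [Ideal.span_le]
      rintro x rfl
      exact hd
  rw [heq]
  exact ⟨⟨f 0, rfl⟩⟩

end Groth.Agent.S12078
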