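import Groth.Statements.S12079
import Mathlib.LinearAlgebra.Contraction
import Mathlib.LinearAlgebra.LeftExact
import Mathlib.Algebra.Module.FinitePresentation
import Mathlib.RingTheory.Flat.Basic
-- import your own Groth.Agent.* helpers here

set_option autoImplicit false
universe u
open TensorProduct
open CAlg

namespace Groth.Agent.S12079

open TensorProduct in
theorem naturality {R : Type u} [CommRing R] {M P : Type u} (N L : Type u) [AddCommGroup M]
    [Module R M] [AddCommGroup P] [Module R P] [AddCommGroup N] [Module R N] [AddCommGroup L]
    [Module R L] (g : P →ₗ[R] M) (t : (M →ₗ[R] N) ⊗[R] L) :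
    TensorProduct.rTensorHomToHomRTensor (RingHom.id R) P N L
      ((LinearMap.lcomp R N g).rTensor L t) =
    (TensorProduct.rTensorHomToHomRTensor (RingHom.id R) M N L t).comp g := by
  induction t using TensorProduct.induction_on with
  | zero => simp
  | tmul h l =>
    ext p
    simp [TensorProduct.rTensorHomToHomRTensor_apply]
  | add x y hx hy =>
    simp only [map_add, hx, hy, LinearMap.add_comp]

theorem bijective_of_finite_free {R : Type u} [CommRing R] (n : ℕ) (N L : Type u)
    [AddCommGroup N] [Module R N] [AddCommGroup L] [Module R L] :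
    Function.Bijective (TensorProduct.rTensorHomToHomRTensor (RingHom.id R) (Fin n → R) N L) := by
  have := rTensorHomEquivHomRTensor_toLinearMap R (Fin n → R) N L
  rw [← this]
  exact (rTensorHomEquivHomRTensor R (Fin n → R) N L).bijective

/-- For a finitely presented `R`-module `M`, any `R`-module `N` and a flat `R`-module `L`, the canonical
map `Hom_R(M, N) ⊗_R L → Hom_R(M, N ⊗_R L)` sending `f ⊗ l` to `m ↦ f m ⊗ l` is bijective. -/
theorem result (R : Type u) [CommRing R]
    (M N L : Type u) [AddCommGroup M] [Module R M] [AddCommGroup N] [Module R N] [AddCommGroup L] [Module R L]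
    [Module.FinitePresentation R M] [Module.Flat R L] :
    Function.Bijective (TensorProduct.rTensorHomToHomRTensor (RingHom.id R) M N L) := by
  obtain ⟨n, K, e, hK⟩ := Module.FinitePresentation.exists_fin R M
  obtain ⟨m, gen, hgen⟩ := Submodule.fg_iff_exists_fin_generating_family.mp hK
  let a : (Fin m → R) →ₗ[R] (Fin n → R) := Fintype.linearCombination R gen
  let π : (Fin n → R) →ₗ[R] M := e.symm.toLinearMap ∘ₗ K.mkQ
  have hπ : Function.Surjective π := e.symm.surjective.comp K.mkQ_surjective
  have hrange : LinearMap.range a = K := by
    rw [Fintype.range_linearCombination, hgen]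
  have hex : Function.Exact a π := by
    intro x
    simp only [π, LinearMap.comp_apply, LinearEquiv.coe_coe, Set.mem_range]
    rw [LinearEquiv.map_eq_zero_iff, Submodule.mkQ_apply, Submodule.Quotient.mk_eq_zero, ← hrange]
    rfl
  have hex' := LinearMap.exact_lcomp_of_exact_of_surjective N hex hπ
  have hinj' : Function.Injective (LinearMap.lcomp R N π) :=
    LinearMap.lcomp_injective_of_surjective π hπ
  have hexL := Module.Flat.rTensor_exact L hex'
  have hinjL := Module.Flat.rTensor_preserves_injective_linearMap (M := L) _ hinj'
  have hn := bijective_of_finite_free (R := R) n N L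
  have hm := bijective_of_finite_free (R := R) m N L
  constructor
  · intro s t hst
    apply hinjL
    apply hn.1
    rw [naturality, naturality, hst]
  · intro g
    obtain ⟨t, ht⟩ := hn.2 (g.comp π)
    have h1 : (LinearMap.lcomp R N a).rTensor L t = 0 := by
      apply hm.1
      rw [naturality, ht, map_zero, LinearMap.comp_assoc, hex.linearMap_comp_eq_zero,
        LinearMap.comp_zero]
    obtain ⟨s, hs⟩ := (hexL t).mp h1
    refine ⟨s, ?_⟩
    have h2 := naturality N L π s
    rw [hs, ht] at h2
    ext x
    obtain ⟨y, rfl⟩ := hπ x
    exact (LinearMap.congr_fun h2 y).symm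

end Groth.Agent.S12079
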