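import Groth.Statements.S12081
-- import your own Groth.Agent.* helpers here

set_option autoImplicit false
universe u
open TensorProduct
open EtAlg

namespace Groth.Agent.S12081

/-- Let `B' = B ×_A A'` be a fibre square of rings with `A' → A` surjective with kernel `I`, let `J =
Ker(B' → B)`, let `D'` be a `B'`-algebra and `C' = D' ⊗_{B'} A'`. Then the ideal `I C'` is, as a
subset of `C'`, the image of the ideal `J D'` under `D' → C'`; that is, the map `J D' → I C'` is
surjective. -/
theorem result (B' B A' A : Type u) [CommRing B'] [CommRing B] [CommRing A'] [CommRing A]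
    [Algebra B' B] [Algebra B' A'] [Algebra B A] [Algebra A' A] [Algebra B' A] [IsScalarTower B' B A] [IsScalarTower B' A' A]
    (hsq : EtMil.IsFibreSquare B' B A' A)
    (D' C' : Type u) [CommRing D'] [CommRing C'] [Algebra B' D'] [Algebra A' C']
    [Algebra D' C'] [Algebra B' C'] [IsScalarTower B' A' C'] [IsScalarTower B' D' C'] [Algebra.IsPushout B' A' D' C'] :
    (algebraMap D' C') '' ((RingHom.ker (algebraMap B' B)).map (algebraMap B' D') : Set D') =
      ((RingHom.ker (algebraMap A' A)).map (algebraMap A' C') : Set C') := by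
  obtain ⟨J, hJ⟩ : ∃ J : Ideal B', J = RingHom.ker (algebraMap B' B) := ⟨_, rfl⟩
  obtain ⟨I, hI⟩ : ∃ I : Ideal A', I = RingHom.ker (algebraMap A' A) := ⟨_, rfl⟩
  rw [← hJ, ← hI]
  -- `J` maps onto `I`
  have hJI : ∀ j ∈ J, algebraMap B' A' j ∈ I := by
    intro j hj
    rw [hJ, RingHom.mem_ker] at hj
    rw [hI, RingHom.mem_ker, ← IsScalarTower.algebraMap_apply, IsScalarTower.algebraMap_apply B' B A,
      hj, map_zero]
  have hIJ : ∀ i ∈ I, ∃ j ∈ J, algebraMap B' A' j = i := by
    intro i hi
    rw [hI, RingHom.mem_ker] at hi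
    obtain ⟨j, ⟨hj1, hj2⟩, -⟩ := hsq.2 0 i (by rw [map_zero, hi])
    exact ⟨j, by rw [hJ, RingHom.mem_ker]; exact hj1, hj2⟩
  have hBC : ∀ b : B', algebraMap D' C' (algebraMap B' D' b) = algebraMap A' C' (algebraMap B' A' b) := by
    intro b
    rw [← IsScalarTower.algebraMap_apply, ← IsScalarTower.algebraMap_apply]
  -- multiplication by elements of `A'` preserves the image
  have hA : ∀ (a' : A') (y : D'), y ∈ J.map (algebraMap B' D') →
      ∃ y' ∈ J.map (algebraMap B' D'), algebraMap D' C' y' = algebraMap A' C' a' * algebraMap D' C' y := by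
    intro a' y hy
    rw [Ideal.map] at hy
    induction hy using Submodule.span_induction with
    | mem y hy =>
      obtain ⟨j, hj, rfl⟩ := hy
      obtain ⟨j', hj', hjj'⟩ := hIJ (a' * algebraMap B' A' j) (I.mul_mem_left _ (hJI j hj))
      refine ⟨algebraMap B' D' j', Ideal.mem_map_of_mem _ hj', ?_⟩
      rw [hBC, hBC, hjj', map_mul]
    | zero => exact ⟨0, Ideal.zero_mem _, by simp⟩
    | add y z _ _ hy hz =>
      obtain ⟨y', hy', e1⟩ := hy
      obtain ⟨z', hz', e2⟩ := hz
      exact ⟨y' + z', Ideal.add_mem _ hy' hz', by rw [map_add, map_add, e1, e2, mul_add]⟩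
    | smul d y _ hy =>
      obtain ⟨y', hy', e1⟩ := hy
      refine ⟨d * y', Ideal.mul_mem_left _ _ hy', ?_⟩
      rw [smul_eq_mul, map_mul, map_mul, e1]; ring
  -- multiplication by elements of `C'` preserves the image
  have hC : ∀ (c : C') (y : D'), y ∈ J.map (algebraMap B' D') →
      ∃ y' ∈ J.map (algebraMap B' D'), algebraMap D' C' y' = c * algebraMap D' C' y := by
    intro c
    have hbc : IsBaseChange A' (IsScalarTower.toAlgHom B' D' C').toLinearMap :=
      Algebra.IsPushout.out
    induction c using hbc.inductionOn with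
    | zero => intro y _; exact ⟨0, Ideal.zero_mem _, by simp⟩
    | tmul d =>
      intro y hy
      exact ⟨d * y, Ideal.mul_mem_left _ _ hy, by simp⟩
    | smul a' c hc =>
      intro y hy
      obtain ⟨y', hy', e1⟩ := hc y hy
      obtain ⟨y'', hy'', e2⟩ := hA a' y' hy'
      refine ⟨y'', hy'', ?_⟩
      rw [e2, e1, Algebra.smul_def, mul_assoc]
    | add c₁ c₂ h₁ h₂ =>
      intro y hy
      obtain ⟨y₁, hy₁, e1⟩ := h₁ y hy
      obtain ⟨y₂, hy₂, e2⟩ := h₂ y hy
      exact ⟨y₁ + y₂, Ideal.add_mem _ hy₁ hy₂, by rw [map_add, e1, e2, add_mul]⟩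
  apply Set.eq_of_subset_of_subset
  · rintro _ ⟨y, hy, rfl⟩
    have h1 : J.map (algebraMap B' D') ≤ (I.map (algebraMap A' C')).comap (algebraMap D' C') := by
      rw [Ideal.map_le_iff_le_comap]
      intro j hj
      rw [Ideal.mem_comap, Ideal.mem_comap, hBC]
      exact Ideal.mem_map_of_mem _ (hJI j hj)
    exact h1 hy
  · have key : ∀ x ∈ Submodule.span C' ((algebraMap A' C') '' (I : Set A')),
        ∃ y ∈ J.map (algebraMap B' D'), algebraMap D' C' y = x := by
      intro x hx
      induction hx using Submodule.span_induction with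
      | mem x hx =>
        obtain ⟨i, hi, rfl⟩ := hx
        obtain ⟨j, hj, rfl⟩ := hIJ i hi
        exact ⟨algebraMap B' D' j, Ideal.mem_map_of_mem _ hj, hBC j⟩
      | zero => exact ⟨0, Ideal.zero_mem _, by simp⟩
      | add x z _ _ hx hz =>
        obtain ⟨x', hx', rfl⟩ := hx
        obtain ⟨z', hz', rfl⟩ := hz
        exact ⟨x' + z', Ideal.add_mem _ hx' hz', map_add _ _ _⟩
      | smul c x _ hx =>
        obtain ⟨x', hx', rfl⟩ := hx
        obtain ⟨y', hy', e⟩ := hC c x' hx'
        exact ⟨y', hy', by rw [e, smul_eq_mul]⟩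
    intro x hx
    obtain ⟨y, hy, rfl⟩ := key x hx
    exact ⟨y, hy, rfl⟩

end Groth.Agent.S12081
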