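import Groth.Statements.S12082
import Mathlib
import Groth.Agent.Lib.Helper20.HilbCI

set_option autoImplicit false
universe u
open Synt

namespace Groth.Agent.S12082


/-- Let `S = k[x_1, …, x_n]/I` over a field `k`, `q` a prime of `S` with preimage `q'` in the polynomial
ring, `c` the natural number with `c + ht(q) = ht(q')`, and `J` the extension of `I` to the local
ring `R = k[x_1, …, x_n]_{q'}`. Any `c` elements of `J` whose images generate `J / q' J` form a
regular sequence in `R`. -/
theorem result (k : Type u) [Field k] (n : ℕ)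
    (I : Ideal (MvPolynomial (Fin n) k)) (q : Ideal (MvPolynomial (Fin n) k ⧸ I)) [q.IsPrime] (c : ℕ)
    (hc : (c : ℕ∞) + q.height = (q.comap (Ideal.Quotient.mk I)).height)
    (f : Fin c → Localization.AtPrime (q.comap (Ideal.Quotient.mk I)))
    (hf : ∀ i, f i ∈ I.map (algebraMap _ (Localization.AtPrime (q.comap (Ideal.Quotient.mk I)))))
    (hgen : Ideal.span (Set.range f) ⊔
        IsLocalRing.maximalIdeal (Localization.AtPrime (q.comap (Ideal.Quotient.mk I))) *
          I.map (algebraMap _ (Localization.AtPrime (q.comap (Ideal.Quotient.mk I)))) =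
      I.map (algebraMap _ (Localization.AtPrime (q.comap (Ideal.Quotient.mk I))))) :
    RingTheory.Sequence.IsRegular (Localization.AtPrime (q.comap (Ideal.Quotient.mk I))) (List.ofFn f) := by
  classical
  let P := MvPolynomial (Fin n) k
  let q' : Ideal P := q.comap (Ideal.Quotient.mk I)
  let R := Localization.AtPrime q'
  let J : Ideal R := I.map (algebraMap P R)
  have CM : LocCoh.IsCohenMacaulayRing P :=
    Groth.Agent.Lib.Helper16.PDR.isCohenMacaulayRing_of_isRegularRing _
  have hCM : LocCoh.IsCohenMacaulayModule R R :=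
    (CM.isCohenMacaulayLocalRing_localization q').supportDim_eq_depth
  have hIq' : I ≤ q' := by
    intro x hx
    show Ideal.Quotient.mk I x ∈ q
    rw [Ideal.Quotient.eq_zero_iff_mem.mpr hx]
    exact zero_mem _
  have hJm : J ≤ IsLocalRing.maximalIdeal R := by
    rw [← Localization.AtPrime.map_eq_maximalIdeal]
    exact Ideal.map_mono hIq'
  have hJfg : (J : Submodule R R).FG := (isNoetherian_def.mp inferInstance) J
  have hspan : Ideal.span (Set.range f) = J := by
    apply le_antisymm
    · rw [Ideal.span_le]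
      rintro _ ⟨i, rfl⟩
      exact hf i
    · refine Submodule.le_of_le_smul_of_le_jacobson_bot (I := IsLocalRing.maximalIdeal R) hJfg ?_ ?_
      · rw [IsLocalRing.jacobson_eq_maximalIdeal ⊥ bot_ne_top]
      · rw [smul_eq_mul]
        exact hgen.ge
  have hxs : ∀ x ∈ List.ofFn f, x ∈ IsLocalRing.maximalIdeal R := by
    intro x hx
    rw [List.mem_ofFn] at hx
    obtain ⟨i, rfl⟩ := hx
    exact hJm (hf i)
  rw [IsLocalRing.isRegular_iff_isWeaklyRegular_of_subset_maximalIdeal hxs]
  have key := (Groth.Agent.Lib.Helper18.CM.isWeaklyRegular_iff_supportDim_and_isCohenMacaulayModule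
    (List.ofFn f) hxs R hCM).1
  rw [key]
  have hle := Groth.Agent.Lib.Helper18.CM.supportDim_le_quot_ofList_add_length (List.ofFn f) hxs R
  have hofList : Ideal.ofList (List.ofFn f) = J := by
    rw [← hspan]
    unfold Ideal.ofList
    congr 1
    ext x
    simp only [Set.mem_ofPred_eq, List.mem_ofFn, Set.mem_range]
  have e : (R ⧸ (Ideal.ofList (List.ofFn f) • (⊤ : Submodule R R))) ≃ₗ[R] R ⧸ J :=
    Submodule.quotEquivOfEq _ _ (by rw [smul_eq_mul, Ideal.mul_top, hofList])
  have hq : Module.supportDim R (R ⧸ (Ideal.ofList (List.ofFn f) • (⊤ : Submodule R R))) ≤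
      (q.height : WithBot ℕ∞) := by
    rw [Module.supportDim_eq_of_equiv e, Module.supportDim_quotient_eq_ringKrullDim]
    exact Groth.Agent.Lib.Helper20.HilbCI.ringKrullDim_quotient_map_atPrime_le I q R
  have hdimR : ringKrullDim R = ((c : ℕ∞) + q.height : ℕ∞) := by
    rw [IsLocalization.AtPrime.ringKrullDim_eq_height q' R, hc]
  rw [Module.supportDim_self_eq_ringKrullDim, hdimR, List.length_ofFn] at hle ⊢
  apply le_antisymm _ hle
  calc Module.supportDim R (R ⧸ (Ideal.ofList (List.ofFn f) • (⊤ : Submodule R R))) + (c : WithBot ℕ∞)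
      ≤ (q.height : WithBot ℕ∞) + (c : WithBot ℕ∞) := add_le_add hq le_rfl
    _ = (((c : ℕ∞) + q.height : ℕ∞) : WithBot ℕ∞) := by
        rw [add_comm]; push_cast; rfl

end Groth.Agent.S12082
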