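import Groth.Statements.S12085
import Mathlib
import Groth.Agent.Lib.Helper20.HandColimModel

set_option autoImplicit false
universe u
open TensorProduct
open CAlg

namespace Groth.Agent.S12085


/-- If `R → S` is G-unramified (of finite presentation and formally unramified), then there are a finite
type `ℤ`-algebra `R₀`, a ring map `R₀ → R` and a G-unramified ring map `R₀ → S₀` such that `S ≅ R
⊗_{R₀} S₀` as `R`-algebras (existence of an isomorphism). -/
theorem result (R : Type u) [CommRing R] (S : Type u) [CommRing S]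
    [Algebra R S] [Algebra.FinitePresentation R S] [Algebra.FormallyUnramified R S] :
    ∃ (R₀ : Type u) (_ : CommRing R₀) (_ : Algebra.FiniteType ℤ R₀) (S₀ : Type u) (_ : CommRing S₀)
      (_ : Algebra R₀ S₀) (_ : Algebra.FinitePresentation R₀ S₀) (_ : Algebra.FormallyUnramified R₀ S₀)
      (_ : Algebra R₀ R), Nonempty (R ⊗[R₀] S₀ ≃ₐ[R] S) := by
  have hcZ := Groth.Agent.Lib.Helper20.HandColimModel.HC.of_fg_subalgebras R
  obtain ⟨s, S₀, _, _, hfp, hun, ⟨e⟩⟩ :=
    Groth.Agent.Lib.Helper20.HandColimModel.exists_stage_model hcZ S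
      (fun T _ S _ _ => Algebra.FormallyUnramified T S)
      (fun T _ S S' _ _ _ _ e h => Algebra.FormallyUnramified.of_equiv e)
      (fun N C₀ _ _ _ _ _ _ _ _ _ _ _ _ hc' h =>
        Groth.Agent.Lib.Helper20.HandColimProps.descent_formallyUnramified
          (Algebra.Presentation.ofFinitePresentation _ C₀) hc' h) inferInstance
  letI inst : Algebra (Algebra.adjoin ℤ (s : Set R)) R :=
    ((Algebra.adjoin ℤ (s : Set R)).val : _ →+* R).toAlgebra
  exact ⟨Algebra.adjoin ℤ (s : Set R), inferInstance,
    Algebra.FiniteType.adjoin_of_finite (Finset.finite_toSet s), S₀, _, _, hfp, hun,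
    inst, ⟨e.symm⟩⟩

end Groth.Agent.S12085
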