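import Groth.Statements.S12096
import Mathlib
import Groth.Agent.Lib.Helper9.BlowupAlg

set_option autoImplicit false
universe u
open BlowUp

namespace Groth.Agent.S12096

open Groth.Agent.Lib.Helper9.BlowupAlg
open Groth.Agent.Lib.Helper9.BlowupAlg


/-- Néron's blowup is compatible with localization. For a ring `A`, an ideal `I`, elements `π, a ∈ A`,
`A' = A[I/π] ⊆ A_π` the affine blowup algebra and `(A_a)' = A_a[I A_a/π]` that of the localization,
the canonical map `A' → (A_a)'` (the restriction of `A_π → (A_a)_π`, given here as a datum with that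
compatibility) identifies `(A_a)'` with the localization `A'_a`. In Néron's situation (`I` the
inverse image of the maximal ideal of `Λ`, `π` a uniformizer, `a ∉ I`) this reads: the Néron blowup
of `A_a` is `A'_a`; the identity holds for arbitrary `A, I, π, a`. -/
theorem result (A : Type u) [CommRing A] (I : Ideal A) (π a : A) (hπ : π ∈ I)
    (ψ : BlowUp.affineAlgebra A I π →+*
      BlowUp.affineAlgebra (Localization.Away a) (I.map (algebraMap A (Localization.Away a))) (algebraMap A (Localization.Away a) π))
    (hψ : ∀ x : BlowUp.affineAlgebra A I π,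
      ((ψ x : BlowUp.affineAlgebra (Localization.Away a) (I.map (algebraMap A (Localization.Away a))) (algebraMap A (Localization.Away a) π)) :
          Localization.Away (algebraMap A (Localization.Away a) π)) =
        Localization.awayMap (algebraMap A (Localization.Away a)) π (x : Localization.Away π)) :
    letI := ψ.toAlgebra
    IsLocalization.Away (algebraMap A (BlowUp.affineAlgebra A I π) a)
      (BlowUp.affineAlgebra (Localization.Away a) (I.map (algebraMap A (Localization.Away a))) (algebraMap A (Localization.Away a) π)) := by
  let inst : Algebra (BlowUp.affineAlgebra A I π) (BlowUp.affineAlgebra (Localization.Away a)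
    (I.map (algebraMap A (Localization.Away a))) (algebraMap A (Localization.Away a) π)) := ψ.toAlgebra
  have halg : ∀ x, @algebraMap _ _ _ _ inst x = ψ x := fun x => by
    rw [RingHom.algebraMap_toAlgebra]
  have hπ' : algebraMap A (Localization.Away a) π ∈ I.map (algebraMap A (Localization.Away a)) :=
    Ideal.mem_map_of_mem _ hπ
  -- ψ on elements coming from A
  have hψA : ∀ r : A, ψ (algebraMap A (BlowUp.affineAlgebra A I π) r) =
      algebraMap (Localization.Away a) (BlowUp.affineAlgebra (Localization.Away a)
        (I.map (algebraMap A (Localization.Away a))) (algebraMap A (Localization.Away a) π))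
        (algebraMap A (Localization.Away a) r) := by
    intro r
    apply Subtype.ext
    rw [hψ]
    change Localization.awayMap (algebraMap A (Localization.Away a)) π
      (algebraMap A (Localization.Away π) r) = _
    rw [awayMap_algebraMap]
    rfl
  unfold IsLocalization.Away
  rw [isLocalization_iff]
  refine ⟨?_, ?_, ?_⟩
  · rintro ⟨_, k, rfl⟩
    rw [halg, map_pow, hψA]
    apply IsUnit.pow
    apply IsUnit.map
    exact IsLocalization.Away.algebraMap_isUnit a
  · intro z
    obtain ⟨n, c, hc, hz⟩ := (mem_iff hπ' z.1).mp z.2
    rw [← Ideal.map_pow, IsLocalization.mem_map_algebraMap_iff (Submonoid.powers a)] at hc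
    obtain ⟨⟨⟨b, hb⟩, ⟨_, k, rfl⟩⟩, hcb⟩ := hc
    refine ⟨(⟨frac π n b, frac_mem hb⟩, ⟨algebraMap A (BlowUp.affineAlgebra A I π) a ^ k, k, rfl⟩), ?_⟩
    rw [halg, halg]
    apply Subtype.ext
    rw [map_pow, hψA, hψ]
    change z.1 * (algebraMap (Localization.Away a)
      (Localization.Away (algebraMap A (Localization.Away a) π))
      (algebraMap A (Localization.Away a) a)) ^ k =
      Localization.awayMap (algebraMap A (Localization.Away a)) π (frac π n b)
    rw [awayMap_frac, hz, ← map_pow, mul_comm, algebraMap_mul_frac]
    congr 1
    rw [mul_comm, ← map_pow]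
    exact hcb
  · intro x y hxy
    rw [halg, halg] at hxy
    -- reduce to kernel
    have key : ∀ w : BlowUp.affineAlgebra A I π, ψ w = 0 →
        ∃ k : ℕ, algebraMap A (BlowUp.affineAlgebra A I π) a ^ k * w = 0 := by
      intro w hw
      obtain ⟨n, b, hb, hwb⟩ := (mem_iff hπ w.1).mp w.2
      have h1 : Localization.awayMap (algebraMap A (Localization.Away a)) π
          (w : Localization.Away π) = 0 := by
        rw [← hψ, hw]
        rfl
      rw [hwb, awayMap_frac, frac_eq_zero_iff] at h1
      obtain ⟨l, hl⟩ := h1
      rw [← map_pow, ← map_mul] at hl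
      obtain ⟨⟨_, k, rfl⟩, hk⟩ :=
        (IsLocalization.map_eq_zero_iff (Submonoid.powers a) (Localization.Away a) _).mp hl
      refine ⟨k, ?_⟩
      apply Subtype.ext
      change algebraMap A (Localization.Away π) a ^ k * (w : Localization.Away π) = 0
      rw [hwb, ← map_pow, algebraMap_mul_frac, frac_eq_zero_iff]
      refine ⟨l, ?_⟩
      rw [← hk]
      ring
    obtain ⟨k, hk⟩ := key (x - y) (by rw [map_sub, hxy, sub_self])
    refine ⟨⟨algebraMap A (BlowUp.affineAlgebra A I π) a ^ k, k, rfl⟩, ?_⟩
    rw [mul_sub, sub_eq_zero] at hk
    exact hk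

end Groth.Agent.S12096
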