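import Groth.Statements.S12097
import Mathlib
import Groth.Agent.Lib.Helper9.BlowupAlg

set_option autoImplicit false
universe u
open BlowUp

namespace Groth.Agent.S12097

open Groth.Agent.Lib.Helper9.BlowupAlg
open Groth.Agent.Lib.Helper9.BlowupAlg


/-- Néron's blowup is compatible with closed immersions. For a surjective ring map `B → A` with kernel
`J`, an ideal `I ⊆ B` containing `π`, and the affine blowup algebras `B' = B[I/π] ⊆ B_π`, `A' =
A[IA/π] ⊆ A_π`, the canonical map `B' → A'` (the restriction of `B_π → A_π`, given as a datum with
that compatibility) is surjective with kernel the elements `x` such that `π^n x ∈ J B'` for some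
`n`: `A'` is the quotient of `B'/JB'` by its `π`-power torsion. In Néron's situation (`I` the
inverse image of the maximal ideal of `Λ`, `π` a uniformizer) this is the printed functoriality; the
identity holds for any surjection. -/
theorem result (B A : Type u) [CommRing B] [CommRing A] [Algebra B A]
    (hq : Function.Surjective (algebraMap B A)) (I : Ideal B) (π : B) (hπ : π ∈ I)
    (ψ : BlowUp.affineAlgebra B I π →+* BlowUp.affineAlgebra A (I.map (algebraMap B A)) (algebraMap B A π))
    (hψ : ∀ x : BlowUp.affineAlgebra B I π,
      ((ψ x : BlowUp.affineAlgebra A (I.map (algebraMap B A)) (algebraMap B A π)) : Localization.Away (algebraMap B A π)) =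
        Localization.awayMap (algebraMap B A) π (x : Localization.Away π)) :
    Function.Surjective ψ ∧
      ∀ x : BlowUp.affineAlgebra B I π, x ∈ RingHom.ker ψ ↔
        ∃ n : ℕ, algebraMap B (BlowUp.affineAlgebra B I π) π ^ n * x ∈
          (RingHom.ker (algebraMap B A)).map (algebraMap B (BlowUp.affineAlgebra B I π)) := by
  have hπ' : algebraMap B A π ∈ I.map (algebraMap B A) := Ideal.mem_map_of_mem _ hπ
  constructor
  · intro y
    obtain ⟨n, a, ha, hy⟩ := (mem_iff hπ' y.1).mp y.2
    rw [← Ideal.map_pow] at ha
    obtain ⟨b, hb, rfl⟩ := (Ideal.mem_map_iff_of_surjective _ hq).mp ha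
    refine ⟨⟨frac π n b, frac_mem hb⟩, ?_⟩
    apply Subtype.ext
    rw [hψ, hy]
    exact awayMap_frac _ n b
  · intro x
    obtain ⟨n, b, hb, hx⟩ := (mem_iff hπ x.1).mp x.2
    have hval : ∀ (m : ℕ), ((algebraMap B (BlowUp.affineAlgebra B I π) π ^ m * x :
        BlowUp.affineAlgebra B I π) : Localization.Away π) =
        algebraMap B (Localization.Away π) π ^ m * (x : Localization.Away π) := by
      intro m
      rfl
    constructor
    · intro hker
      rw [RingHom.mem_ker] at hker
      have h1 : Localization.awayMap (algebraMap B A) π (x : Localization.Away π) = 0 := by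
        rw [← hψ, hker]
        rfl
      rw [hx, awayMap_frac, frac_eq_zero_iff] at h1
      obtain ⟨l, hl⟩ := h1
      refine ⟨n + l, ?_⟩
      have h2 : algebraMap B (BlowUp.affineAlgebra B I π) π ^ (n + l) * x =
          algebraMap B (BlowUp.affineAlgebra B I π) (π ^ l * b) := by
        apply Subtype.ext
        rw [hval, hx, pow_add, mul_comm (_ ^ n), mul_assoc, pow_mul_frac]
        change _ = algebraMap B (Localization.Away π) (π ^ l * b)
        rw [map_mul, map_pow]
      rw [h2]
      apply Ideal.mem_map_of_mem
      rw [RingHom.mem_ker, map_mul, map_pow]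
      exact hl
    · rintro ⟨m, hm⟩
      have hle : (RingHom.ker (algebraMap B A)).map (algebraMap B (BlowUp.affineAlgebra B I π)) ≤
          RingHom.ker ψ := by
        rw [Ideal.map_le_iff_le_comap]
        intro j hj
        rw [Ideal.mem_comap, RingHom.mem_ker]
        apply Subtype.ext
        rw [hψ]
        change Localization.awayMap (algebraMap B A) π (algebraMap B (Localization.Away π) j) = 0
        rw [awayMap_algebraMap, (RingHom.mem_ker).mp hj, map_zero]
      have h1 := hle hm
      rw [RingHom.mem_ker, map_mul, map_pow] at h1
      have h2 := congrArg Subtype.val h1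
      rw [RingHom.mem_ker]
      apply Subtype.ext
      have h3 : ((ψ (algebraMap B (BlowUp.affineAlgebra B I π) π) :
          BlowUp.affineAlgebra A (I.map (algebraMap B A)) (algebraMap B A π)) :
          Localization.Away (algebraMap B A π)) =
          algebraMap A (Localization.Away (algebraMap B A π)) (algebraMap B A π) := by
        rw [hψ]
        exact awayMap_algebraMap _ π
      have hu := (isUnit_algebraMap (algebraMap B A π)).pow m
      apply hu.mul_left_cancel
      rw [← h3]
      rw [ZeroMemClass.coe_zero, mul_zero]
      rw [ZeroMemClass.coe_zero] at h2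
      exact h2

end Groth.Agent.S12097
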