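import Groth.Statements.S12118
import Mathlib.RingTheory.Ideal.Operations
import Mathlib.Algebra.Module.Submodule.Pointwise
-- import your own Groth.Agent.* helpers here

set_option autoImplicit false
universe u v
open EGA41

namespace Groth.Agent.S12118

/-- Let A be a commutative ring, M an A-module, (M_k)_{k ≥ 0} a decreasing filtration of M by submodules
with M_0 = M and ⋂_k M_k = 0, and f an element of A which is a non-zero-divisor on every graded
piece M_k/M_{k+1} (equivalently on the associated graded module). Then (i) f is a non-zero-divisor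
on M, and (ii) M_k ∩ fM = fM_k for every k ≥ 0. -/
theorem result {A : Type u} [CommRing A] {M : Type v} [AddCommGroup M] [Module A M]
    (F : ℕ → Submodule A M) (hanti : Antitone F) (h0 : F 0 = ⊤) (hsep : ⨅ k, F k = ⊥) (f : A)
    (hreg : ∀ k : ℕ, IsSMulRegular (↥(F k) ⧸ Submodule.comap (F k).subtype (F (k + 1))) f) :
    IsSMulRegular M f ∧ ∀ k : ℕ, F k ⊓ (Ideal.span {f} • (⊤ : Submodule A M)) = Ideal.span {f} • F k := by
  have key : ∀ k : ℕ, ∀ x : M, f • x ∈ F k → x ∈ F k := by
    intro k
    induction k with
    | zero => intro x _; rw [h0]; exact Submodule.mem_top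
    | succ k ih =>
      intro x hx
      have hxk : x ∈ F k := ih x (hanti (Nat.le_succ k) hx)
      have h1 : f • (Submodule.Quotient.mk (⟨x, hxk⟩ : F k) :
          ↥(F k) ⧸ Submodule.comap (F k).subtype (F (k + 1))) = f • 0 := by
        rw [smul_zero, ← Submodule.Quotient.mk_smul, Submodule.Quotient.mk_eq_zero]
        exact hx
      have h2 := hreg k h1
      rw [Submodule.Quotient.mk_eq_zero] at h2
      exact h2
  have hinj : IsSMulRegular M f := by
    intro x y hxy
    have h1 : f • (x - y) = 0 := by
      have : f • x = f • y := hxy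
      rw [smul_sub, this, sub_self]
    have h2 : x - y ∈ ⨅ k, F k := by
      rw [Submodule.mem_iInf]
      intro k
      exact key k _ (by rw [h1]; exact zero_mem _)
    rw [hsep, Submodule.mem_bot, sub_eq_zero] at h2
    exact h2
  refine ⟨hinj, fun k => ?_⟩
  apply le_antisymm
  · rintro y ⟨hyk, hyf⟩
    rw [Submodule.ideal_span_singleton_smul] at hyf ⊢
    obtain ⟨x, -, rfl⟩ := (Submodule.mem_smul_pointwise_iff_exists _ _ _).mp hyf
    exact Submodule.smul_mem_pointwise_smul x f (F k) (key k x hyk)
  · refine le_inf ?_ (Submodule.smul_mono le_rfl le_top)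
    exact Submodule.smul_le_right

end Groth.Agent.S12118
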