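import Groth.Statements.S4492
import Mathlib.RingTheory.Length
import Mathlib.RingTheory.SimpleModule.Basic
import Mathlib.Algebra.Homology.ShortComplex.ModuleCat
import Mathlib.Algebra.Category.ModuleCat.EpiMono

set_option autoImplicit false
universe u
open FlatCx

namespace Groth.Agent.S4492

section aux

variable {B : Type u} [Ring B] {M₁ M₂ M₃ : Type u} [AddCommGroup M₁] [AddCommGroup M₂]
  [AddCommGroup M₃] [Module B M₁] [Module B M₂] [Module B M₃]

lemma length_eq_ker_add_range (g : M₂ →ₗ[B] M₃) :
    Module.length B M₂ =
      Module.length B (LinearMap.ker g) + Module.length B (LinearMap.range g) := by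
  refine Module.length_eq_add_of_exact (LinearMap.ker g).subtype g.rangeRestrict
    (Submodule.subtype_injective _) g.surjective_rangeRestrict ?_
  intro x
  constructor
  · intro hx
    refine ⟨⟨x, ?_⟩, rfl⟩
    have := congrArg Subtype.val hx
    simpa using this
  · rintro ⟨y, rfl⟩
    ext
    simp

lemma length_le_of_exact (f : M₁ →ₗ[B] M₂) (g : M₂ →ₗ[B] M₃) (h : Function.Exact f g) :
    Module.length B M₂ ≤ Module.length B M₁ + Module.length B M₃ := by
  rw [length_eq_ker_add_range g]
  have h1 : Module.length B (LinearMap.ker g) ≤ Module.length B M₁ := by
    rw [LinearMap.exact_iff.mp h]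
    exact Module.length_le_of_surjective f.rangeRestrict f.surjective_rangeRestrict
  have h2 : Module.length B (LinearMap.range g) ≤ Module.length B M₃ :=
    Module.length_le_of_injective (LinearMap.range g).subtype (Submodule.subtype_injective _)
  exact add_le_add h1 h2

lemma inj_surj_of_length_eq (f : M₁ →ₗ[B] M₂) (g : M₂ →ₗ[B] M₃) (h : Function.Exact f g)
    (h1 : Module.length B M₁ ≠ ⊤) (h3 : Module.length B M₃ ≠ ⊤)
    (heq : Module.length B M₂ = Module.length B M₁ + Module.length B M₃) :
    Function.Injective f ∧ Function.Surjective g := by
  have e2 := length_eq_ker_add_range g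
  rw [LinearMap.exact_iff.mp h] at e2
  have e1 := length_eq_ker_add_range f
  have e3 : Module.length B M₃ = Module.length B (LinearMap.range g) +
      Module.length B (M₃ ⧸ LinearMap.range g) :=
    Module.length_eq_add_of_exact (LinearMap.range g).subtype (LinearMap.range g).mkQ
      (Submodule.subtype_injective _) (Submodule.mkQ_surjective _)
      (LinearMap.exact_subtype_mkQ _)
  rw [e1] at h1
  rw [e3] at h3
  rw [e2, e1, e3] at heq
  have ha : Module.length B (LinearMap.ker f) ≠ ⊤ := fun hh => h1 (by rw [hh, top_add])
  have hb : Module.length B (LinearMap.range f) ≠ ⊤ := fun hh => h1 (by rw [hh, add_top])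
  have hc : Module.length B (LinearMap.range g) ≠ ⊤ := fun hh => h3 (by rw [hh, top_add])
  have hd : Module.length B (M₃ ⧸ LinearMap.range g) ≠ ⊤ := fun hh => h3 (by rw [hh, add_top])
  have hz : Module.length B (LinearMap.ker f) = 0 ∧
      Module.length B (M₃ ⧸ LinearMap.range g) = 0 := by
    revert heq
    generalize Module.length B (LinearMap.ker f) = a at ha ⊢
    generalize Module.length B (LinearMap.range f) = b at hb ⊢
    generalize Module.length B (LinearMap.range g) = c at hc ⊢
    generalize Module.length B (M₃ ⧸ LinearMap.range g) = d at hd ⊢
    lift a to ℕ using ha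
    lift b to ℕ using hb
    lift c to ℕ using hc
    lift d to ℕ using hd
    intro heq
    norm_cast at heq ⊢
    omega
  constructor
  · rw [← LinearMap.ker_eq_bot, ← Submodule.subsingleton_iff_eq_bot]
    exact Module.length_eq_zero_iff.mp hz.1
  · rw [← LinearMap.range_eq_top, ← Submodule.Quotient.subsingleton_iff]
    exact Module.length_eq_zero_iff.mp hz.2

end aux

open CategoryTheory CategoryTheory.Limits in
/-- (The published statement is for arbitrary abelian categories; this row is for functors between
module categories.) Let F be an additive functor from A-modules to B-modules which is half exact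
(every short exact sequence 0 → E' → E → E'' → 0 goes to a sequence F(E') → F(E) → F(E'') exact at
the middle) and such that F(S) has finite length for every simple A-module S. Then F(E) has finite
length for every A-module E of finite length; and for every short exact sequence 0 → E' → E → E'' →
0 of A-modules with E of finite length one has length F(E) ≤ length F(E') + length F(E''), with
equality if and only if 0 → F(E') → F(E) → F(E'') → 0 is (short) exact. Lengths are Mathlib's,
valued in ℕ∞. -/
theorem result {A B : Type u} [Ring A] [Ring B]
    (F : ModuleCat.{u} A ⥤ ModuleCat.{u} B) [F.Additive]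
    (hF : ∀ S : ShortComplex (ModuleCat.{u} A), S.ShortExact → (S.map F).Exact)
    (hS : ∀ M : ModuleCat.{u} A, IsSimpleModule A M → Module.length B (F.obj M) ≠ ⊤) :
    (∀ E : ModuleCat.{u} A, Module.length A E ≠ ⊤ → Module.length B (F.obj E) ≠ ⊤) ∧
      ∀ S : ShortComplex (ModuleCat.{u} A), S.ShortExact → Module.length A S.X₂ ≠ ⊤ →
        Module.length B (F.obj S.X₂) ≤ Module.length B (F.obj S.X₁) + Module.length B (F.obj S.X₃) ∧
          (Module.length B (F.obj S.X₂) = Module.length B (F.obj S.X₁) + Module.length B (F.obj S.X₃) ↔
            (S.map F).ShortExact) := by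
  -- the inequality for all short exact sequences
  have hle : ∀ S : ShortComplex (ModuleCat.{u} A), S.ShortExact →
      Module.length B (F.obj S.X₂) ≤
        Module.length B (F.obj S.X₁) + Module.length B (F.obj S.X₃) := by
    intro S hSE
    have hex := hF S hSE
    rw [ShortComplex.ShortExact.moduleCat_exact_iff_function_exact] at hex
    exact length_le_of_exact (F.map S.f).hom (F.map S.g).hom hex
  have key : ∀ n : ℕ, ∀ E : ModuleCat.{u} A, Module.length A E = n →
      Module.length B (F.obj E) ≠ ⊤ := by
    intro n
    induction n with
    | zero =>
      intro E hE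
      have hsub : Subsingleton E := Module.length_eq_zero_iff.mp (by simpa using hE)
      have hz : IsZero E := ModuleCat.isZero_of_subsingleton E
      have hz' : IsZero (F.obj E) := F.map_isZero hz
      have := ModuleCat.subsingleton_of_isZero hz'
      rw [Module.length_eq_zero]
      simp
    | succ n ih =>
      intro E hE
      have hfin : IsFiniteLength A E := by
        rw [← Module.length_ne_top_iff, hE]
        exact ENat.natCast_ne_top _
      have hart : IsArtinian A E := (isFiniteLength_iff_isNoetherian_isArtinian.mp hfin).2
      have hnt : Nontrivial E := by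
        rw [← Module.length_pos_iff (R := A), hE]
        exact_mod_cast Nat.succ_pos n
      obtain ⟨N, hN⟩ := IsAtomic.exists_atom (Submodule A E)
      have hNs : IsSimpleModule A N := isSimpleModule_iff_isAtom.mpr hN
      let S : ShortComplex (ModuleCat.{u} A) :=
        ShortComplex.moduleCatMk N.subtype N.mkQ (by ext x; simp)
      have hSE : S.ShortExact :=
        { exact := (ShortComplex.ShortExact.moduleCat_exact_iff_function_exact S).mpr
            (LinearMap.exact_subtype_mkQ N)
          mono_f := (ModuleCat.mono_iff_injective _).mpr N.injective_subtype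
          epi_g := (ModuleCat.epi_iff_surjective _).mpr N.mkQ_surjective }
      have hlen : Module.length A E = Module.length A N + Module.length A (E ⧸ N) :=
        Module.length_eq_add_of_exact N.subtype N.mkQ N.injective_subtype N.mkQ_surjective
          (LinearMap.exact_subtype_mkQ N)
      rw [Module.length_eq_one (R := A) (M := N), hE] at hlen
      have hq : Module.length A (E ⧸ N) = n := by
        have hne : Module.length A (E ⧸ N) ≠ ⊤ := by
          intro hh
          rw [hh, add_top] at hlen
          exact ENat.natCast_ne_top _ hlen
        revert hlen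
        generalize Module.length A (E ⧸ N) = d at hne ⊢
        lift d to ℕ using hne
        intro hlen
        norm_cast at hlen ⊢
        omega
      have h3 : Module.length B (F.obj (ModuleCat.of A (E ⧸ N))) ≠ ⊤ := ih _ hq
      have h1 : Module.length B (F.obj (ModuleCat.of A N)) ≠ ⊤ := hS _ hNs
      have := hle S hSE
      intro htop
      change Module.length B (F.obj E) ≤ Module.length B (F.obj (ModuleCat.of A N)) +
        Module.length B (F.obj (ModuleCat.of A (E ⧸ N))) at this
      rw [htop, top_le_iff] at this
      rcases WithTop.add_eq_top.mp this with h | h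
      · exact h1 h
      · exact h3 h
  have part1 : ∀ E : ModuleCat.{u} A, Module.length A E ≠ ⊤ →
      Module.length B (F.obj E) ≠ ⊤ := by
    intro E hE
    obtain ⟨n, hn⟩ := ENat.ne_top_iff_exists.mp hE
    exact key n E hn.symm
  refine ⟨part1, ?_⟩
  intro S hSE hfin
  refine ⟨hle S hSE, ?_⟩
  have hex := hF S hSE
  constructor
  · intro heq
    have hinj := hSE.moduleCat_injective_f
    have hsurj := hSE.moduleCat_surjective_g
    have hfin1 : Module.length A S.X₁ ≠ ⊤ := by
      intro hh
      have := Module.length_le_of_injective S.f.hom hinj
      rw [hh, top_le_iff] at this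
      exact hfin this
    have hfin3 : Module.length A S.X₃ ≠ ⊤ := by
      intro hh
      have := Module.length_le_of_surjective S.g.hom hsurj
      rw [hh, top_le_iff] at this
      exact hfin this
    have hex' := hex
    rw [ShortComplex.ShortExact.moduleCat_exact_iff_function_exact] at hex'
    obtain ⟨hi, hs⟩ := inj_surj_of_length_eq (F.map S.f).hom (F.map S.g).hom hex'
      (part1 _ hfin1) (part1 _ hfin3) heq
    exact
      { exact := hex
        mono_f := (ModuleCat.mono_iff_injective _).mpr hi
        epi_g := (ModuleCat.epi_iff_surjective _).mpr hs }
  · intro hSE'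
    exact Module.length_eq_add_of_exact (F.map S.f).hom (F.map S.g).hom
      hSE'.moduleCat_injective_f hSE'.moduleCat_surjective_g
      ((ShortComplex.ShortExact.moduleCat_exact_iff_function_exact _).mp hSE'.exact)

end Groth.Agent.S4492
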