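import Groth.Statements.S12119
import Groth.Agent.S2444
import Groth.Agent.Lib.Helper28.FlatCxBounded

set_option autoImplicit false
universe u
open FlatCx

namespace Groth.Agent.S12119

open CategoryTheory CategoryTheory.Limits in
/-- Let A be a commutative Artinian local ring with residue field k, P a chain complex of flat A-modules
(terms not necessarily finitely generated), T_i(M) = H_i(P ⊗_A M), and suppose T_p(k) has finite
length d. If length T_p(A) = d · length A (lengths in ℕ∞), then T_p(A) → T_p(k), induced by the
projection A → k, is surjective and T_p(A) is a flat A-module. -/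
theorem result {A : Type u} [CommRing A] [IsArtinianRing A]
    [IsLocalRing A] (P : ChainComplex (ModuleCat.{u} A) ℤ) (hP : ∀ i, Module.Flat A (P.X i)) (p : ℤ)
    (hd : Module.length A (CohIII.T P p (ModuleCat.of A (IsLocalRing.ResidueField A))) ≠ ⊤)
    (hj : Module.length A (CohIII.T P p (ModuleCat.of A A)) =
      Module.length A (CohIII.T P p (ModuleCat.of A (IsLocalRing.ResidueField A))) * Module.length A A) :
    Function.Surjective ((CohIII.TFun P p).map
        (ModuleCat.ofHom (Algebra.linearMap A (IsLocalRing.ResidueField A)))).hom ∧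
      Module.Flat A (CohIII.T P p (ModuleCat.of A A)) := by
  have hrel : (ComplexShape.down ℤ).Rel p (p - 1) := by
    change p - 1 + 1 = p; ring
  obtain ⟨h1, h2⟩ := Groth.Agent.S2444.surj_of_length_A P hP p (p + 1) rfl hd hj
  refine ⟨h1, ?_⟩
  have hex := (Groth.Agent.S4497.result P hP p (p + 1) rfl).1.mpr ⟨h1, h2⟩
  have hWp : Module.Flat A (P.opcycles p) :=
    (Groth.Agent.Lib.Helper28.FlatCx.preservesMono_iff_flat_opcycles P hP p).mp hex.1
  have hWp1 : Module.Flat A (P.opcycles (p - 1)) :=
    (Groth.Agent.Lib.Helper28.FlatCx.preservesMono_iff_flat_opcycles P hP (p - 1)).mp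
      ((Groth.Agent.Lib.Helper28.FlatCx.preservesEpi_iff_preservesMono_of_rel P hP p (p - 1)
        hrel).mp hex.2)
  have := hP (p - 1)
  have hH : Module.Flat A (P.homology p) :=
    Groth.Agent.Lib.Helper28.FlatCx.flat_homology_of_flat_opcycles P p (p - 1) hrel
  exact (Groth.Agent.Lib.Helper28.FlatCx.flat_TA_iff P p).mpr hH

end Groth.Agent.S12119
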