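import Groth.Statements.S1212
-- import your own Groth.Agent.* helpers here
import Mathlib
import Groth.Agent.Lib.Helper12.UnivInj2

set_option autoImplicit false
universe u
open FlatMor

namespace Groth.Agent.S1212

open TensorProduct IsLocalRing in
/-- Let R be a local ring, S an R-algebra and N an S-module which is projective as an R-module, such
that the closed fibre ring of S is Noetherian and the closed fibre module of N is finite over it.
Then every prime q of S, over p in R, which is an associated prime (the annihilator of an element)
of the S-module N ⊗_R κ(p) satisfies q + 𝔪_R S ≠ S. -/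
theorem result {R S : Type u} [CommRing R] [IsLocalRing R] [CommRing S] [Algebra R S]
    (N : Type u) [AddCommGroup N] [Module S N] [Module R N] [IsScalarTower R S N] [Module.Projective R N]
    [IsNoetherianRing ((maximalIdeal R).Fiber S)]
    [Module.Finite ((maximalIdeal R).Fiber S) (FlatCA.fiberMod (maximalIdeal R) S N)]
    (p : Ideal R) [p.IsPrime] (q : Ideal S) [q.IsPrime] [q.LiesOver p]
    (hq : q ∈ FlatCA.ass S (N ⊗[R] p.ResidueField)) :
    q ⊔ (maximalIdeal R).map (algebraMap R S) ≠ ⊤ := by
  intro htop
  obtain ⟨hqp, z, hz⟩ := hq
  have h1 : (1 : S) ∈ q ⊔ (maximalIdeal R).map (algebraMap R S) := by rw [htop]; trivial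
  obtain ⟨f, hf, g, hg, hfg⟩ := Submodule.mem_sup.mp h1
  have hf1 : f = 1 - g := by rw [← hfg]; ring
  have hfz : f • z = 0 := by
    rw [hz, Submodule.mem_annihilator_span_singleton] at hf
    exact hf
  rw [hf1] at hfz
  have hz0 : z = 0 :=
    Groth.Agent.Lib.Helper12.UnivInj2.one_sub_smul_injective N hg p.ResidueField z hfz
  apply hqp.ne_top
  rw [hz, hz0]
  simp [Submodule.annihilator_bot]

end Groth.Agent.S1212
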