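import Groth.Statements.S12121
import Mathlib
import Groth.Agent.Lib.Helper16.SkEmb1
import Groth.Agent.Lib.Helper16.SkEmb2
import Groth.Agent.Lib.Helper18.SkQuot
import Groth.Agent.Lib.Helper18.CM7
import Groth.Agent.Lib.Helper18.FamCyc1

set_option autoImplicit false
universe u
open EGA4

namespace Groth.Agent.S12121

section helpers
open EGA4

theorem result_aux (k : ℕ) (hk : 1 ≤ k) (A : Type u) [CommRing A] [IsNoetherianRing A]
    (M : Type u) [AddCommGroup M] [Module A M] [Module.Finite A M] :
    LocCoh.HasSk k A M ↔
      ∀ (g : A) (rs : List (Localization.Away g)), rs.length < k →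
        RingTheory.Sequence.IsWeaklyRegular (LocalizedModule (Submonoid.powers g) M) rs →
        ∀ p ∈ associatedPrimes (Localization.Away g)
            (LocalizedModule (Submonoid.powers g) M ⧸
              (Ideal.ofList rs • (⊤ : Submodule (Localization.Away g) (LocalizedModule (Submonoid.powers g) M)))),
          ∀ q ∈ associatedPrimes (Localization.Away g)
            (LocalizedModule (Submonoid.powers g) M ⧸
              (Ideal.ofList rs • (⊤ : Submodule (Localization.Away g) (LocalizedModule (Submonoid.powers g) M)))),
            p ≤ q → p = q := by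
  have hnoeth : ∀ g : A, IsNoetherianRing (Localization.Away g) := fun g =>
    IsLocalization.isNoetherianRing (Submonoid.powers g) _ inferInstance
  constructor
  · intro h g rs hlen hreg P hP Q hQ hPQ
    have := hnoeth g
    have h1 := Groth.Agent.Lib.Helper16.SkEmb.hasSk_localizedModule (Submonoid.powers g) M k h
    have h2 := Groth.Agent.Lib.Helper18.SkQuot.hasSk_quot_ofList rs k _ h1 hreg hlen.le
    have h3 := Groth.Agent.Lib.Helper16.SkEmb.hasSk_mono _ (k := 1) (by omega) h2
    have h4 := (Groth.Agent.Lib.Helper18.CM.noEmbeddedPrimes_iff_S1
      (R := Localization.Away g)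
      (M := LocalizedModule (Submonoid.powers g) M ⧸ (Ideal.ofList rs •
        (⊤ : Submodule (Localization.Away g) (LocalizedModule (Submonoid.powers g) M))))).mpr h3
    have hQmin := h4 Q hQ
    have hPprime : P.IsPrime := IsAssociatedPrime.isPrime hP
    have hPann := Groth.Agent.Lib.Helper18.CM.annihilator_le_of_mem_associatedPrimes _ hP
    exact le_antisymm hPQ (hQmin.2 ⟨hPprime, hPann⟩ hPQ)
  · intro hC p hp
    by_contra hnot
    rw [not_le] at hnot
    have hnoethp : IsNoetherianRing (Localization.AtPrime p) :=
      IsLocalization.isNoetherianRing p.primeCompl _ inferInstance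
    -- the depth is a natural number `d < k`, `d < dim`
    obtain ⟨d, hd⟩ : ∃ d : ℕ, LocCoh.depth (Localization.AtPrime p)
        (LocalizedModule p.primeCompl M) = d := by
      cases hdep : LocCoh.depth (Localization.AtPrime p) (LocalizedModule p.primeCompl M) with
      | top =>
        rw [hdep] at hnot
        exact absurd hnot (by simp)
      | coe d => exact ⟨d, rfl⟩
    rw [hd] at hnot
    have hdk : d < k := by
      have := lt_of_lt_of_le hnot (min_le_left _ _)
      exact_mod_cast this
    have hdδ : ((d : ℕ∞) : WithBot ℕ∞) < Module.supportDim (Localization.AtPrime p)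
        (LocalizedModule p.primeCompl M) := lt_of_lt_of_le hnot (min_le_right _ _)
    have hnt : Nontrivial (LocalizedModule p.primeCompl M) := by
      rw [← Module.supportDim_ne_bot_iff_nontrivial (Localization.AtPrime p)]
      intro h0
      rw [h0] at hdδ
      exact not_lt_bot hdδ
    -- a regular sequence of length `d` in `A_p`, then numerators
    have hle : (d : ℕ∞) ≤ LocCoh.idealDepth (IsLocalRing.maximalIdeal (Localization.AtPrime p))
        (LocalizedModule p.primeCompl M) := by
      have : LocCoh.depth (Localization.AtPrime p) (LocalizedModule p.primeCompl M) =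
        LocCoh.idealDepth (IsLocalRing.maximalIdeal (Localization.AtPrime p))
          (LocalizedModule p.primeCompl M) := rfl
      rw [← this, hd]
    rcases (Groth.Agent.Lib.Helper16.Depth.le_idealDepth_iff _ _ d).mp hle with htop |
      ⟨xs, hxlen, hxreg, hxmem⟩
    · exact Groth.Agent.Lib.Helper18.CM.maximalIdeal_smul_top_ne_top
        (R := Localization.AtPrime p) (LocalizedModule p.primeCompl M) htop
    obtain ⟨fs, hflen, hfs⟩ := Groth.Agent.Lib.Helper16.SkEmb.exists_numerators p xs
    have hfreg : RingTheory.Sequence.IsWeaklyRegular (LocalizedModule p.primeCompl M)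
        (fs.map (algebraMap A (Localization.AtPrime p))) :=
      Groth.Agent.Lib.Helper16.SkEmb.isWeaklyRegular_of_forall₂_unit hfs _ hxreg
    have hfmem : ∀ y ∈ fs.map (algebraMap A (Localization.AtPrime p)),
        y ∈ IsLocalRing.maximalIdeal (Localization.AtPrime p) := by
      have key : ∀ {l₁ l₂ : List (Localization.AtPrime p)},
          List.Forall₂ (fun a b => ∃ u : Localization.AtPrime p, IsUnit u ∧ b = u * a) l₁ l₂ →
          ∀ b ∈ l₂, ∃ a ∈ l₁, ∃ u : Localization.AtPrime p, IsUnit u ∧ b = u * a := by
        intro l₁ l₂ h
        induction h with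
        | nil => simp
        | cons hab _ ih =>
          intro b hb
          rcases List.mem_cons.mp hb with rfl | hb
          · exact ⟨_, List.mem_cons_self, hab⟩
          · obtain ⟨a, ha, hR⟩ := ih b hb
            exact ⟨a, List.mem_cons_of_mem _ ha, hR⟩
      intro y hy
      obtain ⟨x, hx, u, -, rfl⟩ := key hfs y hy
      exact Ideal.mul_mem_left _ _ (hxmem x hx)
    have hdepq := Groth.Agent.Lib.Helper18.CM.depth_quot_ofList
      (fs.map (algebraMap A (Localization.AtPrime p))) hfmem (LocalizedModule p.primeCompl M) hfreg
    have hdimq := Groth.Agent.Lib.Helper18.CM.supportDim_le_quot_ofList_add_length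
      (fs.map (algebraMap A (Localization.AtPrime p))) hfmem (LocalizedModule p.primeCompl M)
    have hlen' : (fs.map (algebraMap A (Localization.AtPrime p))).length = d := by
      rw [List.length_map, hflen, hxlen]
    rw [hlen'] at hdepq hdimq
    -- the global quotient module
    obtain ⟨N, hN⟩ : ∃ N : Submodule A M, N = Ideal.ofList fs • (⊤ : Submodule A M) := ⟨_, rfl⟩
    have e : LocalizedModule p.primeCompl (M ⧸ N) ≃ₗ[Localization.AtPrime p]
        (LocalizedModule p.primeCompl M ⧸
          Ideal.ofList (fs.map (algebraMap A (Localization.AtPrime p))) •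
          (⊤ : Submodule (Localization.AtPrime p) (LocalizedModule p.primeCompl M))) := by
      rw [hN]
      exact Groth.Agent.Lib.Helper16.SkEmb.locQuotEquiv p.primeCompl M fs
    have hNdep : LocCoh.depth (Localization.AtPrime p) (LocalizedModule p.primeCompl (M ⧸ N)) = 0 := by
      rw [Groth.Agent.Lib.Helper18.CM.depth_congr e]
      rw [hd] at hdepq
      cases hq : LocCoh.depth (Localization.AtPrime p)
          (LocalizedModule p.primeCompl M ⧸
            Ideal.ofList (fs.map (algebraMap A (Localization.AtPrime p))) •
            (⊤ : Submodule (Localization.AtPrime p) (LocalizedModule p.primeCompl M))) with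
      | top => rw [hq] at hdepq; simp at hdepq
      | coe c =>
        rw [hq] at hdepq
        have : c + d = d := by exact_mod_cast hdepq
        have : c = 0 := by omega
        rw [this]; rfl
    have hpAss : p ∈ associatedPrimes A (M ⧸ N) :=
      (Groth.Agent.Lib.Helper18.FamCyc.depth_localizedModule_eq_zero_iff (M ⧸ N) p).mp hNdep
    have hNdim : ¬ Module.supportDim (Localization.AtPrime p)
        (LocalizedModule p.primeCompl (M ⧸ N)) ≤ 0 := by
      rw [Module.supportDim_eq_of_equiv e]
      intro h0
      have h1 : Module.supportDim (Localization.AtPrime p) (LocalizedModule p.primeCompl M) ≤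
          0 + ((d : ℕ) : WithBot ℕ∞) := hdimq.trans (add_le_add h0 le_rfl)
      rw [zero_add] at h1
      exact absurd (lt_of_lt_of_le hdδ h1) (lt_irrefl _)
    have hpSupp : (⟨p, hp⟩ : PrimeSpectrum A) ∈ Module.support A (M ⧸ N) :=
      Groth.Agent.Lib.Helper18.SkAt.mem_support_of_mem_associatedPrimes (M ⧸ N) hpAss
    rw [Groth.Agent.Lib.Helper18.SkAt.supportDim_localizedModule_le_zero_iff (M ⧸ N) p hpSupp]
      at hNdim
    push Not at hNdim
    obtain ⟨Q0, hQ0p, hpQ0⟩ := hNdim
    have hann : Module.annihilator A (M ⧸ N) ≤ Q0.1.asIdeal :=
      Module.annihilator_le_of_mem_support Q0.2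
    obtain ⟨q, hqmin, hqQ0⟩ := Ideal.exists_minimalPrimes_le hann
    have hqAss : q ∈ associatedPrimes A (M ⧸ N) :=
      Module.associatedPrimes.minimalPrimes_annihilator_subset_associatedPrimes A (M ⧸ N) hqmin
    have hqprime : q.IsPrime := hqmin.1.1
    have hqp : q ≤ p := hqQ0.trans hQ0p
    have hqne : q ≠ p := fun h => hpQ0 (h ▸ hqQ0)
    -- spreading out
    obtain ⟨g, hgp, hg⟩ :=
      Groth.Agent.Lib.Helper16.SkEmb.exists_isWeaklyRegular_localizedModule p fs M hfreg
    have hgunit : IsUnit (algebraMap A (Localization (Submonoid.powers g)) g) :=
      IsLocalization.map_units _ (⟨g, Submonoid.mem_powers g⟩ : Submonoid.powers g)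
    have hgreg := hg (Submonoid.powers g) hgunit
    have := hnoeth g
    have hrlen : (fs.map (algebraMap A (Localization.Away g))).length < k := by
      rw [List.length_map, hflen, hxlen]
      exact hdk
    have hCg := hC g (fs.map (algebraMap A (Localization.Away g))) hrlen hgreg
    have e' : LocalizedModule (Submonoid.powers g) (M ⧸ N) ≃ₗ[Localization.Away g]
        (LocalizedModule (Submonoid.powers g) M ⧸
          Ideal.ofList (fs.map (algebraMap A (Localization.Away g))) •
          (⊤ : Submodule (Localization.Away g) (LocalizedModule (Submonoid.powers g) M))) := by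
      rw [hN]
      exact Groth.Agent.Lib.Helper16.SkEmb.locQuotEquiv (Submonoid.powers g) M fs
    have hAss := LinearEquiv.AssociatedPrimes.eq e'
    have hpre := Module.associatedPrimes.preimage_comap_associatedPrimes_eq_associatedPrimes_of_isLocalizedModule
      (Submonoid.powers g) (Localization.Away g)
      (LocalizedModule.mkLinearMap (Submonoid.powers g) (M ⧸ N))
    have hdisjp : Disjoint (Submonoid.powers g : Set A) (p : Set A) :=
      (Ideal.disjoint_powers_iff_notMem_of_isPrime g).mpr hgp
    have hdisjq : Disjoint (Submonoid.powers g : Set A) (q : Set A) :=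
      (Ideal.disjoint_powers_iff_notMem_of_isPrime g).mpr (fun h => hgp (hqp h))
    have hcp : (p.map (algebraMap A (Localization.Away g))).comap
        (algebraMap A (Localization.Away g)) = p :=
      IsLocalization.under_map_of_isPrime_disjoint (Submonoid.powers g) (Localization.Away g)
        hp hdisjp
    have hcq : (q.map (algebraMap A (Localization.Away g))).comap
        (algebraMap A (Localization.Away g)) = q :=
      IsLocalization.under_map_of_isPrime_disjoint (Submonoid.powers g) (Localization.Away g)
        hqprime hdisjq
    have hP : p.map (algebraMap A (Localization.Away g)) ∈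
        associatedPrimes (Localization.Away g) (LocalizedModule (Submonoid.powers g) M ⧸
          Ideal.ofList (fs.map (algebraMap A (Localization.Away g))) •
          (⊤ : Submodule (Localization.Away g) (LocalizedModule (Submonoid.powers g) M))) := by
      rw [← hAss, ← hpre, Set.mem_preimage, hcp]
      exact hpAss
    have hQ : q.map (algebraMap A (Localization.Away g)) ∈
        associatedPrimes (Localization.Away g) (LocalizedModule (Submonoid.powers g) M ⧸
          Ideal.ofList (fs.map (algebraMap A (Localization.Away g))) •
          (⊤ : Submodule (Localization.Away g) (LocalizedModule (Submonoid.powers g) M))) := by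
      rw [← hAss, ← hpre, Set.mem_preimage, hcq]
      exact hqAss
    have heq := hCg _ hQ _ hP (Ideal.map_mono hqp)
    apply hqne
    rw [← hcq, heq, hcp]

end helpers

/-- Let A be a Noetherian ring, M a finite A-module (a coherent sheaf on X = Spec A) and k ≥ 1. Then M
has property (S_k) — depth M_p ≥ min(k, dim M_p) at every prime p — if and only if, for every basic
open set D(g) of X, every integer r < k and every M_g-regular sequence f_1, …, f_r in A_g, the
module M_g/(f_1, …, f_r)M_g has no embedded associated primes, i.e. no associated prime of it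
strictly contains another one. (The published statement quantifies over all open subsets of a
locally Noetherian scheme; both sides being local, over an affine scheme the basic open sets
suffice.) -/
theorem result (k : ℕ) (hk : 1 ≤ k) (A : Type u) [CommRing A] [IsNoetherianRing A]
    (M : Type u) [AddCommGroup M] [Module A M] [Module.Finite A M] :
    LocCoh.HasSk k A M ↔
      ∀ (g : A) (rs : List (Localization.Away g)), rs.length < k →
        RingTheory.Sequence.IsWeaklyRegular (LocalizedModule (Submonoid.powers g) M) rs →
        ∀ p ∈ associatedPrimes (Localization.Away g)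
            (LocalizedModule (Submonoid.powers g) M ⧸
              (Ideal.ofList rs • (⊤ : Submodule (Localization.Away g) (LocalizedModule (Submonoid.powers g) M)))),
          ∀ q ∈ associatedPrimes (Localization.Away g)
            (LocalizedModule (Submonoid.powers g) M ⧸
              (Ideal.ofList rs • (⊤ : Submodule (Localization.Away g) (LocalizedModule (Submonoid.powers g) M)))),
            p ≤ q → p = q := by
  exact result_aux k hk A M

end Groth.Agent.S12121
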