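import Groth.Statements.S12125
import Mathlib
import Groth.Agent.Lib.Helper18.Nag10

set_option autoImplicit false
universe u
open EGA4

namespace Groth.Agent.S12125

/-- Let A be a Noetherian ring. Then every quotient of A by a prime ideal is N-2 (i.e. A is a Nagata
ring) if and only if (1) for every maximal ideal m of A every quotient of A_m by a prime ideal is
N-2, and (2) for every prime p of A, writing B = A/p with fraction field K, for every finite purely
inseparable field extension K' of K and every sub-B-algebra B' of K' which is a finite B-module and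
has K' as its fraction field, there is a nonzero element f of B' such that B'_f is an integrally
closed domain. -/
theorem result (A : Type u) [CommRing A] [IsNoetherianRing A] :
    CAlg.IsNagata A ↔
      ((∀ (m : Ideal A) [m.IsMaximal] (P : Ideal (Localization.AtPrime m)) [P.IsPrime],
          CAlg.IsN2 (Localization.AtPrime m ⧸ P)) ∧
        ∀ (p : Ideal A) [p.IsPrime] (K' : Type u) [Field K'] [Algebra (A ⧸ p) K']
          [Algebra (FractionRing (A ⧸ p)) K'] [IsScalarTower (A ⧸ p) (FractionRing (A ⧸ p)) K']
          [FiniteDimensional (FractionRing (A ⧸ p)) K'] [IsPurelyInseparable (FractionRing (A ⧸ p)) K']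
          (B' : Subalgebra (A ⧸ p) K'), Module.Finite (A ⧸ p) B' → IsFractionRing B' K' →
            ∃ f : B', f ≠ 0 ∧ IsIntegrallyClosed (Localization.Away f)) := by
  constructor
  · intro hA
    refine ⟨?_, ?_⟩
    · intro m _ P _
      exact (Groth.Agent.Lib.Helper18.Nag.isNagata_of_isLocalization m.primeCompl
        (Localization.AtPrime m) hA).2 P
    · intro p _ K' _ _ _ _ _ _ B' hfin hfrac
      haveI := hfin
      have hinjK : Function.Injective (algebraMap (A ⧸ p) K') := by
        rw [IsScalarTower.algebraMap_eq (A ⧸ p) (FractionRing (A ⧸ p)) K']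
        exact (algebraMap (FractionRing (A ⧸ p)) K').injective.comp
          (IsFractionRing.injective (A ⧸ p) (FractionRing (A ⧸ p)))
      have hinj : Function.Injective (algebraMap (A ⧸ p) B') := by
        intro a b hab
        exact hinjK (congrArg Subtype.val hab)
      have h2 : CAlg.IsN2 B' :=
        Groth.Agent.Lib.Helper18.Nag.isN2_of_finite_injective (A ⧸ p) B' hinj (hA.2 p)
      exact Groth.Agent.Lib.Helper18.Nag.exists_isIntegrallyClosed_away_of_isN1 B'
        (Groth.Agent.Lib.Helper18.Nag.isN1_of_isN2 B' h2)
  · rintro ⟨h1, h2⟩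
    refine ⟨inferInstance, fun p _ => ?_⟩
    apply Groth.Agent.Lib.Helper18.Nag.isN2_of_forall_purelyInseparable (A ⧸ p)
    intro L _ _ _ _ hfd hpi
    haveI := hfd
    haveI := hpi
    obtain ⟨S', hfinS, -, hfrac⟩ :=
      Groth.Agent.Lib.Helper11.Japanese.exists_finite_subalgebra_isFractionRing (A ⧸ p)
        (FractionRing (A ⧸ p)) L
    haveI := hfinS
    haveI := hfrac
    obtain ⟨f, hf0, hfic⟩ := h2 p L S' hfinS hfrac
    haveI := hfic
    letI : Algebra A S' := ((algebraMap (A ⧸ p) S').comp (algebraMap A (A ⧸ p))).toAlgebra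
    haveI : IsScalarTower A (A ⧸ p) S' := IsScalarTower.of_algebraMap_eq (fun _ => rfl)
    haveI : Module.Finite A S' := Module.Finite.trans (A ⧸ p) S'
    have hloc : ∀ (m : Ideal A) [m.IsMaximal], CAlg.IsNagata (Localization.AtPrime m) := by
      intro m _
      haveI : IsNoetherianRing (Localization.AtPrime m) :=
        IsLocalization.isNoetherianRing m.primeCompl _ inferInstance
      exact ⟨inferInstance, fun P _ => h1 m P⟩
    have hN1 : CAlg.IsN1 S' :=
      Groth.Agent.Lib.Helper18.Nag.isN1_of_finite_of_forall_isNagata_atPrime A hloc S' f hf0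
    have h3 : Module.Finite S' (integralClosure S' L) :=
      (Groth.Agent.Lib.Helper11.Japanese.isN1_iff S' L).1 hN1
    have h4 : Module.Finite (A ⧸ p) (integralClosure S' L) := Module.Finite.trans S' _
    have hint : Algebra.IsIntegral (A ⧸ p) S' := Algebra.IsIntegral.of_finite (A ⧸ p) S'
    let φ : integralClosure S' L →ₗ[A ⧸ p] integralClosure (A ⧸ p) L :=
      { toFun := fun x => ⟨x.1, isIntegral_trans (R := A ⧸ p) (A := S') x.1 x.2⟩
        map_add' := fun _ _ => rfl
        map_smul' := fun _ _ => rfl }
    have hφ : Function.Surjective φ := fun x => ⟨⟨x.1, x.2.tower_top⟩, rfl⟩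
    exact Module.Finite.of_surjective φ hφ

end Groth.Agent.S12125
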