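import Groth.Statements.S1213
import Mathlib

set_option autoImplicit false
universe u
open scoped Classical
open FlatMor

namespace Groth.Agent.S1213

section helpers
open scoped Classical
open FlatMor

open TensorProduct IsLocalRing

section lemmas

variable {R S : Type u} [CommRing R] [CommRing S] [Algebra R S]
    (N : Type u) [AddCommGroup N] [Module S N] [Module R N] [IsScalarTower R S N]

/-- multiplication by `s`, as an `R`-linear map. -/
def mulS (s : S) : N →ₗ[R] N :=
  { toFun := fun x => s • x
    map_add' := fun x y => smul_add s x y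
    map_smul' := fun r x => by simp only [RingHom.id_apply]; rw [smul_comm] }

@[simp] lemma mulS_apply (s : S) (x : N) : mulS (R := R) N s x = s • x := rfl

lemma smul_eq_rTensor (M : Type u) [AddCommGroup M] [Module R M] (s : S) (w : N ⊗[R] M) :
    s • w = ((mulS (R := R) N s).rTensor M) w := by
  induction w using TensorProduct.induction_on with
  | zero => simp
  | tmul x y => rw [TensorProduct.smul_tmul']; rfl
  | add x y hx hy => rw [smul_add, map_add, hx, hy]

lemma map_smul_mem (m : Ideal R) {N' : Type u} [AddCommGroup N'] [Module R N'] {a : S}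
    (ha : a ∈ m.map (algebraMap R S)) (g : N →ₗ[R] N') (x : N) :
    g (a • x) ∈ (m • ⊤ : Submodule R N') := by
  induction ha using Submodule.span_induction generalizing x with
  | mem a ha =>
    obtain ⟨r, hr, rfl⟩ := ha
    rw [algebraMap_smul, map_smul]
    exact Submodule.smul_mem_smul hr Submodule.mem_top
  | zero => rw [zero_smul, map_zero]; exact Submodule.zero_mem _
  | add a b _ _ iha ihb => rw [add_smul, map_add]; exact Submodule.add_mem _ (iha x) (ihb x)
  | smul s a _ iha =>
    rw [smul_eq_mul, mul_comm, mul_smul]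
    exact iha (s • x)

omit [CommRing S] [Algebra R S] in
lemma one_sub_bijective [IsLocalRing R] {N' : Type u} [AddCommGroup N'] [Module R N'] [Module.Finite R N']
    (ψ : N' →ₗ[R] N') (hψ : ∀ x, ψ x ∈ (maximalIdeal R • ⊤ : Submodule R N')) :
    Function.Bijective ((LinearMap.id : N' →ₗ[R] N') - ψ) := by
  have hsurj : Function.Surjective ((LinearMap.id : N' →ₗ[R] N') - ψ) := by
    rw [← LinearMap.range_eq_top, eq_top_iff]
    refine Submodule.le_of_le_smul_of_le_jacobson_bot (I := maximalIdeal R) Module.Finite.fg_top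
      (IsLocalRing.maximalIdeal_le_jacobson ⊥) ?_
    intro x _
    have : x = ((LinearMap.id : N' →ₗ[R] N') - ψ) x + ψ x := by simp
    rw [this]
    exact Submodule.add_mem_sup ⟨x, rfl⟩ (hψ x)
  exact ⟨OrzechProperty.injective_of_surjective_endomorphism _ hsurj, hsurj⟩

end lemmas

theorem main {R S : Type u} [CommRing R] [IsLocalRing R] [CommRing S] [Algebra R S]
    (N : Type u) [AddCommGroup N] [Module S N] [Module R N] [IsScalarTower R S N]
    (ι : Type u) (F : ι → Submodule R N) (hF : DirectSum.IsInternal F) (hfin : ∀ i, Module.Finite R (F i))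
    (M : Type u) [AddCommGroup M] [Module R M]
    (q : Ideal S) [q.IsPrime] (hq : q ∈ FlatCA.ass S (N ⊗[R] M)) :
    q ⊔ (maximalIdeal R).map (algebraMap R S) ≠ ⊤ := by
  intro htop
  obtain ⟨hqprime, z, hz⟩ := hq
  have h1 : (1 : S) ∈ q ⊔ (maximalIdeal R).map (algebraMap R S) := htop ▸ Submodule.mem_top
  obtain ⟨f, hf, a, ha, hfa⟩ := Submodule.mem_sup.mp h1
  have hfz : f • z = 0 := by
    rw [hz] at hf
    exact (Submodule.mem_annihilator_span_singleton z f).mp hf
  have hz0 : z ≠ 0 := by
    rintro rfl
    apply hqprime.ne_top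
    rw [hz, eq_top_iff]
    intro s _
    rw [Submodule.mem_annihilator_span_singleton, smul_zero]
  have haz : a • z = z := by
    have : (f + a) • z = z := by rw [hfa, one_smul]
    rwa [add_smul, hfz, zero_add] at this
  -- Step A: z comes from a finite sub-sum
  have hA : ∀ w : N ⊗[R] M, ∃ T : Finset ι,
      w ∈ LinearMap.range ((⨆ i ∈ T, F i).subtype.rTensor M) := by
    have hmono : ∀ {N₁ N₂ : Submodule R N}, N₁ ≤ N₂ →
        LinearMap.range (N₁.subtype.rTensor M) ≤ LinearMap.range (N₂.subtype.rTensor M) := by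
      intro N₁ N₂ h
      have : N₁.subtype = N₂.subtype ∘ₗ Submodule.inclusion h := rfl
      rw [this, LinearMap.rTensor_comp]
      exact LinearMap.range_comp_le_range _ _
    intro w
    induction w using TensorProduct.induction_on with
    | zero => exact ⟨∅, Submodule.zero_mem _⟩
    | tmul n m =>
      have hn : n ∈ ⨆ i, F i := by rw [hF.submodule_iSup_eq_top]; exact Submodule.mem_top
      obtain ⟨T, hT⟩ := Submodule.mem_iSup_iff_exists_finset.mp hn
      exact ⟨T, ⟨(⟨n, hT⟩ : ↥(⨆ i ∈ T, F i)) ⊗ₜ[R] m, rfl⟩⟩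
    | add x y hx hy =>
      obtain ⟨T₁, h₁⟩ := hx
      obtain ⟨T₂, h₂⟩ := hy
      refine ⟨T₁ ∪ T₂, Submodule.add_mem _ (hmono ?_ h₁) (hmono ?_ h₂)⟩
      · exact biSup_mono (fun i hi => Finset.mem_union_left _ hi)
      · exact biSup_mono (fun i hi => Finset.mem_union_right _ hi)
  obtain ⟨T, hT⟩ := hA z
  set N' : Submodule R N := ⨆ i ∈ T, F i with hN'
  set N'' : Submodule R N := ⨆ i ∈ ((T : Set ι)ᶜ), F i with hN''
  obtain ⟨z', hz'⟩ := hT
  have hc : IsCompl N' N'' := by
    constructor
    · exact hF.submodule_iSupIndep.disjoint_biSup_biSup (s := (T : Set ι)) (t := (T : Set ι)ᶜ)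
        disjoint_compl_right
    · rw [codisjoint_iff, eq_top_iff, ← hF.submodule_iSup_eq_top]
      refine iSup_le fun i => ?_
      by_cases hi : i ∈ T
      · exact le_sup_of_le_left (le_biSup F hi)
      · exact le_sup_of_le_right (le_biSup F (show i ∈ ((T : Set ι)ᶜ) from hi))
  haveI : Module.Finite R N' := by
    rw [Module.Finite.iff_fg]
    exact Submodule.fg_biSup T F (fun i _ => Module.Finite.iff_fg.mp (hfin i))
  let π : N →ₗ[R] N' := Submodule.projectionOnto N' N'' hc
  have hπ : π ∘ₗ N'.subtype = LinearMap.id := Submodule.projectionOnto_comp_subtype hc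
  let ψ : N' →ₗ[R] N' := π ∘ₗ mulS (R := R) N a ∘ₗ N'.subtype
  have hψ : ∀ x, ψ x ∈ (maximalIdeal R • ⊤ : Submodule R N') := by
    intro x
    exact map_smul_mem N (maximalIdeal R) ha π (x : N)
  have hbij := one_sub_bijective ψ hψ
  let θ : N' ≃ₗ[R] N' := LinearEquiv.ofBijective _ hbij
  -- z' is fixed by ψ ⊗ 1
  have hfix : (ψ.rTensor M) z' = z' := by
    have e1 : (π.rTensor M) z = z' := by
      rw [← hz', ← LinearMap.comp_apply, ← LinearMap.rTensor_comp, hπ, LinearMap.rTensor_id,
        LinearMap.id_apply]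
    have e2 : (ψ.rTensor M) z' = (π.rTensor M) (a • z) := by
      rw [smul_eq_rTensor N M a z, ← hz']
      simp only [ψ, LinearMap.rTensor_comp, LinearMap.comp_apply]
    rw [e2, haz, e1]
  have hθ : (θ.rTensor M) z' = 0 := by
    have : (θ.rTensor M : N' ⊗[R] M →ₗ[R] N' ⊗[R] M) = LinearMap.rTensor M (LinearMap.id - ψ) := rfl
    rw [← LinearEquiv.coe_coe, this, LinearMap.rTensor_sub, LinearMap.sub_apply, LinearMap.rTensor_id,
      LinearMap.id_apply, hfix, sub_self]
  have hz'0 : z' = 0 := (LinearEquiv.map_eq_zero_iff _).mp hθ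
  apply hz0
  rw [← hz', hz'0, map_zero]

end helpers

open TensorProduct IsLocalRing in
/-- Let R be a local ring, S an R-algebra and N an S-module which, as an R-module, is an internal direct
sum of finite R-submodules. Then for every R-module M and every prime q of S which is the
annihilator of an element of the S-module N ⊗_R M we have q + 𝔪_R S ≠ S. -/
theorem result {R S : Type u} [CommRing R] [IsLocalRing R] [CommRing S] [Algebra R S]
    (N : Type u) [AddCommGroup N] [Module S N] [Module R N] [IsScalarTower R S N]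
    (ι : Type u) (F : ι → Submodule R N) (hF : DirectSum.IsInternal F) (hfin : ∀ i, Module.Finite R (F i))
    (M : Type u) [AddCommGroup M] [Module R M]
    (q : Ideal S) [q.IsPrime] (hq : q ∈ FlatCA.ass S (N ⊗[R] M)) :
    q ⊔ (maximalIdeal R).map (algebraMap R S) ≠ ⊤ := by
  exact main N ι F hF hfin M q hq

end Groth.Agent.S1213
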