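import Groth.Statements.S1214
import Mathlib

set_option autoImplicit false
universe u
open FlatMor

namespace Groth.Agent.S1214

section helpers
open FlatMor

open TensorProduct

section lemmas

variable {R S : Type u} [CommRing R] [CommRing S] [Algebra R S] (I : Ideal R)
    (N : Type u) [AddCommGroup N] [Module S N] [Module R N] [IsScalarTower R S N]

lemma smul_mem_of_mem_map {a : S} (ha : a ∈ I.map (algebraMap R S)) (x : N) :
    a • x ∈ (I • ⊤ : Submodule R N) := by
  induction ha using Submodule.span_induction generalizing x with
  | mem a ha =>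
    obtain ⟨r, hr, rfl⟩ := ha
    rw [algebraMap_smul]
    exact Submodule.smul_mem_smul hr Submodule.mem_top
  | zero => rw [zero_smul]; exact Submodule.zero_mem _
  | add a b _ _ iha ihb => rw [add_smul]; exact Submodule.add_mem _ (iha x) (ihb x)
  | smul s a _ iha =>
    rw [smul_eq_mul, mul_comm, mul_smul]
    exact iha (s • x)

lemma smul_stable (s : S) (n : ℕ) {x : N} (hx : x ∈ (I ^ n • ⊤ : Submodule R N)) :
    s • x ∈ (I ^ n • ⊤ : Submodule R N) := by
  refine Submodule.smul_induction_on hx ?_ ?_
  · intro r hr y _
    rw [smul_comm]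
    exact Submodule.smul_mem_smul hr Submodule.mem_top
  · intro x y hx hy
    rw [smul_add]; exact Submodule.add_mem _ hx hy

lemma smul_mem_succ {a : S} (ha : a ∈ I.map (algebraMap R S)) (n : ℕ) {x : N}
    (hx : x ∈ (I ^ n • ⊤ : Submodule R N)) : a • x ∈ (I ^ (n + 1) • ⊤ : Submodule R N) := by
  refine Submodule.smul_induction_on hx ?_ ?_
  · intro r hr y _
    rw [smul_comm, pow_succ, Submodule.mul_smul]
    exact Submodule.smul_mem_smul hr (smul_mem_of_mem_map I N ha y)
  · intro x y hx hy
    rw [smul_add]; exact Submodule.add_mem _ hx hy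

lemma pow_smul_mem {a : S} (ha : a ∈ I.map (algebraMap R S)) (n : ℕ) (x : N) :
    a ^ n • x ∈ (I ^ n • ⊤ : Submodule R N) := by
  induction n with
  | zero => simp
  | succ n ih =>
    have := smul_mem_succ I N ha n ih
    rwa [← mul_smul, ← pow_succ'] at this

lemma one_sub_bijective [IsAdicComplete I N] {a : S} (ha : a ∈ I.map (algebraMap R S)) :
    Function.Bijective (fun x : N => (1 - a) • x) := by
  constructor
  · intro x y hxy
    have h0 : (1 - a) • (x - y) = 0 := by rw [smul_sub]; exact sub_eq_zero.mpr hxy
    set w := x - y with hw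
    have h1 : a • w = w := by
      rw [sub_smul, one_smul, sub_eq_zero] at h0; exact h0.symm
    have h2 : ∀ n : ℕ, a ^ n • w = w := by
      intro n
      induction n with
      | zero => simp
      | succ n ih => rw [pow_succ, mul_smul, h1, ih]
    have h3 : w = 0 := by
      apply IsHausdorff.haus (IsAdicComplete.toIsHausdorff (I := I) (M := N))
      intro n
      rw [SModEq.zero, ← h2 n]
      exact pow_smul_mem I N ha n w
    exact sub_eq_zero.mp h3
  · intro y
    let s : ℕ → N := fun n => (∑ k ∈ Finset.range n, a ^ k) • y
    have hcauchy : ∀ {m n : ℕ}, m ≤ n → s m ≡ s n [SMOD (I ^ m • ⊤ : Submodule R N)] := by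
      intro m n hmn
      rw [SModEq.sub_mem]
      have : s m - s n = -(∑ k ∈ Finset.Ico m n, a ^ k • y) := by
        simp only [s]
        rw [← sub_smul, ← Finset.sum_smul, ← Finset.sum_range_add_sum_Ico _ hmn]
        rw [sub_add_cancel_left, neg_smul]
      rw [this]
      apply Submodule.neg_mem
      apply Submodule.sum_mem
      intro k hk
      have hk' : m ≤ k := (Finset.mem_Ico.mp hk).1
      exact Submodule.smul_mono_left (Ideal.pow_le_pow_right hk') (pow_smul_mem I N ha k y)
    obtain ⟨L, hL⟩ := IsPrecomplete.prec (IsAdicComplete.toIsPrecomplete (I := I) (M := N)) hcauchy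
    refine ⟨L, ?_⟩
    have : (1 - a) • L - y = 0 := by
      apply IsHausdorff.haus (IsAdicComplete.toIsHausdorff (I := I) (M := N))
      intro n
      rw [SModEq.zero]
      have e : (1 - a) • L - y = (1 - a) • (L - s n) - a ^ n • y := by
        have hs : (1 - a) • s n = y - a ^ n • y := by
          simp only [s]
          rw [← mul_smul, mul_neg_geom_sum, sub_smul, one_smul]
        rw [smul_sub, hs]; abel
      rw [e]
      apply Submodule.sub_mem
      · apply smul_stable I N
        have := (hL n).symm
        rw [SModEq.sub_mem] at this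
        exact this
      · exact pow_smul_mem I N ha n y
    exact sub_eq_zero.mp this

end lemmas

theorem main {R S : Type u} [CommRing R] [CommRing S] [Algebra R S] (I : Ideal R)
    (N : Type u) [AddCommGroup N] [Module S N] [Module R N] [IsScalarTower R S N] [IsAdicComplete I N]
    (M : Type u) [AddCommGroup M] [Module R M]
    (q : Ideal S) [q.IsPrime] (hq : q ∈ FlatCA.ass S (N ⊗[R] M)) :
    q ⊔ I.map (algebraMap R S) ≠ ⊤ := by
  intro htop
  obtain ⟨hqprime, z, hz⟩ := hq
  have h1 : (1 : S) ∈ q ⊔ I.map (algebraMap R S) := htop ▸ Submodule.mem_top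
  obtain ⟨f, hf, a, ha, hfa⟩ := Submodule.mem_sup.mp h1
  have hf1 : f = 1 - a := by rw [← hfa]; ring
  have hfz : f • z = 0 := by
    rw [hz] at hf
    exact (Submodule.mem_annihilator_span_singleton z f).mp hf
  have hz0 : z ≠ 0 := by
    rintro rfl
    apply hqprime.ne_top
    rw [hz, eq_top_iff]
    intro s _
    rw [Submodule.mem_annihilator_span_singleton, smul_zero]
  -- f acts bijectively on N
  let φ : N →ₗ[R] N :=
    { toFun := fun x => f • x
      map_add' := fun x y => smul_add f x y
      map_smul' := fun r x => by simp only [RingHom.id_apply]; rw [smul_comm] }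
  have hφ : Function.Bijective φ := by
    have := one_sub_bijective I N ha
    rw [← hf1] at this
    exact this
  let e : N ≃ₗ[R] N := LinearEquiv.ofBijective φ hφ
  have hact : ∀ w : N ⊗[R] M, f • w = (e.rTensor M) w := by
    intro w
    induction w using TensorProduct.induction_on with
    | zero => simp
    | tmul x y => rw [TensorProduct.smul_tmul']; rfl
    | add x y hx hy => rw [smul_add, map_add, hx, hy]
  apply hz0
  have : (e.rTensor M) z = 0 := by rw [← hact, hfz]
  exact (LinearEquiv.map_eq_zero_iff _).mp this

end helpers

open TensorProduct in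
/-- Let R → S be a ring map, I an ideal of R and N an S-module which is I-adically complete. Then for
every R-module M and every prime q of S which is the annihilator of an element of the S-module N ⊗_R
M we have q + IS ≠ S. -/
theorem result {R S : Type u} [CommRing R] [CommRing S] [Algebra R S] (I : Ideal R)
    (N : Type u) [AddCommGroup N] [Module S N] [Module R N] [IsScalarTower R S N] [IsAdicComplete I N]
    (M : Type u) [AddCommGroup M] [Module R M]
    (q : Ideal S) [q.IsPrime] (hq : q ∈ FlatCA.ass S (N ⊗[R] M)) :
    q ⊔ I.map (algebraMap R S) ≠ ⊤ := by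
  exact main I N M q hq

end Groth.Agent.S1214
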