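import Groth.Statements.S12140
import Groth.Agent.Lib.Helper3.QProj3

set_option autoImplicit false
universe u
open CategoryTheory CategoryTheory.Limits AlgebraicGeometry TopologicalSpace Opposite
open scoped HomogeneousIdeal
noncomputable section
open EGA2

namespace Groth.Agent.S12140

open Groth.Agent.Lib.Helper3 Groth.Agent.Lib.Helper3.QProj RelProj


/-- Let φ : 𝒜 → ℬ be a graded homomorphism of quasi-coherent positively graded O_Y-algebras, PA =
Proj(𝒜), PB = Proj(ℬ) with their charts, G(φ) ⊆ PB the open on which the induced morphism is defined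
and Φ = Proj(φ) : G(φ) → PA that morphism (pinned on the standard affine charts of G(φ)). Then Φ is
affine, and for every affine open U of Y the part of G(φ) over U is the image, under the chart of PB
over U, of the open G(φ(U)) of Proj ℬ(U) where the morphism of homogeneous spectra induced by φ(U) :
𝒜(U) → ℬ(U) is defined. -/
theorem result {Y PA PB : Scheme.{u}} (𝒜 ℬ : RelProj.QCGrAlg Y)
    (φ : 𝒜.toQCAlg ⟶ ℬ.toQCAlg) (hφ : RelProj.IsGradedHom φ)
    (pA : PA ⟶ Y) (chartA : ∀ (U : Y.Opens) (hU : IsAffineOpen U), (((pA ⁻¹ᵁ U : PA.Opens) : Scheme.{u}) ≅ Proj (𝒜.deg U hU)))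
    (hA : RelProj.IsRelProj 𝒜 pA chartA)
    (pB : PB ⟶ Y) (chartB : ∀ (U : Y.Opens) (hU : IsAffineOpen U), (((pB ⁻¹ᵁ U : PB.Opens) : Scheme.{u}) ≅ Proj (ℬ.deg U hU)))
    (hB : RelProj.IsRelProj ℬ pB chartB)
    (Φ : ((RelProj.domQ (RelProj.QGrHom.ofHom φ hφ) pB chartB : PB.Opens) : Scheme.{u}) ⟶ PA)
    (hΦ : RelProj.IsProjQMapOn (RelProj.QGrHom.ofHom φ hφ) pA chartA pB chartB
      (RelProj.domQ (RelProj.QGrHom.ofHom φ hφ) pB chartB) Φ) :
    IsAffineHom Φ ∧
      ∀ (U : Y.Opens) (hU : IsAffineOpen U),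
        RelProj.domQ (RelProj.QGrHom.ofHom φ hφ) pB chartB ⊓ pB ⁻¹ᵁ U =
          (RelProj.emb pB chartB U hU) ''ᵁ RelCone.domOpen (RelProj.gradedHomAt φ hφ U hU) := by
  have hleU : ∀ U : Y.Opens, U ≤ (𝟙 Y : Y ⟶ Y) ⁻¹ᵁ U := fun U => le_refl _
  constructor
  · refine isAffineHom_of_forall_exists_isAffineOpen _ fun x => ?_
    obtain ⟨_, ⟨U, hU, rfl⟩, hxU, -⟩ := Y.isBasis_affineOpens.exists_subset_of_mem_open
      (Set.mem_univ (pA.base x)) isOpen_univ
    obtain ⟨d, hd, f, hf, hx⟩ := exists_std_chart pA chartA x U hU hxU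
    refine ⟨(Proj.awayι (𝒜.deg U hU) f hf hd ≫ emb pA chartA U hU).opensRange, hx,
      isAffineOpen_opensRange _, ?_⟩
    have hW := range_awayEmb_subset_domQ (QGrHom.ofHom φ hφ) pB chartB U hU U hU (hleU U) hd f hf
    have hoi : IsOpenImmersion (awayEmb (QGrHom.ofHom φ hφ) pB chartB U hU U hU (hleU U) hd f hf) := by
      unfold awayEmb; infer_instance
    have hoi2 : IsOpenImmersion (IsOpenImmersion.lift (domQ (QGrHom.ofHom φ hφ) pB chartB).ι
          (awayEmb (QGrHom.ofHom φ hφ) pB chartB U hU U hU (hleU U) hd f hf) hW) := by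
      have : IsOpenImmersion (IsOpenImmersion.lift (domQ (QGrHom.ofHom φ hφ) pB chartB).ι
          (awayEmb (QGrHom.ofHom φ hφ) pB chartB U hU U hU (hleU U) hd f hf) hW ≫
          (domQ (QGrHom.ofHom φ hφ) pB chartB).ι) := by
        rw [IsOpenImmersion.lift_fac]; exact hoi
      exact IsOpenImmersion.of_comp _ (domQ (QGrHom.ofHom φ hφ) pB chartB).ι
    have : Φ ⁻¹ᵁ (Proj.awayι (𝒜.deg U hU) f hf hd ≫ emb pA chartA U hU).opensRange =
        (IsOpenImmersion.lift (domQ (QGrHom.ofHom φ hφ) pB chartB).ι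
          (awayEmb (QGrHom.ofHom φ hφ) pB chartB U hU U hU (hleU U) hd f hf) hW).opensRange := by
      ext w
      constructor
      · intro hw
        obtain ⟨V', hV', hle, hwV⟩ := exists_awayEmb_of_mem hA hB Φ hΦ U hU d hd f hf w hw
        have := range_awayEmb_mono (u := QGrHom.ofHom φ hφ) hB U hU V' hV' U hU hle (hleU U) d hd f hf hwV
        obtain ⟨z, hz⟩ := this
        refine ⟨z, ?_⟩
        apply (domQ (QGrHom.ofHom φ hφ) pB chartB).ι.isOpenEmbedding.injective
        rw [← Scheme.Hom.comp_apply, IsOpenImmersion.lift_fac, hz]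
      · rintro ⟨z, rfl⟩
        change Φ.base _ ∈ Set.range _
        rw [← Scheme.Hom.comp_apply, hΦ U hU U hU (hleU U) d hd f hf hW]
        exact ⟨(Spec.map (CommRingCat.ofHom (HomogeneousLocalization.Away.map
          ((QGrHom.ofHom φ hφ).gradedAt U hU U hU (hleU U)) f))).base z, by
            rw [← Scheme.Hom.comp_apply]⟩
    rw [this]
    exact isAffineOpen_opensRange _
  · intro U hU
    ext x
    constructor
    · rintro ⟨hxd, hxU⟩
      obtain ⟨V', hV', hle, d, hd, f, hf, hx⟩ := exists_awayEmb_of_mem_domQ (u := QGrHom.ofHom φ hφ) hB U hU x hxd hxU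
      have := range_awayEmb_mono (u := QGrHom.ofHom φ hφ) hB U hU V' hV' U hU hle (hleU U) d hd f hf hx
      obtain ⟨q, hq, rfl⟩ := (Idx.mem_range_j_iff pB chartB
        (Idx.std (u := QGrHom.ofHom φ hφ) U hU U hU (hleU U) d hd f hf) _).mp this
      refine ⟨q, ?_, rfl⟩
      refine (RelCone.mem_domOpen _ _).mpr ⟨f, HomogeneousIdeal.mem_irrelevant_of_mem _ hd hf, ?_⟩
      have h1 := (ProjectiveSpectrum.mem_basicOpen _ _ _).mp hq
      rw [← gradedAt_ofHom_apply φ hφ U hU (hleU U)]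
      exact h1
    · rintro ⟨q, hq, rfl⟩
      refine ⟨?_, ?_⟩
      · refine Opens.mem_iSup.mpr ⟨⟨(⟨U, hU⟩, ⟨U, hU⟩), hleU U⟩, ⟨q, ?_, rfl⟩⟩
        obtain ⟨f, hf, hfq⟩ := (RelCone.mem_domOpen _ _).mp hq
        refine (RelCone.mem_domOpen _ _).mpr ⟨f, hf, ?_⟩
        rw [gradedAt_ofHom_apply φ hφ U hU (hleU U)]
        exact hfq
      · have : (emb pB chartB U hU).base q ∈ Set.range (emb pB chartB U hU).base := ⟨q, rfl⟩
        rw [Idx.range_emb] at this
        exact this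

end Groth.Agent.S12140
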