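import Groth.Statements.S12142
import Mathlib

set_option autoImplicit false
universe u
open CategoryTheory CategoryTheory.Limits AlgebraicGeometry TopologicalSpace Opposite
open scoped HomogeneousIdeal
noncomputable section
open EGA2

namespace Groth.Agent.S12142

open RelSpec

theorem isPullback_chart {S : Scheme.{u}} (A : QCAlg S) (U : S.Opens) (hU : IsAffineOpen U) :
    IsPullback (A.ι U hU) (Spec.map (A.str.app (op U))) A.π hU.fromSpec := by
  have hr : ∀ s : PullbackCone A.π hU.fromSpec, Set.range s.fst ⊆ Set.range (A.ι U hU) := by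
    intro s
    rintro _ ⟨x, rfl⟩
    have h1 : s.fst x ∈ A.π ⁻¹ᵁ U := by
      change (s.fst ≫ A.π) x ∈ U
      rw [s.condition]
      have : (s.snd ≫ hU.fromSpec) x ∈ hU.fromSpec.opensRange := ⟨s.snd x, rfl⟩
      rwa [hU.opensRange_fromSpec] at this
    rw [A.π_preimage U hU] at h1
    exact h1
  refine ⟨⟨A.ι_π U hU⟩, ⟨PullbackCone.IsLimit.mk _
    (fun s ↦ IsOpenImmersion.lift (A.ι U hU) s.fst (hr s)) ?_ ?_ ?_⟩⟩
  · intro s; exact IsOpenImmersion.lift_fac _ _ _
  · intro s
    rw [← cancel_mono hU.fromSpec, Category.assoc, ← A.ι_π, IsOpenImmersion.lift_fac_assoc,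
      s.condition]
  · intro s m h1 h2
    rw [← cancel_mono (A.ι U hU), h1, IsOpenImmersion.lift_fac]

/-- index type for the charts lying over affine opens of `S` -/
structure Idx {S S' : Scheme.{u}} (g : S' ⟶ S) where
  U : S.Opens
  hU : IsAffineOpen U
  U' : S'.Opens
  hU' : IsAffineOpen U'
  hle : U' ≤ g ⁻¹ᵁ U



/-- Let g : S' → S be a morphism of schemes, A a quasi-coherent O_S-algebra and B = g^*A, presented as a
quasi-coherent O_{S'}-algebra with a g-morphism u : A → g_*B whose squares of rings over affine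
opens U' ⊆ g⁻¹(U) are pushouts; let h = Spec(u) : Spec(B) → Spec(A) be the induced morphism of
relative spectra (chartwise Spec of A(U) → B(U')). Then h and the structure morphisms form a
cartesian square: Spec(g^*A) is the fibre product Spec(A) ×_S S'. -/
theorem result {S S' : Scheme.{u}} (g : S' ⟶ S)
    (A : RelSpec.QCAlg S) (B : RelSpec.QCAlg S') (u : RelSpec.QHom g A B) (hu : RelSpec.IsQBaseChange u)
    (h : B.spec ⟶ A.spec) (hh : RelSpec.IsSpecQMap u h) :
    IsPullback h B.π A.π g := by
  let 𝒰 : S'.OpenCover := Scheme.Cover.mkOfCovers (Idx g) (fun p ↦ Spec Γ(S', p.U'))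
    (fun p ↦ p.hU'.fromSpec) (by
      intro x
      obtain ⟨_, ⟨U, hU : IsAffineOpen U, rfl⟩, hxU, -⟩ :=
        S.isBasis_affineOpens.exists_subset_of_mem_open (Set.mem_univ (g x)) isOpen_univ
      obtain ⟨_, ⟨U', hU' : IsAffineOpen U', rfl⟩, hxU', hle⟩ :=
        S'.isBasis_affineOpens.exists_subset_of_mem_open (show x ∈ g ⁻¹ᵁ U from hxU)
          (g ⁻¹ᵁ U).isOpen
      have : x ∈ hU'.fromSpec.opensRange := by rw [hU'.opensRange_fromSpec]; exact hxU'
      obtain ⟨y, hy⟩ := this
      exact ⟨⟨U, hU, U', hU', hle⟩, y, hy⟩) (fun p ↦ inferInstanceAs (IsOpenImmersion p.hU'.fromSpec))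
  refine (Scheme.isPullback_of_openCover B.π h g A.π 𝒰 fun (p : Idx g) ↦ ?_).flip
  have left := isPullback_chart B p.U' p.hU'
  have right := isPullback_chart A p.U p.hU
  have top := isPullback_SpecMap_of_isPushout _ _ _ _ (hu p.U p.hU p.U' p.hU' p.hle)
  have P1 := top.paste_vert right.flip
  rw [← hh p.U p.hU p.U' p.hU' p.hle, IsAffineOpen.SpecMap_appLE_fromSpec g p.hU p.hU' p.hle] at P1
  refine IsPullback.of_iso P1 left.isoPullback (Iso.refl _) (Iso.refl _) (Iso.refl _) ?_ ?_ ?_ ?_
  · exact (Category.comp_id _).trans left.isoPullback_hom_snd.symm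
  · refine (Category.comp_id _).trans ?_
    rw [← Category.assoc]
    congr 1
    exact (left.isoPullback_hom_fst).symm
  · exact (Category.comp_id _).trans (Category.id_comp _).symm
  · exact (Category.comp_id _).trans (Category.id_comp _).symm

end Groth.Agent.S12142
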