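import Groth.Statements.S12149
import Groth.Agent.Lib.Helper3.SymLine3

set_option autoImplicit false
universe u
open CategoryTheory CategoryTheory.Limits AlgebraicGeometry TopologicalSpace Opposite
open scoped HomogeneousIdeal
noncomputable section
open EGA2

namespace Groth.Agent.S12149
open Groth.Agent.Lib.Helper3

/-- Let q : X → Y be a morphism, L an invertible O_X-module with 𝒮L = ⊕ L^{⊗n} (whose Proj, with its
charts, is X), v : 𝒯 → 𝒮 a graded homomorphism of quasi-coherent positively graded O_Y-algebras, ψ♭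
= u : 𝒮 → q_*𝒮L a graded q-morphism and ψ'♭ = u' its composite with v; let r = r_{L,ψ} : G(ψ) →
Proj(𝒮) and r' = r_{L,ψ'} : G(ψ') → Proj(𝒯) be the associated morphisms. If v is (TN)-injective
(there is n with v injective on 𝒯_k for every k ≥ n, on sections over affine opens) and r is
dominant, then r' is dominant. -/
theorem result {Y X P PL P' : Scheme.{u}} (q : X ⟶ Y)
    (L : X.Modules) (hL : PicF.IsInvertible L) (hLq : Coh.IsQCoh L)
    (𝒮 : RelProj.QCGrAlg Y) (𝒮L : RelProj.QCGrAlg X) (j : L ⟶ 𝒮L.toModule) (hj : RelProj.IsGrSymAlg L 𝒮L j)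
    (u : RelProj.QGrHom q 𝒮 𝒮L)
    (p : P ⟶ Y) (chart : ∀ (U : Y.Opens) (hU : IsAffineOpen U), (((p ⁻¹ᵁ U : P.Opens) : Scheme.{u}) ≅ Proj (𝒮.deg U hU)))
    (hP : RelProj.IsRelProj 𝒮 p chart)
    (pL : PL ⟶ X) (chartL : ∀ (U : X.Opens) (hU : IsAffineOpen U), (((pL ⁻¹ᵁ U : PL.Opens) : Scheme.{u}) ≅ Proj (𝒮L.deg U hU)))
    (hPL : RelProj.IsRelProj 𝒮L pL chartL)
    (r : ((RelProj.domQ u pL chartL : PL.Opens) : Scheme.{u}) ⟶ P)
    (hr : RelProj.IsProjQMapOn u p chart pL chartL (RelProj.domQ u pL chartL) r)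
    (𝒯 : RelProj.QCGrAlg Y) (v : 𝒯.toQCAlg ⟶ 𝒮.toQCAlg) (hv : RelProj.IsGradedHom v)
    (u' : RelProj.QGrHom q 𝒯 𝒮L) (hu' : ∀ U : Y.Opens, u'.app U = v.hom.app (op U) ≫ u.app U)
    (p' : P' ⟶ Y) (chart' : ∀ (U : Y.Opens) (hU : IsAffineOpen U), (((p' ⁻¹ᵁ U : P'.Opens) : Scheme.{u}) ≅ Proj (𝒯.deg U hU)))
    (hP' : RelProj.IsRelProj 𝒯 p' chart')
    (r' : ((RelProj.domQ u' pL chartL : PL.Opens) : Scheme.{u}) ⟶ P')
    (hr' : RelProj.IsProjQMapOn u' p' chart' pL chartL (RelProj.domQ u' pL chartL) r')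
    (hTN : ∃ n : ℕ, ∀ k, n ≤ k → ∀ (U : Y.Opens) (hU : IsAffineOpen U), ∀ x ∈ 𝒯.deg U hU k,
      (v.hom.app (op U)).hom x = 0 → x = 0) (hdom : IsDominant r) :
    IsDominant r' := by
  rw [SymLine.isDominant_iff_gen hP' hPL r' hr']
  have H := (SymLine.isDominant_iff_gen hP hPL r hr).mp hdom
  obtain ⟨N, hN⟩ := hTN
  intro U hU n hn x hx hloc
  have hcomp : ∀ (V : X.Opens) (hle : V ≤ q ⁻¹ᵁ U) (t : 𝒯.presheaf.obj (op U)),
      (u'.appLE U V hle).hom t = (u.appLE U V hle).hom ((v.hom.app (op U)).hom t) := by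
    intro V hle t
    rw [RelSpec.QHom.appLE_eq, RelSpec.QHom.appLE_eq, hu' U]
    rfl
  have hvx : (v.hom.app (op U)).hom x ∈ 𝒮.deg U hU n := hv U hU n x hx
  have hnil : IsNilpotent ((v.hom.app (op U)).hom x) := H U hU n hn _ hvx (fun x' hx' => by
    obtain ⟨V, hV, hle, hxV, hnil⟩ := hloc x' hx'
    refine ⟨V, hV, hle, hxV, ?_⟩
    rw [← hcomp V hle x]
    exact hnil)
  obtain ⟨k, hk⟩ := hnil
  refine ⟨k + N, ?_⟩
  have hmem : x ^ (k + N) ∈ 𝒯.deg U hU ((k + N) * n) := by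
    have := SetLike.pow_mem_graded (k + N) hx
    simpa using this
  apply hN ((k + N) * n) (by nlinarith) U hU (x ^ (k + N)) hmem
  rw [map_pow, pow_add, hk, zero_mul]

end Groth.Agent.S12149
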