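import Groth.Statements.S12152
import Groth.Agent.Lib.Helper3.SymLine7

set_option autoImplicit false
universe u
open CategoryTheory CategoryTheory.Limits AlgebraicGeometry TopologicalSpace Opposite
open scoped HomogeneousIdeal
noncomputable section
open EGA2

namespace Groth.Agent.S12152
open Groth.Agent.Lib.Helper3

/-- Let q : X → Y be a morphism with Y affine, L an invertible O_X-module with 𝒮L = ⊕ L^{⊗n} (whose Proj
is X), 𝒮 a quasi-coherent positively graded O_Y-algebra with S = Γ(Y, 𝒮), ψ♭ = u : 𝒮 → q_*𝒮L a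
graded q-morphism and r = r_{L,ψ} : G(ψ) → P = Proj(𝒮). For a family s_a ∈ S_{n_a} (n_a > 0) put f_a
= ψ♭(s_a) ∈ Γ(X, L^{⊗n_a}) and let X_{f_a} be the open where f_a does not vanish; conditions: (i)
the X_{f_a} cover X; (ii) the X_{f_a} are affine; (iii) every function t on X_{f_a} is of the form
ψ♭(s') f_a^{-m} with m > 0 and s' ∈ S_{m n_a} (that is, t f_a^m = ψ♭(s') in 𝒮L(X_{f_a})); (v) the
opens D_+(s_a) cover Proj S. Then r is everywhere defined and a closed immersion if and only if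
there is a family (s_a) satisfying (i), (ii), (iii) and (v). -/
theorem result {Y X P PL : Scheme.{u}} (q : X ⟶ Y)
    (L : X.Modules) (hL : PicF.IsInvertible L) (hLq : Coh.IsQCoh L)
    (𝒮 : RelProj.QCGrAlg Y) (𝒮L : RelProj.QCGrAlg X) (j : L ⟶ 𝒮L.toModule) (hj : RelProj.IsGrSymAlg L 𝒮L j)
    (u : RelProj.QGrHom q 𝒮 𝒮L)
    (p : P ⟶ Y) (chart : ∀ (U : Y.Opens) (hU : IsAffineOpen U), (((p ⁻¹ᵁ U : P.Opens) : Scheme.{u}) ≅ Proj (𝒮.deg U hU)))
    (hP : RelProj.IsRelProj 𝒮 p chart)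
    (pL : PL ⟶ X) (chartL : ∀ (U : X.Opens) (hU : IsAffineOpen U), (((pL ⁻¹ᵁ U : PL.Opens) : Scheme.{u}) ≅ Proj (𝒮L.deg U hU)))
    (hPL : RelProj.IsRelProj 𝒮L pL chartL)
    (r : ((RelProj.domQ u pL chartL : PL.Opens) : Scheme.{u}) ⟶ P)
    (hr : RelProj.IsProjQMapOn u p chart pL chartL (RelProj.domQ u pL chartL) r)
    (hY : IsAffineOpen (⊤ : Y.Opens)) :
    (RelProj.domQ u pL chartL = ⊤ ∧ IsClosedImmersion r) ↔
      ∃ (ι : Type u) (n : ι → ℕ) (s : ι → 𝒮.presheaf.obj (op ⊤)) (XT : ι → X.Opens),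
        (∀ a, 0 < n a ∧ s a ∈ 𝒮.deg ⊤ hY (n a)) ∧
        (∀ a, XT a = (⨆ V : {V : X.affineOpens //
          ((𝒮L.deg V.1 V.2 (n a) : AddSubgroup (𝒮L.presheaf.obj (op (V.1 : X.Opens)))) : Set (𝒮L.presheaf.obj (op (V.1 : X.Opens)))) ⊆
            (Ideal.span {(u.appLE ⊤ (V.1 : X.Opens) (le_top.trans (Scheme.Hom.preimage_top q).ge)).hom (s a)} : Set (𝒮L.presheaf.obj (op (V.1 : X.Opens))))},
          (V.1.1 : X.Opens))) ∧
        (⨆ a, XT a) = ⊤ ∧ (∀ a, IsAffineOpen (XT a)) ∧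
        (∀ (a : ι) (t : X.presheaf.obj (op (XT a))), ∃ (m : ℕ) (_ : 0 < m) (s' : 𝒮.presheaf.obj (op ⊤)) (_ : s' ∈ 𝒮.deg ⊤ hY (m * n a)),
            (𝒮L.str.app (op (XT a))).hom t * ((u.appLE ⊤ (XT a) (le_top.trans (Scheme.Hom.preimage_top q).ge)).hom (s a)) ^ m =
              (u.appLE ⊤ (XT a) (le_top.trans (Scheme.Hom.preimage_top q).ge)).hom s') ∧
        (⨆ a, Proj.basicOpen (𝒮.deg ⊤ hY) (s a)) = ⊤ := by
  have hLqc : L.IsQuasicoherent := hLq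
  have hiso : IsIso pL := SymLine.isIso_pL hL hj hPL
  have hrange : ∀ z : P, z ∈ Set.range (RelProj.emb p chart ⊤ hY).base := by
    intro z
    rw [QProj.Idx.range_emb]
    trivial
  constructor
  · rintro ⟨htop, himm⟩
    have H : ∀ z : P, ∃ (n : ℕ) (_ : 0 < n) (s : 𝒮.presheaf.obj (op ⊤)) (_ : s ∈ 𝒮.deg ⊤ hY n),
        z ∈ (RelProj.emb p chart ⊤ hY) ''ᵁ Proj.basicOpen (𝒮.deg ⊤ hY) s ∧
          (RelProj.emb p chart ⊤ hY) ''ᵁ Proj.basicOpen (𝒮.deg ⊤ hY) s ≤ ⊤ :=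
      fun z => SymLine.exists_basicOpen_mem_le (chart := chart) ⊤ hY z trivial ⊤ trivial
    choose n hn s hs hz _ using H
    have H2 := fun z => SymLine.of_isClosedImmersion hL hj u hPL hP r hr ⊤ hY (hn z) (s z) (hs z)
    refine ⟨P, n, s, fun z => SymLine.Xf u ⊤ (n z) (s z),
      fun z => ⟨hn z, hs z⟩, fun z => (SymLine.iSup_good_eq_Xf u (n z) (s z)).symm, ?_, fun z => (H2 z).1,
      fun z => (H2 z).2, ?_⟩
    · rw [eq_top_iff]
      intro x _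
      obtain ⟨x', rfl⟩ := pL.homeomorph.surjective x
      have hx' : x' ∈ RelProj.domQ u pL chartL := htop ▸ trivial
      refine Opens.mem_iSup.mpr ⟨r.base ⟨x', hx'⟩, ?_⟩
      exact (SymLine.mem_preimage_iff hL hj u hPL hP r hr ⊤ hY (hn _) (s _) (hs _) ⟨x', hx'⟩).mp (hz _)
    · rw [eq_top_iff]
      intro y _
      refine Opens.mem_iSup.mpr ⟨(RelProj.emb p chart ⊤ hY).base y, ?_⟩
      obtain ⟨y', hy', hyy'⟩ := hz ((RelProj.emb p chart ⊤ hY).base y)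
      have := (RelProj.emb p chart ⊤ hY).isOpenEmbedding.injective hyy'
      exact this ▸ hy'
  · rintro ⟨ι, n, s, XT, h1, h2, h3, h4, h5, h6⟩
    have hXT : XT = fun a => SymLine.Xf u ⊤ (n a) (s a) :=
      funext fun a => (h2 a).trans (SymLine.iSup_good_eq_Xf u (n a) (s a))
    subst hXT
    have hcov : ∀ x : X, ∃ a, x ∈ SymLine.Xf u ⊤ (n a) (s a) := fun x =>
      Opens.mem_iSup.mp (h3 ▸ (trivial : x ∈ (⊤ : X.Opens)))
    refine ⟨(SymLine.domQ_eq_top_iff_Xf hL hj u hPL).mpr fun x => ?_,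
      SymLine.isClosedImmersion_of_forall hL hj u hPL hP r hr fun z => ?_⟩
    · obtain ⟨a, ha⟩ := hcov x
      exact ⟨⊤, hY, n a, (h1 a).1, s a, (h1 a).2, ha⟩
    · obtain ⟨y, rfl⟩ := hrange z
      have hy : y ∈ ⨆ a, Proj.basicOpen (𝒮.deg ⊤ hY) (s a) := by rw [h6]; trivial
      obtain ⟨a, ha⟩ := Opens.mem_iSup.mp hy
      exact ⟨⊤, hY, n a, (h1 a).1, s a, (h1 a).2, ⟨y, ha, rfl⟩, h4 a, h5 a⟩

end Groth.Agent.S12152
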