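import Groth.Statements.S12154
import Groth.Agent.Lib.Helper3.SymLine8

set_option autoImplicit false
universe u
open CategoryTheory CategoryTheory.Limits AlgebraicGeometry TopologicalSpace Opposite
open scoped HomogeneousIdeal
noncomputable section
open EGA2

namespace Groth.Agent.S12154
open Groth.Agent.Lib.Helper3

/-- Let q : X → Y be a morphism, L an invertible O_X-module with 𝒮L = ⊕ L^{⊗n} (whose Proj, with its
charts, is X), v : 𝒯 → 𝒮 a graded homomorphism of quasi-coherent positively graded O_Y-algebras, ψ♭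
= u : 𝒮 → q_*𝒮L a graded q-morphism and ψ'♭ = u' its composite with v; let r = r_{L,ψ} : G(ψ) →
Proj(𝒮) and r' = r_{L,ψ'} : G(ψ') → Proj(𝒯), with r' everywhere defined and v (TN)-surjective (v :
𝒯_k → 𝒮_k surjective for all large k, on sections over affine opens). If r' is an open immersion, so
is r; if r' is a closed immersion, so is r. -/
theorem result {Y X P PL P' : Scheme.{u}} (q : X ⟶ Y)
    (L : X.Modules) (hL : PicF.IsInvertible L) (hLq : Coh.IsQCoh L)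
    (𝒮 : RelProj.QCGrAlg Y) (𝒮L : RelProj.QCGrAlg X) (j : L ⟶ 𝒮L.toModule) (hj : RelProj.IsGrSymAlg L 𝒮L j)
    (u : RelProj.QGrHom q 𝒮 𝒮L)
    (p : P ⟶ Y) (chart : ∀ (U : Y.Opens) (hU : IsAffineOpen U), (((p ⁻¹ᵁ U : P.Opens) : Scheme.{u}) ≅ Proj (𝒮.deg U hU)))
    (hP : RelProj.IsRelProj 𝒮 p chart)
    (pL : PL ⟶ X) (chartL : ∀ (U : X.Opens) (hU : IsAffineOpen U), (((pL ⁻¹ᵁ U : PL.Opens) : Scheme.{u}) ≅ Proj (𝒮L.deg U hU)))
    (hPL : RelProj.IsRelProj 𝒮L pL chartL)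
    (r : ((RelProj.domQ u pL chartL : PL.Opens) : Scheme.{u}) ⟶ P)
    (hr : RelProj.IsProjQMapOn u p chart pL chartL (RelProj.domQ u pL chartL) r)
    (𝒯 : RelProj.QCGrAlg Y) (v : 𝒯.toQCAlg ⟶ 𝒮.toQCAlg) (hv : RelProj.IsGradedHom v)
    (u' : RelProj.QGrHom q 𝒯 𝒮L) (hu' : ∀ U : Y.Opens, u'.app U = v.hom.app (op U) ≫ u.app U)
    (p' : P' ⟶ Y) (chart' : ∀ (U : Y.Opens) (hU : IsAffineOpen U), (((p' ⁻¹ᵁ U : P'.Opens) : Scheme.{u}) ≅ Proj (𝒯.deg U hU)))
    (hP' : RelProj.IsRelProj 𝒯 p' chart')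
    (r' : ((RelProj.domQ u' pL chartL : PL.Opens) : Scheme.{u}) ⟶ P')
    (hr' : RelProj.IsProjQMapOn u' p' chart' pL chartL (RelProj.domQ u' pL chartL) r')
    (hTN : ∃ n : ℕ, ∀ k, n ≤ k → ∀ (U : Y.Opens) (hU : IsAffineOpen U), ∀ y ∈ 𝒮.deg U hU k,
      ∃ x ∈ 𝒯.deg U hU k, (v.hom.app (op U)).hom x = y)
    (hdef : RelProj.domQ u' pL chartL = ⊤) :
    (IsOpenImmersion r' → IsOpenImmersion r) ∧ (IsClosedImmersion r' → IsClosedImmersion r) := by
  have hLqc : L.IsQuasicoherent := hLq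
  obtain ⟨N, hN⟩ := hTN
  constructor
  · intro hopen
    refine SymLine.isOpenImmersion_of_forall hL hj u hPL hP r hr fun w => ?_
    have hw' : (RelProj.domQ u pL chartL).ι.base w ∈ RelProj.domQ u' pL chartL := hdef ▸ trivial
    obtain ⟨U, hU, hxU, -⟩ := exists_isAffineOpen_mem_and_subset
      (x := q.base (pL.base ((RelProj.domQ u pL chartL).ι.base w))) (U := ⊤) trivial
    obtain ⟨n, hn, t, ht, hx, haff, h3, h4⟩ := SymLine.exists_of_isOpenImmersion hL hj u' hPL hP' r' hr'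
      ⟨(RelProj.domQ u pL chartL).ι.base w, hw'⟩ U hU hxU
    have hXf := SymLine.Xf_comp u u' v hu' U n t
    exact ⟨U, hU, n, hn, (v.hom.app (op U)).hom t, hv U hU _ _ ht, hXf ▸ hx, hXf ▸ haff,
      SymLine.condIII_comp u u' v hu' hv U hU n t h3,
      SymLine.condIV_comp u u' v hu' hv N hN U hU hn t ht h4⟩
  · intro hclosed
    refine SymLine.isClosedImmersion_of_forall hL hj u hPL hP r hr fun z => ?_
    obtain ⟨U, hU, hzU, -⟩ := exists_isAffineOpen_mem_and_subset (x := p.base z) (U := ⊤) trivial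
    obtain ⟨n₀, hn₀, s₀, hs₀, hz, -⟩ := SymLine.exists_basicOpen_mem_le (chart := chart) U hU z hzU ⊤ trivial
    have hmem : s₀ ^ (N + 1) ∈ 𝒮.deg U hU ((N + 1) * n₀) := by
      have := SetLike.pow_mem_graded (N + 1) hs₀
      simpa using this
    obtain ⟨t, ht, hvt⟩ := hN ((N + 1) * n₀) (by nlinarith) U hU _ hmem
    have hpos : 0 < (N + 1) * n₀ := by positivity
    obtain ⟨haff, h3⟩ := SymLine.of_isClosedImmersion hL hj u' hPL hP' r' hr' U hU hpos t ht
    have hXf := SymLine.Xf_comp u u' v hu' U ((N + 1) * n₀) t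
    have h3' := SymLine.condIII_comp u u' v hu' hv U hU _ t h3
    rw [hvt] at hXf h3'
    refine ⟨U, hU, (N + 1) * n₀, hpos, s₀ ^ (N + 1), hmem, ?_, hXf ▸ haff, h3'⟩
    rw [Proj.basicOpen_pow _ _ _ (Nat.succ_pos N)]
    exact hz

end Groth.Agent.S12154
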