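import Groth.Statements.S12159
import Groth.Agent.Lib.Helper3.SymLine4
import Groth.Agent.Lib.Helper3.RelProjExist
import Groth.Agent.S12147

set_option autoImplicit false
universe u
open CategoryTheory CategoryTheory.Limits AlgebraicGeometry TopologicalSpace Opposite
open scoped HomogeneousIdeal
noncomputable section
open EGA2

namespace Groth.Agent.S12159
open Groth.Agent.Lib.Helper3

/-- Let Y be a quasi-compact scheme, q : X → Y a quasi-compact morphism, L an invertible O_X-module with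
𝒮L = ⊕ L^{⊗n} (whose Proj is X), 𝒮 = colim 𝒮^i a filtered colimit of quasi-coherent positively
graded O_Y-algebras along graded homomorphisms φ_i : 𝒮^i → 𝒮 (colimit taken on sections over affine
opens), ψ♭ = u : 𝒮 → q_*𝒮L a graded q-morphism and ψ_i♭ = u ∘ φ_i. Then r_{L,ψ} is everywhere
defined if and only if some r_{L,ψ_i} is everywhere defined, and in that case r_{L,ψ_j} is
everywhere defined for all j ≥ i. -/
theorem result {Y X P PL : Scheme.{u}} (q : X ⟶ Y)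
    (L : X.Modules) (hL : PicF.IsInvertible L) (hLq : Coh.IsQCoh L)
    (𝒮 : RelProj.QCGrAlg Y) (𝒮L : RelProj.QCGrAlg X) (j : L ⟶ 𝒮L.toModule) (hj : RelProj.IsGrSymAlg L 𝒮L j)
    (u : RelProj.QGrHom q 𝒮 𝒮L)
    (p : P ⟶ Y) (chart : ∀ (U : Y.Opens) (hU : IsAffineOpen U), (((p ⁻¹ᵁ U : P.Opens) : Scheme.{u}) ≅ Proj (𝒮.deg U hU)))
    (hP : RelProj.IsRelProj 𝒮 p chart)
    (pL : PL ⟶ X) (chartL : ∀ (U : X.Opens) (hU : IsAffineOpen U), (((pL ⁻¹ᵁ U : PL.Opens) : Scheme.{u}) ≅ Proj (𝒮L.deg U hU)))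
    (hPL : RelProj.IsRelProj 𝒮L pL chartL)
    [CompactSpace Y] [QuasiCompact q]
    (Λ : Type u) [Preorder Λ] [IsDirected Λ (· ≤ ·)] [Nonempty Λ]
    (𝒮i : Λ → RelProj.QCGrAlg Y) (φ : ∀ i, (𝒮i i).toQCAlg ⟶ 𝒮.toQCAlg) (hφ : ∀ i, RelProj.IsGradedHom (φ i))
    (t : ∀ i j, i ≤ j → ((𝒮i i).toQCAlg ⟶ (𝒮i j).toQCAlg)) (ht : ∀ i j (h : i ≤ j), RelProj.IsGradedHom (t i j h))
    (hφt : ∀ i j (h : i ≤ j), t i j h ≫ φ j = φ i)
    (hsurj : ∀ (U : Y.Opens), IsAffineOpen U → ∀ x : 𝒮.presheaf.obj (op U),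
      ∃ (i : Λ) (y : (𝒮i i).presheaf.obj (op U)), ((φ i).hom.app (op U)).hom y = x)
    (hker : ∀ (U : Y.Opens), IsAffineOpen U → ∀ (i : Λ) (y : (𝒮i i).presheaf.obj (op U)),
      ((φ i).hom.app (op U)).hom y = 0 → ∃ (j : Λ) (h : i ≤ j), ((t i j h).hom.app (op U)).hom y = 0)
    (ui : ∀ i, RelProj.QGrHom q (𝒮i i) 𝒮L) (hui : ∀ i (U : Y.Opens), (ui i).app U = (φ i).hom.app (op U) ≫ u.app U) :
    (RelProj.domQ u pL chartL = ⊤ ↔ ∃ i, RelProj.domQ (ui i) pL chartL = ⊤) ∧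
      ∀ i, RelProj.domQ (ui i) pL chartL = ⊤ → ∀ j, i ≤ j → RelProj.domQ (ui j) pL chartL = ⊤ := by
  classical
  have hLqc : L.IsQuasicoherent := hLq
  have hcomp : ∀ (i : Λ) (U : Y.Opens) (V : X.Opens) (hle : V ≤ q ⁻¹ᵁ U) (y : (𝒮i i).presheaf.obj (op U)),
      ((ui i).appLE U V hle).hom y = (u.appLE U V hle).hom (((φ i).hom.app (op U)).hom y) := by
    intro i U V hle y
    rw [RelSpec.QHom.appLE_eq, RelSpec.QHom.appLE_eq, hui i U]
    rfl
  have hle1 : ∀ i, RelProj.domQ (ui i) pL chartL ≤ RelProj.domQ u pL chartL := fun i =>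
    Groth.Agent.S12147.result q L hL hLq 𝒮 𝒮L j hj u p chart hP pL chartL hPL (𝒮i i) (φ i) (hφ i) (ui i) (hui i)
  have hle2 : ∀ i j' (h : i ≤ j'), RelProj.domQ (ui i) pL chartL ≤ RelProj.domQ (ui j') pL chartL := by
    intro i j' h
    refine Groth.Agent.S12147.result q L hL hLq (𝒮i j') 𝒮L j hj (ui j') (RelProjExist.relProjπ (𝒮i j'))
      (RelProjExist.chart (𝒮i j')) (RelProjExist.isRelProj (𝒮i j')) pL chartL hPL (𝒮i i)
      (t i j' h) (ht i j' h) (ui i) (fun U => ?_)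
    rw [hui i U, hui j' U, ← hφt i j' h]
    rfl
  refine ⟨⟨fun htop => ?_, fun ⟨i, hi⟩ => top_le_iff.mp (hi ▸ hle1 i)⟩,
    fun i hi j' h => top_le_iff.mp (hi ▸ hle2 i j' h)⟩
  have H := (SymLine.domQ_eq_top_iff_gen hL hj u hPL).mp htop
  choose U hU n hn s hs V hV hle hxV hgood using H
  have hXc : CompactSpace X := QuasiCompact.compactSpace_of_compactSpace q
  obtain ⟨F, hF⟩ := isCompact_univ.elim_finite_subcover (fun x : X => ((V x : X.Opens) : Set X))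
    (fun x => (V x).isOpen) (fun x _ => Set.mem_iUnion.mpr ⟨x, hxV x⟩)
  -- homogeneous lifts
  have hlift : ∀ x : X, ∃ (i : Λ) (y : (𝒮i i).presheaf.obj (op (U x))), y ∈ (𝒮i i).deg (U x) (hU x) (n x) ∧
      ((φ i).hom.app (op (U x))).hom y = s x := by
    intro x
    obtain ⟨i, y, hy⟩ := hsurj (U x) (hU x) (s x)
    refine ⟨i, (DirectSum.decompose ((𝒮i i).deg (U x) (hU x)) y (n x) : (𝒮i i).presheaf.obj (op (U x))),
      SetLike.coe_mem _, ?_⟩
    have h1 := GradedRingHom.map_directSumDecompose (𝒜 := (𝒮i i).deg (U x) (hU x)) (ℬ := 𝒮.deg (U x) (hU x))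
      (RelProj.gradedHomAt (φ i) (hφ i) (U x) (hU x)) (x := y) (i := n x)
    have h2 : (RelProj.gradedHomAt (φ i) (hφ i) (U x) (hU x)) y = s x := hy
    rw [h2, DirectSum.decompose_of_mem_same _ (hs x)] at h1
    exact h1
  choose ix y hy hφy using hlift
  obtain ⟨M, hM⟩ := Finset.exists_le (F.image ix)
  refine ⟨M, ?_⟩
  rw [SymLine.domQ_eq_top_iff_gen hL hj (ui M) hPL]
  intro x₀
  obtain ⟨x, hx⟩ := Set.mem_iUnion.mp (hF (Set.mem_univ x₀))
  obtain ⟨hxF, hx₀V⟩ := Set.mem_iUnion.mp hx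
  have hiM : ix x ≤ M := hM _ (Finset.mem_image_of_mem _ hxF)
  refine ⟨U x, hU x, n x, hn x, ((t (ix x) M hiM).hom.app (op (U x))).hom (y x),
    ht (ix x) M hiM (U x) (hU x) _ _ (hy x), V x, hV x, hle x, hx₀V, ?_⟩
  have heq : ((ui M).appLE (U x) (V x) (hle x)).hom (((t (ix x) M hiM).hom.app (op (U x))).hom (y x)) =
      (u.appLE (U x) (V x) (hle x)).hom (s x) := by
    rw [hcomp M, ← hφy x, ← hφt (ix x) M hiM]
    rfl
  unfold SymLine.Good
  rw [heq]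
  exact hgood x

end Groth.Agent.S12159
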