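import Groth.Statements.S12161
import Groth.Agent.Lib.Helper3.SymLine9
import Groth.Agent.S12153

set_option autoImplicit false
universe u
open CategoryTheory CategoryTheory.Limits AlgebraicGeometry TopologicalSpace Opposite
open scoped HomogeneousIdeal
noncomputable section
open EGA2

namespace Groth.Agent.S12161
open Groth.Agent.Lib.Helper3

/-- Let Y be a quasi-compact scheme, q : X → Y a quasi-compact morphism, L an invertible O_X-module with
𝒮L = ⊕ L^{⊗n} (whose Proj is X), 𝒮 = colim 𝒮^i a filtered colimit of quasi-coherent positively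
graded O_Y-algebras along graded homomorphisms φ_i : 𝒮^i → 𝒮 (colimit taken on sections over affine
opens), ψ♭ = u : 𝒮 → q_*𝒮L a graded q-morphism and ψ_i♭ = u ∘ φ_i, with q of finite type; let r =
r_{L,ψ} : G(ψ) → Proj(𝒮) and r_i = r_{L,ψ_i} : G(ψ_i) → Proj(𝒮^i). Then r is everywhere defined and
an immersion if and only if some r_i is, and then so is r_j for all j ≥ i. -/
theorem result {Y X P PL : Scheme.{u}} (q : X ⟶ Y)
    (L : X.Modules) (hL : PicF.IsInvertible L) (hLq : Coh.IsQCoh L)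
    (𝒮 : RelProj.QCGrAlg Y) (𝒮L : RelProj.QCGrAlg X) (j : L ⟶ 𝒮L.toModule) (hj : RelProj.IsGrSymAlg L 𝒮L j)
    (u : RelProj.QGrHom q 𝒮 𝒮L)
    (p : P ⟶ Y) (chart : ∀ (U : Y.Opens) (hU : IsAffineOpen U), (((p ⁻¹ᵁ U : P.Opens) : Scheme.{u}) ≅ Proj (𝒮.deg U hU)))
    (hP : RelProj.IsRelProj 𝒮 p chart)
    (pL : PL ⟶ X) (chartL : ∀ (U : X.Opens) (hU : IsAffineOpen U), (((pL ⁻¹ᵁ U : PL.Opens) : Scheme.{u}) ≅ Proj (𝒮L.deg U hU)))
    (hPL : RelProj.IsRelProj 𝒮L pL chartL)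
    [CompactSpace Y] [QuasiCompact q] [LocallyOfFiniteType q]
    (r : ((RelProj.domQ u pL chartL : PL.Opens) : Scheme.{u}) ⟶ P)
    (hr : RelProj.IsProjQMapOn u p chart pL chartL (RelProj.domQ u pL chartL) r)
    (Λ : Type u) [Preorder Λ] [IsDirected Λ (· ≤ ·)] [Nonempty Λ]
    (𝒮i : Λ → RelProj.QCGrAlg Y) (φ : ∀ i, (𝒮i i).toQCAlg ⟶ 𝒮.toQCAlg) (hφ : ∀ i, RelProj.IsGradedHom (φ i))
    (t : ∀ i j, i ≤ j → ((𝒮i i).toQCAlg ⟶ (𝒮i j).toQCAlg)) (ht : ∀ i j (h : i ≤ j), RelProj.IsGradedHom (t i j h))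
    (hφt : ∀ i j (h : i ≤ j), t i j h ≫ φ j = φ i)
    (hsurj : ∀ (U : Y.Opens), IsAffineOpen U → ∀ x : 𝒮.presheaf.obj (op U),
      ∃ (i : Λ) (y : (𝒮i i).presheaf.obj (op U)), ((φ i).hom.app (op U)).hom y = x)
    (hker : ∀ (U : Y.Opens), IsAffineOpen U → ∀ (i : Λ) (y : (𝒮i i).presheaf.obj (op U)),
      ((φ i).hom.app (op U)).hom y = 0 → ∃ (j : Λ) (h : i ≤ j), ((t i j h).hom.app (op U)).hom y = 0)
    (ui : ∀ i, RelProj.QGrHom q (𝒮i i) 𝒮L) (hui : ∀ i (U : Y.Opens), (ui i).app U = (φ i).hom.app (op U) ≫ u.app U)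
    (Pi : Λ → Scheme.{u}) (pi : ∀ i, Pi i ⟶ Y)
    (charti : ∀ i (U : Y.Opens) (hU : IsAffineOpen U), ((((pi i) ⁻¹ᵁ U : (Pi i).Opens) : Scheme.{u}) ≅ Proj ((𝒮i i).deg U hU)))
    (hPi : ∀ i, RelProj.IsRelProj (𝒮i i) (pi i) (charti i))
    (ri : ∀ i, ((RelProj.domQ (ui i) pL chartL : PL.Opens) : Scheme.{u}) ⟶ Pi i)
    (hri : ∀ i, RelProj.IsProjQMapOn (ui i) (pi i) (charti i) pL chartL (RelProj.domQ (ui i) pL chartL) (ri i)) :
    ((RelProj.domQ u pL chartL = ⊤ ∧ IsImmersion r) ↔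
        ∃ i, RelProj.domQ (ui i) pL chartL = ⊤ ∧ IsImmersion (ri i)) ∧
      ∀ i, (RelProj.domQ (ui i) pL chartL = ⊤ ∧ IsImmersion (ri i)) →
        ∀ j, i ≤ j → RelProj.domQ (ui j) pL chartL = ⊤ ∧ IsImmersion (ri j) := by
  classical
  have hLqc : L.IsQuasicoherent := hLq
  have hiso : IsIso pL := SymLine.isIso_pL hL hj hPL
  have hback : ∀ i, (RelProj.domQ (ui i) pL chartL = ⊤ ∧ IsImmersion (ri i)) →
      RelProj.domQ u pL chartL = ⊤ ∧ IsImmersion r := fun i hi =>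
    Groth.Agent.S12153.result q L hL hLq 𝒮 𝒮L j hj u p chart hP pL chartL hPL r hr (𝒮i i) (φ i) (hφ i) (ui i)
      (hui i) (pi i) (charti i) (hPi i) (ri i) (hri i) hi.1 hi.2
  have hmono : ∀ i, (RelProj.domQ (ui i) pL chartL = ⊤ ∧ IsImmersion (ri i)) →
      ∀ j', i ≤ j' → RelProj.domQ (ui j') pL chartL = ⊤ ∧ IsImmersion (ri j') := fun i hi j' h =>
    Groth.Agent.S12153.result q L hL hLq (𝒮i j') 𝒮L j hj (ui j') (pi j') (charti j') (hPi j') pL chartL hPL (ri j')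
      (hri j') (𝒮i i) (t i j' h) (ht i j' h) (ui i)
      (fun U => by rw [hui i U, hui j' U, ← hφt i j' h]; rfl) (pi i) (charti i) (hPi i) (ri i) (hri i) hi.1 hi.2
  refine ⟨⟨fun ⟨htop, himm⟩ => ?_, fun ⟨i, hi⟩ => hback i hi⟩, hmono⟩
  have hXc : CompactSpace X := QuasiCompact.compactSpace_of_compactSpace q
  have H : ∀ x : X, ∃ (U : Y.Opens) (hU : IsAffineOpen U) (n : ℕ) (_ : 0 < n) (s : 𝒮.presheaf.obj (op U))
      (_ : s ∈ 𝒮.deg U hU n),
      x ∈ SymLine.Xf u U n s ∧ IsAffineOpen (SymLine.Xf u U n s) ∧ SymLine.CondIII u U hU n s := by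
    intro x
    obtain ⟨x', rfl⟩ := pL.homeomorph.surjective x
    have hx' : x' ∈ RelProj.domQ u pL chartL := htop ▸ trivial
    obtain ⟨U, hU, hxU, -⟩ := exists_isAffineOpen_mem_and_subset (x := q.base (pL.base x')) (U := ⊤) trivial
    obtain ⟨n, hn, s, hs, hx, haff, h3⟩ := SymLine.exists_of_isImmersion hL hj u hPL hP r hr ⟨x', hx'⟩ U hU hxU
    exact ⟨U, hU, n, hn, s, hs, hx, haff, h3⟩
  choose U hU n hn s hs hx haff h3 using H
  obtain ⟨F, hF⟩ := isCompact_univ.elim_finite_subcover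
    (fun x : X => ((SymLine.Xf u (U x) (n x) (s x) : X.Opens) : Set X))
    (fun x => (SymLine.Xf u (U x) (n x) (s x)).isOpen) (fun x _ => Set.mem_iUnion.mpr ⟨x, hx x⟩)
  have HE := fun x => SymLine.exists_finset_condIII u (U x) (hU x) (n x) (s x) (haff x) (h3 x)
  choose E hE1 hE2 using HE
  have hlift : ∀ (V : Y.Opens) (hV : IsAffineOpen V) (d : ℕ) (a : 𝒮.presheaf.obj (op V)),
      ∃ (i : Λ) (y : (𝒮i i).presheaf.obj (op V)), y ∈ (𝒮i i).deg V hV d ∧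
        ((φ i).hom.app (op V)).hom y = (DirectSum.decompose (𝒮.deg V hV) a d : 𝒮.presheaf.obj (op V)) := by
    intro V hV d a
    obtain ⟨i, y, hy⟩ := hsurj V hV a
    refine ⟨i, (DirectSum.decompose ((𝒮i i).deg V hV) y d : (𝒮i i).presheaf.obj (op V)), SetLike.coe_mem _, ?_⟩
    have h1 := GradedRingHom.map_directSumDecompose (𝒜 := (𝒮i i).deg V hV) (ℬ := 𝒮.deg V hV)
      (RelProj.gradedHomAt (φ i) (hφ i) V hV) (x := y) (i := d)
    have h2 : (RelProj.gradedHomAt (φ i) (hφ i) V hV) y = a := hy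
    rw [h2] at h1
    exact h1
  choose ix yx hyx hφyx using fun x => hlift (U x) (hU x) (n x) (s x)
  choose ie ye hye hφye using fun (x : X) (e : ℕ × 𝒮.presheaf.obj (op (U x))) =>
    hlift (U x) (hU x) (e.1 * n x) e.2
  obtain ⟨M, hM⟩ := Finset.exists_le (F.image ix ∪ F.biUnion (fun x => (E x).image (ie x)))
  refine ⟨M, ?_⟩
  have key : ∀ x ∈ F, ∃ (tM : (𝒮i M).presheaf.obj (op (U x))) (_ : tM ∈ (𝒮i M).deg (U x) (hU x) (n x)),
      SymLine.Xf (ui M) (U x) (n x) tM = SymLine.Xf u (U x) (n x) (s x) ∧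
        SymLine.CondIII (ui M) (U x) (hU x) (n x) tM := by
    intro x hxF
    have hiM : ix x ≤ M := hM _ (Finset.mem_union_left _ (Finset.mem_image_of_mem _ hxF))
    have htMmem : ((t (ix x) M hiM).hom.app (op (U x))).hom (yx x) ∈ (𝒮i M).deg (U x) (hU x) (n x) :=
      ht (ix x) M hiM (U x) (hU x) _ _ (hyx x)
    have hφtM : ((φ M).hom.app (op (U x))).hom (((t (ix x) M hiM).hom.app (op (U x))).hom (yx x)) = s x := by
      have : ((φ M).hom.app (op (U x))).hom (((t (ix x) M hiM).hom.app (op (U x))).hom (yx x)) =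
          ((φ (ix x)).hom.app (op (U x))).hom (yx x) := by
        rw [← hφt (ix x) M hiM]; rfl
      rw [this, hφyx x, DirectSum.decompose_of_mem_same _ (hs x)]
    refine ⟨_, htMmem, (SymLine.Xf_comp u (ui M) (φ M) (hui M) (U x) (n x) _).trans (by rw [hφtM]), ?_⟩
    refine hE2 x (𝒮i M) (φ M) (ui M) (hui M) _ htMmem hφtM fun e he => ?_
    have heM : ie x e ≤ M := hM _ (Finset.mem_union_right _
      (Finset.mem_biUnion.mpr ⟨x, hxF, Finset.mem_image_of_mem _ he⟩))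
    refine ⟨((t (ie x e) M heM).hom.app (op (U x))).hom (ye x e),
      ht (ie x e) M heM (U x) (hU x) _ _ (hye x e), ?_⟩
    have : ((φ M).hom.app (op (U x))).hom (((t (ie x e) M heM).hom.app (op (U x))).hom (ye x e)) =
        ((φ (ie x e)).hom.app (op (U x))).hom (ye x e) := by
      rw [← hφt (ie x e) M heM]; rfl
    rw [this, hφye x e, DirectSum.decompose_of_mem_same _ (hE1 x e he)]
  have hcov : ∀ x₀ : X, ∃ x ∈ F, x₀ ∈ SymLine.Xf u (U x) (n x) (s x) := by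
    intro x₀
    obtain ⟨x, hx⟩ := Set.mem_iUnion.mp (hF (Set.mem_univ x₀))
    obtain ⟨hxF, hx₀⟩ := Set.mem_iUnion.mp hx
    exact ⟨x, hxF, hx₀⟩
  refine ⟨(SymLine.domQ_eq_top_iff_Xf hL hj (ui M) hPL).mpr fun x₀ => ?_,
    SymLine.isImmersion_of_forall hL hj (ui M) hPL (hPi M) (ri M) (hri M) fun w => ?_⟩
  · obtain ⟨x, hxF, hx₀⟩ := hcov x₀
    obtain ⟨tM, htM, hXf, -⟩ := key x hxF
    exact ⟨U x, hU x, n x, hn x, tM, htM, by rw [hXf]; exact hx₀⟩
  · obtain ⟨x, hxF, hx₀⟩ := hcov (pL.base ((RelProj.domQ (ui M) pL chartL).ι.base w))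
    obtain ⟨tM, htM, hXf, h3M⟩ := key x hxF
    exact ⟨U x, hU x, n x, hn x, tM, htM, by rw [hXf]; exact hx₀, by rw [hXf]; exact haff x, h3M⟩

end Groth.Agent.S12161
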