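import Groth.Statements.S12163
import Groth.Agent.Lib.Helper3.QProj2

set_option autoImplicit false
universe u
open CategoryTheory CategoryTheory.Limits AlgebraicGeometry TopologicalSpace Opposite
open scoped HomogeneousIdeal
noncomputable section
open EGA2

namespace Groth.Agent.S12163

open Groth.Agent.Lib.Helper3 Groth.Agent.Lib.Helper3.QProj RelProj


/-- Let φ : 𝒜 → ℬ be a graded homomorphism of quasi-coherent positively graded O_Y-algebras and PB =
Proj(ℬ) with its charts. If every point of Y has an affine neighbourhood U over which the irrelevant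
ideal of ℬ(U) is contained in the ideal generated by φ(𝒜(U)_+), then the open of definition G(φ) of
Proj(φ) is all of PB. (The published condition asks 𝒮_+ to be generated by the image as a module
over the functions on U; generation as an ideal, used here, is implied by it.) -/
theorem result {Y PB : Scheme.{u}} (𝒜 ℬ : RelProj.QCGrAlg Y)
    (φ : 𝒜.toQCAlg ⟶ ℬ.toQCAlg) (hφ : RelProj.IsGradedHom φ)
    (pB : PB ⟶ Y) (chartB : ∀ (U : Y.Opens) (hU : IsAffineOpen U), (((pB ⁻¹ᵁ U : PB.Opens) : Scheme.{u}) ≅ Proj (ℬ.deg U hU)))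
    (hB : RelProj.IsRelProj ℬ pB chartB)
    (hcov : ∀ y : Y, ∃ (U : Y.Opens) (hU : IsAffineOpen U), y ∈ U ∧
      (ℬ.deg U hU)₊ ≤ ((𝒜.deg U hU)₊).map (RelProj.gradedHomAt φ hφ U hU)) :
    RelProj.domQ (RelProj.QGrHom.ofHom φ hφ) pB chartB = ⊤ := by
  rw [eq_top_iff]
  rintro x -
  obtain ⟨U, hU, hyU, hirr⟩ := hcov (pB.base x)
  have hx : x ∈ Set.range (emb pB chartB U hU).base := by
    rw [Idx.range_emb]; exact hyU
  obtain ⟨q, rfl⟩ := hx
  have hle : U ≤ (𝟙 Y : Y ⟶ Y) ⁻¹ᵁ U := le_refl _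
  refine Opens.mem_iSup.mpr ⟨⟨(⟨U, hU⟩, ⟨U, hU⟩), hle⟩, ⟨q, ?_, rfl⟩⟩
  rw [SetLike.mem_coe, RelCone.mem_domOpen]
  by_contra hcon
  push Not at hcon
  apply q.not_irrelevant_le
  refine hirr.trans ?_
  change Ideal.map _ _ ≤ q.asHomogeneousIdeal.toIdeal
  rw [Ideal.map_le_iff_le_comap]
  intro f hf
  have := hcon f hf
  rw [gradedAt_ofHom_apply] at this
  exact this

end Groth.Agent.S12163
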