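import Groth.Statements.S12165
import Groth.Agent.Lib.Helper3.QProj4

set_option autoImplicit false
universe u
open CategoryTheory CategoryTheory.Limits AlgebraicGeometry TopologicalSpace Opposite
open scoped HomogeneousIdeal
noncomputable section
open EGA2

namespace Groth.Agent.S12165

open Groth.Agent.Lib.Helper3 Groth.Agent.Lib.Helper3.QProj RelProj


/-- Let φ : 𝒜 → ℬ be a (TN)-surjective graded homomorphism of quasi-coherent positively graded
O_Y-algebras (φ : 𝒜_k → ℬ_k surjective for all large k, on sections over affine opens), PA =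
Proj(𝒜), PB = Proj(ℬ) with their charts. Then Proj(φ) is defined on all of PB and is a closed
immersion PB → PA. -/
theorem result {Y PA PB : Scheme.{u}} (𝒜 ℬ : RelProj.QCGrAlg Y)
    (φ : 𝒜.toQCAlg ⟶ ℬ.toQCAlg) (hφ : RelProj.IsGradedHom φ)
    (hTN : ∃ n : ℕ, ∀ k, n ≤ k → ∀ (U : Y.Opens) (hU : IsAffineOpen U), ∀ y ∈ ℬ.deg U hU k,
      ∃ x ∈ 𝒜.deg U hU k, (φ.hom.app (op U)).hom x = y)
    (pA : PA ⟶ Y) (chartA : ∀ (U : Y.Opens) (hU : IsAffineOpen U), (((pA ⁻¹ᵁ U : PA.Opens) : Scheme.{u}) ≅ Proj (𝒜.deg U hU)))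
    (hA : RelProj.IsRelProj 𝒜 pA chartA)
    (pB : PB ⟶ Y) (chartB : ∀ (U : Y.Opens) (hU : IsAffineOpen U), (((pB ⁻¹ᵁ U : PB.Opens) : Scheme.{u}) ≅ Proj (ℬ.deg U hU)))
    (hB : RelProj.IsRelProj ℬ pB chartB) :
    RelProj.domQ (RelProj.QGrHom.ofHom φ hφ) pB chartB = ⊤ ∧
      ∀ h : PB ⟶ PA, RelProj.IsProjQMap (RelProj.QGrHom.ofHom φ hφ) pA chartA pB chartB h →
        IsClosedImmersion h := by
  obtain ⟨n, hn⟩ := hTN
  have hTN' : ∀ (U : Y.Opens) (hU : IsAffineOpen U), ∀ k, n ≤ k → ∀ y ∈ ℬ.deg U hU k,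
      ∃ x ∈ 𝒜.deg U hU k, (QGrHom.ofHom φ hφ).gradedAt U hU U hU (le_id_preimage U) x = y := by
    intro U hU k hk y hy
    obtain ⟨x, hx, hxy⟩ := hn k hk U hU y hy
    exact ⟨x, hx, (gradedAt_ofHom_apply φ hφ U hU (le_id_preimage U) x).trans hxy⟩
  constructor
  · rw [eq_top_iff]
    rintro x -
    obtain ⟨_, ⟨U, hU, rfl⟩, hxU, -⟩ := Y.isBasis_affineOpens.exists_subset_of_mem_open
      (Set.mem_univ (pB.base x)) isOpen_univ
    have hx : x ∈ Set.range (emb pB chartB U hU).base := by rw [Idx.range_emb]; exact hxU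
    obtain ⟨q, rfl⟩ := hx
    refine Opens.mem_iSup.mpr ⟨⟨(⟨U, hU⟩, ⟨U, hU⟩), le_id_preimage U⟩, ⟨q, ?_, rfl⟩⟩
    exact AwayTo.mem_domOpen_of_TN _ n (hTN' U hU) q
  · intro h hh
    refine of_forall_awayMap φ hφ hA hB @IsClosedImmersion hh fun U hU d hd f hf => ?_
    exact IsClosedImmersion.spec_of_surjective _
      (AwayTo.awayMap_surjective_of_TN _ n (hTN' U hU) hd f hf)

end Groth.Agent.S12165
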