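import Groth.Statements.S12187
-- import your own Groth.Agent.* helpers here
import Mathlib
import Groth.Agent.Lib.Helper12.BL3

set_option autoImplicit false
universe u
open TensorProduct
open EtAlg

namespace Groth.Agent.S12187

/-- Glueing along a glueing pair detects finite morphisms of affine schemes, stated for coordinate
rings. Let (R → R', f) be a glueing pair and φ : A → B a homomorphism of R-algebras with A and B
glueable as R-modules. Then φ is finite exactly when both induced maps A_f → B_f and R' ⊗_R A → R'
⊗_R B are finite. -/
theorem result (R : Type u) [CommRing R] (R' : Type u) [CommRing R'] [Algebra R R'] (f : R)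
    (hRR' : EtGlue.IsGlueingPair R R' f) (A B : Type u) [CommRing A] [Algebra R A] [CommRing B] [Algebra R B]
    (hA : EtGlue.IsGlueable R R' f A) (hB : EtGlue.IsGlueable R R' f B) (φ : A →ₐ[R] B) :
    φ.toRingHom.Finite ↔ (Localization.awayMap φ.toRingHom (algebraMap R A f)).Finite ∧
      (Algebra.TensorProduct.map (AlgHom.id R R') φ).toRingHom.Finite := by
  have hq := hRR'.1
  constructor
  · intro h
    exact ⟨RingHom.finite_localizationPreserves.away φ.toRingHom (algebraMap R A f) _ _ h,
      Groth.Agent.Lib.Helper12.BL.finite_tensorMap φ h⟩
  · rintro ⟨h1, h2⟩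
    classical
    let _ := φ.toRingHom.toAlgebra
    have : IsScalarTower R A B := IsScalarTower.of_algebraMap_eq' (by
      ext r
      exact (φ.commutes r).symm)
    obtain ⟨s₁, hs₁⟩ := Groth.Agent.Lib.Helper12.BL.exists_finset_span_of_finite_away
      (A := A) (B := B) (algebraMap R A f) h1
    obtain ⟨s₂, hs₂⟩ := Groth.Agent.Lib.Helper12.BL.exists_finset_of_finite_tensorMap φ h2
    let C : Submodule A B := Submodule.span A ((s₁ ∪ s₂ : Finset B) : Set B)
    have key : C.restrictScalars R = ⊤ := by
      apply Groth.Agent.Lib.Helper12.BL.submodule_eq_top hq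
      · intro b
        obtain ⟨n, hn⟩ := hs₁ b
        refine ⟨n, ?_⟩
        have e : f ^ n • b = (algebraMap R A f) ^ n • b := by
          rw [← map_pow, algebraMap_smul]
        rw [e]
        exact Submodule.span_mono (by simp) hn
      · intro b
        refine hs₂ (C.restrictScalars R) (fun a c hc => ?_) ?_ _
        · have := C.smul_mem a hc
          rw [Algebra.smul_def] at this
          exact this
        · intro x hx
          exact Submodule.subset_span (by
            rw [Finset.coe_union]
            exact Or.inr hx)
    change Module.Finite A B
    refine ⟨⟨s₁ ∪ s₂, ?_⟩⟩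
    rw [eq_top_iff]
    intro b _
    have : b ∈ C.restrictScalars R := by rw [key]; trivial
    exact this

end Groth.Agent.S12187
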