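import Groth.Statements.S12193
import Groth.Agent.Lib.Helper14.RedInd2
import Groth.Agent.Lib.Helper14.AlgSpReduced
import Groth.Agent.Lib.Helper14.AlgSpEtaleMor
import Groth.Agent.Lib.Helper14.FpqcBase4

set_option autoImplicit false
universe u
open CategoryTheory CategoryTheory.Limits AlgebraicGeometry
open AlgSp

namespace Groth.Agent.S12193

/-- Let X be a reduced algebraic space over S, f : X → Y a morphism of algebraic spaces over S, and Z →
Y the scheme theoretic image of f. Then forming the scheme theoretic image commutes with etale base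
change: for every etale morphism V → Y of algebraic spaces and cartesian squares X ×_Y V, Z ×_Y V,
the closed subspace Z ×_Y V → V is the scheme theoretic image of X ×_Y V → V. -/
theorem result {S : Scheme.{u}} {X Y Z V XV ZV : AlgSp.Space S} (f : X ⟶ Y)
    (i : Z ⟶ Y) (hX : AlgSp.IsReducedSp X.obj) (hZ : AlgSp.IsSchImage f.hom i.hom) (b : V ⟶ Y)
    (hb : AlgSp.IsEtaleMor b.hom) (f₁ : XV ⟶ X) (fV : XV ⟶ V) (i₁ : ZV ⟶ Z) (iV : ZV ⟶ V)
    (sqX : IsPullback f₁.hom fV.hom f.hom b.hom) (sqZ : IsPullback i₁.hom iV.hom i.hom b.hom) :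
    AlgSp.IsSchImage fV.hom iV.hom := by
  obtain ⟨hicl, hirange, hZred⟩ :=
    Groth.Agent.Lib.Helper14.AS.isRedInduced_of_isSchImage_of_reduced Y.2 hX f.hom i.hom hZ
  have hiV : RepWith @IsClosedImmersion iV.hom :=
    Groth.Agent.Lib.Helper14.AS.repWith_of_isPullback _ sqZ hicl
  obtain ⟨f₀, hf₀⟩ := hZ.2.1
  have hfac : ∃ f' : XV.obj ⟶ ZV.obj, f' ≫ iV.hom = fV.hom :=
    ⟨sqZ.lift (f₁.hom ≫ f₀) fV.hom (by rw [Category.assoc, hf₀, sqX.w]), sqZ.lift_snd _ _ _⟩
  refine ⟨hiV, hfac, ?_⟩
  rintro Z'' i'' hZ'' hi'' ⟨f'', hf''⟩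
  -- reducedness of `ZV`
  have hi₁e : IsEtaleMor i₁.hom :=
    Groth.Agent.Lib.Helper14.AS.isEtaleMor_of_isPullback V.2 Y.2 Z.2 sqZ.flip hb
  have hZVred : IsReducedSp ZV.obj :=
    Groth.Agent.Lib.Helper14.AS.isReducedSp_of_smooth ZV.2 i₁.hom
      (Groth.Agent.Lib.Helper14.AS.locP_mono (fun _ _ g hg => by
        have : Etale g := hg
        infer_instance)
        (Groth.Agent.Lib.Helper14.AS.locP_etale_of_isEtaleMor hi₁e)) hZred
  have hT : IsClosed (closure (Set.range (Points.map fV.hom))) := isClosed_closure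
  -- the image of `iV` lies in the closure of the image of `fV`
  have hbopen : IsOpenMap (Points.map b.hom) :=
    Groth.Agent.Lib.Helper14.AS.isOpenMap_points_of_isEtaleMor V.2 Y.2 hb
  have hpre : Points.map b.hom ⁻¹' Set.range (Points.map f.hom) ⊆ Set.range (Points.map fV.hom) := by
    rintro v ⟨x, hx⟩
    obtain ⟨z, -, hz⟩ := Groth.Agent.Lib.Helper14.AS.points_exists_of_isPullback sqX x v hx
    exact ⟨z, hz⟩
  have hsub : Set.range (Points.map iV.hom) ⊆ closure (Set.range (Points.map fV.hom)) := by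
    rintro _ ⟨z, rfl⟩
    have h1 : Points.map b.hom (Points.map iV.hom z) ∈ closure (Set.range (Points.map f.hom)) := by
      rw [← hirange]
      refine ⟨Points.map i₁.hom z, ?_⟩
      rw [← Points.map_comp, ← Points.map_comp, sqZ.w]
    have h2 := hbopen.preimage_closure_eq_closure_preimage (Points.continuous_map b.hom)
      (Set.range (Points.map f.hom))
    have h3 : Points.map iV.hom z ∈ Points.map b.hom ⁻¹' closure (Set.range (Points.map f.hom)) := h1
    rw [h2] at h3
    exact closure_mono hpre h3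
  obtain ⟨k₁, hk₁⟩ := Groth.Agent.Lib.Helper14.AS.factors_redFam_of_reduced hZVred iV.hom _ hT hsub
  have hcl : IsClosed (Set.range (Points.map i'')) :=
    (Groth.Agent.Lib.Helper14.AS.isClosedMap_points_of_repWith_universallyClosed V.2
      (Groth.Agent.Lib.Helper14.AS.repWith_mono
        Groth.Agent.Lib.Helper14.AS.isClosedImmersion_le_universallyClosed hi'')).isClosed_range
  have hTi : closure (Set.range (Points.map fV.hom)) ⊆ Set.range (Points.map i'') := by
    refine closure_minimal ?_ hcl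
    rintro _ ⟨x, rfl⟩
    refine ⟨Points.map f'' x, ?_⟩
    rw [← Points.map_comp, hf'']
  obtain ⟨k₂, hk₂⟩ := Groth.Agent.Lib.Helper14.AS.redFam_le_of_closed V.2 i'' hi'' _ hT hTi
  exact ⟨k₁ ≫ k₂, by rw [Category.assoc, hk₂, hk₁]⟩

end Groth.Agent.S12193
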