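import Groth.Statements.S12195
import Groth.Agent.Lib.Helper24.FUnr5

set_option autoImplicit false
universe u
open CategoryTheory CategoryTheory.Limits AlgebraicGeometry
open AlgSp

namespace Groth.Agent.S12195

open CategoryTheory CategoryTheory.Limits AlgebraicGeometry Opposite AlgSp
open Groth.Agent.Lib.Helper14.AS Groth.Agent.Lib.Helper24.FUnr Groth.Agent.Lib.Helper10.AlgSpInf

set_option backward.isDefEq.respectTransparency.types false in
theorem core {S : Scheme.{u}} {F G H : AlgSp.Sp S} (a : F ⟶ G)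
    (b : G ⟶ H) (ha : AlgSp.RepWith @Etale a) (ha' : AlgSp.RepWith @Surjective a)
    (hab : AlgSp.IsFormallySmoothMor (a ≫ b)) (sq : AlgSp.InfSq b) (t : ↥sq.ptT'.left) :
    ∃ (U' : Over S) (g : U' ⟶ sq.ptT') (l : (AlgSp.yon S).obj U' ⟶ G),
      IsAffine U'.left ∧ Etale g.left ∧ (∃ u : ↥U'.left, g.left u = t) ∧
        l ≫ b = (AlgSp.yon S).map g ≫ sq.bot ∧
          ∀ (V : Over S) (p : V ⟶ sq.ptT) (q : V ⟶ U'), p ≫ sq.j = q ≫ g →
            (AlgSp.yon S).map q ≫ l = (AlgSp.yon S).map p ≫ sq.top := by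
  have rep : Representable a := ha.rep
  let WT : Over S := rep.pullback sq.top
  let y : WT ⟶ sq.ptT := rep.snd sq.top
  let nT : (yon S).obj WT ⟶ F := rep.fst sq.top
  have psq : IsPullback nT ((yon S).map y) a sq.top := rep.isPullback sq.top
  have hye : Etale y.left := ha.property _ _ _ psq
  have hys : Surjective y.left := ha'.property _ _ _ psq
  have hfotj := fot_infSq_j sq
  haveI : IsClosedImmersion sq.j.left := hfotj.1.1
  haveI : Surjective sq.j.left := hfotj.1.2
  obtain ⟨Z, z, i, hz, hpb⟩ := Groth.Agent.Lib.Helper10.EtThick.exists_lift sq.j.left y.left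
  let Z' : Over S := Over.mk (z ≫ sq.ptT'.hom)
  let zO : Z' ⟶ sq.ptT' := Over.homMk z rfl
  let iO : WT ⟶ Z' := Over.homMk i (by
    change i ≫ z ≫ sq.ptT'.hom = WT.hom
    rw [← Category.assoc, hpb.w, Category.assoc, Over.w sq.j, Over.w y])
  have hiz : iO ≫ zO = y ≫ sq.j := by ext1; exact hpb.w
  have hfot : MoreMor.IsFirstOrderThickening iO.left :=
    Groth.Agent.Lib.Helper1.Thickening.isFirstOrderThickening_of_isPullback hpb hfotj
  -- a point over `t`
  obtain ⟨t₀, ht₀⟩ := sq.j.left.surjective t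
  obtain ⟨p₀, hp₀⟩ := y.left.surjective t₀
  have hz₀ : z (i p₀) = t := by
    rw [← Scheme.Hom.comp_apply, hpb.w, Scheme.Hom.comp_apply, hp₀, ht₀]
  obtain ⟨_, ⟨O, hO, rfl⟩, hxO, -⟩ :=
    Z'.left.isBasis_affineOpens.exists_subset_of_mem_open (Set.mem_univ (i p₀)) isOpen_univ
  let g : openSub Z' O ⟶ sq.ptT' := openSubι Z' O ≫ zO
  have hge : Etale g.left := by
    haveI : Etale zO.left := hz
    change Etale ((openSubι Z' O).left ≫ zO.left)
    infer_instance
  have hOaff : IsAffine (openSub Z' O).left := hO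
  let tU := restrictOver iO O
  have hfotU : MoreMor.IsFirstOrderThickening tU.left :=
    Groth.Agent.Lib.Helper10.UnivThick.fot_restrict hfot O
  obtain ⟨lU, hlU1, hlU2⟩ := liftEx_of_affine hab tU hOaff hfotU
    ((yon S).map (openSubι WT (iO.left ⁻¹ᵁ O)) ≫ nT) ((yon S).map g ≫ sq.bot) (by
      rw [Category.assoc, ← Category.assoc nT, psq.w, Category.assoc, sq.comm,
        ← Category.assoc ((yon S).map y), ← Functor.map_comp, ← hiz, ← Category.assoc,
        ← Functor.map_comp, ← Category.assoc, ← restrictOver_ι, Category.assoc,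
        Functor.map_comp, Category.assoc])
  refine ⟨openSub Z' O, g, lU ≫ a, hOaff, hge, ⟨⟨i p₀, hxO⟩, hz₀⟩, ?_, ?_⟩
  · rw [Category.assoc, hlU2]
  · intro V p q hpq
    let m₀ : V.left ⟶ WT.left := hpb.lift (q ≫ openSubι Z' O).left p.left (by
      have := congrArg (fun k => k.left) hpq
      simp only [Over.comp_left] at this
      rw [Over.comp_left, Category.assoc]
      exact this.symm)
    let m : V ⟶ WT := Over.homMk m₀ (by
      rw [← Over.w y, ← Category.assoc, hpb.lift_snd, Over.w])
    have hm1 : m ≫ iO = q ≫ openSubι Z' O := by ext1; exact hpb.lift_fst _ _ _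
    have hm2 : m ≫ y = p := by ext1; exact hpb.lift_snd _ _ _
    have hrange : Set.range m.left ⊆ Set.range (openSubι WT (iO.left ⁻¹ᵁ O)).left := by
      rintro _ ⟨x, rfl⟩
      rw [range_openSubι]
      change (m ≫ iO).left x ∈ O
      rw [hm1]
      exact (q.left x).2
    let m₀' : V.left ⟶ (openSub WT (iO.left ⁻¹ᵁ O)).left :=
      IsOpenImmersion.lift (openSubι WT (iO.left ⁻¹ᵁ O)).left m.left hrange
    have hm₀' : m₀' ≫ (openSubι WT (iO.left ⁻¹ᵁ O)).left = m.left :=
      IsOpenImmersion.lift_fac _ _ _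
    let m' : V ⟶ openSub WT (iO.left ⁻¹ᵁ O) := Over.homMk m₀' (by
      change m₀' ≫ (openSubι WT (iO.left ⁻¹ᵁ O)).left ≫ WT.hom = V.hom
      rw [← Category.assoc, hm₀', Over.w])
    have hm'1 : m' ≫ openSubι WT (iO.left ⁻¹ᵁ O) = m := by ext1; exact hm₀'
    have hm'2 : m' ≫ tU = q := by
      haveI : Mono (openSubι Z' O) := by
        have : Mono (openSubι Z' O).left := inferInstance
        exact (Over.forget S).mono_of_mono_map this
      rw [← cancel_mono (openSubι Z' O), Category.assoc, restrictOver_ι, ← Category.assoc, hm'1,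
        hm1]
    have e1 : (yon S).map q ≫ lU = (yon S).map m ≫ nT := by
      rw [← hm'2, Functor.map_comp, Category.assoc, hlU1, ← Category.assoc, ← Functor.map_comp,
        hm'1]
    rw [← Category.assoc, e1, Category.assoc, psq.w, ← Category.assoc, ← Functor.map_comp, hm2]


/-- Let a : F ⟶ G be a representable, surjective and etale morphism of fppf sheaves on (Sch/S) and b : G
⟶ H a morphism such that a ≫ b is formally smooth. Consider a solid infinitesimal lifting square for
b: a square-zero thickening T = Spec (A/I) ⊂ T' = Spec A of affine schemes over S, a morphism T ⟶ G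
and a morphism T' ⟶ H making the square commute. Then for every point t of T' there exist an affine
scheme U', an etale morphism U' ⟶ T' whose image contains t, and a morphism U' ⟶ G lying over T' ⟶ H
whose restriction to T ×_{T'} U' agrees with the given T ⟶ G (stated for every scheme V mapping
compatibly to T and U'). (The published statement is for transformations of arbitrary presheaves of
sets on (Sch/S)_fppf; this row takes fppf sheaves, the case of algebraic spaces.) -/
theorem result {S : Scheme.{u}} {F G H : AlgSp.Sp S} (a : F ⟶ G)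
    (b : G ⟶ H) (ha : AlgSp.RepWith @Etale a) (ha' : AlgSp.RepWith @Surjective a)
    (hab : AlgSp.IsFormallySmoothMor (a ≫ b)) (sq : AlgSp.InfSq b) (t : ↥sq.ptT'.left) :
    ∃ (U' : Over S) (g : U' ⟶ sq.ptT') (l : (AlgSp.yon S).obj U' ⟶ G),
      IsAffine U'.left ∧ Etale g.left ∧ (∃ u : ↥U'.left, g.left u = t) ∧
        l ≫ b = (AlgSp.yon S).map g ≫ sq.bot ∧
          ∀ (V : Over S) (p : V ⟶ sq.ptT) (q : V ⟶ U'), p ≫ sq.j = q ≫ g →
            (AlgSp.yon S).map q ≫ l = (AlgSp.yon S).map p ≫ sq.top := by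
  exact core a b ha ha' hab sq t

end Groth.Agent.S12195
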