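import Groth.Statements.S12203
import Mathlib
import Groth.Agent.Lib.Helper20.HR19

set_option autoImplicit false
universe u
open CategoryTheory CategoryTheory.Limits AlgebraicGeometry
open Grpd

namespace Groth.Agent.S12203


/-- Let (U, R, s, t, c) be a groupoid scheme over S with U affine and s, t separated, flat and locally
of finite presentation, and let u ∈ U be a point such that only finitely many arrows r ∈ R satisfy
s(r) = u and t(r) = u, and s is quasi-finite at every one of them. Then there exist an etale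
morphism U' → U with U' affine and a point u' of U' lying over u with trivial residue field
extension κ(u) = κ(u'), such that the restriction R' of R to U' (the groupoid scheme on U' whose
arrows form the base change of j = (t, s) : R → U ×_S U along U' ×_S U' → U ×_S U) is strongly split
over u': there is an open subscheme P ⊂ R' which is a subgroupoid (the identity of U', the inverse
of P and the composition of composable pairs of P land in P), with s'|_P and t'|_P finite, and
containing every arrow r' of R' with s'(r') = u' and t'(r') = u'. -/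
theorem result (S : Scheme.{u}) (G : Grpd.GroupoidScheme S) [IsAffine G.U]
    [IsSeparated G.s] [IsSeparated G.t] [Flat G.s] [Flat G.t]
    [LocallyOfFinitePresentation G.s] [LocallyOfFinitePresentation G.t]
    (u : ↥G.U) (hfin : Set.Finite {r : ↥G.R | G.s r = u ∧ G.t r = u})
    (hqf : ∀ r : ↥G.R, G.s r = u → G.t r = u → Dual3.QuasiFiniteAt G.s r) :
    ∃ (G' : Grpd.GroupoidScheme S) (φ : Grpd.GroupoidScheme.Hom G' G) (u' : ↥G'.U),
      IsAffine G'.U ∧ Etale φ.fU ∧ φ.fU u' = u ∧ IsIso (φ.fU.residueFieldMap u') ∧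
      IsPullback φ.fR G'.j G.j
        (pullback.map G'.pU G'.pU G.pU G.pU φ.fU φ.fU (𝟙 S)
          ((Category.comp_id _).trans φ.fU_over.symm) ((Category.comp_id _).trans φ.fU_over.symm)) ∧
      ∃ (P : Scheme.{u}) (ιP : P ⟶ G'.R), IsOpenImmersion ιP ∧
        (∃ eP : G'.U ⟶ P, eP ≫ ιP = G'.e) ∧ (∃ iP : P ⟶ P, iP ≫ ιP = ιP ≫ G'.i) ∧
        (∃ cP : pullback (ιP ≫ G'.s) (ιP ≫ G'.t) ⟶ P,
          cP ≫ ιP = pullback.map (ιP ≫ G'.s) (ιP ≫ G'.t) G'.s G'.t ιP ιP (𝟙 G'.U)
            (Category.comp_id _) (Category.comp_id _) ≫ G'.c) ∧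
        IsFinite (ιP ≫ G'.s) ∧ IsFinite (ιP ≫ G'.t) ∧
        ∀ r' : ↥G'.R, G'.s r' = u' → G'.t r' = u' → ∃ p : ↥P, ιP p = r' := by

  classical
  have hs : G.e ≫ G.s = 𝟙 _ := G.e_s
  have hcs := Groth.Agent.Lib.Helper25.GrpdTrans.c_s G
  have hct := Groth.Agent.Lib.Helper25.GrpdTrans.c_t G
  obtain ⟨G', φ, u', h1, h2, h3, h4, h5, P, ιP, h6, h7, h8, h9, h10, h11, h12⟩ :=
    Groth.Agent.Lib.Helper20.HR.core G u {r : ↥G.R | G.s r = u ∧ G.t r = u} hfin
      (fun r hr => hr.1) (fun r hr => hr.2)
      (fun r hr => Scheme.Hom.quasiFiniteAt_iff_isOpen_singleton_asFiber.mpr (hqf r hr.1 hr.2))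
      (by
        constructor
        · change (G.e ≫ G.s) u = u
          rw [G.e_s]; rfl
        · change (G.e ≫ G.t) u = u
          rw [G.e_t]; rfl)
      (by
        rintro r ⟨hr1, hr2⟩
        constructor
        · change (G.i ≫ G.s) r = u
          rw [G.i_s]; exact hr2
        · change (G.i ≫ G.t) r = u
          rw [G.i_t]; exact hr1)
      (by
        rintro z ⟨-, hz1⟩ ⟨hz2, -⟩
        constructor
        · change (G.c ≫ G.s) z = u
          rw [hcs]; exact hz2
        · change (G.c ≫ G.t) z = u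
          rw [hct]; exact hz1)
  refine ⟨G', φ, u', h1, h2, h3, h4, h5, P, ιP, h6, h7, h8, h9, h10, h11, ?_⟩
  intro r' hr's hr't
  apply h12 r' hr's hr't
  constructor
  · change (φ.fR ≫ G.s) r' = u
    rw [φ.comm_s]
    change φ.fU (G'.s r') = u
    rw [hr's, h3]
  · change (φ.fR ≫ G.t) r' = u
    rw [φ.comm_t]
    change φ.fU (G'.t r') = u
    rw [hr't, h3]

end Groth.Agent.S12203
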