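import Groth.Statements.S12204
import Mathlib
import Groth.Agent.Lib.Helper14.GeomRed3
import Groth.Agent.S2535
import Groth.Agent.Lib.Helper26.SepGrp

set_option autoImplicit false
universe u
open CategoryTheory CategoryTheory.Limits AlgebraicGeometry Topology TopologicalSpace
open AlgSp

namespace Groth.Agent.S12204

/-- (5) ⇒ (2): let k be a field of characteristic p > 0, k' a perfect closure of k (a perfect field
which is a purely inseparable extension of k) and X an algebraic space over k. If X_{k'} is reduced,
then X_K is reduced for every field extension K of k. -/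
theorem result (k : Type u) [Field k] (p : ℕ) [Fact p.Prime] [CharP k p]
    (X : AlgSp.Space (Spec (CommRingCat.of k))) (k' : Type u) [Field k'] [Algebra k k'] [PerfectField k']
    [IsPurelyInseparable k k']
    (h : AlgSp.EtaleLocally (fun U => IsReduced U) (X.obj ⨯ (AlgSp.yon (Spec (CommRingCat.of k))).obj (Over.mk (Spec.map (CommRingCat.ofHom (algebraMap k k'))))))
    (K : Type u) [Field K] [Algebra k K] : AlgSp.EtaleLocally (fun U => IsReduced U) (X.obj ⨯ (AlgSp.yon (Spec (CommRingCat.of k))).obj (Over.mk (Spec.map (CommRingCat.ofHom (algebraMap k K))))) := by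
  have hX : AlgSp.IsAlgSpace X.obj := X.property
  refine Groth.Agent.Lib.Helper14.AS.etaleLocally_isReduced_bc_of_forall_grAt K hX ?_
  intro x
  obtain ⟨U, a, u, ha, hu⟩ := Groth.Agent.Lib.Helper14.AS.exists_chart_at hX x
  refine ⟨U, a, u, ha, hu, ?_⟩
  have hred : IsReduced (U ⨯ Groth.Agent.Lib.Helper14.AS.fieldOver k k').left :=
    Groth.Agent.Lib.Helper14.AS.isReduced_of_etale_chart h
      (Groth.Agent.Lib.Helper14.AS.bcChart k' a)
      (Groth.Agent.Lib.Helper14.AS.repWith_bcChart k' a ha)
  haveI : IsReduced (FBase.bc U.hom k') :=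
    isReduced_of_isOpenImmersion
      (Over.prodLeftIsoPullback U (Groth.Agent.Lib.Helper14.AS.fieldOver k k')).inv
  haveI := Groth.Agent.S2535.result (Ω := k') U.hom
  exact Groth.Agent.Lib.Helper26.SepGrp.isGeomReducedAt_of_geometricallyReduced U.hom u

end Groth.Agent.S12204
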