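import Groth.Statements.S12209
import Mathlib.RingTheory.Flat.EquationalCriterion

set_option autoImplicit false
universe u
open CAlg

namespace Groth.Agent.S12209

/-- Let (R_i) be a system of commutative rings over a nonempty directed preorder, with colimit R, and
let M be an R-module which is flat as an R_i-module for every i (the R_i-module structure being
restriction of scalars along R_i → R). Then M is flat as an R-module. -/
theorem result {ι : Type u} [Preorder ι] [Nonempty ι] [IsDirectedOrder ι]
    (G : ι → Type u) [∀ i, CommRing (G i)] (f : ∀ i j, i ≤ j → G i →+* G j)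
    [DirectedSystem G fun i j h => f i j h]
    (M : Type u) [AddCommGroup M] [Module (Ring.DirectLimit G fun i j h => f i j h) M]
    (hflat : ∀ i, letI : Module (G i) M := Module.compHom M (Ring.DirectLimit.of G (fun i j h => f i j h) i);
      Module.Flat (G i) M) :
    Module.Flat (Ring.DirectLimit G fun i j h => f i j h) M := by
  refine Module.Flat.of_forall_isTrivialRelation ?_
  intro l c x hcx
  choose idx g hg using fun j => Ring.DirectLimit.exists_of (c j)
  obtain ⟨i₀, hi₀⟩ := Finite.exists_le idx
  letI : Module (G i₀) M :=
    Module.compHom M (Ring.DirectLimit.of G (fun i j h => f i j h) i₀)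
  have hfl : Module.Flat (G i₀) M := hflat i₀
  let g' : Fin l → G i₀ := fun j => f (idx j) i₀ (hi₀ j) (g j)
  have hg' : ∀ j, Ring.DirectLimit.of G (fun i j h => f i j h) i₀ (g' j) = c j := by
    intro j
    rw [Ring.DirectLimit.of_f, hg]
  have hsmul : ∀ (r : G i₀) (m : M),
      r • m = (Ring.DirectLimit.of G (fun i j h => f i j h) i₀ r) • m := fun _ _ => rfl
  have hrel : ∑ j, g' j • x j = 0 := by
    simp only [hsmul, hg', hcx]
  obtain ⟨k, a, y, hxy, ha⟩ := Module.Flat.isTrivialRelation_of_sum_smul_eq_zero hrel
  refine ⟨k, fun i j => Ring.DirectLimit.of G (fun i j h => f i j h) i₀ (a i j), y, ?_, ?_⟩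
  · intro i
    rw [hxy i]
    rfl
  · intro j
    simp_rw [← hg', ← map_mul, ← map_sum, ha j, map_zero]

end Groth.Agent.S12209
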