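import Groth.Statements.S12210
import Groth.Agent.S2851

set_option autoImplicit false
universe u
open CategoryTheory CategoryTheory.Limits AlgebraicGeometry
open Divisors

namespace Groth.Agent.S12210

/-- Let X be locally Noetherian and U an open subscheme whose inclusion is an affine morphism. If ξ is a
point outside U which is maximal under generization among points outside U (a generic point of an
irreducible component of the complement) and ξ lies in the closure of U, then the local ring of X at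
ξ has dimension exactly one. (The case X separated and U an affine open is the corresponding special
case, since then the inclusion of U is affine.) -/
theorem result (X : Scheme.{u}) [IsLocallyNoetherian X]
    (U : X.Opens) [IsAffineHom U.ι] (ξ : X) (hξ : ξ ∉ U) (hgen : ∀ y : X, y ∉ U → y ⤳ ξ → y = ξ)
    (hcl : ξ ∈ closure (U : Set X)) :
    ringKrullDim (X.presheaf.stalk ξ) = 1 := by
  have h1 : ringKrullDim (X.presheaf.stalk ξ) ≤ 1 := Groth.Agent.S2851.result X U ξ hξ hgen
  by_contra hne
  have hlt : ringKrullDim (X.presheaf.stalk ξ) < 1 := lt_of_le_of_ne h1 hne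
  obtain ⟨W, hW, hξW⟩ : ∃ W : X.Opens, IsAffineOpen W ∧ ξ ∈ W := by
    obtain ⟨_, ⟨W, hW, rfl⟩, hx, -⟩ :=
      X.isBasis_affineOpens.exists_subset_of_mem_open (Set.mem_univ ξ) isOpen_univ
    exact ⟨W, hW, hx⟩
  haveI : IsNoetherianRing Γ(X, W) := IsLocallyNoetherian.component_noetherian ⟨W, hW⟩
  set p := hW.primeIdealOf ⟨ξ, hξW⟩ with hp
  have hpξ : hW.fromSpec p = ξ := hW.fromSpec_primeIdealOf ⟨ξ, hξW⟩
  letI := X.presheaf.algebra_section_stalk (⟨ξ, hξW⟩ : W)
  haveI := hW.isLocalization_stalk ⟨ξ, hξW⟩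
  have hht : p.asIdeal.height = 0 := by
    have h2 := IsLocalization.AtPrime.ringKrullDim_eq_height p.asIdeal (X.presheaf.stalk ξ)
    rw [h2] at hlt
    have h3 : p.asIdeal.height < 1 := by exact_mod_cast hlt
    exact Order.lt_one_iff.1 h3
  have hmin : p.asIdeal ∈ minimalPrimes Γ(X, W) := Ideal.height_eq_zero_iff.1 hht
  set D' : Set (PrimeSpectrum Γ(X, W)) :=
    (⋃ q ∈ minimalPrimes Γ(X, W) \ {p.asIdeal}, PrimeSpectrum.zeroLocus (q : Set Γ(X, W)))ᶜ
    with hD'
  have hD'open : IsOpen D' := by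
    rw [hD', isOpen_compl_iff]
    exact Set.Finite.isClosed_biUnion
      ((minimalPrimes.finite_of_isNoetherianRing Γ(X, W)).subset Set.sdiff_subset)
      (fun q _ => PrimeSpectrum.isClosed_zeroLocus _)
  have hpD' : p ∈ D' := by
    rw [hD']
    simp only [Set.mem_compl_iff, Set.mem_iUnion, not_exists]
    rintro q ⟨hq, hqp⟩ hmem
    have hle : q ≤ p.asIdeal := hmem
    exact hqp (le_antisymm hle (hmin.2 hq.1 hle))
  have hDle : ∀ y ∈ D', p.asIdeal ≤ y.asIdeal := by
    intro y hy
    obtain ⟨q, hq, hqy⟩ := Ideal.exists_minimalPrimes_le (I := (⊥ : Ideal Γ(X, W)))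
      (J := y.asIdeal) bot_le
    by_cases hqp : q = p.asIdeal
    · exact hqp ▸ hqy
    · exfalso
      apply hy
      simp only [Set.mem_iUnion]
      exact ⟨q, ⟨hq, hqp⟩, hqy⟩
  have hopen : IsOpen (hW.fromSpec '' D') := hW.fromSpec.isOpenEmbedding.isOpenMap _ hD'open
  obtain ⟨z, hzD, hzU⟩ := mem_closure_iff.1 hcl _ hopen ⟨p, hpD', hpξ⟩
  obtain ⟨y, hy, rfl⟩ := hzD
  have hspec : p ⤳ y := (PrimeSpectrum.le_iff_specializes p y).1 (hDle y hy)
  have hspec' : hW.fromSpec p ⤳ hW.fromSpec y := hspec.map hW.fromSpec.continuous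
  rw [hpξ] at hspec'
  exact hξ (hspec'.mem_open U.2 hzU)

end Groth.Agent.S12210
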