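import Groth.Statements.S12215
import Groth.Agent.Lib.Helper29.QCohAss2
-- import your own Groth.Agent.* helpers here

set_option autoImplicit false
universe u
open CategoryTheory CategoryTheory.Limits AlgebraicGeometry
open Divisors

namespace Groth.Agent.S12215

open Groth.Agent.Lib.Helper29.QCoh
section helpers

variable (A : CommRingCat.{u}) (M : ModuleCat.{u} A)

theorem mem_primeIdealOf_iff (p : Spec A) (r : Γ(Spec A, ⊤)) :
    r ∈ ((isAffineOpen_top (Spec A)).primeIdealOf ⟨p, trivial⟩).asIdeal ↔
      (Scheme.ΓSpecIso A).hom r ∈ p.asIdeal := by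
  rw [← not_iff_not, ← mem_basicOpen_iff_notMem_primeIdealOf (isAffineOpen_top (Spec A)) p trivial r,
    basicOpen_eq_of_affine']
  exact PrimeSpectrum.mem_basicOpen _ _

theorem toOpen_bijective : Function.Bijective (tilde.toOpen M ⊤) :=
  ConcreteCategory.bijective_of_isIso (tilde.toOpen M ⊤)

theorem smul_toOpen (r : Γ(Spec A, ⊤)) (m : M) :
    r • (show Γ(tilde M, ⊤) from tilde.toOpen M ⊤ m) =
      (show Γ(tilde M, ⊤) from tilde.toOpen M ⊤ ((Scheme.ΓSpecIso A).hom r • m)) := by
  have h1 := (tilde.toOpen M ⊤).hom.map_smul ((Scheme.ΓSpecIso A).hom r) m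
  have h2 := Scheme.Modules.smul_Spec_def (M := tilde M) (U := ⊤) ((Scheme.ΓSpecIso A).hom r)
    (show Γ(tilde M, ⊤) from tilde.toOpen M ⊤ m)
  have h3 : ((Spec A).presheaf.map (⊤ : (Spec A).Opens).leTop.op)
      ((Scheme.ΓSpecIso A).inv ((Scheme.ΓSpecIso A).hom r)) = r := by
    have : (Scheme.ΓSpecIso A).inv ((Scheme.ΓSpecIso A).hom r) = r := by
      simp
    rw [this]
    have : (⊤ : (Spec A).Opens).leTop.op = 𝟙 _ := rfl
    rw [this, CategoryTheory.Functor.map_id]
    rfl
  rw [h3] at h2
  rw [← h2]
  exact h1.symm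

theorem e_surjective : Function.Surjective (Scheme.ΓSpecIso A).hom.hom :=
  (ConcreteCategory.bijective_of_isIso (Scheme.ΓSpecIso A).hom).2

theorem primeIdealOf_eq (p : Spec A) :
    ((isAffineOpen_top (Spec A)).primeIdealOf ⟨p, trivial⟩).asIdeal =
      Ideal.comap (Scheme.ΓSpecIso A).hom.hom p.asIdeal := by
  ext r
  rw [mem_primeIdealOf_iff, Ideal.mem_comap]

theorem annSection_toOpen (m : M) :
    annSection (tilde M) (show Γ(tilde M, ⊤) from tilde.toOpen M ⊤ m) =
      Ideal.comap (Scheme.ΓSpecIso A).hom.hom (Submodule.span A {m}).annihilator := by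
  ext r
  rw [mem_annSection, Ideal.mem_comap, Submodule.mem_annihilator_span_singleton, smul_toOpen]
  constructor
  · intro h
    apply (toOpen_bijective A M).1
    rw [map_zero]
    exact h
  · intro h
    have : (Scheme.ΓSpecIso A).hom r • m = 0 := h
    rw [this, map_zero]
    rfl

end helpers

/-- Let M be a module over a ring A, M~ the associated quasi-coherent module on Spec A and p a prime of
A. Then p is weakly associated to M — p is minimal among the prime ideals containing the annihilator
of some element of M — if and only if the point p of Spec A is weakly associated to M~, i.e. some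
element of the stalk of M~ at p has annihilator whose radical is the maximal ideal of the local
ring. -/
theorem result (A : CommRingCat.{u}) (M : ModuleCat.{u} A) (p : Spec A) :
    p.asIdeal ∈ FlatCA.weakAss A M ↔ Curv2.IsWeakAssPoint (tilde M) p := by
  constructor
  · rintro ⟨m, hm⟩
    have h1 := Ideal.minimalPrimes_comap_of_surjective (e_surjective A) hm
    rw [← primeIdealOf_eq, ← annSection_toOpen] at h1
    exact isWeakAssPoint_of_mem_minimalPrimes (tilde M) (isAffineOpen_top (Spec A)) _ p trivial h1
  · intro h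
    obtain ⟨m', hm'⟩ := exists_mem_minimalPrimes_of_isWeakAssPoint (tilde M)
      (isAffineOpen_top (Spec A)) p trivial h
    obtain ⟨m, rfl⟩ := (toOpen_bijective A M).2 m'
    refine ⟨m, ?_⟩
    have h2 := annSection_toOpen A M m
    rw [primeIdealOf_eq] at hm'
    erw [h2] at hm'
    rw [Ideal.comap_minimalPrimes_eq_of_surjective (e_surjective A)] at hm'
    obtain ⟨q, hq, hqp⟩ := hm'
    have := Ideal.comap_injective_of_surjective _ (e_surjective A) hqp
    rw [← this]
    exact hq

end Groth.Agent.S12215
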