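import Groth.Statements.S12222
import Mathlib.RingTheory.AdjoinRoot
import Mathlib.RingTheory.Nakayama
import Mathlib.RingTheory.LocalRing.Module
import Mathlib.RingTheory.Flat.Localization
import Mathlib.RingTheory.Localization.Away.Lemmas
import Mathlib.RingTheory.FiniteStability
import Mathlib.RingTheory.Localization.Away.AdjoinRoot

set_option autoImplicit false
universe u
open Hensel

namespace Groth.Agent.S12222

open IsLocalRing Polynomial

section core

variable {R : Type u} [CommRing R] [IsLocalRing R]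

lemma core (S : Type u) [CommRing S] [Algebra R S] [Module.Flat R S]
    (e : S) (he : IsIdempotentElem e)
    [Module.Finite R (S ⧸ Ideal.span ({1 - e} : Set S))]
    (hB : (maximalIdeal R).map (algebraMap R (S ⧸ Ideal.span ({e} : Set S))) = ⊤)
    (φ : S →ₐ[R] ResidueField R)
    (hgen : ∀ s : S, ∃ r : R, s - algebraMap R S r ∈ (maximalIdeal R).map (algebraMap R S)) :
    Function.Bijective (algebraMap R (S ⧸ Ideal.span ({1 - e} : Set S))) ∧
      Ideal.span ({1 - e} : Set S) ≤ RingHom.ker φ := by
  -- φ kills mS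
  have hφm : (maximalIdeal R).map (algebraMap R S) ≤ RingHom.ker φ := by
    rw [Ideal.map_le_iff_le_comap]
    intro r hr
    simp only [Ideal.mem_comap, RingHom.mem_ker, AlgHom.commutes]
    exact (IsLocalRing.residue_eq_zero_iff r).mpr hr
  -- 1 - e ∈ mS
  have h1e : (1 - e) ∈ (maximalIdeal R).map (algebraMap R S) := by
    have h1 : (1 : S ⧸ Ideal.span ({e} : Set S)) ∈
        ((maximalIdeal R).map (algebraMap R S)).map (Ideal.Quotient.mk (Ideal.span ({e} : Set S))) := by
      rw [Ideal.map_map, ← Ideal.Quotient.algebraMap_eq, ← IsScalarTower.algebraMap_eq, hB]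
      trivial
    obtain ⟨μ, hμ, hμ1⟩ := (Ideal.mem_map_iff_of_surjective _ Ideal.Quotient.mk_surjective).1 h1
    have : μ - 1 ∈ Ideal.span ({e} : Set S) := by
      rw [← Ideal.Quotient.eq_zero_iff_mem, map_sub, hμ1, map_one, sub_self]
    obtain ⟨c, hc⟩ := Ideal.mem_span_singleton'.1 this
    have he' : e * (1 - e) = 0 := by rw [mul_sub, mul_one, he.eq, sub_self]
    have : (1 - e) = (1 - e) * μ := by
      have : μ = 1 + c * e := by rw [hc]; ring
      rw [this, mul_add, mul_one]
      have : (1 - e) * (c * e) = c * (e * (1 - e)) := by ring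
      rw [this, he', mul_zero, add_zero]
    rw [this]
    exact Ideal.mul_mem_left _ _ hμ
  have hker : Ideal.span ({1 - e} : Set S) ≤ RingHom.ker φ := by
    rw [Ideal.span_singleton_le_iff_mem]
    exact hφm h1e
  refine ⟨?_, hker⟩
  set A := S ⧸ Ideal.span ({1 - e} : Set S) with hA
  have hsurj : Function.Surjective (algebraMap R A) := by
    have hN : (⊤ : Submodule R A) ≤ LinearMap.range (Algebra.linearMap R A) := by
      apply Submodule.le_of_le_smul_of_le_jacobson_bot (I := maximalIdeal R) Module.Finite.fg_top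
        (IsLocalRing.maximalIdeal_le_jacobson ⊥)
      intro a _
      obtain ⟨s, rfl⟩ := Ideal.Quotient.mk_surjective a
      obtain ⟨r, hr⟩ := hgen s
      rw [Submodule.mem_sup]
      refine ⟨algebraMap R A r, ⟨r, rfl⟩, Ideal.Quotient.mk _ (s - algebraMap R S r), ?_, ?_⟩
      · rw [Ideal.smul_top_eq_map]
        simp only [Submodule.restrictScalars_mem]
        have : algebraMap R A = (Ideal.Quotient.mk _).comp (algebraMap R S) := rfl
        rw [this, ← Ideal.map_map]
        exact Ideal.mem_map_of_mem _ hr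
      · rw [map_sub]
        have : algebraMap R A r = Ideal.Quotient.mk _ (algebraMap R S r) := rfl
        rw [this]; abel
    intro a
    obtain ⟨r, hr⟩ := hN (Submodule.mem_top : a ∈ ⊤)
    exact ⟨r, hr⟩
  refine ⟨?_, hsurj⟩
  have : IsLocalization.Away e A := IsLocalization.Away.quotient_of_isIdempotentElem he
  have : Module.Flat S A := IsLocalization.flat A (Submonoid.powers e)
  have : Module.Flat R A := Module.Flat.trans R S A
  have : Module.Free R A := Module.free_of_flat_of_isLocalRing
  have : Nontrivial A :=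
    Ideal.Quotient.nontrivial_iff.mpr (ne_top_of_le_ne_top (RingHom.ker_ne_top φ.toRingHom) hker)
  exact FaithfulSMul.algebraMap_injective R A

end core

section main

variable {R : Type u} [CommRing R] [IsLocalRing R] (f q : R[X]) (a₀ : R)

local notation "T" => AdjoinRoot f
local notation "g" => AdjoinRoot.mk f q
local notation "S" => Localization.Away (AdjoinRoot.mk f q)
local notation "κ" => ResidueField R

include a₀ in
lemma hψ0 (h₁ : f.eval a₀ ∈ maximalIdeal R) :
    f.eval₂ ((Algebra.ofId R κ : R →ₐ[R] κ) : R →+* κ) (residue R a₀) = 0 := by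
  have : ((Algebra.ofId R κ : R →ₐ[R] κ) : R →+* κ) = residue R := rfl
  rw [this, Polynomial.eval₂_at_apply]
  exact (IsLocalRing.residue_eq_zero_iff _).mpr h₁

/-- the map `R[X]/(f) → κ`, `X ↦ ā₀`. -/
noncomputable def psi (h₁ : f.eval a₀ ∈ maximalIdeal R) : T →ₐ[R] κ :=
  AdjoinRoot.liftAlgHom f (Algebra.ofId R κ) (residue R a₀) (hψ0 f a₀ h₁)

lemma psi_mk (h₁ : f.eval a₀ ∈ maximalIdeal R) (p : R[X]) :
    psi f a₀ h₁ (AdjoinRoot.mk f p) = residue R (p.eval a₀) := by
  rw [psi, AdjoinRoot.liftAlgHom_mk]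
  have : ((Algebra.ofId R κ : R →ₐ[R] κ) : R →+* κ) = residue R := rfl
  rw [this, Polynomial.eval₂_at_apply]

lemma psi_root (h₁ : f.eval a₀ ∈ maximalIdeal R) :
    psi f a₀ h₁ (AdjoinRoot.root f) = residue R a₀ := by
  rw [psi, AdjoinRoot.liftAlgHom_root]

lemma isUnit_psi_g (h₁ : f.eval a₀ ∈ maximalIdeal R) (h₂ : IsUnit (q.eval a₀)) :
    IsUnit (psi f a₀ h₁ g) := by
  rw [psi_mk]
  exact h₂.map _

/-- the map `(R[X]/(f))_q → κ`. -/
noncomputable def phi (h₁ : f.eval a₀ ∈ maximalIdeal R) (h₂ : IsUnit (q.eval a₀)) : S →ₐ[R] κ :=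
  IsLocalization.Away.liftAlgHom g (f := psi f a₀ h₁) (isUnit_psi_g f q a₀ h₁ h₂)

lemma phi_algebraMap (h₁ : f.eval a₀ ∈ maximalIdeal R) (h₂ : IsUnit (q.eval a₀)) (t : T) :
    phi f q a₀ h₁ h₂ (algebraMap T S t) = psi f a₀ h₁ t := by
  show IsLocalization.Away.lift g (isUnit_psi_g f q a₀ h₁ h₂) (algebraMap T S t) = _
  exact IsLocalization.Away.lift_eq g (isUnit_psi_g f q a₀ h₁ h₂) t

lemma gen (hq : f - C (f.eval a₀) = (X - C a₀) * q) (h₁ : f.eval a₀ ∈ maximalIdeal R)
    (h₂ : IsUnit (q.eval a₀)) (s : S) :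
    ∃ r : R, s - algebraMap R S r ∈ (maximalIdeal R).map (algebraMap R S) := by
  set mS := (maximalIdeal R).map (algebraMap R S) with hmS
  let π := Ideal.Quotient.mk mS
  have hπm : ∀ r ∈ maximalIdeal R, π (algebraMap R S r) = 0 := fun r hr =>
    Ideal.Quotient.eq_zero_iff_mem.mpr (Ideal.mem_map_of_mem _ hr)
  have hgS : IsUnit (algebraMap T S g) := IsLocalization.Away.algebraMap_isUnit g
  have hT : (AdjoinRoot.root f - algebraMap R T a₀) * g = - algebraMap R T (f.eval a₀) := by
    have := congrArg (Polynomial.aeval (AdjoinRoot.root f)) hq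
    simp only [map_sub, map_mul, aeval_X, aeval_C, AdjoinRoot.aeval_eq, AdjoinRoot.mk_self,
      zero_sub] at this
    exact this.symm
  have hS : (algebraMap T S (AdjoinRoot.root f) - algebraMap R S a₀) * algebraMap T S g =
      - algebraMap R S (f.eval a₀) := by
    have := congrArg (algebraMap T S) hT
    simpa only [map_sub, map_mul, map_neg, ← IsScalarTower.algebraMap_apply] using this
  have hx : π (algebraMap T S (AdjoinRoot.root f)) = π (algebraMap R S a₀) := by
    have h0 := congrArg π hS
    rw [map_mul, map_neg, hπm _ h₁, neg_zero, map_sub] at h0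
    have := (hgS.map π).mul_left_eq_zero.mp h0
    exact sub_eq_zero.mp this
  have hTgen : ∀ p : R[X], π (algebraMap T S (AdjoinRoot.mk f p)) =
      π (algebraMap R S (p.eval a₀)) := by
    intro p
    obtain ⟨p', hp'⟩ := X_sub_C_dvd_sub_C_eval (p := p) (a := a₀)
    have h1 := congrArg (Polynomial.aeval (AdjoinRoot.root f)) hp'
    simp only [map_sub, map_mul, aeval_X, aeval_C, AdjoinRoot.aeval_eq] at h1
    have h2 := congrArg (fun t => π (algebraMap T S t)) h1
    simp only [map_sub, map_mul, ← IsScalarTower.algebraMap_apply] at h2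
    rw [hx, sub_self, zero_mul] at h2
    exact sub_eq_zero.mp h2
  obtain ⟨k, t, hst⟩ := IsLocalization.Away.surj g s
  obtain ⟨p, rfl⟩ := AdjoinRoot.mk_surjective t
  have h3 := congrArg π hst
  rw [map_mul, map_pow, hTgen, hTgen] at h3
  obtain ⟨u, hu⟩ := h₂
  refine ⟨p.eval a₀ * (↑(u⁻¹) : R) ^ k, ?_⟩
  rw [← Ideal.Quotient.eq]
  show π s = π _
  have h4 : π (algebraMap R S (q.eval a₀)) * π (algebraMap R S (↑(u⁻¹) : R)) = 1 := by
    rw [← map_mul, ← map_mul, ← hu, Units.mul_inv, map_one, map_one]
  calc π s = π s * (π (algebraMap R S (q.eval a₀)) * π (algebraMap R S (↑(u⁻¹) : R))) ^ k := by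
        rw [h4, one_pow, mul_one]
    _ = (π s * π (algebraMap R S (q.eval a₀)) ^ k) * π (algebraMap R S (↑(u⁻¹) : R)) ^ k := by
        rw [mul_pow, mul_assoc]
    _ = _ := by
        rw [h3, map_mul (algebraMap R S), map_pow (algebraMap R S), map_mul π, map_pow π]

end main

/-- (11) ⇒ (1): let R be a local ring such that every finite-type R-algebra S can be written as a
product A × B with A finite over R and R → B quasi-finite at no prime lying over the maximal ideal —
concretely, S has an idempotent e with S/(1 − e) finite over R and R → S/(e) quasi-finite at no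
prime over the maximal ideal. Then R is henselian. -/
theorem result (R : Type u) [CommRing R] [IsLocalRing R]
    (h : ∀ (S : Type u) [CommRing S] [Algebra R S] [Algebra.FiniteType R S],
      ∃ e : S, IsIdempotentElem e ∧ Module.Finite R (S ⧸ Ideal.span ({1 - e} : Set S)) ∧
        ∀ (q : Ideal (S ⧸ Ideal.span ({e} : Set S))) [q.IsPrime],
          q.LiesOver (IsLocalRing.maximalIdeal R) → ¬ Algebra.QuasiFiniteAt R q) :
    HenselianLocalRing R := by
  refine ⟨fun f hf a₀ h₁ h₂ => ?_⟩
  obtain ⟨q, hq⟩ := X_sub_C_dvd_sub_C_eval (p := f) (a := a₀)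
  have hqa : q.eval a₀ = f.derivative.eval a₀ := by
    have := congrArg (fun p => (derivative p).eval a₀) hq
    simp at this
    exact this.symm
  rw [← hqa] at h₂
  have : Module.Finite R (AdjoinRoot f) := hf.finite_adjoinRoot
  have : Module.Free R (AdjoinRoot f) := hf.free_adjoinRoot
  have : Module.Flat R (Localization.Away (AdjoinRoot.mk f q)) :=
    Module.Flat.trans R (AdjoinRoot f) _
  have : Algebra.FinitePresentation (AdjoinRoot f) (Localization.Away (AdjoinRoot.mk f q)) :=
    IsLocalization.Away.finitePresentation (AdjoinRoot.mk f q)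
  have : Algebra.FiniteType R (Localization.Away (AdjoinRoot.mk f q)) :=
    Algebra.FiniteType.trans (inferInstance : Algebra.FiniteType R (AdjoinRoot f)) inferInstance
  obtain ⟨e, he, hfin, hqf⟩ := h (Localization.Away (AdjoinRoot.mk f q))
  have hB : (maximalIdeal R).map (algebraMap R
      (Localization.Away (AdjoinRoot.mk f q) ⧸ Ideal.span ({e} : Set _))) = ⊤ := by
    by_contra hne
    obtain ⟨M, hM, hle⟩ := Ideal.exists_le_maximal _ hne
    have hMp : M.IsPrime := hM.isPrime
    have hlies : M.LiesOver (maximalIdeal R) := by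
      refine ⟨?_⟩
      apply (IsLocalRing.maximalIdeal.isMaximal R).eq_of_le
      · exact Ideal.comap_ne_top _ hMp.ne_top
      · exact Ideal.map_le_iff_le_comap.mp hle
    exact hqf M hlies inferInstance
  obtain ⟨bij, hker⟩ := core (Localization.Away (AdjoinRoot.mk f q)) e he hB (phi f q a₀ h₁ h₂)
    (gen f q a₀ hq h₁ h₂)
  set xS := algebraMap (AdjoinRoot f) (Localization.Away (AdjoinRoot.mk f q)) (AdjoinRoot.root f)
    with hxS
  obtain ⟨a, ha⟩ := bij.2 (Ideal.Quotient.mk _ xS)
  refine ⟨a, ?_, ?_⟩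
  · show f.eval a = 0
    apply bij.1
    rw [map_zero, ← Polynomial.eval₂_at_apply, ha]
    let χ : AdjoinRoot f →ₐ[R]
        (Localization.Away (AdjoinRoot.mk f q) ⧸ Ideal.span ({1 - e} : Set _)) :=
      (Ideal.Quotient.mkₐ R _).comp
        (IsScalarTower.toAlgHom R (AdjoinRoot f) (Localization.Away (AdjoinRoot.mk f q)))
    have : Ideal.Quotient.mk (Ideal.span ({1 - e} : Set _)) xS = χ (AdjoinRoot.root f) := rfl
    rw [this, ← Polynomial.aeval_def, Polynomial.aeval_algHom_apply, AdjoinRoot.aeval_eq,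
      AdjoinRoot.mk_self, map_zero]
  · have h6 : xS - algebraMap R (Localization.Away (AdjoinRoot.mk f q)) a ∈
        Ideal.span ({1 - e} : Set _) := by
      rw [← Ideal.Quotient.eq]; exact ha.symm
    have h7 := hker h6
    rw [RingHom.mem_ker, map_sub, hxS, phi_algebraMap, psi_root, AlgHom.commutes] at h7
    rw [← IsLocalRing.residue_eq_zero_iff, map_sub, sub_eq_zero]
    exact (sub_eq_zero.mp h7).symm

end Groth.Agent.S12222
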