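import Groth.Statements.S1575
import Groth.Agent.Lib.Helper29.QCohQcqs
import Groth.Agent.Lib.Helper29.QCohFinite
import Groth.Agent.Lib.Helper18.QGor6
import Groth.Agent.Lib.Helper18.QGor2
import Groth.Agent.Lib.Helper16.DepthLocalize

set_option autoImplicit false
universe u
open CategoryTheory CategoryTheory.Limits AlgebraicGeometry
open Divisors

namespace Groth.Agent.S1575

section aux
open Groth.Agent.Lib.Helper29.QCoh TopologicalSpace
open Pointwise RingTheory.Sequence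

variable {X : Scheme.{u}}

theorem isCompact_of_le_isAffineOpen [IsLocallyNoetherian X] {W T : X.Opens} (hW : IsAffineOpen W)
    (hT : T ≤ W) : IsCompact (T : Set X) := by
  have : IsNoetherianRing Γ(X, W) := IsLocallyNoetherian.component_noetherian ⟨W, hW⟩
  have hN : NoetherianSpace W := noetherianSpace_of_isAffineOpen W hW
  have h1 : IsCompact ((W.ι ⁻¹ᵁ T : W.toScheme.Opens) : Set W.toScheme) :=
    NoetherianSpace.isCompact _
  have h2 := h1.image W.ι.continuous
  have h3 : (W.ι ''ᵁ (W.ι ⁻¹ᵁ T) : X.Opens) = T := by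
    rw [Scheme.Hom.image_preimage_eq_opensRange_inf, Scheme.Opens.opensRange_ι]
    exact inf_eq_right.mpr hT
  rw [← h3]
  exact h2

/-- The prime ideal of a point of an affine open, characterised by basic opens. -/
theorem exists_point_primeIdealOf_eq {W : X.Opens} (hW : IsAffineOpen W) (p : Ideal Γ(X, W))
    [hp : p.IsPrime] : ∃ (x : X) (hx : x ∈ W), (hW.primeIdealOf ⟨x, hx⟩).asIdeal = p := by
  obtain ⟨x, hxW, hx⟩ := exists_point_of_prime hW ⟨p, hp⟩
  refine ⟨x, hxW, ?_⟩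
  ext r
  have h1 := mem_basicOpen_iff_notMem_primeIdealOf hW x hxW r
  have h2 := hx r
  rw [h1] at h2
  exact not_iff_not.mp h2

variable [IsLocallyNoetherian X] (F : X.Modules) [F.IsQuasicoherent] [F.IsFiniteType]
  (U : X.Opens)

theorem two_le_depth_localized
    (hdepth : ∀ x : X, x ∉ U → 2 ≤ LocCoh.depth (X.presheaf.stalk x) (F.presheaf.stalk x))
    {W : X.Opens} (hW : IsAffineOpen W) (x : X) (hxW : x ∈ W) (hxU : x ∉ U) :
    (2 : ℕ∞) ≤ LocCoh.depth (Localization.AtPrime (hW.primeIdealOf ⟨x, hxW⟩).asIdeal)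
      (LocalizedModule (hW.primeIdealOf ⟨x, hxW⟩).asIdeal.primeCompl Γ(F, W)) := by
  have : IsNoetherianRing Γ(X, W) := IsLocallyNoetherian.component_noetherian ⟨W, hW⟩
  have : Module.Finite Γ(X, W) Γ(F, W) := module_finite_of_isFiniteType F hW
  let _ : Algebra Γ(X, W) (X.presheaf.stalk x) :=
    TopCat.Presheaf.algebra_section_stalk X.presheaf ⟨x, hxW⟩
  have hloc : IsLocalization.AtPrime (X.presheaf.stalk x) (hW.primeIdealOf ⟨x, hxW⟩).asIdeal :=
    hW.isLocalization_stalk ⟨x, hxW⟩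
  let _ := stalkModule F W x hxW
  have : IsScalarTower Γ(X, W) (X.presheaf.stalk x) (F.presheaf.stalk x) :=
    IsScalarTower.of_algebraMap_smul fun a t => rfl
  have hlm := isLocalizedModule_germ F hW x hxW
  rw [← Groth.Agent.Lib.Helper16.Depth.depth_eq_of_isLocalizedModule
    (hW.primeIdealOf ⟨x, hxW⟩).asIdeal Γ(F, W) (X.presheaf.stalk x) (F.presheaf.stalk x)
    (germₗ F W x hxW)]
  exact hdepth x hxU


omit [IsLocallyNoetherian X] [F.IsFiniteType] in
/-- A section over `T ≤ W` (with `W` affine) vanishing on all basic opens of `W` inside `T` is zero. -/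
theorem eq_zero_of_res_basicOpen_eq_zero {W T : X.Opens} (hW : IsAffineOpen W) (hT : T ≤ W)
    (t : Γ(F, T)) (h : ∀ (c : Γ(X, W)) (hc : X.basicOpen c ≤ T), res F hc t = 0) : t = 0 := by
  refine eq_zero_of_res_cover_eq_zero F
    (fun c : {c : Γ(X, W) // X.basicOpen c ≤ T} => X.basicOpen c.1) (fun c => c.2) ?_ t
    (fun c => h c.1 c.2)
  intro x hx
  obtain ⟨c, hcT, hxc⟩ := hW.exists_basicOpen_le (V := T) ⟨x, hx⟩ (hT hx)
  exact Opens.mem_iSup.mpr ⟨⟨c, hcT⟩, hxc⟩

omit [IsLocallyNoetherian X] [F.IsFiniteType] in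
theorem eq_zero_of_pow_res_smul_eq_zero {W : X.Opens} (c : Γ(X, W)) (n : ℕ)
    (t : Γ(F, X.basicOpen c))
    (h : (X.presheaf.map (homOfLE (X.basicOpen_le c)).op c) ^ n • t = 0) : t = 0 := by
  have hs : IsUnit (X.presheaf.map (homOfLE (X.basicOpen_le c)).op c) :=
    RingedSpace.isUnit_res_basicOpen _ c
  exact eq_zero_of_isUnit_smul (hs.pow n) h

omit [F.IsFiniteType] in
/-- Denominators: for `c` with `D(c) ≤ T`, a power of `c` multiplies `s ∈ Γ(F, T)` into the image
of `Γ(F, W)`. -/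
theorem exists_pow_rsmul_eq_res {W T : X.Opens} (hW : IsAffineOpen W) (hT : T ≤ W)
    (c : Γ(X, W)) (hcT : X.basicOpen c ≤ T) (s : Γ(F, T)) :
    ∃ (n : ℕ) (m : Γ(F, W)), rsmul F hT (c ^ n) s = res F hT m := by
  obtain ⟨n, m, hnm⟩ := exists_pow_smul_eq_res F hW c (res F hcT s)
  have hTc : IsCompact (T : Set X) := isCompact_of_le_isAffineOpen hW hT
  have hle : X.basicOpen (X.presheaf.map (homOfLE hT).op c) ≤ X.basicOpen c := by
    rw [Scheme.basicOpen_res]; exact inf_le_right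
  have h0 : res F hcT (rsmul F hT (c ^ n) s - res F hT m) = 0 := by
    rw [map_sub, rsmul_res, res_res]
    unfold rsmul
    rw [map_pow, hnm, sub_self]
  have h1 : res F (X.basicOpen_le (X.presheaf.map (homOfLE hT).op c))
      (rsmul F hT (c ^ n) s - res F hT m) = 0 := by
    rw [← res_res F hcT hle, h0, map_zero]
  obtain ⟨k, hk⟩ := exists_pow_smul_eq_zero_of_isCompact F hTc
    (X.presheaf.map (homOfLE hT).op c) _ h1
  refine ⟨k + n, c ^ k • m, ?_⟩
  rw [rsmul_pow_add, ← rsmul_eq_smul_res, ← sub_eq_zero, ← rsmul_sub]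
  unfold rsmul at hk ⊢
  rw [map_pow]
  exact hk

omit [IsLocallyNoetherian X] [F.IsFiniteType] in
/-- A regular element on `Γ(F, W)` is regular on `Γ(F, T)` for `T ≤ W`. -/
theorem eq_zero_of_rsmul_eq_zero_of_isSMulRegular {W T : X.Opens} (hW : IsAffineOpen W)
    (hT : T ≤ W) (x : Γ(X, W)) (hx : IsSMulRegular Γ(F, W) x) (t : Γ(F, T))
    (h : rsmul F hT x t = 0) : t = 0 := by
  refine eq_zero_of_res_basicOpen_eq_zero F hW hT t fun c hc => ?_
  obtain ⟨n, m, hnm⟩ := exists_pow_smul_eq_res F hW c (res F hc t)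
  have h1 : rsmul F (X.basicOpen_le c) x (res F hc t) = 0 := by
    have := congrArg (res F hc) h
    rwa [rsmul_res, map_zero] at this
  have h2 : res F (X.basicOpen_le c) (x • m) = 0 := by
    rw [← rsmul_eq_smul_res, ← hnm]
    unfold rsmul at h1 ⊢
    rw [smul_comm, h1, smul_zero]
  obtain ⟨k, hk⟩ := exists_pow_smul_eq_zero F hW c (x • m) h2
  have h3 : c ^ k • m = 0 := by
    apply hx
    change x • c ^ k • m = x • 0
    rw [smul_zero, smul_comm, hk]
  have h4 : res F (X.basicOpen_le c) (c ^ k • m) = 0 := by rw [h3, map_zero]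
  rw [res_smul, ← hnm, map_pow, ← mul_smul, ← pow_add] at h4
  exact eq_zero_of_pow_res_smul_eq_zero F c _ _ h4

omit [IsLocallyNoetherian X] [F.IsFiniteType] in
/-- An element killing `Γ(F, W)` kills `Γ(F, T)` for `T ≤ W`. -/
theorem rsmul_eq_zero_of_forall_smul_eq_zero {W T : X.Opens} (hW : IsAffineOpen W)
    (hT : T ≤ W) (a : Γ(X, W)) (ha : ∀ m : Γ(F, W), a • m = 0) (s : Γ(F, T)) :
    rsmul F hT a s = 0 := by
  refine eq_zero_of_res_basicOpen_eq_zero F hW hT _ fun c hc => ?_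
  obtain ⟨n, m, hnm⟩ := exists_pow_smul_eq_res F hW c (res F hc s)
  rw [rsmul_res]
  have h2 : res F (X.basicOpen_le c) (a • m) = 0 := by rw [ha m, map_zero]
  rw [← rsmul_eq_smul_res, ← hnm] at h2
  unfold rsmul at h2 ⊢
  rw [smul_comm] at h2
  exact eq_zero_of_pow_res_smul_eq_zero F c _ _ h2

/-- Ideals whose radical contains all `c` with `D(c) ≤ W ⊓ U` have depth at least two. -/
theorem two_le_idealDepth_of_forall_pow_mem
    (hdepth : ∀ x : X, x ∉ U → 2 ≤ LocCoh.depth (X.presheaf.stalk x) (F.presheaf.stalk x))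
    {W : X.Opens} (hW : IsAffineOpen W) (K : Ideal Γ(X, W))
    (hK : ∀ c : Γ(X, W), X.basicOpen c ≤ W ⊓ U → ∃ n : ℕ, c ^ n ∈ K) :
    ((2 : ℕ) : ℕ∞) ≤ LocCoh.idealDepth K Γ(F, W) := by
  have : IsNoetherianRing Γ(X, W) := IsLocallyNoetherian.component_noetherian ⟨W, hW⟩
  have : Module.Finite Γ(X, W) Γ(F, W) := module_finite_of_isFiniteType F hW
  apply Groth.Agent.Lib.Helper18.QGor.le_idealDepth_of_forall_le_depth K 2 Γ(F, W)
  intro p _ hKp
  obtain ⟨x, hxW, hxp⟩ := exists_point_primeIdealOf_eq hW p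
  have hxU : x ∉ U := by
    intro hxU
    obtain ⟨c, hcT, hxc⟩ := hW.exists_basicOpen_le (V := W ⊓ U) ⟨x, ⟨hxW, hxU⟩⟩ hxW
    obtain ⟨n, hn⟩ := hK c hcT
    have h1 : c ∉ (hW.primeIdealOf ⟨x, hxW⟩).asIdeal :=
      (mem_basicOpen_iff_notMem_primeIdealOf hW x hxW c).mp hxc
    rw [hxp] at h1
    exact h1 (Ideal.IsPrime.mem_of_pow_mem ‹_› n (hKp hn))
  have h2 := two_le_depth_localized F U hdepth hW x hxW hxU
  subst hxp
  exact h2

/-- Injectivity in the affine case. -/
theorem res_injective_of_isAffineOpen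
    (hdepth : ∀ x : X, x ∉ U → 2 ≤ LocCoh.depth (X.presheaf.stalk x) (F.presheaf.stalk x))
    {W : X.Opens} (hW : IsAffineOpen W) (m : Γ(F, W))
    (hm : res F (inf_le_left : W ⊓ U ≤ W) m = 0) : m = 0 := by
  have : IsNoetherianRing Γ(X, W) := IsLocallyNoetherian.component_noetherian ⟨W, hW⟩
  have : Module.Finite Γ(X, W) Γ(F, W) := module_finite_of_isFiniteType F hW
  have h2 := two_le_idealDepth_of_forall_pow_mem F U hdepth hW
    ((⊥ : Submodule Γ(X, W) Γ(F, W)).colon {m}) (fun c hc => by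
      have h0 : res F (X.basicOpen_le c) m = 0 := by
        rw [← res_res F (inf_le_left : W ⊓ U ≤ W) hc, hm, map_zero]
      obtain ⟨n, hn⟩ := exists_pow_smul_eq_zero F hW c m h0
      exact ⟨n, by rw [Submodule.mem_colon_singleton, Submodule.mem_bot]; exact hn⟩)
  have h1 : 1 ≤ LocCoh.idealDepth ((⊥ : Submodule Γ(X, W) Γ(F, W)).colon {m}) Γ(F, W) :=
    le_trans (by norm_num) h2
  refine Groth.Agent.Lib.Helper18.QGor.eq_zero_of_forall_pow_smul_eq_zero _ _ h1 m
    (fun j hj => ⟨1, ?_⟩)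
  rw [Submodule.mem_colon_singleton, Submodule.mem_bot] at hj
  rw [pow_one]
  exact hj

/-- The ideal of denominators of a section over `T ≤ W`. -/
def denomIdeal {W T : X.Opens} (hT : T ≤ W) (s : Γ(F, T)) : Ideal Γ(X, W) where
  carrier := {a | ∃ m : Γ(F, W), rsmul F hT a s = res F hT m}
  add_mem' := by
    rintro a b ⟨ma, hma⟩ ⟨mb, hmb⟩
    refine ⟨ma + mb, ?_⟩
    rw [map_add, ← hma, ← hmb]
    unfold rsmul
    rw [map_add, add_smul]
  zero_mem' := ⟨0, by unfold rsmul; rw [map_zero, zero_smul, map_zero]⟩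
  smul_mem' := by
    rintro r a ⟨ma, hma⟩
    refine ⟨r • ma, ?_⟩
    rw [smul_eq_mul, rsmul_mul, hma, rsmul_eq_smul_res]

omit [IsLocallyNoetherian X] [F.IsQuasicoherent] [F.IsFiniteType] in
theorem mem_denomIdeal {W T : X.Opens} (hT : T ≤ W) (s : Γ(F, T)) (a : Γ(X, W)) :
    a ∈ denomIdeal F hT s ↔ ∃ m : Γ(F, W), rsmul F hT a s = res F hT m := Iff.rfl

/-- Surjectivity in the affine case. -/
theorem res_surjective_of_isAffineOpen
    (hdepth : ∀ x : X, x ∉ U → 2 ≤ LocCoh.depth (X.presheaf.stalk x) (F.presheaf.stalk x))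
    {W : X.Opens} (hW : IsAffineOpen W) (s : Γ(F, W ⊓ U)) :
    ∃ m : Γ(F, W), res F (inf_le_left : W ⊓ U ≤ W) m = s := by
  have : IsNoetherianRing Γ(X, W) := IsLocallyNoetherian.component_noetherian ⟨W, hW⟩
  have : Module.Finite Γ(X, W) Γ(F, W) := module_finite_of_isFiniteType F hW
  have hT : W ⊓ U ≤ W := inf_le_left
  have h2 := two_le_idealDepth_of_forall_pow_mem F U hdepth hW (denomIdeal F hT s)
    (fun c hc => by
      obtain ⟨n, m, hnm⟩ := exists_pow_rsmul_eq_res F hW hT c hc s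
      exact ⟨n, m, hnm⟩)
  rw [Groth.Agent.Lib.Helper16.Depth.le_idealDepth_iff] at h2
  rcases h2 with htop | ⟨rs, hlen, hreg, hmem⟩
  · obtain ⟨e, he, heM⟩ := Submodule.exists_sub_one_mem_and_smul_eq_zero_of_fg_of_le_smul
      (denomIdeal F hT s) (⊤ : Submodule Γ(X, W) Γ(F, W)) Module.Finite.fg_top htop.ge
    have hc : 1 - e ∈ denomIdeal F hT s := by
      have := (denomIdeal F hT s).neg_mem he
      simpa using this
    obtain ⟨m0, hm0⟩ := hc
    refine ⟨m0, ?_⟩
    rw [← hm0]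
    have h3 : rsmul F hT e s = 0 :=
      rsmul_eq_zero_of_forall_smul_eq_zero F hW hT e (fun m => heM m trivial) s
    unfold rsmul at h3 ⊢
    rw [map_sub, sub_smul, h3, sub_zero, map_one, one_smul]
  · obtain ⟨x, y, rfl⟩ := List.length_eq_two.mp hlen
    rw [isWeaklyRegular_cons_iff, isWeaklyRegular_cons_iff] at hreg
    obtain ⟨hx, hy, -⟩ := hreg
    obtain ⟨mx, hmx⟩ := hmem x (by simp)
    obtain ⟨my, hmy⟩ := hmem y (by simp)
    have heq : y • mx = x • my := by
      rw [← sub_eq_zero]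
      apply res_injective_of_isAffineOpen F U hdepth hW
      rw [map_sub, ← rsmul_eq_smul_res, ← rsmul_eq_smul_res, ← hmx, ← hmy, sub_eq_zero]
      unfold rsmul
      rw [smul_comm]
    have hmem' : mx ∈ x • (⊤ : Submodule Γ(X, W) Γ(F, W)) := by
      have h0 : y • (Submodule.Quotient.mk mx : QuotSMulTop x Γ(F, W)) = y • 0 := by
        rw [smul_zero, ← Submodule.Quotient.mk_smul, heq, Submodule.Quotient.mk_eq_zero]
        exact Submodule.smul_mem_pointwise_smul _ _ _ Submodule.mem_top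
      have := hy h0
      rwa [Submodule.Quotient.mk_eq_zero] at this
    obtain ⟨m', -, hm'⟩ := (Submodule.mem_smul_pointwise_iff_exists _ _ _).mp hmem'
    refine ⟨m', ?_⟩
    rw [← sub_eq_zero]
    apply eq_zero_of_rsmul_eq_zero_of_isSMulRegular F hW hT x hx
    rw [rsmul_sub, rsmul_eq_smul_res, hm', hmx, sub_self]

/-- Gluing: the general case. -/
theorem res_bijective
    (hdepth : ∀ x : X, x ∉ U → 2 ≤ LocCoh.depth (X.presheaf.stalk x) (F.presheaf.stalk x))
    (V : X.Opens) : Function.Bijective (res F (inf_le_left : V ⊓ U ≤ V)) := by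
  have hinj : ∀ (V : X.Opens) (m : Γ(F, V)), res F (inf_le_left : V ⊓ U ≤ V) m = 0 → m = 0 := by
    intro V m hm
    refine eq_zero_of_res_cover_eq_zero F
      (fun W : {W : X.Opens // IsAffineOpen W ∧ W ≤ V} => W.1) (fun W => W.2.2) ?_ m ?_
    · intro x hx
      obtain ⟨W, hW, hxW, hWV⟩ := exists_isAffineOpen_mem_and_subset (x := x) (U := V) hx
      exact Opens.mem_iSup.mpr ⟨⟨W, hW, hWV⟩, hxW⟩
    · rintro ⟨W, hW, hWV⟩
      apply res_injective_of_isAffineOpen F U hdepth hW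
      rw [res_res, ← res_res F (inf_le_left : V ⊓ U ≤ V) (inf_le_inf_right U hWV), hm, map_zero]
  refine ⟨fun a b hab => ?_, fun t => ?_⟩
  · rw [← sub_eq_zero]
    apply hinj V
    rw [map_sub, hab, sub_self]
  · have hloc : ∀ W : {W : X.Opens // IsAffineOpen W ∧ W ≤ V}, ∃ m : Γ(F, W.1),
        res F (inf_le_left : W.1 ⊓ U ≤ W.1) m = res F (inf_le_inf_right U W.2.2) t :=
      fun W => res_surjective_of_isAffineOpen F U hdepth W.2.1 _
    choose sf hsf using hloc
    obtain ⟨s, hs⟩ := exists_gluing F (fun W : {W : X.Opens // IsAffineOpen W ∧ W ≤ V} => W.1) V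
      (fun W => W.2.2) (by
        intro x hx
        obtain ⟨W, hW, hxW, hWV⟩ := exists_isAffineOpen_mem_and_subset (x := x) (U := V) hx
        exact Opens.mem_iSup.mpr ⟨⟨W, hW, hWV⟩, hxW⟩) sf (by
        intro W W'
        rw [← sub_eq_zero]
        apply hinj (W.1 ⊓ W'.1)
        rw [map_sub, res_res, res_res, sub_eq_zero,
          ← res_res F (inf_le_left : W.1 ⊓ U ≤ W.1)
            (inf_le_inf_right U (inf_le_left : W.1 ⊓ W'.1 ≤ W.1)),
          ← res_res F (inf_le_left : W'.1 ⊓ U ≤ W'.1)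
            (inf_le_inf_right U (inf_le_right : W.1 ⊓ W'.1 ≤ W'.1)),
          hsf W, hsf W', res_res, res_res])
    refine ⟨s, ?_⟩
    rw [← sub_eq_zero]
    refine eq_zero_of_res_cover_eq_zero F
      (fun W : {W : X.Opens // IsAffineOpen W ∧ W ≤ V} => W.1 ⊓ U)
      (fun W => inf_le_inf_right U W.2.2) ?_ _ ?_
    · intro x hx
      obtain ⟨W, hW, hxW, hWV⟩ := exists_isAffineOpen_mem_and_subset (x := x) (U := V) hx.1
      exact Opens.mem_iSup.mpr ⟨⟨W, hW, hWV⟩, ⟨hxW, hx.2⟩⟩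
    · intro W
      rw [map_sub, res_res, ← res_res F W.2.2 (inf_le_left : W.1 ⊓ U ≤ W.1), hs W, hsf W,
        sub_self]

end aux

/-- Let X be locally Noetherian, F coherent, and U open such that at every point outside U the stalk of
F has depth at least two over the local ring. Then F → j_*(F|_U) is an isomorphism: for every open
V, restriction of sections Γ(V, F) → Γ(V ∩ U, F) is a bijection. -/
theorem result (X : Scheme.{u}) [IsLocallyNoetherian X]
    (F : X.Modules) (hF : Coh.IsCoh F) (U : X.Opens)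
    (hdepth : ∀ x : X, x ∉ U → 2 ≤ LocCoh.depth (X.presheaf.stalk x) (F.presheaf.stalk x)) (V : X.Opens) :
    Function.Bijective (F.val.presheaf.map (homOfLE (inf_le_left : V ⊓ U ≤ V)).op) := by
  have hq : F.IsQuasicoherent := hF.1
  have hft : F.IsFiniteType := hF.2
  exact res_bijective F U hdepth V

end Groth.Agent.S1575
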