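import Groth.Statements.S14995
import Groth.Agent.S1575
import Groth.Agent.Lib.Helper17.ZClosLib

set_option autoImplicit false
universe u
open CategoryTheory CategoryTheory.Limits AlgebraicGeometry
open Coherent

namespace Groth.Agent.S14995

section aux

/-- Hartogs: the unit `E ⟶ j_*(E|_U)` is an isomorphism when `E` is coherent of depth `≥ 2` off `U`. -/
theorem isIso_unit_of_depth_two (Y : Scheme.{u}) [IsLocallyNoetherian Y]
    (E : Y.Modules) (hE : Coh.IsCoh E) (U : Y.Opens)
    (hdepth : ∀ y : Y, y ∉ U → (2 : ℕ∞) ≤ LocCoh.depth (Y.presheaf.stalk y) (E.presheaf.stalk y)) :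
    IsIso ((Scheme.Modules.restrictAdjunction U.ι).unit.app E) := by
  show IsIso ((ZClos.resPushUnit U).app E)
  rw [Groth.Agent.Lib.Helper17.ZClosLib.isIso_iff_bijective_app]
  intro V
  rw [Groth.Agent.Lib.Helper17.ZClosLib.bijective_unit_app_iff]
  exact Groth.Agent.S1575.result Y E hE U hdepth V

end aux

/-- Let Y be a locally Noetherian scheme, E and F coherent O_Y-modules and U an open subset of Y such
that for every point y of Y outside U the stalk E_y has depth at least 2 as a module over the local
ring O_{Y,y}. Then restricting morphisms to U is a bijection from Hom(F, E) onto Hom(F|_U, E|_U).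
(The published statement is the case F = E; this row allows any coherent F.) -/
theorem result (Y : Scheme.{u}) [IsLocallyNoetherian Y]
    (E F : Y.Modules) (hE : Coh.IsCoh E) (hF : Coh.IsCoh F) (U : Y.Opens)
    (hdepth : ∀ y : Y, y ∉ U → (2 : ℕ∞) ≤ LocCoh.depth (Y.presheaf.stalk y) (E.presheaf.stalk y)) :
    Function.Bijective (fun φ : F ⟶ E => (Scheme.Modules.restrictFunctor U.ι).map φ) := by
  have hiso := isIso_unit_of_depth_two Y E hE U hdepth
  obtain ⟨adj, hadj⟩ : ∃ a, a = AlgebraicGeometry.Scheme.Modules.restrictAdjunction U.ι := ⟨_, rfl⟩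
  rw [← hadj] at hiso
  have key : ∀ φ : F ⟶ E, (AlgebraicGeometry.Scheme.Modules.restrictFunctor U.ι).map φ =
      (adj.homEquiv F _).symm (φ ≫ adj.unit.app E) := by
    intro φ
    rw [Equiv.eq_symm_apply, adj.homEquiv_unit]
    exact (adj.unit.naturality φ).symm
  constructor
  · intro φ ψ h
    simp only at h
    rw [key, key] at h
    have h2 := (adj.homEquiv F _).symm.injective h
    exact (CategoryTheory.cancel_mono _).mp h2
  · intro ψ
    refine ⟨adj.homEquiv F _ ψ ≫ CategoryTheory.inv (adj.unit.app E), ?_⟩
    simp only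
    rw [key, CategoryTheory.Category.assoc, CategoryTheory.IsIso.inv_hom_id,
      CategoryTheory.Category.comp_id, Equiv.symm_apply_apply]

end Groth.Agent.S14995
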