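import Groth.Statements.S12226
import Groth.Agent.Lib.Helper10.HartogsConv
import Groth.Agent.S14995

set_option autoImplicit false
universe u
open CategoryTheory CategoryTheory.Limits AlgebraicGeometry TopologicalSpace
open LocCoh

namespace Groth.Agent.S12226

section aux

/-- `j_*(F|_U)` has bijective restriction maps from `W` to `W ∩ U`. -/
theorem bijective_res_resPush {X : Scheme.{u}} (U : X.Opens) (F : X.Modules) (W : X.Opens) :
    Function.Bijective (Groth.Agent.Lib.Helper29.QCoh.res
      ((Scheme.Modules.pushforward U.ι).obj ((Scheme.Modules.restrictFunctor U.ι).obj F))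
      (inf_le_left : W ⊓ U ≤ W)) := by
  have e : U.ι ''ᵁ U.ι ⁻¹ᵁ W = U.ι ''ᵁ U.ι ⁻¹ᵁ (W ⊓ U) := by
    rw [ZClos.ι_image_preimage, ZClos.ι_image_preimage, inf_comm W U, ← inf_assoc, inf_idem]
  have h1 : (U.ι.opensFunctor.map ((Opens.map U.ι.base).map
      (homOfLE (inf_le_left : W ⊓ U ≤ W)))) = eqToHom e.symm := Subsingleton.elim _ _
  show Function.Bijective (F.presheaf.map (U.ι.opensFunctor.map ((Opens.map U.ι.base).map
      (homOfLE (inf_le_left : W ⊓ U ≤ W)))).op)
  rw [h1]
  exact Groth.Agent.Lib.Helper17.ZClosLib.bijective_map_eqToHom F e.symm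

end aux

/-- Let j : U → X be the inclusion of an open subscheme of a Noetherian scheme X and F a coherent
O_X-module such that F' = j_*(F|_U) is coherent. Then (a) for every point x of X outside U the stalk
F'_x has depth at least 2 over O_{X,x}, and (b) F → F' is the unique map with these properties: for
every coherent O_X-module G and every map φ : F → G whose restriction to U is an isomorphism and
such that depth(G_x) ≥ 2 for all x outside U, there is exactly one map ψ : G → F' whose composite
with φ is the canonical map F → j_*(F|_U), and this ψ is an isomorphism. (The compatibility of this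
construction with flat base change is not part of this statement.) -/
theorem result (X : Scheme.{u}) [IsNoetherian X] (U : X.Opens)
    (F : X.Modules) (hF : Coh.IsCoh F) (hF' : Coh.IsCoh ((Coh.push U.ι).obj (F.restrict U.ι))) :
    (∀ x : ↥X, x ∉ U → (2 : ℕ∞) ≤ LocCoh.depth (X.presheaf.stalk x)
        (((Coh.push U.ι).obj (F.restrict U.ι)).presheaf.stalk x)) ∧
    ∀ (G : X.Modules) (hG : Coh.IsCoh G) (φ : F ⟶ G),
      IsIso ((Scheme.Modules.restrictFunctor U.ι).map φ) →
      (∀ x : ↥X, x ∉ U → (2 : ℕ∞) ≤ LocCoh.depth (X.presheaf.stalk x) (G.presheaf.stalk x)) →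
        (∃! ψ : G ⟶ (Coh.push U.ι).obj (F.restrict U.ι),
            φ ≫ ψ = (Scheme.Modules.restrictAdjunction U.ι).unit.app F) ∧
          ∀ ψ : G ⟶ (Coh.push U.ι).obj (F.restrict U.ι),
            φ ≫ ψ = (Scheme.Modules.restrictAdjunction U.ι).unit.app F → IsIso ψ := by
  have hq' : ((Coh.push U.ι).obj (F.restrict U.ι)).IsQuasicoherent := hF'.1
  have hft' : ((Coh.push U.ι).obj (F.restrict U.ι)).IsFiniteType := hF'.2
  refine ⟨?_, ?_⟩
  · intro x hx
    exact Groth.Agent.Lib.Helper10.HartogsConv.two_le_depth_of_bijective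
      ((Coh.push U.ι).obj (F.restrict U.ι)) (fun W _ => bijective_res_resPush U F W) x hx
  · intro G hG φ hφ hdG
    have hunit := Groth.Agent.S14995.isIso_unit_of_depth_two X G hG U hdG
    obtain ⟨adj, hadj⟩ : ∃ a, a = AlgebraicGeometry.Scheme.Modules.restrictAdjunction U.ι :=
      ⟨_, rfl⟩
    rw [← hadj] at hunit ⊢
    let ψ₀ : G ⟶ (Coh.push U.ι).obj (F.restrict U.ι) :=
      adj.unit.app G ≫ (AlgebraicGeometry.Scheme.Modules.pushforward U.ι).map
        (CategoryTheory.inv ((AlgebraicGeometry.Scheme.Modules.restrictFunctor U.ι).map φ))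
    have hψ₀ : φ ≫ ψ₀ = adj.unit.app F := by
      have hnat := adj.unit.naturality φ
      simp only [CategoryTheory.Functor.id_map, CategoryTheory.Functor.comp_map] at hnat
      simp only [ψ₀]
      rw [← CategoryTheory.Category.assoc, hnat, CategoryTheory.Category.assoc,
        ← CategoryTheory.Functor.map_comp, CategoryTheory.IsIso.hom_inv_id,
        CategoryTheory.Functor.map_id]
      exact CategoryTheory.Category.comp_id _
    have hψ₀iso : IsIso ψ₀ := by
      simp only [ψ₀]
      infer_instance
    have huniq : ∀ ψ : G ⟶ (Coh.push U.ι).obj (F.restrict U.ι),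
        φ ≫ ψ = adj.unit.app F → ψ = ψ₀ := by
      intro ψ hψ
      apply (adj.homEquiv G _).symm.injective
      have h1 := adj.homEquiv_naturality_left_symm φ ψ
      have h2 := adj.homEquiv_naturality_left_symm φ ψ₀
      rw [hψ] at h1
      rw [hψ₀] at h2
      exact (CategoryTheory.cancel_epi
        ((AlgebraicGeometry.Scheme.Modules.restrictFunctor U.ι).map φ)).mp (h1.symm.trans h2)
    refine ⟨⟨ψ₀, hψ₀, huniq⟩, ?_⟩
    intro ψ hψ
    rw [huniq ψ hψ]
    exact hψ₀iso

end Groth.Agent.S12226
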