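import Groth.Statements.S12227
import Mathlib.Algebra.Homology.DerivedCategory.Fractions

set_option autoImplicit false
universe w v u
open CategoryTheory CategoryTheory.Limits
open CohDer

namespace Groth.Agent.S12227

/-- Full faithfulness of K⁻(A)[Qis⁻¹] → D⁻(A), written in terms of roofs. Let A be an abelian category
and K, L complexes which are zero above some degree, viewed in the homotopy category. Then every
morphism Qh(K) → Qh(L) in the derived category is Qh(s)⁻¹ ≫ Qh(f) for some quasi-isomorphism s : K'
→ K and map f : K' → L of K(A) with K' again zero above some degree; and two maps f₁, f₂ : K → L of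
K(A) become equal in D(A) only if s ≫ f₁ = s ≫ f₂ for some quasi-isomorphism s : K' → K with K' zero
above some degree. (That the kernel of K⁻(A) → D(A) consists of the acyclic complexes and that the
essential image is D⁻(A) are separate statements.) -/
theorem result {A : Type u} [Category.{v} A] [Abelian A] [HasDerivedCategory.{w} A]
    (K L : HomotopyCategory A (ComplexShape.up ℤ)) (a b : ℤ) [CochainComplex.IsStrictlyLE K.as a] [CochainComplex.IsStrictlyLE L.as b] :
    (∀ φ : DerivedCategory.Qh.obj K ⟶ DerivedCategory.Qh.obj L,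
      ∃ (K' : HomotopyCategory A (ComplexShape.up ℤ)) (n : ℤ) (_ : CochainComplex.IsStrictlyLE K'.as n) (s : K' ⟶ K) (f : K' ⟶ L),
        HomotopyCategory.quasiIso A (ComplexShape.up ℤ) s ∧ DerivedCategory.Qh.map s ≫ φ = DerivedCategory.Qh.map f) ∧
    (∀ f₁ f₂ : K ⟶ L, DerivedCategory.Qh.map f₁ = DerivedCategory.Qh.map f₂ →
      ∃ (K' : HomotopyCategory A (ComplexShape.up ℤ)) (n : ℤ) (_ : CochainComplex.IsStrictlyLE K'.as n) (s : K' ⟶ K),
        HomotopyCategory.quasiIso A (ComplexShape.up ℤ) s ∧ s ≫ f₁ = s ≫ f₂) := by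
  obtain ⟨K0, rfl⟩ := HomotopyCategory.quotient_obj_surjective K
  obtain ⟨L0, rfl⟩ := HomotopyCategory.quotient_obj_surjective L
  have hK0 : CochainComplex.IsStrictlyLE K0 a := ‹_›
  constructor
  · intro φ
    obtain ⟨X', hX', s, hs, g, hfac⟩ :=
      DerivedCategory.right_fac_of_isStrictlyLE (X := K0) (Y := L0) φ a
    refine ⟨(HomotopyCategory.quotient _ _).obj X', a, hX', (HomotopyCategory.quotient _ _).map s,
      (HomotopyCategory.quotient _ _).map g, ?_, ?_⟩
    · rw [HomotopyCategory.quotient_map_mem_quasiIso_iff, HomologicalComplex.mem_quasiIso_iff]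
      rwa [DerivedCategory.isIso_Q_map_iff_quasiIso] at hs
    · rw [hfac]
      show DerivedCategory.Q.map s ≫ inv (DerivedCategory.Q.map s) ≫ DerivedCategory.Q.map g =
        DerivedCategory.Q.map g
      simp
  · intro f₁ f₂ h
    obtain ⟨Z, s, hs, fac⟩ := (MorphismProperty.map_eq_iff_precomp DerivedCategory.Qh
      (HomotopyCategory.quasiIso A (ComplexShape.up ℤ)) f₁ f₂).1 h
    obtain ⟨Z0, rfl⟩ := HomotopyCategory.quotient_obj_surjective Z
    obtain ⟨s0, rfl⟩ := (HomotopyCategory.quotient _ _).map_surjective s
    rw [HomotopyCategory.quotient_map_mem_quasiIso_iff, HomologicalComplex.mem_quasiIso_iff] at hs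
    have h1 : QuasiIso (CochainComplex.truncLEMap s0 a) := by
      rw [CochainComplex.quasiIso_truncLEMap_iff]
      intro i _
      infer_instance
    have h2 : QuasiIso (CochainComplex.ιTruncLE Z0 a ≫ s0) := by
      rw [← CochainComplex.ιTruncLE_naturality]
      infer_instance
    refine ⟨(HomotopyCategory.quotient _ _).obj (CochainComplex.truncLE Z0 a), a,
      (inferInstance : CochainComplex.IsStrictlyLE (CochainComplex.truncLE Z0 a) a),
      (HomotopyCategory.quotient _ _).map (CochainComplex.ιTruncLE Z0 a ≫ s0), ?_, ?_⟩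
    · rw [HomotopyCategory.quotient_map_mem_quasiIso_iff, HomologicalComplex.mem_quasiIso_iff]
      exact h2
    · rw [Functor.map_comp, Category.assoc, Category.assoc, fac]

end Groth.Agent.S12227
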