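import Groth.Statements.S12228
import Mathlib.Algebra.Homology.DerivedCategory.Fractions
import Groth.Agent.Lib.Helper8.TruncIso

set_option autoImplicit false
universe w v u
open CategoryTheory CategoryTheory.Limits
open CohDer

namespace Groth.Agent.S12228

/-- Full faithfulness of Kᵇ(A)[Qis⁻¹] → Dᵇ(A), written in terms of roofs. Let A be an abelian category
and K, L bounded complexes (zero outside a finite range of degrees), viewed in the homotopy
category. Then every morphism Qh(K) → Qh(L) in the derived category is Qh(f) ≫ Qh(t)⁻¹ for some map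
f : K → L' and quasi-isomorphism t : L → L' of K(A) with L' again bounded; and two maps f₁, f₂ : K →
L of K(A) become equal in D(A) only if f₁ ≫ t = f₂ ≫ t for some quasi-isomorphism t : L → L' with L'
bounded. -/
theorem result {A : Type u} [Category.{v} A] [Abelian A] [HasDerivedCategory.{w} A]
    (K L : HomotopyCategory A (ComplexShape.up ℤ)) (a b a' b' : ℤ) [CochainComplex.IsStrictlyGE K.as a] [CochainComplex.IsStrictlyLE K.as b]
    [CochainComplex.IsStrictlyGE L.as a'] [CochainComplex.IsStrictlyLE L.as b'] :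
    (∀ φ : DerivedCategory.Qh.obj K ⟶ DerivedCategory.Qh.obj L,
      ∃ (L' : HomotopyCategory A (ComplexShape.up ℤ)) (m n : ℤ) (_ : CochainComplex.IsStrictlyGE L'.as m) (_ : CochainComplex.IsStrictlyLE L'.as n) (f : K ⟶ L') (t : L ⟶ L'),
        HomotopyCategory.quasiIso A (ComplexShape.up ℤ) t ∧ φ ≫ DerivedCategory.Qh.map t = DerivedCategory.Qh.map f) ∧
    (∀ f₁ f₂ : K ⟶ L, DerivedCategory.Qh.map f₁ = DerivedCategory.Qh.map f₂ →
      ∃ (L' : HomotopyCategory A (ComplexShape.up ℤ)) (m n : ℤ) (_ : CochainComplex.IsStrictlyGE L'.as m) (_ : CochainComplex.IsStrictlyLE L'.as n) (t : L ⟶ L'),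
        HomotopyCategory.quasiIso A (ComplexShape.up ℤ) t ∧ f₁ ≫ t = f₂ ≫ t) := by
  obtain ⟨K0, rfl⟩ := HomotopyCategory.quotient_obj_surjective K
  obtain ⟨L0, rfl⟩ := HomotopyCategory.quotient_obj_surjective L
  have hK1 : CochainComplex.IsStrictlyGE K0 a := ‹_›
  have hK2 : CochainComplex.IsStrictlyLE K0 b := ‹_›
  have hL1 : CochainComplex.IsStrictlyGE L0 a' := ‹_›
  have hL2 : CochainComplex.IsStrictlyLE L0 b' := ‹_›
  set N := max b b' with hN
  have hK3 : CochainComplex.IsStrictlyLE K0 N :=
    CochainComplex.isStrictlyLE_of_le K0 b N (le_max_left _ _)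
  have hL3 : CochainComplex.IsStrictlyLE L0 N :=
    CochainComplex.isStrictlyLE_of_le L0 b' N (le_max_right _ _)
  constructor
  · intro φ
    obtain ⟨Y', hY1, hY2, g, s, hs, hfac⟩ :=
      DerivedCategory.left_fac_of_isStrictlyLE_of_isStrictlyGE (X := K0) (Y := L0) a' N φ
    refine ⟨(HomotopyCategory.quotient _ _).obj Y', a', N, hY1, hY2,
      (HomotopyCategory.quotient _ _).map g, (HomotopyCategory.quotient _ _).map s, ?_, ?_⟩
    · rw [HomotopyCategory.quotient_map_mem_quasiIso_iff, HomologicalComplex.mem_quasiIso_iff]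
      rwa [DerivedCategory.isIso_Q_map_iff_quasiIso] at hs
    · rw [hfac]
      show (DerivedCategory.Q.map g ≫ inv (DerivedCategory.Q.map s)) ≫ DerivedCategory.Q.map s =
        DerivedCategory.Q.map g
      simp
  · intro f₁ f₂ h
    obtain ⟨Z, t, ht, fac⟩ := (MorphismProperty.map_eq_iff_postcomp DerivedCategory.Qh
      (HomotopyCategory.quasiIso A (ComplexShape.up ℤ)) f₁ f₂).1 h
    obtain ⟨Z0, rfl⟩ := HomotopyCategory.quotient_obj_surjective Z
    obtain ⟨t0, rfl⟩ := (HomotopyCategory.quotient _ _).map_surjective t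
    obtain ⟨g₁, rfl⟩ := (HomotopyCategory.quotient _ _).map_surjective f₁
    obtain ⟨g₂, rfl⟩ := (HomotopyCategory.quotient _ _).map_surjective f₂
    rw [HomotopyCategory.quotient_map_mem_quasiIso_iff, HomologicalComplex.mem_quasiIso_iff] at ht
    -- Step 1: truncate below
    let Z1 : CochainComplex A ℤ := CochainComplex.truncGE Z0 a'
    let t1 : L0 ⟶ Z1 := t0 ≫ CochainComplex.πTruncGE Z0 a'
    have h1 : QuasiIso (CochainComplex.truncGEMap t0 a') := by
      rw [CochainComplex.quasiIso_truncGEMap_iff]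
      intro i _
      infer_instance
    have ht1 : QuasiIso t1 := by
      show QuasiIso (t0 ≫ CochainComplex.πTruncGE Z0 a')
      rw [← CochainComplex.πTruncGE_naturality]
      infer_instance
    have hZ1 : CochainComplex.IsStrictlyGE Z1 a' := inferInstance
    -- Step 2: truncate above
    let Z2 : CochainComplex A ℤ := CochainComplex.truncLE Z1 N
    obtain ⟨t2, ht2def⟩ : ∃ t2 : L0 ⟶ Z2,
      t2 = inv (CochainComplex.ιTruncLE L0 N) ≫ CochainComplex.truncLEMap t1 N := ⟨_, rfl⟩
    have h2 : QuasiIso (CochainComplex.truncLEMap t1 N) := by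
      rw [CochainComplex.quasiIso_truncLEMap_iff]
      intro i _
      infer_instance
    have ht2 : QuasiIso t2 := by
      rw [ht2def]
      infer_instance
    have ht2' : t2 ≫ CochainComplex.ιTruncLE Z1 N = t1 := by
      rw [ht2def, Category.assoc, CochainComplex.ιTruncLE_naturality, IsIso.inv_hom_id_assoc]
    have fac' : (HomotopyCategory.quotient A (ComplexShape.up ℤ)).map (g₁ ≫ t1) =
        (HomotopyCategory.quotient A (ComplexShape.up ℤ)).map (g₂ ≫ t1) := by
      show (HomotopyCategory.quotient A (ComplexShape.up ℤ)).map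
          (g₁ ≫ t0 ≫ CochainComplex.πTruncGE Z0 a') =
        (HomotopyCategory.quotient A (ComplexShape.up ℤ)).map
          (g₂ ≫ t0 ≫ CochainComplex.πTruncGE Z0 a')
      rw [← Category.assoc, ← Category.assoc, Functor.map_comp, Functor.map_comp _ (g₂ ≫ t0),
        Functor.map_comp, Functor.map_comp _ g₂, fac]
    have hh : Homotopy ((g₁ ≫ t2) ≫ CochainComplex.ιTruncLE Z1 N)
        ((g₂ ≫ t2) ≫ CochainComplex.ιTruncLE Z1 N) := by
      rw [Category.assoc, Category.assoc, ht2']
      exact HomotopyCategory.homotopyOfEq _ _ fac'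
    obtain ⟨H⟩ := Groth.Agent.Lib.Helper8.TruncIso.nonempty_homotopy_of_comp_ιTruncLE K0 Z1 N _ _ hh
    refine ⟨(HomotopyCategory.quotient _ _).obj Z2, a', N,
      (inferInstance : CochainComplex.IsStrictlyGE (CochainComplex.truncLE Z1 N) a'),
      (inferInstance : CochainComplex.IsStrictlyLE (CochainComplex.truncLE Z1 N) N),
      (HomotopyCategory.quotient _ _).map t2, ?_, ?_⟩
    · rw [HomotopyCategory.quotient_map_mem_quasiIso_iff, HomologicalComplex.mem_quasiIso_iff]
      exact ht2
    · rw [← Functor.map_comp, ← Functor.map_comp]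
      exact HomotopyCategory.eq_of_homotopy _ _ H

end Groth.Agent.S12228
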