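import Groth.Statements.S12233
import Mathlib
import Groth.Agent.Lib.Helper9.FlatCrit
import Groth.Agent.Lib.Helper9.NilFlat
import Groth.Agent.S0391
-- import your own Groth.Agent.* helpers here

set_option autoImplicit false
universe u
open scoped TensorProduct
open CAlg

namespace Groth.Agent.S12233

section helpers
open TensorProduct Function Groth.Agent.Lib.Helper9

section star

variable {R : Type*} [CommRing R] (I : Ideal R) (M : Type*) [AddCommGroup M] [Module R M]

/-- the multiplication map `I ⊗ V → U` for `I V ≤ U`. -/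
noncomputable def mulMap {V : Type*} [AddCommGroup V] [Module R V] (U : Submodule R V)
    (hU : I • (⊤ : Submodule R V) ≤ U) : ↥I ⊗[R] V →ₗ[R] ↥U :=
  TensorProduct.lift (LinearMap.mk₂ R
    (fun (i : ↥I) (v : V) =>
      (⟨(i : R) • v, hU (Submodule.smul_mem_smul i.2 Submodule.mem_top)⟩ : ↥U))
    (fun i i' v => Subtype.ext (by simp [add_smul]))
    (fun c i v => Subtype.ext (by simp [mul_smul]))
    (fun i v v' => Subtype.ext (by simp [smul_add]))
    (fun c i v => Subtype.ext (by rw [Submodule.coe_smul]; exact smul_comm _ _ _)))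

@[simp] theorem mulMap_tmul {V : Type*} [AddCommGroup V] [Module R V] (U : Submodule R V)
    (hU : I • (⊤ : Submodule R V) ≤ U) (i : ↥I) (v : V) :
    ((mulMap I U hU (i ⊗ₜ v) : ↥U) : V) = (i : R) • v := rfl

/-- `(I ⊗ M) ⊗ V → U ⊗ M`, `(i ⊗ m) ⊗ v ↦ (i v) ⊗ m`. -/
noncomputable def psi {V : Type*} [AddCommGroup V] [Module R V] (U : Submodule R V)
    (hU : I • (⊤ : Submodule R V) ≤ U) : (↥I ⊗[R] M) ⊗[R] V →ₗ[R] ↥U ⊗[R] M :=
  (mulMap I U hU).rTensor M ∘ₗ (TensorProduct.rightComm R ↥I M V).toLinearMap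

theorem psi_tmul {V : Type*} [AddCommGroup V] [Module R V] (U : Submodule R V)
    (hU : I • (⊤ : Submodule R V) ≤ U) (i : ↥I) (m : M) (v : V) :
    psi I M U hU ((i ⊗ₜ m) ⊗ₜ v) = (mulMap I U hU (i ⊗ₜ v)) ⊗ₜ m := by
  simp [psi]

theorem ker_rTensor_flat {F : Type*} [AddCommGroup F] [Module R F] [Module.Flat R F]
    (w : (↥I ⊗[R] M) ⊗[R] F) (hw : (I.subtype.rTensor M).rTensor F w = 0) :
    ∃ t : ↥(LinearMap.ker (I.subtype.rTensor M)) ⊗[R] F,
      (LinearMap.ker (I.subtype.rTensor M)).subtype.rTensor F t = w := by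
  have h0 := LinearMap.exact_subtype_ker_map (I.subtype.rTensor M)
  have hex := Module.Flat.rTensor_exact F (N := ↥(LinearMap.ker (I.subtype.rTensor M)))
    (N' := ↥I ⊗[R] M) (N'' := R ⊗[R] M) (f := (LinearMap.ker (I.subtype.rTensor M)).subtype)
    (g := I.subtype.rTensor M) h0
  exact (hex _).mp hw

theorem star_flat [Module.Flat (R ⧸ I) ((R ⧸ I) ⊗[R] M)]
    {F : Type*} [AddCommGroup F] [Module R F] [Module.Flat R F] (U : Submodule R F)
    (hU : I • (⊤ : Submodule R F) ≤ U) (x : ↥U ⊗[R] M) (hx : U.subtype.rTensor M x = 0) :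
    ∃ t : ↥(LinearMap.ker (I.subtype.rTensor M)) ⊗[R] F,
      psi I M U hU ((LinearMap.ker (I.subtype.rTensor M)).subtype.rTensor F t) = x := by
  set IF : Submodule R F := I • (⊤ : Submodule R F) with hIF
  set L : Submodule R U := IF.comap U.subtype with hL
  let j : (↥U ⧸ L) →ₗ[R] (F ⧸ IF) := L.mapQ IF U.subtype le_rfl
  have hj : Injective j := by
    rw [← LinearMap.ker_eq_bot, Submodule.ker_mapQ]
    exact Submodule.mkQ_map_self L
  have hA : Module.IsTorsionBySet R (↥U ⧸ L) I := by
    rw [Module.isTorsionBySet_quotient_iff]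
    intro x r hr
    simp only [hL, Submodule.mem_comap, Submodule.subtype_apply, Submodule.coe_smul]
    exact Submodule.smul_mem_smul hr trivial
  have hB : Module.IsTorsionBySet R (F ⧸ IF) I := Module.isTorsionBySet_quotient_ideal_smul F I
  have hjM := rTensor_injective_of_isTorsionBySet M I hA hB j hj
  have hsq : j ∘ₗ L.mkQ = IF.mkQ ∘ₗ U.subtype := rfl
  have h1 : (L.mkQ).rTensor M x = 0 := by
    apply hjM
    rw [← LinearMap.rTensor_comp_apply, hsq, LinearMap.rTensor_comp_apply, hx, map_zero, map_zero]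
  obtain ⟨y, hy⟩ := (rTensor_exact M (LinearMap.exact_subtype_mkQ L) L.mkQ_surjective _).mp h1
  -- the multiplication map
  have hb : U.subtype ∘ₗ mulMap I U hU =
      (TensorProduct.lid R F).toLinearMap ∘ₗ I.subtype.rTensor F := by
    ext i f
    simp
  have hmem : ∀ t, mulMap I U hU t ∈ L := by
    intro t
    rw [hL, Submodule.mem_comap, hIF, ← Submodule.map_range_rTensor_subtype_lid]
    refine ⟨I.subtype.rTensor F t, ⟨t, rfl⟩, ?_⟩
    exact (congrArg (fun φ => φ t) hb).symm
  let a' : ↥I ⊗[R] F →ₗ[R] ↥L := (mulMap I U hU).codRestrict L hmem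
  have ha' : Surjective a' := by
    rintro ⟨u, hu⟩
    rw [hL, Submodule.mem_comap, hIF, ← Submodule.map_range_rTensor_subtype_lid] at hu
    obtain ⟨_, ⟨t, rfl⟩, ht⟩ := hu
    refine ⟨t, Subtype.ext (Subtype.ext ?_)⟩
    exact (congrArg (fun φ => φ t) hb).trans ht
  obtain ⟨w, hw⟩ := LinearMap.rTensor_surjective M ha' y
  have hxw : (mulMap I U hU).rTensor M w = x := by
    rw [← hy, ← hw, ← LinearMap.rTensor_comp_apply]
    rfl
  -- reassociate
  let σ := TensorProduct.rightComm R ↥I M F
  let τ : (R ⊗[R] M) ⊗[R] F ≃ₗ[R] F ⊗[R] M :=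
    TensorProduct.rightComm R R M F ≪≫ₗ (TensorProduct.lid R F).rTensor M
  have hkey : (U.subtype ∘ₗ mulMap I U hU).rTensor M ∘ₗ σ.toLinearMap =
      τ.toLinearMap ∘ₗ (I.subtype.rTensor M).rTensor F := by
    apply TensorProduct.ext_threefold
    intro i m f
    simp [σ, τ, hb]
  have h2 : (I.subtype.rTensor M).rTensor F (σ.symm w) = 0 := by
    apply τ.injective
    rw [map_zero]
    have := congrArg (fun φ => φ (σ.symm w)) hkey
    simp only [LinearMap.comp_apply, LinearEquiv.coe_coe, LinearEquiv.apply_symm_apply] at this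
    rw [← this, LinearMap.rTensor_comp_apply, hxw, hx]
  obtain ⟨t, ht⟩ := ker_rTensor_flat I M _ h2
  refine ⟨t, ?_⟩
  rw [ht]
  simp only [psi, LinearMap.comp_apply, LinearEquiv.coe_coe]
  rw [show TensorProduct.rightComm R ↥I M F = σ from rfl, LinearEquiv.apply_symm_apply, hxw]

theorem star_general_aux [Module.Flat (R ⧸ I) ((R ⧸ I) ⊗[R] M)]
    {V : Type*} [AddCommGroup V] [Module R V] (U : Submodule R V)
    (hU : I • (⊤ : Submodule R V) ≤ U) (x : ↥U ⊗[R] M) (hx : U.subtype.rTensor M x = 0)
    {F : Type*} [AddCommGroup F] [Module R F] [Module.Flat R F] (p : F →ₗ[R] V)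
    (hp : Surjective p) :
    ∃ t : ↥(LinearMap.ker (I.subtype.rTensor M)) ⊗[R] V,
      psi I M U hU ((LinearMap.ker (I.subtype.rTensor M)).subtype.rTensor V t) = x := by
  let U' : Submodule R F := U.comap p
  have hU' : I • (⊤ : Submodule R F) ≤ U' := by
    rw [Submodule.smul_le]
    intro r hr n _
    show p (r • n) ∈ U
    rw [map_smul]
    exact hU (Submodule.smul_mem_smul hr Submodule.mem_top)
  let p' : ↥U' →ₗ[R] ↥U := p.restrict (fun a ha => ha)
  have hp' : Surjective p' := by
    rintro ⟨u, hu⟩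
    obtain ⟨f, rfl⟩ := hp u
    exact ⟨⟨f, hu⟩, rfl⟩
  obtain ⟨x0, hx0⟩ := LinearMap.rTensor_surjective M hp' x
  have hex := rTensor_exact M (LinearMap.exact_subtype_ker_map p) hp
  have hsq : p ∘ₗ U'.subtype = U.subtype ∘ₗ p' := rfl
  have h2 : p.rTensor M (U'.subtype.rTensor M x0) = 0 := by
    rw [← LinearMap.rTensor_comp_apply, hsq, LinearMap.rTensor_comp_apply, hx0, hx]
  obtain ⟨z, hz⟩ := (hex _).mp h2
  have hle : LinearMap.ker p ≤ U' := by
    intro a ha
    show p a ∈ U
    rw [LinearMap.mem_ker.mp ha]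
    exact U.zero_mem
  let ι : ↥(LinearMap.ker p) →ₗ[R] ↥U' := Submodule.inclusion hle
  have hι1 : U'.subtype ∘ₗ ι = (LinearMap.ker p).subtype := rfl
  have hι2 : p' ∘ₗ ι = 0 := by
    ext ⟨a, ha⟩
    exact LinearMap.mem_ker.mp ha
  have hx1 : U'.subtype.rTensor M (x0 - ι.rTensor M z) = 0 := by
    rw [map_sub, ← LinearMap.rTensor_comp_apply, hι1, hz, sub_self]
  have hx2 : p'.rTensor M (x0 - ι.rTensor M z) = x := by
    rw [map_sub, ← LinearMap.rTensor_comp_apply, hι2, hx0]
    simp
  obtain ⟨t', ht'⟩ := star_flat I M U' hU' _ hx1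
  refine ⟨p.lTensor _ t', ?_⟩
  have hnat : psi I M U hU ∘ₗ p.lTensor (↥I ⊗[R] M) = p'.rTensor M ∘ₗ psi I M U' hU' := by
    apply TensorProduct.ext_threefold
    intro i m f
    simp only [LinearMap.comp_apply, LinearMap.lTensor_tmul, psi_tmul, LinearMap.rTensor_tmul]
    congr 1
    apply Subtype.ext
    simp [p']
  have hcomm : (LinearMap.ker (I.subtype.rTensor M)).subtype.rTensor V (p.lTensor _ t') =
      p.lTensor _ ((LinearMap.ker (I.subtype.rTensor M)).subtype.rTensor F t') := by
    rw [← LinearMap.comp_apply, ← LinearMap.comp_apply, LinearMap.rTensor_comp_lTensor,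
      LinearMap.lTensor_comp_rTensor]
  rw [hcomm, ← LinearMap.comp_apply, hnat, LinearMap.comp_apply, ht', hx2]

theorem star_general [Module.Flat (R ⧸ I) ((R ⧸ I) ⊗[R] M)]
    {V : Type*} [AddCommGroup V] [Module R V] (U : Submodule R V)
    (hU : I • (⊤ : Submodule R V) ≤ U) (x : ↥U ⊗[R] M) (hx : U.subtype.rTensor M x = 0) :
    ∃ t : ↥(LinearMap.ker (I.subtype.rTensor M)) ⊗[R] V,
      psi I M U hU ((LinearMap.ker (I.subtype.rTensor M)).subtype.rTensor V t) = x :=
  star_general_aux I M U hU x hx (Finsupp.linearCombination R (id : V → V))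
    (Finsupp.linearCombination_id_surjective R V)

end star

section lemmaA

variable {R : Type*} [CommRing R] (I : Ideal R) (M : Type*) [AddCommGroup M] [Module R M]
  (R' : Type*) [CommRing R'] [Algebra R R'] (N : Type*) [AddCommGroup N] [Module R' N] [Module R N]
  [IsScalarTower R R' N] (g : M →ₗ[R] N)

/-- `P ⊗[R] M → P ⊗[R'] N`. -/
noncomputable def eps (P : Type*) [AddCommGroup P] [Module R' P] [Module R P]
    [IsScalarTower R R' P] : P ⊗[R] M →ₗ[R] P ⊗[R'] N :=
  (TensorProduct.mapOfCompatibleSMul R' R R P N) ∘ₗ (g.lTensor P)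

@[simp] theorem eps_tmul (P : Type*) [AddCommGroup P] [Module R' P] [Module R P]
    [IsScalarTower R R' P] (p : P) (m : M) : eps M R' N g P (p ⊗ₜ m) = p ⊗ₜ g m := rfl

variable {M R' N g}

theorem tensorEquiv_eps (hg : IsBaseChange R' g) (P : Type*) [AddCommGroup P] [Module R' P]
    [Module R P] [IsScalarTower R R' P] (z : P ⊗[R] M) :
    hg.tensorEquiv P (eps M R' N g P z) = z := by
  induction z using TensorProduct.induction_on with
  | zero => simp
  | add a b ha hb => rw [map_add, map_add, ha, hb]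
  | tmul p m => simp [IsBaseChange.tensorEquiv, IsBaseChange.equiv_symm_apply]

theorem eps_injective (hg : IsBaseChange R' g) (P : Type*) [AddCommGroup P] [Module R' P]
    [Module R P] [IsScalarTower R R' P] : Injective (eps M R' N g P) := by
  intro a b hab
  rw [← tensorEquiv_eps hg P a, ← tensorEquiv_eps hg P b, hab]

theorem eps_tensorEquiv (hg : IsBaseChange R' g) (P : Type*) [AddCommGroup P] [Module R' P]
    [Module R P] [IsScalarTower R R' P] (x : P ⊗[R'] N) :
    eps M R' N g P (hg.tensorEquiv P x) = x := by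
  apply (hg.tensorEquiv P).injective
  rw [tensorEquiv_eps]

variable (M R' N g)

theorem lemmaA_aux [Module.Flat (R ⧸ I) ((R ⧸ I) ⊗[R] M)] (hg : IsBaseChange R' g)
    (I' : Ideal R') (a : ↥I →ₗ[R] ↥I') (ha : ∀ i, ((a i : ↥I') : R') = algebraMap R R' i)
    (x : ↥I' ⊗[R'] N) (hx : I'.subtype.rTensor N x = 0) :
    x ∈ Submodule.span R' ((fun k : ↥I ⊗[R] M =>
        TensorProduct.mapOfCompatibleSMul R' R R ↥I' N
          (TensorProduct.map a g k)) '' {k | I.subtype.rTensor M k = 0}) := by
  let U : Submodule R R' := I'.restrictScalars R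
  have hU : I • (⊤ : Submodule R R') ≤ U := by
    rw [Submodule.smul_le]
    intro r hr n _
    show r • n ∈ I'
    rw [Algebra.smul_def, ← ha ⟨r, hr⟩]
    exact Ideal.mul_mem_right _ _ (a ⟨r, hr⟩).2
  let c : ↥U →ₗ[R] ↥I' :=
    { toFun := fun u => ⟨u.1, u.2⟩, map_add' := fun _ _ => rfl, map_smul' := fun _ _ => rfl }
  let c' : ↥I' →ₗ[R] ↥U :=
    { toFun := fun u => ⟨u.1, u.2⟩, map_add' := fun _ _ => rfl, map_smul' := fun _ _ => rfl }
  have hcc : c ∘ₗ c' = LinearMap.id := LinearMap.ext fun _ => rfl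
  obtain ⟨z, hz⟩ : ∃ z, z = c'.rTensor M (hg.tensorEquiv ↥I' x) := ⟨_, rfl⟩
  have hzx : eps M R' N g ↥I' (c.rTensor M z) = x := by
    rw [hz, ← LinearMap.rTensor_comp_apply, hcc, LinearMap.rTensor_id, LinearMap.id_apply,
      eps_tensorEquiv]
  have hnat : ∀ z : ↥U ⊗[R] M, eps M R' N g R' (U.subtype.rTensor M z) =
      I'.subtype.rTensor N (eps M R' N g ↥I' (c.rTensor M z)) := by
    intro z
    induction z using TensorProduct.induction_on with
    | zero => simp
    | add a b ha hb => simp only [map_add, ha, hb]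
    | tmul u m => rfl
  have hz0 : U.subtype.rTensor M z = 0 := by
    apply eps_injective hg R'
    rw [hnat, hzx, hx, map_zero]
  obtain ⟨t, ht⟩ := star_general I M U hU z hz0
  have hkey : ∀ (c₀ : ↥I ⊗[R] M) (v : R'),
      eps M R' N g ↥I' (c.rTensor M (psi I M U hU (c₀ ⊗ₜ v))) =
        v • (TensorProduct.mapOfCompatibleSMul R' R R ↥I' N
          (TensorProduct.map a g c₀) : ↥I' ⊗[R'] N) := by
    intro c₀ v
    induction c₀ using TensorProduct.induction_on with
    | zero => simp
    | add p q hp hq => simp only [TensorProduct.add_tmul, map_add, smul_add, hp, hq]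
    | tmul i m =>
      rw [psi_tmul, LinearMap.rTensor_tmul, eps_tmul, TensorProduct.map_tmul,
        TensorProduct.mapOfCompatibleSMul_tmul, TensorProduct.smul_tmul']
      congr 1
      apply Subtype.ext
      show (i : R) • v = v * ((a i : ↥I') : R')
      rw [ha, Algebra.smul_def, mul_comm]
  rw [← hzx, ← ht]
  obtain ⟨S, hS⟩ : ∃ S : Submodule R' (↥I' ⊗[R'] N), S = Submodule.span R' ((fun k : ↥I ⊗[R] M =>
        TensorProduct.mapOfCompatibleSMul R' R R ↥I' N
          (TensorProduct.map a g k)) '' {k | I.subtype.rTensor M k = 0}) := ⟨_, rfl⟩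
  rw [← hS]
  clear ht
  induction t using TensorProduct.induction_on with
  | zero => simp
  | add p q hp hq =>
    simp only [map_add]
    exact S.add_mem hp hq
  | tmul k v =>
    rw [LinearMap.rTensor_tmul, Submodule.subtype_apply, hkey]
    apply S.smul_mem
    rw [hS]
    exact Submodule.subset_span ⟨k.1, k.2, rfl⟩

theorem lemmaA [Module.Flat (R ⧸ I) ((R ⧸ I) ⊗[R] M)] (hg : IsBaseChange R' g)
    (x : ↥(I.map (algebraMap R R')) ⊗[R'] N)
    (hx : (I.map (algebraMap R R')).subtype.rTensor N x = 0) :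
    x ∈ Submodule.span R' ((fun k : ↥I ⊗[R] M =>
        TensorProduct.mapOfCompatibleSMul R' R R ↥(I.map (algebraMap R R')) N
          (TensorProduct.map (Algebra.idealMap R' I) g k)) '' {k | I.subtype.rTensor M k = 0}) :=
  lemmaA_aux I M R' N g hg _ (Algebra.idealMap R' I) (fun _ => rfl) x hx

end lemmaA

section lemmaB

theorem lemmaB {R' T : Type*} [CommRing R'] [CommRing T] [Algebra R' T] (W : Submonoid T)
    {N M' : Type*} [AddCommGroup N] [Module R' N] [Module T N] [IsScalarTower R' T N]
    [AddCommGroup M'] [Module R' M'] [Module T M'] [IsScalarTower R' T M']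
    (φ : N →ₗ[T] M') [IsLocalizedModule W φ]
    {P₁ P₂ : Type*} [AddCommGroup P₁] [Module R' P₁] [AddCommGroup P₂] [Module R' P₂]
    (j : P₁ →ₗ[R'] P₂)
    (h : ∀ y : N ⊗[R'] P₁, j.lTensor N y = 0 → (φ.restrictScalars R').rTensor P₁ y = 0) :
    Function.Injective (j.lTensor M') := by
  have hmap := IsLocalizedModule.map_lTensor (R := R') (A := T) W (f := j) (g := φ)
  rw [injective_iff_map_eq_zero]
  intro x hx
  obtain ⟨⟨y, w⟩, hyw⟩ := IsLocalizedModule.surj W (AlgebraTensorModule.rTensor R' P₁ φ) x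
  simp only [Submonoid.smul_def] at hyw
  have h1 : AlgebraTensorModule.rTensor R' P₂ φ (AlgebraTensorModule.lTensor T N j y) = 0 := by
    rw [← IsLocalizedModule.map_apply W (AlgebraTensorModule.rTensor R' P₁ φ)
      (AlgebraTensorModule.rTensor R' P₂ φ), hmap, ← hyw, map_smul]
    rw [show (AlgebraTensorModule.lTensor T M' j) x = j.lTensor M' x from rfl, hx, smul_zero]
  obtain ⟨w', hw'⟩ := (IsLocalizedModule.eq_zero_iff W (AlgebraTensorModule.rTensor R' P₂ φ)).mp h1
  simp only [Submonoid.smul_def] at hw'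
  have h2 : j.lTensor N ((w' : T) • y) = 0 := by
    have : AlgebraTensorModule.lTensor T N j ((w' : T) • y) = 0 := by rw [map_smul, hw']
    exact this
  have h3 := h _ h2
  have h4 : AlgebraTensorModule.rTensor R' P₁ φ ((w' : T) • y) = 0 := h3
  rw [map_smul, ← hyw, ← mul_smul] at h4
  apply IsLocalizedModule.smul_injective (AlgebraTensorModule.rTensor R' P₁ φ) (w' * w)
  simp only [smul_zero, Submonoid.smul_def, Submonoid.coe_mul]
  exact h4

end lemmaB

section core

theorem core {R R' : Type*} [CommRing R] [CommRing R'] [Algebra R R'] (I : Ideal R)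
    (M : Type*) [AddCommGroup M] [Module R M]
    (T : Type*) [CommRing T] [Algebra R' T] (W : Submonoid T)
    (N : Type*) [AddCommGroup N] [Module R' N] [Module T N] [IsScalarTower R' T N]
    [Module R N] [IsScalarTower R R' N]
    (M' : Type*) [AddCommGroup M'] [Module R' M'] [Module T M'] [IsScalarTower R' T M']
    [Module R M'] [IsScalarTower R R' M']
    (φ : N →ₗ[T] M') [IsLocalizedModule W φ]
    (g : M →ₗ[R] N) (hg : IsBaseChange R' g) (f : M →ₗ[R] M') (hφg : ∀ m, φ (g m) = f m)
    [h2 : Module.Flat (R ⧸ I) ((R ⧸ I) ⊗[R] M)]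
    (h3 : ∀ x : ↥I ⊗[R] M, (Submodule.subtype I).rTensor M x = 0 →
      (TensorProduct.mapOfCompatibleSMul R' R R ↥(I.map (algebraMap R R')) M')
        ((TensorProduct.map (Algebra.idealMap R' I) f) x) = 0) :
    Function.Injective ((I.map (algebraMap R R')).subtype.rTensor M') ∧
      Module.Flat (R' ⧸ I.map (algebraMap R R')) ((R' ⧸ I.map (algebraMap R R')) ⊗[R'] M') := by
  constructor
  · rw [← LinearMap.lTensor_inj_iff_rTensor_inj]
    apply lemmaB W φ (I.map (algebraMap R R')).subtype
    intro y hy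
    have hy' : (I.map (algebraMap R R')).subtype.rTensor N
        (TensorProduct.comm R' N ↥(I.map (algebraMap R R')) y) = 0 := by
      rw [← LinearMap.comm_comp_lTensor_comp_comm_eq]
      simp [hy]
    have hspan := lemmaA I M R' N g hg _ hy'
    let ψ : ↥(I.map (algebraMap R R')) ⊗[R'] N →ₗ[R'] ↥(I.map (algebraMap R R')) ⊗[R'] M' :=
      (φ.restrictScalars R').lTensor ↥(I.map (algebraMap R R'))
    have hψ : ∀ k : ↥I ⊗[R] M, ψ (TensorProduct.mapOfCompatibleSMul R' R R
        ↥(I.map (algebraMap R R')) N (TensorProduct.map (Algebra.idealMap R' I) g k)) =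
        TensorProduct.mapOfCompatibleSMul R' R R ↥(I.map (algebraMap R R')) M'
          (TensorProduct.map (Algebra.idealMap R' I) f k) := by
      intro k
      induction k using TensorProduct.induction_on with
      | zero => simp
      | add a b ha hb => simp only [map_add, ha, hb]
      | tmul i m => simp [ψ, hφg]
    have hker : Submodule.span R' ((fun k : ↥I ⊗[R] M =>
        TensorProduct.mapOfCompatibleSMul R' R R ↥(I.map (algebraMap R R')) N
          (TensorProduct.map (Algebra.idealMap R' I) g k)) '' {k | I.subtype.rTensor M k = 0}) ≤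
        LinearMap.ker ψ := by
      rw [Submodule.span_le]
      rintro _ ⟨k, hk, rfl⟩
      rw [SetLike.mem_coe, LinearMap.mem_ker, hψ]
      exact h3 k hk
    have h0 : ψ (TensorProduct.comm R' N ↥(I.map (algebraMap R R')) y) = 0 := hker hspan
    rw [← LinearMap.comm_comp_lTensor_comp_comm_eq]
    simp only [LinearMap.comp_apply, LinearEquiv.coe_coe]
    rw [show (LinearMap.lTensor ↥(I.map (algebraMap R R')) (φ.restrictScalars R'))
      (TensorProduct.comm R' N ↥(I.map (algebraMap R R')) y) = 0 from h0, map_zero]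
  · haveI hflatN : Module.Flat (R' ⧸ I.map (algebraMap R R'))
        ((R' ⧸ I.map (algebraMap R R')) ⊗[R'] N) := by
      haveI := flat_quotient_baseChange M R' I (I.map (algebraMap R R')) le_rfl
      exact Module.Flat.of_linearEquiv (AlgebraTensorModule.congr
        (LinearEquiv.refl (R' ⧸ I.map (algebraMap R R')) (R' ⧸ I.map (algebraMap R R')))
        hg.equiv.symm)
    apply flat_baseChange_of_rTensor_injective M' (R' ⧸ I.map (algebraMap R R'))
    intro 𝔞
    rw [← LinearMap.lTensor_inj_iff_rTensor_inj]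
    apply lemmaB W φ (𝔞.subtype.restrictScalars R')
    intro y hy
    have hinjN : Function.Injective ((𝔞.subtype.restrictScalars R').lTensor N) := by
      rw [LinearMap.lTensor_inj_iff_rTensor_inj]
      exact rTensor_injective_of_flat_baseChange N (R' ⧸ I.map (algebraMap R R')) 𝔞.subtype
        𝔞.injective_subtype
    have : y = 0 := hinjN (by rw [hy, map_zero])
    rw [this, map_zero]

end core

section main

attribute [local instance] Algebra.TensorProduct.rightAlgebra

theorem main (R S R' S' : Type u) [CommRing R] [CommRing S] [CommRing R'] [CommRing S']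
    [IsLocalRing R] [IsLocalRing S] [IsLocalRing R'] [IsLocalRing S']
    [IsNoetherianRing R] [IsNoetherianRing S] [IsNoetherianRing R'] [IsNoetherianRing S']
    [Algebra R S] [Algebra R R'] [Algebra S S'] [Algebra R' S'] [Algebra R S']
    [IsScalarTower R S S'] [IsScalarTower R R' S']
    [IsLocalHom (algebraMap R S)] [IsLocalHom (algebraMap R R')] [IsLocalHom (algebraMap S S')]
    [IsLocalHom (algebraMap R' S')]
    (I : Ideal R) (hI : I ≠ ⊤) (M : Type u) [AddCommGroup M] [Module S M] [Module R M]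
    [IsScalarTower R S M] [Module.Finite S M]
    (M' : Type u) [AddCommGroup M'] [Module S' M'] [Module R' M'] [IsScalarTower R' S' M']
    [Module S M'] [IsScalarTower S S' M'] [Module R M'] [IsScalarTower R R' M']
    [IsScalarTower R S M']
    (f : M →ₗ[S] M') (hf : IsBaseChange S' f)
    [Algebra (S ⊗[R] R') S']
    (halg : ∀ (s : S) (r' : R'), algebraMap (S ⊗[R] R') S' (s ⊗ₜ r') =
      algebraMap S S' s * algebraMap R' S' r')
    (W : Submonoid (S ⊗[R] R')) [IsLocalization W S']
    (h2 : Module.Flat (R ⧸ I) ((R ⧸ I) ⊗[R] M))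
    (h3 : ∀ x : ↥I ⊗[R] M, (Submodule.subtype I).rTensor M x = 0 →
      (TensorProduct.mapOfCompatibleSMul R' R R ↥(I.map (algebraMap R R')) M')
        ((TensorProduct.map (Algebra.idealMap R' I) (f.restrictScalars R)) x) = 0) :
    Module.Flat R' M' := by
  letI modTM' : Module (S ⊗[R] R') M' := Module.compHom M' (algebraMap (S ⊗[R] R') S')
  have smul_def' : ∀ (t : S ⊗[R] R') (m : M'), t • m = algebraMap (S ⊗[R] R') S' t • m :=
    fun _ _ => rfl
  haveI : IsScalarTower (S ⊗[R] R') S' M' := ⟨fun t s' m => by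
    rw [smul_def', Algebra.smul_def, mul_smul]⟩
  haveI : IsScalarTower S (S ⊗[R] R') S' := IsScalarTower.of_algebraMap_eq (fun s => by
    rw [Algebra.TensorProduct.algebraMap_apply, halg, map_one, mul_one]
    rfl)
  haveI : IsScalarTower R' (S ⊗[R] R') S' := IsScalarTower.of_algebraMap_eq (fun r' => by
    rw [Algebra.TensorProduct.right_algebraMap_apply, halg, map_one, one_mul])
  haveI : IsScalarTower S (S ⊗[R] R') M' := IsScalarTower.of_algebraMap_smul (fun s x => by
    rw [smul_def', ← IsScalarTower.algebraMap_apply S (S ⊗[R] R') S', algebraMap_smul])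
  haveI : IsScalarTower R' (S ⊗[R] R') M' := IsScalarTower.of_algebraMap_smul (fun r' x => by
    rw [smul_def', ← IsScalarTower.algebraMap_apply R' (S ⊗[R] R') S', algebraMap_smul])
  let φ : (S ⊗[R] R') ⊗[S] M →ₗ[S ⊗[R] R'] M' := (TensorProduct.isBaseChange S M (S ⊗[R] R')).lift f
  have hφ : IsBaseChange S' φ := by
    refine IsBaseChange.of_comp (TensorProduct.isBaseChange S M (S ⊗[R] R')) ?_
    rw [IsBaseChange.lift_comp]
    exact hf
  haveI : IsLocalizedModule W φ := (isLocalizedModule_iff_isBaseChange W S' φ).mpr hφ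
  let g : M →ₗ[R] (S ⊗[R] R') ⊗[S] M := (TensorProduct.mk S (S ⊗[R] R') M 1).restrictScalars R
  have hg : IsBaseChange R' g :=
    IsBaseChange.of_equiv (Algebra.IsPushout.cancelBaseChange R R' S (S ⊗[R] R') M).symm
      (fun m => by simp [g])
  have hφg : ∀ m, φ (g m) = (f.restrictScalars R) m := fun m =>
    IsBaseChange.lift_eq (TensorProduct.isBaseChange S M (S ⊗[R] R')) f m
  obtain ⟨hinj, hflat⟩ := core I M (S ⊗[R] R') W ((S ⊗[R] R') ⊗[S] M) M' φ g hg
    (f.restrictScalars R) hφg h3
  have hI' : I.map (algebraMap R R') ≠ ⊤ := by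
    have h1 : I.map (algebraMap R R') ≤ IsLocalRing.maximalIdeal R' :=
      (Ideal.map_mono (IsLocalRing.le_maximalIdeal hI)).trans
        (IsLocalRing.map_maximalIdeal_le (algebraMap R R'))
    intro h
    rw [h] at h1
    exact (IsLocalRing.maximalIdeal.isMaximal R').ne_top (top_le_iff.mp h1)
  haveI : Module.Finite S' M' := by
    haveI : Module.Finite S' (S' ⊗[S] M) := Module.Finite.base_change S S' M
    exact Module.Finite.equiv hf.equiv
  exact Groth.Agent.S0391.result (R := R') (S := S') (M := M') (I.map (algebraMap R R')) hI'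
    hinj hflat

end main

end helpers

/-- Let R → S, R → R', S → S' and R' → S' be local homomorphisms of Noetherian local rings forming a
commutative square, I ⊊ R an ideal, M a finite S-module, I' = IR' and M' = M ⊗_S S' (given through a
base-change map f : M → M'). Assume (1) S' is a localization of S ⊗_R R' via the induced map, (2)
M/IM is flat over R/I, and (3) the map Tor_1^R(M, R/I) → Tor_1^{R'}(M', R'/I') is zero — with
Tor_1(−, R/I) computed as the kernel of I ⊗_R M → M, this says that every element of that kernel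
goes to zero under the natural map I ⊗_R M → I' ⊗_{R'} M'. Then M' is flat over R'. -/
theorem result
    (R S R' S' : Type u) [CommRing R] [CommRing S] [CommRing R'] [CommRing S']
    [IsLocalRing R] [IsLocalRing S] [IsLocalRing R'] [IsLocalRing S']
    [IsNoetherianRing R] [IsNoetherianRing S] [IsNoetherianRing R'] [IsNoetherianRing S']
    [Algebra R S] [Algebra R R'] [Algebra S S'] [Algebra R' S'] [Algebra R S']
    [IsScalarTower R S S'] [IsScalarTower R R' S']
    [IsLocalHom (algebraMap R S)] [IsLocalHom (algebraMap R R')] [IsLocalHom (algebraMap S S')]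
    [IsLocalHom (algebraMap R' S')]
    (I : Ideal R) (hI : I ≠ ⊤) (M : Type u) [AddCommGroup M] [Module S M] [Module R M] [IsScalarTower R S M]
    [Module.Finite S M]
    (M' : Type u) [AddCommGroup M'] [Module S' M'] [Module R' M'] [IsScalarTower R' S' M']
    [Module S M'] [IsScalarTower S S' M'] [Module R M'] [IsScalarTower R R' M'] [IsScalarTower R S M']
    (f : M →ₗ[S] M') (hf : IsBaseChange S' f)
    (h1 : ∃ W : Submonoid (S ⊗[R] R'),
      letI : Algebra (S ⊗[R] R') S' :=
        (Algebra.TensorProduct.lift (IsScalarTower.toAlgHom R S S') (IsScalarTower.toAlgHom R R' S')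
          (fun s r => Commute.all _ _)).toRingHom.toAlgebra;
      IsLocalization W S')
    (h2 : Module.Flat (R ⧸ I) ((R ⧸ I) ⊗[R] M))
    (h3 : ∀ x : ↥I ⊗[R] M, (Submodule.subtype I).rTensor M x = 0 →
      (TensorProduct.mapOfCompatibleSMul R' R R ↥(I.map (algebraMap R R')) M')
        ((TensorProduct.map (Algebra.idealMap R' I) (f.restrictScalars R)) x) = 0) :
    Module.Flat R' M' := by
  obtain ⟨W, hW⟩ := h1
  letI : Algebra (S ⊗[R] R') S' :=
    (Algebra.TensorProduct.lift (IsScalarTower.toAlgHom R S S') (IsScalarTower.toAlgHom R R' S')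
      (fun s r => Commute.all _ _)).toRingHom.toAlgebra
  haveI : IsLocalization W S' := hW
  refine main R S R' S' I hI M M' f hf ?_ W h2 h3
  intro s r'
  rw [RingHom.algebraMap_toAlgebra]
  simp

end Groth.Agent.S12233
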