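import Groth.Statements.S1224
import Groth.Statements.S1224

set_option autoImplicit false
universe u
open FlatMor

open TensorProduct

namespace Groth.Agent.S1224

attribute [local instance] Algebra.TensorProduct.rightAlgebra

/-- Ring form, X = Spec B affine, where proper support means finite support: let B be a finite type
A-algebra and N a finite B-module such that B modulo the annihilator of N is finite over A. Then N
is universally pure relative to Spec A. -/
theorem result {A B : Type u} [CommRing A] [CommRing B] [Algebra A B] [Algebra.FiniteType A B]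
    (N : Type u) [AddCommGroup N] [Module B N] [Module A N] [IsScalarTower A B N] [Module.Finite B N]
    [Module.Finite A (B ⧸ Module.annihilator B N)] : FlatCA.IsUnivPure A B N := by
  intro p _ A' B' N' _ _ _ _ _ _ _ _ _ _ _ _ _ _ f t' t _ _ P _ himp
  obtain ⟨hpo, hbc, hle, hto, hPo, hass, hno⟩ := himp
  -- Step 0: comap of the fibre ideal is contained in P
  have key : ∀ s : B', (Algebra.TensorProduct.includeRight (R := A') (A := t'.ResidueField)
      (B := B')) s ∈ FlatCA.fiberIdeal t' P → s ∈ P := by
    intro s hs
    have hover : t' = P.comap (Algebra.ofId A' B').toRingHom := hPo.over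
    let φ : t'.Fiber B' →ₐ[A'] P.ResidueField :=
      Algebra.TensorProduct.lift (Ideal.ResidueField.mapₐ t' P (Algebra.ofId A' B') hover)
        (IsScalarTower.toAlgHom A' B' P.ResidueField) (fun _ _ => .all _ _)
    have hq : FlatCA.fiberIdeal t' P ≤ RingHom.ker φ.toRingHom := by
      unfold FlatCA.fiberIdeal
      rw [Ideal.map_le_iff_le_comap]
      intro y hy
      rw [Ideal.mem_comap, RingHom.mem_ker]
      change φ ((1 : t'.ResidueField) ⊗ₜ[A'] y) = 0
      simp only [φ, Algebra.TensorProduct.lift_tmul, map_one, one_mul]
      exact Ideal.algebraMap_residueField_eq_zero.mpr hy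
    have h1 := hq hs
    rw [RingHom.mem_ker] at h1
    change φ ((1 : t'.ResidueField) ⊗ₜ[A'] s) = 0 at h1
    simp only [φ, Algebra.TensorProduct.lift_tmul, map_one, one_mul] at h1
    exact Ideal.algebraMap_residueField_eq_zero.mp h1
  -- Step 1: the annihilator of N maps into P
  have hann : ∀ b ∈ Module.annihilator B N, algebraMap B B' b ∈ P := by
    intro b hb
    apply key
    have hkill : ∀ n' : N', (algebraMap B B' b) • n' = 0 := by
      intro n'
      induction n' using hbc.inductionOn with
      | zero => simp
      | tmul n =>
        rw [algebraMap_smul, ← map_smul, Module.mem_annihilator.mp hb n, map_zero]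
      | smul c n' ih => rw [smul_comm, ih, smul_zero]
      | add x y hx hy => rw [smul_add, hx, hy, add_zero]
    have hkill2 : ∀ z : FlatCA.fiberMod t' B' N',
        ((Algebra.TensorProduct.includeRight (R := A') (A := t'.ResidueField)
          (B := B')) (algebraMap B B' b)) • z = 0 := by
      intro z
      have h2 : ∀ z : (t'.Fiber B') ⊗[B'] N',
          ((Algebra.TensorProduct.includeRight (R := A') (A := t'.ResidueField)
            (B := B')) (algebraMap B B' b)) • z = 0 := by
        intro z
        induction z using TensorProduct.induction_on with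
        | zero => simp
        | tmul y n' =>
          rw [TensorProduct.smul_tmul']
          have e : ((Algebra.TensorProduct.includeRight (R := A') (A := t'.ResidueField)
            (B := B')) (algebraMap B B' b)) • y = (algebraMap B B' b) • y := by
            rw [Algebra.smul_def (algebraMap B B' b) y]
            rfl
          rw [e, TensorProduct.smul_tmul, hkill n', TensorProduct.tmul_zero]
        | add x y hx hy => rw [smul_add, hx, hy, add_zero]
      exact h2 z
    obtain ⟨x, hx⟩ := hass.2
    rw [hx]
    apply Ideal.le_radical
    rw [Submodule.mem_colon_singleton]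
    exact hkill2 x
  -- Step 2: going up in the integral extension A' → B' ⧸ J'
  set J' : Ideal B' := (Module.annihilator B N).map (algebraMap B B') with hJ'
  have hJP : J' ≤ P := by
    rw [hJ', Ideal.map_le_iff_le_comap]; exact fun b hb => hann b hb
  have hintA : Algebra.IsIntegral A (B ⧸ Module.annihilator B N) := Algebra.IsIntegral.of_finite A _
  let g : (B ⧸ Module.annihilator B N) →ₐ[A] (B' ⧸ J') :=
    Ideal.quotientMapₐ J' (IsScalarTower.toAlgHom A B B') Ideal.le_comap_map
  have hb : ∀ b : B, IsIntegral A' (Ideal.Quotient.mk J' (algebraMap B B' b)) := by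
    intro b
    have h1 : IsIntegral A (Ideal.Quotient.mk (Module.annihilator B N) b) := hintA.isIntegral _
    have h2 : IsIntegral A (g (Ideal.Quotient.mk (Module.annihilator B N) b)) := h1.map g
    have h3 : g (Ideal.Quotient.mk (Module.annihilator B N) b) =
        Ideal.Quotient.mk J' (algebraMap B B' b) := rfl
    rw [h3] at h2
    exact h2.tower_top
  have hint : Algebra.IsIntegral A' (B' ⧸ J') := by
    constructor
    intro y
    obtain ⟨x, rfl⟩ := Ideal.Quotient.mk_surjective y
    induction x using hpo.out.inductionOn with
    | zero => rw [map_zero]; exact isIntegral_zero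
    | tmul a' => exact isIntegral_algebraMap (x := a')
    | smul c x ih =>
      rw [Algebra.smul_def, map_mul]
      exact (hb c).mul ih
    | add x y hx hy => rw [map_add]; exact hx.add hy
  have hcomap : (P.map (Ideal.Quotient.mk J')).comap (algebraMap A' (B' ⧸ J')) ≤ t := by
    intro a ha
    rw [Ideal.mem_comap] at ha
    have h1 : algebraMap A' B' a ∈ P := (Ideal.mem_quotient_iff_mem hJP).mp ha
    have h2 : a ∈ t' := by
      rw [hPo.over]; exact h1
    exact hle h2
  obtain ⟨Q, hQge, hQp, hQt⟩ :=
    Ideal.exists_ideal_over_prime_of_isIntegral t (P.map (Ideal.Quotient.mk J')) hcomap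
  haveI := hQp
  refine hno (Q.comap (Ideal.Quotient.mk J')) ?_ ⟨?_⟩
  · intro x hx
    rw [Ideal.mem_comap]
    exact hQge (Ideal.mem_map_of_mem _ hx)
  · rw [← hQt]
    rfl

end Groth.Agent.S1224
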