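import Groth.Statements.S12248
import Groth.Agent.Lib.Helper1.ArtFunProrepCrit
import Groth.Agent.Lib.Helper1.ArtFunHull
import Groth.Agent.Lib.Helper1.ArtFunTangentFin
import Groth.Agent.Lib.Helper1.ArtFunInduct

set_option autoImplicit false
universe u v
open CategoryTheory
open Deform

namespace Groth.Agent.S12248

open Groth.Agent.Lib.Helper1.ArtFunLib ArtFun.Art

/-- Let k be an algebraically closed field, Λ a complete local Noetherian k-algebra with residue field
k, and F a set-valued functor on local Artinian Λ-algebras with residue field k such that F(k) is a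
single point, with its k-vector-space structure on F(k[ε]) given as data compatible with ε ↦ cε and
(ε₁, ε₂) ↦ (ε, ε). Then F is prorepresentable (by a complete local Noetherian Λ-algebra with residue
field k) if and only if: the comparison map F(A' ×_A A'') → F(A') ×_{F(A)} F(A'') is surjective
whenever A'' → A is a small extension; it is bijective whenever A = k and A'' = k[ε]; F(k[ε]) is
finite-dimensional; and the comparison map F(A' ×_A A') → F(A') ×_{F(A)} F(A') is bijective for
every small extension A' → A. -/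
theorem result
    {k Λ : Type u} [Field k] [IsAlgClosed k] [CommRing Λ] [IsLocalRing Λ] [IsNoetherianRing Λ]
    [IsAdicComplete (IsLocalRing.maximalIdeal Λ) Λ] [Algebra k Λ] [Algebra Λ k] [IsScalarTower k Λ k]
    (F : ArtFun.Art Λ k ⥤ Type v) [ArtFun.TangentStr F] (h0 : ArtFun.H0 F) :
    ArtFun.IsProrepresentable F ↔
      (ArtFun.Hbar F ∧ ArtFun.Heps F ∧ ArtFun.Hfin F ∧ ArtFun.HSq F) := by
  have hsurj : Function.Surjective (algebraMap Λ k) := fun c => ⟨algebraMap k Λ c, by
    rw [← IsScalarTower.algebraMap_apply k Λ k]; rfl⟩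
  haveI : Module.Finite Λ k := Module.Finite.of_surjective (Algebra.linearMap Λ k) hsurj
  have hk : Subsingleton (Derivation Λ k k) := by
    refine ⟨fun D₁ D₂ => ?_⟩
    apply Derivation.ext
    intro c
    obtain ⟨l, rfl⟩ := hsurj c
    rw [Derivation.map_algebraMap, Derivation.map_algebraMap]
  constructor
  · intro hF
    have h01 := rs_of_isProrepresentable F hF
    obtain ⟨⟨R, ξ, hξ⟩⟩ := hF
    exact ⟨h01.2.hbar, h01.2.heps, hfin_of_surjective_dual F R ξ (hξ _).2,
      fun B A A' p₁ p₂ f h hf => h01.2 p₁ p₂ f f h hf.1⟩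
  · rintro ⟨h1, h2, h3, h4⟩
    obtain ⟨⟨R, ξ, hmini⟩⟩ := hasHull_of_s1_heps_hfin hk F h0 ((s1_iff_hbar F).2 h1) h2 h3
    exact ⟨⟨R, ξ, isUniversal_of_isMiniversal_of_hsq h0 h4 ξ hmini⟩⟩

end Groth.Agent.S12248
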