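import Groth.Statements.S12253
import Groth.Agent.Lib.Helper1.ArtFunProrepCrit
import Groth.Agent.Lib.Helper1.ArtFunHull
import Groth.Agent.Lib.Helper1.ArtFunTangentFin
import Groth.Agent.Lib.Helper1.ArtFunInduct

set_option autoImplicit false
universe u v
open CategoryTheory
open Deform

namespace Groth.Agent.S12253

open Groth.Agent.Lib.Helper1.ArtFunLib ArtFun.Art

/-- Let k be an algebraically closed field, Λ a complete local Noetherian k-algebra with residue field k
and F a set-valued functor on local Artinian Λ-algebras with residue field k such that F(k) is a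
single point, with its k-vector-space structure on F(k[ε]) given as data compatible with ε ↦ cε and
(ε₁, ε₂) ↦ (ε, ε). Then F is prorepresentable by a complete local Noetherian Λ-algebra with residue
field k if and only if F is left exact, i.e. the comparison map F(A' ×_A A'') → F(A') ×_{F(A)}
F(A'') is bijective for every fibre-product square, and F(k[ε]) is finite-dimensional. -/
theorem result
    {k Λ : Type u} [Field k] [IsAlgClosed k] [CommRing Λ] [IsLocalRing Λ] [IsNoetherianRing Λ]
    [IsAdicComplete (IsLocalRing.maximalIdeal Λ) Λ] [Algebra k Λ] [Algebra Λ k] [IsScalarTower k Λ k]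
    (F : ArtFun.Art Λ k ⥤ Type v) [ArtFun.TangentStr F] (h0 : ArtFun.H0 F) :
    ArtFun.IsProrepresentable F ↔ (ArtFun.IsLeftExact F ∧ ArtFun.Hfin F) := by
  have hsurj : Function.Surjective (algebraMap Λ k) := fun c => ⟨algebraMap k Λ c, by
    rw [← IsScalarTower.algebraMap_apply k Λ k]; rfl⟩
  haveI : Module.Finite Λ k := Module.Finite.of_surjective (Algebra.linearMap Λ k) hsurj
  have hk : Subsingleton (Derivation Λ k k) := by
    refine ⟨fun D₁ D₂ => ?_⟩
    apply Derivation.ext
    intro c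
    obtain ⟨l, rfl⟩ := hsurj c
    rw [Derivation.map_algebraMap, Derivation.map_algebraMap]
  constructor
  · intro hF
    obtain ⟨⟨R, ξ, hξ⟩⟩ := hF
    refine ⟨?_, hfin_of_surjective_dual F R ξ (hξ _).2⟩
    intro B A A' A'' p' p'' f' f'' h
    have hL := isLeftExact_hR R.carrier R.res p' p'' f' f'' h
    constructor
    · intro z₁ z₂ e
      obtain ⟨χ₁, rfl⟩ := (hξ B).2 z₁
      obtain ⟨χ₂, rfl⟩ := (hξ B).2 z₂
      have e1 : F.map p' (ξ.app B χ₁) = F.map p' (ξ.app B χ₂) := congrArg (fun t => t.1.1) e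
      have e2 : F.map p'' (ξ.app B χ₁) = F.map p'' (ξ.app B χ₂) := congrArg (fun t => t.1.2) e
      rw [← ξ.natural, ← ξ.natural] at e1 e2
      have := homSet_ext_of_isFibreProd h ((hξ _).1 e1) ((hξ _).1 e2)
      rw [this]
    · rintro ⟨⟨x', x''⟩, e⟩
      obtain ⟨φ', rfl⟩ := (hξ A').2 x'
      obtain ⟨φ'', rfl⟩ := (hξ A'').2 x''
      have e' : ArtFun.HomSet.map f' φ' = ArtFun.HomSet.map f'' φ'' := by
        apply (hξ A).1
        rw [ξ.natural, ξ.natural]
        exact e
      refine ⟨ξ.app B (fpLift h φ' φ'' e'), ?_⟩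
      apply ArtFun.FibProd.ext
      · change F.map p' (ξ.app B (fpLift h φ' φ'' e')) = ξ.app A' φ'
        rw [← ξ.natural, fpLift_fst]
      · change F.map p'' (ξ.app B (fpLift h φ' φ'' e')) = ξ.app A'' φ''
        rw [← ξ.natural, fpLift_snd]
  · rintro ⟨hL, h3⟩
    have h1 : ArtFun.S1 F := fun B A A' A'' p' p'' f' f'' h _ => (hL p' p'' f' f'' h).2
    have h2 : ArtFun.Heps F := fun B A' p' p'' h => hL p' p'' _ _ h
    have h4 : ArtFun.HSq F := fun B A A' p₁ p₂ f h _ => hL p₁ p₂ f f h
    obtain ⟨⟨R, ξ, hmini⟩⟩ := hasHull_of_s1_heps_hfin hk F h0 h1 h2 h3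
    exact ⟨⟨R, ξ, isUniversal_of_isMiniversal_of_hsq h0 h4 ξ hmini⟩⟩

end Groth.Agent.S12253
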