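import Groth.Statements.S12254
import Mathlib
import Groth.Agent.Helper19.AutDef7
import Groth.Agent.Helper19.AutDef10
import Groth.Agent.Helper19.AutDef11
import Groth.Agent.S5005
import Groth.Agent.Lib.Helper24.AlgSpMonoUnram
-- import your own Groth.Agent.* helpers here

set_option autoImplicit false
universe u
open CategoryTheory CategoryTheory.Limits AlgebraicGeometry
open Deform

namespace Groth.Agent.S12254

/-- Let k be an algebraically closed field and X a projective k-scheme, given with a closed immersion
into some P^n_k over k. Then the space of infinitesimal automorphisms H^0(X, T_X) =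
Hom_{O_X}(Ω_{X/k}, O_X) vanishes if and only if, for every local Artinian k-algebra A with residue
field k and every deformation of X over A (a scheme flat over Spec A together with a morphism from X
identifying X with the closed fibre), the only automorphism of the total space over Spec A
compatible with the inclusion of X is the identity. -/
theorem result
    {k : Type u} [Field k] [IsAlgClosed k] (X : Scheme.{u}) (x : X ⟶ Spec (CommRingCat.of k))
    [LocallyOfFiniteType x] [IsSeparated x] [QuasiCompact x]
    (hproj : ∃ (n : ℕ) (c : X ⟶ CohB1.ProjSpaceOver n (Spec (CommRingCat.of k))),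
      IsClosedImmersion c ∧ c ≫ CohB1.ProjSpaceOver.toBase n (Spec (CommRingCat.of k)) = x) :
    Subsingleton (Omega.sheaf x ⟶ Coh.structureModule X) ↔
      ∀ (A : ArtFun.Art k k) (ξ : ArtFun.DefSch X x A) (e : ξ.Iso ξ), e.iso.hom = 𝟙 ξ.total := by
  have huniv := Groth.Agent.S5005.result x
  -- vanishing of all derivations is equivalent to the vanishing of `Hom(Ω, O)`
  have key : Subsingleton (Omega.sheaf x ⟶ Coh.structureModule X) ↔
      ∀ (D : OmegaSh.Der x (Coh.structureModule X)) (V : X.Opens) (s : Γ(X, V)),
        D.d (X := Opposite.op V) s = 0 := by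
    constructor
    · intro hsub D V s
      obtain ⟨δ, hδ, -⟩ := huniv (Coh.structureModule X) D
      have h0 : δ = 0 := Subsingleton.elim _ _
      rw [← hδ, h0]
      rfl
    · intro hder
      refine ⟨fun δ δ' => ?_⟩
      obtain ⟨δ₀, -, huniq⟩ := huniv (Coh.structureModule X)
        ((OmegaSh.dOmega x).postcomp δ.val)
      have h1 : (OmegaSh.dOmega x).postcomp δ'.val = (OmegaSh.dOmega x).postcomp δ.val := by
        ext V s
        rw [hder _ V.unop s, hder _ V.unop s]
      rw [huniq δ rfl, huniq δ' h1]
  rw [key]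
  constructor
  · intro hder A ξ e
    exact Groth.Agent.Helper19.AutDef.eq_id_of_der_eq_zero (ρ := A.res.toRingHom) A.res_surjective ξ.isPullback e.hom_f e.i_hom
      hder
  · intro hall D V s
    let R := ArtFun.Art.dual k k
    have hx : Flat x := inferInstance
    let ξ := ArtFun.DefSch.trivial X x hx R
    have hρ : Function.Surjective (R.res.toRingHom) := R.res_surjective
    have hc : IsPullback ξ.i x ξ.f (Spec.map (CommRingCat.ofHom R.res.toRingHom)) := ξ.isPullback
    let pr : ξ.total ⟶ X := pullback.fst x (ArtFun.Art.specMap (ArtFun.Art.ofBase R))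
    have hpr : ξ.i ≫ pr = 𝟙 X := ArtFun.DefSch.baseChange_i_fst _ _
    let ε : R := (DualNumber.eps : DualNumber k)
    have hε : ε * ε = 0 := DualNumber.eps_mul_eps
    have hρε : R.res.toRingHom ε = 0 := TrivSqZeroExt.fst_inr k (1 : k)
    have hε0 : ε ≠ 0 := Groth.Agent.Helper19.AutDef.eps_ne_zero k
    have hker : RingHom.ker (CommRingCat.ofHom R.res.toRingHom).hom ^ 2 = ⊥ := Groth.Agent.Helper19.AutDef.ker_fst_sq k
    haveI : IsClosedImmersion (Spec.map (CommRingCat.ofHom R.res.toRingHom)) :=
      Groth.Agent.Helper19.AutDef.isClosedImmersion_specRho _ hρ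
    have hsq : ξ.i.ker ^ 2 = ⊥ :=
      Groth.Agent.Helper19.DefSm.ker_sq_eq_bot_of_isPullback hc
        (Groth.Agent.Lib.Helper24.AlgSpMonoUnram.ker_SpecMap_pow_eq_bot _ 2 hker)
    have hC : IsPullback pr ξ.f x
        (Spec.map (CommRingCat.ofHom (ArtFun.Art.ofBase R).toAlgHom.toRingHom)) :=
      IsPullback.of_hasPullback _ _
    haveI : Flat ξ.f := ξ.flat
    haveI := Groth.Agent.Helper19.AutDef.isIso_autD hρ hc hpr hε hρε D hsq hC
    let e : ξ.Iso ξ := ⟨asIso (Groth.Agent.Helper19.AutDef.autD hρ hc hpr hε hρε D hsq hC), Groth.Agent.Helper19.AutDef.autD_f hρ hc hpr hε hρε D hsq hC,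
      Groth.Agent.Helper19.AutDef.i_autD hρ hc hpr hε hρε D hsq hC⟩
    have h1 : Groth.Agent.Helper19.AutDef.autD hρ hc hpr hε hρε D hsq hC = 𝟙 _ := hall R ξ e
    exact Groth.Agent.Helper19.AutDef.d_eq_zero_of_autD_eq_id hρ hc hpr hε hρε D hsq hC hε0 h1 V s

end Groth.Agent.S12254
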