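import Groth.Statements.S12261
import Groth.Agent.Lib.Helper1.AH14
import Groth.Agent.Lib.Helper1.ArtFunProrepCrit
import Groth.Agent.Lib.Helper1.ArtFunTangentStr

set_option autoImplicit false
universe u
open CategoryTheory CategoryTheory.Limits AlgebraicGeometry
open Deform

namespace Groth.Agent.S12261

/-- Let k be an algebraically closed field, Y a separated k-scheme of finite type and X ⊆ Y the closed
subscheme of a quasi-coherent ideal sheaf I₀; assume X is projective over k, i.e. X admits a closed
immersion over k into some projective space P^n_k. Then the local Hilbert functor of X in Y (closed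
subschemes of Y ×_k Spec A flat over Spec A restricting to X on the closed fibre, for A local
Artinian with residue field k) is prorepresentable by a complete local Noetherian k-algebra with
residue field k. (The published statement assumes only that the space of global sections of the
normal sheaf of X in Y is finite-dimensional, X projective being the named instance; this row states
the projective case.) -/
theorem result
    {k : Type u} [Field k] [IsAlgClosed k] (Y : Scheme.{u}) (y : Y ⟶ Spec (CommRingCat.of k))
    [LocallyOfFiniteType y] [IsSeparated y] [QuasiCompact y] (I₀ : Y.IdealSheafData)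
    (hproj : ∃ (n : ℕ) (c : I₀.subscheme ⟶ CohB1.ProjSpaceOver n (Spec (CommRingCat.of k))),
      IsClosedImmersion c ∧ c ≫ CohB1.ProjSpaceOver.toBase n (Spec (CommRingCat.of k)) = I₀.subschemeι ≫ y) :
    ArtFun.IsProrepresentable (ArtFun.localHilb Y y I₀) := by
  obtain ⟨n, c, hc, hk⟩ := hproj
  haveI := hc
  letI oY : Y.Over (Spec (CommRingCat.of k)) := ⟨y⟩
  letI oX : I₀.subscheme.Over (Spec (CommRingCat.of k)) := ⟨I₀.subschemeι ≫ y⟩
  haveI : LocallyOfFiniteType (Y ↘ Spec (CommRingCat.of k)) := ‹LocallyOfFiniteType y›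
  have h0 := Groth.Agent.Lib.Helper1.AH.h0_localHilb Y y I₀
  have hrs : Groth.Agent.Lib.Helper1.ArtFunLib.RS (ArtFun.localHilb Y y I₀) :=
    fun B A A' A'' p' p'' f' f'' h hs =>
      ⟨Groth.Agent.Lib.Helper1.AH.cmp_injective Y y I₀ h,
        Groth.Agent.Lib.Helper1.AH.cmp_surjective Y y I₀ h hs⟩
  letI TS : ArtFun.TangentStr (ArtFun.localHilb Y y I₀) :=
    Groth.Agent.Lib.Helper1.ArtFunLib.TStr.tangentStr h0 hrs.heps
  haveI hfinV : Module.Finite k (ClSub.idealMod I₀ ⟶ ClSub.quotMod I₀) :=
    Groth.Agent.Lib.Helper1.AH.finite_hom_ideal_quot Y I₀ rfl n c hk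
  have hfin : ArtFun.Hfin (ArtFun.localHilb Y y I₀) :=
    Groth.Agent.Lib.Helper1.AH.hfin_localHilb y I₀ rfl hrs.heps
  exact Groth.Agent.Lib.Helper1.ArtFunLib.isProrepresentable_of_rs _ h0 hrs hfin
    (fun x₀ σ₁ σ₂ _ => Groth.Agent.Lib.Helper1.AH.base_hom_ext σ₁ σ₂)

end Groth.Agent.S12261
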