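import Groth.Statements.S12265
import Groth.Agent.Lib.Helper1.AH15
import Groth.Agent.Lib.Helper1.AH16
import Groth.Agent.Lib.Helper1.AH17
import Groth.Agent.Lib.Helper1.AH18
import Groth.Agent.Lib.Helper1.ArtFunTangentStr
import Groth.Agent.Lib.Helper29.VA7

set_option autoImplicit false
universe u
open CategoryTheory CategoryTheory.Limits AlgebraicGeometry
attribute [local instance] HasDerivedCategory.standard
open Deform

namespace Groth.Agent.S12265

/-- Let k be an algebraically closed field and Y a projective k-scheme (separated, of finite type, with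
a closed k-immersion into some P^m_k). Let (H, Z) represent the Hilbert functor of Y over k on
locally Noetherian k-schemes: H is locally Noetherian, Z ⊆ Y ×_k H is a closed subscheme proper and
flat over H, and every closed subscheme of Y ×_k T proper and flat over a locally Noetherian
k-scheme T is the pullback of Z along a unique k-morphism T → H. Let i : X → Y be a closed immersion
over k, N = Hom_{O_X}(I/I², O_X) its normal sheaf (the sheaf Hom of the conormal sheaf, taken as a
right adjoint, assumed to exist) and h : Spec k → H the k-point classifying X, i.e. the pullback of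
Z along h is X ⊆ Y ×_k Spec k. Then the Zariski tangent space of H at the point [X] = h(pt) and
H^0(X, N) have the same dimension: the dimension of m/m² over the residue field of the local ring of
H at [X] equals dim_k H^0(X, N). (The published statement gives a canonical isomorphism T_{[X]} H ≅
H^0(X, N); this row records the equality of dimensions.) -/
theorem result
    {k : Type u} [Field k] [IsAlgClosed k] (Y : Scheme.{u}) (y : Y ⟶ Spec (CommRingCat.of k))
    [LocallyOfFiniteType y] [IsSeparated y] [QuasiCompact y]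
    (hprojY : ∃ (m : ℕ) (c : Y ⟶ CohB1.ProjSpaceOver m (Spec (CommRingCat.of k))),
      IsClosedImmersion c ∧ c ≫ CohB1.ProjSpaceOver.toBase m (Spec (CommRingCat.of k)) = y)
    (H : Over (Spec (CommRingCat.of k))) (Z : FGA.HilbSet y H) (hH : FGA.HilbRepresentedBy y H Z)
    (X : Scheme.{u}) [X.Over (Spec (CommRingCat.of k))] (i : X ⟶ Y) [IsClosedImmersion i] (hi : i ≫ y = X ↘ (Spec (CommRingCat.of k)))
    [DCoh.HasSheafHom (Omega.conormal i)]
    (h : Over.mk (𝟙 (Spec (CommRingCat.of k))) ⟶ H)
    (hh : FGA.hilbPull y h Z.1 = i.ker.comap (pullback.fst y (Over.mk (𝟙 (Spec (CommRingCat.of k)))).hom)) :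
    Module.finrank (IsLocalRing.ResidueField (H.left.presheaf.stalk (h.left.base (IsLocalRing.closedPoint k))))
        (IsLocalRing.CotangentSpace (H.left.presheaf.stalk (h.left.base (IsLocalRing.closedPoint k)))) =
      Module.finrank k (Coh.HH X ((DCoh.sheafHom (Omega.conormal i)).obj (Coh.structureModule X)) 0) := by
  obtain ⟨m, c, hc, hcy⟩ := hprojY
  haveI : IsProper y := by
    rw [← hcy]
    haveI := Groth.Agent.Lib.Helper29.QCoh.isProper_toBase m (Spec (CommRingCat.of k))
    infer_instance
  have h0 := Groth.Agent.Lib.Helper1.AH.h0_localHilb Y y i.ker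
  have hrs : Groth.Agent.Lib.Helper1.ArtFunLib.RS (ArtFun.localHilb Y y i.ker) :=
    fun B A A' A'' p' p'' f' f'' h hs =>
      ⟨Groth.Agent.Lib.Helper1.AH.cmp_injective Y y i.ker h,
        Groth.Agent.Lib.Helper1.AH.cmp_surjective Y y i.ker h hs⟩
  letI TS : ArtFun.TangentStr (ArtFun.localHilb Y y i.ker) :=
    Groth.Agent.Lib.Helper1.ArtFunLib.TStr.tangentStr h0 hrs.heps
  obtain ⟨alg, π, ξ, hξ⟩ :=
    Groth.Agent.Lib.Helper1.AH.exists_family_bijective y H Z hH i.ker h hh
  haveI : IsLocallyNoetherian H.left := hH.1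
  have e0 := Groth.Agent.Lib.Helper1.ArtFunLib.finrank_cotangentSpace_eq_finrank_tangentSpace
    (H.left.presheaf.stalk (h.left.base (IsLocalRing.closedPoint k))) π ξ (hξ _)
  refine e0.trans ?_
  letI oY : Y.Over (Spec (CommRingCat.of k)) := ⟨y⟩
  have iOver : i.IsOver (Spec (CommRingCat.of k)) := ⟨hi⟩
  have inst : DCoh.HasSheafHom ((Scheme.Modules.pullback i).obj (ClSub.idealMod i.ker)) :=
    ‹DCoh.HasSheafHom (Omega.conormal i)›
  obtain ⟨e1⟩ := Groth.Agent.Lib.Helper1.AH.nonempty_tangent_linearEquiv y i.ker rfl hrs.heps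
  obtain ⟨q⟩ := Groth.Agent.Lib.Helper1.AH.nonempty_push_iso i
  let L : (ClSub.idealMod i.ker ⟶ ClSub.quotMod i.ker) →ₗ[k]
      (ClSub.idealMod i.ker ⟶ (Scheme.Modules.pushforward i).obj (Coh.structureModule X)) :=
    Linear.rightComp k (ClSub.idealMod i.ker) q.inv
  have hL : Function.Bijective L := by
    constructor
    · intro f g hfg
      exact (cancel_mono q.inv).1 hfg
    · intro g
      refine ⟨g ≫ q.hom, ?_⟩
      show (g ≫ q.hom) ≫ q.inv = g
      rw [Category.assoc, Iso.hom_inv_id, Category.comp_id]
  exact (e1.trans ((LinearEquiv.ofBijective L hL).trans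
    (Groth.Agent.Lib.Helper1.AH.PsiEquiv (k := k) i (ClSub.idealMod i.ker)))).finrank_eq

end Groth.Agent.S12265
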