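import Groth.Statements.S1227
import Mathlib

set_option autoImplicit false
universe u
open FlatMor

namespace Groth.Agent.S1227

open TensorProduct in
/-- Let u be a surjective linear map from a projective A-module M to an A-module N. Then there is an
ideal I of A such that for every A-algebra B, the base change u ⊗ 1 from B ⊗ M to B ⊗ N is bijective
if and only if the image of I in B is zero. -/
theorem result {A : Type u} [CommRing A] {M N : Type u} [AddCommGroup M] [Module A M] [Module.Projective A M]
    [AddCommGroup N] [Module A N] (u : M →ₗ[A] N) (hu : Function.Surjective u) :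
    ∃ I : Ideal A, ∀ (B : Type u) [CommRing B] [Algebra A B],
      Function.Bijective (u.baseChange B) ↔ I.map (algebraMap A B) = ⊥ := by
  classical
  obtain ⟨s, hs⟩ := (Module.projective_def' (R := A) (P := M)).mp inferInstance
  have hs' : ∀ x, Finsupp.linearCombination A id (s x) = x := fun x => LinearMap.congr_fun hs x
  refine ⟨Ideal.span {a | ∃ k ∈ LinearMap.ker u, ∃ m : M, a = s k m}, ?_⟩
  intro B _ _
  -- coordinates criterion
  have hcoord : ∀ k : M, ((1 : B) ⊗ₜ[A] k = 0) ↔ ∀ m : M, algebraMap A B (s k m) = 0 := by
    intro k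
    constructor
    · intro h m
      have h1 : (s.baseChange B) ((1 : B) ⊗ₜ[A] k) = 0 := by rw [h, map_zero]
      rw [LinearMap.baseChange_tmul] at h1
      have h2 := congrArg (fun z => TensorProduct.finsuppScalarRight A A B M z m) h1
      simp only [TensorProduct.finsuppScalarRight_apply_tmul_apply, map_zero, Finsupp.coe_zero,
        Pi.zero_apply] at h2
      rw [Algebra.algebraMap_eq_smul_one]
      exact h2
    · intro h
      have h1 : (1 : B) ⊗ₜ[A] (s k) = 0 := by
        apply (TensorProduct.finsuppScalarRight A A B M).injective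
        rw [map_zero]
        ext m
        rw [TensorProduct.finsuppScalarRight_apply_tmul_apply, ← Algebra.algebraMap_eq_smul_one]
        exact h m
      have h2 := congrArg ((Finsupp.linearCombination A (id : M → M)).baseChange B) h1
      rw [LinearMap.baseChange_tmul, hs', map_zero] at h2
      exact h2
  have hsurj : Function.Surjective (u.baseChange B) := by
    rw [LinearMap.baseChange_eq_ltensor]
    exact LinearMap.lTensor_surjective B hu
  have hexact : Function.Exact ((LinearMap.ker u).subtype.lTensor B) (u.lTensor B) :=
    lTensor_exact B (LinearMap.exact_subtype_ker_map u) hu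
  rw [Ideal.map_span, Ideal.span_eq_bot]
  constructor
  · rintro ⟨hinj, -⟩ _ ⟨a, ⟨k, hk, m, rfl⟩, rfl⟩
    have : (1 : B) ⊗ₜ[A] k = 0 := by
      apply hinj
      rw [LinearMap.baseChange_tmul, map_zero, LinearMap.mem_ker.mp hk, TensorProduct.tmul_zero]
    exact (hcoord k).mp this m
  · intro h
    refine ⟨?_, hsurj⟩
    rw [injective_iff_map_eq_zero]
    intro x hx
    rw [LinearMap.baseChange_eq_ltensor] at hx
    obtain ⟨y, rfl⟩ := (hexact x).mp hx
    clear hx
    induction y using TensorProduct.induction_on with
    | zero => simp
    | tmul b k =>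
      rw [LinearMap.lTensor_tmul]
      have h1 : (1 : B) ⊗ₜ[A] (k : M) = 0 :=
        (hcoord k).mpr (fun m => h _ ⟨_, ⟨k, k.2, m, rfl⟩, rfl⟩)
      have : b ⊗ₜ[A] ((LinearMap.ker u).subtype k) = b • ((1 : B) ⊗ₜ[A] (k : M)) := by
        rw [TensorProduct.smul_tmul', smul_eq_mul, mul_one]; rfl
      rw [this, h1, smul_zero]
    | add y z hy hz =>
      rw [map_add, hy, hz, add_zero]

end Groth.Agent.S1227
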