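import Groth.Statements.S12272
import Groth.Agent.Lib.Helper1.AH15
import Groth.Agent.Lib.Helper1.AH16
import Groth.Agent.S12329

set_option autoImplicit false
universe u
open CategoryTheory CategoryTheory.Limits AlgebraicGeometry
attribute [local instance] HasDerivedCategory.standard
open Deform

namespace Groth.Agent.S12272

/-- Let k be an algebraically closed field, Y a separated k-scheme of finite type and i : X → Y a
regular closed immersion over k with X projective over k; let N = Hom_{O_X}(I/I², O_X) be the normal
sheaf (sheaf Hom of the conormal sheaf of i, as a right adjoint, assumed to exist). Then X is rigid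
in Y, meaning that for every local Artinian k-algebra A with residue field k there is at most one
closed subscheme of Y ×_k Spec A flat over Spec A restricting to X on the closed fibre (necessarily
X ×_k Spec A), if and only if H⁰(X, N) = 0. -/
theorem result
    {k : Type u} [Field k] [IsAlgClosed k] (Y : Scheme.{u}) (y : Y ⟶ Spec (CommRingCat.of k))
    [LocallyOfFiniteType y] [IsSeparated y] [QuasiCompact y]
    (X : Scheme.{u}) [X.Over (Spec (CommRingCat.of k))] (i : X ⟶ Y) [IsClosedImmersion i] (hi : i ≫ y = X ↘ (Spec (CommRingCat.of k)))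
    (hreg : Mor2.IsRegularClosedImmersion i)
    (hproj : ∃ (n : ℕ) (c : X ⟶ CohB1.ProjSpaceOver n (Spec (CommRingCat.of k))),
      IsClosedImmersion c ∧ c ≫ CohB1.ProjSpaceOver.toBase n (Spec (CommRingCat.of k)) = X ↘ (Spec (CommRingCat.of k)))
    [DCoh.HasSheafHom (Omega.conormal i)] :
    (∀ A : ArtFun.Art k k, Subsingleton ((ArtFun.localHilb Y y i.ker).obj A)) ↔
      Subsingleton (Coh.HH X ((DCoh.sheafHom (Omega.conormal i)).obj (Coh.structureModule X)) 0) := by
  letI oY : Y.Over (Spec (CommRingCat.of k)) := ⟨y⟩
  have iOver : i.IsOver (Spec (CommRingCat.of k)) := ⟨hi⟩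
  have inst : DCoh.HasSheafHom ((Scheme.Modules.pullback i).obj (ClSub.idealMod i.ker)) :=
    ‹DCoh.HasSheafHom (Omega.conormal i)›
  obtain ⟨e⟩ := Groth.Agent.Lib.Helper1.AH.nonempty_hom_equiv_HH (k := k) i
  constructor
  · intro h
    have h1 : Subsingleton (ClSub.idealMod i.ker ⟶ ClSub.quotMod i.ker) :=
      Groth.Agent.Lib.Helper1.AH.subsingleton_hom_of_subsingleton_dual y i.ker
        (h (ArtFun.Art.dual k k))
    exact e.symm.subsingleton
  · intro h A
    have h1 : Subsingleton (ClSub.idealMod i.ker ⟶ ClSub.quotMod i.ker) :=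
      @Equiv.subsingleton _ _ e h
    have hinj := Groth.Agent.S12329.result Y y i.ker h1 (ArtFun.Art.toBase A) A.res_surjective
    have h0 := (Groth.Agent.Lib.Helper1.AH.h0_localHilb Y y i.ker).2
    exact hinj.subsingleton

end Groth.Agent.S12272
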