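import Groth.Statements.S12279
import Mathlib
import Groth.Agent.Helper19.DefVB8
import Groth.Agent.Lib.Helper5.FinLocFreeExt
-- import your own Groth.Agent.* helpers here

set_option autoImplicit false
universe u
open CategoryTheory CategoryTheory.Limits AlgebraicGeometry
open scoped TensorProduct
attribute [local instance] HasDerivedCategory.standard
open DefT

namespace Groth.Agent.S12279

/-- Let k be a field and X₀ a k-scheme; let C' → C be a surjection of local Artinian k-algebras with
residue field k whose kernel J is annihilated by the maximal ideal of C', X' a deformation of X₀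
over C' (a scheme flat over Spec C' with a morphism from X₀ identifying X₀ with the closed fibre)
and X = X' ×_{Spec C'} Spec C its base change. Let F be a finite locally free O_X-module, F₀ its
restriction to X₀ and End F₀ = Hom_{O_{X₀}}(F₀, F₀) its sheaf of endomorphisms (the sheaf Hom,
assumed to exist as the right adjoint of tensoring with F₀). If H^1(X₀, End F₀) = 0, then any two
finite locally free O_{X'}-modules F' and F'' whose restrictions to X are both isomorphic to F are
isomorphic. (The published statement says that the set of extensions of F over X', when non-empty,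
is a torsor under H^1(X₀, End F₀ ⊗ J), for deformations over arbitrary local Artin rings; this row
states the consequence when H^1(X₀, End F₀) = 0, over local Artinian k-algebras, and compares the
extensions only as O_{X'}-modules.) -/
theorem result
    {k : Type u} [Field k] (X₀ : Scheme.{u}) (x : X₀ ⟶ Spec (CommRingCat.of k))
    {C' C : ArtFun.Art k k} (p : C' ⟶ C) (hp : ArtFun.Art.IsSemismallExt p)
    (X' : ArtFun.DefSch X₀ x C')
    (F : (X'.baseChange p).total.Modules) (hF : FlatMod.IsFinLocFree F)
    [DCoh.HasSheafHom ((Scheme.Modules.pullback (X'.baseChange p).i).obj F)]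
    (h1 : Subsingleton (Coh.HH X₀ ((DCoh.sheafHom ((Scheme.Modules.pullback (X'.baseChange p).i).obj F)).obj
        ((Scheme.Modules.pullback (X'.baseChange p).i).obj F)) 1))
    (F' F'' : X'.total.Modules) (hF' : FlatMod.IsFinLocFree F') (hF'' : FlatMod.IsFinLocFree F'')
    (e' : Nonempty ((Scheme.Modules.pullback (pullback.fst X'.f (ArtFun.Art.specMap p))).obj F' ≅ F))
    (e'' : Nonempty ((Scheme.Modules.pullback (pullback.fst X'.f (ArtFun.Art.specMap p))).obj F'' ≅ F)) :
    Nonempty (F' ≅ F'') := by
  obtain ⟨e'⟩ := e'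
  obtain ⟨e''⟩ := e''
  haveI : HasExt.{u} X₀.Modules := hasExt_of_enoughInjectives _
  let π : C' →+* C := p.toAlgHom.toRingHom
  let ρ : C' →+* k := C'.res.toRingHom
  have hπ : Function.Surjective π := hp.1
  have hρ : Function.Surjective ρ := C'.res_surjective
  have hker : RingHom.ker ρ = IsLocalRing.maximalIdeal C' := by
    haveI : (RingHom.ker ρ).IsMaximal := RingHom.ker_isMaximal_of_surjective ρ hρ
    exact IsLocalRing.eq_maximalIdeal inferInstance
  have hmJ : IsLocalRing.maximalIdeal C' * RingHom.ker π = ⊥ := hp.2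
  let q := pullback.fst X'.f (ArtFun.Art.specMap p)
  let w := pullback.snd X'.f (ArtFun.Art.specMap p)
  haveI : IsClosedImmersion (ArtFun.Art.specMap p) :=
    IsClosedImmersion.spec_of_surjective _ hπ
  haveI : IsClosedImmersion q := inferInstance
  have hq : IsPullback w q (Spec.map (CommRingCat.ofHom π)) X'.f :=
    (IsPullback.of_hasPullback X'.f (ArtFun.Art.specMap p)).flip
  haveI : IsClosedImmersion (ArtFun.Art.specRes C') :=
    IsClosedImmersion.spec_of_surjective _ hρ
  have hc : IsPullback x X'.i (Spec.map (CommRingCat.ofHom ρ)) X'.f := X'.isPullback.flip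
  haveI : IsClosedImmersion X'.i :=
    MorphismProperty.of_isPullback (P := @IsClosedImmersion) hc ‹_›
  haveI : IsNoetherianRing C' := inferInstance
  -- the ideal has square zero
  have hJ2 : q.ker ^ 2 = ⊥ := by
    rw [eq_bot_iff, pow_two, Scheme.IdealSheafData.le_def]
    intro U
    rw [Scheme.IdealSheafData.ideal_mul, Pi.mul_apply]
    have hk : q.ker.ideal U = (RingHom.ker π).map (Groth.Agent.Helper19.DefVB.φU X'.f U.1) := by
      rw [Scheme.Hom.ker_apply]
      exact Groth.Agent.Helper19.DefVB.ker_app_eq X'.f π hπ q w hq U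
    rw [hk, ← Ideal.map_mul]
    have hJJ : RingHom.ker π * RingHom.ker π = ⊥ := by
      rw [eq_bot_iff, ← hmJ]
      refine Ideal.mul_mono_left ?_
      exact IsLocalRing.le_maximalIdeal (RingHom.ker_ne_top π)
    rw [hJJ, Ideal.map_bot]
    exact le_refl _
  -- the restrictions to the closed fibre
  have hi : (X'.baseChange p).i ≫ q = X'.i := ArtFun.DefSch.baseChange_i_fst X' p
  let F₀ := (Scheme.Modules.pullback (X'.baseChange p).i).obj F
  have hF₀ : FlatMod.IsFinLocFree F₀ :=
    Groth.Agent.Lib.Helper29.QCoh.isFinLocFree_pullback _ hF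
  let a' : (Scheme.Modules.pullback X'.i).obj F' ≅ F₀ :=
    (Scheme.Modules.pullbackCongr hi).symm.app F' ≪≫
      (Scheme.Modules.pullbackComp (X'.baseChange p).i q).symm.app F' ≪≫
      (Scheme.Modules.pullback (X'.baseChange p).i).mapIso e'
  let a'' : (Scheme.Modules.pullback X'.i).obj F'' ≅ F₀ :=
    (Scheme.Modules.pullbackCongr hi).symm.app F'' ≪≫
      (Scheme.Modules.pullbackComp (X'.baseChange p).i q).symm.app F'' ≪≫
      (Scheme.Modules.pullback (X'.baseChange p).i).mapIso e''
  obtain ⟨eExt⟩ := Groth.Agent.Lib.Helper5.FinLocFreeExt.main X₀ F₀ F₀ hF₀ 1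
  have hE0 : Subsingleton (Abelian.Ext.{u} F₀ F₀ 1) := by
    haveI := h1
    exact eExt.toEquiv.subsingleton
  have hE1 : Subsingleton (Abelian.Ext.{u} F₀ ((Scheme.Modules.pullback X'.i).obj F'') 1) :=
    Groth.Agent.Helper19.LiftFLF.subsingleton_ext_of_iso a''.symm 1 hE0
  have hE2 : Subsingleton (Abelian.Ext.{u} ((Scheme.Modules.pullback X'.i).obj F')
      ((Scheme.Modules.pullback X'.i).obj F'') 1) := by
    refine ⟨fun y z => ?_⟩
    have hy : y = (Abelian.Ext.mk₀ a'.hom).comp ((Abelian.Ext.mk₀ a'.inv).comp y (zero_add 1))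
        (zero_add 1) := by
      rw [Abelian.Ext.mk₀_comp_mk₀_assoc, a'.hom_inv_id, Abelian.Ext.mk₀_id_comp]
    have hz : z = (Abelian.Ext.mk₀ a'.hom).comp ((Abelian.Ext.mk₀ a'.inv).comp z (zero_add 1))
        (zero_add 1) := by
      rw [Abelian.Ext.mk₀_comp_mk₀_assoc, a'.hom_inv_id, Abelian.Ext.mk₀_id_comp]
    rw [hy, hz, Subsingleton.elim ((Abelian.Ext.mk₀ a'.inv).comp y (zero_add 1))
      ((Abelian.Ext.mk₀ a'.inv).comp z (zero_add 1))]
  exact Groth.Agent.Helper19.DefVB.nonempty_iso_of_semismall π hπ ρ hρ hker hmJ X'.f q w hq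
    X'.i x hc hJ2 hF' hF'' (e' ≪≫ e''.symm) hE2

end Groth.Agent.S12279
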