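import Groth.Statements.S12286
import Mathlib
-- import your own Groth.Agent.* helpers here

set_option autoImplicit false
universe u w m
open scoped TensorProduct
open DefT

namespace Groth.Agent.S12286

lemma adjoin_range_val {A B : Type u} [CommRing A] [CommRing B] [Algebra A B] {ι σ : Type w}
    (P : Algebra.Presentation A B ι σ) : Algebra.adjoin A (Set.range P.val) = ⊤ := by
  rw [Algebra.adjoin_range_eq_range_aeval, AlgHom.range_eq_top]
  intro b
  obtain ⟨x, hx⟩ := P.algebraMap_surjective b
  exact ⟨x, by rw [← hx]; exact (P.algebraMap_apply x).symm⟩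

lemma phi_cotangentComplex {A B : Type u} [CommRing A] [CommRing B] [Algebra A B] {ι σ : Type w}
    (P : Algebra.Presentation A B ι σ) {M : Type m} [AddCommGroup M] [Module B M]
    (φ : CotT.L0 P →ₗ[B] M) (hφ : φ ∘ₗ CotT.d1 P = 0) (x : P.toExtension.Cotangent) :
    φ (P.toExtension.cotangentComplex x) = 0 := by
  obtain ⟨y, rfl⟩ := Algebra.Extension.Cotangent.mk_surjective x
  have hy : (y : P.toExtension.Ring) ∈ LinearMap.range (CotT.jmap P) := by
    rw [CotT.range_jmap]; exact y.2
  obtain ⟨f, hf⟩ := hy
  have h1 : CotT.toCot P ((1 : B) ⊗ₜ f) = Algebra.Extension.Cotangent.mk y := by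
    rw [CotT.toCot_tmul, one_smul]
    congr 1
    exact Subtype.ext hf
  have h2 := congrArg (fun g : CotT.L1 P →ₗ[B] M => g ((1 : B) ⊗ₜ f)) hφ
  change φ (P.toExtension.cotangentComplex (CotT.toCot P ((1 : B) ⊗ₜ f))) = 0 at h2
  rw [h1] at h2
  exact h2

/-- Let A → B be a ring homomorphism, P a presentation of B over A and M a B-module. The canonical
B-linear map from the A-derivations Der_A(B, M) = Hom_B(Ω_{B/A}, M) to T^0(B/A, M) (the kernel of
Hom_B(L₀, M) → Hom_B(L₁, M), L₀ = B ⊗_R Ω_{R/A}), sending a derivation D to b ⊗ dr ↦ b·D(r̄), is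
bijective. -/
theorem result
    (A B : Type u) [CommRing A] [CommRing B] [Algebra A B] (ι σ : Type w) (P : Algebra.Presentation A B ι σ)
    (M : Type m) [AddCommGroup M] [Module B M] [Module A M] [IsScalarTower A B M] :
    Function.Bijective (CotT.derToT0 P M) := by
  constructor
  · intro D D' h
    have hv : ∀ i, D (P.val i) = D' (P.val i) := fun i => by
      have h1 := congrArg (fun t : CotT.T0 P M => (t : CotT.L0 P →ₗ[B] M) (P.cotangentSpaceBasis i)) h
      change CotT.derLift P M D (P.cotangentSpaceBasis i) = CotT.derLift P M D' (P.cotangentSpaceBasis i) at h1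
      rw [CotT.derLift_basis, CotT.derLift_basis] at h1
      exact h1
    refine Derivation.ext_of_adjoin_eq_top (Set.range P.val) (adjoin_range_val P) ?_
    rintro _ ⟨i, rfl⟩
    exact hv i
  · rintro ⟨φ, hφ⟩
    rw [LinearMap.mem_ker, CotT.d1Star_apply] at hφ
    have hex := P.toExtension.exact_cotangentComplex_toKaehler
    have hker : LinearMap.ker P.toExtension.toKaehler ≤ LinearMap.ker φ := by
      intro x hx
      obtain ⟨y, rfl⟩ := (hex x).1 hx
      exact phi_cotangentComplex P φ hφ y
    obtain ⟨φ', hφ'⟩ : ∃ φ' : Ω[B⁄A] →ₗ[B] M, φ' ∘ₗ P.toExtension.toKaehler = φ := by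
      have hsurj : LinearMap.range P.toExtension.toKaehler = ⊤ :=
        LinearMap.range_eq_top.2 P.toExtension.toKaehler_surjective
      let e := (P.toExtension.toKaehler.quotKerEquivOfSurjective P.toExtension.toKaehler_surjective)
      refine ⟨(Submodule.liftQ _ φ hker) ∘ₗ e.symm.toLinearMap, ?_⟩
      apply LinearMap.ext
      intro x
      change Submodule.liftQ _ φ hker (e.symm (P.toExtension.toKaehler x)) = φ x
      have : e.symm (P.toExtension.toKaehler x) = Submodule.Quotient.mk x := by
        rw [LinearEquiv.symm_apply_eq]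
        rfl
      rw [this, Submodule.liftQ_apply]
    refine ⟨(KaehlerDifferential.linearMapEquivDerivation A B) φ', ?_⟩
    apply Subtype.ext
    change CotT.derLift P M _ = φ
    refine (P.cotangentSpaceBasis).ext fun i => ?_
    rw [CotT.derLift_basis, ← hφ']
    change φ' (KaehlerDifferential.D A B (P.val i)) = φ' (P.toExtension.toKaehler (P.cotangentSpaceBasis i))
    rw [Algebra.Generators.toKaehler_cotangentSpaceBasis]

end Groth.Agent.S12286
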