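import Groth.Statements.S12287
import Groth.Agent.Lib.Helper1.CotTVanish

set_option autoImplicit false
universe u w m
open scoped TensorProduct
open DefT

namespace Groth.Agent.S12287

/-- Let B be an A-algebra that is isomorphic over A to a polynomial ring A[x_j] in some set of
variables. Then for every B-module M the modules T^1(B/A, M) and T^2(B/A, M), computed from the
choice-free presentation of B over A (every element of B a variable, every element of the kernel a
relation), are zero. -/
theorem result
    (A B : Type u) [CommRing A] [CommRing B] [Algebra A B] (κ : Type u) (e : MvPolynomial κ A ≃ₐ[A] B)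
    (M : Type u) [AddCommGroup M] [Module B M] :
    Subsingleton (CotT.T1 (CotT.canon A B) M) ∧ Subsingleton (CotT.T2 (CotT.canon A B) M) := by
  let P₀ : Algebra.Presentation A B κ PEmpty.{u + 1} :=
    (Groth.Agent.Lib.Helper1.CotTVanish.polyPres.{u, u, u} A κ).ofAlgEquiv e
  exact ⟨Groth.Agent.Lib.Helper1.CotTVanish.subsingleton_T1_of_subsingleton P₀ (CotT.canon A B) M
      (Groth.Agent.Lib.Helper1.CotTVanish.subsingleton_T1_of_isEmpty P₀ M),
    Groth.Agent.Lib.Helper1.CotTVanish.subsingleton_T2_of_subsingleton P₀ (CotT.canon A B) M
      (Groth.Agent.Lib.Helper1.CotTVanish.subsingleton_T2_of_isEmpty P₀ M)⟩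

end Groth.Agent.S12287
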