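import Groth.Statements.S12290
import Groth.Agent.Lib.Helper1.CotTSmooth
import Groth.Agent.Lib.Helper23.SmoothField

set_option autoImplicit false
universe u w m
open scoped TensorProduct
open DefT

namespace Groth.Agent.S12290

/-- Let k be an algebraically closed field and B a finitely generated k-algebra, X = Spec B. Then X is
nonsingular (localizing B at any prime ideal gives a regular local ring) exactly when T^1(B/k, M)
vanishes for every B-module M; and when X is nonsingular, T^2(B/k, M) vanishes too, for every
B-module M. Here T^1, T^2 are computed from the choice-free presentation of B over k. -/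
theorem result
    (k B : Type u) [Field k] [IsAlgClosed k] [CommRing B] [Algebra k B] [Algebra.FiniteType k B] :
    ((∀ (p : Ideal B) [p.IsPrime], IsRegularLocalRing (Localization.AtPrime p)) ↔
      ∀ (M : Type u) [AddCommGroup M] [Module B M], Subsingleton (CotT.T1 (CotT.canon k B) M)) ∧
    ((∀ (p : Ideal B) [p.IsPrime], IsRegularLocalRing (Localization.AtPrime p)) →
      ∀ (M : Type u) [AddCommGroup M] [Module B M], Subsingleton (CotT.T2 (CotT.canon k B) M)) := by
  classical
  have hNoeth : IsNoetherianRing B := Algebra.FiniteType.isNoetherianRing k B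
  -- regular ⇔ formally smooth
  have hreg_iff : (∀ (p : Ideal B) [p.IsPrime], IsRegularLocalRing (Localization.AtPrime p)) ↔
      Algebra.FormallySmooth k B := by
    rw [← isRegularRing_iff]
    have h1 := (Groth.Agent.Lib.Helper23.SmoothField.tfae_global (k₀ := k) (k := k) (C := B)).out 0 3
    rw [h1]
    constructor
    · intro hR k' _ _ hfin
      have hint : Algebra.IsIntegral k k' := Algebra.IsIntegral.of_finite k k'
      have hbij := IsAlgClosed.algebraMap_bijective_of_isIntegral (k := k) (K := k')
      let e₀ : k ≃ₐ[k] k' := AlgEquiv.ofBijective (Algebra.ofId k k') hbij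
      let e : TensorProduct k k' B ≃ₐ[k] B :=
        (Algebra.TensorProduct.congr e₀.symm (AlgEquiv.refl : B ≃ₐ[k] B)).trans
          (Algebra.TensorProduct.lid k B)
      exact IsRegularRing.of_ringEquiv e.symm.toRingEquiv
    · intro hG
      have h2 := hG k inferInstance
      exact IsRegularRing.of_ringEquiv (Algebra.TensorProduct.lid k B).toRingEquiv
  refine ⟨?_, ?_⟩
  · rw [hreg_iff]
    constructor
    · intro hfs M _ _
      exact Groth.Agent.Lib.Helper1.CotTSmooth.subsingleton_T1_of_formallySmooth (CotT.canon k B) M
    · intro h
      exact Groth.Agent.Lib.Helper1.CotTSmooth.formallySmooth_of_subsingleton_T1 (CotT.canon k B)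
        (h _)
  · intro hreg M _ _
    have hfs : Algebra.FormallySmooth k B := hreg_iff.mp hreg
    have hfp : Algebra.FinitePresentation k B := Algebra.FinitePresentation.of_finiteType.mp inferInstance
    let P₀ := Algebra.Presentation.ofFinitePresentation k B
    have hR : IsRegularRing P₀.toExtension.Ring :=
      inferInstanceAs (IsRegularRing (MvPolynomial (Fin (Algebra.Presentation.ofFinitePresentationVars k B)) k))
    have h1 := Groth.Agent.Lib.Helper1.CotTSmooth.subsingleton_T2_of_formallySmooth P₀ M
    exact Groth.Agent.Lib.Helper1.CotTVanish.subsingleton_T2_of_subsingleton P₀ (CotT.canon k B) M h1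

end Groth.Agent.S12290
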