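import Groth.Statements.S12291
import Groth.Agent.Lib.Helper1.CotTCI
import Groth.Agent.Lib.Helper18.CM4
import Groth.Agent.Lib.Helper16.RegularDim

set_option autoImplicit false
universe u w m
open scoped TensorProduct
open DefT

namespace Groth.Agent.S12291

/-- Let k be an algebraically closed field and A a regular local k-algebra with residue field k such
that T^1(A/k, N) = 0 and T^2(A/k, N) = 0 for all A-modules N; let I be a proper ideal of A and B =
A/I. Then B is cut out of A as a local complete intersection — meaning I is generated by some list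
of r elements with r + dim B = dim A, i.e. by dim A − dim B elements — exactly when T^2(B/k, M)
vanishes for each B-module M. The T^i are computed from the choice-free presentations. (The
published statement assumes only that A is a regular local k-algebra with residue field k; its proof
uses the vanishing of T^1(A/k, −) and T^2(A/k, −), which holds when A is essentially of finite type
over k and which this row carries as a hypothesis.) -/
theorem result
    (k A : Type u) [Field k] [IsAlgClosed k] [CommRing A] [IsRegularLocalRing A] [Algebra k A]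
    (hres : Function.Surjective (algebraMap k (IsLocalRing.ResidueField A)))
    (hT : ∀ (N : Type u) [AddCommGroup N] [Module A N],
      Subsingleton (CotT.T1 (CotT.canon k A) N) ∧ Subsingleton (CotT.T2 (CotT.canon k A) N))
    (I : Ideal A) (hI : I ≠ ⊤) :
    (∃ rs : List A, Ideal.ofList rs = I ∧ (rs.length : WithBot ℕ∞) + ringKrullDim (A ⧸ I) = ringKrullDim A) ↔
      ∀ (M : Type u) [AddCommGroup M] [Module (A ⧸ I) M], Subsingleton (CotT.T2 (CotT.canon k (A ⧸ I)) M) := by
  classical
  have hloc : IsLocalRing A := inferInstance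
  have hnoeth : IsNoetherianRing A := inferInstance
  have hIm : I ≤ IsLocalRing.maximalIdeal A := IsLocalRing.le_maximalIdeal hI
  have hs : Function.Surjective (algebraMap A (A ⧸ I)) := Ideal.Quotient.mk_surjective
  have hker : RingHom.ker (algebraMap A (A ⧸ I)) = I := by
    rw [Ideal.Quotient.algebraMap_eq]
    exact Ideal.mk_ker
  -- the generating family attached to a list
  have hrange : ∀ rs : List A, Ideal.span (Set.range (fun i : Fin rs.length => rs[i])) =
      Ideal.ofList rs := by
    intro rs
    unfold Ideal.ofList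
    congr 1
    ext x
    simp only [Set.mem_range, Set.mem_ofPred_eq]
    constructor
    · rintro ⟨i, rfl⟩
      exact List.getElem_mem i.2
    · intro hx
      obtain ⟨i, hi, rfl⟩ := List.mem_iff_getElem.mp hx
      exact ⟨⟨i, hi⟩, rfl⟩
  -- dimension bookkeeping
  have hdim : ∀ rs : List A, Ideal.ofList rs = I →
      Module.supportDim A (A ⧸ (Ideal.ofList rs • ⊤ : Submodule A A)) = ringKrullDim (A ⧸ I) := by
    intro rs hrs
    have h1 : (Ideal.ofList rs • ⊤ : Submodule A A) = I := by
      rw [smul_eq_mul, Ideal.mul_top, hrs]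
    rw [Module.supportDim_eq_of_equiv (Submodule.quotEquivOfEq _ _ h1)]
    exact Module.supportDim_quotient_eq_ringKrullDim I
  have hCM := Groth.Agent.Lib.Helper16.PDR.isCohenMacaulayModule_self_of_isRegularLocalRing A
  have hiff : ∀ rs : List A, Ideal.ofList rs = I →
      (RingTheory.Sequence.IsWeaklyRegular A rs ↔
        (rs.length : WithBot ℕ∞) + ringKrullDim (A ⧸ I) = ringKrullDim A) := by
    intro rs hrs
    have hmem : ∀ x ∈ rs, x ∈ IsLocalRing.maximalIdeal A := by
      intro x hx
      apply hIm
      rw [← hrs]
      exact Ideal.subset_span hx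
    have h1 := (Groth.Agent.Lib.Helper18.CM.isWeaklyRegular_iff_supportDim_and_isCohenMacaulayModule
      rs hmem A hCM).1
    rw [h1, hdim rs hrs, Module.supportDim_self_eq_ringKrullDim, add_comm]
  -- the nine-term sequence for `k → A → A/I`
  have key : ∀ (rs : List A) (hrs : Ideal.ofList rs = I)
      (M : Type u) [AddCommGroup M] [Module (A ⧸ I) M],
      (Subsingleton (CotT.T2 (CotT.canon k (A ⧸ I)) M) ↔
        Subsingleton (CotT.T2 (Groth.Agent.Lib.Helper1.CotTVanish.quotPres.{u, u, 0} hs
          (fun i : Fin rs.length => rs[i]) (by rw [hker, hrange rs, hrs])) M)) := by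
    intro rs hrs M _ _
    let _ : Module A M := Module.compHom M (algebraMap A (A ⧸ I))
    have : IsScalarTower A (A ⧸ I) M := IsScalarTower.of_compHom A (A ⧸ I) M
    obtain ⟨hT1, hT2⟩ := hT M
    obtain ⟨a⟩ := Groth.Agent.Lib.Helper1.CotTHom.exists_presHom (CotT.canon k A)
      (CotT.canon k (A ⧸ I))
    obtain ⟨b⟩ := Groth.Agent.Lib.Helper1.CotTHom.exists_presHom (CotT.canon k (A ⧸ I))
      (Groth.Agent.Lib.Helper1.CotTVanish.quotPres.{u, u, 0} hs
          (fun i : Fin rs.length => rs[i]) (by rw [hker, hrange rs, hrs]))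
    obtain ⟨_, _, _, ex2, δ₀, δ₁, _, _, _, e4⟩ :=
      Groth.Agent.Lib.Helper1.CotTComp.nine_general a b M
    constructor
    · intro h3
      refine subsingleton_of_forall_eq 0 fun x => ?_
      have h0 : b.T2pull M x = 0 := Subsingleton.elim _ _
      obtain ⟨t, rfl⟩ := (e4 x).1 h0
      rw [Subsingleton.elim t 0, map_zero]
    · intro h2
      refine subsingleton_of_forall_eq 0 fun x => ?_
      have h0 : a.T2pull M x = 0 := Subsingleton.elim _ _
      obtain ⟨t, rfl⟩ := (ex2 x).1 h0
      rw [Subsingleton.elim t 0, map_zero]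
  constructor
  · rintro ⟨rs, hrs, hd⟩ M _ _
    rw [key rs hrs M]
    have hreg := (hiff rs hrs).mpr hd
    exact Groth.Agent.Lib.Helper1.CotTVanish.subsingleton_T2_quotPres hs _ _
      (Groth.Agent.Lib.Helper1.CotTVanish.isRegFamily_of_isWeaklyRegular rs hreg) M
  · intro hall
    obtain ⟨rs, hrs, hmin⟩ := Groth.Agent.Lib.Helper1.CotTCI.exists_minimal_list I
    refine ⟨rs, hrs, ?_⟩
    rw [← hiff rs hrs]
    apply Groth.Agent.Lib.Helper1.CotTCI.isWeaklyRegular_of_isRegFamily
    have : Nontrivial (A ⧸ I) := Ideal.Quotient.nontrivial_iff.mpr hI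
    have : IsLocalRing (A ⧸ I) :=
      IsLocalRing.of_surjective' (Ideal.Quotient.mk I) Ideal.Quotient.mk_surjective
    refine Groth.Agent.Lib.Helper1.CotTCI.isRegFamily_of_subsingleton_T2.{u, u, 0} hs
      (fun i : Fin rs.length => rs[i]) (by rw [hker, hrange rs, hrs]) ?_ ?_ ?_
    · intro c hc j
      refine Groth.Agent.Lib.Helper1.CotTCI.coeff_mem_maximalIdeal_of_minimal rs ?_ c hc j
      intro rs' hrs'
      exact hmin rs' (hrs'.trans hrs)
    · intro i
      apply hIm
      rw [← hrs]
      exact Ideal.subset_span (List.getElem_mem i.2)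
    · exact (key rs hrs _).mp (hall _)

end Groth.Agent.S12291
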