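import Groth.Statements.S12295
import Groth.Agent.Lib.Helper1.CotTComp
import Groth.Agent.Lib.Helper1.CotTVanish

set_option autoImplicit false
universe u w m
open scoped TensorProduct
open DefT

namespace Groth.Agent.S12295

/-- Let k be a commutative ring, B a k-algebra and P a presentation of B over k with polynomial ring R =
k[x_i] (any set of variables), so that B = R/I; let P' be a presentation of B over R with no
polynomial variables (R itself mapping onto B, with chosen generators of I), and M a B-module. Then
T^2(B/R, M), computed from P', and T^2(B/k, M), computed from P, are isomorphic B-modules.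
(Existence of a B-linear isomorphism only; the published statement has finitely many variables over
a field and notes that any base ring works.) -/
theorem result
    (k B : Type u) [CommRing k] [CommRing B] [Algebra k B] (ι σ ι' σ' : Type w)
    (P : Algebra.Presentation k B ι σ) [IsEmpty ι']
    (P' : Algebra.Presentation P.toExtension.Ring B ι' σ')
    (M : Type m) [AddCommGroup M] [Module B M] :
    Nonempty (CotT.T2 P' M ≃ₗ[B] CotT.T2 P M) := by
  letI : Module P.toExtension.Ring M := Module.compHom M (algebraMap P.toExtension.Ring B)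
  haveI : IsScalarTower P.toExtension.Ring B M := IsScalarTower.of_compHom P.toExtension.Ring B M
  let P₁ : Algebra.Presentation k P.toExtension.Ring ι PEmpty.{w + 1} :=
    Groth.Agent.Lib.Helper1.CotTVanish.polyPres.{u, w, w} k ι
  obtain ⟨a⟩ := Groth.Agent.Lib.Helper1.CotTHom.exists_presHom P₁ P
  obtain ⟨b⟩ := Groth.Agent.Lib.Helper1.CotTHom.exists_presHom P P'
  obtain ⟨_, _, _, ex2, δ₀, δ₁, _, _, _, e4⟩ :=
    Groth.Agent.Lib.Helper1.CotTComp.nine_general a b M
  have hT1 : Subsingleton (CotT.T1 P₁ M) :=
    Groth.Agent.Lib.Helper1.CotTVanish.subsingleton_T1_of_isEmpty P₁ M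
  have hT2 : Subsingleton (CotT.T2 P₁ M) :=
    Groth.Agent.Lib.Helper1.CotTVanish.subsingleton_T2_of_isEmpty P₁ M
  refine ⟨LinearEquiv.ofBijective (b.T2pull M) ⟨?_, ?_⟩⟩
  · rw [injective_iff_map_eq_zero]
    intro x hx
    obtain ⟨t, rfl⟩ := (e4 x).1 hx
    rw [Subsingleton.elim t 0, map_zero]
  · intro y
    exact (ex2 y).1 (Subsingleton.elim _ _)

end Groth.Agent.S12295
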