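import Groth.Statements.S12297
import Groth.Agent.Lib.Helper1.CotTLoc
import Groth.Agent.Lib.Helper23.SmoothField

set_option autoImplicit false
universe u w m
open scoped TensorProduct
open DefT

namespace Groth.Agent.S12297

/-- Let k be an algebraically closed field, B a finitely generated k-algebra, m a maximal ideal of B and
B_m the localization, a local k-algebra with residue field k. Then B_m is a regular local ring if
and only if T^1(B_m/k, M) = 0 for all B_m-modules M, and in that case T^2(B_m/k, M) = 0 for all M as
well; the T^i are computed from the choice-free presentation of B_m over k. (The published statement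
is for a local k-algebra with residue field k, k algebraically closed, proved by localization from
the finitely generated case; this row states it for the localizations of finitely generated
k-algebras at maximal ideals, the case that proof covers.) -/
theorem result
    (k B : Type u) [Field k] [IsAlgClosed k] [CommRing B] [Algebra k B] [Algebra.FiniteType k B]
    (m : Ideal B) [m.IsMaximal] :
    (IsRegularLocalRing (Localization.AtPrime m) ↔
      ∀ (M : Type u) [AddCommGroup M] [Module (Localization.AtPrime m) M],
        Subsingleton (CotT.T1 (CotT.canon k (Localization.AtPrime m)) M)) ∧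
    (IsRegularLocalRing (Localization.AtPrime m) →
      ∀ (M : Type u) [AddCommGroup M] [Module (Localization.AtPrime m) M],
        Subsingleton (CotT.T2 (CotT.canon k (Localization.AtPrime m)) M)) := by
  classical
  have hNoethB : IsNoetherianRing B := Algebra.FiniteType.isNoetherianRing k B
  have hNoeth : IsNoetherianRing (Localization.AtPrime m) :=
    IsLocalization.isNoetherianRing m.primeCompl _ inferInstance
  -- regular ⇔ formally smooth
  have hreg_iff : IsRegularLocalRing (Localization.AtPrime m) ↔
      Algebra.FormallySmooth k (Localization.AtPrime m) := by
    rw [← Groth.Agent.Lib.Helper23.KeyLemma2.isRegularRing_iff_of_isLocalRing,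
      ← Groth.Agent.Lib.Helper1.CotTLoc.geomRegular_iff_of_isAlgClosed k]
    exact ((Groth.Agent.Lib.Helper23.SmoothField.tfae_atPrime (k₀ := k) (k := k) (C := B) m).out
      0 3).symm
  refine ⟨?_, ?_⟩
  · rw [hreg_iff]
    constructor
    · intro hfs M _ _
      exact Groth.Agent.Lib.Helper1.CotTSmooth.subsingleton_T1_of_formallySmooth
        (CotT.canon k (Localization.AtPrime m)) M
    · intro h
      exact Groth.Agent.Lib.Helper1.CotTSmooth.formallySmooth_of_subsingleton_T1
        (CotT.canon k (Localization.AtPrime m)) (h _)
  · intro hreg M _ _
    have hfs : Algebra.FormallySmooth k (Localization.AtPrime m) := hreg_iff.mp hreg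
    obtain ⟨g, hg, hfsg⟩ :=
      ((Groth.Agent.Lib.Helper23.SmoothField.tfae_atPrime (k₀ := k) (k := k) (C := B) m).out
        0 2).mp hfs
    have hle : Submonoid.powers g ≤ m.primeCompl := by
      rw [Submonoid.powers_le]
      exact hg
    letI : Algebra (Localization.Away g) (Localization.AtPrime m) :=
      IsLocalization.localizationAlgebraOfSubmonoidLe (Localization.Away g)
        (Localization.AtPrime m) (Submonoid.powers g) m.primeCompl hle
    haveI : IsScalarTower B (Localization.Away g) (Localization.AtPrime m) :=
      IsLocalization.localization_isScalarTower_of_submonoid_le (Localization.Away g)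
        (Localization.AtPrime m) (Submonoid.powers g) m.primeCompl hle
    haveI : IsLocalization (m.primeCompl.map (algebraMap B (Localization.Away g)))
        (Localization.AtPrime m) :=
      IsLocalization.isLocalization_of_submonoid_le (Localization.Away g)
        (Localization.AtPrime m) (Submonoid.powers g) m.primeCompl hle
    haveI : IsScalarTower k (Localization.Away g) (Localization.AtPrime m) :=
      IsScalarTower.of_algebraMap_eq (fun x => by
        rw [IsScalarTower.algebraMap_apply k B (Localization.AtPrime m),
          IsScalarTower.algebraMap_apply B (Localization.Away g) (Localization.AtPrime m),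
          ← IsScalarTower.algebraMap_apply k B (Localization.Away g)])
    haveI : Algebra.FiniteType B (Localization.Away g) :=
      IsLocalization.finiteType_of_monoid_fg (Submonoid.powers g) _
    haveI : Algebra.FiniteType k (Localization.Away g) :=
      Algebra.FiniteType.trans (inferInstance : Algebra.FiniteType k B) inferInstance
    letI : Module (Localization.Away g) M :=
      Module.compHom M (algebraMap (Localization.Away g) (Localization.AtPrime m))
    haveI : IsScalarTower (Localization.Away g) (Localization.AtPrime m) M :=
      IsScalarTower.of_compHom (Localization.Away g) (Localization.AtPrime m) M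
    have h1 : Subsingleton (CotT.T2 (CotT.canon k (Localization.Away g)) M) :=
      Groth.Agent.Lib.Helper1.CotTLoc.subsingleton_T2_canon_of_formallySmooth k
        (Localization.Away g) M
    have h2 : Subsingleton (CotT.T2 (Groth.Agent.Lib.Helper1.CotTLoc.locPres
        (m.primeCompl.map (algebraMap B (Localization.Away g))) (Localization.AtPrime m)) M) :=
      Groth.Agent.Lib.Helper1.CotTLoc.subsingleton_T2_locPres _ _ M
    obtain ⟨a⟩ := Groth.Agent.Lib.Helper1.CotTHom.exists_presHom
      (CotT.canon k (Localization.Away g)) (CotT.canon k (Localization.AtPrime m))
    obtain ⟨b⟩ := Groth.Agent.Lib.Helper1.CotTHom.exists_presHom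
      (CotT.canon k (Localization.AtPrime m))
      (Groth.Agent.Lib.Helper1.CotTLoc.locPres
        (m.primeCompl.map (algebraMap B (Localization.Away g))) (Localization.AtPrime m))
    obtain ⟨_, _, _, ex2, _⟩ := Groth.Agent.Lib.Helper1.CotTComp.nine_general a b M
    refine subsingleton_of_forall_eq 0 fun x => ?_
    have h0 : a.T2pull M x = 0 := Subsingleton.elim _ _
    obtain ⟨t, rfl⟩ := (ex2 x).1 h0
    rw [Subsingleton.elim t 0, map_zero]

end Groth.Agent.S12297
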