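import Groth.Statements.S12299
import Groth.Agent.Lib27.ArtTan
-- import your own Groth.Agent.* helpers here

set_option autoImplicit false
universe u v
open CategoryTheory
open ArtFun

namespace Groth.Agent.S12299

/-- Let k be an algebraically closed field, F a set-valued functor on local Artinian k-algebras with
residue field k, and (R, ξ) a miniversal family for F, with R a complete local Noetherian k-algebra
with residue field k: the morphism h_R → F has the lifting property along surjections and is
bijective on the dual numbers. Let S be a complete local Noetherian k-algebra with residue field k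
and g₁, g₂ : R → S two k-algebra maps compatible with the augmentations along which ξ induces the
same formal family over S (the same compatible sequence in the F(S/m^(n+1))). Then g₁ and g₂ induce
the same map R → S/m_S², so the map R/m_R² → S/m_S² attached to a formal family over S is well
defined. (Coefficient rings are taken Noetherian here.) -/
theorem result
    {k : Type u} [Field k] [IsAlgClosed k] {F : ArtFun.Art k k ⥤ Type v}
    (R : ArtFun.CRing k k) (ξ : ArtFun.Family R.carrier R.res F) (hξ : ArtFun.IsMiniversal ξ)
    (S : ArtFun.CRing k k) (g₁ g₂ : R.carrier →ₐ[k] S.carrier)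
    (hg₁ : S.res.comp g₁ = R.res) (hg₂ : S.res.comp g₂ = R.res)
    (h : (ξ.along g₁ hg₁).toFormalElt = (ξ.along g₂ hg₂).toFormalElt) :
    (S.truncHom 1).1.comp g₁ = (S.truncHom 1).1.comp g₂ := by
  apply AlgHom.ext
  intro r
  refine Groth.Agent.Lib27.ArtTan.eq_of_forall_hom_dual_eq (S.trunc 1)
    (Groth.Agent.Lib27.ArtTan.trunc_one_mul_eq_zero S) _ _ ?_
  intro τ
  have h1 : (ξ.along g₁ hg₁).toFormalElt.elt 1 = (ξ.along g₂ hg₂).toFormalElt.elt 1 := by rw [h]
  have h2 := congrArg (F.map τ) h1
  change F.map τ (ξ.app _ _) = F.map τ (ξ.app _ _) at h2
  rw [← ξ.natural, ← ξ.natural] at h2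
  have h3 := hξ.2.1 h2
  have h4 := congrArg (fun φ : ArtFun.HomSet R.carrier R.res (ArtFun.Art.dual k k) => φ.1 r) h3
  exact h4

end Groth.Agent.S12299
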