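import Groth.Statements.S12305
import Groth.Agent.Lib.Helper1.CotTUnif

set_option autoImplicit false
universe u
open CotT

namespace Groth.Agent.S12305

/-- Let k be an algebraically closed field, A a finitely generated k-algebra which is a domain, smooth
over k and of Krull dimension one (the coordinate ring of a nonsingular affine curve T), t ∈ A an
element generating a maximal ideal (a point 0 of T), and B a finitely generated flat A-algebra (an
affine flat family X = Spec B over T). Then the following are equivalent: (i) B is smooth over A at
every prime of B not containing t, that is, every fibre of X over a point of T other than 0 is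
smooth; (ii) there is an integer n₀ such that t^(n₀) annihilates the cotangent module T¹(B/A, M),
computed from the choice-free presentation of B over A, for every finitely generated B-module M. -/
theorem result
    {k : Type u} [Field k] [IsAlgClosed k] (A B : Type u) [CommRing A] [CommRing B] [IsDomain A]
    [Algebra k A] [Algebra.FiniteType k A] [Algebra.Smooth k A] (hdim : ringKrullDim A = 1)
    (t : A) (ht : (Ideal.span {t}).IsMaximal)
    [Algebra A B] [Algebra.FiniteType A B] [Module.Flat A B] :
    (∀ q : PrimeSpectrum B, algebraMap A B t ∉ q.asIdeal → q ∈ Algebra.smoothLocus A B) ↔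
    ∃ n₀ : ℕ, ∀ (M : Type u) [AddCommGroup M] [Module B M] [Module.Finite B M],
      ∀ x : CotT.T1 (CotT.canon A B) M, (algebraMap A B t) ^ n₀ • x = 0 := by
  classical
  haveI : IsNoetherianRing A := Algebra.FiniteType.isNoetherianRing k A
  haveI hfp : Algebra.FinitePresentation A B := Algebra.FinitePresentation.of_finiteType.mp inferInstance
  let P₀ := Algebra.Presentation.ofFinitePresentation A B
  let P : Algebra.Presentation A B (ULift.{u} (Fin (Algebra.Presentation.ofFinitePresentationVars A B)))
      (ULift.{u} (Fin (Algebra.Presentation.ofFinitePresentationRels A B))) :=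
    P₀.reindex Equiv.ulift Equiv.ulift
  obtain ⟨h⟩ := Groth.Agent.Lib.Helper1.CotTHom.exists_presHom P (CotT.canon A B)
  have hsm : (∀ q : PrimeSpectrum B, algebraMap A B t ∉ q.asIdeal → q ∈ Algebra.smoothLocus A B) ↔
      Algebra.FormallySmooth A (Localization.Away (algebraMap A B t)) := by
    rw [← Algebra.basicOpen_subset_smoothLocus_iff]
    constructor
    · intro H q hq
      exact H q hq
    · intro H q hq
      exact H hq
  rw [hsm]
  constructor
  · intro hfs
    obtain ⟨n, l, hl⟩ := Groth.Agent.Lib.Helper1.CotTUnif.quasiSplit_of_formallySmooth_away P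
      (algebraMap A B t)
    refine ⟨n, fun M _ _ _ x => ?_⟩
    apply (Groth.Agent.Lib.Helper1.CotTHom.T1pull_bijective h M).1
    rw [map_smul, map_zero]
    exact Groth.Agent.Lib.Helper1.CotTUnif.smul_T1_eq_zero_of_quasiSplit P _ l hl M _
  · rintro ⟨n₀, hn₀⟩
    haveI : Module.Finite B (L1 P) := Module.Finite.of_basis (L1basis P)
    haveI : Module.Finite B P.toExtension.Cotangent :=
      Module.Finite.of_surjective (toCot P) (Groth.Agent.Lib27.CotTL.toCot_surjective P)
    have hkill : ∀ x : T1 P P.toExtension.Cotangent, (algebraMap A B t) ^ n₀ • x = 0 := by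
      intro x
      obtain ⟨x', rfl⟩ := (Groth.Agent.Lib.Helper1.CotTHom.T1pull_bijective h
        P.toExtension.Cotangent).2 x
      rw [← map_smul, hn₀ P.toExtension.Cotangent x', map_zero]
    obtain ⟨l, hl⟩ := Groth.Agent.Lib.Helper1.CotTUnif.quasiSplit_of_smul_T1_eq_zero P _ hkill
    exact Groth.Agent.Lib.Helper1.CotTUnif.formallySmooth_away_of_quasiSplit P (algebraMap A B t)
      (Localization.Away (algebraMap A B t)) n₀ l hl

end Groth.Agent.S12305
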