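import Groth.Statements.S12316
import Groth.Agent.Lib.Helper1.ArtFunPullback

set_option autoImplicit false
universe u v
open CategoryTheory
open SGA7

namespace Groth.Agent.S12316

open Groth.Agent.Lib.Helper1.ArtFunLib ArtFun ArtFun.Art

/-- Suppose Λ is a Noetherian local ring, complete for its maximal ideal, whose residue field is k (so Λ
→ k is surjective), and work with functors defined on the category of local Artinian Λ-algebras
having residue field k. Take morphisms φ : F → G and ψ : G → H of such functors. Assume that each of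
F(k), G(k), H(k) consists of a single point; that for G the comparison map on fibre products A₁ ×_A
A₂ is surjective as soon as A₂ → A is surjective, and is bijective for products of the form A' ×_k
k[ε]; that for H the comparison map is bijective on every fibre product A₁ ×_A A₂ with A₂ → A
surjective; and that the induced map on tangent spaces G(k[ε]) → H(k[ε]) coming from ψ is injective.
Under these assumptions, φ ≫ ψ is smooth if and only if both φ and ψ are smooth. (The published
statement is for functors of cofibred groupoids with G semi-homogeneous and H homogeneous; this row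
is the case of set-valued functors.) -/
theorem result (Λ k : Type u) [CommRing Λ] [IsLocalRing Λ] [IsNoetherianRing Λ]
    [IsAdicComplete (IsLocalRing.maximalIdeal Λ) Λ] [Field k] [Algebra Λ k]
    (hk : Function.Surjective (algebraMap Λ k))
    {F G H : ArtFun.Art Λ k ⥤ Type v} (φ : F ⟶ G) (ψ : G ⟶ H)
    (hF : ArtFun.H0 F) (hG : ArtFun.H0 G ∧ ArtFun.S1 G ∧ ArtFun.Heps G) (hH0 : ArtFun.H0 H)
    (hH : ∀ ⦃B A A' A'' : ArtFun.Art Λ k⦄ (p' : B ⟶ A') (p'' : B ⟶ A'') (f' : A' ⟶ A) (f'' : A'' ⟶ A)
      (h : ArtFun.Art.IsFibreProd p' p'' f' f''), Function.Surjective f'' → Function.Bijective (ArtFun.cmp H h))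
    (hψ : Function.Injective (ArtFun.TangentSpace.map ψ)) :
    ArtFun.IsSmooth (φ ≫ ψ) ↔ (ArtFun.IsSmooth φ ∧ ArtFun.IsSmooth ψ) := by
  have : Module.Finite Λ k := Module.Finite.of_surjective (Algebra.linearMap Λ k) hk
  have hH' : RS H := hH
  have hGbar : Hbar G := (s1_iff_hbar G).1 hG.2.1
  have hψinj : ∀ A, Function.Injective (ψ.app A) :=
    injective_app_of_tangent_injective hG.1 hG.2.2 hGbar hH0 hH'.hsq ψ hψ
  constructor
  · intro hs
    have hs' := (isSmooth_iff (φ ≫ ψ)).1 hs
    constructor
    · rw [isSmooth_iff]
      intro B A μ hμ x y e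
      obtain ⟨z, hz1, hz2⟩ := hs' μ hμ x (ψ.app B y) (by
        rw [comp_app_apply, e, nat_apply])
      refine ⟨z, hz1, ?_⟩
      apply hψinj B
      rw [← hz2, comp_app_apply]
    · apply isSmooth_of_bijective
      intro A
      refine ⟨hψinj A, ?_⟩
      have hsurj : Function.Surjective ((φ ≫ ψ).app A) := by
        apply surjective_app_of_isSmooth (φ ≫ ψ) hs
        intro y
        obtain ⟨x⟩ := hF.1
        exact ⟨x, @Subsingleton.elim _ hH0.2 _ _⟩
      intro w
      obtain ⟨x, hx⟩ := hsurj w
      exact ⟨φ.app A x, hx⟩
  · rintro ⟨h1, h2⟩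
    exact isSmooth_comp φ ψ h1 h2

end Groth.Agent.S12316
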