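import Groth.Statements.S1233
import Mathlib
import Groth.Agent.Lib.Helper9.WeakAssEtale

set_option autoImplicit false
universe u
open FlatMor

namespace Groth.Agent.S1233

open TensorProduct in
/-- Let A → B be an étale ring map, M an A-module and u a prime of B lying over the prime p of A. Then u
is a weakly associated prime of the B-module B ⊗_A M if and only if p is a weakly associated prime
of M. -/
theorem result {A B : Type u} [CommRing A] [CommRing B] [Algebra A B] [Algebra.Etale A B]
    (M : Type u) [AddCommGroup M] [Module A M] (p : Ideal A) [p.IsPrime] (u : Ideal B) [u.IsPrime] [u.LiesOver p] :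
    u ∈ FlatCA.weakAss B (B ⊗[A] M) ↔ p ∈ FlatCA.weakAss A M := by
  constructor
  · intro h
    exact Groth.Agent.Lib.Helper9.WeakAssEtale.comap_mem_weakAss_of_etale M p u h
  · intro h
    exact Groth.Agent.Lib.Helper9.WeakAssEtale.mem_weakAss_baseChange' p u h

end Groth.Agent.S1233
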