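import Groth.Statements.S12478
import Groth.Agent.Lib.Helper3.VALocal
import Groth.Agent.Lib.Helper3.PnBridge4
import Groth.Agent.S9710
import Groth.Agent.Lib.Helper29.RelAmple

set_option autoImplicit false
universe u
open CategoryTheory CategoryTheory.Limits AlgebraicGeometry TopologicalSpace Opposite
open scoped HomogeneousIdeal
open EGA2

namespace Groth.Agent.S12478
open Groth.Agent.Lib.Helper3

/-- Let Y be a quasi-compact scheme, f : X → Y a morphism of finite type and L an invertible O_X-module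
which is ample relative to f. Then there is an integer n₀ > 0 such that for every n ≥ n₀ the tensor
power L^{⊗n} is very ample relative to f (isomorphic to the inverse image of O(1) along a
Y-immersion of X into the projective bundle P(E) of a quasi-coherent O_Y-module E). (The converse
direction, from very-ampleness of one positive tensor power to f-ampleness, is the other half of the
published equivalence and is stated separately.) -/
theorem result {X Y : Scheme.{u}} [CompactSpace Y] (f : X ⟶ Y)
    [QuasiCompact f] [LocallyOfFiniteType f] (L : X.Modules) (hL : PicF.IsInvertible L)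
    (h : RelAmple.IsRelAmple f L) :
    ∃ n₀ : ℕ, 0 < n₀ ∧ ∀ n : ℕ, n₀ ≤ n → RelProj.IsRelVeryAmple f (CohB1.tensorPow L n) := by
  classical
  obtain ⟨s, hs, hcov⟩ := isCompact_iff_finite_and_eq_biUnion_affineOpens.mp
    (show IsCompact (X := Y) (⊤ : Y.Opens) from isCompact_univ)
  have hd : ∀ V : Y.affineOpens, ∃ d₀ : ℕ, 0 < d₀ ∧ ∀ d : ℕ, d₀ ≤ d →
      RelAmple.IsRelVeryAmplePn (f ∣_ V.1) (CohB1.tensorPow (L.restrict (f ⁻¹ᵁ V.1).ι) d) :=
    fun V => Groth.Agent.S9710.result (f ∣_ V.1) (L.restrict (f ⁻¹ᵁ V.1).ι) (h.2 V)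
  choose d₀ hd₀ hd using hd
  refine ⟨hs.toFinset.sup d₀ + 1, Nat.succ_pos _, fun n hn => ?_⟩
  refine VALocal.isRelVeryAmple_of_openCover f (CohB1.tensorPow L n)
    (Groth.Agent.Lib.Helper29.QCoh.isInvertible_tensorPow hL n) (ι := s) (fun V => (V.1 : Y.Opens)) ?_ fun V => ?_
  · rw [hcov]
    exact (iSup_subtype' (p := fun V => V ∈ s) (f := fun V _ => (V : Y.Opens))).symm
  · obtain ⟨θ⟩ := Groth.Agent.Lib.Helper29.QCoh.nonempty_restrictTensorPowIso (f ⁻¹ᵁ V.1.1).ι hL n
    refine PnBridge.isRelVeryAmple_of_isRelVeryAmplePn _ _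
      (Groth.Agent.Lib.Helper29.QCoh.isRelVeryAmplePn_of_iso _ θ.symm (hd V.1 n ?_))
    have : d₀ V.1 ≤ hs.toFinset.sup d₀ := Finset.le_sup (f := d₀) (hs.mem_toFinset.mpr V.2)
    omega

end Groth.Agent.S12478
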