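import Groth.Statements.S12417
-- import your own Groth.Agent.* helpers here

set_option autoImplicit false
universe u
open CategoryTheory AlgebraicGeometry
open Props

namespace Groth.Agent.S12417


theorem exists_fin_cover {X : Scheme.{u}} (U : X.Opens) (hU : IsCompact (U : Set X))
    (𝒮 : Set X.Opens) (h𝒮 : ∀ x ∈ U, ∃ D ∈ 𝒮, x ∈ D ∧ D ≤ U) :
    ∃ (n : ℕ) (V : Fin n → X.Opens), (∀ i, V i ∈ 𝒮) ∧ ⨆ i, V i = U := by
  classical
  choose! D hD𝒮 hxD hDU using h𝒮
  obtain ⟨t, ht⟩ := hU.elim_finite_subcover (fun x : U => ((D x.1 : X.Opens) : Set X))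
    (fun x => (D x.1).isOpen) (fun x hx => Set.mem_iUnion.mpr ⟨⟨x, hx⟩, hxD x hx⟩)
  refine ⟨t.card, fun i => D (t.equivFin.symm i).1.1, fun i => hD𝒮 _ (t.equivFin.symm i).1.2, ?_⟩
  apply le_antisymm
  · exact iSup_le fun i => hDU _ (t.equivFin.symm i).1.2
  · intro x hx
    obtain ⟨y, hy, hxy⟩ : ∃ y ∈ t, x ∈ D y.1 := by
      have := ht hx
      simpa using this
    rw [TopologicalSpace.Opens.mem_iSup]
    refine ⟨t.equivFin ⟨y, hy⟩, ?_⟩
    simpa using hxy

/-- Let X be a quasi-compact quasi-separated scheme and P a property of opens of X such that (a) P holds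
for every affine open, and (b) whenever a quasi-compact open U has a finite affine open covering U =
V_1 ∪ … ∪ V_n with P holding for every intersection V_i ∩ V_j, P holds for U. Then P holds for every
quasi-compact open of X. -/
theorem result (X : Scheme.{u}) [CompactSpace X] [QuasiSeparatedSpace X]
    (P : X.Opens → Prop) (ha : ∀ U : X.Opens, IsAffineOpen U → P U)
    (hb : ∀ (U : X.Opens) (n : ℕ) (V : Fin n → X.Opens), IsCompact (U : Set X) →
      (∀ i, IsAffineOpen (V i)) → ⨆ i, V i = U → (∀ i j, P (V i ⊓ V j)) → P U)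
    (U : X.Opens) (hU : IsCompact (U : Set X)) : P U := by
  -- first: quasi-compact opens contained in an affine open
  have hA : ∀ (V W : X.Opens), IsAffineOpen V → W ≤ V → IsCompact (W : Set X) → P W := by
    intro V W hV hWV hW
    obtain ⟨n, D, hD, hsup⟩ := exists_fin_cover W hW {D | ∃ f : Γ(X, V), D = X.basicOpen f}
      (fun x hx => by
        obtain ⟨f, hf1, hf2⟩ := hV.exists_basicOpen_le (⟨x, hx⟩ : W) (hWV hx)
        exact ⟨_, ⟨f, rfl⟩, hf2, hf1⟩)
    choose f hf using hD
    refine hb W n D hW (fun i => ?_) hsup (fun i j => ?_)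
    · rw [hf i]; exact hV.basicOpen _
    · rw [hf i, hf j, ← X.basicOpen_mul]
      exact ha _ (hV.basicOpen _)
  obtain ⟨n, V, hV, hsup⟩ := exists_fin_cover U hU {V | IsAffineOpen V}
    (fun x hx => by
      obtain ⟨_, ⟨V, hV, rfl⟩, hxV, hVU⟩ :=
        X.isBasis_affineOpens.exists_subset_of_mem_open hx U.2
      exact ⟨V, hV, hxV, hVU⟩)
  refine hb U n V hU hV hsup (fun i j => ?_)
  refine hA (V i) _ (hV i) inf_le_left ?_
  exact QuasiSeparatedSpace.inter_isCompact _ _ (V i).2 (hV i).isCompact (V j).2 (hV j).isCompact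

end Groth.Agent.S12417
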