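import Groth.Statements.S12419
import Groth.Agent.Lib.Helper9.FlatCrit2
import Groth.Agent.Lib.Helper9.FlatArtin
import Mathlib.RingTheory.HopkinsLevitzki
import Mathlib.RingTheory.Ideal.Quotient.Noetherian
import Mathlib.RingTheory.Ideal.GoingUp

set_option autoImplicit false
universe u
open TensorProduct
open CAlg

namespace Groth.Agent.S12419

/-- Let A → B be a local homomorphism of Noetherian local rings, m the maximal ideal of A, and φ : A →
A' a ring homomorphism to a semi-local Noetherian ring A' with Jacobson radical r', such that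
φ⁻¹(r') = m and such that every power m^n contains φ⁻¹(r'^N) for some N. Then B is flat over A if
and only if A' ⊗_A B is flat over A'. (Given φ⁻¹(r') = m, the condition on powers says that the
m-adic topology of A is induced by the r'-adic topology of A', equivalently that the induced
homomorphism of adic completions is injective, which is how the published statement phrases this
hypothesis.) -/
theorem result (A B A' : Type u) [CommRing A] [CommRing B]
    [CommRing A'] [IsNoetherianRing A] [IsLocalRing A] [IsNoetherianRing B] [IsLocalRing B]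
    [Algebra A B] [IsLocalHom (algebraMap A B)] [IsNoetherianRing A'] [Finite (MaximalSpectrum A')]
    [Algebra A A']
    (hrad : (Ideal.jacobson (⊥ : Ideal A')).comap (algebraMap A A') = IsLocalRing.maximalIdeal A)
    (htop : ∀ n : ℕ, ∃ N : ℕ,
      ((Ideal.jacobson (⊥ : Ideal A')) ^ N).comap (algebraMap A A') ≤ (IsLocalRing.maximalIdeal A) ^ n) :
    Module.Flat A B ↔ Module.Flat A' (A' ⊗[A] B) := by
  constructor
  · intro h
    infer_instance
  · intro hB'
    set m := IsLocalRing.maximalIdeal A with hm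
    set r' := Ideal.jacobson (⊥ : Ideal A') with hr'
    apply Groth.Agent.Lib.Helper9.flat_of_injOnTorsion_pow (R := A) (S := B) (M := B) m
    · rw [IsLocalRing.jacobson_eq_maximalIdeal ⊥ bot_ne_top]
      exact ((IsLocalRing.local_hom_TFAE (algebraMap A B)).out 0 2).mp ‹_›
    · intro n hn
      obtain ⟨N, hN⟩ := htop n
      set J := r' ^ N with hJ
      set 𝔞 := J.comap (algebraMap A A') with h𝔞
      have hmN : m ^ N ≤ 𝔞 := by
        rw [← hrad]
        exact Ideal.le_comap_pow _ _
      have hflat : Module.Flat (A ⧸ 𝔞) ((A ⧸ 𝔞) ⊗[A] B) := by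
        have hdim : Ring.KrullDimLE 0 (A ⧸ 𝔞) := Ring.krullDimLE_zero_iff.mpr fun P prime => by
          have hP := prime.comap (Ideal.Quotient.mk 𝔞)
          have h1 : 𝔞 ≤ P.comap (Ideal.Quotient.mk 𝔞) := by
            conv_lhs => rw [← Ideal.mk_ker (I := 𝔞)]
            exact Ideal.ker_le_comap _
          have h2 : m ≤ P.comap (Ideal.Quotient.mk 𝔞) := hP.le_of_pow_le (hmN.trans h1)
          have h3 : m = P.comap (Ideal.Quotient.mk 𝔞) :=
            (IsLocalRing.maximalIdeal.isMaximal A).eq_of_le hP.ne_top h2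
          have hint : (Ideal.Quotient.mk 𝔞).IsIntegral :=
            RingHom.isIntegral_of_surjective _ Ideal.Quotient.mk_surjective
          exact Ideal.isMaximal_of_isIntegral_of_isMaximal_comap' _ hint P
            (h3 ▸ IsLocalRing.maximalIdeal.isMaximal A)
        have hart : IsArtinianRing (A ⧸ 𝔞) := isArtinianRing_iff_krullDimLE_zero.mpr hdim
        have : IsScalarTower A (A ⧸ 𝔞) (A' ⧸ J) := IsScalarTower.of_algebraMap_eq (fun x => rfl)
        have : Module.Flat (A' ⧸ J) ((A' ⧸ J) ⊗[A ⧸ 𝔞] ((A ⧸ 𝔞) ⊗[A] B)) := by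
          have e1 : (A' ⧸ J) ⊗[A ⧸ 𝔞] ((A ⧸ 𝔞) ⊗[A] B) ≃ₗ[A' ⧸ J] (A' ⧸ J) ⊗[A] B :=
            TensorProduct.AlgebraTensorModule.cancelBaseChange A (A ⧸ 𝔞) (A' ⧸ J) (A' ⧸ J) B
          have e2 : (A' ⧸ J) ⊗[A'] (A' ⊗[A] B) ≃ₗ[A' ⧸ J] (A' ⧸ J) ⊗[A] B :=
            TensorProduct.AlgebraTensorModule.cancelBaseChange A A' (A' ⧸ J) (A' ⧸ J) B
          exact Module.Flat.of_linearEquiv (e1.trans e2.symm)
        exact Groth.Agent.Lib.Helper9.flat_of_flat_baseChange_of_injective_of_isArtinianRing
          (R := A ⧸ 𝔞) (S := A' ⧸ J) Ideal.algebraMap_quotient_injective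
      have h1 : Groth.Agent.Lib.Helper9.InjOnTorsion A 𝔞 B :=
        Groth.Agent.Lib.Helper9.injOnTorsion_of_flat
      intro X Y _ _ _ _ hX hY j hj
      exact h1 X Y (fun x a => hX (a := ⟨a.1, hN a.2⟩)) (fun x a => hY (a := ⟨a.1, hN a.2⟩)) j hj

end Groth.Agent.S12419
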