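import Groth.Statements.S12421
import Mathlib.RingTheory.Flat.FaithfullyFlat.Basic

set_option autoImplicit false
universe u
open TensorProduct
open Desc

namespace Groth.Agent.S12421

section aux
variable (R R' : Type u) [CommRing R] [CommRing R'] [Algebra R R']
  (M : Type u) [AddCommGroup M] [Module R M]

/-- The contraction `s ⊗ (m ⊗ (r ⊗ y)) ↦ (s r) ⊗ (m ⊗ y)`. -/
noncomputable def mu (Y : Type u) [AddCommGroup Y] [Module R Y] :
    R' ⊗[R] (M ⊗[R] (R' ⊗[R] Y)) →ₗ[R] R' ⊗[R] (M ⊗[R] Y) :=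
  (LinearMap.rTensor (M ⊗[R] Y) (LinearMap.mul' R R')) ∘ₗ
    (TensorProduct.assoc R R' R' (M ⊗[R] Y)).symm.toLinearMap ∘ₗ
    (LinearMap.lTensor R' (TensorProduct.leftComm R M R' Y).toLinearMap)

@[simp] lemma mu_tmul (Y : Type u) [AddCommGroup Y] [Module R Y] (s : R') (m : M) (r : R') (y : Y) :
    mu R R' M Y (s ⊗ₜ (m ⊗ₜ (r ⊗ₜ y))) = (s * r) ⊗ₜ (m ⊗ₜ y) := by
  simp [mu]

end aux

/-- Let R → R' be faithfully flat and M an R-module. With δ¹ : M ⊗ R' → M ⊗ (R' ⊗ R'), m ⊗ r ↦ m ⊗ (1 ⊗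
r) − m ⊗ (r ⊗ 1), and δ² : M ⊗ (R' ⊗ R') → M ⊗ (R' ⊗ (R' ⊗ R')), m ⊗ x ↦ m ⊗ (1 ⊗ x) − m ⊗ (ins₁ x)
+ m ⊗ (ins₂ x), where ins₁ (r₁ ⊗ r₂) = r₁ ⊗ (1 ⊗ r₂) and ins₂ (r₁ ⊗ r₂) = r₁ ⊗ (r₂ ⊗ 1), the
sequence M ⊗ R' → M ⊗ R'^{⊗2} → M ⊗ R'^{⊗3} is exact: the kernel of δ² is the image of δ¹. (The
published statement asserts exactness of the whole complex; this row states exactness at M ⊗ R′ ⊗ R′
only.) -/
theorem result (R R' : Type u) [CommRing R] [CommRing R'] [Algebra R R']
    [Module.FaithfullyFlat R R'] (M : Type u) [AddCommGroup M] [Module R M] :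
    Function.Exact
      (LinearMap.lTensor M (Algebra.TensorProduct.includeRight : R' →ₐ[R] R' ⊗[R] R').toLinearMap -
        LinearMap.lTensor M
          (Algebra.TensorProduct.includeLeft : R' →ₐ[R] R' ⊗[R] R').toLinearMap)
      (LinearMap.lTensor M
          (Algebra.TensorProduct.includeRight : R' ⊗[R] R' →ₐ[R] R' ⊗[R] (R' ⊗[R] R')).toLinearMap -
        LinearMap.lTensor M
          (Algebra.TensorProduct.map (AlgHom.id R R')
            (Algebra.TensorProduct.includeRight : R' →ₐ[R] R' ⊗[R] R')).toLinearMap +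
        LinearMap.lTensor M
          (Algebra.TensorProduct.map (AlgHom.id R R')
            (Algebra.TensorProduct.includeLeft : R' →ₐ[R] R' ⊗[R] R')).toLinearMap) := by
  rw [← Module.FaithfullyFlat.lTensor_exact_iff_exact R R']
  set D1 := (LinearMap.lTensor M (Algebra.TensorProduct.includeRight : R' →ₐ[R] R' ⊗[R] R').toLinearMap -
        LinearMap.lTensor M
          (Algebra.TensorProduct.includeLeft : R' →ₐ[R] R' ⊗[R] R').toLinearMap) with hD1
  set D2 := (LinearMap.lTensor M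
          (Algebra.TensorProduct.includeRight : R' ⊗[R] R' →ₐ[R] R' ⊗[R] (R' ⊗[R] R')).toLinearMap -
        LinearMap.lTensor M
          (Algebra.TensorProduct.map (AlgHom.id R R')
            (Algebra.TensorProduct.includeRight : R' →ₐ[R] R' ⊗[R] R')).toLinearMap +
        LinearMap.lTensor M
          (Algebra.TensorProduct.map (AlgHom.id R R')
            (Algebra.TensorProduct.includeLeft : R' →ₐ[R] R' ⊗[R] R')).toLinearMap) with hD2
  have hcomp : D2 ∘ₗ D1 = 0 := by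
    ext m r
    simp [hD1, hD2, TensorProduct.tmul_sub, TensorProduct.tmul_add]
  have hhom : (LinearMap.id : R' ⊗[R] (M ⊗[R] (R' ⊗[R] R')) →ₗ[R] _) =
      (LinearMap.lTensor R' D1) ∘ₗ (mu R R' M R') +
        (mu R R' M (R' ⊗[R] R')) ∘ₗ (LinearMap.lTensor R' D2) := by
    ext s m r₁ r₂
    simp [hD1, hD2, TensorProduct.tmul_sub, TensorProduct.tmul_add]
  intro x
  constructor
  · intro hx
    refine ⟨mu R R' M R' x, ?_⟩
    have := LinearMap.congr_fun hhom x
    simp only [LinearMap.id_coe, id_eq, LinearMap.add_apply, LinearMap.coe_comp,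
      Function.comp_apply, hx, map_zero, add_zero] at this
    exact this.symm
  · rintro ⟨y, rfl⟩
    rw [← LinearMap.comp_apply, ← LinearMap.lTensor_comp, hcomp]
    simp

end Groth.Agent.S12421
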