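import Groth.Statements.S12442
-- import your own Groth.Agent.* helpers here
import Mathlib

set_option autoImplicit false
universe u
open Mor

namespace Groth.Agent.S12442

open AlgebraicGeometry CategoryTheory in
/-- Let f : X → Y and g : Y → S be morphisms of schemes. If the composite X → S is locally of finite
presentation and g is locally of finite type, then f is locally of finite presentation. -/
theorem result {X Y S : Scheme.{u}} (f : X ⟶ Y) (g : Y ⟶ S)
    [LocallyOfFinitePresentation (f ≫ g)] [LocallyOfFiniteType g] :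
    LocallyOfFinitePresentation f := by
  rw [HasRingHomProperty.iff_exists_appLE (P := @LocallyOfFinitePresentation)
    (RingHom.finitePresentation_stableUnderComposition.stableUnderCompositionWithLocalizationAway
      RingHom.finitePresentation_holdsForLocalizationAway).1]
  intro x
  obtain ⟨_, ⟨W, hW, rfl⟩, hxW, -⟩ :=
    S.isBasis_affineOpens.exists_subset_of_mem_open (Set.mem_univ (g.base (f.base x))) isOpen_univ
  obtain ⟨_, ⟨U, hU, rfl⟩, hxU, hUW⟩ :=
    Y.isBasis_affineOpens.exists_subset_of_mem_open (show f.base x ∈ g ⁻¹ᵁ W from hxW)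
      (g ⁻¹ᵁ W).2
  obtain ⟨_, ⟨V, hV, rfl⟩, hxV, hVU⟩ :=
    X.isBasis_affineOpens.exists_subset_of_mem_open (show x ∈ f ⁻¹ᵁ U from hxU) (f ⁻¹ᵁ U).2
  refine ⟨⟨U, hU⟩, ⟨V, hV⟩, hxV, hVU, ?_⟩
  have h1 := Scheme.Hom.appLE_comp_appLE f g W U V hUW hVU
  have h2 : ((f ≫ g).appLE W V (hVU.trans ((TopologicalSpace.Opens.map f.base).map
      (homOfLE hUW)).le)).hom.FinitePresentation :=
    (f ≫ g).finitePresentation_appLE hW hV _
  rw [← h1, CommRingCat.hom_comp] at h2
  exact RingHom.FinitePresentation.of_comp_finiteType _ h2 (g.finiteType_appLE hW hU hUW)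

end Groth.Agent.S12442
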