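import Groth.Statements.S12443
-- import your own Groth.Agent.* helpers here
import Mathlib

set_option autoImplicit false
universe u
open CategoryTheory TopologicalSpace
open ShSp

namespace Groth.Agent.S12443


open TopCat in
noncomputable def e₀ {U X : TopCat.{u}} (j : U ⟶ X) (hj : Topology.IsOpenEmbedding j) :
    hj.functor ⋙ Opens.map j ≅ 𝟭 (Opens U) :=
  NatIso.ofComponents (fun V => eqToIso (by
    apply TopologicalSpace.Opens.ext
    exact Set.preimage_image_eq _ hj.injective)) (fun _ => Subsingleton.elim _ _)

open TopCat in
noncomputable def compIso {U X : TopCat.{u}} (j : U ⟶ X) (hj : Topology.IsOpenEmbedding j) :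
    TopCat.Sheaf.pushforward (Type u) j ⋙ TopCat.Sheaf.pullback (Type u) j ≅
      𝟭 (U.Sheaf (Type u)) :=
  haveI := Topology.IsOpenEmbedding.functor_isContinuous hj
  Functor.isoWhiskerLeft (TopCat.Sheaf.pushforward (Type u) j) (hj.sheafPullbackIso (Type u)) ≪≫
    (Functor.sheafPushforwardContinuousComp' (F := hj.functor) (G := Opens.map j) (e₀ j hj)
      (Type u) (Opens.grothendieckTopology U) (Opens.grothendieckTopology X)
      (Opens.grothendieckTopology U)) ≪≫
    Functor.sheafPushforwardContinuousId _ _

/-- Let j : U → X be the inclusion of an open subset (an open embedding) and F a sheaf of sets on U.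
Then the counit j⁻¹ j_* F → F is an isomorphism, i.e. j⁻¹ j_* is the identity on sheaves on U. -/
theorem result {U X : TopCat.{u}} (j : U ⟶ X) (hj : Topology.IsOpenEmbedding j)
    (F : U.Sheaf (Type u)) :
    IsIso ((TopCat.Sheaf.pullbackPushforwardAdjunction (Type u) j).counit.app F) := by
  have := (TopCat.Sheaf.pullbackPushforwardAdjunction (Type u) j).isIso_counit_of_iso (compIso j hj)
  infer_instance

end Groth.Agent.S12443
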