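import Groth.Statements.S12445
-- import your own Groth.Agent.* helpers here
import Mathlib
import Groth.Agent.Lib.Helper12.CatRing

set_option autoImplicit false
universe u
open CategoryTheory AlgebraicGeometry
open Props

namespace Groth.Agent.S12445


open Groth.Agent.Lib.Helper12.Codim in
lemma affine_iff (S : Scheme.{u}) (U : S.affineOpens) :
    PtTop.IsCatenarySpace (U : S.Opens) ↔ CAlg.IsCatenary Γ(S, U) := by
  rw [← isCatenarySpace_primeSpectrum_iff]
  have e : ((U : S.Opens) : Type u) ≃ₜ PrimeSpectrum Γ(S, U) := Scheme.homeoOfIso U.2.isoSpec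
  exact ⟨isCatenarySpace_of_homeomorph e, isCatenarySpace_of_homeomorph e.symm⟩

/-- (1) ⇔ (3) ⇔ (4): for a scheme S, the underlying topological space of S is catenary if and only if
the coordinate ring of every affine open of S is a catenary ring, if and only if S is covered by
affine opens with catenary coordinate rings. (Clause (2), openness of catenarity, and the final
assertion on locally closed subschemes are the topological statement for open coverings and locally
closed subspaces.) -/
theorem result (S : Scheme.{u}) :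
    (PtTop.IsCatenarySpace S ↔ ∀ U : S.affineOpens, CAlg.IsCatenary Γ(S, U)) ∧
    (PtTop.IsCatenarySpace S ↔
      ∀ s : S, ∃ U : S.affineOpens, s ∈ (U : S.Opens) ∧ CAlg.IsCatenary Γ(S, U)) := by
  open Groth.Agent.Lib.Helper12.Codim in
  have h12 : PtTop.IsCatenarySpace S → ∀ U : S.affineOpens, CAlg.IsCatenary Γ(S, U) := by
    intro h U
    rw [← affine_iff]
    exact isCatenarySpace_of_isLocallyClosed h (S := ((U : S.Opens) : Set S))
      (U : S.Opens).2.isLocallyClosed
  have h23 : (∀ U : S.affineOpens, CAlg.IsCatenary Γ(S, U)) →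
      ∀ s : S, ∃ U : S.affineOpens, s ∈ (U : S.Opens) ∧ CAlg.IsCatenary Γ(S, U) := by
    intro h s
    obtain ⟨W, hW, hsW, -⟩ := exists_isAffineOpen_mem_and_subset (x := s) (U := ⊤) trivial
    exact ⟨⟨W, hW⟩, hsW, h ⟨W, hW⟩⟩
  have h31 : (∀ s : S, ∃ U : S.affineOpens, s ∈ (U : S.Opens) ∧ CAlg.IsCatenary Γ(S, U)) →
      PtTop.IsCatenarySpace S := by
    intro h
    apply isCatenarySpace_of_local
    intro s
    obtain ⟨U, hsU, hU⟩ := h s
    exact ⟨U, hsU, (affine_iff S U).2 hU⟩
  exact ⟨⟨h12, fun h => h31 (h23 h)⟩, ⟨fun h => h23 (h12 h), h31⟩⟩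

end Groth.Agent.S12445
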