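import Groth.Statements.S12455
import Mathlib

set_option autoImplicit false
universe u
open CategoryTheory AlgebraicGeometry
open FlatMor

namespace Groth.Agent.S12455

/-- A base change of a formally étale morphism of schemes is formally étale: if the square with sides g'
: X' → X, f' : X' → S', f : X → S, g : S' → S is cartesian and f is formally étale (unique lifting
against square-zero thickenings of affine schemes), then so is f'. -/
theorem result {X S X' S' : Scheme.{u}} (f : X ⟶ S) (g : S' ⟶ S) (g' : X' ⟶ X) (f' : X' ⟶ S')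
    (hsq : IsPullback g' f' f g) (hf : MoreMor.IsFormallyEtaleHom f) :
    MoreMor.IsFormallyEtaleHom f' := by
  intro A _ I hI a b w
  set t := Spec.map (CommRingCat.ofHom (Ideal.Quotient.mk I)) with ht
  -- lift to X
  obtain ⟨m, ⟨hm1, hm2⟩, hmu⟩ := hf A I hI (a ≫ g') (b ≫ g) (by
    rw [← Category.assoc, w, Category.assoc, Category.assoc, hsq.w])
  -- lift to X' by the pullback property
  let l : Spec (CommRingCat.of A) ⟶ X' := hsq.lift m b hm2
  have hl1 : l ≫ g' = m := hsq.lift_fst _ _ _
  have hl2 : l ≫ f' = b := hsq.lift_snd _ _ _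
  refine ⟨l, ⟨?_, hl2⟩, ?_⟩
  · apply hsq.hom_ext
    · rw [Category.assoc, hl1, hm1]
    · rw [Category.assoc, hl2, w]
  · rintro l' ⟨hl'1, hl'2⟩
    apply hsq.hom_ext
    · rw [hl1]
      apply hmu
      refine ⟨by rw [← Category.assoc, hl'1], by rw [Category.assoc, hsq.w, ← Category.assoc, hl'2]⟩
    · rw [hl2, hl'2]

end Groth.Agent.S12455
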