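import Groth.Statements.S1434
import Mathlib
import Groth.Agent.Lib.Helper10.FOThick

set_option autoImplicit false
universe u
open FlatMor

namespace Groth.Agent.S1434

open AlgebraicGeometry CategoryTheory Limits in
/-- Part (1), for a closed subscheme: let Z ⊂ X be the closed subscheme cut out by an ideal sheaf I and
Z' the one cut out by I², its first order infinitesimal neighbourhood. Given a first order
thickening T → T', a morphism a : T → Z and a morphism b : T' → X compatible with them, there is a
unique morphism T' → Z' through which b factors (compatibility with a is then automatic). -/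
theorem result {X T T' : Scheme.{u}} (I : X.IdealSheafData) (t : T ⟶ T') (ht : MoreMor.IsFirstOrderThickening t)
    (a : T ⟶ I.subscheme) (b : T' ⟶ X) (w : a ≫ I.subschemeι = t ≫ b) :
    ∃! a' : T' ⟶ (I ^ 2).subscheme, a' ≫ (I ^ 2).subschemeι = b := by
  have hI : I ≤ (t ≫ b).ker := by
    rw [← w]
    calc I = I.subschemeι.ker := (AlgebraicGeometry.Scheme.IdealSheafData.ker_subschemeι I).symm
      _ ≤ (a ≫ I.subschemeι).ker := AlgebraicGeometry.Scheme.Hom.le_ker_comp a I.subschemeι
  have h2 : (I ^ 2).subschemeι.ker ≤ b.ker := by
    rw [AlgebraicGeometry.Scheme.IdealSheafData.ker_subschemeι]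
    exact Groth.Agent.Lib.Helper10.FOThick.sq_le_ker_of_le_ker_comp I t ht b hI
  refine ⟨AlgebraicGeometry.IsClosedImmersion.lift (I ^ 2).subschemeι b h2,
    AlgebraicGeometry.IsClosedImmersion.lift_fac _ _ _, ?_⟩
  intro y hy
  rw [← CategoryTheory.cancel_mono (I ^ 2).subschemeι, hy,
    AlgebraicGeometry.IsClosedImmersion.lift_fac]

end Groth.Agent.S1434
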