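import Groth.Statements.S12456
import Mathlib
import Groth.Agent.S1434
import Groth.Agent.Lib.Helper1.Thickening

set_option autoImplicit false
universe u
open CategoryTheory AlgebraicGeometry
open OmegaSh

namespace Groth.Agent.S12456

namespace Aux
open CategoryTheory AlgebraicGeometry CategoryTheory.Limits

theorem isFirstOrderThickening_inclusion {X : Scheme.{u}} (I : X.IdealSheafData) (h : I ^ 2 ≤ I) :
    MoreMor.IsFirstOrderThickening (Scheme.IdealSheafData.inclusion h) := by
  have hfac : Scheme.IdealSheafData.inclusion h ≫ (I ^ 2).subschemeι = I.subschemeι :=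
    Scheme.IdealSheafData.inclusion_subschemeι h
  have hci : IsClosedImmersion (Scheme.IdealSheafData.inclusion h) := by
    have : IsClosedImmersion (Scheme.IdealSheafData.inclusion h ≫ (I ^ 2).subschemeι) := by
      rw [hfac]; infer_instance
    exact IsClosedImmersion.of_comp (Scheme.IdealSheafData.inclusion h) (I ^ 2).subschemeι
  have hpb : IsPullback (Scheme.IdealSheafData.inclusion h) (𝟙 I.subscheme) (I ^ 2).subschemeι
      I.subschemeι := IsPullback.of_vert_isIso_mono ⟨by rw [hfac, Category.id_comp]⟩
  have hpb2 : IsPullback (𝟙 (I ^ 2).subscheme) (𝟙 (I ^ 2).subscheme) (I ^ 2).subschemeι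
      (I ^ 2).subschemeι := IsPullback.of_vert_isIso_mono ⟨rfl⟩
  have hker : (Scheme.IdealSheafData.inclusion h).ker = I.comap (I ^ 2).subschemeι := by
    rw [Groth.Agent.Lib.Helper1.ker_of_isPullback hpb, Scheme.IdealSheafData.ker_subschemeι]
  have hker2 : (I ^ 2).comap (I ^ 2).subschemeι = ⊥ := by
    have := Groth.Agent.Lib.Helper1.ker_of_isPullback hpb2
    rw [Scheme.IdealSheafData.ker_subschemeι, Scheme.Hom.ker_eq_bot_of_isIso] at this
    exact this.symm
  refine ⟨⟨hci, ⟨?_⟩⟩, ?_⟩
  · -- surjective
    intro y
    have hy : (I ^ 2).subschemeι y ∈ Set.range (I ^ 2).subschemeι := ⟨y, rfl⟩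
    rw [Scheme.IdealSheafData.range_subschemeι, Scheme.IdealSheafData.support_pow _ 2 (by norm_num),
      ← Scheme.IdealSheafData.range_subschemeι] at hy
    obtain ⟨z, hz⟩ := hy
    refine ⟨z, ?_⟩
    apply (I ^ 2).subschemeι.isClosedEmbedding.injective
    rw [← hz, ← hfac]
    rfl
  · rw [hker, ← Groth.Agent.Lib.Helper1.comap_mul, ← pow_two, hker2]

end Aux

/-- Let i : Z → X be an immersion, written as the closed subscheme of an open U ⊆ X cut out by an ideal
sheaf I followed by the inclusion of U. Then the first order infinitesimal neighbourhood of Z in X —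
the closed subscheme of U cut out by I² — together with Z ⊂ V(I²) and V(I²) → U → X is a universal
first order thickening of Z over X. (The inequality I² ≤ I is carried as an argument h; it always
holds.) -/
theorem result {X : Scheme.{u}} (U : X.Opens) (I : (U : Scheme.{u}).IdealSheafData)
    (h : I ^ 2 ≤ I) :
    OmegaSh.IsUnivThickening (I.subschemeι ≫ U.ι) (Scheme.IdealSheafData.inclusion h)
      ((I ^ 2).subschemeι ≫ U.ι) := by
  refine ⟨Aux.isFirstOrderThickening_inclusion I h, ?_, ?_⟩
  · rw [← CategoryTheory.Category.assoc, AlgebraicGeometry.Scheme.IdealSheafData.inclusion_subschemeι]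
  · intro T T' j b a hj hba
    have hjs : Function.Surjective j := by
      have := hj.1.2
      exact j.surjective
    have hrange : Set.range b ⊆ Set.range U.ι := by
      rintro _ ⟨y, rfl⟩
      obtain ⟨x, rfl⟩ := hjs y
      have : b (j x) = U.ι (I.subschemeι (a x)) := by
        rw [← AlgebraicGeometry.Scheme.Hom.comp_apply, hba]
        rfl
      rw [this]
      exact ⟨_, rfl⟩
    have hb0 : AlgebraicGeometry.IsOpenImmersion.lift U.ι b hrange ≫ U.ι = b :=
      AlgebraicGeometry.IsOpenImmersion.lift_fac _ _ _
    have hw : a ≫ I.subschemeι = j ≫ AlgebraicGeometry.IsOpenImmersion.lift U.ι b hrange := by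
      rw [← CategoryTheory.cancel_mono U.ι, CategoryTheory.Category.assoc,
        CategoryTheory.Category.assoc, hb0, hba]
    obtain ⟨a', ha', hu⟩ := Groth.Agent.S1434.result I j hj a
      (AlgebraicGeometry.IsOpenImmersion.lift U.ι b hrange) hw
    refine ⟨a', ⟨?_, ?_⟩, ?_⟩
    · rw [← CategoryTheory.cancel_mono (I ^ 2).subschemeι, CategoryTheory.Category.assoc, ha',
        CategoryTheory.Category.assoc, AlgebraicGeometry.Scheme.IdealSheafData.inclusion_subschemeι,
        hw]
    · rw [← CategoryTheory.Category.assoc, ha', hb0]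
    · rintro a'' ⟨-, h2⟩
      apply hu
      rw [← CategoryTheory.cancel_mono U.ι, CategoryTheory.Category.assoc, h2, hb0]

end Groth.Agent.S12456
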