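import Groth.Statements.S12460
import Mathlib.AlgebraicGeometry.Morphisms.FiniteType
import Mathlib.AlgebraicGeometry.Noetherian
import Mathlib.AlgebraicGeometry.Stalk
import Mathlib.RingTheory.RegularLocalRing.Defs
import Mathlib.Tactic.Algebraize

set_option autoImplicit false
universe u
open CategoryTheory AlgebraicGeometry
open Props

namespace Groth.Agent.S12460

open CategoryTheory AlgebraicGeometry in
/-- On an affine open `V`, regularity of the stalk at `y ∈ V` is membership of the corresponding
prime in the regular locus of `Γ(Y, V)`. -/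
theorem regular_iff {Y : Scheme.{u}} {V : Y.Opens} (hV : IsAffineOpen V) (y : V) :
    IsRegularLocalRing (Y.presheaf.stalk (y : Y)) ↔
      hV.primeIdealOf y ∈ EGA4.regLocus Γ(Y, V) := by
  have := hV.isLocalization_stalk y
  let e := IsLocalization.algEquiv (hV.primeIdealOf y).asIdeal.primeCompl
    (Localization.AtPrime (hV.primeIdealOf y).asIdeal) (Y.presheaf.stalk (y : Y))
  constructor
  · intro h
    exact IsRegularLocalRing.of_ringEquiv e.symm.toRingEquiv
  · intro h
    have h' : IsRegularLocalRing (Localization.AtPrime (hV.primeIdealOf y).asIdeal) := h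
    exact IsRegularLocalRing.of_ringEquiv e.toRingEquiv

open CategoryTheory AlgebraicGeometry in
/-- If the regular locus of `Γ(Y, V)` is open for an affine open `V`, then the regular points of `Y`
inside `V` form an open subset of `Y`. -/
theorem isOpen_regular_inter {Y : Scheme.{u}} {V : Y.Opens} (hV : IsAffineOpen V)
    (h : IsOpen (EGA4.regLocus Γ(Y, V))) :
    IsOpen ({y : Y | IsRegularLocalRing (Y.presheaf.stalk y)} ∩ (V : Set Y)) := by
  have hcont : Continuous (fun y : V => hV.primeIdealOf y) := by
    unfold IsAffineOpen.primeIdealOf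
    exact hV.isoSpec.hom.continuous
  have h1 : IsOpen ((fun y : V => hV.primeIdealOf y) ⁻¹' EGA4.regLocus Γ(Y, V)) :=
    h.preimage hcont
  have h2 := V.isOpenEmbedding'.isOpenMap _ h1
  convert h2 using 1
  ext y
  simp only [Set.mem_inter_iff, Set.mem_ofPred_eq, SetLike.mem_coe, Set.mem_image,
    Set.mem_preimage, Subtype.exists, exists_and_right, exists_eq_right]
  constructor
  · rintro ⟨hy, hyV⟩
    exact ⟨hyV, (regular_iff hV ⟨y, hyV⟩).1 hy⟩
  · rintro ⟨hyV, hy⟩
    exact ⟨(regular_iff hV ⟨y, hyV⟩).2 hy, hyV⟩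

/-- (1) ⇔ (3) ⇔ (4): let X be a locally Noetherian scheme. Then X is J-2 — for every morphism Y → X
locally of finite type the set of points y with O_{Y,y} a regular local ring is open in Y — if and
only if for every affine open U of X the ring Γ(X, U) is J-2 (every finite type algebra over it has
open regular locus), if and only if every point of X lies in such an affine open. (Schemes Y over X
are taken in the universe of X.) -/
theorem result (X : Scheme.{u}) [IsLocallyNoetherian X] :
    ((∀ (Y : Scheme.{u}) (g : Y ⟶ X), LocallyOfFiniteType g →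
        IsOpen {y : Y | IsRegularLocalRing (Y.presheaf.stalk y)}) ↔
      ∀ U : X.affineOpens, EGA4.IsJ2 Γ(X, U)) ∧
    ((∀ (Y : Scheme.{u}) (g : Y ⟶ X), LocallyOfFiniteType g →
        IsOpen {y : Y | IsRegularLocalRing (Y.presheaf.stalk y)}) ↔
      ∀ x : X, ∃ U : X.affineOpens, x ∈ (U : X.Opens) ∧ EGA4.IsJ2 Γ(X, U)) := by
  have h12 : (∀ (Y : Scheme.{u}) (g : Y ⟶ X), LocallyOfFiniteType g →
        IsOpen {y : Y | IsRegularLocalRing (Y.presheaf.stalk y)}) →
      ∀ U : X.affineOpens, EGA4.IsJ2 Γ(X, U) := by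
    intro hP U S _ _ hS
    have hU : IsAffineOpen (U : X.Opens) := U.2
    let φ : Γ(X, U) ⟶ CommRingCat.of S := CommRingCat.ofHom (algebraMap Γ(X, U) S)
    have hφ : LocallyOfFiniteType (Spec.map φ) := by
      rw [HasRingHomProperty.Spec_iff (P := @LocallyOfFiniteType)]
      exact RingHom.finiteType_algebraMap.2 hS
    have hg : LocallyOfFiniteType (Spec.map φ ≫ hU.fromSpec) := inferInstance
    have hopen := hP _ _ hg
    have hiff : ∀ y : PrimeSpectrum S, IsRegularLocalRing (Localization.AtPrime y.asIdeal) ↔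
        IsRegularLocalRing ((Spec (CommRingCat.of S)).presheaf.stalk y) := by
      intro y
      have := StructureSheaf.IsLocalization.to_stalk S y
      let e := IsLocalization.algEquiv y.asIdeal.primeCompl
        (Localization.AtPrime y.asIdeal) ((Spec.structureSheaf S).presheaf.stalk y)
      constructor
      · intro h
        exact IsRegularLocalRing.of_ringEquiv e.toRingEquiv
      · intro h
        have h' : IsRegularLocalRing ((Spec.structureSheaf S).presheaf.stalk y) := h
        exact IsRegularLocalRing.of_ringEquiv e.symm.toRingEquiv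
    have hset : EGA4.regLocus S = {y : Spec (CommRingCat.of S) |
        IsRegularLocalRing ((Spec (CommRingCat.of S)).presheaf.stalk y)} := by
      ext y
      simp only [EGA4.regLocus, Set.mem_ofPred_eq]
      exact hiff y
    rw [hset]
    exact hopen
  have h23 : (∀ U : X.affineOpens, EGA4.IsJ2 Γ(X, U)) →
      ∀ x : X, ∃ U : X.affineOpens, x ∈ (U : X.Opens) ∧ EGA4.IsJ2 Γ(X, U) := by
    intro h x
    obtain ⟨U, hU, hxU, -⟩ := TopologicalSpace.Opens.isBasis_iff_nbhd.mp X.isBasis_affineOpens
      (show x ∈ (⊤ : X.Opens) from trivial)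
    exact ⟨⟨U, hU⟩, hxU, h _⟩
  have h31 : (∀ x : X, ∃ U : X.affineOpens, x ∈ (U : X.Opens) ∧ EGA4.IsJ2 Γ(X, U)) →
      (∀ (Y : Scheme.{u}) (g : Y ⟶ X), LocallyOfFiniteType g →
        IsOpen {y : Y | IsRegularLocalRing (Y.presheaf.stalk y)}) := by
    intro h Y g hg
    rw [isOpen_iff_forall_mem_open]
    intro y hy
    obtain ⟨U, hgU, hJ⟩ := h (g y)
    obtain ⟨V, hV, hyV, hVU⟩ := TopologicalSpace.Opens.isBasis_iff_nbhd.mp Y.isBasis_affineOpens
      (show y ∈ (g ⁻¹ᵁ (U : X.Opens) : Y.Opens) from hgU)
    have hft := hg.finiteType_appLE U.2 hV hVU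
    algebraize [(g.appLE U V hVU).hom]
    have hopen : IsOpen (EGA4.regLocus Γ(Y, V)) := hJ Γ(Y, V) hft
    exact ⟨_, Set.inter_subset_left, isOpen_regular_inter hV hopen, hy, hyV⟩
  exact ⟨⟨h12, fun h => h31 (h23 h)⟩, ⟨fun h => h23 (h12 h), h31⟩⟩

end Groth.Agent.S12460
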