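import Groth.Statements.S12463
import Groth.Agent.Lib.Helper21.BrR6
-- import your own Groth.Agent.* helpers here

set_option autoImplicit false
universe u
open Variety

namespace Groth.Agent.S12463

/-- Let (A, m) be a strictly henselian reduced Nagata local ring of dimension one with δ-invariant equal
to the number of geometric branches minus one, and A' the integral closure of A in its total ring of
fractions. Then A is a wedge of discrete valuation rings: for every maximal ideal m' of A' the
localization A'_{m'} is a discrete valuation ring whose residue field is the image of A, and A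
consists exactly of the elements of A' congruent to an element of A modulo every maximal ideal of A'
(the displayed inclusion; the reverse inclusion is trivial). (The inequality δ ≥ branches − 1 of the
published statement holds for every reduced Nagata local ring of dimension one and is not restated.) -/
theorem result (A : Type u) [CommRing A] [HenselianLocalRing A]
    [IsSepClosed (IsLocalRing.ResidueField A)] [IsReduced A] (hN : CAlg.IsNagata A) (hdim : ringKrullDim A = 1)
    (heq : Curv2.deltaInv A + 1 = Brnch.numGeomBranches A) :
    (∀ m' : MaximalSpectrum ↥(integralClosure A (FractionRing A)),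
        (∃ _ : IsDomain (Localization.AtPrime m'.asIdeal), IsDiscreteValuationRing (Localization.AtPrime m'.asIdeal)) ∧
        Function.Surjective (⇑(IsLocalRing.residue (Localization.AtPrime m'.asIdeal)) ∘
          ⇑(algebraMap ↥(integralClosure A (FractionRing A)) (Localization.AtPrime m'.asIdeal)) ∘
          ⇑(algebraMap A ↥(integralClosure A (FractionRing A))))) ∧
    ∀ a' : ↥(integralClosure A (FractionRing A)),
      (∃ a : A, ∀ m' : MaximalSpectrum ↥(integralClosure A (FractionRing A)),
          a' - algebraMap A _ a ∈ m'.asIdeal) →
      a' ∈ (algebraMap A ↥(integralClosure A (FractionRing A))).range := by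
  classical
  haveI : IsNoetherianRing A := hN.1
  haveI hfinC : Module.Finite A (integralClosure A (FractionRing A)) :=
    Groth.Agent.Lib.Helper21.NagataOne.finite_integralClosure A hN
  haveI : Finite (MaximalSpectrum (integralClosure A (FractionRing A))) :=
    Groth.Agent.Lib.Helper21.BrR.finite_maximalSpectrum A _
  letI : Fintype (MaximalSpectrum (integralClosure A (FractionRing A))) := Fintype.ofFinite _
  have hD : Curv2.deltaInv A < ⊤ := Groth.Agent.Lib.Helper21.NagataOne.deltaInv_lt_top A hdim
  rw [Groth.Agent.Lib.Helper21.BrR.numGeomBranches_eq A (FractionRing A)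
    (minimalPrimes.finite_of_isNoetherianRing A), Groth.Agent.Lib.Helper21.Br.card_sigma_eq_tsum,
    tsum_fintype] at heq
  unfold Curv2.deltaInv at hD heq
  obtain ⟨h1, h2⟩ := Groth.Agent.Lib.Helper21.BrR.eq_consequences A (FractionRing A) hD heq
  refine ⟨fun m' => ⟨Groth.Agent.Lib.Helper21.BrR.dvr_localization A hdim m', ?_⟩, h2⟩
  have hs := Groth.Agent.Lib.Helper21.BrR.surjective_of_card_emb_eq A (FractionRing A) m' (h1 m')
  haveI := m'.isMaximal
  intro y
  obtain ⟨s, rfl⟩ := IsLocalRing.residue_surjective y
  have hcm : (IsLocalRing.maximalIdeal (Localization.AtPrime m'.asIdeal)).under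
      (integralClosure A (FractionRing A)) = m'.asIdeal :=
    IsLocalization.AtPrime.under_maximalIdeal _ m'.asIdeal
  have hsurj := IsLocalization.surjective_quotientMap_of_maximal_of_localization
    (M := m'.asIdeal.primeCompl) (S := Localization.AtPrime m'.asIdeal)
    (I := IsLocalRing.maximalIdeal (Localization.AtPrime m'.asIdeal))
    (J := m'.asIdeal) (H := hcm.ge) (by rw [hcm]; exact m'.isMaximal)
  obtain ⟨q, hq⟩ := hsurj (Ideal.Quotient.mk _ s)
  obtain ⟨a, rfl⟩ := hs q
  refine ⟨a, ?_⟩
  exact hq

end Groth.Agent.S12463
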