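import Groth.Statements.S12480
import Groth.Agent.Lib.Helper3.VAAffTriv
import Groth.Agent.Lib.Helper29.QCohQcqs

set_option autoImplicit false
universe u
open CategoryTheory CategoryTheory.Limits AlgebraicGeometry TopologicalSpace Opposite
open scoped HomogeneousIdeal
open EGA2

namespace Groth.Agent.S12480
open Groth.Agent.Lib.Helper3

/-- Let X be a quasi-affine scheme and L an invertible O_X-module. Then L is very ample relative to the
canonical morphism u : X → Spec Γ(X, O_X): there are a quasi-coherent module E on that spectrum and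
an immersion i of X into the projective bundle P(E), compatible with u, with L isomorphic to
i^*O_{P(E)}(1). (The published statement adds that L is then ample; that assertion is stated
separately.) -/
theorem result (X : Scheme.{u}) [X.IsQuasiAffine] (L : X.Modules)
    (hL : PicF.IsInvertible L) : RelProj.IsRelVeryAmple X.toSpecΓ L := by
  have hLq : L.IsQuasicoherent := Groth.Agent.Lib.Helper29.QCoh.isQuasicoherent_of_isInvertible hL
  have hEq : ((Scheme.Modules.pushforward X.toSpecΓ).obj L).IsQuasicoherent :=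
    Groth.Agent.Lib.Helper29.QCoh.isQuasicoherent_pushforward_of_qcqs X.toSpecΓ L
  refine SymLine.isRelVeryAmple_of_forall_exists_affine_triv X.toSpecΓ L hL fun x => ?_
  obtain ⟨W, e, hxW, he⟩ := Groth.Agent.Lib.Helper29.QCoh.exists_isTriv hL x
  obtain ⟨_, ⟨r, hr, rfl⟩, hxr, hrW⟩ := Opens.isBasis_iff_nbhd.mp (Scheme.IsQuasiAffine.isBasis_basicOpen X) hxW
  have hpre : X.toSpecΓ ⁻¹ᵁ (PrimeSpectrum.basicOpen r) = X.basicOpen r := Scheme.toSpecΓ_preimage_basicOpen X r
  have hle : X.toSpecΓ ⁻¹ᵁ (PrimeSpectrum.basicOpen r) ≤ W := hpre.le.trans hrW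
  refine ⟨PrimeSpectrum.basicOpen r, IsAffineOpen.Spec_basicOpen r, Groth.Agent.Lib.Helper29.QCoh.res L hle e, ?_, ?_, he.restrict hle⟩
  · have : x ∈ X.toSpecΓ ⁻¹ᵁ (PrimeSpectrum.basicOpen r) := hpre ▸ hxr
    exact this
  · rw [hpre]; exact hr

end Groth.Agent.S12480
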