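import Groth.Statements.S12491
import Mathlib
import Groth.Agent.Lib.Helper20.SyzygyFree

set_option autoImplicit false
universe u
open VBPn

namespace Groth.Agent.S12491


/-- Let A be a regular local ring, k ≥ 0, and N_0, N_1, … A-modules with N_0 finitely generated and N_1,
…, N_k finitely generated and free, with linear maps d_i : N_i → N_{i+1} such that d_0 is injective
and the sequence 0 → N_0 → N_1 → ⋯ → N_k is exact. Then for every prime ideal p of A of height at
most k the localization of N_0 at p is a free module over A_p. The published statement is for a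
coherent analytic sheaf on a complex manifold that is locally a k-th syzygy sheaf and says its set
of non-free stalks has codimension greater than k; this row is the statement at one stalk, over any
regular local ring. -/
theorem result (A : Type u) [CommRing A] [IsRegularLocalRing A]
    (k : ℕ) (N : ℕ → Type u) [∀ i, AddCommGroup (N i)] [∀ i, Module A (N i)] [Module.Finite A (N 0)]
    (hfree : ∀ i, 1 ≤ i → i ≤ k → Module.Free A (N i) ∧ Module.Finite A (N i))
    (d : ∀ i, N i →ₗ[A] N (i + 1)) (hinj : Function.Injective (d 0))
    (hex : ∀ i, i + 1 < k → LinearMap.range (d i) = LinearMap.ker (d (i + 1)))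
    (p : Ideal A) [p.IsPrime] (hp : p.height ≤ k) :
    Module.Free (Localization.AtPrime p) (LocalizedModule p.primeCompl (N 0)) := by
  classical
  let S := p.primeCompl
  let B := Localization.AtPrime p
  have hregB : IsRegularLocalRing B :=
    Groth.Agent.Lib.Helper18.SerreReg.isRegularLocalRing_localization_atPrime A p
  let M : ℕ → Type u := fun i => LocalizedModule S (N i)
  let δ : ∀ i, M i →ₗ[B] M (i + 1) := fun i => LocalizedModule.map S (d i)
  have hfin0 : Module.Finite B (M 0) := inferInstance
  have hfreeM : ∀ i, 1 ≤ i → i ≤ k → Module.Projective B (M i) ∧ Module.Finite B (M i) := by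
    intro i h1 hk
    obtain ⟨hF, hFin⟩ := hfree i h1 hk
    exact ⟨inferInstance, inferInstance⟩
  have hinjM : Function.Injective (δ 0) := LocalizedModule.map_injective S (d 0) hinj
  have hexM : ∀ i, i + 1 < k → LinearMap.range (δ i) = LinearMap.ker (δ (i + 1)) := by
    intro i hi
    have h1 : Function.Exact (d i) (d (i + 1)) := by
      rw [LinearMap.exact_iff]; exact (hex i hi).symm
    have h2 : Function.Exact (δ i) (δ (i + 1)) := LocalizedModule.map_exact S (d i) (d (i + 1)) h1
    exact (LinearMap.exact_iff.mp h2).symm
  obtain ⟨n, hn⟩ := Groth.Agent.Lib.Helper21.exists_nat_eq_ringKrullDim (R := B)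
  have hnk : n ≤ k := by
    have h1 : ringKrullDim B = p.height :=
      IsLocalization.AtPrime.ringKrullDim_eq_height p B
    rw [hn] at h1
    have h2 : ((n : ℕ∞) : WithBot ℕ∞) = (p.height : WithBot ℕ∞) := by
      rw [← h1]; rfl
    have h3 : (n : ℕ∞) = p.height := WithBot.coe_eq_coe.mp h2
    rw [← h3] at hp
    exact_mod_cast hp
  have hproj : Module.Projective B (M 0) :=
    Groth.Agent.Lib.Helper20.SyzygyFree.projective_of_syzygy B k M hfreeM δ hinjM hexM n hn hnk
  exact Module.free_of_flat_of_isLocalRing

end Groth.Agent.S12491
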