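import Groth.Statements.S12498
import Mathlib
import Groth.Agent.Lib.Helper9.DefAut

set_option autoImplicit false
universe u
open Deform

namespace Groth.Agent.S12498

open Groth.Agent.Lib.Helper9.DefAut


/-- Let k be an algebraically closed field, A a local Artinian k-algebra with residue field k, and t a
nonzero element of the maximal ideal m_A annihilated by m_A, so that A → A/tA is a small extension.
Let B be a flat A-algebra (a deformation over A of its closed fibre B_0 = B/m_A B), and σ an
A-algebra automorphism of B/tB inducing the identity on B_0. Fix an A-algebra automorphism τ of B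
inducing σ (so τ induces the identity on B_0). Then the A-algebra automorphisms η of B inducing σ
correspond bijectively to the k-derivations d of B_0 through the rule η = τ + t·d, meaning η(b) =
τ(b) + t b′ for all b ∈ B and all b′ ∈ B lifting d applied to the image of b in B_0: every such η
determines a unique d, and every d comes from some such η. (The published statement phrases the
conclusion as a free and transitive action of Der_k(B_0, B_0) on the nonempty set of lifts of σ; the
condition that σ induces the identity on B_0 is expressed here through the chosen lift τ.) -/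
theorem result
    {k : Type u} [Field k] [IsAlgClosed k]
    {A : Type u} [CommRing A] [Algebra k A] [IsLocalRing A] [IsArtinianRing A]
    (hres : ∀ a : A, ∃ c : k, a - algebraMap k A c ∈ IsLocalRing.maximalIdeal A)
    (t : A) (ht : t ∈ IsLocalRing.maximalIdeal A) (ht0 : t ≠ 0)
    (htm : ∀ a ∈ IsLocalRing.maximalIdeal A, a * t = 0)
    {B : Type u} [CommRing B] [Algebra A B] [Module.Flat A B] [Algebra k B] [IsScalarTower k A B]
    (σ : (B ⧸ Ideal.span {algebraMap A B t}) ≃ₐ[A] (B ⧸ Ideal.span {algebraMap A B t}))
    (τ : B ≃ₐ[A] B)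
    (hτ : ∀ b : B, Ideal.Quotient.mk (Ideal.span {algebraMap A B t}) (τ b) =
      σ (Ideal.Quotient.mk (Ideal.span {algebraMap A B t}) b))
    (hτ0 : ∀ b : B, τ b - b ∈ (IsLocalRing.maximalIdeal A).map (algebraMap A B)) :
    (∀ η : B ≃ₐ[A] B, (∀ b : B, Ideal.Quotient.mk (Ideal.span {algebraMap A B t}) (η b) =
        σ (Ideal.Quotient.mk (Ideal.span {algebraMap A B t}) b)) →
      ∃! d : Derivation k (B ⧸ (IsLocalRing.maximalIdeal A).map (algebraMap A B))
          (B ⧸ (IsLocalRing.maximalIdeal A).map (algebraMap A B)),
        ∀ b b' : B, Ideal.Quotient.mk ((IsLocalRing.maximalIdeal A).map (algebraMap A B)) b' =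
            d (Ideal.Quotient.mk ((IsLocalRing.maximalIdeal A).map (algebraMap A B)) b) →
          η b = τ b + algebraMap A B t * b') ∧
    (∀ d : Derivation k (B ⧸ (IsLocalRing.maximalIdeal A).map (algebraMap A B))
        (B ⧸ (IsLocalRing.maximalIdeal A).map (algebraMap A B)),
      ∃ η : B ≃ₐ[A] B, (∀ b : B, Ideal.Quotient.mk (Ideal.span {algebraMap A B t}) (η b) =
          σ (Ideal.Quotient.mk (Ideal.span {algebraMap A B t}) b)) ∧
        ∀ b b' : B, Ideal.Quotient.mk ((IsLocalRing.maximalIdeal A).map (algebraMap A B)) b' =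
            d (Ideal.Quotient.mk ((IsLocalRing.maximalIdeal A).map (algebraMap A B)) b) →
          η b = τ b + algebraMap A B t * b') := by
  have hspan : ∀ (η : B ≃ₐ[A] B), (∀ b : B, Ideal.Quotient.mk (Ideal.span {algebraMap A B t}) (η b) =
        σ (Ideal.Quotient.mk (Ideal.span {algebraMap A B t}) b)) →
      ∀ b, η b - τ b ∈ Ideal.span {algebraMap A B t} := by
    intro η hη b
    rw [← Ideal.Quotient.eq, hη, hτ]
  have hkey : ∀ b b' : B, μ (B := B) t htm (Ideal.Quotient.mk _ b') = algebraMap A B t * b' :=
    fun b b' => μ_mk t htm b'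
  constructor
  · intro η hη
    obtain ⟨d, hd⟩ := exists_derivation (k := k) t ht ht0 htm τ η (hspan η hη) hτ0
    refine ⟨d, ?_, ?_⟩
    · intro b b' hb'
      have := hd b
      rw [← hb', μ_mk] at this
      rw [this]; ring
    · intro d' hd'
      ext y
      obtain ⟨b, rfl⟩ := Ideal.Quotient.mk_surjective y
      obtain ⟨b', hb'⟩ := Ideal.Quotient.mk_surjective (d' (Ideal.Quotient.mk _ b))
      have h1 := hd' b b' hb'
      apply μ_injective (B := B) t ht0 htm
      rw [hd, ← hb', μ_mk, h1]; ring
  · intro d
    obtain ⟨η, hη⟩ := exists_lift (k := k) hres t ht htm τ hτ0 d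
    refine ⟨η, ?_, ?_⟩
    · intro b
      rw [← hτ, Ideal.Quotient.eq, hη, add_sub_cancel_left]
      obtain ⟨w, hw⟩ := Ideal.Quotient.mk_surjective (d (Ideal.Quotient.mk _ b))
      rw [← hw, μ_mk]
      exact Ideal.mul_mem_right _ _ (Ideal.mem_span_singleton_self _)
    · intro b b' hb'
      rw [hη, ← hb', μ_mk]

end Groth.Agent.S12498
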