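import Groth.Statements.S12515
import Mathlib.FieldTheory.RatFunc.Basic
import Mathlib.FieldTheory.IntermediateField.Adjoin.Basic
import Mathlib.FieldTheory.Minpoly.Field
import Mathlib.Algebra.Squarefree.Basic
import Mathlib.Tactic.LinearCombination
import Mathlib.Tactic.FieldSimp
import Mathlib.FieldTheory.PrimitiveElement

set_option autoImplicit false
open FunFld

namespace Groth.Agent.S12515

open Polynomial in
/-- Every nonzero polynomial over a field is a square times a squarefree polynomial. -/
theorem exists_sq_mul_squarefree {k : Type*} [Field k] :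
    ∀ (n : ℕ) (h : k[X]), h.natDegree ≤ n → h ≠ 0 → ∃ u f : k[X], h = u ^ 2 * f ∧ Squarefree f := by
  intro n
  induction n with
  | zero =>
    intro h hn h0
    refine ⟨1, h, by ring, ?_⟩
    have hu : IsUnit h := by
      rw [Polynomial.isUnit_iff_degree_eq_zero]
      rw [Polynomial.degree_eq_natDegree h0]
      have : h.natDegree = 0 := Nat.le_zero.1 hn
      rw [this]; rfl
    exact hu.squarefree
  | succ n ih =>
    intro h hn h0
    by_cases hs : Squarefree h
    · exact ⟨1, h, by ring, hs⟩
    · unfold Squarefree at hs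
      push Not at hs
      obtain ⟨d, ⟨h', hh'⟩, hd⟩ := hs
      have hd0 : d ≠ 0 := by
        rintro rfl
        apply h0
        rw [hh']; ring
      have hh'0 : h' ≠ 0 := by
        rintro rfl
        apply h0
        rw [hh']; ring
      have hdeg : 0 < d.natDegree := by
        rw [Polynomial.natDegree_pos_iff_degree_pos]
        exact Polynomial.degree_pos_of_ne_zero_of_nonunit hd0 hd
      have hnat : h.natDegree = d.natDegree + d.natDegree + h'.natDegree := by
        rw [hh', Polynomial.natDegree_mul (mul_ne_zero hd0 hd0) hh'0,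
          Polynomial.natDegree_mul hd0 hd0]
      obtain ⟨u', f, hf, hsf⟩ := ih h' (by omega) hh'0
      refine ⟨d * u', f, ?_, hsf⟩
      rw [hh', hf]; ring

/-- In a field extension of degree `2`, every element outside the base field satisfies a monic
quadratic equation and generates. -/
theorem quad_facts (F K : Type*) [Field F] [Field K] [Algebra F K]
    (hdeg : Module.finrank F K = 2) :
    (∀ y : K, y ∉ Set.range (algebraMap F K) → IntermediateField.adjoin F ({y} : Set K) = ⊤) ∧
    (∃ z : K, z ∉ Set.range (algebraMap F K)) ∧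
    (∀ z : K, z ∉ Set.range (algebraMap F K) → ∃ b c : F,
      z ^ 2 + algebraMap F K b * z + algebraMap F K c = 0) := by
  have hfd : FiniteDimensional F K := Module.finite_of_finrank_pos (by omega)
  have hsimple : IsSimpleOrder (IntermediateField F K) :=
    IntermediateField.isSimpleOrder_of_finrank_prime F K (by rw [hdeg]; exact Nat.prime_two)
  have hadj : ∀ y : K, y ∉ Set.range (algebraMap F K) →
      IntermediateField.adjoin F ({y} : Set K) = ⊤ := by
    intro y hy
    rcases eq_bot_or_eq_top (IntermediateField.adjoin F ({y} : Set K)) with h | h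
    · exfalso
      apply hy
      rw [IntermediateField.adjoin_simple_eq_bot_iff, IntermediateField.mem_bot] at h
      exact h
    · exact h
  refine ⟨hadj, ?_, ?_⟩
  · by_contra hcon
    push Not at hcon
    have h1 : (⊥ : IntermediateField F K) = ⊤ := by
      ext x
      simp only [IntermediateField.mem_bot, IntermediateField.mem_top, iff_true]
      exact hcon x
    rw [IntermediateField.bot_eq_top_iff_finrank_eq_one] at h1
    omega
  · intro z hz
    have hint : IsIntegral F z := IsIntegral.of_finite F z
    have hdegm : (minpoly F z).natDegree = 2 := by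
      rw [← IntermediateField.adjoin.finrank hint, hadj z hz, IntermediateField.finrank_top', hdeg]
    have hmonic := minpoly.monic hint
    have hev := minpoly.aeval F z
    rw [Polynomial.aeval_eq_sum_range, hdegm] at hev
    simp only [Finset.sum_range_succ, Finset.sum_range_zero, zero_add, pow_zero, pow_one] at hev
    have hc2 : (minpoly F z).coeff 2 = 1 := by
      rw [← hdegm]; exact hmonic.coeff_natDegree
    rw [hc2, one_smul, Algebra.smul_def, Algebra.smul_def, mul_one] at hev
    refine ⟨(minpoly F z).coeff 1, (minpoly F z).coeff 0, ?_⟩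
    linear_combination hev

/-- If `char k ≠ 2` and `K` has degree `2` over the rational function field `k(x)`, then `K = k(x)(y)`
for some `y` with `y² = f(x)`, `f` a squarefree polynomial over `k`. -/
theorem result (k K : Type*) [Field k] [Field K] (h2 : ringChar k ≠ 2)
    [Algebra (RatFunc k) K] (hdeg : Module.finrank (RatFunc k) K = 2) :
    ∃ (y : K) (f : Polynomial k), Squarefree f ∧
      y ^ 2 = algebraMap (RatFunc k) K (algebraMap (Polynomial k) (RatFunc k) f) ∧
      IntermediateField.adjoin (RatFunc k) ({y} : Set K) = ⊤ := by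
  classical
  obtain ⟨hadj, ⟨z, hz⟩, hquad⟩ := quad_facts (RatFunc k) K hdeg
  obtain ⟨b, c, hbc⟩ := hquad z hz
  have h2k : (2 : k) ≠ 0 := Ring.two_ne_zero h2
  have h2F : (2 : RatFunc k) ≠ 0 := by
    have : (2 : RatFunc k) = algebraMap k (RatFunc k) 2 := (map_ofNat _ 2).symm
    rw [this]
    exact (map_ne_zero_iff _ (algebraMap k (RatFunc k)).injective).2 h2k
  have h2K : (2 : K) ≠ 0 := by
    have : (2 : K) = algebraMap (RatFunc k) K 2 := (map_ofNat _ 2).symm
    rw [this]
    exact (map_ne_zero_iff _ (algebraMap (RatFunc k) K).injective).2 h2F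
  set w : K := z + algebraMap (RatFunc k) K (b / 2) with hw
  set g : RatFunc k := b ^ 2 / 4 - c with hg
  have hwg : w ^ 2 = algebraMap (RatFunc k) K g := by
    rw [hw, hg, map_sub, map_div₀, map_div₀, map_pow, map_ofNat, map_ofNat]
    have h4K : (4 : K) ≠ 0 := by
      have : (4 : K) = 2 * 2 := by norm_num
      rw [this]; exact mul_ne_zero h2K h2K
    field_simp
    linear_combination 16 * hbc
  have hwr : w ∉ Set.range (algebraMap (RatFunc k) K) := by
    rintro ⟨r, hr⟩
    apply hz
    refine ⟨r - b / 2, ?_⟩
    rw [map_sub, hr, hw]; ring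
  have hw0 : w ≠ 0 := by
    rintro h0
    exact hwr ⟨0, by rw [map_zero, h0]⟩
  have hg0 : g ≠ 0 := by
    rintro h0
    rw [h0, map_zero] at hwg
    exact hw0 (pow_eq_zero_iff (two_ne_zero) |>.1 hwg)
  set p := g.num with hp
  set q := g.denom with hq
  have hq0 : q ≠ 0 := RatFunc.denom_ne_zero g
  have hp0 : p ≠ 0 := RatFunc.num_ne_zero hg0
  have hpq : algebraMap (Polynomial k) (RatFunc k) p / algebraMap (Polynomial k) (RatFunc k) q = g :=
    RatFunc.num_div_denom g
  obtain ⟨u, f, hf, hsf⟩ := exists_sq_mul_squarefree _ (p * q) le_rfl (mul_ne_zero hp0 hq0)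
  have hu0 : u ≠ 0 := by
    rintro rfl
    apply mul_ne_zero hp0 hq0
    rw [hf]; ring
  let ι : (Polynomial k) →+* K := (algebraMap (RatFunc k) K).comp (algebraMap (Polynomial k) (RatFunc k))
  have hι : Function.Injective ι :=
    (algebraMap (RatFunc k) K).injective.comp (FaithfulSMul.algebraMap_injective (Polynomial k) (RatFunc k))
  have hιq : ι q ≠ 0 := (map_ne_zero_iff _ hι).2 hq0
  have hιu : ι u ≠ 0 := (map_ne_zero_iff _ hι).2 hu0
  have hgK : algebraMap (RatFunc k) K g = ι p / ι q := by
    rw [← hpq, map_div₀]; rfl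
  refine ⟨ι q * w / ι u, f, hsf, ?_, ?_⟩
  · have hf' : ι p * ι q = ι u ^ 2 * ι f := by
      rw [← map_mul, hf, map_mul, map_pow]
    change _ = ι f
    rw [div_pow, mul_pow, hwg, hgK]
    field_simp
    linear_combination hf'
  · apply hadj
    rintro ⟨r, hr⟩
    apply hwr
    refine ⟨r * algebraMap (Polynomial k) (RatFunc k) u / algebraMap (Polynomial k) (RatFunc k) q, ?_⟩
    rw [map_div₀, map_mul, hr]
    change ι q * w / ι u * ι u / ι q = w
    field_simp

end Groth.Agent.S12515
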