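import Groth.Statements.S12516
import Mathlib
import Groth.Agent.Lib.Helper26.FunFldRatPlace
import Groth.Agent.Lib.Helper2.FunFld.Conorm

set_option autoImplicit false
open FunFld

namespace Groth.Agent.S12516

open scoped WithZero
open Groth.Agent.Lib.Helper2.FF Groth.Agent.Lib.Helper26.FunFldRatPlace

/-- Let `char k ≠ 2`, `K` of degree `2` over `k(x)`, `y ∈ K` with `y² = f(x)` for a squarefree
polynomial `f` of degree `≥ 1`, and `P∞` the place of `k(x)` at which `x` has a pole. If `deg f` is
odd there is a unique place of `K` above `P∞`; it has ramification index `2` and degree `1`. If `deg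
f` is even, every place of `K` above `P∞` is unramified and the conorm of `P∞` has degree `2` (so it
is one place of degree `2` or the sum of two places of degree `1`). -/
theorem result (k K : Type*) [Field k] [Field K] (h2 : ringChar k ≠ 2) [Algebra k K]
    [Algebra (RatFunc k) K] [IsScalarTower k (RatFunc k) K]
    (hdeg : Module.finrank (RatFunc k) K = 2) (y : K) (f : Polynomial k) (hf : Squarefree f)
    (hd : 1 ≤ f.natDegree)
    (heq : y ^ 2 = algebraMap (RatFunc k) K (algebraMap (Polynomial k) (RatFunc k) f))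
    (Pinf : FunFld.Place k (RatFunc k)) (hinf : Pinf.ord (RatFunc.X : RatFunc k) < 0) :
    (Odd f.natDegree → (∃! P : FunFld.Place k K, FunFld.IsOver P Pinf) ∧
      ∀ P : FunFld.Place k K, FunFld.IsOver P Pinf → FunFld.IsOverWith P Pinf 2 ∧ P.deg = 1) ∧
    (Even f.natDegree → (FunFld.conorm K (Finsupp.single Pinf 1)).deg = 2 ∧
      ∀ P : FunFld.Place k K, FunFld.IsOver P Pinf → FunFld.IsOverWith P Pinf 1) := by
  classical
  haveI : FiniteDimensional (RatFunc k) K := Module.finite_of_finrank_pos (by omega)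
  have hK0 : IsFunctionField k (RatFunc k) := isFunctionField_ratFunc
  have hf0 : f ≠ 0 := by
    rintro rfl
    simp at hd
  have hfK0 : algebraMap (Polynomial k) (RatFunc k) f ≠ 0 := by
    rw [Ne, map_eq_zero_iff _ (IsFractionRing.injective (Polynomial k) (RatFunc k))]
    exact hf0
  have hy0 : y ≠ 0 := by
    rintro rfl
    have h1 : algebraMap (RatFunc k) K (algebraMap (Polynomial k) (RatFunc k) f) = 0 := by
      rw [← heq]; simp
    rw [map_eq_zero] at h1
    exact hfK0 h1
  have hordf := ord_poly_inf' Pinf hinf hf0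
  have hdeginf := deg_inf Pinf hinf
  have hord : ∀ (P : FunFld.Place k K) (e : ℕ), IsOverWith P Pinf e →
      2 * P.ord y = -((e : ℤ) * f.natDegree) := by
    intro P e he
    have h1 := isOverWith_ord he (algebraMap (Polynomial k) (RatFunc k) f)
    rw [← heq, ord_pow, hordf] at h1
    push_cast at h1
    linarith
  constructor
  · intro hodd
    have key : ∀ (Q : FunFld.Place k K) (e : ℕ), IsOverWith Q Pinf e → 2 ≤ e := by
      intro Q e he
      have h1 := hord Q e he
      have he1 := isOverWith_one_le he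
      have hev : Even ((e : ℤ) * f.natDegree) := ⟨-Q.ord y, by linarith⟩
      rw [Int.even_mul] at hev
      rcases hev with hev | hev
      · have : Even e := by exact_mod_cast hev
        obtain ⟨m, hm⟩ := this
        omega
      · exfalso
        have h3 : Even f.natDegree := by exact_mod_cast hev
        exact (Nat.not_even_iff_odd.2 hodd) h3
    obtain ⟨hfin, hsum⟩ := sum_ramIdx_mul_deg (K' := K) hK0 Pinf
    have hsum' := hsum hfin.toFinset (fun Q => hfin.mem_toFinset)
    rw [hdeg, hdeginf] at hsum'
    have hterm : ∀ Q ∈ hfin.toFinset, 2 * 1 ≤ ramIdx Q Pinf * Q.deg := by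
      intro Q hQ
      obtain ⟨e, he⟩ := hfin.mem_toFinset.1 hQ
      rw [ramIdx_eq he]
      exact Nat.mul_le_mul (key Q e he) (deg_pos_of_finite hK0 Q)
    have hcard : hfin.toFinset.card ≤ 1 := by
      by_contra hcon
      have h1 := Finset.card_nsmul_le_sum hfin.toFinset _ _ hterm
      rw [hsum', smul_eq_mul] at h1
      omega
    have hne : hfin.toFinset.Nonempty := by
      by_contra hcon
      rw [Finset.not_nonempty_iff_eq_empty] at hcon
      rw [hcon, Finset.sum_empty] at hsum'
      omega
    obtain ⟨Q₀, hQ₀⟩ := Finset.card_eq_one.1 (le_antisymm hcard (Finset.card_pos.2 hne))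
    have hmem : ∀ Q : FunFld.Place k K, IsOver Q Pinf ↔ Q = Q₀ := by
      intro Q
      have h1 : Q ∈ hfin.toFinset ↔ IsOver Q Pinf := hfin.mem_toFinset
      rw [← h1, hQ₀, Finset.mem_singleton]
    refine ⟨⟨Q₀, (hmem Q₀).2 rfl, fun Q hQ => (hmem Q).1 hQ⟩, fun P hP => ?_⟩
    obtain rfl := (hmem P).1 hP
    rw [hQ₀, Finset.sum_singleton] at hsum'
    obtain ⟨e, he⟩ := hP
    rw [ramIdx_eq he] at hsum'
    have h1 := key P e he
    have h3 := deg_pos_of_finite hK0 P
    have he2 : e = 2 := by
      by_contra hne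
      have : 3 ≤ e := by omega
      have : 3 * 1 ≤ e * P.deg := Nat.mul_le_mul this h3
      omega
    subst he2
    exact ⟨he, by omega⟩
  · intro heven
    refine ⟨by rw [deg_conorm hK0, hdeg, deg_single, hdeginf]; norm_num, ?_⟩
    rintro P ⟨e, he⟩
    obtain ⟨m, hm⟩ := heven
    have hX0 : (RatFunc.X : RatFunc k) ≠ 0 := RatFunc.X_ne_zero
    have hXm0 : (RatFunc.X : RatFunc k) ^ m ≠ 0 := pow_ne_zero _ hX0
    have hyn : y ∉ Set.range (algebraMap (RatFunc k) K) := by
      rintro ⟨g, rfl⟩
      rw [← map_pow] at heq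
      have h1 : g ^ 2 = algebraMap (Polynomial k) (RatFunc k) f := (algebraMap (RatFunc k) K).injective heq
      obtain ⟨r, hr⟩ := IsIntegrallyClosed.exists_algebraMap_eq_of_isIntegral_pow (R := Polynomial k)
        (K := RatFunc k) (x := g) (n := 2) (by norm_num) (by rw [h1]; exact isIntegral_algebraMap)
      rw [← hr, ← map_pow] at h1
      have h3 : r ^ 2 = f := IsFractionRing.injective (Polynomial k) (RatFunc k) h1
      have h4 : IsUnit r := hf r ⟨1, by rw [← h3]; ring⟩
      have h5 : IsUnit f := by rw [← h3]; exact h4.pow 2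
      have := Polynomial.natDegree_eq_zero_of_isUnit h5
      omega
    set z : K := y * (algebraMap (RatFunc k) K ((RatFunc.X : RatFunc k) ^ m))⁻¹ with hz
    set u : RatFunc k := algebraMap (Polynomial k) (RatFunc k) f * ((RatFunc.X : RatFunc k) ^ m)⁻¹ ^ 2
      with hu
    have hzu : z ^ 2 = algebraMap (RatFunc k) K u := by
      rw [hz, hu, mul_pow, heq]
      simp only [map_mul, map_pow, map_inv₀]
    have hu0 : u ≠ 0 := mul_ne_zero hfK0 (pow_ne_zero _ (inv_ne_zero hXm0))
    have hou : Pinf.ord u = 0 := by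
      rw [hu, ord_mul Pinf hfK0 (pow_ne_zero _ (inv_ne_zero hXm0)), ord_pow, ord_inv, ord_pow,
        ord_X_inf Pinf hinf, hordf, hm]
      push_cast; ring
    have hzn : z ∉ Set.range (algebraMap (RatFunc k) K) := by
      rintro ⟨g, hg⟩
      apply hyn
      refine ⟨g * (RatFunc.X : RatFunc k) ^ m, ?_⟩
      rw [map_mul, hg, hz, mul_assoc, inv_mul_cancel₀ (by simpa using hXm0), mul_one]
    have h1 := e_eq_one_of_unit_sq (Ring.two_ne_zero h2) hdeg hK0 Pinf hdeginf z u hzu hu0 hou hzn P e he
    subst h1
    exact he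

end Groth.Agent.S12516
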