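import Groth.Statements.S12518
import Mathlib
import Groth.Agent.Lib.Helper2.FunFld.AS3
import Groth.Agent.Lib.Helper26.FunFldRatPlace
import Groth.Agent.S12517

set_option autoImplicit false
open FunFld

namespace Groth.Agent.S12518
open FunFld Groth.Agent.Lib.Helper2.FF Groth.Agent.Lib.Helper2.AS

/-- If `k` is perfect of characteristic `2` and `K` is a separable extension of degree `2` of `k(x)`,
then `K = k(x)(y)` for some `y` with `y² + y = f(x)` such that every pole of `f`, at any place of
`k(x)/k` including the infinite one, has odd order. -/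
theorem result (k K : Type*) [Field k] [Field K] [PerfectField k] (h2 : ringChar k = 2)
    [Algebra k K] [Algebra (RatFunc k) K] [IsScalarTower k (RatFunc k) K]
    (hdeg : Module.finrank (RatFunc k) K = 2) [Algebra.IsSeparable (RatFunc k) K] :
    ∃ (y : K) (f : RatFunc k), y ^ 2 + y = algebraMap (RatFunc k) K f ∧
      IntermediateField.adjoin (RatFunc k) ({y} : Set K) = ⊤ ∧
      ∀ P : FunFld.Place k (RatFunc k), P.ord f < 0 → Odd (P.ord f) := by
  classical
  haveI : CharP k 2 := ringChar.of_eq h2
  haveI : CharP K 2 := charP_of_injective_algebraMap (algebraMap k K).injective 2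
  obtain ⟨y₀, f₀, heq₀, hadj₀⟩ := Groth.Agent.S12517.result k K h2 hdeg
  have hK₀ : IsFunctionField k (RatFunc k) :=
    Groth.Agent.Lib.Helper26.FunFldRatPlace.isFunctionField_ratFunc
  have hg0 : genus k (RatFunc k) = 0 :=
    ((genus_zero_iff hK₀).2 ⟨RatFunc.X, RatFunc.adjoin_X⟩).1
  obtain ⟨g, hg⟩ := exists_odd_poles hK₀ hg0 f₀
  have hy₀ : y₀ ∉ Set.range (algebraMap (RatFunc k) K) := by
    rintro ⟨a, rfl⟩
    have h1 : IntermediateField.adjoin (RatFunc k) ({algebraMap (RatFunc k) K a} : Set K) = ⊥ := by
      rw [IntermediateField.adjoin_simple_eq_bot_iff]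
      exact IntermediateField.algebraMap_mem _ a
    rw [h1] at hadj₀
    have h3 := congrArg (fun S : IntermediateField (RatFunc k) K => Module.finrank (RatFunc k) S) hadj₀
    simp only [IntermediateField.finrank_bot, IntermediateField.finrank_top', hdeg] at h3
    omega
  refine ⟨y₀ + algebraMap (RatFunc k) K g, f₀ + g ^ 2 + g, ?_, ?_, hg⟩
  · rw [map_add, map_add, map_pow, ← heq₀, CharTwo.add_sq]
    ring
  · apply (Groth.Agent.S12517.quad_facts (RatFunc k) K hdeg).1
    rintro ⟨a, ha⟩
    apply hy₀
    refine ⟨a - g, ?_⟩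
    rw [map_sub, ha]
    ring

end Groth.Agent.S12518
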