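import Groth.Statements.S12520
import Mathlib
import Groth.Agent.Lib.Helper9.FunFldInsep

set_option autoImplicit false
universe u v
open FunFld

namespace Groth.Agent.S12520

/-- For a geometric function field of one variable `K/k` of characteristic `p > 0` and a geometric
function field `K₀/k₀` with `K₀ ⊆ K` of finite index (and `k₀ ⊆ k` compatibly), the map `Ω_{K₀/k₀} →
Ω_{K/k}` induced by the inclusion vanishes when `K₀ ⊆ kK^p` and is injective otherwise. -/
theorem result (k₀ k : Type u) (K₀ K : Type v) [Field k₀] [Field k] [Field K₀] [Field K]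
    [Algebra k₀ k] [Algebra k₀ K₀] [Algebra k₀ K] [Algebra k K] [Algebra K₀ K]
    [IsScalarTower k₀ k K] [IsScalarTower k₀ K₀ K] [FiniteDimensional K₀ K]
    (p : ℕ) [Fact p.Prime] [CharP K p]
    (hK : FunFld.IsFunctionField k K) (hg : FunFld.IsGeometric k K)
    (hK₀ : FunFld.IsFunctionField k₀ K₀) (hg₀ : FunFld.IsGeometric k₀ K₀) :
    (Set.range (algebraMap K₀ K) ⊆ ↑(IntermediateField.adjoin k (Set.range fun y : K => y ^ p)) →
      KaehlerDifferential.map k₀ k K₀ K = 0) ∧
    (¬ Set.range (algebraMap K₀ K) ⊆ ↑(IntermediateField.adjoin k (Set.range fun y : K => y ^ p)) →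
      Function.Injective (KaehlerDifferential.map k₀ k K₀ K)) := by
  obtain ⟨⟨x₁, hx₁, hfin₁⟩, hclosed⟩ := hK
  obtain ⟨t, ht, hsep⟩ := Groth.Agent.Lib.Helper9.FunFld.exists_separating_variable hx₁ hfin₁ hg
  obtain ⟨⟨y₁, hy₁, hfiny₁⟩, hclosed₀⟩ := hK₀
  obtain ⟨t₀, ht₀, hsep₀⟩ :=
    Groth.Agent.Lib.Helper9.FunFld.exists_separating_variable hy₁ hfiny₁ hg₀
  have hfr₀ := Groth.Agent.Lib.Helper9.FunFld.finrank_kaehler_eq_one_of_separating ht₀ hsep₀
  constructor
  · intro hsub
    apply LinearMap.ext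
    intro ω
    have hω : ω ∈ Submodule.span K₀ (Set.range (KaehlerDifferential.D k₀ K₀)) := by
      rw [KaehlerDifferential.span_range_derivation]; trivial
    induction hω using Submodule.span_induction with
    | mem x hx =>
      obtain ⟨a, rfl⟩ := hx
      rw [KaehlerDifferential.map_D, LinearMap.zero_apply]
      exact Groth.Agent.Lib.Helper9.FunFld.D_eq_zero_of_mem_adjoin_pow p (hsub ⟨a, rfl⟩)
    | zero => simp
    | add x y _ _ hx hy => rw [map_add, hx, hy]; simp
    | smul c x _ hx => rw [map_smul, hx]; simp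
  · intro hns
    rw [Set.not_subset] at hns
    obtain ⟨_, ⟨a, rfl⟩, ha⟩ := hns
    have hDa : KaehlerDifferential.D k K (algebraMap K₀ K a) ≠ 0 := fun h =>
      ha (Groth.Agent.Lib.Helper9.FunFld.mem_adjoin_pow_of_D_eq_zero p ht hsep h)
    have hDa₀ : KaehlerDifferential.D k₀ K₀ a ≠ 0 := by
      intro h
      apply hDa
      rw [← KaehlerDifferential.map_D k₀ k K₀ K, h, map_zero]
    have hspan := (finrank_eq_one_iff_of_nonzero' _ hDa₀).mp hfr₀
    rw [injective_iff_map_eq_zero]
    intro ω hω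
    obtain ⟨c, rfl⟩ := hspan ω
    rw [map_smul, KaehlerDifferential.map_D, algebra_compatible_smul K c, smul_eq_zero] at hω
    rcases hω with hc | hc
    · rw [(map_eq_zero _).mp hc, zero_smul]
    · exact absurd hc hDa

end Groth.Agent.S12520
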