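import Groth.Statements.S12527
import Mathlib
import Groth.Agent.Lib.Helper2.FunFld.GP4
import Groth.Agent.Lib.Helper2.FunFld.Finite
import Groth.Agent.Lib.Helper9.FunFldSep
import Groth.Agent.Lib.Helper9.FunFld

set_option autoImplicit false
universe u v
open scoped TensorProduct
open FunFld

namespace Groth.Agent.S12527
open Groth.Agent.Lib.Helper2.FF Polynomial IntermediateField
set_option maxHeartbeats 1000000 in

/-- A geometric function field of one variable `K/k` has at most finitely many singular places, i.e.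
places `P` for which, for some finite extension `k'/k`, the integral closure of `O_P` in `k' ⊗_k K`
is strictly larger than `k' ⊗_k O_P`. The existence of a purely inseparable finite `k'` making `k'
⊗_k K` nonsingular is not stated. -/
theorem result (k : Type u) (K : Type v) [Field k] [Field K] [Algebra k K]
    (hK : FunFld.IsFunctionField k K) (hg : FunFld.IsGeometric k K) :
    {P : FunFld.Place k K | ∃ (k' : Type u) (_ : Field k') (_ : Algebra k k'), FiniteDimensional k k' ∧
      integralClosure (P.O.toSubring.map (Algebra.TensorProduct.includeRight : K →ₐ[k] k' ⊗[k] K).toRingHom) (k' ⊗[k] K) ≠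
        Algebra.adjoin (P.O.toSubring.map (Algebra.TensorProduct.includeRight : K →ₐ[k] k' ⊗[k] K).toRingHom)
          (Set.range (Algebra.TensorProduct.includeLeftRingHom : k' →+* k' ⊗[k] K))}.Finite := by
  classical
  obtain ⟨x₁, hx₁, hfin₁⟩ := hK.1
  obtain ⟨t, ht, hsep⟩ := Groth.Agent.Lib.Helper9.FunFld.exists_separating_variable hx₁ hfin₁ hg
  haveI := Groth.Agent.Lib.Helper9.FunFld.finite_adjoin_of_transcendental hx₁ hfin₁ ht
  obtain ⟨y, Dt, w, hyadj, hyint, hgauss, hDt0, hw, hwD⟩ := exists_sep_setup ht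
  have hD0 : aeval t Dt ≠ 0 := by
    intro h0
    exact ht ⟨Dt, hDt0, h0⟩
  refine ((finite_poles hK ht).union (finite_support_ord hK (aeval t Dt))).subset ?_
  rintro P ⟨k', _, _, hfd, hne⟩
  by_contra hP
  simp only [Set.mem_union, Set.mem_ofPred_eq, Function.mem_support, not_or, not_lt, not_not] at hP
  obtain ⟨htP, hDP⟩ := hP
  apply hne
  letI : Field (k' ⊗[k] K) := (hg k' hfd).toField
  letI : Algebra K (k' ⊗[k] K) :=
    (Algebra.TensorProduct.includeRight : K →ₐ[k] k' ⊗[k] K).toRingHom.toAlgebra
  letI : Algebra k' (k' ⊗[k] K) := Algebra.TensorProduct.leftAlgebra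
  letI : Algebra k (k' ⊗[k] K) := Algebra.TensorProduct.leftAlgebra
  haveI : IsScalarTower k k' (k' ⊗[k] K) := IsScalarTower.of_algebraMap_eq (fun c => rfl)
  haveI : IsScalarTower k K (k' ⊗[k] K) := IsScalarTower.of_algebraMap_eq (fun c => by
    change algebraMap k (k' ⊗[k] K) c = (Algebra.TensorProduct.includeRight : K →ₐ[k] k' ⊗[k] K) _
    rw [AlgHom.commutes])
  have hid : ∀ x : k' ⊗[k] K, Algebra.TensorProduct.productMap
      (IsScalarTower.toAlgHom k k' (k' ⊗[k] K)) (IsScalarTower.toAlgHom k K (k' ⊗[k] K)) x = x := by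
    intro x
    induction x using TensorProduct.induction_on with
    | zero => rw [map_zero]
    | tmul c a =>
      rw [Algebra.TensorProduct.productMap_apply_tmul]
      change (c ⊗ₜ[k] (1 : K)) * ((1 : k') ⊗ₜ[k] a) = _
      rw [Algebra.TensorProduct.tmul_mul_tmul, mul_one, one_mul]
    | add x y hx hy => rw [map_add, hx, hy]
  have hbij : Function.Bijective (Algebra.TensorProduct.productMap
      (IsScalarTower.toAlgHom k k' (k' ⊗[k] K)) (IsScalarTower.toAlgHom k K (k' ⊗[k] K))) :=
    ⟨fun a b hab => by rw [← hid a, ← hid b]; exact hab, fun a => ⟨a, hid a⟩⟩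
  haveI : FiniteDimensional K (k' ⊗[k] K) :=
    Module.Finite.of_basis (cBasis (K := K) (K' := k' ⊗[k] K) (Module.finBasis k k') hbij)
  have hmain := ns_of_good (k := k) (k' := k') (K := K) (K' := k' ⊗[k] K) hbij hK ht y Dt w hyadj
    hyint hgauss hw hwD P htP ((v_eq_one_iff P hD0).2 hDP)
  exact hmain

end Groth.Agent.S12527
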