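import Groth.Statements.S12535
import Mathlib
import Groth.Agent.Lib.Helper26.FunFldRatPlace
import Groth.Agent.S11034

set_option autoImplicit false
open FunFld

namespace Groth.Agent.S12535

open scoped WithZero
open Groth.Agent.Lib.Helper2.FF Groth.Agent.Lib.Helper26.FunFldRatPlace

/-- Let `char k ≠ 2`, `K` of degree `2` over `k(x)`, and `y ∈ K` with `y² = f(x)`, `f` a squarefree
polynomial of degree `≥ 1`. Then a place `P` of `K` is a zero of `y` exactly when it lies over a
finite place of `k(x)` where `f` has a zero, and in that case `ord_P(y) = 1`: the divisor of zeros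
of `y` is `Σ P_i`, one place over each irreducible factor of `f`, with multiplicity one. -/
theorem result (k K : Type*) [Field k] [Field K] (h2 : ringChar k ≠ 2) [Algebra k K]
    [Algebra (RatFunc k) K] [IsScalarTower k (RatFunc k) K]
    (hdeg : Module.finrank (RatFunc k) K = 2) (y : K) (f : Polynomial k) (hf : Squarefree f)
    (hd : 1 ≤ f.natDegree)
    (heq : y ^ 2 = algebraMap (RatFunc k) K (algebraMap (Polynomial k) (RatFunc k) f)) (P : FunFld.Place k K) :
    (0 < P.ord y → P.ord y = 1) ∧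
    (0 < P.ord y ↔ ∃ P₀ : FunFld.Place k (RatFunc k), FunFld.IsOver P P₀ ∧ 0 ≤ P₀.ord (RatFunc.X : RatFunc k) ∧
      0 < P₀.ord (algebraMap (Polynomial k) (RatFunc k) f)) := by
  classical
  haveI : FiniteDimensional (RatFunc k) K := Module.finite_of_finrank_pos (by omega)
  have hK0 : IsFunctionField k (RatFunc k) := isFunctionField_ratFunc
  have hf0 : f ≠ 0 := by
    rintro rfl
    simp at hd
  have hfK0 : algebraMap (Polynomial k) (RatFunc k) f ≠ 0 := by
    rw [Ne, map_eq_zero_iff _ (IsFractionRing.injective (Polynomial k) (RatFunc k))]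
    exact hf0
  have hy0 : y ≠ 0 := by
    rintro rfl
    have h1 : algebraMap (RatFunc k) K (algebraMap (Polynomial k) (RatFunc k) f) = 0 := by
      rw [← heq]; simp
    rw [map_eq_zero] at h1
    exact hfK0 h1
  have hord : ∀ (P₀ : FunFld.Place k (RatFunc k)) (e : ℕ), IsOverWith P P₀ e →
      2 * P.ord y = e * P₀.ord (algebraMap (Polynomial k) (RatFunc k) f) := by
    intro P₀ e he
    rw [← isOverWith_ord he, ← heq, ord_pow]
    norm_num
  obtain ⟨P₀, e, he⟩ := exists_isOverWith hK0 P
  have he1 := isOverWith_one_le he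
  have main : 0 < P.ord y → P.ord y = 1 ∧ 0 ≤ P₀.ord (RatFunc.X : RatFunc k) ∧
      0 < P₀.ord (algebraMap (Polynomial k) (RatFunc k) f) := by
    intro hpos
    have h1 := hord P₀ e he
    have hfpos : 0 < P₀.ord (algebraMap (Polynomial k) (RatFunc k) f) := by
      by_contra hcon
      push Not at hcon
      have : (e : ℤ) * P₀.ord (algebraMap (Polynomial k) (RatFunc k) f) ≤ 0 :=
        mul_nonpos_of_nonneg_of_nonpos (by positivity) hcon
      omega
    have hwf : w P₀ f < 1 := (v_lt_one_iff P₀ hfK0).2 hfpos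
    have hX := w_X_le_one_of_lt P₀ hf0 hwf
    have hX0 : (RatFunc.X : RatFunc k) ≠ 0 := RatFunc.X_ne_zero
    have hXord : 0 ≤ P₀.ord (RatFunc.X : RatFunc k) := by
      rw [← v_le_one_iff P₀ hX0]
      have : w P₀ Polynomial.X = v P₀ (RatFunc.X : RatFunc k) := by
        rw [w_apply, RatFunc.algebraMap_X]
      rw [← this]; exact hX
    obtain ⟨p, hp, hpf, hpl⟩ := exists_irreducible_dvd_of_w_lt_one P₀ hX f hf0 hwf
    have hS := (Groth.Agent.S11034.result k K h2 hdeg y f hf hd heq p hp hpf P₀ hpl).2 P ⟨e, he⟩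
    have he2 : e = 2 := isOverWith_e_unique he hS.1
    have hwf1 := w_eq_of_squarefree P₀ hp hpl hf hpf
    have hof : P₀.ord (algebraMap (Polynomial k) (RatFunc k) f) = 1 := by
      rw [ord_eq_iff P₀ hfK0]
      exact hwf1
    rw [he2, hof] at h1
    refine ⟨by push_cast at h1; omega, hXord, hfpos⟩
  refine ⟨fun h => (main h).1, ⟨fun h => ⟨P₀, ⟨e, he⟩, (main h).2⟩, ?_⟩⟩
  rintro ⟨P₁, ⟨e₁, he₁⟩, -, hpos⟩
  have h1 := hord P₁ e₁ he₁
  have he1' := isOverWith_one_le he₁
  have : 0 < (e₁ : ℤ) * P₁.ord (algebraMap (Polynomial k) (RatFunc k) f) :=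
    mul_pos (by exact_mod_cast he1') hpos
  omega

end Groth.Agent.S12535
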