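import Groth.Statements.S12550
import Mathlib.LinearAlgebra.FiniteDimensional.Lemmas
import Mathlib.LinearAlgebra.Dimension.Constructions
import Mathlib.Tactic

set_option autoImplicit false
universe u
open GIT

namespace Groth.Agent.S12550

/-- Let V be a finite-dimensional vector space over a field K and x_0, …, x_m non-zero vectors, a
configuration of m + 1 points of the projective space P(V). If for every subspace L with 0 ≠ L ≠ V
the number of indices i with x_i ∈ L, multiplied by dim V, is less than dim L · (m + 1) (the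
configuration is stable), then no two proper subspaces L', L'' with L' ∩ L'' = 0 contain between
them all the x_i. -/
theorem result (K : Type u) [Field K]
    (V : Type u) [AddCommGroup V] [Module K V] [FiniteDimensional K V]
    (m : ℕ) (x : Fin (m + 1) → V) (hx : ∀ i, x i ≠ 0)
    (hst : ∀ L : Submodule K V, L ≠ ⊥ → L ≠ ⊤ →
      Set.ncard {i : Fin (m + 1) | x i ∈ L} * Module.finrank K V < Module.finrank K L * (m + 1)) :
    ¬ ∃ L' L'' : Submodule K V, L' ≠ ⊤ ∧ L'' ≠ ⊤ ∧ Disjoint L' L'' ∧ ∀ i, x i ∈ L' ∨ x i ∈ L'' := by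
  rintro ⟨L', L'', hL', hL'', hdisj, hcov⟩
  classical
  have hsum : m + 1 ≤ Set.ncard {i : Fin (m + 1) | x i ∈ L'} +
      Set.ncard {i : Fin (m + 1) | x i ∈ L''} := by
    have hsub : (Set.univ : Set (Fin (m + 1))) ⊆
        {i : Fin (m + 1) | x i ∈ L'} ∪ {i : Fin (m + 1) | x i ∈ L''} := fun i _ => hcov i
    calc m + 1 = Set.ncard (Set.univ : Set (Fin (m + 1))) := by simp [Set.ncard_univ]
      _ ≤ Set.ncard ({i : Fin (m + 1) | x i ∈ L'} ∪ {i : Fin (m + 1) | x i ∈ L''}) :=
          Set.ncard_le_ncard hsub (Set.toFinite _)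
      _ ≤ _ := Set.ncard_union_le _ _
  have hdim : Module.finrank K L' + Module.finrank K L'' ≤ Module.finrank K V := by
    have h := Submodule.finrank_sup_add_finrank_inf_eq L' L''
    rw [disjoint_iff.mp hdisj, finrank_bot, add_zero] at h
    rw [← h]
    exact Submodule.finrank_le _
  have key : ∀ L : Submodule K V, L ≠ ⊤ →
      (Set.ncard {i : Fin (m + 1) | x i ∈ L} = 0 ∧ Module.finrank K L = 0) ∨
      (Set.ncard {i : Fin (m + 1) | x i ∈ L} * Module.finrank K V <
        Module.finrank K L * (m + 1)) := by
    intro L hL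
    by_cases hb : L = ⊥
    · left
      subst hb
      refine ⟨?_, finrank_bot K V⟩
      have : {i : Fin (m + 1) | x i ∈ (⊥ : Submodule K V)} = ∅ := by
        ext i
        simp [hx i]
      rw [this, Set.ncard_empty]
    · right
      exact hst L hb hL
  have hd1 : Module.finrank K L' ≤ Module.finrank K V := Submodule.finrank_le _
  have hd2 : Module.finrank K L'' ≤ Module.finrank K V := Submodule.finrank_le _
  rcases key L' hL' with ⟨h1, h1'⟩ | h1 <;> rcases key L'' hL'' with ⟨h2, h2'⟩ | h2
  · omega
  · rw [h1, zero_add] at hsum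
    have h3 := Nat.mul_le_mul_right (Module.finrank K V) hsum
    have h4 := Nat.mul_le_mul_right (m + 1) hd2
    have h5 : (m + 1) * Module.finrank K V = Module.finrank K V * (m + 1) := Nat.mul_comm _ _
    omega
  · rw [h2, add_zero] at hsum
    have h3 := Nat.mul_le_mul_right (Module.finrank K V) hsum
    have h4 := Nat.mul_le_mul_right (m + 1) hd1
    have h5 : (m + 1) * Module.finrank K V = Module.finrank K V * (m + 1) := Nat.mul_comm _ _
    omega
  · have h3 := Nat.mul_le_mul_right (Module.finrank K V) hsum
    have h3' := Nat.add_mul (Set.ncard {i : Fin (m + 1) | x i ∈ L'})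
      (Set.ncard {i : Fin (m + 1) | x i ∈ L''}) (Module.finrank K V)
    have h4 := Nat.mul_le_mul_right (m + 1) hdim
    have h4' := Nat.add_mul (Module.finrank K L') (Module.finrank K L'') (m + 1)
    have h5 : (m + 1) * Module.finrank K V = Module.finrank K V * (m + 1) := Nat.mul_comm _ _
    omega

end Groth.Agent.S12550
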