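import Groth.Statements.S12572
import Mathlib
import Groth.Agent.Lib.Helper2.Tate.DM3
import Groth.Agent.Lib.Helper2.Tate.LD2

set_option autoImplicit false
universe u v w
open FunFld

namespace Groth.Agent.S12572
open Groth.Agent.Lib.Helper2.Tate Groth.Agent.Lib.Helper2.FF KaehlerDifferential

/-- Let `Q` be a place of a finite separable extension `K'` of a geometric function field of one
variable `K/k`, over `P` with ramification index `e` and residue degree `1`, both places with
Laurent expansions over `k` in local parameters; if `s` with `v_Q(s) = 1` is a unit at every other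
place of `K'` above `P`, then `K'` is generated over `K` by `s`, and `d(Q|P) = v_Q(f'(s))` for the
minimal polynomial `f` of `s` over `K` (the different exponent computed on `dx`). -/
theorem result (k : Type u) (K K' : Type v) [Field k] [Field K] [Field K'] [Algebra k K] [Algebra K K'] [Algebra k K']
    [IsScalarTower k K K'] [FiniteDimensional K K'] [Algebra.IsSeparable K K']
    (hK : FunFld.IsFunctionField k K) (hg : FunFld.IsGeometric k K)
    (F F' : Type w) [Field F] [Algebra k F] [Field F'] [Algebra k F']
    (P : FunFld.Place k K) (Q : FunFld.Place k K') (e : ℕ) (he : FunFld.IsOverWith Q P e)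
    (φ : K →ₐ[k] LaurentSeries F) (hφ : LocRes.IsExpansionAt P.1 φ)
    (ψ : K' →ₐ[k] LaurentSeries F') (hψ : LocRes.IsExpansionAt Q.1 ψ)
    (x : K) (hx : LocRes.vDiff φ 1 x ≠ 0) (hx' : LocRes.vDiff ψ 1 (algebraMap K K' x) ≠ 0)
    [P.1.HasExtension Q.1]
    (hf : Function.Surjective (algebraMap (IsLocalRing.ResidueField P.O) (IsLocalRing.ResidueField Q.O)))
    (s : K') (hs : Q.1 s = WithZero.exp (-1))
    (hs' : ∀ Q' : FunFld.Place k K', FunFld.IsOver Q' P → Q' ≠ Q → Q'.1 s = 1) :
    IntermediateField.adjoin K ({s} : Set K') = ⊤ ∧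
    Q.ord (Polynomial.aeval s (Polynomial.derivative (minpoly K s))) = LocRes.diffExp φ ψ e x := by
  have hfr : Module.finrank K (Ω[K⁄k]) = 1 := finrank_kaehler_eq_one hK hg
  have hDφx : LocRes.D F (φ x) ≠ 0 := (vDiff_one_ne_zero_iff φ x).1 hx
  have hDψx : LocRes.D F' (ψ (algebraMap K K' x)) ≠ 0 :=
    (vDiff_one_ne_zero_iff ψ (algebraMap K K' x)).1 hx'
  have hdeg : Q.deg = P.deg := deg_eq_of_residue_surjective hf
  exact ord_aeval_derivative_minpoly hK he hφ hψ hfr hdeg hDφx hDψx hs hs'

end Groth.Agent.S12572
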