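import Groth.Statements.S12574
import Mathlib
import Groth.Agent.Lib.Helper2.Tate.TD2
import Groth.Agent.Lib.Helper2.Tate.LD2
import Groth.Agent.Lib.Helper2.FunFld.IntCl2

set_option autoImplicit false
universe u v w
open FunFld

namespace Groth.Agent.S12574
open Groth.Agent.Lib.Helper2.Tate Groth.Agent.Lib.Helper2.FF KaehlerDifferential

/-- Let `Q` be a place of a finite separable extension `K'` of a geometric function field of one
variable `K/k`, over `P` with ramification index `e` and residue degree `1`, both with Laurent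
expansions over `k` in local parameters, and let `R^*` be the dual, under the trace form of `K'/K`,
of the integral closure of `O_P` in `K'`. Then `min_{y ∈ R^*} v_Q(y) = -d(Q|P)`: in multiplicative
notation every `y ∈ R^*` has `v_Q(y) ≤ exp d(Q|P)` and equality is attained. -/
theorem result (k : Type u) (K K' : Type v) [Field k] [Field K] [Field K'] [Algebra k K] [Algebra K K'] [Algebra k K']
    [IsScalarTower k K K'] [FiniteDimensional K K'] [Algebra.IsSeparable K K']
    (hK : FunFld.IsFunctionField k K) (hg : FunFld.IsGeometric k K)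
    (F F' : Type w) [Field F] [Algebra k F] [Field F'] [Algebra k F']
    (P : FunFld.Place k K) (Q : FunFld.Place k K') (e : ℕ) (he : FunFld.IsOverWith Q P e)
    (φ : K →ₐ[k] LaurentSeries F) (hφ : LocRes.IsExpansionAt P.1 φ)
    (ψ : K' →ₐ[k] LaurentSeries F') (hψ : LocRes.IsExpansionAt Q.1 ψ)
    (x : K) (hx : LocRes.vDiff φ 1 x ≠ 0) (hx' : LocRes.vDiff ψ 1 (algebraMap K K' x) ≠ 0)
    [P.1.HasExtension Q.1]
    (hf : Function.Surjective (algebraMap (IsLocalRing.ResidueField P.O) (IsLocalRing.ResidueField Q.O)))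
    [Algebra P.O K'] [IsScalarTower P.O K K'] :
    (∀ y : K', (∀ z : K', IsIntegral P.O z → P.1 (Algebra.trace K K' (y * z)) ≤ 1) →
      Q.1 y ≤ WithZero.exp (LocRes.diffExp φ ψ e x)) ∧
    ∃ y : K', (∀ z : K', IsIntegral P.O z → P.1 (Algebra.trace K K' (y * z)) ≤ 1) ∧
      Q.1 y = WithZero.exp (LocRes.diffExp φ ψ e x) := by
  classical
  have hfr : Module.finrank K (Ω[K⁄k]) = 1 := finrank_kaehler_eq_one hK hg
  haveI := finiteDimensional_residueField P hK
  haveI := finiteDimensional_residueField_w (isFFw_of_finite (K' := K') hK) Q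
  haveI : FiniteDimensional k F := finiteDimensional_coeffField' hφ
  haveI : FiniteDimensional k F' := finiteDimensional_coeffField' hψ
  have hDφx : LocRes.D F (φ x) ≠ 0 := (vDiff_one_ne_zero_iff φ x).1 hx
  have hDψx : LocRes.D F' (ψ (algebraMap K K' x)) ≠ 0 :=
    (vDiff_one_ne_zero_iff ψ (algebraMap K K' x)).1 hx'
  have hDx' : D k K' (algebraMap K K' x) ≠ 0 := D_ne_zero_of_D_phi_ne_zero ψ hDψx
  have hfr' : Module.finrank K' (Ω[K'⁄k]) = 1 :=
    finrank_kaehler_ext (k := k) (k' := k) (K := K) hfr hDx'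
  obtain ⟨t, ht⟩ := hφ.2.2
  obtain ⟨hDφt, hordt⟩ := ordDiff_uniformizer hφ ht
  obtain ⟨ht', hd⟩ := diffExp_indep he hφ hψ hfr hDφx hDψx hDφt
  have hd' : LocRes.diffExp φ ψ e x = LocRes.ordDiff ψ 1 (algebraMap K K' t) := by
    rw [hd]
    unfold LocRes.diffExp
    rw [hordt, mul_zero, sub_zero]
  have hint : ∀ z : K', IsIntegral P.O z ↔ ∀ Q' : FunFld.Place k K', FunFld.IsOver Q' P → Q'.1 z ≤ 1 := by
    intro z
    have hB := integralClosure_eq_BP (K' := K') P hK
    constructor
    · intro hz Q' hov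
      have : z ∈ BP (K' := K') P := by rw [← hB]; exact hz
      exact this ⟨Q', hov⟩
    · intro hz
      have : z ∈ integralClosure P.O K' := by rw [hB]; exact fun i => hz i.1 i.2
      exact this
  rw [hd']
  constructor
  · intro y hy
    exact trace_dual_le hK he hφ hψ hfr hfr' ht ht' y (fun z hz => hy z ((hint z).2 hz))
  · obtain ⟨y, hy, hyv⟩ := exists_trace_dual_eq hK he hφ hψ hfr hfr' ht ht'
    exact ⟨y, fun z hz => hy z ((hint z).1 hz), hyv⟩

end Groth.Agent.S12574
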