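import Groth.Statements.S12575
import Mathlib
import Groth.Agent.Lib.Helper2.Tate.TD2
import Groth.Agent.Lib.Helper2.Tate.LD2
import Groth.Agent.Lib.Helper2.FunFld.IntCl2

set_option autoImplicit false
universe u v w
open FunFld

namespace Groth.Agent.S12575
open Groth.Agent.Lib.Helper2.Tate Groth.Agent.Lib.Helper2.FF KaehlerDifferential

/-- Let `Q` be a place of a finite separable extension `K' = K(y)` of a geometric function field of one
variable `K/k`, over `P` with ramification index `e` and residue degree `1`, both with Laurent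
expansions over `k` in local parameters, with `y` integral over `O_P` and `g` its minimal polynomial
over `K`. Then `v_Q(g'(y)) ≥ d(Q|P)`, and when equality holds `O_Q` is the localisation of `O_P[y]`
at `Q`. -/
theorem result (k : Type u) (K K' : Type v) [Field k] [Field K] [Field K'] [Algebra k K] [Algebra K K'] [Algebra k K']
    [IsScalarTower k K K'] [FiniteDimensional K K'] [Algebra.IsSeparable K K']
    (hK : FunFld.IsFunctionField k K) (hg : FunFld.IsGeometric k K)
    (F F' : Type w) [Field F] [Algebra k F] [Field F'] [Algebra k F']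
    (P : FunFld.Place k K) (Q : FunFld.Place k K') (e : ℕ) (he : FunFld.IsOverWith Q P e)
    (φ : K →ₐ[k] LaurentSeries F) (hφ : LocRes.IsExpansionAt P.1 φ)
    (ψ : K' →ₐ[k] LaurentSeries F') (hψ : LocRes.IsExpansionAt Q.1 ψ)
    (x : K) (hx : LocRes.vDiff φ 1 x ≠ 0) (hx' : LocRes.vDiff ψ 1 (algebraMap K K' x) ≠ 0)
    [P.1.HasExtension Q.1]
    (hf : Function.Surjective (algebraMap (IsLocalRing.ResidueField P.O) (IsLocalRing.ResidueField Q.O)))
    [Algebra P.O K'] [IsScalarTower P.O K K']
    (y : K') (hy : IntermediateField.adjoin K ({y} : Set K') = ⊤) (hyi : IsIntegral P.O y) :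
    LocRes.diffExp φ ψ e x ≤ Q.ord (Polynomial.aeval y (Polynomial.derivative (minpoly K y))) ∧
    (Q.ord (Polynomial.aeval y (Polynomial.derivative (minpoly K y))) = LocRes.diffExp φ ψ e x →
      ∀ z : K', Q.1 z ≤ 1 → ∃ a ∈ Algebra.adjoin P.O ({y} : Set K'), ∃ b ∈ Algebra.adjoin P.O ({y} : Set K'),
        Q.1 b = 1 ∧ z * b = a) := by
  classical
  have hfr : Module.finrank K (Ω[K⁄k]) = 1 := finrank_kaehler_eq_one hK hg
  haveI := finiteDimensional_residueField P hK
  haveI := finiteDimensional_residueField_w (isFFw_of_finite (K' := K') hK) Q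
  haveI : FiniteDimensional k F := finiteDimensional_coeffField' hφ
  haveI : FiniteDimensional k F' := finiteDimensional_coeffField' hψ
  have hDφx : LocRes.D F (φ x) ≠ 0 := (vDiff_one_ne_zero_iff φ x).1 hx
  have hDψx : LocRes.D F' (ψ (algebraMap K K' x)) ≠ 0 :=
    (vDiff_one_ne_zero_iff ψ (algebraMap K K' x)).1 hx'
  have hDx' : D k K' (algebraMap K K' x) ≠ 0 := D_ne_zero_of_D_phi_ne_zero ψ hDψx
  have hfr' : Module.finrank K' (Ω[K'⁄k]) = 1 :=
    finrank_kaehler_ext (k := k) (k' := k) (K := K) hfr hDx'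
  obtain ⟨t, ht⟩ := hφ.2.2
  obtain ⟨hDφt, hordt⟩ := ordDiff_uniformizer hφ ht
  obtain ⟨ht', hd⟩ := diffExp_indep he hφ hψ hfr hDφx hDψx hDφt
  have hd' : LocRes.diffExp φ ψ e x = LocRes.ordDiff ψ 1 (algebraMap K K' t) := by
    rw [hd]
    unfold LocRes.diffExp
    rw [hordt, mul_zero, sub_zero]
  have hint : ∀ z : K', IsIntegral P.O z ↔ ∀ Q' : FunFld.Place k K', FunFld.IsOver Q' P → Q'.1 z ≤ 1 := by
    intro z
    have hB := integralClosure_eq_BP (K' := K') P hK
    constructor
    · intro hz Q' hov
      have : z ∈ BP (K' := K') P := by rw [← hB]; exact hz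
      exact this ⟨Q', hov⟩
    · intro hz
      have : z ∈ integralClosure P.O K' := by rw [hB]; exact fun i => hz i.1 i.2
      exact this
  set d := LocRes.diffExp φ ψ e x with hddef
  obtain ⟨w, hw, hwv⟩ := exists_trace_dual_eq hK he hφ hψ hfr hfr' ht ht'
  rw [← hd'] at hwv
  set g' : K' := Polynomial.aeval y (Polynomial.derivative (minpoly K y)) with hg'
  have hg'0 : g' ≠ 0 :=
    (Algebra.IsSeparable.isSeparable K y).aeval_derivative_ne_zero (minpoly.aeval K y)
  have hadj : Algebra.adjoin K ({y} : Set K') = ⊤ := by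
    have h1 := IntermediateField.adjoin_simple_toSubalgebra_of_isAlgebraic
      (Algebra.IsAlgebraic.isAlgebraic (R := K) y)
    rw [hy] at h1
    rw [← h1]
    rfl
  have hEuler := traceForm_dualSubmodule_adjoin P.O K hadj hyi
  have hCint : ∀ c ∈ Algebra.adjoin P.O ({y} : Set K'), IsIntegral P.O c := by
    intro c hc
    have hle : Algebra.adjoin P.O ({y} : Set K') ≤ integralClosure P.O K' :=
      Algebra.adjoin_le (by
        intro a ha
        rw [Set.mem_singleton_iff] at ha
        rw [ha]
        exact hyi)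
    exact hle hc
  -- key: `r w g' ∈ C` for integral `r`
  have key : ∀ r : K', IsIntegral P.O r → r * w * g' ∈ Algebra.adjoin P.O ({y} : Set K') := by
    intro r hr
    have h1 : r * w ∈ (Algebra.traceForm K K').dualSubmodule
        (Subalgebra.toSubmodule (Algebra.adjoin P.O ({y} : Set K'))) := by
      rw [LinearMap.BilinForm.mem_dualSubmodule]
      intro c hc
      have hc' : IsIntegral P.O c := hCint c hc
      have h2 : P.1 (Algebra.trace K K' (w * (r * c))) ≤ 1 :=
        hw (r * c) ((hint _).1 (hr.mul hc'))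
      rw [Algebra.traceForm_apply]
      have h3 : r * w * c = w * (r * c) := by ring
      rw [h3]
      exact Submodule.mem_one.2 ⟨⟨_, (mem_O_iff P _).2 h2⟩, rfl⟩
    rw [hEuler] at h1
    obtain ⟨c, hc, hcw⟩ := (Submodule.mem_smul_pointwise_iff_exists _ _ _).1 h1
    have h4 : r * w * g' = c := by
      rw [← hcw, smul_eq_mul, mul_comm]
      exact mul_inv_cancel_left₀ hg'0 c
    rw [h4]
    exact hc
  have hQle : ∀ c : K', IsIntegral P.O c → Q.1 c ≤ 1 := fun c hc => (hint c).1 hc Q ⟨e, he⟩
  have h1int : IsIntegral P.O (1 : K') := isIntegral_one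
  have hb₀ : w * g' ∈ Algebra.adjoin P.O ({y} : Set K') := by
    have := key 1 h1int
    rwa [one_mul] at this
  have hQg' : Q.1 g' ≠ 0 := (Valuation.ne_zero_iff _).2 hg'0
  have hle1 : WithZero.exp d * Q.1 g' ≤ 1 := by
    have := hQle _ (hCint _ hb₀)
    rwa [map_mul, hwv] at this
  constructor
  · change d ≤ - WithZero.log (Q.1 g')
    have hle2 : WithZero.exp d * Q.1 g' ≤ WithZero.exp (0 : ℤ) := by
      rw [WithZero.exp_zero]; exact hle1
    rw [← WithZero.exp_log hQg', ← WithZero.exp_add, WithZero.exp_le_exp] at hle2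
    omega
  · intro heq z hz
    have heq' : - WithZero.log (Q.1 g') = d := heq
    have hQg'eq : Q.1 g' = WithZero.exp (-d) := by
      rw [← WithZero.exp_log hQg']
      congr 1
      omega
    have hb₀v : Q.1 (w * g') = 1 := by
      rw [map_mul, hwv, hQg'eq, ← WithZero.exp_add, add_neg_cancel, WithZero.exp_zero]
    haveI : Finite (OverP K' P) := finite_overP hK P
    by_cases hz0 : z = 0
    · subst hz0
      exact ⟨0, Subalgebra.zero_mem _, w * g', hb₀, hb₀v, zero_mul _⟩
    obtain ⟨u, hu0, huv⟩ := exists_ord_eq (fun i : OverP K' P => i.1) Subtype.val_injective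
      (fun i => if i.1 = Q then 0 else min 0 (- WithZero.log (i.1.1 z)))
    have huQ : Q.1 u = 1 := by
      have := huv ⟨Q, ⟨e, he⟩⟩
      simp only [if_true, WithZero.exp_zero] at this
      exact this
    have huQ' : ∀ Q' : FunFld.Place k K', FunFld.IsOver Q' P → Q' ≠ Q →
        Q'.1 u ≤ 1 ∧ Q'.1 (u * z) ≤ 1 := by
      intro Q' hov hne
      have := huv ⟨Q', hov⟩
      simp only [if_neg hne] at this
      change Q'.1 u = _ at this
      have hQ'z0 : Q'.1 z ≠ 0 := (Valuation.ne_zero_iff _).2 hz0
      constructor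
      · rw [this]
        exact (WithZero.exp_le_exp.2 (min_le_left _ _)).trans_eq WithZero.exp_zero
      · rw [map_mul, this]
        calc WithZero.exp (min 0 (- WithZero.log (Q'.1 z))) * Q'.1 z
            ≤ WithZero.exp (- WithZero.log (Q'.1 z)) * Q'.1 z :=
              mul_le_mul' (WithZero.exp_le_exp.2 (min_le_right _ _)) le_rfl
          _ = 1 := by rw [WithZero.exp_neg, WithZero.exp_log hQ'z0, inv_mul_cancel₀ hQ'z0]
    have hu_int : IsIntegral P.O u := by
      rw [hint]
      intro Q' hov
      by_cases hne : Q' = Q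
      · rw [hne, huQ]
      · exact (huQ' Q' hov hne).1
    have huz_int : IsIntegral P.O (u * z) := by
      rw [hint]
      intro Q' hov
      by_cases hne : Q' = Q
      · rw [hne, map_mul, huQ, one_mul]; exact hz
      · exact (huQ' Q' hov hne).2
    refine ⟨u * z * w * g', key _ huz_int, u * w * g', key _ hu_int, ?_, by ring⟩
    rw [mul_assoc, map_mul, huQ, one_mul, hb₀v]

end Groth.Agent.S12575
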