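import Groth.Statements.S12576
import Mathlib
import Groth.Agent.Lib.Helper2.Tate.RH2
import Groth.Agent.Lib.Helper2.Tate.LD2
import Groth.Agent.Lib.Helper2.FunFld.AdeleK
import Groth.Agent.Lib.Helper2.FunFld.RR

set_option autoImplicit false
universe u v w
open FunFld

namespace Groth.Agent.S12576
open Groth.Agent.Lib.Helper2.Tate Groth.Agent.Lib.Helper2.FF KaehlerDifferential

/-- For a geometric function field of one variable `K/k` and a finite separable extension `K'` with
constant field `k'`, `[k':k] (2g_{K'} - 2) = [K':K] (2g_K - 2) + [k':k] deg 𝒟_{K'/K}`, the degree of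
the different being `∑_Q d(Q|P) deg_{k'} Q`; stated, cleared of denominators, through Laurent
expansions at every place of `K` over `k` and of `K'` over `k'` (all places separable) with the
different exponents computed on `dx`. (The published statement allows any finite extension along
which differentials pull back injectively; this row takes `K'` separable over `K`.) -/
theorem result (k k' : Type u) (K K' : Type v) [Field k] [Field k'] [Field K] [Field K']
    [Algebra k k'] [Algebra k K] [Algebra K K'] [Algebra k' K'] [Algebra k K']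
    [IsScalarTower k k' K'] [IsScalarTower k K K'] [FiniteDimensional k k'] [FiniteDimensional K K']
    [Algebra.IsSeparable K K']
    (hK : FunFld.IsFunctionField k K) (hg : FunFld.IsGeometric k K) (hK' : FunFld.IsFunctionField k' K')
    (F : FunFld.Place k K → Type w) [∀ P, Field (F P)] [∀ P, Algebra k (F P)]
    (φ : ∀ P, K →ₐ[k] LaurentSeries (F P)) (hφ : ∀ P, LocRes.IsExpansionAt P.1 (φ P))
    (F' : FunFld.Place k' K' → Type w) [∀ Q, Field (F' Q)] [∀ Q, Algebra k' (F' Q)]
    (ψ : ∀ Q, K' →ₐ[k'] LaurentSeries (F' Q)) (hψ : ∀ Q, LocRes.IsExpansionAt Q.1 (ψ Q))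
    (below : FunFld.Place k' K' → FunFld.Place k K) (e : FunFld.Place k' K' → ℕ)
    (he : ∀ Q (z : K), Q.1 (algebraMap K K' z) = (below Q).1 z ^ e Q)
    (x : K) (hx : ∀ P, LocRes.vDiff (φ P) 1 x ≠ 0) (hx' : ∀ Q, LocRes.vDiff (ψ Q) 1 (algebraMap K K' x) ≠ 0) :
    (Function.support fun Q => LocRes.diffExp (φ (below Q)) (ψ Q) (e Q) x).Finite ∧
    (Module.finrank k k' : ℤ) * (2 * (FunFld.genus k' K' : ℤ) - 2) =
      (Module.finrank K K' : ℤ) * (2 * (FunFld.genus k K : ℤ) - 2) +
      (Module.finrank k k' : ℤ) * ∑ᶠ Q, LocRes.diffExp (φ (below Q)) (ψ Q) (e Q) x * (Q.deg : ℤ) := by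
  classical
  have hfr : Module.finrank K (Ω[K⁄k]) = 1 := finrank_kaehler_eq_one hK hg
  haveI : ∀ P, FiniteDimensional k (F P) := fun P => finiteDimensional_coeffField hK (hφ P)
  haveI : ∀ Q, FiniteDimensional k' (F' Q) := fun Q => finiteDimensional_coeffField hK' (hψ Q)
  obtain ⟨P₀⟩ := nonempty_place hK
  obtain ⟨Q₀⟩ := nonempty_place hK'
  set x' := algebraMap K K' x with hx'def
  have hDx : D k K x ≠ 0 := by
    intro h0
    apply (vDiff_one_ne_zero_iff (φ P₀) x).1 (hx P₀)
    have := D_phi_eq_mul (φ P₀) (f := x) (s := 0) (c := 0) (by rw [h0, zero_smul])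
    rw [this, map_zero, zero_mul]
  have hDx' : D k' K' x' ≠ 0 := by
    intro h0
    apply (vDiff_one_ne_zero_iff (ψ Q₀) x').1 (hx' Q₀)
    have := D_phi_eq_mul (ψ Q₀) (f := x') (s := 0) (c := 0) (by rw [h0, zero_smul])
    rw [this, map_zero, zero_mul]
  have hfr' : Module.finrank K' (Ω[K'⁄k']) = 1 := finrank_kaehler_ext (k := k) (K := K) hfr hDx'
  obtain ⟨C, -, hCcan, hCv⟩ := exists_divisor_dv hK hfr hφ hDx
  obtain ⟨C', -, hC'can, hC'v⟩ := exists_divisor_dv hK' hfr' hψ hDx'
  have hord : ∀ P, LocRes.ordDiff (φ P) 1 x = C P := fun P => by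
    rw [ordDiff_one_eq, hCv P, WithZero.log_exp, neg_neg]
  have hord' : ∀ Q, LocRes.ordDiff (ψ Q) 1 x' = C' Q := fun Q => by
    rw [ordDiff_one_eq, hC'v Q, WithZero.log_exp, neg_neg]
  set C'' : Divisor k K' :=
    Finsupp.equivMapDomain (placeEquiv (k := k) (k' := k') (K' := K')).symm C' with hC''
  have hC''app : ∀ Q : Place k' K', C'' (downPlace Q) = C' Q := fun Q => by
    rw [hC'', Finsupp.equivMapDomain_apply]; rfl
  set R : Divisor k K' := C'' - conorm K' C with hR
  have hRapp : ∀ Q : Place k' K',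
      R (downPlace Q) = LocRes.diffExp (φ (below Q)) (ψ Q) (e Q) x := fun Q => by
    have hov : IsOverWith (downPlace (k := k) Q) (below Q) (e Q) := he Q
    rw [hR, Finsupp.sub_apply, hC''app,
      conorm_apply (fun P' => finite_isOver hK P') C ⟨e Q, hov⟩, ramIdx_eq hov]
    unfold LocRes.diffExp
    rw [hord, hord']
  constructor
  · have hsub : (Function.support fun Q => LocRes.diffExp (φ (below Q)) (ψ Q) (e Q) x) ⊆
        (downPlace (k := k)) ⁻¹' (R.support : Set _) := by
      intro Q hQ
      rw [Function.mem_support, ← hRapp] at hQ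
      simpa using hQ
    exact (Set.Finite.preimage
      (Function.Injective.injOn (placeEquiv (k := k) (k' := k') (K' := K')).symm.injective)
      R.support.finite_toSet).subset hsub
  · have h1 : C''.deg = Module.finrank k k' * (2 * (genus k' K' : ℤ) - 2) := by
      rw [deg_eq_finsum_down (k' := k'), ← deg_canonical hK' hC'can, deg_eq_finsum C']
      congr 1
    have h2 : R.deg = C''.deg - Module.finrank K K' * (2 * (genus k K : ℤ) - 2) := by
      rw [hR, ← degAddHom_apply, map_sub, degAddHom_apply, degAddHom_apply, deg_conorm hK C,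
        deg_canonical hK hCcan]
    have h3 : R.deg = Module.finrank k k' *
        ∑ᶠ Q, LocRes.diffExp (φ (below Q)) (ψ Q) (e Q) x * (Q.deg : ℤ) := by
      rw [deg_eq_finsum_down (k' := k')]
      congr 1
      exact finsum_congr fun Q => by rw [hRapp]
    linarith

end Groth.Agent.S12576
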