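import Groth.Statements.S12577
import Mathlib
import Groth.Agent.Lib.Helper2.FunFld.HF11
import Groth.Agent.Lib.Helper2.Tate.LD2


set_option autoImplicit false
universe u v w
open FunFld

namespace Groth.Agent.S12577
open Groth.Agent.Lib.Helper2.Tate Groth.Agent.Lib.Helper2.FF Groth.Agent.Lib.Helper2.HF KaehlerDifferential

/-- For a place `Q` of a finite Galois extension `K'` of a geometric function field of one variable
`K/k`, lying over `P` with ramification index `e`, both places with Laurent expansions over `k` in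
local parameters (separable places), the different exponent is `d(Q|P) = ∑_{i ≥ 1} (|G_i| - 1)`,
where `G_i` is the `i`-th ramification group (automorphisms moving every element of `O_Q` by
something of valuation at least `i`); `d(Q|P)` is computed on `dx`. -/
theorem result (k : Type u) (K K' : Type v) [Field k] [Field K] [Field K'] [Algebra k K] [Algebra K K'] [Algebra k K']
    [IsScalarTower k K K'] [FiniteDimensional K K'] (hK : FunFld.IsFunctionField k K) (hg : FunFld.IsGeometric k K)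
    [IsGalois K K']
    (F F' : Type w) [Field F] [Algebra k F] [Field F'] [Algebra k F']
    (P : FunFld.Place k K) (Q : FunFld.Place k K') (e : ℕ) (he : FunFld.IsOverWith Q P e)
    (φ : K →ₐ[k] LaurentSeries F) (hφ : LocRes.IsExpansionAt P.1 φ)
    (ψ : K' →ₐ[k] LaurentSeries F') (hψ : LocRes.IsExpansionAt Q.1 ψ)
    (x : K) (hx : LocRes.vDiff φ 1 x ≠ 0) (hx' : LocRes.vDiff ψ 1 (algebraMap K K' x) ≠ 0) :
    (Function.support fun i : ℕ => (Nat.card {σ : K' ≃ₐ[K] K' //
        ∀ z : K', Q.1 z ≤ 1 → Q.1 (σ z - z) ≤ WithZero.exp (-(i : ℤ))} : ℤ) - 1).Finite ∧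
    LocRes.diffExp φ ψ e x = ∑ᶠ i : ℕ, if 1 ≤ i then
      (Nat.card {σ : K' ≃ₐ[K] K' // ∀ z : K', Q.1 z ≤ 1 → Q.1 (σ z - z) ≤ WithZero.exp (-(i : ℤ))} : ℤ) - 1
      else 0 := by
  have hfr : Module.finrank K (Ω[K⁄k]) = 1 := finrank_kaehler_eq_one hK hg
  have hfr' : Module.finrank K' (Ω[K'⁄k]) = 1 := finrank_kaehler_ext hfr
  have hFF : IsFFw k K' := isFFw_of_finite hK
  haveI : FiniteDimensional k (IsLocalRing.ResidueField Q.O) := finiteDimensional_residueField_w hFF Q
  haveI : Algebra.IsSeparable k (IsLocalRing.ResidueField Q.O) := isSeparable_residueField hψ hfr'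
  have hDφx : LocRes.D F (φ x) ≠ 0 := (vDiff_one_ne_zero_iff φ x).1 hx
  have hDψx : LocRes.D F' (ψ (algebraMap K K' x)) ≠ 0 :=
    (vDiff_one_ne_zero_iff ψ (algebraMap K K' x)).1 hx'
  obtain ⟨t, ht⟩ := P.2.2 (WithZero.exp (-1))
  obtain ⟨hDφt, hordt⟩ := ordDiff_uniformizer hφ ht
  obtain ⟨hDψt, hd⟩ := diffExp_indep he hφ hψ hfr hDφx hDψx hDφt
  obtain ⟨hfin, hsum⟩ := hilbert_core hK he hψ ht hDψt
  refine ⟨hfin, ?_⟩
  rw [hd, ← hsum]
  unfold LocRes.diffExp
  rw [hordt, mul_zero, sub_zero, ordDiff_one_eq]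

end Groth.Agent.S12577
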