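import Groth.Statements.S12578
import Mathlib
import Groth.Agent.Lib.Helper2.Tate.T10b
import Groth.Agent.Lib.Helper2.Tate.T10c
import Groth.Agent.Lib.Helper2.FunFld.IntCl

set_option autoImplicit false
universe u v w
open FunFld

namespace Groth.Agent.S12578
open Groth.Agent.Lib.Helper2

/-- For a geometric function field of one variable `K/k`, a finite separable extension `K'` with the
same constant field, a place `P` of `K` and `ω = y dx` with `y ∈ K'`, `x ∈ K`: `Res_P(tr_{K'/K}(y)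
dx) = ∑_{Q | P} Res_Q(y dx)`; residues are read through Laurent expansions over `k` at `P` and at
every `Q` over `P` (so these places are separable). -/
theorem result (k : Type u) (K K' : Type v) [Field k] [Field K] [Field K'] [Algebra k K] [Algebra K K'] [Algebra k K']
    [IsScalarTower k K K'] [FiniteDimensional K K'] [Algebra.IsSeparable K K']
    (hK : FunFld.IsFunctionField k K) (hg : FunFld.IsGeometric k K)
    (hK' : FunFld.IsFunctionField k K') (P : FunFld.Place k K)
    (F : Type w) [Field F] [Algebra k F] [FiniteDimensional k F]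
    (φ : K →ₐ[k] LaurentSeries F) (hφ : LocRes.IsExpansionAt P.1 φ)
    (Qs : Finset (FunFld.Place k K')) (hQs : ∀ Q, Q ∈ Qs ↔ FunFld.IsOver Q P)
    (F' : FunFld.Place k K' → Type w) [∀ Q, Field (F' Q)] [∀ Q, Algebra k (F' Q)] [∀ Q, FiniteDimensional k (F' Q)]
    (ψ : ∀ Q, K' →ₐ[k] LaurentSeries (F' Q)) (hψ : ∀ Q ∈ Qs, LocRes.IsExpansionAt Q.1 (ψ Q))
    (y : K') (x : K) :
    LocRes.locRes φ (Algebra.trace K K' y) x = ∑ Q ∈ Qs, LocRes.locRes (ψ Q) y (algebraMap K K' x) := by
  classical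
  have hOP : (Tate.Fil k (F := F) 0).comap (Tate.phiL φ) = Tate.OP P := by
    ext z
    rw [Tate.comap_phiL_Fil hφ]
    rfl
  have hOQ : ∀ Q ∈ Qs, (Tate.Fil k (F := F' Q) 0).comap (Tate.phiL (ψ Q)) = Tate.OP Q := by
    intro Q hQ
    ext z
    rw [Tate.comap_phiL_Fil (hψ Q hQ)]
    rfl
  have hE₁ : ∀ z : K, Tate.mulK k z ∈ Tate.EE (Tate.OP P) := by
    intro z
    rw [← hOP]
    exact (Tate.res_eq_locRes hφ z z).1
  have hE₂ : ∀ Q ∈ Qs, ∀ z : K', Tate.mulK k z ∈ Tate.EE (Tate.OP Q) := by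
    intro Q hQ z
    rw [← hOQ Q hQ]
    exact (Tate.res_eq_locRes (hψ Q hQ) z z).1
  obtain ⟨z, hli, hzint, hrepr, -⟩ := FF.exists_integral_basis (K' := K') P hK
  haveI : Nonempty (Fin (Module.finrank K K')) := ⟨⟨0, Module.finrank_pos⟩⟩
  set b : Module.Basis (Fin (Module.finrank K K')) K K' :=
    basisOfLinearIndependentOfCardEqFinrank hli (by simp) with hb
  have hbz : ∀ i, b i = z i := fun i => by
    rw [hb, coe_basisOfLinearIndependentOfCardEqFinrank]
  have hover : ∀ Q ∈ Qs, ∀ a : K, P.1 a ≤ 1 → Q.1 (algebraMap K K' a) ≤ 1 := by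
    intro Q hQ a ha
    obtain ⟨e, he⟩ := (hQs Q).1 hQ
    rw [he]
    exact pow_le_one' ha e
  have hA : ∀ w, w ∈ Tate.OPs Qs ↔ ∀ i, b.repr w i ∈ Tate.OP P := by
    intro w
    constructor
    · intro hw
      have hw' : ∀ i : FF.OverP K' P, FF.v i.1 w ≤ 1 := fun i => hw i.1 ((hQs i.1).2 i.2)
      obtain ⟨a, ha, hwa⟩ := hrepr w hw'
      have : ∀ i, b.repr w i = a i := by
        intro i
        rw [hwa]
        have h1 : ∑ j, a j • z j = ∑ j, a j • b j := by
          refine Finset.sum_congr rfl fun j _ => ?_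
          rw [hbz]
        rw [h1, b.repr_sum_self]
      intro i
      rw [this]
      exact ha i
    · intro hw Q hQ
      rw [← b.sum_repr w]
      apply Valuation.map_sum_le
      intro i _
      rw [Algebra.smul_def, map_mul, hbz]
      have h1 := hover Q hQ _ (hw i)
      have h2 : Q.1 (z i) ≤ 1 := hzint i ⟨Q, (hQs Q).1 hQ⟩
      exact (mul_le_mul' h1 h2).trans_eq (one_mul _)
  obtain ⟨-, -, h5⟩ := Tate.res_trace_basis b (Tate.OP P) hE₁ (Tate.OPs Qs) hA y x
  obtain ⟨-, -, h6⟩ := Tate.res_semilocal Qs hE₂ y (algebraMap K K' x)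
  have h7 : Tate.res (Tate.OP P) (Tate.mulK k (Algebra.trace K K' y)) (Tate.mulK k x) =
      LocRes.locRes φ (Algebra.trace K K' y) x := by
    rw [← hOP]
    exact (Tate.res_eq_locRes hφ _ _).2
  rw [← h7, ← h5, h6]
  refine Finset.sum_congr rfl fun Q hQ => ?_
  rw [← hOQ Q hQ]
  exact (Tate.res_eq_locRes (hψ Q hQ) _ _).2

end Groth.Agent.S12578
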