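import Groth.Statements.S12583
import Mathlib
import Groth.Agent.Lib.Helper2.Tate.HD1
import Groth.Agent.Lib.Helper2.Tate.LD2
import Groth.Agent.Lib.Helper2.Tate.TD2
import Groth.Agent.Lib.Helper9.FunFld
import Groth.Agent.Lib.Helper9.FunFldInsep

set_option autoImplicit false
universe u v w
open FunFld

namespace Groth.Agent.S12583
open Groth.Agent.Lib.Helper2.Tate

/-- At a separable place `P` of a geometric function field of one variable `K/k` with local parameter
`t`, if `x ∈ O_P` has expansion `∑ a_m t^m` then the Hasse derivative `D_t^{(n)}(x)` expands as the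
series with coefficients `C(m,n) a_m` in degree `m - n`; in particular `D_t^{(n)}(O_P) ⊆ O_P`. Here
`φ` is a Laurent expansion over `k` at `P` with `φ t = X` and `H` is the total Hasse derivative with
respect to `t`. -/
theorem result (k : Type u) (K : Type v) [Field k] [Field K] [Algebra k K] (hK : FunFld.IsFunctionField k K) (hg : FunFld.IsGeometric k K)
    (P : FunFld.Place k K) (F : Type w) [Field F] [Algebra k F]
    (φ : K →ₐ[k] LaurentSeries F) (hφ : LocRes.IsExpansionAt P.1 φ)
    (t : K) (ht : φ t = HahnSeries.single 1 1)
    (H : K →ₐ[k] PowerSeries K) (hH : LocRes.IsHasseFamily t H)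
    (x : K) (hx : P.1 x ≤ 1) (n : ℕ) :
    φ (LocRes.hasseD H n x) = LaurentSeries.hasseDeriv F n (φ x) := by
  classical
  have hfr := finrank_kaehler_eq_one hK hg
  obtain ⟨⟨x₁, hx₁, hfin⟩, -⟩ := id hK
  haveI hess : Algebra.EssFiniteType k K :=
    Groth.Agent.Lib.Helper9.FunFld.essFiniteType_of_finite_adjoin hfin
  have hDphi : LocRes.D F (φ t) ≠ 0 := by
    intro h0
    have := congrArg (fun f => f.coeff 0) h0
    simp only [LocRes.D_coeff, ht, HahnSeries.coeff_zero, zero_add, one_smul,
      HahnSeries.coeff_single_same] at this
    exact one_ne_zero this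
  have hDt : KaehlerDifferential.D k K t ≠ 0 := D_ne_zero_of_D_phi_ne_zero φ hDphi
  haveI hsep : Algebra.IsSeparable (IntermediateField.adjoin k ({t} : Set K)) K :=
    Groth.Agent.Lib.Helper9.FunFld.isSeparable_adjoin_simple_of_D_ne_zero hfr hDt
  -- the two lifts
  let h₁ : K →+* PowerSeries (LaurentSeries F) :=
    (PowerSeries.map (φ : K →+* LaurentSeries F)).comp (H : K →+* PowerSeries K)
  let h₂ : K →+* PowerSeries (LaurentSeries F) := taylorHom.comp (φ : K →+* LaurentSeries F)
  have key : h₁ = h₂ := by
    refine ringHom_ext_of_separable (k := k) t (φ : K →+* LaurentSeries F) h₁ h₂ ?_ ?_ ?_ ?_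
    · intro y
      change PowerSeries.constantCoeff (PowerSeries.map (φ : K →+* LaurentSeries F) (H y)) = φ y
      rw [← PowerSeries.coeff_zero_eq_constantCoeff_apply, PowerSeries.coeff_map,
        PowerSeries.coeff_zero_eq_constantCoeff_apply, hH.2 y]
      rfl
    · intro y
      change PowerSeries.constantCoeff (taylorHom (φ y)) = φ y
      rw [← PowerSeries.coeff_zero_eq_constantCoeff_apply, coeff_taylorHom,
        LaurentSeries.hasseDeriv_zero]
      rfl
    · intro c
      change PowerSeries.map (φ : K →+* LaurentSeries F) (H (algebraMap k K c))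
        = taylorHom (φ (algebraMap k K c))
      rw [H.commutes, LocRes.map_algebraMap]
      ext n : 1
      rw [coeff_taylorHom, PowerSeries.coeff_map, PowerSeries.algebraMap_apply,
        PowerSeries.coeff_C]
      have e : (HahnSeries.C (algebraMap k F c) : LaurentSeries F)
          = HahnSeries.single 0 (algebraMap k F c) := rfl
      rw [e, LaurentSeries.hasseDeriv_single]
      split_ifs with hn
      · subst hn
        rw [Ring.choose_zero_right, one_smul]
        simp only [Nat.cast_zero, sub_zero, Algebra.algebraMap_self, RingHom.id_apply]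
        exact LocRes.map_algebraMap φ c
      · rw [Ring.choose_zero_pos ℤ (Nat.pos_of_ne_zero hn), zero_smul, HahnSeries.single_eq_zero,
          map_zero]
    · change PowerSeries.map (φ : K →+* LaurentSeries F) (H t) = taylorHom (φ t)
      rw [hH.1, ht]
      ext n : 1
      rw [coeff_taylorHom, PowerSeries.coeff_map, map_add, PowerSeries.coeff_C,
        PowerSeries.coeff_X, LaurentSeries.hasseDeriv_single]
      rcases n with _ | _ | n
      · simp [Ring.choose_zero_right, ht]
      · simp [Ring.choose_one_right]
      · have h0 : Ring.choose (1 : ℤ) (n + 1 + 1) = 0 := by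
          have := Ring.choose_natCast (R := ℤ) 1 (n + 1 + 1)
          rw [Nat.cast_one] at this
          rw [this, Nat.choose_eq_zero_of_lt (by omega), Nat.cast_zero]
        rw [h0, zero_smul, HahnSeries.single_eq_zero]
        simp
  have := congrArg (fun h => PowerSeries.coeff n (h x)) key
  simp only [h₁, h₂, RingHom.comp_apply] at this
  rw [coeff_taylorHom, PowerSeries.coeff_map] at this
  exact this

end Groth.Agent.S12583
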