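import Groth.Statements.S12584
import Mathlib
import Groth.Agent.Lib.Helper2.FunFld.HY1
import Groth.Agent.Lib.Helper2.FunFld.HY2
import Groth.Agent.Lib.Helper2.FunFld.HY3
import Groth.Agent.Lib.Helper2.Tate.GD4
import Groth.Agent.Lib.Helper26.Hyp2

set_option autoImplicit false
universe u v w
open FunFld

namespace Groth.Agent.S12584
open Groth.Agent.Lib.Helper2.HY Groth.Agent.Lib.Helper2.Tate Groth.Agent.Lib.Helper2.FF
open scoped KaehlerDifferential

/-- For `char k ≠ 2` and `K` of degree `2` over `k(x)` with `y² = f(x)`, `f` squarefree of degree `≥ 1`,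
the forms `x^i dx/y`, `0 ≤ i < g`, are a `k`-basis of the regular differential forms: each is
regular, and every regular `z dx` has `z = a(x)/y` with `deg a < g`; regularity read through Laurent
expansions over `k` at every place (all places separable). -/
theorem result (k : Type u) (K : Type v) [Field k] [Field K] [Algebra k K] [Algebra (RatFunc k) K] [IsScalarTower k (RatFunc k) K]
    (hK : FunFld.IsFunctionField k K) (hdeg : Module.finrank (RatFunc k) K = 2) (h2 : ringChar k ≠ 2)
    (y : K) (f : Polynomial k) (hf : Squarefree f) (hd : 1 ≤ f.natDegree)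
    (heq : y ^ 2 = algebraMap (RatFunc k) K (algebraMap (Polynomial k) (RatFunc k) f))
    (F : FunFld.Place k K → Type w) [∀ P, Field (F P)] [∀ P, Algebra k (F P)] [∀ P, FiniteDimensional k (F P)]
    (φ : ∀ P, K →ₐ[k] LaurentSeries (F P)) (hφ : ∀ P, LocRes.IsExpansionAt P.1 (φ P)) :
    (∀ i : ℕ, i < FunFld.genus k K → ∀ P,
      LocRes.vDiff (φ P) (algebraMap (RatFunc k) K RatFunc.X ^ i / y) (algebraMap (RatFunc k) K RatFunc.X) ≤ 1) ∧
    ∀ z : K, (∀ P, LocRes.vDiff (φ P) z (algebraMap (RatFunc k) K RatFunc.X) ≤ 1) →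
      ∃ a : Polynomial k, a.degree < (FunFld.genus k K : WithBot ℕ) ∧
        z = algebraMap (RatFunc k) K (algebraMap (Polynomial k) (RatFunc k) a) / y := by
  classical
  set x : K := algebraMap (RatFunc k) K RatFunc.X with hx
  have heq' : y ^ 2 = Polynomial.aeval x f := by rw [heq, pK_eq_aeval]
  have hxt : Transcendental k x := transcendental_X
  have h2k : (2 : k) ≠ 0 := Ring.two_ne_zero h2
  have h2R : (2 : RatFunc k) ≠ 0 := by
    have : (2 : RatFunc k) = algebraMap k (RatFunc k) 2 := (map_ofNat (algebraMap k (RatFunc k)) 2).symm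
    rw [this]; exact (map_ne_zero _).2 h2k
  haveI : Algebra.IsSeparable (RatFunc k) K := isSeparable_of_finrank_two h2R hdeg
  have hfr : Module.finrank K (Ω[K⁄k]) = 1 := finrank_kaehler
  have hdx : KaehlerDifferential.D k K x ≠ 0 := D_X_ne_zero
  obtain ⟨C, -, hCcan, hCv⟩ := exists_divisor_dv hK hfr hφ hdx
  have hell : ell C = genus k K := ell_canonical hK hCcan
  have hynot : y ∉ IntermediateField.adjoin k ({x} : Set K) :=
    Groth.Agent.Lib.Helper26.Hyp.y_not_mem hxt f hf hd heq'
  have hxy := adjoin_pair_eq_top hdeg hynot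
  have hg : genus k K = (f.natDegree - 1) / 2 :=
    Groth.Agent.Lib.Helper26.Hyp.genus_hyperelliptic hK h2 hxt hxy f hf hd heq'
  have hf0 : f ≠ 0 := by
    rintro rfl
    simp at hd
  have hy0 : y ≠ 0 := by
    rintro rfl
    rw [zero_pow (by norm_num)] at heq'
    have hinj : Function.Injective (Polynomial.aeval x : Polynomial k →ₐ[k] K) :=
      transcendental_iff_injective.mp hxt
    exact hf0 (hinj (by rw [← heq', map_zero]))
  have hA : ∀ i : ℕ, i < genus k K → ∀ P, LocRes.vDiff (φ P) (x ^ i / y) x ≤ 1 := by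
    intro i hi P
    unfold LocRes.vDiff
    rw [map_mul, (hφ P).1]
    rcases le_or_gt (P.1 x) 1 with hx1 | hx1
    · have h1 := v_D_le_of_sq_eq (hφ P) hfr hf heq' hx1
      have hPy : P.1 y ≠ 0 := (Valuation.ne_zero_iff _).2 hy0
      rw [map_div₀, map_pow]
      calc P.1 x ^ i / P.1 y * Valued.v (LocRes.D (F P) (φ P x))
          ≤ 1 / P.1 y * P.1 y := by
            apply mul_le_mul' _ h1
            rw [div_eq_mul_inv, div_eq_mul_inv]
            exact mul_le_mul' (pow_le_one' hx1 i) le_rfl
        _ = 1 := by rw [one_div, inv_mul_cancel₀ hPy]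
    · rw [hg] at hi
      exact vDiff_le_one_of_one_lt (hφ P) hf0 heq' hx1 hi
  refine ⟨hA, ?_⟩
  intro z hz
  have hset := setOf_vDiff_le_eq hφ hCv 0
  have hmemL : ∀ w : K, (∀ P, LocRes.vDiff (φ P) w x ≤ 1) → w ∈ L C := by
    intro w hw
    have : w ∈ {y : K | ∀ P, LocRes.vDiff (φ P) y x ≤ WithZero.exp (-((0 : Divisor k K) P))} := by
      intro P
      simpa using hw P
    rw [hset, sub_zero] at this
    exact this
  have hzL : z ∈ L C := hmemL z hz
  set g := genus k K with hgdef
  haveI : FiniteDimensional k (L C) := finiteDimensional_L hK C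
  have hmemψ : ∀ a ∈ Polynomial.degreeLT k g, Polynomial.aeval x a / y ∈ L C := by
    intro a ha
    rw [Polynomial.mem_degreeLT] at ha
    rw [Polynomial.aeval_def, Polynomial.eval₂_eq_sum, Polynomial.sum_def, Finset.sum_div]
    apply Submodule.sum_mem
    intro i hi
    rw [← Algebra.smul_def, smul_div_assoc]
    have hig : i < g := by
      have h1 := Polynomial.le_degree_of_mem_supp i hi
      have h2 := lt_of_le_of_lt h1 ha
      exact_mod_cast h2
    exact Submodule.smul_mem _ _ (hmemL _ (hA i hig))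
  let ψ₀ : Polynomial.degreeLT k g →ₗ[k] K :=
    (LinearMap.mulRight k y⁻¹) ∘ₗ (Polynomial.aeval x).toLinearMap ∘ₗ (Polynomial.degreeLT k g).subtype
  have hψ₀ : ∀ a : Polynomial.degreeLT k g, ψ₀ a = Polynomial.aeval x (a : Polynomial k) / y := by
    intro a
    simp [ψ₀, div_eq_mul_inv]
  let ψ : Polynomial.degreeLT k g →ₗ[k] L C :=
    LinearMap.codRestrict (L C) ψ₀ (fun a => by rw [hψ₀]; exact hmemψ a.1 a.2)
  have hinj : Function.Injective ψ := by
    rw [← LinearMap.ker_eq_bot, LinearMap.ker_eq_bot']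
    intro a ha
    have h1 : ψ₀ a = 0 := congrArg Subtype.val ha
    rw [hψ₀, div_eq_zero_iff] at h1
    rcases h1 with h1 | h1
    · have hinj : Function.Injective (Polynomial.aeval x : Polynomial k →ₐ[k] K) :=
        transcendental_iff_injective.mp hxt
      exact Subtype.ext (hinj (by rw [h1]; simp))
    · exact absurd h1 hy0
  have hfin : Module.finrank k (Polynomial.degreeLT k g) = Module.finrank k (L C) := by
    rw [(Polynomial.degreeLTEquiv k g).finrank_eq, Module.finrank_fin_fun]
    exact hell.symm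
  haveI : FiniteDimensional k (Polynomial.degreeLT k g) :=
    Module.Finite.equiv (Polynomial.degreeLTEquiv k g).symm
  have hsurj : Function.Surjective ψ :=
    (LinearMap.injective_iff_surjective_of_finrank_eq_finrank hfin).1 hinj
  obtain ⟨a, ha⟩ := hsurj ⟨z, hzL⟩
  refine ⟨a.1, Polynomial.mem_degreeLT.1 a.2, ?_⟩
  have h1 : ψ₀ a = z := congrArg Subtype.val ha
  rw [pK_eq_aeval, ← h1, hψ₀]

end Groth.Agent.S12584
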