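import Groth.Statements.S12587
import Mathlib
import Groth.Agent.Lib.Helper2.FunFld.AR4
import Groth.Agent.Lib.Helper2.FunFld.HY1
import Groth.Agent.Lib.Helper2.Tate.GD4

set_option autoImplicit false
universe u v w
open FunFld

namespace Groth.Agent.S12587
open Groth.Agent.Lib.Helper2.HY Groth.Agent.Lib.Helper2.Tate Groth.Agent.Lib.Helper2.FF Groth.Agent.Lib.Helper2.HF
open Groth.Agent.Lib.Helper2.ASG Groth.Agent.Lib.Helper2.AR Groth.Agent.Lib.Helper26.FunFldRatPlace
open scoped KaehlerDifferential

/-- For `k` perfect of characteristic `2` and `K = k(x, y)` with `y² + y = f(x)`, all poles of `f` of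
odd order `2d_i - 1` at `p_i`, and `q = ∏ p_i^{d_i}` over the finite poles, the forms `x^i dx/q(x)`,
`0 ≤ i < g`, are a `k`-basis of the regular differential forms; regularity read through Laurent
expansions over `k` at every place; `q` is pinned up to a constant by its orders at the finite
places. -/
theorem result (k : Type u) (K : Type v) [Field k] [Field K] [Algebra k K] [Algebra (RatFunc k) K] [IsScalarTower k (RatFunc k) K]
    (hK : FunFld.IsFunctionField k K) (hdeg : Module.finrank (RatFunc k) K = 2) [PerfectField k] (h2 : ringChar k = 2)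
    [Algebra.IsSeparable (RatFunc k) K]
    (y : K) (hy : y ∉ Set.range (algebraMap (RatFunc k) K)) (f : RatFunc k)
    (heq : y ^ 2 + y = algebraMap (RatFunc k) K f)
    (hodd : ∀ p : FunFld.Place k (RatFunc k), 1 < p.1 f → Odd (p.ord f))
    (q : Polynomial k) (hq0 : q ≠ 0)
    (hq : ∀ p : FunFld.Place k (RatFunc k), p.1 RatFunc.X ≤ 1 →
      p.ord (algebraMap (Polynomial k) (RatFunc k) q) = if 1 < p.1 f then (1 - p.ord f) / 2 else 0)
    (F : FunFld.Place k K → Type w) [∀ P, Field (F P)] [∀ P, Algebra k (F P)] [∀ P, FiniteDimensional k (F P)]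
    (φ : ∀ P, K →ₐ[k] LaurentSeries (F P)) (hφ : ∀ P, LocRes.IsExpansionAt P.1 (φ P)) :
    (∀ i : ℕ, i < FunFld.genus k K → ∀ P,
      LocRes.vDiff (φ P) (algebraMap (RatFunc k) K (RatFunc.X ^ i / algebraMap (Polynomial k) (RatFunc k) q))
        (algebraMap (RatFunc k) K RatFunc.X) ≤ 1) ∧
    ∀ z : K, (∀ P, LocRes.vDiff (φ P) z (algebraMap (RatFunc k) K RatFunc.X) ≤ 1) →
      ∃ a : Polynomial k, a.degree < (FunFld.genus k K : WithBot ℕ) ∧
        z = algebraMap (RatFunc k) K (algebraMap (Polynomial k) (RatFunc k) a / algebraMap (Polynomial k) (RatFunc k) q) := by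
  classical
  haveI : FiniteDimensional (RatFunc k) K := Module.finite_of_finrank_pos (by omega)
  haveI : CharP k 2 := ringChar.of_eq h2
  have hK0 : IsFunctionField k (RatFunc k) := isFunctionField_ratFunc
  set x : K := algebraMap (RatFunc k) K RatFunc.X with hx
  have hf0 : f ≠ 0 := f_ne_zero hy heq
  have hX0 : (RatFunc.X : RatFunc k) ≠ 0 := RatFunc.X_ne_zero
  have hpole_iff : ∀ p : FunFld.Place k (RatFunc k), 1 < p.1 f ↔ p.ord f < 0 :=
    fun p => one_lt_v_iff p hf0
  have hodd' : ∀ p : FunFld.Place k (RatFunc k), p.ord f < 0 → Odd (p.ord f) :=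
    fun p hp => hodd p ((hpole_iff p).2 hp)
  have hgen := genus_artinSchreier h2 hK hdeg hy heq hodd'
  have hE : ∀ p : FunFld.Place k (RatFunc k),
      ramDiv f p = if p.ord f < 0 then (1 - p.ord f) / 2 else 0 := by
    intro p
    rw [ramDiv_apply, div_apply hK0]
  have hq' : ∀ p : FunFld.Place k (RatFunc k), p.1 RatFunc.X ≤ 1 →
      p.ord (algebraMap (Polynomial k) (RatFunc k) q) = ramDiv f p := by
    intro p hp
    rw [hq p hp, hE p]
    simp only [hpole_iff]
  obtain ⟨pinf, hpinf⟩ := exists_place_one_lt hK0 (RatFunc.transcendental_X (K := k))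
  have hinf : pinf.ord (RatFunc.X : RatFunc k) < 0 := (one_lt_v_iff pinf hX0).1 hpinf
  have hdegE := deg_ramDiv_eq hq0 hq' hinf
  have hgq : (genus k K : ℤ) = q.natDegree + ramDiv f pinf - 1 := by rw [hgen, hdegE]
  have hfr : Module.finrank K (Ω[K⁄k]) = 1 := finrank_kaehler
  have hdx : KaehlerDifferential.D k K x ≠ 0 := D_X_ne_zero
  obtain ⟨C, -, hCcan, hCv⟩ := exists_divisor_dv hK hfr hφ hdx
  have hell : ell C = genus k K := ell_canonical hK hCcan
  have hxt : Transcendental k x := transcendental_X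
  have hqR0 : algebraMap (Polynomial k) (RatFunc k) q ≠ 0 := by
    rw [Ne, map_eq_zero_iff _ (IsFractionRing.injective (Polynomial k) (RatFunc k))]; exact hq0
  -- regularity of the forms
  have hA : ∀ i : ℕ, i < genus k K → ∀ P, LocRes.vDiff (φ P)
      (algebraMap (RatFunc k) K (RatFunc.X ^ i / algebraMap (Polynomial k) (RatFunc k) q)) x ≤ 1 := by
    intro i hi P
    have hi' : (i : ℤ) + 2 ≤ q.natDegree + ramDiv f pinf := by
      have : (i : ℤ) < genus k K := by exact_mod_cast hi
      omega
    unfold LocRes.vDiff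
    rw [map_mul, (hφ P).1]
    obtain ⟨p, e, he⟩ := exists_isOverWith hK0 P
    have he1 := isOverWith_one_le he
    rw [he, map_div₀, map_pow, div_pow]
    have hvq : p.1 (algebraMap (Polynomial k) (RatFunc k) q) =
        WithZero.exp (-p.ord (algebraMap (Polynomial k) (RatFunc k) q)) := v_eq_exp_neg_ord p hqR0
    have hPx : P.1 x = p.1 RatFunc.X ^ e := he RatFunc.X
    by_cases hp : p.1 RatFunc.X ≤ 1
    · -- finite place
      rw [hvq, hq' p hp, hE p]
      by_cases hpole : p.ord f < 0
      · rw [if_pos hpole]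
        have hoddp := hodd' p hpole
        obtain ⟨m, hm⟩ := hoddp
        obtain ⟨d, hd⟩ : ∃ d : ℕ, (d : ℤ) = (1 - p.ord f) / 2 := ⟨((1 - p.ord f) / 2).toNat, by omega⟩
        have hd1 : 1 ≤ d := by omega
        have h3 := ((Groth.Agent.S12519.result k K h2 hdeg y hy f heq p).1 ⟨hpole, ⟨m, hm⟩⟩).2 P ⟨e, he⟩
        have he2 : e = 2 := isOverWith_e_unique he h3.1
        subst he2
        have hord : p.1 f = WithZero.exp (2 * (d : ℤ) - 1) := by
          rw [v_eq_exp_neg_ord p hf0]; congr 1; omega
        have hD := v_D_X_le_of_finite_pole (hφ P) he hp heq hd1 hord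
        rw [← hd]
        calc (p.1 RatFunc.X ^ i) ^ 2 / (WithZero.exp (-(d : ℤ))) ^ 2 *
              Valued.v (LocRes.D (F P) (φ P x))
            ≤ 1 / (WithZero.exp (-(d : ℤ))) ^ 2 * WithZero.exp (-(2 * d : ℤ)) := by
              apply mul_le_mul' _ hD
              rw [div_eq_mul_inv, div_eq_mul_inv]
              exact mul_le_mul' (pow_le_one' (pow_le_one' hp i) 2) le_rfl
          _ = 1 := by
              rw [← WithZero.exp_nsmul, one_div, ← WithZero.exp_neg, ← WithZero.exp_add,
                ← WithZero.exp_zero]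
              congr 1
              simp only [nsmul_eq_mul, Nat.cast_ofNat]
              ring
      · rw [if_neg hpole, neg_zero, WithZero.exp_zero, one_pow, div_one]
        have hxP : P.1 x ≤ 1 := by rw [hPx]; exact pow_le_one' hp e
        calc (p.1 RatFunc.X ^ i) ^ e * Valued.v (LocRes.D (F P) (φ P x)) ≤ 1 * 1 :=
              mul_le_mul' (pow_le_one' (pow_le_one' hp i) e) (D_mem_Fil_zero_of_le (hφ P) hxP)
          _ = 1 := one_mul 1
    · -- the infinite place
      have hp' : p.ord (RatFunc.X : RatFunc k) < 0 := (one_lt_v_iff p hX0).1 (not_le.1 hp)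
      have hpeq : pinf = p := inf_unique hinf hp'
      subst hpeq
      have hpX : pinf.1 (RatFunc.X : RatFunc k) = WithZero.exp (1 : ℤ) := by
        rw [v_eq_exp_neg_ord pinf hX0, ord_X_inf pinf hinf]; rfl
      rw [hvq, ord_poly_inf' pinf hinf hq0, neg_neg, hpX]
      rw [hE pinf] at hi'
      by_cases hpole : pinf.ord f < 0
      · rw [if_pos hpole] at hi'
        have hoddp := hodd' pinf hpole
        obtain ⟨m, hm⟩ := hoddp
        obtain ⟨d, hd⟩ : ∃ d : ℕ, (d : ℤ) = (1 - pinf.ord f) / 2 :=
          ⟨((1 - pinf.ord f) / 2).toNat, by omega⟩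
        have hd1 : 1 ≤ d := by omega
        have h3 := ((Groth.Agent.S12519.result k K h2 hdeg y hy f heq pinf).1
          ⟨hpole, ⟨m, hm⟩⟩).2 P ⟨e, he⟩
        have he2 : e = 2 := isOverWith_e_unique he h3.1
        subst he2
        have hord : pinf.1 f = WithZero.exp (2 * (d : ℤ) - 1) := by
          rw [v_eq_exp_neg_ord pinf hf0]; congr 1; omega
        have hD := v_D_X_le_of_infinite_pole (hφ P) he hinf heq hd1 hord
        calc ((WithZero.exp (1 : ℤ)) ^ i) ^ 2 / (WithZero.exp (q.natDegree : ℤ)) ^ 2 *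
              Valued.v (LocRes.D (F P) (φ P x))
            ≤ ((WithZero.exp (1 : ℤ)) ^ i) ^ 2 / (WithZero.exp (q.natDegree : ℤ)) ^ 2 *
              WithZero.exp (4 - 2 * (d : ℤ)) := mul_le_mul' le_rfl hD
          _ = WithZero.exp (2 * (i : ℤ) - 2 * q.natDegree + (4 - 2 * d)) := by
              rw [← WithZero.exp_nsmul, ← WithZero.exp_nsmul, ← WithZero.exp_nsmul,
                ← WithZero.exp_sub, ← WithZero.exp_add]
              congr 1
              simp only [nsmul_eq_mul, Nat.cast_ofNat]
              ring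
          _ ≤ 1 := by
              rw [← WithZero.exp_zero, WithZero.exp_le_exp]
              omega
      · rw [if_neg hpole] at hi'
        have h3 := (Groth.Agent.S12519.result k K h2 hdeg y hy f heq pinf).2 (not_lt.1 hpole) P
          ⟨e, he⟩
        have he2 : e = 1 := isOverWith_e_unique he h3
        subst he2
        have hPx' : P.1 x = WithZero.exp (1 : ℤ) := by rw [hPx, hpX, pow_one]
        have hD := v_D_le_of_one_lt (k := k) (hφ P) hPx'
        calc ((WithZero.exp (1 : ℤ)) ^ i) ^ 1 / (WithZero.exp (q.natDegree : ℤ)) ^ 1 *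
              Valued.v (LocRes.D (F P) (φ P x))
            ≤ ((WithZero.exp (1 : ℤ)) ^ i) ^ 1 / (WithZero.exp (q.natDegree : ℤ)) ^ 1 *
              WithZero.exp ((1 : ℤ) + 1) := mul_le_mul' le_rfl hD
          _ = WithZero.exp ((i : ℤ) - q.natDegree + 2) := by
              rw [pow_one, pow_one, ← WithZero.exp_nsmul, ← WithZero.exp_sub, ← WithZero.exp_add]
              congr 1
              simp only [nsmul_eq_mul]
              ring
          _ ≤ 1 := by
              rw [← WithZero.exp_zero, WithZero.exp_le_exp]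
              omega
  refine ⟨hA, ?_⟩
  intro z hz
  have hset := setOf_vDiff_le_eq hφ hCv 0
  have hmemL : ∀ w : K, (∀ P, LocRes.vDiff (φ P) w x ≤ 1) → w ∈ L C := by
    intro w hw
    have : w ∈ {y : K | ∀ P, LocRes.vDiff (φ P) y x ≤ WithZero.exp (-((0 : Divisor k K) P))} := by
      intro P
      simpa using hw P
    rw [hset, sub_zero] at this
    exact this
  have hzL : z ∈ L C := hmemL z hz
  haveI : FiniteDimensional k (L C) := finiteDimensional_L hK C
  have hqK0 : Polynomial.aeval x q ≠ 0 := by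
    rw [← pK_eq_aeval]
    exact (map_ne_zero _).2 hqR0
  have hc0 : (Polynomial.aeval x q)⁻¹ ≠ 0 := inv_ne_zero hqK0
  have hform : ∀ a : Polynomial k, algebraMap (RatFunc k) K
      (algebraMap (Polynomial k) (RatFunc k) a / algebraMap (Polynomial k) (RatFunc k) q) =
      Polynomial.aeval x a * (Polynomial.aeval x q)⁻¹ := by
    intro a
    rw [map_div₀, pK_eq_aeval, pK_eq_aeval, div_eq_mul_inv]
  obtain ⟨a, ha, hza⟩ := exists_poly_of_mem (V := L C) hell hxt hc0 (fun i hi => by
    have h1 := hmemL _ (hA i hi)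
    have h2 := hform (Polynomial.X ^ i)
    rw [map_pow, RatFunc.algebraMap_X, map_pow, Polynomial.aeval_X] at h2
    rw [← h2]; exact h1) hzL
  exact ⟨a, ha, by rw [hza, hform]⟩

end Groth.Agent.S12587
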