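import Groth.Statements.S12588
import Mathlib
import Groth.Agent.Lib.Helper2.Tate.DM3
import Groth.Agent.Lib.Helper2.Tate.LD2
import Groth.Agent.Lib.Helper26.FunFldRatPlace
import Groth.Agent.S12519
import Groth.Agent.S12517
import Groth.Agent.S11000

set_option autoImplicit false
universe u v w
open FunFld

namespace Groth.Agent.S12588
open Groth.Agent.Lib.Helper2.Tate Groth.Agent.Lib.Helper2.FF KaehlerDifferential
open Groth.Agent.Lib.Helper26.FunFldRatPlace

/-- For `k` perfect of characteristic `2`, `K` separable of degree `2` over `k(x)` with `y² + y = f(x)`,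
and a place `p` of `k(x)` where `f` has a pole whose order `2d - 1` is odd: a place `P` of `K` above
`p` with ramification index `e` (necessarily `e = 2`, `P` unique) has different exponent `d(P|p) =
2d = 1 - ord_p(f)`; the exponent is computed on `dz` through Laurent expansions over `k` at `p` and
`P`. -/
theorem result (k : Type u) (K : Type v) [Field k] [Field K] [Algebra k K] [Algebra (RatFunc k) K] [IsScalarTower k (RatFunc k) K]
    (hK : FunFld.IsFunctionField k K) (hdeg : Module.finrank (RatFunc k) K = 2) [PerfectField k] (h2 : ringChar k = 2)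
    [Algebra.IsSeparable (RatFunc k) K]
    (y : K) (hy : y ∉ Set.range (algebraMap (RatFunc k) K)) (f : RatFunc k)
    (heq : y ^ 2 + y = algebraMap (RatFunc k) K f)
    (p : FunFld.Place k (RatFunc k)) (hp : 1 < p.1 f) (hodd : Odd (p.ord f))
    (P : FunFld.Place k K) (e : ℕ) (he : FunFld.IsOverWith P p e)
    (F F' : Type w) [Field F] [Algebra k F] [Field F'] [Algebra k F']
    (φ : RatFunc k →ₐ[k] LaurentSeries F) (hφ : LocRes.IsExpansionAt p.1 φ)
    (ψ : K →ₐ[k] LaurentSeries F') (hψ : LocRes.IsExpansionAt P.1 ψ)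
    (z : RatFunc k) (hz : LocRes.vDiff φ 1 z ≠ 0) (hz' : LocRes.vDiff ψ 1 (algebraMap (RatFunc k) K z) ≠ 0) :
    LocRes.diffExp φ ψ e z = 1 - p.ord f := by
  classical
  have hK₀ : FunFld.IsFunctionField k (RatFunc k) := isFunctionField_ratFunc
  have hg₀ : FunFld.IsGeometric k (RatFunc k) := Groth.Agent.S11000.result k (RatFunc k) hK₀
  haveI : FiniteDimensional (RatFunc k) K :=
    Module.finite_of_finrank_pos (by rw [hdeg]; norm_num)
  have hfr : Module.finrank (RatFunc k) (Ω[RatFunc k⁄k]) = 1 := finrank_kaehler_eq_one hK₀ hg₀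
  have hDφ : LocRes.D F (φ z) ≠ 0 := (vDiff_one_ne_zero_iff φ z).1 hz
  have hDψ : LocRes.D F' (ψ (algebraMap (RatFunc k) K z)) ≠ 0 :=
    (vDiff_one_ne_zero_iff ψ _).1 hz'
  haveI hchk : CharP k 2 := by
    have := ringChar.charP k
    rwa [h2] at this
  haveI hchR : CharP (RatFunc k) 2 :=
    charP_of_injective_algebraMap (algebraMap k (RatFunc k)).injective 2
  haveI hchK : CharP K 2 := charP_of_injective_algebraMap (algebraMap k K).injective 2
  have hf0 : f ≠ 0 := by
    rintro rfl
    rw [map_zero] at hp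
    exact not_lt_of_ge zero_le' hp
  have hpf0 : p.1 f ≠ 0 := (Valuation.ne_zero_iff _).2 hf0
  have hordneg : p.ord f < 0 := by
    rw [ord_def]
    change - WithZero.log (p.1 f) < 0
    have hp' : WithZero.exp (0 : ℤ) < p.1 f := by rw [WithZero.exp_zero]; exact hp
    rw [← WithZero.exp_log hpf0, WithZero.exp_lt_exp] at hp'
    omega
  obtain ⟨-, h519⟩ := (Groth.Agent.S12519.result k K h2 hdeg y hy f heq p).1 ⟨hordneg, hodd⟩
  obtain ⟨he2, -⟩ := h519 P ⟨e, he⟩
  have hee : e = 2 := isOverWith_e_unique he he2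
  obtain ⟨d, hd⟩ : ∃ d : ℕ, p.ord f = 1 - 2 * (d : ℤ) := by
    obtain ⟨j, hj⟩ := hodd
    refine ⟨(-j).toNat, ?_⟩
    have : 0 ≤ -j := by omega
    rw [Int.toNat_of_nonneg this]
    omega
  have hpf : p.1 f = WithZero.exp (2 * (d : ℤ) - 1) := by
    have := v_eq_exp_neg_ord p hf0
    change p.1 f = _ at this
    rw [this, hd]
    congr 1
    ring
  obtain ⟨π, hπ⟩ := exists_uniformizer p
  change p.1 π = _ at hπ
  -- the valuation of `y`
  have hPf : P.1 (algebraMap (RatFunc k) K f) = WithZero.exp (2 * (2 * (d : ℤ) - 1)) := by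
    rw [he f, hee, hpf, ← WithZero.exp_nsmul]
    congr 1
  have hPy : P.1 y = WithZero.exp (2 * (d : ℤ) - 1) := by
    have h1 : 1 < P.1 y := by
      by_contra hle
      push Not at hle
      have h3 : P.1 (y ^ 2 + y) ≤ 1 := by
        refine (Valuation.map_add _ _ _).trans (max_le ?_ hle)
        rw [map_pow]
        exact pow_le_one' hle 2
      rw [heq, hPf, ← WithZero.exp_zero, WithZero.exp_le_exp] at h3
      omega
    have h2' : P.1 y < P.1 (y ^ 2) := by
      rw [map_pow, pow_two]
      calc P.1 y = P.1 y * 1 := (mul_one _).symm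
        _ < P.1 y * P.1 y := by
          apply mul_lt_mul_of_pos_left h1
          exact lt_trans zero_lt_one h1
    have h3 : P.1 (y ^ 2 + y) = P.1 (y ^ 2) := Valuation.map_add_eq_of_lt_left _ h2'
    rw [heq, hPf, map_pow] at h3
    have hy0 : P.1 y ≠ 0 := ne_of_gt (lt_trans zero_lt_one h1)
    rw [← WithZero.exp_log hy0, ← WithZero.exp_nsmul, WithZero.exp_inj] at h3
    rw [← WithZero.exp_log hy0]
    congr 1
    simp at h3
    omega
  set s : K := algebraMap (RatFunc k) K (π ^ d) * y with hsdef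
  have hPπ : P.1 (algebraMap (RatFunc k) K (π ^ d)) = WithZero.exp (-(2 * (d : ℤ))) := by
    rw [he, hee, map_pow, hπ, ← pow_mul, ← WithZero.exp_nsmul, nsmul_eq_mul]
    congr 1
    push_cast
    ring
  have hs : P.1 s = WithZero.exp (-1) := by
    rw [hsdef, map_mul, hPπ, hPy, ← WithZero.exp_add]
    congr 1
    ring
  obtain ⟨hdegQ, huniq⟩ := deg_eq_of_totally_ramified hK₀ he (hee.trans hdeg.symm)
  have hmain := (ord_aeval_derivative_minpoly hK₀ he hφ hψ hfr hdegQ hDφ hDψ hs
    (fun Q' hov hne => absurd (huniq Q' hov) hne)).2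
  rw [← hmain]
  have hπ0 : π ≠ 0 := by
    rintro rfl
    rw [map_zero] at hπ
    exact WithZero.exp_ne_zero hπ.symm
  have hsnot : s ∉ Set.range (algebraMap (RatFunc k) K) := by
    rintro ⟨a, ha⟩
    apply hy
    refine ⟨a / π ^ d, ?_⟩
    rw [map_div₀, ha, hsdef, mul_comm, mul_div_assoc, div_self, mul_one]
    exact (map_ne_zero _).2 (pow_ne_zero _ hπ0)
  obtain ⟨b, c, hmin, hrel⟩ := (Groth.Agent.S12517.quad_facts (RatFunc k) K hdeg).2.2 s hsnot
  have hrel2 : s ^ 2 + algebraMap (RatFunc k) K (π ^ d) * s +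
      algebraMap (RatFunc k) K (π ^ (2 * d) * f) = 0 := by
    have h2K : (2 : K) = 0 := CharP.cast_eq_zero K 2
    have : s ^ 2 + algebraMap (RatFunc k) K (π ^ d) * s =
        algebraMap (RatFunc k) K (π ^ (2 * d) * f) := by
      rw [hsdef, map_mul, ← heq]
      simp only [map_pow]
      ring
    rw [this, ← two_mul, h2K, zero_mul]
  have hb : b = π ^ d := by
    by_contra hne
    apply hsnot
    have hsub : algebraMap (RatFunc k) K (b - π ^ d) * s +
        algebraMap (RatFunc k) K (c - π ^ (2 * d) * f) = 0 := by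
      have := congrArg₂ (· - ·) hrel hrel2
      simp only [sub_zero] at this
      rw [map_sub, map_sub]
      linear_combination this
    refine ⟨-(c - π ^ (2 * d) * f) / (b - π ^ d), ?_⟩
    have hne' : algebraMap (RatFunc k) K (b - π ^ d) ≠ 0 :=
      (map_ne_zero _).2 (sub_ne_zero.2 hne)
    rw [map_div₀, map_neg, div_eq_iff hne']
    linear_combination (-1 : K) * hsub
  rw [hmin, hb]
  have hder : Polynomial.derivative (Polynomial.X ^ 2 + Polynomial.C (π ^ d) * Polynomial.X +
      Polynomial.C c : Polynomial (RatFunc k)) = Polynomial.C (π ^ d) := by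
    have h2R : (2 : Polynomial (RatFunc k)) = 0 := by
      have : ((2 : ℕ) : Polynomial (RatFunc k)) = 0 := CharP.cast_eq_zero _ 2
      exact_mod_cast this
    simp only [Polynomial.derivative_add, Polynomial.derivative_X_pow, Polynomial.derivative_mul,
      Polynomial.derivative_C, Polynomial.derivative_X, zero_mul, zero_add, mul_one, add_zero]
    have h2R' : (2 : RatFunc k) = 0 := by
      have : ((2 : ℕ) : RatFunc k) = 0 := CharP.cast_eq_zero _ 2
      exact_mod_cast this
    simp [h2R']
  rw [hder, Polynomial.aeval_C, ord_def]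
  change - WithZero.log (P.1 _) = _
  rw [hPπ, WithZero.log_exp, hd]
  ring

end Groth.Agent.S12588
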