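import Groth.Statements.S12589
import Mathlib
import Groth.Agent.Lib.Helper2.FunFld.CEG3

set_option autoImplicit false
universe u v
open FunFld

namespace Groth.Agent.S12589

/-- If a place `P` of a geometric function field of one variable `K/k` is nonsingular with respect to
the finite extension `k'/k` (the integral closure of `O_P` in `K' = k' ⊗_k K` is `O_P[k']`) and `Q`
is a place of `K'` above `P`, then `F_Q = k' F_P`. -/
theorem result (k k' : Type u) (K K' : Type v) [Field k] [Field k'] [Field K] [Field K']
    [Algebra k k'] [FiniteDimensional k k'] [Algebra k K] [Algebra K K'] [Algebra k' K'] [Algebra k K']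
    [IsScalarTower k k' K'] [IsScalarTower k K K']
    (h : Function.Bijective (Algebra.TensorProduct.productMap
      (IsScalarTower.toAlgHom k k' K') (IsScalarTower.toAlgHom k K K')))
    (hK : FunFld.IsFunctionField k K) (hg : FunFld.IsGeometric k K)
    (P : FunFld.Place k K) [Algebra P.O K'] [IsScalarTower P.O K K']
    (hns : (integralClosure P.O K').toSubring = (Algebra.adjoin P.O (Set.range (algebraMap k' K'))).toSubring)
    (Q : FunFld.Place k K') [P.1.HasExtension Q.1] (hk' : ∀ c : k', Q.1 (algebraMap k' K' c) ≤ 1) :
    Algebra.adjoin (IsLocalRing.ResidueField P.O)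
      (Set.range fun c : k' => IsLocalRing.residue Q.O ⟨algebraMap k' K' c, hk' c⟩) = ⊤ := by
  classical
  haveI := Groth.Agent.Lib.Helper2.FF.finiteDimensional_cExt (K := K) (K' := K') h
  obtain ⟨e, he⟩ := Groth.Agent.Lib.Helper2.FF.isOver_of_hasExtension hK P Q
  rw [eq_top_iff]
  intro y _
  set A := Algebra.adjoin (IsLocalRing.ResidueField P.O)
      (Set.range fun c : k' => IsLocalRing.residue Q.O ⟨algebraMap k' K' c, hk' c⟩) with hA
  change y ∈ A.toSubring
  refine Groth.Agent.Lib.Helper2.FF.residue_mem_of_gens_ns hK P hns he hk' A.toSubring ?_ ?_ y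
  · intro a
    have : IsLocalRing.residue Q.O (Groth.Agent.Lib.Helper2.FF.oMap' he a) =
        algebraMap (IsLocalRing.ResidueField P.O) (IsLocalRing.ResidueField Q.O)
          (IsLocalRing.residue P.O a) := by
      rw [Valuation.HasExtension.algebraMap_residue_eq_residue_algebraMap]
      rfl
    rw [this]
    exact A.algebraMap_mem _
  · intro c
    exact Algebra.subset_adjoin ⟨c, rfl⟩

end Groth.Agent.S12589
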