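import Groth.Statements.S12592
import Mathlib
import Groth.Agent.Lib.Helper2.FunFld.SP2e
import Groth.Agent.Lib.Helper2.FunFld.Conorm

set_option autoImplicit false
universe u v
open FunFld

namespace Groth.Agent.S12592
open Groth.Agent.Lib.Helper2.FF Groth.Agent.Lib.Helper2.SP

/-- For a nonsingular place `P` of a geometric function field of one variable `K/k` and a finite
extension `k'/k` that is a splitting field for `P`, the scalar extension `k' ⊗_k K` has exactly
`[F_P^{sep} : k]` places above `P`, each with ramification index `[F_P : F_P^{sep}]`. (Part (2), on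
the scalar extension to an algebraic closure, is not stated.) -/
theorem result (k k' : Type u) (K K' : Type v) [Field k] [Field k'] [Field K] [Field K']
    [Algebra k k'] [FiniteDimensional k k'] [Algebra k K] [Algebra K K'] [Algebra k' K'] [Algebra k K']
    [IsScalarTower k k' K'] [IsScalarTower k K K']
    (h : Function.Bijective (Algebra.TensorProduct.productMap
      (IsScalarTower.toAlgHom k k' K') (IsScalarTower.toAlgHom k K K')))
    (hK : FunFld.IsFunctionField k K) (hg : FunFld.IsGeometric k K) (P : FunFld.Place k K)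
    (hns : ∀ (k'' : Type u) [Field k''] [Algebra k k''] [FiniteDimensional k k'']
      (K'' : Type v) [Field K''] [Algebra K K''] [Algebra k'' K''] [Algebra k K'']
      [IsScalarTower k k'' K''] [IsScalarTower k K K''],
      Function.Bijective (Algebra.TensorProduct.productMap
        (IsScalarTower.toAlgHom k k'' K'') (IsScalarTower.toAlgHom k K K'')) →
      integralClosure (P.O.toSubring.map (algebraMap K K'')) K'' =
        Algebra.adjoin (P.O.toSubring.map (algebraMap K K'')) (Set.range (algebraMap k'' K'')))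
    (hsplit : ∀ Q : FunFld.Place k' K', (∃ e : ℕ, ∀ z : K, Q.1 (algebraMap K K' z) = P.1 z ^ e) → Q.deg = 1) :
    {Q : FunFld.Place k' K' | ∃ e : ℕ, ∀ z : K, Q.1 (algebraMap K K' z) = P.1 z ^ e}.Finite ∧
    {Q : FunFld.Place k' K' | ∃ e : ℕ, ∀ z : K, Q.1 (algebraMap K K' z) = P.1 z ^ e}.ncard =
      Field.finSepDegree k (IsLocalRing.ResidueField P.O) ∧
    ∀ Q : FunFld.Place k' K', (∃ e : ℕ, ∀ z : K, Q.1 (algebraMap K K' z) = P.1 z ^ e) →
      ∀ z : K, Q.1 (algebraMap K K' z) = P.1 z ^ Module.finrank (separableClosure k (IsLocalRing.ResidueField P.O)) (IsLocalRing.ResidueField P.O) := by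
  classical
  haveI := finiteDimensional_cExt (K := K) (K' := K') h
  have hnsv := (ns_iff hK (isConstBasis_cBasis (Module.finBasis k k') h) P).1 (hns k' K' h)
  have hdeg : ∀ Q : FunFld.Place k K', IsOver Q P → (upPlace (k' := k') Q).deg = 1 :=
    fun Q hQ => hsplit (upPlace (k' := k') Q) hQ
  obtain ⟨hcard, hram⟩ := card_and_ramIdx h hK P hnsv hdeg
  have hfin : {Q : FunFld.Place k' K' |
      ∃ e : ℕ, ∀ z : K, Q.1 (algebraMap K K' z) = P.1 z ^ e}.Finite :=
    Set.Finite.subset ((finite_isOver (K' := K') hK P).image (upPlace (k' := k')))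
      (fun Q hQ => ⟨downPlace (k := k) Q, hQ, upPlace_downPlace Q⟩)
  refine ⟨hfin, ?_, ?_⟩
  · rw [← hcard]
    have e : OverP K' P ≃ {Q : FunFld.Place k' K' |
        ∃ e : ℕ, ∀ z : K, Q.1 (algebraMap K K' z) = P.1 z ^ e} :=
      Equiv.subtypeEquiv (placeEquiv (k := k) (k' := k') (K' := K')) (fun Q => Iff.rfl)
    exact (Nat.card_congr e).symm
  · rintro Q ⟨e, he⟩ z
    have h1 := hram (downPlace (k := k) Q) e he
    have h2 : Module.finrank (separableClosure k (IsLocalRing.ResidueField P.O))
        (IsLocalRing.ResidueField P.O) = e := h1.symm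
    rw [h2]
    exact he z

end Groth.Agent.S12592
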