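import Groth.Statements.S12607
import Mathlib
import Groth.Agent.Lib.Helper26.HasseLocal3
import Groth.Agent.Lib.Helper2.FunFld.OrdIndep

set_option autoImplicit false
open FunFld

namespace Groth.Agent.S12607

open scoped WithZero IntermediateField PowerSeries
open Groth.Agent.Lib.Helper2.FF
open Groth.Agent.Lib.Helper26.FunFldAlgClosed
open Groth.Agent.Lib.Helper26.HasseLocal
open Groth.Agent.Lib.Helper26.HasseLocal2
open Groth.Agent.Lib.Helper26.HasseLocal3

/-- Over an algebraically closed constant field, let `φ = (φ₀, …, φₙ)` be an effective projective map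
normalized at the place `P`, `t` a local parameter at `P` and `j'₁ < ⋯ < j'ₙ` the orders of `φ` at
`P`, `j'₀ = 0`. Then the span of `φ` has a basis `φ'₀, …, φ'ₙ` with `φ'ₗ = t^(j'ₗ) · (1 + higher
order terms)` at `P`; in particular `j` is one of the `j'ₗ` exactly when some function in the span
of `φ` has order `j` at `P`. -/
theorem result
    (k K : Type*) [Field k] [IsAlgClosed k] [Field K] [Algebra k K]
    (hK : FunFld.IsFunctionField k K) (P : FunFld.Place k K) {n : ℕ} (φ : Fin (n + 1) → K) (hφ : LinearIndependent k φ)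
    (heff : (1 : K) ∈ Submodule.span k (Set.range φ)) (hnorm : ∀ i, P.1 (φ i) ≤ 1)
    (t : K) (ht : P.1 t = WithZero.exp (-1))
    (Ht : K →ₐ[k] PowerSeries K) (hHt : LocRes.IsHasseFamily t Ht)
    (J' : Fin n → ℕ) (hJ' : FunFld.IsOrders (IsLocalRing.ResidueField P.O) (FunFld.hcolAt P Ht φ) J') :
    (∃ φ' : Fin (n + 1) → K,
      Submodule.span k (Set.range φ') = Submodule.span k (Set.range φ) ∧
      P.1 (φ' 0) = 1 ∧ FunFld.evalP P (φ' 0) = 1 ∧
      ∀ l : Fin n, P.1 (φ' l.succ) = WithZero.exp (-(J' l : ℤ)) ∧
        FunFld.evalP P (φ' l.succ / t ^ J' l) = 1) ∧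
    ∀ j : ℕ, (j = 0 ∨ j ∈ Set.range J') ↔
      ∃ f ∈ Submodule.span k (Set.range φ), P.1 f = WithZero.exp (-(j : ℤ)) := by
  classical
  have ht' : v P t = WithZero.exp (-1 : ℤ) := ht
  have hnorm' : ∀ i, v P (φ i) ≤ 1 := hnorm
  have ht0 : t ≠ 0 := by
    intro h; rw [h, map_zero] at ht'; exact WithZero.exp_ne_zero ht'.symm
  have hPdeg : P.deg = 1 := deg_eq_one hK P
  have hjump := isJump_hcolAt_succ_iff hK P t ht' Ht hHt φ hnorm'
  obtain ⟨hmono, hJ⟩ := hJ'
  -- second part
  have hsecond : ∀ j : ℕ, (j = 0 ∨ j ∈ Set.range J') ↔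
      ∃ f ∈ Submodule.span k (Set.range φ), P.1 f = WithZero.exp (-(j : ℤ)) := by
    intro j
    constructor
    · rintro (rfl | hj)
      · exact ⟨1, heff, by simp⟩
      · obtain ⟨-, f, hfV, hf0, hord⟩ := (hjump j).1 ((hJ j).1 hj)
        refine ⟨f, hfV, ?_⟩
        change v P f = _
        rw [v_eq_exp_neg_ord P hf0, hord]
    · rintro ⟨f, hfV, hvf⟩
      have hf0 : f ≠ 0 := by
        intro h; rw [h, map_zero] at hvf; exact WithZero.exp_ne_zero hvf.symm
      have hord : P.ord f = j := by
        rw [ord_eq_iff P hf0]; exact hvf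
      rcases Nat.eq_zero_or_pos j with h0 | hpos
      · exact Or.inl h0
      · exact Or.inr ((hJ j).2 ((hjump j).2 ⟨hpos, f, hfV, hf0, hord⟩))
  refine ⟨?_, hsecond⟩
  -- orders are positive
  have hJpos : ∀ l, 1 ≤ J' l := by
    intro l
    exact ((hjump (J' l)).1 ((hJ (J' l)).1 ⟨l, rfl⟩)).1
  -- choose functions of the given orders
  have hex : ∀ l : Fin n, ∃ g : K, g ∈ Submodule.span k (Set.range φ) ∧
      v P g = WithZero.exp (-(J' l : ℤ)) ∧ evalP P (g / t ^ J' l) = 1 := by
    intro l
    obtain ⟨f, hfV, hvf⟩ := (hsecond (J' l)).1 (Or.inr ⟨l, rfl⟩)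
    have hvf' : v P f = WithZero.exp (-(J' l : ℤ)) := hvf
    have hu : v P (f / t ^ J' l) = 1 := by
      rw [map_div₀, map_pow, ht', hvf', ← WithZero.exp_nsmul]
      simp only [smul_neg, nsmul_eq_mul, mul_one]
      exact div_self WithZero.exp_ne_zero
    obtain ⟨a, ha⟩ := exists_sub_lt_one P hPdeg hu.le
    have ha0 : a ≠ 0 := by
      rintro rfl
      rw [map_zero, sub_zero, hu] at ha
      exact lt_irrefl _ ha
    refine ⟨a⁻¹ • f, Submodule.smul_mem _ _ hfV, ?_, ?_⟩
    · rw [v_smul P _ _ (inv_ne_zero ha0), hvf']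
    · apply evalP_eq_one_of_sub_lt
      have e : a⁻¹ • f / t ^ J' l - 1 = a⁻¹ • (f / t ^ J' l - algebraMap k K a) := by
        rw [smul_sub, smul_div_assoc, Algebra.smul_def a⁻¹ (algebraMap k K a), ← map_mul,
          inv_mul_cancel₀ ha0, map_one]
      rw [e]
      exact lt_of_le_of_lt (v_smul_le P _ _) ha
  choose g hgV hvg hevg using hex
  refine ⟨Fin.cases 1 g, ?_, ?_, ?_, ?_⟩
  · -- span
    have hmem : ∀ i, (Fin.cases 1 g : Fin (n + 1) → K) i ∈ Submodule.span k (Set.range φ) := by
      intro i
      refine Fin.cases ?_ (fun l => ?_) i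
      · exact heff
      · exact hgV l
    have hle : Submodule.span k (Set.range (Fin.cases 1 g : Fin (n + 1) → K)) ≤
        Submodule.span k (Set.range φ) := by
      rw [Submodule.span_le]; rintro _ ⟨i, rfl⟩; exact hmem i
    have hne : ∀ i, (Fin.cases 1 g : Fin (n + 1) → K) i ≠ 0 := by
      intro i
      refine Fin.cases ?_ (fun l => ?_) i
      · exact one_ne_zero
      · intro h
        have := hvg l
        simp only [Fin.cases_succ] at h
        rw [h, map_zero] at this
        exact WithZero.exp_ne_zero this.symm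
    have hordg : ∀ l, P.ord (g l) = J' l := by
      intro l
      have h0 : g l ≠ 0 := by
        intro h; have := hvg l; rw [h, map_zero] at this; exact WithZero.exp_ne_zero this.symm
      rw [ord_eq_iff P h0]; exact hvg l
    have hinj : Function.Injective
        (fun i => P.ord ((Fin.cases 1 g : Fin (n + 1) → K) i)) := by
      intro i i' hii'
      simp only at hii'
      induction i using Fin.cases with
      | zero =>
        induction i' using Fin.cases with
        | zero => rfl
        | succ l' =>
          simp only [Fin.cases_zero, Fin.cases_succ, ord_one, hordg] at hii'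
          have := hJpos l'; omega
      | succ l =>
        induction i' using Fin.cases with
        | zero =>
          simp only [Fin.cases_zero, Fin.cases_succ, ord_one, hordg] at hii'
          have := hJpos l; omega
        | succ l' =>
          simp only [Fin.cases_succ, hordg] at hii'
          have : J' l = J' l' := by exact_mod_cast hii'
          rw [hmono.injective this]
    have hli := linearIndependent_of_ord_injective P _ hne hinj
    have hfinV : FiniteDimensional k (Submodule.span k (Set.range φ)) :=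
      FiniteDimensional.span_of_finite k (Set.finite_range φ)
    apply Submodule.eq_of_le_of_finrank_eq hle
    rw [finrank_span_eq_card hli, finrank_span_eq_card hφ]
  · simp
  · simp only [Fin.cases_zero]
    apply evalP_eq_one_of_sub_lt
    rw [sub_self, map_zero]; exact zero_lt_one
  · intro l
    simp only [Fin.cases_succ]
    exact ⟨hvg l, hevg l⟩

end Groth.Agent.S12607
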