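import Groth.Statements.S12608
import Mathlib
import Groth.Agent.Lib.Helper26.HasseLocal7
import Groth.Agent.S12605
import Groth.Agent.S12601

set_option autoImplicit false
open FunFld

namespace Groth.Agent.S12608

open scoped WithZero IntermediateField PowerSeries LaurentSeries
open Groth.Agent.Lib.Helper2.FF
open Groth.Agent.Lib.Helper26.FunFldAlgClosed
open Groth.Agent.Lib.Helper26.LocRing
open Groth.Agent.Lib.Helper26.HasseLocal
open Groth.Agent.Lib.Helper26.HasseLocal2
open Groth.Agent.Lib.Helper26.HasseLocal3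
open Groth.Agent.Lib.Helper26.HasseLocal4
open Groth.Agent.Lib.Helper26.HasseLocal5
open Groth.Agent.Lib.Helper26.HasseLocal6
open Groth.Agent.Lib.Helper26.HasseLocal7
open Groth.Agent.Lib.Helper3.Jumps

/-- Over an algebraically closed constant field, let `φ = (φ₀, …, φₙ)` be an effective projective map
normalized at the place `P`, `t` a local parameter at `P`, `j₁, …, jₙ` the orders of `φ` and `j'₁,
…, j'ₙ` the orders of `φ` at `P`. Then `jₗ ≤ j'ₗ` for all `l`, and the following are equivalent: all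
`j'ₗ = jₗ`; the Wronskian `w_t(φ)` does not vanish at `P`; the Weierstrass divisor `W(φ)` has
coefficient `0` at `P` (the divisor of `dt` in it read through a family of Laurent expansions). -/
theorem result
    (k K : Type*) [Field k] [IsAlgClosed k] [Field K] [Algebra k K]
    (hK : FunFld.IsFunctionField k K) (P : FunFld.Place k K) {n : ℕ} (φ : Fin (n + 1) → K) (hφ : LinearIndependent k φ)
    (heff : (1 : K) ∈ Submodule.span k (Set.range φ)) (hnorm : ∀ i, P.1 (φ i) ≤ 1)
    (t : K) (ht : P.1 t = WithZero.exp (-1))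
    (Ht : K →ₐ[k] PowerSeries K) (hHt : LocRes.IsHasseFamily t Ht)
    (J : Fin n → ℕ) (hJ : FunFld.IsOrders K (FunFld.hcol (AlgHom.id k K) Ht φ) J)
    (J' : Fin n → ℕ) (hJ' : FunFld.IsOrders (IsLocalRing.ResidueField P.O) (FunFld.hcolAt P Ht φ) J')
    (Φ : FunFld.Place k K → (K →ₐ[k] LaurentSeries k))
    (hΦ : ∀ P : FunFld.Place k K, LocRes.IsExpansionAt P.1 (Φ P)) :
    (∀ l, J l ≤ J' l) ∧
    ((∀ l, J' l = J l) ↔ FunFld.evalP P (FunFld.wrMat (AlgHom.id k K) Ht φ J).det ≠ 0) ∧
    ((∀ l, J' l = J l) ↔ FunFld.wDiv (AlgHom.id k K) Ht Φ t φ J P = 0) := by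
  classical
  have ht' : v P t = WithZero.exp (-1 : ℤ) := ht
  have hnorm' : ∀ i, v P (φ i) ≤ 1 := hnorm
  have hP : IsFixedPt (AlgHom.id k K) P := fun z hz => hz
  have hJpos := one_le_of_isOrders hK P t ht' Ht hHt φ hnorm' J' hJ'
  -- the Wronskian at the orders at `P` is a unit at `P`
  have hbin : (binomMat k J' J').det = 1 := by
    rw [Matrix.det_of_isLowerTriangular]
    · apply Finset.prod_eq_one
      intro i _
      simp only [binomMat, Matrix.of_apply, Nat.choose_self, Nat.cast_one]
    · intro i j hij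
      have hij' : i < j := hij
      simp only [binomMat, Matrix.of_apply]
      rw [Nat.choose_eq_zero_of_lt (hJ'.1 hij'), Nat.cast_zero]
  obtain ⟨-, h5b'⟩ :=
    Groth.Agent.S12605.result k K hK (AlgHom.id k K) P hP φ hφ heff hnorm t ht Ht hHt J' hJ' J' hJ'.1
  have hv' : P.1 (wrMat (AlgHom.id k K) Ht φ J').det = 1 := by
    have := (h5b' (Or.inl (fun l => hJpos l))).2 (by rw [hbin]; exact one_ne_zero)
    rw [this]
    simp
  have hdet' : (wrMat (AlgHom.id k K) Ht φ J').det ≠ 0 := by
    intro h0; rw [h0, map_zero] at hv'; exact zero_ne_one hv'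
  have hle : ∀ l, J l ≤ J' l :=
    Groth.Agent.S12601.result k K hK φ hφ (AlgHom.id k K) t Ht hHt J hJ J' hJ'.1 hdet'
  obtain ⟨h5a, -⟩ :=
    Groth.Agent.S12605.result k K hK (AlgHom.id k K) P hP φ hφ heff hnorm t ht Ht hHt J' hJ' J hJ.1
  have hdet := det_wrMat_ne_zero_of_isOrders (AlgHom.id k K) Ht φ ⟨0, hφ.ne_zero 0⟩ J hJ
  have hv : P.1 (wrMat (AlgHom.id k K) Ht φ J).det =
      WithZero.exp (-P.ord (wrMat (AlgHom.id k K) Ht φ J).det) := v_eq_exp_neg_ord P hdet
  -- the key equivalence
  have hkey : (∀ l, J' l = J l) ↔ P.ord (wrMat (AlgHom.id k K) Ht φ J).det = 0 := by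
    constructor
    · intro h
      have hJJ : J' = J := funext h
      rw [hJJ] at hv'
      rw [hv'] at hv
      have := WithZero.exp_injective (hv.symm.trans WithZero.exp_zero.symm)
      omega
    · intro h0 l
      rw [hv, h0, neg_zero, WithZero.exp_le_exp] at h5a
      have hsum : ∑ l, ((J' l : ℤ) - J l) ≤ 0 := by linarith
      have hnn : ∀ l ∈ Finset.univ, (0 : ℤ) ≤ (J' l : ℤ) - J l := by
        intro l _
        have := hle l
        have : (J l : ℤ) ≤ J' l := by exact_mod_cast this
        linarith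
      have hz := (Finset.sum_eq_zero_iff_of_nonneg hnn).1
        (le_antisymm hsum (Finset.sum_nonneg hnn)) l (Finset.mem_univ l)
      omega
  refine ⟨hle, ?_, ?_⟩
  · rw [hkey]
    constructor
    · intro h0
      apply evalP_ne_zero_of_eq_one
      change P.1 _ = 1
      rw [hv, h0, neg_zero, WithZero.exp_zero]
    · intro hne
      by_contra h0
      apply hne
      have hord : P.ord (wrMat (AlgHom.id k K) Ht φ J).det < 0 ∨
          0 < P.ord (wrMat (AlgHom.id k K) Ht φ J).det := by omega
      rcases hord with h | h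
      · unfold evalP
        rw [dif_neg]
        rw [hv, ← WithZero.exp_zero, WithZero.exp_le_exp]
        omega
      · apply evalP_eq_zero_of_lt
        change P.1 _ < 1
        rw [hv, ← WithZero.exp_zero, WithZero.exp_lt_exp]
        omega
  · rw [wDiv_apply_fixedPt hK (AlgHom.id k K) P hP φ heff hnorm' t ht' Ht Φ hΦ J]
    exact hkey

end Groth.Agent.S12608
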