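import Groth.Statements.S12610
import Mathlib
import Groth.Agent.Lib.Helper26.WGlobal2

set_option autoImplicit false
open FunFld

namespace Groth.Agent.S12610

open scoped WithZero IntermediateField PowerSeries LaurentSeries
open Groth.Agent.Lib.Helper2.FF
open Groth.Agent.Lib.Helper26.HasseLocal
open Groth.Agent.Lib.Helper26.HasseLocal4
open Groth.Agent.Lib.Helper26.HasseLocal7
open Groth.Agent.Lib.Helper26.HasseChange
open Groth.Agent.Lib.Helper26.DiffDiv
open Groth.Agent.Lib.Helper26.WGlobal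
open Groth.Agent.Lib.Helper26.WGlobal2
open Groth.Agent.Lib.Helper3.Jumps

/-- Over an algebraically closed constant field, for a birational projective map `φ`, a `k`-endomorphism
`τ ≠ 1` and a place `P` fixed by `τ`, the place `P` is a Weierstrass point of `φ` with respect to
`τ`: the Weierstrass divisor `W(φ, τ) = [w_s(φ, τ)] + [τ(φ)] + n[φ] + j(φ, τ)[ds]` has positive
coefficient at `P` (the divisor of `ds` read through a family of Laurent expansions). -/
theorem result
    (k K : Type*) [Field k] [IsAlgClosed k] [Field K] [Algebra k K]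
    (hK : FunFld.IsFunctionField k K) {n : ℕ} (φ : Fin (n + 1) → K) (hφ : LinearIndependent k φ)
    (h0 : φ 0 ≠ 0) (hbir : IntermediateField.adjoin k (Set.range fun i => φ i / φ 0) = ⊤)
    (τ : K →ₐ[k] K) (hτ : τ ≠ AlgHom.id k K) (P : FunFld.Place k K) (hP : FunFld.IsFixedPt τ P)
    (s : K) (H : K →ₐ[k] PowerSeries K) (hH : LocRes.IsHasseFamily s H)
    (J : Fin n → ℕ) (hJ : FunFld.IsOrders K (FunFld.hcol τ H φ) J)
    (Φ : FunFld.Place k K → (K →ₐ[k] LaurentSeries k))
    (hΦ : ∀ P : FunFld.Place k K, LocRes.IsExpansionAt P.1 (Φ P)) :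
    0 < FunFld.wDiv τ H Φ s φ J P := by
  classical
  -- `n ≥ 1`
  have hn : 0 < n := by
    by_contra hn0
    have hn0' : n = 0 := by omega
    subst hn0'
    have hrange : (Set.range fun i : Fin 1 => φ i / φ 0) = {1} := by
      ext x
      simp only [Set.mem_range, Set.mem_singleton_iff]
      constructor
      · rintro ⟨i, rfl⟩
        have : i = 0 := Subsingleton.elim _ _
        rw [this, div_self h0]
      · rintro rfl
        exact ⟨0, div_self h0⟩
    rw [hrange] at hbir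
    have hbot : IntermediateField.adjoin k ({1} : Set K) = ⊥ := by
      rw [IntermediateField.adjoin_simple_eq_bot_iff]
      exact one_mem _
    rw [hbot] at hbir
    obtain ⟨⟨x, hx, -⟩, -⟩ := hK
    have : x ∈ (⊥ : IntermediateField k K) := by rw [hbir]; trivial
    rw [IntermediateField.mem_bot] at this
    obtain ⟨c, rfl⟩ := this
    exact hx (isAlgebraic_algebraMap c)
  -- `0` is a `τ`-order
  have hJ0 : J ⟨0, hn⟩ = 0 := by
    obtain ⟨J₀, hJ₀, -⟩ := Groth.Agent.S12600.result k K hK φ hφ (AlgHom.id k K) s H hH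
    obtain ⟨m, hm⟩ := Groth.Agent.S12602.result k K hK hn φ hφ h0 hbir τ hτ s H hH J₀ hJ₀
    have h1 : IsJump K (hcol τ H φ) (0 + 1) := (hm 0).2 (Or.inl rfl)
    obtain ⟨l, hl⟩ := (hJ.2 0).2 h1
    have h2 : J ⟨0, hn⟩ ≤ J l := hJ.1.monotone (Fin.mk_le_of_le_val (Nat.zero_le _))
    omega
  obtain ⟨t, Ht, y, φ', ht, hHt, hy, hφ'y, hφ'li, heff, hnorm, hJ'', hW⟩ :=
    exists_local_form hK φ hφ τ s H hH J hJ Φ hΦ P
  obtain ⟨i1, hi1⟩ := exists_v_eq_one_of_eff P φ' heff hnorm
  obtain ⟨J', hJ'⟩ := exists_isOrders_hcolAt hK P t ht Ht hHt φ' hφ'li hnorm ⟨i1, hi1⟩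
  have h15 := (Groth.Agent.S12615.result k K hK τ P hP φ' hφ'li heff hnorm t ht Ht hHt J hJ''
    J' hJ' Φ hΦ).1
  have hle := isOrders_le_hcolAt hK τ P hP φ' hφ'li heff hnorm t ht Ht hHt J hJ'' J' hJ'
  have hJpos := one_le_of_isOrders hK P t ht Ht hHt φ' hnorm J' hJ'
  rw [hW]
  refine lt_of_lt_of_le ?_ h15
  have hnn : ∀ l ∈ Finset.univ, (0 : ℤ) ≤ (J' l : ℤ) - J l := by
    intro l _
    have : (J l : ℤ) ≤ J' l := by exact_mod_cast hle l
    linarith
  have h1 : (J' ⟨0, hn⟩ : ℤ) - J ⟨0, hn⟩ ≤ ∑ l, ((J' l : ℤ) - J l) :=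
    Finset.single_le_sum hnn (Finset.mem_univ _)
  have h2 : (1 : ℤ) ≤ J' ⟨0, hn⟩ := by exact_mod_cast hJpos ⟨0, hn⟩
  rw [hJ0] at h1
  push_cast at h1
  linarith

end Groth.Agent.S12610
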