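import Groth.Statements.S12611
import Mathlib
import Groth.Agent.Lib.Helper26.WGlobal5

set_option autoImplicit false
open FunFld

namespace Groth.Agent.S12611

open scoped WithZero IntermediateField PowerSeries LaurentSeries
open Groth.Agent.Lib.Helper2.FF
open Groth.Agent.Lib.Helper26.HasseLocal
open Groth.Agent.Lib.Helper26.HasseLocal3
open Groth.Agent.Lib.Helper26.HasseLocal4
open Groth.Agent.Lib.Helper26.HasseLocal7
open Groth.Agent.Lib.Helper26.HasseChange
open Groth.Agent.Lib.Helper26.DiffDiv
open Groth.Agent.Lib.Helper26.WGlobal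
open Groth.Agent.Lib.Helper26.WGlobal2
open Groth.Agent.Lib.Helper26.WGlobal3
open Groth.Agent.Lib.Helper26.WGlobal4
open Groth.Agent.Lib.Helper26.WGlobal5
open Groth.Agent.Lib.Helper3.Jumps

/-- Over an algebraically closed constant field of characteristic `0` or greater than `deg φ`, a
birational projective map `φ = (φ₀, …, φₙ)` is classical: its orders are `(1, 2, …, n)`, and for a
`k`-endomorphism `τ ≠ 1` its `τ`-orders are `(0, 1, …, n-1)`. (The published statement has no
fixed-point hypothesis for `τ ≠ 1` and is false without one: on a smooth plane cubic in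
characteristic `0`, pulling back along multiplication by `-2` gives `τ`-orders `(0, 2)`. This row
assumes `τ` has a strong fixed point — a place whose maximal ideal `τ` maps into its square — which
is what the proof uses, through the equality criterion for Wronskian orders at such a point.) -/
theorem result
    (k K : Type*) [Field k] [IsAlgClosed k] [Field K] [Algebra k K]
    (hK : FunFld.IsFunctionField k K) {n : ℕ} (φ : Fin (n + 1) → K) (hφ : LinearIndependent k φ)
    (h0 : φ 0 ≠ 0) (hbir : IntermediateField.adjoin k (Set.range fun i => φ i / φ 0) = ⊤)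
    (hchar : ringChar k = 0 ∨ (FunFld.mapDiv k φ).deg < ringChar k)
    (τ : K →ₐ[k] K) (s : K) (H : K →ₐ[k] PowerSeries K) (hH : LocRes.IsHasseFamily s H) :
    (τ = AlgHom.id k K → FunFld.IsOrders K (FunFld.hcol τ H φ) (fun l : Fin n => (l : ℕ) + 1)) ∧
    (τ ≠ AlgHom.id k K → (∃ P : FunFld.Place k K, FunFld.IsStrongFixedPt τ P) →
      FunFld.IsOrders K (FunFld.hcol τ H φ) (fun l : Fin n => (l : ℕ))) := by
  classical
  obtain ⟨N, hNd⟩ : ∃ N : ℕ, N = (mapDiv k φ).deg.toNat := ⟨_, rfl⟩
  have hN : (mapDiv k φ).deg ≤ N := by rw [hNd]; exact Int.self_le_toNat _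
  have hsmall : ∀ a : ℕ, 0 < a → a ≤ N → ((a : ℕ) : k) ≠ 0 := by
    intro a ha haN h0
    rw [ringChar.spec] at h0
    rcases hchar with hc | hc
    · rw [hc, Nat.zero_dvd] at h0
      omega
    · have h1 := Nat.le_of_dvd ha h0
      have h2 : (a : ℤ) ≤ (mapDiv k φ).deg := by
        have : a ≤ (mapDiv k φ).deg.toNat := hNd ▸ haN
        omega
      have h3 : ((ringChar k : ℕ) : ℤ) ≤ a := by exact_mod_cast h1
      omega
  constructor
  · intro hτ
    subst hτ
    obtain ⟨J, hJ, -⟩ := Groth.Agent.S12600.result k K hK φ hφ (AlgHom.id k K) s H hH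
    obtain ⟨⟨x, hx, -⟩, -⟩ := id hK
    obtain ⟨P, -⟩ := exists_place_lt_one hK hx
    have hP : IsFixedPt (AlgHom.id k K) P := fun z hz => hz
    have hI : StrictMono (fun l : Fin n => (l : ℕ) + 1) := by
      intro a b hab
      have : (a : ℕ) < b := hab
      simp only
      omega
    have hle := isOrders_le_of_binom hK φ hφ (AlgHom.id k K) s H hH J hJ P hP
      (fun l : Fin n => (l : ℕ) + 1) hI (Or.inl (fun l => Nat.succ_pos _)) N hN (by
        intro J' hJ'm hJ'pos hJ'N
        exact det_binom_consecutive_succ_ne_zero hsmall J' hJ'm.injective hJ'N hJ'pos)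
    have hJpos : ∀ l, 1 ≤ J l := by
      intro l
      by_contra h0
      have h00 : J l = 0 := by omega
      have hj := (hJ.2 (J l)).1 ⟨l, rfl⟩
      rw [h00] at hj
      apply hj
      apply Submodule.subset_span
      refine ⟨0, by simp, ?_⟩
      funext i
      change (AlgHom.id k K) (φ i) = LocRes.hasseD H 0 (φ i)
      rw [LocRes.hasseD_apply, PowerSeries.coeff_zero_eq_constantCoeff_apply, hH.2]
      rfl
    have hge := fun l => strictMono_add_le J hJ.1 l 1 hJpos
    have hJeq : J = fun l : Fin n => (l : ℕ) + 1 := by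
      funext l
      exact le_antisymm (hle l) (hge l)
    rw [← hJeq]
    exact hJ
  · intro hτ ⟨P, hP⟩
    obtain ⟨J, hJ, -⟩ := Groth.Agent.S12600.result k K hK φ hφ τ s H hH
    have hPf : IsFixedPt τ P := by
      intro z hz
      refine lt_of_le_of_lt (hP z hz) ?_
      rw [← WithZero.exp_zero, WithZero.exp_lt_exp]; norm_num
    have hI : StrictMono (fun l : Fin n => (l : ℕ)) := fun a b hab => hab
    have hle := isOrders_le_of_binom hK φ hφ τ s H hH J hJ P hPf
      (fun l : Fin n => (l : ℕ)) hI (Or.inr hP) N hN (by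
        intro J' hJ'm hJ'pos hJ'N
        exact det_binom_consecutive_ne_zero hsmall J' hJ'm.injective hJ'N)
    have hge := fun l => strictMono_add_le J hJ.1 l 0 (fun _ => Nat.zero_le _)
    have hJeq : J = fun l : Fin n => (l : ℕ) := by
      funext l
      exact le_antisymm (hle l) (by simpa using hge l)
    rw [← hJeq]
    exact hJ

end Groth.Agent.S12611
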