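import Groth.Statements.S12613
import Mathlib
import Groth.Agent.Lib.Helper2.FunFld.AD11
import Groth.Agent.S11070

set_option autoImplicit false
open FunFld

namespace Groth.Agent.S12613

/-- Over an algebraically closed constant field, for a birational plane map `φ = (1 : x : y)` of degree
`e` with irreducible relation `f̂(x, y) = 0`, the adjoint divisor `Δ(φ) = (e - 3)[φ] - [dx/f̂_y]`
has nonnegative coefficient at every place `Q`, and the coefficient is `0` exactly when `φ` is
nonsingular at `Q`. The order of `dx/f̂_y` at `Q` is read through a Laurent expansion at `Q`,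
through which that differential is assumed nonzero. -/
theorem result
    (k K : Type*) [Field k] [IsAlgClosed k] [Field K] [Algebra k K]
    (hK : FunFld.IsFunctionField k K) (x y : K) (hxy : IntermediateField.adjoin k ({x, y} : Set K) = ⊤)
    (f : MvPolynomial (Fin 2) k) (hf : Irreducible f) (hfxy : MvPolynomial.aeval ![x, y] f = 0)
    (Q : FunFld.Place k K) (ΦQ : K →ₐ[k] LaurentSeries k) (hΦQ : LocRes.IsExpansionAt Q.1 ΦQ)
    (hne : LocRes.vDiff ΦQ (MvPolynomial.aeval ![x, y] (MvPolynomial.pderiv 1 f))⁻¹ x ≠ 0) :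
    0 ≤ ((FunFld.mapDiv k ![(1 : K), x, y]).deg - 3) * FunFld.mapDiv k ![(1 : K), x, y] Q -
        LocRes.ordDiff ΦQ (MvPolynomial.aeval ![x, y] (MvPolynomial.pderiv 1 f))⁻¹ x ∧
    (((FunFld.mapDiv k ![(1 : K), x, y]).deg - 3) * FunFld.mapDiv k ![(1 : K), x, y] Q -
        LocRes.ordDiff ΦQ (MvPolynomial.aeval ![x, y] (MvPolynomial.pderiv 1 f))⁻¹ x = 0 ↔
      FunFld.IsNonsingularAt ![(1 : K), x, y] Q) := by
  classical
  haveI : Infinite k := IsAlgClosed.instInfinite
  -- the kernel is generated by `f`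
  obtain ⟨G, hG0, hkerG, -⟩ :=
    Groth.Agent.Lib.Helper26.PlaneModel4.exists_ker_eq_span hK x y hxy
  have hker : RingHom.ker (MvPolynomial.aeval ![x, y] : MvPolynomial (Fin 2) k →ₐ[k] K) =
      Ideal.span {f} := by
    have hfk : f ∈ RingHom.ker (MvPolynomial.aeval ![x, y] : MvPolynomial (Fin 2) k →ₐ[k] K) :=
      hfxy
    rw [hkerG, Ideal.mem_span_singleton] at hfk
    obtain ⟨q, hq⟩ := hfk
    have hGu : ¬ IsUnit G := by
      intro hu
      have h1 : (1 : MvPolynomial (Fin 2) k) ∈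
          RingHom.ker (MvPolynomial.aeval ![x, y] : MvPolynomial (Fin 2) k →ₐ[k] K) := by
        rw [hkerG, Ideal.span_singleton_eq_top.2 hu]; trivial
      rw [RingHom.mem_ker, map_one] at h1
      exact one_ne_zero h1
    have hqu : IsUnit q := (hf.isUnit_or_isUnit hq).resolve_left hGu
    rw [hkerG, hq]
    exact (Ideal.span_singleton_mul_right_unit hqu G).symm
  have hdeg := Groth.Agent.S11070.result k K hK x y hxy f hf hfxy
  -- nonvanishing
  have hne' : LocRes.ordDiff ΦQ (MvPolynomial.aeval ![x, y] (MvPolynomial.pderiv 1 f))⁻¹ x =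
      LocRes.ordDiff ΦQ (MvPolynomial.aeval ![x, y] (MvPolynomial.pderiv 1 f))⁻¹ x := rfl
  unfold LocRes.vDiff at hne
  rw [Ne, Valuation.zero_iff, mul_eq_zero, not_or] at hne
  obtain ⟨h1, hdx⟩ := hne
  have hfy : MvPolynomial.aeval ![x, y] (MvPolynomial.pderiv 1 f) ≠ 0 := by
    intro h0
    rw [h0, inv_zero, map_zero] at h1
    exact h1 rfl
  obtain ⟨hvx, hvy, hnn⟩ := Groth.Agent.Lib.Helper26.PlaneModel.v_le_exp_mapDiv hK x y Q
  rcases hnn.eq_or_lt with h0 | hpos
  · -- finite place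
    rw [← h0, WithZero.exp_zero] at hvx hvy
    rw [← h0, mul_zero, zero_sub]
    have hfin1 := Groth.Agent.Lib.Helper2.AD.adjoint_finite_le hK x y hxy f hker Q hvx hvy ΦQ hΦQ
      hfy hdx
    have hfin2 := Groth.Agent.Lib.Helper2.AD.adjoint_finite_ns hK x y f hker Q hvx hvy ΦQ hΦQ
      hfy hdx
    refine ⟨by have := hfin1.1; omega, ⟨fun h => hfin1.2 (by omega), fun h => ?_⟩⟩
    have := hfin2 h
    omega
  · rw [hdeg]
    exact Groth.Agent.Lib.Helper2.AD.adjoint_infinite hK x y hxy f hker f.totalDegree le_rfl hdeg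
      Q hpos ΦQ hΦQ hfy hdx

end Groth.Agent.S12613
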