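import Groth.Statements.S12617
import Mathlib
import Groth.Agent.Lib.Helper26.HasseLocal3

set_option autoImplicit false
open FunFld

namespace Groth.Agent.S12617

open scoped WithZero IntermediateField PowerSeries
open Groth.Agent.Lib.Helper2.FF
open Groth.Agent.Lib.Helper26.FunFldAlgClosed
open Groth.Agent.Lib.Helper26.LocRing2
open Groth.Agent.Lib.Helper26.HasseLocal
open Groth.Agent.Lib.Helper26.HasseLocal2
open Groth.Agent.Lib.Helper26.HasseLocal3

/-- Over an algebraically closed constant field, if the effective projective map `φ = (φ₀, …, φₙ)`, `n ≥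
1`, normalized at `P`, is nonsingular at `P`, then its first order at `P` is `1`. -/
theorem result
    (k K : Type*) [Field k] [IsAlgClosed k] [Field K] [Algebra k K]
    (hK : FunFld.IsFunctionField k K) (P : FunFld.Place k K) {n : ℕ} (hn : 0 < n) (φ : Fin (n + 1) → K)
    (hφ : LinearIndependent k φ)
    (heff : (1 : K) ∈ Submodule.span k (Set.range φ)) (hnorm : ∀ i, P.1 (φ i) ≤ 1) (hns : FunFld.IsNonsingularAt φ P)
    (t : K) (ht : P.1 t = WithZero.exp (-1))
    (Ht : K →ₐ[k] PowerSeries K) (hHt : LocRes.IsHasseFamily t Ht)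
    (J' : Fin n → ℕ) (hJ' : FunFld.IsOrders (IsLocalRing.ResidueField P.O) (FunFld.hcolAt P Ht φ) J') :
    J' ⟨0, hn⟩ = 1 := by
  classical
  have ht' : v P t = WithZero.exp (-1 : ℤ) := ht
  have hnorm' : ∀ i, v P (φ i) ≤ 1 := hnorm
  have hφ0 : ∀ i, φ i ≠ 0 := fun i => hφ.ne_zero i
  have hjump := isJump_hcolAt_succ_iff hK P t ht' Ht hHt φ hnorm'
  obtain ⟨hmono, hJ⟩ := hJ'
  -- the divisor of the map vanishes at `P`
  have hle : ∀ i, v P (φ i) ≤ WithZero.exp (mapDiv k φ P) := fun i => mem_L_mapDiv hK φ hφ0 i P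
  obtain ⟨i₀, hi₀⟩ := exists_v_eq_mapDiv hK φ hφ0 P
  have hDP : mapDiv k φ P = 0 := by
    have h2 : WithZero.exp (mapDiv k φ P) ≤ 1 := by rw [← hi₀]; exact hnorm' i₀
    have h1 : (1 : ℤᵐ⁰) ≤ WithZero.exp (mapDiv k φ P) := by
      by_contra hlt
      push Not at hlt
      have hall : ∀ f ∈ Submodule.span k (Set.range φ), v P f < 1 := by
        intro f hf
        refine Submodule.span_induction (p := fun f _ => v P f < 1) ?_ ?_ ?_ ?_ hf
        · rintro _ ⟨i, rfl⟩; exact lt_of_le_of_lt (hle i) hlt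
        · rw [map_zero]; exact zero_lt_one
        · intro x y _ _ hx hy; exact Valuation.map_add_lt _ hx hy
        · intro c x _ hx; exact lt_of_le_of_lt (v_smul_le P c x) hx
      have := hall 1 heff
      rw [map_one] at this
      exact lt_irrefl _ this
    have h3 : WithZero.exp (mapDiv k φ P) = WithZero.exp (0 : ℤ) := by
      rw [WithZero.exp_zero]; exact le_antisymm h2 h1
    exact WithZero.exp_injective h3
  obtain ⟨w, hwV, -, hw⟩ := (isNonsingularAt_iff_sep hK φ hφ0 P).1 hns P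
  rw [Finsupp.coe_sub, Pi.sub_apply, hDP, Finsupp.single_eq_same, zero_sub] at hw
  have hw0 : w ≠ 0 := by
    intro h; rw [h, map_zero] at hw; exact WithZero.exp_ne_zero hw.symm
  have hord : P.ord w = ((1 : ℕ) : ℤ) := by
    rw [ord_eq_iff P hw0, hw]; rfl
  obtain ⟨l, hl⟩ := (hJ 1).2 ((hjump 1).2 ⟨le_rfl, w, hwV, hw0, hord⟩)
  have h1 : J' ⟨0, hn⟩ ≤ J' l := hmono.monotone (Fin.mk_le_of_le_val (Nat.zero_le _))
  have h2 : 1 ≤ J' ⟨0, hn⟩ := ((hjump _).1 ((hJ _).1 ⟨⟨0, hn⟩, rfl⟩)).1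
  omega

end Groth.Agent.S12617
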