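import Groth.Statements.S12621
import Mathlib

set_option autoImplicit false
universe u v w
open LocRes

namespace Groth.Agent.S12621

open HahnSeries LaurentSeries

section Aux
universe u1 u2

variable {R : Type u1} [CommRing R] {S : Type u2} [CommRing S]

/-- coefficientwise map of Laurent series as a ring hom -/
noncomputable def mapL (θ : R →+* S) : R⸨X⸩ →+* S⸨X⸩ where
  toFun x := x.map θ
  map_one' := by
    ext i
    simp only [HahnSeries.map_coeff, HahnSeries.coeff_one]
    split_ifs <;> simp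
  map_mul' x y := by
    have := HahnSeries.map_mul (θ : R →ₙ+* S) (x := x) (y := y)
    exact this
  map_zero' := by ext i; simp
  map_add' x y := by ext i; simp

lemma mapL_coeff (θ : R →+* S) (x : R⸨X⸩) (i : ℤ) : (mapL θ x).coeff i = θ (x.coeff i) := rfl

lemma mapL_D (θ : R →+* S) (x : R⸨X⸩) : mapL θ (D R x) = D S (mapL θ x) := by
  ext i
  rw [mapL_coeff, D_coeff, D_coeff, mapL_coeff, map_zsmul]

lemma mapL_res (θ : R →+* S) (x : R⸨X⸩) : res S (mapL θ x) = θ (res R x) := rfl

lemma mapL_single (θ : R →+* S) (v : ℤ) (r : R) : mapL θ (single v r) = single v (θ r) := by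
  ext i
  rw [mapL_coeff, HahnSeries.coeff_single, HahnSeries.coeff_single]
  split_ifs <;> simp

lemma mapL_coe (θ : R →+* S) (p : PowerSeries R) :
    mapL θ (p : R⸨X⸩) = ((PowerSeries.map θ p : PowerSeries S) : S⸨X⸩) := by
  ext i
  rw [mapL_coeff, PowerSeries.coeff_coe, PowerSeries.coeff_coe]
  split_ifs
  · simp
  · rw [PowerSeries.coeff_map]

lemma res_D (x : R⸨X⸩) : res R (D R x) = 0 := by
  rw [res_apply, D_coeff]; simp

lemma unit_zpow_deriv {A : Type*} [CommRing A] (D : A → A) (hD1 : D 1 = 0)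
    (hDmul : ∀ a b, D (a * b) = a * D b + b * D a) (G : Aˣ) (n : ℤ) :
    D ((G ^ n : Aˣ) : A) = n • (((G ^ (n - 1) : Aˣ) : A) * D (G : A)) := by
  let L : Aˣ →* Multiplicative A :=
    { toFun := fun G => Multiplicative.ofAdd (((G⁻¹ : Aˣ) : A) * D (G : A))
      map_one' := by simp [hD1]
      map_mul' := fun G H => by
        apply Multiplicative.toAdd.injective
        simp only [toAdd_mul, toAdd_ofAdd, mul_inv_rev, Units.val_mul, hDmul]
        have ha : ((G⁻¹ : Aˣ) : A) * (G : A) = 1 := by simp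
        have hb : ((H⁻¹ : Aˣ) : A) * (H : A) = 1 := by simp
        linear_combination (((H⁻¹ : Aˣ) : A) * D (H : A)) * ha + (((G⁻¹ : Aˣ) : A) * D (G : A)) * hb }
  have h1 : L (G ^ n) = L G ^ n := map_zpow L G n
  have h2 : (((G ^ n)⁻¹ : Aˣ) : A) * D ((G ^ n : Aˣ) : A) = n • (((G⁻¹ : Aˣ) : A) * D (G : A)) := by
    have := congrArg Multiplicative.toAdd h1
    rw [toAdd_zpow] at this
    exact this
  have h3 : ((G ^ n : Aˣ) : A) * ((((G ^ n)⁻¹ : Aˣ) : A) * D ((G ^ n : Aˣ) : A))
      = D ((G ^ n : Aˣ) : A) := by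
    rw [← mul_assoc]; simp
  rw [← h3, h2, mul_smul_comm, ← mul_assoc, ← Units.val_mul, zpow_sub_one]

end Aux

section Univ

/-- the universal coefficient ring -/
abbrev R₀ := MvPolynomial ℕ ℤ

noncomputable def wU : PowerSeries R₀ :=
  PowerSeries.mk (fun i => if i = 0 then 1 else MvPolynomial.X i)

lemma isUnit_wU : IsUnit wU := by
  rw [PowerSeries.isUnit_iff_constantCoeff]
  simp [wU]

noncomputable def singleU (v : ℤ) : (R₀⸨X⸩)ˣ where
  val := single v 1
  inv := single (-v) 1
  val_inv := by rw [HahnSeries.single_mul_single]; simp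
  inv_val := by rw [HahnSeries.single_mul_single]; simp

noncomputable def GU (v : ℤ) : (R₀⸨X⸩)ˣ :=
  singleU v * Units.map (HahnSeries.ofPowerSeries ℤ R₀).toMonoidHom isUnit_wU.unit

lemma val_GU (v : ℤ) : ((GU v : (R₀⸨X⸩)ˣ) : R₀⸨X⸩) = single v 1 * (wU : R₀⸨X⸩) := rfl

theorem res_univ (v n : ℤ) (hn : n ≠ 0) :
    res R₀ ((((GU v) ^ (n - 1) : (R₀⸨X⸩)ˣ) : R₀⸨X⸩) * D R₀ ((GU v : (R₀⸨X⸩)ˣ) : R₀⸨X⸩)) = 0 := by
  have h := unit_zpow_deriv (D R₀) (Derivation.map_one_eq_zero _)
    (fun a b => by rw [Derivation.leibniz, smul_eq_mul, smul_eq_mul]) (GU v) n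
  have h' := congrArg (res R₀) h
  rw [res_D, map_zsmul, zsmul_eq_mul] at h'
  rcases mul_eq_zero.mp h'.symm with h0 | h0
  · exact absurd h0 (Int.cast_ne_zero.mpr hn)
  · exact h0

end Univ


/-- For a `k`-algebra homomorphism `φ : K → F((X))` from a field into formal Laurent series over a
field, an element `f` of `K` and a nonzero integer `n`, the residue of `f^(n-1) df` read through `φ`
— the `X⁻¹`-coefficient of `φ(f)^(n-1) · (φ f)′` — vanishes, in every characteristic (also when the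
characteristic divides `n`). (The published statement is for the intrinsic residue of a complete
field with a perfect coefficient field; read through an expansion it is this identity of Laurent
series, and no property of `φ` is needed.) -/
theorem result {k : Type u} {K : Type v} {F : Type w} [CommRing k] [Field K] [Field F]
    [Algebra k K] [Algebra k F]
    (φ : K →ₐ[k] LaurentSeries F) (f : K) (n : ℤ) (hn : n ≠ 0) :
    LocRes.resExp φ (f ^ (n - 1)) f = 0 := by
  classical
  unfold LocRes.resExp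
  rw [map_zpow₀]
  set g := φ f with hg
  by_cases hg0 : g = 0
  · rw [hg0, map_zero, mul_zero, map_zero]
  set P := g.powerSeriesPart with hP
  set c := PowerSeries.constantCoeff P with hc
  have hc0 : c ≠ 0 := by
    rw [hc, hP, ← PowerSeries.coeff_zero_eq_constantCoeff_apply, LaurentSeries.powerSeriesPart_coeff]
    simpa using (HahnSeries.coeff_order_eq_zero (x := g)).not.mpr hg0
  set P₁ : PowerSeries F := PowerSeries.C c⁻¹ * P with hP₁
  have hPP₁ : P = PowerSeries.C c * P₁ := by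
    rw [hP₁, ← mul_assoc, ← map_mul, mul_inv_cancel₀ hc0, map_one, one_mul]
  have hP₁0 : PowerSeries.constantCoeff P₁ = 1 := by
    rw [hP₁, map_mul, PowerSeries.constantCoeff_C, ← hc, inv_mul_cancel₀ hc0]
  set v := g.order with hv
  set g₁ : F⸨X⸩ := single v 1 * (P₁ : F⸨X⸩) with hg₁
  have hgg₁ : g = HahnSeries.C c * g₁ := by
    rw [hg₁, ← LaurentSeries.single_order_mul_powerSeriesPart g, ← hP, ← hv, hPP₁,
      PowerSeries.coe_mul, PowerSeries.coe_C]
    ring
  -- the specialisation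
  let θ : R₀ →+* F := MvPolynomial.eval₂Hom (Int.castRingHom F) (fun i => PowerSeries.coeff i P₁)
  have hθw : PowerSeries.map θ wU = P₁ := by
    ext i
    rw [PowerSeries.coeff_map, wU, PowerSeries.coeff_mk]
    split_ifs with hi
    · subst hi
      rw [map_one, PowerSeries.coeff_zero_eq_constantCoeff_apply, hP₁0]
    · simp only [θ]
      rw [MvPolynomial.eval₂Hom_X']
  have hθG : mapL θ ((GU v : (R₀⸨X⸩)ˣ) : R₀⸨X⸩) = g₁ := by
    rw [val_GU, map_mul, mapL_single, map_one, mapL_coe, hθw]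
  -- units
  have hg₁0 : g₁ ≠ 0 := by
    intro h
    apply hg0
    rw [hgg₁, h, mul_zero]
  have hpow : mapL θ (((GU v) ^ (n - 1) : (R₀⸨X⸩)ˣ) : R₀⸨X⸩) = g₁ ^ (n - 1) := by
    have h1 : (Units.map (mapL θ).toMonoidHom ((GU v) ^ (n - 1)) : (F⸨X⸩)ˣ)
        = (Units.map (mapL θ).toMonoidHom (GU v)) ^ (n - 1) := map_zpow _ _ _
    have h2 := congrArg (fun u : (F⸨X⸩)ˣ => (u : F⸨X⸩)) h1
    simp only [Units.val_zpow_eq_zpow_val] at h2
    rw [← hθG]
    exact h2
  have hres₁ : res F (g₁ ^ (n - 1) * D F g₁) = 0 := by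
    rw [← hpow, ← hθG, ← mapL_D, ← map_mul, mapL_res, res_univ v n hn, map_zero]
  -- scaling
  have hDg : D F g = HahnSeries.C c * D F g₁ := by
    rw [hgg₁, Derivation.leibniz, smul_eq_mul, smul_eq_mul, D_apply F (HahnSeries.C c),
      derivative_C, mul_zero, add_zero]
  have hCc0 : (HahnSeries.C c : F⸨X⸩) ≠ 0 := by
    intro h
    apply hg0
    rw [hgg₁, h, zero_mul]
  have : g ^ (n - 1) * D F g = HahnSeries.C (c ^ n) * (g₁ ^ (n - 1) * D F g₁) := by
    rw [hDg, hgg₁, mul_zpow, map_zpow₀]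
    rw [show (HahnSeries.C c : F⸨X⸩) ^ n = (HahnSeries.C c) ^ (n - 1) * HahnSeries.C c from by
      rw [← zpow_add_one₀ hCc0, sub_add_cancel]]
    ring
  rw [this, HahnSeries.C_mul_eq_smul, map_smul, hres₁, smul_zero]

end Groth.Agent.S12621
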