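import Groth.Statements.S12626
import Mathlib

set_option autoImplicit false
universe u v
open CAlg

namespace Groth.Agent.S12626

open W4bk4bump814p2 KaehlerDifferential
open W4bk4bump814p2 KaehlerDifferential

theorem delta_pow_mul (K : Type u) (A : Type v) [Field K] (p : ℕ) [Fact p.Prime] [CharP K p]
    [CommRing A] [Algebra K A] (i : ℕ) (x y : A) :
    delta K A p i (x ^ p * y) = (x ^ p) ^ (p ^ i) • delta K A p i y := by
  have hpA : (p : A) = 0 := by
    have : (p : K) = 0 := CharP.cast_eq_zero K p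
    have h2 := congrArg (algebraMap K A) this
    rw [map_natCast, map_zero] at h2
    exact h2
  have hd : KaehlerDifferential.D K A (x ^ p) = 0 := by
    rw [Derivation.leibniz_pow, ← Nat.cast_smul_eq_nsmul A, hpA, zero_smul]
  unfold delta
  rw [Derivation.leibniz, hd, smul_zero, add_zero, smul_smul, smul_smul, mul_pow, ← pow_mul]
  congr 1
  have h1 : 1 ≤ p ^ i := Nat.one_le_pow _ _ (Fact.out : p.Prime).pos
  have : (x ^ p) ^ (p ^ i - 1) * y ^ (p ^ i - 1) * x ^ p = (x ^ p) ^ (p ^ i) * y ^ (p ^ i - 1) := by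
    have : (x ^ p) ^ (p ^ i) = (x ^ p) ^ (p ^ i - 1) * x ^ p := by
      rw [← pow_succ, Nat.sub_add_cancel h1]
    rw [this]
    ring
  rw [← pow_mul] at this
  exact this


/-- For a perfect field `K` of characteristic `p > 0` and a commutative `K`-algebra `A`, put `δ_i(x) =
x^(p^i - 1) dx` in `Ω_{A/K}` and let the subsets `Σ^i ⊆ Ω_{A/K}` be given by `Σ^0 = {0}` and
`Σ^(i+1) = {δ_i(x) + σ | x ∈ A, σ ∈ Σ^i}`; then `Σ^i` is stable under multiplication by `p^i`-th
powers of elements of `A`: for `x ∈ A` and `ω ∈ Σ^i`, `x^(p^i) ω ∈ Σ^i`. This stability is what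
turns the rule `x · [ω] = [x^(p^i) ω]` into an `A`-module structure on the quotient `Ω_{A/K} / Σ^i`
(the row states the stability; that `x ↦ [δ_i(x)]` is then a derivation is a direct computation and
is not restated). -/
theorem result (K : Type u) (A : Type v) [Field K] [PerfectField K] (p : ℕ) [Fact p.Prime] [CharP K p]
    [CommRing A] [Algebra K A] (i : ℕ) (x : A)
    (ω : Ω[A⁄K]) (hω : ω ∈ W4bk4bump814p2.sigma K A p i) :
    (x ^ (p ^ i)) • ω ∈ W4bk4bump814p2.sigma K A p i := by
  induction i generalizing x ω with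
  | zero =>
    rw [sigma_zero, Set.mem_singleton_iff] at hω ⊢
    rw [hω, smul_zero]
  | succ i ih =>
    rw [mem_sigma_succ] at hω ⊢
    obtain ⟨y, hy⟩ := hω
    refine ⟨x ^ p * y, ?_⟩
    have := ih (x ^ p) _ hy
    rw [delta_pow_mul, pow_succ, pow_mul', smul_sub] at *
    exact this

end Groth.Agent.S12626
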