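import Groth.Statements.S12628
import Mathlib
import Groth.Agent.Lib.Helper2.Tate.GD4

set_option autoImplicit false
universe u v w
open FunFld

namespace Groth.Agent.S12628
open Groth.Agent.Lib.Helper2

/-- Let `K/k` be a geometric function field of one variable all of whose places carry a Laurent
expansion over `k` in a local parameter (valuation-compatible, valuation ring onto a
finite-dimensional coefficient field, normalised — so every place is separable), and let `v ∈ K`
have `dv ≠ 0`. Then every Weil differential — a `k`-linear form on the repartition space vanishing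
on some `A(D) + K` — is of the form `a ↦ ∑_P Res_P(a_P · u dv)` for exactly one `u ∈ K`, the local
residue being the trace to `k` of the `X⁻¹`-coefficient read through the expansion; i.e. the residue
pairing maps the Kähler differentials ONTO the Weil differentials. (The published statement is over
an algebraically closed field, where every place is rational; this row is the form for any constant
field under the stated separability of all places.) -/
theorem result (k : Type u) (K : Type v) [Field k] [Field K] [Algebra k K]
    (hK : FunFld.IsFunctionField k K) (hg : FunFld.IsGeometric k K)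
    (F : FunFld.Place k K → Type w) [∀ P, Field (F P)] [∀ P, Algebra k (F P)] [∀ P, FiniteDimensional k (F P)]
    (φ : ∀ P, K →ₐ[k] LaurentSeries (F P)) (hφ : ∀ P, LocRes.IsExpansionAt P.1 (φ P))
    (v : K) (hv : KaehlerDifferential.D k K v ≠ 0)
    (ω : Module.Dual k (FunFld.adele k K)) (hω : FunFld.IsWeil ω) :
    ∃! u : K, ∀ a : FunFld.adele k K,
      (Function.support fun P => LocRes.locRes (φ P) ((a : FunFld.Place k K → K) P * u) v).Finite ∧
        ω a = ∑ᶠ P, LocRes.locRes (φ P) ((a : FunFld.Place k K → K) P * u) v := by
  classical
  have hfr := Tate.finrank_kaehler_eq_one hK hg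
  have h1 : (1 : K) ≠ 0 := one_ne_zero
  have hsm := FF.smul_mem_adele hK
  obtain ⟨x, hx⟩ := FF.exists_mulW_eq hK hsm (Tate.omegaL hK hφ 1 v) ω
    (Tate.isWeil_omegaL hK hfr hφ h1 hv) (Tate.omegaL_ne_zero hK hfr hφ h1 hv) hω
  refine ⟨x, fun a => ⟨Tate.finite_support_locRes hK hφ x v a, ?_⟩, ?_⟩
  · rw [← hx, FF.mulW_apply, Tate.omegaL_apply]
    congr 1
    funext P
    change LocRes.locRes (φ P) ((x • (a : FunFld.Place k K → K)) P * 1) v = _
    rw [Pi.smul_apply, smul_eq_mul, mul_one, mul_comm]
  · intro u' hu'
    by_contra hne
    have hd : u' - x ≠ 0 := sub_ne_zero.2 hne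
    obtain ⟨P⟩ := FF.nonempty_place hK
    obtain ⟨y, -, hy⟩ := Tate.exists_locRes_ne_zero_of_lt hfr (hφ P) hd hv
    apply hy
    set a : FunFld.adele k K := ⟨Pi.single P y, Tate.single_mem_adele P y⟩ with ha
    have e1 : ω a = LocRes.locRes (φ P) (y * u') v := by
      rw [(hu' a).2]
      exact Tate.omegaL_single hK hφ u' v P y a rfl
    have e2 : ω a = LocRes.locRes (φ P) (y * x) v := by
      rw [← hx, FF.mulW_apply, Tate.omegaL_apply, finsum_eq_single _ P]
      · change LocRes.locRes (φ P) ((x • (Pi.single P y : FunFld.Place k K → K)) P * 1) v = _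
        rw [Pi.smul_apply, Pi.single_eq_same, smul_eq_mul, mul_one, mul_comm]
      · intro Q hQ
        change LocRes.locRes (φ Q) ((x • (Pi.single P y : FunFld.Place k K → K)) Q * 1) v = 0
        rw [Pi.smul_apply, Pi.single_eq_of_ne hQ, smul_zero, zero_mul]
        unfold LocRes.locRes LocRes.resExp
        simp
    have e3 : y * u' = y * (u' - x) + y * x := by ring
    rw [e3, Tate.locRes_add_left, ← e2] at e1
    exact right_eq_add.1 e1

end Groth.Agent.S12628
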