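import Groth.Statements.S12631
import Mathlib
import Groth.Agent.Lib.Helper2.Tate.GD4

set_option autoImplicit false
universe u v w
open FunFld

namespace Groth.Agent.S12631
open Groth.Agent.Lib.Helper2

/-- Let `K/k` be a geometric function field of one variable of genus one all of whose places carry a
Laurent expansion over `k` in a local parameter (so every place is separable), and `v ∈ K` with `dv
≠ 0`. Then there is a nonzero `u ∈ K` whose differential `u dv` has divisor zero — the order of
`φ_P(u) · (φ_P v)′` is `0` at every place `P` — and such a `u` is unique up to a factor from `k`.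
(The published statement concerns elliptic curves over algebraically closed fields; this row is the
form for any constant field under the stated separability of all places.) -/
theorem result (k : Type u) (K : Type v) [Field k] [Field K] [Algebra k K]
    (hK : FunFld.IsFunctionField k K) (hg : FunFld.IsGeometric k K) (h1 : FunFld.genus k K = 1)
    (F : FunFld.Place k K → Type w) [∀ P, Field (F P)] [∀ P, Algebra k (F P)] [∀ P, FiniteDimensional k (F P)]
    (φ : ∀ P, K →ₐ[k] LaurentSeries (F P)) (hφ : ∀ P, LocRes.IsExpansionAt P.1 (φ P))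
    (v : K) (hv : KaehlerDifferential.D k K v ≠ 0) :
    (∃ u : K, u ≠ 0 ∧ ∀ P, LocRes.vDiff (φ P) u v = 1) ∧
      ∀ u u' : K, u ≠ 0 → (∀ P, LocRes.vDiff (φ P) u v = 1) → (∀ P, LocRes.vDiff (φ P) u' v = 1) →
        ∃ c : k, u' = c • u := by
  classical
  have hfr := Tate.finrank_kaehler_eq_one hK hg
  obtain ⟨C, -, hCcan, hCv⟩ := Tate.exists_divisor_dv hK hfr hφ hv
  have hvD : ∀ (u : K) (P : FunFld.Place k K),
      LocRes.vDiff (φ P) u v = P.1 u * WithZero.exp (-(C P)) := by
    intro u P
    unfold LocRes.vDiff
    rw [map_mul, (hφ P).1, hCv P]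
  have hiff : ∀ (u : K) (P : FunFld.Place k K),
      LocRes.vDiff (φ P) u v = 1 ↔ P.1 u = WithZero.exp (C P) := by
    intro u P
    rw [hvD, WithZero.exp_neg, mul_inv_eq_one₀ WithZero.exp_ne_zero]
  have hdeg : C.deg = 0 := by
    have := FF.deg_canonical hK hCcan
    rw [h1] at this
    simpa using this
  have hell : FunFld.ell C = 1 := by
    rw [FF.ell_canonical hK hCcan, h1]
  constructor
  · obtain ⟨z, hz0, hz⟩ := FF.exists_ne_zero_mem_L hK (D := C) (by rw [hell]; norm_num)
    refine ⟨z, hz0, fun P => ?_⟩
    rw [hiff]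
    have h2 := (FF.mem_L_iff_div hK hz0).1 hz
    have h3 : (0 : FunFld.Divisor k K) = FunFld.div k z + C := by
      apply FF.eq_of_le_of_deg_eq hK h2
      rw [FF.deg_zero, FF.deg_add, FF.deg_div hK, hdeg, add_zero]
    have h4 : (FunFld.div k z + C) P = 0 := by rw [← h3]; rfl
    rw [Finsupp.add_apply, FF.div_apply hK] at h4
    rw [FF.v_eq_exp_neg_ord P hz0] 
    congr 1
    omega
  · intro u u' hu0 hu hu'
    have hval : ∀ P : FunFld.Place k K, P.1 (u' / u) = 1 := by
      intro P
      rw [map_div₀, (hiff u P).1 (hu P), (hiff u' P).1 (hu' P)]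
      exact div_self WithZero.exp_ne_zero
    have hmem : u' / u ∈ FunFld.L (0 : FunFld.Divisor k K) := by
      intro P
      rw [hval P]
      simp
    rw [FF.L_zero hK, Submodule.one_eq_range] at hmem
    obtain ⟨c, hc⟩ := hmem
    refine ⟨c, ?_⟩
    rw [Algebra.smul_def]
    have : algebraMap k K c = u' / u := hc
    rw [this, div_mul_cancel₀ _ hu0]

end Groth.Agent.S12631
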