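import Groth.Statements.S1265
import Mathlib
-- import your own Groth.Agent.* helpers here

set_option autoImplicit false
universe u
open FlatMor

namespace Groth.Agent.S1265

section helpers

section swindle

variable {R : Type*} [Ring R] {V G : Type*} [AddCommGroup V] [Module R V] [AddCommGroup G]
  [Module R G] (s : V →ₗ[R] G) (p : G →ₗ[R] V)

/-- forward map of the Eilenberg swindle -/
noncomputable def swA : V × (ℕ →₀ G) →ₗ[R] (ℕ →₀ G) :=
  ((Finsupp.lsingle 0).comp s).coprod
    ((Finsupp.lmapDomain G R Nat.succ).comp (Finsupp.mapRange.linearMap (s.comp p)) +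
      Finsupp.mapRange.linearMap (LinearMap.id - s.comp p))

/-- backward map of the Eilenberg swindle -/
noncomputable def swB : (ℕ →₀ G) →ₗ[R] V × (ℕ →₀ G) :=
  (p.comp (Finsupp.lapply 0)).prod
    ((Finsupp.lcomapDomain Nat.succ Nat.succ_injective).comp
        (Finsupp.mapRange.linearMap (s.comp p)) +
      Finsupp.mapRange.linearMap (LinearMap.id - s.comp p))

lemma swA_apply_zero (v : V) (h : ℕ →₀ G) :
    swA s p (v, h) 0 = s v + (h 0 - s (p (h 0))) := by
  simp [swA, Finsupp.mapDomain_of_notMem_range]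

lemma swA_apply_succ (v : V) (h : ℕ →₀ G) (n : ℕ) :
    swA s p (v, h) (n + 1) = s (p (h n)) + (h (n + 1) - s (p (h (n + 1)))) := by
  simp [swA, Finsupp.mapDomain_apply Nat.succ_injective]

lemma swB_fst (h : ℕ →₀ G) : (swB s p h).1 = p (h 0) := by
  simp [swB]

lemma swB_snd_apply (h : ℕ →₀ G) (n : ℕ) :
    (swB s p h).2 n = s (p (h (n + 1))) + (h n - s (p (h n))) := by
  simp [swB, Finsupp.lcomapDomain]

variable (hps : ∀ v, p (s v) = v)
include hps

lemma swB_swA (x : V × (ℕ →₀ G)) : swB s p (swA s p x) = x := by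
  obtain ⟨v, h⟩ := x
  refine Prod.ext ?_ ?_
  · rw [swB_fst, swA_apply_zero]
    simp [hps]
  · ext n
    rw [swB_snd_apply, swA_apply_succ]
    cases n with
    | zero =>
      rw [swA_apply_zero]
      simp [hps]
    | succ n =>
      rw [swA_apply_succ]
      simp [hps]

lemma swA_swB (h : ℕ →₀ G) : swA s p (swB s p h) = h := by
  ext n
  cases n with
  | zero =>
    rw [show swB s p h = ((swB s p h).1, (swB s p h).2) from rfl, swA_apply_zero, swB_fst,
      swB_snd_apply]
    simp [hps]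
  | succ n =>
    rw [show swB s p h = ((swB s p h).1, (swB s p h).2) from rfl, swA_apply_succ, swB_snd_apply,
      swB_snd_apply]
    simp [hps]

/-- The Eilenberg swindle. -/
noncomputable def swindle : (V × (ℕ →₀ G)) ≃ₗ[R] (ℕ →₀ G) :=
  LinearEquiv.ofLinearMap (swA s p) (swB s p)
    (LinearMap.ext (swA_swB s p hps)) (LinearMap.ext (swB_swA s p hps))

end swindle


section nak

variable {A : Type*} [CommRing A] {M : Type*} [AddCommGroup M] [Module A M]

lemma sup_smul_pow_eq_top (J : Ideal A) (P : Submodule A M) (h : P ⊔ J • ⊤ = ⊤) (k : ℕ) :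
    P ⊔ (J ^ k) • (⊤ : Submodule A M) = ⊤ := by
  induction k with
  | zero => simp
  | succ k ih =>
    have h1 : J • (⊤ : Submodule A M) ≤ P ⊔ (J ^ (k + 1)) • (⊤ : Submodule A M) := by
      calc J • (⊤ : Submodule A M) = J • (P ⊔ (J ^ k) • (⊤ : Submodule A M)) := by rw [ih]
        _ = J • P ⊔ J • ((J ^ k) • (⊤ : Submodule A M)) := Submodule.smul_sup _ _ _
        _ ≤ P ⊔ (J ^ (k + 1)) • (⊤ : Submodule A M) := by
          refine sup_le_sup Submodule.smul_le_right ?_
          rw [← Submodule.mul_smul, ← pow_succ']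
    rw [eq_top_iff]
    calc (⊤ : Submodule A M) = P ⊔ J • ⊤ := h.symm
      _ ≤ P ⊔ (J ^ (k + 1)) • (⊤ : Submodule A M) := sup_le le_sup_left h1

lemma eq_top_of_sup_smul_eq_top (J : Ideal A) (hJ : IsNilpotent J) (P : Submodule A M)
    (h : P ⊔ J • ⊤ = ⊤) : P = ⊤ := by
  obtain ⟨k, hk⟩ := hJ
  have := sup_smul_pow_eq_top J P h k
  rw [hk, Submodule.zero_eq_bot, Submodule.bot_smul, sup_bot_eq] at this
  exact this

lemma le_pow_smul_of_le_smul (J : Ideal A) (K : Submodule A M) (h : K ≤ J • K) (k : ℕ) :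
    K ≤ (J ^ k) • K := by
  induction k with
  | zero => simp
  | succ k ih =>
    calc K ≤ J • K := h
      _ ≤ J • ((J ^ k) • K) := Submodule.smul_mono le_rfl ih
      _ = (J ^ (k + 1)) • K := by rw [← Submodule.mul_smul, ← pow_succ']

lemma eq_bot_of_le_smul (J : Ideal A) (hJ : IsNilpotent J) (K : Submodule A M) (h : K ≤ J • K) :
    K = ⊥ := by
  obtain ⟨k, hk⟩ := hJ
  have := le_pow_smul_of_le_smul J K h k
  rw [hk, Submodule.zero_eq_bot, Submodule.bot_smul] at this
  exact le_bot_iff.mp this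

end nak


section cover

variable {A : Type u} [CommRing A] (J : Ideal A)

lemma ker_red_le (ι : Type*) :
    LinearMap.ker (Finsupp.mapRange.linearMap (Algebra.linearMap A (A ⧸ J)) :
      (ι →₀ A) →ₗ[A] (ι →₀ A ⧸ J)) ≤ J • ⊤ := by
  intro x hx
  rw [LinearMap.mem_ker] at hx
  have hxi : ∀ i, x i ∈ J := fun i => by
    have := DFunLike.congr_fun hx i
    simpa [Ideal.Quotient.eq_zero_iff_mem] using this
  rw [← Finsupp.sum_single x]
  refine Submodule.sum_mem _ fun i _ => ?_
  have : Finsupp.single i (x i) = x i • Finsupp.single i (1 : A) := by simp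
  rw [this]
  exact Submodule.smul_mem_smul (hxi i) trivial

variable (N : Type u) [AddCommGroup N] [Module A N]

lemma exists_cover (hJ : IsNilpotent J) [IsSemisimpleRing (A ⧸ J)] :
    ∃ (ι : Type u) (π : (ι →₀ A) →ₗ[A] N × (ι →₀ A)),
      Function.Surjective π ∧ LinearMap.ker π ≤ J • ⊤ := by
  obtain ⟨V, hV⟩ : ∃ V : Type u, V = (N ⧸ (J • ⊤ : Submodule A N)) := ⟨_, rfl⟩
  subst hV
  haveI : Module.Projective (A ⧸ J) (N ⧸ (J • ⊤ : Submodule A N)) :=
    Module.projective_of_isSemisimpleRing _ _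
  obtain ⟨s, hs⟩ := Module.projective_def'.mp this
  have hps : ∀ v, (Finsupp.linearCombination (A ⧸ J) id) (s v) = v :=
    fun v => LinearMap.congr_fun hs v
  let θ₀ := swindle s (Finsupp.linearCombination (A ⧸ J) id) hps
  let c := Finsupp.curryLinearEquiv (α := ℕ) (β := N ⧸ (J • ⊤ : Submodule A N))
    (M := A ⧸ J) (A ⧸ J)
  let θ : ((N ⧸ (J • ⊤ : Submodule A N)) × ((ℕ × (N ⧸ (J • ⊤ : Submodule A N))) →₀ A ⧸ J))
      ≃ₗ[A ⧸ J] ((ℕ × (N ⧸ (J • ⊤ : Submodule A N))) →₀ A ⧸ J) :=
    (LinearEquiv.prodCongr (LinearEquiv.refl _ _) c).trans (θ₀.trans c.symm)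
  let θA := θ.restrictScalars A
  let red : ((ℕ × (N ⧸ (J • ⊤ : Submodule A N))) →₀ A) →ₗ[A]
      ((ℕ × (N ⧸ (J • ⊤ : Submodule A N))) →₀ A ⧸ J) :=
    Finsupp.mapRange.linearMap (Algebra.linearMap A (A ⧸ J))
  have hred : Function.Surjective red :=
    Finsupp.mapRange_surjective _ (map_zero _) Ideal.Quotient.mk_surjective
  let ρ : N × ((ℕ × (N ⧸ (J • ⊤ : Submodule A N))) →₀ A) →ₗ[A]
      (N ⧸ (J • ⊤ : Submodule A N)) × ((ℕ × (N ⧸ (J • ⊤ : Submodule A N))) →₀ A ⧸ J) :=
    LinearMap.prodMap (Submodule.mkQ _) red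
  have hρ : Function.Surjective ρ :=
    Function.Surjective.prodMap (Submodule.mkQ_surjective _) hred
  obtain ⟨π, hπ⟩ := Module.projective_lifting_property ρ (θA.symm.toLinearMap ∘ₗ red) hρ
  refine ⟨_, π, ?_, ?_⟩
  · -- surjectivity by Nakayama
    rw [← LinearMap.range_eq_top]
    apply eq_top_of_sup_smul_eq_top J hJ
    rw [eq_top_iff]
    intro x _
    obtain ⟨y, hy⟩ := hred (θA (ρ x))
    have h1 : ρ (π y) = ρ x := by
      have := LinearMap.congr_fun hπ y
      simp only [LinearMap.comp_apply] at this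
      rw [this, hy]
      exact θA.symm_apply_apply _
    have h2 : x - π y ∈ LinearMap.ker ρ := by
      rw [LinearMap.mem_ker, map_sub, h1, sub_self]
    have h3 : LinearMap.ker ρ ≤ J • (⊤ : Submodule A (N × _)) := by
      intro z hz
      rw [LinearMap.mem_ker] at hz
      have hz1 : z.1 ∈ (J • ⊤ : Submodule A N) := by
        have := congrArg Prod.fst hz
        simpa [ρ] using this
      have hz2 : z.2 ∈ J • (⊤ : Submodule A ((ℕ × (N ⧸ (J • ⊤ : Submodule A N))) →₀ A)) := by
        apply ker_red_le J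
        have h := congrArg Prod.snd hz
        exact h
      have hz3 : z = LinearMap.inl A N ((ℕ × (N ⧸ (J • ⊤ : Submodule A N))) →₀ A) z.1 +
          LinearMap.inr A N ((ℕ × (N ⧸ (J • ⊤ : Submodule A N))) →₀ A) z.2 := by
        ext <;> simp
      rw [hz3]
      refine Submodule.add_mem _ ?_ ?_
      · have : (J • ⊤ : Submodule A N).map
            (LinearMap.inl A N ((ℕ × (N ⧸ (J • ⊤ : Submodule A N))) →₀ A)) ≤ J • ⊤ := by
          rw [Submodule.map_smul'']
          exact Submodule.smul_mono le_rfl le_top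
        exact this ⟨_, hz1, rfl⟩
      · have : (J • ⊤ : Submodule A ((ℕ × (N ⧸ (J • ⊤ : Submodule A N))) →₀ A)).map
            (LinearMap.inr A N _) ≤ J • ⊤ := by
          rw [Submodule.map_smul'']
          exact Submodule.smul_mono le_rfl le_top
        exact this ⟨_, hz2, rfl⟩
    have h4 : x = π y + (x - π y) := by abel
    rw [h4]
    exact Submodule.add_mem _ (Submodule.mem_sup_left ⟨y, rfl⟩) (Submodule.mem_sup_right (h3 h2))
  · intro x hx
    apply ker_red_le J
    rw [LinearMap.mem_ker] at hx ⊢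
    have := LinearMap.congr_fun hπ x
    simp only [LinearMap.comp_apply] at this
    rw [hx, map_zero] at this
    have h5 : θA.symm (red x) = 0 := this.symm
    exact (LinearEquiv.map_eq_zero_iff _).mp h5

end cover


section flatker

open TensorProduct

variable {A : Type*} [CommRing A] (J : Ideal A) {F N : Type*} [AddCommGroup F] [Module A F]
  [AddCommGroup N] [Module A N]

/-- the multiplication map `J ⊗ M → M` -/
noncomputable def muJ (M : Type*) [AddCommGroup M] [Module A M] : J ⊗[A] M →ₗ[A] M :=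
  TensorProduct.lift ((LinearMap.lsmul A M).comp J.subtype)

lemma muJ_tmul (M : Type*) [AddCommGroup M] [Module A M] (a : J) (m : M) :
    muJ J M (a ⊗ₜ m) = (a : A) • m := by
  simp [muJ]

lemma muJ_injective [Module.Flat A N] : Function.Injective (muJ J N) := by
  have h1 := (Module.Flat.iff_rTensor_injective' (R := A) (M := N)).mp inferInstance J
  have h2 : muJ J N = (TensorProduct.lid A N).toLinearMap ∘ₗ (LinearMap.rTensor N J.subtype) := by
    apply TensorProduct.ext'
    intro a m
    simp [muJ_tmul]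
  rw [h2]
  exact (TensorProduct.lid A N).injective.comp h1

lemma ker_inf_smul_le [Module.Flat A N] (π : F →ₗ[A] N) (hπ : Function.Surjective π) :
    LinearMap.ker π ⊓ J • ⊤ ≤ J • LinearMap.ker π := by
  rintro x ⟨hxK, hxJ⟩
  have hrange : J • (⊤ : Submodule A F) ≤ LinearMap.range (muJ J F) := by
    rw [Submodule.smul_le]
    intro a ha f _
    exact ⟨(⟨a, ha⟩ : J) ⊗ₜ f, muJ_tmul J F _ _⟩
  obtain ⟨t, rfl⟩ := hrange hxJ
  have hnat : (muJ J N) ∘ₗ (LinearMap.lTensor J π) = π ∘ₗ (muJ J F) := by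
    apply TensorProduct.ext'
    intro a f
    simp [muJ_tmul]
  have h1 : muJ J N (LinearMap.lTensor J π t) = 0 := by
    have := LinearMap.congr_fun hnat t
    simp only [LinearMap.comp_apply] at this
    rw [this]
    exact hxK
  have h2 : LinearMap.lTensor J π t = 0 := muJ_injective J (by rw [h1, map_zero])
  have hex : Function.Exact (LinearMap.lTensor J (LinearMap.ker π).subtype)
      (LinearMap.lTensor J π) :=
    lTensor_exact J (LinearMap.exact_subtype_ker_map π) hπ
  obtain ⟨t', rfl⟩ := (hex t).mp h2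
  clear h1 h2 hxK hxJ
  induction t' with
  | zero => simp
  | tmul a k =>
    rw [LinearMap.lTensor_tmul, muJ_tmul]
    exact Submodule.smul_mem_smul a.2 k.2
  | add t₁ t₂ h₁ h₂ =>
    rw [map_add, map_add]
    exact Submodule.add_mem _ h₁ h₂

lemma ker_eq_bot_of_flat [Module.Flat A N] (hJ : IsNilpotent J) (π : F →ₗ[A] N)
    (hπ : Function.Surjective π) (hker : LinearMap.ker π ≤ J • ⊤) : LinearMap.ker π = ⊥ := by
  apply eq_bot_of_le_smul J hJ
  exact (le_inf le_rfl hker).trans (ker_inf_smul_le J π hπ)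

end flatker


section bc

open TensorProduct

lemma flat_prod {R M N : Type*} [CommRing R] [AddCommGroup M] [Module R M] [AddCommGroup N]
    [Module R N] [Module.Flat R M] [Module.Flat R N] : Module.Flat R (M × N) := by
  rw [Module.Flat.iff_rTensor_injective']
  intro I
  have hM := (Module.Flat.iff_rTensor_injective' (R := R) (M := M)).mp inferInstance I
  have hN := (Module.Flat.iff_rTensor_injective' (R := R) (M := N)).mp inferInstance I
  have hnat : (TensorProduct.prodRight R R R M N).toLinearMap ∘ₗ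
      (LinearMap.rTensor (M × N) I.subtype) =
      (LinearMap.prodMap (LinearMap.rTensor M I.subtype) (LinearMap.rTensor N I.subtype)) ∘ₗ
        (TensorProduct.prodRight R R I M N).toLinearMap := by
    apply TensorProduct.ext'
    intro a x
    simp
  intro x y hxy
  have h1 := congrArg (TensorProduct.prodRight R R R M N) hxy
  have h2 := LinearMap.congr_fun hnat x
  have h3 := LinearMap.congr_fun hnat y
  simp only [LinearMap.comp_apply, LinearEquiv.coe_coe] at h2 h3
  rw [h2, h3] at h1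
  have h4 : TensorProduct.prodRight R R I M N x = TensorProduct.prodRight R R I M N y := by
    refine Prod.ext ?_ ?_
    · exact hM (congrArg Prod.fst h1)
    · exact hN (congrArg Prod.snd h1)
  exact (TensorProduct.prodRight R R I M N).injective h4

variable {A : Type u} [CommRing A] (J : Ideal A)
  {ι : Type u} {N : Type u} [AddCommGroup N] [Module A N]
  (π : (ι →₀ A) →ₗ[A] N × (ι →₀ A))

/-- the coefficient ideal -/
def coeffIdeal : Ideal A := Ideal.span {a | ∃ k ∈ LinearMap.ker π, ∃ i, a = k i}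

variable (A' : Type u) [CommRing A'] [Algebra A A']

lemma one_tmul_eq_zero_iff (k : ι →₀ A) :
    ((1 : A') ⊗ₜ[A] k = 0) ↔ ∀ i, algebraMap A A' (k i) = 0 := by
  constructor
  · intro h i
    have h1 := congrArg ((TensorProduct.rid A A').toLinearMap ∘ₗ
      (LinearMap.lTensor A' (Finsupp.lapply (R := A) (M := A) i))) h
    simpa [Algebra.algebraMap_eq_smul_one] using h1
  · intro h
    rw [← Finsupp.sum_single k, Finsupp.sum, TensorProduct.tmul_sum]
    refine Finset.sum_eq_zero fun i _ => ?_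
    have : Finsupp.single i (k i) = k i • Finsupp.single i (1 : A) := by simp
    rw [this, TensorProduct.tmul_smul, TensorProduct.smul_tmul', ← Algebra.algebraMap_eq_smul_one,
      h i, TensorProduct.zero_tmul]

lemma baseChange_surjective (hπ : Function.Surjective π) :
    Function.Surjective (π.baseChange A') := by
  rw [LinearMap.baseChange_eq_ltensor]
  exact LinearMap.lTensor_surjective A' hπ

lemma mem_ker_baseChange_iff (hπ : Function.Surjective π) (x : A' ⊗[A] (ι →₀ A)) :
    x ∈ LinearMap.ker (π.baseChange A') ↔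
      ∃ t, (LinearMap.ker π).subtype.baseChange A' t = x := by
  have hex := lTensor_exact (M := LinearMap.ker π) (N := ι →₀ A) (P := N × (ι →₀ A))
    (f := (LinearMap.ker π).subtype) (g := π) A' (LinearMap.exact_subtype_ker_map π) hπ
  rw [LinearMap.mem_ker]
  have h1 : π.baseChange A' x = LinearMap.lTensor A' π x := by
    rw [← LinearMap.baseChange_eq_ltensor]
  rw [h1, hex x]
  constructor
  · rintro ⟨t, rfl⟩
    exact ⟨t, by rw [← LinearMap.baseChange_eq_ltensor]⟩
  · rintro ⟨t, rfl⟩
    exact ⟨t, by rw [← LinearMap.baseChange_eq_ltensor]⟩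

lemma tmul_mem_smul_top (k : ι →₀ A) (hk : k ∈ J • (⊤ : Submodule A (ι →₀ A))) (a' : A') :
    a' ⊗ₜ[A] k ∈ (J.map (algebraMap A A')) • (⊤ : Submodule A' (A' ⊗[A] (ι →₀ A))) := by
  refine Submodule.smul_induction_on
    (p := fun k => a' ⊗ₜ[A] k ∈
      (J.map (algebraMap A A')) • (⊤ : Submodule A' (A' ⊗[A] (ι →₀ A)))) hk ?_ ?_
  · intro j hj f _
    change a' ⊗ₜ[A] (j • f) ∈ _
    rw [TensorProduct.tmul_smul, ← algebraMap_smul A' j (a' ⊗ₜ[A] f)]
    exact Submodule.smul_mem_smul (Ideal.mem_map_of_mem _ hj) trivial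
  · intro x y hx hy
    change a' ⊗ₜ[A] (x + y) ∈ _
    rw [TensorProduct.tmul_add]
    exact Submodule.add_mem _ hx hy

lemma ker_baseChange_le (hπ : Function.Surjective π) (hker : LinearMap.ker π ≤ J • ⊤) :
    LinearMap.ker (π.baseChange A') ≤
      (J.map (algebraMap A A')) • (⊤ : Submodule A' (A' ⊗[A] (ι →₀ A))) := by
  intro x hx
  obtain ⟨t, rfl⟩ := (mem_ker_baseChange_iff π A' hπ x).mp hx
  induction t with
  | zero => simp
  | tmul a' k =>
    rw [LinearMap.baseChange_tmul]
    exact tmul_mem_smul_top J A' _ (hker k.2) a'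
  | add t₁ t₂ h₁ h₂ =>
    rw [map_add]
    refine Submodule.add_mem _ (h₁ ?_) (h₂ ?_)
    · exact (mem_ker_baseChange_iff π A' hπ _).mpr ⟨t₁, rfl⟩
    · exact (mem_ker_baseChange_iff π A' hπ _).mpr ⟨t₂, rfl⟩

lemma flat_iff (hJ : IsNilpotent J) (hπ : Function.Surjective π)
    (hker : LinearMap.ker π ≤ J • ⊤) :
    Module.Flat A' (A' ⊗[A] N) ↔ (coeffIdeal π).map (algebraMap A A') = ⊥ := by
  have hcoeff : (coeffIdeal π).map (algebraMap A A') = ⊥ ↔
      ∀ k ∈ LinearMap.ker π, ∀ i, algebraMap A A' (k i) = 0 := by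
    rw [coeffIdeal, Ideal.map_span, Ideal.span_eq_bot]
    constructor
    · intro h k hk i
      exact h _ ⟨k i, ⟨k, hk, i, rfl⟩, rfl⟩
    · rintro h _ ⟨a, ⟨k, hk, i, rfl⟩, rfl⟩
      exact h k hk i
  have hJ' : IsNilpotent (J.map (algebraMap A A')) := by
    obtain ⟨r, hr⟩ := hJ
    refine ⟨r, ?_⟩
    rw [← Ideal.map_pow, hr, Ideal.zero_eq_bot, Ideal.map_bot]
    rfl
  have hflatQ : Module.Flat A' (A' ⊗[A] (ι →₀ A)) := inferInstance
  let e := TensorProduct.prodRight A A' A' N (ι →₀ A)
  rw [hcoeff]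
  constructor
  · intro hflat k hk i
    haveI : Module.Flat A' ((A' ⊗[A] N) × (A' ⊗[A] (ι →₀ A))) := flat_prod
    haveI : Module.Flat A' (A' ⊗[A] (N × (ι →₀ A))) := Module.Flat.of_linearEquiv e
    have hbot := ker_eq_bot_of_flat (J.map (algebraMap A A')) hJ' (π.baseChange A')
      (baseChange_surjective π A' hπ) (ker_baseChange_le J π A' hπ hker)
    have h1 : (1 : A') ⊗ₜ[A] k ∈ LinearMap.ker (π.baseChange A') :=
      (mem_ker_baseChange_iff π A' hπ _).mpr ⟨1 ⊗ₜ ⟨k, hk⟩, by simp⟩
    rw [hbot, Submodule.mem_bot] at h1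
    exact (one_tmul_eq_zero_iff A' k).mp h1 i
  · intro h
    have hbot : LinearMap.ker (π.baseChange A') = ⊥ := by
      rw [eq_bot_iff]
      intro x hx
      obtain ⟨t, rfl⟩ := (mem_ker_baseChange_iff π A' hπ x).mp hx
      rw [Submodule.mem_bot]
      induction t with
      | zero => simp
      | tmul a' k =>
        rw [LinearMap.baseChange_tmul]
        have h2 : (1 : A') ⊗ₜ[A] (k : ι →₀ A) = 0 :=
          (one_tmul_eq_zero_iff A' (k : ι →₀ A)).mpr (h k k.2)
        have h3 : a' ⊗ₜ[A] ((LinearMap.ker π).subtype k) = a' • ((1 : A') ⊗ₜ[A] (k : ι →₀ A)) := by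
          rw [TensorProduct.smul_tmul', smul_eq_mul, mul_one]
          rfl
        rw [h3, h2, smul_zero]
      | add t₁ t₂ h₁ h₂ =>
        rw [map_add, h₁ ((mem_ker_baseChange_iff π A' hπ _).mpr ⟨t₁, rfl⟩),
          h₂ ((mem_ker_baseChange_iff π A' hπ _).mpr ⟨t₂, rfl⟩), add_zero]
    have hbij : Function.Bijective (π.baseChange A') :=
      ⟨LinearMap.ker_eq_bot.mp hbot, baseChange_surjective π A' hπ⟩
    haveI : Module.Flat A' (A' ⊗[A] (N × (ι →₀ A))) :=
      Module.Flat.of_linearEquiv (LinearEquiv.ofBijective (π.baseChange A') hbij).symm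
    haveI : Module.Flat A' ((A' ⊗[A] N) × (A' ⊗[A] (ι →₀ A))) :=
      Module.Flat.of_linearEquiv e.symm
    exact Module.Flat.of_retract (LinearMap.inl A' (A' ⊗[A] N) (A' ⊗[A] (ι →₀ A)))
      (LinearMap.fst A' (A' ⊗[A] N) (A' ⊗[A] (ι →₀ A))) (by ext; simp)

end bc

end helpers

/-- Ring form, stated for X = Spec B affine: let A be an Artinian ring, B an A-algebra and N a B-module.
Then there is an ideal I of A such that for every A-algebra A', with B' = B ⊗_A A' and N' the base
change of N (any models), N' is flat over A' if and only if IA' = 0. -/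
theorem result {A B : Type u} [CommRing A] [IsArtinianRing A] [CommRing B] [Algebra A B]
    (N : Type u) [AddCommGroup N] [Module B N] [Module A N] [IsScalarTower A B N] :
    ∃ I : Ideal A, ∀ (A' B' N' : Type u) [CommRing A'] [CommRing B'] [Algebra A A'] [Algebra B B'] [Algebra A' B'] [Algebra A B']
      [IsScalarTower A B B'] [IsScalarTower A A' B'] [Algebra.IsPushout A B A' B']
      [AddCommGroup N'] [Module B' N'] [Module B N'] [IsScalarTower B B' N'] [Module A' N'] [IsScalarTower A' B' N']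
      (f : N →ₗ[B] N'), IsBaseChange B' f →
      (Module.Flat A' N' ↔ I.map (algebraMap A A') = ⊥) := by
  classical
  have hJ : IsNilpotent (Ring.jacobson A) := IsSemiprimaryRing.isNilpotent
  obtain ⟨ι, π, hπ, hker⟩ := exists_cover (Ring.jacobson A) N hJ
  refine ⟨coeffIdeal π, ?_⟩
  intro A' B' N' _ _ _ _ _ _ _ _ _ _ _ _ _ _ _ f hf
  rw [← flat_iff (Ring.jacobson A) π A' hJ hπ hker]
  haveI : Algebra.IsPushout A A' B B' := Algebra.IsPushout.symm inferInstance
  let e1 : TensorProduct B B' N ≃ₗ[B'] N' := hf.equiv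
  let e2 : TensorProduct B B' N ≃ₗ[A'] TensorProduct A A' N :=
    Algebra.IsPushout.cancelBaseChange A A' B B' N
  let e : N' ≃ₗ[A'] TensorProduct A A' N := (e1.restrictScalars A').symm.trans e2
  exact ⟨fun h => Module.Flat.of_linearEquiv e.symm, fun h => Module.Flat.of_linearEquiv e⟩

end Groth.Agent.S1265
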