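import Groth.Statements.S12689
import Groth.Agent.Lib.Helper3.FTRed11
import Groth.Agent.Lib.Helper3.QCAlgFT
import Groth.Agent.Lib.Helper3.SymLine8
import Groth.Agent.Lib.Helper3.QProj
import Groth.Agent.Lib.Helper3.RelProjExist

set_option autoImplicit false
universe u
open CategoryTheory CategoryTheory.Limits AlgebraicGeometry TopologicalSpace Opposite
open scoped HomogeneousIdeal
noncomputable section
open EGA2

namespace Groth.Agent.S12689
open Groth.Agent.Lib.Helper3

/-- Let Y be a scheme which is either quasi-compact and separated or has Noetherian underlying space, q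
: X → Y a morphism of finite type, L an invertible O_X-module with graded symmetric algebra 𝒮L =
⊕_{n≥0} L^{⊗n} (whose relative Proj PL, given with its charts, is identified with X by its structure
morphism), F a quasi-coherent O_Y-module with graded symmetric algebra 𝒯 = Sym(F) (structure map jF)
and projective bundle P = P(F) = Proj(𝒯) → Y given with its charts, u : 𝒯 → q_*𝒮L a graded
q-morphism — adjoint to Sym(φ) for the homomorphism φ : q^*F → L it determines in degree one — with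
φ surjective (every point of X has an affine neighbourhood V over which the image of a single
section of F generates L), and r = r_{L,φ} : G(φ) → P the induced morphism on its open of definition
G(φ) ⊆ PL (which is all of PL, φ being surjective). Then r is an immersion if and only if there are
a quasi-coherent O_Y-module E of finite type with an injective map ι : E → F, its graded symmetric
algebra 𝒯' = Sym(E) (structure map jE) and the graded q-morphism u' : 𝒯' → q_*𝒮L obtained from u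
through Sym(ι), such that the corresponding φ' : q^*E → L is surjective (in the same stalkwise
sense) and, for the projective bundle P(E) = Proj(𝒯') → Y (with its charts) and the induced r' =
r_{L,φ'} : G(φ') → P(E), r' is everywhere defined and an immersion. -/
theorem result {X Y P PL : Scheme.{u}}
    (hYs : (CompactSpace Y ∧ Y.IsSeparated) ∨ NoetherianSpace Y) (q : X ⟶ Y) [QuasiCompact q] [LocallyOfFiniteType q]
    (L : X.Modules) (hL : PicF.IsInvertible L) (hLq : Coh.IsQCoh L)
    (𝒮L : RelProj.QCGrAlg X) (jL : L ⟶ 𝒮L.toModule) (hjL : RelProj.IsGrSymAlg L 𝒮L jL)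
    (pL : PL ⟶ X) (chartL : ∀ (U : X.Opens) (hU : IsAffineOpen U), (((pL ⁻¹ᵁ U : PL.Opens) : Scheme.{u}) ≅ Proj (𝒮L.deg U hU)))
    (hPL : RelProj.IsRelProj 𝒮L pL chartL)
    (F : Y.Modules) (hFq : Coh.IsQCoh F) (𝒯 : RelProj.QCGrAlg Y) (jF : F ⟶ 𝒯.toModule) (h𝒯 : RelProj.IsGrSymAlg F 𝒯 jF)
    (u : RelProj.QGrHom q 𝒯 𝒮L)
    (hsurj : ∀ x : X, ∃ (U : Y.Opens) (hU : IsAffineOpen U) (e : Γ(F, U)) (V : X.Opens) (hV : IsAffineOpen V)
        (hVU : V ≤ q ⁻¹ᵁ U), x ∈ V ∧
          ((𝒮L.deg V hV 1 : AddSubgroup (𝒮L.presheaf.obj (op V))) : Set (𝒮L.presheaf.obj (op V))) ⊆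
              (Ideal.span {(u.appLE U V hVU).hom ((jF.app U) e)} : Set (𝒮L.presheaf.obj (op V))))
    (p : P ⟶ Y) (chart : ∀ (U : Y.Opens) (hU : IsAffineOpen U), (((p ⁻¹ᵁ U : P.Opens) : Scheme.{u}) ≅ Proj (𝒯.deg U hU)))
    (hP : RelProj.IsRelProj 𝒯 p chart)
    (r : ((RelProj.domQ u pL chartL : PL.Opens) : Scheme.{u}) ⟶ P)
    (hr : RelProj.IsProjQMapOn u p chart pL chartL (RelProj.domQ u pL chartL) r) :
    IsImmersion r ↔
      ∃ (E : Y.Modules) (_ : Coh.IsQCoh E) (_ : CohB1.IsFT E) (ι : E ⟶ F) (_ : ∀ U : Y.Opens, Function.Injective (ι.app U))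
        (𝒯' : RelProj.QCGrAlg Y) (jE : E ⟶ 𝒯'.toModule) (_ : RelProj.IsGrSymAlg E 𝒯' jE)
        (u' : RelProj.QGrHom q 𝒯' 𝒮L)
        (_ : ∀ (U : Y.Opens) (x : Γ(E, U)), (u'.app U).hom ((jE.app U) x) = (u.app U).hom ((jF.app U) ((ι.app U) x))),
        (∀ x : X, ∃ (U : Y.Opens) (hU : IsAffineOpen U) (e : Γ(E, U)) (V : X.Opens) (hV : IsAffineOpen V)
            (hVU : V ≤ q ⁻¹ᵁ U), x ∈ V ∧
              ((𝒮L.deg V hV 1 : AddSubgroup (𝒮L.presheaf.obj (op V))) : Set (𝒮L.presheaf.obj (op V))) ⊆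
              (Ideal.span {(u'.appLE U V hVU).hom ((jE.app U) e)} : Set (𝒮L.presheaf.obj (op V)))) ∧
        ∀ (P' : Scheme.{u}) (p' : P' ⟶ Y)
            (chart' : ∀ (U : Y.Opens) (hU : IsAffineOpen U), (((p' ⁻¹ᵁ U : P'.Opens) : Scheme.{u}) ≅ Proj (𝒯'.deg U hU)))
            (_ : RelProj.IsRelProj 𝒯' p' chart')
            (r' : ((RelProj.domQ u' pL chartL : PL.Opens) : Scheme.{u}) ⟶ P')
            (_ : RelProj.IsProjQMapOn u' p' chart' pL chartL (RelProj.domQ u' pL chartL) r'),
          RelProj.domQ u' pL chartL = ⊤ ∧ IsImmersion r' := by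
  classical
  haveI : L.IsQuasicoherent := hLq
  haveI : F.IsQuasicoherent := hFq
  have hiso : IsIso pL := SymLine.isIso_pL hL hjL hPL
  obtain ⟨e, hgr, hgri, he, hinv, hinv'⟩ := FTRed.exists_graded_iso F 𝒯 jF h𝒯
  constructor
  · intro himm
    haveI := himm
    have hFT : HasFTThrough Y ∧ CompactSpace Y := by
      rcases hYs with ⟨h1, h2⟩ | h2
      · haveI := h1
        haveI := h2
        exact ⟨hasFTThrough_of_qcqs, h1⟩
      · haveI := h2
        refine ⟨hasFTThrough_of_locallyNoetherian fun x => ⟨⊤, trivial, ?_⟩, inferInstance⟩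
        exact NoetherianSpace.set _
    haveI := hFT.2
    haveI : CompactSpace X := QuasiCompact.compactSpace_of_compactSpace q
    have hK2 : ∀ x : X, ∃ (V : Y.affineOpens) (s : 𝒯.presheaf.obj (op V.1)) (_ : s ∈ 𝒯.deg V.1 V.2 1),
        x ∈ SymLine.Xf u V.1 1 s := by
      intro x
      obtain ⟨U, hU, e₁, V, hV, hVU, hxV, hg⟩ := hsurj x
      exact ⟨⟨U, hU⟩, _, h𝒯.2 U hU e₁, (SymLine.mem_Xf_iff u U 1 _ x).mpr ⟨V, hV, hVU, hxV, hg⟩⟩
    have htop : RelProj.domQ u pL chartL = ⊤ := (SymLine.domQ_eq_top_iff_Xf hL hjL u hPL).mpr fun x => by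
      obtain ⟨V, s, hs, hx⟩ := hK2 x
      exact ⟨V.1, V.2, 1, one_pos, s, hs, hx⟩
    have hK1 : ∀ x : X, ∃ (V : Y.affineOpens) (n : ℕ) (_ : 0 < n) (s : 𝒯.presheaf.obj (op V.1))
        (_ : s ∈ 𝒯.deg V.1 V.2 n),
        x ∈ SymLine.Xf u V.1 n s ∧ IsAffineOpen (SymLine.Xf u V.1 n s) ∧ SymLine.CondIII u V.1 V.2 n s := by
      intro x
      obtain ⟨z, hz⟩ := pL.homeomorph.surjective x
      have hz' : pL.base z = x := hz
      let w : ((RelProj.domQ u pL chartL : PL.Opens) : Scheme.{u}) := ⟨z, by rw [htop]; trivial⟩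
      obtain ⟨U, hU, hwU, -⟩ := exists_isAffineOpen_mem_and_subset (x := q.base (pL.base z)) (U := ⊤) trivial
      obtain ⟨n, hn, s, hs, hx, haff, h3⟩ := SymLine.exists_of_isImmersion hL hjL u hPL hP r hr w U hU hwU
      exact ⟨⟨U, hU⟩, n, hn, s, hs, hz' ▸ hx, haff, h3⟩
    obtain ⟨K, hKq, hKft, u', hu', hs', hdata⟩ := FTRed.exists_finiteType_reduction_gen hFT.1 q 𝒮L F 𝒯 e.hom hgr
      (fun U hU d y hy => ⟨(e.inv.hom.app (op U)).hom y, hgri U hU d y hy, hinv' U y⟩) u hK1 hK2
    haveI : K.toModules.IsQuasicoherent := hKq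
    refine ⟨K.toModules, hKq, hKft, K.ι, K.ι_app_injective, SymQC.grSymAlg K.toModules, SymQC.j K.toModules,
      SymQC.isGrSymAlg _, u', ?_, hs', ?_⟩
    · intro U x
      rw [hu' U]
      change (u.app U).hom ((e.hom.hom.app (op U)).hom (((FTRed.symHom K.ι).hom.app (op U)).hom _)) = _
      have h1 : ((FTRed.symHom K.ι).hom.app (op U)).hom
          (show (SymQC.symAlg K.toModules).presheaf.obj (op U) from (SymQC.j K.toModules).app U x) =
          (show (SymQC.symAlg F).presheaf.obj (op U) from (SymQC.j F).app U (K.ι.app U x)) :=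
        congrArg (fun k => (show (SymQC.symAlg F).presheaf.obj (op U) from k.app U x)) (FTRed.j_symHom K.ι)
      exact congrArg (u.app U).hom ((congrArg (e.hom.hom.app (op U)).hom h1).trans (he U (K.ι.app U x)))
    · intro P' p' chart' hP' r' hr'
      refine ⟨(SymLine.domQ_eq_top_iff_Xf hL hjL u' hPL).mpr fun x => ?_,
        SymLine.isImmersion_of_forall hL hjL u' hPL hP' r' hr' fun w => hdata _⟩
      obtain ⟨U, hU, n, hn, s, hs, hx, -, -⟩ := hdata x
      exact ⟨U, hU, n, hn, s, hs, hx⟩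
  · rintro ⟨E, hEq, hEft, ι, hιinj, 𝒯', jE, hjE, u', hcompat, hsurj', H⟩
    haveI : E.IsQuasicoherent := hEq
    have hP' := RelProjExist.isRelProj 𝒯'
    obtain ⟨r', hr', -⟩ := QProj.existsUnique_isProjQMapOn_domQ (u := u') hP' hPL
    obtain ⟨htop', himm'⟩ := H _ _ _ hP' r' hr'
    haveI := himm'
    obtain ⟨e', hgr', hgri', he', hinv1, hinv1'⟩ := FTRed.exists_graded_iso E 𝒯' jE hjE
    let v : 𝒯'.toQCAlg ⟶ 𝒯.toQCAlg := e'.inv ≫ FTRed.symHom ι ≫ e.hom
    have hv : RelProj.IsGradedHom (𝒜 := 𝒯') (ℬ := 𝒯) v := fun U hU d x hx =>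
      hgr U hU d _ (FTRed.isGradedHom_symHom ι U hU d _ (hgri' U hU d x hx))
    have hvj : ∀ (U : Y.Opens) (x : Γ(E, U)),
        (v.hom.app (op U)).hom (show 𝒯'.presheaf.obj (op U) from jE.app U x) =
          (show 𝒯.presheaf.obj (op U) from jF.app U (ι.app U x)) := by
      intro U x
      change (e.hom.hom.app (op U)).hom (((FTRed.symHom ι).hom.app (op U)).hom
        ((e'.inv.hom.app (op U)).hom _)) = _
      have step1 := (congrArg (e'.inv.hom.app (op U)).hom (he' U x)).symm.trans (hinv1 U _)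
      have h1 : ((FTRed.symHom ι).hom.app (op U)).hom
          (show (SymQC.symAlg E).presheaf.obj (op U) from (SymQC.j E).app U x) =
          (show (SymQC.symAlg F).presheaf.obj (op U) from (SymQC.j F).app U (ι.app U x)) :=
        congrArg (fun k => (show (SymQC.symAlg F).presheaf.obj (op U) from k.app U x)) (FTRed.j_symHom ι)
      exact (congrArg (fun a => (e.hom.hom.app (op U)).hom (((FTRed.symHom ι).hom.app (op U)).hom a)) step1).trans
        ((congrArg (e.hom.hom.app (op U)).hom h1).trans (he U (ι.app U x)))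
    have hu' : ∀ U : Y.Opens, u'.app U = v.hom.app (op U) ≫ u.app U := fun U =>
      FTRed.qgrHom_app_eq hjE u' (FTRed.precomp u v hv) (fun W x => by
        rw [hcompat W x]
        change _ = (u.app W).hom ((v.hom.app (op W)).hom _)
        rw [hvj]) U
    refine SymLine.isImmersion_of_forall hL hjL u hPL hP r hr fun w => ?_
    obtain ⟨U, hU, hwU, -⟩ := exists_isAffineOpen_mem_and_subset
      (x := q.base (pL.base ((RelProj.domQ u pL chartL).ι.base w))) (U := ⊤) trivial
    let w' : ((RelProj.domQ u' pL chartL : PL.Opens) : Scheme.{u}) :=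
      ⟨(RelProj.domQ u pL chartL).ι.base w, by rw [htop']; trivial⟩
    obtain ⟨n, hn, s', hs', hx, haff, h3⟩ :=
      SymLine.exists_of_isImmersion hL hjL u' hPL hP' r' hr' w' U hU hwU
    refine ⟨U, hU, n, hn, (v.hom.app (op U)).hom s', hv U hU n s' hs', ?_, ?_, ?_⟩
    · rw [← SymLine.Xf_comp u u' v hu' U n s']; exact hx
    · rw [← SymLine.Xf_comp u u' v hu' U n s']; exact haff
    · exact SymLine.condIII_comp u u' v hu' hv U hU n s' h3

end Groth.Agent.S12689
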