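import Groth.Statements.S12692
import Groth.Agent.Lib.Helper3.SymLine3
import Groth.Agent.Lib.Helper3.VAProper

set_option autoImplicit false
universe u
open CategoryTheory CategoryTheory.Limits AlgebraicGeometry TopologicalSpace Opposite
open scoped HomogeneousIdeal
noncomputable section
open Coh

namespace Groth.Agent.S12692
open Groth.Agent.Lib.Helper3

/-- Let X be a quasi-compact scheme, L an invertible O_X-module with graded symmetric algebra 𝒮L =
⊕_{d≥0} L^{⊗d} (whose relative Proj PL, given with its charts, is identified with X by its structure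
morphism), f : X → Y a quasi-compact morphism to an AFFINE scheme Y, 𝒜 a quasi-coherent graded
O_Y-algebra given with a graded f-morphism u : 𝒜 → f_*𝒮L which is bijective on global sections — so
that Γ(Y, 𝒜) is the graded ring S = ⊕_d Γ(X, L^{⊗d}) and P = Proj(𝒜) (given with its charts) is
Proj(S) — and r : G(u) → P the canonical morphism on its open of definition G(u) ⊆ PL. If G(u) is
all of PL (that is, every point of X lies in an open X_s for some homogeneous s ∈ S_+), then r is
quasi-compact and has dense image. (The published statement forms the homogeneous spectrum of the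
graded ring S itself, with no base scheme; any affine Y under X gives the same graded ring, the same
homogeneous spectrum and the same morphism.) -/
theorem result {X Y P PL : Scheme.{u}} [CompactSpace X]
    (f : X ⟶ Y) [QuasiCompact f] (hY : IsAffineOpen (⊤ : Y.Opens))
    (L : X.Modules) (hL : PicF.IsInvertible L) (hLq : Coh.IsQCoh L)
    (𝒮L : RelProj.QCGrAlg X) (jL : L ⟶ 𝒮L.toModule) (hjL : RelProj.IsGrSymAlg L 𝒮L jL)
    (pL : PL ⟶ X) (chartL : ∀ (U : X.Opens) (hU : IsAffineOpen U), (((pL ⁻¹ᵁ U : PL.Opens) : Scheme.{u}) ≅ Proj (𝒮L.deg U hU)))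
    (hPL : RelProj.IsRelProj 𝒮L pL chartL)
    (𝒜 : RelProj.QCGrAlg Y) (u : RelProj.QGrHom f 𝒜 𝒮L)
    (p : P ⟶ Y) (chart : ∀ (U : Y.Opens) (hU : IsAffineOpen U), (((p ⁻¹ᵁ U : P.Opens) : Scheme.{u}) ≅ Proj (𝒜.deg U hU)))
    (hP : RelProj.IsRelProj 𝒜 p chart)
    (r : ((RelProj.domQ u pL chartL : PL.Opens) : Scheme.{u}) ⟶ P)
    (hr : RelProj.IsProjQMapOn u p chart pL chartL (RelProj.domQ u pL chartL) r)
    (hu : Function.Bijective (u.app ⊤).hom)
    (htop : RelProj.domQ u pL chartL = ⊤) :
    QuasiCompact r ∧ IsDominant r := by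
  haveI : L.IsQuasicoherent := hLq
  have hiso : IsIso pL := SymLine.isIso_pL hL hjL hPL
  constructor
  · haveI : CompactSpace PL := (pL.homeomorph).symm.compactSpace
    haveI : CompactSpace ((RelProj.domQ u pL chartL : PL.Opens) : Scheme.{u}) :=
      isCompact_iff_compactSpace.mp (by rw [htop]; exact isCompact_univ)
    haveI : IsSeparated p := VAF.isSeparated_of_isRelProj chart
    haveI : IsAffine ((⊤ : Y.Opens) : Scheme.{u}) := hY
    haveI : IsAffine Y := .of_isIso (Scheme.topIso Y).inv
    haveI : QuasiSeparatedSpace P := quasiSeparatedSpace_of_quasiSeparated p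
    exact quasiCompact_of_compactSpace r
  · rw [SymLine.isDominant_iff hP hPL r hr hY]
    intro n hn s hs hloc
    choose V hV hxV hnil using hloc
    choose k hk using hnil
    obtain ⟨t, ht⟩ := isCompact_univ.elim_finite_subcover (fun x => ((V x : X.Opens) : Set X))
      (fun x => (V x).isOpen) (fun x _ => Set.mem_iUnion.mpr ⟨x, hxV x⟩)
    have hK : ∀ x ∈ t, ((u.appLE ⊤ (V x) (le_top.trans (Scheme.Hom.preimage_top f).ge)).hom s) ^ (t.sup k) = 0 :=
      fun x hx => pow_eq_zero_of_le (Finset.le_sup hx) (hk x)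
    have h0 : (u.app ⊤).hom s ^ (t.sup k) = 0 := by
      refine TopCat.Sheaf.eq_of_locally_eq' (⟨𝒮L.presheaf, 𝒮L.isSheaf⟩ : TopCat.Sheaf CommRingCat.{u} X.carrier)
        (fun x : t => V x.1) (f ⁻¹ᵁ ⊤) (fun x => homOfLE (le_top.trans (Scheme.Hom.preimage_top f).ge)) ?_ _ _ ?_
      · intro x _
        have := ht (Set.mem_univ x)
        simp only [Set.mem_iUnion] at this
        obtain ⟨i, hi, hxi⟩ := this
        exact Opens.mem_iSup.mpr ⟨⟨i, hi⟩, hxi⟩
      · intro x
        change (𝒮L.presheaf.map _).hom _ = (𝒮L.presheaf.map _).hom _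
        rw [map_pow, map_zero]
        exact hK x.1 x.2
    have h1 : (u.app ⊤).hom (s ^ (t.sup k)) = (u.app ⊤).hom 0 := by
      rw [map_pow, map_zero, h0]
    exact ⟨t.sup k, hu.1 h1⟩

end Groth.Agent.S12692
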