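import Groth.Statements.S1271
import Mathlib
import Groth.Agent.Lib.Helper20.RGFitC

set_option autoImplicit false
universe u
open FlatMor

namespace Groth.Agent.S1271


/-- Let A → B be an étale ring map, a ∈ A a nonzerodivisor and J a finitely generated ideal of B with
V(J) ⊆ V(aB), i.e. a lies in the radical of J. Then for every prime q of B there exist a finitely
generated ideal I of A with V(I) ⊆ V(a), an element g of B outside q, and a finitely generated ideal
J' of the localization B_g such that the extension of I to B_g equals the product of the extension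
of J with J'. -/
theorem result {A B : Type u} [CommRing A] [CommRing B] [Algebra A B] [Algebra.Etale A B]
    (a : A) (ha : a ∈ nonZeroDivisors A) (J : Ideal B) (hJ : J.FG) (hJa : algebraMap A B a ∈ J.radical)
    (q : Ideal B) [q.IsPrime] :
    ∃ (I : Ideal A) (g : B) (J' : Ideal (Localization.Away g)), I.FG ∧ a ∈ I.radical ∧ g ∉ q ∧ J'.FG ∧
      I.map (algebraMap A (Localization.Away g)) = J.map (algebraMap B (Localization.Away g)) * J' := by

  classical
  obtain ⟨n, hn⟩ := hJa
  have hetq : Algebra.IsEtaleAt A q := by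
    have : Algebra.FormallyEtale B (Localization.AtPrime q) :=
      Algebra.FormallyEtale.of_isLocalization q.primeCompl
    exact Algebra.FormallyEtale.comp A B (Localization.AtPrime q)
  obtain ⟨g, hgq, hstd⟩ := Algebra.IsEtaleAt.exists_isStandardEtale (R := A) q
  obtain ⟨Pres⟩ := hstd.nonempty_standardEtalePresentation
  obtain ⟨ψ⟩ : Nonempty (Localization.Away g ≃ₐ[A]
      Localization.Away (AdjoinRoot.mk Pres.P.f Pres.P.g)) :=
    ⟨Pres.equivRing.trans Pres.P.equivAwayAdjoinRoot⟩
  have hfin : Module.Finite A (AdjoinRoot Pres.P.f) := Pres.P.monic_f.finite_adjoinRoot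
  have hfree : Module.Free A (AdjoinRoot Pres.P.f) := Pres.P.monic_f.free_adjoinRoot
  have hfp : Module.FinitePresentation A (AdjoinRoot Pres.P.f) :=
    Module.finitePresentation_of_projective A _
  have het : Algebra.Etale A (Localization.Away (AdjoinRoot.mk Pres.P.f Pres.P.g)) :=
    Algebra.Etale.of_equiv ψ
  have hJ2fg : ((J.map (algebraMap B (Localization.Away g))).map ψ.toAlgHom.toRingHom).FG :=
    (hJ.map _).map _
  have han : algebraMap A (Localization.Away (AdjoinRoot.mk Pres.P.f Pres.P.g)) (a ^ n) ∈
      (J.map (algebraMap B (Localization.Away g))).map ψ.toAlgHom.toRingHom := by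
    have h1 : algebraMap A (Localization.Away (AdjoinRoot.mk Pres.P.f Pres.P.g)) (a ^ n) =
        ψ.toAlgHom.toRingHom (algebraMap B (Localization.Away g) (algebraMap A B a ^ n)) := by
      rw [← map_pow, ← IsScalarTower.algebraMap_apply]
      exact (ψ.commutes _).symm
    rw [h1]
    exact Ideal.mem_map_of_mem _ (Ideal.mem_map_of_mem _ hn)
  obtain ⟨I, J', hI, haI, hJ', heq⟩ := Groth.Agent.Lib.Helper20.RGFit.etale_step
    (A := A) (C := AdjoinRoot Pres.P.f) (Localization.Away (AdjoinRoot.mk Pres.P.f Pres.P.g))
    (AdjoinRoot.mk Pres.P.f Pres.P.g) a _ hJ2fg n han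
  refine ⟨I, g, J'.map ψ.symm.toAlgHom.toRingHom, hI, haI, hgq, hJ'.map _, ?_⟩
  have h12 : ψ.symm.toAlgHom.toRingHom.comp ψ.toAlgHom.toRingHom =
      RingHom.id (Localization.Away g) := by
    ext x
    simp
  have hf2 : ψ.symm.toAlgHom.toRingHom.comp
      (algebraMap A (Localization.Away (AdjoinRoot.mk Pres.P.f Pres.P.g))) =
      algebraMap A (Localization.Away g) := by
    ext x
    exact ψ.symm.commutes x
  have h3 := congrArg (Ideal.map ψ.symm.toAlgHom.toRingHom) heq
  rw [Ideal.map_map, hf2, Ideal.map_mul, Ideal.map_map, h12, Ideal.map_id] at h3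
  exact h3

end Groth.Agent.S1271
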