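import Groth.Statements.S12713
import Groth.Agent.Lib.Helper1.ArtFunSmall

set_option autoImplicit false
universe u v
open CategoryTheory
open ArtFun ArtFun.Art

namespace Groth.Agent.S12713

open Groth.Agent.Lib.Helper1.ArtFunLib ArtFun.Art

section
variable {Λ : Type u} {k : Type u} [CommRing Λ] [Field k] [Algebra Λ k]

lemma key_inj {A B C : ArtFun.Art Λ k} (f : B ⟶ A) (hf : ArtFun.Art.IsSmallExt f) (g : C ⟶ B)
    (hgf : Function.Surjective (g ≫ f)) (hg : ¬ Function.Surjective g) :
    ∀ c c' : C, f (g c) = f (g c') → g c = g c' := by
  obtain ⟨t, ht⟩ := exists_generator hf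
  have hmulg : ∀ x y : C, g (x * y) = g x * g y := fun x y => map_mul g.toAlgHom x y
  have haddg : ∀ x y : C, g (x + y) = g x + g y := fun x y => map_add g.toAlgHom x y
  have hsubg : ∀ x y : C, g (x - y) = g x - g y := fun x y => map_sub g.toAlgHom x y
  -- t is not in the range of g
  have htr : ∀ c₀ : C, g c₀ ≠ t := by
    intro c₀ hc₀
    apply hg
    intro b
    obtain ⟨c, hc⟩ := hgf (f b)
    have hc' : f (g c) = f b := hc
    have hker : b - g c ∈ RingHom.ker f.toAlgHom := by
      rw [RingHom.mem_ker, map_sub, sub_eq_zero]
      exact hc'.symm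
    obtain ⟨a, ha⟩ := exists_of_mem_ker ht hker
    obtain ⟨c', hc'⟩ := C.res_surjective (B.res a)
    have hres : B.res (g c') = B.res a := by rw [res_app, hc']
    have e : g c' * t = a * t := mul_t_eq_of_res_eq hf ht hres
    refine ⟨c + c' * c₀, ?_⟩
    rw [haddg, hmulg, hc₀, e, ha]
    ring
  -- range g ∩ ker f = 0
  have hzero : ∀ c : C, f (g c) = 0 → g c = 0 := by
    intro c hc
    have hker : g c ∈ RingHom.ker f.toAlgHom := hc
    obtain ⟨a, ha⟩ := exists_of_mem_ker ht hker
    by_cases hau : IsUnit a
    · exfalso
      obtain ⟨a', ha'⟩ := hau.exists_left_inv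
      obtain ⟨c'', hc''⟩ := C.res_surjective (B.res a')
      have hres : B.res (g c'') = B.res a' := by rw [res_app, hc'']
      -- a' * (g c) = g c'' * g c
      have h1 : (g c'' - a') * g c = 0 := by
        have hm : g c'' - a' ∈ IsLocalRing.maximalIdeal B := by
          rw [mem_maximalIdeal_iff, map_sub, hres, sub_self]
        have : (g c'' - a') * g c ∈ IsLocalRing.maximalIdeal B * RingHom.ker f.toAlgHom :=
          Ideal.mul_mem_mul hm hker
        rw [hf.2.2.2] at this
        exact this
      apply htr (c'' * c)
      rw [hmulg]
      have h2 : g c'' * g c = a' * g c := by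
        have := sub_eq_zero.1 (by rw [← sub_mul]; exact h1 : g c'' * g c - a' * g c = 0)
        exact this
      rw [h2, ← ha, ← mul_assoc, ha', one_mul]
    · have ham : a ∈ IsLocalRing.maximalIdeal B := (IsLocalRing.mem_maximalIdeal a).2 hau
      have : a * t ∈ IsLocalRing.maximalIdeal B * RingHom.ker f.toAlgHom :=
        Ideal.mul_mem_mul ham (t_mem_ker ht)
      rw [hf.2.2.2] at this
      rw [← ha]
      exact this
  intro c c' h
  have := hzero (c - c') (by
    rw [hsubg]
    have : f (g c - g c') = f (g c) - f (g c') := map_sub f.toAlgHom _ _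
    rw [this, h, sub_self])
  rw [hsubg] at this
  exact sub_eq_zero.1 this

end

/-- A small extension f : B → A in the category of Artinian local Λ-algebras with residue field k is not
an essential surjection (some morphism g : C → B is non-surjective although the composite C → A is
surjective) if and only if f has a section A → B in the category. -/
theorem result {Λ : Type u} {k : Type u} [CommRing Λ] [Field k] [Algebra Λ k]
    [IsNoetherianRing Λ] [Module.Finite Λ k]
    {A B : ArtFun.Art Λ k} (f : B ⟶ A) (hf : ArtFun.Art.IsSmallExt f) :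
    (∃ (C : ArtFun.Art Λ k) (g : C ⟶ B), Function.Surjective (g ≫ f) ∧ ¬ Function.Surjective g) ↔
      ∃ s : A ⟶ B, s ≫ f = 𝟙 A := by
  constructor
  · rintro ⟨C, g, hgf, hg⟩
    have hkey := key_inj f hf g hgf hg
    let σ : A → C := Function.surjInv hgf
    have hσ : ∀ a, f (g (σ a)) = a := fun a => Function.surjInv_eq hgf a
    have hmulg : ∀ x y : C, g (x * y) = g x * g y := fun x y => map_mul g.toAlgHom x y
    have haddg : ∀ x y : C, g (x + y) = g x + g y := fun x y => map_add g.toAlgHom x y
    have hmulf : ∀ x y : B, f (x * y) = f x * f y := fun x y => map_mul f.toAlgHom x y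
    have haddf : ∀ x y : B, f (x + y) = f x + f y := fun x y => map_add f.toAlgHom x y
    let s₀ : A →ₐ[Λ] B :=
      { toFun := fun a => g (σ a)
        map_one' := by
          have : g (σ 1) = g 1 := hkey _ _ (by
            rw [hσ]
            have h1 : g (1 : C) = 1 := map_one g.toAlgHom
            rw [h1]
            exact (map_one f.toAlgHom).symm)
          rw [this]
          exact map_one g.toAlgHom
        map_mul' := by
          intro a a'
          have : g (σ (a * a')) = g (σ a * σ a') := hkey _ _ (by
            rw [hσ, hmulg, hmulf, hσ, hσ])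
          rw [this, hmulg]
        map_zero' := by
          have : g (σ 0) = g 0 := hkey _ _ (by
            rw [hσ]
            have h1 : g (0 : C) = 0 := map_zero g.toAlgHom
            rw [h1]
            exact (map_zero f.toAlgHom).symm)
          rw [this]
          exact map_zero g.toAlgHom
        map_add' := by
          intro a a'
          have : g (σ (a + a')) = g (σ a + σ a') := hkey _ _ (by
            rw [hσ, haddg, haddf, hσ, hσ])
          rw [this, haddg]
        commutes' := by
          intro l
          have : g (σ (algebraMap Λ A l)) = g (algebraMap Λ C l) := hkey _ _ (by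
            rw [hσ]
            have h1 : g (algebraMap Λ C l) = algebraMap Λ B l := g.toAlgHom.commutes l
            rw [h1]
            exact (f.toAlgHom.commutes l).symm)
          rw [this]
          exact g.toAlgHom.commutes l }
    have hs₀ : B.res.comp s₀ = A.res := by
      apply AlgHom.ext
      intro a
      change B.res (g (σ a)) = A.res a
      rw [← res_app f, hσ]
    refine ⟨⟨s₀, hs₀⟩, ?_⟩
    apply hom_ext
    apply AlgHom.ext
    intro a
    exact hσ a
  · rintro ⟨s, hs⟩
    refine ⟨A, s, ?_, ?_⟩
    · rw [hs]
      exact Function.surjective_id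
    · intro hsurj
      apply hf.2.1
      rw [eq_bot_iff]
      intro b hb
      obtain ⟨a, rfl⟩ := hsurj b
      have h1 : f (s a) = a := congrArg (fun m : A ⟶ A => m a) hs
      have h2 : f (s a) = 0 := hb
      rw [h1] at h2
      rw [h2]
      exact map_zero s.toAlgHom

end Groth.Agent.S12713
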