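import Groth.Statements.S12718
import Groth.Agent.Lib.Helper1.ArtFunPSSmooth

set_option autoImplicit false
universe u v
open CategoryTheory
open ArtFun

namespace Groth.Agent.S12718

open Groth.Agent.Lib.Helper1.ArtFunLib ArtFun.Art

/-- Let R → S be a morphism of complete local Noetherian Λ-algebras with residue field k. The induced
morphism h_S → h_R of functors on Artinian local Λ-algebras with residue field k (composition with R
→ S) is smooth if and only if S is isomorphic as an R-algebra to a power series ring R[[X₁, …, Xₙ]]
for some n. Smoothness of h_S → h_R is written as versality of the corresponding family of h_R over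
S. -/
theorem result {Λ : Type u} {k : Type u} [CommRing Λ] [Field k] [Algebra Λ k]
    [IsNoetherianRing Λ] [Module.Finite Λ k]
    (R S : ArtFun.CRing Λ k) [Algebra R.carrier S.carrier] [IsScalarTower Λ R.carrier S.carrier]
    (hRS : S.res.comp (IsScalarTower.toAlgHom Λ R.carrier S.carrier) = R.res) :
    ArtFun.IsVersal ((ArtFun.Family.self R.carrier R.res).along
        (IsScalarTower.toAlgHom Λ R.carrier S.carrier) hRS) ↔
      ∃ n : ℕ, Nonempty (S.carrier ≃ₐ[R.carrier] MvPowerSeries (Fin n) R.carrier) := by
  constructor
  · intro hver
    obtain ⟨n, v, hvC, hbij⟩ := exists_ps_bijective_of_isVersal_along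
      (IsScalarTower.toAlgHom Λ R.carrier S.carrier) hRS hver
    let v' : MvPowerSeries (Fin n) R.carrier →ₐ[R.carrier] S.carrier :=
      { (v : MvPowerSeries (Fin n) R.carrier →+* S.carrier) with
        commutes' := fun r => by
          change v (algebraMap R.carrier (MvPowerSeries (Fin n) R.carrier) r) = algebraMap R.carrier S.carrier r
          rw [MvPowerSeries.algebraMap_apply, Algebra.algebraMap_self, RingHom.id_apply, hvC]
          rfl }
    exact ⟨n, ⟨(AlgEquiv.ofBijective v' hbij).symm⟩⟩
  · rintro ⟨n, ⟨e⟩⟩
    refine isVersal_along_of_algEquiv (IsScalarTower.toAlgHom Λ R.carrier S.carrier) hRS n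
      (e.restrictScalars Λ) ?_
    intro r
    change e (algebraMap R.carrier S.carrier r) = MvPowerSeries.C r
    rw [AlgEquiv.commutes, MvPowerSeries.algebraMap_apply, Algebra.algebraMap_self, RingHom.id_apply]

end Groth.Agent.S12718
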