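import Groth.Statements.S12722
import Groth.Agent.Lib.Helper1.ArtFunPSSmooth

set_option autoImplicit false
universe u v
open CategoryTheory
open ArtFun

namespace Groth.Agent.S12722

open Groth.Agent.Lib.Helper1.ArtFunLib ArtFun.Art

/-- `Λ` itself as a coefficient ring -/
noncomputable def baseCRing {Λ : Type u} {k : Type u} [CommRing Λ] [Field k] [Algebra Λ k]
    [IsNoetherianRing Λ] [IsLocalRing Λ] [IsAdicComplete (IsLocalRing.maximalIdeal Λ) Λ]
    (hk : Function.Surjective (algebraMap Λ k)) : ArtFun.CRing Λ k where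
  carrier := Λ
  res := Algebra.ofId Λ k
  res_surjective := hk
  isAdicComplete := inferInstance

theorem algHom_self_ext {Λ : Type u} [CommRing Λ] {A : Type*} [Semiring A] [Algebra Λ A]
    (f g : Λ →ₐ[Λ] A) : f = g := by
  apply AlgHom.ext
  intro x
  have h1 := f.commutes x
  have h2 := g.commutes x
  rw [Algebra.algebraMap_self, RingHom.id_apply] at h1 h2
  rw [h1, h2]

/-- (1) ⇔ (5): let Λ be a complete local Noetherian ring with residue field k. For a complete local
Noetherian Λ-algebra R with residue field k, the functor h_R on Artinian local Λ-algebras with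
residue field k is smooth if and only if R is isomorphic over Λ to a power series ring Λ[[x₁, …,
xₙ]] for some n. -/
theorem result {Λ : Type u} {k : Type u} [CommRing Λ] [Field k] [Algebra Λ k]
    [IsNoetherianRing Λ] [Module.Finite Λ k]
    [IsLocalRing Λ] [IsAdicComplete (IsLocalRing.maximalIdeal Λ) Λ]
    (hk : Function.Surjective (algebraMap Λ k)) (R : ArtFun.CRing Λ k) :
    ArtFun.IsSmoothFunctor (ArtFun.hR R.carrier R.res) ↔
      ∃ n : ℕ, Nonempty (R.carrier ≃ₐ[Λ] MvPowerSeries (Fin n) Λ) := by
  classical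
  set L := baseCRing (Λ := Λ) (k := k) hk with hL
  let u : L.carrier →ₐ[Λ] R.carrier := Algebra.ofId Λ R.carrier
  have hu : R.res.comp u = L.res := algHom_self_ext _ _
  have hequiv : ArtFun.IsSmoothFunctor (ArtFun.hR R.carrier R.res) ↔
      ArtFun.IsVersal ((ArtFun.Family.self L.carrier L.res).along u hu) := by
    constructor
    · intro hs B A μ hμ φ y hy
      obtain ⟨ψ, hψ⟩ := hs μ hμ φ
      refine ⟨ψ, hψ, ?_⟩
      apply Subtype.ext
      exact algHom_self_ext _ _
    · intro hv B A μ hμ φ
      let y : ArtFun.HomSet L.carrier L.res B := ⟨Algebra.ofId Λ B, algHom_self_ext _ _⟩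
      obtain ⟨ψ, hψ, -⟩ := hv μ hμ φ y (Subtype.ext (algHom_self_ext _ _))
      exact ⟨ψ, hψ⟩
  rw [hequiv]
  constructor
  · intro hver
    obtain ⟨n, v, hvC, hbij⟩ := exists_ps_bijective_of_isVersal_along u hu hver
    exact ⟨n, ⟨(AlgEquiv.ofBijective v hbij).symm⟩⟩
  · rintro ⟨n, ⟨e⟩⟩
    refine isVersal_along_of_algEquiv u hu n e ?_
    intro r
    change e (algebraMap Λ R.carrier r) = MvPowerSeries.C r
    rw [AlgEquiv.commutes, MvPowerSeries.algebraMap_apply, Algebra.algebraMap_self, RingHom.id_apply]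
    rfl

end Groth.Agent.S12722
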