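import Groth.Statements.S12748
import Groth.Agent.Lib.Helper1.ArtFunPSRing
import Groth.Agent.Lib.Helper1.ArtFunCotangent

set_option autoImplicit false
universe u v
open CategoryTheory
open ArtFun ArtFun.CRing

namespace Groth.Agent.S12748

open Groth.Agent.Lib.Helper1.ArtFunLib ArtFun.Art

/-- Let R' → R be a morphism of complete local Noetherian Λ-algebras with residue field k with an
R'-algebra retraction ρ : R → R', so that R = R' ⊕ I for the ideal I = ker ρ; let x₁, …, x_r ∈ I map
to a basis of I/m_R I and let φ : R'[[X₁, …, X_r]] → R be an R'-algebra map sending X_i to x_i. If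
for all large n the induced map R'[[X]]/m^n → R/m_R^n has a left inverse — a Λ-algebra map g_n : R →
R'[[X]]/m^n with g_n ∘ φ equal to the quotient map — then φ is an isomorphism. -/
theorem result {Λ : Type u} {k : Type u} [CommRing Λ] [Field k] [Algebra Λ k]
    [IsNoetherianRing Λ] [Module.Finite Λ k]
    (R' R : ArtFun.CRing Λ k) [Algebra R'.carrier R.carrier] [IsScalarTower Λ R'.carrier R.carrier]
    (hc : R.res.comp (IsScalarTower.toAlgHom Λ R'.carrier R.carrier) = R'.res)
    (ρ : R.carrier →ₐ[R'.carrier] R'.carrier)
    (r : ℕ) (x : Fin r → R.carrier) (hxI : ∀ i, ρ (x i) = 0)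
    (hspan : Ideal.span (Set.range x) ⊔ IsLocalRing.maximalIdeal R.carrier * RingHom.ker ρ = RingHom.ker ρ)
    (hli : ∀ c : Fin r → R.carrier, (∑ i, c i * x i) ∈ IsLocalRing.maximalIdeal R.carrier * RingHom.ker ρ →
      ∀ i, c i ∈ IsLocalRing.maximalIdeal R.carrier)
    (φ : MvPowerSeries (Fin r) R'.carrier →ₐ[R'.carrier] R.carrier) (hφ : ∀ i, φ (MvPowerSeries.X i) = x i)
    (hinv : ∃ N : ℕ, ∀ n, N ≤ n →
      ∃ g : R.carrier →ₐ[Λ] (MvPowerSeries (Fin r) R'.carrier ⧸
          IsLocalRing.maximalIdeal (MvPowerSeries (Fin r) R'.carrier) ^ n),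
        ∀ s, g (φ s) = Ideal.Quotient.mk _ s) :
    Function.Bijective φ := by
  classical
  obtain ⟨N, hN⟩ := hinv
  -- basic facts about ρ
  have hρalg : ∀ c : R'.carrier, ρ (algebraMap R'.carrier R.carrier c) = c := fun c => by
    rw [AlgHom.commutes]; rfl
  have hker_le : RingHom.ker ρ ≤ IsLocalRing.maximalIdeal R.carrier := by
    apply IsLocalRing.le_maximalIdeal
    intro htop
    have h1 : (1 : R.carrier) ∈ RingHom.ker ρ := by rw [htop]; exact Submodule.mem_top
    rw [RingHom.mem_ker, map_one] at h1
    exact one_ne_zero h1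
  have halg_res : ∀ c : R'.carrier, R.res (algebraMap R'.carrier R.carrier c) = R'.res c := fun c =>
    congrArg (fun χ : R'.carrier →ₐ[Λ] k => χ c) hc
  have hρres : ∀ a : R.carrier, R'.res (ρ a) = R.res a := by
    intro a
    obtain ⟨c, hc'⟩ := R'.res_surjective (R.res a)
    have h1 : a - algebraMap R'.carrier R.carrier c ∈ IsLocalRing.maximalIdeal R.carrier := by
      rw [CRing.mem_maximalIdeal_iff, map_sub, halg_res, hc', sub_self]
    have h2 : ρ (a - algebraMap R'.carrier R.carrier c) ∈ IsLocalRing.maximalIdeal R'.carrier := by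
      rw [IsLocalRing.mem_maximalIdeal, mem_nonunits_iff]
      intro hu
      obtain ⟨b, hb⟩ := hu.exists_right_inv
      have h3 : ρ ((a - algebraMap R'.carrier R.carrier c) * algebraMap R'.carrier R.carrier b) = 1 := by
        rw [map_mul, hρalg, hb]
      have h4 : (a - algebraMap R'.carrier R.carrier c) * algebraMap R'.carrier R.carrier b - 1 ∈
          IsLocalRing.maximalIdeal R.carrier := by
        apply hker_le
        rw [RingHom.mem_ker, map_sub, h3, map_one, sub_self]
      have h5 : (a - algebraMap R'.carrier R.carrier c) * algebraMap R'.carrier R.carrier b ∈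
          IsLocalRing.maximalIdeal R.carrier := Ideal.mul_mem_right _ _ h1
      have h6 : (1 : R.carrier) ∈ IsLocalRing.maximalIdeal R.carrier := by
        have := Ideal.sub_mem _ h5 h4
        rwa [sub_sub_cancel] at this
      exact (IsLocalRing.maximalIdeal.isMaximal R.carrier).ne_top ((Ideal.eq_top_iff_one _).2 h6)
    rw [CRing.mem_maximalIdeal_iff, map_sub, hρalg, map_sub, sub_eq_zero] at h2
    rw [h2, hc']
  -- φ as a Λ-algebra map compatible with the augmentations
  let φΛ : MvPowerSeries (Fin r) R'.carrier →ₐ[Λ] R.carrier := φ.restrictScalars Λ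
  have hφC : ∀ c : R'.carrier, φ (MvPowerSeries.C c) = algebraMap R'.carrier R.carrier c := by
    intro c
    have h1 : (MvPowerSeries.C c : MvPowerSeries (Fin r) R'.carrier) =
        algebraMap R'.carrier (MvPowerSeries (Fin r) R'.carrier) c := by
      rw [MvPowerSeries.algebraMap_apply]; rfl
    rw [h1, AlgHom.commutes]
  have hxm : ∀ i, x i ∈ IsLocalRing.maximalIdeal R.carrier := fun i =>
    hker_le ((RingHom.mem_ker).2 (hxI i))
  have hφres : R.res.comp φΛ = (psCRing R' r).res := by
    have h := PS.ringHom_ext_of_kills (σ := Fin r) (R := R'.carrier) (A := k)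
      ((R.res : R.carrier →+* k).comp (φ : MvPowerSeries (Fin r) R'.carrier →+* R.carrier))
      ((R'.res : R'.carrier →+* k).comp
        (MvPowerSeries.constantCoeff : MvPowerSeries (Fin r) R'.carrier →+* R'.carrier)) 1 ?_ ?_ ?_ ?_
    · apply AlgHom.ext
      intro g
      exact congrArg (fun χ : MvPowerSeries (Fin r) R'.carrier →+* k => χ g) h
    · apply PS.kills_of_pow_eq_bot
      have : (fun i => ((R.res : R.carrier →+* k).comp
          (φ : MvPowerSeries (Fin r) R'.carrier →+* R.carrier)) (MvPowerSeries.X i)) = fun _ => 0 := by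
        funext i
        rw [RingHom.comp_apply]
        change R.res (φ (MvPowerSeries.X i)) = 0
        rw [hφ]
        exact (CRing.mem_maximalIdeal_iff R (x i)).1 (hxm i)
      rw [this, pow_one, eq_bot_iff, Ideal.span_le]
      rintro _ ⟨i, rfl⟩
      exact Ideal.zero_mem _
    · apply PS.kills_of_pow_eq_bot
      have : (fun i => ((R'.res : R'.carrier →+* k).comp
          (MvPowerSeries.constantCoeff : MvPowerSeries (Fin r) R'.carrier →+* R'.carrier))
          (MvPowerSeries.X i)) = fun _ => 0 := by
        funext i
        rw [RingHom.comp_apply, MvPowerSeries.constantCoeff_X, map_zero]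
      rw [this, pow_one, eq_bot_iff, Ideal.span_le]
      rintro _ ⟨i, rfl⟩
      exact Ideal.zero_mem _
    · intro c
      rw [RingHom.comp_apply, RingHom.comp_apply, MvPowerSeries.constantCoeff_C]
      change R.res (φ (MvPowerSeries.C c)) = R'.res c
      rw [hφC, halg_res]
    · intro i
      rw [RingHom.comp_apply, RingHom.comp_apply, MvPowerSeries.constantCoeff_X, map_zero]
      change R.res (φ (MvPowerSeries.X i)) = 0
      rw [hφ]
      exact (CRing.mem_maximalIdeal_iff R (x i)).1 (hxm i)
  constructor
  · -- injectivity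
    rw [injective_iff_map_eq_zero]
    intro s hs
    have hmem : ∀ n, s ∈ IsLocalRing.maximalIdeal (MvPowerSeries (Fin r) R'.carrier) ^ n := by
      intro n
      obtain ⟨g, hg⟩ := hN (max n N) (le_max_right _ _)
      have h1 := hg s
      rw [hs, map_zero] at h1
      have h2 := Ideal.Quotient.eq_zero_iff_mem.1 h1.symm
      exact Ideal.pow_le_pow_right (le_max_left _ _) h2
    have hbot : (⨅ n, IsLocalRing.maximalIdeal (MvPowerSeries (Fin r) R'.carrier) ^ n) = ⊥ :=
      Ideal.iInf_pow_eq_bot_of_isLocalRing _ (IsLocalRing.maximalIdeal.isMaximal _).ne_top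
    have : s ∈ (⨅ n, IsLocalRing.maximalIdeal (MvPowerSeries (Fin r) R'.carrier) ^ n) :=
      (Ideal.mem_iInf).2 hmem
    rw [hbot] at this
    exact this
  · -- surjectivity
    haveI := (psCRing R' r).isAdicComplete
    haveI : IsPrecomplete (IsLocalRing.maximalIdeal (MvPowerSeries (Fin r) R'.carrier))
        (MvPowerSeries (Fin r) R'.carrier) :=
      (psCRing R' r).isAdicComplete.toIsPrecomplete
    have tfae := surjective_tfae_cotangent (psCRing R' r).res R.res (psCRing R' r).res_surjective
      R.res_surjective φΛ hφres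
    have hsurj : Function.Surjective φΛ := by
      apply (tfae.out 1 0).1
      apply le_antisymm
      · exact sup_le (map_maximalIdeal_le (psCRing R' r).res R.res (psCRing R' r).res_surjective
          R.res_surjective φΛ hφres) (Ideal.pow_le_self two_ne_zero)
      · intro a ha
        have hc1 : ρ a ∈ IsLocalRing.maximalIdeal R'.carrier := by
          rw [CRing.mem_maximalIdeal_iff, hρres]
          exact (CRing.mem_maximalIdeal_iff R a).1 ha
        have h1 : a = algebraMap R'.carrier R.carrier (ρ a) + (a - algebraMap R'.carrier R.carrier (ρ a)) := by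
          ring
        rw [h1]
        apply Ideal.add_mem
        · apply Ideal.mem_sup_left
          rw [← hφC]
          apply Ideal.mem_map_of_mem
          have := PS.C_mem_maximalIdeal_pow (σ := Fin r) (j := 1) (c := ρ a) (by rwa [pow_one])
          rwa [pow_one] at this
        · have h2 : a - algebraMap R'.carrier R.carrier (ρ a) ∈ RingHom.ker ρ := by
            rw [RingHom.mem_ker, map_sub, hρalg, sub_self]
          rw [← hspan] at h2
          have hle : Ideal.span (Set.range x) ⊔ IsLocalRing.maximalIdeal R.carrier * RingHom.ker ρ ≤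
              Ideal.map φΛ (IsLocalRing.maximalIdeal (MvPowerSeries (Fin r) R'.carrier)) ⊔
                IsLocalRing.maximalIdeal R.carrier ^ 2 := by
            apply sup_le_sup
            · rw [Ideal.span_le]
              rintro _ ⟨i, rfl⟩
              rw [← hφ]
              exact Ideal.mem_map_of_mem _ (PS.X_mem_maximalIdeal i)
            · rw [pow_two]
              exact Ideal.mul_mono_right hker_le
          exact hle h2
    exact hsurj

end Groth.Agent.S12748
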