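import Groth.Statements.S12751
import Groth.Agent.Lib.Helper1.ArtFunKaehler

set_option autoImplicit false
universe u v
open CategoryTheory
open scoped TensorProduct
open ArtFun ArtFun.Art

namespace Groth.Agent.S12751

open Groth.Agent.Lib.Helper1.ArtFunLib ArtFun.Art

/-- A morphism f : B → A in the category of Artinian local Λ-algebras with residue field k is surjective
if and only if Ω_{B/Λ} ⊗_B k → Ω_{A/Λ} ⊗_A k is surjective; by right exactness of the sequence
Ω_{B/Λ} ⊗_B A → Ω_{A/Λ} → Ω_{A/B} → 0 this surjectivity is the vanishing of Ω_{A/B} ⊗_A k, which is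
how it is written here (A a B-algebra through f, k an A-module through the augmentation). -/
theorem result {Λ : Type u} {k : Type u} [CommRing Λ] [Field k] [Algebra Λ k]
    [IsNoetherianRing Λ] [Module.Finite Λ k]
    {A B : ArtFun.Art Λ k} (f : B ⟶ A) :
    letI : Algebra B A := f.toAlgHom.toRingHom.toAlgebra
    letI : Algebra A k := A.res.toRingHom.toAlgebra
    Function.Surjective f ↔ Subsingleton (k ⊗[A] Ω[A⁄B]) := by
  letI : Algebra B A := f.toAlgHom.toRingHom.toAlgebra
  letI : Algebra A k := A.res.toRingHom.toAlgebra
  letI : Algebra B k := B.res.toRingHom.toAlgebra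
  haveI : IsScalarTower B A k := IsScalarTower.of_algebraMap_eq (fun b => (res_app f b).symm)
  haveI : IsScalarTower Λ B A := IsScalarTower.of_algebraMap_eq (fun l => (f.toAlgHom.commutes l).symm)
  haveI : IsScalarTower Λ A k := IsScalarTower.of_algebraMap_eq (fun l => (A.res.commutes l).symm)
  constructor
  · intro hf
    haveI : Subsingleton (Ω[A⁄B]) := KaehlerDifferential.subsingleton_of_surjective B A hf
    infer_instance
  · intro hsub
    have tfae := surjective_tfae_cotangent B.res A.res B.res_surjective A.res_surjective f.toAlgHom f.res_comp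
    apply (tfae.out 1 0).1
    by_contra hne
    have htoAlg : IsScalarTower.toAlgHom Λ A k = A.res := AlgHom.ext (fun _ => rfl)
    obtain ⟨D, hD0, hDf⟩ := exists_derivation_of_ne (f := f.toAlgHom) B.res B.res_surjective
      (A.res_surjective : Function.Surjective (algebraMap A k)) (by rw [htoAlg]; exact f.res_comp) hne
    refine not_subsingleton_tensor_kaehler_of_derivation (derivationOfVanish D hDf) ?_ hsub
    intro h0
    apply hD0
    ext a
    have := congrArg (fun E : Derivation B A k => E a) h0
    exact this

end Groth.Agent.S12751
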