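import Groth.Statements.S12752
import Groth.Agent.Lib.Helper1.ArtFunEssKaehler
import Groth.Agent.S12751

set_option autoImplicit false
universe u v
open CategoryTheory
open scoped TensorProduct
open ArtFun ArtFun.Art

namespace Groth.Agent.S12752

open Groth.Agent.Lib.Helper1.ArtFunLib ArtFun.Art

/-- (a) ⇔ (c): a morphism f : B → A in the category of Artinian local Λ-algebras with residue field k is
an essential surjection (surjective, and any morphism g into B with g followed by f surjective is
surjective) if and only if the map Ω_{B/Λ} ⊗_B k → Ω_{A/Λ} ⊗_A k is an isomorphism of k-vector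
spaces. These spaces are finite-dimensional, so the isomorphism condition is written as: the map is
surjective (that is, Ω_{A/B} ⊗_A k = 0) and the two spaces have equal dimension. -/
theorem result {Λ : Type u} {k : Type u} [CommRing Λ] [Field k] [Algebra Λ k]
    [IsNoetherianRing Λ] [Module.Finite Λ k]
    {A B : ArtFun.Art Λ k} (f : B ⟶ A) :
    letI : Algebra B A := f.toAlgHom.toRingHom.toAlgebra
    letI : Algebra A k := A.res.toRingHom.toAlgebra
    letI : Algebra B k := B.res.toRingHom.toAlgebra
    (Function.Surjective f ∧ ∀ (C : ArtFun.Art Λ k) (g : C ⟶ B), Function.Surjective (g ≫ f) → Function.Surjective g) ↔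
      (Subsingleton (k ⊗[A] Ω[A⁄B]) ∧
        Module.finrank k (k ⊗[B] Ω[B⁄Λ]) = Module.finrank k (k ⊗[A] Ω[A⁄Λ])) := by
  letI : Algebra B A := f.toAlgHom.toRingHom.toAlgebra
  letI : Algebra A k := A.res.toRingHom.toAlgebra
  letI : Algebra B k := B.res.toRingHom.toAlgebra
  haveI : IsScalarTower B A k := IsScalarTower.of_algebraMap_eq (fun b => (res_app f b).symm)
  haveI : IsScalarTower Λ B A := IsScalarTower.of_algebraMap_eq (fun l => (f.toAlgHom.commutes l).symm)
  haveI : IsScalarTower Λ A k := IsScalarTower.of_algebraMap_eq (fun l => (A.res.commutes l).symm)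
  haveI : IsScalarTower Λ B k := IsScalarTower.of_algebraMap_eq (fun l => (B.res.commutes l).symm)
  have h1 := isEssential_iff_finrank_derivation f (fun b => rfl) (fun a => rfl) (fun b => rfl)
  have h2 := Groth.Agent.S12751.result f
  change (Function.Surjective f ∧ ∀ (C : ArtFun.Art Λ k) (g : C ⟶ B),
      Function.Surjective (g ≫ f) → Function.Surjective g) ↔ _
  rw [show (Function.Surjective f ∧ ∀ (C : ArtFun.Art Λ k) (g : C ⟶ B),
      Function.Surjective (g ≫ f) → Function.Surjective g) = IsEssential f from rfl, h1,
    finrank_tensor_kaehler_eq (Λ := Λ) (B := B) (k := k), finrank_tensor_kaehler_eq (Λ := Λ) (B := A) (k := k)]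
  exact and_congr_left' h2

end Groth.Agent.S12752
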