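import Groth.Statements.S12753
import Groth.Agent.Lib.Helper1.ArtFunSepDer

set_option autoImplicit false
universe u v
open CategoryTheory
open ArtFun ArtFun.Art

namespace Groth.Agent.S12753

open Groth.Agent.Lib.Helper1.ArtFunLib ArtFun.Art

/-- Suppose k is separable over the image of Λ → k. A morphism f : B → A in the category of Artinian
local Λ-algebras with residue field k is an essential surjection (surjective, and any morphism g
into B with g followed by f surjective is surjective) if and only if the map of cotangent spaces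
relative to Λ, m_B/(m_Λ B + m_B²) → m_A/(m_Λ A + m_A²), is an isomorphism; surjectivity and
injectivity are written out in terms of ideals, m_Λ being the kernel of Λ → k. -/
theorem result {Λ : Type u} {k : Type u} [CommRing Λ] [Field k] [Algebra Λ k]
    [IsNoetherianRing Λ] [Module.Finite Λ k]
    [Algebra.IsSeparable (↥(algebraMap Λ k).range) k]
    {A B : ArtFun.Art Λ k} (f : B ⟶ A) :
    (Function.Surjective f ∧ ∀ (C : ArtFun.Art Λ k) (g : C ⟶ B), Function.Surjective (g ≫ f) → Function.Surjective g) ↔
      (Ideal.map (algebraMap Λ A) (RingHom.ker (algebraMap Λ k)) ⊔ Ideal.map f.toAlgHom (IsLocalRing.maximalIdeal B) ⊔ IsLocalRing.maximalIdeal A ^ 2 =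
          IsLocalRing.maximalIdeal A ∧
        ∀ b ∈ IsLocalRing.maximalIdeal B, f b ∈ Ideal.map (algebraMap Λ A) (RingHom.ker (algebraMap Λ k)) ⊔ IsLocalRing.maximalIdeal A ^ 2 →
          b ∈ Ideal.map (algebraMap Λ B) (RingHom.ker (algebraMap Λ k)) ⊔ IsLocalRing.maximalIdeal B ^ 2) := by
  classical
  have tfae := surjective_tfae_cotangent B.res A.res B.res_surjective A.res_surjective f.toAlgHom f.res_comp
  have h𝔞B : Ideal.map (algebraMap Λ B) (RingHom.ker (algebraMap Λ k)) ⊔ IsLocalRing.maximalIdeal B ^ 2 ≤
      IsLocalRing.maximalIdeal B := by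
    apply sup_le
    · rw [Ideal.map_le_iff_le_comap]
      intro l hl
      rw [Ideal.mem_comap, mem_maximalIdeal_iff, AlgHom.commutes]
      exact hl
    · exact Ideal.pow_le_self two_ne_zero
  constructor
  · intro hess
    have hess' : IsEssential f := hess
    refine ⟨(tfae.out 0 2).1 hess.1, ?_⟩
    intro b hb hfb
    by_contra hbn
    -- images of the ideals
    have hmapm : Ideal.map f.toAlgHom (IsLocalRing.maximalIdeal B) = IsLocalRing.maximalIdeal A :=
      map_maximalIdeal_eq_of_surjective B.res A.res B.res_surjective A.res_surjective f.toAlgHom f.res_comp hess.1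
    have hmap : Ideal.map f.toAlgHom (Ideal.map (algebraMap Λ B) (RingHom.ker (algebraMap Λ k)) ⊔
        IsLocalRing.maximalIdeal B ^ 2) =
        Ideal.map (algebraMap Λ A) (RingHom.ker (algebraMap Λ k)) ⊔ IsLocalRing.maximalIdeal A ^ 2 := by
      have e1 : Ideal.map (f.toAlgHom : B →+* A) (Ideal.map (algebraMap Λ B) (RingHom.ker (algebraMap Λ k))) =
          Ideal.map (algebraMap Λ A) (RingHom.ker (algebraMap Λ k)) := by
        rw [Ideal.map_map, AlgHom.comp_algebraMap]
      rw [Ideal.map_sup, Ideal.map_pow, hmapm]
      congr 1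
    rw [← hmap] at hfb
    obtain ⟨b', hb', hfb'⟩ := (Ideal.mem_map_iff_of_surjective f.toAlgHom hess.1).1 hfb
    have hx : b - b' ∉ Ideal.map (algebraMap Λ B) (RingHom.ker (algebraMap Λ k)) ⊔
        IsLocalRing.maximalIdeal B ^ 2 := by
      intro h
      apply hbn
      have := Ideal.add_mem _ h hb'
      rwa [sub_add_cancel] at this
    have hxm : b - b' ∈ IsLocalRing.maximalIdeal B := Ideal.sub_mem _ hb (h𝔞B hb')
    have hfx : f (b - b') = 0 := by
      rw [map_sub, sub_eq_zero]
      exact hfb'.symm
    letI : Algebra B A := f.toAlgHom.toRingHom.toAlgebra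
    letI : Algebra A k := A.res.toRingHom.toAlgebra
    letI : Algebra B k := B.res.toRingHom.toAlgebra
    haveI : IsScalarTower B A k := IsScalarTower.of_algebraMap_eq (fun b => (res_app f b).symm)
    haveI : IsScalarTower Λ B A := IsScalarTower.of_algebraMap_eq (fun l => (f.toAlgHom.commutes l).symm)
    haveI : IsScalarTower Λ A k := IsScalarTower.of_algebraMap_eq (fun l => (A.res.commutes l).symm)
    haveI : IsScalarTower Λ B k := IsScalarTower.of_algebraMap_eq (fun l => (B.res.commutes l).symm)
    obtain ⟨D, hD⟩ := exists_derivation_ne_zero_of_isSeparable B (fun _ => rfl) (b - b') hx hxm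
    exact hD (derivation_ker_eq_zero_of_isEssential f (fun _ => rfl) hess' D (b - b') hfx)
  · rintro ⟨hS, hI⟩
    have hfs : Function.Surjective f := (tfae.out 2 0).1 hS
    refine ⟨hfs, ?_⟩
    intro C g hgf
    have tfae' := surjective_tfae_cotangent C.res B.res C.res_surjective B.res_surjective g.toAlgHom g.res_comp
    apply (tfae'.out 2 0).1
    have hX := map_ker_algebraMap_le C.res B.res C.res_surjective B.res_surjective g.toAlgHom g.res_comp
    have hle := map_maximalIdeal_le C.res B.res C.res_surjective B.res_surjective g.toAlgHom g.res_comp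
    apply le_antisymm
    · exact sup_le (sup_le (hX.trans hle) hle) (Ideal.pow_le_self two_ne_zero)
    · intro b hb
      obtain ⟨c, hc⟩ := hgf (f b)
      have hc' : f (g c) = f b := hc
      have hcm : c ∈ IsLocalRing.maximalIdeal C := by
        rw [mem_maximalIdeal_iff, ← res_app g, ← res_app f, hc', res_app]
        exact (mem_maximalIdeal_iff B b).1 hb
      have hgc : g c ∈ IsLocalRing.maximalIdeal B := hle (Ideal.mem_map_of_mem _ hcm)
      have h1 : b - g c ∈ IsLocalRing.maximalIdeal B := Ideal.sub_mem _ hb hgc
      have h2 : f (b - g c) ∈ Ideal.map (algebraMap Λ A) (RingHom.ker (algebraMap Λ k)) ⊔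
          IsLocalRing.maximalIdeal A ^ 2 := by
        rw [map_sub, hc', sub_self]
        exact Ideal.zero_mem _
      have h3 := hI (b - g c) h1 h2
      have h4 : b = g c + (b - g c) := by ring
      rw [h4]
      apply Ideal.add_mem
      · exact Ideal.mem_sup_left (Ideal.mem_sup_right (Ideal.mem_map_of_mem _ hcm))
      · have hle' : Ideal.map (algebraMap Λ B) (RingHom.ker (algebraMap Λ k)) ⊔ IsLocalRing.maximalIdeal B ^ 2 ≤
            Ideal.map (algebraMap Λ B) (RingHom.ker (algebraMap Λ k)) ⊔
              Ideal.map g.toAlgHom (IsLocalRing.maximalIdeal C) ⊔ IsLocalRing.maximalIdeal B ^ 2 :=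
          sup_le (le_sup_left.trans le_sup_left) le_sup_right
        exact hle' h3

end Groth.Agent.S12753
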