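import Groth.Statements.S12754
import Mathlib.Algebra.Category.FGModuleCat.Basic
import Mathlib.CategoryTheory.Linear.LinearFunctor
import Mathlib.LinearAlgebra.FreeModule.Finite.Basic
import Mathlib.LinearAlgebra.Dimension.Free
import Mathlib.Tactic

set_option autoImplicit false
universe u
open CategoryTheory
open ArtFun

namespace Groth.Agent.S12754

section aux

variable {K : Type u} [Field K]

/-- A linear map as a morphism in `FGModuleCat`. -/
noncomputable def mkHom {V W : FGModuleCat.{u} K} (g : V →ₗ[K] W) : V ⟶ W :=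
  ObjectProperty.homMk (ModuleCat.ofHom g)

theorem mkHom_hom {V W : FGModuleCat.{u} K} (g : V →ₗ[K] W) : (mkHom g).hom.hom = g := rfl

theorem mkHom_add {V W : FGModuleCat.{u} K} (g g' : V →ₗ[K] W) :
    mkHom (g + g') = mkHom g + mkHom g' := by
  apply FGModuleCat.hom_ext
  rfl

theorem mkHom_smul {V W : FGModuleCat.{u} K} (c : K) (g : V →ₗ[K] W) :
    mkHom (c • g) = c • mkHom g := by
  apply FGModuleCat.hom_ext
  rfl

theorem mkHom_comp {U V W : FGModuleCat.{u} K} (g : U →ₗ[K] V) (h : V →ₗ[K] W) :
    mkHom g ≫ mkHom h = mkHom (h ∘ₗ g) := by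
  apply FGModuleCat.hom_ext
  rfl

theorem mkHom_id (V : FGModuleCat.{u} K) : mkHom (LinearMap.id : V →ₗ[K] V) = 𝟙 V := by
  apply FGModuleCat.hom_ext
  rfl

theorem mkHom_self {V W : FGModuleCat.{u} K} (f : V ⟶ W) : mkHom f.hom.hom = f := by
  apply FGModuleCat.hom_ext
  rfl

end aux

section main

open scoped TensorProduct

variable {K : Type u} [Field K] (L : FGModuleCat.{u} K ⥤ ModuleCat.{u} K) [L.Additive]
  [Functor.Linear K L]

/-- `f_v : K → V`, `1 ↦ v`. -/
noncomputable def pt (V : FGModuleCat.{u} K) (v : V) : FGModuleCat.of K K ⟶ V :=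
  mkHom (LinearMap.toSpanSingleton K V v)

theorem pt_add (V : FGModuleCat.{u} K) (v w : V) : pt V (v + w) = pt V v + pt V w := by
  unfold pt
  rw [← mkHom_add]
  congr 1
  ext
  simp

theorem pt_smul (V : FGModuleCat.{u} K) (c : K) (v : V) : pt V (c • v) = c • pt V v := by
  unfold pt
  rw [← mkHom_smul]
  congr 1
  ext
  simp

/-- The comparison map `L(K) ⊗ V → L(V)`. -/
noncomputable def tau (V : FGModuleCat.{u} K) :
    (L.obj (FGModuleCat.of K K)) ⊗[K] V →ₗ[K] L.obj V :=
  TensorProduct.lift (LinearMap.mk₂ K (fun x v => (L.map (pt V v)).hom x)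
    (fun x x' v => map_add _ _ _) (fun c x v => map_smul _ _ _)
    (fun x v w => by rw [pt_add, L.map_add]; rfl)
    (fun c x v => by rw [pt_smul, L.map_smul]; rfl))

theorem tau_tmul (V : FGModuleCat.{u} K) (x : L.obj (FGModuleCat.of K K)) (v : V) :
    tau L V (x ⊗ₜ v) = (L.map (pt V v)).hom x := by
  simp [tau]

/-- The inverse, built from a basis. -/
noncomputable def sigma (V : FGModuleCat.{u} K) :
    L.obj V →ₗ[K] (L.obj (FGModuleCat.of K K)) ⊗[K] V :=
  ∑ i : Fin (Module.finrank K V),
    ((TensorProduct.mk K (L.obj (FGModuleCat.of K K)) V).flip (Module.finBasis K V i)) ∘ₗ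
      (L.map (mkHom ((Module.finBasis K V).coord i) : V ⟶ FGModuleCat.of K K)).hom

theorem sigma_apply (V : FGModuleCat.{u} K) (y : L.obj V) :
    sigma L V y = ∑ i : Fin (Module.finrank K V),
      ((L.map (mkHom ((Module.finBasis K V).coord i) : V ⟶ FGModuleCat.of K K)).hom y) ⊗ₜ[K]
        (Module.finBasis K V i) := by
  simp [sigma]

theorem sum_coord_pt (V : FGModuleCat.{u} K) :
    ∑ i : Fin (Module.finrank K V),
      (mkHom ((Module.finBasis K V).coord i) : V ⟶ FGModuleCat.of K K) ≫
        pt V (Module.finBasis K V i) = 𝟙 V := by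
  unfold pt
  simp only [mkHom_comp]
  rw [← mkHom_id]
  have : ∀ (s : Finset (Fin (Module.finrank K V))) (g : Fin (Module.finrank K V) → (V →ₗ[K] V)),
      ∑ i ∈ s, (mkHom (g i) : V ⟶ V) = mkHom (∑ i ∈ s, g i) := by
    intro s g
    induction s using Finset.induction_on with
    | empty =>
      simp only [Finset.sum_empty]
      apply FGModuleCat.hom_ext
      rfl
    | insert a s ha ih => rw [Finset.sum_insert ha, Finset.sum_insert ha, ih, mkHom_add]
  rw [this]
  congr 1
  ext v
  simp only [LinearMap.coe_sum, Finset.sum_apply, LinearMap.comp_apply,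
    LinearMap.toSpanSingleton_apply, LinearMap.id_apply, Module.Basis.coord_apply]
  exact (Module.finBasis K V).sum_repr v

theorem tau_sigma (V : FGModuleCat.{u} K) (y : L.obj V) : tau L V (sigma L V y) = y := by
  rw [sigma_apply, map_sum]
  simp only [tau_tmul]
  have h1 : ∀ i : Fin (Module.finrank K V),
      (L.map (pt V (Module.finBasis K V i))).hom
        ((L.map (mkHom ((Module.finBasis K V).coord i) : V ⟶ FGModuleCat.of K K)).hom y) =
      (L.map ((mkHom ((Module.finBasis K V).coord i) : V ⟶ FGModuleCat.of K K) ≫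
        pt V (Module.finBasis K V i))).hom y := by
    intro i
    rw [L.map_comp]
    rfl
  simp only [h1]
  have h2 : ∑ i : Fin (Module.finrank K V),
      (L.map ((mkHom ((Module.finBasis K V).coord i) : V ⟶ FGModuleCat.of K K) ≫
        pt V (Module.finBasis K V i))).hom y =
      (L.map (∑ i : Fin (Module.finrank K V),
        (mkHom ((Module.finBasis K V).coord i) : V ⟶ FGModuleCat.of K K) ≫
        pt V (Module.finBasis K V i))).hom y := by
    rw [Functor.map_sum]
    simp
  rw [h2, sum_coord_pt, L.map_id]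
  rfl

theorem sigma_tau (V : FGModuleCat.{u} K) (z : (L.obj (FGModuleCat.of K K)) ⊗[K] V) :
    sigma L V (tau L V z) = z := by
  induction z using TensorProduct.induction_on with
  | zero => simp
  | add a b ha hb => rw [map_add, map_add, ha, hb]
  | tmul x v =>
    rw [tau_tmul, sigma_apply]
    have h1 : ∀ i : Fin (Module.finrank K V),
        (L.map (mkHom ((Module.finBasis K V).coord i) : V ⟶ FGModuleCat.of K K)).hom
          ((L.map (pt V v)).hom x) = ((Module.finBasis K V).coord i v) • x := by
      intro i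
      have h2 : pt V v ≫ (mkHom ((Module.finBasis K V).coord i) : V ⟶ FGModuleCat.of K K) =
          ((Module.finBasis K V).coord i v) • 𝟙 (FGModuleCat.of K K) := by
        unfold pt
        rw [mkHom_comp, ← mkHom_id, ← mkHom_smul]
        congr 1
        ext
        simp
      have h3 : (L.map (mkHom ((Module.finBasis K V).coord i) : V ⟶ FGModuleCat.of K K)).hom
          ((L.map (pt V v)).hom x) =
          (L.map (pt V v ≫ (mkHom ((Module.finBasis K V).coord i) : V ⟶ FGModuleCat.of K K))).hom x := by
        rw [L.map_comp]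
        rfl
      rw [h3, h2, L.map_smul, L.map_id]
      rfl
    simp only [h1, TensorProduct.smul_tmul]
    rw [← TensorProduct.tmul_sum]
    congr 1
    exact (Module.finBasis K V).sum_repr v

/-- The comparison as a linear equivalence. -/
noncomputable def tauEquiv (V : FGModuleCat.{u} K) :
    ((L.obj (FGModuleCat.of K K)) ⊗[K] V) ≃ₗ[K] L.obj V :=
  LinearEquiv.ofLinear (tau L V) (sigma L V)
    (LinearMap.ext fun y => tau_sigma L V y) (LinearMap.ext fun z => sigma_tau L V z)

end main

/-- A K-linear functor L from finite-dimensional K-vector spaces to K-vector spaces (K a field) is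
isomorphic to the functor V ↦ L(K) ⊗_K V. (Existence of an isomorphism of functors, which is how the
published statement reads; the natural choice sends x ⊗ v to L(f_v)(x) with f_v : K → V, 1 ↦ v.) -/
theorem result (K : Type u) [Field K]
    (L : FGModuleCat.{u} K ⥤ ModuleCat.{u} K) [L.Additive] [Functor.Linear K L] :
    Nonempty (L ≅ (ModuleCat.isFG.{u} K).ι ⋙ MonoidalCategory.tensorLeft (L.obj (FGModuleCat.of K K))) := by
  refine ⟨(NatIso.ofComponents
    (fun V => ((tauEquiv L V).toModuleIso :
      ((ModuleCat.isFG.{u} K).ι ⋙ MonoidalCategory.tensorLeft (L.obj (FGModuleCat.of K K))).obj V ≅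
        L.obj V)) ?_).symm⟩
  intro V W f
  apply ModuleCat.MonoidalCategory.tensor_ext
  intro x v
  show tau L W (x ⊗ₜ[K] (f.hom.hom v)) = (L.map f).hom (tau L V (x ⊗ₜ[K] v))
  rw [tau_tmul, tau_tmul]
  have h : pt W (f.hom.hom v) = pt V v ≫ f := by
    unfold pt
    conv_rhs => rw [← mkHom_self f]
    rw [mkHom_comp]
    congr 1
    ext
    simp
  rw [h, L.map_comp]
  rfl

end Groth.Agent.S12754
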