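import Groth.Statements.S12769
import Groth.Agent.Lib.Helper24.AlgStStack
import Groth.Agent.Lib.Helper24.FibCatFpSwap
import Groth.Agent.Lib.Helper24.AlgStRep2
import Groth.Agent.S12779

set_option autoImplicit false
open CategoryTheory AlgebraicGeometry
universe u
open AlgSt

namespace Groth.Agent.S12769

open CategoryTheory AlgebraicGeometry
open Groth.Agent.Lib.Helper24


/-- Let `f : 𝒳 ⟶ 𝒵` and `g : 𝒴 ⟶ 𝒵` be 1-morphisms of categories fibred in groupoids over `(Sch/S)`.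
Suppose `𝒴` is a stack in groupoids (fppf topology) and `f` is representable by algebraic spaces;
then `𝒳 ×_𝒵 𝒴` is a stack in groupoids. -/
theorem result {S : Scheme.{u}} {𝒳 𝒴 𝒵 : AlgSt.Cat S}
    (h𝒳 : FibCat.IsFibGrpd 𝒳.p) (h𝒵 : FibCat.IsFibGrpd 𝒵.p) (h𝒴 : Stk.IsStack (QuotSh.J Scheme.fppfPrecoverage S) 𝒴)
    (f : 𝒳 ⥤ᵇ 𝒵) (g : 𝒴 ⥤ᵇ 𝒵) (hf : AlgSt.RepByAlgSp1 f) :
    Stk.IsStack (QuotSh.J Scheme.fppfPrecoverage S) (FibCat.fp f g) := by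
  have hf' : AlgSt.RepByAlgSpWith ⊤ f := (AlgStRep.repByAlgSp1_iff_with_top f).mp hf
  have h1 : AlgSt.RepByAlgSpWith ⊤ (FibCat.fpFst g f) :=
    Groth.Agent.S12779.result h𝒳 h𝒵 h𝒴.1 ⊤ f g hf'
  have h2 : AlgSt.RepByAlgSp1 (FibCat.fpFst g f) := (AlgStRep.repByAlgSp1_iff_with_top _).mpr h1
  have h3 : Stk.IsStack (QuotSh.J Scheme.fppfPrecoverage S) (FibCat.fp g f) :=
    AlgStStack.isStack_of_repByAlgSp1 (FibCatFpGen.isFibGrpd_fp g f h𝒴.1 h𝒳 h𝒵) h𝒴 _ h2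
  exact (StkEquiv.isStack_iff _ (FibCatFpSwap.swap f g) (FibCatFpSwap.isEquivOver_swap f g)).mpr h3

end Groth.Agent.S12769
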