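import Groth.Statements.S12773
import Groth.Agent.Lib.Helper24.AlgStFpAlg
import Groth.Agent.Lib.Helper24.FibCatOverMap

set_option autoImplicit false
open CategoryTheory AlgebraicGeometry
universe u
open AlgSt

namespace Groth.Agent.S12773

open CategoryTheory AlgebraicGeometry
open AlgSt
open Groth.Agent.Lib.Helper24.FibCatFpMap
open Groth.Agent.Lib.Helper24.FibCatEquiv Groth.Agent.Lib.Helper24.FibCatFpGen
open Groth.Agent.Lib.Helper24.AlgStRep
open Groth.Agent.Lib.Helper24.AlgStBridge Groth.Agent.Lib.Helper24.AlgStBoot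
open Groth.Agent.Lib.Helper24.AlgStRepS
open Groth.Agent.Lib.Helper24.AlgStSchLocal
open Groth.Agent.Lib.Helper24.AlgStProps Groth.Agent.Lib.Helper24.AlgStSmooth
open Groth.Agent.Lib.Helper24.AlgStDiag Groth.Agent.Lib.Helper24.AlgStCalc
open Groth.Agent.Lib.Helper24.AlgStFpAlg Groth.Agent.Lib.Helper24.FibCatOverMap

set_option backward.isDefEq.respectTransparency false
set_option backward.isDefEq.respectTransparency.types false


/-- Let `f : 𝒳 ⟶ 𝒴` be a 1-morphism of algebraic stacks over `S`, `V` a scheme over `S` and `y : (Sch/V)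
⟶ 𝒴` surjective and smooth. Then there are a scheme `U` over `S`, a morphism `a : U ⟶ V` and a
surjective smooth `x : (Sch/U) ⟶ 𝒳` such that the square 2-commutes: `f ∘ x ≅ y ∘ a`. -/
theorem result {S : Scheme.{u}} {𝒳 𝒴 : AlgSt.Cat S}
    (h𝒳 : AlgSt.IsAlgStack Scheme.fppfPrecoverage 𝒳) (h𝒴 : AlgSt.IsAlgStack Scheme.fppfPrecoverage 𝒴)
    (f : 𝒳 ⥤ᵇ 𝒴) (V : Over S) (y : FibCat.overCat V ⥤ᵇ 𝒴)
    (hy : AlgSt.RepByAlgSpWith (AlgSp.LocP @Smooth) y) (hy' : AlgSt.RepByAlgSpWith AlgSp.IsSurjectiveMor y) :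
    ∃ (U : Over S) (a : U ⟶ V) (x : FibCat.overCat U ⥤ᵇ 𝒳),
      AlgSt.RepByAlgSpWith (AlgSp.LocP @Smooth) x ∧ AlgSt.RepByAlgSpWith AlgSp.IsSurjectiveMor x ∧
        Nonempty (BasedFunctor.comp x f ≅ BasedFunctor.comp (AlgSt.overMap a) y) := by
  obtain ⟨U₀, x₀, hx₀, hx₀'⟩ := h𝒳.atlas
  have hU₀ : FibCat.IsFibGrpd (FibCat.overCat U₀).p := Groth.Agent.Lib.Helper24.StkFpCrit.isFibGrpd_overForget U₀
  have hV : FibCat.IsFibGrpd (FibCat.overCat V).p := Groth.Agent.Lib.Helper24.StkFpCrit.isFibGrpd_overForget V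
  have hF : AlgSt.RepByAlgSp (FibCat.fp (BasedFunctor.comp x₀ f) y) :=
    repByAlgSp1_of_diag h𝒴.isStack.1 h𝒴.diag hU₀ hV (repByAlgSp_overCat U₀) (repByAlgSp_overCat V) _ _
  have hFfib : FibCat.IsFibGrpd (FibCat.fp (BasedFunctor.comp x₀ f) y).p :=
    isFibGrpd_fp _ _ hU₀ hV h𝒴.isStack.1
  obtain ⟨X, eX, heX⟩ := hF
  obtain ⟨U, p, hp, hp'⟩ := Groth.Agent.Lib.Helper24.AlgStAtlas.hasAtlas_smooth_ofSp X
  have hU : FibCat.IsFibGrpd (FibCat.overCat U).p := Groth.Agent.Lib.Helper24.StkFpCrit.isFibGrpd_overForget U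
  obtain ⟨a, ⟨i⟩⟩ := exists_iso_overMapC
    (BasedFunctor.comp (BasedFunctor.comp p eX) (FibCat.fpSnd (BasedFunctor.comp x₀ f) y))
  refine ⟨U, a, BasedFunctor.comp (BasedFunctor.comp (BasedFunctor.comp p eX)
    (FibCat.fpFst (BasedFunctor.comp x₀ f) y)) x₀, ?_, ?_, ⟨?_⟩⟩
  · exact repByAlgSpWith_comp hU hU₀ h𝒳.isStack.1 _ good_smooth.nice stableComp_smooth _ _
      (repByAlgSpWith_comp hU hFfib hU₀ _ good_smooth.nice stableComp_smooth _ _
        (repByAlgSpWith_comp_equiv _ p eX heX hp) (repByAlgSpWith_fpFst _ y _ hy)) hx₀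
  · exact repByAlgSpWith_comp hU hU₀ h𝒳.isStack.1 _ good_isSurjectiveMor.nice
      stableComp_isSurjectiveMor _ _
      (repByAlgSpWith_comp hU hFfib hU₀ _ good_isSurjectiveMor.nice stableComp_isSurjectiveMor _ _
        (repByAlgSpWith_comp_equiv _ p eX heX hp') (repByAlgSpWith_fpFst _ y _ hy')) hx₀'
  · exact (whiskerLeftIso (BasedFunctor.comp p eX) (FibCat.fpIso (BasedFunctor.comp x₀ f) y)).trans
      (whiskerRightIso i y)

end Groth.Agent.S12773
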