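import Groth.Statements.S12782
import Groth.Agent.Lib.Helper24.AlgStRep

set_option autoImplicit false
open CategoryTheory AlgebraicGeometry
universe u
open AlgSt

namespace Groth.Agent.S12782

open CategoryTheory AlgebraicGeometry

set_option backward.isDefEq.respectTransparency false
set_option backward.isDefEq.respectTransparency.types false
open Groth.Agent.Lib.Helper24.FibCatFpMap Groth.Agent.Lib.Helper24.FibCatEquiv Groth.Agent.Lib.Helper24.AlgStRep


/-- Consider a 2-commutative square of 1-morphisms of categories fibred in groupoids over `(Sch/S)` with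
vertical arrows `f' : 𝒳' ⟶ 𝒴'`, `f : 𝒳 ⟶ 𝒴` and horizontal arrows equivalences over `(Sch/S)`. Then
`f` is representable by algebraic spaces with property `P` if and only if `f'` is. (The published
statement assumes `P` stable under base change and fppf local on the base; this row holds for every
property `P`.) -/
theorem result {S : Scheme.{u}} {𝒳 𝒴 𝒳' 𝒴' : AlgSt.Cat S}
    (h𝒳 : FibCat.IsFibGrpd 𝒳.p) (h𝒴 : FibCat.IsFibGrpd 𝒴.p) (h𝒳' : FibCat.IsFibGrpd 𝒳'.p) (h𝒴' : FibCat.IsFibGrpd 𝒴'.p)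
    (P : MorphismProperty (AlgSp.Sp S)) (f : 𝒳 ⥤ᵇ 𝒴) (f' : 𝒳' ⥤ᵇ 𝒴') (a : 𝒳' ⥤ᵇ 𝒳) (b : 𝒴' ⥤ᵇ 𝒴)
    (ha : FibCat.IsEquivOver a) (hb : FibCat.IsEquivOver b) (e : BasedFunctor.comp f' b ≅ BasedFunctor.comp a f) :
    AlgSt.RepByAlgSpWith P f ↔ AlgSt.RepByAlgSpWith P f' := by
  obtain ⟨⟨_, _⟩, -⟩ := props_of_isEquivOver b hb
  have hid : ∀ U : Over S, FibCat.IsEquivOver (BasedFunctor.id (FibCat.overCat U)) := fun U =>
    ⟨BasedFunctor.id _, ⟨Iso.refl _⟩, ⟨Iso.refl _⟩⟩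
  constructor
  · intro hf U G'
    let eF : BasedFunctor.comp G' b ≅
        BasedFunctor.comp (BasedFunctor.id (FibCat.overCat U)) (BasedFunctor.comp G' b) := Iso.refl _
    have hM := isEquivOver_fpMap (BasedFunctor.id (FibCat.overCat U)) a b eF e (hid U) ha
    exact (exists_rep_iff_of_isEquivOver P _ hM (FibCat.fpFst (BasedFunctor.comp G' b) f)
      (FibCat.fpFst G' f') (Iso.refl _)).1 (hf U (BasedFunctor.comp G' b))
  · intro hf' U G
    obtain ⟨b', ⟨β1⟩, ⟨β⟩⟩ := hb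
    let G₀ : FibCat.overCat U ⟶ 𝒴 := G
    let b₀ : 𝒴' ⟶ 𝒴 := b
    let b'₀ : 𝒴 ⟶ 𝒴' := b'
    let β₀ : b'₀ ≫ b₀ ≅ 𝟙 𝒴 := β
    let eF0 : (G₀ ≫ b'₀) ≫ b₀ ≅ 𝟙 (FibCat.overCat U) ≫ G₀ :=
      Bicategory.associator G₀ b'₀ b₀ ≪≫ Bicategory.whiskerLeftIso G₀ β₀ ≪≫
        Bicategory.rightUnitor G₀ ≪≫ (Bicategory.leftUnitor G₀).symm
    let eF : BasedFunctor.comp (BasedFunctor.comp G b') b ≅
        BasedFunctor.comp (BasedFunctor.id (FibCat.overCat U)) G := eF0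
    have hM := isEquivOver_fpMap (BasedFunctor.id (FibCat.overCat U)) a b eF e (hid U) ha
    exact (exists_rep_iff_of_isEquivOver P _ hM (FibCat.fpFst G f)
      (FibCat.fpFst (BasedFunctor.comp G b') f') (Iso.refl _)).2 (hf' U (BasedFunctor.comp G b'))

end Groth.Agent.S12782
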