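import Groth.Statements.S12783
import Groth.Agent.Lib.Helper24.FibCatYoneda

set_option autoImplicit false
open CategoryTheory CategoryTheory.Limits
universe v u
open FibCat

namespace Groth.Agent.S12783

open CategoryTheory CategoryTheory.Limits

set_option backward.isDefEq.respectTransparency false
set_option backward.isDefEq.respectTransparency.types false
open FibCat
open Groth.Agent.Lib.Helper24.FibCatFpGen Groth.Agent.Lib.Helper24.FibGrpd
open Groth.Agent.Lib.Helper24.FibCatRepDiag Groth.Agent.Lib.Helper24.FibCatYoneda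
open Groth.Agent.Lib.Helper24.FibCatRep

noncomputable section

variable {C : Type u} [Category.{v} C] {U X Y : C} (f : X ⟶ Y)
  (G : FibCat.overCat U ⥤ᵇ FibCat.overCat Y)

lemma G_left (a : Over U) : (G.toFunctor.obj a).left = a.left := G.w_obj a

def gOf : U ⟶ Y :=
  eqToHom (G_left G (Over.mk (𝟙 U))).symm ≫ (G.toFunctor.obj (Over.mk (𝟙 U))).hom

lemma G_map_left {a b : Over U} (m : a ⟶ b) :
    (G.toFunctor.map m).left = eqToHom (G_left G a) ≫ m.left ≫ eqToHom (G_left G b).symm := by
  have h : (FibCat.overCat Y).p.IsHomLift m.left (G.toFunctor.map m) :=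
    map_lift G _ _ (over_lift_self m)
  exact over_lift_left _ _ h

lemma G_hom (a : Over U) :
    (G.toFunctor.obj a).hom = eqToHom (G_left G a) ≫ a.hom ≫ gOf G := by
  have h1 := Over.w (G.toFunctor.map (tOf a))
  rw [← h1, G_map_left, gOf]
  simp [tOf_left]

variable [HasPullbacks C]

abbrev FP := FibCat.fp G (overMap f)

def tFst : Over U := Over.mk (pullback.fst (gOf G) f)
def tSnd : Over X := Over.mk (pullback.snd (gOf G) f)

lemma tLeft : (G.toFunctor.obj (tFst f G)).left = ((overMap f).toFunctor.obj (tSnd f G)).left :=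
  G_left G (tFst f G)

def tIso : G.toFunctor.obj (tFst f G) ≅ (overMap f).toFunctor.obj (tSnd f G) :=
  Over.isoMk (eqToIso (tLeft f G)) (by
    rw [eqToIso.hom, G_hom G]
    change eqToHom _ ≫ (pullback.snd (gOf G) f ≫ f) = eqToHom _ ≫ pullback.fst (gOf G) f ≫ gOf G
    rw [pullback.condition])

lemma tIso_hom_left : (tIso f G).hom.left = eqToHom (tLeft f G) := rfl

def T : (FP f G).obj :=
  mkObj (tFst f G) (tSnd f G) (tIso f G)
    (by
      have := over_lift_id (tIso f G).hom (tLeft f G) (tIso_hom_left f G)
      rw [G_left] at this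
      exact this)

lemma T_fst : (T f G).obj.fst = tFst f G := rfl
lemma T_snd : (T f G).obj.snd = tSnd f G := rfl
lemma T_iso : (T f G).obj.iso = tIso f G := rfl

section
variable (z : (FP f G).obj)

lemma hab : z.obj.fst.left = z.obj.snd.left := p_eq G (overMap f) z

lemma iso_left_dom : (G.toFunctor.obj z.obj.fst).left = z.obj.snd.left :=
  (G_left G _).trans (hab f G z)

lemma iso_hom_left : z.obj.iso.hom.left = eqToHom (iso_left_dom f G z) := by
  have h : (FibCat.overCat Y).p.IsHomLift (𝟙 z.obj.fst.left) z.obj.iso.hom := iso_isHomLift G (overMap f) z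
  have := over_lift_left _ _ h
  rw [this]
  simp

lemma compat : z.obj.fst.hom ≫ gOf G = eqToHom (hab f G z) ≫ z.obj.snd.hom ≫ f := by
  have h1 := Over.w z.obj.iso.hom
  rw [iso_hom_left, G_hom G] at h1
  change eqToHom _ ≫ (z.obj.snd.hom ≫ f) = _ at h1
  have h2 := congrArg (fun t => eqToHom (G_left G z.obj.fst).symm ≫ t) h1
  simp only [eqToHom_trans_assoc, eqToHom_refl, Category.id_comp] at h2
  exact h2.symm

def lft : z.obj.fst.left ⟶ pullback (gOf G) f :=
  pullback.lift z.obj.fst.hom (eqToHom (hab f G z) ≫ z.obj.snd.hom) (by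
    rw [compat f G z]; simp)

def m1 : z.obj.fst ⟶ tFst f G := Over.homMk (lft f G z) (pullback.lift_fst _ _ _)
def m2 : z.obj.snd ⟶ tSnd f G := Over.homMk (eqToHom (hab f G z).symm ≫ lft f G z) (by
  change (eqToHom _ ≫ lft f G z) ≫ pullback.snd _ _ = _
  rw [Category.assoc, lft, pullback.lift_snd]; simp)

lemma m1_left : (m1 f G z).left = lft f G z := rfl
lemma m2_left : (m2 f G z).left = eqToHom (hab f G z).symm ≫ lft f G z := rfl

def toT : z ⟶ T f G :=
  mkHom (m1 f G z) (m2 f G z) (by
    apply Over.OverMorphism.ext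
    change (G.toFunctor.map (m1 f G z)).left ≫ (tIso f G).hom.left =
      z.obj.iso.hom.left ≫ (m2 f G z).left
    rw [G_map_left, tIso_hom_left, iso_hom_left, m1_left, m2_left]
    simp)

lemma uniq (m : z ⟶ T f G) : m = toT f G z := by
  have hs : (FibCat.overCat X).p.IsHomLift m.hom.fst.left m.hom.snd :=
    FibCat.fp_isHomLift_snd G (overMap f) m
  have hsl : m.hom.snd.left = eqToHom (hab f G z).symm ≫ m.hom.fst.left :=
    over_left_of_lift m.hom.snd m.hom.fst.left hs (hab f G z).symm
  have e1 : m.hom.fst.left = lft f G z := by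
    apply pullback.hom_ext
    · rw [lft, pullback.lift_fst]
      exact Over.w m.hom.fst
    · rw [lft, pullback.lift_snd]
      have h2 := Over.w m.hom.snd
      rw [hsl] at h2
      change (eqToHom _ ≫ m.hom.fst.left) ≫ pullback.snd (gOf G) f = _ at h2
      rw [← h2]
      simp
  apply hom_ext'
  · apply Over.OverMorphism.ext
    exact e1
  · apply Over.OverMorphism.ext
    rw [hsl, e1]
    rfl

end

def isTerminalT : IsTerminal (T f G) :=
  IsTerminal.ofUniqueHom (fun z => toT f G z) (fun z m => uniq f G z m)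

end


/-- For a morphism `f : X ⟶ Y` in a category `C` with fibre products, the induced functor `C/X ⟶ C/Y`
over `C` is a representable 1-morphism. (The published statement is for schemes over a base; this
row holds in any category with fibre products.) -/
theorem result {C : Type u} [Category.{v} C] [HasPullbacks C] {X Y : C} (f : X ⟶ Y) :
    FibCat.IsRepresentable1 (⟨Over.map f, Over.mapForget_eq f⟩ : FibCat.overCat X ⥤ᵇ FibCat.overCat Y) := by
  intro U G
  have hG : ∀ V : C, FibCat.IsFibGrpd (FibCat.overCat V).p := fun V =>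
    (Groth.Agent.Lib.Helper24.FibSet.isFibSet_overForget V).1
  have h1 : FibCat.IsFibGrpd (FibCat.fp G (overMap f)).p := isFibGrpd_fp G (overMap f) (hG U) (hG X) (hG Y)
  exact isRepresentable_of_isTerminal h1 (isTerminalT f G)

end Groth.Agent.S12783
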