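import Groth.Statements.S12784
import Groth.Agent.Lib.Helper24.FibCatFpMap
import Groth.Agent.Lib.Helper24.FibCatEquiv3

set_option autoImplicit false
open CategoryTheory CategoryTheory.Limits
universe v u
open FibCat

namespace Groth.Agent.S12784

open CategoryTheory
open Groth.Agent.Lib.Helper24.FibCatFpMap Groth.Agent.Lib.Helper24.FibCatEquiv


/-- Consider a 2-commutative square of functors over `C` with vertical arrows `f' : 𝒳' ⟶ 𝒴'`, `f : 𝒳 ⟶
𝒴` and horizontal arrows equivalences over `C`. Then `f` is a representable 1-morphism if and only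
if `f'` is. (The published statement is for categories fibred in groupoids over schemes over a base;
this row is stated for categories over any base category.) -/
theorem result {C : Type u} [Category.{v} C] {𝒳 𝒴 𝒳' 𝒴' : BasedCategory.{v, max u v} C}
    (f : 𝒳 ⥤ᵇ 𝒴) (f' : 𝒳' ⥤ᵇ 𝒴') (a : 𝒳' ⥤ᵇ 𝒳) (b : 𝒴' ⥤ᵇ 𝒴)
    (ha : FibCat.IsEquivOver a) (hb : FibCat.IsEquivOver b) (e : BasedFunctor.comp f' b ≅ BasedFunctor.comp a f) :
    FibCat.IsRepresentable1 f ↔ FibCat.IsRepresentable1 f' := by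
  obtain ⟨⟨_, _⟩, -⟩ := props_of_isEquivOver b hb
  have hid : ∀ U : C, FibCat.IsEquivOver (BasedFunctor.id (FibCat.overCat U)) := fun U =>
    ⟨BasedFunctor.id _, ⟨Iso.refl _⟩, ⟨Iso.refl _⟩⟩
  constructor
  · intro hf U G'
    let eF : BasedFunctor.comp G' b ≅
        BasedFunctor.comp (BasedFunctor.id (FibCat.overCat U)) (BasedFunctor.comp G' b) := Iso.refl _
    have hM := isEquivOver_fpMap (BasedFunctor.id (FibCat.overCat U)) a b eF e (hid U) ha
    exact isRepresentable_of_isEquivOver _ hM (hf U (BasedFunctor.comp G' b))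
  · intro hf' U G
    obtain ⟨b', ⟨β1⟩, ⟨β⟩⟩ := hb
    let G₀ : FibCat.overCat U ⟶ 𝒴 := G
    let b₀ : 𝒴' ⟶ 𝒴 := b
    let b'₀ : 𝒴 ⟶ 𝒴' := b'
    let β₀ : b'₀ ≫ b₀ ≅ 𝟙 𝒴 := β
    let eF0 : (G₀ ≫ b'₀) ≫ b₀ ≅ 𝟙 (FibCat.overCat U) ≫ G₀ :=
      Bicategory.associator G₀ b'₀ b₀ ≪≫ Bicategory.whiskerLeftIso G₀ β₀ ≪≫
        Bicategory.rightUnitor G₀ ≪≫ (Bicategory.leftUnitor G₀).symm
    let eF : BasedFunctor.comp (BasedFunctor.comp G b') b ≅
        BasedFunctor.comp (BasedFunctor.id (FibCat.overCat U)) G := eF0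
    have hM := isEquivOver_fpMap (BasedFunctor.id (FibCat.overCat U)) a b eF e (hid U) ha
    exact (isRepresentable_iff_of_isEquivOver _ hM).1 (hf' U (BasedFunctor.comp G b'))

end Groth.Agent.S12784
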