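import Groth.Statements.S12785
import Groth.Agent.Lib.Helper24.FibCatFpPaste
import Groth.Agent.Lib.Helper24.FibCatFpMap

set_option autoImplicit false
open CategoryTheory CategoryTheory.Limits
universe v u
open FibCat

namespace Groth.Agent.S12785

open CategoryTheory
open Groth.Agent.Lib.Helper24.FibCatFpPaste Groth.Agent.Lib.Helper24.FibCatEquiv
open Groth.Agent.Lib.Helper24.FibCatFpMap


/-- The composite of two representable 1-morphisms `f : 𝒳 ⟶ 𝒴`, `g : 𝒴 ⟶ 𝒵` of categories over `C` is a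
representable 1-morphism. (The published statement is for categories fibred in groupoids over
schemes over a base; this row is stated for categories over any base category.) -/
theorem result {C : Type u} [Category.{v} C] {𝒳 𝒴 𝒵 : BasedCategory.{v, max u v} C}
    (f : 𝒳 ⥤ᵇ 𝒴) (g : 𝒴 ⥤ᵇ 𝒵) (hf : FibCat.IsRepresentable1 f) (hg : FibCat.IsRepresentable1 g) :
    FibCat.IsRepresentable1 (BasedFunctor.comp f g) := by
  intro U G
  obtain ⟨V, E, hE⟩ := hg U G
  obtain ⟨E', hE'⟩ := exists_inverse_isEquivOver E hE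
  have h1 := hf V (BasedFunctor.comp E' (FibCat.fpSnd G g))
  have i1 : (BasedFunctor.id 𝒴).toFunctor.Full := inferInstanceAs (𝟭 𝒴.obj).Full
  have i2 : (BasedFunctor.id 𝒴).toFunctor.Faithful := inferInstanceAs (𝟭 𝒴.obj).Faithful
  have hid : FibCat.IsEquivOver (BasedFunctor.id 𝒳) := ⟨BasedFunctor.id _, ⟨Iso.refl _⟩, ⟨Iso.refl _⟩⟩
  let eF : BasedFunctor.comp (BasedFunctor.comp E' (FibCat.fpSnd G g)) (BasedFunctor.id 𝒴) ≅
      BasedFunctor.comp E' (FibCat.fpSnd G g) := Iso.refl _
  let eG : BasedFunctor.comp f (BasedFunctor.id 𝒴) ≅ BasedFunctor.comp (BasedFunctor.id 𝒳) f :=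
    Iso.refl _
  have hM := isEquivOver_fpMap E' (BasedFunctor.id 𝒳) (BasedFunctor.id 𝒴) eF eG hE' hid
  have h2 := (isRepresentable_iff_of_isEquivOver _ hM).1 h1
  exact (isRepresentable_iff_of_isEquivOver (Q f g G) isEquivOver_Q).1 h2

end Groth.Agent.S12785
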