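import Groth.Statements.S12791
import Groth.Agent.Lib.Helper24.AlgStFaithRep
import Groth.Agent.Lib.Helper24.FibCatInertiaEquiv

set_option autoImplicit false
open CategoryTheory AlgebraicGeometry
universe u
open AlgSt

namespace Groth.Agent.S12791

open Groth.Agent.Lib.Helper24


/-- (2) ⇔ (3): for an algebraic stack `𝒳` over `S`, the canonical 1-morphism `I_𝒳 ⟶ 𝒳` from the inertia
is an equivalence over `(Sch/S)` if and only if `𝒳` is representable by an algebraic space. -/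
theorem result {S : Scheme.{u}} {𝒳 : AlgSt.Cat S}
    (h𝒳 : AlgSt.IsAlgStack Scheme.fppfPrecoverage 𝒳) :
    FibCat.IsEquivOver (FibCat.inertiaToBase (FibCat.toSelf 𝒳)) ↔ AlgSt.RepByAlgSp 𝒳 := by
  constructor
  · intro h
    exact AlgStFaithRep.repByAlgSp_of_isAlgStack_of_isFibSetoid h𝒳
      (FibCatInertia.isFibSetoid_of_isEquivOver_inertiaToBase h𝒳.isStack.1 h)
  · intro h
    have hs := AlgStSetoid.isFibSetoid_of_repByAlgSp h
    rw [FibCatInertiaEquiv.isEquivOver_inertiaToBase_iff]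
    intro x
    have hl := FibCatInertia.aut_isHomLift (FibCat.toSelf 𝒳) x
    have hid : 𝒳.p.IsHomLift (𝟙 (𝒳.p.obj x.pt)) (𝟙 x.pt) := IsHomLift.id rfl
    exact FibSetoid.hom_ext_of_isFibSetoid 𝒳.p hs (𝟙 (𝒳.p.obj x.pt)) x.aut.hom (𝟙 x.pt)

end Groth.Agent.S12791
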