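import Groth.Statements.S12794
import Groth.Agent.Lib.Helper24.StkSub

set_option autoImplicit false
open CategoryTheory
universe w v u
open Stk

namespace Groth.Agent.S12794

open CategoryTheory
open Groth.Agent.Lib.Helper24.StkSub Groth.Agent.Lib.Helper24.FibCatYoneda Groth.Agent.Lib.Helper24.FibGrpd
open Groth.Agent.Lib.Helper24.FibCatRepDiag Groth.Agent.Lib.Helper24.StkEquiv Groth.Agent.Lib.Helper24.FibCatEquiv
open Groth.Agent.Lib.Helper24.FibCatFpMap

set_option backward.isDefEq.respectTransparency false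
set_option backward.isDefEq.respectTransparency.types false

section
variable {C : Type u} [Category.{v} C] {𝒳 𝒴 : BasedCategory.{v, max u v} C} (F : 𝒳 ⥤ᵇ 𝒴)

/-- the strict essential image of `F` (up to isomorphisms over identities) -/
def EI : ObjectProperty 𝒴.obj := fun y =>
  ∃ (x : 𝒳.obj) (e : F.toFunctor.obj x ≅ y), 𝒴.p.IsHomLift (𝟙 (𝒴.p.obj y)) e.hom

lemma EI_of_isoQ {y : 𝒴.obj} (h : IsoQ (EI F) y) : EI F y := by
  obtain ⟨y', e', ⟨x, e, he⟩, he'⟩ := h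
  have hyy' : 𝒴.p.obj y = 𝒴.p.obj y' :=
    (IsHomLift.codomain_eq 𝒴.p (𝟙 (𝒴.p.obj y)) e'.hom).symm
  have he'inv : 𝒴.p.IsHomLift (𝟙 (𝒴.p.obj y)) e'.inv := IsHomLift.lift_id_inv (p := 𝒴.p) _ e'
  have he2 : 𝒴.p.IsHomLift (𝟙 (𝒴.p.obj y)) e.hom := lift_of_eq 𝒴.p hyy'.symm _ he
  refine ⟨x, e ≪≫ e'.symm, ?_⟩
  exact IsHomLift.comp_lift_id_left' (p := 𝒴.p) (𝒴.p.obj y) e.hom (𝟙 _) e'.inv

/-- `F` corestricted to its strict essential image -/
def F' : 𝒳 ⥤ᵇ sub (EI F) where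
  toFunctor := (EI F).lift F.toFunctor (fun x => ⟨x, Iso.refl _, IsHomLift.id rfl⟩)
  w := F.w

instance [F.toFunctor.Full] : (F' F).toFunctor.Full :=
  inferInstanceAs ((EI F).lift F.toFunctor _).Full
instance [F.toFunctor.Faithful] : (F' F).toFunctor.Faithful :=
  inferInstanceAs ((EI F).lift F.toFunctor _).Faithful

noncomputable def liftDataF' : LiftData (F' F) where
  ξ q := q.property.choose
  e q := (EI F).isoMk q.property.choose_spec.choose
  he q := by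
    rw [isHomLift_sub_iff]
    exact q.property.choose_spec.choose_spec

theorem isEquivOver_F' [F.toFunctor.Full] [F.toFunctor.Faithful] : FibCat.IsEquivOver (F' F) :=
  isEquivOver_of_liftData (liftDataF' F)

end


/-- Let `𝒳`, `𝒴` be stacks in groupoids over `C` for the topology `J` and `F : 𝒳 ⟶ 𝒴` a functor over `C`
whose underlying functor is fully faithful. Then `F` is an equivalence over `C` if and only if every
object `y` of `𝒴` is locally in the essential image: there is a covering sieve `R` of the object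
under `y` such that for every arrow `f` of `R` some object `x` of `𝒳` has a morphism `F x ⟶ y` lying
over `f` (equivalently, the pullback of `y` along `f` is isomorphic in its fibre to an object in the
image of `F`). (The published statement is for stacks over the site, not necessarily in groupoids,
and 1-morphisms of stacks; this row treats stacks in groupoids.) -/
theorem result {C : Type u} [Category.{v} C] (J : GrothendieckTopology C) {𝒳 𝒴 : BasedCategory.{v, max u v} C}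
    (h𝒳 : Stk.IsStack J 𝒳) (h𝒴 : Stk.IsStack J 𝒴) (F : 𝒳 ⥤ᵇ 𝒴) [F.toFunctor.Full] [F.toFunctor.Faithful] :
    FibCat.IsEquivOver F ↔
      ∀ y : 𝒴.obj, ∃ R ∈ J (𝒴.p.obj y), ∀ ⦃V : C⦄ (f : V ⟶ 𝒴.p.obj y), R f →
        ∃ (x : 𝒳.obj) (φ : F.obj x ⟶ y), 𝒴.p.IsHomLift f φ := by
  constructor
  · intro hF y
    refine ⟨⊤, J.top_mem _, fun V f _ => ?_⟩
    obtain ⟨ξ, e, he⟩ := (props_of_isEquivOver F hF).2 y
    have hξ : 𝒳.p.obj ξ = 𝒴.p.obj y := by
      rw [← F.w_obj ξ]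
      exact IsHomLift.domain_eq 𝒴.p (𝟙 (𝒴.p.obj y)) e.hom
    obtain ⟨x', ψ, hψ⟩ := h𝒳.1.exists_lift (x := ξ) (f ≫ eqToHom hξ.symm)
    have hψ' : 𝒳.p.IsHomLift f ψ := (IsHomLift.lift_comp_eqToHom_iff _ _ _ _).mp hψ
    have h1 : 𝒴.p.IsHomLift f (F.toFunctor.map ψ) := inferInstance
    exact ⟨x', F.toFunctor.map ψ ≫ e.hom,
      IsHomLift.comp_lift_id_right' (p := 𝒴.p) f (F.toFunctor.map ψ) (𝒴.p.obj y) e.hom⟩
  · intro hloc
    have hG := h𝒴.1
    have hfib : 𝒴.p.IsFibered := isFibered_of_isFibGrpd 𝒴.p hG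
    have hF' := isEquivOver_F' F
    have h𝒴' : Stk.IsStack J (sub (EI F)) := (isStack_iff J (F' F) hF').1 h𝒳
    have key : ∀ y : 𝒴.obj, EI F y := by
      intro y
      obtain ⟨R, hR, hloc⟩ := hloc y
      let Y : FibCat.overCat (𝒴.p.obj y) ⥤ᵇ 𝒴 := pbBased (rfl : 𝒴.p.obj y = 𝒴.p.obj y)
      let K : Stk.sieveCat R ⥤ᵇ 𝒴 := BasedFunctor.comp (Stk.sieveIncl R) Y
      have hK : ∀ a : (Stk.sieveCat R).obj, IsoQ (EI F) (K.toFunctor.obj a) := by
        intro a
        obtain ⟨x, φ, hφ⟩ := hloc a.obj.hom a.property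
        have hs : 𝒴.p.IsStronglyCartesian a.obj.hom (pbMap (rfl : 𝒴.p.obj y = 𝒴.p.obj y) a.obj) :=
          inferInstance
        let χ : F.toFunctor.obj x ⟶ pbObj (rfl : 𝒴.p.obj y = 𝒴.p.obj y) a.obj :=
          Functor.IsStronglyCartesian.map 𝒴.p a.obj.hom (pbMap rfl a.obj)
            (show a.obj.hom = 𝟙 a.obj.left ≫ a.obj.hom by simp) φ
        have hχl : 𝒴.p.IsHomLift (𝟙 a.obj.left) χ :=
          Functor.IsStronglyCartesian.map_isHomLift 𝒴.p a.obj.hom (pbMap rfl a.obj)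
            (show a.obj.hom = 𝟙 a.obj.left ≫ a.obj.hom by simp) φ
        have hχi : IsIso χ := isIso_of_isFibGrpd 𝒴.p hG (𝟙 a.obj.left) χ
        have hχl2 : 𝒴.p.IsHomLift (𝟙 a.obj.left) (asIso χ).hom := hχl
        have hinv : 𝒴.p.IsHomLift (𝟙 a.obj.left) (asIso χ).inv :=
          IsHomLift.lift_id_inv (p := 𝒴.p) _ (asIso χ)
        have hproj : 𝒴.p.obj (pbObj (rfl : 𝒴.p.obj y = 𝒴.p.obj y) a.obj) = a.obj.left :=
          pbObj_proj rfl a.obj
        refine ⟨F.toFunctor.obj x, (asIso χ).symm, ⟨x, Iso.refl _, IsHomLift.id rfl⟩, ?_⟩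
        exact lift_of_eq 𝒴.p hproj.symm _ hinv
      let K' : Stk.sieveCat R ⥤ᵇ sub (EI F) := factor K hK
      let φK : BasedFunctor.comp K' (incl (EI F)) ≅ K := factorIso K hK
      have hE' : (Stk.restr (Stk.sieveIncl R) (sub (EI F))).IsEquivalence := h𝒴'.2 R hR
      have hE : (Stk.restr (Stk.sieveIncl R) 𝒴).IsEquivalence := h𝒴.2 R hR
      let H' : FibCat.overCat (𝒴.p.obj y) ⥤ᵇ sub (EI F) :=
        (Stk.restr (Stk.sieveIncl R) (sub (EI F))).objPreimage K'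
      let θ : (Stk.restr (Stk.sieveIncl R) (sub (EI F))).obj H' ≅ K' :=
        (Stk.restr (Stk.sieveIncl R) (sub (EI F))).objObjPreimageIso K'
      let e1 : (Stk.restr (Stk.sieveIncl R) 𝒴).obj (BasedFunctor.comp H' (incl (EI F))) ≅
          (Stk.restr (Stk.sieveIncl R) 𝒴).obj Y :=
        ((sqIso (Stk.sieveIncl R) (incl (EI F))).app H').symm ≪≫
          (postcompF (Stk.sieveCat R) (incl (EI F))).mapIso θ ≪≫ φK
      let ε : BasedFunctor.comp H' (incl (EI F)) ≅ Y :=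
        (Stk.restr (Stk.sieveIncl R) 𝒴).preimageIso e1
      let εid := appIso ε (Over.mk (𝟙 (𝒴.p.obj y)))
      have hεid : 𝒴.p.IsHomLift (𝟙 (𝒴.p.obj y)) εid.hom := appIso_hom_isHomLift ε _ rfl
      have hpi : IsIso (pbMap (rfl : 𝒴.p.obj y = 𝒴.p.obj y) (Over.mk (𝟙 (𝒴.p.obj y)))) :=
        pbMap_id_isIso rfl
      have hpl : 𝒴.p.IsHomLift (𝟙 (𝒴.p.obj y))
          (pbMap (rfl : 𝒴.p.obj y = 𝒴.p.obj y) (Over.mk (𝟙 (𝒴.p.obj y)))) := pbMap_id_lift rfl
      apply EI_of_isoQ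
      let q := H'.toFunctor.obj (Over.mk (𝟙 (𝒴.p.obj y)))
      let ey : q.obj ≅ y := εid ≪≫ asIso (pbMap (rfl : 𝒴.p.obj y = 𝒴.p.obj y) (Over.mk (𝟙 (𝒴.p.obj y))))
      have hey : 𝒴.p.IsHomLift (𝟙 (𝒴.p.obj y)) ey.hom :=
        IsHomLift.comp_lift_id_left' (p := 𝒴.p) (𝒴.p.obj y) εid.hom (𝟙 _)
          (pbMap (rfl : 𝒴.p.obj y = 𝒴.p.obj y) (Over.mk (𝟙 (𝒴.p.obj y))))
      have heyinv : 𝒴.p.IsHomLift (𝟙 (𝒴.p.obj y)) ey.symm.hom :=
        IsHomLift.lift_id_inv (p := 𝒴.p) _ ey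
      exact ⟨q.obj, ey.symm, q.property, heyinv⟩
    have D : LiftData F :=
      ⟨fun y => (key y).choose, fun y => (key y).choose_spec.choose,
        fun y => (key y).choose_spec.choose_spec⟩
    exact isEquivOver_of_liftData D

end Groth.Agent.S12794
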