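import Groth.Statements.S12795
import Groth.Agent.Lib.Helper24.StkSub

set_option autoImplicit false
open CategoryTheory
universe w v u
open Stk

namespace Groth.Agent.S12795

open CategoryTheory
open Groth.Agent.Lib.Helper24.StkSub Groth.Agent.Lib.Helper24.FibCatYoneda Groth.Agent.Lib.Helper24.FibGrpd
open Groth.Agent.Lib.Helper24.FibCatRepDiag

set_option backward.isDefEq.respectTransparency false
set_option backward.isDefEq.respectTransparency.types false


/-- Let `𝒳` be a stack in groupoids over `C` for the topology `J` and `Q` a property of objects of `𝒳`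
such that (1) for every morphism `y ⟶ x` of `𝒳` whose target satisfies `Q`, `y` is isomorphic, by an
isomorphism lying over an identity, to an object satisfying `Q`, and (3) for every covering sieve
`R` on `U` and every object `x` over `U`: if every source of a morphism to `x` lying over an arrow
of `R` is isomorphic over an identity to an object satisfying `Q`, then so is `x`. Then the full
subcategory of `𝒳` on `Q`, with the restricted structure functor, is a stack in groupoids for `J`.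
(The published statement has a further condition (2), fullness of the subcategory, which is built
into the full subcategory here; and its word isomorphic is read as isomorphic by an isomorphism
lying over an identity; the published statement is for stacks that are not necessarily in groupoids,
this row treats stacks in groupoids.) -/
theorem result {C : Type u} [Category.{v} C] (J : GrothendieckTopology C) {𝒳 : BasedCategory.{v, max u v} C}
    (h𝒳 : Stk.IsStack J 𝒳) (Q : ObjectProperty 𝒳.obj)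
    (h1 : ∀ ⦃y x : 𝒳.obj⦄ (φ : y ⟶ x), Q x → ∃ (y' : 𝒳.obj) (e : y ≅ y'), Q y' ∧ 𝒳.p.IsHomLift (𝟙 (𝒳.p.obj y)) e.hom)
    (h3 : ∀ ⦃U : C⦄ (R : Sieve U), R ∈ J U → ∀ (x : 𝒳.obj), 𝒳.p.obj x = U →
      (∀ ⦃V : C⦄ (f : V ⟶ U), R f → ∀ (y : 𝒳.obj) (φ : y ⟶ x), 𝒳.p.IsHomLift f φ →
        ∃ (y' : 𝒳.obj) (e : y ≅ y'), Q y' ∧ 𝒳.p.IsHomLift (𝟙 V) e.hom) →
      ∃ (x' : 𝒳.obj) (e : x ≅ x'), Q x' ∧ 𝒳.p.IsHomLift (𝟙 U) e.hom) :
    Stk.IsStack J (BasedCategory.ofFunctor (Q.ι ⋙ 𝒳.p)) := by
  have hG := h𝒳.1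
  refine ⟨isFibGrpd_sub hG h1, fun U R hR => ?_⟩
  have hE : (Stk.restr (Stk.sieveIncl R) 𝒳).IsEquivalence := h𝒳.2 R hR
  have hglue : ∀ (H : FibCat.overCat U ⥤ᵇ 𝒳),
      (∀ a : (Stk.sieveCat R).obj, IsoQ Q (H.toFunctor.obj ((Stk.sieveIncl R).toFunctor.obj a))) →
      ∀ b : (FibCat.overCat U).obj, IsoQ Q (H.toFunctor.obj b) := by
    intro H hH b
    let x : 𝒳.obj := H.toFunctor.obj (Over.mk (𝟙 U))
    have hx : 𝒳.p.obj x = U := H.w_obj (Over.mk (𝟙 U))
    obtain ⟨x', e, hQx', he⟩ := h3 R hR x hx (by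
      intro V f hf y φ hφ
      let a : (Stk.sieveCat R).obj := ⟨Over.mk f, hf⟩
      have ha := hH a
      -- the cartesian arrow `H (mk f) ⟶ x`
      have hl : 𝒳.p.IsHomLift f (H.toFunctor.map (tOf (Over.mk f))) := map_tOf_lift H (Over.mk f)
      have hs : 𝒳.p.IsStronglyCartesian f (H.toFunctor.map (tOf (Over.mk f))) :=
        Groth.Agent.Lib.Helper24.FibCatFpGen.scart_of_isFibGrpd 𝒳.p hG _ _
      let χ : y ⟶ H.toFunctor.obj (Over.mk f) :=
        Functor.IsStronglyCartesian.map 𝒳.p f (H.toFunctor.map (tOf (Over.mk f)))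
          (show f = 𝟙 V ≫ f by simp) φ
      have hχl : 𝒳.p.IsHomLift (𝟙 V) χ :=
        Functor.IsStronglyCartesian.map_isHomLift 𝒳.p f (H.toFunctor.map (tOf (Over.mk f)))
          (show f = 𝟙 V ≫ f by simp) φ
      have hχi : IsIso χ := isIso_of_isFibGrpd 𝒳.p hG (𝟙 V) χ
      have hy : 𝒳.p.obj y = V := IsHomLift.domain_eq 𝒳.p f φ
      have hχl' : 𝒳.p.IsHomLift (𝟙 (𝒳.p.obj y)) (asIso χ).hom := lift_of_eq 𝒳.p hy.symm _ hχl
      obtain ⟨y', e', hQ', he'⟩ := isoQ_of_iso Q (asIso χ) hχl' ha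
      exact ⟨y', e', hQ', lift_of_eq 𝒳.p hy _ he'⟩)
    -- now `H b ⟶ x ≅ x'`
    exact h1 (H.toFunctor.map (tOf b) ≫ e.hom) hQx'
  have := restr_sub_faithful Q (Stk.sieveIncl R)
  have := restr_sub_full Q (Stk.sieveIncl R)
  have := restr_sub_essSurj Q (Stk.sieveIncl R) hglue
  exact { }

end Groth.Agent.S12795
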