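import Groth.Statements.S12797
import Groth.Agent.Lib.Helper24.PshStack
import Groth.Agent.Lib.Helper24.StkEquiv

set_option autoImplicit false
open CategoryTheory
universe w v u
open Stk

namespace Groth.Agent.S12797

open CategoryTheory Opposite

set_option backward.isDefEq.respectTransparency false
set_option backward.isDefEq.respectTransparency.types false

/-- slice to elements of the representable presheaf -/
def toElt {C : Type u} [Category.{v} C] (U : C) :
    FibCat.overCat U ⥤ᵇ Stk.ofPsh (yoneda.obj U) where
  toFunctor :=
    { obj := fun a => ⟨a.left, a.hom⟩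
      map := fun {a b} m => ⟨m.left, Over.w m⟩ }
  w := rfl

def ofElt {C : Type u} [Category.{v} C] (U : C) :
    Stk.ofPsh (yoneda.obj U) ⥤ᵇ FibCat.overCat U where
  toFunctor :=
    { obj := fun a => Over.mk a.sec
      map := fun {a b} f => Over.homMk f.hom f.map_sec }
  w := rfl

theorem toElt_isEquivOver {C : Type u} [Category.{v} C] (U : C) : FibCat.IsEquivOver (toElt U) :=
  ⟨ofElt U, ⟨Iso.refl _⟩, ⟨Iso.refl _⟩⟩


/-- For an object `U` of `C`, the slice category `C/U` with its forgetful functor to `C` is a stack in
groupoids for the topology `J` if and only if the representable presheaf `h_U` is a sheaf for `J`. -/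
theorem result {C : Type u} [Category.{v} C] (J : GrothendieckTopology C) (U : C) :
    Stk.IsStack J (FibCat.overCat U) ↔ Presieve.IsSheaf J (yoneda.obj U) := by
  rw [Groth.Agent.Lib.Helper24.StkEquiv.isStack_iff J (toElt U) (toElt_isEquivOver U)]
  exact Groth.Agent.Lib.Helper24.PshStack.isStack_ofPsh_iff J _

end Groth.Agent.S12797
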