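import Groth.Statements.S12798
import Groth.Agent.Lib.Helper24.StkLocal
import Groth.Agent.Lib.Helper24.FibCatFaithful

set_option autoImplicit false
open CategoryTheory
universe w v u
open Stk

namespace Groth.Agent.S12798

open CategoryTheory

set_option backward.isDefEq.respectTransparency false
set_option backward.isDefEq.respectTransparency.types false
open Groth.Agent.Lib.Helper24.FibGrpd Groth.Agent.Lib.Helper24.FibCatFpGen Groth.Agent.Lib.Helper24.StkLocal Groth.Agent.Lib.Helper24.FibCatFaithful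

/-- the local vanishing step: an automorphism `w` of `s` over `𝟙 V` with `G w = 𝟙` is trivial as soon
as `G s` is isomorphic over `𝟙 V` to an object in the image of `F` and `fpFst` is faithful -/
theorem aut_eq_id {C : Type u} [Category.{v} C] {𝒮₁ 𝒮₂ 𝒯₁ : BasedCategory.{v, max u v} C}
    (F : 𝒮₂ ⥤ᵇ 𝒮₁) (G : 𝒯₁ ⥤ᵇ 𝒮₁) (hG' : (FibCat.fpFst F G).toFunctor.Faithful)
    (x : 𝒮₂.obj) (s : 𝒯₁.obj) (κ : F.toFunctor.obj x ≅ G.toFunctor.obj s)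
    (hκ : 𝒮₁.p.IsHomLift (𝟙 (𝒮₂.p.obj x)) κ.hom) (w : s ⟶ s)
    (hw : G.toFunctor.map w = 𝟙 _) : w = 𝟙 s := by
  let z : (FibCat.fp F G).obj := mkObj (F := F) (G := G) x s κ hκ
  let m : z ⟶ z := mkHom (x := z) (y := z) (𝟙 x) w (by
    rw [hw, F.toFunctor.map_id]
    exact (Category.id_comp _).trans (Category.comp_id _).symm)
  have h1 : (FibCat.fpFst F G).toFunctor.map m = (FibCat.fpFst F G).toFunctor.map (𝟙 z) := rfl
  have h2 : m = 𝟙 z := hG'.map_injective h1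
  exact congrArg (fun t => t.hom.snd) h2


/-- Let `𝒮₁`, `𝒮₂`, `𝒯₁` be stacks in groupoids over `C` for the topology `J`, and `F : 𝒮₂ ⟶ 𝒮₁`, `G :
𝒯₁ ⟶ 𝒮₁` functors over `C` such that every object of `𝒮₁` is locally in the essential image of `F`.
If the first projection `𝒮₂ ×_{𝒮₁} 𝒯₁ ⟶ 𝒮₂` of the 2-fibre product over `C` is faithful, then `G` is
faithful. (The published statement is for any 2-cartesian square of stacks in groupoids; this row is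
the case of the explicit 2-fibre product, to which the general case reduces because faithfulness is
invariant under equivalence.) -/
theorem result {C : Type u} [Category.{v} C] (J : GrothendieckTopology C) {𝒮₁ 𝒮₂ 𝒯₁ : BasedCategory.{v, max u v} C}
    (h₁ : Stk.IsStack J 𝒮₁) (h₂ : Stk.IsStack J 𝒮₂) (h₃ : Stk.IsStack J 𝒯₁) (F : 𝒮₂ ⥤ᵇ 𝒮₁) (G : 𝒯₁ ⥤ᵇ 𝒮₁)
    (hF : ∀ y : 𝒮₁.obj, ∃ R ∈ J (𝒮₁.p.obj y), ∀ ⦃V : C⦄ (f : V ⟶ 𝒮₁.p.obj y), R f →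
      ∃ (x : 𝒮₂.obj) (φ : F.obj x ⟶ y), 𝒮₁.p.IsHomLift f φ)
    (hG' : (FibCat.fpFst F G).toFunctor.Faithful) : G.toFunctor.Faithful := by
  obtain ⟨g₁, -⟩ := h₁
  obtain ⟨g₃, s₃⟩ := h₃
  apply faithful_of_aut G g₃ g₁
  intro t u hul hGu
  obtain ⟨R, hR, hloc⟩ := hF (G.toFunctor.obj t)
  have hT : 𝒯₁.p.obj t = 𝒮₁.p.obj (G.toFunctor.obj t) := (G.w_obj t).symm
  have hul' : 𝒯₁.p.IsHomLift (𝟙 (𝒮₁.p.obj (G.toFunctor.obj t))) u := by
    rw [← hT]; exact hul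
  have hE : (Stk.resSieve R 𝒯₁).IsEquivalence := s₃ R hR
  have hfaith : (Stk.resSieve R 𝒯₁).Faithful := inferInstance
  refine hom_ext_of_locally_eq g₃ R hfaith u (𝟙 t) hul' (IsHomLift.id hT) ?_
  intro V f hf
  obtain ⟨x, φ, hφ⟩ := hloc f hf
  obtain ⟨s, ψ, hψ0⟩ := g₃.exists_lift (x := t) (f ≫ eqToHom hT.symm)
  have hψ : 𝒯₁.p.IsHomLift f ψ := (IsHomLift.lift_comp_eqToHom_iff _ _ _ _).mp hψ0
  refine ⟨s, ψ, hψ, ?_⟩
  -- cartesian lifts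
  have hGψ : 𝒮₁.p.IsHomLift f (G.toFunctor.map ψ) := inferInstance
  have hsc1 : 𝒮₁.p.IsStronglyCartesian f (G.toFunctor.map ψ) := scart_of_isFibGrpd 𝒮₁.p g₁ f _
  have hsc3 : 𝒯₁.p.IsStronglyCartesian f ψ := scart_of_isFibGrpd 𝒯₁.p g₃ f _
  obtain ⟨κ, ⟨hκl, hκ⟩, -⟩ := Functor.IsStronglyCartesian.universal_property 𝒮₁.p f
    (G.toFunctor.map ψ) (𝟙 V) f (Category.id_comp _).symm φ
  have hκl' : 𝒮₁.p.IsHomLift (𝟙 V) κ := hκl
  have hκiso : IsIso κ := isIso_of_isFibGrpd 𝒮₁.p g₁ (𝟙 V) κ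
  have hψu : 𝒯₁.p.IsHomLift f (ψ ≫ u) := by
    have := IsHomLift.comp_lift_id_right' (p := 𝒯₁.p) f ψ (𝒮₁.p.obj (G.toFunctor.obj t)) u
    exact this
  obtain ⟨w, ⟨hwl, hw⟩, -⟩ := Functor.IsStronglyCartesian.universal_property 𝒯₁.p f
    ψ (𝟙 V) f (Category.id_comp _).symm (ψ ≫ u)
  have hwl' : 𝒯₁.p.IsHomLift (𝟙 V) w := hwl
  have hGw : G.toFunctor.map w = 𝟙 _ := by
    have l1 : 𝒮₁.p.IsHomLift (𝟙 V) (G.toFunctor.map w) := inferInstance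
    have hV : 𝒮₁.p.obj (G.toFunctor.obj s) = V := IsHomLift.domain_eq 𝒮₁.p f (G.toFunctor.map ψ)
    have l2 : 𝒮₁.p.IsHomLift (𝟙 V) (𝟙 (G.toFunctor.obj s)) := IsHomLift.id hV
    apply Functor.IsStronglyCartesian.ext 𝒮₁.p f (G.toFunctor.map ψ) (𝟙 V)
    rw [← G.toFunctor.map_comp, hw, G.toFunctor.map_comp, hGu, Category.comp_id, Category.id_comp]
  have hxV : 𝒮₂.p.obj x = V := by
    rw [← F.w_obj x]
    exact IsHomLift.domain_eq 𝒮₁.p f φ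
  have hκl'' : 𝒮₁.p.IsHomLift (𝟙 (𝒮₂.p.obj x)) (asIso κ).hom := by
    rw [hxV]; exact hκl'
  have hw1 : w = 𝟙 s := aut_eq_id F G hG' x s (asIso κ) hκl'' w hGw
  rw [← hw, hw1, Category.id_comp, Category.comp_id]

end Groth.Agent.S12798
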