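import Groth.Statements.S12799
import Groth.Agent.Lib.Helper24.StkLocal
import Groth.Agent.Lib.Helper24.FibSetoid

set_option autoImplicit false
open CategoryTheory
universe w v u
open Stk

namespace Groth.Agent.S12799

open CategoryTheory

set_option backward.isDefEq.respectTransparency false
set_option backward.isDefEq.respectTransparency.types false
open Groth.Agent.Lib.Helper24.FibGrpd Groth.Agent.Lib.Helper24.FibCatFpGen Groth.Agent.Lib.Helper24.StkLocal Groth.Agent.Lib.Helper24.FibSetoid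

theorem aut_eq_id {C : Type u} [Category.{v} C] {𝒮₁ 𝒮₂ 𝒯₁ : BasedCategory.{v, max u v} C}
    (F : 𝒮₂ ⥤ᵇ 𝒮₁) [F.toFunctor.Full] (G : 𝒯₁ ⥤ᵇ 𝒮₁) (h : FibCat.IsFibSetoid (FibCat.fp F G).p)
    {V : C} (x : 𝒮₂.obj) (hx : 𝒮₂.p.obj x = V) (s : 𝒯₁.obj)
    (κ : F.toFunctor.obj x ≅ G.toFunctor.obj s)
    (hκ : 𝒮₁.p.IsHomLift (𝟙 V) κ.hom) (w : s ⟶ s) (hw : 𝒯₁.p.IsHomLift (𝟙 V) w) : w = 𝟙 s := by
  have hκ' : 𝒮₁.p.IsHomLift (𝟙 (𝒮₂.p.obj x)) κ.hom := by rw [hx]; exact hκ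
  let z : (FibCat.fp F G).obj := mkObj (F := F) (G := G) x s κ hκ'
  have hκinv : 𝒮₁.p.IsHomLift (𝟙 V) κ.inv := IsHomLift.lift_id_inv (p := 𝒮₁.p) V κ
  have hGw : 𝒮₁.p.IsHomLift (𝟙 V) (G.toFunctor.map w) := inferInstance
  have h1 : 𝒮₁.p.IsHomLift (𝟙 V) (G.toFunctor.map w ≫ κ.inv) := inferInstance
  have h2 : 𝒮₁.p.IsHomLift (𝟙 V) (κ.hom ≫ G.toFunctor.map w ≫ κ.inv) := inferInstance
  let v : x ⟶ x := F.toFunctor.preimage (κ.hom ≫ G.toFunctor.map w ≫ κ.inv)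
  have hv : 𝒮₂.p.IsHomLift (𝟙 V) v := by
    rw [← BasedFunctor.isHomLift_iff F, Functor.map_preimage]; exact h2
  let m : z ⟶ z := mkHom (x := z) (y := z) v w (by
    change F.toFunctor.map v ≫ κ.hom = κ.hom ≫ G.toFunctor.map w
    rw [Functor.map_preimage]; simp)
  have hm : (FibCat.fp F G).p.IsHomLift (𝟙 V) m := by
    rw [isHomLift_iff_fst]; exact hv
  have hid : (FibCat.fp F G).p.IsHomLift (𝟙 V) (𝟙 z) := IsHomLift.id hx
  have h3 : m = 𝟙 z := hom_ext_of_isFibSetoid _ h (𝟙 V) m (𝟙 z)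
  exact congrArg (fun t => t.hom.snd) h3


/-- Let `𝒮₁`, `𝒮₂`, `𝒯₁` be stacks in groupoids over `C` for the topology `J`, `F : 𝒮₂ ⟶ 𝒮₁` a functor
over `C` whose underlying functor is fully faithful and such that every object of `𝒮₁` is locally in
the essential image of `F`, and `G : 𝒯₁ ⟶ 𝒮₁` a functor over `C`. If the 2-fibre product `𝒮₂ ×_{𝒮₁}
𝒯₁` over `C` is fibred in setoids, then `𝒯₁` is fibred in setoids, hence a stack in setoids. (The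
published statement is for any 2-cartesian square of stacks in groupoids; this row is the case of
the explicit 2-fibre product, to which the general case reduces because being fibred in setoids is
invariant under equivalence over `C`.) -/
theorem result {C : Type u} [Category.{v} C] (J : GrothendieckTopology C) {𝒮₁ 𝒮₂ 𝒯₁ : BasedCategory.{v, max u v} C}
    (h₁ : Stk.IsStack J 𝒮₁) (h₂ : Stk.IsStack J 𝒮₂) (h₃ : Stk.IsStack J 𝒯₁) (F : 𝒮₂ ⥤ᵇ 𝒮₁) [F.toFunctor.Full] [F.toFunctor.Faithful]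
    (hF : ∀ y : 𝒮₁.obj, ∃ R ∈ J (𝒮₁.p.obj y), ∀ ⦃V : C⦄ (f : V ⟶ 𝒮₁.p.obj y), R f →
      ∃ (x : 𝒮₂.obj) (φ : F.obj x ⟶ y), 𝒮₁.p.IsHomLift f φ)
    (G : 𝒯₁ ⥤ᵇ 𝒮₁) (h : FibCat.IsFibSetoid (FibCat.fp F G).p) : FibCat.IsFibSetoid 𝒯₁.p := by
  obtain ⟨g₁, -⟩ := h₁
  obtain ⟨g₃, s₃⟩ := h₃
  have key : ∀ (t : 𝒯₁.obj) (u : t ⟶ t), 𝒯₁.p.IsHomLift (𝟙 (𝒯₁.p.obj t)) u → u = 𝟙 t := by
    intro t u hul
    obtain ⟨R, hR, hloc⟩ := hF (G.toFunctor.obj t)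
    have hT : 𝒯₁.p.obj t = 𝒮₁.p.obj (G.toFunctor.obj t) := (G.w_obj t).symm
    have hul' : 𝒯₁.p.IsHomLift (𝟙 (𝒮₁.p.obj (G.toFunctor.obj t))) u := by
      rw [← hT]; exact hul
    have hE : (Stk.resSieve R 𝒯₁).IsEquivalence := s₃ R hR
    have hfaith : (Stk.resSieve R 𝒯₁).Faithful := inferInstance
    refine hom_ext_of_locally_eq g₃ R hfaith u (𝟙 t) hul' (IsHomLift.id hT) ?_
    intro V f hf
    obtain ⟨x, φ, hφ⟩ := hloc f hf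
    obtain ⟨s, ψ, hψ0⟩ := g₃.exists_lift (x := t) (f ≫ eqToHom hT.symm)
    have hψ : 𝒯₁.p.IsHomLift f ψ := (IsHomLift.lift_comp_eqToHom_iff _ _ _ _).mp hψ0
    refine ⟨s, ψ, hψ, ?_⟩
    have hGψ : 𝒮₁.p.IsHomLift f (G.toFunctor.map ψ) := inferInstance
    have hsc1 : 𝒮₁.p.IsStronglyCartesian f (G.toFunctor.map ψ) := scart_of_isFibGrpd 𝒮₁.p g₁ f _
    have hsc3 : 𝒯₁.p.IsStronglyCartesian f ψ := scart_of_isFibGrpd 𝒯₁.p g₃ f _
    obtain ⟨κ, ⟨hκl, hκ⟩, -⟩ := Functor.IsStronglyCartesian.universal_property 𝒮₁.p f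
      (G.toFunctor.map ψ) (𝟙 V) f (Category.id_comp _).symm φ
    have hκl' : 𝒮₁.p.IsHomLift (𝟙 V) κ := hκl
    have hκiso : IsIso κ := isIso_of_isFibGrpd 𝒮₁.p g₁ (𝟙 V) κ
    have hψu : 𝒯₁.p.IsHomLift f (ψ ≫ u) :=
      IsHomLift.comp_lift_id_right' (p := 𝒯₁.p) f ψ (𝒮₁.p.obj (G.toFunctor.obj t)) u
    obtain ⟨w, ⟨hwl, hw⟩, -⟩ := Functor.IsStronglyCartesian.universal_property 𝒯₁.p f
      ψ (𝟙 V) f (Category.id_comp _).symm (ψ ≫ u)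
    have hwl' : 𝒯₁.p.IsHomLift (𝟙 V) w := hwl
    have hxV : 𝒮₂.p.obj x = V := by
      rw [← F.w_obj x]
      exact IsHomLift.domain_eq 𝒮₁.p f φ
    have hw1 : w = 𝟙 s := aut_eq_id F G h x hxV s (asIso κ) hκl' w hwl'
    rw [← hw, hw1, Category.id_comp, Category.comp_id]
  refine ⟨g₃, fun U a b => ⟨fun φ ψ => ?_⟩⟩
  apply Functor.Fiber.hom_ext
  have h1 : 𝒯₁.p.IsHomLift (𝟙 U) (Functor.Fiber.fiberInclusion.map φ) := φ.2
  have h2 : 𝒯₁.p.IsHomLift (𝟙 U) (Functor.Fiber.fiberInclusion.map ψ) := ψ.2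
  have hiso : IsIso (Functor.Fiber.fiberInclusion.map ψ) :=
    isIso_of_isFibGrpd 𝒯₁.p g₃ (𝟙 U) _
  have h3 : 𝒯₁.p.IsHomLift (𝟙 U) (inv (Functor.Fiber.fiberInclusion.map ψ)) := inferInstance
  have h4 : 𝒯₁.p.IsHomLift (𝟙 U)
      (Functor.Fiber.fiberInclusion.map φ ≫ inv (Functor.Fiber.fiberInclusion.map ψ)) :=
    inferInstance
  have ha : 𝒯₁.p.obj (Functor.Fiber.fiberInclusion.obj a) = U := a.2
  have h5 : 𝒯₁.p.IsHomLift (𝟙 (𝒯₁.p.obj (Functor.Fiber.fiberInclusion.obj a)))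
      (Functor.Fiber.fiberInclusion.map φ ≫ inv (Functor.Fiber.fiberInclusion.map ψ)) := by
    rw [ha]; exact h4
  have := key _ _ h5
  rw [← cancel_mono (inv (Functor.Fiber.fiberInclusion.map ψ)), this, IsIso.hom_inv_id]

end Groth.Agent.S12799
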