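import Groth.Statements.S12802
import Groth.Agent.Lib.Helper26.FibGrpdTop

set_option autoImplicit false
open CategoryTheory
universe v u
open Stk

namespace Groth.Agent.S12802

open CategoryTheory
open Groth.Agent.Lib.Helper26.FibGrpdTop

section plain
universe v₂ u₂ v₃ u₃
variable {C : Type u} [Category.{v} C] {𝒳 : Type u₂} [Category.{v₂} 𝒳] {𝒴 : Type u₃} [Category.{v₃} 𝒴]
  (F : 𝒳 ⥤ 𝒴) (q : 𝒴 ⥤ C) [hq : FibCat.IsFibGrpd q] [hp : FibCat.IsFibGrpd (F ⋙ q)]
  (J : GrothendieckTopology C)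

theorem coverPreserving_plain :
    CoverPreserving ((F ⋙ q).restrictedTopology J) (q.restrictedTopology J) F := by
  constructor
  intro x S hS
  rw [mem_restrictedTopology_iff] at hS ⊢
  rw [Sieve.functorPushforward_comp] at hS
  exact hS

theorem isCocontinuous_plain :
    F.IsCocontinuous ((F ⋙ q).restrictedTopology J) (q.restrictedTopology J) := by
  constructor
  intro x T hT
  rw [mem_restrictedTopology_iff] at hT ⊢
  refine J.superset_covering ?_ hT
  rintro V g ⟨y', ψ, a, hψ, e⟩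
  obtain ⟨x', φ, e', hφ⟩ := exists_lift (F ⋙ q) (x := x) (q.map ψ)
  obtain ⟨χ, ⟨-, hχ⟩, -⟩ := existsUnique_factor q ψ (F.map φ) (eqToHom e') hφ.symm
  refine ⟨x', φ, a ≫ eqToHom e'.symm, ?_, ?_⟩
  · change T (F.map φ)
    rw [← hχ]
    exact T.downward_closed hψ χ
  · rw [hφ, e]; simp

include q hq hp in
theorem compatiblePreserving_plain (K : GrothendieckTopology 𝒴) :
    CompatiblePreserving.{max u₂ v₂ u₃ v₃} K F := by
  constructor
  intro ℱ Z T x hx Y₁ Y₂ X f₁ f₂ g₁ g₂ hg₁ hg₂ eq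
  -- lift the base maps of f₁, f₂
  obtain ⟨W₁, w₁, e₁, hw₁⟩ := exists_lift (F ⋙ q) (x := Y₁) (q.map f₁)
  obtain ⟨W₂, w₂, e₂, hw₂⟩ := exists_lift (F ⋙ q) (x := Y₂) (q.map f₂)
  obtain ⟨κ₁, ⟨hκ₁b, hκ₁⟩, -⟩ := existsUnique_factor q (F.map w₁) f₁ (eqToHom e₁.symm) (by
    change _ ≫ (F ⋙ q).map w₁ = _
    rw [hw₁]; simp)
  obtain ⟨κ₂, ⟨hκ₂b, hκ₂⟩, -⟩ := existsUnique_factor q (F.map w₂) f₂ (eqToHom e₂.symm) (by
    change _ ≫ (F ⋙ q).map w₂ = _
    rw [hw₂]; simp)
  -- θ : W₁ ⟶ W₂ over the identity with θ ≫ w₂ ≫ g₂ = w₁ ≫ g₁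
  have hb : (eqToHom (e₁.trans e₂.symm) : (F ⋙ q).obj W₁ ⟶ (F ⋙ q).obj W₂) ≫
      (F ⋙ q).map (w₂ ≫ g₂) = (F ⋙ q).map (w₁ ≫ g₁) := by
    rw [Functor.map_comp, Functor.map_comp, hw₁, hw₂]
    have := congrArg (fun t => q.map t) eq
    simp only [Functor.map_comp] at this
    simp only [Functor.comp_map, Category.assoc, eqToHom_trans_assoc]
    rw [← this]
  obtain ⟨θ, ⟨hθb, hθ⟩, -⟩ := existsUnique_factor (F ⋙ q) (w₂ ≫ g₂) (w₁ ≫ g₁)
    (eqToHom (e₁.trans e₂.symm)) hb
  -- compare κ₁ ≫ F θ with κ₂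
  have hκ : κ₁ ≫ F.map θ = κ₂ := by
    obtain ⟨χ, -, hχu⟩ := existsUnique_factor q (F.map (w₂ ≫ g₂)) (f₂ ≫ F.map g₂)
      (eqToHom e₂.symm) (by
        change _ ≫ (F ⋙ q).map (w₂ ≫ g₂) = _
        rw [Functor.map_comp, Functor.map_comp, hw₂]; simp)
    have h1 := hχu (κ₁ ≫ F.map θ) ⟨by
      rw [Functor.map_comp, hκ₁b]
      change _ ≫ (F ⋙ q).map θ = _
      rw [hθb]; simp, by
      rw [Category.assoc, ← F.map_comp, hθ, F.map_comp, ← Category.assoc, hκ₁, eq]⟩
    have h2 := hχu κ₂ ⟨hκ₂b, by rw [F.map_comp, ← Category.assoc, hκ₂]⟩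
    rw [h1, h2]
  have hc := hx w₁ (θ ≫ w₂) hg₁ hg₂ (by rw [Category.assoc, hθ])
  have := congrArg (ℱ.obj.map κ₁.op) hc
  simp only [Functor.comp_obj, Functor.op_obj, Functor.comp_map, Functor.op_map,
    ← Functor.map_comp_apply, ← op_comp, Quiver.Hom.unop_op] at this
  rw [hκ₁, F.map_comp, ← Category.assoc, hκ, hκ₂] at this
  exact this

end plain


/-- Let `F : 𝒳 ⟶ 𝒴` be a functor over `C` between categories fibred in groupoids over `C` and endow `𝒳`
and `𝒴` with the topologies inherited from the topology `J` on `C` (generated by the sieves whose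
image in `C` covers). Then `F` maps covering sieves to families generating covering sieves, lifts
coverings (it is cocontinuous), and precomposition with `F` sends sheaves of types on `𝒴` to sheaves
on `𝒳` (it is continuous). (The published statement is for a 1-morphism of fibred categories with
the inherited topologies; this row is the case of categories fibred in groupoids, and the published
statement phrases continuity through the fibre products of covering families and deduces a morphism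
of topoi whose inverse image is precomposition with `F`, which is not stated here.) -/
theorem result {C : Type u} [Category.{v} C] (J : GrothendieckTopology C) {𝒳 𝒴 : BasedCategory.{v, max u v} C}
    (h𝒳 : FibCat.IsFibGrpd 𝒳.p) (h𝒴 : FibCat.IsFibGrpd 𝒴.p) (F : 𝒳 ⥤ᵇ 𝒴) :
    CoverPreserving (𝒳.p.restrictedTopology J) (𝒴.p.restrictedTopology J) F.toFunctor ∧
      F.toFunctor.IsCocontinuous (𝒳.p.restrictedTopology J) (𝒴.p.restrictedTopology J) ∧
      F.toFunctor.IsContinuous (𝒳.p.restrictedTopology J) (𝒴.p.restrictedTopology J) := by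
  have hw : F.toFunctor ⋙ 𝒴.p = 𝒳.p := F.w
  have key : ∀ (p : 𝒳.obj ⥤ C), F.toFunctor ⋙ 𝒴.p = p → FibCat.IsFibGrpd p →
      CoverPreserving (p.restrictedTopology J) (𝒴.p.restrictedTopology J) F.toFunctor ∧
      F.toFunctor.IsCocontinuous (p.restrictedTopology J) (𝒴.p.restrictedTopology J) ∧
      F.toFunctor.IsContinuous (p.restrictedTopology J) (𝒴.p.restrictedTopology J) := by
    intro p hp hfib
    subst hp
    have h1 := coverPreserving_plain F.toFunctor 𝒴.p J
    exact ⟨h1, isCocontinuous_plain F.toFunctor 𝒴.p J,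
      Functor.isContinuous_of_coverPreserving (compatiblePreserving_plain F.toFunctor 𝒴.p _) h1⟩
  exact key 𝒳.p hw h𝒳

end Groth.Agent.S12802
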