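import Groth.Statements.S12804
import Groth.Agent.Lib.Helper24.StkOverTop

set_option autoImplicit false
open CategoryTheory
universe v u
open Stk

namespace Groth.Agent.S12804

open CategoryTheory
open Groth.Agent.Lib.Helper24

lemma aux {C : Type u} [Category.{v} C] (J : GrothendieckTopology C) {D : Type (max u v)}
    [Category.{v} D] (p : D ⥤ C) {X : Type (max u v)} [Category.{v} X] (pX : X ⥤ C) (F₀ : X ⥤ D)
    (hw : F₀ ⋙ p = pX) (h : Stk.IsStack J (BasedCategory.ofFunctor pX)) :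
    Stk.IsStack J (BasedCategory.ofFunctor (F₀ ⋙ p)) := by
  subst hw; exact h


/-- Let `𝒳`, `𝒴` be stacks in groupoids over `C` for the topology `J` and `F : 𝒳 ⟶ 𝒴` a functor over `C`
whose underlying functor makes `𝒳` fibred in groupoids over `𝒴`. Then `𝒳`, as a category over `𝒴`
through `F`, is a stack in groupoids for the topology on `𝒴` inherited from `J`. -/
theorem result {C : Type u} [Category.{v} C] (J : GrothendieckTopology C) {𝒳 𝒴 : BasedCategory.{v, max u v} C}
    (h𝒳 : Stk.IsStack J 𝒳) (h𝒴 : Stk.IsStack J 𝒴) (F : 𝒳 ⥤ᵇ 𝒴) (hF : FibCat.IsFibGrpd F.toFunctor) :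
    Stk.IsStack (𝒴.p.restrictedTopology J) (BasedCategory.ofFunctor F.toFunctor) := by
  have hp : FibCat.IsFibGrpd 𝒴.p := h𝒴.1
  have hX : Stk.IsStack J (StkOver.XC 𝒴.p F.toFunctor) := aux J 𝒴.p 𝒳.p F.toFunctor F.w h𝒳
  exact StkOverTop.isStack_over 𝒴.p J F.toFunctor hF h𝒴 hX

end Groth.Agent.S12804
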