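import Groth.Statements.S12806
import Groth.Agent.Lib.Helper24.FibSetoid
import Groth.Agent.Lib.Helper24.FibSet4
import Groth.Agent.Lib.Helper24.FibCatDiag
import Groth.Agent.Lib.Helper24.FibCatInertia

set_option autoImplicit false
open CategoryTheory
universe v u
open FibCat

namespace Groth.Agent.S12806

open CategoryTheory CategoryTheory.Limits
open Groth.Agent.Lib.Helper24.FibCatFpGen Groth.Agent.Lib.Helper24.FibSetoid


/-- Let `𝒮` be fibred in groupoids over `C`, `U` an object of `C` and `x, y : C/U ⟶ 𝒮` two functors over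
`C` (objects over `U` in 2-Yoneda form), with `e` the 2-isomorphism identifying their composites
with the structure functor. Then the 2-fibre product over `C` of `(x, y) : C/U ⟶ 𝒮 ×_C 𝒮` with the
diagonal `𝒮 ⟶ 𝒮 ×_C 𝒮` is fibred in setoids over `C/U` through its first projection. (The published
statement is for a fibred category with `x`, `y` the functors given by chosen pullbacks; this row is
the case of a category fibred in groupoids, where every functor over `C` out of `C/U` is of that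
kind.) -/
theorem result {C : Type u} [Category.{v} C] {𝒮 : BasedCategory.{v, max u v} C} (h𝒮 : FibCat.IsFibGrpd 𝒮.p)
    (U : C) (x y : FibCat.overCat U ⥤ᵇ 𝒮)
    (e : BasedFunctor.comp x (FibCat.toSelf 𝒮) ≅ BasedFunctor.comp y (FibCat.toSelf 𝒮)) :
    FibCat.IsFibSetoid (FibCat.fpFst (FibCat.fpLift x y e) (FibCat.diag (FibCat.toSelf 𝒮))).toFunctor := by
  have hover : FibCat.IsFibGrpd (FibCat.overCat U).p :=
    (Groth.Agent.Lib.Helper24.FibSet.isFibSet_overForget U).1
  have hP : FibCat.IsFibGrpd (FibCat.fp (FibCat.toSelf 𝒮) (FibCat.toSelf 𝒮)).p :=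
    isFibGrpd_fp (FibCat.toSelf 𝒮) (FibCat.toSelf 𝒮) h𝒮 h𝒮
      Groth.Agent.Lib.Helper24.FibCatInertia.isFibGrpd_selfOver
  have hfp : FibCat.IsFibGrpd (FibCat.fp (FibCat.fpLift x y e) (FibCat.diag (FibCat.toSelf 𝒮))).p :=
    isFibGrpd_fp _ _ hover h𝒮 hP
  refine ⟨Groth.Agent.Lib.Helper24.FibSet.isFibGrpd_of_comp_overForget _ ?_, fun a => fun X Y =>
    ⟨fun m m' => ?_⟩⟩
  · exact hfp
  · apply Functor.Fiber.hom_ext
    obtain ⟨μ, hμ⟩ : ∃ μ : X.1 ⟶ Y.1, μ = Functor.Fiber.fiberInclusion.map m := ⟨_, rfl⟩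
    obtain ⟨μ', hμ'⟩ : ∃ μ' : X.1 ⟶ Y.1, μ' = Functor.Fiber.fiberInclusion.map m' := ⟨_, rfl⟩
    rw [← hμ, ← hμ']
    have hl : (FibCat.fpFst (FibCat.fpLift x y e) (FibCat.diag (FibCat.toSelf 𝒮))).toFunctor.IsHomLift
        (𝟙 a) μ := by rw [hμ]; exact m.2
    have hl' : (FibCat.fpFst (FibCat.fpLift x y e) (FibCat.diag (FibCat.toSelf 𝒮))).toFunctor.IsHomLift
        (𝟙 a) μ' := by rw [hμ']; exact m'.2
    have e1 : μ.hom.fst = μ'.hom.fst := by
      have h1 := IsHomLift.fac'
        (FibCat.fpFst (FibCat.fpLift x y e) (FibCat.diag (FibCat.toSelf 𝒮))).toFunctor (𝟙 a) μ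
      have h2 := IsHomLift.fac'
        (FibCat.fpFst (FibCat.fpLift x y e) (FibCat.diag (FibCat.toSelf 𝒮))).toFunctor (𝟙 a) μ'
      exact h1.trans h2.symm
    have w := hom_w μ
    have w' := hom_w μ'
    rw [e1] at w
    have e2 : μ.hom.snd = μ'.hom.snd := by
      have hΔ := Groth.Agent.Lib.Helper24.FibCatDiag.diag_faithful (FibCat.toSelf 𝒮)
      apply (FibCat.diag (FibCat.toSelf 𝒮)).toFunctor.map_injective
      have := w.symm.trans w'
      exact (cancel_epi _).mp this
    exact hom_ext' e1 e2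

end Groth.Agent.S12806
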