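import Groth.Statements.S12812
import Groth.Agent.Lib.Helper24.FibGrpd
import Mathlib.CategoryTheory.Limits.Preserves.Shapes.Pullbacks
import Mathlib.CategoryTheory.Limits.Preserves.Shapes.Equalizers
import Mathlib.CategoryTheory.Limits.Shapes.Pullback.IsPullback.Basic

set_option autoImplicit false
open CategoryTheory CategoryTheory.Limits
universe v₃ u₃ v₂ u₂ v u
open Stk

namespace Groth.Agent.S12812

open CategoryTheory CategoryTheory.Limits
open Groth.Agent.Lib.Helper24.FibGrpd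

section aux
variable {C : Type u} [Category.{v} C] {D : Type u₂} [Category.{v₂} D] (u : C ⥤ D)
    (𝒮 : BasedCategory.{v₃, u₃} C) [𝒮.p.IsFibered]

/-- strongly cartesian lifts with prescribed target, in `eqToHom` form -/
lemma exists_scart_lift (x : 𝒮.obj) {P : C} (g : P ⟶ 𝒮.p.obj x) :
    ∃ (x' : 𝒮.obj) (t : x' ⟶ x) (e : 𝒮.p.obj x' = P),
      𝒮.p.IsStronglyCartesian (𝒮.p.map t) t ∧ 𝒮.p.map t = eqToHom e ≫ g := by
  obtain ⟨x', t, ht⟩ := Functor.IsPreFibered.exists_isCartesian' (p := 𝒮.p) g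
  have hs : 𝒮.p.IsStronglyCartesian g t := inferInstance
  have e : 𝒮.p.obj x' = P := IsHomLift.domain_eq 𝒮.p g t
  refine ⟨x', t, e, (isStronglyCartesian_iff_map 𝒮.p g t).1 hs, ?_⟩
  have := IsHomLift.fac' 𝒮.p g t
  simpa using this

/-- uniqueness for strongly cartesian morphisms over their image -/
lemma scart_cancel {y y' x' : 𝒮.obj} (s : y ⟶ y') (hs : 𝒮.p.IsStronglyCartesian (𝒮.p.map s) s)
    (a b : x' ⟶ y) (hab : 𝒮.p.map a = 𝒮.p.map b) (h : a ≫ s = b ≫ s) : a = b := by
  have h1 : 𝒮.p.IsHomLift (𝒮.p.map a) a := inferInstance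
  have h2 : 𝒮.p.IsHomLift (𝒮.p.map a) b := by rw [hab]; infer_instance
  exact Functor.IsStronglyCartesian.ext 𝒮.p (𝒮.p.map s) s (𝒮.p.map a) h

/-- factorisation through strongly cartesian morphisms over their image -/
lemma scart_factor {y y' x' : 𝒮.obj} (s : y ⟶ y') (hs : 𝒮.p.IsStronglyCartesian (𝒮.p.map s) s)
    (k : x' ⟶ y') (g : 𝒮.p.obj x' ⟶ 𝒮.p.obj y) (hg : g ≫ 𝒮.p.map s = 𝒮.p.map k) :
    ∃ χ : x' ⟶ y, 𝒮.p.map χ = g ∧ χ ≫ s = k := by
  have h2 : 𝒮.p.IsHomLift (g ≫ 𝒮.p.map s) k := by rw [hg]; infer_instance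
  obtain ⟨χ, ⟨h1, h3⟩, -⟩ := Functor.IsStronglyCartesian.universal_property' (p := 𝒮.p)
    (f := 𝒮.p.map s) (φ := s) g k
  exact ⟨χ, (IsHomLift.eq_of_isHomLift 𝒮.p g χ).symm, h3⟩

end aux


/-- Let `u : C ⥤ D` be a functor, where `C` has all nonempty finite limits and `u` preserves them, and
let `𝒮` be a fibred category over `C`. In the category `u_pp 𝒮` over `D` — objects `(x, V, φ : V ⟶ u
(p x))`, morphisms the pairs `(x ⟶ x', V ⟶ V')` compatible with the structure morphisms — the class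
`R` of morphisms whose component in `𝒮` is strongly cartesian and whose component in `D` is an
isomorphism is a right multiplicative system: it contains identities, is stable under composition,
and satisfies the two right Ore conditions. (The published statement takes the class with
`D`-component an identity; the class used here consists of those morphisms composed with
isomorphisms of `u_pp 𝒮` and has the same localisation.) -/
theorem result {C : Type u} [Category.{v} C] {D : Type u₂} [Category.{v₂} D] (u : C ⥤ D)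
    (𝒮 : BasedCategory.{v₃, u₃} C) [𝒮.p.IsFibered]
    (hC : ∀ (I : Type) [SmallCategory I] [FinCategory I], Nonempty I → HasLimitsOfShape I C)
    (hu : ∀ (I : Type) [SmallCategory I] [FinCategory I], Nonempty I → PreservesLimitsOfShape I u) :
    (Stk.uppR u 𝒮).HasRightCalculusOfFractions := by
  have hC1 : HasLimitsOfShape WalkingCospan C := hC WalkingCospan ⟨WalkingCospan.one⟩
  have hu1 : PreservesLimitsOfShape WalkingCospan u := hu WalkingCospan ⟨WalkingCospan.one⟩
  have hC2 : HasLimitsOfShape WalkingParallelPair C :=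
    hC WalkingParallelPair ⟨WalkingParallelPair.zero⟩
  have hu2 : PreservesLimitsOfShape WalkingParallelPair u :=
    hu WalkingParallelPair ⟨WalkingParallelPair.zero⟩
  have hmul : (Stk.uppR u 𝒮).IsMultiplicative :=
    { id_mem := fun X => by
        refine ⟨?_, ?_⟩
        · change 𝒮.p.IsStronglyCartesian (𝒮.p.map (𝟙 X.x)) (𝟙 X.x)
          rw [𝒮.p.map_id]
          infer_instance
        · change IsIso (𝟙 X.V)
          infer_instance
      comp_mem := fun f g hf hg => by
        obtain ⟨hf1, hf2⟩ := hf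
        obtain ⟨hg1, hg2⟩ := hg
        refine ⟨?_, ?_⟩
        · change 𝒮.p.IsStronglyCartesian (𝒮.p.map (f.top ≫ g.top)) (f.top ≫ g.top)
          rw [𝒮.p.map_comp]
          infer_instance
        · change IsIso (f.bot ≫ g.bot)
          infer_instance }
  refine { toIsMultiplicative := hmul, exists_rightFraction := ?_, ext := ?_ }
  · intro X Y φ
    obtain ⟨hs1, hs2⟩ := φ.hs
    -- the pullback in `C`
    let a := 𝒮.p.map φ.f.top
    let b := 𝒮.p.map φ.s.top
    obtain ⟨x', t, e, ht, htm⟩ := exists_scart_lift 𝒮 X.x (pullback.fst a b)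
    -- the top component of the numerator
    have hk : (eqToHom e ≫ pullback.snd a b) ≫ 𝒮.p.map φ.s.top = 𝒮.p.map (t ≫ φ.f.top) := by
      rw [𝒮.p.map_comp, htm, Category.assoc, Category.assoc]
      congr 1
      exact pullback.condition.symm
    obtain ⟨gt, hgt1, hgt2⟩ := scart_factor 𝒮 φ.s.top hs1 (t ≫ φ.f.top)
      (eqToHom e ≫ pullback.snd a b) hk
    -- the structure morphism of the new object
    have sq : IsPullback (u.map (pullback.fst a b)) (u.map (pullback.snd a b)) (u.map a) (u.map b) :=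
      (IsPullback.of_hasPullback a b).map u
    have hw : X.φ ≫ u.map a = (φ.f.bot ≫ inv φ.s.bot ≫ Y.φ) ≫ u.map b := by
      have h1 := φ.f.w
      have h2 := φ.s.w
      change X.φ ≫ u.map (𝒮.p.map φ.f.top) = _
      rw [h1]
      change _ = (φ.f.bot ≫ inv φ.s.bot ≫ Y.φ) ≫ u.map (𝒮.p.map φ.s.top)
      rw [Category.assoc, Category.assoc, h2, IsIso.inv_hom_id_assoc]
    let ψ : X.V ⟶ u.obj (𝒮.p.obj x') := sq.lift X.φ (φ.f.bot ≫ inv φ.s.bot ≫ Y.φ) hw ≫
      u.map (eqToHom e.symm)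
    let X' : Stk.UppObj u 𝒮 := ⟨x', X.V, ψ⟩
    let tt : X' ⟶ X := ⟨t, 𝟙 X.V, by
      change ψ ≫ u.map (𝒮.p.map t) = 𝟙 _ ≫ X.φ
      rw [htm, Category.id_comp]
      simp only [ψ, Category.assoc, ← u.map_comp, eqToHom_trans_assoc, eqToHom_refl,
        Category.id_comp]
      exact sq.lift_fst _ _ _⟩
    let gg : X' ⟶ Y := ⟨gt, φ.f.bot ≫ inv φ.s.bot, by
      change ψ ≫ u.map (𝒮.p.map gt) = (φ.f.bot ≫ inv φ.s.bot) ≫ Y.φ
      rw [hgt1]
      simp only [ψ, Category.assoc, ← u.map_comp, eqToHom_trans_assoc, eqToHom_refl,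
        Category.id_comp]
      exact sq.lift_snd _ _ _⟩
    have htt : Stk.uppR u 𝒮 tt := ⟨ht, by change IsIso (𝟙 X.V); infer_instance⟩
    refine ⟨⟨tt, htt, gg⟩, ?_⟩
    apply Stk.UppObj.hom_ext
    · exact hgt2.symm
    · change 𝟙 _ ≫ φ.f.bot = (φ.f.bot ≫ inv φ.s.bot) ≫ φ.s.bot
      simp
  · intro X Y Y' f₁ f₂ s hs eq
    obtain ⟨hs1, hs2⟩ := hs
    have eqt : f₁.top ≫ s.top = f₂.top ≫ s.top := congrArg (fun t => t.top) eq
    have eqb : f₁.bot ≫ s.bot = f₂.bot ≫ s.bot := congrArg (fun t => t.bot) eq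
    have hb : f₁.bot = f₂.bot := (cancel_mono s.bot).mp eqb
    let a := 𝒮.p.map f₁.top
    let b := 𝒮.p.map f₂.top
    obtain ⟨x', t, e, ht, htm⟩ := exists_scart_lift 𝒮 X.x (equalizer.ι a b)
    have hab : 𝒮.p.map (t ≫ f₁.top) = 𝒮.p.map (t ≫ f₂.top) := by
      rw [𝒮.p.map_comp, 𝒮.p.map_comp, htm, Category.assoc, Category.assoc]
      congr 1
      exact equalizer.condition a b
    have htop : t ≫ f₁.top = t ≫ f₂.top := by
      apply scart_cancel 𝒮 s.top hs1 _ _ hab
      rw [Category.assoc, Category.assoc, eqt]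
    have hw : X.φ ≫ u.map a = X.φ ≫ u.map b := by
      have h1 := f₁.w
      have h2 := f₂.w
      change X.φ ≫ u.map (𝒮.p.map f₁.top) = X.φ ≫ u.map (𝒮.p.map f₂.top)
      rw [h1, h2, hb]
    have hlim : IsLimit (Fork.ofι (u.map (equalizer.ι a b))
        (by rw [← u.map_comp, ← u.map_comp, equalizer.condition]) : Fork (u.map a) (u.map b)) :=
      isLimitForkMapOfIsLimit u (equalizer.condition a b) (equalizerIsEqualizer a b)
    let l := Fork.IsLimit.lift' hlim X.φ hw
    let ψ : X.V ⟶ u.obj (𝒮.p.obj x') := l.1 ≫ u.map (eqToHom e.symm)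
    let X' : Stk.UppObj u 𝒮 := ⟨x', X.V, ψ⟩
    let tt : X' ⟶ X := ⟨t, 𝟙 X.V, by
      change ψ ≫ u.map (𝒮.p.map t) = 𝟙 _ ≫ X.φ
      rw [htm, Category.id_comp]
      simp only [ψ, Category.assoc, ← u.map_comp, eqToHom_trans_assoc, eqToHom_refl,
        Category.id_comp]
      exact l.2⟩
    have htt : Stk.uppR u 𝒮 tt := ⟨ht, by change IsIso (𝟙 X.V); infer_instance⟩
    refine ⟨X', tt, htt, ?_⟩
    apply Stk.UppObj.hom_ext
    · exact htop
    · change 𝟙 _ ≫ f₁.bot = 𝟙 _ ≫ f₂.bot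
      rw [hb]

end Groth.Agent.S12812
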