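import Groth.Statements.S12816
import Mathlib
import Groth.Agent.Lib.Helper24.FibCatYoneda
import Groth.Agent.Lib.Helper24.FibGrpdFunctor

set_option autoImplicit false
open CategoryTheory
universe v u
open Stk

namespace Groth.Agent.S12816

theorem ff_transfer {A A' B B' : Type*} [Category A] [Category A'] [Category B] [Category B']
    (E₁ : A ⥤ A') (E₂ : B ⥤ B') [E₁.IsEquivalence] [E₂.IsEquivalence] (P : A ⥤ B) (Q : A' ⥤ B')
    (e : P ⋙ E₂ ≅ E₁ ⋙ Q) : (P.Full ∧ P.Faithful) ↔ (Q.Full ∧ Q.Faithful) := by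
  constructor
  · rintro ⟨h1, h2⟩
    have : (E₁ ⋙ Q).Full := Functor.Full.of_iso e
    have : (E₁ ⋙ Q).Faithful := Functor.Faithful.of_iso e
    have i : E₁.inv ⋙ (E₁ ⋙ Q) ≅ Q :=
      (Functor.associator _ _ _).symm ≪≫ Functor.isoWhiskerRight E₁.asEquivalence.counitIso Q ≪≫
        Functor.leftUnitor Q
    exact ⟨Functor.Full.of_iso i, Functor.Faithful.of_iso i⟩
  · rintro ⟨h1, h2⟩
    have : (P ⋙ E₂).Full := Functor.Full.of_iso e.symm
    have : (P ⋙ E₂).Faithful := Functor.Faithful.of_iso e.symm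
    have i : (P ⋙ E₂) ⋙ E₂.inv ≅ P :=
      Functor.associator _ _ _ ≪≫ Functor.isoWhiskerLeft P E₂.asEquivalence.unitIso.symm ≪≫
        Functor.rightUnitor P
    exact ⟨Functor.Full.of_iso i, Functor.Faithful.of_iso i⟩

theorem main {C : Type u} [Category.{v} C] {𝒳 𝒴 : BasedCategory.{v, max u v} C}
    (h𝒳 : FibCat.IsFibGrpd 𝒳.p) (h𝒴 : FibCat.IsFibGrpd 𝒴.p) (F : 𝒳 ⟶ 𝒴) :
    (F.toFunctor.Full ∧ F.toFunctor.Faithful) ↔
      ∀ U : C, (Bicategory.postcomp (FibCat.overCat U) F).Full ∧ (Bicategory.postcomp (FibCat.overCat U) F).Faithful := by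
  rw [Groth.Agent.Lib.Helper24.FibGrpdFunctor.fullyFaithful_iff F h𝒳 h𝒴]
  refine forall_congr' fun U => ?_
  have := Groth.Agent.Lib.Helper24.FibCatYoneda.evalAtId_isEquivalence_of_isFibGrpd h𝒳 U
  have := Groth.Agent.Lib.Helper24.FibCatYoneda.evalAtId_isEquivalence_of_isFibGrpd h𝒴 U
  refine (ff_transfer (FibCat.evalAtId 𝒳 U) (FibCat.evalAtId 𝒴 U)
    (Bicategory.postcomp (FibCat.overCat U) F) (FibCat.fiberFunctor F U) ?_).symm
  exact NatIso.ofComponents (fun G => Iso.refl _) (fun {G G'} α => by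
    apply Functor.Fiber.hom_ext
    dsimp only [Iso.refl_hom]
    erw [Category.comp_id, Category.id_comp]
    rfl)

/-- Let `𝒳`, `𝒴` be fibred in groupoids over `C` and `F : 𝒳 ⟶ 𝒴` a functor over `C`. Then the underlying
functor of `F` is fully faithful if and only if, for every object `U` of `C`, postcomposition with
`F` is a fully faithful functor from the category of functors `C/U ⟶ 𝒳` over `C` to that of functors
`C/U ⟶ 𝒴` over `C`; under the 2-Yoneda lemma the latter says that `F` induces bijections between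
morphisms of pullbacks `x|_V ⟶ y|_V` and `F(x)|_V ⟶ F(y)|_V` for all objects `x, y` over `U` and all
`V ⟶ U`, that is, isomorphisms of the presheaves of morphisms. (The published statement is for
stacks over a site, not necessarily in groupoids; the stack property plays no role and is not
assumed here, and this row treats categories fibred in groupoids.) -/
theorem result {C : Type u} [Category.{v} C] {𝒳 𝒴 : BasedCategory.{v, max u v} C}
    (h𝒳 : FibCat.IsFibGrpd 𝒳.p) (h𝒴 : FibCat.IsFibGrpd 𝒴.p) (F : 𝒳 ⟶ 𝒴) :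
    (F.toFunctor.Full ∧ F.toFunctor.Faithful) ↔
      ∀ U : C, (Bicategory.postcomp (FibCat.overCat U) F).Full ∧ (Bicategory.postcomp (FibCat.overCat U) F).Faithful := by
  exact main h𝒳 h𝒴 F

end Groth.Agent.S12816
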