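import Groth.Statements.S12849
import Groth.Agent.Lib.Helper24.AlgStCancel
import Groth.Agent.Lib.Helper24.AlgStSmooth

set_option autoImplicit false
open CategoryTheory AlgebraicGeometry
universe u
open AlgSt

namespace Groth.Agent.S12849

open CategoryTheory AlgebraicGeometry
open AlgSt
open Groth.Agent.Lib.Helper24.AlgStRepS Groth.Agent.Lib.Helper24.AlgStCancel
open Groth.Agent.Lib.Helper24.AlgStProps Groth.Agent.Lib.Helper24.AlgStSmooth

set_option backward.isDefEq.respectTransparency false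
set_option backward.isDefEq.respectTransparency.types false


/-- Let `P` be a property of morphisms of algebraic spaces over `S` which is stable under base change,
fppf local on the base and local on the source in the smooth topology; let `x : 𝒳 ⟶ 𝒴` and `y : 𝒴 ⟶
𝒵` be 1-morphisms of algebraic stacks over `S` representable by algebraic spaces with `x` surjective
and smooth. If `y ∘ x` has `P` then `y` has `P`. (Stability under base change is asked for every
pullback square of fppf sheaves whose four corners are algebraic spaces.) -/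
theorem result {S : Scheme.{u}} {𝒳 𝒴 𝒵 : AlgSt.Cat S}
    (h𝒳 : AlgSt.IsAlgStack Scheme.fppfPrecoverage 𝒳) (h𝒴 : AlgSt.IsAlgStack Scheme.fppfPrecoverage 𝒴) (h𝒵 : AlgSt.IsAlgStack Scheme.fppfPrecoverage 𝒵)
    (P : MorphismProperty (AlgSp.Sp S))
    (hPb : ∀ ⦃X₁ Y₁ X₂ Y₂ : AlgSp.Sp S⦄, AlgSp.IsAlgSpace X₁ → AlgSp.IsAlgSpace Y₁ → AlgSp.IsAlgSpace X₂ →
      AlgSp.IsAlgSpace Y₂ → ∀ (a : X₁ ⟶ Y₁) (b : Y₂ ⟶ Y₁) (a' : X₂ ⟶ Y₂) (b' : X₂ ⟶ X₁),
      IsPullback b' a' a b → P a → P a')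
    (hP : AlgSp.IsLocalOnBase AlgSp.IsFppfCover P) (hP' : AlgSp.IsLocalOnSource AlgSp.IsSmCover P)
    (x : 𝒳 ⥤ᵇ 𝒴) (y : 𝒴 ⥤ᵇ 𝒵) (hy : AlgSt.RepByAlgSp1 y)
    (hx₁ : AlgSt.RepByAlgSpWith (AlgSp.LocP @Smooth) x) (hx₂ : AlgSt.RepByAlgSpWith AlgSp.IsSurjectiveMor x)
    (h : AlgSt.RepByAlgSpWith P (BasedFunctor.comp x y)) : AlgSt.RepByAlgSpWith P y := by
  have r1 := repS_of_repByAlgSpWith h𝒳.isStack.1 h𝒴.isStack.1 _ good_smooth.bc
    good_smooth.loc x hx₁
  have r3 := repS_of_repByAlgSpWith h𝒳.isStack.1 h𝒴.isStack.1 _ good_isSurjectiveMor.bc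
    good_isSurjectiveMor.loc x hx₂
  have r := repS_inf _ _ good_isSurjectiveMor.respectsIso x r1 r3
  refine repByAlgSpWith_of_comp_cover P (phat_respectsIso P hPb) _ ?_ x y hy r h
  intro T' T G hT' hT hG p ψ hp hpψ
  have hcov : AlgSp.IsSmCover (ι := PUnit.{u + 1}) (fun _ => T') (fun _ => p) :=
    ⟨fun _ => hp.1, fun t => ⟨PUnit.unit, hp.2 t⟩⟩
  exact (hP' (fun _ => T') (fun _ => p) hT (fun _ => hT') hcov ψ hG).2 (fun _ => hpψ)

end Groth.Agent.S12849
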