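import Groth.Statements.S12870
import Groth.Agent.Lib.Helper24.AlgStSchLocal

set_option autoImplicit false
open CategoryTheory AlgebraicGeometry
universe u
open AlgSt

namespace Groth.Agent.S12870

open CategoryTheory AlgebraicGeometry
open Groth.Agent.Lib.Helper24.AlgStSchLocal Groth.Agent.Lib.Helper14.AS
open Groth.Agent.Lib.Helper24.AlgStProps

set_option backward.isDefEq.respectTransparency false
set_option backward.isDefEq.respectTransparency.types false


/-- The composite of two immersions `f : 𝒳 ⟶ 𝒴`, `g : 𝒴 ⟶ 𝒵` of algebraic stacks over `S` is again one. -/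
theorem result {S : Scheme.{u}} {𝒳 𝒴 𝒵 : AlgSt.Cat S}
    (h𝒳 : AlgSt.IsAlgStack Scheme.fppfPrecoverage 𝒳) (h𝒴 : AlgSt.IsAlgStack Scheme.fppfPrecoverage 𝒴) (h𝒵 : AlgSt.IsAlgStack Scheme.fppfPrecoverage 𝒵)
    (f : 𝒳 ⥤ᵇ 𝒴) (g : 𝒴 ⥤ᵇ 𝒵) (hf : AlgSt.IsImm f) (hg : AlgSt.IsImm g) :
    AlgSt.IsImm (BasedFunctor.comp f g) := by
  exact repByAlgSpWith_comp h𝒳.isStack.1 h𝒴.isStack.1 h𝒵.isStack.1 _ (nice_repWith @IsImmersion)
    (stableComp_repWith @IsImmersion) f g hf hg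

end Groth.Agent.S12870
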