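import Groth.Statements.S12880
import Mathlib
import Groth.Agent.Lib.Helper17.ExtZSupp
import Groth.Agent.Lib.Helper17.ExtCohGlobal

set_option autoImplicit false
universe u
open CategoryTheory CategoryTheory.Limits TopologicalSpace AlgebraicGeometry
open Coherent

namespace Groth.Agent.S12880

/-- Let X be a locally Noetherian scheme, Y a closed subset with open complement U, and F, G coherent
O_X-modules such that the support of F is contained in Y (no point of U has a non-zero stalk of F).
Then for every i the local Ext sheaf with supports ℰxt^i_Y(F, G) is coherent. (Internal Hom of F and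
injective resolutions of O_X-modules are the stated instance hypotheses, both true.) -/
theorem result (X : Scheme.{u}) [IsLocallyNoetherian X] (U : X.Opens)
    (F G : X.Modules) (hF : Coh.IsCoh F) (hG : Coh.IsCoh G)
    (hsupp : ∀ x ∈ CohB1.support F, x ∉ (U : Set X))
    [ModSite.HasSheafHom (O := X.sheaf) F] [HasInjectiveResolutions (ModSite.Mod X.sheaf)] (i : ℕ) :
    Coh.IsCoh ((ModSite.extZSh (O := X.sheaf) U F i).obj G) := by
  have hsub : ∀ (V : X.Opens) (_ : V ⟶ U), Subsingleton (F.val.obj (Opposite.op V)) := by
    intro V g
    refine ⟨fun a b => ?_⟩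
    have hle : V ≤ U := leOfHom g
    refine TopCat.Presheaf.section_ext (F := ⟨F.presheaf, F.isSheaf⟩) V a b ?_
    intro x hx
    have hxU : x ∈ (U : Set X) := hle hx
    have hns : Subsingleton (F.presheaf.stalk x) := by
      by_contra hcon
      exact hsupp x hcon hxU
    exact Subsingleton.elim _ _
  have e := (Groth.Agent.Lib.Helper17.ExtZSupp.extZShIso (O := X.sheaf) F U hsub i).app G
  exact Groth.Agent.Lib.Helper12.H12Dev.isCoh_of_iso e.symm
    (Groth.Agent.Lib.Helper17.ExtCohGlobal.isCoh_extSh F G hF hG i)

end Groth.Agent.S12880
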