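import Groth.Statements.S12887
import Mathlib
import Groth.Agent.Lib.Helper5.RDPost
import Groth.Agent.Lib.Helper5.RightDerivedComp
import Groth.Agent.Lib.Helper5.RestrExact
import Groth.Agent.Lib.Helper5.ExtDerived
import Groth.Agent.Lib.Helper17.IHom

set_option autoImplicit false
universe u
open CategoryTheory CategoryTheory.Limits
open ModSite

namespace Groth.Agent.S12887

open Groth.Agent.Lib.Helper5 Groth.Agent.Lib.Helper17.IHom in
/-- restriction commutes with the chosen internal hom, as functors -/
noncomputable def restrSheafHomNatIso {C : Type u} [SmallCategory C] {J : GrothendieckTopology C}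
    (O : Sheaf J CommRingCat.{u}) (X : C) (M : ModSite.Mod O)
    [ModSite.HasSheafHom M] [ModSite.HasSheafHom ((ModSite.restr O X).obj M)] :
    ModSite.sheafHom M ⋙ ModSite.restr O X ≅
      ModSite.restr O X ⋙ ModSite.sheafHom ((ModSite.restr O X).obj M) :=
  Functor.isoWhiskerRight ((ModSite.sheafHomAdj M).rightAdjointUniq (HAdj M)) (ModSite.restr O X) ≪≫
    restrHFunIso M X ≪≫
    Functor.isoWhiskerLeft (ModSite.restr O X)
      ((ModSite.sheafHomAdj ((ModSite.restr O X).obj M)).rightAdjointUniq
        (HAdj ((ModSite.restr O X).obj M))).symm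

/-- On a small ringed site (C, J, O) with O commutative, let X be an object of C, M an O-module and q ≥
0. The formation of the local Ext sheaves ℰxt^q_O(M, -) (right derived functors of the internal Hom
ℋom_O(M, -)) commutes with localisation: the functor N ↦ ℰxt^q_O(M, N)|_X is isomorphic to N ↦
ℰxt^q_{O|_X}(M|_X, N|_X). (Existence of an isomorphism of functors only. The internal Hom functors
of M and of M|_X and injective resolutions of modules on C and on C/X are the stated instance
hypotheses, all true.) -/
theorem result {C : Type u} [SmallCategory C] {J : GrothendieckTopology C}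
    (O : Sheaf J CommRingCat.{u}) (X : C) (M : ModSite.Mod O)
    [ModSite.HasSheafHom M] [ModSite.HasSheafHom ((ModSite.restr O X).obj M)]
    [HasInjectiveResolutions (ModSite.Mod O)] [HasInjectiveResolutions (ModSite.Mod (O.over X))] (q : ℕ) :
    Nonempty (ModSite.extSh M q ⋙ ModSite.restr O X ≅
      ModSite.restr O X ⋙ ModSite.extSh ((ModSite.restr O X).obj M) q) := by
  haveI := Groth.Agent.Lib.Helper5.RestrExact.restr_additive O X
  haveI := Groth.Agent.Lib.Helper5.RestrExact.restr_preservesHomology O X
  haveI := Groth.Agent.Lib.Helper5.RestrExact.restr_preservesInjectiveObjects O X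
  exact ⟨(Groth.Agent.Lib.Helper5.RDPost.rightDerivedPostIso (ModSite.sheafHom M)
      (ModSite.restr O X) q).symm ≪≫
    Groth.Agent.Lib.Helper5.ExtDer.rightDerivedMapIso (restrSheafHomNatIso O X M) q ≪≫
    Groth.Agent.Lib.Helper5.RDComp.rightDerivedCompIso (ModSite.restr O X)
      (ModSite.sheafHom ((ModSite.restr O X).obj M)) q⟩

end Groth.Agent.S12887
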