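import Groth.Statements.S12890
import Mathlib
import Groth.Agent.Lib.Helper5.SubtermU
import Groth.Agent.Lib.Helper5.DerivedSES
import Groth.Agent.Lib.Helper5.RightDerivedComp

set_option autoImplicit false
universe u
open CategoryTheory CategoryTheory.Limits
open ModSite

namespace Groth.Agent.S12890

open Groth.Agent.Lib.Helper5 in
theorem aux {C : Type u} [SmallCategory C] {J : GrothendieckTopology C}
    (O : Sheaf J CommRingCat.{u}) (U : C)
    (hU : ∀ V : C, Subsingleton (V ⟶ U)) [ModSite.HasPushOver O U] [(ModSite.pushOver O U).Additive]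
    [HasInjectiveResolutions (ModSite.Mod O)] [HasInjectiveResolutions (ModSite.Mod (O.over U))] :
    Nonempty (ModSite.HZsh O U 1 ≅ cokernel (ModSite.restrPushOverAdj O U).unit) ∧
      ∀ q : ℕ, 1 ≤ q →
        Nonempty (ModSite.HZsh O U (q + 1) ≅ ModSite.restr O U ⋙ (ModSite.pushOver O U).rightDerived q) := by
  haveI := RestrExact.restr_additive O U
  haveI := RestrExact.restr_preservesHomology O U
  haveI := RestrExact.restr_preservesInjectiveObjects O U
  haveI := RestrExact.restr_preservesFiniteLimits O U
  haveI : PreservesFiniteLimits (ModSite.pushOver O U) := by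
    haveI := (ModSite.restrPushOverAdj O U).rightAdjoint_preservesLimits
    infer_instance
  have w : ModSite.sectOnι O U ≫ (ModSite.restrPushOverAdj O U).unit = 0 := by
    ext X : 2
    exact QS.ι_η O U X
  have hI : ∀ (I : ModSite.Mod O), Injective I →
      (ShortComplex.mk ((ModSite.sectOnι O U).app I) ((ModSite.restrPushOverAdj O U).unit.app I)
        (DerSES.app_comp_app _ _ w I)).ShortExact := by
    intro I hI
    obtain ⟨s, hs⟩ := QS.exists_section_η O U hU I
    exact
      { exact := ShortComplex.exact_of_f_is_kernel _ (kernelIsKernel _)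
        mono_f := inferInstanceAs (Mono (QS.ι O U I))
        epi_g := by
          haveI : IsSplitEpi (QS.η O U I) := ⟨⟨⟨s, hs⟩⟩⟩
          exact inferInstanceAs (Epi (QS.η O U I)) }
  refine ⟨⟨(DerSES.cokerIso (ModSite.sectOnι O U) (ModSite.restrPushOverAdj O U).unit w hI).symm⟩, ?_⟩
  intro q hq
  obtain ⟨i, rfl⟩ : ∃ i, q = i + 1 := ⟨q - 1, by omega⟩
  exact ⟨DerSES.shiftIso (ModSite.sectOnι O U) (ModSite.restrPushOverAdj O U).unit w hI i ≪≫
    RDComp.rightDerivedCompIso (ModSite.restr O U) (ModSite.pushOver O U) (i + 1)⟩

/-- On a small ringed site (C, J, O) with O commutative, let U be a subterminal object (every object has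
at most one morphism to U), Z its closed complement and j_{U*} the direct image of modules along the
localisation C/U → C. Then ℋ^1_Z is isomorphic to the cokernel of the unit M → j_{U*}(M|_U) (so that
0 → ℋ^0_Z(M) → M → j_{U*}(M|_U) → ℋ^1_Z(M) → 0 is exact), and for every q ≥ 1 the functor ℋ^{q+1}_Z
is isomorphic to M ↦ R^q j_{U*}(M|_U). (Existence of isomorphisms of functors only. The direct image
j_{U*} with its additivity and injective resolutions of modules on C and on C/U are the stated
instance hypotheses, all true.) -/
theorem result {C : Type u} [SmallCategory C] {J : GrothendieckTopology C}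
    (O : Sheaf J CommRingCat.{u}) (U : C)
    (hU : ∀ V : C, Subsingleton (V ⟶ U)) [ModSite.HasPushOver O U] [(ModSite.pushOver O U).Additive]
    [HasInjectiveResolutions (ModSite.Mod O)] [HasInjectiveResolutions (ModSite.Mod (O.over U))] :
    Nonempty (ModSite.HZsh O U 1 ≅ cokernel (ModSite.restrPushOverAdj O U).unit) ∧
      ∀ q : ℕ, 1 ≤ q →
        Nonempty (ModSite.HZsh O U (q + 1) ≅ ModSite.restr O U ⋙ (ModSite.pushOver O U).rightDerived q) := by
  exact aux O U hU

end Groth.Agent.S12890
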