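import Groth.Statements.S12899
import Groth.Agent.Lib.Helper13.FG2
import Groth.Agent.Lib.Helper13.DRingProj
import Groth.Agent.Lib.Helper13.DRingLDerived

set_option autoImplicit false
universe u
open CategoryTheory CategoryTheory.Limits
attribute [local instance] HasDerivedCategory.standard
open DRing

namespace Groth.Agent.S12899

/-- Let R be a commutative ring, f ∈ R and M an object of D(R) such that (1) H^i(M) = 0 for i &gt; 0,
(2) in D(R_f), M ⊗^L_R R_f is isomorphic to a flat R_f-module concentrated in degree 0, and (3) in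
D(R/fR), M ⊗^L_R R/fR is isomorphic to a flat R/fR-module concentrated in degree 0. Then, in D(R), M
itself is isomorphic to a flat R-module concentrated in degree 0. (The derived base change functors
along R → R_f and R → R/fR are the stated instance hypotheses, both true.) -/
theorem result {R : Type u} [CommRing R] (f : R) (M : Dual.D R)
    [DRing.HasLBaseChange (algebraMap R (Localization.Away f))]
    [DRing.HasLBaseChange (Ideal.Quotient.mk (Ideal.span ({f} : Set R)))]
    (h1 : ∀ i : ℤ, 0 < i → Subsingleton (Dual.HD R M i))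
    (h2 : ∃ (N : Type u) (_ : AddCommGroup N) (_ : Module (Localization.Away f) N),
      Module.Flat (Localization.Away f) N ∧
        Nonempty ((DRing.LBaseChange (algebraMap R (Localization.Away f))).obj M ≅ Dual.inD (Localization.Away f) N))
    (h3 : ∃ (N : Type u) (_ : AddCommGroup N) (_ : Module (R ⧸ Ideal.span ({f} : Set R)) N),
      Module.Flat (R ⧸ Ideal.span ({f} : Set R)) N ∧
        Nonempty ((DRing.LBaseChange (Ideal.Quotient.mk (Ideal.span ({f} : Set R)))).obj M ≅
          Dual.inD (R ⧸ Ideal.span ({f} : Set R)) N)) :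
    ∃ (N : Type u) (_ : AddCommGroup N) (_ : Module R N), Module.Flat R N ∧ Nonempty (M ≅ Dual.inD R N) := by
  open Groth.Agent.Lib.Helper13.DR Groth.Agent.Lib.Helper13.PC Groth.Agent.Lib.Helper13.TB
    Groth.Agent.Lib.Helper13.FG Groth.Agent.Lib.Helper13.DualBC DerivedCategory in
  obtain ⟨P, hproj, hz, ⟨e⟩⟩ := exists_projective_rep' M 0 h1
  have : P.IsKProjective := isKProjective_of_forall_projective P 0 hz hproj
  have hfl : ∀ i : ℤ, Module.Flat R (P.X i) := fun i => flat_of_projective' _ (hproj i)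
  obtain ⟨N₂, _, _, hN₂, ⟨e₂⟩⟩ := h2
  obtain ⟨N₃, _, _, hN₃, ⟨e₃⟩⟩ := h3
  have hloc : DRing.HasTorAmplitudeIn (Localization.Away f) 0 0
      (Q.obj ((extendCx R (Localization.Away f)).obj P)) := by
    have h0 : DRing.HasTorAmplitudeIn (Localization.Away f) 0 0
        (Dual.inD (Localization.Away f) N₂) := by
      have := (hasTorDimLE_iff_hasTorAmplitudeIn (Localization.Away f) N₂ 0).1
        ((hasTorDimLE_zero_iff_flat _ N₂).2 hN₂)
      simpa using this
    exact hasTorAmplitudeIn_of_iso (e₂.symm ≪≫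
      (DRing.LBaseChange (algebraMap R (Localization.Away f))).mapIso e.symm ≪≫
      LBaseChangeIso (algebraMap R (Localization.Away f)) P) h0
  have hquo : DRing.HasTorAmplitudeIn (R ⧸ Ideal.span ({f} : Set R)) 0 0
      (Q.obj ((extendCx R (R ⧸ Ideal.span ({f} : Set R))).obj P)) := by
    have h0 : DRing.HasTorAmplitudeIn (R ⧸ Ideal.span ({f} : Set R)) 0 0
        (Dual.inD (R ⧸ Ideal.span ({f} : Set R)) N₃) := by
      have := (hasTorDimLE_iff_hasTorAmplitudeIn (R ⧸ Ideal.span ({f} : Set R)) N₃ 0).1
        ((hasTorDimLE_zero_iff_flat _ N₃).2 hN₃)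
      simpa using this
    exact hasTorAmplitudeIn_of_iso (e₃.symm ≪≫
      (DRing.LBaseChange (Ideal.Quotient.mk (Ideal.span ({f} : Set R)))).mapIso e.symm ≪≫
      LBaseChangeIso (Ideal.Quotient.mk (Ideal.span ({f} : Set R))) P) h0
  obtain ⟨E, hv, hflE, ⟨eE⟩⟩ := hasTorAmplitudeIn_zero_of_away_and_quotient f hloc hquo hz hfl
  exact ⟨E.X 0, inferInstance, inferInstance, hflE 0, ⟨e.symm ≪≫ eE.symm ≪≫ toDIsoInD E hv⟩⟩

end Groth.Agent.S12899
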