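import Groth.Statements.S12903
import Mathlib
import Groth.Agent.Lib.Helper29.QCohQcqs

set_option autoImplicit false
universe u
open CategoryTheory CategoryTheory.Limits AlgebraicGeometry Opposite
open Coherent

open CategoryTheory CategoryTheory.Limits AlgebraicGeometry Opposite

namespace S12903aux
open Groth.Agent.Lib.Helper29.QCoh TopologicalSpace

variable {X : Scheme.{u}}

theorem step1 {U X : Scheme.{u}} (j : U ⟶ X) [IsOpenImmersion j]
    (F : X.Modules) (V : X.Opens) (s : F.val.obj (op V)) :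
    s ∈ Set.range ((((CxOX.gammaZι j).app F).val.app (op V)).hom) ↔
      res F (j.image_preimage_le V) (show Γ(F, V) from s) = 0 := by
  let η := (Scheme.Modules.restrictAdjunction j).unit.app F
  have hexact : Function.Exact ((kernel.ι η).app V) (η.app V) :=
    app_exact_of_exact_of_mono (ShortComplex.mk (kernel.ι η) η (kernel.condition η))
      (ShortComplex.exact_kernel η) V
  have h1 : s ∈ Set.range ((kernel.ι η).app V) ↔ η.app V s = 0 := (hexact s).symm
  exact h1

end S12903aux

namespace S12903aux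
open Groth.Agent.Lib.Helper29.QCoh TopologicalSpace
variable {X : Scheme.{u}}

/-- a section killed by a power of `f` vanishes on `D(f)` -/
lemma res_basicOpen_eq_zero (M : X.Modules) {V : X.Opens} (f : Γ(X, V)) (m : Γ(M, V)) (n : ℕ)
    (h : f ^ n • m = 0) : res M (X.basicOpen_le f) m = 0 := by
  have h1 : res M (X.basicOpen_le f) (f ^ n • m) = 0 := by rw [h, map_zero]
  rw [res_smul] at h1
  have hu : IsUnit ((X.presheaf.map (homOfLE (X.basicOpen_le f)).op).hom (f ^ n)) := by
    rw [map_pow]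
    exact (X.toRingedSpace.isUnit_res_basicOpen f).pow n
  exact eq_zero_of_isUnit_smul hu h1

theorem step3 {U X : Scheme.{u}} (j : U ⟶ X) [IsOpenImmersion j]
    (V : X.Opens)
    (I : Ideal (X.ringCatSheaf.obj.obj (op V)))
    (hZ : ∀ x : X, x ∈ V → (x ∉ Set.range j.base ↔ ∀ f ∈ I, x ∉ X.basicOpen (f : Γ(X, V)))) :
    j ''ᵁ (j ⁻¹ᵁ V) = ⨆ f : I, X.basicOpen (f.1 : Γ(X, V)) := by
  ext x
  simp only [Opens.mem_iSup, SetLike.mem_coe]
  rw [Scheme.Hom.image_preimage_eq_opensRange_inf]
  constructor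
  · rintro ⟨hx1, hx2⟩
    by_contra hcon
    push Not at hcon
    have := (hZ x hx2).mpr (fun f hf => hcon ⟨f, hf⟩)
    exact this hx1
  · rintro ⟨f, hf⟩
    have hxV : x ∈ V := X.basicOpen_le _ hf
    refine ⟨?_, hxV⟩
    by_contra hcon
    exact (hZ x hxV).mp hcon f.1 f.2 hf

end S12903aux

namespace S12903aux
open Groth.Agent.Lib.Helper29.QCoh TopologicalSpace
variable {X : Scheme.{u}}

theorem step34 (F : X.Modules) [F.IsQuasicoherent] (V : X.Opens) (hV : IsAffineOpen V)
    (I : Ideal Γ(X, V)) (hI : I.FG) (W : X.Opens) (hle : W ≤ V)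
    (hcov : W = ⨆ f : I, X.basicOpen (f.1 : Γ(X, V)))
    (s : Γ(F, V)) :
    res F hle s = 0 ↔ ∃ n : ℕ, ∀ a ∈ I ^ n, a • s = 0 := by
  have h3 : res F hle s = 0 ↔
      ∀ f : I, res F (X.basicOpen_le (f.1 : Γ(X, V))) s = 0 := by
    constructor
    · intro h f
      have hf : X.basicOpen (f.1 : Γ(X, V)) ≤ W := by
        rw [hcov]; exact le_iSup (fun f : I => X.basicOpen (f.1 : Γ(X, V))) f
      rw [← res_res F hle hf, h, map_zero]
    · intro h
      apply eq_zero_of_res_cover_eq_zero F (fun f : I => X.basicOpen (f.1 : Γ(X, V)))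
        (fun f => by rw [hcov]; exact le_iSup (fun f : I => X.basicOpen (f.1 : Γ(X, V))) f)
        (by rw [hcov])
      intro f
      rw [res_res]
      exact h f
  rw [h3]
  let J : Ideal Γ(X, V) := (Submodule.span _ {s}).annihilator
  have hJ : ∀ a, a ∈ J ↔ a • s = 0 := fun a => Submodule.mem_annihilator_span_singleton s a
  constructor
  · intro h
    have hrad : I ≤ J.radical := by
      intro f hf
      obtain ⟨n, hn⟩ := exists_pow_smul_eq_zero F hV f s (h ⟨f, hf⟩)
      exact ⟨n, (hJ _).mpr hn⟩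
    obtain ⟨n, hn⟩ := Ideal.exists_pow_le_of_le_radical_of_fg hrad hI
    exact ⟨n, fun a ha => (hJ a).mp (hn ha)⟩
  · rintro ⟨n, hn⟩ f
    exact res_basicOpen_eq_zero F (f.1 : Γ(X, V)) s n (hn _ (Ideal.pow_mem_pow f.2 n))

end S12903aux

namespace S12903aux
open Groth.Agent.Lib.Helper29.QCoh TopologicalSpace

theorem main {U X : Scheme.{u}} (j : U ⟶ X) [IsOpenImmersion j] [QuasiCompact j]
    (F : X.Modules) (hF : Coh.IsQCoh F) (V : X.Opens) (hV : IsAffineOpen V)
    (I : Ideal (X.ringCatSheaf.obj.obj (op V))) (hI : I.FG)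
    (hZ : ∀ x : X, x ∈ V → (x ∉ Set.range j.base ↔ ∀ f ∈ I, x ∉ X.basicOpen (f : Γ(X, V))))
    (s : F.val.obj (op V)) :
    s ∈ Set.range ((((CxOX.gammaZι j).app F).val.app (op V)).hom) ↔ ∃ n : ℕ, ∀ a ∈ I ^ n, a • s = 0 := by
  have hFq : F.IsQuasicoherent := hF
  rw [step1 j F V s]
  exact step34 F V hV I hI _ (j.image_preimage_le V) (step3 j V I hZ) s

end S12903aux

namespace Groth.Agent.S12903

/-- Let X be a scheme, j : U → X a quasi-compact open immersion with closed complement Z, F a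
quasi-coherent O_X-module, V an affine open of X and I a finitely generated ideal of Γ(V, O_X)
cutting out Z ∩ V (a point of V lies outside U if and only if it lies in no basic open X_f with f ∈
I). Then a section s of F over V belongs to the subsheaf Γ_Z(F) of sections supported in Z (the
kernel of F → j_*(F|_U)) if and only if I^n s = 0 for some n. -/
theorem result {U X : Scheme.{u}} (j : U ⟶ X) [IsOpenImmersion j] [QuasiCompact j]
    (F : X.Modules) (hF : Coh.IsQCoh F) (V : X.Opens) (hV : IsAffineOpen V)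
    (I : Ideal (X.ringCatSheaf.obj.obj (op V))) (hI : I.FG)
    (hZ : ∀ x : X, x ∈ V → (x ∉ Set.range j.base ↔ ∀ f ∈ I, x ∉ X.basicOpen (f : Γ(X, V))))
    (s : F.val.obj (op V)) :
    s ∈ Set.range ((((CxOX.gammaZι j).app F).val.app (op V)).hom) ↔ ∃ n : ℕ, ∀ a ∈ I ^ n, a • s = 0 := by
  exact S12903aux.main j F hF V hV I hI hZ s

end Groth.Agent.S12903
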