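import Groth.Statements.S12905
import Groth.Agent.Lib.Lead.Koszul.H1Seq3
import Groth.Agent.Lib.Helper25.SuppTensor
import Groth.Agent.S1526
import Groth.Agent.S9514
import Groth.Agent.Lib.Helper29.VA7

set_option autoImplicit false
universe u
open CategoryTheory CategoryTheory.Limits AlgebraicGeometry
open Variety

namespace Groth.Agent.S12905

/-- Let k be a field and φ : F' → F a monomorphism of coherent modules on P^n_k whose cokernel has
support of Krull dimension at most zero (a finite set of closed points, possibly empty). If F' is
m-regular then F is m-regular. (The published statement is the case of an ideal sheaf contained in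
the ideal sheaf of a curve with quotient supported at finitely many points, phrased as an inequality
of regularities; the argument gives the form stated here.) -/
theorem result (k : Type u) [Field k] (n : ℕ)
    (F' F : (CohB1.ProjSpace n k).Modules) (hF' : Coh.IsCoh F') (hF : Coh.IsCoh F) (φ : F' ⟶ F) [Mono φ]
    (hsupp : topologicalKrullDim (CohB1.support (cokernel φ)) ≤ 0) (m : ℤ)
    (h : Curv2.IsMRegular k n F' m) : Curv2.IsMRegular k n F m := by
  open Groth.Agent.Lib.Lead.Koszul Groth.Agent.Lib.Lead.Pn in
  intro i hi1 hin
  -- the short exact sequence `0 → F' → F → Q → 0`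
  let S : ShortComplex (CohB1.ProjSpace n k).Modules :=
    ShortComplex.mk φ (cokernel.π φ) (cokernel.condition φ)
  have hS : S.ShortExact :=
    ShortComplex.ShortExact.mk' (ShortComplex.exact_cokernel φ) inferInstance inferInstance
  have hS' := shortExact_map_tw n k S hS (m - i)
  have hQ : Coh.IsCoh (cokernel φ) := (Groth.Agent.S9514.result _ hF' hF φ).2
  have hQtw : Coh.IsCoh (tw n k (cokernel φ) (m - i)) := isCoh_tw n k hQ (m - i)
  have hdim : topologicalKrullDim (CohB1.support (tw n k (cokernel φ) (m - i))) ≤ 0 :=
    le_trans (Groth.Agent.Lib.Helper25.SuppTensor.topologicalKrullDim_support_tensorMod_le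
      (cokernel φ) (Twist.twistProjSpace n k (m - i))) hsupp
  haveI : IsProper (CohB1.ProjSpace n k ↘ Spec (CommRingCat.of k)) :=
    (inferInstance : IsProper (CohB1.ProjSpace.toSpec n k))
  have h₃ : Subsingleton (Coh.HH (CohB1.ProjSpace n k) (tw n k (cokernel φ) (m - i)) i) :=
    Groth.Agent.S1526.result k (CohB1.ProjSpace n k) _ hQtw hdim i hi1
  have h₁ : Subsingleton (Coh.HH (CohB1.ProjSpace n k) (tw n k F' (m - i)) i) := h i hi1 hin
  exact subsingleton_HH_X₂ _ hS' i h₁ h₃

end Groth.Agent.S12905
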