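import Groth.Statements.S1291
import Mathlib
import Groth.Agent.Lib.Helper20.RGFitB

set_option autoImplicit false
universe u
open FlatMor

namespace Groth.Agent.S1291


/-- Let A → C be finite locally free of rank d (C a finite projective A-module of constant rank d), h ∈
C such that C_h is étale over A, and J an ideal of C. Let I be the zeroth Fitting ideal of C/J
regarded as a finite A-module. Then the extension of I to C_h equals J·J' for some ideal J' of C_h
(J extended to C_h); and if J is finitely generated then so are I and J'. -/
theorem result {A C : Type u} [CommRing A] [CommRing C] [Algebra A C] [Module.Finite A C] [Module.Projective A C]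
    (d : ℕ) (hd : ∀ p : PrimeSpectrum A, Module.rankAtStalk (R := A) C p = d)
    (h : C) [Algebra.Etale A (Localization.Away h)] (J : Ideal C) :
    ∃ J' : Ideal (Localization.Away h),
      (FlatCA.fittingZero A (C ⧸ J)).map (algebraMap A (Localization.Away h)) = J.map (algebraMap C (Localization.Away h)) * J' ∧
      (J.FG → (FlatCA.fittingZero A (C ⧸ J)).FG ∧ J'.FG) := by

  have hu : Algebra.FormallyUnramified A (Localization.Away h) := inferInstance
  have hf : Algebra.EssFiniteType A (Localization.Away h) := inferInstance
  obtain ⟨K, hK1, hK2⟩ := Groth.Agent.Lib.Helper20.RGFit.fitt_main (A := A) (C := C) (Localization.Away h) h J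
  refine ⟨Fitt.ideal (Localization.Away h) (TensorProduct A (Localization.Away h) C ⧸ K) 0, ?_,
    fun hJ => ⟨?_, ?_⟩⟩
  · rw [Groth.Agent.Lib.Helper20.RGFit.fittingZero_eq]
    exact hK1
  · rw [Groth.Agent.Lib.Helper20.RGFit.fittingZero_eq]
    have : Module.FinitePresentation A C := Module.finitePresentation_of_projective A C
    have : Module.FinitePresentation A (C ⧸ J) :=
      Groth.Agent.Lib.Helper20.RGFit.fp_quotient_ideal J hJ
    exact (Groth.Agent.S6892.result (C ⧸ J) (C ⧸ J) 0).2.1 inferInstance
  · have : Module.FinitePresentation A C := Module.finitePresentation_of_projective A C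
    have : Module.FinitePresentation (Localization.Away h)
        (TensorProduct A (Localization.Away h) C ⧸ K) :=
      Groth.Agent.Lib.Helper20.RGFit.fp_quotient_ideal K (hK2 hJ)
    exact (Groth.Agent.S6892.result (TensorProduct A (Localization.Away h) C ⧸ K)
      (TensorProduct A (Localization.Away h) C ⧸ K) 0).2.1 inferInstance

end Groth.Agent.S1291
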