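import Groth.Statements.S12915
import Mathlib.RingTheory.MvPolynomial.Homogeneous
import Mathlib.Algebra.Order.Antidiag.FinsuppEquiv
import Mathlib.LinearAlgebra.Dimension.Constructions
import Mathlib.LinearAlgebra.FiniteDimensional.Lemmas
import Mathlib.Algebra.MvPolynomial.Division
import Mathlib.Tactic

set_option autoImplicit false
universe u
open CAlgX

namespace Groth.Agent.S12915

open MvPolynomial in
theorem finrank_homogeneousSubmodule (k : Type u) [Field k] (r t : ℕ) :
    Module.finrank k (homogeneousSubmodule (Fin (r + 1)) k t) = (t + r).choose r := by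
  classical
  rw [homogeneousSubmodule_eq_finsupp_supported]
  have hfin : Finite {d : Fin (r + 1) →₀ ℕ | d.degree = t} :=
    (Finsupp.finite_of_degree_eq t).to_subtype
  have := Fintype.ofFinite {d : Fin (r + 1) →₀ ℕ | d.degree = t}
  rw [(AddMonoidAlgebra.supportedEquivFinsupp (R := k) (S := k)
    {d : Fin (r + 1) →₀ ℕ | d.degree = t}).finrank_eq, Module.finrank_finsupp_self]
  have hset : {d : Fin (r + 1) →₀ ℕ | d.degree = t} =
      ↑((Finset.univ : Finset (Fin (r + 1))).finsuppAntidiag t) := by
    ext d
    simp [Finsupp.degree_eq_sum]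
  rw [Fintype.card_eq_nat_card, Nat.card_congr (Equiv.setCongr hset), Nat.card_coe_set_eq,
    Set.ncard_coe_finset, Finset.card_finsuppAntidiag_nat_eq_choose, Finset.card_univ,
    Fintype.card_fin]
  have h1 : r + 1 + t - 1 = r + t := by omega
  rw [h1, ← Nat.choose_symm_add, add_comm]

open MvPolynomial in
theorem homogeneousComponent_mul_of_isHomogeneous {σ : Type*} {R : Type*} [CommSemiring R]
    {f : MvPolynomial σ R} {m : ℕ} (hf : f.IsHomogeneous m) (g : MvPolynomial σ R) (t : ℕ)
    (ht : m ≤ t) : homogeneousComponent t (f * g) = f * homogeneousComponent (t - m) g := by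
  classical
  ext d
  rw [coeff_homogeneousComponent, coeff_mul, coeff_mul]
  split_ifs with hd
  · refine Finset.sum_congr rfl fun ab hab => ?_
    rw [coeff_homogeneousComponent]
    by_cases ha : coeff ab.1 f = 0
    · simp [ha]
    · have h1 : ab.1.degree = m := by
        by_contra h
        exact ha (hf.coeff_eq_zero h)
      have h2 : ab.1.degree + ab.2.degree = t := by
        rw [← map_add, Finset.mem_antidiagonal.mp hab, hd]
      have h3 : ab.2.degree = t - m := by omega
      rw [if_pos h3]
  · symm
    apply Finset.sum_eq_zero
    intro ab hab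
    rw [coeff_homogeneousComponent]
    by_cases ha : coeff ab.1 f = 0
    · simp [ha]
    · have h1 : ab.1.degree = m := by
        by_contra h
        exact ha (hf.coeff_eq_zero h)
      have h2 : ab.1.degree + ab.2.degree = d.degree := by
        rw [← map_add, Finset.mem_antidiagonal.mp hab]
      have h3 : ab.2.degree ≠ t - m := by omega
      rw [if_neg h3, mul_zero]

/-- Let k be a field, S = k[x_0, …, x_r], and f a nonzero homogeneous polynomial of degree m. For every
t ≥ m the image in S/(f) of the homogeneous polynomials of degree t is a k-vector space of dimension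
C(t + r, r) - C(t + r - m, r). (The published clause states that the hypersurface f = 0 in P^r has
degree m; its proof computes exactly this Hilbert function, whose polynomial has leading term m
t^(r-1)/(r-1)!, and that computation is what is stated here.) -/
theorem result (k : Type u) [Field k] (r m : ℕ)
    (f : MvPolynomial (Fin (r + 1)) k) (hf : f.IsHomogeneous m) (hf0 : f ≠ 0) (t : ℕ) (ht : m ≤ t) :
    Module.finrank k
        (Submodule.map ((Ideal.Quotient.mkₐ k (Ideal.span {f})).toLinearMap)
          (MvPolynomial.homogeneousSubmodule (Fin (r + 1)) k t)) =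
      Nat.choose (t + r) r - Nat.choose (t + r - m) r := by
  classical
  have hmt : m + (t - m) = t := by omega
  -- the restricted quotient map
  let φ : MvPolynomial.homogeneousSubmodule (Fin (r + 1)) k t →ₗ[k]
      MvPolynomial (Fin (r + 1)) k ⧸ Ideal.span {f} :=
    ((Ideal.Quotient.mkₐ k (Ideal.span {f})).toLinearMap).domRestrict
      (MvPolynomial.homogeneousSubmodule (Fin (r + 1)) k t)
  have hrange : LinearMap.range φ = Submodule.map ((Ideal.Quotient.mkₐ k (Ideal.span {f})).toLinearMap)
      (MvPolynomial.homogeneousSubmodule (Fin (r + 1)) k t) :=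
    LinearMap.range_domRestrict _ _
  -- multiplication by `f`
  let μ : MvPolynomial.homogeneousSubmodule (Fin (r + 1)) k (t - m) →ₗ[k]
      MvPolynomial.homogeneousSubmodule (Fin (r + 1)) k t :=
    LinearMap.codRestrict _
      ((LinearMap.mulLeft k f).domRestrict (MvPolynomial.homogeneousSubmodule (Fin (r + 1)) k (t - m)))
      (fun g => by
        have := hf.mul g.2
        rw [hmt] at this
        exact this)
  have hμ : ∀ g, (μ g : MvPolynomial (Fin (r + 1)) k) = f * g := fun g => rfl
  have hμinj : Function.Injective μ := by
    intro g g' h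
    have h1 : f * (g : MvPolynomial (Fin (r + 1)) k) = f * g' := by
      rw [← hμ, ← hμ, h]
    exact Subtype.ext (mul_left_cancel₀ hf0 h1)
  have hker : LinearMap.ker φ = LinearMap.range μ := by
    ext p
    rw [LinearMap.mem_ker, LinearMap.mem_range]
    constructor
    · intro hp
      have hp' : (p : MvPolynomial (Fin (r + 1)) k) ∈ Ideal.span {f} :=
        Ideal.Quotient.eq_zero_iff_mem.mp hp
      obtain ⟨g, hg⟩ := Ideal.mem_span_singleton'.mp hp'
      refine ⟨⟨MvPolynomial.homogeneousComponent (t - m) g,
        MvPolynomial.homogeneousComponent_isHomogeneous _ _⟩, ?_⟩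
      apply Subtype.ext
      rw [hμ]
      show f * MvPolynomial.homogeneousComponent (t - m) g = p
      rw [← homogeneousComponent_mul_of_isHomogeneous hf g t ht, mul_comm, hg]
      exact MvPolynomial.homogeneousComponent_eq_self p.2
    · rintro ⟨g, rfl⟩
      show Ideal.Quotient.mk (Ideal.span {f}) (μ g : MvPolynomial (Fin (r + 1)) k) = 0
      rw [hμ, Ideal.Quotient.eq_zero_iff_mem]
      exact Ideal.mul_mem_right _ _ (Ideal.mem_span_singleton_self f)
  have hfin : ∀ n, FiniteDimensional k (MvPolynomial.homogeneousSubmodule (Fin (r + 1)) k n) :=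
    fun n => Module.Finite.iff_fg.mpr (MvPolynomial.homogeneousSubmodule_fg _ _ n)
  have h1 := LinearMap.finrank_range_add_finrank_ker φ
  rw [hker, LinearMap.finrank_range_of_inj hμinj, finrank_homogeneousSubmodule,
    finrank_homogeneousSubmodule, hrange] at h1
  have h2 : t + r - m = t - m + r := by omega
  rw [h2]
  omega

end Groth.Agent.S12915
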