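import Groth.Statements.S12916
import Groth.Agent.Lib.Helper14.FiniteLengthMaxPow

set_option autoImplicit false
universe u
open CAlgX

namespace Groth.Agent.S12916

/-- Let k be an infinite field, S = k[x_0, …, x_r], M a finitely generated S-module and d a natural
number. Then some nonzero homogeneous polynomial f of degree d is quasi-regular on M: the submodule
(0 :_M f) of elements of M annihilated by f has finite length. (The published statement assumes M
graded; this row assumes only that M is finitely generated.) -/
theorem result (k : Type u) [Field k] [Infinite k] (r d : ℕ)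
    (M : Type u) [AddCommGroup M] [Module (MvPolynomial (Fin (r + 1)) k) M] [Module.Finite (MvPolynomial (Fin (r + 1)) k) M] :
    ∃ f : MvPolynomial (Fin (r + 1)) k, f.IsHomogeneous d ∧ f ≠ 0 ∧
      IsFiniteLength (MvPolynomial (Fin (r + 1)) k) ↥(Submodule.torsionBy (MvPolynomial (Fin (r + 1)) k) M f) := by
  classical
  let m : Ideal (MvPolynomial (Fin (r + 1)) k) := MvPolynomial.idealOfVars (Fin (r + 1)) k
  have hm_eq : m = RingHom.ker
      (MvPolynomial.constantCoeff : MvPolynomial (Fin (r + 1)) k →+* k) := by
    ext p
    rw [RingHom.mem_ker]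
    have h1 := MvPolynomial.mem_pow_idealOfVars_iff' (σ := Fin (r + 1)) (R := k) 1 p
    rw [pow_one] at h1
    rw [h1]
    constructor
    · intro h
      exact h 0 (by simp)
    · intro h x hx
      have h2 : x = 0 := by
        have h3 : x.degree = 0 := by omega
        exact (Finsupp.degree_eq_zero_iff x).mp h3
      subst h2
      exact h
  have hm : m.IsMaximal := by
    rw [hm_eq]
    refine RingHom.ker_isMaximal_of_surjective _ ?_
    intro a
    exact ⟨MvPolynomial.C a, MvPolynomial.constantCoeff_C _ a⟩
  let H : Submodule k (MvPolynomial (Fin (r + 1)) k) :=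
    MvPolynomial.homogeneousSubmodule (Fin (r + 1)) k d
  let ι := {P : Ideal (MvPolynomial (Fin (r + 1)) k) //
    P ∈ associatedPrimes (MvPolynomial (Fin (r + 1)) k) M ∧ ¬ H ≤ P.restrictScalars k}
  have hfin : Finite ι := by
    have : Finite {P : Ideal (MvPolynomial (Fin (r + 1)) k) //
        P ∈ associatedPrimes (MvPolynomial (Fin (r + 1)) k) M} :=
      (associatedPrimes.finite (MvPolynomial (Fin (r + 1)) k) M).to_subtype
    exact Finite.of_injective (fun P : ι => (⟨P.1, P.2.1⟩ :
      {P : Ideal (MvPolynomial (Fin (r + 1)) k) //
        P ∈ associatedPrimes (MvPolynomial (Fin (r + 1)) k) M}))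
      (fun a b hab => by
        have h6 : a.1 = b.1 := Subtype.mk.inj hab
        exact Subtype.ext h6)
  let p : Option ι → Submodule k H := fun o =>
    match o with
    | none => ⊥
    | some P => Submodule.comap H.subtype (P.1.restrictScalars k)
  have hXd : ∀ j : Fin (r + 1), (MvPolynomial.X j : MvPolynomial (Fin (r + 1)) k) ^ d ∈ H := by
    intro j
    have := (MvPolynomial.isHomogeneous_X k j).pow d
    rw [one_mul] at this
    exact (MvPolynomial.mem_homogeneousSubmodule _ _).mpr this
  have hp : ∀ o, p o ≠ ⊤ := by
    intro o
    cases o with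
    | none =>
      intro h
      have h1 : (⟨MvPolynomial.X 0 ^ d, hXd 0⟩ : H) ∈ (⊥ : Submodule k H) := by
        change _ ∈ p none
        rw [h]; trivial
      rw [Submodule.mem_bot] at h1
      have h2 := congrArg Subtype.val h1
      simp only [ZeroMemClass.coe_zero] at h2
      exact pow_ne_zero d (MvPolynomial.X_ne_zero 0) h2
    | some P =>
      intro h
      apply P.2.2
      intro x hx
      have h1 : (⟨x, hx⟩ : H) ∈ p (some P) := by rw [h]; trivial
      exact h1
  obtain ⟨f, hf⟩ := Submodule.exists_forall_notMem_of_forall_ne_top p hp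
  refine ⟨f.1, f.2, ?_, ?_⟩
  · intro h0
    apply hf none
    change f ∈ (⊥ : Submodule k H)
    rw [Submodule.mem_bot]
    exact Subtype.ext h0
  · set N := Submodule.torsionBy (MvPolynomial (Fin (r + 1)) k) M f.1 with hN
    -- every associated prime of N is m
    have hass : ∀ P ∈ associatedPrimes (MvPolynomial (Fin (r + 1)) k) N, P = m := by
      intro P hP
      have hPM : P ∈ associatedPrimes (MvPolynomial (Fin (r + 1)) k) M :=
        associatedPrimes.subset_of_injective (f := N.subtype) N.injective_subtype hP
      have hPprime : P.IsPrime := IsAssociatedPrime.isPrime hP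
      have hfP : f.1 ∈ P := by
        apply IsAssociatedPrime.annihilator_le hP
        rw [Submodule.mem_annihilator]
        intro n _
        apply Subtype.ext
        have h5 : (n : M) ∈ Submodule.torsionBy (MvPolynomial (Fin (r + 1)) k) M f.1 := n.2
        rw [Submodule.mem_torsionBy_iff] at h5
        simp [h5]
      have hHP : H ≤ P.restrictScalars k := by
        by_contra hcon
        exact hf (some ⟨P, hPM, hcon⟩) hfP
      have hmP : m ≤ P := by
        rw [Ideal.span_le]
        rintro _ ⟨j, rfl⟩
        exact hPprime.mem_of_pow_mem d (hHP (hXd j))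
      exact (hm.eq_of_le hPprime.ne_top hmP).symm
    have hNoeth : IsNoetherianRing (MvPolynomial (Fin (r + 1)) k) := inferInstance
    have hNfin : Module.Finite (MvPolynomial (Fin (r + 1)) k) N := inferInstance
    have hrad : m ≤ (Module.annihilator (MvPolynomial (Fin (r + 1)) k) N).radical := by
      rw [← Ideal.sInf_minimalPrimes]
      apply le_sInf
      intro P hP
      have := Module.associatedPrimes.minimalPrimes_annihilator_subset_associatedPrimes
        (MvPolynomial (Fin (r + 1)) k) N hP
      rw [hass P this]
    obtain ⟨n, hn⟩ := Ideal.exists_pow_le_of_le_radical_of_fg hrad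
      (MvPolynomial.idealOfVars_fg (Fin (r + 1)) k)
    exact Groth.Agent.Lib.Helper14.isFiniteLength_of_pow_le_annihilator _ m n N hn

end Groth.Agent.S12916
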