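import Groth.Statements.S12932
import Mathlib

set_option autoImplicit false
universe u v
open scoped BigOperators
open InvTh

namespace Groth.Agent.S12932

theorem sum_eq_card_nsmul_of_left_invariant {G : Type*} [Group G] [Fintype G] (H : Subgroup G)
    {M : Type*} [AddCommMonoid M] (f : G → M) (hf : ∀ h ∈ H, ∀ g, f (h * g) = f g) :
    ∃ m : M, ∑ g, f g = Nat.card H • m := by
  classical
  let s := QuotientGroup.rightRel H
  haveI : Fintype (Quotient s) := Fintype.ofFinite _
  refine ⟨∑ j : Quotient s, f j.out, ?_⟩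
  rw [← Finset.sum_fiberwise Finset.univ (Quotient.mk s) f, Finset.smul_sum]
  refine Finset.sum_congr rfl fun j _ => ?_
  have hset : (Finset.univ.filter fun i => Quotient.mk s i = j) =
      (Finset.univ : Finset {x // x ∈ H}).image (fun h : {x // x ∈ H} => (h : G) * j.out) := by
    ext i
    rw [Finset.mem_image, Finset.mem_filter]
    simp only [Finset.mem_univ, true_and]
    constructor
    · intro hi
      have h1 : s i j.out := Quotient.exact (hi.trans (Quotient.out_eq j).symm)
      have h2 : j.out * i⁻¹ ∈ H := QuotientGroup.rightRel_apply.1 h1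
      exact ⟨⟨(j.out * i⁻¹)⁻¹, H.inv_mem h2⟩, by simp⟩
    · rintro ⟨⟨h, hh⟩, rfl⟩
      rw [← Quotient.out_eq j]
      apply Quotient.sound
      change s _ _
      rw [QuotientGroup.rightRel_apply]
      simpa using hh
  rw [hset, Finset.sum_image (by intro a _ b _ hab; exact Subtype.ext (mul_right_cancel (b := j.out) hab))]
  simp [hf _ (Subtype.mem _), Nat.card_eq_fintype_card]

open Pointwise


/-- Let `B` be a commutative ring with an action of a finite group `Γ` by ring automorphisms, and call a
prime ideal `P` of `B` tame when the order of its inertia group `{γ | γ • x - x ∈ P for all x}` is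
not divisible by the characteristic of `B/P` (its ramification group is trivial). Then every prime
of `B` is tame if and only if the trace `b ↦ Σ_γ γ • b`, which takes values in the invariant ring
`B^Γ` and is `B^Γ`-linear, is onto `B^Γ` — equivalently, some element of `B` has trace `1`. -/
theorem result
    (B : Type u) [CommRing B] (Γ : Type v) [Group Γ] [Fintype Γ] [MulSemiringAction Γ B] :
    (∃ b : B, ∑ γ : Γ, γ • b = 1) ↔
      ∀ P : Ideal B, P.IsPrime → ((Nat.card (P.inertia Γ) : ℕ) : B ⧸ P) ≠ 0 := by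
  classical
  constructor
  · rintro ⟨b, hb⟩ P hP hcard
    obtain ⟨m, hm⟩ := sum_eq_card_nsmul_of_left_invariant (P.inertia Γ)
      (fun γ => Ideal.Quotient.mk P (γ • b)) (by
        intro σ hσ γ
        simp only [mul_smul]
        exact Ideal.Quotient.eq.2 (hσ (γ • b)))
    have h10 : (1 : B ⧸ P) = 0 := by
      rw [← map_one (Ideal.Quotient.mk P), ← hb, map_sum, hm, nsmul_eq_mul, hcard, zero_mul]
    haveI := Ideal.Quotient.nontrivial_iff.2 hP.ne_top
    exact one_ne_zero h10
  · intro h
    by_contra hne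
    push_neg at hne
    let A := FixedPoints.subring B Γ
    haveI : Algebra.IsInvariant A B Γ := ⟨fun b hb => ⟨⟨b, hb⟩, rfl⟩⟩
    haveI : Algebra.IsIntegral A B := Algebra.IsInvariant.isIntegral A B Γ
    have hinv : ∀ b : B, ∀ g : Γ, g • (∑ γ : Γ, γ • b) = ∑ γ : Γ, γ • b := by
      intro b g
      rw [Finset.smul_sum]
      simp only [← mul_smul]
      exact Fintype.sum_equiv (Equiv.mulLeft g) _ _ (fun _ => rfl)
    let T : Ideal A :=
      { carrier := {a | ∃ b : B, ∑ γ : Γ, γ • b = (a : B)}
        add_mem' := by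
          rintro a a' ⟨b, hb⟩ ⟨b', hb'⟩
          exact ⟨b + b', by simp [smul_add, Finset.sum_add_distrib, hb, hb']⟩
        zero_mem' := ⟨0, by simp⟩
        smul_mem' := by
          rintro c a ⟨b, hb⟩
          refine ⟨(c : B) * b, ?_⟩
          have hc : ∀ γ : Γ, γ • (c : B) = c := c.2
          simp only [smul_mul', hc, ← Finset.mul_sum, hb]
          rfl }
    have hT : T ≠ ⊤ := by
      intro hT
      have h1 : (1 : A) ∈ T := hT ▸ Submodule.mem_top
      obtain ⟨b, hb⟩ := h1
      exact hne b hb
    obtain ⟨m, hm, hTm⟩ := Ideal.exists_le_maximal T hT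
    obtain ⟨P, hPmax, hPm⟩ := Ideal.exists_ideal_over_maximal_of_isIntegral (S := B) m (by
      have : RingHom.ker (algebraMap A B) = ⊥ :=
        (RingHom.injective_iff_ker_eq_bot _).1 Subtype.val_injective
      rw [this]; exact bot_le)
    have hPprime : P.IsPrime := hPmax.isPrime
    have htr : ∀ b : B, ∑ γ : Γ, γ • b ∈ P := by
      intro b
      have h1 : (⟨∑ γ : Γ, γ • b, hinv b⟩ : A) ∈ T := ⟨b, rfl⟩
      have h2 := hTm h1
      rw [← hPm] at h2
      exact h2
    -- finite order argument
    have hfin : ∀ γ : Γ, γ • P ≤ P → γ • P = P := by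
      intro γ hγ
      have hpow : ∀ n : ℕ, γ ^ n • P ≤ P := by
        intro n
        induction n with
        | zero => simp
        | succ n ih =>
          rw [pow_succ, mul_smul]
          exact (Ideal.pointwise_smul_le_pointwise_smul_iff.2 hγ).trans ih
      apply le_antisymm hγ
      have hn := orderOf_pos γ
      calc P = (γ ^ orderOf γ) • P := by rw [pow_orderOf_eq_one, one_smul]
        _ = γ • (γ ^ (orderOf γ - 1) • P) := by
            rw [← mul_smul, ← pow_succ', Nat.sub_add_cancel hn]
        _ ≤ γ • P := Ideal.pointwise_smul_le_pointwise_smul_iff.2 (hpow _)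
    have hu : ∃ u : B, u ∉ P ∧ ∀ γ : Γ, γ • P ≠ P → γ • u ∈ P := by
      by_contra hcon
      push_neg at hcon
      have hle : (Finset.univ.filter (fun γ : Γ => γ • P ≠ P)).inf (fun γ => γ⁻¹ • P) ≤ P := by
        intro u hu
        by_contra huP
        obtain ⟨γ, hγ, hγu⟩ := hcon u huP
        apply hγu
        have := (Finset.inf_le (f := fun γ : Γ => γ⁻¹ • P)
          (Finset.mem_filter.2 ⟨Finset.mem_univ γ, hγ⟩)) hu
        rwa [Ideal.mem_inv_pointwise_smul_iff] at this
      rw [Ideal.IsPrime.inf_le' hPprime] at hle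
      obtain ⟨γ, hγ, hγP⟩ := hle
      have h3 := hfin γ⁻¹ hγP
      apply (Finset.mem_filter.1 hγ).2
      calc γ • P = γ • (γ⁻¹ • P) := by rw [h3]
        _ = P := smul_inv_smul γ P
    obtain ⟨u, huP, hu⟩ := hu
    have hmap : ∀ γ : Γ, γ • P = P → P ≤ P.comap (MulSemiringAction.toRingHom Γ B γ) := by
      intro γ hγ x hx
      have : γ • x ∈ γ • P := Ideal.smul_mem_pointwise_smul_iff.2 hx
      rw [hγ] at this
      exact this
    let φ : Γ → ((B ⧸ P) →* (B ⧸ P)) := fun γ =>
      if h : γ • P = P then
        (Ideal.quotientMap P (MulSemiringAction.toRingHom Γ B γ) (hmap γ h)).toMonoidHom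
      else 1
    have hφ : ∀ γ (_ : γ • P = P) (c : B),
        φ γ (Ideal.Quotient.mk P c) = Ideal.Quotient.mk P (γ • c) := by
      intro γ h c
      simp only [φ, dif_pos h]
      rfl
    set D : Finset Γ := Finset.univ.filter (fun γ => γ • P = P) with hD
    have h1D : (1 : Γ) ∈ D := by simp [hD]
    have hrel : ∀ c : B, ∑ γ ∈ D, Ideal.Quotient.mk P (γ • u) * φ γ (Ideal.Quotient.mk P c) = 0 := by
      intro c
      have h1 := htr (u * c)
      rw [← Ideal.Quotient.eq_zero_iff_mem, map_sum] at h1
      rw [← h1, hD, Finset.sum_filter]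
      refine Finset.sum_congr rfl fun γ _ => ?_
      by_cases hγ : γ • P = P
      · rw [if_pos hγ, hφ γ hγ, smul_mul', map_mul]
      · rw [if_neg hγ, smul_mul', map_mul, Ideal.Quotient.eq_zero_iff_mem.2 (hu γ hγ), zero_mul]
    have hli := linearIndependent_monoidHom (B ⧸ P) (B ⧸ P)
    rw [linearIndependent_iff'] at hli
    have hzero := hli (D.image φ) (fun σ => ∑ γ ∈ D with φ γ = σ, Ideal.Quotient.mk P (γ • u)) (by
      funext x
      obtain ⟨c, rfl⟩ := Ideal.Quotient.mk_surjective x
      simp only [Finset.sum_apply, Pi.smul_apply, smul_eq_mul, Pi.zero_apply, Finset.sum_mul]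
      rw [← hrel c, ← Finset.sum_fiberwise_of_maps_to (s := D) (t := D.image φ) (g := φ)
        (fun γ hγ => Finset.mem_image_of_mem φ hγ)]
      refine Finset.sum_congr rfl fun σ _ => ?_
      refine Finset.sum_congr rfl fun γ hγ => ?_
      rw [(Finset.mem_filter.1 hγ).2]) (φ 1) (Finset.mem_image_of_mem φ h1D)
    have hφ1 : ∀ x, φ 1 x = x := by
      intro x
      obtain ⟨c, rfl⟩ := Ideal.Quotient.mk_surjective x
      rw [hφ 1 (one_smul _ _), one_smul]
    have hset : (D.filter fun γ => φ γ = φ 1) = Finset.univ.filter (fun γ => γ ∈ P.inertia Γ) := by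
      ext γ
      simp only [Finset.mem_filter, Finset.mem_univ, true_and, hD]
      constructor
      · rintro ⟨hγ, hγ1⟩ x
        have := DFunLike.congr_fun hγ1 (Ideal.Quotient.mk P x)
        rw [hφ γ hγ, hφ1] at this
        exact Ideal.Quotient.eq.1 this
      · intro hγ
        have hγP : γ • P = P := Ideal.inertia_le_stabilizer P hγ
        refine ⟨hγP, ?_⟩
        ext x
        obtain ⟨c, rfl⟩ := Ideal.Quotient.mk_surjective x
        rw [hφ γ hγP, hφ1]
        exact Ideal.Quotient.eq.2 (hγ c)
    have hsum : ∑ γ ∈ D with φ γ = φ 1, Ideal.Quotient.mk P (γ • u) =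
        (Nat.card (P.inertia Γ) : B ⧸ P) * Ideal.Quotient.mk P u := by
      rw [hset]
      have : ∀ γ ∈ Finset.univ.filter (fun γ => γ ∈ P.inertia Γ),
          Ideal.Quotient.mk P (γ • u) = Ideal.Quotient.mk P u := by
        intro γ hγ
        exact Ideal.Quotient.eq.2 ((Finset.mem_filter.1 hγ).2 u)
      rw [Finset.sum_congr rfl this, Finset.sum_const, nsmul_eq_mul, Nat.card_eq_fintype_card,
        Fintype.card_subtype]
    rw [hsum] at hzero
    haveI := hPprime
    rcases mul_eq_zero.1 hzero with h0 | h0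
    · exact h P hPprime h0
    · exact huP (Ideal.Quotient.eq_zero_iff_mem.1 h0)

end Groth.Agent.S12932
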