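import Groth.Statements.S12933
import Mathlib
-- import your own Groth.Agent.* helpers here

set_option autoImplicit false
universe u v w w'
open TensorProduct
open InvTh

namespace Groth.Agent.S12933

/-- Let `R` be a commutative ring, `B` a commutative `R`-algebra with an action of a finite group `Γ` by
`R`-algebra automorphisms, and `R'` a flat commutative `R`-algebra; let `Γ` act on `R' ⊗_R B`
through the factor `B`. Then an element of `R' ⊗_R B` is fixed by every element of `Γ` if and only
if it lies in the `R'`-submodule spanned by the tensors `1 ⊗ b` with `b ∈ B^Γ`: taking invariants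
commutes with flat base change (the map `R' ⊗_R B^Γ → R' ⊗_R B` being moreover injective by
flatness). -/
theorem result
    (R : Type u) [CommRing R] (B : Type v) [CommRing B] [Algebra R B]
    (Γ : Type w) [Group Γ] [Finite Γ] [MulSemiringAction Γ B] [SMulCommClass Γ R B]
    (R' : Type w') [CommRing R'] [Algebra R R'] [Module.Flat R R']
    (x : R' ⊗[R] B) :
    (∀ γ : Γ, Algebra.TensorProduct.map (AlgHom.id R R') (MulSemiringAction.toAlgHom R B γ) x = x) ↔
      x ∈ Submodule.span R' ((fun b : B => (1 : R') ⊗ₜ[R] b) '' {b : B | ∀ γ : Γ, γ • b = b}) := by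
  classical
  cases nonempty_fintype Γ
  -- the submodule of invariants
  let Binv : Submodule R B :=
    { carrier := {b : B | ∀ γ : Γ, γ • b = b}
      add_mem' := by
        intro a b ha hb γ
        rw [smul_add, ha γ, hb γ]
      zero_mem' := fun γ => smul_zero γ
      smul_mem' := by
        intro r b hb γ
        rw [smul_comm, hb γ] }
  let ι : Binv →ₗ[R] B := Binv.subtype
  let d : B →ₗ[R] (Γ → B) :=
    LinearMap.pi (fun σ => (MulSemiringAction.toAlgHom R B σ).toLinearMap - LinearMap.id)
  have hd : ∀ (r : B) (σ : Γ), d r σ = σ • r - r := fun r σ => rfl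
  have hex : Function.Exact ι d := by
    intro r
    constructor
    · intro h
      have h' : ∀ σ : Γ, σ • r = r := fun σ => by
        have := congr_fun h σ
        rw [hd] at this
        exact sub_eq_zero.mp this
      exact ⟨⟨r, h'⟩, rfl⟩
    · rintro ⟨s, rfl⟩
      ext σ
      rw [hd]
      change σ • (s : B) - (s : B) = 0
      rw [s.2 σ, sub_self]
  have hex' := Module.Flat.lTensor_exact R' hex
  have key : ∀ (σ : Γ) (z : R' ⊗[R] B),
      (TensorProduct.piRight R R R' (fun _ : Γ => B)) (d.lTensor R' z) σ =
        Algebra.TensorProduct.map (AlgHom.id R R') (MulSemiringAction.toAlgHom R B σ) z - z := by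
    intro σ z
    induction z using TensorProduct.induction_on with
    | zero => simp
    | tmul a r =>
      simp only [LinearMap.lTensor_tmul, TensorProduct.piRight_apply,
        TensorProduct.piRightHom_tmul, Algebra.TensorProduct.map_tmul, AlgHom.coe_id, id_eq,
        MulSemiringAction.toAlgHom_apply]
      rw [hd, TensorProduct.tmul_sub]
    | add z w hz hw =>
      simp only [map_add, Pi.add_apply] at hz hw ⊢
      rw [hz, hw]
      abel
  have hspan : ∀ y : R' ⊗[R] Binv, ι.lTensor R' y ∈
      Submodule.span R' ((fun b : B => (1 : R') ⊗ₜ[R] b) '' {b : B | ∀ γ : Γ, γ • b = b}) := by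
    intro y
    induction y using TensorProduct.induction_on with
    | zero => simp
    | tmul a b =>
      rw [LinearMap.lTensor_tmul]
      have : a ⊗ₜ[R] (ι b) = a • ((1 : R') ⊗ₜ[R] (b : B)) := by
        rw [TensorProduct.smul_tmul', smul_eq_mul, mul_one]
        rfl
      rw [this]
      exact Submodule.smul_mem _ _ (Submodule.subset_span ⟨b.1, b.2, rfl⟩)
    | add z w hz hw =>
      rw [map_add]
      exact Submodule.add_mem _ hz hw
  have hsmul : ∀ (a : R') (z : R' ⊗[R] B), a • z = (a ⊗ₜ[R] (1 : B)) * z := by
    intro a z
    induction z using TensorProduct.induction_on with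
    | zero => simp
    | tmul c b =>
      rw [TensorProduct.smul_tmul', Algebra.TensorProduct.tmul_mul_tmul, smul_eq_mul, one_mul]
    | add z w hz hw => rw [smul_add, mul_add, hz, hw]
  constructor
  · intro hx
    have hdx : d.lTensor R' x = 0 := by
      apply (TensorProduct.piRight R R R' (fun _ : Γ => B)).injective
      rw [map_zero]
      ext σ
      rw [key, hx σ, sub_self]
      rfl
    obtain ⟨y, hy⟩ := (hex' x).mp hdx
    rw [← hy]
    exact hspan y
  · intro hx γ
    induction hx using Submodule.span_induction with
    | mem z hz =>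
      obtain ⟨b, hb, rfl⟩ := hz
      simp only [Algebra.TensorProduct.map_tmul, AlgHom.coe_id, id_eq, map_one,
        MulSemiringAction.toAlgHom_apply]
      rw [hb γ]
    | zero => simp
    | add z w _ _ hz hw => rw [map_add, hz, hw]
    | smul a z _ hz =>
      rw [hsmul, map_mul, hz, Algebra.TensorProduct.map_tmul]
      simp

end Groth.Agent.S12933
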