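import Groth.Statements.S12934
-- import your own Groth.Agent.* helpers here
import Mathlib
import Groth.Agent.Lib.Helper12.Inertia9

set_option autoImplicit false
universe u v
open InvTh

namespace Groth.Agent.S12934

open Groth.Agent.Lib.Helper12.Inertia8 Groth.Agent.Lib.Helper12.Inertia9

/-- Let `B` be a local commutative ring with maximal ideal `m` and residue field `k`, and `Γ` a finite
group acting faithfully on `B` by ring automorphisms, such that every element of `Γ` acts trivially
modulo `m` (the whole group is inertia) and maps each principal ideal of `B` into itself (every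
ideal is stable). Let `S ⊆ Γ` be the set of `γ` with `γ b ∈ b + b m` for all `b`. Then: if `k` has
characteristic `0`, `S = {1}`; if `k` has characteristic `p > 0`, `S` is (the underlying set of) a
Sylow `p`-subgroup; every commutator of `Γ` lies in `S`, so `Γ/S` is abelian; and whenever the class
of `γ` in `Γ/S` has order `n` (`γ^n ∈ S`, no smaller positive power in `S`), `k` contains a
primitive `n`-th root of unity. (The published statement also bounds the number of generators of
`Γ/S` by the number of generators of the monoid of principal ideals; that clause is not included.) -/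
theorem result
    (B : Type u) [CommRing B] [IsLocalRing B]
    (Γ : Type v) [Group Γ] [Finite Γ] [MulSemiringAction Γ B] [FaithfulSMul Γ B]
    (hin : ∀ (γ : Γ) (b : B), γ • b - b ∈ IsLocalRing.maximalIdeal B)
    (hst : ∀ (γ : Γ) (b : B), ∃ u : B, γ • b = b * u)
    (S : Set Γ)
    (hS : ∀ γ : Γ, γ ∈ S ↔ ∀ b : B, ∃ x ∈ IsLocalRing.maximalIdeal B, γ • b = b + b * x) :
    (ringChar (IsLocalRing.ResidueField B) = 0 → S = {1}) ∧
      (∀ (p : ℕ) [Fact p.Prime], ringChar (IsLocalRing.ResidueField B) = p →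
        ∃ Q : Sylow p Γ, (Q : Set Γ) = S) ∧
      (∀ γ δ : Γ, γ * δ * γ⁻¹ * δ⁻¹ ∈ S) ∧
      (∀ (γ : Γ) (n : ℕ), 0 < n → γ ^ n ∈ S → (∀ i : ℕ, 0 < i → i < n → γ ^ i ∉ S) →
        ∃ ζ : IsLocalRing.ResidueField B, IsPrimitiveRoot ζ n) := by
  classical
  have hSiff : ∀ γ, γ ∈ S ↔ Θ hin hst γ = 1 :=
    fun γ => (hS γ).trans (Θ_eq_one_iff hin hst γ).symm
  have hSker : S = ((Θ hin hst).ker : Set Γ) := by
    ext γ
    rw [hSiff]
    exact MonoidHom.mem_ker.symm
  refine ⟨?_, ?_, ?_, ?_⟩
  · intro h0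
    haveI : CharP (IsLocalRing.ResidueField B) 0 := ringChar.of_eq h0
    ext γ
    simp only [Set.mem_singleton_iff]
    constructor
    · intro hγ
      apply eq_one_of_pow_eq_one hin hst ((hSiff γ).mp hγ) (pow_orderOf_eq_one γ)
      rw [Ne, CharP.cast_eq_zero_iff (IsLocalRing.ResidueField B) 0, zero_dvd_iff]
      exact (orderOf_pos γ).ne'
    · rintro rfl
      rw [hSiff, map_one]
  · intro p _ hp
    haveI : CharP (IsLocalRing.ResidueField B) p := ringChar.of_eq hp
    have hPG : IsPGroup p (Θ hin hst).ker := by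
      intro g
      obtain ⟨a, n', hn', hord⟩ := Nat.exists_eq_pow_mul_and_not_dvd (orderOf_pos g.1).ne' p
        (Nat.Prime.ne_one Fact.out)
      refine ⟨a, ?_⟩
      apply Subtype.ext
      rw [Subgroup.coe_pow, Subgroup.coe_one]
      apply eq_one_of_pow_eq_one hin hst (γ := g.1 ^ p ^ a) (l := n') ?_ ?_ ?_
      · rw [map_pow, MonoidHom.mem_ker.mp g.2, one_pow]
      · rw [← pow_mul, ← hord, pow_orderOf_eq_one]
      · rw [Ne, CharP.cast_eq_zero_iff (IsLocalRing.ResidueField B) p]; exact hn'
    have hidx : ¬ p ∣ (Θ hin hst).ker.index := by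
      intro hdvd
      rw [Subgroup.index_eq_card] at hdvd
      obtain ⟨q, hq⟩ := exists_prime_orderOf_dvd_card' p hdvd
      obtain ⟨γ, rfl⟩ := QuotientGroup.mk_surjective q
      have h1 : Θ hin hst (γ ^ p) = 1 := by
        have : ((γ : Γ ⧸ (Θ hin hst).ker)) ^ p = 1 := hq ▸ pow_orderOf_eq_one _
        rw [← QuotientGroup.mk_pow, QuotientGroup.eq_one_iff] at this
        exact MonoidHom.mem_ker.mp this
      have h2 : ∀ i, 0 < i → i < p → Θ hin hst (γ ^ i) ≠ 1 := by
        intro i hi hip h
        have : ((γ : Γ ⧸ (Θ hin hst).ker)) ^ i = 1 := by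
          rw [← QuotientGroup.mk_pow, QuotientGroup.eq_one_iff]
          exact MonoidHom.mem_ker.mpr h
        have := orderOf_le_of_pow_eq_one hi this
        omega
      obtain ⟨ζ, hζ⟩ := exists_primitiveRoot hin hst γ p (Nat.Prime.pos Fact.out) h1 h2
      have h3 : (ζ - 1) ^ p = 0 := by
        rw [sub_pow_char, hζ.pow_eq_one, one_pow, sub_self]
      have h4 : ζ = 1 := sub_eq_zero.mp (pow_eq_zero_iff (Nat.Prime.pos Fact.out).ne' |>.mp h3)
      rw [h4] at hζ
      exact (Nat.Prime.ne_one Fact.out) (IsPrimitiveRoot.one_left_iff.mp hζ)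
    refine ⟨hPG.toSylow hidx, ?_⟩
    rw [hSker]
    rfl
  · intro γ δ
    rw [hSiff]
    simp only [map_mul]
    have h1 : Θ hin hst γ * Θ hin hst γ⁻¹ = 1 := by rw [← map_mul, mul_inv_cancel, map_one]
    have h2 : Θ hin hst δ * Θ hin hst δ⁻¹ = 1 := by rw [← map_mul, mul_inv_cancel, map_one]
    calc Θ hin hst γ * Θ hin hst δ * Θ hin hst γ⁻¹ * Θ hin hst δ⁻¹
        = (Θ hin hst γ * Θ hin hst γ⁻¹) * (Θ hin hst δ * Θ hin hst δ⁻¹) := by ac_rfl
      _ = 1 := by rw [h1, h2, one_mul]
  · intro γ n hn hγn hmin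
    exact exists_primitiveRoot hin hst γ n hn ((hSiff _).mp hγn)
      (fun i hi hi' h => hmin i hi hi' ((hSiff _).mpr h))

end Groth.Agent.S12934
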