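import Groth.Statements.S12936
import Mathlib
-- import your own Groth.Agent.* helpers here

set_option autoImplicit false
universe u v
open InvTh

namespace Groth.Agent.S12936

/-- Let `B` be a commutative ring with an action of a finite group `Γ` by ring automorphisms and `P` a
maximal ideal of `B`, with decomposition group `D_P = {γ | γP = P}` and decomposition ring `D =
B^{D_P}`. Then `D = B^Γ + (P ∩ D)`: every element of `B` fixed by `D_P` is congruent modulo `P` to a
`Γ`-invariant element. Hence the residue field of `D` at `P ∩ D` is that of `B^Γ` at `P ∩ B^Γ`; for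
an arbitrary prime `P` the same equality of residue fields follows by localising at `P ∩ B^Γ`. (The
published statement prints this residue field as `k(P)`; the proof establishes the equality with the
residue field of `B^Γ` stated here.) -/
theorem result
    (B : Type u) [CommRing B] (Γ : Type v) [Group Γ] [Finite Γ] [MulSemiringAction Γ B]
    (P : Ideal B) [P.IsMaximal] (x : B)
    (hx : ∀ γ : Γ, (∀ y : B, y ∈ P ↔ γ • y ∈ P) → γ • x = x) :
    ∃ c : B, (∀ γ : Γ, γ • c = c) ∧ x - c ∈ P := by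
  classical
  cases nonempty_fintype Γ
  have hPprime : P.IsPrime := Ideal.IsMaximal.isPrime inferInstance
  -- the decomposition group
  let D : Subgroup Γ :=
    { carrier := {γ | ∀ y : B, y ∈ P ↔ γ • y ∈ P}
      one_mem' := fun y => by rw [one_smul]
      mul_mem' := by
        intro γ δ hγ hδ y
        rw [mul_smul, ← hγ, ← hδ]
      inv_mem' := by
        intro γ hγ y
        rw [hγ (γ⁻¹ • y), smul_inv_smul] }
  have hD : ∀ γ, γ ∈ D ↔ ∀ y : B, y ∈ P ↔ γ • y ∈ P := fun γ => Iff.rfl
  -- Step 1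
  have step1 : ∀ γ : Γ, γ ∉ D → ∃ a : B, a ∉ P ∧ γ • a ∈ P := by
    intro γ hγ
    rw [hD] at hγ
    push Not at hγ
    obtain ⟨y, hy⟩ := hγ
    rcases hy with ⟨hy1, hy2⟩ | ⟨hy1, hy2⟩
    · -- y ∈ P, γ • y ∉ P
      by_contra hcon
      push Not at hcon
      let Q : Ideal B := P.comap (MulSemiringAction.toRingHom Γ B γ)
      have hQmax : Q.IsMaximal :=
        Ideal.comap_isMaximal_of_surjective _ (MulAction.surjective γ)
      have hQP : Q ≤ P := by
        intro z hz
        by_contra hzP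
        exact hcon z hzP hz
      have hEq : Q = P := hQmax.eq_of_le (Ideal.IsMaximal.ne_top inferInstance) hQP
      have : y ∈ Q := hEq ▸ hy1
      exact hy2 this
    · exact ⟨y, hy1, hy2⟩
  choose! a ha using step1
  -- Step 2
  let S : Finset Γ := Finset.univ.filter (fun γ => γ ∉ D)
  let A : B := ∏ γ ∈ S, a γ
  have hA : A ∉ P := by
    intro h
    obtain ⟨γ, hγ, hγP⟩ := (Ideal.IsPrime.prod_mem_iff).mp h
    exact (ha γ (Finset.mem_filter.mp hγ).2).1 hγP
  have hγA : ∀ γ, γ ∉ D → γ • A ∈ P := by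
    intro γ hγ
    show MulSemiringAction.toRingHom Γ B γ A ∈ P
    rw [map_prod]
    exact Ideal.prod_mem P (Finset.mem_filter.mpr ⟨Finset.mem_univ γ, hγ⟩) (ha γ hγ).2
  -- Step 3
  obtain ⟨y, i, hi, hyi⟩ := Ideal.IsMaximal.exists_inv (inferInstance : P.IsMaximal) hA
  let w : B := y * A
  have hw1 : w - 1 ∈ P := by
    have : w - 1 = -i := by rw [← hyi]; ring
    rw [this]; exact P.neg_mem hi
  have hγw : ∀ γ, γ ∉ D → γ • w ∈ P := by
    intro γ hγ
    rw [smul_mul']
    exact P.mul_mem_left _ (hγA γ hγ)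
  -- Step 4
  let w' : B := ∏ δ : D, (δ : Γ) • w
  have hgw' : ∀ g : Γ, g • w' = ∏ δ : D, (g * (δ : Γ)) • w := by
    intro g
    show MulSemiringAction.toRingHom Γ B g w' = _
    rw [map_prod]
    apply Finset.prod_congr rfl
    intro h _
    show g • (h : Γ) • w = _
    rw [mul_smul]
  have hDw' : ∀ δ' : D, (δ' : Γ) • w' = w' := by
    intro δ'
    rw [hgw']
    exact Fintype.prod_equiv (Equiv.mulLeft δ') _ _ (fun h => rfl)
  have hw'1 : w' - 1 ∈ P := by
    rw [← Ideal.Quotient.eq, map_prod, map_one]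
    apply Finset.prod_eq_one
    intro δ _
    rw [← map_one (Ideal.Quotient.mk P), Ideal.Quotient.eq]
    have : (δ : Γ) • w - 1 = (δ : Γ) • (w - 1) := by rw [smul_sub, smul_one]
    rw [this]
    exact ((hD δ).mp δ.2 _).mp hw1
  have hγw' : ∀ γ, γ ∉ D → γ • w' ∈ P := by
    intro γ hγ
    rw [hgw']
    refine Ideal.prod_mem P (Finset.mem_univ (1 : D)) ?_
    show (γ * ((1 : D) : Γ)) • w ∈ P
    rw [Subgroup.coe_one, mul_one]
    exact hγw γ hγ
  -- Step 5
  let z : B := x * w'
  have hDz : ∀ δ, δ ∈ D → δ • z = z := by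
    intro δ hδ
    show δ • (x * w') = x * w'
    rw [smul_mul', hx δ ((hD δ).mp hδ), hDw' ⟨δ, hδ⟩]
  have hzx : z - x ∈ P := by
    have : z - x = x * (w' - 1) := by show x * w' - x = _; ring
    rw [this]; exact P.mul_mem_left _ hw'1
  have hγz : ∀ γ, γ ∉ D → γ • z ∈ P := by
    intro γ hγ
    show γ • (x * w') ∈ P
    rw [smul_mul']
    exact P.mul_mem_left _ (hγw' γ hγ)
  -- Step 6
  let O : Finset B := Finset.univ.image (fun γ : Γ => γ • z)
  refine ⟨∑ v ∈ O, v, ?_, ?_⟩
  · intro γ
    rw [Finset.smul_sum]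
    have himg : O.image (fun v => γ • v) = O := by
      apply Finset.ext
      intro v
      constructor
      · intro hv
        obtain ⟨u, hu, rfl⟩ := Finset.mem_image.mp hv
        obtain ⟨δ, _, rfl⟩ := Finset.mem_image.mp hu
        exact Finset.mem_image.mpr ⟨γ * δ, Finset.mem_univ _, mul_smul _ _ _⟩
      · intro hv
        obtain ⟨δ, _, rfl⟩ := Finset.mem_image.mp hv
        exact Finset.mem_image.mpr ⟨γ⁻¹ • (δ • z),
          Finset.mem_image.mpr ⟨γ⁻¹ * δ, Finset.mem_univ _, mul_smul _ _ _⟩, smul_inv_smul _ _⟩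
    calc ∑ v ∈ O, γ • v = ∑ v ∈ O.image (fun v => γ • v), v :=
          (Finset.sum_image (f := fun v => v) (g := fun v => γ • v)
            (fun u _ v _ huv => MulAction.injective γ huv)).symm
      _ = ∑ v ∈ O, v := by rw [himg]
  · have hzO : z ∈ O := Finset.mem_image.mpr ⟨1, Finset.mem_univ _, one_smul _ _⟩
    rw [← Finset.add_sum_erase O _ hzO]
    have hrest : ∑ v ∈ O.erase z, v ∈ P := by
      apply Ideal.sum_mem
      intro v hv
      obtain ⟨hvz, hvO⟩ := Finset.mem_erase.mp hv
      obtain ⟨γ, _, rfl⟩ := Finset.mem_image.mp hvO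
      apply hγz
      intro hγD
      exact hvz (hDz γ hγD)
    have : x - (z + ∑ v ∈ O.erase z, v) = -(z - x) - ∑ v ∈ O.erase z, v := by ring
    rw [this]
    exact P.sub_mem (P.neg_mem hzx) hrest

end Groth.Agent.S12936
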