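import Groth.Statements.S12938
import Groth.Agent.Lib.Helper24.AlgStDiagAtlas

set_option autoImplicit false
universe u
open CategoryTheory AlgebraicGeometry
open AlgSt

namespace Groth.Agent.S12938

open CategoryTheory CategoryTheory.Limits AlgebraicGeometry Opposite

set_option backward.isDefEq.respectTransparency false
set_option backward.isDefEq.respectTransparency.types false

theorem locP_mono {S : Scheme.{u}} {Q Q' : MorphismProperty Scheme.{u}} (h : Q ≤ Q')
    ⦃X Y : AlgSp.Sp S⦄ (a : X ⟶ Y) (ha : AlgSp.LocP Q a) : AlgSp.LocP Q' a :=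
  fun _ _ a' b' k ha' hb' comm => h _ (ha a' b' k ha' hb' comm)


/-- For an algebraic stack over a base scheme, the diagonal over the base is representable by algebraic
spaces and locally of finite type. Equivalently: for a scheme T over the base and two objects x, y
of the stack over T, the algebraic space of isomorphisms from x to y is locally of finite type over
T (the published statement is this second form; the first form says it for every T-valued point of
the twofold product over the base at once, and such a point is a pair of objects over T with an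
isomorphism of their images in the base, which is no extra datum). -/
theorem result
    (S : Scheme.{u}) (𝒳 : AlgSt.Cat S)
    (h𝒳 : AlgSt.IsAlgStack Scheme.fppfPrecoverage 𝒳) :
    AlgSt.RepByAlgSpWith (AlgSp.LocP @LocallyOfFiniteType) (FibCat.diag (FibCat.toSelf 𝒳)) := by
  obtain ⟨U, x, hxs, hxsurj⟩ := h𝒳.atlas
  have hfl : AlgSt.RepByAlgSpWith (AlgSp.LocP @Flat) x :=
    Groth.Agent.Lib.Helper24.AlgStSchLocal.repByAlgSpWith_mono
      (locP_mono (fun _ _ f hf => by have : Smooth f := hf; infer_instance)) x hxs
  have hlfp : AlgSt.RepByAlgSpWith (AlgSp.LocP @LocallyOfFinitePresentation) x :=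
    Groth.Agent.Lib.Helper24.AlgStSchLocal.repByAlgSpWith_mono
      (locP_mono (fun _ _ f hf => by have : Smooth f := hf; infer_instance)) x hxs
  have hlft : AlgSt.RepByAlgSpWith (AlgSp.LocP @LocallyOfFiniteType) x :=
    Groth.Agent.Lib.Helper24.AlgStSchLocal.repByAlgSpWith_mono
      (locP_mono (fun _ _ f hf => by have : Smooth f := hf; infer_instance)) x hxs
  exact Groth.Agent.Lib.Helper24.AlgStDiagAtlas.repByAlgSpWith_diag_of_chart
    (Groth.Agent.Lib.Helper24.StkFpCrit.isFibGrpd_overForget U) h𝒳.isStack.1
    Groth.Agent.Lib.Helper24.FibCatInertia.isFibGrpd_selfOver _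
    Groth.Agent.Lib.Helper24.AlgStProps.good_lft
    Groth.Agent.Lib.Helper24.AlgStDiagLC.leftCancel_lft (FibCat.toSelf 𝒳) h𝒳.diag x
    (Groth.Agent.Lib.Helper24.AlgStCalc.repByAlgSp_overCat U)
    (Groth.Agent.Lib.Helper24.AlgStDiag.repByAlgSp_fp_comp_toSelf
      (Groth.Agent.Lib.Helper24.AlgStCalc.repByAlgSp_overCat U)
      (Groth.Agent.Lib.Helper24.AlgStCalc.repByAlgSp_overCat U) x x) hfl hlfp hxsurj hlft

end Groth.Agent.S12938
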