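import Groth.Statements.S12953
import Groth.Agent.Lib.Helper24.AlgStDiagComp
import Groth.Agent.Lib.Helper24.AlgStProps3

set_option autoImplicit false
universe u
open CategoryTheory AlgebraicGeometry
open AlgSt

namespace Groth.Agent.S12953

open CategoryTheory CategoryTheory.Limits AlgebraicGeometry Opposite

set_option backward.isDefEq.respectTransparency false
set_option backward.isDefEq.respectTransparency.types false

/-- The composition of two separated morphisms of algebraic stacks is separated (separated: the diagonal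
is representable by algebraic spaces and proper). -/
theorem result
    (S : Scheme.{u}) (𝒳 : AlgSt.Cat S) (𝒴 : AlgSt.Cat S) (𝒵 : AlgSt.Cat S)
    (h𝒳 : AlgSt.IsAlgStack Scheme.fppfPrecoverage 𝒳)
    (h𝒴 : AlgSt.IsAlgStack Scheme.fppfPrecoverage 𝒴)
    (h𝒵 : AlgSt.IsAlgStack Scheme.fppfPrecoverage 𝒵)
    (f : 𝒳 ⥤ᵇ 𝒴) (g : 𝒴 ⥤ᵇ 𝒵) :
    AlgSt.IsSeparatedMor f → AlgSt.IsSeparatedMor g → AlgSt.IsSeparatedMor (BasedFunctor.comp f g) := by
  exact fun hf hg => Groth.Agent.Lib.Helper24.AlgStDiagComp.repByAlgSpWith_diag_comp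
    h𝒳.isStack.1 h𝒴.isStack.1 h𝒵.isStack.1 _ Groth.Agent.Lib.Helper24.AlgStProps.good_isProperMor.nice
    Groth.Agent.Lib.Helper24.AlgStProps.stableComp_isProperMor f g hf hg

end Groth.Agent.S12953
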