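import Groth.Statements.S12956
import Groth.Agent.Lib.Helper24.AlgStDiagLC

set_option autoImplicit false
universe u
open CategoryTheory AlgebraicGeometry
open AlgSt

namespace Groth.Agent.S12956

open CategoryTheory CategoryTheory.Limits AlgebraicGeometry Opposite

set_option backward.isDefEq.respectTransparency false
set_option backward.isDefEq.respectTransparency.types false

/-- If the composite of f : 𝒳 → 𝒴 and g : 𝒴 → 𝒵 (morphisms of algebraic stacks) is DM, then f is DM. -/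
theorem result
    (S : Scheme.{u}) (𝒳 : AlgSt.Cat S) (𝒴 : AlgSt.Cat S) (𝒵 : AlgSt.Cat S)
    (h𝒳 : AlgSt.IsAlgStack Scheme.fppfPrecoverage 𝒳)
    (h𝒴 : AlgSt.IsAlgStack Scheme.fppfPrecoverage 𝒴)
    (h𝒵 : AlgSt.IsAlgStack Scheme.fppfPrecoverage 𝒵)
    (f : 𝒳 ⥤ᵇ 𝒴) (g : 𝒴 ⥤ᵇ 𝒵) :
    AlgSt.IsDMMor (BasedFunctor.comp f g) → AlgSt.IsDMMor f := by
  exact fun hfg => Groth.Agent.Lib.Helper24.AlgStDiagLC.repByAlgSpWith_diag_of_comp
    h𝒳.isStack.1 h𝒴.isStack.1 h𝒵.isStack.1 _ ⊤ Groth.Agent.Lib.Helper24.AlgStProps.good_unramified.nice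
    Groth.Agent.Lib.Helper24.AlgStLC.nice_top Groth.Agent.Lib.Helper24.AlgStDiagLC.leftCancel_unramified f g
    ((Groth.Agent.Lib.Helper24.AlgStRep.repByAlgSp1_iff_with_top _).1
      (Groth.Agent.Lib.Helper24.AlgStRelDiag.repByAlgSp1_relDiag h𝒴.isStack.1 h𝒵.isStack.1
        h𝒴.diag h𝒵.diag g)) hfg

end Groth.Agent.S12956
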