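import Groth.Statements.S12962
import Groth.Agent.Lib.Helper24.AlgStDiagDesc
import Groth.Agent.Lib.Helper24.AlgStProps2
import Groth.Agent.Lib.Helper24.AlgStStack

set_option autoImplicit false
universe u
open CategoryTheory AlgebraicGeometry
open AlgSt

namespace Groth.Agent.S12962

open CategoryTheory CategoryTheory.Limits AlgebraicGeometry Opposite

set_option backward.isDefEq.respectTransparency false
set_option backward.isDefEq.respectTransparency.types false

/-- Let f : 𝒳 → 𝒴 be a morphism of algebraic stacks and W → 𝒴 a surjective, flat, locally finitely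
presented morphism whose source is an algebraic space. Whenever the projection W ×_𝒴 𝒳 → W is
separated, f is separated too (separated: the diagonal is representable by algebraic spaces and
proper). -/
theorem result
    (S : Scheme.{u}) (𝒳 : AlgSt.Cat S) (𝒴 : AlgSt.Cat S)
    (h𝒳 : AlgSt.IsAlgStack Scheme.fppfPrecoverage 𝒳)
    (h𝒴 : AlgSt.IsAlgStack Scheme.fppfPrecoverage 𝒴)
    (f : 𝒳 ⥤ᵇ 𝒴)
    (W : AlgSp.Space S) (w : AlgSt.ofSp W.obj ⥤ᵇ 𝒴)
    (hw₁ : AlgSt.RepByAlgSpWith (AlgSp.LocP @Flat) w)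
    (hw₂ : AlgSt.RepByAlgSpWith (AlgSp.LocP @LocallyOfFinitePresentation) w)
    (hw₃ : AlgSt.RepByAlgSpWith AlgSp.IsSurjectiveMor w) :
    AlgSt.IsSeparatedMor (FibCat.fpFst w f) → AlgSt.IsSeparatedMor f := by
  exact fun h => Groth.Agent.Lib.Helper24.AlgStDiagDesc.repByAlgSpWith_diag_of_cover
    h𝒳.isStack.1 h𝒴.isStack.1 (Groth.Agent.Lib.Helper24.AlgStStack.isStack_ofSp W.obj).1
    h𝒳.diag h𝒴.diag _ Groth.Agent.Lib.Helper24.AlgStProps.good_isProperMor.bc
    Groth.Agent.Lib.Helper24.AlgStProps.good_isProperMor.loc f w hw₁ hw₂ hw₃ h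

end Groth.Agent.S12962
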