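import Groth.Statements.S12970
import Groth.Agent.Lib.Helper24.AlgStDiagAtlas

set_option autoImplicit false
universe u
open CategoryTheory AlgebraicGeometry
open AlgSt

namespace Groth.Agent.S12970

open CategoryTheory CategoryTheory.Limits AlgebraicGeometry Opposite

set_option backward.isDefEq.respectTransparency false
set_option backward.isDefEq.respectTransparency.types false

/-- Let 𝒳 be an algebraic stack and W → 𝒳 a surjective, flat, locally finitely presented morphism from
an algebraic space which is moreover locally quasi-finite. Then 𝒳 is quasi-DM over the base scheme.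
(The published statement concludes quasi-DM over the integers; this row concludes it over the base
scheme, which is equivalent for algebraic stacks.) -/
theorem result
    (S : Scheme.{u}) (𝒳 : AlgSt.Cat S)
    (h𝒳 : AlgSt.IsAlgStack Scheme.fppfPrecoverage 𝒳)
    (W : AlgSp.Space S) (w : AlgSt.ofSp W.obj ⥤ᵇ 𝒳)
    (hw₁ : AlgSt.RepByAlgSpWith (AlgSp.LocP @Flat) w)
    (hw₂ : AlgSt.RepByAlgSpWith (AlgSp.LocP @LocallyOfFinitePresentation) w)
    (hw₃ : AlgSt.RepByAlgSpWith AlgSp.IsSurjectiveMor w)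
    (hw₄ : AlgSt.RepByAlgSpWith (AlgSp.LocP (@LocallyQuasiFinite ⊓ @LocallyOfFiniteType)) w) :
    AlgSt.IsQuasiDMOver 𝒳 := by
  exact Groth.Agent.Lib.Helper24.AlgStDiagAtlas.repByAlgSpWith_diag_of_chart
    (Stk.isFibGrpd_ofPsh _) h𝒳.isStack.1
    Groth.Agent.Lib.Helper24.FibCatInertia.isFibGrpd_selfOver _
    Groth.Agent.Lib.Helper24.AlgStProps.good_lqf
    Groth.Agent.Lib.Helper24.AlgStDiagLC.leftCancel_lqf (FibCat.toSelf 𝒳) h𝒳.diag w
    (Groth.Agent.Lib.Helper24.AlgStAtlas.repByAlgSp_ofSp W)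
    (Groth.Agent.Lib.Helper24.AlgStDiag.repByAlgSp_fp_comp_toSelf
      (Groth.Agent.Lib.Helper24.AlgStAtlas.repByAlgSp_ofSp W)
      (Groth.Agent.Lib.Helper24.AlgStAtlas.repByAlgSp_ofSp W) w w) hw₁ hw₂ hw₃ hw₄

end Groth.Agent.S12970
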