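import Groth.Statements.S12971
import Groth.Agent.Lib.Helper24.AlgStMonoFull
import Groth.Agent.Lib.Helper24.AlgStProdAlg
import Groth.Agent.Lib.Helper24.AlgStProps5

set_option autoImplicit false
universe u
open CategoryTheory AlgebraicGeometry
open AlgSt

namespace Groth.Agent.S12971

open CategoryTheory AlgebraicGeometry
open AlgSt
open Groth.Agent.Lib.Helper24.AlgStMonoFull Groth.Agent.Lib.Helper24.AlgStProdAlg
open Groth.Agent.Lib.Helper24.AlgStProps

set_option backward.isDefEq.respectTransparency false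
set_option backward.isDefEq.respectTransparency.types false


/-- A monomorphism of algebraic stacks (representable by algebraic spaces and a monomorphism) is
separated and DM. -/
theorem result
    (S : Scheme.{u}) (𝒳 : AlgSt.Cat S) (𝒴 : AlgSt.Cat S)
    (h𝒳 : AlgSt.IsAlgStack Scheme.fppfPrecoverage 𝒳)
    (h𝒴 : AlgSt.IsAlgStack Scheme.fppfPrecoverage 𝒴)
    (f : 𝒳 ⥤ᵇ 𝒴) :
    AlgSt.IsMono f → AlgSt.IsSeparatedMor f ∧ AlgSt.IsDMMor f := by
  intro hf
  obtain ⟨hfull, hfaith⟩ := full_faithful_of_isMono h𝒳.isStack.1 h𝒴.isStack.1 f hf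
  have he : FibCat.IsEquivOver (FibCat.diag f) :=
    (Groth.Agent.Lib.Helper24.FibCatDiag.fullyFaithful_iff_isEquivOver_diag f h𝒳.isStack.1
      h𝒴.isStack.1).1 ⟨hfull, hfaith⟩
  exact ⟨repByAlgSpWith_of_isEquivOver _ hasIsos_isProperMor _ he,
    repByAlgSpWith_of_isEquivOver _ hasIsos_unramified _ he⟩

end Groth.Agent.S12971
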