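import Groth.Statements.S12975
import Groth.Agent.Lib.Helper24.AlgStInertia2
import Groth.Agent.Lib.Helper24.AlgStLocQ7
import Groth.Agent.Lib.Helper24.LqfSelf
import Groth.Agent.Lib.Helper24.AlgStSelfFp

set_option autoImplicit false
universe u
open CategoryTheory AlgebraicGeometry
open AlgSt

namespace Groth.Agent.S12975

open CategoryTheory CategoryTheory.Limits AlgebraicGeometry Opposite
open AlgSp Groth.Agent.Lib.Helper14.AS
open Groth.Agent.Lib.Helper24.AlgStSchLocal Groth.Agent.Lib.Helper24.AlgStRepS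
open Groth.Agent.Lib.Helper24.AlgStProps Groth.Agent.Lib.Helper24.AlgStGC
open Groth.Agent.Lib.Helper24.AlgStSepDiag Groth.Agent.Lib.Helper24.AlgStSep2
open Groth.Agent.Lib.Helper24.AlgStRep Groth.Agent.Lib.Helper24.AlgStSmLoc
open Groth.Agent.Lib.Helper24.FibCatInertiaFp Groth.Agent.Lib.Helper24.AlgStBoot
open Groth.Agent.Lib.Helper24.AlgStInertia Groth.Agent.Lib.Helper24.AlgStDiagLft
open Groth.Agent.Lib.Helper24.AlgStMono Groth.Agent.Lib.Helper24.AlgStIso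
open Groth.Agent.Lib.Helper24.AlgStEqv Groth.Agent.Lib.Helper24.AlgStLocQ1
open Groth.Agent.Lib.Helper24.AlgStLocQ5 Groth.Agent.Lib.Helper24.AlgStLocQ7
open Groth.Agent.Lib.Helper24.AlgStBridge Groth.Agent.Lib.Helper24.AlgStDiagBC
open Groth.Agent.Lib.Helper24.FibCatFpGen Groth.Agent.Lib.Helper24.AlgStCalc
open Groth.Agent.Lib.Helper24.LqfSelf Groth.Agent.Lib.Helper24.AlgStLocQ2
open Groth.Agent.Lib.Helper24.AlgStSelfFp

set_option backward.isDefEq.respectTransparency false in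
set_option backward.isDefEq.respectTransparency.types false in

/-- For a morphism f : 𝒳 → 𝒴 of algebraic stacks, the relative inertia 𝓘_{𝒳/𝒴} → 𝒳 is locally
quasi-finite if and only if f is quasi-DM. -/
theorem result
    (S : Scheme.{u}) (𝒳 : AlgSt.Cat S) (𝒴 : AlgSt.Cat S)
    (h𝒳 : AlgSt.IsAlgStack Scheme.fppfPrecoverage 𝒳)
    (h𝒴 : AlgSt.IsAlgStack Scheme.fppfPrecoverage 𝒴)
    (f : 𝒳 ⥤ᵇ 𝒴) :
    AlgSt.RepByAlgSpWith (AlgSp.LocP (@LocallyQuasiFinite ⊓ @LocallyOfFiniteType)) (FibCat.inertiaToBase f) ↔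
      AlgSt.IsQuasiDMMor f := by
  refine ⟨fun h => ?_, fun h => repByAlgSpWith_inertiaToBase _ f h⟩
  have h1 := (repByAlgSpWith_inertiaToBase_iff _ f).1 h
  have hΔ := repByAlgSp1_diag h𝒳 h𝒴 f
  have h2 := repByAlgSpWith_self_fp _ good_lqf.nice h𝒳.isStack.1
    (isFibGrpd_fp f f h𝒳.isStack.1 h𝒳.isStack.1 h𝒴.isStack.1) (FibCat.diag f) hΔ h1
  have hl := repByAlgSpWith_lft_relDiag h𝒳 h𝒴 f
  have h3 := repByAlgSpWith_and
    (fun (X Y : AlgSp.Sp S) (a : X ⟶ Y) =>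
      AlgSp.LocP (@LocallyQuasiFinite ⊓ @LocallyOfFiniteType) (pullback.snd a a))
    (AlgSp.LocP @LocallyOfFiniteType) good_lft.respectsIso (FibCat.diag f) h2 hl
  intro U y
  obtain ⟨F, e, he, hp, hl'⟩ := h3 U y
  exact ⟨F, e, he, locP_lqf_of_pullback_snd F.property _ hp hl'⟩

end Groth.Agent.S12975
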