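import Groth.Statements.S12978
import Groth.Agent.Lib.Helper24.AlgStFaithRep
import Groth.Agent.Lib.Helper24.AlgStMonoFull
import Groth.Agent.Lib.Helper24.FibCatDiag

set_option autoImplicit false
universe u
open CategoryTheory AlgebraicGeometry
open AlgSt

namespace Groth.Agent.S12978

open Groth.Agent.Lib.Helper24 Groth.Agent.Lib.Helper24.FibCatFpGen

lemma faithful_of_diag_full {S : Scheme.{u}} {𝒳 𝒴 : AlgSt.Cat S} (f : 𝒳 ⥤ᵇ 𝒴)
    (h : (FibCat.diag f).toFunctor.Full) : f.toFunctor.Faithful := by
  constructor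
  intro x y a b hab
  let m : (FibCat.diag f).toFunctor.obj x ⟶ (FibCat.diag f).toFunctor.obj y :=
    mkHom (F := f) (G := f) (x := (FibCat.diag f).toFunctor.obj x)
      (y := (FibCat.diag f).toFunctor.obj y) a b (by
        change f.toFunctor.map a ≫ 𝟙 _ = 𝟙 _ ≫ f.toFunctor.map b
        rw [Category.comp_id, Category.id_comp]
        exact hab)
  obtain ⟨c, hc⟩ := (FibCat.diag f).toFunctor.map_surjective m
  have h1 : c = a := congrArg (fun t => t.hom.fst) hc
  have h2 : c = b := congrArg (fun t => t.hom.snd) hc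
  exact h1.symm.trans h2


/-- A morphism f of algebraic stacks whose diagonal is a monomorphism (representable by algebraic spaces
and a monomorphism) is representable by algebraic spaces. Together with the forward direction (a
morphism representable by algebraic spaces has monomorphic diagonal) this characterises
representability by the first diagonal. -/
theorem result
    (S : Scheme.{u}) (𝒳 : AlgSt.Cat S) (𝒴 : AlgSt.Cat S)
    (h𝒳 : AlgSt.IsAlgStack Scheme.fppfPrecoverage 𝒳)
    (h𝒴 : AlgSt.IsAlgStack Scheme.fppfPrecoverage 𝒴)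
    (f : 𝒳 ⥤ᵇ 𝒴) :
    AlgSt.IsMono (FibCat.diag f) → AlgSt.RepByAlgSp1 f := by
  intro hm
  have h𝒫 : FibCat.IsFibGrpd (FibCat.fp f f).p :=
    isFibGrpd_fp f f h𝒳.isStack.1 h𝒳.isStack.1 h𝒴.isStack.1
  obtain ⟨hfull, -⟩ := AlgStMonoFull.full_faithful_of_isMono h𝒳.isStack.1 h𝒫 (FibCat.diag f) hm
  have := faithful_of_diag_full f hfull
  exact AlgStFaithRep.repByAlgSp1_of_faithful h𝒳 h𝒴 f

end Groth.Agent.S12978
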