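import Groth.Statements.S1299
-- import your own Groth.Agent.* helpers here
import Mathlib
import Groth.Agent.Lib.Helper12.NearGeneric

set_option autoImplicit false
universe u
open FlatMor

namespace Groth.Agent.S1299

open AlgebraicGeometry CategoryTheory Limits in
/-- Let f : X → Y be a morphism of finite type (locally of finite type and quasi-compact) with Y
irreducible, and let Z_1, …, Z_n be finitely many closed subsets of the generic fibre of f which
together cover it. For each i let T_i ⊆ X be the closure in X of the image of Z_i. Then there is a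
nonempty open subset V ⊆ Y such that for every y ∈ V the fibre X_y is covered by the preimages of
T_1, …, T_n. -/
theorem result {X Y : Scheme.{u}} (f : X ⟶ Y) [IrreducibleSpace ↑Y] [LocallyOfFiniteType f] [QuasiCompact f]
    {ι : Type} [Finite ι] (Z : ι → Set ↑(f.fiber (genericPoint ↑Y))) (hZ : ∀ i, IsClosed (Z i)) (hcov : ⋃ i, Z i = Set.univ) :
    ∃ V : Y.Opens, (V : Set ↑Y).Nonempty ∧ ∀ y ∈ V, ⋃ i, (f.fiberι y) ⁻¹' closure ((f.fiberι (genericPoint ↑Y)) '' Z i) = Set.univ := by
  obtain ⟨V, hVne, hV⟩ := Groth.Agent.Lib.Helper12.H12NearGeneric.exists_open_generalizing f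
  refine ⟨V, hVne, ?_⟩
  intro y hy
  rw [Set.eq_univ_iff_forall]
  intro t
  have hft : f (f.fiberι y t) = y := by
    have : f.fiberι y t ∈ Set.range (f.fiberι y) := ⟨t, rfl⟩
    rw [f.range_fiberι] at this
    exact this
  have hspec : genericPoint ↑Y ⤳ f (f.fiberι y t) := genericPoint_specializes _
  obtain ⟨x', hx', hfx'⟩ := hV (f.fiberι y t) (by rw [hft]; exact hy) _ hspec
  obtain ⟨t', ht'⟩ : x' ∈ Set.range (f.fiberι (genericPoint ↑Y)) := by
    rw [f.range_fiberι]
    exact hfx'
  have hmem : t' ∈ ⋃ i, Z i := by rw [hcov]; trivial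
  obtain ⟨i, hi⟩ := Set.mem_iUnion.mp hmem
  refine Set.mem_iUnion.mpr ⟨i, ?_⟩
  change f.fiberι y t ∈ closure _
  refine hx'.mem_closed isClosed_closure (subset_closure ?_)
  exact ⟨t', hi, ht'⟩

end Groth.Agent.S1299
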