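import Groth.Statements.S12991
import Groth.Agent.Lib.Helper24.AlgStLocQ3

set_option autoImplicit false
universe u
open CategoryTheory AlgebraicGeometry
open AlgSt

namespace Groth.Agent.S12991

open CategoryTheory AlgebraicGeometry
open AlgSt
open Groth.Agent.Lib.Helper24.AlgStLocQ3 Groth.Agent.Lib.Helper24.AlgStLocQ1
open Groth.Agent.Lib.Helper24.AlgStAtlas Groth.Agent.Lib.Helper24.AlgStBridge
open Groth.Agent.Lib.Helper24.AlgStRep Groth.Agent.Lib.Helper24.AlgStRepS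
open Groth.Agent.Lib.Helper24.AlgStSchLocal Groth.Agent.Lib.Helper24.AlgStSmLoc

set_option backward.isDefEq.respectTransparency false
set_option backward.isDefEq.respectTransparency.types false


/-- Let P be smooth local on the source-and-target and f : 𝒳 → 𝒴 a morphism of algebraic stacks. Then f
has P read on one square of smooth scheme charts (x surjective) if and only if there is a
2-commutative square with algebraic spaces U, V, a smooth surjective U → 𝒳, a smooth V → 𝒴 and U → V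
having P. -/
theorem result
    (S : Scheme.{u}) (P : MorphismProperty (AlgSp.Sp S)) (hP : AlgSp.IsSmoothLocalST P)
    (𝒳 : AlgSt.Cat S) (𝒴 : AlgSt.Cat S)
    (h𝒳 : AlgSt.IsAlgStack Scheme.fppfPrecoverage 𝒳)
    (h𝒴 : AlgSt.IsAlgStack Scheme.fppfPrecoverage 𝒴)
    (f : 𝒳 ⥤ᵇ 𝒴) :
    AlgSt.LocQ P f ↔
      ∃ (U V : AlgSp.Space S) (x : AlgSt.ofSp U.obj ⥤ᵇ 𝒳) (y : AlgSt.ofSp V.obj ⥤ᵇ 𝒴) (h : U ⟶ V)
        (_ : BasedFunctor.comp x f ≅ BasedFunctor.comp (AlgSt.ofSpMap h.hom) y),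
        AlgSt.RepByAlgSpWith (AlgSp.LocP @Smooth) x ∧ AlgSt.RepByAlgSpWith AlgSp.IsSurjectiveMor x ∧
        AlgSt.RepByAlgSpWith (AlgSp.LocP @Smooth) y ∧ P h.hom := by
  constructor
  · rintro ⟨U, V, x, y, h, α, hx, hx', hy, hh⟩
    refine ⟨⟨(AlgSp.yon S).obj U, AlgSp.IsAlgSpace.yon_obj U⟩,
      ⟨(AlgSp.yon S).obj V, AlgSp.IsAlgSpace.yon_obj V⟩,
      BasedFunctor.comp (AlgSt.toOverCat U) x, BasedFunctor.comp (AlgSt.toOverCat V) y,
      ObjectProperty.homMk ((AlgSp.yon S).map h), ?_, ?_, ?_, ?_, hh⟩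
    · exact (whiskerLeftIso (AlgSt.toOverCat U) α).trans
        (whiskerRightIso (Iso.refl _ : BasedFunctor.comp (AlgSt.toOverCat U) (AlgSt.overMap h) ≅
          BasedFunctor.comp (AlgSt.ofSpMap ((AlgSp.yon S).map h)) (AlgSt.toOverCat V)) y)
    · exact (repByAlgSpWith_equiv_comp _ (AlgSt.toOverCat U) x (isEquivOver_toOverCat U)).2 hx
    · exact (repByAlgSpWith_equiv_comp _ (AlgSt.toOverCat U) x (isEquivOver_toOverCat U)).2 hx'
    · exact (repByAlgSpWith_equiv_comp _ (AlgSt.toOverCat V) y (isEquivOver_toOverCat V)).2 hy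
  · rintro ⟨U, V, x, y, h, α, hx, hx', hy, hh⟩
    exact locQ_of_PT_witness h𝒳 h𝒴 f hP (repByAlgSp_ofSp U) (repByAlgSp_ofSp V) x y
      (AlgSt.ofSpMap h.hom) α hx hx' hy (pt_ofSpMap h.hom hh)

end Groth.Agent.S12991
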