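import Groth.Statements.S12996
import Groth.Agent.Lib.Helper24.AlgStLocQ5
import Groth.Agent.Lib.Helper24.AlgSpSmLocal

set_option autoImplicit false
universe u
open CategoryTheory AlgebraicGeometry
open AlgSt

namespace Groth.Agent.S12996

open CategoryTheory AlgebraicGeometry
open AlgSt
open Groth.Agent.Lib.Helper24.AlgStLocQ5 Groth.Agent.Lib.Helper24.AlgSpSmLocal
open Groth.Agent.Lib.Helper24.AlgStSchLocal Groth.Agent.Lib.Helper14.AS

set_option backward.isDefEq.respectTransparency false
set_option backward.isDefEq.respectTransparency.types false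


/-- An immersion of algebraic stacks is locally of finite type. -/
theorem result
    (S : Scheme.{u}) (𝒳 : AlgSt.Cat S) (𝒴 : AlgSt.Cat S)
    (h𝒳 : AlgSt.IsAlgStack Scheme.fppfPrecoverage 𝒳)
    (h𝒴 : AlgSt.IsAlgStack Scheme.fppfPrecoverage 𝒴)
    (f : 𝒳 ⥤ᵇ 𝒴) :
    AlgSt.IsImm f → AlgSt.LocQ (AlgSp.LocP @LocallyOfFiniteType) f := by
  intro h
  exact locQ_of_repByAlgSpWith h𝒳 h𝒴 f isSmoothLocalST_lft
    (repByAlgSpWith_mono (fun _ _ a ha => locP_of_repWith etale_le_lft
      (repWith_mono isImmersion_le_lft ha)) f h)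

end Groth.Agent.S12996
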