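import Groth.Statements.S13000
import Groth.Agent.Lib.Helper24.AlgStLocQ7

set_option autoImplicit false
universe u
open CategoryTheory AlgebraicGeometry
open AlgSt

namespace Groth.Agent.S13000

open CategoryTheory AlgebraicGeometry
open AlgSt
open Groth.Agent.Lib.Helper24.AlgStLocQ5 Groth.Agent.Lib.Helper24.AlgSpSmLocal
open Groth.Agent.Lib.Helper24.AlgStLocQ7 Groth.Agent.Lib.Helper24.AlgStAtlas
open Groth.Agent.Lib.Helper24.AlgStProps
open Groth.Agent.Lib.Helper24.AlgStSchLocal Groth.Agent.Lib.Helper14.AS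

set_option backward.isDefEq.respectTransparency false
set_option backward.isDefEq.respectTransparency.types false


/-- Let f : 𝒳 → 𝒴 be a morphism of algebraic stacks and W → 𝒴 a surjective, flat, locally finitely
presented morphism whose source is an algebraic space. Whenever the projection to W from W ×_𝒴 𝒳 is
locally of finite type, so is f. -/
theorem result
    (S : Scheme.{u}) (𝒳 : AlgSt.Cat S) (𝒴 : AlgSt.Cat S)
    (h𝒳 : AlgSt.IsAlgStack Scheme.fppfPrecoverage 𝒳)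
    (h𝒴 : AlgSt.IsAlgStack Scheme.fppfPrecoverage 𝒴)
    (f : 𝒳 ⥤ᵇ 𝒴)
    (W : AlgSp.Space S) (w : AlgSt.ofSp W.obj ⥤ᵇ 𝒴)
    (hw₁ : AlgSt.RepByAlgSpWith (AlgSp.LocP @Flat) w)
    (hw₂ : AlgSt.RepByAlgSpWith (AlgSp.LocP @LocallyOfFinitePresentation) w)
    (hw₃ : AlgSt.RepByAlgSpWith AlgSp.IsSurjectiveMor w) :
    AlgSt.LocQ (AlgSp.LocP @LocallyOfFiniteType) (FibCat.fpFst w f) → AlgSt.LocQ (AlgSp.LocP @LocallyOfFiniteType) f := by
  have hW := isAlgStack_ofSp W
  exact locQ_of_fpFst_fppf h𝒳 h𝒴 hW f w isSmoothLocalST_lft good_lft.loc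
    (locQ_of_repByAlgSpWith hW h𝒴 w isSmoothLocalST_flat hw₁)
    (locQ_of_repByAlgSpWith hW h𝒴 w isSmoothLocalST_lfp hw₂)
    (Groth.Agent.Lib.Helper24.AlgStPts3.surjective_map_of_repByAlgSpWith h𝒴.isStack.1 w hw₃)

end Groth.Agent.S13000
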