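import Groth.Statements.S13037
import Groth.Agent.Lib.Helper24.SmLocus1

set_option autoImplicit false
universe u
open CategoryTheory AlgebraicGeometry
open AlgSt

namespace Groth.Agent.S13037

open CategoryTheory AlgebraicGeometry Opposite
open Groth.Agent.Lib.Helper24.SmLocus1 Groth.Agent.Lib.Helper24.AlgStOpenSub2
open Groth.Agent.Lib.Helper24.AlgStOpenSub3 Groth.Agent.Lib.Helper24.AlgStLocQ3

set_option backward.isDefEq.respectTransparency false in
set_option backward.isDefEq.respectTransparency.types false in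

/-- For a morphism f : 𝒳 → 𝒴 of algebraic stacks there is a largest open substack of 𝒳 on which f is
smooth: a strictly full open substack 𝒰 with 𝒰 → 𝒳 → 𝒴 smooth, containing every open substack with
that property. (The compatibilities of its formation with smooth precomposition and flat base change
are not part of this statement.) -/
theorem result
    (S : Scheme.{u}) (𝒳 : AlgSt.Cat S) (𝒴 : AlgSt.Cat S)
    (h𝒳 : AlgSt.IsAlgStack Scheme.fppfPrecoverage 𝒳)
    (h𝒴 : AlgSt.IsAlgStack Scheme.fppfPrecoverage 𝒴)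
    (f : 𝒳 ⥤ᵇ 𝒴) :
    ∃ Q : 𝒳.obj → Prop, AlgSt.IsOpenSubstack 𝒳 Q Scheme.fppfPrecoverage ∧
      AlgSt.LocQ (AlgSp.LocP @Smooth) (BasedFunctor.comp (AlgSt.subIncl 𝒳 Q) f) ∧
      ∀ Q' : 𝒳.obj → Prop, AlgSt.IsOpenSubstack 𝒳 Q' Scheme.fppfPrecoverage →
        AlgSt.LocQ (AlgSp.LocP @Smooth) (BasedFunctor.comp (AlgSt.subIncl 𝒳 Q') f) → ∀ a, Q' a → Q a := by
  obtain ⟨V, y, hy, hy'⟩ := h𝒴.atlas
  obtain ⟨U, x, h, α, hx, hℓ, -, hx'⟩ := exists_square h𝒳 h𝒴 f y hy
  obtain ⟨W, hW, H, hmax, -⟩ := exists_largest_of_square h𝒳 h𝒴 f x y h α hx (hx' hy') hy hℓ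
  refine ⟨QW W, isOpenSubstack_qW h𝒳 hW, H, ?_⟩
  intro Q' hQ' H' a ha
  have hW' := isOpen_range_of_isOpenSubstack h𝒳 hQ'
  have e := eq_qW_range h𝒳 hQ'
  have H'' : AlgSt.LocQ (AlgSp.LocP @Smooth) (BasedFunctor.comp (AlgSt.subIncl 𝒳
      (QW (Set.range (AlgSt.Points.map (AlgSt.subIncl 𝒳 Q'))))) f) := by
    rw [← e]
    exact H'
  have hsub := hmax _ hW' H''
  rw [e] at ha
  exact qW_mono hsub ha

end Groth.Agent.S13037
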