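import Groth.Statements.S13038
import Groth.Agent.Lib.Helper24.AlgStLocQ10

set_option autoImplicit false
universe u
open CategoryTheory AlgebraicGeometry
open AlgSt

namespace Groth.Agent.S13038

open CategoryTheory AlgebraicGeometry
open AlgSt
open Groth.Agent.Lib.Helper24.AlgStLocQ3 Groth.Agent.Lib.Helper24.AlgStLocQ9
open Groth.Agent.Lib.Helper24.AlgStRep Groth.Agent.Lib.Helper24.AlgStBridge

set_option backward.isDefEq.respectTransparency false
set_option backward.isDefEq.respectTransparency.types false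


/-- Suppose P, a property of morphisms between algebraic spaces, is local on source and target for the
smooth topology and is preserved by composition of algebraic spaces. Then the induced property of
morphisms of algebraic stacks, read on one square of smooth charts, is stable under composition. -/
theorem result
    (S : Scheme.{u}) (P : MorphismProperty (AlgSp.Sp S)) (hP : AlgSp.IsSmoothLocalST P)
    (hPc : ∀ ⦃X₁ Y₁ Z₁ : AlgSp.Sp S⦄, AlgSp.IsAlgSpace X₁ → AlgSp.IsAlgSpace Y₁ → AlgSp.IsAlgSpace Z₁ →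
      ∀ (a : X₁ ⟶ Y₁) (b : Y₁ ⟶ Z₁), P a → P b → P (a ≫ b))
    (𝒳 : AlgSt.Cat S) (𝒴 : AlgSt.Cat S) (𝒵 : AlgSt.Cat S)
    (h𝒳 : AlgSt.IsAlgStack Scheme.fppfPrecoverage 𝒳)
    (h𝒴 : AlgSt.IsAlgStack Scheme.fppfPrecoverage 𝒴)
    (h𝒵 : AlgSt.IsAlgStack Scheme.fppfPrecoverage 𝒵)
    (f : 𝒳 ⥤ᵇ 𝒴) (g : 𝒴 ⥤ᵇ 𝒵) :
    AlgSt.LocQ P f → AlgSt.LocQ P g → AlgSt.LocQ P (BasedFunctor.comp f g) := by
  intro Hf Hg
  obtain ⟨U, V, W, x, y, z, h, k, α, β, ⟨hx, hx'⟩, ⟨hy, -⟩, ⟨hz, -⟩, ⟨hℓf, -⟩, ⟨hℓg, -⟩⟩ :=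
    exists_two_squares h𝒳 h𝒴 h𝒵 f g
  have h1 := (locQ_iff_forall h𝒳 h𝒴 f hP).1 Hf U V x y h α hx hy hℓf
  have h2 := (locQ_iff_forall h𝒴 h𝒵 g hP).1 Hg V W y z k β hy hz hℓg
  have h3 : P ((AlgSp.yon S).map (h ≫ k)) := by
    rw [Functor.map_comp]
    exact hPc (AlgSp.IsAlgSpace.yon_obj U) (AlgSp.IsAlgSpace.yon_obj V) (AlgSp.IsAlgSpace.yon_obj W)
      _ _ h1 h2
  exact ⟨U, W, x, z, h ≫ k,
    (whiskerRightIso α g).trans ((whiskerLeftIso (AlgSt.overMap h) β).trans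
      (whiskerRightIso (overMapComp h k).symm z)), hx, hx', hz, h3⟩

end Groth.Agent.S13038
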