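import Groth.Statements.S13041
import Mathlib
-- import your own Groth.Agent.* helpers here

set_option autoImplicit false
universe u
open MaxMod

open scoped TensorProduct

namespace Groth.Agent.S13041

/-- Let R be a domain with fraction field K, let A → B be a homomorphism of commutative R-algebras that
are flat over R, with B module-finite over A, such that the induced map K ⊗_R A → K ⊗_R B is
bijective. If the A-linear map Hom_A(B, A) → A evaluating at 1 is surjective, then A → B is
bijective. (The published statement concerns a finite morphism of flat schemes over a discrete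
valuation ring, with locally free relative dualizing sheaves, that is an isomorphism over a
schematically dense open and whose trace map on dualizing sheaves is surjective; this row is the
statement about rings to which the printed proof reduces it and which that proof establishes, and
the argument uses only that R is a domain.) -/
theorem result
    (R K A B : Type u) [CommRing R] [IsDomain R] [Field K] [Algebra R K] [IsFractionRing R K]
    [CommRing A] [CommRing B] [Algebra R A] [Algebra R B] [Algebra A B] [IsScalarTower R A B]
    [Module.Flat R A] [Module.Flat R B] [Module.Finite A B]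
    (hK : Function.Bijective
      (Algebra.TensorProduct.map (AlgHom.id R K) (IsScalarTower.toAlgHom R A B)))
    (htr : Function.Surjective (fun u : B →ₗ[A] A => u 1)) :
    Function.Bijective (algebraMap A B) := by
  obtain ⟨u, hu⟩ := htr 1
  have hu1 : u 1 = 1 := hu
  have hualg : ∀ a : A, u (algebraMap A B a) = a := by
    intro a
    rw [Algebra.algebraMap_eq_smul_one, map_smul, hu1, smul_eq_mul, mul_one]
  let uR : B →ₗ[R] A := u.restrictScalars R
  let φ : K ⊗[R] A →ₗ[R] K ⊗[R] B := (IsScalarTower.toAlgHom R A B).toLinearMap.lTensor K
  have hφ : ∀ z, φ z = Algebra.TensorProduct.map (AlgHom.id R K) (IsScalarTower.toAlgHom R A B) z := by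
    intro z
    induction z using TensorProduct.induction_on with
    | zero => simp
    | tmul a b => simp [φ]
    | add z w hz hw => rw [map_add, map_add, hz, hw]
  have hcomp : ∀ z, (uR.lTensor K) (φ z) = z := by
    intro z
    induction z using TensorProduct.induction_on with
    | zero => simp
    | tmul a b =>
      simp only [φ, LinearMap.lTensor_tmul, AlgHom.toLinearMap_apply, IsScalarTower.coe_toAlgHom']
      show a ⊗ₜ[R] u (algebraMap A B b) = a ⊗ₜ[R] b
      rw [hualg]
    | add z w hz hw => rw [map_add, map_add, hz, hw]
  have hBinj : Function.Injective (TensorProduct.mk R K B 1) :=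
    Module.Flat.tensorProduct_mk_injective (R := R) (S := K) B
  have hker : ∀ c : B, u c = 0 → c = 0 := by
    intro c hc
    apply hBinj
    rw [map_zero]
    obtain ⟨z, hz⟩ := hK.2 ((1 : K) ⊗ₜ[R] c)
    rw [← hφ] at hz
    have h1 : (uR.lTensor K) (φ z) = 0 := by
      rw [hz, LinearMap.lTensor_tmul]
      show (1 : K) ⊗ₜ[R] u c = 0
      rw [hc, TensorProduct.tmul_zero]
    rw [hcomp] at h1
    show (1 : K) ⊗ₜ[R] c = 0
    rw [← hz, h1, map_zero]
  constructor
  · intro a a' h
    rw [← hualg a, ← hualg a', h]
  · intro b
    refine ⟨u b, ?_⟩
    have : u (b - algebraMap A B (u b)) = 0 := by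
      rw [map_sub, hualg, sub_self]
    have := hker _ this
    rw [sub_eq_zero] at this
    exact this.symm

end Groth.Agent.S13041
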