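import Groth.Statements.S13042
import Mathlib

set_option autoImplicit false
universe u
open MaxMod

namespace Groth.Agent.S13042
open MvPolynomial

open MvPolynomial in
/-- Let p be a prime, R a local ring of characteristic p, λ an element of the maximal ideal of R and f ∈
R. Then there is an isomorphism of R-algebras R[W₁, W₂]/(W₁^p − f, W₂^p − f) ≅ R[x, W]/(x^p, W^p −
f) with W₁ ↦ x + W + λ·x·W and W₂ ↦ W; that is, Spec R[W]/(W^p − f) with the action w ↦ x + w + λxw
is a torsor under the group scheme Spec R[x]/(x^p) with law x₁ ∘ x₂ = x₁ + x₂ + λx₁x₂. (The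
published statement is over a complete discrete valuation ring of characteristic p with λ a nonzero
nonunit, and also asserts that for f in the fraction field with negative valuation v(f) > −p·v(λ)
the torsor W^p = f extends to a torsor over R, using the coordinate 1/W; that second case fails: for
p = 2, λ = π a uniformizer and f = 1/π, every model is Spec R[π^a t] with t² = π, and none of these
is a torsor since the coaction sends t to t − π(1 + t)x. Only the case f ∈ R is stated, and the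
argument there uses only that R is local of characteristic p.) -/
theorem result
    (p : ℕ) [Fact p.Prime] (R : Type u) [CommRing R] [IsLocalRing R] [CharP R p]
    (lam f : R) (hlam : lam ∈ IsLocalRing.maximalIdeal R) :
    ∃ e : (MvPolynomial (Fin 2) R ⧸ Ideal.span {(X 0 ^ p - C f : MvPolynomial (Fin 2) R), X 1 ^ p - C f}) ≃ₐ[R]
        (MvPolynomial (Fin 2) R ⧸ Ideal.span {(X 0 ^ p : MvPolynomial (Fin 2) R), X 1 ^ p - C f}),
      e (Ideal.Quotient.mk _ (X 0)) = Ideal.Quotient.mk _ (X 0 + X 1 + C lam * X 0 * X 1) ∧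
      e (Ideal.Quotient.mk _ (X 1)) = Ideal.Quotient.mk _ (X 1) := by
  classical
  have hp : p.Prime := Fact.out
  set I₁ : Ideal (MvPolynomial (Fin 2) R) :=
    Ideal.span {(X 0 ^ p - C f : MvPolynomial (Fin 2) R), X 1 ^ p - C f} with hI₁
  set I₂ : Ideal (MvPolynomial (Fin 2) R) :=
    Ideal.span {(X 0 ^ p : MvPolynomial (Fin 2) R), X 1 ^ p - C f} with hI₂
  set d : R := 1 + lam ^ p * f with hd
  have hdu : IsUnit d := by
    rw [← IsLocalRing.notMem_maximalIdeal]
    intro hmem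
    have h1 : (1 : R) ∈ IsLocalRing.maximalIdeal R := by
      have : (1 : R) = d - lam ^ p * f := by rw [hd]; ring
      rw [this]
      exact Ideal.sub_mem _ hmem (Ideal.mul_mem_right _ _ (Ideal.pow_mem_of_mem _ hlam p hp.pos))
    exact (Ideal.ne_top_iff_one _).mp (IsLocalRing.maximalIdeal.isMaximal R).ne_top h1
  obtain ⟨dinv, hdinv⟩ := hdu.exists_right_inv
  have hpolyA : (X 0 + X 1 + C lam * X 0 * X 1 : MvPolynomial (Fin 2) R) ^ p
      = X 0 ^ p + X 1 ^ p + C lam ^ p * X 0 ^ p * X 1 ^ p := by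
    rw [add_pow_char, add_pow_char, mul_pow, mul_pow]
  have hpolyB : (X 0 - X 1 : MvPolynomial (Fin 2) R) ^ p = X 0 ^ p - X 1 ^ p := sub_pow_char _ _
  have hpolyC : (1 + C lam * X 1 : MvPolynomial (Fin 2) R) ^ p = 1 + C lam ^ p * X 1 ^ p := by
    rw [add_pow_char, one_pow, mul_pow]
  set upoly : MvPolynomial (Fin 2) R := (1 + C lam * X 1) ^ (p - 1) * C dinv with hupoly
  have hu : ∀ (A : Type u) [CommRing A] (m : MvPolynomial (Fin 2) R →+* A),
      m (X 1 ^ p) = m (C f) → m ((1 + C lam * X 1) * upoly) = 1 := by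
    intro A _ m hm
    have h1 : (1 + C lam * X 1) * upoly = (1 + C lam * X 1 : MvPolynomial (Fin 2) R) ^ p * C dinv := by
      rw [hupoly, ← mul_assoc, ← pow_succ', Nat.sub_add_cancel hp.one_le]
    rw [h1, hpolyC, map_mul, map_add, map_one, map_mul, hm, ← map_mul, ← map_one m, ← map_add,
      ← map_mul]
    congr 1
    rw [← C_pow, ← C_mul, ← C_1, ← C_add, ← C_mul, ← hd, hdinv]
  set m₁ := Ideal.Quotient.mk I₁ with hm₁
  set m₂ := Ideal.Quotient.mk I₂ with hm₂
  have hx : m₂ (X 0 ^ p) = 0 :=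
    Ideal.Quotient.eq_zero_iff_mem.mpr (Ideal.subset_span (by simp))
  have hW : m₂ (X 1 ^ p) = m₂ (C f) := by
    rw [← sub_eq_zero, ← map_sub]
    exact Ideal.Quotient.eq_zero_iff_mem.mpr (Ideal.subset_span (by simp))
  have hW₁ : m₁ (X 0 ^ p) = m₁ (C f) := by
    rw [← sub_eq_zero, ← map_sub]
    exact Ideal.Quotient.eq_zero_iff_mem.mpr (Ideal.subset_span (by simp))
  have hW₂ : m₁ (X 1 ^ p) = m₁ (C f) := by
    rw [← sub_eq_zero, ← map_sub]
    exact Ideal.Quotient.eq_zero_iff_mem.mpr (Ideal.subset_span (by simp))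
  set α : MvPolynomial (Fin 2) R →ₐ[R] MvPolynomial (Fin 2) R :=
    aeval ![X 0 + X 1 + C lam * X 0 * X 1, X 1] with hα
  set β : MvPolynomial (Fin 2) R →ₐ[R] MvPolynomial (Fin 2) R :=
    aeval ![(X 0 - X 1) * upoly, X 1] with hβ
  have hαX0 : α (X 0) = X 0 + X 1 + C lam * X 0 * X 1 := by simp [hα]
  have hαX1 : α (X 1) = X 1 := by simp [hα]
  have hαC : ∀ r, α (C r) = C r := fun r => by
    rw [← MvPolynomial.algebraMap_eq, AlgHom.commutes]
  have hβX0 : β (X 0) = (X 0 - X 1) * upoly := by simp [hβ]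
  have hβX1 : β (X 1) = X 1 := by simp [hβ]
  have hβC : ∀ r, β (C r) = C r := fun r => by
    rw [← MvPolynomial.algebraMap_eq, AlgHom.commutes]
  have hαu : α upoly = upoly := by
    rw [hupoly, map_mul, map_pow, map_add, map_one, map_mul, hαC, hαC, hαX1]
  have hβu : β upoly = upoly := by
    rw [hupoly, map_mul, map_pow, map_add, map_one, map_mul, hβC, hβC, hβX1]
  set φ0 : MvPolynomial (Fin 2) R →ₐ[R] (MvPolynomial (Fin 2) R ⧸ I₂) :=
    (Ideal.Quotient.mkₐ R I₂).comp α with hφ0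
  set ψ0 : MvPolynomial (Fin 2) R →ₐ[R] (MvPolynomial (Fin 2) R ⧸ I₁) :=
    (Ideal.Quotient.mkₐ R I₁).comp β with hψ0
  have hφ0a : ∀ a, φ0 a = m₂ (α a) := fun a => rfl
  have hψ0a : ∀ a, ψ0 a = m₁ (β a) := fun a => rfl
  have hφker : ∀ a ∈ I₁, φ0 a = 0 := by
    have hle : I₁ ≤ RingHom.ker φ0.toRingHom := by
      rw [hI₁, Ideal.span_le, Set.insert_subset_iff, Set.singleton_subset_iff]
      constructor
      · rw [SetLike.mem_coe, RingHom.mem_ker]
        show φ0 (X 0 ^ p - C f) = 0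
        rw [hφ0a, map_sub, map_pow, hαX0, hαC, hpolyA, map_sub, map_add, map_add, map_mul, map_mul,
          hx, hW]
        ring
      · rw [SetLike.mem_coe, RingHom.mem_ker]
        show φ0 (X 1 ^ p - C f) = 0
        rw [hφ0a, map_sub, map_pow, hαX1, hαC, map_sub, hW, sub_self]
    exact fun a ha => hle ha
  have hψker : ∀ a ∈ I₂, ψ0 a = 0 := by
    have hle : I₂ ≤ RingHom.ker ψ0.toRingHom := by
      rw [hI₂, Ideal.span_le, Set.insert_subset_iff, Set.singleton_subset_iff]
      constructor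
      · rw [SetLike.mem_coe, RingHom.mem_ker]
        show ψ0 (X 0 ^ p) = 0
        rw [hψ0a, map_pow, hβX0, mul_pow, hpolyB, map_mul, map_sub, hW₁, hW₂, sub_self, zero_mul]
      · rw [SetLike.mem_coe, RingHom.mem_ker]
        show ψ0 (X 1 ^ p - C f) = 0
        rw [hψ0a, map_sub, map_pow, hβX1, hβC, map_sub, hW₂, sub_self]
    exact fun a ha => hle ha
  set φ := Ideal.Quotient.liftₐ I₁ φ0 hφker with hφ
  set ψ := Ideal.Quotient.liftₐ I₂ ψ0 hψker with hψ
  have hφm : ∀ a, φ (m₁ a) = m₂ (α a) := fun a => rfl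
  have hψm : ∀ a, ψ (m₂ a) = m₁ (β a) := fun a => rfl
  have h12 : φ.comp ψ = AlgHom.id R _ := by
    apply Ideal.Quotient.algHom_ext
    apply MvPolynomial.algHom_ext
    intro i
    show φ (ψ (m₂ (X i))) = m₂ (X i)
    rw [hψm, hφm]
    fin_cases i
    · show m₂ (α (β (X 0))) = m₂ (X 0)
      rw [hβX0, map_mul, map_sub, hαX0, hαX1, hαu]
      have : (X 0 + X 1 + C lam * X 0 * X 1 - X 1) * upoly
          = X 0 * ((1 + C lam * X 1) * upoly) := by ring
      rw [this, map_mul, hu _ m₂ hW, mul_one]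
    · show m₂ (α (β (X 1))) = m₂ (X 1)
      rw [hβX1, hαX1]
  have h21 : ψ.comp φ = AlgHom.id R _ := by
    apply Ideal.Quotient.algHom_ext
    apply MvPolynomial.algHom_ext
    intro i
    show ψ (φ (m₁ (X i))) = m₁ (X i)
    rw [hφm, hψm]
    fin_cases i
    · show m₁ (β (α (X 0))) = m₁ (X 0)
      have hb : β (X 0 + X 1 + C lam * X 0 * X 1)
          = (X 0 - X 1) * upoly + X 1 + C lam * ((X 0 - X 1) * upoly) * X 1 := by
        simp only [map_add, map_mul, hβX0, hβX1, hβC]
      rw [hαX0, hb]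
      have : (X 0 - X 1) * upoly + X 1 + C lam * ((X 0 - X 1) * upoly) * X 1
          = (X 0 - X 1) * ((1 + C lam * X 1) * upoly) + X 1 := by ring
      rw [this, map_add, map_mul, hu _ m₁ hW₂, mul_one, map_sub, sub_add_cancel]
    · show m₁ (β (α (X 1))) = m₁ (X 1)
      rw [hαX1, hβX1]
  refine ⟨AlgEquiv.ofAlgHom φ ψ h12 h21, ?_, ?_⟩
  · show φ (m₁ (X 0)) = m₂ (X 0 + X 1 + C lam * X 0 * X 1)
    rw [hφm, hαX0]
  · show φ (m₁ (X 1)) = m₂ (X 1)
    rw [hφm, hαX1]

end Groth.Agent.S13042
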