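import Groth.Statements.S13048
import Mathlib
-- import your own Groth.Agent.* helpers here

set_option autoImplicit false
universe u
open FrobAlg

namespace Groth.Agent.S13048

/-- Let k be an algebraically closed field of characteristic p > 0 and let A be a reduced finitely
generated commutative k-algebra with connected spectrum (A ≠ 0 and 0, 1 are its only idempotents).
If x ∈ A is a p^n-th power in A for every n ≥ 0, then x lies in the image of k; that is, ⋂_n A^{p^n}
= k. (The published statement is: for an artinian local ring R of characteristic p and a flat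
R-algebra A of finite type, the maps A^ét → O(π₀(A)) → A^{p^∞/R} from the largest étale subalgebra
to the preperfection are isomorphisms. This row is the case R = k algebraically closed and A reduced
with connected spectrum, where A^ét = k and the preperfection is ⋂_n A^{p^n}; the printed proof
reduces to this case and its last step proves it.) -/
theorem result
    (p : ℕ) [Fact p.Prime] (k : Type u) [Field k] [IsAlgClosed k] [CharP k p]
    (A : Type u) [CommRing A] [Algebra k A] [Algebra.FiniteType k A] [IsReduced A] [Nontrivial A]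
    (hconn : ∀ e : A, IsIdempotentElem e → e = 0 ∨ e = 1)
    (x : A) (hx : ∀ n : ℕ, ∃ a : A, a ^ p ^ n = x) :
    x ∈ (algebraMap k A).range := by
  haveI : IsNoetherianRing A := Algebra.FiniteType.isNoetherianRing k A
  haveI : CharP A p := charP_of_injective_algebraMap (algebraMap k A).injective p
  -- annihilator ideals
  let J : k → Ideal A := fun c => Ideal.span {x - algebraMap k A c} |>.annihilator
  have hJ : ∀ c s, s ∈ J c ↔ s * (x - algebraMap k A c) = 0 := by
    intro c s
    simp only [J, Submodule.mem_annihilator_span_singleton, smul_eq_mul]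
  have hlocal : ∀ m : Ideal A, m.IsMaximal → ∃ c, ¬ J c ≤ m := by
    intro m hm
    letI : Field (A ⧸ m) := Ideal.Quotient.field m
    haveI : Module.Finite k (A ⧸ m) := finite_of_finite_type_of_isJacobsonRing k (A ⧸ m)
    haveI : Algebra.IsIntegral k (A ⧸ m) := Algebra.IsIntegral.of_finite k (A ⧸ m)
    obtain ⟨c, hc⟩ := (IsAlgClosed.algebraMap_bijective_of_isIntegral (k := k) (K := A ⧸ m)).2
      (Ideal.Quotient.mk m x)
    refine ⟨c, ?_⟩
    set y := x - algebraMap k A c with hy
    have hym : ∀ n : ℕ, y ∈ m ^ (p ^ n) := by
      intro n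
      obtain ⟨a, ha⟩ := hx n
      obtain ⟨d, hd⟩ := IsAlgClosed.exists_pow_nat_eq c (pow_pos (Fact.out : p.Prime).pos n)
      have e1 : y = (a - algebraMap k A d) ^ p ^ n := by
        rw [sub_pow_char_pow, ha, ← map_pow, hd]
      have hmem : a - algebraMap k A d ∈ m := by
        have h1 : y ∈ m := by
          rw [← Ideal.Quotient.eq_zero_iff_mem, hy, map_sub, ← hc]
          simp [Ideal.Quotient.mk_algebraMap]
        rw [e1] at h1
        exact hm.isPrime.mem_of_pow_mem _ h1
      rw [e1]
      exact Ideal.pow_mem_pow hmem _
    have hinf : y ∈ (⨅ i : ℕ, m ^ i • ⊤ : Submodule A A) := by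
      rw [Submodule.mem_iInf]
      intro i
      have h1 : y ∈ m ^ i := Ideal.pow_le_pow_right (Nat.lt_pow_self (Fact.out : p.Prime).one_lt).le (hym i)
      simpa using h1
    obtain ⟨r, hr⟩ := (Ideal.mem_iInf_smul_pow_eq_bot_iff m y).mp hinf
    intro hle
    have h1 : (1 - (r : A)) ∈ J c := by
      rw [hJ, sub_mul, one_mul]
      rw [smul_eq_mul] at hr
      rw [hr, sub_self]
    have h2 : (1 - (r : A)) ∈ m := hle h1
    have h3 : (1 : A) ∈ m := by
      have := m.add_mem h2 r.2
      simpa using this
    exact hm.ne_top ((Ideal.eq_top_iff_one m).mpr h3)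
  have htop : (⨆ c, J c) = ⊤ := by
    by_contra hne
    obtain ⟨m, hm, hle⟩ := Ideal.exists_le_maximal _ hne
    obtain ⟨c, hc⟩ := hlocal m hm
    exact hc ((le_iSup J c).trans hle)
  have h1 : (1 : A) ∈ ⨆ c, J c := by rw [htop]; trivial
  rw [Submodule.mem_iSup_iff_exists_finsupp] at h1
  obtain ⟨f, hf, hsum⟩ := h1
  have horth : ∀ c c', c ≠ c' → f c * f c' = 0 := by
    intro c c' hcc'
    have h1 := (hJ c (f c)).mp (hf c)
    have h2 := (hJ c' (f c')).mp (hf c')
    have h3 : f c * f c' * algebraMap k A (c - c') = 0 := by
      have : algebraMap k A (c - c') = (x - algebraMap k A c') - (x - algebraMap k A c) := by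
        rw [map_sub]; ring
      rw [this, mul_sub, mul_assoc, h2, mul_zero, mul_comm (f c) (f c'), mul_assoc, h1, mul_zero,
        sub_zero]
    have hu : IsUnit (algebraMap k A (c - c')) :=
      (IsUnit.mk0 _ (sub_ne_zero.mpr hcc')).map _
    exact hu.mul_left_eq_zero.mp h3
  have hidem : ∀ c, IsIdempotentElem (f c) := by
    intro c
    have : f c = f c * f.sum (fun _ a => a) := by rw [hsum, mul_one]
    rw [Finsupp.sum, Finset.mul_sum] at this
    rw [IsIdempotentElem]
    conv_rhs => rw [this]
    symm
    apply Finset.sum_eq_single c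
    · intro c' _ hne
      exact horth c c' hne.symm
    · intro hc
      rw [Finsupp.notMem_support_iff.mp hc, mul_zero]
  have hex : ∃ c, f c = 1 := by
    by_contra hno
    push Not at hno
    have hz : ∀ c, f c = 0 := fun c => (hconn _ (hidem c)).resolve_right (hno c)
    have : f.sum (fun _ a => a) = 0 := by
      rw [Finsupp.sum]
      exact Finset.sum_eq_zero (fun c _ => hz c)
    rw [hsum] at this
    exact one_ne_zero this
  obtain ⟨c, hc⟩ := hex
  refine ⟨c, ?_⟩
  have := (hJ c (f c)).mp (hf c)
  rw [hc, one_mul] at this
  exact (sub_eq_zero.mp this).symm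

end Groth.Agent.S13048
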