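import Groth.Statements.S13049
import Mathlib
-- import your own Groth.Agent.* helpers here

set_option autoImplicit false
universe u
open FrobAlg

namespace Groth.Agent.S13049

/-- Let p be a prime and A a commutative ring of characteristic p whose nilradical N satisfies x^(p^e) =
0 for all x ∈ N and some fixed e (for instance A Noetherian). Then the map between the inverse-limit
perfections along the absolute Frobenius, lim (⋯ → A → A) → lim (⋯ → A/N → A/N), induced by the
projection A → A/N, is bijective. (The published argument takes A of finite type over a field, where
the nilradical is finitely generated; this row assumes only that the nilradical is killed by one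
fixed iterate of Frobenius, which is all that argument uses.) -/
theorem result
    (p : ℕ) [Fact p.Prime] (A : Type u) [CommRing A] [CharP A p]
    [CharP (A ⧸ nilradical A) p] (e : ℕ) (he : ∀ x ∈ nilradical A, x ^ p ^ e = 0) :
    Function.Bijective (Perfection.map p (Ideal.Quotient.mk (nilradical A))) := by
  have hiter : ∀ (R : Type u) [CommRing R] [CharP R p] (f : Perfection R p) (n m : ℕ),
      Perfection.coeff R p (n + m) f ^ p ^ m = Perfection.coeff R p n f := by
    intro R _ _ f n m
    induction m with
    | zero => simp
    | succ m ih =>
      rw [← add_assoc, pow_succ', pow_mul, Perfection.coeff_pow_p', ih]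
  constructor
  · intro f g hfg
    apply Perfection.ext
    intro n
    have hmem : ∀ m, Perfection.coeff A p m f - Perfection.coeff A p m g ∈ nilradical A := by
      intro m
      have := congrArg (Perfection.coeff (A ⧸ nilradical A) p m) hfg
      rw [Perfection.coeff_map, Perfection.coeff_map] at this
      rw [← Ideal.Quotient.eq]
      exact this
    rw [← sub_eq_zero, ← hiter A f n e, ← hiter A g n e, ← sub_pow_char_pow]
    exact he _ (hmem _)
  · intro g
    choose a ha using fun n => Ideal.Quotient.mk_surjective (Perfection.coeff (A ⧸ nilradical A) p n g)
    have hstep : ∀ n, a (n + 1) ^ p - a n ∈ nilradical A := by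
      intro n
      rw [← Ideal.Quotient.eq, map_pow, ha, ha, Perfection.coeff_pow_p']
    refine ⟨⟨fun n => a (n + e) ^ p ^ e, ?_⟩, ?_⟩
    · intro n
      show (a (n + 1 + e) ^ p ^ e) ^ p = a (n + e) ^ p ^ e
      have h1 : a (n + 1 + e) ^ p = a (n + e) + (a (n + e + 1) ^ p - a (n + e)) := by
        rw [add_right_comm n 1 e]; ring
      rw [← pow_mul, mul_comm, pow_mul, h1, add_pow_char_pow, he _ (hstep _), add_zero]
    · apply Perfection.ext
      intro n
      rw [Perfection.coeff_map, Perfection.coeff_mk, map_pow, ha, hiter]

end Groth.Agent.S13049
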