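import Groth.Statements.S13051
import Groth.Agent.Lib27.ZetaFormal

set_option autoImplicit false
universe u
open CategoryTheory AlgebraicGeometry
open Zeta

namespace Groth.Agent.S13051

/-- For a scheme X of finite type over a finite field k, Z(X, t) = ∏ over the closed points x of (1 −
t^{deg x})^{−1}, that is ∏_{r ≥ 1} (1 − t^r)^{−a_r} with a_r the number of closed points of residue
degree r; equivalently, for every n the product Z(X, t) · ∏_{r = 1}^{n} (1 − t^r)^{a_r} is ≡ 1
modulo t^{n+1}. In particular Z(X, t) has integer coefficients. (Stated for any scheme of finite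
type over k; reducedness plays no role.) -/
theorem result {k : Type u} [Field k] [Finite k] {X : Scheme.{u}}
    (f : X ⟶ Spec (CommRingCat.of k)) [LocallyOfFiniteType f] [QuasiCompact f] :
    (∀ n : ℕ, PowerSeries.trunc (n + 1)
        (Zeta.zetaFun f * ∏ r ∈ Finset.Icc 1 n, (1 - PowerSeries.X ^ r) ^ Zeta.degCount f r) = 1) ∧
      ∀ n : ℕ, ∃ z : ℤ, PowerSeries.coeff n (Zeta.zetaFun f) = (z : ℚ) := by
  classical
  let g : ℕ → PowerSeries ℚ := fun r => 1 - PowerSeries.X ^ r
  let D : ℕ → PowerSeries ℚ := fun r => PowerSeries.mk fun m => if r ∣ (m + 1) then (r : ℚ) else 0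
  let c : ℕ → PowerSeries ℚ := fun r => - D r
  have hD : ∀ r, 1 ≤ r → D r * g r = (r : PowerSeries ℚ) * PowerSeries.X ^ (r - 1) := by
    intro r hr
    ext m
    have h1 : ((r : ℕ) : PowerSeries ℚ) = PowerSeries.C ((r : ℕ) : ℚ) := by simp
    rw [h1, PowerSeries.coeff_C_mul, PowerSeries.coeff_X_pow]
    simp only [g, D, mul_sub, mul_one, map_sub, PowerSeries.coeff_mul_X_pow', PowerSeries.coeff_mk]
    by_cases hrm : r ≤ m
    · rw [if_pos hrm]
      have h2 : (r ∣ m - r + 1) ↔ (r ∣ m + 1) := by
        have : m + 1 = (m - r + 1) + r := by omega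
        rw [this]
        exact (Nat.dvd_add_self_right).symm
      have h3 : m ≠ r - 1 := by omega
      rw [if_neg h3]
      by_cases h4 : r ∣ m + 1
      · rw [if_pos h4, if_pos (h2.mpr h4)]; simp
      · rw [if_neg h4, if_neg (fun h => h4 (h2.mp h))]; simp
    · rw [if_neg hrm, sub_zero]
      by_cases h4 : r ∣ m + 1
      · have : m + 1 = r := by
          have := Nat.le_of_dvd (by omega) h4
          omega
        rw [if_pos h4, if_pos (by omega)]; simp
      · rw [if_neg h4, if_neg (by intro h; apply h4; rw [h, Nat.sub_add_cancel hr])]; simp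
  have hg : ∀ n, ∀ r ∈ Finset.Icc 1 n, PowerSeries.derivative ℚ (g r) = c r * g r := by
    intro n r hr
    have hr1 : 1 ≤ r := (Finset.mem_Icc.mp hr).1
    simp only [g, c, map_sub, PowerSeries.derivative_one, zero_sub, neg_mul]
    rw [hD r hr1, PowerSeries.derivative_pow, PowerSeries.derivative_X, mul_one]
  have hE : ∀ n, PowerSeries.derivative ℚ (Zeta.zetaFun f * ∏ r ∈ Finset.Icc 1 n,
      g r ^ Zeta.degCount f r) = (PowerSeries.derivative ℚ (Zeta.logZeta f) +
        ∑ r ∈ Finset.Icc 1 n, ((Zeta.degCount f r : ℕ) : PowerSeries ℚ) * c r) *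
        (Zeta.zetaFun f * ∏ r ∈ Finset.Icc 1 n, g r ^ Zeta.degCount f r) := by
    intro n
    rw [Derivation.leibniz, smul_eq_mul, smul_eq_mul,
      Lib27.ZetaFormal.derivative_prod_pow (Finset.Icc 1 n) g c (fun r => Zeta.degCount f r) (hg n),
      Lib27.ZetaFormal.derivative_zetaFun]
    ring
  have hH : ∀ n i, i < n → PowerSeries.coeff i (PowerSeries.derivative ℚ (Zeta.logZeta f) +
        ∑ r ∈ Finset.Icc 1 n, ((Zeta.degCount f r : ℕ) : PowerSeries ℚ) * c r) = 0 := by
    intro n i hi
    rw [map_add, Lib27.ZetaFormal.coeff_derivative_logZeta, map_sum, Zeta.nPts]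
    have h1 : ∀ r ∈ Finset.Icc 1 n, PowerSeries.coeff i (((Zeta.degCount f r : ℕ) : PowerSeries ℚ) * c r) =
        if r ∣ i + 1 then -((r : ℚ) * (Zeta.degCount f r : ℚ)) else 0 := by
      intro r _
      have h2 : ((Zeta.degCount f r : ℕ) : PowerSeries ℚ) = PowerSeries.C ((Zeta.degCount f r : ℕ) : ℚ) := by
        simp
      rw [h2, PowerSeries.coeff_C_mul]
      simp only [c, D, map_neg, PowerSeries.coeff_mk]
      split_ifs <;> ring
    rw [Finset.sum_congr rfl h1, ← Finset.sum_filter]
    have h3 : (Finset.Icc 1 n).filter (fun r => r ∣ i + 1) = (i + 1).divisors := by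
      ext r
      simp only [Finset.mem_filter, Finset.mem_Icc, Nat.mem_divisors]
      constructor
      · rintro ⟨_, h⟩; exact ⟨h, by omega⟩
      · rintro ⟨h, _⟩
        have := Nat.le_of_dvd (by omega) h
        exact ⟨⟨Nat.pos_of_dvd_of_pos h (by omega), by omega⟩, h⟩
    rw [h3, Finset.sum_neg_distrib]
    push_cast
    ring
  have h0 : ∀ n, PowerSeries.constantCoeff (Zeta.zetaFun f * ∏ r ∈ Finset.Icc 1 n,
      g r ^ Zeta.degCount f r) = 1 := by
    intro n
    rw [map_mul, Lib27.ZetaFormal.constantCoeff_zetaFun, map_prod, one_mul]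
    refine Finset.prod_eq_one fun r hr => ?_
    have hr1 : r ≠ 0 := by have := (Finset.mem_Icc.mp hr).1; omega
    simp [g, hr1]
  have hcoeff : ∀ n m, m ≤ n → PowerSeries.coeff m (Zeta.zetaFun f * ∏ r ∈ Finset.Icc 1 n,
      g r ^ Zeta.degCount f r) = if m = 0 then 1 else 0 := by
    intro n m hmn
    by_cases hm : m = 0
    · subst hm
      rw [if_pos rfl, PowerSeries.coeff_zero_eq_constantCoeff_apply, h0 n]
    · rw [if_neg hm]
      exact Lib27.ZetaFormal.coeff_eq_zero_of_derivative_eq_mul n (hE n) (hH n) m (by omega) hmn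
  refine ⟨fun n => ?_, fun n => ?_⟩
  · ext m
    rw [PowerSeries.coeff_trunc, Polynomial.coeff_one]
    by_cases hm : m < n + 1
    · rw [if_pos hm]
      have := hcoeff n m (by omega)
      simp only [g] at this
      rw [this]
    · rw [if_neg hm, if_neg (by omega)]
  · -- integrality
    let GZ : PowerSeries ℤ := ∏ r ∈ Finset.Icc 1 n, (1 - PowerSeries.X ^ r) ^ Zeta.degCount f r
    have hGZ0 : PowerSeries.constantCoeff GZ = 1 := by
      simp only [GZ]
      rw [map_prod]
      refine Finset.prod_eq_one fun r hr => ?_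
      have hr1 : r ≠ 0 := by have := (Finset.mem_Icc.mp hr).1; omega
      simp [hr1]
    have hunit : IsUnit GZ := by
      rw [PowerSeries.isUnit_iff_constantCoeff, hGZ0]; exact isUnit_one
    obtain ⟨I, hI⟩ := hunit.exists_right_inv
    have hmap : PowerSeries.map (Int.castRingHom ℚ) GZ = ∏ r ∈ Finset.Icc 1 n, g r ^ Zeta.degCount f r := by
      simp only [GZ, g, map_prod, map_pow, map_sub, map_one, PowerSeries.map_X]
    have hI' : (∏ r ∈ Finset.Icc 1 n, g r ^ Zeta.degCount f r) * PowerSeries.map (Int.castRingHom ℚ) I = 1 := by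
      rw [← hmap, ← map_mul, hI, map_one]
    refine ⟨PowerSeries.coeff n I, ?_⟩
    have hZ : Zeta.zetaFun f = (Zeta.zetaFun f * ∏ r ∈ Finset.Icc 1 n, g r ^ Zeta.degCount f r) *
        PowerSeries.map (Int.castRingHom ℚ) I := by
      rw [mul_assoc, hI', mul_one]
    rw [hZ, PowerSeries.coeff_mul]
    rw [Finset.sum_eq_single (0, n)]
    · rw [hcoeff n 0 (by omega), if_pos rfl, one_mul, PowerSeries.coeff_map]
      simp
    · intro p hp hne
      have hp' := Finset.mem_antidiagonal.mp hp
      rw [hcoeff n p.1 (by omega)]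
      have : p.1 ≠ 0 := by
        intro h
        apply hne
        ext
        · exact h
        · simp only; omega
      rw [if_neg this, zero_mul]
    · intro h
      exact absurd (Finset.mem_antidiagonal.mpr (by simp)) h

end Groth.Agent.S13051
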