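import Groth.Statements.S13057
import Mathlib

set_option autoImplicit false
universe u
open Zeta

namespace Groth.Agent.S13057

open Finset

/-- coefficient of `Q * f` in degree `i + N` when `deg Q ≤ N`. -/
theorem coeff_mul_window {L : Type u} [Field L] (f : PowerSeries L) (Q : Polynomial L) (N : ℕ)
    (hQ : Q.natDegree ≤ N) (i : ℕ) :
    PowerSeries.coeff (i + N) ((Q : PowerSeries L) * f) =
      ∑ k : Fin (N + 1), Q.coeff k * PowerSeries.coeff (i + (k.rev : ℕ)) f := by
  rw [PowerSeries.coeff_mul, Finset.Nat.sum_antidiagonal_eq_sum_range_succ_mk]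
  simp only [Polynomial.coeff_coe]
  have h1 : ∑ k : Fin (N + 1), Q.coeff k * PowerSeries.coeff (i + (k.rev : ℕ)) f =
      ∑ k ∈ range (N + 1), Q.coeff k * PowerSeries.coeff (i + N - k) f := by
    rw [← Fin.sum_univ_eq_sum_range (fun k => Q.coeff k * PowerSeries.coeff (i + N - k) f)]
    refine Finset.sum_congr rfl fun k _ => ?_
    have : i + (k.rev : ℕ) = i + N - k := by
      rw [Fin.val_rev]
      have := k.isLt
      omega
    rw [this]
  rw [h1]
  symm
  apply Finset.sum_subset
  · intro k hk
    rw [Finset.mem_range] at hk ⊢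
    omega
  · intro k _ hk
    rw [Finset.mem_range] at hk
    rw [Polynomial.coeff_eq_zero_of_natDegree_lt (by omega), zero_mul]


/-- A power series f = ∑_{m ≥ 0} a_m t^m over a field L lies in L(t), i.e. f · Q = P for some
polynomials P, Q with Q ≠ 0, if and only if there are natural numbers M, N such that the vectors
(a_i, a_{i+1}, …, a_{i+N}) ∈ L^{N+1}, i ≥ M, span a proper subspace. -/
theorem result {L : Type u} [Field L]
    (f : PowerSeries L) :
    (∃ P Q : Polynomial L, Q ≠ 0 ∧ f * (Q : PowerSeries L) = (P : PowerSeries L)) ↔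
      ∃ M N : ℕ, Submodule.span L
          {v : Fin (N + 1) → L | ∃ i : ℕ, M ≤ i ∧ v = fun j : Fin (N + 1) => PowerSeries.coeff (i + (j : ℕ)) f} ≠ ⊤ := by
  constructor
  · rintro ⟨P, Q, hQ, hfQ⟩
    refine ⟨P.natDegree + 1, Q.natDegree, ?_⟩
    let φ : (Fin (Q.natDegree + 1) → L) →ₗ[L] L :=
      ∑ k : Fin (Q.natDegree + 1), Q.coeff k • LinearMap.proj k.rev
    have hφ : ∀ v, φ v = ∑ k : Fin (Q.natDegree + 1), Q.coeff k * v k.rev := fun v => by
      simp [φ, LinearMap.sum_apply]
    have hle : Submodule.span L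
        {v : Fin (Q.natDegree + 1) → L | ∃ i : ℕ, P.natDegree + 1 ≤ i ∧
          v = fun j : Fin (Q.natDegree + 1) => PowerSeries.coeff (i + (j : ℕ)) f} ≤
        LinearMap.ker φ := by
      rw [Submodule.span_le]
      rintro v ⟨i, hi, rfl⟩
      rw [SetLike.mem_coe, LinearMap.mem_ker, hφ]
      rw [← coeff_mul_window f Q Q.natDegree le_rfl i, mul_comm, hfQ, Polynomial.coeff_coe]
      exact Polynomial.coeff_eq_zero_of_natDegree_lt (by omega)
    intro htop
    rw [htop, top_le_iff, LinearMap.ker_eq_top] at hle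
    have h1 := hφ (Pi.single 0 1)
    rw [hle, LinearMap.zero_apply] at h1
    rw [Finset.sum_eq_single (Fin.last Q.natDegree)] at h1
    · rw [Fin.rev_last, Pi.single_eq_same, mul_one, Fin.val_last] at h1
      exact hQ (Polynomial.leadingCoeff_eq_zero.mp h1.symm)
    · intro k _ hk
      have : k.rev ≠ 0 := by
        intro h
        apply hk
        rw [← Fin.rev_rev k, h, Fin.rev_zero]
      rw [Pi.single_eq_of_ne this, mul_zero]
    · intro h; exact absurd (Finset.mem_univ _) h
  · rintro ⟨M, N, hspan⟩
    obtain ⟨φ, hφ0, hφ⟩ := Submodule.exists_le_ker_of_lt_top _ (lt_top_iff_ne_top.mpr hspan)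
    let c : Fin (N + 1) → L := fun j => φ (Pi.single j 1)
    have hφc : ∀ v, φ v = ∑ j, c j * v j := fun v => by
      conv_lhs => rw [← (Pi.basisFun L (Fin (N + 1))).sum_repr v]
      rw [map_sum]
      refine Finset.sum_congr rfl fun j _ => ?_
      rw [map_smul, Pi.basisFun_repr, Pi.basisFun_apply, smul_eq_mul, mul_comm]
    let Q : Polynomial L := ∑ k : Fin (N + 1), Polynomial.monomial (k : ℕ) (c k.rev)
    have hQcoeff : ∀ k : Fin (N + 1), Q.coeff k = c k.rev := by
      intro k
      simp only [Q, Polynomial.finsetSum_coeff, Polynomial.coeff_monomial]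
      rw [Finset.sum_eq_single k]
      · rw [if_pos rfl]
      · intro j _ hj
        rw [if_neg (fun h => hj (Fin.ext h))]
      · intro h; exact absurd (Finset.mem_univ _) h
    have hQdeg : Q.natDegree ≤ N := by
      apply Polynomial.natDegree_sum_le_of_forall_le
      intro k _
      exact le_trans (Polynomial.natDegree_monomial_le _) (by have := k.isLt; omega)
    have hQ0 : Q ≠ 0 := by
      intro h0
      apply hφ0
      apply LinearMap.ext
      intro v
      rw [hφc, LinearMap.zero_apply]
      apply Finset.sum_eq_zero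
      intro j _
      have : c j = 0 := by
        have := hQcoeff j.rev
        rw [Fin.rev_rev, h0, Polynomial.coeff_zero] at this
        exact this.symm
      rw [this, zero_mul]
    have hvanish : ∀ i, M ≤ i → PowerSeries.coeff (i + N) ((Q : PowerSeries L) * f) = 0 := by
      intro i hi
      rw [coeff_mul_window f Q N hQdeg i]
      have hmem : (fun j : Fin (N + 1) => PowerSeries.coeff (i + (j : ℕ)) f) ∈
          Submodule.span L {v : Fin (N + 1) → L | ∃ i : ℕ, M ≤ i ∧
            v = fun j : Fin (N + 1) => PowerSeries.coeff (i + (j : ℕ)) f} :=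
        Submodule.subset_span ⟨i, hi, rfl⟩
      have h0 := hφ hmem
      rw [LinearMap.mem_ker, hφc] at h0
      rw [← h0]
      rw [← Equiv.sum_comp Fin.revPerm]
      refine Finset.sum_congr rfl fun k _ => ?_
      rw [hQcoeff]
      simp only [Fin.revPerm_apply, Fin.rev_rev]
    refine ⟨PowerSeries.trunc (M + N) ((Q : PowerSeries L) * f), Q, hQ0, ?_⟩
    rw [mul_comm]
    ext n
    rw [Polynomial.coeff_coe, PowerSeries.coeff_trunc]
    split_ifs with hn
    · rfl
    · have : n = (n - N) + N := by omega
      rw [this]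
      exact hvanish (n - N) (by omega)

end Groth.Agent.S13057
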