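import Groth.Statements.S13058
import Mathlib
-- import your own Groth.Agent.* helpers here

set_option autoImplicit false
universe u v
open Zeta

namespace Groth.Agent.S13058

/-- If L'/L is a field extension, a power series f ∈ L⟦t⟧ belongs to L(t) exactly when it belongs to
L'(t); here membership in L(t) means f · Q = P for polynomials P, Q over the field in question with
Q ≠ 0. -/
theorem result {L : Type u} {L' : Type v} [Field L] [Field L']
    [Algebra L L'] (f : PowerSeries L) :
    (∃ P Q : Polynomial L', Q ≠ 0 ∧
        PowerSeries.map (algebraMap L L') f * (Q : PowerSeries L') = (P : PowerSeries L')) ↔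
      ∃ P Q : Polynomial L, Q ≠ 0 ∧ f * (Q : PowerSeries L) = (P : PowerSeries L) := by
  classical
  constructor
  · rintro ⟨P', Q', hQ', h⟩
    -- a basis of `L'` over `L`
    let b := Module.Basis.ofVectorSpace L L'
    -- the coordinate polynomials
    let proj : (Module.Basis.ofVectorSpaceIndex L L') → Polynomial L' → Polynomial L := fun i q =>
      ∑ n ∈ q.support, Polynomial.monomial n (b.coord i (q.coeff n))
    have hcoeff : ∀ i q n, (proj i q).coeff n = b.coord i (q.coeff n) := by
      intro i q n
      simp only [proj, Polynomial.finset_sum_coeff, Polynomial.coeff_monomial]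
      rw [Finset.sum_ite_eq']
      split_ifs with hn
      · rfl
      · rw [Polynomial.notMem_support_iff.mp hn, map_zero]
    have hQ'' : ∃ k, Q'.coeff k ≠ 0 := by
      by_contra hcon
      push Not at hcon
      exact hQ' (Polynomial.ext fun n => by simpa using hcon n)
    obtain ⟨k, hk⟩ := hQ''
    have : b.repr (Q'.coeff k) ≠ 0 := by
      intro h0
      exact hk (b.repr.map_eq_zero_iff.mp h0)
    obtain ⟨i, hi⟩ : ∃ i, b.repr (Q'.coeff k) i ≠ 0 := by
      by_contra hcon
      push Not at hcon
      exact this (Finsupp.ext hcon)
    refine ⟨proj i P', proj i Q', ?_, ?_⟩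
    · intro h0
      apply hi
      have := congrArg (fun q => Polynomial.coeff q k) h0
      simpa [hcoeff] using this
    · ext n
      have hn := congrArg (PowerSeries.coeff n) h
      rw [PowerSeries.coeff_mul] at hn ⊢
      simp only [Polynomial.coeff_coe, PowerSeries.coeff_map, hcoeff] at hn ⊢
      rw [← hn, map_sum]
      apply Finset.sum_congr rfl
      intro x _
      rw [← smul_eq_mul, ← map_smul, Algebra.smul_def]
  · rintro ⟨P, Q, hQ, h⟩
    refine ⟨P.map (algebraMap L L'), Q.map (algebraMap L L'), ?_, ?_⟩
    · rwa [Ne, Polynomial.map_eq_zero]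
    · have := congrArg (PowerSeries.map (algebraMap L L')) h
      rw [map_mul] at this
      rw [Polynomial.polynomial_map_coe, Polynomial.polynomial_map_coe]
      exact this

end Groth.Agent.S13058
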