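import Groth.Statements.S13059
import Mathlib
import Groth.Agent.Lib.Helper20.DualDet

set_option autoImplicit false
universe u
open Zeta

namespace Groth.Agent.S13059


open Polynomial

open Matrix in
theorem charpoly_comp_smul {K : Type*} [Field K] {ι : Type*} [Fintype ι] [DecidableEq ι]
    (M : Matrix ι ι K) (c : K) (hc : c ≠ 0) :
    M.charpoly.comp (C c * X) = c ^ Fintype.card ι • (c⁻¹ • M).charpoly := by
  have h3 : M.charpoly.comp (C c * X) = det ((C c * X) • (1 : Matrix ι ι K[X]) - M.map C) := by
    unfold Matrix.charpoly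
    have : (det (charmatrix M)).comp (C c * X) = (compRingHom (C c * X)) (det (charmatrix M)) := rfl
    rw [this, RingHom.map_det]
    congr 1
    refine Matrix.ext fun i j => ?_
    rw [RingHom.mapMatrix_apply, Matrix.map_apply, Matrix.sub_apply, Matrix.smul_apply,
      Matrix.map_apply, smul_eq_mul]
    by_cases hij : i = j
    · subst hij
      rw [charmatrix_apply_eq, Matrix.one_apply_eq, mul_one, map_sub, coe_compRingHom_apply,
        coe_compRingHom_apply, X_comp, C_comp]
    · rw [charmatrix_apply_ne _ _ _ hij, Matrix.one_apply_ne hij, mul_zero, zero_sub, map_neg,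
        coe_compRingHom_apply, C_comp]
  rw [h3, Polynomial.smul_eq_C_mul, map_pow]
  unfold Matrix.charpoly
  rw [← Matrix.det_smul]
  congr 1
  refine Matrix.ext fun i j => ?_
  rw [Matrix.sub_apply, Matrix.smul_apply, Matrix.smul_apply, Matrix.map_apply, smul_eq_mul,
    smul_eq_mul]
  by_cases hij : i = j
  · subst hij
    rw [charmatrix_apply_eq, Matrix.one_apply_eq, mul_one, Matrix.smul_apply, smul_eq_mul, mul_sub,
      ← C_mul, ← mul_assoc, mul_inv_cancel₀ hc, one_mul]
  · rw [charmatrix_apply_ne _ _ _ hij, Matrix.one_apply_ne hij, mul_zero, zero_sub, Matrix.smul_apply,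
      smul_eq_mul, mul_neg, ← C_mul, ← mul_assoc, mul_inv_cancel₀ hc, one_mul]

/-- Let B : V × W → K be a perfect pairing of finite-dimensional vector spaces over a field K, c ∈ K
nonzero, and f, g endomorphisms of V, W with B(f v, g w) = c · B(v, w) for all v, w. Then det(Id − t
g) = (−1)^r c^r t^r det(f)^{−1} det(Id − c^{−1} t^{−1} f) with r the common dimension; stated
cleared of denominators as det(f) · det(Id − t g) = (−1)^r c^r · det(t Id − c^{−1} f) in K[t],
det(Id − t g) being the reverse of the characteristic polynomial of g. -/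
theorem result (K : Type u) [Field K] (V W : Type u)
    [AddCommGroup V] [Module K V] [FiniteDimensional K V] [AddCommGroup W] [Module K W]
    [FiniteDimensional K W] (B : V →ₗ[K] W →ₗ[K] K) [B.IsPerfPair] (f : V →ₗ[K] V) (g : W →ₗ[K] W)
    (c : K) (hc : c ≠ 0) (hfg : ∀ (v : V) (w : W), B (f v) (g w) = c * B v w) :
    LinearMap.det f • (LinearMap.charpoly g).reverse =
      ((-1) ^ Module.finrank K W * c ^ Module.finrank K W) • (c⁻¹ • f).charpoly := by
  classical
  have h := (Groth.Agent.Lib.Helper20.DualDet.pairing_identity B f g c hfg).2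
  have hVW : Module.finrank K V = Module.finrank K W := Module.finrank_of_isPerfPair B
  have key : f.charpoly.comp (C c * X) = c ^ Module.finrank K V • (c⁻¹ • f).charpoly := by
    let b := Module.finBasis K V
    have h1 : f.charpoly = (LinearMap.toMatrix b b f).charpoly :=
      (LinearMap.charpoly_toMatrix f b).symm
    have h2 : (c⁻¹ • f).charpoly = (c⁻¹ • LinearMap.toMatrix b b f).charpoly := by
      rw [← LinearMap.charpoly_toMatrix (c⁻¹ • f) b, map_smul]
    rw [h1, h2, charpoly_comp_smul _ c hc, Fintype.card_fin]
  rw [h, key, hVW, mul_smul, Polynomial.smul_eq_C_mul ((-1 : K) ^ Module.finrank K W), map_pow,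
    map_neg, map_one]

end Groth.Agent.S13059
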