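import Groth.Statements.S1306
-- import your own Groth.Agent.* helpers here

set_option autoImplicit false
universe u
open FlatMor

namespace Groth.Agent.S1306

open AlgebraicGeometry CategoryTheory Limits in
theorem quasiCompact_of_comp_surjective {X Y Z : Scheme.{u}} (f : X ⟶ Y) (g : Y ⟶ Z)
    [QuasiCompact (f ≫ g)] [Surjective f] : QuasiCompact g := by
  constructor
  intro U hU hUc
  have h1 : IsCompact ((f ≫ g) ⁻¹' U) := QuasiCompact.isCompact_preimage U hU hUc
  have h2 : g ⁻¹' U = f '' ((f ≫ g) ⁻¹' U) := by
    ext y
    constructor
    · intro hy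
      obtain ⟨x, rfl⟩ := f.surjective y
      exact ⟨x, by simpa using hy, rfl⟩
    · rintro ⟨x, hx, rfl⟩
      simpa using hx
  rw [h2]
  exact h1.image f.continuous

open AlgebraicGeometry CategoryTheory Limits in
theorem quasiSeparated_of_comp_thickening {X X' S' : Scheme.{u}} (iX : X ⟶ X') (f' : X' ⟶ S')
    [IsClosedImmersion iX] [Surjective iX] [QuasiSeparated (iX ≫ f')] : QuasiSeparated f' := by
  constructor
  have hm : QuasiCompact (pullback.map (iX ≫ f') (iX ≫ f') f' f' iX iX (𝟙 S')
      ((Category.comp_id _).trans rfl) ((Category.comp_id _).trans rfl)) :=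
    MorphismProperty.pullbackMap (P := @QuasiCompact) (inferInstance : QuasiCompact iX)
      (inferInstance : QuasiCompact iX) rfl rfl
  have hcomm : pullback.diagonal (iX ≫ f') ≫ pullback.map (iX ≫ f') (iX ≫ f') f' f' iX iX (𝟙 S')
      ((Category.comp_id _).trans rfl) ((Category.comp_id _).trans rfl)
      = iX ≫ pullback.diagonal f' := by
    have e1 : pullback.map (iX ≫ f') (iX ≫ f') f' f' iX iX (𝟙 S')
        ((Category.comp_id _).trans rfl) ((Category.comp_id _).trans rfl) ≫ pullback.fst f' f'
        = pullback.fst _ _ ≫ iX := pullback.lift_fst _ _ _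
    have e2 : pullback.map (iX ≫ f') (iX ≫ f') f' f' iX iX (𝟙 S')
        ((Category.comp_id _).trans rfl) ((Category.comp_id _).trans rfl) ≫ pullback.snd f' f'
        = pullback.snd _ _ ≫ iX := pullback.lift_snd _ _ _
    apply pullback.hom_ext
    · have r : (iX ≫ pullback.diagonal f') ≫ pullback.fst f' f' = iX := by
        rw [Category.assoc, pullback.diagonal_fst, Category.comp_id]
      rw [r, Category.assoc]
      refine (congrArg (pullback.diagonal (iX ≫ f') ≫ ·) e1).trans ?_
      rw [← Category.assoc, pullback.diagonal_fst, Category.id_comp]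
    · have r : (iX ≫ pullback.diagonal f') ≫ pullback.snd f' f' = iX := by
        rw [Category.assoc, pullback.diagonal_snd, Category.comp_id]
      rw [r, Category.assoc]
      refine (congrArg (pullback.diagonal (iX ≫ f') ≫ ·) e2).trans ?_
      rw [← Category.assoc, pullback.diagonal_snd, Category.id_comp]
  have : QuasiCompact (iX ≫ pullback.diagonal f') := by
    rw [← hcomm]; infer_instance
  exact quasiCompact_of_comp_surjective iX _

open AlgebraicGeometry CategoryTheory Limits in
/-- For a morphism of thickenings, that is a commutative square whose horizontal maps are thickenings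
(closed immersions that are surjective on points), the morphism between the thin schemes is
quasi-separated if and only if the morphism between the thick ones is. -/
theorem result {X X' S S' : Scheme.{u}} (iX : X ⟶ X') (iS : S ⟶ S') (f : X ⟶ S) (f' : X' ⟶ S')
    (hX : MoreMor.IsThickening iX) (hS : MoreMor.IsThickening iS) (w : iX ≫ f' = f ≫ iS) :
    QuasiSeparated f ↔ QuasiSeparated f' := by
  obtain ⟨hX1, hX2⟩ := hX
  obtain ⟨hS1, hS2⟩ := hS
  constructor
  · intro hf
    have : QuasiSeparated (iX ≫ f') := by
      rw [w]; infer_instance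
    exact quasiSeparated_of_comp_thickening iX f'
  · intro hf'
    have : QuasiSeparated (f ≫ iS) := by
      rw [← w]; infer_instance
    exact QuasiSeparated.of_comp f iS

end Groth.Agent.S1306
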