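import Groth.Statements.S13060
import Mathlib
-- import your own Groth.Agent.* helpers here

set_option autoImplicit false
universe u v w x
open TensorProduct
open Zeta

namespace Groth.Agent.S13060

/-- Let k be a field, V and W vector spaces over k and G a group acting on V by k-linear automorphisms;
for the induced action on V ⊗_k W (trivial on W) one has (V ⊗_k W)^G = V^G ⊗_k W, i.e. the
invariants of V ⊗ W are the image of V^G ⊗ W → V ⊗ W. -/
theorem result {k : Type u} [Field k] {G : Type v} [Group G]
    {V : Type w} {W : Type x} [AddCommGroup V] [Module k V] [AddCommGroup W] [Module k W]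
    (ρ : Representation k G V) :
    (ρ.tprod (Representation.trivial k G W)).invariants =
      LinearMap.range (TensorProduct.map ρ.invariants.subtype (LinearMap.id : W →ₗ[k] W)) := by
  classical
  let b := Module.Basis.ofVectorSpace k W
  let e := TensorProduct.equivFinsuppOfBasisRight (M := V) b
  have hact : ∀ (g : G) (z : TensorProduct k V W),
      (ρ.tprod (Representation.trivial k G W)) g z = TensorProduct.map (ρ g) LinearMap.id z := by
    intro g z
    rw [Representation.tprod_apply]
    rfl
  have hkey : ∀ (g : G) (z : TensorProduct k V W) i,
      e (TensorProduct.map (ρ g) LinearMap.id z) i = ρ g (e z i) := by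
    intro g z i
    induction z using TensorProduct.induction_on with
    | zero => simp
    | tmul v w =>
      rw [TensorProduct.map_tmul, LinearMap.id_apply]
      simp only [e, TensorProduct.equivFinsuppOfBasisRight_apply_tmul_apply, map_smul]
    | add z w hz hw =>
      simp only [map_add, Finsupp.add_apply] at hz hw ⊢
      rw [hz, hw]
  apply le_antisymm
  · intro x hx
    have hcomp : ∀ g i, ρ g (e x i) = e x i := by
      intro g i
      have := (Representation.mem_invariants _ x).mp hx g
      rw [hact] at this
      rw [← hkey, this]
    have hx' : x = (e x).sum fun i m => m ⊗ₜ[k] b i := by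
      conv_lhs => rw [← e.symm_apply_apply x]
      exact TensorProduct.equivFinsuppOfBasisRight_symm_apply b (e x)
    rw [hx']
    apply Submodule.sum_mem
    intro i _
    refine ⟨(⟨e x i, fun g => hcomp g i⟩ : ρ.invariants) ⊗ₜ[k] b i, ?_⟩
    rw [TensorProduct.map_tmul]
    rfl
  · rintro _ ⟨y, rfl⟩
    rw [Representation.mem_invariants]
    intro g
    rw [hact]
    induction y using TensorProduct.induction_on with
    | zero => simp
    | tmul v w =>
      rw [TensorProduct.map_tmul, TensorProduct.map_tmul]
      simp only [LinearMap.id_apply, Submodule.subtype_apply]
      rw [v.2 g]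
    | add z w hz hw =>
      simp only [map_add]
      rw [hz, hw]

end Groth.Agent.S13060
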