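import Groth.Statements.S13061
import Mathlib
-- import your own Groth.Agent.* helpers here

set_option autoImplicit false
universe u v w
open Zeta

namespace Groth.Agent.S13061

/-- Let A be a commutative algebra over a field k, G a finite group acting on A by k-algebra
automorphisms and I ⊆ A an ideal preserved by G. If p^n is the largest power of p = char(k) dividing
|G| (with p^n = 1 when char(k) = 0), then for every G-invariant b ∈ A/I the power b^{p^n} lies in
the image of A^G → (A/I)^G. (The published statement takes A finitely generated over k, which the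
proof does not use.) -/
theorem result {k : Type u} [Field k]
    {A : Type v} [CommRing A] [Algebra k A] {G : Type w} [Group G] [Finite G]
    [MulSemiringAction G A] [SMulCommClass G k A] (I : Ideal A)
    (hI : ∀ (g : G) (a : A), a ∈ I → g • a ∈ I) (u : A) (hu : ∀ g : G, g • u - u ∈ I) :
    ∃ a : A, (∀ g : G, g • a = a) ∧
      Ideal.Quotient.mk I a =
        Ideal.Quotient.mk I u ^ (ringChar k ^ (Nat.card G).factorization (ringChar k)) := by
  classical
  cases nonempty_fintype G
  -- general statement for a subgroup whose index is invertible in `k`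
  have gen : ∀ P : Subgroup G, ((P.index : ℕ) : k) ≠ 0 →
      ∃ a : A, (∀ g : G, g • a = a) ∧
        Ideal.Quotient.mk I a = Ideal.Quotient.mk I u ^ Nat.card P := by
    intro P hidx
    let a₁ : A := ∏ h : P, (h : G) • u
    have hmk : ∀ g : G, Ideal.Quotient.mk I (g • u) = Ideal.Quotient.mk I u := fun g =>
      Ideal.Quotient.eq.mpr (hu g)
    have hga₁ : ∀ g : G, g • a₁ = ∏ h : P, (g * (h : G)) • u := by
      intro g
      show MulSemiringAction.toRingHom G A g a₁ = _
      rw [map_prod]
      apply Finset.prod_congr rfl
      intro h _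
      show g • (h : G) • u = _
      rw [mul_smul]
    have hmka₁ : ∀ g : G, Ideal.Quotient.mk I (g • a₁) = Ideal.Quotient.mk I u ^ Nat.card P := by
      intro g
      rw [hga₁, map_prod]
      simp only [hmk]
      rw [Finset.prod_const, Finset.card_univ, Nat.card_eq_fintype_card]
    have hPinv : ∀ h' : P, (h' : G) • a₁ = a₁ := by
      intro h'
      rw [hga₁]
      exact Fintype.prod_equiv (Equiv.mulLeft h') _ _ (fun h => rfl)
    let s : A := ∑ q : G ⧸ P, (q.out : G) • a₁
    have hsinv : ∀ g : G, g • s = s := by
      intro g
      show MulSemiringAction.toRingHom G A g s = s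
      rw [map_sum]
      have hterm : ∀ q : G ⧸ P, MulSemiringAction.toRingHom G A g ((q.out : G) • a₁) =
          ((g • q).out : G) • a₁ := by
        intro q
        show g • (q.out : G) • a₁ = _
        have hmem : ((g • q).out)⁻¹ * (g * q.out) ∈ P := by
          rw [← QuotientGroup.eq]
          rw [QuotientGroup.out_eq']
          conv_lhs => rw [← QuotientGroup.out_eq' q]
          rfl
        have : g * q.out = (g • q).out * (((g • q).out)⁻¹ * (g * q.out)) := by group
        rw [← mul_smul, this, mul_smul]
        congr 1
        exact hPinv ⟨_, hmem⟩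
      simp only [hterm]
      exact Fintype.sum_equiv (MulAction.toPerm g) _ _ (fun q => rfl)
    have hmks : Ideal.Quotient.mk I s = (P.index : ℕ) • Ideal.Quotient.mk I u ^ Nat.card P := by
      show Ideal.Quotient.mk I (∑ q : G ⧸ P, (q.out : G) • a₁) = _
      rw [map_sum]
      simp only [hmka₁]
      simp only [Finset.sum_const, Finset.card_univ, Subgroup.index, Nat.card_eq_fintype_card]
    refine ⟨((P.index : ℕ) : k)⁻¹ • s, ?_, ?_⟩
    · intro g
      rw [smul_comm, hsinv]
    · have h1 : Ideal.Quotient.mk I (((P.index : ℕ) : k)⁻¹ • s) =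
          ((P.index : ℕ) : k)⁻¹ • Ideal.Quotient.mk I s := by
        exact map_smul (Ideal.Quotient.mkₐ k I) _ _
      rw [h1, hmks, ← Nat.cast_smul_eq_nsmul k, smul_smul, inv_mul_cancel₀ hidx, one_smul]
  -- the two cases
  have hchar : CharP k (ringChar k) := ringChar.charP k
  rcases CharP.char_is_prime_or_zero k (ringChar k) with hp | hp
  · haveI : Fact (ringChar k).Prime := ⟨hp⟩
    let P : Sylow (ringChar k) G := default
    have hidx : (((P : Subgroup G).index : ℕ) : k) ≠ 0 := by
      rw [Ne, CharP.cast_eq_zero_iff k (ringChar k)]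
      exact P.not_dvd_index
    obtain ⟨a, ha, hmk⟩ := gen P hidx
    refine ⟨a, ha, ?_⟩
    rw [hmk, P.card_eq_multiplicity]
  · have hidx : (((⊥ : Subgroup G).index : ℕ) : k) ≠ 0 := by
      rw [Ne, CharP.cast_eq_zero_iff k (ringChar k), hp, zero_dvd_iff, Subgroup.index_bot]
      exact Nat.card_pos.ne'
    obtain ⟨a, ha, hmk⟩ := gen ⊥ hidx
    refine ⟨a, ha, ?_⟩
    rw [hmk, Subgroup.card_bot, hp,
      Nat.factorization_eq_zero_of_not_prime _ Nat.not_prime_zero, pow_zero]

end Groth.Agent.S13061
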