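import Groth.Statements.S13062
import Groth.Agent.Lib27.Sch.KPointsCount

set_option autoImplicit false
universe u
open CategoryTheory AlgebraicGeometry
open Zeta

namespace Groth.Agent.S13062

/-- If X is a variety of dimension r over a finite field k with q elements, there is a constant c_X > 0
with #X(F_{q^e}) ≤ c_X q^{re} for every e ≥ 1. Stated for any scheme of finite type over k of
dimension at most r, with a natural-number constant. -/
theorem result {k : Type u} [Field k] [Finite k] {X : Scheme.{u}}
    (f : X ⟶ Spec (CommRingCat.of k)) [LocallyOfFiniteType f] [QuasiCompact f] (r : ℕ)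
    (hr : topologicalKrullDim X ≤ r) :
    ∃ c : ℕ, ∀ (k' : Type u) [Field k'] [Algebra k k'] [Finite k'],
      SgaExt.pointCount f k' ≤ c * Nat.card k ^ (r * Module.finrank k k') := by
  obtain ⟨c, hc⟩ := Lib27.KPoints.exists_card_pts_le f r hr
  refine ⟨c, fun k' _ _ _ => ?_⟩
  have h1 := hc k'
  rw [Lib27.KPoints.pointCount_eq]
  have : Module.Finite k k' := Module.Finite.of_finite
  have h2 : Nat.card k' = Nat.card k ^ Module.finrank k k' := Module.natCard_eq_pow_finrank
  rw [h2, ← pow_mul, mul_comm (Module.finrank k k') r] at h1
  exact h1

end Groth.Agent.S13062
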