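import Groth.Statements.S13065
import Mathlib

set_option autoImplicit false
universe u
open Zeta

namespace Groth.Agent.S13065

open MvPolynomial Finset FiniteField
open MvPolynomial Finset FiniteField

variable {K : Type u} [Field K] [Fintype K] {σ : Type} [Fintype σ] [DecidableEq σ]

theorem sum_prod_pow (d : σ →₀ ℕ) :
    ∑ x : σ → K, ∏ i, x i ^ d i = ∏ i, ∑ a : K, a ^ d i := by
  rw [Finset.prod_univ_sum, Fintype.piFinset_univ]

theorem sum_pow_card_sub_one : ∑ a : K, a ^ (Fintype.card K - 1) = -1 := by
  classical
  have h0 : (0 : K) ^ (Fintype.card K - 1) = 0 := by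
    apply zero_pow
    have := Fintype.one_lt_card (α := K)
    omega
  rw [← Finset.add_sum_erase univ _ (Finset.mem_univ (0 : K)), h0, zero_add]
  have : ∑ a ∈ univ.erase (0 : K), a ^ (Fintype.card K - 1) = ∑ a ∈ univ.erase (0 : K), (1 : K) := by
    refine Finset.sum_congr rfl fun a ha => ?_
    exact FiniteField.pow_card_sub_one_eq_one a (Finset.ne_of_mem_erase ha)
  rw [this, Finset.sum_const, Finset.card_erase_of_mem (Finset.mem_univ _), Finset.card_univ,
    nsmul_eq_mul, mul_one, Nat.cast_sub Fintype.card_pos, Nat.cast_one,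
    FiniteField.cast_card_eq_zero, zero_sub]

/-- Sum of values of a polynomial all of whose monomials other than `top` have an exponent
`< q - 1`. -/
theorem sum_eval_eq (G : MvPolynomial σ K)
    (h : ∀ d ∈ G.support, d ≠ (Finsupp.equivFunOnFinite.symm fun _ : σ => Fintype.card K - 1) →
      ∃ i, d i < Fintype.card K - 1) :
    ∑ x : σ → K, eval x G =
      G.coeff (Finsupp.equivFunOnFinite.symm fun _ : σ => Fintype.card K - 1) *
        (-1) ^ Fintype.card σ := by
  classical
  set top : σ →₀ ℕ := Finsupp.equivFunOnFinite.symm fun _ : σ => Fintype.card K - 1 with htop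
  calc ∑ x : σ → K, eval x G
      = ∑ x : σ → K, ∑ d ∈ G.support, G.coeff d * ∏ i, x i ^ d i := by simp only [eval_eq']
    _ = ∑ d ∈ G.support, ∑ x : σ → K, G.coeff d * ∏ i, x i ^ d i := Finset.sum_comm
    _ = ∑ d ∈ G.support, G.coeff d * ∏ i, ∑ a : K, a ^ d i := by
        refine Finset.sum_congr rfl fun d _ => ?_
        rw [← Finset.mul_sum, sum_prod_pow]
    _ = G.coeff top * (-1) ^ Fintype.card σ := by
        by_cases ht : top ∈ G.support
        · rw [Finset.sum_eq_single_of_mem top ht]
          · congr 1
            have : ∀ i : σ, ∑ a : K, a ^ top i = -1 := fun i => by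
              have : top i = Fintype.card K - 1 := rfl
              rw [this, sum_pow_card_sub_one]
            simp only [this, Finset.prod_const, Finset.card_univ]
          · intro d hd hne
            obtain ⟨i, hi⟩ := h d hd hne
            rw [Finset.prod_eq_zero (Finset.mem_univ i) (sum_pow_lt_card_sub_one K _ hi), mul_zero]
        · rw [notMem_support_iff.mp ht, zero_mul]
          apply Finset.sum_eq_zero
          intro d hd
          have hne : d ≠ top := fun h' => ht (h' ▸ hd)
          obtain ⟨i, hi⟩ := h d hd hne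
          rw [Finset.prod_eq_zero (Finset.mem_univ i) (sum_pow_lt_card_sub_one K _ hi), mul_zero]


/-- Let k be a finite field with q elements and characteristic p, n ≥ 2, and f ∈ k[x_0, …, x_n]
homogeneous of degree n + 1, defining the hypersurface Z ⊂ P^n_k. Then #Z(F_q) ≢ 1 (mod p) if and
only if the coefficient of (x_0 ⋯ x_n)^{q−1} in f^{q−1} is nonzero. Stated through the affine count:
#Z(F_q) ≡ 1 (mod p) exactly when p divides the number of zeros of f in k^{n+1} (as (q − 1) #Z(F_q) +
1 is that number). -/
theorem result {k : Type u} [Field k] [Finite k] (p : ℕ)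
    [CharP k p] (n : ℕ) (hn : 2 ≤ n) (f : MvPolynomial (Fin (n + 1)) k)
    (hf : f.IsHomogeneous (n + 1)) :
    p ∣ Nat.card {a : Fin (n + 1) → k // MvPolynomial.eval a f = 0} ↔
      MvPolynomial.coeff (Finsupp.equivFunOnFinite.symm fun _ : Fin (n + 1) => Nat.card k - 1)
        (f ^ (Nat.card k - 1)) = 0 := by
  classical
  have : Fintype k := Fintype.ofFinite k
  rw [Nat.card_eq_fintype_card, Nat.card_eq_fintype_card]
  have hq : 0 < Fintype.card k - 1 := by
    have := Fintype.one_lt_card (α := k)
    omega
  set q := Fintype.card k with hqdef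
  set top : Fin (n + 1) →₀ ℕ := Finsupp.equivFunOnFinite.symm fun _ : Fin (n + 1) => q - 1
    with htop
  -- homogeneity of f^(q-1)
  have hG : (f ^ (q - 1)).IsHomogeneous ((n + 1) * (q - 1)) := hf.pow (q - 1)
  have hsupp : ∀ d ∈ (f ^ (q - 1)).support, d ≠ top → ∃ i, d i < q - 1 := by
    intro d hd hne
    by_contra hcon
    push Not at hcon
    apply hne
    have hdeg : d.degree = (n + 1) * (q - 1) := by
      have := hG (mem_support_iff.mp hd)
      rw [Finsupp.degree_eq_weight_one]
      exact this
    have hsum : ∑ i, d i = (n + 1) * (q - 1) := by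
      rw [← hdeg, Finsupp.degree_eq_sum]
    have hsum2 : ∑ i : Fin (n + 1), (d i - (q - 1)) = 0 := by
      have h1 : ∑ i : Fin (n + 1), d i = ∑ i : Fin (n + 1), ((d i - (q - 1)) + (q - 1)) :=
        Finset.sum_congr rfl fun i _ => (Nat.sub_add_cancel (hcon i)).symm
      rw [Finset.sum_add_distrib, Finset.sum_const, Finset.card_univ, Fintype.card_fin,
        smul_eq_mul, hsum] at h1
      omega
    ext i
    have := (Finset.sum_eq_zero_iff.mp hsum2) i (Finset.mem_univ i)
    have h2 := hcon i
    change d i = q - 1
    omega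
  have hsum := sum_eval_eq (K := k) (f ^ (q - 1)) hsupp
  -- the counting
  have key : ((Fintype.card {a : Fin (n + 1) → k // eval a f = 0} : ℕ) : k) =
      ∑ x : Fin (n + 1) → k, (1 - eval x (f ^ (q - 1))) := by
    rw [Fintype.card_subtype, Finset.card_eq_sum_ones, Nat.cast_sum, Nat.cast_one,
      Finset.sum_filter]
    refine Finset.sum_congr rfl fun x _ => ?_
    rw [map_pow]
    split_ifs with hx
    · rw [hx, zero_pow hq.ne', sub_zero]
    · rw [FiniteField.pow_card_sub_one_eq_one _ hx, sub_self]
  rw [← CharP.cast_eq_zero_iff k p, key, Finset.sum_sub_distrib, hsum, Finset.sum_const,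
    Finset.card_univ, Fintype.card_fun, Fintype.card_fin, nsmul_eq_mul, mul_one, Nat.cast_pow,
    FiniteField.cast_card_eq_zero, zero_pow (Nat.succ_ne_zero n), zero_sub, neg_eq_zero,
    mul_eq_zero]
  constructor
  · rintro (h | h)
    · exact h
    · exact absurd h (pow_ne_zero _ (neg_ne_zero.mpr one_ne_zero))
  · exact fun h => Or.inl h

end Groth.Agent.S13065
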