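import Groth.Statements.S13066
import Mathlib

set_option autoImplicit false
universe u
open Zeta

namespace Groth.Agent.S13066

open MvPolynomial
open MvPolynomial

/-- the constant exponent vector -/
noncomputable abbrev cst (n m : ℕ) : Fin (n + 1) →₀ ℕ :=
  Finsupp.equivFunOnFinite.symm fun _ : Fin (n + 1) => m

theorem eq_cst_of_le {n m : ℕ} (b : Fin (n + 1) →₀ ℕ) (hdeg : b.degree = (n + 1) * m)
    (hb : ∀ i, m ≤ b i) : b = cst n m := by
  have hsum : ∑ i, b i = (n + 1) * m := by
    rw [← hdeg, Finsupp.degree_eq_sum]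
  have hsum2 : ∑ i : Fin (n + 1), (b i - m) = 0 := by
    have h1 : ∑ i : Fin (n + 1), b i = ∑ i : Fin (n + 1), ((b i - m) + m) :=
      Finset.sum_congr rfl fun i _ => (Nat.sub_add_cancel (hb i)).symm
    rw [Finset.sum_add_distrib, Finset.sum_const, Finset.card_univ, Fintype.card_fin,
      smul_eq_mul, hsum] at h1
    omega
  ext i
  have := (Finset.sum_eq_zero_iff.mp hsum2) i (Finset.mem_univ i)
  have h2 := hb i
  change b i = m
  omega

theorem step {k : Type u} [Field k] (p : ℕ) [hp : Fact p.Prime] [CharP k p] (n : ℕ)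
    (h g : MvPolynomial (Fin (n + 1)) k) (hg : g.IsHomogeneous ((n + 1) * (p - 1))) (N : ℕ) :
    coeff (cst n (p * N + (p - 1))) (h ^ p * g) =
      (coeff (cst n N) h) ^ p * coeff (cst n (p - 1)) g := by
  classical
  rw [coeff_mul]
  have hmem : (p • cst n N, cst n (p - 1)) ∈ Finset.HasAntidiagonal.antidiagonal (cst n (p * N + (p - 1))) := by
    rw [Finset.HasAntidiagonal.mem_antidiagonal]
    ext i
    simp [cst]
  rw [Finset.sum_eq_single_of_mem _ hmem]
  · rw [← map_frobenius_expand p, coeff_map, coeff_expand_smul p hp.out.ne_zero]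
    rfl
  · rintro ⟨a, b⟩ hab hne
    rw [Finset.HasAntidiagonal.mem_antidiagonal] at hab
    by_contra hcon
    rw [mul_eq_zero, not_or] at hcon
    obtain ⟨ha, hb⟩ := hcon
    have hdvd : ∀ i, p ∣ a i := by
      intro i
      by_contra hnd
      apply ha
      rw [← map_frobenius_expand p, coeff_map, coeff_expand_of_not_dvd _ hnd, map_zero]
    have hdeg : b.degree = (n + 1) * (p - 1) := by
      have := hg hb
      rw [Finsupp.degree_eq_weight_one]
      exact this
    have hbi : ∀ i, p - 1 ≤ b i := by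
      intro i
      have h1 : a i + b i = p * N + (p - 1) := by
        have := DFunLike.congr_fun hab i
        simpa [cst] using this
      obtain ⟨c, hc⟩ := hdvd i
      have hmod : b i % p = p - 1 := by
        have h2 : (a i + b i) % p = (p * N + (p - 1)) % p := by rw [h1]
        rw [hc, Nat.mul_add_mod, Nat.mul_add_mod,
          Nat.mod_eq_of_lt (by have := hp.out.pos; omega : p - 1 < p)] at h2
        exact h2
      calc p - 1 = b i % p := hmod.symm
        _ ≤ b i := Nat.mod_le _ _
    have hbeq : b = cst n (p - 1) := eq_cst_of_le b hdeg hbi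
    apply hne
    subst hbeq
    refine Prod.ext ?_ rfl
    ext i
    have := DFunLike.congr_fun hab i
    have e1 : ∀ m, (cst n m) i = m := fun m => rfl
    rw [Finsupp.add_apply, e1, e1] at this
    change a i = p • (cst n N) i
    rw [e1, smul_eq_mul]
    change a i + (p - 1) = p * N + (p - 1) at this
    omega

theorem main {k : Type u} [Field k] (p : ℕ) [hp : Fact p.Prime] [CharP k p] (n : ℕ)
    (f : MvPolynomial (Fin (n + 1)) k) (hf : f.IsHomogeneous (n + 1)) (e : ℕ) :
    coeff (cst n (p ^ (e + 1) - 1)) (f ^ (p ^ (e + 1) - 1)) ≠ 0 ↔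
      coeff (cst n (p - 1)) (f ^ (p - 1)) ≠ 0 := by
  induction e with
  | zero => simp
  | succ e ih =>
    have hpos : 1 ≤ p ^ (e + 1) := Nat.one_le_pow _ _ hp.out.pos
    have h1 : p ^ (e + 1 + 1) - 1 = p * (p ^ (e + 1) - 1) + (p - 1) := by
      have : p ^ (e + 1 + 1) = p * p ^ (e + 1) := by rw [pow_succ']
      rw [this, Nat.mul_sub, mul_one]
      have h2 : p ≤ p * p ^ (e + 1) := Nat.le_mul_of_pos_right _ (by omega)
      have := hp.out.pos
      omega
    have h2 : f ^ (p ^ (e + 1 + 1) - 1) = (f ^ (p ^ (e + 1) - 1)) ^ p * f ^ (p - 1) := by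
      rw [h1, pow_add, mul_comm p, pow_mul]
    have hg : (f ^ (p - 1)).IsHomogeneous ((n + 1) * (p - 1)) := hf.pow (p - 1)
    rw [h2, h1, step p n _ _ hg, mul_ne_zero_iff, pow_ne_zero_iff hp.out.ne_zero, ih]
    tauto


/-- Let k be a finite field with q elements and characteristic p, n ≥ 2, and f ∈ k[x_0, …, x_n]
homogeneous of degree n + 1. Then the coefficient of (x_0 ⋯ x_n)^{q−1} in f^{q−1} is nonzero if and
only if the coefficient of (x_0 ⋯ x_n)^{p−1} in f^{p−1} is nonzero. -/
theorem result {k : Type u} [Field k] [Finite k]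
    (p : ℕ) [CharP k p] (n : ℕ) (hn : 2 ≤ n) (f : MvPolynomial (Fin (n + 1)) k)
    (hf : f.IsHomogeneous (n + 1)) :
    MvPolynomial.coeff (Finsupp.equivFunOnFinite.symm fun _ : Fin (n + 1) => Nat.card k - 1)
        (f ^ (Nat.card k - 1)) ≠ 0 ↔
      MvPolynomial.coeff (Finsupp.equivFunOnFinite.symm fun _ : Fin (n + 1) => p - 1)
        (f ^ (p - 1)) ≠ 0 := by
  classical
  have : Fintype k := Fintype.ofFinite k
  obtain ⟨e, hp, he⟩ := FiniteField.card k p
  have : Fact p.Prime := ⟨hp⟩
  rw [Nat.card_eq_fintype_card, he]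
  obtain ⟨e', he'⟩ : ∃ e', (e : ℕ) = e' + 1 := ⟨(e : ℕ) - 1, by have := e.pos; omega⟩
  rw [he']
  exact main p n f hf e'

end Groth.Agent.S13066
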