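import Groth.Statements.S13070
import Groth.Agent.Lib27.Sch.ArithPoints
import Mathlib.Analysis.SpecialFunctions.Pow.Real

set_option autoImplicit false
universe u
open CategoryTheory AlgebraicGeometry
open Zeta

namespace Groth.Agent.S13070

/-- For an arithmetic scheme X (of finite type over ℤ) of dimension r there are c_X > 0 and p₀ such that
#X(F_{p^m}) ≤ c_X p^{m(r−1)} for all primes p ≥ p₀ and m ≥ 1, and #X(F_{p^m}) ≤ c_X p^{mr} for p <
p₀ and m ≥ 1. Here #X(F) is the number of morphisms Spec F → X, and the dimension is only assumed ≤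
r. -/
theorem result {X : Scheme.{u}}
    (f : X ⟶ Spec (CommRingCat.of (ULift.{u} ℤ))) [LocallyOfFiniteType f] [QuasiCompact f] (r : ℕ)
    (hr : topologicalKrullDim X ≤ r) :
    ∃ (c : ℝ) (p₀ : ℕ), 0 < c ∧ ∀ (p m : ℕ), p.Prime → 1 ≤ m →
      ∀ (F : Type u) [Field F], Nat.card F = p ^ m →
        (p₀ ≤ p → (Nat.card (Spec (CommRingCat.of F) ⟶ X) : ℝ) ≤
            c * (p : ℝ) ^ ((m : ℝ) * ((r : ℝ) - 1))) ∧
        (p < p₀ → (Nat.card (Spec (CommRingCat.of F) ⟶ X) : ℝ) ≤ c * (p : ℝ) ^ ((m : ℝ) * r)) := by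
  obtain ⟨c, p₀, hc⟩ := Lib27.ArithPoints.exists_card_points_le f r hr
  refine ⟨(c : ℝ) + 1, p₀, by positivity, ?_⟩
  intro p m hp hm F _ hF
  have hp0 : (0 : ℝ) < (p : ℝ) := by exact_mod_cast hp.pos
  obtain ⟨h1, h2⟩ := hc p m hp hm F hF
  constructor
  · intro hle
    obtain ⟨h0, hb⟩ := h1 hle
    rcases Nat.eq_zero_or_pos r with hr0 | hr0
    · rw [h0 hr0, Nat.cast_zero]
      positivity
    · have he : (m : ℝ) * ((r : ℝ) - 1) = ((m * (r - 1) : ℕ) : ℝ) := by
        rw [Nat.cast_mul, Nat.cast_sub hr0, Nat.cast_one]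
      rw [he, Real.rpow_natCast]
      have hb' : ((Nat.card (Spec (CommRingCat.of F) ⟶ X) : ℕ) : ℝ) ≤
          ((c * (p ^ m) ^ (r - 1) : ℕ) : ℝ) := by exact_mod_cast hb
      refine hb'.trans ?_
      rw [← pow_mul]
      push_cast
      have : (0 : ℝ) ≤ (p : ℝ) ^ (m * (r - 1)) := by positivity
      nlinarith
  · intro hlt
    have hb := h2 hlt
    have he : (m : ℝ) * (r : ℝ) = ((m * r : ℕ) : ℝ) := by
      rw [Nat.cast_mul]
    rw [he, Real.rpow_natCast]
    have hb' : ((Nat.card (Spec (CommRingCat.of F) ⟶ X) : ℕ) : ℝ) ≤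
        ((c * (p ^ m) ^ r : ℕ) : ℝ) := by exact_mod_cast hb
    refine hb'.trans ?_
    rw [← pow_mul]
    push_cast
    have : (0 : ℝ) ≤ (p : ℝ) ^ (m * r) := by positivity
    nlinarith

end Groth.Agent.S13070
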