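import Groth.Statements.S13075
import Mathlib

set_option autoImplicit false
open Zeta

namespace Groth.Agent.S13075

/-- For the formal power series exp(t) = ∑_{m ≥ 0} t^m / m! and log(1 + t) = ∑_{m ≥ 1} (−1)^{m+1} t^m /
m over ℚ, log(exp(u)) = u and exp(log(1 + u)) = 1 + u for every u ∈ tℚ⟦t⟧; stated for u = t (the
general case is obtained by substitution): substituting exp(t) − 1 into log(1 + ·) gives t, and
substituting log(1 + t) into exp gives 1 + t. -/
theorem result :
    PowerSeries.subst (PowerSeries.exp ℚ - 1)
        (PowerSeries.mk fun m : ℕ => if m = 0 then (0 : ℚ) else (-1) ^ (m + 1) / (m : ℚ)) =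
      PowerSeries.X ∧
    PowerSeries.subst (PowerSeries.mk fun m : ℕ => if m = 0 then (0 : ℚ) else (-1) ^ (m + 1) / (m : ℚ))
        (PowerSeries.exp ℚ) = 1 + PowerSeries.X := by
  classical
  have hL : (PowerSeries.mk fun m : ℕ => if m = 0 then (0 : ℚ) else (-1) ^ (m + 1) / (m : ℚ)) =
      PowerSeries.log ℚ := by
    ext n
    simp [PowerSeries.coeff_log]
  rw [hL]
  -- the geometric series G = 1/(1+X)
  set G : PowerSeries ℚ := PowerSeries.mk fun n ↦ algebraMap ℚ ℚ ((-1 : ℚ) ^ n) with hGdef
  have hdlog : PowerSeries.derivative ℚ (PowerSeries.log ℚ) = G := PowerSeries.deriv_log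
  have hG : G * (1 + PowerSeries.X) = 1 := by
    ext n
    rw [mul_add, mul_one, map_add]
    cases n with
    | zero => simp [hGdef]
    | succ n =>
      rw [PowerSeries.coeff_succ_mul_X]
      simp [hGdef, pow_succ]
  have hs1 : PowerSeries.HasSubst (PowerSeries.exp ℚ - 1) := PowerSeries.HasSubst.exp_sub_one
  have hs2 : PowerSeries.HasSubst (PowerSeries.log ℚ) := PowerSeries.HasSubst.log
  have hone1 : PowerSeries.subst (PowerSeries.exp ℚ - 1) (1 : PowerSeries ℚ) = 1 := by
    rw [← PowerSeries.coe_substAlgHom hs1, map_one]
  have hone2 : PowerSeries.subst (PowerSeries.log ℚ) (1 : PowerSeries ℚ) = 1 := by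
    rw [← PowerSeries.coe_substAlgHom hs2, map_one]
  constructor
  · apply PowerSeries.derivative.ext
    · rw [PowerSeries.derivative_subst hs1, hdlog, PowerSeries.derivative_X, map_sub,
        PowerSeries.derivative_exp, PowerSeries.derivative_one, sub_zero]
      have h1 := congrArg (PowerSeries.subst (PowerSeries.exp ℚ - 1)) hG
      rw [PowerSeries.subst_mul hs1, PowerSeries.subst_add hs1, PowerSeries.subst_X hs1,
        hone1] at h1
      have h0 : (1 : PowerSeries ℚ) + (PowerSeries.exp ℚ - 1) = PowerSeries.exp ℚ := by ring
      rw [h0] at h1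
      exact h1
    · have : PowerSeries.constantCoeff (PowerSeries.subst (PowerSeries.exp ℚ - 1)
          (PowerSeries.log ℚ)) = 0 := by
        apply PowerSeries.constantCoeff_subst_eq_zero
        · rw [map_sub, map_one, ← PowerSeries.constantCoeff_eq, PowerSeries.constantCoeff_exp,
            sub_self]
        · exact PowerSeries.constantCoeff_log
      rw [this]; simp
  · -- E = exp ∘ log, show E * G = 1
    set E := PowerSeries.subst (PowerSeries.log ℚ) (PowerSeries.exp ℚ) with hE
    have hdE : PowerSeries.derivative ℚ E = E * G := by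
      rw [hE, PowerSeries.derivative_subst hs2, PowerSeries.derivative_exp, hdlog]
    have hdG : PowerSeries.derivative ℚ G = - (G * G) := by
      have h1 := congrArg (PowerSeries.derivative ℚ) hG
      rw [Derivation.leibniz, map_add, PowerSeries.derivative_one, PowerSeries.derivative_X,
        smul_eq_mul, smul_eq_mul, zero_add, mul_one] at h1
      -- h1 : G + (1 + X) * dG = 0
      have h2 : G * (G + (1 + PowerSeries.X) * PowerSeries.derivative ℚ G) = 0 := by
        rw [h1, mul_zero]
      have h3 : G * (G + (1 + PowerSeries.X) * PowerSeries.derivative ℚ G) =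
          G * G + (G * (1 + PowerSeries.X)) * PowerSeries.derivative ℚ G := by ring
      rw [h3, hG, one_mul] at h2
      exact eq_neg_of_add_eq_zero_right h2
    have hEG : E * G = 1 := by
      apply PowerSeries.derivative.ext
      · rw [Derivation.leibniz, hdE, hdG, PowerSeries.derivative_one, smul_eq_mul, smul_eq_mul]
        ring
      · rw [map_mul]
        have h1 : PowerSeries.constantCoeff E = 1 := by
          rw [hE, ← PowerSeries.coeff_zero_eq_constantCoeff_apply, PowerSeries.coeff_subst' hs2]
          rw [finsum_eq_single _ 0]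
          · simp [PowerSeries.coeff_exp]
          · intro n hn
            have : PowerSeries.coeff 0 (PowerSeries.log ℚ ^ n) = 0 := by
              rw [PowerSeries.coeff_zero_eq_constantCoeff_apply, map_pow,
                PowerSeries.constantCoeff_log, zero_pow hn]
            rw [this, smul_zero]
        have h2 : PowerSeries.constantCoeff G = 1 := by
          rw [← PowerSeries.coeff_zero_eq_constantCoeff_apply]
          simp [hGdef]
        rw [h1, h2]; simp
    calc E = E * (G * (1 + PowerSeries.X)) := by rw [hG, mul_one]
      _ = (E * G) * (1 + PowerSeries.X) := by ring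
      _ = 1 + PowerSeries.X := by rw [hEG, one_mul]

end Groth.Agent.S13075
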