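import Groth.Statements.S1308
-- import your own Groth.Agent.* helpers here

set_option autoImplicit false
universe u
open FlatMor

namespace Groth.Agent.S1308

set_option backward.isDefEq.respectTransparency.types false in
open AlgebraicGeometry CategoryTheory Limits in
theorem universallyOpen_of_thickening {X Y : Scheme.{u}} (i : X ⟶ Y) [IsClosedImmersion i]
    [Surjective i] : UniversallyOpen i := by
  constructor
  intro X' Y' i₁ i₂ f' H
  have h1 : IsClosedImmersion f' := MorphismProperty.of_isPullback H.flip inferInstance
  have h2 : Surjective f' := MorphismProperty.of_isPullback H.flip inferInstance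
  have h3 : IsHomeomorph f' :=
    isHomeomorph_iff_isEmbedding_surjective.mpr ⟨f'.isClosedEmbedding.isEmbedding, f'.surjective⟩
  exact h3.isOpenMap

set_option backward.isDefEq.respectTransparency.types false in
open AlgebraicGeometry CategoryTheory Limits in
theorem universallyOpen_of_comp_surjective {X Y Z : Scheme.{u}} (f : X ⟶ Y) (g : Y ⟶ Z)
    [UniversallyOpen (f ≫ g)] [Surjective f] : UniversallyOpen g := by
  constructor
  intro X' Y' i₁ i₂ f' H
  have := UniversallyOpen.universally_isOpenMap _ _ _
    ((IsPullback.of_hasPullback i₁ f).paste_horiz H)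
  have hs : Function.Surjective (pullback.fst i₁ f) :=
    (MorphismProperty.pullback_fst (P := @Surjective) _ _ ‹_›).1
  intro U hU
  have h2 : f' '' U = (pullback.fst i₁ f ≫ f') '' ((pullback.fst i₁ f) ⁻¹' U) := by
    ext y
    constructor
    · rintro ⟨x, hx, rfl⟩
      obtain ⟨z, rfl⟩ := hs x
      exact ⟨z, hx, rfl⟩
    · rintro ⟨z, hz, rfl⟩
      exact ⟨_, hz, rfl⟩
  rw [h2]
  exact this _ (hU.preimage (pullback.fst i₁ f).continuous)

open AlgebraicGeometry CategoryTheory Limits in
theorem universallyOpen_of_comp_of_mono {X Y Z : Scheme.{u}} (f : X ⟶ Y) (g : Y ⟶ Z)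
    [UniversallyOpen (f ≫ g)] [Mono g] : UniversallyOpen f := by
  have hP : MorphismProperty.HasOfPostcompProperty @UniversallyOpen
      (MorphismProperty.monomorphisms Scheme.{u}) := by
    rw [MorphismProperty.hasOfPostcompProperty_iff_le_diagonal]
    intro A B g hg
    have : Mono g := hg
    have : IsIso (pullback.diagonal g) := (pullback.isIso_diagonal_iff g).mpr inferInstance
    exact inferInstanceAs (UniversallyOpen (pullback.diagonal g))
  exact MorphismProperty.of_postcomp (W := @UniversallyOpen)
    (W' := MorphismProperty.monomorphisms Scheme.{u}) f g ‹Mono g› ‹_›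

open AlgebraicGeometry CategoryTheory Limits in
/-- For a morphism of thickenings, that is a commutative square whose horizontal maps are thickenings
(closed immersions that are surjective on points), the morphism between the thin schemes is
universally open if and only if the morphism between the thick ones is. -/
theorem result {X X' S S' : Scheme.{u}} (iX : X ⟶ X') (iS : S ⟶ S') (f : X ⟶ S) (f' : X' ⟶ S')
    (hX : MoreMor.IsThickening iX) (hS : MoreMor.IsThickening iS) (w : iX ≫ f' = f ≫ iS) :
    UniversallyOpen f ↔ UniversallyOpen f' := by
  obtain ⟨hX1, hX2⟩ := hX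
  obtain ⟨hS1, hS2⟩ := hS
  have hiX : UniversallyOpen iX := universallyOpen_of_thickening iX
  have hiS : UniversallyOpen iS := universallyOpen_of_thickening iS
  constructor
  · intro hf
    have : UniversallyOpen (iX ≫ f') := by
      rw [w]; infer_instance
    exact universallyOpen_of_comp_surjective iX f'
  · intro hf'
    have : UniversallyOpen (f ≫ iS) := by
      rw [← w]; infer_instance
    exact universallyOpen_of_comp_of_mono f iS

end Groth.Agent.S1308
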