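import Groth.Statements.S13081
import Groth.Agent.Lib.Helper7.QuotientAffine
import Groth.Agent.Lib.Helper7.DescendMorphism

set_option autoImplicit false
universe u
open CategoryTheory AlgebraicGeometry Limits
open Zeta

namespace Groth.Agent.S13081

open Groth.Agent.Lib.Helper7.FiniteQuotient


/-- Let G be a finite group acting by algebraic automorphisms over k on a scheme X of finite type over k
admitting a quotient X → X/G, and H a normal subgroup of G. Then X/H carries an induced action of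
G/H and its quotient by this action is X/G: the induced morphism r : X/H → X/G is a quotient of X/H
by G/H. The induced action ρ̄ is pinned by p_H ≫ ρ̄(ḡ) = ρ(g) ≫ p_H and r by p_H ≫ r = p. -/
theorem result {k : Type u} [Field k] {G : Type u} [Group G]
    [Finite G] {X XG XH : Scheme.{u}} (fX : X ⟶ Spec (CommRingCat.of k)) [LocallyOfFiniteType fX]
    [QuasiCompact fX] (ρ : G →* Aut X) (hρ : ∀ g, (ρ g).hom ≫ fX = fX) (p : X ⟶ XG)
    (hP : SGA1.IsQuot ρ p) (H : Subgroup G) [H.Normal] (pH : X ⟶ XH)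
    (hPH : SGA1.IsQuot (ρ.comp H.subtype) pH) (ρbar : G ⧸ H →* Aut XH)
    (hρbar : ∀ g : G, pH ≫ (ρbar (QuotientGroup.mk g)).hom = (ρ g).hom ≫ pH)
    (r : XH ⟶ XG) (hr : pH ≫ r = p) :
    SGA1.IsQuot ρbar r := by
  subst hr
  have hepi : ∀ {Z : Scheme.{u}} (a b : XH ⟶ Z), pH ≫ a = pH ≫ b → a = b := by
    intro Z a b hab
    obtain ⟨k, -, hk⟩ := Groth.Agent.S2925.result (ρ.comp H.subtype) pH hPH Z (pH ≫ a)
      (fun h => by rw [← Category.assoc, hPH.inv])
    rw [hk a rfl, hk b hab.symm]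
  have hinv : ∀ g : G ⧸ H, (ρbar g).hom ≫ r = r := by
    intro g
    obtain ⟨g, rfl⟩ := QuotientGroup.mk_surjective g
    apply hepi
    rw [← Category.assoc, hρbar, Category.assoc, hP.inv]
  refine ⟨⟨fun U hU => ?_⟩, hinv, ?_, ?_⟩
  · apply isAffineOpen_of_isQuot hPH
    exact hP.affine.isAffine_preimage U hU
  · intro U a b hab
    apply hP.injective U
    have happ : ∀ t, ((pH ≫ r).app U).hom t = (pH.app (r ⁻¹ᵁ U)).hom ((r.app U).hom t) :=
      fun t => by rw [Scheme.Hom.comp_app]; rfl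
    rw [happ, happ, hab]
  · intro U s
    constructor
    · rintro ⟨t, rfl⟩ g
      have := congrArg (fun f => f.hom t) (app_actHom ρbar r hinv U g)
      simp only [CommRingCat.hom_comp, RingHom.comp_apply] at this
      exact this
    · intro hs
      have happ : ∀ t, ((pH ≫ r).app U).hom t = (pH.app (r ⁻¹ᵁ U)).hom ((r.app U).hom t) :=
        fun t => by rw [Scheme.Hom.comp_app]; rfl
      have hs' : (show Γ(X, (pH ≫ r) ⁻¹ᵁ U) from (pH.app (r ⁻¹ᵁ U)).hom s) ∈
          Set.range ((pH ≫ r).app U).hom := by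
        rw [hP.range_iff U]
        intro g
        have h1 : pH.app (r ⁻¹ᵁ U) ≫ (ρ g).hom.appLE (pH ⁻¹ᵁ r ⁻¹ᵁ U) (pH ⁻¹ᵁ r ⁻¹ᵁ U)
            (SGA1.preimage_le_of_inv ρ (pH ≫ r) hP.inv g U) =
            (ρbar (QuotientGroup.mk g)).hom.appLE (r ⁻¹ᵁ U) (r ⁻¹ᵁ U)
              (SGA1.preimage_le_of_inv ρbar r hinv _ U) ≫ pH.app (r ⁻¹ᵁ U) := by
          rw [Scheme.Hom.app_eq_appLE, Scheme.Hom.appLE_comp_appLE, Scheme.Hom.appLE_comp_appLE]
          exact appLE_congr_hom (hρbar g).symm _ _ _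
        have h2 := congrArg (fun f => f.hom s) h1
        simp only [CommRingCat.hom_comp, RingHom.comp_apply] at h2
        have h3 := hs (QuotientGroup.mk g)
        exact h2.trans (congrArg (pH.app (r ⁻¹ᵁ U)).hom h3)
      obtain ⟨t, ht⟩ := hs'
      refine ⟨t, ?_⟩
      apply hPH.injective (r ⁻¹ᵁ U)
      rw [← happ]
      exact ht

end Groth.Agent.S13081
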