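import Groth.Statements.S1309
import Mathlib
import Groth.Agent.Lib.Helper10.Thick2

set_option autoImplicit false
universe u
open FlatMor

namespace Groth.Agent.S1309

open AlgebraicGeometry CategoryTheory Limits in
/-- Let S ⟶ S' be a finite order thickening and let X be the base change of a scheme X' over S' to S (so
X ⟶ X' is again a thickening). Then X ⟶ S is locally of finite type if and only if X' ⟶ S' is. -/
theorem result {X X' S S' : Scheme.{u}} (iX : X ⟶ X') (iS : S ⟶ S') (f : X ⟶ S) (f' : X' ⟶ S')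
    (hS : MoreMor.IsFiniteOrderThickening iS) (hc : IsPullback iX f f' iS) :
    LocallyOfFiniteType f ↔ LocallyOfFiniteType f' := by
  obtain ⟨⟨hcl, hsurj⟩, n, hn⟩ := hS
  haveI : IsClosedImmersion iS := hcl
  haveI : IsClosedImmersion iX := MorphismProperty.of_isPullback (P := @IsClosedImmersion) hc.flip hcl
  constructor
  · intro hf
    rw [HasRingHomProperty.iff_appLE (P := @LocallyOfFiniteType)]
    intro U' V' e
    have hpo := Groth.Agent.Lib.Helper10.Thick.isPushout_sections hc U'.2 V'.2 e
    have hφ := Groth.Agent.Lib.Helper10.Thick.appLE_surjective (iY := iS) U'.2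
    have hnil : IsNilpotent (RingHom.ker (iS.appLE U'.1 (iS ⁻¹ᵁ U'.1) le_rfl).hom) := by
      refine ⟨n, ?_⟩
      have h1 : (iS.ker ^ n).ideal U' = (0 : S'.IdealSheafData).ideal U' := by rw [hn]
      rw [Scheme.IdealSheafData.ideal_pow] at h1
      have h2 : (iS.ker.ideal ^ n) U' = (iS.ker.ideal U') ^ n := rfl
      rw [h2, Scheme.Hom.ker_apply] at h1
      rw [Scheme.Hom.appLE_eq_app, h1]
      rfl
    have hα : (f.appLE (iS ⁻¹ᵁ U'.1) (iX ⁻¹ᵁ V'.1)
        (Groth.Agent.Lib.Helper10.Thick.preimage_le hc e)).hom.FiniteType :=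
      HasRingHomProperty.appLE (P := @LocallyOfFiniteType) f hf
        ⟨_, U'.2.preimage iS⟩ ⟨_, V'.2.preimage iX⟩ _
    exact Groth.Agent.Lib.Helper10.Thick.finiteType_of_isPushout_nilpotent _ _ _ _ hpo hφ hnil hα
  · intro hf'
    exact MorphismProperty.of_isPullback (P := @LocallyOfFiniteType) hc hf'

end Groth.Agent.S1309
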