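import Groth.Statements.S13096
import Mathlib
import Groth.Agent.Lib.Helper20.HandColimEndo

set_option autoImplicit false
universe u v
open CAlg

namespace Groth.Agent.S13096


/-- Let R be a commutative ring and R' a commutative R-algebra of finite presentation. Then every
surjective R-algebra endomorphism α : R' → R' is bijective (an automorphism). -/
theorem result (R : Type u) [CommRing R]
    (R' : Type v) [CommRing R'] [Algebra R R'] [Algebra.FinitePresentation R R']
    (α : R' →ₐ[R] R') (hα : Function.Surjective α) : Function.Bijective α := by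
  classical
  obtain ⟨N, a, C₀, _, _, _, ⟨e⟩⟩ :=
    Groth.Agent.Lib.Helper20.HandColimModel.exists_pointed_model R R'
  have hcP := (Groth.Agent.Lib.Helper20.HandColimModel.HC.of_fg_subalgebras R).pointed a
  let α₀ : R' →ₐ[Groth.Agent.Lib.Helper20.HandColim.Pt a] R' := α
  let α' := (e.symm.toAlgHom.comp α₀).comp e.toAlgHom
  have hα' : Function.Surjective α' := by
    intro x
    obtain ⟨y, hy⟩ := hα (e x)
    refine ⟨e.symm y, ?_⟩
    change e.symm (α₀ (e (e.symm y))) = x
    rw [e.apply_symm_apply]
    have : α₀ y = e x := hy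
    rw [this, e.symm_apply_apply]
  have hN : ∀ j : (Σ k : Finset R, {c : Fin N → Algebra.adjoin ℤ (k : Set R) //
      ∀ l, (Algebra.adjoin ℤ (k : Set R)).val (c l) = a l}),
      IsNoetherianRing (TensorProduct (MvPolynomial (Fin N) ℤ)
        (Groth.Agent.Lib.Helper20.HandColim.Pt j.2.1) C₀) := by
    rintro ⟨k, c, hc⟩
    haveI : Algebra.FiniteType ℤ (Algebra.adjoin ℤ (k : Set R)) :=
      Algebra.FiniteType.adjoin_of_finite (Finset.finite_toSet k)
    haveI : IsNoetherianRing (Algebra.adjoin ℤ (k : Set R)) :=
      Algebra.FiniteType.isNoetherianRing ℤ _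
    haveI : IsNoetherianRing (Groth.Agent.Lib.Helper20.HandColim.Pt c) :=
      inferInstanceAs (IsNoetherianRing (Algebra.adjoin ℤ (k : Set R)))
    exact Algebra.FiniteType.isNoetherianRing (Groth.Agent.Lib.Helper20.HandColim.Pt c) _
  have hbij := Groth.Agent.Lib.Helper20.HandColimEndo.descent_endo_bijective
    (Algebra.Presentation.ofFinitePresentation (MvPolynomial (Fin N) ℤ) C₀) hcP hN α' hα'
  have : (α : R' → R') = e ∘ α' ∘ e.symm := by
    funext x
    change α₀ x = e (e.symm (α₀ (e (e.symm x))))
    rw [e.apply_symm_apply, e.apply_symm_apply]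
  rw [this]
  exact e.bijective.comp (hbij.comp e.symm.bijective)

end Groth.Agent.S13096
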