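import Groth.Statements.S13097
import Groth.Agent.Lib.Helper12.UnivHomeo
-- import your own Groth.Agent.* helpers here

set_option autoImplicit false
universe u
open FlatMor

namespace Groth.Agent.S13097

open CategoryTheory AlgebraicGeometry in
/-- Let f : X → S be a quasi-compact, separated morphism of schemes with a section e : S → X (e followed
by f is the identity of S), and U ⊆ S an open subscheme such that f⁻¹(U) is schematically dense in X
(for every open V of X, restriction of functions from V to V ∩ f⁻¹(U) is injective) and such that
the restriction f⁻¹(U) → U of f is a homeomorphism of underlying spaces. Then f is universally a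
homeomorphism (every base change of f is a homeomorphism), and f is finite as soon as it is locally
of finite type. (The published statement also lists surjectivity of f, which a section forces, and
offers as an alternative to the section the hypothesis that f be flat, still with f⁻¹(U) → U only a
homeomorphism; that flat alternative fails: the spectrum of a separable quadratic field extension
over the spectrum of the ground field, with U the whole base, is flat, surjective, quasi-compact,
separated and a homeomorphism over U, yet not universally injective. Only the case of a section,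
whose published proof is complete, is stated here.) -/
theorem result {X S : Scheme.{u}} (f : X ⟶ S)
    [QuasiCompact f] [IsSeparated f] (U : S.Opens)
    (hdense : CInt.IsSchematicallyDense (f ⁻¹ᵁ U)) (hU : IsHomeomorph (f ∣_ U).base)
    (e : S ⟶ X) (he : e ≫ f = 𝟙 S) :
    FlatMor.IsUnivHomeo f ∧ (LocallyOfFiniteType f → IsFinite f) := by
  -- topological density of `f ⁻¹ᵁ U`
  have hd : Dense ((f ⁻¹ᵁ U : X.Opens) : Set X) := by
    rw [dense_iff_inter_open]
    intro V hV hVne
    by_contra hempty
    rw [Set.not_nonempty_iff_eq_empty] at hempty
    let V' : X.Opens := ⟨V, hV⟩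
    have h1 : V' ⊓ f ⁻¹ᵁ U = ⊥ := by
      apply TopologicalSpace.Opens.ext
      exact hempty
    have h2 := hdense V'
    have h3 : Subsingleton Γ(X, V' ⊓ f ⁻¹ᵁ U) := by rw [h1]; infer_instance
    have h4 : Subsingleton Γ(X, V') := h2.subsingleton
    obtain ⟨x, hx⟩ := hVne
    have h5 : Nonempty V' := ⟨⟨x, hx⟩⟩
    have h6 : Nontrivial Γ(X, V') := X.component_nontrivial V'
    exact not_subsingleton _ h4
  -- `e` hits every point of `f ⁻¹ᵁ U`
  have hsub : ((f ⁻¹ᵁ U : X.Opens) : Set X) ⊆ Set.range e := by
    intro x hx
    refine ⟨f x, ?_⟩
    have hx' : f x ∈ U := hx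
    have hef : f (e (f x)) = f x := by
      rw [← Scheme.Hom.comp_apply, he]; rfl
    have hex : e (f x) ∈ f ⁻¹ᵁ U := by
      change f (e (f x)) ∈ U
      rw [hef]; exact hx'
    have hinj := hU.injective
    let y₁ : (f ⁻¹ᵁ U).toScheme := ⟨e (f x), hex⟩
    let y₂ : (f ⁻¹ᵁ U).toScheme := ⟨x, hx⟩
    have h7 : (f ∣_ U) y₁ = (f ∣_ U) y₂ := by
      apply Subtype.ext
      rw [morphismRestrict_base_coe, morphismRestrict_base_coe]
      exact hef
    exact congrArg Subtype.val (hinj h7)
  have hid : IsClosedImmersion (e ≫ f) := by rw [he]; infer_instance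
  have hecl : IsClosedImmersion e := IsClosedImmersion.of_comp e f
  have hrange : Set.range e = Set.univ := by
    have hcl : IsClosed (Set.range e) := e.isClosedEmbedding.isClosed_range
    have h8 : closure (Set.range e) = Set.univ :=
      Set.eq_univ_of_univ_subset (hd.closure_eq ▸ closure_mono hsub)
    rwa [hcl.closure_eq] at h8
  have hesurj : Surjective e := ⟨Set.range_eq_univ.mp hrange⟩
  have heUH : FlatMor.IsUnivHomeo e :=
    Groth.Agent.Lib.Helper12.isUnivHomeo_iff.mpr ⟨inferInstance, inferInstance, hesurj⟩
  have hfUH : FlatMor.IsUnivHomeo f := by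
    apply Groth.Agent.Lib.Helper12.IsUnivHomeo.of_comp_right (g := e) _ heUH
    rw [he]
    exact Groth.Agent.Lib.Helper12.isUnivHomeo_of_isIso _
  refine ⟨hfUH, fun hft => ?_⟩
  have := Groth.Agent.Lib.Helper12.IsUnivHomeo.isIntegralHom hfUH
  exact (IsFinite.iff_isIntegralHom_and_locallyOfFiniteType f).mpr ⟨inferInstance, hft⟩

end Groth.Agent.S13097
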