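import Groth.Statements.S13098
import Mathlib

set_option autoImplicit false
universe u v
open Lie3Mod

namespace Groth.Agent.S13098

/-- Let R be a commutative ring, M an R-module with a basis x = bs 0, y = bs 1, z = bs 2 indexed by Fin
3, and B an R-bilinear alternating map on M (B m m = 0) with B x y = a x + b y + c z, B x z = d x +
e y + f z and B y z = g x + h y + i z. Then B satisfies the Jacobi identity for all triples if and
only if the three Jacobi polynomials vanish: ah + di − fg − bg = 0, ie + bd − fh − ae = 0 and hc +
dc − af − bi = 0. (This is the statement that Lie brackets on a based free module of rank 3 are the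
points of the closed subscheme of affine 9-space defined by these three equations.) -/
theorem result (R : Type u) [CommRing R] (M : Type v) [AddCommGroup M] [Module R M]
    (bs : Module.Basis (Fin 3) R M) (B : M →ₗ[R] M →ₗ[R] M) (halt : ∀ m : M, B m m = 0)
    (a b c d e f g h i : R)
    (hxy : B (bs 0) (bs 1) = a • bs 0 + b • bs 1 + c • bs 2)
    (hxz : B (bs 0) (bs 2) = d • bs 0 + e • bs 1 + f • bs 2)
    (hyz : B (bs 1) (bs 2) = g • bs 0 + h • bs 1 + i • bs 2) :
    (∀ u v w : M, B u (B v w) + B v (B w u) + B w (B u v) = 0) ↔
      (a * h + d * i - f * g - b * g = 0 ∧ i * e + b * d - f * h - a * e = 0 ∧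
        h * c + d * c - a * f - b * i = 0) := by
  have hskew : ∀ u v : M, B u v = - B v u := by
    intro u v
    have := halt (u + v)
    simp only [map_add, LinearMap.add_apply, halt, zero_add, add_zero] at this
    exact eq_neg_of_add_eq_zero_right this
  have hxx := halt (bs 0)
  have hyy := halt (bs 1)
  have hzz := halt (bs 2)
  have hyx : B (bs 1) (bs 0) = -(a • bs 0 + b • bs 1 + c • bs 2) := by rw [hskew, hxy]
  have hzx : B (bs 2) (bs 0) = -(d • bs 0 + e • bs 1 + f • bs 2) := by rw [hskew, hxz]
  have hzy : B (bs 2) (bs 1) = -(g • bs 0 + h • bs 1 + i • bs 2) := by rw [hskew, hyz]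
  constructor
  · intro hJ
    have h0 := hJ (bs 0) (bs 1) (bs 2)
    simp only [hxx, hxy, hxz, hyx, hyy, hyz, hzx, hzy, hzz, map_add, map_smul, map_neg, map_zero,
      smul_zero] at h0
    have hrepr := congrArg bs.repr h0
    have e0 := DFunLike.congr_fun hrepr 0
    have e1 := DFunLike.congr_fun hrepr 1
    have e2 := DFunLike.congr_fun hrepr 2
    simp [Finsupp.single_apply] at e0 e1 e2
    refine ⟨?_, ?_, ?_⟩
    · linear_combination e0
    · linear_combination e1
    · linear_combination e2
  · rintro ⟨H1, H2, H3⟩
    have hcases : ∀ i : Fin 3, i = 0 ∨ i = 1 ∨ i = 2 := by decide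
    have key1 : ∀ i j k : Fin 3, B (bs i) (B (bs j) (bs k)) + B (bs j) (B (bs k) (bs i)) +
        B (bs k) (B (bs i) (bs j)) = 0 := by
      intro i j k
      rcases hcases i with rfl | rfl | rfl <;> rcases hcases j with rfl | rfl | rfl <;>
        rcases hcases k with rfl | rfl | rfl <;>
      simp only [hxx, hxy, hxz, hyx, hyy, hyz, hzx, hzy, hzz, map_add, map_smul, map_neg,
        map_zero, smul_zero] <;>
      first
        | module
        | linear_combination (norm := module) H1 • bs 0 + H2 • bs 1 + H3 • bs 2
        | linear_combination (norm := module) (-H1) • bs 0 + (-H2) • bs 1 + (-H3) • bs 2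
    have key2 : ∀ (j k : Fin 3) (u : M), B u (B (bs j) (bs k)) + B (bs j) (B (bs k) u) +
        B (bs k) (B u (bs j)) = 0 := by
      intro j k
      let L : M →ₗ[R] M := B.flip (B (bs j) (bs k)) + (B (bs j)).comp (B (bs k)) +
        (B (bs k)).comp (B.flip (bs j))
      have hL : L = 0 := bs.ext fun i => by
        simpa [L] using key1 i j k
      intro u
      have := LinearMap.congr_fun hL u
      simpa [L] using this
    have key3 : ∀ (k : Fin 3) (u v : M), B u (B v (bs k)) + B v (B (bs k) u) +
        B (bs k) (B u v) = 0 := by
      intro k u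
      let L : M →ₗ[R] M := (B u).comp (B.flip (bs k)) + B.flip (B (bs k) u) +
        (B (bs k)).comp (B u)
      have hL : L = 0 := bs.ext fun j => by
        simpa [L] using key2 j k u
      intro v
      have := LinearMap.congr_fun hL v
      simpa [L] using this
    intro u v
    let L : M →ₗ[R] M := (B u).comp (B v) + (B v).comp (B.flip u) + B.flip (B u v)
    have hL : L = 0 := bs.ext fun k => by
      simpa [L] using key3 k u v
    intro w
    have := LinearMap.congr_fun hL w
    simpa [L] using this

end Groth.Agent.S13098
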