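import Groth.Statements.S13099
import Mathlib

set_option autoImplicit false
universe u
open GrpSch

namespace Groth.Agent.S13099
section Aux
open MvPolynomial in
lemma coeff_add_pow' {A : Type u} [CommRing A] (i j n : ℕ) :
    MvPolynomial.coeff (Finsupp.single 0 i + Finsupp.single 1 j)
      ((MvPolynomial.X 0 + MvPolynomial.X 1 : MvPolynomial (Fin 2) A) ^ n) =
      if i + j = n then (n.choose i : A) else 0 := by
  classical
  rw [add_pow, MvPolynomial.coeff_sum]
  have hk : ∀ k ∈ Finset.range (n + 1),
      MvPolynomial.coeff (Finsupp.single 0 i + Finsupp.single 1 j)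
        ((MvPolynomial.X 0 : MvPolynomial (Fin 2) A) ^ k * MvPolynomial.X 1 ^ (n - k) * (n.choose k : MvPolynomial (Fin 2) A)) =
      if k = i ∧ n - k = j then (n.choose k : A) else 0 := by
    intro k _
    rw [MvPolynomial.X_pow_eq_monomial, MvPolynomial.X_pow_eq_monomial, MvPolynomial.monomial_mul,
      ← map_natCast (MvPolynomial.C : A →+* MvPolynomial (Fin 2) A), mul_comm,
      MvPolynomial.coeff_C_mul, MvPolynomial.coeff_monomial, mul_one]
    have : (Finsupp.single (0 : Fin 2) k + Finsupp.single 1 (n - k) = Finsupp.single 0 i + Finsupp.single 1 j) ↔ (k = i ∧ n - k = j) := by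
      constructor
      · intro h
        have h0 := DFunLike.congr_fun h 0
        have h1 := DFunLike.congr_fun h 1
        simp at h0 h1
        exact ⟨h0, h1⟩
      · rintro ⟨rfl, rfl⟩; rfl
    by_cases hc : k = i ∧ n - k = j
    · rw [if_pos hc, if_pos (this.mpr hc), mul_one]
    · rw [if_neg hc, if_neg (fun h => hc (this.mp h)), mul_zero]
  rw [Finset.sum_congr rfl hk]
  by_cases hij : i + j = n
  · rw [if_pos hij, Finset.sum_eq_single i]
    · rw [if_pos ⟨rfl, by omega⟩]
    · intro k _ hki
      rw [if_neg (fun h => hki h.1)]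
    · intro hi
      exact absurd (Finset.mem_range.mpr (by omega)) hi
  · rw [if_neg hij]
    apply Finset.sum_eq_zero
    intro k hk
    rw [Finset.mem_range] at hk
    rw [if_neg]
    rintro ⟨rfl, h2⟩
    omega

lemma coeffF {A : Type u} [CommRing A] (q : Polynomial A) (P : ℕ) (hq : q.natDegree < P)
    (i j : ℕ) (hi : 1 ≤ i) (hj : 1 ≤ j) (hij : i + j < P) :
    MvPolynomial.coeff (Finsupp.single 0 i + Finsupp.single 1 j)
      (Polynomial.aeval (MvPolynomial.X 0 + MvPolynomial.X 1 : MvPolynomial (Fin 2) A) q -
        Polynomial.aeval (MvPolynomial.X 0 : MvPolynomial (Fin 2) A) q -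
        Polynomial.aeval (MvPolynomial.X 1 : MvPolynomial (Fin 2) A) q) =
      q.coeff (i + j) * ((i + j).choose i : A) := by
  classical
  rw [Polynomial.aeval_eq_sum_range' hq, Polynomial.aeval_eq_sum_range' hq,
    Polynomial.aeval_eq_sum_range' hq, MvPolynomial.coeff_sub, MvPolynomial.coeff_sub,
    MvPolynomial.coeff_sum, MvPolynomial.coeff_sum, MvPolynomial.coeff_sum]
  have h0 : ∀ n, MvPolynomial.coeff (Finsupp.single 0 i + Finsupp.single 1 j)
      ((MvPolynomial.X 0 : MvPolynomial (Fin 2) A) ^ n) = 0 := by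
    intro n
    rw [MvPolynomial.coeff_X_pow, if_neg]
    intro h
    have h1 := DFunLike.congr_fun h 1
    simp at h1
    omega
  have h1 : ∀ n, MvPolynomial.coeff (Finsupp.single 0 i + Finsupp.single 1 j)
      ((MvPolynomial.X 1 : MvPolynomial (Fin 2) A) ^ n) = 0 := by
    intro n
    rw [MvPolynomial.coeff_X_pow, if_neg]
    intro h
    have h1 := DFunLike.congr_fun h 0
    simp at h1
    omega
  simp only [MvPolynomial.coeff_smul, h0, h1, smul_zero, Finset.sum_const_zero, sub_zero,
    coeff_add_pow', smul_eq_mul, mul_ite, mul_zero]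
  rw [Finset.sum_eq_single (i + j)]
  · rw [if_pos rfl]
  · intro n _ hn
    rw [if_neg (fun h => hn h.symm)]
  · intro h
    exact absurd (Finset.mem_range.mpr hij) h

lemma exists_choose {p : ℕ} [Fact p.Prime] (n : ℕ) (hn : n < p ^ 2) (h2 : 2 ≤ n) (hnp : n ≠ p) :
    ∃ i, 1 ≤ i ∧ i < n ∧ ¬ p ∣ n.choose i := by
  have hp : p.Prime := Fact.out
  have hp2 := hp.two_le
  obtain ⟨a, b, hab, ha, hb, hmodn, hdivn⟩ : ∃ a b, n = a + p * b ∧ a < p ∧ b < p ∧ n % p = a ∧ n / p = b := by
    refine ⟨n % p, n / p, (Nat.mod_add_div n p).symm, Nat.mod_lt _ hp.pos, ?_, rfl, rfl⟩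
    rw [Nat.div_lt_iff_lt_mul hp.pos]; nlinarith
  by_cases hb0 : b = 0
  · -- n < p
    subst hb0
    have hnlt : n < p := by omega
    refine ⟨1, le_refl _, by omega, ?_⟩
    rw [Nat.choose_one_right]
    intro hd
    have := Nat.le_of_dvd (by omega) hd
    omega
  by_cases ha0 : a = 0
  · -- n = b p with b ≥ 2
    subst ha0
    have hb2 : 2 ≤ b := by
      by_contra hlt
      have : b = 1 := by omega
      subst this
      omega
    have hpn : p < n := by nlinarith
    refine ⟨p, hp.one_le, hpn, ?_⟩
    intro hd
    have hl := @Choose.choose_modEq_choose_mod_mul_choose_div_nat n p p _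
    rw [hmodn, hdivn, Nat.mod_self, Nat.div_self hp.pos, Nat.choose_self, Nat.choose_one_right, one_mul] at hl
    have : p ∣ b := by
      rw [Nat.dvd_iff_mod_eq_zero] at hd ⊢
      rw [← hl]
      exact hd
    have := Nat.le_of_dvd (by omega) this
    omega
  · -- a ≥ 1, b ≥ 1
    refine ⟨a, by omega, ?_, ?_⟩
    · have : p * b ≥ p := Nat.le_mul_of_pos_right _ (by omega)
      omega
    · intro hd
      have hl := @Choose.choose_modEq_choose_mod_mul_choose_div_nat n a p _
      rw [hmodn, hdivn, Nat.mod_eq_of_lt ha, Nat.choose_self, Nat.div_eq_of_lt ha, Nat.choose_zero_right, one_mul] at hl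
      rw [Nat.dvd_iff_mod_eq_zero] at hd
      have h1 : 1 % p = 1 := Nat.mod_eq_of_lt (by omega)
      have := hl
      unfold Nat.ModEq at this
      rw [hd, h1] at this
      omega

lemma isUnit_natCast_of_not_dvd {p : ℕ} [Fact p.Prime] (A : Type u) [CommRing A] [CharP A p]
    (m : ℕ) (hm : ¬ p ∣ m) : IsUnit (m : A) := by
  have h1 : IsUnit (m : ZMod p) := by
    rw [isUnit_iff_ne_zero]
    intro h
    exact hm ((ZMod.natCast_eq_zero_iff m p).mp h)
  have := h1.map (ZMod.castHom (dvd_refl p) A)
  simpa using this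

open Polynomial in
lemma part1 (p : ℕ) [Fact p.Prime] (A : Type u) [CommRing A] [CharP A p] (q : A[X])
    (hq : q.natDegree < p ^ 2) :
      (Polynomial.aeval (MvPolynomial.X 0 + MvPolynomial.X 1 : MvPolynomial (Fin 2) A) q -
            Polynomial.aeval (MvPolynomial.X 0 : MvPolynomial (Fin 2) A) q -
            Polynomial.aeval (MvPolynomial.X 1 : MvPolynomial (Fin 2) A) q ∈
          Ideal.span ({MvPolynomial.X 0 ^ p ^ 2, MvPolynomial.X 1 ^ p ^ 2} : Set (MvPolynomial (Fin 2) A)) ↔
        ∃ a₁ ap : A, q = Polynomial.C a₁ * X + Polynomial.C ap * X ^ p) := by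
  classical
  have hp : p.Prime := Fact.out
  have hp2 := hp.two_le
  have hpp : p < p ^ 2 := by nlinarith
  constructor
  · intro hF
    have hF0 := hF
    have hJ : Ideal.span ({MvPolynomial.X 0 ^ p ^ 2, MvPolynomial.X 1 ^ p ^ 2} : Set (MvPolynomial (Fin 2) A)) =
        Ideal.span ((fun s => MvPolynomial.monomial s (1 : A)) ''
          {Finsupp.single 0 (p ^ 2), Finsupp.single 1 (p ^ 2)}) := by
      rw [Set.image_pair, MvPolynomial.X_pow_eq_monomial, MvPolynomial.X_pow_eq_monomial]
    rw [hJ, MvPolynomial.mem_ideal_span_monomial_image] at hF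
    have hcoef : ∀ i j, i < p ^ 2 → j < p ^ 2 →
        MvPolynomial.coeff (Finsupp.single 0 i + Finsupp.single 1 j)
          (Polynomial.aeval (MvPolynomial.X 0 + MvPolynomial.X 1 : MvPolynomial (Fin 2) A) q -
            Polynomial.aeval (MvPolynomial.X 0 : MvPolynomial (Fin 2) A) q -
            Polynomial.aeval (MvPolynomial.X 1 : MvPolynomial (Fin 2) A) q) = 0 := by
      intro i j hi hj
      by_contra hne
      obtain ⟨s, hs, hle⟩ := hF _ (MvPolynomial.mem_support_iff.mpr hne)
      rcases hs with rfl | rfl
      · have := hle 0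
        simp at this
        omega
      · have := hle 1
        simp at this
        omega
    -- constant coefficient
    have hc0 : q.coeff 0 = 0 := by
      let ev : MvPolynomial (Fin 2) A →ₐ[A] A := MvPolynomial.aeval (fun _ => (0 : A))
      have hker : Ideal.span ({MvPolynomial.X 0 ^ p ^ 2, MvPolynomial.X 1 ^ p ^ 2} : Set (MvPolynomial (Fin 2) A)) ≤
          RingHom.ker ev.toRingHom := by
        rw [Ideal.span_le]
        intro x hx
        have hne : p ^ 2 ≠ 0 := by positivity
        rcases hx with rfl | rfl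
        · simp [RingHom.mem_ker, ev, zero_pow hne]
        · simp [RingHom.mem_ker, ev, zero_pow hne]
      have h0 := hker hF0
      rw [RingHom.mem_ker] at h0
      change ev _ = 0 at h0
      rw [map_sub, map_sub, ← Polynomial.aeval_algHom_apply, ← Polynomial.aeval_algHom_apply,
        ← Polynomial.aeval_algHom_apply] at h0
      simp only [ev, map_add, MvPolynomial.aeval_X, add_zero, ← Polynomial.coeff_zero_eq_aeval_zero] at h0
      simpa using h0
    have hcn : ∀ n, 2 ≤ n → n ≠ p → q.coeff n = 0 := by
      intro n h2 hnp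
      by_cases hn : n < p ^ 2
      · obtain ⟨i, hi1, hin, hdvd⟩ := exists_choose (p := p) n hn h2 hnp
        have h1 := coeffF q (p ^ 2) hq i (n - i) hi1 (by omega) (by omega)
        rw [hcoef i (n - i) (by omega) (by omega)] at h1
        have hin' : i + (n - i) = n := by omega
        rw [hin'] at h1
        have hu := isUnit_natCast_of_not_dvd (p := p) A _ hdvd
        exact (hu.mul_left_eq_zero).mp h1.symm
      · exact Polynomial.coeff_eq_zero_of_natDegree_lt (by omega)
    refine ⟨q.coeff 1, q.coeff p, ?_⟩
    ext n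
    rw [Polynomial.coeff_add, Polynomial.coeff_C_mul, Polynomial.coeff_C_mul, Polynomial.coeff_X,
      Polynomial.coeff_X_pow]
    rcases eq_or_ne n 1 with rfl | h1
    · rw [if_pos rfl, if_neg (fun h => hp.ne_one h.symm)]; simp
    rcases eq_or_ne n p with rfl | hnp
    · rw [if_neg (fun h => h1 h.symm), if_pos rfl]; simp
    rw [if_neg (fun h => h1 h.symm), if_neg hnp, mul_zero, mul_zero, add_zero]
    rcases Nat.lt_or_ge n 2 with h | h
    · have : n = 0 := by omega
      rw [this, hc0]
    · exact hcn n h hnp
  · rintro ⟨a₁, ap, rfl⟩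
    have : (Polynomial.aeval (MvPolynomial.X 0 + MvPolynomial.X 1 : MvPolynomial (Fin 2) A)
          (Polynomial.C a₁ * X + Polynomial.C ap * X ^ p) -
        Polynomial.aeval (MvPolynomial.X 0 : MvPolynomial (Fin 2) A) (Polynomial.C a₁ * X + Polynomial.C ap * X ^ p) -
        Polynomial.aeval (MvPolynomial.X 1 : MvPolynomial (Fin 2) A) (Polynomial.C a₁ * X + Polynomial.C ap * X ^ p)) = 0 := by
      simp only [map_add, map_mul, Polynomial.aeval_C, Polynomial.aeval_X, map_pow]
      rw [add_pow_char]
      ring
    rw [this]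
    exact Ideal.zero_mem _

open Polynomial in
lemma part2 (p : ℕ) [Fact p.Prime] (A : Type u) [CommRing A] [CharP A p] (a₁ ap : A)
    (I : Ideal A[X]) (hI : I = Ideal.span ({X ^ p ^ 2} : Set A[X]))
    (φ : (A[X] ⧸ I) →ₐ[A] (A[X] ⧸ I))
    (hφ : φ (Ideal.Quotient.mk I X) =
          Ideal.Quotient.mk I (Polynomial.C a₁ * X + Polynomial.C ap * X ^ p)) :
    (Function.Bijective φ ↔ IsUnit a₁) := by
  classical
  have hp : p.Prime := Fact.out
  have hp2 := hp.two_le
  have hpp : 1 < p ^ 2 := by nlinarith
  -- mk g = aeval x g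
  have hmk : ∀ g : A[X], Ideal.Quotient.mk I g = Polynomial.aeval (Ideal.Quotient.mk I X) g := by
    intro g
    have := Polynomial.aeval_algHom_apply (Ideal.Quotient.mkₐ A I) (X : A[X]) g
    rw [Polynomial.aeval_X_left_apply] at this
    exact this.symm
  have hφmk : ∀ g : A[X], φ (Ideal.Quotient.mk I g) =
      Ideal.Quotient.mk I (g.comp (Polynomial.C a₁ * X + Polynomial.C ap * X ^ p)) := by
    intro g
    rw [hmk g, ← Polynomial.aeval_algHom_apply, hφ, Polynomial.comp_eq_aeval]
    have := Polynomial.aeval_algHom_apply (Ideal.Quotient.mkₐ A I)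
      (Polynomial.C a₁ * X + Polynomial.C ap * X ^ p : A[X]) g
    exact this
  constructor
  · intro hbij
    obtain ⟨b, hb⟩ := hbij.2 (Ideal.Quotient.mk I X)
    obtain ⟨g, rfl⟩ := Ideal.Quotient.mk_surjective b
    rw [hφmk, Ideal.Quotient.eq, hI, Ideal.mem_span_singleton, Polynomial.X_pow_dvd_iff] at hb
    have h1 := hb 1 hpp
    rw [Polynomial.coeff_sub, Polynomial.coeff_X_one, sub_eq_zero] at h1
    have h2 : (g.comp (Polynomial.C a₁ * X + Polynomial.C ap * X ^ p)).coeff 1 =
        a₁ * (Polynomial.derivative g).eval 0 := by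
      have := Polynomial.coeff_derivative (g.comp (Polynomial.C a₁ * X + Polynomial.C ap * X ^ p)) 0
      rw [Polynomial.derivative_comp, Polynomial.coeff_zero_eq_eval_zero] at this
      simp only [zero_add, Nat.cast_zero, mul_one] at this
      rw [← this]
      have hne : p - 1 ≠ 0 := by omega
      simp [Polynomial.eval_comp, zero_pow hne, zero_pow hp.ne_zero, Polynomial.derivative_X_pow]
    rw [h2] at h1
    exact IsUnit.of_mul_eq_one _ h1
  · intro ha
    obtain ⟨u, rfl⟩ := ha
    -- surjectivity
    have hx : ∀ m k, p ^ 2 ≤ k + m → 1 ≤ k → ∀ f : A[X], Ideal.Quotient.mk I (X ^ k * f) ∈ φ.range := by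
      intro m
      induction m with
      | zero =>
        intro k hk _ f
        have : Ideal.Quotient.mk I (X ^ k * f) = 0 := by
          rw [Ideal.Quotient.eq_zero_iff_mem, hI, Ideal.mem_span_singleton]
          exact Dvd.dvd.mul_right (pow_dvd_pow X (by omega)) f
        rw [this]
        exact zero_mem _
      | succ m ih =>
        intro k hk hk1 f
        -- X^k itself
        have hXk : Ideal.Quotient.mk I (X ^ k) ∈ φ.range := by
          have hin : (Polynomial.C (u : A) * X + Polynomial.C ap * X ^ p : A[X]) =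
              X * (Polynomial.C (u : A) + Polynomial.C ap * X ^ (p - 1)) := by
            have : (X : A[X]) ^ p = X * X ^ (p - 1) := by
              rw [← pow_succ']
              congr 1
              omega
            rw [this]; ring
          obtain ⟨w, hw⟩ := sub_dvd_pow_sub_pow (Polynomial.C (u : A) + Polynomial.C ap * X ^ (p - 1) : A[X])
            (Polynomial.C (u : A)) k
          have hXp : (X : A[X]) ^ (p - 1) = X * X ^ (p - 2) := by
            rw [← pow_succ']
            congr 1
            omega
          have hpow : (Polynomial.C (u : A) * X + Polynomial.C ap * X ^ p : A[X]) ^ k =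
              Polynomial.C ((u : A) ^ k) * X ^ k + X ^ (k + 1) * (Polynomial.C ap * X ^ (p - 2) * w) := by
            rw [hin, mul_pow]
            have : (Polynomial.C (u : A) + Polynomial.C ap * X ^ (p - 1) : A[X]) ^ k =
                Polynomial.C (u : A) ^ k + (Polynomial.C (u : A) + Polynomial.C ap * X ^ (p - 1) - Polynomial.C (u : A)) * w := by
              rw [← hw]; ring
            rw [this, hXp, map_pow]
            ring
          have h1 : Ideal.Quotient.mk I ((Polynomial.C (u : A) * X + Polynomial.C ap * X ^ p : A[X]) ^ k) ∈ φ.range := by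
            rw [map_pow, ← hφ]
            exact pow_mem (φ.mem_range_self _) k
          have h2 := ih (k + 1) (by omega) (by omega) (Polynomial.C ap * X ^ (p - 2) * w)
          have h3 : Ideal.Quotient.mk I (Polynomial.C ((u : A) ^ k) * X ^ k) ∈ φ.range := by
            have : Polynomial.C ((u : A) ^ k) * X ^ k =
                (Polynomial.C (u : A) * X + Polynomial.C ap * X ^ p : A[X]) ^ k -
                  X ^ (k + 1) * (Polynomial.C ap * X ^ (p - 2) * w) := by
              rw [hpow]; ring
            rw [this, map_sub]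
            exact sub_mem h1 h2
          have h4 : Ideal.Quotient.mk I (X ^ k) =
              ((u⁻¹ : Aˣ) : A) ^ k • Ideal.Quotient.mk I (Polynomial.C ((u : A) ^ k) * X ^ k) := by
            change Ideal.Quotient.mkₐ A I _ = _ • Ideal.Quotient.mkₐ A I _
            rw [Polynomial.C_mul', map_smul, smul_smul, ← mul_pow, Units.inv_mul, one_pow, one_smul]
          rw [h4]
          exact Subalgebra.smul_mem _ h3 _
        have hf : X ^ k * f = X ^ (k + 1) * Polynomial.divX f + Polynomial.C (f.coeff 0) * X ^ k := by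
          conv_lhs => rw [← Polynomial.X_mul_divX_add f]
          ring
        rw [hf, map_add]
        refine add_mem (ih (k + 1) (by omega) (by omega) _) ?_
        have : Ideal.Quotient.mk I (Polynomial.C (f.coeff 0) * X ^ k) =
            (f.coeff 0) • Ideal.Quotient.mk I (X ^ k) := by
          change Ideal.Quotient.mkₐ A I _ = _ • Ideal.Quotient.mkₐ A I _
          rw [Polynomial.C_mul', map_smul]
        rw [this]
        exact Subalgebra.smul_mem _ hXk _
    have hxr : Ideal.Quotient.mk I X ∈ φ.range := by
      have := hx (p ^ 2) 1 (by omega) le_rfl 1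
      simpa using this
    obtain ⟨y, hy⟩ := hxr
    replace hy : φ y = Ideal.Quotient.mk I X := hy
    have hsurj : Function.Surjective φ := by
      intro b
      obtain ⟨g, rfl⟩ := Ideal.Quotient.mk_surjective b
      refine ⟨Polynomial.aeval y g, ?_⟩
      rw [← Polynomial.aeval_algHom_apply, hy, ← hmk]
    have : Module.Finite A (A[X] ⧸ I) := by
      subst hI
      exact (Polynomial.monic_X_pow (p ^ 2)).finite_adjoinRoot
    exact ⟨OrzechProperty.injective_of_surjective_endomorphism φ.toLinearMap hsurj, hsurj⟩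
end Aux



open Polynomial in
/-- Let p be a prime and A a commutative ring of characteristic p, and consider the infinitesimal group
scheme Spec A[X]/(X^{p²}) with the additive group law. In coordinates: (1) a polynomial q ∈ A[X] of
degree less than p² satisfies q(Y + Z) − q(Y) − q(Z) ∈ (Y^{p²}, Z^{p²}) in A[Y, Z] (that is, X ↦ q
respects the comultiplication) if and only if q = a₁ X + a_p X^p for some a₁, a_p ∈ A; (2) an
A-algebra endomorphism of A[X]/(X^{p²}) that sends the class of X to the class of a₁ X + a_p X^p is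
bijective if and only if a₁ is a unit of A. (The printed statement is that the automorphism group
scheme of this group scheme is the semidirect product of the additive group by the multiplicative
group, v acting on u by v^{p−1}u; this row records the two computations it consists of, in
coordinates.) -/
theorem result (p : ℕ) [Fact p.Prime] (A : Type u) [CommRing A] [CharP A p] :
    (∀ q : A[X], q.natDegree < p ^ 2 →
      (Polynomial.aeval (MvPolynomial.X 0 + MvPolynomial.X 1 : MvPolynomial (Fin 2) A) q -
            Polynomial.aeval (MvPolynomial.X 0 : MvPolynomial (Fin 2) A) q -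
            Polynomial.aeval (MvPolynomial.X 1 : MvPolynomial (Fin 2) A) q ∈
          Ideal.span ({MvPolynomial.X 0 ^ p ^ 2, MvPolynomial.X 1 ^ p ^ 2} : Set (MvPolynomial (Fin 2) A)) ↔
        ∃ a₁ ap : A, q = Polynomial.C a₁ * X + Polynomial.C ap * X ^ p)) ∧
    (∀ (a₁ ap : A) (φ : (A[X] ⧸ Ideal.span ({X ^ p ^ 2} : Set A[X])) →ₐ[A] (A[X] ⧸ Ideal.span ({X ^ p ^ 2} : Set A[X]))),
      φ (Ideal.Quotient.mk (Ideal.span ({X ^ p ^ 2} : Set A[X])) X) =
          Ideal.Quotient.mk (Ideal.span ({X ^ p ^ 2} : Set A[X])) (Polynomial.C a₁ * X + Polynomial.C ap * X ^ p) →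
        (Function.Bijective φ ↔ IsUnit a₁)) := by
  classical
  exact ⟨fun q hq => part1 p A q hq, fun a₁ ap φ hφ => part2 p A a₁ ap _ rfl φ hφ⟩

end Groth.Agent.S13099
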