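import Groth.Statements.S13100
import Mathlib

set_option autoImplicit false
universe u
open GrpSch

namespace Groth.Agent.S13100

/-- Coefficients of a square root of a power series with coefficients `u`, `u 0 = d ^ 2`. -/
noncomputable def sqrtAux {k : Type*} [Field k] (u : ℕ → k) (d : k) : ℕ → k
  | 0 => d
  | n + 1 => (u (n + 1) - ∑ i : Fin n, sqrtAux u d (i.val + 1) * sqrtAux u d (n - i.val)) / (2 * d)
termination_by n => n
decreasing_by all_goals omega

theorem sqrtAux_zero {k : Type*} [Field k] (u : ℕ → k) (d : k) : sqrtAux u d 0 = d := by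
  rw [sqrtAux]

theorem sqrtAux_succ {k : Type*} [Field k] (u : ℕ → k) (d : k) (n : ℕ) : sqrtAux u d (n + 1) =
    (u (n + 1) - ∑ i : Fin n, sqrtAux u d (i.val + 1) * sqrtAux u d (n - i.val)) / (2 * d) := by
  rw [sqrtAux]

theorem mk_sqrtAux_sq {k : Type*} [Field k] (h2 : (2 : k) ≠ 0) (u : PowerSeries k) (d : k)
    (hd : d ≠ 0) (hd2 : d * d = PowerSeries.coeff 0 u) :
    PowerSeries.mk (sqrtAux (fun n => PowerSeries.coeff n u) d) *
      PowerSeries.mk (sqrtAux (fun n => PowerSeries.coeff n u) d) = u := by
  ext n
  rw [PowerSeries.coeff_mul, Finset.Nat.sum_antidiagonal_eq_sum_range_succ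
    (fun i j => PowerSeries.coeff i (PowerSeries.mk (sqrtAux (fun n => PowerSeries.coeff n u) d)) *
      PowerSeries.coeff j (PowerSeries.mk (sqrtAux (fun n => PowerSeries.coeff n u) d)))]
  simp only [PowerSeries.coeff_mk]
  cases n with
  | zero => simp [sqrtAux_zero, hd2]
  | succ n =>
    rw [Finset.sum_range_succ', Finset.sum_range_succ]
    simp only [Nat.sub_zero, sqrtAux_zero]
    have hsum : ∑ x ∈ Finset.range n, sqrtAux (fun n => PowerSeries.coeff n u) d (x + 1) *
          sqrtAux (fun n => PowerSeries.coeff n u) d (n + 1 - (x + 1)) =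
        ∑ i : Fin n, sqrtAux (fun n => PowerSeries.coeff n u) d (i.val + 1) *
          sqrtAux (fun n => PowerSeries.coeff n u) d (n - i.val) := by
      rw [← Fin.sum_univ_eq_sum_range
        (fun x => sqrtAux (fun n => PowerSeries.coeff n u) d (x + 1) *
          sqrtAux (fun n => PowerSeries.coeff n u) d (n + 1 - (x + 1))) n]
      refine Finset.sum_congr rfl fun i _ => ?_
      rw [Nat.add_sub_add_right]
    rw [hsum]
    have hnn : n + 1 - (n + 1) = 0 := Nat.sub_self _
    rw [hnn, sqrtAux_zero]
    have h2d : (2 * d) ≠ 0 := mul_ne_zero h2 hd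
    have key := sqrtAux_succ (fun n => PowerSeries.coeff n u) d n
    have key' : sqrtAux (fun n => PowerSeries.coeff n u) d (n + 1) * (2 * d) =
        PowerSeries.coeff (n + 1) u - ∑ i : Fin n,
          sqrtAux (fun n => PowerSeries.coeff n u) d (i.val + 1) *
            sqrtAux (fun n => PowerSeries.coeff n u) d (n - i.val) := by
      rw [key, div_mul_cancel₀ _ h2d]
    linear_combination key'

/-- Let k be an algebraically closed field of characteristic different from 2 and K = k((t)) the field
of Laurent series over k. Then a non-zero Laurent series f is a square in K if and only if its order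
in t is even; consequently the group Kˣ/Kˣ² of non-zero elements modulo squares has exactly two
elements, represented by 1 and t. -/
theorem result (k : Type u) [Field k] [IsAlgClosed k] (h2 : (2 : k) ≠ 0)
    (f : LaurentSeries k) (hf : f ≠ 0) : IsSquare f ↔ Even f.order := by
  constructor
  · rintro ⟨r, rfl⟩
    have hr : r ≠ 0 := by
      rintro rfl
      exact hf (by simp)
    rw [HahnSeries.order_mul hr hr]
    exact ⟨r.order, rfl⟩
  · rintro ⟨m, hm⟩
    -- the power series part
    have hc : PowerSeries.coeff 0 f.powerSeriesPart ≠ 0 := by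
      rw [LaurentSeries.powerSeriesPart_coeff, Nat.cast_zero, add_zero]
      exact fun h => hf (HahnSeries.coeff_order_eq_zero.mp h)
    obtain ⟨d, hd2⟩ := IsAlgClosed.exists_pow_nat_eq (PowerSeries.coeff 0 f.powerSeriesPart)
      (n := 2) (by norm_num)
    have hd : d ≠ 0 := by
      rintro rfl
      apply hc
      rw [← hd2]; simp
    have hsq := mk_sqrtAux_sq h2 f.powerSeriesPart d hd (by rw [← hd2, pow_two])
    set g := PowerSeries.mk (sqrtAux (fun n => PowerSeries.coeff n f.powerSeriesPart) d) with hg
    refine ⟨HahnSeries.single m 1 * HahnSeries.ofPowerSeries ℤ k g, ?_⟩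
    have h1 : (HahnSeries.single m (1 : k) * HahnSeries.ofPowerSeries ℤ k g) *
        (HahnSeries.single m 1 * HahnSeries.ofPowerSeries ℤ k g) =
        (HahnSeries.single m (1 : k) * HahnSeries.single m 1) *
          (HahnSeries.ofPowerSeries ℤ k g * HahnSeries.ofPowerSeries ℤ k g) := by ring
    rw [h1, HahnSeries.single_mul_single, ← map_mul, hsq, mul_one, ← hm]
    exact (LaurentSeries.single_order_mul_powerSeriesPart f).symm

end Groth.Agent.S13100
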