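import Groth.Statements.S13101
import Groth.Agent.Lib.Helper18.Lie3

set_option autoImplicit false
universe u v
open GrpSch

namespace Groth.Agent.S13101

open Groth.Agent.Lib.Helper18.Lie3 in
lemma bracket_eqs {A : Type u} [CommRing A] {L : Type v} [LieRing L] [LieAlgebra A L]
    (bs : Module.Basis (Fin 3) A L)
    (hxy : ⁅bs 0, bs 1⁆ = bs 1) (hxz : ⁅bs 0, bs 2⁆ = bs 1 + bs 2) (hyz : ⁅bs 1, bs 2⁆ = 0)
    (θ : L ≃ₗ⁅A⁆ L) (x0 x1 x2 y0 y1 y2 z0 z1 z2 : A)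
    (hX : θ (bs 0) = x0 • bs 0 + x1 • bs 1 + x2 • bs 2)
    (hY : θ (bs 1) = y0 • bs 0 + y1 • bs 1 + y2 • bs 2)
    (hZ : θ (bs 2) = z0 • bs 0 + z1 • bs 1 + z2 • bs 2) :
    y0 = 0 ∧ z0 = 0 ∧ y2 = x0 * y2 ∧ y1 = x0 * (y1 + y2) ∧ y2 + z2 = x0 * z2 ∧
      y1 + z1 = x0 * (z1 + z2) := by
  have hy : θ (bs 1) = ⁅θ (bs 0), θ (bs 1)⁆ := by rw [← LieEquiv.map_lie, hxy]
  rw [hX, hY, lie_expand, hxy, hxz, hyz] at hy
  have hy' : y0 • bs 0 + y1 • bs 1 + y2 • bs 2 = (0 : A) • bs 0 +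
      ((x0 * y1 - x1 * y0) + (x0 * y2 - x2 * y0)) • bs 1 + (x0 * y2 - x2 * y0) • bs 2 := by
    rw [hy]; module
  obtain ⟨e0, e1, e2⟩ := coords bs hy'
  have hz : θ (bs 1) + θ (bs 2) = ⁅θ (bs 0), θ (bs 2)⁆ := by
    rw [← LieEquiv.map_lie, hxz, map_add]
  rw [hX, hY, hZ, lie_expand, hxy, hxz, hyz] at hz
  have hz' : (y0 + z0) • bs 0 + (y1 + z1) • bs 1 + (y2 + z2) • bs 2 = (0 : A) • bs 0 +
      ((x0 * z1 - x1 * z0) + (x0 * z2 - x2 * z0)) • bs 1 + (x0 * z2 - x2 * z0) • bs 2 := by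
    have : (y0 + z0) • bs 0 + (y1 + z1) • bs 1 + (y2 + z2) • bs 2 =
        (y0 • bs 0 + y1 • bs 1 + y2 • bs 2) + (z0 • bs 0 + z1 • bs 1 + z2 • bs 2) := by module
    rw [this, hz]; module
  obtain ⟨f0, f1, f2⟩ := coords bs hz'
  have hz0 : z0 = 0 := by rw [e0, zero_add] at f0; exact f0
  subst e0
  subst hz0
  refine ⟨rfl, rfl, ?_, ?_, ?_, ?_⟩
  · linear_combination e2
  · linear_combination e1
  · linear_combination f2
  · linear_combination f1

/-- Let A be a commutative ring in which 2 is a unit, and L a Lie algebra over A, free as a module with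
basis x = bs 0, y = bs 1, z = bs 2 and brackets [x,y] = y, [x,z] = y + z, [y,z] = 0. Then for every
Lie algebra automorphism φ of L over A there are b, c, h ∈ A and a unit i of A with φ(x) = x + b y +
c z, φ(y) = i y and φ(z) = h y + i z. Only the form of an automorphism is stated, not that every map
of this form is one. (The published statement identifies the automorphism group scheme with a
semidirect product of two additive groups by the product of the multiplicative and additive group,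
for algebras over a field of Laurent series of characteristic not 2, and deduces the vanishing of
its first cohomology; this row records the determination of the automorphisms, over any base ring
with 2 invertible; the cohomological consequence is not restated.) -/
theorem result (A : Type u) [CommRing A] (h2 : IsUnit (2 : A))
    (L : Type v) [LieRing L] [LieAlgebra A L] (bs : Module.Basis (Fin 3) A L)
    (hxy : ⁅bs 0, bs 1⁆ = bs 1) (hxz : ⁅bs 0, bs 2⁆ = bs 1 + bs 2) (hyz : ⁅bs 1, bs 2⁆ = 0)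
    (φ : L ≃ₗ⁅A⁆ L) :
    ∃ b c h i : A, IsUnit i ∧ φ (bs 0) = bs 0 + b • bs 1 + c • bs 2 ∧ φ (bs 1) = i • bs 1 ∧
      φ (bs 2) = h • bs 1 + i • bs 2 := by
  obtain ⟨w, hw⟩ : ∃ w : A, 2 * w = 1 := by
    obtain ⟨u, hu⟩ := h2
    exact ⟨↑u⁻¹, by rw [← hu]; simp⟩
  obtain ⟨x0, x1, x2, hX⟩ : ∃ x0 x1 x2 : A, φ (bs 0) = x0 • bs 0 + x1 • bs 1 + x2 • bs 2 :=
    ⟨_, _, _, Groth.Agent.Lib.Helper18.Lie3.decomp bs _⟩
  obtain ⟨y0, y1, y2, hY⟩ : ∃ y0 y1 y2 : A, φ (bs 1) = y0 • bs 0 + y1 • bs 1 + y2 • bs 2 :=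
    ⟨_, _, _, Groth.Agent.Lib.Helper18.Lie3.decomp bs _⟩
  obtain ⟨z0, z1, z2, hZ⟩ : ∃ z0 z1 z2 : A, φ (bs 2) = z0 • bs 0 + z1 • bs 1 + z2 • bs 2 :=
    ⟨_, _, _, Groth.Agent.Lib.Helper18.Lie3.decomp bs _⟩
  obtain ⟨x0', x1', x2', hX'⟩ : ∃ x0 x1 x2 : A,
      φ.symm (bs 0) = x0 • bs 0 + x1 • bs 1 + x2 • bs 2 :=
    ⟨_, _, _, Groth.Agent.Lib.Helper18.Lie3.decomp bs _⟩
  obtain ⟨y0', y1', y2', hY'⟩ : ∃ y0 y1 y2 : A,
      φ.symm (bs 1) = y0 • bs 0 + y1 • bs 1 + y2 • bs 2 :=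
    ⟨_, _, _, Groth.Agent.Lib.Helper18.Lie3.decomp bs _⟩
  obtain ⟨z0', z1', z2', hZ'⟩ : ∃ z0 z1 z2 : A,
      φ.symm (bs 2) = z0 • bs 0 + z1 • bs 1 + z2 • bs 2 :=
    ⟨_, _, _, Groth.Agent.Lib.Helper18.Lie3.decomp bs _⟩
  obtain ⟨hy0, hz0, E1, E2, E3, E4⟩ := bracket_eqs bs hxy hxz hyz φ _ _ _ _ _ _ _ _ _ hX hY hZ
  obtain ⟨hy0', hz0', -, -, -, -⟩ :=
    bracket_eqs bs hxy hxz hyz φ.symm _ _ _ _ _ _ _ _ _ hX' hY' hZ'
  subst hy0 hz0 hy0' hz0'
  -- inverse relations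
  have hI1 : φ.symm (φ (bs 1)) = bs 1 := φ.symm_apply_apply _
  rw [hY, map_add, map_add, map_smul, map_smul, map_smul, hX', hY', hZ'] at hI1
  have hI1' : (0 : A) • bs 0 + (y1 * y1' + y2 * z1') • bs 1 + (y1 * y2' + y2 * z2') • bs 2 =
      (0 : A) • bs 0 + (1 : A) • bs 1 + (0 : A) • bs 2 := by
    have : (0 : A) • bs 0 + (1 : A) • bs 1 + (0 : A) • bs 2 = bs 1 := by module
    rw [this]
    exact Eq.trans (by module) hI1
  obtain ⟨-, I1, I2⟩ := Groth.Agent.Lib.Helper18.Lie3.coords bs hI1'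
  have hI2 : φ.symm (φ (bs 2)) = bs 2 := φ.symm_apply_apply _
  rw [hZ, map_add, map_add, map_smul, map_smul, map_smul, hX', hY', hZ'] at hI2
  have hI2' : (0 : A) • bs 0 + (z1 * y1' + z2 * z1') • bs 1 + (z1 * y2' + z2 * z2') • bs 2 =
      (0 : A) • bs 0 + (0 : A) • bs 1 + (1 : A) • bs 2 := by
    have : (0 : A) • bs 0 + (0 : A) • bs 1 + (1 : A) • bs 2 = bs 2 := by module
    rw [this]
    exact Eq.trans (by module) hI2
  obtain ⟨-, I3, I4⟩ := Groth.Agent.Lib.Helper18.Lie3.coords bs hI2'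
  -- determinant
  have hDD : (y1 * z2 - y2 * z1) * (y1' * z2' - y2' * z1') = 1 := by
    linear_combination (z1 * y2' + z2 * z2') * I1 + I4 - (z1 * y1' + z2 * z1') * I2
  have hD : x0 * z2 ^ 2 * (y1' * z2' - y2' * z1') = 1 := by
    linear_combination hDD - (y1' * z2' - y2' * z1') * (z2 * E4 - z1 * E3)
  have hb : (x0 - 1) ^ 2 * z2 = 0 := by
    linear_combination (-(x0 - 1)) * E3 - E1
  have h1 : (x0 - 1) ^ 2 = 0 := by
    linear_combination (x0 * z2 * (y1' * z2' - y2' * z1')) * hb - (x0 - 1) ^ 2 * hD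
  have h2' : 2 * x0 * z2 * (x0 - 1) = 0 := by
    linear_combination -E2 - (x0 - 1) * E4 - x0 * E3 - z1 * h1
  have ht : x0 - 1 = 0 := by
    linear_combination (w * z2 * (y1' * z2' - y2' * z1')) * h2' - (x0 - 1) * (2 * w) * hD -
      (x0 - 1) * hw
  have hx0 : x0 = 1 := by linear_combination ht
  subst hx0
  have hq : y2 = 0 := by linear_combination E3
  have hp : y1 = z2 := by linear_combination E4
  rw [hq, hp] at hY
  refine ⟨x1, x2, z1, z2, ?_, ?_, ?_, ?_⟩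
  · exact IsUnit.of_mul_eq_one (z2 * (y1' * z2' - y2' * z1')) (by linear_combination hD)
  · rw [hX]; module
  · rw [hY]; module
  · rw [hZ]; module

end Groth.Agent.S13101
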