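import Groth.Statements.S13102
import Mathlib
import Groth.Agent.Lib.Helper18.Lie3

set_option autoImplicit false
universe u v w
open GrpSch

namespace Groth.Agent.S13102



open Groth.Agent.Lib.Helper18.Lie3 in
lemma bracket_eqs {A : Type*} [CommRing A] {L : Type*} [LieRing L] [LieAlgebra A L]
    (bs : Module.Basis (Fin 3) A L) (a : A)
    (hxy : ⁅bs 0, bs 1⁆ = bs 1) (hxz : ⁅bs 0, bs 2⁆ = a • bs 2) (hyz : ⁅bs 1, bs 2⁆ = 0)
    (θ : L ≃ₗ⁅A⁆ L) (x0 x1 x2 y0 y1 y2 z0 z1 z2 : A)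
    (hX : θ (bs 0) = x0 • bs 0 + x1 • bs 1 + x2 • bs 2)
    (hY : θ (bs 1) = y0 • bs 0 + y1 • bs 1 + y2 • bs 2)
    (hZ : θ (bs 2) = z0 • bs 0 + z1 • bs 1 + z2 • bs 2) :
    y0 = 0 ∧ y1 = x0 * y1 - x1 * y0 ∧ y2 = a * (x0 * y2 - x2 * y0) ∧ a * z0 = 0 ∧
      a * z1 = x0 * z1 - x1 * z0 ∧ a * z2 = a * (x0 * z2 - x2 * z0) := by
  have hy : θ (bs 1) = ⁅θ (bs 0), θ (bs 1)⁆ := by rw [← LieEquiv.map_lie, hxy]
  rw [hX, hY, lie_expand, hxy, hxz, hyz] at hy
  have hy' : y0 • bs 0 + y1 • bs 1 + y2 • bs 2 = (0 : A) • bs 0 +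
      (x0 * y1 - x1 * y0) • bs 1 + (a * (x0 * y2 - x2 * y0)) • bs 2 := by
    rw [hy]; module
  obtain ⟨e0, e1, e2⟩ := coords bs hy'
  have hz : a • θ (bs 2) = ⁅θ (bs 0), θ (bs 2)⁆ := by
    rw [← LieEquiv.map_lie, hxz, map_smul]
  rw [hX, hZ, lie_expand, hxy, hxz, hyz] at hz
  have hz' : (a * z0) • bs 0 + (a * z1) • bs 1 + (a * z2) • bs 2 = (0 : A) • bs 0 +
      (x0 * z1 - x1 * z0) • bs 1 + (a * (x0 * z2 - x2 * z0)) • bs 2 := by
    have : (a * z0) • bs 0 + (a * z1) • bs 1 + (a * z2) • bs 2 =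
        a • (z0 • bs 0 + z1 • bs 1 + z2 • bs 2) := by module
    rw [this, hz]; module
  obtain ⟨f0, f1, f2⟩ := coords bs hz'
  exact ⟨e0, e1, e2, f0, f1, f2⟩

open Groth.Agent.Lib.Helper18.Lie3 in
/-- image of a central `z` (case `a = 0`) -/
lemma central_eqs {A : Type*} [CommRing A] {L : Type*} [LieRing L] [LieAlgebra A L]
    (bs : Module.Basis (Fin 3) A L)
    (hxy : ⁅bs 0, bs 1⁆ = bs 1) (hxz : ⁅bs 0, bs 2⁆ = 0) (hyz : ⁅bs 1, bs 2⁆ = 0)
    (θ : L ≃ₗ⁅A⁆ L) (z0 z1 z2 : A)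
    (hZ : θ (bs 2) = z0 • bs 0 + z1 • bs 1 + z2 • bs 2) : z0 = 0 ∧ z1 = 0 := by
  have hcent : ∀ m : L, ⁅m, bs 2⁆ = 0 := by
    intro m
    rw [decomp bs m]
    simp only [add_lie, smul_lie, hxz, hyz, lie_self, smul_zero, add_zero]
  have h1 : ∀ m : L, ⁅m, θ (bs 2)⁆ = 0 := by
    intro m
    have : ⁅m, θ (bs 2)⁆ = θ ⁅θ.symm m, bs 2⁆ := by
      rw [LieEquiv.map_lie, LieEquiv.apply_symm_apply]
    rw [this, hcent, map_zero]
  have hx := h1 (bs 0)
  have hy := h1 (bs 1)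
  rw [hZ] at hx hy
  have hx' : (0 : A) • bs 0 + z1 • bs 1 + (0 : A) • bs 2 =
      (0 : A) • bs 0 + (0 : A) • bs 1 + (0 : A) • bs 2 := by
    have e1 : ⁅bs 0, z0 • bs 0 + z1 • bs 1 + z2 • bs 2⁆ = z1 • bs 1 := by
      simp only [lie_add, lie_smul, lie_self, hxy, hxz, smul_zero, add_zero, zero_add]
    rw [e1] at hx
    have : (0 : A) • bs 0 + z1 • bs 1 + (0 : A) • bs 2 = z1 • bs 1 := by module
    rw [this, hx]; module
  have hy' : (0 : A) • bs 0 + (-z0) • bs 1 + (0 : A) • bs 2 =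
      (0 : A) • bs 0 + (0 : A) • bs 1 + (0 : A) • bs 2 := by
    have e1 : ⁅bs 1, z0 • bs 0 + z1 • bs 1 + z2 • bs 2⁆ = (-z0) • bs 1 := by
      simp only [lie_add, lie_smul, lie_self, hyz, smul_zero, add_zero]
      rw [← lie_skew, hxy]; module
    rw [e1] at hy
    have : (0 : A) • bs 0 + (-z0) • bs 1 + (0 : A) • bs 2 = (-z0) • bs 1 := by module
    rw [this, hy]; module
  obtain ⟨-, hz1, -⟩ := coords bs hx'
  obtain ⟨-, hz0, -⟩ := coords bs hy'
  exact ⟨neg_eq_zero.mp hz0, hz1⟩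

/-- Let K be a field, α ∈ K, A a commutative K-algebra and L a Lie algebra over A which is free as an
A-module with basis x = bs 0, y = bs 1, z = bs 2 and brackets [x,y] = y, [x,z] = α z, [y,z] = 0. If
α² ≠ 1 then every Lie algebra automorphism φ of L over A satisfies φ(x) = x + b y + c z, φ(y) = e y,
φ(z) = i z for some b, c ∈ A and units e, i of A. If α = 1 then every such φ satisfies φ(x) = x + b
y + c z, φ(y) = e y + f z, φ(z) = h y + i z with e i − f h a unit of A. (The printed statement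
identifies the automorphism group schemes with the corresponding semidirect products, treats also α
= −1 in characteristic not 2, and computes first cohomology over a field of Laurent series; those
clauses are not restated here.) -/
theorem result (K : Type u) [Field K] (α : K) (A : Type v) [CommRing A] [Algebra K A]
    (L : Type w) [LieRing L] [LieAlgebra A L] (bs : Module.Basis (Fin 3) A L)
    (hxy : ⁅bs 0, bs 1⁆ = bs 1) (hxz : ⁅bs 0, bs 2⁆ = algebraMap K A α • bs 2) (hyz : ⁅bs 1, bs 2⁆ = 0)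
    (φ : L ≃ₗ⁅A⁆ L) :
    (α ^ 2 ≠ 1 → ∃ b c e i : A, IsUnit e ∧ IsUnit i ∧ φ (bs 0) = bs 0 + b • bs 1 + c • bs 2 ∧
        φ (bs 1) = e • bs 1 ∧ φ (bs 2) = i • bs 2) ∧
    (α = 1 → ∃ b c e f h i : A, IsUnit (e * i - f * h) ∧ φ (bs 0) = bs 0 + b • bs 1 + c • bs 2 ∧
        φ (bs 1) = e • bs 1 + f • bs 2 ∧ φ (bs 2) = h • bs 1 + i • bs 2) := by

  obtain ⟨x0, x1, x2, hX⟩ : ∃ x0 x1 x2 : A, φ (bs 0) = x0 • bs 0 + x1 • bs 1 + x2 • bs 2 :=
    ⟨_, _, _, Groth.Agent.Lib.Helper18.Lie3.decomp bs _⟩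
  obtain ⟨y0, y1, y2, hY⟩ : ∃ y0 y1 y2 : A, φ (bs 1) = y0 • bs 0 + y1 • bs 1 + y2 • bs 2 :=
    ⟨_, _, _, Groth.Agent.Lib.Helper18.Lie3.decomp bs _⟩
  obtain ⟨z0, z1, z2, hZ⟩ : ∃ z0 z1 z2 : A, φ (bs 2) = z0 • bs 0 + z1 • bs 1 + z2 • bs 2 :=
    ⟨_, _, _, Groth.Agent.Lib.Helper18.Lie3.decomp bs _⟩
  obtain ⟨x0', x1', x2', hX'⟩ : ∃ x0 x1 x2 : A,
      φ.symm (bs 0) = x0 • bs 0 + x1 • bs 1 + x2 • bs 2 :=
    ⟨_, _, _, Groth.Agent.Lib.Helper18.Lie3.decomp bs _⟩
  obtain ⟨y0', y1', y2', hY'⟩ : ∃ y0 y1 y2 : A,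
      φ.symm (bs 1) = y0 • bs 0 + y1 • bs 1 + y2 • bs 2 :=
    ⟨_, _, _, Groth.Agent.Lib.Helper18.Lie3.decomp bs _⟩
  obtain ⟨z0', z1', z2', hZ'⟩ : ∃ z0 z1 z2 : A,
      φ.symm (bs 2) = z0 • bs 0 + z1 • bs 1 + z2 • bs 2 :=
    ⟨_, _, _, Groth.Agent.Lib.Helper18.Lie3.decomp bs _⟩
  set a : A := algebraMap K A α with ha
  obtain ⟨hy0, E1, E2, E3, E4, E5⟩ := bracket_eqs bs a hxy hxz hyz φ _ _ _ _ _ _ _ _ _ hX hY hZ
  obtain ⟨hy0', E1', E2', E3', E4', E5'⟩ :=
    bracket_eqs bs a hxy hxz hyz φ.symm _ _ _ _ _ _ _ _ _ hX' hY' hZ'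
  subst hy0 hy0'
  -- in both cases z0 = 0 and z0' = 0 are needed; prove under hypothesis
  have key : z0 = 0 → z0' = 0 →
      (y1 * z2 - y2 * z1) * (y1' * z2' - y2' * z1') = 1 := by
    intro hz0 hz0'
    subst hz0 hz0'
    have hI1 : φ.symm (φ (bs 1)) = bs 1 := φ.symm_apply_apply _
    rw [hY, map_add, map_add, map_smul, map_smul, map_smul, hX', hY', hZ'] at hI1
    have hI1' : (0 : A) • bs 0 + (y1 * y1' + y2 * z1') • bs 1 + (y1 * y2' + y2 * z2') • bs 2 =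
        (0 : A) • bs 0 + (1 : A) • bs 1 + (0 : A) • bs 2 := by
      have : (0 : A) • bs 0 + (1 : A) • bs 1 + (0 : A) • bs 2 = bs 1 := by module
      rw [this]
      exact Eq.trans (by module) hI1
    obtain ⟨-, I1, I2⟩ := Groth.Agent.Lib.Helper18.Lie3.coords bs hI1'
    have hI2 : φ.symm (φ (bs 2)) = bs 2 := φ.symm_apply_apply _
    rw [hZ, map_add, map_add, map_smul, map_smul, map_smul, hX', hY', hZ'] at hI2
    have hI2' : (0 : A) • bs 0 + (z1 * y1' + z2 * z1') • bs 1 + (z1 * y2' + z2 * z2') • bs 2 =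
        (0 : A) • bs 0 + (0 : A) • bs 1 + (1 : A) • bs 2 := by
      have : (0 : A) • bs 0 + (0 : A) • bs 1 + (1 : A) • bs 2 = bs 2 := by module
      rw [this]
      exact Eq.trans (by module) hI2
    obtain ⟨-, I3, I4⟩ := Groth.Agent.Lib.Helper18.Lie3.coords bs hI2'
    linear_combination (z1 * y2' + z2 * z2') * I1 + I4 - (z1 * y1' + z2 * z1') * I2
  constructor
  · intro hα2
    by_cases hα0 : α = 0
    · -- a = 0: z central
      have ha0 : a = 0 := by rw [ha, hα0, map_zero]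
      have hxz0 : ⁅bs 0, bs 2⁆ = 0 := by rw [hxz, ha0, zero_smul]
      obtain ⟨hz0, hz1⟩ := central_eqs bs hxy hxz0 hyz φ z0 z1 z2 hZ
      obtain ⟨hz0', hz1'⟩ := central_eqs bs hxy hxz0 hyz φ.symm z0' z1' z2' hZ'
      have hD := key hz0 hz0'
      subst hz0 hz1 hz0' hz1'
      have hy2 : y2 = 0 := by rw [E2, ha0, zero_mul]
      have hy2' : y2' = 0 := by rw [E2', ha0, zero_mul]
      subst hy2 hy2'
      have hD' : y1 * z2 * (y1' * z2') = 1 := by linear_combination hD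
      have hx0 : x0 = 1 := by
        have h1 : (x0 - 1) * y1 = 0 := by linear_combination -E1
        linear_combination (z2 * (y1' * z2')) * h1 - (x0 - 1) * hD'
      subst hx0
      refine ⟨x1, x2, y1, z2, ?_, ?_, ?_, ?_, ?_⟩
      · exact IsUnit.of_mul_eq_one (z2 * (y1' * z2')) (by linear_combination hD')
      · exact IsUnit.of_mul_eq_one (y1 * (y1' * z2')) (by linear_combination hD')
      · rw [hX]; module
      · rw [hY]; module
      · rw [hZ]; module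
    · -- a unit, a^2 - 1 unit, a - 1 unit
      obtain ⟨ai, hai⟩ : ∃ ai : A, a * ai = 1 :=
        ⟨algebraMap K A α⁻¹, by rw [ha, ← map_mul, mul_inv_cancel₀ hα0, map_one]⟩
      have hα2' : α ^ 2 - 1 ≠ 0 := sub_ne_zero.mpr hα2
      obtain ⟨wi, hwi⟩ : ∃ wi : A, (a ^ 2 - 1) * wi = 1 :=
        ⟨algebraMap K A (α ^ 2 - 1)⁻¹, by
          rw [ha, ← map_pow, ← map_one (algebraMap K A), ← map_sub, ← map_mul,
            mul_inv_cancel₀ hα2', map_one]⟩
      have hα1 : α - 1 ≠ 0 := by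
        intro h
        apply hα2
        have : α = 1 := sub_eq_zero.mp h
        rw [this, one_pow]
      obtain ⟨vi, hvi⟩ : ∃ vi : A, (a - 1) * vi = 1 :=
        ⟨algebraMap K A (α - 1)⁻¹, by
          rw [ha, ← map_one (algebraMap K A), ← map_sub, ← map_mul,
            mul_inv_cancel₀ hα1, map_one]⟩
      have hz0 : z0 = 0 := by linear_combination ai * E3 - z0 * hai
      have hz0' : z0' = 0 := by linear_combination ai * E3' - z0' * hai
      have hD := key hz0 hz0'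
      subst hz0 hz0'
      have R1 : (x0 - 1) * y1 = 0 := by linear_combination -E1
      have R2 : (a * x0 - 1) * y2 = 0 := by linear_combination -E2
      have R3 : (x0 - a) * z1 = 0 := by linear_combination -E4
      have R4 : (x0 - 1) * z2 = 0 := by linear_combination (-ai) * E5 - (x0 * z2 - z2) * hai
      have hyz1 : y2 * z1 = 0 := by
        have h1 : (a ^ 2 - 1) * (y2 * z1) = 0 := by
          linear_combination z1 * R2 - (a * y2) * R3
        linear_combination wi * h1 - (y2 * z1) * hwi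
      have hD' : y1 * z2 * (y1' * z2' - y2' * z1') = 1 := by
        linear_combination hD + (y1' * z2' - y2' * z1') * hyz1
      have hx0 : x0 = 1 := by
        linear_combination (z2 * (y1' * z2' - y2' * z1')) * R1 - (x0 - 1) * hD'
      subst hx0
      have hy2 : y2 = 0 := by linear_combination vi * R2 - y2 * hvi
      have hz1 : z1 = 0 := by linear_combination (-vi) * R3 - z1 * hvi
      subst hy2 hz1
      refine ⟨x1, x2, y1, z2, ?_, ?_, ?_, ?_, ?_⟩
      · exact IsUnit.of_mul_eq_one (z2 * (y1' * z2' - y2' * z1')) (by linear_combination hD')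
      · exact IsUnit.of_mul_eq_one (y1 * (y1' * z2' - y2' * z1')) (by linear_combination hD')
      · rw [hX]; module
      · rw [hY]; module
      · rw [hZ]; module
  · intro hα1
    have ha1 : a = 1 := by rw [ha, hα1, map_one]
    have hz0 : z0 = 0 := by linear_combination E3 - z0 * ha1
    have hz0' : z0' = 0 := by linear_combination E3' - z0' * ha1
    have hD := key hz0 hz0'
    subst hz0 hz0'
    have R1 : (x0 - 1) * y1 = 0 := by linear_combination -E1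
    have R2 : (x0 - 1) * y2 = 0 := by linear_combination -E2 - (x0 * y2) * ha1
    have hx0 : x0 = 1 := by
      linear_combination ((y1' * z2' - y2' * z1') * z2) * R1 - ((y1' * z2' - y2' * z1') * z1) * R2 -
        (x0 - 1) * hD
    subst hx0
    refine ⟨x1, x2, y1, y2, z1, z2, ?_, ?_, ?_, ?_⟩
    · exact IsUnit.of_mul_eq_one (y1' * z2' - y2' * z1') hD
    · rw [hX]; module
    · rw [hY]; module
    · rw [hZ]; module

end Groth.Agent.S13102
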