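import Groth.Statements.S13104
import Groth.Agent.Lib27.Sch.SpecEpi

set_option autoImplicit false
universe u
open GrpSch

namespace Groth.Agent.S13104

open CategoryTheory AlgebraicGeometry in
/-- Let B be a commutative ring, B[ε] the ring of dual numbers (ε² = 0) and B[α, β]/(α², β²) the double
dual numbers, realised as dual numbers over the dual numbers with α the inner and β the outer
generator, and let ψ : B[ε] → B[α, β]/(α², β²) be the B-algebra homomorphism with ψ(ε) = αβ. Then
for every scheme G the map u ↦ Spec(ψ) ≫ u from morphisms Spec B[ε] → G to morphisms Spec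
B[α,β]/(α²,β²) → G is injective. (The printed statement is its consequence for a group scheme G: the
map Lie(G)(B) → G(B[α,β]/(α²,β²)), x ↦ exp(αβ x), is injective; the injectivity on all B[ε]-points
stated here is what the printed argument establishes.) -/
theorem result (B : Type u) [CommRing B]
    (ψ : DualNumber B →+* DualNumber (DualNumber B))
    (hψB : ∀ b : B, ψ (algebraMap B (DualNumber B) b) = algebraMap B (DualNumber (DualNumber B)) b)
    (hψ : ψ DualNumber.eps = algebraMap (DualNumber B) (DualNumber (DualNumber B)) DualNumber.eps * DualNumber.eps)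
    (G : Scheme.{u}) :
    Function.Injective (fun u : Spec (CommRingCat.of (DualNumber B)) ⟶ G =>
      Spec.map (CommRingCat.ofHom (R := DualNumber B) (S := DualNumber (DualNumber B)) ψ) ≫ u) := by
  have hx : ∀ x : DualNumber B, x = algebraMap B (DualNumber B) x.fst +
      algebraMap B (DualNumber B) x.snd * DualNumber.eps := by
    intro x
    ext <;> simp [TrivSqZeroExt.algebraMap_eq_inl]
  have hψx : ∀ x : DualNumber B, ψ x = algebraMap B (DualNumber (DualNumber B)) x.fst +
      algebraMap B (DualNumber (DualNumber B)) x.snd *
        (algebraMap (DualNumber B) (DualNumber (DualNumber B)) DualNumber.eps * DualNumber.eps) := by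
    intro x
    conv_lhs => rw [hx x]
    rw [map_add, map_mul, hψB, hψB, hψ]
  have hfst : ∀ x : DualNumber B, (ψ x).fst.fst = x.fst := by
    intro x
    rw [hψx]
    simp [TrivSqZeroExt.algebraMap_eq_inl, TrivSqZeroExt.algebraMap_eq_inl']
  have hsnd : ∀ x : DualNumber B, (ψ x).snd.snd = x.snd := by
    intro x
    rw [hψx]
    simp [TrivSqZeroExt.algebraMap_eq_inl, TrivSqZeroExt.algebraMap_eq_inl']
  have hinj : Function.Injective ψ := by
    intro x y hxy
    ext
    · rw [← hfst x, ← hfst y, hxy]
    · rw [← hsnd x, ← hsnd y, hxy]
  let r : DualNumber (DualNumber B) →+* B :=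
    (TrivSqZeroExt.fstHom B B B : DualNumber B →+* B).comp
      (TrivSqZeroExt.fstHom (DualNumber B) (DualNumber B) (DualNumber B) :
        DualNumber (DualNumber B) →+* DualNumber B)
  have hr : r.comp ψ = (TrivSqZeroExt.fstHom B B B : DualNumber B →+* B) :=
    RingHom.ext fun x => hfst x
  have hsurj : Function.Surjective
      (Spec.map (CommRingCat.ofHom (R := DualNumber B) (S := DualNumber (DualNumber B)) ψ)).base := by
    intro p
    have hp : (p : PrimeSpectrum (DualNumber B)) ∈
        Set.range (PrimeSpectrum.comap (R := DualNumber B) (S := B)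
          (TrivSqZeroExt.fstHom B B B : DualNumber B →+* B)) := by
      rw [_root_.range_comap_of_surjective _ _ (fun b => ⟨TrivSqZeroExt.inl b, rfl⟩)]
      intro x hx
      have hx0 : x.fst = 0 := hx
      have hsq : x * x = 0 := by
        ext <;> simp [hx0]
      have : x * x ∈ (p : PrimeSpectrum (DualNumber B)).asIdeal := by
        rw [hsq]; exact Ideal.zero_mem _
      rcases (p : PrimeSpectrum (DualNumber B)).isPrime.mem_or_mem this with h | h <;> exact h
    obtain ⟨p₀, hp₀⟩ := hp
    refine ⟨PrimeSpectrum.comap (R := DualNumber (DualNumber B)) (S := B) r p₀, ?_⟩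
    change PrimeSpectrum.comap (R := DualNumber B) (S := DualNumber (DualNumber B)) ψ
      (PrimeSpectrum.comap (R := DualNumber (DualNumber B)) (S := B) r p₀) = p
    rw [← hp₀, ← hr]
    rfl
  intro u v huv
  exact Groth.Agent.Lib27.SpecEpi.comp_eq_of_injective
    (CommRingCat.ofHom (R := DualNumber B) (S := DualNumber (DualNumber B)) ψ) hinj hsurj u v huv

end Groth.Agent.S13104
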