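import Groth.Statements.S13106
import Mathlib

set_option autoImplicit false
universe u
open GrpSch

namespace Groth.Agent.S13106

open CategoryTheory AlgebraicGeometry in
/-- Let f : X → Y be a morphism of schemes and U ⊆ Y a schematically dense open subscheme (for every
open V of Y, restriction of functions from V to V ∩ U is injective) such that the restriction f⁻¹(U)
→ U of f is an isomorphism. Then two morphisms from Y to a scheme separated over a base T that agree
after composing with f and have the same composite to T are equal: if Z → T is separated and v₁, v₂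
: Y → Z satisfy v₁ ≫ (Z → T) = v₂ ≫ (Z → T) and f ≫ v₁ = f ≫ v₂, then v₁ = v₂. (The published
statement is the case of a morphism between two prolongations over A[[t]] of a finite group scheme
over A((t)), where U is the generic fibre, schematically dense by flatness; uniqueness of
prolongation maps follows.) -/
theorem result {X Y Z T : Scheme.{u}} (f : X ⟶ Y)
    (U : Y.Opens) (hU : CInt.IsSchematicallyDense U) [IsIso (f ∣_ U)]
    (z : Z ⟶ T) [IsSeparated z] (v₁ v₂ : Y ⟶ Z) (hz : v₁ ≫ z = v₂ ≫ z) (h : f ≫ v₁ = f ≫ v₂) :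
    v₁ = v₂ := by
  -- the Limits.equalizer over `T`
  let Y' : Over T := Over.mk (v₁ ≫ z)
  let Z' : Over T := Over.mk z
  let f₁ : Y' ⟶ Z' := Over.homMk v₁
  let f₂ : Y' ⟶ Z' := Over.homMk v₂ hz.symm
  have : IsSeparated Z'.hom := ‹_›
  let e : (Limits.equalizer f₁ f₂).left ⟶ Y := (Limits.equalizer.ι f₁ f₂).left
  have he : IsClosedImmersion e := inferInstance
  -- `U.ι` equalizes
  have hUι : U.ι ≫ v₁ = U.ι ≫ v₂ := by
    have h1 : (f ∣_ U) ≫ U.ι = (f ⁻¹ᵁ U).ι ≫ f := morphismRestrict_ι f U
    have h2 : U.ι = inv (f ∣_ U) ≫ (f ⁻¹ᵁ U).ι ≫ f := by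
      rw [← h1, IsIso.inv_hom_id_assoc]
    rw [h2, Category.assoc, Category.assoc, Category.assoc, Category.assoc, h]
  let U' : Over T := Over.mk (U.ι ≫ v₁ ≫ z)
  let ι' : U' ⟶ Y' := Over.homMk U.ι
  let g : U'.left ⟶ (Limits.equalizer f₁ f₂).left := (Limits.equalizer.lift ι' (by ext1; exact hUι)).left
  have hg : g ≫ e = U.ι := by
    change (Limits.equalizer.lift ι' _).left ≫ (Limits.equalizer.ι f₁ f₂).left = _
    rw [← Over.comp_left, Limits.equalizer.lift_ι]
    rfl
  -- `U.ι` has trivial kernel
  have hker : U.ι.ker = ⊥ := by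
    refine Scheme.IdealSheafData.ext ?_
    funext V
    rw [Scheme.IdealSheafData.ideal_bot, Pi.bot_apply, eq_bot_iff]
    refine (Scheme.Hom.ideal_ker_le U.ι V).trans ?_
    rw [le_bot_iff, ← RingHom.injective_iff_ker_eq_bot]
    have hV := hU V.1
    rw [Scheme.Opens.ι_app]
    have heq : U.ι ''ᵁ U.ι ⁻¹ᵁ V.1 = V.1 ⊓ U := by
      rw [Scheme.Hom.image_preimage_eq_opensRange_inf, Scheme.Opens.opensRange_ι]; exact inf_comm _ _
    have hmap : (Y.presheaf.map (homOfLE (x := U.ι ''ᵁ U.ι ⁻¹ᵁ V.1) (Set.image_preimage_subset _ _)).op) =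
        Y.presheaf.map (homOfLE (inf_le_left : V.1 ⊓ U ≤ V.1)).op ≫
          Y.presheaf.map (eqToHom heq).op := by
      rw [← Functor.map_comp]; rfl
    rw [hmap]
    have hiso : Function.Injective (Y.presheaf.map (eqToHom heq).op) :=
      ((ConcreteCategory.isIso_iff_bijective _).mp inferInstance).1
    exact hiso.comp hV
  have hek : e.ker = ⊥ := by
    apply le_antisymm _ bot_le
    rw [← hker, ← hg]
    exact Scheme.Hom.le_ker_comp g e
  have : IsIso e := IsClosedImmersion.isIso_iff_ker_eq_bot.mpr hek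
  rw [← cancel_epi e]
  exact congr($(Limits.equalizer.condition f₁ f₂).left)

end Groth.Agent.S13106
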