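import Groth.Statements.S13107
import Mathlib
import Groth.Agent.Lib.Helper18.Lie3

set_option autoImplicit false
universe u v w
open GrpSch

namespace Groth.Agent.S13107



open Groth.Agent.Lib.Helper18.Lie3 in
lemma f_eqs {A : Type*} [CommRing A] {F : Type*} [LieRing F] [LieAlgebra A F]
    (bF : Module.Basis (Fin 3) A F) (T : A)
    (hF01 : ⁅bF 0, bF 1⁆ = bF 2) (hF02 : ⁅bF 0, bF 2⁆ = T • bF 1) (hF12 : ⁅bF 1, bF 2⁆ = 0)
    (X Y : F) (x0 x1 x2 y0 y1 y2 : A)
    (hX : X = x0 • bF 0 + x1 • bF 1 + x2 • bF 2)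
    (hY : Y = y0 • bF 0 + y1 • bF 1 + y2 • bF 2)
    (hy : Y = ⁅X, Y⁆) :
    y0 = 0 ∧ y1 = T * (x0 * y2 - x2 * y0) ∧ y2 = x0 * y1 - x1 * y0 := by
  rw [hX, hY, lie_expand, hF01, hF02, hF12] at hy
  have hy' : y0 • bF 0 + y1 • bF 1 + y2 • bF 2 = (0 : A) • bF 0 +
      (T * (x0 * y2 - x2 * y0)) • bF 1 + (x0 * y1 - x1 * y0) • bF 2 := by
    rw [hy]; module
  exact coords bF hy'

lemma eq_zero_of_coords {A : Type*} [CommRing A] {F : Type*} [AddCommGroup F] [Module A F]
    (bF : Module.Basis (Fin 3) A F) (Y : F) (y0 y1 y2 : A)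
    (hY : Y = y0 • bF 0 + y1 • bF 1 + y2 • bF 2) (h0 : y0 = 0) (h1 : y1 = 0) (h2 : y2 = 0) :
    Y = 0 := by
  rw [hY, h0, h1, h2, zero_smul, zero_smul, zero_smul, add_zero, add_zero]

/-- Let k be a field, K = k((t)) the field of Laurent series over k, F a Lie algebra over K with a basis
x' = bF 0, y' = bF 1, z' = bF 2 and brackets [x',y'] = z', [x',z'] = t y', [y',z'] = 0, and L a Lie
algebra over K with a basis x = bL 0, y = bL 1, z = bL 2 and brackets [x,y] = y, [x,z] = −z, [y,z] =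
0. Then there is no K-linear isomorphism of Lie algebras between L and F: F is a non-trivial form of
L over K. (The published result is the classification of three-dimensional Lie algebras over k((t))
for k algebraically closed of characteristic not 2, with F its only non-split entry; this row states
the non-isomorphism of F and L over k((t)) for every field k.) -/
theorem result (k : Type u) [Field k]
    (F : Type v) [LieRing F] [LieAlgebra (LaurentSeries k) F] (bF : Module.Basis (Fin 3) (LaurentSeries k) F)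
    (hF01 : ⁅bF 0, bF 1⁆ = bF 2) (hF02 : ⁅bF 0, bF 2⁆ = (HahnSeries.single 1 (1 : k) : LaurentSeries k) • bF 1)
    (hF12 : ⁅bF 1, bF 2⁆ = 0)
    (L : Type w) [LieRing L] [LieAlgebra (LaurentSeries k) L] (bL : Module.Basis (Fin 3) (LaurentSeries k) L)
    (hL01 : ⁅bL 0, bL 1⁆ = bL 1) (hL02 : ⁅bL 0, bL 2⁆ = -bL 2) (hL12 : ⁅bL 1, bL 2⁆ = 0) :
    IsEmpty (L ≃ₗ⁅LaurentSeries k⁆ F) := by

  classical
  refine ⟨fun φ => ?_⟩
  obtain ⟨x0, x1, x2, hX⟩ : ∃ x0 x1 x2 : LaurentSeries k,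
      φ (bL 0) = x0 • bF 0 + x1 • bF 1 + x2 • bF 2 :=
    ⟨_, _, _, Groth.Agent.Lib.Helper18.Lie3.decomp bF _⟩
  obtain ⟨y0, y1, y2, hY⟩ : ∃ y0 y1 y2 : LaurentSeries k,
      φ (bL 1) = y0 • bF 0 + y1 • bF 1 + y2 • bF 2 :=
    ⟨_, _, _, Groth.Agent.Lib.Helper18.Lie3.decomp bF _⟩
  set T : LaurentSeries k := HahnSeries.single 1 (1 : k) with hT
  have hy : φ (bL 1) = ⁅φ (bL 0), φ (bL 1)⁆ := by rw [← LieEquiv.map_lie, hL01]
  have hYne : φ (bL 1) ≠ 0 := by
    intro h
    have h1 : bL 1 = 0 := by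
      have := congrArg φ.symm h
      rwa [LieEquiv.symm_apply_apply, map_zero] at this
    exact bL.ne_zero 1 h1
  obtain ⟨e0, e1, e2⟩ := f_eqs bF T hF01 hF02 hF12 _ _ _ _ _ _ _ _ hX hY hy
  have hy1 : y1 ≠ 0 := by
    intro h
    apply hYne
    have h2 : y2 = 0 := by rw [e2, h, e0]; ring
    exact eq_zero_of_coords bF _ _ _ _ hY e0 h h2
  have hsq : T * x0 ^ 2 = 1 := by
    have h1 : (T * x0 ^ 2 - 1) * y1 = 0 := by
      rw [e0] at e1 e2
      linear_combination (-1 : LaurentSeries k) * e1 - (T * x0) * e2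
    have h2 := (mul_eq_zero.mp h1).resolve_right hy1
    linear_combination h2
  have hx0 : x0 ≠ 0 := by
    intro h
    rw [h] at hsq
    simp at hsq
  have hTne : T ≠ 0 := by
    intro h
    rw [h, zero_mul] at hsq
    exact zero_ne_one hsq
  have hord := congrArg HahnSeries.order hsq
  rw [HahnSeries.order_mul hTne (pow_ne_zero 2 hx0), pow_two, HahnSeries.order_mul hx0 hx0,
    HahnSeries.order_one, hT, HahnSeries.order_single one_ne_zero] at hord
  omega

end Groth.Agent.S13107
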