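import Groth.Statements.S13108
import Mathlib
import Groth.Agent.Lib.Helper18.Lie3

set_option autoImplicit false
universe u v w
open GrpSch

namespace Groth.Agent.S13108



open Groth.Agent.Lib.Helper18.Lie3 in
lemma bracket_eqs2 {A : Type*} [CommRing A] {L : Type*} [LieRing L] [LieAlgebra A L]
    {L' : Type*} [LieRing L'] [LieAlgebra A L']
    (bs : Module.Basis (Fin 3) A L) (bs' : Module.Basis (Fin 3) A L') (a a' : A)
    (hxy : ⁅bs 0, bs 1⁆ = bs 1) (hxz : ⁅bs 0, bs 2⁆ = a • bs 2)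
    (hxy' : ⁅bs' 0, bs' 1⁆ = bs' 1) (hxz' : ⁅bs' 0, bs' 2⁆ = a' • bs' 2) (hyz' : ⁅bs' 1, bs' 2⁆ = 0)
    (θ : L ≃ₗ⁅A⁆ L') (x0 x1 x2 y0 y1 y2 z0 z1 z2 : A)
    (hX : θ (bs 0) = x0 • bs' 0 + x1 • bs' 1 + x2 • bs' 2)
    (hY : θ (bs 1) = y0 • bs' 0 + y1 • bs' 1 + y2 • bs' 2)
    (hZ : θ (bs 2) = z0 • bs' 0 + z1 • bs' 1 + z2 • bs' 2) :
    y0 = 0 ∧ y1 = x0 * y1 - x1 * y0 ∧ y2 = a' * (x0 * y2 - x2 * y0) ∧ a * z0 = 0 ∧
      a * z1 = x0 * z1 - x1 * z0 ∧ a * z2 = a' * (x0 * z2 - x2 * z0) := by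
  have hy : θ (bs 1) = ⁅θ (bs 0), θ (bs 1)⁆ := by rw [← LieEquiv.map_lie, hxy]
  rw [hX, hY, lie_expand, hxy', hxz', hyz'] at hy
  have hy' : y0 • bs' 0 + y1 • bs' 1 + y2 • bs' 2 = (0 : A) • bs' 0 +
      (x0 * y1 - x1 * y0) • bs' 1 + (a' * (x0 * y2 - x2 * y0)) • bs' 2 := by
    rw [hy]; module
  obtain ⟨e0, e1, e2⟩ := coords bs' hy'
  have hz : a • θ (bs 2) = ⁅θ (bs 0), θ (bs 2)⁆ := by
    rw [← LieEquiv.map_lie, hxz, map_smul]
  rw [hX, hZ, lie_expand, hxy', hxz', hyz'] at hz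
  have hz' : (a * z0) • bs' 0 + (a * z1) • bs' 1 + (a * z2) • bs' 2 = (0 : A) • bs' 0 +
      (x0 * z1 - x1 * z0) • bs' 1 + (a' * (x0 * z2 - x2 * z0)) • bs' 2 := by
    have : (a * z0) • bs' 0 + (a * z1) • bs' 1 + (a * z2) • bs' 2 =
        a • (z0 • bs' 0 + z1 • bs' 1 + z2 • bs' 2) := by module
    rw [this, hz]; module
  obtain ⟨f0, f1, f2⟩ := coords bs' hz'
  exact ⟨e0, e1, e2, f0, f1, f2⟩

open Groth.Agent.Lib.Helper18.Lie3 in
lemma lieEquiv_of_bases {k : Type*} [Field k] {L : Type*} [LieRing L] [LieAlgebra k L]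
    {L' : Type*} [LieRing L'] [LieAlgebra k L']
    (b : Module.Basis (Fin 3) k L) (c : Module.Basis (Fin 3) k L') (t : k)
    (h01 : ⁅b 0, b 1⁆ = b 1) (h02 : ⁅b 0, b 2⁆ = t • b 2) (h12 : ⁅b 1, b 2⁆ = 0)
    (g01 : ⁅c 0, c 1⁆ = c 1) (g02 : ⁅c 0, c 2⁆ = t • c 2) (g12 : ⁅c 1, c 2⁆ = 0) :
    Nonempty (L ≃ₗ⁅k⁆ L') := by
  let f : L ≃ₗ[k] L' := b.equiv c (Equiv.refl _)
  have hf : ∀ i, f (b i) = c i := fun i => by
    show b.equiv c (Equiv.refl _) (b i) = c i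
    rw [Module.Basis.equiv_apply]; rfl
  have hmap : ∀ u v : L, f ⁅u, v⁆ = ⁅f u, f v⁆ := by
    intro u v
    rw [decomp b u, decomp b v, lie_expand]
    simp only [map_add, map_smul, hf]
    rw [lie_expand, h01, h02, h12, g01, g02, g12]
    simp only [map_smul, map_zero, hf]
  let fL : L →ₗ⁅k⁆ L' := { (f : L →ₗ[k] L') with map_lie' := fun {u v} => hmap u v }
  exact ⟨{ fL with invFun := f.symm, left_inv := f.left_inv, right_inv := f.right_inv }⟩

/-- Let k be a field and t, t' ∈ k both non-zero; let L be a Lie algebra over k with a basis x = b 0, y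
= b 1, z = b 2 and brackets [x,y] = y, [x,z] = t z, [y,z] = 0, and L' a Lie algebra over k with a
basis x' = b' 0, y' = b' 1, z' = b' 2 and brackets [x',y'] = y', [x',z'] = t' z', [y',z'] = 0. Then
L and L' are isomorphic Lie algebras over k if and only if t' = t or t' = t⁻¹. -/
theorem result (k : Type u) [Field k] (t t' : k) (ht : t ≠ 0) (ht' : t' ≠ 0)
    (L : Type v) [LieRing L] [LieAlgebra k L] (b : Module.Basis (Fin 3) k L)
    (h01 : ⁅b 0, b 1⁆ = b 1) (h02 : ⁅b 0, b 2⁆ = t • b 2) (h12 : ⁅b 1, b 2⁆ = 0)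
    (L' : Type w) [LieRing L'] [LieAlgebra k L'] (b' : Module.Basis (Fin 3) k L')
    (h01' : ⁅b' 0, b' 1⁆ = b' 1) (h02' : ⁅b' 0, b' 2⁆ = t' • b' 2) (h12' : ⁅b' 1, b' 2⁆ = 0) :
    Nonempty (L ≃ₗ⁅k⁆ L') ↔ (t' = t ∨ t' = t⁻¹) := by

  constructor
  · rintro ⟨φ⟩
    obtain ⟨x0, x1, x2, hX⟩ : ∃ x0 x1 x2 : k, φ (b 0) = x0 • b' 0 + x1 • b' 1 + x2 • b' 2 :=
      ⟨_, _, _, Groth.Agent.Lib.Helper18.Lie3.decomp b' _⟩
    obtain ⟨y0, y1, y2, hY⟩ : ∃ y0 y1 y2 : k, φ (b 1) = y0 • b' 0 + y1 • b' 1 + y2 • b' 2 :=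
      ⟨_, _, _, Groth.Agent.Lib.Helper18.Lie3.decomp b' _⟩
    obtain ⟨z0, z1, z2, hZ⟩ : ∃ z0 z1 z2 : k, φ (b 2) = z0 • b' 0 + z1 • b' 1 + z2 • b' 2 :=
      ⟨_, _, _, Groth.Agent.Lib.Helper18.Lie3.decomp b' _⟩
    obtain ⟨x0', x1', x2', hX'⟩ : ∃ x0 x1 x2 : k,
        φ.symm (b' 0) = x0 • b 0 + x1 • b 1 + x2 • b 2 :=
      ⟨_, _, _, Groth.Agent.Lib.Helper18.Lie3.decomp b _⟩
    obtain ⟨y0', y1', y2', hY'⟩ : ∃ y0 y1 y2 : k,
        φ.symm (b' 1) = y0 • b 0 + y1 • b 1 + y2 • b 2 :=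
      ⟨_, _, _, Groth.Agent.Lib.Helper18.Lie3.decomp b _⟩
    obtain ⟨z0', z1', z2', hZ'⟩ : ∃ z0 z1 z2 : k,
        φ.symm (b' 2) = z0 • b 0 + z1 • b 1 + z2 • b 2 :=
      ⟨_, _, _, Groth.Agent.Lib.Helper18.Lie3.decomp b _⟩
    obtain ⟨hy0, E1, E2, E3, E4, E5⟩ :=
      bracket_eqs2 b b' t t' h01 h02 h01' h02' h12' φ _ _ _ _ _ _ _ _ _ hX hY hZ
    obtain ⟨hy0', E1', E2', E3', E4', E5'⟩ :=
      bracket_eqs2 b' b t' t h01' h02' h01 h02 h12 φ.symm _ _ _ _ _ _ _ _ _ hX' hY' hZ'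
    have hz0 : z0 = 0 := (mul_eq_zero.mp E3).resolve_left ht
    have hz0' : z0' = 0 := (mul_eq_zero.mp E3').resolve_left ht'
    subst hy0 hy0' hz0 hz0'
    have hI1 : φ.symm (φ (b 1)) = b 1 := φ.symm_apply_apply _
    rw [hY, map_add, map_add, map_smul, map_smul, map_smul, hX', hY', hZ'] at hI1
    have hI1' : (0 : k) • b 0 + (y1 * y1' + y2 * z1') • b 1 + (y1 * y2' + y2 * z2') • b 2 =
        (0 : k) • b 0 + (1 : k) • b 1 + (0 : k) • b 2 := by
      have : (0 : k) • b 0 + (1 : k) • b 1 + (0 : k) • b 2 = b 1 := by module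
      rw [this]
      exact Eq.trans (by module) hI1
    obtain ⟨-, I1, I2⟩ := Groth.Agent.Lib.Helper18.Lie3.coords b hI1'
    have hI2 : φ.symm (φ (b 2)) = b 2 := φ.symm_apply_apply _
    rw [hZ, map_add, map_add, map_smul, map_smul, map_smul, hX', hY', hZ'] at hI2
    have hI2' : (0 : k) • b 0 + (z1 * y1' + z2 * z1') • b 1 + (z1 * y2' + z2 * z2') • b 2 =
        (0 : k) • b 0 + (0 : k) • b 1 + (1 : k) • b 2 := by
      have : (0 : k) • b 0 + (0 : k) • b 1 + (1 : k) • b 2 = b 2 := by module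
      rw [this]
      exact Eq.trans (by module) hI2
    obtain ⟨-, I3, I4⟩ := Groth.Agent.Lib.Helper18.Lie3.coords b hI2'
    have hDD : (y1 * z2 - y2 * z1) * (y1' * z2' - y2' * z1') = 1 := by
      linear_combination (z1 * y2' + z2 * z2') * I1 + I4 - (z1 * y1' + z2 * z1') * I2
    have hD : y1 * z2 - y2 * z1 ≠ 0 := by
      intro h
      rw [h, zero_mul] at hDD
      exact zero_ne_one hDD
    have R1 : (x0 - 1) * y1 = 0 := by linear_combination -E1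
    have R2 : (t' * x0 - 1) * y2 = 0 := by linear_combination -E2
    have R3 : (x0 - t) * z1 = 0 := by linear_combination -E4
    have R4 : (t' * x0 - t) * z2 = 0 := by linear_combination -E5
    by_cases hyz : y1 * z2 = 0
    · have hyz' : y2 * z1 ≠ 0 := by
        intro h
        apply hD
        rw [hyz, h, sub_zero]
      have hy2 : y2 ≠ 0 := left_ne_zero_of_mul hyz'
      have hz1 : z1 ≠ 0 := right_ne_zero_of_mul hyz'
      have h1 : t' * x0 - 1 = 0 := (mul_eq_zero.mp R2).resolve_right hy2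
      have h2 : x0 - t = 0 := (mul_eq_zero.mp R3).resolve_right hz1
      right
      have h3 : t' * t = 1 := by linear_combination h1 - t' * h2
      exact eq_inv_of_mul_eq_one_left h3
    · have hy1 : y1 ≠ 0 := left_ne_zero_of_mul hyz
      have hz2 : z2 ≠ 0 := right_ne_zero_of_mul hyz
      have h1 : x0 - 1 = 0 := (mul_eq_zero.mp R1).resolve_right hy1
      have h2 : t' * x0 - t = 0 := (mul_eq_zero.mp R4).resolve_right hz2
      left
      linear_combination h2 - t' * h1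
  · rintro (h | h)
    · subst h
      exact lieEquiv_of_bases b b' t' h01 h02 h12 h01' h02' h12'
    · -- new basis of L': (t x', z', y')
      let w : Fin 3 → kˣ := fun i => if i = 0 then Units.mk0 t ht else 1
      let c : Module.Basis (Fin 3) k L' := (b'.reindex (Equiv.swap (1 : Fin 3) 2)).unitsSMul w
      have hc0 : c 0 = t • b' 0 := by
        show (b'.reindex (Equiv.swap (1 : Fin 3) 2)).unitsSMul w 0 = _
        rw [Module.Basis.unitsSMul_apply, Module.Basis.reindex_apply]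
        simp [w, Equiv.swap_apply_of_ne_of_ne]
      have hc1 : c 1 = b' 2 := by
        show (b'.reindex (Equiv.swap (1 : Fin 3) 2)).unitsSMul w 1 = _
        rw [Module.Basis.unitsSMul_apply, Module.Basis.reindex_apply]
        simp [w]
      have hc2 : c 2 = b' 1 := by
        show (b'.reindex (Equiv.swap (1 : Fin 3) 2)).unitsSMul w 2 = _
        rw [Module.Basis.unitsSMul_apply, Module.Basis.reindex_apply]
        simp [w]
      have htt : t * t' = 1 := by rw [h, mul_inv_cancel₀ ht]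
      refine lieEquiv_of_bases b c t h01 h02 h12 ?_ ?_ ?_
      · rw [hc0, hc1, smul_lie, h02', smul_smul, htt, one_smul]
      · rw [hc0, hc2, smul_lie, h01']
      · rw [hc1, hc2, ← lie_skew, h12', neg_zero]

end Groth.Agent.S13108
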