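import Groth.Statements.S1311
import Mathlib
import Groth.Agent.Lib.Helper10.ThickMono2

set_option autoImplicit false
universe u
open FlatMor

namespace Groth.Agent.S1311

open AlgebraicGeometry CategoryTheory Limits in
/-- Let S ⟶ S' be a finite order thickening and let X be the base change of a scheme X' over S' to S (so
X ⟶ X' is again a thickening). Then X ⟶ S is a monomorphism if and only if X' ⟶ S' is. -/
theorem result {X X' S S' : Scheme.{u}} (iX : X ⟶ X') (iS : S ⟶ S') (f : X ⟶ S) (f' : X' ⟶ S')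
    (hS : MoreMor.IsFiniteOrderThickening iS) (hc : IsPullback iX f f' iS) :
    Mono f ↔ Mono f' := by
  obtain ⟨⟨hcl, hsurj⟩, n, hn⟩ := hS
  haveI : IsClosedImmersion iS := hcl
  haveI : Surjective iS := hsurj
  haveI : IsClosedImmersion iX := MorphismProperty.of_isPullback (P := @IsClosedImmersion) hc.flip hcl
  haveI : Surjective iX := MorphismProperty.of_isPullback (P := @Surjective) hc.flip hsurj
  constructor
  · intro hf
    apply Groth.Agent.Lib.Helper10.Thick.mono_of_isPullback hc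
    intro x'
    -- an affine open U' of S' around f' x', and an affine open V' ≤ f'⁻¹ U' around x'
    obtain ⟨_, ⟨U', hU', rfl⟩, hxU', -⟩ :=
      S'.isBasis_affineOpens.exists_subset_of_mem_open (Set.mem_univ (f' x')) isOpen_univ
    obtain ⟨_, ⟨V', hV', rfl⟩, hxV', hV'U'⟩ :=
      X'.isBasis_affineOpens.exists_subset_of_mem_open (show x' ∈ ((f' ⁻¹ᵁ U' : X'.Opens) : Set X') from hxU')
        (f' ⁻¹ᵁ U').2
    refine ⟨V', hV', hxV', Or.inl ?_⟩
    have e : V' ≤ f' ⁻¹ᵁ U' := hV'U'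
    have hpo := Groth.Agent.Lib.Helper10.Thick.isPushout_sections hc hU' hV' e
    have hφ := Groth.Agent.Lib.Helper10.Thick.appLE_surjective (iY := iS) hU'
    have hker := Groth.Agent.Lib.Helper10.Thick.ker_le_map_of_isPushout _ _ _ _ hpo hφ
    have hnil : (RingHom.ker (iS.appLE U' (iS ⁻¹ᵁ U') le_rfl).hom) ^ n = ⊥ := by
      have h1 : (iS.ker ^ n).ideal ⟨U', hU'⟩ = (0 : S'.IdealSheafData).ideal ⟨U', hU'⟩ := by
        rw [hn]
      rw [Scheme.IdealSheafData.ideal_pow] at h1
      have h2 : (iS.ker.ideal ^ n) ⟨U', hU'⟩ = (iS.ker.ideal ⟨U', hU'⟩) ^ n := rfl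
      rw [h2, Scheme.Hom.ker_apply] at h1
      rw [Scheme.Hom.appLE_eq_app, h1]
      rfl
    refine ⟨n, ?_⟩
    rw [Ideal.zero_eq_bot, eq_bot_iff]
    calc (RingHom.ker (iX.appLE V' (iX ⁻¹ᵁ V') le_rfl).hom) ^ n
        ≤ ((RingHom.ker (iS.appLE U' (iS ⁻¹ᵁ U') le_rfl).hom).map (f'.appLE U' V' e).hom) ^ n :=
          Ideal.pow_right_mono hker n
      _ = ⊥ := by rw [← Ideal.map_pow, hnil, Ideal.map_bot]
  · intro hf'
    exact MorphismProperty.of_isPullback (P := MorphismProperty.monomorphisms Scheme) hc hf'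

end Groth.Agent.S1311
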