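import Groth.Statements.S13111
import Mathlib

set_option autoImplicit false
universe u
open HTop

namespace Groth.Agent.S13111

lemma exists_sqrt_of_cube_eq_sq {D : Type*} [CommRing D] [IsDomain D] [IsIntegrallyClosed D]
    (x y : D) (h : x ^ 3 = y ^ 2) : ∃ t : D, t ^ 2 = x ∧ t * x = y := by
  by_cases hx : x = 0
  · subst hx
    have : y = 0 := by
      have : y ^ 2 = 0 := by rw [← h]; ring
      exact pow_eq_zero_iff (two_ne_zero) |>.mp this
    exact ⟨0, by ring, by rw [this]; ring⟩
  · have hdvd : x ^ 2 ∣ y ^ 2 := ⟨x, by rw [← h]; ring⟩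
    obtain ⟨t, ht⟩ := (IsIntegrallyClosed.pow_dvd_pow_iff (two_ne_zero)).mp hdvd
    refine ⟨t, ?_, by rw [ht]; ring⟩
    have h2 : x ^ 2 * x = x ^ 2 * t ^ 2 := by
      rw [ht] at h
      linear_combination h
    exact (mul_left_cancel₀ (pow_ne_zero 2 hx) h2).symm

lemma field_div_sq {K : Type*} [Field K] (u v : K) (h : u ^ 3 = v ^ 2) :
    (v / u) ^ 2 = u ∧ (v / u) ^ 3 = v := by
  by_cases hu : u = 0
  · subst hu
    have hv : v = 0 := by
      have : v ^ 2 = 0 := by rw [← h]; ring
      exact pow_eq_zero_iff (two_ne_zero) |>.mp this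
    subst hv
    simp
  · constructor
    · field_simp
      linear_combination -h
    · field_simp
      linear_combination (-v) * h

lemma field_eq_div {K : Type*} [Field K] (u v t : K) (h1 : t ^ 2 = u) (h2 : t * u = v) :
    t = v / u := by
  by_cases hu : u = 0
  · subst hu
    have ht : t = 0 := pow_eq_zero_iff (two_ne_zero) |>.mp h1
    subst ht
    simp
  · rw [eq_div_iff hu, h2]


open AlgebraicGeometry W4c1hilbchowinc in
/-- Let A be a reduced Noetherian ring whose integral closure in its total ring of fractions is a finite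
A-module. Suppose that any pointwise function on Spec A that is algebraic along every discrete
valuation ring (for every discrete valuation ring R and every morphism Spec R → Spec A there is an
element of R whose values at the two points of Spec R are the images of the chosen values) is the
family of values of exactly one global section. Then A is seminormal: whenever x^3 = y^2 there is
exactly one a with x = a^2 and y = a^3. Test rings range over the universe of A. -/
theorem result
    (A : Type u) [CommRing A] [IsReduced A] [IsNoetherianRing A]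
    (hfin : Module.Finite A (integralClosure A (FractionRing A)))
    (h : ∀ f : PtFun (Spec (CommRingCat.of A)), f.VariesAlongDVR →
      ∃! a : Γ(Spec (CommRingCat.of A), ⊤), PtFun.ofSection (Spec (CommRingCat.of A)) a = f) :
    HTop.IsSeminormalRing A := by
  classical
  intro x y hxy
  set X := Spec (CommRingCat.of A) with hX
  let e : A ≃+* Γ(X, ⊤) := (Scheme.ΓSpecIso (CommRingCat.of A)).symm.commRingCatIsoToRingEquiv
  -- uniqueness from reducedness
  have huniq : ∀ a b : A, a ^ 2 = b ^ 2 → a ^ 3 = b ^ 3 → a = b := by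
    intro a b h2 h3
    have : (a - b) ^ 3 = 0 := by
      have e1 : (a - b) ^ 3 = a ^ 3 - 3 * a ^ 2 * b + 3 * a * b ^ 2 - b ^ 3 := by ring
      rw [e1, h2, h3, ← h2]
      have : b ^ 3 - 3 * a ^ 2 * b + 3 * a * a ^ 2 - b ^ 3 = 3 * a ^ 3 - 3 * a ^ 2 * b := by ring
      rw [this, h3, h2]; ring
    have := IsReduced.eq_zero _ ⟨3, this⟩
    exact sub_eq_zero.mp this
  obtain ⟨X', hX'⟩ : ∃ X' : Γ(X, ⊤), X' = e x := ⟨_, rfl⟩
  obtain ⟨Y', hY'⟩ : ∃ Y' : Γ(X, ⊤), Y' = e y := ⟨_, rfl⟩
  have hXY : X' ^ 3 = Y' ^ 2 := by rw [hX', hY', ← map_pow, ← map_pow, hxy]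
  let f : PtFun X := fun p => X.Γevaluation p Y' / X.Γevaluation p X'
  have hf : f.VariesAlongDVR := by
    intro R _ _ _ g
    let eR : R ≃+* Γ(Spec (CommRingCat.of R), ⊤) :=
      (Scheme.ΓSpecIso (CommRingCat.of R)).symm.commRingCatIsoToRingEquiv
    haveI : IsDomain Γ(Spec (CommRingCat.of R), ⊤) := eR.toMulEquiv.isDomain_iff.mp inferInstance |> fun h => h
    haveI : IsIntegrallyClosed Γ(Spec (CommRingCat.of R), ⊤) := IsIntegrallyClosed.of_equiv eR
    set x' := g.appTop X' with hx'
    set y' := g.appTop Y' with hy'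
    have hxy' : x' ^ 3 = y' ^ 2 := by
      have := congrArg (fun s => g.appTop s) hXY
      simpa only [map_pow] using this
    obtain ⟨t, ht1, ht2⟩ := exists_sqrt_of_cube_eq_sq x' y' hxy'
    refine ⟨t, ?_⟩
    funext q
    show (Spec (CommRingCat.of R)).Γevaluation q t = g.residueFieldMap q (f (g q))
    show _ = g.residueFieldMap q (X.Γevaluation (g q) Y' / X.Γevaluation (g q) X')
    rw [map_div₀, Scheme.Γevaluation_naturality_apply, Scheme.Γevaluation_naturality_apply]
    apply field_eq_div
    · rw [← map_pow, ht1]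
    · rw [← map_mul, ht2]
  obtain ⟨a, ha, -⟩ := h f hf
  have hval : ∀ p : X, X.Γevaluation p a = X.Γevaluation p Y' / X.Γevaluation p X' := by
    intro p
    exact congrFun ha p
  have hzero : ∀ s : Γ(X, ⊤), (∀ p : X, X.Γevaluation p s = 0) → s = 0 := by
    intro s hs
    rw [← basicOpen_eq_bot_iff, Scheme.basicOpen_eq_bot_iff_forall_evaluation_eq_zero]
    intro p
    exact hs p
  have hdiv : ∀ p : X, (X.Γevaluation p X') ^ 3 = (X.Γevaluation p Y') ^ 2 := by
    intro p
    have := congrArg (fun s => X.Γevaluation p s) hXY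
    simpa only [map_pow] using this
  have h2 : a ^ 2 = X' := by
    rw [← sub_eq_zero]
    apply hzero
    intro p
    rw [map_sub, map_pow, hval p, (field_div_sq _ _ (hdiv p)).1, sub_self]
  have h3 : a ^ 3 = Y' := by
    rw [← sub_eq_zero]
    apply hzero
    intro p
    rw [map_sub, map_pow, hval p, (field_div_sq _ _ (hdiv p)).2, sub_self]
  have k2 : x = (e.symm a) ^ 2 := by
    apply e.injective
    rw [map_pow, e.apply_symm_apply, h2, hX']
  have k3 : y = (e.symm a) ^ 3 := by
    apply e.injective
    rw [map_pow, e.apply_symm_apply, h3, hY']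
  refine ⟨e.symm a, ⟨k2, k3⟩, ?_⟩
  rintro b ⟨hb2, hb3⟩
  apply huniq
  · rw [← hb2, ← k2]
  · rw [← hb3, ← k3]

end Groth.Agent.S13111
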