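import Groth.Statements.S13112
import Groth.Agent.Lib.Helper6.SNScheme
-- import your own Groth.Agent.* helpers here

set_option autoImplicit false
universe u
open HTop

namespace Groth.Agent.S13112

open CategoryTheory AlgebraicGeometry in
/-- Let k be a field, T a seminormal scheme of finite type over k, and f : X → Y a proper universally
injective k-morphism of schemes locally of finite type over k. If a morphism of schemes g : T → Y
lifts through f at every point of T, i.e. for every t the composite Spec κ(t) → T → Y factors
through f, then g itself factors through f. -/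
theorem result
    {k : Type u} [Field k] {T X Y : Scheme.{u}}
    (sT : T ⟶ Spec (CommRingCat.of k)) (sX : X ⟶ Spec (CommRingCat.of k)) (sY : Y ⟶ Spec (CommRingCat.of k))
    [LocallyOfFiniteType sT] [QuasiCompact sT] [LocallyOfFiniteType sX] [LocallyOfFiniteType sY]
    (hT : HTop.IsSeminormal T)
    (f : X ⟶ Y) (hf : f ≫ sY = sX) [IsProper f] [UniversallyInjective f]
    (g : T ⟶ Y)
    (hlift : ∀ t : T, ∃ l : Spec (T.residueField t) ⟶ X, l ≫ f = T.fromSpecResidueField t ≫ g) :
    ∃ h : T ⟶ X, h ≫ f = g := by
  have hRF : Groth.Agent.Lib.Helper6.SN.RFLift (Limits.pullback.snd f g) := by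
    intro t
    obtain ⟨l, hl⟩ := hlift t
    exact ⟨Limits.pullback.lift l (T.fromSpecResidueField t) hl, Limits.pullback.lift_snd _ _ _⟩
  have hsurj : Surjective (Limits.pullback.snd f g) := by
    refine ⟨fun t => ?_⟩
    obtain ⟨l, hl⟩ := hRF t
    obtain ⟨x⟩ : Nonempty (Spec (T.residueField t)) := inferInstance
    refine ⟨l x, ?_⟩
    have h1 : (l ≫ Limits.pullback.snd f g) x = t := by
      rw [hl]
      exact T.fromSpecResidueField_apply t x
    exact h1
  have hinj : UniversallyInjective (Limits.pullback.snd f g) :=
    MorphismProperty.of_isPullback (P := @UniversallyInjective)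
      (IsPullback.of_hasPullback f g) inferInstance
  have hqf : LocallyQuasiFinite (Limits.pullback.snd f g) :=
    LocallyQuasiFinite.of_injective (Limits.pullback.snd f g).injective
  have hfin : IsFinite (Limits.pullback.snd f g) := IsFinite.of_isProper_of_locallyQuasiFinite _
  have hUH : FlatMor.IsUnivHomeo (Limits.pullback.snd f g) :=
    Groth.Agent.Lib.Helper12.isUnivHomeo_iff.mpr ⟨inferInstance, hinj, hsurj⟩
  have hRFI : HTop.ResidueFieldsIso (Limits.pullback.snd f g) :=
    Groth.Agent.Lib.Helper6.SN.residueFieldsIso_of_rfLift _ (Limits.pullback.snd f g).injective hRF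
  obtain ⟨s, hs, -⟩ := Groth.Agent.Lib.Helper6.SN.existsUnique_section hT _ hUH hRFI
  change s ≫ Limits.pullback.snd f g = 𝟙 T at hs
  refine ⟨s ≫ Limits.pullback.fst f g, ?_⟩
  rw [Category.assoc, Limits.pullback.condition, ← Category.assoc, hs, Category.id_comp]

end Groth.Agent.S13112
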