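import Groth.Statements.S13114
import Mathlib

set_option autoImplicit false
universe u
open HilbChow

namespace Groth.Agent.S13114

/-- Let k be an algebraically closed field, A a commutative local k-algebra of finite dimension n over k
and u a unit of A. Then the determinant of multiplication by u on the k-vector space A, mapped to
the residue field of A, equals the n-th power of the residue class of u. -/
theorem result
    (k A : Type u) [Field k] [IsAlgClosed k] [CommRing A] [Algebra k A] [IsLocalRing A]
    [Module.Finite k A] (u : Aˣ) :
    algebraMap k (IsLocalRing.ResidueField A) (Algebra.norm k (u : A)) =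
      IsLocalRing.residue A (u : A) ^ Module.finrank k A := by
  have hbij : Function.Bijective (algebraMap k (IsLocalRing.ResidueField A)) :=
    IsAlgClosed.algebraMap_bijective_of_isIntegral
  obtain ⟨c, hc⟩ := hbij.surjective (IsLocalRing.residue A (u : A))
  set ν : A := (u : A) - algebraMap k A c with hνdef
  have hν : ν ∈ IsLocalRing.maximalIdeal A := by
    rw [← IsLocalRing.residue_eq_zero_iff, hνdef, map_sub, sub_eq_zero, ← hc]
    rfl
  haveI : IsArtinianRing A := IsArtinianRing.of_finite k A
  have hnil : IsNilpotent ν := by
    obtain ⟨n, hn⟩ := IsArtinianRing.isNilpotent_jacobson_bot (R := A)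
    rw [IsLocalRing.jacobson_eq_maximalIdeal ⊥ bot_ne_top] at hn
    refine ⟨n, ?_⟩
    have : ν ^ n ∈ IsLocalRing.maximalIdeal A ^ n := Ideal.pow_mem_pow hν n
    rw [hn] at this
    simpa using this
  have hφ : IsNilpotent (Algebra.lmul k A (-ν)) := (hnil.neg).map (Algebra.lmul k A)
  have heval := LinearMap.eval_charpoly (Algebra.lmul k A (-ν)) c
  rw [IsNilpotent.charpoly_eq_X_pow_finrank hφ, Polynomial.eval_pow, Polynomial.eval_X] at heval
  have hlm : algebraMap k (Module.End k A) c - Algebra.lmul k A (-ν) = Algebra.lmul k A (u : A) := by
    ext x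
    simp only [LinearMap.sub_apply, Module.algebraMap_end_apply, Algebra.coe_lmul_eq_mul,
      LinearMap.mul_apply', hνdef, Algebra.smul_def]
    ring
  rw [Algebra.norm_apply, ← hlm, ← heval, map_pow, hc]

end Groth.Agent.S13114
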