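import Groth.Statements.S13115
import Groth.Agent.Lib.Helper15.TSFree

-- import your own Groth.Agent.* helpers here

set_option autoImplicit false
universe u
open scoped TensorProduct
open HilbChow

namespace Groth.Agent.S13115

/-- Let k be an infinite field, V a k-vector space and m a natural number. Then every symmetric tensor
in the m-fold tensor power of V — one fixed by every permutation of the factors — is a k-linear
combination of pure powers v ⊗ ⋯ ⊗ v with v in V. (The published statement concerns the ring of
functions of an affine scheme over an infinite field, where it gives the uniqueness of the algebra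
map defining the Hilbert-to-Chow morphism for zero-cycles; this row states it for any vector space.) -/
theorem result
    (k V : Type u) [Field k] [Infinite k] [AddCommGroup V] [Module k V] (m : ℕ)
    (x : ⨂[k] _ : Fin m, V)
    (hx : ∀ σ : Equiv.Perm (Fin m), PiTensorProduct.reindex k (fun _ : Fin m => V) σ x = x) :
    x ∈ Submodule.span k (Set.range fun v : V => PiTensorProduct.tprod k (fun _ : Fin m => v)) := by
  classical
  let e := Module.Basis.ofVectorSpace k V
  have hspan := Groth.Agent.Lib.Helper15.TSFree.mem_span_orb e m x hx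
  set W := Submodule.span k (Set.range fun v : V => PiTensorProduct.tprod k (fun _ : Fin m => v))
    with hW
  suffices horb : ∀ α, Groth.Agent.Lib.Helper15.TSFree.orb e m α ∈ W by
    refine Submodule.span_le.mpr ?_ hspan
    rintro _ ⟨α, rfl⟩
    exact horb α
  intro α
  by_contra hnot
  obtain ⟨φ, hφ, hφW⟩ := Submodule.exists_dual_map_eq_bot_of_notMem hnot inferInstance
  have hφ0 : ∀ w ∈ W, φ w = 0 := by
    intro w hw
    have : φ w ∈ W.map φ := Submodule.mem_map_of_mem hw
    rw [hφW] at this
    exact (Submodule.mem_bot k).mp this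
  let J := α.support
  let Q : MvPolynomial _ k := ∑ r ∈ Fintype.piFinset (fun _ : Fin m => J),
    MvPolynomial.C (φ (Groth.Agent.Lib.Helper15.TSFree.bT e m r)) * ∏ j, MvPolynomial.X (r j)
  have hQ : Q = 0 := by
    apply MvPolynomial.funext
    intro t
    rw [map_zero]
    have h1 : PiTensorProduct.tprod k (fun _ : Fin m => ∑ i ∈ J, t i • e i) =
        ∑ r ∈ Fintype.piFinset (fun _ : Fin m => J),
          (∏ j, t (r j)) • Groth.Agent.Lib.Helper15.TSFree.bT e m r := by
      rw [MultilinearMap.map_sum_finset (PiTensorProduct.tprod k) (fun _ i => t i • e i)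
        (fun _ => J)]
      refine Finset.sum_congr rfl fun r _ => ?_
      rw [MultilinearMap.map_smul_univ, Groth.Agent.Lib.Helper15.TSFree.bT_apply]
    have h2 : φ (PiTensorProduct.tprod k (fun _ : Fin m => ∑ i ∈ J, t i • e i)) = 0 :=
      hφ0 _ (Submodule.subset_span ⟨∑ i ∈ J, t i • e i, rfl⟩)
    rw [h1, map_sum] at h2
    rw [← h2]
    show MvPolynomial.eval t (∑ r ∈ Fintype.piFinset (fun _ : Fin m => J),
      MvPolynomial.C (φ (Groth.Agent.Lib.Helper15.TSFree.bT e m r)) *
        ∏ j, MvPolynomial.X (r j)) = _
    rw [map_sum]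
    refine Finset.sum_congr rfl fun r _ => ?_
    rw [map_mul, MvPolynomial.eval_C, map_prod, map_smul, smul_eq_mul, mul_comm]
    congr 1
    refine Finset.prod_congr rfl fun j _ => ?_
    rw [MvPolynomial.eval_X]
  have hcoeff : MvPolynomial.coeff α Q = φ (Groth.Agent.Lib.Helper15.TSFree.orb e m α) := by
    show MvPolynomial.coeff α (∑ r ∈ Fintype.piFinset (fun _ : Fin m => J),
      MvPolynomial.C (φ (Groth.Agent.Lib.Helper15.TSFree.bT e m r)) *
        ∏ j, MvPolynomial.X (r j)) = _
    rw [MvPolynomial.coeff_sum]
    unfold Groth.Agent.Lib.Helper15.TSFree.orb Groth.Agent.Lib.Helper15.TSplit.V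
    rw [map_sum, Finset.sum_filter]
    refine Finset.sum_congr rfl fun r _ => ?_
    rw [Groth.Agent.Lib.Helper15.TSplit.prod_X_eq, MvPolynomial.coeff_C_mul,
      MvPolynomial.coeff_monomial]
    split_ifs <;> simp
  rw [hQ, MvPolynomial.coeff_zero] at hcoeff
  exact hφ hcoeff.symm


end Groth.Agent.S13115
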