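import Groth.Statements.S13116
-- import your own Groth.Agent.* helpers here
import Groth.Agent.Lib.Helper29.PicSurj3
import Groth.Agent.Lib.Helper29.PicUFD1

set_option autoImplicit false
universe u
open HilbChow

namespace Groth.Agent.S13116

open CategoryTheory CategoryTheory.Limits AlgebraicGeometry TopologicalSpace in
theorem S13116_aux {R : Type u} [CommRing R] [IsLocalRing R] {Z : Scheme.{u}}
    (p : Z ⟶ Spec (CommRingCat.of R)) [IsFinite p] (M : Z.Modules) (hM : PicF.IsInvertible M) :
    Nonempty (M ≅ Coh.structureModule Z) := by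
  haveI : IsAffine Z := isAffine_of_isAffineHom p
  have hfin : {z : Z | IsClosed ({z} : Set Z)}.Finite := by
    refine Set.Finite.subset (p.finite_preimage_singleton (IsLocalRing.closedPoint R)) ?_
    intro z hz
    have hcl : IsClosed (p '' {z}) := p.isClosedMap _ hz
    rw [Set.image_singleton] at hcl
    have hmax : (p z : PrimeSpectrum R).asIdeal.IsMaximal :=
      (PrimeSpectrum.isClosed_singleton_iff_isMaximal _).mp hcl
    show p z = IsLocalRing.closedPoint R
    exact PrimeSpectrum.ext (IsLocalRing.eq_maximalIdeal hmax)
  obtain ⟨G, e, hZG, he⟩ := Groth.Agent.Lib.Helper29.PicSurj.exists_open_trivial_of_isAffineOpen hM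
    (⊤ : Z.Opens) (isAffineOpen_top Z) _ hfin (fun _ _ => trivial)
  have hG : G = ⊤ := by
    rw [eq_top_iff]
    rintro z -
    obtain ⟨c, hc, hcc⟩ := IsClosed.exists_closed_singleton (isClosed_closure (s := ({z} : Set Z)))
      ⟨z, subset_closure rfl⟩
    have hsp : z ⤳ c := specializes_iff_mem_closure.mpr hc
    exact hsp.mem_open G.2 (hZG hcc)
  subst hG
  obtain ⟨φ⟩ := Groth.Agent.Lib.Helper29.PicUFD.nonempty_iso_unit_of_isTriv_top he
  exact ⟨φ.symm⟩

open CategoryTheory CategoryTheory.Limits AlgebraicGeometry in
/-- Let k be a field, X an integral scheme smooth over k that is a closed subscheme of a projective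
space over k, R a discrete valuation ring containing k, Z a subscheme of X ×_k Spec R which is
finite over Spec R, and L an invertible module on X. Then the pullback of L to Z along Z → X ×_k
Spec R → X is isomorphic to the structure sheaf of Z (an isomorphism exists; none is singled out). -/
theorem result
    {k : Type u} [Field k] {X : Scheme.{u}} (sX : X ⟶ Spec (CommRingCat.of k))
    [IsIntegral X] [Smooth sX] (hproj : RelProj.IsHProjective sX)
    (R : Type u) [CommRing R] [IsDomain R] [IsDiscreteValuationRing R] [Algebra k R]
    {Z : Scheme.{u}}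
    (i : Z ⟶ pullback sX (Spec.map (CommRingCat.ofHom (algebraMap k R)))) [IsImmersion i]
    [IsFinite (i ≫ pullback.snd sX (Spec.map (CommRingCat.ofHom (algebraMap k R))))]
    (L : X.Modules) (hL : PicF.IsInvertible L) :
    Nonempty ((Scheme.Modules.pullback
        (i ≫ pullback.fst sX (Spec.map (CommRingCat.ofHom (algebraMap k R))))).obj L ≅
      Coh.structureModule Z) := by
  exact S13116_aux (R := R)
    (i ≫ pullback.snd sX (Spec.map (CommRingCat.ofHom (algebraMap k R)))) _
    (Groth.Agent.Lib.Helper29.QCoh.isInvertible_pullback _ hL)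

end Groth.Agent.S13116
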