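import Groth.Statements.S13120
import Mathlib

set_option autoImplicit false
universe u
open KumFam

namespace Groth.Agent.S13120

open MvPolynomial

section
variable {R : Type u} [CommRing R] {σ : Type*}

theorem two_smul_zero [CharP R 2] {M : Type*} [AddCommGroup M] [Module R M] (x : M) :
    (2 : ℕ) • x = 0 := by
  have h2 : ((2 : ℕ) : R) = 0 := CharP.cast_eq_zero R 2
  rw [← Nat.cast_smul_eq_nsmul R, h2, zero_smul]

/-- In characteristic 2 every derivation kills `expand 2 q`. -/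
theorem deriv_expand [CharP R 2] {M : Type*} [AddCommGroup M] [Module R M]
    [Module (MvPolynomial σ R) M] [IsScalarTower R (MvPolynomial σ R) M]
    (D : Derivation R (MvPolynomial σ R) M) (q : MvPolynomial σ R) :
    D (expand 2 q) = 0 := by
  induction q using MvPolynomial.induction_on with
  | C r => rw [expand_C]; exact D.map_algebraMap r
  | add p q hp hq => rw [map_add, map_add, hp, hq, add_zero]
  | mul_X p i hp =>
    rw [map_mul, expand_X, Derivation.leibniz, hp, smul_zero, add_zero, Derivation.leibniz_pow,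
      two_smul_zero (R := R), smul_zero]

theorem deriv_cube [CharP R 2] (D : Derivation R (MvPolynomial σ R) (MvPolynomial σ R))
    (x : MvPolynomial σ R) : D (x ^ 3) = x ^ 2 * D x := by
  rw [Derivation.leibniz_pow]
  have : (3 : ℕ) • (x ^ (3 - 1) • D x) = x ^ 2 • D x + (2 : ℕ) • (x ^ 2 • D x) := by
    rw [show (3 : ℕ) = 1 + 2 from rfl, add_smul, one_smul]
  rw [this, two_smul_zero (R := R), add_zero, smul_eq_mul]

theorem deriv_decomp [CharP R 2] (D : Derivation R (MvPolynomial σ R) (MvPolynomial σ R))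
    (q0 q1 q2 q3 x y : MvPolynomial σ R) :
    D (expand 2 q0 + expand 2 q1 * x ^ 3 + expand 2 q2 * y ^ 3 + expand 2 q3 * (x ^ 3 * y ^ 3)) =
      expand 2 q1 * (x ^ 2 * D x) + expand 2 q2 * (y ^ 2 * D y) +
        expand 2 q3 * (x ^ 3 * (y ^ 2 * D y) + y ^ 3 * (x ^ 2 * D x)) := by
  simp only [map_add, Derivation.leibniz, deriv_expand, deriv_cube, smul_eq_mul,
    add_zero, zero_add, mul_zero]

theorem X_pow_mul_cancel (i : σ) (n : ℕ) (p : MvPolynomial σ R) (h : X i ^ n * p = 0) : p = 0 := by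
  induction n with
  | zero => simpa using h
  | succ n ih =>
    apply ih
    rw [pow_succ', mul_assoc] at h
    have := X_mul_divMonomial i (X i ^ n * p)
    rw [h] at this
    rw [← this]
    simp

theorem decomp (a : MvPolynomial (Fin 2) R)
    (ha : a ∈ Algebra.adjoin R
      ({X 0 ^ 2, X 0 ^ 3, X 1 ^ 2, X 1 ^ 3} : Set (MvPolynomial (Fin 2) R))) :
    ∃ q0 q1 q2 q3 : MvPolynomial (Fin 2) R,
      a = expand 2 q0 + expand 2 q1 * X 0 ^ 3 + expand 2 q2 * X 1 ^ 3 +
        expand 2 q3 * (X 0 ^ 3 * X 1 ^ 3) := by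
  induction ha using Algebra.adjoin_induction with
  | mem x hx =>
    simp only [Set.mem_insert_iff, Set.mem_singleton_iff] at hx
    rcases hx with rfl | rfl | rfl | rfl
    · exact ⟨X 0, 0, 0, 0, by simp⟩
    · exact ⟨0, 1, 0, 0, by simp⟩
    · exact ⟨X 1, 0, 0, 0, by simp⟩
    · exact ⟨0, 0, 1, 0, by simp⟩
  | algebraMap r => exact ⟨C r, 0, 0, 0, by simp [MvPolynomial.algebraMap_eq]⟩
  | add x y _ _ hx hy =>
    obtain ⟨p0, p1, p2, p3, rfl⟩ := hx
    obtain ⟨q0, q1, q2, q3, rfl⟩ := hy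
    exact ⟨p0 + q0, p1 + q1, p2 + q2, p3 + q3, by simp only [map_add]; ring⟩
  | mul x y _ _ hx hy =>
    obtain ⟨p0, p1, p2, p3, rfl⟩ := hx
    obtain ⟨q0, q1, q2, q3, rfl⟩ := hy
    refine ⟨p0 * q0 + p1 * q1 * X 0 ^ 3 + p2 * q2 * X 1 ^ 3 + p3 * q3 * (X 0 ^ 3 * X 1 ^ 3),
      p0 * q1 + p1 * q0 + (p2 * q3 + p3 * q2) * X 1 ^ 3,
      p0 * q2 + p2 * q0 + (p1 * q3 + p3 * q1) * X 0 ^ 3,
      p0 * q3 + p3 * q0 + p1 * q2 + p2 * q1, ?_⟩
    simp only [map_add, map_mul, map_pow, expand_X]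
    ring

theorem expand_mem (g : MvPolynomial (Fin 2) R) (q : MvPolynomial (Fin 2) R) :
    expand 2 q ∈ Algebra.adjoin R ({X 0 ^ 2, X 1 ^ 2, g} : Set (MvPolynomial (Fin 2) R)) := by
  induction q using MvPolynomial.induction_on with
  | C r => rw [expand_C]; exact Subalgebra.algebraMap_mem _ r
  | add p q hp hq => rw [map_add]; exact Subalgebra.add_mem _ hp hq
  | mul_X p i hp =>
    rw [map_mul, expand_X]
    refine Subalgebra.mul_mem _ hp (Algebra.subset_adjoin ?_)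
    fin_cases i <;> simp

/-- Independence of `1, u³, v³` over `R[u², v²]` in characteristic 2, via partial derivatives. -/
theorem indep [CharP R 2] (r0 r1 r2 : MvPolynomial (Fin 2) R)
    (h : expand 2 r0 + expand 2 r1 * X 0 ^ 3 + expand 2 r2 * X 1 ^ 3 = 0) :
    expand 2 r1 = 0 ∧ expand 2 r2 = 0 := by
  have h0 := congrArg (pderiv (0 : Fin 2)) h
  have h1 := congrArg (pderiv (1 : Fin 2)) h
  simp only [map_add, Derivation.leibniz, deriv_expand, deriv_cube, smul_eq_mul,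
    add_zero, zero_add, mul_zero, map_zero, pderiv_X_self,
    pderiv_X_of_ne (show (1 : Fin 2) ≠ 0 by decide),
    pderiv_X_of_ne (show (0 : Fin 2) ≠ 1 by decide), mul_one] at h0 h1
  refine ⟨X_pow_mul_cancel (0 : Fin 2) 2 _ ?_, X_pow_mul_cancel (1 : Fin 2) 2 _ ?_⟩
  · rw [mul_comm]; exact h0
  · rw [mul_comm]; exact h1

end


open MvPolynomial in
/-- Let R be a commutative ring of characteristic 2 and l0, l2, l4, s0, s2, s4, τ ∈ R with τ a unit.
Inside R[u, v] (u = X 0, v = X 1) let A = R[u², u³, v², v³] be the coordinate ring of the product of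
two cuspidal curves, and let D be the R-derivation of R[u, v] with D(u) = v²(l0 u⁴ + τ u³ + l2 u² +
l4) and D(v) = u²(s0 v⁴ + τ v³ + s2 v² + s4); D is u²v² times the rational vector field (l0 u² + τ u
+ l2 + l4 u⁻²) ∂_u + (s0 v² + τ v + s2 + s4 v⁻²) ∂_v, which maps A into itself, and u²v² is a
non-zero-divisor, so the kernel of that vector field on A is the set of a ∈ A with D(a) = 0. Then
for a ∈ A: D(a) = 0 if and only if a ∈ R[u², v², g], where g = (s0 v⁴ + s2 v² + s4) u³ + (l0 u⁴ + l2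
u² + l4) v³ + τ u³ v³. (The published statement identifies this kernel with the ring of invariants
of the corresponding action of the group scheme of square roots of unity; this row states the kernel
computation that is actually carried out.) -/
theorem result (R : Type u) [CommRing R] [CharP R 2]
    (l0 l2 l4 s0 s2 s4 τ : R) (hτ : IsUnit τ) (a : MvPolynomial (Fin 2) R)
    (ha : a ∈ Algebra.adjoin R
      ({X 0 ^ 2, X 0 ^ 3, X 1 ^ 2, X 1 ^ 3} : Set (MvPolynomial (Fin 2) R))) :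
    MvPolynomial.mkDerivation R
        (![X 1 ^ 2 * (C l0 * X 0 ^ 4 + C τ * X 0 ^ 3 + C l2 * X 0 ^ 2 + C l4),
          X 0 ^ 2 * (C s0 * X 1 ^ 4 + C τ * X 1 ^ 3 + C s2 * X 1 ^ 2 + C s4)] :
          Fin 2 → MvPolynomial (Fin 2) R) a = 0 ↔
      a ∈ Algebra.adjoin R
        ({X 0 ^ 2, X 1 ^ 2,
          (C s0 * X 1 ^ 4 + C s2 * X 1 ^ 2 + C s4) * X 0 ^ 3 +
            (C l0 * X 0 ^ 4 + C l2 * X 0 ^ 2 + C l4) * X 1 ^ 3 +
            C τ * X 0 ^ 3 * X 1 ^ 3} : Set (MvPolynomial (Fin 2) R)) := by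
  have two0 : (2 : MvPolynomial (Fin 2) R) = 0 := CharTwo.two_eq_zero
  set D := MvPolynomial.mkDerivation R
        (![X 1 ^ 2 * (C l0 * X 0 ^ 4 + C τ * X 0 ^ 3 + C l2 * X 0 ^ 2 + C l4),
          X 0 ^ 2 * (C s0 * X 1 ^ 4 + C τ * X 1 ^ 3 + C s2 * X 1 ^ 2 + C s4)] :
          Fin 2 → MvPolynomial (Fin 2) R) with hD
  have hD0 : D (X 0) = X 1 ^ 2 * (C l0 * X 0 ^ 4 + C τ * X 0 ^ 3 + C l2 * X 0 ^ 2 + C l4) := by
    rw [hD, mkDerivation_X]; rfl
  have hD1 : D (X 1) = X 0 ^ 2 * (C s0 * X 1 ^ 4 + C τ * X 1 ^ 3 + C s2 * X 1 ^ 2 + C s4) := by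
    rw [hD, mkDerivation_X]; rfl
  -- the even parts of the coefficients
  set L0' : MvPolynomial (Fin 2) R := C l0 * X 0 ^ 2 + C l2 * X 0 + C l4 with hL0'
  set S0' : MvPolynomial (Fin 2) R := C s0 * X 1 ^ 2 + C s2 * X 1 + C s4 with hS0'
  have hL0 : (C l0 * X 0 ^ 4 + C l2 * X 0 ^ 2 + C l4 : MvPolynomial (Fin 2) R) = expand 2 L0' := by
    simp only [hL0', map_add, map_mul, map_pow, expand_X, expand_C]; ring
  have hS0 : (C s0 * X 1 ^ 4 + C s2 * X 1 ^ 2 + C s4 : MvPolynomial (Fin 2) R) = expand 2 S0' := by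
    simp only [hS0', map_add, map_mul, map_pow, expand_X, expand_C]; ring
  have hL : (C l0 * X 0 ^ 4 + C τ * X 0 ^ 3 + C l2 * X 0 ^ 2 + C l4 : MvPolynomial (Fin 2) R)
      = expand 2 L0' + C τ * X 0 ^ 3 := by rw [← hL0]; ring
  have hS : (C s0 * X 1 ^ 4 + C τ * X 1 ^ 3 + C s2 * X 1 ^ 2 + C s4 : MvPolynomial (Fin 2) R)
      = expand 2 S0' + C τ * X 1 ^ 3 := by rw [← hS0]; ring
  rw [hL] at hD0
  rw [hS] at hD1
  rw [hL0, hS0]
  constructor
  · intro h
    obtain ⟨q0, q1, q2, q3, rfl⟩ := decomp a ha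
    rw [deriv_decomp, hD0, hD1] at h
    have hb : expand 2 (q1 * L0' + q2 * S0') + expand 2 (q1 * C τ + q3 * S0') * X 0 ^ 3 +
        expand 2 (q2 * C τ + q3 * L0') * X 1 ^ 3 = 0 := by
      apply X_pow_mul_cancel (0 : Fin 2) 2
      apply X_pow_mul_cancel (1 : Fin 2) 2
      rw [← h]
      simp only [map_add, map_mul, expand_C]
      linear_combination (- (X 0 ^ 2 * X 1 ^ 2 * expand 2 q3 * C τ * X 0 ^ 3 * X 1 ^ 3)) * two0
    obtain ⟨e1, e2⟩ := indep _ _ _ hb
    obtain ⟨τ', hττ'⟩ := hτ.exists_right_inv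
    have hT : (C τ * C τ' : MvPolynomial (Fin 2) R) = 1 := by rw [← C_mul, hττ', C_1]
    simp only [map_add, map_mul, expand_C] at e1 e2
    have key : expand 2 q0 + expand 2 q1 * X 0 ^ 3 + expand 2 q2 * X 1 ^ 3 +
        expand 2 q3 * (X 0 ^ 3 * X 1 ^ 3) = expand 2 q0 + C τ' * expand 2 q3 *
          (expand 2 S0' * X 0 ^ 3 + expand 2 L0' * X 1 ^ 3 + C τ * X 0 ^ 3 * X 1 ^ 3) := by
      linear_combination (-(C τ' * X 0 ^ 3)) * e1 + (-(C τ' * X 1 ^ 3)) * e2 +
        (expand 2 q1 * X 0 ^ 3 + expand 2 q2 * X 1 ^ 3 - expand 2 q3 * X 0 ^ 3 * X 1 ^ 3) * hT +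
        (expand 2 q1 * X 0 ^ 3 + expand 2 q2 * X 1 ^ 3) * two0
    rw [key]
    refine Subalgebra.add_mem _ (expand_mem _ _) (Subalgebra.mul_mem _
      (Subalgebra.mul_mem _ (Subalgebra.algebraMap_mem _ τ') (expand_mem _ _))
      (Algebra.subset_adjoin ?_))
    simp
  · intro h
    clear ha
    induction h using Algebra.adjoin_induction with
    | mem x hx =>
      simp only [Set.mem_insert_iff, Set.mem_singleton_iff] at hx
      rcases hx with rfl | rfl | rfl
      · rw [← expand_X]; exact deriv_expand D _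
      · rw [← expand_X]; exact deriv_expand D _
      · have hg : expand 2 S0' * X 0 ^ 3 + expand 2 L0' * X 1 ^ 3 + C τ * X 0 ^ 3 * X 1 ^ 3 =
            expand 2 0 + expand 2 S0' * X 0 ^ 3 + expand 2 L0' * X 1 ^ 3 +
              expand 2 (C τ) * (X 0 ^ 3 * X 1 ^ 3) := by
          rw [map_zero, expand_C]; ring
        rw [hg, deriv_decomp, hD0, hD1, expand_C]
        linear_combination (X 0 ^ 2 * X 1 ^ 2 * (expand 2 S0' * expand 2 L0' +
          expand 2 S0' * C τ * X 0 ^ 3 + expand 2 L0' * C τ * X 1 ^ 3 +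
          C τ * C τ * X 0 ^ 3 * X 1 ^ 3)) * two0
    | algebraMap r => exact D.map_algebraMap r
    | add x y _ _ hx hy => rw [map_add, hx, hy, add_zero]
    | mul x y _ _ hx hy => rw [Derivation.leibniz, hx, hy, smul_zero, smul_zero, add_zero]

end Groth.Agent.S13120
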