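import Groth.Statements.S13122
import Groth.Agent.Lib.Helper3.ParityKernel
import Mathlib.Algebra.CharP.Two
import Mathlib.Algebra.CharP.Algebra
import Mathlib.Tactic.LinearCombination

set_option autoImplicit false
universe u
open KumFam

namespace Groth.Agent.S13122

open MvPolynomial in
theorem aux (R : Type u) [CommRing R]
    [CharP R 2] (l0 l2 l4 s0 s2 s4 τ : R) (hτ : IsUnit τ) :
    (∀ p : MvPolynomial (Fin 2) R,
      MvPolynomial.mkDerivation R
          (![C l4 * X 0 ^ 4 + C l2 * X 0 ^ 2 + C τ * X 0 + C l0,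
            C s4 * X 1 ^ 4 + C s2 * X 1 ^ 2 + C τ * X 1 + C s0] :
            Fin 2 → MvPolynomial (Fin 2) R) p = 0 ↔
        p ∈ (MvPolynomial.aeval (R := R) (S₁ := MvPolynomial (Fin 2) R)
          ![X 0 ^ 2, X 1 ^ 2,
            (C s4 * X 1 ^ 4 + C s2 * X 1 ^ 2 + C s0) * X 0 +
              (C l4 * X 0 ^ 4 + C l2 * X 0 ^ 2 + C l0) * X 1 + C τ * X 0 * X 1]).range) ∧
    RingHom.ker (MvPolynomial.aeval (R := R) (S₁ := MvPolynomial (Fin 2) R)
        ![X 0 ^ 2, X 1 ^ 2,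
          (C s4 * X 1 ^ 4 + C s2 * X 1 ^ 2 + C s0) * X 0 +
            (C l4 * X 0 ^ 4 + C l2 * X 0 ^ 2 + C l0) * X 1 + C τ * X 0 * X 1]) =
      Ideal.span {(X 2 ^ 2 + C (τ ^ 2) * X 0 * X 1 +
        (C (s4 ^ 2) * X 1 ^ 4 + C (s2 ^ 2) * X 1 ^ 2 + C (s0 ^ 2)) * X 0 +
        (C (l4 ^ 2) * X 0 ^ 4 + C (l2 ^ 2) * X 0 ^ 2 + C (l0 ^ 2)) * X 1 : MvPolynomial (Fin 3) R)} := by
  haveI : CharP (MvPolynomial (Fin 2) R) 2 :=
    charP_of_injective_ringHom (C_injective (Fin 2) R) 2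
  have h2 : (2 : MvPolynomial (Fin 2) R) = 0 := CharTwo.two_eq_zero
  set α : MvPolynomial (Fin 2) R := C l4 * X 0 ^ 4 + C l2 * X 0 ^ 2 + C τ * X 0 + C l0 with hαdef
  set β : MvPolynomial (Fin 2) R := C s4 * X 1 ^ 4 + C s2 * X 1 ^ 2 + C τ * X 1 + C s0 with hβdef
  set h : MvPolynomial (Fin 2) R := (C s4 * X 1 ^ 4 + C s2 * X 1 ^ 2 + C s0) * X 0 +
            (C l4 * X 0 ^ 4 + C l2 * X 0 ^ 2 + C l0) * X 1 + C τ * X 0 * X 1 with hhdef
  set D := MvPolynomial.mkDerivation R (![α, β] : Fin 2 → MvPolynomial (Fin 2) R) with hD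
  set φ := MvPolynomial.aeval (R := R) (S₁ := MvPolynomial (Fin 2) R) ![X 0 ^ 2, X 1 ^ 2, h] with hφ
  set e₁ : MvPolynomial (Fin 2) R := C l4 * X 0 ^ 2 + C l2 * X 0 + C l0 with he₁
  set e₂ : MvPolynomial (Fin 2) R := C s4 * X 1 ^ 2 + C s2 * X 1 + C s0 with he₂
  have hα : α = expand 2 e₁ + C τ * X 0 := by
    rw [hαdef, he₁]
    simp only [map_add, map_mul, map_pow, expand_X, expand_C]
    ring
  have hβ : β = expand 2 e₂ + C τ * X 1 := by
    rw [hβdef, he₂]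
    simp only [map_add, map_mul, map_pow, expand_X, expand_C]
    ring
  have hh : h = expand 2 e₂ * X 0 + expand 2 e₁ * X 1 + C τ * X 0 * X 1 := by
    rw [hhdef, he₁, he₂]
    simp only [map_add, map_mul, map_pow, expand_X, expand_C]
    ring
  have hDX0 : D (X 0) = α := by rw [hD, mkDerivation_X]; rfl
  have hDX1 : D (X 1) = β := by rw [hD, mkDerivation_X]; rfl
  have hDexp : ∀ Q, D (expand 2 Q) = 0 :=
    Groth.Agent.Lib.Helper3.derivation_expand_two_eq_zero D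
  have hDdec : ∀ Q₀ Q₁ Q₂ Q₃ : MvPolynomial (Fin 2) R,
      D (expand 2 Q₀ + expand 2 Q₁ * X 0 + expand 2 Q₂ * X 1 + expand 2 Q₃ * (X 0 * X 1)) =
      expand 2 (Q₁ * e₁ + Q₂ * e₂) + expand 2 (C τ * Q₁ + Q₃ * e₂) * X 0 +
        expand 2 (C τ * Q₂ + Q₃ * e₁) * X 1 := by
    intro Q₀ Q₁ Q₂ Q₃
    simp only [map_add, Derivation.leibniz, hDexp, hDX0, hDX1, smul_eq_mul, mul_zero,
      add_zero, zero_add]
    rw [hα, hβ]
    simp only [map_add, map_mul, expand_C]
    linear_combination (exp := 1) (expand 2 Q₃ * C τ * X 0 * X 1) * h2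
  have hDh : D h = 0 := by
    have : h = expand 2 0 + expand 2 e₂ * X 0 + expand 2 e₁ * X 1 +
        expand 2 (C τ) * (X 0 * X 1) := by
      rw [hh, map_zero, expand_C]; ring
    rw [this, hDdec]
    have a1 : e₂ * e₁ + e₁ * e₂ = 0 := by
      rw [mul_comm]; exact CharTwo.add_self_eq_zero _
    have a2 : C τ * e₂ + C τ * e₂ = 0 := CharTwo.add_self_eq_zero _
    have a3 : C τ * e₁ + C τ * e₁ = 0 := CharTwo.add_self_eq_zero _
    rw [a1, a2, a3, map_zero, zero_mul, zero_mul, add_zero, add_zero]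
  have hDφ : ∀ P : MvPolynomial (Fin 3) R, D (φ P) = 0 := by
    intro P
    induction P using MvPolynomial.induction_on with
    | C a => rw [hφ, aeval_C, Derivation.map_algebraMap]
    | add p q hp hq => rw [map_add, map_add, hp, hq, add_zero]
    | mul_X p i hp =>
      rw [map_mul, Derivation.leibniz, hp, smul_zero, add_zero]
      have : D (φ (X i)) = 0 := by
        rw [hφ, aeval_X]
        fin_cases i
        · have : (X 0 ^ 2 : MvPolynomial (Fin 2) R) = expand 2 (X 0) := by rw [expand_X]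
          change D (X 0 ^ 2) = 0
          rw [this, hDexp]
        · have : (X 1 ^ 2 : MvPolynomial (Fin 2) R) = expand 2 (X 1) := by rw [expand_X]
          change D (X 1 ^ 2) = 0
          rw [this, hDexp]
        · exact hDh
      rw [this, smul_zero]
  refine ⟨fun p => ⟨fun hp => ?_, ?_⟩, ?_⟩
  · obtain ⟨Q₀, Q₁, Q₂, Q₃, rfl⟩ := Groth.Agent.Lib.Helper3.exists_parity_decomp p
    rw [hDdec] at hp
    have key := Groth.Agent.Lib.Helper3.parity_indep 1 1 (by decide) (by decide)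
      (Q₁ * e₁ + Q₂ * e₂) (C τ * Q₁ + Q₃ * e₂) (C τ * Q₂ + Q₃ * e₁) 0 (by
        simp only [pow_one, map_zero, zero_mul, add_zero]; exact hp)
    obtain ⟨τ', hτ'⟩ := hτ.exists_left_inv
    have hC : (C τ' * C τ : MvPolynomial (Fin 2) R) = 1 := by rw [← C_mul, hτ', C_1]
    have hQ₁ : Q₁ = C τ' * Q₃ * e₂ := by
      have h1 : C τ * Q₁ = Q₃ * e₂ := CharTwo.add_eq_zero.1 key.2.1
      calc Q₁ = C τ' * (C τ * Q₁) := by rw [← mul_assoc, hC, one_mul]
        _ = _ := by rw [h1]; ring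
    have hQ₂ : Q₂ = C τ' * Q₃ * e₁ := by
      have h1 : C τ * Q₂ = Q₃ * e₁ := CharTwo.add_eq_zero.1 key.2.2.1
      calc Q₂ = C τ' * (C τ * Q₂) := by rw [← mul_assoc, hC, one_mul]
        _ = _ := by rw [h1]; ring
    refine ⟨rename Fin.castSucc Q₀ + rename Fin.castSucc (C τ' * Q₃) * X 2, ?_⟩
    change φ _ = _
    rw [map_add, map_mul, hφ, Groth.Agent.Lib.Helper3.aeval_sq_sq_rename,
      Groth.Agent.Lib.Helper3.aeval_sq_sq_rename, aeval_X]
    change _ + _ * h = _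
    rw [hQ₁, hQ₂, hh]
    simp only [map_mul, expand_C]
    linear_combination (exp := 1) (expand 2 Q₃ * X 0 * X 1) * hC
  · rintro ⟨P, rfl⟩
    exact hDφ P
  · set G : MvPolynomial (Fin 2) R := C (τ ^ 2) * X 0 * X 1 +
        (C (s4 ^ 2) * X 1 ^ 4 + C (s2 ^ 2) * X 1 ^ 2 + C (s0 ^ 2)) * X 0 +
        (C (l4 ^ 2) * X 0 ^ 4 + C (l2 ^ 2) * X 0 ^ 2 + C (l0 ^ 2)) * X 1 with hG
    have hgen : (X 2 ^ 2 + C (τ ^ 2) * X 0 * X 1 +
        (C (s4 ^ 2) * X 1 ^ 4 + C (s2 ^ 2) * X 1 ^ 2 + C (s0 ^ 2)) * X 0 +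
        (C (l4 ^ 2) * X 0 ^ 4 + C (l2 ^ 2) * X 0 ^ 2 + C (l0 ^ 2)) * X 1 :
          MvPolynomial (Fin 3) R) = X 2 ^ 2 + rename Fin.castSucc G := by
      rw [hG]
      simp only [map_add, map_mul, map_pow, rename_C, rename_X, Fin.castSucc_zero,
        Fin.castSucc_one]
      ring
    rw [hgen]
    apply Groth.Agent.Lib.Helper3.ker_aeval_sq_sq_eq_span h G
    · rw [← CharTwo.sub_eq_add, sub_eq_zero, hhdef, hG]
      simp only [map_add, map_mul, map_pow, expand_X, expand_C, CharTwo.add_sq, mul_pow,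
        ← pow_mul]
      ring
    · intro P₀ P₁ hP
      have key := Groth.Agent.Lib.Helper3.parity_indep 1 1 (by decide) (by decide) P₀
        (P₁ * e₂) (P₁ * e₁) (P₁ * C τ) (by
          rw [← hP, hh]
          simp only [map_mul, pow_one]
          simp only [expand_C]
          ring)
      refine ⟨key.1, ?_⟩
      obtain ⟨τ', hτ'⟩ := hτ.exists_right_inv
      have h3 := key.2.2.2
      calc P₁ = P₁ * C τ * C τ' := by rw [mul_assoc, ← C_mul, hτ', C_1, mul_one]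
        _ = 0 := by rw [h3, zero_mul]

open MvPolynomial in
/-- Let R be a commutative ring of characteristic 2 and l0, l2, l4, s0, s2, s4, τ ∈ R with τ a unit. On
R[x, y] (x = X 0, y = X 1; the coordinates u⁻¹, v⁻¹ of the smooth chart of the product of two
cuspidal curves) let D be the R-derivation with D(x) = l4 x⁴ + l2 x² + τ x + l0 and D(y) = s4 y⁴ +
s2 y² + τ y + s0, and put h = (s4 y⁴ + s2 y² + s0) x + (l4 x⁴ + l2 x² + l0) y + τ x y. Then: (1) for
p ∈ R[x, y], D(p) = 0 if and only if p lies in the image of the R-algebra homomorphism R[a, b, c] →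
R[x, y] (a = X 0, b = X 1, c = X 2) with a ↦ x², b ↦ y², c ↦ h; (2) the kernel of that homomorphism
is the ideal generated by c² + τ² a b + (s4² b⁴ + s2² b² + s0²) a + (l4² a⁴ + l2² a² + l0²) b. (The
published statement asserts that the ring of invariants of the action of the group scheme of square
roots of unity given by this vector field is R[a, b, c] modulo this equation, by the same
computation as on the other chart; this row pins the generator h and states the kernel computation.) -/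
theorem result (R : Type u) [CommRing R]
    [CharP R 2] (l0 l2 l4 s0 s2 s4 τ : R) (hτ : IsUnit τ) :
    (∀ p : MvPolynomial (Fin 2) R,
      MvPolynomial.mkDerivation R
          (![C l4 * X 0 ^ 4 + C l2 * X 0 ^ 2 + C τ * X 0 + C l0,
            C s4 * X 1 ^ 4 + C s2 * X 1 ^ 2 + C τ * X 1 + C s0] :
            Fin 2 → MvPolynomial (Fin 2) R) p = 0 ↔
        p ∈ (MvPolynomial.aeval (R := R) (S₁ := MvPolynomial (Fin 2) R)
          ![X 0 ^ 2, X 1 ^ 2,
            (C s4 * X 1 ^ 4 + C s2 * X 1 ^ 2 + C s0) * X 0 +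
              (C l4 * X 0 ^ 4 + C l2 * X 0 ^ 2 + C l0) * X 1 + C τ * X 0 * X 1]).range) ∧
    RingHom.ker (MvPolynomial.aeval (R := R) (S₁ := MvPolynomial (Fin 2) R)
        ![X 0 ^ 2, X 1 ^ 2,
          (C s4 * X 1 ^ 4 + C s2 * X 1 ^ 2 + C s0) * X 0 +
            (C l4 * X 0 ^ 4 + C l2 * X 0 ^ 2 + C l0) * X 1 + C τ * X 0 * X 1]) =
      Ideal.span {(X 2 ^ 2 + C (τ ^ 2) * X 0 * X 1 +
        (C (s4 ^ 2) * X 1 ^ 4 + C (s2 ^ 2) * X 1 ^ 2 + C (s0 ^ 2)) * X 0 +
        (C (l4 ^ 2) * X 0 ^ 4 + C (l2 ^ 2) * X 0 ^ 2 + C (l0 ^ 2)) * X 1 : MvPolynomial (Fin 3) R)} := by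
  exact aux R l0 l2 l4 s0 s2 s4 τ hτ

end Groth.Agent.S13122
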