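import Groth.Statements.S13123
import Mathlib.Algebra.CharP.Two
import Mathlib.Algebra.CharP.Algebra
import Mathlib.Tactic.LinearCombination
import Mathlib.Tactic.Ring

set_option autoImplicit false
universe u
open KumFam

namespace Groth.Agent.S13123

open Polynomial in
theorem aux (R : Type u) [CommRing R] [CharP R 2]
    (p q r m ρ s t : R) (hm : m ^ 3 + p * m + q = 0) (hρ : (m ^ 2 + p) ^ 2 * (ρ ^ 2 + ρ) = r)
    (hs : m ^ 2 * (s ^ 2 + s) = (m ^ 2 + p) * ρ) (ht : m ^ 2 * (t ^ 2 + t) = (m ^ 2 + p) * (ρ + 1)) :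
    (X ^ 4 + C p * X ^ 2 + C q * X + C r : R[X]) =
      (X - C (m * s)) * (X - C (m * (s + 1))) * (X - C (m * t)) * (X - C (m * (t + 1))) := by
  have h2 : (2 : R[X]) = 0 := by
    haveI : CharP R[X] 2 := charP_of_injective_ringHom (C_injective (R := R)) 2
    exact CharTwo.two_eq_zero
  have hm' := congrArg (C : R → R[X]) hm
  have hρ' := congrArg (C : R → R[X]) hρ
  have hs' := congrArg (C : R → R[X]) hs
  have ht' := congrArg (C : R → R[X]) ht
  simp only [map_mul, map_add, map_pow, map_one, map_zero] at hm' hρ' hs' ht'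
  have f1 : (X - C (m * s)) * (X - C (m * (s + 1))) = X ^ 2 + C m * X + (C m ^ 2 + C p) * C ρ := by
    rw [← hs']
    simp only [map_mul, map_add, map_one]
    linear_combination (-(C m * C s * X + C m * X)) * h2
  have f2 : (X - C (m * t)) * (X - C (m * (t + 1))) =
      X ^ 2 + C m * X + (C m ^ 2 + C p) * (C ρ + 1) := by
    rw [← ht']
    simp only [map_mul, map_add, map_one]
    linear_combination (-(C m * C t * X + C m * X)) * h2
  rw [mul_assoc ((X - C (m * s)) * (X - C (m * (s + 1)))), f1, f2]
  linear_combination (-X) * hm' - hρ' +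
    (-(C m) * X ^ 3 - (C m ^ 2 + (C m ^ 2 + C p) * C ρ) * X ^ 2 +
      (C q - C m * (C m ^ 2 + C p) * C ρ) * X) * h2

open Polynomial in
/-- Let R be a commutative ring of characteristic 2 and p q r m ρ s t ∈ R with m³ + p m + q = 0, (m² +
p)²(ρ² + ρ) = r, m²(s² + s) = (m² + p) ρ and m²(t² + t) = (m² + p)(ρ + 1). Then X⁴ + p X² + q X + r
= (X − m s)(X − m (s + 1))(X − m t)(X − m (t + 1)) in R[X]. (The published statement assumes q is a
unit, which makes m and m² + p units, writes ρ, s, t as roots of Artin–Schreier equations X² + X + γ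
with γ the corresponding quotients, and gives m through cube roots of Lagrange resolvents; here the
defining equations of ρ, s, t are written with denominators cleared and m is any root of the
resolvent cubic, so no unit hypothesis is needed.) -/
theorem result (R : Type u) [CommRing R] [CharP R 2]
    (p q r m ρ s t : R) (hm : m ^ 3 + p * m + q = 0) (hρ : (m ^ 2 + p) ^ 2 * (ρ ^ 2 + ρ) = r)
    (hs : m ^ 2 * (s ^ 2 + s) = (m ^ 2 + p) * ρ) (ht : m ^ 2 * (t ^ 2 + t) = (m ^ 2 + p) * (ρ + 1)) :
    (X ^ 4 + C p * X ^ 2 + C q * X + C r : R[X]) =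
      (X - C (m * s)) * (X - C (m * (s + 1))) * (X - C (m * t)) * (X - C (m * (t + 1))) := by
  exact aux R p q r m ρ s t hm hρ hs ht

end Groth.Agent.S13123
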