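import Groth.Statements.S13124
import Groth.Agent.Lib.Helper7.Comod
import Mathlib.RingTheory.IntegralClosure.IntegrallyClosed
import Mathlib.RingTheory.Localization.FractionRing

set_option autoImplicit false
universe u v w
open KumFam

namespace Groth.Agent.S13124

open TensorProduct in
lemma rTensor_mulLeft {k : Type*} [CommRing k] {A : Type*} [CommRing A] [Algebra k A]
    {R : Type*} [CommRing R] [Algebra k R] (y : R) (z : R ⊗[k] A) :
    (LinearMap.mulLeft k y).rTensor A z = (y ⊗ₜ[k] (1 : A)) * z := by
  induction z using TensorProduct.induction_on with
  | zero => simp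
  | tmul r a => simp [Algebra.TensorProduct.tmul_mul_tmul]
  | add a b ha hb => rw [map_add, ha, hb, mul_add]


/-- Let k be a commutative ring, A a commutative k-bialgebra that is flat over k, and R a commutative
k-algebra which is an integrally closed domain, with a coaction R → R ⊗ A that is an algebra
homomorphism. Then the ring of invariants (the elements f with coaction f ⊗ 1) is an integrally
closed domain. (The published statement is for a finite group scheme acting on a normal scheme whose
quotient is, locally, the spectrum of the ring of invariants; this row is the affine integral case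
and allows any commutative bialgebra flat over k, flatness being automatic over a field.) -/
theorem result (k : Type u) [CommRing k]
    (A : Type v) [CommRing A] [Bialgebra k A] [Module.Flat k A]
    (R : Type w) [CommRing R] [Algebra k R] [IsDomain R] [IsIntegrallyClosed R]
    [HopfRep.Comod k A R] [GLin.IsCoactAlg k A R] :
    IsIntegrallyClosed (GLin.invariants k A R) := by
  set S := GLin.invariants k A R with hS
  rw [isIntegrallyClosed_iff (FractionRing S)]
  intro x hx
  let g : S →+* FractionRing R := (algebraMap R (FractionRing R)).comp S.val.toRingHom
  have hg : Function.Injective g :=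
    (IsFractionRing.injective R (FractionRing R)).comp Subtype.val_injective
  let φ : FractionRing S →+* FractionRing R := IsFractionRing.lift hg
  have hφ : ∀ s : S, φ (algebraMap S (FractionRing S) s) = algebraMap R (FractionRing R) (s : R) :=
    fun s => IsFractionRing.lift_algebraMap hg s
  have h1 : IsIntegral R (φ x) := by
    obtain ⟨P, hP, hPx⟩ := hx
    refine ⟨P.map S.val.toRingHom, hP.map _, ?_⟩
    rw [Polynomial.eval₂_map]
    have : (algebraMap R (FractionRing R)).comp S.val.toRingHom
        = φ.comp (algebraMap S (FractionRing S)) := by
      ext s
      exact (hφ s).symm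
    rw [this, ← Polynomial.hom_eval₂, hPx, map_zero]
  obtain ⟨r, hr⟩ := (isIntegrallyClosed_iff (FractionRing R)).mp inferInstance h1
  obtain ⟨a, b, hb, rfl⟩ := IsFractionRing.div_surjective (A := S) x
  have hb0 : (b : R) ≠ 0 := by
    intro h
    have : b = 0 := Subtype.ext h
    exact nonZeroDivisors.ne_zero hb this
  have hbr : (b : R) * r = a := by
    apply IsFractionRing.injective R (FractionRing R)
    rw [map_mul, hr, map_div₀, hφ, hφ]
    have : algebraMap R (FractionRing R) (b : R) ≠ 0 := by
      rw [Ne, map_eq_zero_iff _ (IsFractionRing.injective R (FractionRing R))]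
      exact hb0
    field_simp
  have hrS : r ∈ S := by
    rw [hS, GLin.mem_invariants_iff]
    have hinj : Function.Injective ((LinearMap.mulLeft k (b : R)).rTensor A) :=
      Module.Flat.rTensor_preserves_injective_linearMap _ (by
        intro u v huv
        simp only [LinearMap.mulLeft_apply] at huv
        exact mul_left_cancel₀ hb0 huv)
    apply hinj
    rw [rTensor_mulLeft, rTensor_mulLeft, Algebra.TensorProduct.tmul_mul_tmul, one_mul, hbr,
      ← (GLin.mem_invariants_iff k A R (b : R)).1 b.2, ← GLin.IsCoactAlg.coact_mul, hbr]
    exact (GLin.mem_invariants_iff k A R (a : R)).1 a.2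
  refine ⟨⟨r, hrS⟩, ?_⟩
  have hb' : algebraMap S (FractionRing S) b ≠ 0 := by
    rw [Ne, map_eq_zero_iff _ (IsFractionRing.injective S (FractionRing S))]
    exact nonZeroDivisors.ne_zero hb
  rw [eq_div_iff hb', ← map_mul]
  congr 1
  apply Subtype.ext
  change r * (b : R) = a
  rw [mul_comm, hbr]

end Groth.Agent.S13124
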