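import Groth.Statements.S13125
import Mathlib.RingTheory.GradedAlgebra.Homogeneous.Ideal

set_option autoImplicit false
universe u v
open KumFam

namespace Groth.Agent.S13125

open DirectSum in
theorem aux (ι : Type u) [DecidableEq ι] [AddMonoid ι]
    (A : Type v) [CommRing A] (𝒜 : ι → AddSubgroup A) [GradedRing 𝒜] (I : Ideal A) :
    I.IsHomogeneous 𝒜 ↔
      ∃ ℬ : ι → AddSubgroup (A ⧸ I), Nonempty (GradedRing ℬ) ∧
        ∀ i : ι, (𝒜 i).map (Ideal.Quotient.mk I : A →+ A ⧸ I) ≤ ℬ i := by
  constructor
  · intro hI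
    let f : A →+ A ⧸ I := (Ideal.Quotient.mk I : A →+ A ⧸ I)
    let ℬ : ι → AddSubgroup (A ⧸ I) := fun i => (𝒜 i).map f
    let g : ∀ i, 𝒜 i →+ ℬ i := fun i => f.addSubgroupMap (𝒜 i)
    have hg : ∀ i, Function.Surjective (g i) := fun i => f.addSubgroupMap_surjective (𝒜 i)
    have hcomm : ∀ y : ⨁ i, 𝒜 i, DirectSum.coeAddMonoidHom ℬ (DirectSum.map g y) =
        f (DirectSum.coeAddMonoidHom 𝒜 y) := by
      intro y
      have : (DirectSum.coeAddMonoidHom ℬ).comp (DirectSum.map g) =
          f.comp (DirectSum.coeAddMonoidHom 𝒜) := by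
        apply DirectSum.addHom_ext
        intro i a
        simp only [AddMonoidHom.comp_apply, DirectSum.map_of, DirectSum.coeAddMonoidHom_of]
        rfl
      exact DFunLike.congr_fun this y
    have hint : DirectSum.IsInternal ℬ := by
      constructor
      · rw [injective_iff_map_eq_zero]
        intro x hx
        obtain ⟨y, rfl⟩ := (DirectSum.map_surjective g).2 hg x
        rw [hcomm] at hx
        have hmem : DirectSum.coeAddMonoidHom 𝒜 y ∈ I := Ideal.Quotient.eq_zero_iff_mem.1 hx
        ext i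
        rw [DirectSum.map_apply]
        have := hI i hmem
        rw [show DirectSum.decompose 𝒜 (DirectSum.coeAddMonoidHom 𝒜 y) = y from
          (DirectSum.decompose 𝒜).apply_symm_apply y] at this
        have h0 : f (y i) = 0 := Ideal.Quotient.eq_zero_iff_mem.2 this
        rw [DirectSum.zero_apply, ZeroMemClass.coe_zero]
        exact h0
      · intro x
        obtain ⟨a, rfl⟩ := Ideal.Quotient.mk_surjective x
        refine ⟨DirectSum.map g (DirectSum.decompose 𝒜 a), ?_⟩
        rw [hcomm]
        exact congrArg f ((DirectSum.decompose 𝒜).symm_apply_apply a)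
    refine ⟨ℬ, ⟨{ one_mem := ?_, mul_mem := ?_, toDecomposition := hint.chooseDecomposition }⟩,
      fun i => le_rfl⟩
    · exact ⟨1, SetLike.GradedOne.one_mem, map_one (Ideal.Quotient.mk I)⟩
    · rintro i j _ _ ⟨a, ha, rfl⟩ ⟨b, hb, rfl⟩
      exact ⟨a * b, SetLike.GradedMul.mul_mem ha hb, map_mul (Ideal.Quotient.mk I) a b⟩
  · rintro ⟨ℬ, ⟨hℬ⟩, hle⟩ i r hr
    have hr0 : Ideal.Quotient.mk I r = 0 := Ideal.Quotient.eq_zero_iff_mem.2 hr
    rw [← Ideal.Quotient.eq_zero_iff_mem]
    have key : ∀ a : A, (DirectSum.decompose ℬ (Ideal.Quotient.mk I a) i : A ⧸ I) =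
        Ideal.Quotient.mk I (DirectSum.decompose 𝒜 a i) := by
      intro a
      induction a using DirectSum.Decomposition.inductionOn 𝒜 with
      | zero => simp
      | @homogeneous j m =>
        have hm : Ideal.Quotient.mk I (m : A) ∈ ℬ j := hle j ⟨m, m.2, rfl⟩
        by_cases hji : j = i
        · subst hji
          rw [DirectSum.decompose_of_mem_same ℬ hm, DirectSum.decompose_of_mem_same 𝒜 m.2]
        · rw [DirectSum.decompose_of_mem_ne ℬ hm hji, DirectSum.decompose_of_mem_ne 𝒜 m.2 hji,
            map_zero]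
      | add m m' h h' =>
        rw [map_add, DirectSum.decompose_add, DirectSum.decompose_add, DirectSum.add_apply,
          DirectSum.add_apply, AddSubgroup.coe_add, AddSubgroup.coe_add, map_add, h, h']
    rw [← key, hr0, DirectSum.decompose_zero]
    rfl

/-- Let A be a commutative ring graded by an additive monoid ι (an abelian group in the published
statement) through additive subgroups 𝒜 i, and I an ideal of A. Then I is a homogeneous ideal if and
only if A/I carries a structure of ι-graded ring ℬ for which the quotient map sends 𝒜 i into ℬ i for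
all i. -/
theorem result (ι : Type u) [DecidableEq ι] [AddMonoid ι]
    (A : Type v) [CommRing A] (𝒜 : ι → AddSubgroup A) [GradedRing 𝒜] (I : Ideal A) :
    I.IsHomogeneous 𝒜 ↔
      ∃ ℬ : ι → AddSubgroup (A ⧸ I), Nonempty (GradedRing ℬ) ∧
        ∀ i : ι, (𝒜 i).map (Ideal.Quotient.mk I : A →+ A ⧸ I) ≤ ℬ i := by
  exact aux ι A 𝒜 I

end Groth.Agent.S13125
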