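import Groth.Statements.S13126
import Mathlib.RingTheory.Ideal.Quotient.Operations
import Mathlib.Algebra.Polynomial.RingDivision
import Mathlib.RingTheory.Coprime.Lemmas
import Mathlib.Tactic.Ring
import Mathlib.Algebra.Polynomial.BigOperators

set_option autoImplicit false
universe u
open KumFam

namespace Groth.Agent.S13126

open Polynomial in
theorem aux (R : Type u) [CommRing R]
    (n : ℕ) (hn : IsUnit (n : R)) (ζ : R) (hζ : ζ ^ n = 1)
    (hprim : ∀ i : ℕ, 0 < i → i < n → IsUnit (1 - ζ ^ i)) :
    Function.Surjective (AlgHom.pi (fun i : Fin n => Polynomial.aeval (R := R) (ζ ^ (i : ℕ)))) ∧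
      RingHom.ker (AlgHom.pi (fun i : Fin n => Polynomial.aeval (R := R) (ζ ^ (i : ℕ)))) =
        Ideal.span {(X ^ n - 1 : R[X])} := by
  rcases subsingleton_or_nontrivial R with hR | hR
  · constructor
    · intro v; exact ⟨0, Subsingleton.elim _ _⟩
    · ext f
      rw [Subsingleton.elim f 0]
      simp
  have hn0 : 0 < n := by
    rcases Nat.eq_zero_or_pos n with rfl | h
    · rw [Nat.cast_zero] at hn
      exact absurd hn not_isUnit_zero
    · exact h
  have hζu : IsUnit ζ := IsUnit.of_pow_eq_one hζ hn0.ne'
  have hdiff : ∀ i j : Fin n, i ≠ j → IsUnit (ζ ^ (i:ℕ) - ζ ^ (j:ℕ)) := by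
    intro i j hij
    rcases lt_or_gt_of_ne hij with h | h
    · have : ζ ^ (i:ℕ) - ζ ^ (j:ℕ) = ζ ^ (i:ℕ) * (1 - ζ ^ ((j:ℕ) - (i:ℕ))) := by
        rw [mul_sub, mul_one, ← pow_add, Nat.add_sub_cancel' (Fin.le_of_lt h)]
      rw [this]
      exact (hζu.pow _).mul (hprim _ (Nat.sub_pos_of_lt h) (lt_of_le_of_lt (Nat.sub_le _ _) j.2))
    · have : ζ ^ (i:ℕ) - ζ ^ (j:ℕ) = -(ζ ^ (j:ℕ) * (1 - ζ ^ ((i:ℕ) - (j:ℕ)))) := by
        rw [mul_sub, mul_one, ← pow_add, Nat.add_sub_cancel' (Fin.le_of_lt h)]; ring
      rw [this]
      exact ((hζu.pow _).mul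
        (hprim _ (Nat.sub_pos_of_lt h) (lt_of_le_of_lt (Nat.sub_le _ _) i.2))).neg
  have hcop : Pairwise (fun i j : Fin n => IsCoprime (X - C (ζ ^ (i:ℕ))) (X - C (ζ ^ (j:ℕ)))) :=
    fun i j hij => isCoprime_X_sub_C_of_isUnit_sub (hdiff i j hij)
  set P : R[X] := ∏ i : Fin n, (X - C (ζ ^ (i:ℕ))) with hP
  have hPdvd : ∀ f : R[X], (∀ i : Fin n, f.eval (ζ ^ (i:ℕ)) = 0) → P ∣ f := by
    intro f hf
    apply Finset.prod_dvd_of_coprime
    · intro i _ j _ hij; exact hcop hij
    · intro i _; exact dvd_iff_isRoot.2 (hf i)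
  have hPeq : X ^ n - 1 = P := by
    have h1 : P ∣ X ^ n - 1 := hPdvd _ (fun i => by
      simp only [eval_sub, eval_pow, eval_X, eval_one]
      rw [← pow_mul, mul_comm (i:ℕ) n, pow_mul, hζ, one_pow, sub_self])
    have hPm : P.Monic := monic_prod_of_monic _ _ (fun i _ => monic_X_sub_C _)
    have hPd : P.natDegree = n := by
      rw [hP, natDegree_prod_of_monic _ _ (fun i _ => monic_X_sub_C _)]
      simp only [natDegree_X_sub_C, Finset.sum_const, Finset.card_univ, Fintype.card_fin,
        smul_eq_mul, mul_one]
    have hX : (X ^ n - 1 : R[X]) = X ^ n - C 1 := by simp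
    have hXm : (X ^ n - 1 : R[X]).Monic := by rw [hX]; exact monic_X_pow_sub_C 1 hn0.ne'
    refine eq_of_monic_of_dvd_of_natDegree_le hPm hXm h1 ?_
    rw [hPd, hX, natDegree_X_pow_sub_C]
  constructor
  · intro v
    have hcopI : Pairwise (Function.onFun IsCoprime
        (fun i : Fin n => Ideal.span {(X - C (ζ ^ (i:ℕ)) : R[X])})) := by
      intro i j hij
      exact (Ideal.isCoprime_span_singleton_iff _ _).2 (hcop hij)
    obtain ⟨f, hf⟩ := Ideal.exists_forall_sub_mem_ideal hcopI (fun i => C (v i))
    refine ⟨f, ?_⟩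
    ext i
    have h := hf i
    rw [Ideal.mem_span_singleton, dvd_iff_isRoot] at h
    simp only [IsRoot.def, eval_sub, eval_C] at h
    simp only [AlgHom.pi_apply, coe_aeval_eq_eval]
    exact sub_eq_zero.1 h
  · ext f
    rw [RingHom.mem_ker, hPeq, Ideal.mem_span_singleton]
    constructor
    · intro h
      apply hPdvd
      intro i
      have := congrFun h i
      simpa [coe_aeval_eq_eval] using this
    · rintro ⟨g, rfl⟩
      ext i
      simp only [AlgHom.pi_apply, coe_aeval_eq_eval, Pi.zero_apply, eval_mul]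
      rw [← hPeq]
      simp only [eval_sub, eval_pow, eval_X, eval_one]
      rw [← pow_mul, mul_comm (i:ℕ) n, pow_mul, hζ, one_pow, sub_self, zero_mul]

open Polynomial in
/-- Let R be a commutative ring, n a natural number which is a unit in R, and ζ ∈ R with ζ^n = 1 and 1 −
ζ^i a unit for 0 < i < n (a primitive n-th root of unity in the fibrewise sense: the powers ζ^0, …,
ζ^(n−1) are roots of X^n − 1 with pairwise unit differences; over an integral domain in which n is a
unit this is the same as ζ having multiplicative order n). Then the R-algebra homomorphism R[X] →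
(Fin n → R) sending a polynomial to its values at ζ^0, …, ζ^(n−1) is surjective and its kernel is
the ideal generated by X^n − 1; hence R[X]/(X^n − 1) ≅ R^n as R-algebras, i.e. the scheme of n-th
roots of unity over Spec R is the disjoint union of n copies of Spec R. (The published statement
asks that R contain a primitive n-th root of unity without defining the term; its Chinese-remainder
argument uses that the ideals (X − ζ^i), i < n, are pairwise comaximal, which is the unit-difference
condition taken as the hypothesis here, whereas under the reading 'ζ has multiplicative order n'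
alone the surjectivity fails over a product of two fields. The published statement also asserts that
the isomorphism respects the group-scheme structures of the n-th roots of unity and of the constant
group ℤ/n; this row does not state that.) -/
theorem result (R : Type u) [CommRing R]
    (n : ℕ) (hn : IsUnit (n : R)) (ζ : R) (hζ : ζ ^ n = 1)
    (hprim : ∀ i : ℕ, 0 < i → i < n → IsUnit (1 - ζ ^ i)) :
    Function.Surjective (AlgHom.pi (fun i : Fin n => Polynomial.aeval (R := R) (ζ ^ (i : ℕ)))) ∧
      RingHom.ker (AlgHom.pi (fun i : Fin n => Polynomial.aeval (R := R) (ζ ^ (i : ℕ)))) =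
        Ideal.span {(X ^ n - 1 : R[X])} := by
  exact aux R n hn ζ hζ hprim

end Groth.Agent.S13126
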