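import Groth.Statements.S13127
import Groth.Agent.Lib.Helper3.PowerSeriesAut
import Mathlib.Algebra.CharP.Two
import Mathlib.Algebra.CharP.Algebra
import Mathlib.Tactic.LinearCombination
import Mathlib.Tactic.FinCases

set_option autoImplicit false
universe u
open KumFam

namespace Groth.Agent.S13127

open MvPowerSeries in
theorem constantCoeff_eq_zero_of_mem {σ : Type} {R : Type u} [CommRing R]
    (g : MvPowerSeries σ R) (hg : g ∈ Ideal.span (Set.range (X : σ → MvPowerSeries σ R))) :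
    constantCoeff g = 0 := by
  have : Ideal.span (Set.range (X : σ → MvPowerSeries σ R)) ≤ RingHom.ker (constantCoeff (σ := σ) (R := R)) := by
    rw [Ideal.span_le]
    rintro _ ⟨s, rfl⟩
    simp
  exact this hg

open MvPowerSeries in
theorem exists_cube_root (R : Type u) [CommRing R] [CharP R 2] {σ : Type} [Finite σ]
    (w : MvPowerSeries σ R) (r : R) (hr : IsUnit r) (hw : constantCoeff w = r ^ 3) :
    ∃ p : MvPowerSeries σ R, p ^ 3 = w ∧ IsUnit p := by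
  have hchar : CharP (MvPowerSeries σ R) 2 :=
    charP_of_injective_ringHom (MvPowerSeries.C_injective (σ := σ) (R := R)) 2
  have two : (2 : MvPowerSeries σ R) = 0 := CharTwo.two_eq_zero
  have three : (3 : MvPowerSeries σ R) = 1 := by
    have : (3 : MvPowerSeries σ R) = 2 + 1 := by norm_num
    rw [this, two, zero_add]
  have hH : HenselianRing (MvPowerSeries σ R) (Ideal.span (Set.range (X : σ → MvPowerSeries σ R))) :=
    inferInstance
  obtain ⟨p, hp1, hp2⟩ := hH.is_henselian (Polynomial.X ^ 3 - Polynomial.C w)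
    (Polynomial.monic_X_pow_sub_C w (by norm_num)) (C r)
    (by
      apply Groth.Agent.Lib.Helper3.mem_span_range_X_of_constantCoeff_eq_zero
      simp [hw])
    (by
      apply IsUnit.map
      simp only [Polynomial.derivative_sub, Polynomial.derivative_X_pow, Polynomial.derivative_C,
        sub_zero, Polynomial.eval_mul, Polynomial.eval_C, Polynomial.eval_pow, Polynomial.eval_X]
      have : ((3 : ℕ) : MvPowerSeries σ R) = 1 := by exact_mod_cast three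
      first
        | (rw [one_mul]; exact (hr.map C).pow _)
        | (rw [this, one_mul]; exact (hr.map C).pow _)
        | (rw [this, map_one, Polynomial.eval_one, one_mul]; exact (hr.map C).pow _))
  refine ⟨p, ?_, ?_⟩
  · have := hp1
    simp only [Polynomial.IsRoot.def, Polynomial.eval_sub, Polynomial.eval_pow, Polynomial.eval_X,
      Polynomial.eval_C] at this
    exact sub_eq_zero.mp this
  · rw [isUnit_iff_constantCoeff]
    have h0 := constantCoeff_eq_zero_of_mem _ hp2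
    rw [map_sub, sub_eq_zero] at h0
    rw [h0]
    simpa using hr

open MvPowerSeries in
theorem aux (R : Type u) [CommRing R] [CharP R 2]
    (l0 l2 l4 s0 s2 s4 τ lam sig κ₁ κ₂ : R) (hl4 : IsUnit l4) (hs4 : IsUnit s4) (hlam : IsUnit lam)
    (hsig : IsUnit sig) (h₁ : s4 ^ 2 * κ₁ ^ 3 = sig ^ 2) (h₂ : l4 ^ 2 * κ₂ ^ 3 = lam ^ 2) :
    ∃ φ : MvPowerSeries (Fin 3) R ≃ₐ[R] MvPowerSeries (Fin 3) R,
      φ ((X 2 ^ 2 + C (s0 ^ 2) * X 0 ^ 3 * X 1 ^ 4 + C (s2 ^ 2) * X 0 ^ 3 * X 1 ^ 2 +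
          C (s4 ^ 2) * X 0 ^ 3 + C (l0 ^ 2) * X 0 ^ 4 * X 1 ^ 3 + C (l2 ^ 2) * X 0 ^ 2 * X 1 ^ 3 +
          C (l4 ^ 2) * X 1 ^ 3 + C (τ ^ 2) * X 0 ^ 3 * X 1 ^ 3 : MvPowerSeries (Fin 3) R)) =
        (X 2 ^ 2 + C (sig ^ 2) * X 0 ^ 3 + C (lam ^ 2) * X 1 ^ 3 : MvPowerSeries (Fin 3) R) := by
  -- inverses
  obtain ⟨sigi, hs⟩ := hsig.exists_right_inv
  obtain ⟨lami, hl⟩ := hlam.exists_right_inv
  have hκ₁u : IsUnit κ₁ := by
    have h : IsUnit (s4 ^ 2 * κ₁ ^ 3) := by rw [h₁]; exact hsig.pow 2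
    exact (isUnit_pow_iff (by norm_num)).1 (isUnit_of_mul_isUnit_right h)
  have hκ₂u : IsUnit κ₂ := by
    have h : IsUnit (l4 ^ 2 * κ₂ ^ 3) := by rw [h₂]; exact hlam.pow 2
    exact (isUnit_pow_iff (by norm_num)).1 (isUnit_of_mul_isUnit_right h)
  obtain ⟨κ₁i, hk1⟩ := hκ₁u.exists_right_inv
  obtain ⟨κ₂i, hk2⟩ := hκ₂u.exists_right_inv
  have hκ₁iu : IsUnit κ₁i := IsUnit.of_mul_eq_one _ (by rw [mul_comm]; exact hk1)
  have hκ₂iu : IsUnit κ₂i := IsUnit.of_mul_eq_one _ (by rw [mul_comm]; exact hk2)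
  set a : MvPowerSeries (Fin 3) R := X 0 with ha
  set b : MvPowerSeries (Fin 3) R := X 1 with hb
  set c : MvPowerSeries (Fin 3) R := X 2 with hc
  let U : MvPowerSeries (Fin 3) R := C (s4 ^ 2) + C (s2 ^ 2) * b ^ 2 + C (τ ^ 2) * b ^ 3 + C (s0 ^ 2) * b ^ 4
  let V : MvPowerSeries (Fin 3) R := C (l4 ^ 2) + C (l2 ^ 2) * a ^ 2 + C (l0 ^ 2) * a ^ 4
  obtain ⟨p, hp, hpu⟩ := exists_cube_root R (C (sigi ^ 2) * U) κ₁i hκ₁iu (by
    simp only [U, a, b, map_mul, map_add, map_pow, constantCoeff_C, constantCoeff_X]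
    linear_combination (exp := 1) (κ₁i ^ 3 * (sig * sigi + 1)) * hs + (κ₁i ^ 3 * sigi ^ 2) * h₁ -
      (sigi ^ 2 * s4 ^ 2 * ((κ₁ * κ₁i) ^ 2 + κ₁ * κ₁i + 1)) * hk1)
  obtain ⟨q, hq, hqu⟩ := exists_cube_root R (C (lami ^ 2) * V) κ₂i hκ₂iu (by
    simp only [V, a, b, map_mul, map_add, map_pow, constantCoeff_C, constantCoeff_X]
    linear_combination (exp := 1) (κ₂i ^ 3 * (lam * lami + 1)) * hl + (κ₂i ^ 3 * lami ^ 2) * h₂ -
      (lami ^ 2 * l4 ^ 2 * ((κ₂ * κ₂i) ^ 2 + κ₂ * κ₂i + 1)) * hk2)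
  have hu : ∀ s, IsUnit ((![p, q, 1] : Fin 3 → MvPowerSeries (Fin 3) R) s) := by
    intro s
    fin_cases s
    · exact hpu
    · exact hqu
    · exact isUnit_one
  have hψ := Groth.Agent.Lib.Helper3.substAlgHom_X_mul_unit_bijective _ hu
  let ψ : MvPowerSeries (Fin 3) R ≃ₐ[R] MvPowerSeries (Fin 3) R := AlgEquiv.ofBijective _ hψ
  have hsub := Groth.Agent.Lib.Helper3.hasSubst_X_mul (![p, q, 1] : Fin 3 → MvPowerSeries (Fin 3) R)
  have hψapp : ∀ f, ψ f = subst (R := R) (fun s => X s * (![p, q, 1] : Fin 3 → MvPowerSeries (Fin 3) R) s) f :=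
    fun f => substAlgHom_apply hsub f
  have hψa : subst (R := R) (fun s => X s * (![p, q, 1] : Fin 3 → MvPowerSeries (Fin 3) R) s) a = a * p := by
    rw [ha, subst_X hsub]; rfl
  have hψb : subst (R := R) (fun s => X s * (![p, q, 1] : Fin 3 → MvPowerSeries (Fin 3) R) s) b = b * q := by
    rw [hb, subst_X hsub]; rfl
  have hψc : subst (R := R) (fun s => X s * (![p, q, 1] : Fin 3 → MvPowerSeries (Fin 3) R) s) c = c := by
    rw [hc, subst_X hsub]; simp [c]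
  refine ⟨ψ.symm, ?_⟩
  rw [AlgEquiv.symm_apply_eq, hψapp]
  simp only [subst_add hsub, subst_mul hsub, subst_pow hsub, subst_C, hψa, hψb, hψc]
  have hss : C (sig ^ 2) * C (sigi ^ 2) = (1 : MvPowerSeries (Fin 3) R) := by
    rw [← map_mul, ← mul_pow, hs, one_pow, map_one]
  have hll : C (lam ^ 2) * C (lami ^ 2) = (1 : MvPowerSeries (Fin 3) R) := by
    rw [← map_mul, ← mul_pow, hl, one_pow, map_one]
  linear_combination (exp := 1) (-(C (sig ^ 2) * a ^ 3)) * hp - (a ^ 3 * U) * hss -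
    (C (lam ^ 2) * b ^ 3) * hq - (b ^ 3 * V) * hll

open MvPowerSeries in
/-- Let R be a commutative ring of characteristic 2 and l0, l2, l4, s0, s2, s4, τ, lam, sig ∈ R with l4,
s4, lam, sig units, and let κ₁, κ₂ ∈ R satisfy s4² κ₁³ = sig² and l4² κ₂³ = lam² (cube roots of
sig²/s4² and lam²/l4²). In the power series ring R[[a, b, c]] (a = X 0, b = X 1, c = X 2) put F = c²
+ s0² a³ b⁴ + s2² a³ b² + s4² a³ + l0² a⁴ b³ + l2² a² b³ + l4² b³ + τ² a³ b³ and F₀ = c² + sig² a³ +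
lam² b³. Then some R-algebra automorphism of R[[a, b, c]] maps F to F₀; consequently R[[a, b,
c]]/(F) ≅ R[[a, b, c]]/(F₀). (In the published statement lam, sig are the representatives in the
ground field of the residues of l4, s4 at a rational point, so that F₀ is the equation of the
special fibre made constant; this row takes them to be arbitrary units.) -/
theorem result (R : Type u) [CommRing R] [CharP R 2]
    (l0 l2 l4 s0 s2 s4 τ lam sig κ₁ κ₂ : R) (hl4 : IsUnit l4) (hs4 : IsUnit s4) (hlam : IsUnit lam)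
    (hsig : IsUnit sig) (h₁ : s4 ^ 2 * κ₁ ^ 3 = sig ^ 2) (h₂ : l4 ^ 2 * κ₂ ^ 3 = lam ^ 2) :
    ∃ φ : MvPowerSeries (Fin 3) R ≃ₐ[R] MvPowerSeries (Fin 3) R,
      φ ((X 2 ^ 2 + C (s0 ^ 2) * X 0 ^ 3 * X 1 ^ 4 + C (s2 ^ 2) * X 0 ^ 3 * X 1 ^ 2 +
          C (s4 ^ 2) * X 0 ^ 3 + C (l0 ^ 2) * X 0 ^ 4 * X 1 ^ 3 + C (l2 ^ 2) * X 0 ^ 2 * X 1 ^ 3 +
          C (l4 ^ 2) * X 1 ^ 3 + C (τ ^ 2) * X 0 ^ 3 * X 1 ^ 3 : MvPowerSeries (Fin 3) R)) =
        (X 2 ^ 2 + C (sig ^ 2) * X 0 ^ 3 + C (lam ^ 2) * X 1 ^ 3 : MvPowerSeries (Fin 3) R) := by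
  exact aux R l0 l2 l4 s0 s2 s4 τ lam sig κ₁ κ₂ hl4 hs4 hlam hsig h₁ h₂

end Groth.Agent.S13127
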