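import Groth.Statements.S13128
import Groth.Agent.Lib.Helper3.PowerSeriesAut
import Mathlib.Algebra.CharP.Two
import Mathlib.Algebra.CharP.Algebra
import Mathlib.Tactic.LinearCombination
import Mathlib.Tactic.FinCases

set_option autoImplicit false
universe u
open KumFam

namespace Groth.Agent.S13128

open MvPowerSeries in
theorem sqrt_exists (R : Type u) [CommRing R] [CharP R 2] (l0 l2 l4 τ α : R) (hτ : IsUnit τ)
    (hα : l4 ^ 2 * α ^ 4 + l2 ^ 2 * α ^ 2 + τ ^ 2 * α + l0 ^ 2 = 0) : ∃ α' : R, α' ^ 2 = α := by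
  obtain ⟨ti, hti⟩ := hτ.exists_right_inv
  have h2 : (2 : R) = 0 := CharTwo.two_eq_zero
  refine ⟨ti * (l4 * α ^ 2 + l2 * α + l0), ?_⟩
  linear_combination (exp := 1) ti ^ 2 * hα - α * (τ * ti + 1) * hti +
    (ti ^ 2 * (l4 * α ^ 2 * (l2 * α) + l4 * α ^ 2 * l0 + l2 * α * l0) - α) * h2

open MvPowerSeries in
theorem aux (R : Type u) [CommRing R] [CharP R 2]
    (l0 l2 l4 s0 s2 s4 τ α β : R) (hτ : IsUnit τ)
    (hα : l4 ^ 2 * α ^ 4 + l2 ^ 2 * α ^ 2 + τ ^ 2 * α + l0 ^ 2 = 0)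
    (hβ : s4 ^ 2 * β ^ 4 + s2 ^ 2 * β ^ 2 + τ ^ 2 * β + s0 ^ 2 = 0) :
    ∃ φ : MvPowerSeries (Fin 3) R ≃ₐ[R] MvPowerSeries (Fin 3) R,
      φ ((X 2 ^ 2 + C (τ ^ 2) * X 0 * X 1 + (C (s4 ^ 2) * X 1 ^ 4 + C (s2 ^ 2) * X 1 ^ 2) * X 0 +
          (C (l4 ^ 2) * X 0 ^ 4 + C (l2 ^ 2) * X 0 ^ 2) * X 1 + C (l4 ^ 2 * β) * X 0 ^ 4 +
          C (l2 ^ 2 * β) * X 0 ^ 2 + C (s4 ^ 2 * α) * X 1 ^ 4 + C (s2 ^ 2 * α) * X 1 ^ 2 :
          MvPowerSeries (Fin 3) R)) =
        (X 2 ^ 2 + X 0 * X 1 : MvPowerSeries (Fin 3) R) := by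
  obtain ⟨α', hα'⟩ := sqrt_exists R l0 l2 l4 τ α hτ hα
  obtain ⟨β', hβ'⟩ := sqrt_exists R s0 s2 s4 τ β hτ hβ
  have hchar : CharP (MvPowerSeries (Fin 3) R) 2 :=
    charP_of_injective_ringHom (MvPowerSeries.C_injective (σ := Fin 3) (R := R)) 2
  have two : (2 : MvPowerSeries (Fin 3) R) = 0 := CharTwo.two_eq_zero
  -- notation
  set a : MvPowerSeries (Fin 3) R := X 0 with ha
  set b : MvPowerSeries (Fin 3) R := X 1 with hb
  set c : MvPowerSeries (Fin 3) R := X 2 with hc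
  let γ : MvPowerSeries (Fin 3) R := C β' * (C l4 * a ^ 2 + C l2 * a) + C α' * (C s4 * b ^ 2 + C s2 * b)
  let uu : MvPowerSeries (Fin 3) R :=
    C (τ ^ 2) + C (s4 ^ 2) * b ^ 3 + C (s2 ^ 2) * b + C (l4 ^ 2) * a ^ 3 + C (l2 ^ 2) * a
  -- the shift
  have hθ : HasSubst (![a, b, c + γ] : Fin 3 → MvPowerSeries (Fin 3) R) :=
    hasSubst_of_constantCoeff_zero (fun s => by fin_cases s <;> simp [a, b, c, γ])
  have hθa : subst (R := R) ![a, b, c + γ] a = a := by
    rw [ha, subst_X hθ]; rfl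
  have hθb : subst (R := R) ![a, b, c + γ] b = b := by
    rw [hb, subst_X hθ]; rfl
  have hθc : subst (R := R) ![a, b, c + γ] c = c + γ := by
    rw [hc, subst_X hθ]; rfl
  have hθγ : subst (R := R) ![a, b, c + γ] γ = γ := by
    simp only [γ, subst_add hθ, subst_mul hθ, subst_pow hθ, subst_C, hθa, hθb]
  have hθθ : ∀ f, subst (R := R) ![a, b, c + γ] (subst (R := R) ![a, b, c + γ] f) = f := by
    intro f
    rw [subst_comp_subst_apply hθ hθ]
    have : (fun s => subst (R := R) ![a, b, c + γ] ((![a, b, c + γ] : Fin 3 → MvPowerSeries (Fin 3) R) s)) =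
        (X : Fin 3 → MvPowerSeries (Fin 3) R) := by
      funext s
      fin_cases s
      · exact hθa
      · exact hθb
      · show subst (R := R) ![a, b, c + γ] (c + γ) = X 2
        rw [subst_add hθ, hθc, hθγ, add_assoc, CharTwo.add_self_eq_zero, add_zero]
    rw [this, subst_self]
    rfl
  let θ : MvPowerSeries (Fin 3) R ≃ₐ[R] MvPowerSeries (Fin 3) R :=
    AlgEquiv.ofAlgHom (substAlgHom (R := R) hθ) (substAlgHom (R := R) hθ)
      (AlgHom.ext (fun f => by simpa using hθθ f)) (AlgHom.ext (fun f => by simpa using hθθ f))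
  -- the diagonal automorphism
  have hu : ∀ s, IsUnit ((![uu, 1, 1] : Fin 3 → MvPowerSeries (Fin 3) R) s) := by
    intro s
    fin_cases s
    · show IsUnit uu
      rw [isUnit_iff_constantCoeff]
      simpa [uu, a, b] using hτ.pow 2
    · exact isUnit_one
    · exact isUnit_one
  have hψ := Groth.Agent.Lib.Helper3.substAlgHom_X_mul_unit_bijective _ hu
  let ψ : MvPowerSeries (Fin 3) R ≃ₐ[R] MvPowerSeries (Fin 3) R := AlgEquiv.ofBijective _ hψ
  have hsub := Groth.Agent.Lib.Helper3.hasSubst_X_mul (![uu, 1, 1] : Fin 3 → MvPowerSeries (Fin 3) R)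
  have hψa : ψ a = a * uu := by
    show substAlgHom (R := R) hsub (X 0) = _
    rw [substAlgHom_X]; rfl
  have hψb : ψ b = b := by
    show substAlgHom (R := R) hsub (X 1) = _
    rw [substAlgHom_X]; simp [b]
  have hψc : ψ c = c := by
    show substAlgHom (R := R) hsub (X 2) = _
    rw [substAlgHom_X]; simp [c]
  refine ⟨θ.trans ψ.symm, ?_⟩
  rw [AlgEquiv.trans_apply, AlgEquiv.symm_apply_eq]
  have hR : ψ (c ^ 2 + a * b) = c ^ 2 + a * uu * b := by
    rw [map_add, map_pow, map_mul, hψa, hψb, hψc]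
  rw [hR]
  have hθapp : ∀ f, θ f = subst (R := R) ![a, b, c + γ] f := fun f => substAlgHom_apply hθ f
  rw [hθapp]
  simp only [subst_add hθ, subst_mul hθ, subst_pow hθ, subst_C, hθa, hθb, hθc]
  have e1 : (c + γ) ^ 2 = c ^ 2 + C β * (C (l4 ^ 2) * a ^ 4 + C (l2 ^ 2) * a ^ 2) +
      C α * (C (s4 ^ 2) * b ^ 4 + C (s2 ^ 2) * b ^ 2) := by
    rw [CharTwo.add_sq c γ]
    simp only [γ]
    rw [CharTwo.add_sq, mul_pow, mul_pow, ← map_pow, ← map_pow, hα', hβ', CharTwo.add_sq,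
      CharTwo.add_sq]
    simp only [map_pow, mul_pow]
    ring
  rw [e1]
  simp only [uu, map_mul, map_pow]
  linear_combination (exp := 1) (C β * (C l4 ^ 2 * a ^ 4 + C l2 ^ 2 * a ^ 2) +
      C α * (C s4 ^ 2 * b ^ 4 + C s2 ^ 2 * b ^ 2)) * two

open MvPowerSeries in
/-- Let R be a commutative ring of characteristic 2, l0, l2, l4, s0, s2, s4, τ ∈ R with τ a unit, and α,
β ∈ R with l4² α⁴ + l2² α² + τ² α + l0² = 0 and s4² β⁴ + s2² β² + τ² β + s0² = 0. In characteristic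
2 these relations give τ² α = (l4 α² + l2 α + l0)² and τ² β = (s4 β² + s2 β + s0)², so α = α′² and β
= β′² with α′ = (l4 α² + l2 α + l0)/τ and β′ = (s4 β² + s2 β + s0)/τ. In R[[a, b, c]] (a = X 0, b =
X 1, c = X 2) put h = c² + τ² a b + (s4² b⁴ + s2² b²) a + (l4² a⁴ + l2² a²) b + l4² β a⁴ + l2² β a²
+ s4² α b⁴ + s2² α b²; this is the chart equation c² + τ² a b + (s4² b⁴ + s2² b² + s0²) a + (l4² a⁴
+ l2² a² + l0²) b after the substitution a ↦ a + α, b ↦ b + β, c ↦ c + τ α′ β′, which moves the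
point (α, β, τ α′ β′) of that surface, where all partial derivatives vanish, to the origin. Then
some R-algebra automorphism of R[[a, b, c]] maps h to c² + a b; consequently R[[a, b, c]]/(h) ≅
R[[a, b, c]]/(c² + a b), the completed local ring of an ordinary double point, constant over R. (The
published statement translates only a and b, so that its h carries the additional constant term τ² α
β; with that term h is a unit of R[[a, b, c]] whenever τ α β is a unit, for instance c² + a b + 1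
over the field with two elements with l0 = s0 = τ = α = β = 1 and l2 = l4 = s2 = s4 = 0, and no ring
automorphism carries a unit to c² + a b. The published proof begins by shifting c by a polynomial in
a, b whose constant term is τ α′ β′, a substitution of the polynomial ring which removes the term τ²
α β, and the rest of its argument takes place in R[[a, b, c]]; this row states the result for the
fully translated equation, which is what that argument proves.) -/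
theorem result (R : Type u) [CommRing R] [CharP R 2]
    (l0 l2 l4 s0 s2 s4 τ α β : R) (hτ : IsUnit τ)
    (hα : l4 ^ 2 * α ^ 4 + l2 ^ 2 * α ^ 2 + τ ^ 2 * α + l0 ^ 2 = 0)
    (hβ : s4 ^ 2 * β ^ 4 + s2 ^ 2 * β ^ 2 + τ ^ 2 * β + s0 ^ 2 = 0) :
    ∃ φ : MvPowerSeries (Fin 3) R ≃ₐ[R] MvPowerSeries (Fin 3) R,
      φ ((X 2 ^ 2 + C (τ ^ 2) * X 0 * X 1 + (C (s4 ^ 2) * X 1 ^ 4 + C (s2 ^ 2) * X 1 ^ 2) * X 0 +
          (C (l4 ^ 2) * X 0 ^ 4 + C (l2 ^ 2) * X 0 ^ 2) * X 1 + C (l4 ^ 2 * β) * X 0 ^ 4 +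
          C (l2 ^ 2 * β) * X 0 ^ 2 + C (s4 ^ 2 * α) * X 1 ^ 4 + C (s2 ^ 2 * α) * X 1 ^ 2 :
          MvPowerSeries (Fin 3) R)) =
        (X 2 ^ 2 + X 0 * X 1 : MvPowerSeries (Fin 3) R) := by
  exact aux R l0 l2 l4 s0 s2 s4 τ α β hτ hα hβ

end Groth.Agent.S13128
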