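import Groth.Statements.S13130
import Mathlib.GroupTheory.Torsion
import Mathlib.RingTheory.IntegralClosure.Algebra.Basic
import Mathlib.Algebra.MonoidAlgebra.Basic

set_option autoImplicit false
universe u v
open KumFam

namespace Groth.Agent.S13130

theorem aux (R : Type u) [CommRing R] [Nontrivial R]
    (M : Type v) [CommGroup M] :
    Algebra.IsIntegral R (MonoidAlgebra R M) ↔ IsMulTorsion M := by
  classical
  constructor
  · intro h m
    by_contra hm
    have hinj := (injective_pow_iff_not_isOfFinOrder (x := m)).2 hm
    obtain ⟨p, hp, hp0⟩ := h.isIntegral (MonoidAlgebra.of R M m)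
    rw [← Polynomial.aeval_def, Polynomial.aeval_eq_sum_range] at hp0
    have := congrArg (fun f : MonoidAlgebra R M => f.coeff (m ^ p.natDegree)) hp0
    simp only [MonoidAlgebra.of_apply, MonoidAlgebra.single_pow, one_pow,
      MonoidAlgebra.smul_single', mul_one,
      MonoidAlgebra.coeff_sum, MonoidAlgebra.coeff_single, MonoidAlgebra.coeff_zero,
      Finsupp.coe_zero, Pi.zero_apply] at this
    rw [Finsupp.coe_finset_sum, Finset.sum_apply] at this
    simp only [Finsupp.single_apply] at this
    rw [Finset.sum_eq_single p.natDegree] at this
    · simp only [if_true, hp.coeff_natDegree] at this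
      exact one_ne_zero this
    · intro b _ hb
      rw [if_neg]
      intro h'
      exact hb (hinj h')
    · intro h'
      exact absurd (Finset.mem_range.2 (Nat.lt_succ_self _)) h'
  · intro h
    constructor
    intro f
    induction f using MonoidAlgebra.induction_on with
    | of m =>
      obtain ⟨n, hn, hmn⟩ := (h m).exists_pow_eq_one
      refine ⟨Polynomial.X ^ n - 1, Polynomial.monic_X_pow_sub_C (1 : R) hn.ne', ?_⟩
      simp [MonoidAlgebra.single_pow, hmn, MonoidAlgebra.one_def]
    | add f g hf hg => exact hf.add hg
    | smul r f hf => exact hf.smul r

/-- Let R be a nontrivial commutative ring and M a commutative group, with group algebra R[M], the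
coordinate ring of the diagonalizable group scheme D(M) over Spec R. Then D(M) is integral over Spec
R, i.e. R[M] is an integral R-algebra, if and only if M is a torsion group. (The published statement
is over an arbitrary base scheme; the question is local and this row is the affine form, with R
nontrivial so that the elements of M are R-linearly independent.) -/
theorem result (R : Type u) [CommRing R] [Nontrivial R]
    (M : Type v) [CommGroup M] :
    Algebra.IsIntegral R (MonoidAlgebra R M) ↔ IsMulTorsion M := by
  exact aux R M

end Groth.Agent.S13130
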