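import Groth.Statements.S13131
import Mathlib.AlgebraicGeometry.Limits
import Mathlib.AlgebraicGeometry.Gluing
import Mathlib.Topology.LocallyConstant.Basic

set_option autoImplicit false
universe u
open CategoryTheory CategoryTheory.Limits AlgebraicGeometry
open KumFam

namespace Groth.Agent.S13131

/-- index function -/
noncomputable def idx (S : Scheme.{u}) (M : Type u) {T : Scheme.{u}}
    (f : T ⟶ ∐ (fun _ : M => S)) (t : T) : M :=
  ((sigmaMk (fun _ : M => S)).symm (f.base t)).1

theorem idx_locConst (S : Scheme.{u}) (M : Type u) {T : Scheme.{u}}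
    (f : T ⟶ ∐ (fun _ : M => S)) : IsLocallyConstant (idx S M f) := by
  letI : TopologicalSpace M := ⊥
  haveI : DiscreteTopology M := ⟨rfl⟩
  rw [IsLocallyConstant.iff_continuous]
  have h1 : Continuous (fun x : (Σ _ : M, S) => x.1) :=
    continuous_sigma (fun i => continuous_const)
  exact h1.comp ((sigmaMk (fun _ : M => S)).symm.continuous.comp f.continuous)

theorem base_eq_of_idx (S : Scheme.{u}) (M : Type u) {T : Scheme.{u}}
    (f : T ⟶ ∐ (fun _ : M => S)) (t : T) :
    ∃ s : S, f.base t = (Sigma.ι (fun _ : M => S) (idx S M f t)).base s := by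
  refine ⟨((sigmaMk (fun _ : M => S)).symm (f.base t)).2, ?_⟩
  have := sigmaMk_mk (fun _ : M => S) (idx S M f t) ((sigmaMk (fun _ : M => S)).symm (f.base t)).2
  rw [← this]
  exact ((sigmaMk (fun _ : M => S)).apply_symm_apply (f.base t)).symm

theorem idx_ι (S : Scheme.{u}) (M : Type u) {T : Scheme.{u}} (q : T ⟶ S) (m : M) (t : T) :
    idx S M (q ≫ Sigma.ι (fun _ : M => S) m) t = m := by
  unfold idx
  have := sigmaMk_mk (fun _ : M => S) m (q.base t)
  rw [Scheme.Hom.comp_base, TopCat.comp_app, ← this, Homeomorph.symm_apply_apply]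

theorem restrict_eq (S : Scheme.{u}) (M : Type u) {T : Scheme.{u}} (p : T ⟶ S)
    (f : T ⟶ ∐ (fun _ : M => S)) (hf : f ≫ Sigma.desc (fun _ : M => 𝟙 S) = p)
    (m : M) (U : T.Opens) (hU : ∀ t ∈ U, idx S M f t = m) :
    U.ι ≫ f = U.ι ≫ p ≫ Sigma.ι (fun _ : M => S) m := by
  have hrange : Set.range (U.ι ≫ f).base ⊆ Set.range (Sigma.ι (fun _ : M => S) m).base := by
    rintro _ ⟨t, rfl⟩
    obtain ⟨s, hs⟩ := base_eq_of_idx S M f (U.ι.base t)
    rw [hU _ (by simpa using t.2)] at hs
    exact ⟨s, by rw [Scheme.Hom.comp_base, TopCat.comp_app, hs]⟩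
  have h1 := IsOpenImmersion.lift_fac (Sigma.ι (fun _ : M => S) m) (U.ι ≫ f) hrange
  have h2 : IsOpenImmersion.lift (Sigma.ι (fun _ : M => S) m) (U.ι ≫ f) hrange = U.ι ≫ p := by
    have := congrArg (· ≫ Sigma.desc (fun _ : M => 𝟙 S)) h1
    simp only [Category.assoc, Sigma.ι_desc, Category.comp_id, hf] at this
    exact this
  rw [← h1, h2, Category.assoc]

theorem aux (S : Scheme.{u}) (M : Type u)
    (T : Scheme.{u}) (p : T ⟶ S) :
    ∃ e : {f : T ⟶ ∐ (fun _ : M => S) // f ≫ Sigma.desc (fun _ : M => 𝟙 S) = p} ≃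
        LocallyConstant T M,
      ∀ (f : {f : T ⟶ ∐ (fun _ : M => S) // f ≫ Sigma.desc (fun _ : M => 𝟙 S) = p}) (t : T),
        e f t = ((sigmaMk (fun _ : M => S)).symm (f.1.base t)).1 := by
  classical
  have hcover : ∀ φ : LocallyConstant T M, TopologicalSpace.IsOpenCover
      (fun m : M => (⟨φ ⁻¹' {m}, φ.isLocallyConstant.isOpen_fiber m⟩ : T.Opens)) := by
    intro φ
    rw [TopologicalSpace.IsOpenCover, eq_top_iff]
    intro t _
    rw [TopologicalSpace.Opens.mem_iSup]
    exact ⟨φ t, rfl⟩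
  refine ⟨Equiv.ofBijective (fun f => ⟨idx S M f.1, idx_locConst S M f.1⟩) ⟨?_, ?_⟩,
    fun f t => rfl⟩
  · rintro ⟨f, hf⟩ ⟨f', hf'⟩ h
    have hfun : idx S M f = idx S M f' := congrArg (fun φ : LocallyConstant T M => (φ : T → M)) h
    apply Subtype.ext
    let φ : LocallyConstant T M := ⟨idx S M f, idx_locConst S M f⟩
    refine (T.openCoverOfIsOpenCover _ (hcover φ)).hom_ext _ _ (fun m => ?_)
    change Scheme.Opens.ι _ ≫ f = Scheme.Opens.ι _ ≫ f'
    rw [restrict_eq S M p f hf m _ (fun t ht => ht),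
      restrict_eq S M p f' hf' m _ (fun t ht => by rw [← hfun]; exact ht)]
  · intro φ
    let U : M → T.Opens := fun m => ⟨φ ⁻¹' {m}, φ.isLocallyConstant.isOpen_fiber m⟩
    let 𝒰 : T.OpenCover := T.openCoverOfIsOpenCover U (hcover φ)
    let g : ∀ m : M, 𝒰.X m ⟶ ∐ (fun _ : M => S) :=
      fun m => (U m).ι ≫ p ≫ Sigma.ι (fun _ : M => S) m
    have hg : ∀ x y, pullback.fst (𝒰.f x) (𝒰.f y) ≫ g x = pullback.snd _ _ ≫ g y := by
      intro x y
      by_cases hxy : x = y
      · subst hxy
        have : pullback.fst (𝒰.f x) (𝒰.f x) = pullback.snd (𝒰.f x) (𝒰.f x) :=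
          (cancel_mono (𝒰.f x)).1 pullback.condition
        rw [this]
      · haveI : IsEmpty ↑(pullback (𝒰.f x) (𝒰.f y)) := by
          constructor
          intro z
          have hc := congrArg (fun k => k.base z) (pullback.condition (f := 𝒰.f x) (g := 𝒰.f y))
          simp only [Scheme.Hom.comp_base, TopCat.comp_app] at hc
          have h1 : φ ((𝒰.f x).base ((pullback.fst (𝒰.f x) (𝒰.f y)).base z)) = x :=
            ((pullback.fst (𝒰.f x) (𝒰.f y)).base z).2
          have h2 : φ ((𝒰.f y).base ((pullback.snd (𝒰.f x) (𝒰.f y)).base z)) = y :=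
            ((pullback.snd (𝒰.f x) (𝒰.f y)).base z).2
          rw [hc] at h1
          exact hxy (h1.symm.trans h2)
        exact (isInitialOfIsEmpty (X := pullback (𝒰.f x) (𝒰.f y))).hom_ext _ _
    let f : T ⟶ ∐ (fun _ : M => S) := 𝒰.glueMorphisms g hg
    have hfg : ∀ m, 𝒰.f m ≫ f = g m := fun m => 𝒰.ι_glueMorphisms g hg m
    have hf : f ≫ Sigma.desc (fun _ : M => 𝟙 S) = p := by
      refine 𝒰.hom_ext _ _ (fun m => ?_)
      rw [← Category.assoc, hfg]
      simp only [g, Category.assoc, Sigma.ι_desc, Category.comp_id]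
      rfl
    refine ⟨⟨f, hf⟩, ?_⟩
    ext t
    change idx S M f t = φ t
    have ht : t ∈ U (φ t) := rfl
    have h3 : f.base t = (g (φ t)).base ⟨t, ht⟩ := by
      rw [← hfg]
      rfl
    unfold idx
    rw [h3]
    exact idx_ι S M ((U (φ t)).ι ≫ p) (φ t) ⟨t, ht⟩

/-- Let S be a scheme, M a set and p : T → S a scheme over S. The S-morphisms T → ∐_{m ∈ M} S (the
constant S-scheme on M, with its structure map the codiagonal) are in bijection with the locally
constant maps T → M, a morphism f corresponding to the function sending t to the index of the copy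
of S containing f(t). (In the published statement M is a group and ∐_M S the constant group scheme;
the group structures play no role in this description of T-points.) -/
theorem result (S : Scheme.{u}) (M : Type u)
    (T : Scheme.{u}) (p : T ⟶ S) :
    ∃ e : {f : T ⟶ ∐ (fun _ : M => S) // f ≫ Sigma.desc (fun _ : M => 𝟙 S) = p} ≃
        LocallyConstant T M,
      ∀ (f : {f : T ⟶ ∐ (fun _ : M => S) // f ≫ Sigma.desc (fun _ : M => 𝟙 S) = p}) (t : T),
        e f t = ((sigmaMk (fun _ : M => S)).symm (f.1.base t)).1 := by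
  exact aux S M T p

end Groth.Agent.S13131
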