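import Groth.Statements.S13132
import Groth.Agent.Lib.Helper3.ArtinLocalFlat

set_option autoImplicit false
universe u v
open CAlg

namespace Groth.Agent.S13132

open Function TensorProduct in
theorem bridge {A B : Type*} [CommRing A] [CommRing B] [Algebra A B] (J : Ideal A) (f : B) :
    Ideal.Quotient.mk (J.map (algebraMap A B)) f ∈ nonZeroDivisors (B ⧸ J.map (algebraMap A B)) ↔
      Injective ((LinearMap.mulLeft A f).lTensor (A ⧸ J)) := by
  rw [LinearMap.lTensor_inj_iff_rTensor_inj]
  let e := Algebra.TensorProduct.quotIdealMapEquivTensorQuot B J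
  have key : ∀ x, e (Ideal.Quotient.mk (J.map (algebraMap A B)) f * x) =
      (LinearMap.mulLeft A f).rTensor (A ⧸ J) (e x) := by
    intro x
    obtain ⟨b, rfl⟩ := Ideal.Quotient.mk_surjective x
    rw [← map_mul]
    change (f * b) ⊗ₜ[A] (1 : A ⧸ J) = (LinearMap.mulLeft A f).rTensor (A ⧸ J) (b ⊗ₜ[A] 1)
    rw [LinearMap.rTensor_tmul, LinearMap.mulLeft_apply]
  constructor
  · intro h
    rw [injective_iff_map_eq_zero]
    intro y hy
    obtain ⟨x, rfl⟩ := e.surjective y
    rw [← key] at hy
    have h1 : Ideal.Quotient.mk (J.map (algebraMap A B)) f * x = 0 :=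
      e.injective (by rw [hy, map_zero])
    rw [(mem_nonZeroDivisors_iff_left.1 h) x h1, map_zero]
  · intro h
    rw [mem_nonZeroDivisors_iff_left]
    intro x hx
    have h1 : (LinearMap.mulLeft A f).rTensor (A ⧸ J) (e x) = 0 := by
      rw [← key, hx, map_zero]
    have h2 : e x = 0 := h (by rw [h1, map_zero])
    exact e.injective (by rw [h2, map_zero])

open Function in
theorem aux
    {A' : Type u} [CommRing A'] [IsArtinianRing A'] [IsLocalRing A'] (I : Ideal A') (hI : I ≠ ⊤)
    {S' : Type v} [CommRing S'] [Algebra A' S'] [Module.Flat A' S'] (f' : S') :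
    (f' ∈ nonZeroDivisors S' ↔
      Ideal.Quotient.mk (I.map (algebraMap A' S')) f' ∈ nonZeroDivisors (S' ⧸ I.map (algebraMap A' S'))) ∧
    (f' ∈ nonZeroDivisors S' → Module.Flat A' (S' ⧸ Ideal.span {f'})) := by
  have hnzd : f' ∈ nonZeroDivisors S' ↔ Injective (LinearMap.mulLeft A' f') := by
    rw [mem_nonZeroDivisors_iff_left, injective_iff_map_eq_zero]
    rfl
  refine ⟨?_, fun h => ?_⟩
  · rw [hnzd, bridge,
      Groth.Agent.Lib.Helper3.injective_iff_lTensor_quotient_injective _ I hI]
  · have hflat := Groth.Agent.Lib.Helper3.flat_quotient_range_of_injective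
      (LinearMap.mulLeft A' f') (hnzd.1 h)
    have heq : LinearMap.range (LinearMap.mulLeft A' f') =
        (Ideal.span {f'}).restrictScalars A' := by
      ext x
      rw [Submodule.restrictScalars_mem, Ideal.mem_span_singleton', LinearMap.mem_range]
      constructor
      · rintro ⟨y, rfl⟩; exact ⟨y, mul_comm _ _⟩
      · rintro ⟨y, rfl⟩; exact ⟨y, mul_comm _ _⟩
    exact Module.Flat.of_linearEquiv
      ((Submodule.quotEquivOfEq _ _ heq).trans
        (Submodule.Quotient.restrictScalarsEquiv A' (Ideal.span {f'}))).symm

/-- Let A' be an Artinian local ring, I a proper ideal of A' and S' a flat A'-algebra. An element f' of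
S' is a non-zero-divisor exactly when its image in S'/IS' is one; and when f' is a non-zero-divisor,
the quotient S'/(f') is flat over A'. (The published statement is for local Artinian algebras with a
fixed residue field over a ring of Witt vectors and a surjection between two of them; the argument
uses only that A' is Artinian local and I is a proper ideal, which is the form taken here.) -/
theorem result
    {A' : Type u} [CommRing A'] [IsArtinianRing A'] [IsLocalRing A'] (I : Ideal A') (hI : I ≠ ⊤)
    {S' : Type v} [CommRing S'] [Algebra A' S'] [Module.Flat A' S'] (f' : S') :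
    (f' ∈ nonZeroDivisors S' ↔
      Ideal.Quotient.mk (I.map (algebraMap A' S')) f' ∈ nonZeroDivisors (S' ⧸ I.map (algebraMap A' S'))) ∧
    (f' ∈ nonZeroDivisors S' → Module.Flat A' (S' ⧸ Ideal.span {f'})) := by
  exact aux I hI f'

end Groth.Agent.S13132
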