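import Groth.Statements.S13134
import Groth.Agent.Lib.Helper3.ArtinLocalRegular
import Mathlib.RingTheory.Polynomial.Basic

set_option autoImplicit false
universe u v
open CAlg

namespace Groth.Agent.S13134

section Aux

open TensorProduct Function

/-- Nilpotent Nakayama in the form `K ≤ K₀ ⊔ I K → K ≤ K₀`. -/
theorem le_of_le_sup_smul_of_isNilpotent {R M : Type*} [CommRing R] [AddCommGroup M] [Module R M]
    (I : Ideal R) (hI : IsNilpotent I) (K K₀ : Submodule R M) (h : K ≤ K₀ ⊔ I • K) : K ≤ K₀ := by
  obtain ⟨n, hn⟩ := hI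
  have key : ∀ k : ℕ, K ≤ K₀ ⊔ (I ^ k) • K := by
    intro k
    induction k with
    | zero => rw [pow_zero, Ideal.one_eq_top, Submodule.top_smul]; exact le_sup_right
    | succ k ih =>
      calc K ≤ K₀ ⊔ (I ^ k) • K := ih
        _ ≤ K₀ ⊔ (I ^ k) • (K₀ ⊔ I • K) := sup_le_sup_left (Submodule.smul_mono le_rfl h) _
        _ = K₀ ⊔ ((I ^ k) • K₀ ⊔ (I ^ k) • (I • K)) := by rw [Submodule.smul_sup]
        _ ≤ K₀ ⊔ (I ^ (k + 1)) • K := by
          rw [← Submodule.mul_smul, ← pow_succ]
          exact sup_le le_sup_left (sup_le (le_sup_of_le_left Submodule.smul_le_right)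
            le_sup_right)
  have := key n
  rw [hn] at this
  simpa using this

/-- If `P → N` is surjective with `N` flat, then `ker ∩ I P = I ker`. -/
theorem mem_smul_ker_of_mem_ker_of_mem_smul_top {S P N : Type*} [CommRing S]
    [AddCommGroup P] [Module S P] [AddCommGroup N] [Module S N] [Module.Flat S N]
    (φ : P →ₗ[S] N) (hφ : Surjective φ) (I : Ideal S) {q : P} (hq : q ∈ LinearMap.ker φ)
    (hqI : q ∈ I • (⊤ : Submodule S P)) : q ∈ I • LinearMap.ker φ := by
  have hinj := Groth.Agent.Lib.Helper9.lTensor_ker_subtype_injective_of_flat φ hφ I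
  let k : LinearMap.ker φ := ⟨q, hq⟩
  have h1 : (LinearMap.ker φ).subtype.lTensor (S ⧸ I) ((1 : S ⧸ I) ⊗ₜ k) = 0 := by
    rw [LinearMap.lTensor_tmul]
    apply (TensorProduct.quotTensorEquivQuotSMul P I).injective
    rw [map_zero]
    change (TensorProduct.quotTensorEquivQuotSMul P I) (Ideal.Quotient.mk I 1 ⊗ₜ q) = 0
    rw [TensorProduct.quotTensorEquivQuotSMul_mk_tmul, one_smul, Submodule.Quotient.mk_eq_zero]
    exact hqI
  have h2 : ((1 : S ⧸ I) ⊗ₜ[S] k) = 0 := hinj (by rw [h1, map_zero])
  have h3 : k ∈ I • (⊤ : Submodule S (LinearMap.ker φ)) := by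
    have := congrArg (TensorProduct.quotTensorEquivQuotSMul (LinearMap.ker φ) I) h2
    rw [map_zero] at this
    change (TensorProduct.quotTensorEquivQuotSMul _ I) (Ideal.Quotient.mk I 1 ⊗ₜ k) = 0 at this
    rwa [TensorProduct.quotTensorEquivQuotSMul_mk_tmul, one_smul,
      Submodule.Quotient.mk_eq_zero] at this
  have h4 : (LinearMap.ker φ).subtype k ∈ (I • (⊤ : Submodule S (LinearMap.ker φ))).map
      (LinearMap.ker φ).subtype := Submodule.mem_map_of_mem h3
  rwa [Submodule.map_smul'', Submodule.map_top, Submodule.range_subtype] at h4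

end Aux

theorem aux
    {A' : Type u} [CommRing A'] [IsArtinianRing A'] [IsLocalRing A'] (I : Ideal A') (hI : I ≠ ⊤)
    {n m : ℕ} (f : Fin m → MvPolynomial (Fin n) (A' ⧸ I))
    {B' : Type v} [CommRing B'] [Algebra A' B'] [Module.Flat A' B']
    (π : B' →+* MvPolynomial (Fin n) (A' ⧸ I) ⧸ Ideal.span (Set.range f))
    (hπ : Function.Surjective π) (hker : RingHom.ker π = I.map (algebraMap A' B'))
    (hcomp : π.comp (algebraMap A' B') =
      ((Ideal.Quotient.mk (Ideal.span (Set.range f))).comp MvPolynomial.C).comp (Ideal.Quotient.mk I)) :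
    ∃ (f' : Fin m → MvPolynomial (Fin n) A') (ψ : MvPolynomial (Fin n) A' →ₐ[A'] B'),
      (∀ i, MvPolynomial.map (Ideal.Quotient.mk I) (f' i) = f i) ∧
      Function.Surjective ψ ∧ RingHom.ker ψ.toRingHom = Ideal.span (Set.range f') ∧
      ∀ q, π (ψ q) = Ideal.Quotient.mk (Ideal.span (Set.range f)) (MvPolynomial.map (Ideal.Quotient.mk I) q) := by
  have hnil : IsNilpotent I := Groth.Agent.Lib.Helper3.isNilpotent_of_ne_top I hI
  set φ : MvPolynomial (Fin n) A' →+* MvPolynomial (Fin n) (A' ⧸ I) :=
    MvPolynomial.map (Ideal.Quotient.mk I) with hφ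
  have hφs : Function.Surjective φ := MvPolynomial.map_surjective _ Ideal.Quotient.mk_surjective
  have hφker : RingHom.ker φ = I.map (MvPolynomial.C : A' →+* MvPolynomial (Fin n) A') := by
    rw [hφ, MvPolynomial.ker_map, Ideal.mk_ker]
  -- choose images of the variables
  choose b hb using fun j : Fin n => hπ (Ideal.Quotient.mk _ (MvPolynomial.X j))
  let ψ : MvPolynomial (Fin n) A' →ₐ[A'] B' := MvPolynomial.aeval b
  have hπψ : π.comp ψ.toRingHom = (Ideal.Quotient.mk (Ideal.span (Set.range f))).comp φ := by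
    apply MvPolynomial.ringHom_ext
    · intro a
      have := congrArg (fun g => g a) hcomp
      simp only [RingHom.comp_apply] at this
      simp only [RingHom.comp_apply, AlgHom.toRingHom_eq_coe, RingHom.coe_coe, ψ,
        MvPolynomial.aeval_C, this, hφ, MvPolynomial.map_C]
    · intro j
      simp only [RingHom.comp_apply, AlgHom.toRingHom_eq_coe, RingHom.coe_coe, ψ,
        MvPolynomial.aeval_X, hb, hφ, MvPolynomial.map_X]
  have hπψ' : ∀ q, π (ψ q) = Ideal.Quotient.mk (Ideal.span (Set.range f)) (φ q) := fun q =>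
    congrArg (fun g => g q) hπψ
  -- surjectivity of ψ
  have hψs : Function.Surjective ψ := by
    have hsup : LinearMap.range ψ.toLinearMap ⊔ I • (⊤ : Submodule A' B') = ⊤ := by
      rw [eq_top_iff]
      intro x _
      obtain ⟨y, hy⟩ := Ideal.Quotient.mk_surjective (π x)
      obtain ⟨q, rfl⟩ := hφs y
      have hx : x - ψ q ∈ RingHom.ker π := by
        rw [RingHom.mem_ker, map_sub, hπψ', hy, sub_self]
      rw [hker] at hx
      have hx' : x - ψ q ∈ I • (⊤ : Submodule A' B') := by
        rw [Ideal.smul_top_eq_map]; exact hx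
      have : x = ψ q + (x - ψ q) := by ring
      rw [this]
      exact Submodule.add_mem_sup ⟨q, rfl⟩ hx'
    have htop := Groth.Agent.Lib.Helper9.eq_top_of_sup_smul_top_eq_top I hnil _ hsup
    intro x
    have : x ∈ LinearMap.range ψ.toLinearMap := by rw [htop]; trivial
    exact this
  -- the lifts
  have hlift : ∀ i : Fin m, ∃ g : MvPolynomial (Fin n) A', φ g = f i ∧ ψ g = 0 := by
    intro i
    obtain ⟨g, hg⟩ := hφs (f i)
    have h1 : ψ g ∈ I.map (algebraMap A' B') := by
      rw [← hker, RingHom.mem_ker, hπψ', hg, Ideal.Quotient.eq_zero_iff_mem]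
      exact Ideal.subset_span ⟨i, rfl⟩
    have h2 : I.map (algebraMap A' B') =
        (I.map (MvPolynomial.C : A' →+* MvPolynomial (Fin n) A')).map ψ.toRingHom := by
      rw [Ideal.map_map]
      congr 1
      ext a
      simp [ψ]
    rw [h2, Ideal.mem_map_iff_of_surjective ψ.toRingHom hψs] at h1
    obtain ⟨h, hh, hhg⟩ := h1
    refine ⟨g - h, ?_, ?_⟩
    · rw [map_sub, hg, (RingHom.mem_ker).1 (by rw [hφker]; exact hh), sub_zero]
    · rw [map_sub]
      exact sub_eq_zero.2 hhg.symm
  choose f' hf'φ hf'ψ using hlift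
  refine ⟨f', ψ, hf'φ, hψs, ?_, hπψ'⟩
  -- the kernel
  apply le_antisymm
  · -- K ≤ K₀
    have hfspan : Ideal.span (Set.range f) = (Ideal.span (Set.range f')).map φ := by
      rw [Ideal.map_span, ← Set.range_comp]
      congr 2
      funext i
      exact (hf'φ i).symm
    have hK₀K : (Ideal.span (Set.range f')) ≤ RingHom.ker ψ.toRingHom := by
      rw [Ideal.span_le]
      rintro _ ⟨i, rfl⟩
      exact hf'ψ i
    have hle : (LinearMap.ker ψ.toLinearMap) ≤
        (Ideal.span (Set.range f')).restrictScalars A' ⊔ I • (LinearMap.ker ψ.toLinearMap) := by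
      intro q hq
      have hq' : ψ q = 0 := hq
      have h1 : φ q ∈ (Ideal.span (Set.range f')).map φ := by
        rw [← hfspan, ← Ideal.Quotient.eq_zero_iff_mem, ← hπψ', hq', map_zero]
      rw [Ideal.mem_map_iff_of_surjective _ hφs] at h1
      obtain ⟨g, hg, hgq⟩ := h1
      have hgK : ψ g = 0 := hK₀K hg
      have h2 : q - g ∈ LinearMap.ker ψ.toLinearMap := by
        change ψ (q - g) = 0
        rw [map_sub, hq', hgK, sub_zero]
      have h3 : q - g ∈ I • (⊤ : Submodule A' (MvPolynomial (Fin n) A')) := by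
        rw [Ideal.smul_top_eq_map, Submodule.restrictScalars_mem, MvPolynomial.algebraMap_eq,
          ← hφker, RingHom.mem_ker, map_sub, hgq, sub_self]
      have h4 := mem_smul_ker_of_mem_ker_of_mem_smul_top ψ.toLinearMap hψs I h2 h3
      have : q = g + (q - g) := by ring
      rw [this]
      exact Submodule.add_mem_sup hg h4
    have := le_of_le_sup_smul_of_isNilpotent I hnil _ _ hle
    intro q hq
    exact this hq
  · rw [Ideal.span_le]
    rintro _ ⟨i, rfl⟩
    exact hf'ψ i

/-- Let A' be an Artinian local ring, I a proper ideal, A = A'/I and f_1, …, f_m ∈ A[x_1, …, x_n]. Every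
flat A'-algebra B' equipped with a surjection π onto A[x]/(f_1, …, f_m) with kernel I·B', compatible
with A' → A, is a quotient of A'[x_1, …, x_n] by the ideal generated by some lifts f'_1, …, f'_m of
the f_i, compatibly with π and with reduction of polynomials modulo I. (The published statement is
for a surjection of local Artinian algebras with a fixed residue field over a ring of Witt vectors;
only the Artinian local base and the proper ideal are used, which is the form taken here.) -/
theorem result
    {A' : Type u} [CommRing A'] [IsArtinianRing A'] [IsLocalRing A'] (I : Ideal A') (hI : I ≠ ⊤)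
    {n m : ℕ} (f : Fin m → MvPolynomial (Fin n) (A' ⧸ I))
    {B' : Type v} [CommRing B'] [Algebra A' B'] [Module.Flat A' B']
    (π : B' →+* MvPolynomial (Fin n) (A' ⧸ I) ⧸ Ideal.span (Set.range f))
    (hπ : Function.Surjective π) (hker : RingHom.ker π = I.map (algebraMap A' B'))
    (hcomp : π.comp (algebraMap A' B') =
      ((Ideal.Quotient.mk (Ideal.span (Set.range f))).comp MvPolynomial.C).comp (Ideal.Quotient.mk I)) :
    ∃ (f' : Fin m → MvPolynomial (Fin n) A') (ψ : MvPolynomial (Fin n) A' →ₐ[A'] B'),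
      (∀ i, MvPolynomial.map (Ideal.Quotient.mk I) (f' i) = f i) ∧
      Function.Surjective ψ ∧ RingHom.ker ψ.toRingHom = Ideal.span (Set.range f') ∧
      ∀ q, π (ψ q) = Ideal.Quotient.mk (Ideal.span (Set.range f)) (MvPolynomial.map (Ideal.Quotient.mk I) q) := by
  exact aux I hI f π hπ hker hcomp

end Groth.Agent.S13134
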