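import Groth.Statements.S13135
import Groth.Agent.Lib.Helper3.ArtinLocalRegular
import Mathlib.RingTheory.Polynomial.Basic

set_option autoImplicit false
universe u
open CAlg

namespace Groth.Agent.S13135

open RingTheory.Sequence in
theorem aux
    {A' : Type u} [CommRing A'] [IsArtinianRing A'] [IsLocalRing A'] (I : Ideal A') (hI : I ≠ ⊤)
    {n m : ℕ} (f : Fin m → MvPolynomial (Fin n) (A' ⧸ I))
    (hreg : RingTheory.Sequence.IsRegular (MvPolynomial (Fin n) (A' ⧸ I)) (List.ofFn f))
    (f' : Fin m → MvPolynomial (Fin n) A') (hf' : ∀ i, MvPolynomial.map (Ideal.Quotient.mk I) (f' i) = f i) :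
    Module.Flat A' (MvPolynomial (Fin n) A' ⧸ Ideal.span (Set.range f')) := by
  set φ : MvPolynomial (Fin n) A' →+* MvPolynomial (Fin n) (A' ⧸ I) :=
    MvPolynomial.map (Ideal.Quotient.mk I) with hφ
  have hφs : Function.Surjective φ := MvPolynomial.map_surjective _ Ideal.Quotient.mk_surjective
  have hJ : (I.map (algebraMap A' (MvPolynomial (Fin n) A')) •
      (⊤ : Submodule (MvPolynomial (Fin n) A') (MvPolynomial (Fin n) A'))) = RingHom.ker φ := by
    rw [smul_eq_mul, Ideal.mul_top, hφ, MvPolynomial.ker_map, Ideal.mk_ker,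
      MvPolynomial.algebraMap_eq]
  let e : (MvPolynomial (Fin n) A' ⧸ (I.map (algebraMap A' (MvPolynomial (Fin n) A')) •
      (⊤ : Submodule (MvPolynomial (Fin n) A') (MvPolynomial (Fin n) A')))) ≃+*
      MvPolynomial (Fin n) (A' ⧸ I) :=
    (Ideal.quotEquivOfEq hJ).trans (RingHom.quotientKerEquivOfSurjective hφs)
  have he : ∀ (r : MvPolynomial (Fin n) A') x, e (r • x) = φ r • e x := by
    intro r x
    obtain ⟨y, rfl⟩ := Ideal.Quotient.mk_surjective x
    have h1 : ∀ z : MvPolynomial (Fin n) A', e (Ideal.Quotient.mk _ z) = φ z := fun z => rfl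
    have h2 : r • (Ideal.Quotient.mk (I.map (algebraMap A' (MvPolynomial (Fin n) A')) •
      (⊤ : Submodule (MvPolynomial (Fin n) A') (MvPolynomial (Fin n) A'))) y) =
        Ideal.Quotient.mk _ (r * y) := rfl
    rw [h2, h1, h1, map_mul, smul_eq_mul]
  have hlist : List.ofFn f = (List.ofFn f').map φ := by
    rw [List.map_ofFn]
    congr 1
    funext i
    exact (hf' i).symm
  have hreg' : IsRegular (MvPolynomial (Fin n) A' ⧸
      (I.map (algebraMap A' (MvPolynomial (Fin n) A')) •
        (⊤ : Submodule (MvPolynomial (Fin n) A') (MvPolynomial (Fin n) A')))) (List.ofFn f') := by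
    refine (AddEquiv.isRegular_congr (e := e.toAddEquiv) ?_).2 hreg
    rw [hlist]
    exact List.forall₂_map_right_iff.mpr (List.forall₂_same.mpr fun r _ x => he r x)
  have hreg'' := (Groth.Agent.Lib.Helper3.isRegular_iff_and_flat I hI (List.ofFn f')
    (MvPolynomial (Fin n) A')).1.2 hreg'
  have hflat := (Groth.Agent.Lib.Helper3.isRegular_iff_and_flat I hI (List.ofFn f')
    (MvPolynomial (Fin n) A')).2 hreg''
  have hspan : (Ideal.ofList (List.ofFn f') •
      (⊤ : Submodule (MvPolynomial (Fin n) A') (MvPolynomial (Fin n) A'))) =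
      Ideal.span (Set.range f') := by
    rw [smul_eq_mul, Ideal.mul_top, Ideal.ofList]
    congr 1
    ext x
    exact List.mem_ofFn' f' x
  exact Module.Flat.of_linearEquiv
    ((Submodule.quotEquivOfEq _ _ hspan).restrictScalars A').symm

/-- Let A' be an Artinian local ring, I a proper ideal, A = A'/I and f_1, …, f_m a regular sequence in
A[x_1, …, x_n]. For every choice of lifts f'_1, …, f'_m in A'[x_1, …, x_n] the quotient A'[x]/(f'_1,
…, f'_m) is flat over A' (so it is a flat lifting of A[x]/(f_1, …, f_m)). (The published statement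
is for a surjection of local Artinian algebras with a fixed residue field over a ring of Witt
vectors; only the Artinian local base and the proper ideal are used, which is the form taken here.) -/
theorem result
    {A' : Type u} [CommRing A'] [IsArtinianRing A'] [IsLocalRing A'] (I : Ideal A') (hI : I ≠ ⊤)
    {n m : ℕ} (f : Fin m → MvPolynomial (Fin n) (A' ⧸ I))
    (hreg : RingTheory.Sequence.IsRegular (MvPolynomial (Fin n) (A' ⧸ I)) (List.ofFn f))
    (f' : Fin m → MvPolynomial (Fin n) A') (hf' : ∀ i, MvPolynomial.map (Ideal.Quotient.mk I) (f' i) = f i) :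
    Module.Flat A' (MvPolynomial (Fin n) A' ⧸ Ideal.span (Set.range f')) := by
  exact aux I hI f hreg f' hf'

end Groth.Agent.S13135
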