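import Groth.Statements.S13138
import Mathlib
import Groth.Agent.Lib.Helper9.PolyFrob

set_option autoImplicit false
universe u
open scoped BigOperators
open FrobAlg

namespace Groth.Agent.S13138

/-- Let k be a perfect field of characteristic p, R' = W₂(k)[x_1, …, x_n], f'_1, …, f'_m ∈ R' with
reductions f_1, …, f_m ∈ R = k[x_1, …, x_n], J' = (f'_1, …, f'_m), J = (f_1, …, f_m), and assume B'
= R'/J' is flat over W₂(k), so that it is a flat lifting of B = R/J. The Frobenius of B lifts to B'
— there is a ring endomorphism of B' semilinear for the Witt-vector Frobenius σ₂ of W₂(k) and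
reducing to the p-th power map of B — if and only if there are h_1, …, h_n ∈ R' with F'(f'_i) −
f'_i^p − p·Σ_j (∂f'_i/∂x_j)^p h_j ∈ pJ' for every i, where F' is the standard Frobenius lift of R'
(σ₂ on coefficients, x_j ↦ x_j^p). Since multiplication by p identifies R with pR', this is the
congruence P(f'_i) ≡ Σ_j (∂f_i/∂x_j)^p h_j modulo J for the Frobenius residues P(f'_i) = (F'(f'_i) −
f'_i^p)/p. -/
theorem result
    (p : ℕ) [Fact p.Prime] (k : Type u) [Field k] [CharP k p] [PerfectRing k p]
    {n m : ℕ} (f' : Fin m → MvPolynomial (Fin n) (FrobAlg.W2 p k))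
    (hflat : ((Ideal.Quotient.mk (Ideal.span (Set.range f'))).comp
      (MvPolynomial.C : FrobAlg.W2 p k →+* MvPolynomial (Fin n) (FrobAlg.W2 p k))).Flat) :
    (∃ Φ : (MvPolynomial (Fin n) (FrobAlg.W2 p k) ⧸ Ideal.span (Set.range f')) →+*
        (MvPolynomial (Fin n) (FrobAlg.W2 p k) ⧸ Ideal.span (Set.range f')),
      Φ.comp ((Ideal.Quotient.mk (Ideal.span (Set.range f'))).comp MvPolynomial.C) =
        ((Ideal.Quotient.mk (Ideal.span (Set.range f'))).comp MvPolynomial.C).comp (FrobAlg.sigma p k) ∧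
      ∀ b, Ideal.quotientMap ((Ideal.span (Set.range f')).map (MvPolynomial.map (FrobAlg.res p k)))
          (MvPolynomial.map (FrobAlg.res p k)) Ideal.le_comap_map (Φ b) =
        (Ideal.quotientMap ((Ideal.span (Set.range f')).map (MvPolynomial.map (FrobAlg.res p k)))
          (MvPolynomial.map (FrobAlg.res p k)) Ideal.le_comap_map b) ^ p) ↔
    ∃ h : Fin n → MvPolynomial (Fin n) (FrobAlg.W2 p k), ∀ i,
      FrobAlg.polyFrob p k (Fin n) (f' i) - f' i ^ p
        - (p : MvPolynomial (Fin n) (FrobAlg.W2 p k)) * ∑ j, MvPolynomial.pderiv j (f' i) ^ p * h j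
        ∈ Ideal.span {(p : MvPolynomial (Fin n) (FrobAlg.W2 p k))} * Ideal.span (Set.range f') := by
  classical
  have hflat' : Module.Flat (FrobAlg.W2 p k)
      (MvPolynomial (Fin n) (FrobAlg.W2 p k) ⧸ Ideal.span (Set.range f')) := by
    unfold RingHom.Flat at hflat
    have halg : ((Ideal.Quotient.mk (Ideal.span (Set.range f'))).comp
        (MvPolynomial.C : FrobAlg.W2 p k →+* MvPolynomial (Fin n) (FrobAlg.W2 p k))).toAlgebra =
        (inferInstance : Algebra (FrobAlg.W2 p k)
          (MvPolynomial (Fin n) (FrobAlg.W2 p k) ⧸ Ideal.span (Set.range f'))) :=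
      Algebra.algebra_ext _ _ (fun r => rfl)
    rw [halg] at hflat
    exact hflat
  have hinter := (Groth.Agent.S13137.result p k (MvPolynomial (Fin n) (FrobAlg.W2 p k))
    (Ideal.span (Set.range f'))).mp hflat'
  have hE : ∀ (h : Fin n → MvPolynomial (Fin n) (FrobAlg.W2 p k)) (i : Fin m),
      FrobAlg.polyFrob p k (Fin n) (f' i) - f' i ^ p
        - (p : MvPolynomial (Fin n) (FrobAlg.W2 p k)) * ∑ j, MvPolynomial.pderiv j (f' i) ^ p * h j =
      Groth.Agent.Lib.Helper9.PolyFrob.Ft p k (fun j => - h j) (f' i) - f' i ^ p := by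
    intro h i
    rw [Groth.Agent.Lib.Helper9.PolyFrob.Ft_eq]
    simp only [mul_neg, Finset.sum_neg_distrib]
    ring
  constructor
  · rintro ⟨Φ, hsemi, hred⟩
    -- lift the values of Φ on the variables
    have hy : ∀ j : Fin n, ∃ hj : MvPolynomial (Fin n) (FrobAlg.W2 p k),
        Φ (Ideal.Quotient.mk _ (MvPolynomial.X j)) =
          Ideal.Quotient.mk (Ideal.span (Set.range f'))
            (MvPolynomial.X j ^ p + (p : MvPolynomial (Fin n) (FrobAlg.W2 p k)) * (- hj)) := by
      intro j
      obtain ⟨z, hz⟩ := Ideal.Quotient.mk_surjective (I := Ideal.span (Set.range f'))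
        (Φ (Ideal.Quotient.mk _ (MvPolynomial.X j)))
      have h1 := hred (Ideal.Quotient.mk _ (MvPolynomial.X j))
      rw [← hz, Ideal.quotientMap_mk, Ideal.quotientMap_mk, ← map_pow, Ideal.Quotient.eq,
        MvPolynomial.map_X, ← MvPolynomial.map_X (FrobAlg.res p k) j, ← map_pow, ← map_sub,
        Ideal.mem_map_iff_of_surjective _ (Groth.Agent.Lib.Helper9.PolyFrob.rho_surjective p k)] at h1
      obtain ⟨g, hg, hgz⟩ := h1
      have h2 : Groth.Agent.Lib.Helper9.PolyFrob.rho p k n (z - MvPolynomial.X j ^ p - g) = 0 := by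
        rw [map_sub, hgz, sub_self]
      obtain ⟨u, hu⟩ := Groth.Agent.Lib.Helper9.PolyFrob.exists_of_rho_eq_zero p k _ h2
      refine ⟨- u, ?_⟩
      rw [← hz, Ideal.Quotient.eq, neg_neg, ← hu]
      have : z - (MvPolynomial.X j ^ p + (z - MvPolynomial.X j ^ p - g)) = g := by ring
      rw [this]
      exact hg
    choose h hh using hy
    refine ⟨h, fun i => ?_⟩
    rw [hE]
    have hcomp : (Ideal.Quotient.mk (Ideal.span (Set.range f'))).comp
        (Groth.Agent.Lib.Helper9.PolyFrob.Ft p k (fun j => - h j)) =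
        Φ.comp (Ideal.Quotient.mk (Ideal.span (Set.range f'))) := by
      apply MvPolynomial.ringHom_ext
      · intro w
        rw [RingHom.comp_apply, RingHom.comp_apply, Groth.Agent.Lib.Helper9.PolyFrob.Ft_C]
        have := RingHom.congr_fun hsemi w
        rw [RingHom.comp_apply, RingHom.comp_apply, RingHom.comp_apply, RingHom.comp_apply] at this
        exact this.symm
      · intro j
        rw [RingHom.comp_apply, RingHom.comp_apply, Groth.Agent.Lib.Helper9.PolyFrob.Ft_X, hh]
    have hmem : Groth.Agent.Lib.Helper9.PolyFrob.Ft p k (fun j => - h j) (f' i) ∈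
        Ideal.span (Set.range f') := by
      rw [← Ideal.Quotient.eq_zero_iff_mem]
      have := RingHom.congr_fun hcomp (f' i)
      rw [RingHom.comp_apply, RingHom.comp_apply] at this
      rw [this, Ideal.Quotient.eq_zero_iff_mem.mpr (Ideal.subset_span (Set.mem_range_self i)), map_zero]
    rw [← hinter]
    refine ⟨?_, ?_⟩
    · have h2 : Groth.Agent.Lib.Helper9.PolyFrob.rho p k n
          (Groth.Agent.Lib.Helper9.PolyFrob.Ft p k (fun j => - h j) (f' i) - f' i ^ p) = 0 := by
        rw [map_sub, Groth.Agent.Lib.Helper9.PolyFrob.rho_Ft, map_pow, sub_self]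
      obtain ⟨u, hu⟩ := Groth.Agent.Lib.Helper9.PolyFrob.exists_of_rho_eq_zero p k _ h2
      rw [hu]
      exact Ideal.mul_mem_right _ _ (Ideal.subset_span rfl)
    · exact Ideal.sub_mem _ hmem (Ideal.pow_mem_of_mem _ (Ideal.subset_span (Set.mem_range_self i)) p
        (Fact.out : p.Prime).pos)
  · rintro ⟨h, hh⟩
    have hmem : ∀ i, Groth.Agent.Lib.Helper9.PolyFrob.Ft p k (fun j => - h j) (f' i) ∈
        Ideal.span (Set.range f') := by
      intro i
      have h1 := hh i
      rw [hE] at h1
      have h2 : Groth.Agent.Lib.Helper9.PolyFrob.Ft p k (fun j => - h j) (f' i) - f' i ^ p ∈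
          Ideal.span (Set.range f') := (Ideal.mul_le_inf h1).2
      have h3 := Ideal.add_mem _ h2 (Ideal.pow_mem_of_mem _ (Ideal.subset_span (Set.mem_range_self i)) p
        (Fact.out : p.Prime).pos)
      rwa [sub_add_cancel] at h3
    have hle : Ideal.span (Set.range f') ≤
        (Ideal.span (Set.range f')).comap (Groth.Agent.Lib.Helper9.PolyFrob.Ft p k (fun j => - h j)) := by
      rw [Ideal.span_le]
      rintro _ ⟨i, rfl⟩
      exact hmem i
    refine ⟨Ideal.quotientMap _ (Groth.Agent.Lib.Helper9.PolyFrob.Ft p k (fun j => - h j)) hle, ?_, ?_⟩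
    · apply RingHom.ext
      intro w
      change Ideal.Quotient.mk (Ideal.span (Set.range f'))
          (Groth.Agent.Lib.Helper9.PolyFrob.Ft p k (fun j => - h j) (MvPolynomial.C w)) =
        Ideal.Quotient.mk (Ideal.span (Set.range f')) (MvPolynomial.C (FrobAlg.sigma p k w))
      rw [Groth.Agent.Lib.Helper9.PolyFrob.Ft_C]
    · intro b
      obtain ⟨x, rfl⟩ := Ideal.Quotient.mk_surjective b
      change Ideal.Quotient.mk ((Ideal.span (Set.range f')).map (MvPolynomial.map (FrobAlg.res p k)))
          (MvPolynomial.map (FrobAlg.res p k)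
            (Groth.Agent.Lib.Helper9.PolyFrob.Ft p k (fun j => - h j) x)) =
        (Ideal.Quotient.mk ((Ideal.span (Set.range f')).map (MvPolynomial.map (FrobAlg.res p k)))
          (MvPolynomial.map (FrobAlg.res p k) x)) ^ p
      rw [← map_pow]
      congr 1
      exact Groth.Agent.Lib.Helper9.PolyFrob.rho_Ft p k _ x

end Groth.Agent.S13138
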