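import Groth.Statements.S13139
import Mathlib
import Groth.Agent.Lib.Helper9.RegLift
import Groth.Agent.Lib.Helper9.FrobLift2

set_option autoImplicit false
universe u
open scoped BigOperators
open FrobAlg

namespace Groth.Agent.S13139

/-- Let k be a perfect field of characteristic p and f_1, …, f_m a regular sequence in R = k[x_1, …,
x_n]. The complete intersection A = R/(f_1, …, f_m) lifts to W₂(k) compatibly with Frobenius if and
only if for some lifts f'_1, …, f'_m ∈ R' = W₂(k)[x_1, …, x_n] of the f_i and some h_1, …, h_n ∈ R'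
one has F'(f'_i) − f'_i^p − p·Σ_j (∂f'_i/∂x_j)^p h_j ∈ p·(f'_1, …, f'_m) for every i, F' being the
standard Frobenius lift of R'. In terms of Frobenius residues P(f') = (F'(f') − f'^p)/p ∈ R, which
change by g^p when f' changes by pg, this is the congruence P_{f_i} + g_i^p ≡ Σ_j (∂f_i/∂x_j)^p h_j
modulo (f_1, …, f_m) for some g_i, h_j. -/
theorem result
    (p : ℕ) [Fact p.Prime] (k : Type u) [Field k] [CharP k p] [PerfectRing k p]
    {n m : ℕ} (f : Fin m → MvPolynomial (Fin n) k)
    (hreg : RingTheory.Sequence.IsRegular (MvPolynomial (Fin n) k) (List.ofFn f)) :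
    FrobAlg.IsFLiftable p k (MvPolynomial (Fin n) k ⧸ Ideal.span (Set.range f)) ↔
    ∃ (f' : Fin m → MvPolynomial (Fin n) (FrobAlg.W2 p k)) (h : Fin n → MvPolynomial (Fin n) (FrobAlg.W2 p k)),
      (∀ i, MvPolynomial.map (FrobAlg.res p k) (f' i) = f i) ∧
      ∀ i, FrobAlg.polyFrob p k (Fin n) (f' i) - f' i ^ p
        - (p : MvPolynomial (Fin n) (FrobAlg.W2 p k)) * ∑ j, MvPolynomial.pderiv j (f' i) ^ p * h j
        ∈ Ideal.span {(p : MvPolynomial (Fin n) (FrobAlg.W2 p k))} * Ideal.span (Set.range f') := by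
  classical
  have hE : ∀ (f' : Fin m → MvPolynomial (Fin n) (FrobAlg.W2 p k))
      (h : Fin n → MvPolynomial (Fin n) (FrobAlg.W2 p k)) (i : Fin m),
      FrobAlg.polyFrob p k (Fin n) (f' i) - f' i ^ p
        - (p : MvPolynomial (Fin n) (FrobAlg.W2 p k)) * ∑ j, MvPolynomial.pderiv j (f' i) ^ p * h j =
      Groth.Agent.Lib.Helper9.PolyFrob.Ft p k (fun j => - h j) (f' i) - f' i ^ p := by
    intro f' h i
    rw [Groth.Agent.Lib.Helper9.PolyFrob.Ft_eq]
    simp only [mul_neg, Finset.sum_neg_distrib]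
    ring
  have hpA : ((p : MvPolynomial (Fin n) k)) = 0 := CharP.cast_eq_zero _ p
  constructor
  · -- from an F-lifting to the equations
    rintro ⟨B, _, ι, π, Φ, hΦ⟩
    have hB := hΦ.toIsLift
    have hb : ∀ j : Fin n, ∃ b : B, π b = Ideal.Quotient.mk _ (MvPolynomial.X j) :=
      fun j => hB.surj _
    choose b hb using hb
    let ψ : MvPolynomial (Fin n) (FrobAlg.W2 p k) →+* B := MvPolynomial.eval₂Hom ι b
    have hψC : ∀ w, ψ (MvPolynomial.C w) = ι w := fun w => by
      change MvPolynomial.eval₂Hom ι b (MvPolynomial.C w) = _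
      rw [MvPolynomial.coe_eval₂Hom, MvPolynomial.eval₂_C]
    have hψX : ∀ j, ψ (MvPolynomial.X j) = b j := fun j => by
      change MvPolynomial.eval₂Hom ι b (MvPolynomial.X j) = _
      rw [MvPolynomial.coe_eval₂Hom, MvPolynomial.eval₂_X]
    have hπψ : π.comp ψ = (Ideal.Quotient.mk (Ideal.span (Set.range f))).comp
        (Groth.Agent.Lib.Helper9.PolyFrob.rho p k n) := by
      apply MvPolynomial.ringHom_ext
      · intro w
        rw [RingHom.comp_apply, RingHom.comp_apply, hψC, MvPolynomial.map_C]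
        have := RingHom.congr_fun hB.comm w
        rw [RingHom.comp_apply, RingHom.comp_apply] at this
        rw [this]
        rfl
      · intro j
        rw [RingHom.comp_apply, RingHom.comp_apply, hψX, MvPolynomial.map_X, hb]
    have hπψ' : ∀ x, π (ψ x) = Ideal.Quotient.mk (Ideal.span (Set.range f))
        (Groth.Agent.Lib.Helper9.PolyFrob.rho p k n x) := fun x => RingHom.congr_fun hπψ x
    have hψp : ψ (p : MvPolynomial (Fin n) (FrobAlg.W2 p k)) = (p : B) := map_natCast ψ p
    -- one step of surjectivity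
    have hstep : ∀ y : B, ∃ r' : MvPolynomial (Fin n) (FrobAlg.W2 p k), ∃ y₁ : B,
        y = ψ r' + (p : B) * y₁ := by
      intro y
      obtain ⟨r, hr⟩ := Ideal.Quotient.mk_surjective (π y)
      obtain ⟨r', rfl⟩ := Groth.Agent.Lib.Helper9.PolyFrob.rho_surjective p k r
      have h0 : π (y - ψ r') = 0 := by rw [map_sub, hπψ', hr, sub_self]
      obtain ⟨y₁, hy₁⟩ := Groth.Agent.Lib.Helper9.FrobLift.exists_of_pi_eq_zero hB _ h0
      exact ⟨r', y₁, by rw [← hy₁]; ring⟩
    have hψsurj : Function.Surjective ψ := by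
      intro y
      obtain ⟨r', y₁, h1⟩ := hstep y
      obtain ⟨r₁, y₂, h2⟩ := hstep y₁
      refine ⟨r' + (p : MvPolynomial (Fin n) (FrobAlg.W2 p k)) * r₁, ?_⟩
      rw [map_add, map_mul, hψp, h1, h2, mul_add, ← mul_assoc,
        Groth.Agent.Lib.Helper9.FrobLift.pp hB, zero_mul, add_zero]
    -- elements of ker π ∘ ψ
    have hkerπ : ∀ y : B, π y = 0 → ∃ u : MvPolynomial (Fin n) (FrobAlg.W2 p k),
        y = ψ ((p : MvPolynomial (Fin n) (FrobAlg.W2 p k)) * u) := by
      intro y hy
      obtain ⟨y₁, hy₁⟩ := Groth.Agent.Lib.Helper9.FrobLift.exists_of_pi_eq_zero hB _ hy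
      obtain ⟨u, rfl⟩ := hψsurj y₁
      exact ⟨u, by rw [map_mul, hψp, hy₁]⟩
    -- lifts of the equations in the kernel of ψ
    have hf' : ∀ i : Fin m, ∃ g : MvPolynomial (Fin n) (FrobAlg.W2 p k),
        Groth.Agent.Lib.Helper9.PolyFrob.rho p k n g = f i ∧ ψ g = 0 := by
      intro i
      obtain ⟨g, hg⟩ := Groth.Agent.Lib.Helper9.PolyFrob.rho_surjective p k (f i)
      have h0 : π (ψ g) = 0 := by
        rw [hπψ', hg, Ideal.Quotient.eq_zero_iff_mem]
        exact Ideal.subset_span (Set.mem_range_self i)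
      obtain ⟨u, hu⟩ := hkerπ _ h0
      refine ⟨g - (p : MvPolynomial (Fin n) (FrobAlg.W2 p k)) * u, ?_, ?_⟩
      · rw [map_sub, map_mul, map_natCast, hpA, zero_mul, sub_zero, hg]
      · rw [map_sub, hu, sub_self]
    choose f' hf'ρ hf'ψ using hf'
    have hmapJ : (Ideal.span (Set.range f')).map (Groth.Agent.Lib.Helper9.PolyFrob.rho p k n) =
        Ideal.span (Set.range f) := by
      rw [Ideal.map_span]
      congr 1
      ext x
      simp only [Set.mem_image, Set.mem_range, exists_exists_eq_and, hf'ρ]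
    -- key: ker ψ ∩ pR' ⊆ pJ'
    have hkey : ∀ y : MvPolynomial (Fin n) (FrobAlg.W2 p k),
        ψ ((p : MvPolynomial (Fin n) (FrobAlg.W2 p k)) * y) = 0 →
        (p : MvPolynomial (Fin n) (FrobAlg.W2 p k)) * y ∈
          Ideal.span {(p : MvPolynomial (Fin n) (FrobAlg.W2 p k))} * Ideal.span (Set.range f') := by
      intro y hy
      rw [map_mul, hψp] at hy
      have h1 := Groth.Agent.Lib.Helper9.FrobLift.pi_eq_zero_of_p_mul hB _ hy
      rw [hπψ', Ideal.Quotient.eq_zero_iff_mem, ← hmapJ,
        Ideal.mem_map_iff_of_surjective _ (Groth.Agent.Lib.Helper9.PolyFrob.rho_surjective p k)] at h1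
      obtain ⟨j, hj, hjy⟩ := h1
      have h2 : Groth.Agent.Lib.Helper9.PolyFrob.rho p k n (y - j) = 0 := by
        rw [map_sub, hjy, sub_self]
      obtain ⟨u, hu⟩ := Groth.Agent.Lib.Helper9.PolyFrob.exists_of_rho_eq_zero p k _ h2
      have h3 : (p : MvPolynomial (Fin n) (FrobAlg.W2 p k)) * y =
          (p : MvPolynomial (Fin n) (FrobAlg.W2 p k)) * j := by
        have : y = j + (p : MvPolynomial (Fin n) (FrobAlg.W2 p k)) * u := by rw [← hu]; ring
        rw [this, mul_add, ← mul_assoc, Groth.Agent.Lib.Helper9.PolyFrob.pp', zero_mul, add_zero]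
      rw [h3]
      exact Ideal.mul_mem_mul (Ideal.subset_span rfl) hj
    -- the h_j
    have hh : ∀ j : Fin n, ∃ u : MvPolynomial (Fin n) (FrobAlg.W2 p k),
        Φ (b j) = ψ (MvPolynomial.X j ^ p + (p : MvPolynomial (Fin n) (FrobAlg.W2 p k)) * (- u)) := by
      intro j
      have h0 : π (Φ (b j) - b j ^ p) = 0 := by rw [map_sub, hΦ.red, map_pow, sub_self]
      obtain ⟨u, hu⟩ := hkerπ _ h0
      refine ⟨- u, ?_⟩
      rw [neg_neg, map_add, ← hu, map_pow, hψX]
      ring
    choose h hh using hh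
    refine ⟨f', h, hf'ρ, fun i => ?_⟩
    rw [hE]
    have hcomp : ψ.comp (Groth.Agent.Lib.Helper9.PolyFrob.Ft p k (fun j => - h j)) = Φ.comp ψ := by
      apply MvPolynomial.ringHom_ext
      · intro w
        rw [RingHom.comp_apply, RingHom.comp_apply, Groth.Agent.Lib.Helper9.PolyFrob.Ft_C, hψC, hψC]
        have := RingHom.congr_fun hΦ.semi w
        rw [RingHom.comp_apply, RingHom.comp_apply] at this
        exact this.symm
      · intro j
        rw [RingHom.comp_apply, RingHom.comp_apply, Groth.Agent.Lib.Helper9.PolyFrob.Ft_X, hψX, hh]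
    have h1 : ψ (Groth.Agent.Lib.Helper9.PolyFrob.Ft p k (fun j => - h j) (f' i) - f' i ^ p) = 0 := by
      have := RingHom.congr_fun hcomp (f' i)
      rw [RingHom.comp_apply, RingHom.comp_apply] at this
      rw [map_sub, this, map_pow, hf'ψ, map_zero, zero_pow (Fact.out : p.Prime).ne_zero, sub_zero]
    have h2 : Groth.Agent.Lib.Helper9.PolyFrob.rho p k n
        (Groth.Agent.Lib.Helper9.PolyFrob.Ft p k (fun j => - h j) (f' i) - f' i ^ p) = 0 := by
      rw [map_sub, Groth.Agent.Lib.Helper9.PolyFrob.rho_Ft, map_pow, sub_self]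
    obtain ⟨y, hy⟩ := Groth.Agent.Lib.Helper9.PolyFrob.exists_of_rho_eq_zero p k _ h2
    rw [hy] at h1 ⊢
    exact hkey y h1
  · -- from the equations to an F-lifting
    rintro ⟨f', h, hf'ρ, hcond⟩
    have hmapJ : (Ideal.span (Set.range f')).map (Groth.Agent.Lib.Helper9.PolyFrob.rho p k n) =
        Ideal.span (Set.range f) := by
      rw [Ideal.map_span]
      congr 1
      ext x
      simp only [Set.mem_image, Set.mem_range, exists_exists_eq_and, hf'ρ]
    have hinter := Groth.Agent.Lib.Helper9.RegLift.inter_eq p k f f' hf'ρ hreg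
    have hflat' : Module.Flat (FrobAlg.W2 p k)
        (MvPolynomial (Fin n) (FrobAlg.W2 p k) ⧸ Ideal.span (Set.range f')) :=
      (Groth.Agent.S13137.result p k (MvPolynomial (Fin n) (FrobAlg.W2 p k))
        (Ideal.span (Set.range f'))).mpr hinter
    have hle : Ideal.span (Set.range f') ≤
        (Ideal.span (Set.range f)).comap (Groth.Agent.Lib.Helper9.PolyFrob.rho p k n) := by
      rw [← hmapJ]
      exact Ideal.le_comap_map
    have hmem : ∀ i, Groth.Agent.Lib.Helper9.PolyFrob.Ft p k (fun j => - h j) (f' i) ∈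
        Ideal.span (Set.range f') := by
      intro i
      have h1 := hcond i
      rw [hE] at h1
      have h2 : Groth.Agent.Lib.Helper9.PolyFrob.Ft p k (fun j => - h j) (f' i) - f' i ^ p ∈
          Ideal.span (Set.range f') := (Ideal.mul_le_inf h1).2
      have h3 := Ideal.add_mem _ h2 (Ideal.pow_mem_of_mem _ (Ideal.subset_span (Set.mem_range_self i)) p
        (Fact.out : p.Prime).pos)
      rwa [sub_add_cancel] at h3
    have hle' : Ideal.span (Set.range f') ≤
        (Ideal.span (Set.range f')).comap (Groth.Agent.Lib.Helper9.PolyFrob.Ft p k (fun j => - h j)) := by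
      rw [Ideal.span_le]
      rintro _ ⟨i, rfl⟩
      exact hmem i
    refine ⟨MvPolynomial (Fin n) (FrobAlg.W2 p k) ⧸ Ideal.span (Set.range f'), inferInstance,
      (Ideal.Quotient.mk (Ideal.span (Set.range f'))).comp MvPolynomial.C,
      Ideal.quotientMap (Ideal.span (Set.range f)) (Groth.Agent.Lib.Helper9.PolyFrob.rho p k n) hle,
      Ideal.quotientMap _ (Groth.Agent.Lib.Helper9.PolyFrob.Ft p k (fun j => - h j)) hle',
      ⟨⟨?_, ?_, ?_, ?_⟩, ?_, ?_⟩⟩
    · -- flat
      unfold RingHom.Flat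
      have halg : ((Ideal.Quotient.mk (Ideal.span (Set.range f'))).comp
          (MvPolynomial.C : FrobAlg.W2 p k →+* MvPolynomial (Fin n) (FrobAlg.W2 p k))).toAlgebra =
          (inferInstance : Algebra (FrobAlg.W2 p k)
            (MvPolynomial (Fin n) (FrobAlg.W2 p k) ⧸ Ideal.span (Set.range f'))) :=
        Algebra.algebra_ext _ _ (fun r => rfl)
      rw [halg]
      exact hflat'
    · -- surjective
      exact Ideal.quotientMap_surjective (Groth.Agent.Lib.Helper9.PolyFrob.rho_surjective p k)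
    · -- kernel
      rw [Groth.Agent.Lib.Helper9.FrobLift.ker_res, Ideal.map_span, Set.image_singleton, map_natCast]
      apply le_antisymm
      · intro x hx
        obtain ⟨x', rfl⟩ := Ideal.Quotient.mk_surjective x
        rw [RingHom.mem_ker, Ideal.quotientMap_mk, Ideal.Quotient.eq_zero_iff_mem, ← hmapJ,
          Ideal.mem_map_iff_of_surjective _ (Groth.Agent.Lib.Helper9.PolyFrob.rho_surjective p k)] at hx
        obtain ⟨j, hj, hjx⟩ := hx
        have h2 : Groth.Agent.Lib.Helper9.PolyFrob.rho p k n (x' - j) = 0 := by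
          rw [map_sub, hjx, sub_self]
        obtain ⟨u, hu⟩ := Groth.Agent.Lib.Helper9.PolyFrob.exists_of_rho_eq_zero p k _ h2
        have h3 : Ideal.Quotient.mk (Ideal.span (Set.range f')) x' =
            (p : MvPolynomial (Fin n) (FrobAlg.W2 p k) ⧸ Ideal.span (Set.range f')) *
              Ideal.Quotient.mk _ u := by
          rw [← map_natCast (Ideal.Quotient.mk (Ideal.span (Set.range f'))), ← map_mul, ← hu,
            map_sub, Ideal.Quotient.eq_zero_iff_mem.mpr hj, sub_zero]
        rw [h3]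
        exact Ideal.mul_mem_right _ _ (Ideal.subset_span rfl)
      · rw [Ideal.span_le]
        intro x hx
        rw [Set.mem_singleton_iff] at hx
        rw [hx, SetLike.mem_coe, RingHom.mem_ker, map_natCast]
        rw [← map_natCast (Ideal.Quotient.mk (Ideal.span (Set.range f))), hpA, map_zero]
    · -- compatibility
      apply RingHom.ext
      intro w
      change Ideal.Quotient.mk (Ideal.span (Set.range f))
          (Groth.Agent.Lib.Helper9.PolyFrob.rho p k n (MvPolynomial.C w)) = _
      rw [MvPolynomial.map_C]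
      rfl
    · -- semilinear
      apply RingHom.ext
      intro w
      change Ideal.Quotient.mk (Ideal.span (Set.range f'))
          (Groth.Agent.Lib.Helper9.PolyFrob.Ft p k (fun j => - h j) (MvPolynomial.C w)) =
        Ideal.Quotient.mk (Ideal.span (Set.range f')) (MvPolynomial.C (FrobAlg.sigma p k w))
      rw [Groth.Agent.Lib.Helper9.PolyFrob.Ft_C]
    · -- reduces to Frobenius
      intro b
      obtain ⟨x, rfl⟩ := Ideal.Quotient.mk_surjective b
      change Ideal.Quotient.mk (Ideal.span (Set.range f))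
          (Groth.Agent.Lib.Helper9.PolyFrob.rho p k n
            (Groth.Agent.Lib.Helper9.PolyFrob.Ft p k (fun j => - h j) x)) =
        (Ideal.Quotient.mk (Ideal.span (Set.range f))
          (Groth.Agent.Lib.Helper9.PolyFrob.rho p k n x)) ^ p
      rw [← map_pow, Groth.Agent.Lib.Helper9.PolyFrob.rho_Ft]

end Groth.Agent.S13139
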