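import Groth.Statements.S13140
import Mathlib.RepresentationTheory.Maschke
import Mathlib.Algebra.Module.Projective
import Mathlib.LinearAlgebra.TensorProduct.Tower

set_option autoImplicit false
universe u v w
open GrpAlg

namespace Groth.Agent.S13140

open TensorProduct in
theorem aux
    (R : Type u) [CommRing R] (G : Type v) [Group G] [Finite G] (hG : IsUnit ((Nat.card G : ℕ) : R))
    (M : Type w) [AddCommGroup M] [Module R M] [Module (MonoidAlgebra R G) M]
    [IsScalarTower R (MonoidAlgebra R G) M] [Module.Projective R M] :
    Module.Projective (MonoidAlgebra R G) M := by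
  classical
  haveI : Fintype G := Fintype.ofFinite G
  haveI : SMulCommClass R (MonoidAlgebra R G) M := IsScalarTower.to_smulCommClass
  let s : MonoidAlgebra R G ⊗[R] M →ₗ[MonoidAlgebra R G] M :=
    TensorProduct.AlgebraTensorModule.lift
      (LinearMap.toSpanSingleton (MonoidAlgebra R G) (M →ₗ[R] M) LinearMap.id)
  have hs : ∀ (a : MonoidAlgebra R G) (m : M), s (a ⊗ₜ m) = a • m := by
    intro a m
    simp only [s, TensorProduct.AlgebraTensorModule.lift_tmul, LinearMap.toSpanSingleton_apply,
      LinearMap.smul_apply, LinearMap.id_apply]
  let i₀ : M →ₗ[R] MonoidAlgebra R G ⊗[R] M := TensorProduct.mk R (MonoidAlgebra R G) M 1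
  let i : M →ₗ[MonoidAlgebra R G] MonoidAlgebra R G ⊗[R] M := i₀.equivariantProjection G
  have hsi : s.comp i = LinearMap.id := by
    ext m
    simp only [LinearMap.comp_apply, LinearMap.id_apply, i]
    rw [LinearMap.equivariantProjection_apply, LinearMap.map_smul_of_tower, map_sum]
    have : ∀ g : G, s (i₀.conjugate g m) = m := by
      intro g
      rw [LinearMap.conjugate_apply, map_smul]
      simp only [i₀, TensorProduct.mk_apply, hs, one_smul]
      rw [← mul_smul, MonoidAlgebra.single_mul_single, inv_mul_cancel, mul_one,
        ← MonoidAlgebra.one_def, one_smul]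
    simp only [this, Finset.sum_const, Finset.card_univ]
    rw [← Nat.cast_smul_eq_nsmul R, smul_smul, Fintype.card_eq_nat_card,
      Ring.inverse_mul_cancel _ hG, one_smul]
  exact Module.Projective.of_split i s hsi

/-- Let G be a finite group, R a commutative ring in which |G| is a unit, and M a module over the group
algebra R[G] whose underlying R-module is projective. Then M is a projective R[G]-module. -/
theorem result
    (R : Type u) [CommRing R] (G : Type v) [Group G] [Finite G] (hG : IsUnit ((Nat.card G : ℕ) : R))
    (M : Type w) [AddCommGroup M] [Module R M] [Module (MonoidAlgebra R G) M]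
    [IsScalarTower R (MonoidAlgebra R G) M] [Module.Projective R M] :
    Module.Projective (MonoidAlgebra R G) M := by
  exact aux R G hG M

end Groth.Agent.S13140
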