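import Groth.Statements.S13141
import Mathlib.RepresentationTheory.Invariants
import Mathlib.LinearAlgebra.TensorProduct.Basic

set_option autoImplicit false
universe u v w w'
open scoped TensorProduct
open GrpAlg

namespace Groth.Agent.S13141

theorem aux
    (R : Type u) [CommRing R] (G : Type v) [Group G] [Finite G] (hG : IsUnit ((Nat.card G : ℕ) : R))
    (M : Type w) [AddCommGroup M] [Module R M] (ρ : Representation R G M)
    (S : Type w') [CommRing S] [Algebra R S] :
    Function.Injective (TensorProduct.map ρ.invariants.subtype (LinearMap.id : S →ₗ[R] S)) ∧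
    LinearMap.range (TensorProduct.map ρ.invariants.subtype (LinearMap.id : S →ₗ[R] S)) =
      ⨅ g : G, LinearMap.eqLocus (LinearMap.rTensor S (ρ g)) LinearMap.id := by
  classical
  haveI : Fintype G := Fintype.ofFinite G
  obtain ⟨c, hc⟩ := hG.exists_left_inv
  let e : M →ₗ[R] M := c • ∑ g : G, ρ g
  have he : ∀ m, e m ∈ ρ.invariants := by
    intro m h
    simp only [e, LinearMap.smul_apply, LinearMap.sum_apply, map_smul, map_sum]
    congr 1
    exact Fintype.sum_bijective (h * ·) (Group.mulLeft_bijective h) _ _
      (fun g => by rw [map_mul]; rfl)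
  let r : M →ₗ[R] ρ.invariants := e.codRestrict _ he
  have hrι : r.comp ρ.invariants.subtype = LinearMap.id := by
    ext x : 1
    apply Subtype.ext
    have hx : ∀ g : G, ρ g (x : M) = x := fun g => x.2 g
    simp only [r, LinearMap.comp_apply, Submodule.subtype_apply, LinearMap.codRestrict_apply,
      LinearMap.id_apply, e, LinearMap.smul_apply, LinearMap.sum_apply,
      hx, Finset.sum_const, Finset.card_univ]
    rw [← Nat.cast_smul_eq_nsmul R, smul_smul, Fintype.card_eq_nat_card, hc, one_smul]
  have hιr : ρ.invariants.subtype.comp r = e := by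
    ext x
    rfl
  have hleft : ∀ y, TensorProduct.map r (LinearMap.id : S →ₗ[R] S)
      (TensorProduct.map ρ.invariants.subtype (LinearMap.id : S →ₗ[R] S) y) = y := by
    intro y
    rw [← LinearMap.comp_apply, ← TensorProduct.map_comp, hrι, LinearMap.id_comp,
      TensorProduct.map_id, LinearMap.id_apply]
  refine ⟨Function.LeftInverse.injective hleft, ?_⟩
  apply le_antisymm
  · rintro _ ⟨y, rfl⟩
    rw [Submodule.mem_iInf]
    intro g
    rw [LinearMap.mem_eqLocus, LinearMap.id_apply, LinearMap.rTensor, ← LinearMap.comp_apply,
      ← TensorProduct.map_comp, LinearMap.id_comp]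
    congr 2
    ext x
    exact x.2 g
  · intro x hx
    rw [Submodule.mem_iInf] at hx
    have hx' : ∀ g : G, LinearMap.rTensor S (ρ g) x = x := fun g => by
      have := hx g
      rwa [LinearMap.mem_eqLocus, LinearMap.id_apply] at this
    have h1 : LinearMap.rTensor S e x = x := by
      have : LinearMap.rTensor S e = c • ∑ g : G, LinearMap.rTensor S (ρ g) := by
        simp only [e, ← LinearMap.coe_rTensorHom, map_smul, map_sum]
      rw [this]
      simp only [LinearMap.smul_apply, LinearMap.sum_apply, hx', Finset.sum_const,
        Finset.card_univ]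
      rw [← Nat.cast_smul_eq_nsmul R, smul_smul, Fintype.card_eq_nat_card, hc, one_smul]
    refine ⟨TensorProduct.map r LinearMap.id x, ?_⟩
    rw [← LinearMap.comp_apply, ← TensorProduct.map_comp, hιr, LinearMap.id_comp]
    exact h1

/-- Let G be a finite group, R a commutative ring with |G| invertible in R, M a projective R-module with
an R-linear G-action and S an R-algebra. The natural map M^G ⊗_R S → M ⊗_R S is injective and its
image is the submodule of G-invariants of M ⊗_R S (G acting on the first factor); that is, M^G ⊗_R S
→ (M ⊗_R S)^G is bijective. -/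
theorem result
    (R : Type u) [CommRing R] (G : Type v) [Group G] [Finite G] (hG : IsUnit ((Nat.card G : ℕ) : R))
    (M : Type w) [AddCommGroup M] [Module R M] [Module.Projective R M] (ρ : Representation R G M)
    (S : Type w') [CommRing S] [Algebra R S] :
    Function.Injective (TensorProduct.map ρ.invariants.subtype (LinearMap.id : S →ₗ[R] S)) ∧
    LinearMap.range (TensorProduct.map ρ.invariants.subtype (LinearMap.id : S →ₗ[R] S)) =
      ⨅ g : G, LinearMap.eqLocus (LinearMap.rTensor S (ρ g)) LinearMap.id := by
  exact aux R G hG M ρ S

end Groth.Agent.S13141
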