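import Groth.Statements.S13142
import Mathlib.RingTheory.Flat.Basic
import Mathlib.Algebra.Module.Submodule.EqLocus

set_option autoImplicit false
universe u v
open GrpAlg

namespace Groth.Agent.S13142

theorem aux
    (R : Type u) [CommRing R] (G : Type v) [Group G] [Finite G] (hG : IsUnit ((Nat.card G : ℕ) : R))
    (n : ℕ) (ρ : G →* (MvPolynomial (Fin n) R ≃ₐ[R] MvPolynomial (Fin n) R)) :
    Module.Flat R ↥(⨅ g : G, LinearMap.eqLocus (ρ g).toLinearMap (LinearMap.id : MvPolynomial (Fin n) R →ₗ[R] MvPolynomial (Fin n) R)) := by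
  classical
  haveI : Fintype G := Fintype.ofFinite G
  obtain ⟨c, hc⟩ := hG.exists_left_inv
  let e : MvPolynomial (Fin n) R →ₗ[R] MvPolynomial (Fin n) R := c • ∑ g : G, (ρ g).toLinearMap
  have he : ∀ m, e m ∈ (⨅ g : G, LinearMap.eqLocus (ρ g).toLinearMap
      (LinearMap.id : MvPolynomial (Fin n) R →ₗ[R] MvPolynomial (Fin n) R)) := by
    intro m
    rw [Submodule.mem_iInf]
    intro h
    rw [LinearMap.mem_eqLocus]
    simp only [e, LinearMap.smul_apply, LinearMap.sum_apply, map_smul, map_sum,
      LinearMap.id_apply, AlgEquiv.toLinearMap_apply]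
    congr 1
    exact Fintype.sum_bijective (h * ·) (Group.mulLeft_bijective h) _ _
      (fun g => by rw [map_mul]; rfl)
  refine Module.Flat.of_retract (Submodule.subtype _) (e.codRestrict _ he) ?_
  ext x : 1
  apply Subtype.ext
  have hx : ∀ g : G, ρ g (x : MvPolynomial (Fin n) R) = x := fun g => by
    have := (Submodule.mem_iInf _).1 x.2 g
    exact this
  simp only [LinearMap.comp_apply, Submodule.subtype_apply, LinearMap.codRestrict_apply,
    LinearMap.id_apply, e, LinearMap.smul_apply, LinearMap.sum_apply, AlgEquiv.toLinearMap_apply,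
    hx, Finset.sum_const, Finset.card_univ]
  rw [← Nat.cast_smul_eq_nsmul R, smul_smul, Fintype.card_eq_nat_card, hc, one_smul]

/-- Let G be a finite group and R a commutative ring with |G| invertible in R, acting on R[x_1, …, x_n]
by R-algebra automorphisms. The invariant subring R[x_1, …, x_n]^G is a flat R-module (so the
quotient of affine n-space over R by G is flat over R). -/
theorem result
    (R : Type u) [CommRing R] (G : Type v) [Group G] [Finite G] (hG : IsUnit ((Nat.card G : ℕ) : R))
    (n : ℕ) (ρ : G →* (MvPolynomial (Fin n) R ≃ₐ[R] MvPolynomial (Fin n) R)) :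
    Module.Flat R ↥(⨅ g : G, LinearMap.eqLocus (ρ g).toLinearMap (LinearMap.id : MvPolynomial (Fin n) R →ₗ[R] MvPolynomial (Fin n) R)) := by
  exact aux R G hG n ρ

end Groth.Agent.S13142
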