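import Groth.Statements.S13143
import Mathlib
import Groth.Agent.Lib.Helper9.FrobLift

set_option autoImplicit false
set_option linter.unusedSectionVars false
universe u
open FrobAlg

namespace Groth.Agent.S13143

open Groth.Agent.Lib.Helper9.FrobLift

section constr

variable {p : ℕ} [hp : Fact p.Prime] {k : Type u} [Field k] [CharP k p] [PerfectRing k p]
variable {A B : Type u} [CommRing A] [CommRing B] [Algebra k A] [Algebra k B]
  [Algebra A B] [IsScalarTower k A B]
variable {C : Type u} [CommRing C] {ι : W2 p k →+* C} {π : C →+* B}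
variable (hC : IsLift p k B C ι π) (r : B →ₗ[A] A) (hr : ∀ a : A, r (algebraMap A B a) = a)

/-- the subring `π⁻¹(A)` of the lifting of `B` -/
def SS (π : C →+* B) : Subring C := (algebraMap A B).range.comap π

theorem mem_SS (c : C) : c ∈ SS (A := A) π ↔ ∃ a : A, algebraMap A B a = π c := Iff.rfl

include hr in
theorem pi_eq (c : SS (A := A) π) : π c = algebraMap A B (r (π c)) := by
  obtain ⟨a, ha⟩ := c.2
  rw [← ha, hr]

/-- the map `π⁻¹(A) → A` -/
noncomputable def rho : SS (A := A) π →+* A where
  toFun c := r (π c)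
  map_one' := by
    change r (π 1) = 1
    rw [map_one, ← map_one (algebraMap A B), hr]
  map_mul' c c' := by
    change r (π (c * c' : C)) = r (π c) * r (π c')
    obtain ⟨a, ha⟩ := c.2
    obtain ⟨a', ha'⟩ := c'.2
    rw [map_mul, ← ha, ← ha', ← map_mul, hr, hr, hr]
  map_zero' := by
    change r (π 0) = 0
    rw [map_zero, map_zero]
  map_add' c c' := by
    change r (π (c + c' : C)) = r (π c) + r (π c')
    rw [map_add, map_add]

theorem rho_apply (c : SS (A := A) π) : rho r hr c = r (π c) := rfl

/-- the ideal `μ(ker r)` of `π⁻¹(A)` -/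
noncomputable def NN : Ideal (SS (A := A) π) where
  carrier := {c | ∃ b : B, r b = 0 ∧ (c : C) = mu hC b}
  zero_mem' := ⟨0, map_zero _, by rw [map_zero]; rfl⟩
  add_mem' := by
    rintro c c' ⟨b, hb, hc⟩ ⟨b', hb', hc'⟩
    refine ⟨b + b', by rw [map_add, hb, hb', add_zero], ?_⟩
    rw [map_add, ← hc, ← hc']
    rfl
  smul_mem' := by
    rintro x c ⟨b, hb, hc⟩
    obtain ⟨a, ha⟩ := x.2
    refine ⟨π x * b, ?_, ?_⟩
    · rw [← ha, ← Algebra.smul_def, map_smul, hb, smul_zero]
    · rw [← mul_mu, ← hc]
      rfl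

theorem mem_NN (c : SS (A := A) π) : c ∈ NN hC r ↔ ∃ b : B, r b = 0 ∧ (c : C) = mu hC b := Iff.rfl

include hr in
/-- elements of `π⁻¹(A)` killed by `π` are multiples of `p` modulo `N` -/
theorem exists_of_pi_zero (c : SS (A := A) π) (hc : π c = 0) :
    ∃ c'' : SS (A := A) π, c - (p : SS (A := A) π) * c'' ∈ NN hC r := by
  obtain ⟨c', hc'⟩ := exists_of_pi_eq_zero hC _ hc
  obtain ⟨d, hd⟩ := hC.surj (algebraMap A B (r (π c')))
  have hdS : d ∈ SS (A := A) π := ⟨_, hd.symm⟩
  refine ⟨⟨d, hdS⟩, π c' - algebraMap A B (r (π c')), ?_, ?_⟩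
  · rw [map_sub, hr, sub_self]
  · have e : ((c - (p : SS (A := A) π) * ⟨d, hdS⟩ : SS (A := A) π) : C) = (c : C) - (p : C) * d := by
      push_cast
      rfl
    rw [e, map_sub, mu_pi, ← hd, mu_pi, ← hc']

include hC in
theorem iota_mem (w : W2 p k) : ι w ∈ SS (A := A) π := by
  refine ⟨algebraMap k A (res p k w), ?_⟩
  have h := congrArg (fun f => f w) hC.comm
  simp only [RingHom.comp_apply] at h
  rw [h, IsScalarTower.algebraMap_apply k A B]

/-- the structure map of the descended lifting -/
noncomputable def iota' : W2 p k →+* (SS (A := A) π ⧸ NN hC r) :=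
  (Ideal.Quotient.mk (NN hC r)).comp (ι.codRestrict (SS (A := A) π) (iota_mem hC))

/-- the reduction map of the descended lifting -/
noncomputable def pi' : (SS (A := A) π ⧸ NN hC r) →+* A :=
  Ideal.Quotient.lift (NN hC r) (rho r hr) (by
    rintro c ⟨b, hb, hc⟩
    rw [rho_apply, hc, pi_mu, map_zero])

theorem pi'_mk (c : SS (A := A) π) : pi' hC r hr (Ideal.Quotient.mk _ c) = r (π c) := rfl

include hr in
theorem mk_eq_p_mul (c : SS (A := A) π) (hc : π c = 0) :
    ∃ y : SS (A := A) π ⧸ NN hC r, Ideal.Quotient.mk (NN hC r) c = (p : SS (A := A) π ⧸ NN hC r) * y := by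
  obtain ⟨c'', hc''⟩ := exists_of_pi_zero hC r hr c hc
  refine ⟨Ideal.Quotient.mk _ c'', ?_⟩
  rw [← map_natCast (Ideal.Quotient.mk (NN hC r)), ← map_mul]
  exact Ideal.Quotient.eq.mpr hc''

theorem isLift : IsLift p k A (SS (A := A) π ⧸ NN hC r) (iota' hC r) (pi' hC r hr) where
  flat := by
    unfold RingHom.Flat
    let _ : Algebra (W2 p k) (SS (A := A) π ⧸ NN hC r) := (iota' hC r).toAlgebra
    rw [Groth.Agent.S13136.result p k (SS (A := A) π ⧸ NN hC r)]
    intro x hx
    obtain ⟨c, rfl⟩ := Ideal.Quotient.mk_surjective x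
    rw [Algebra.smul_def] at hx
    change iota' hC r (p : W2 p k) * _ = 0 at hx
    rw [map_natCast, ← map_natCast (Ideal.Quotient.mk (NN hC r)), ← map_mul,
      Ideal.Quotient.eq_zero_iff_mem] at hx
    obtain ⟨b, hb, hcb⟩ := hx
    have h1 : ((p : SS (A := A) π) * c : SS (A := A) π) = (p : C) * (c : C) := by
      push_cast
      rfl
    rw [h1, ← mu_pi hC] at hcb
    have h2 := mu_injective hC hcb
    have h3 : π c = 0 := by
      rw [pi_eq r hr c, h2, hb, map_zero]
    obtain ⟨y, hy⟩ := mk_eq_p_mul hC r hr c h3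
    refine ⟨y, ?_⟩
    rw [hy, Algebra.smul_def]
    change _ = iota' hC r (p : W2 p k) * y
    rw [map_natCast]
  surj := by
    intro a
    obtain ⟨d, hd⟩ := hC.surj (algebraMap A B a)
    refine ⟨Ideal.Quotient.mk _ ⟨d, ⟨a, hd.symm⟩⟩, ?_⟩
    rw [pi'_mk]
    change r (π d) = a
    rw [hd, hr]
  ker_eq := by
    rw [ker_res, Ideal.map_span, Set.image_singleton, map_natCast]
    ext x
    rw [RingHom.mem_ker, Ideal.mem_span_singleton']
    constructor
    · intro hx
      obtain ⟨c, rfl⟩ := Ideal.Quotient.mk_surjective x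
      rw [pi'_mk] at hx
      have h3 : π c = 0 := by rw [pi_eq r hr c, hx, map_zero]
      obtain ⟨y, hy⟩ := mk_eq_p_mul hC r hr c h3
      exact ⟨y, by rw [hy, mul_comm]⟩
    · rintro ⟨y, rfl⟩
      rw [map_mul, map_natCast]
      have : (p : A) = 0 := by
        rw [← map_natCast (algebraMap k A), CharP.cast_eq_zero, map_zero]
      rw [this, mul_zero]
  comm := by
    ext w
    change r (π (ι w)) = algebraMap k A (res p k w)
    have h := congrArg (fun f => f w) hC.comm
    simp only [RingHom.comp_apply] at h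
    rw [h, IsScalarTower.algebraMap_apply k A B, hr]

end constr

theorem main
    (p : ℕ) [Fact p.Prime] (k : Type u) [Field k] [CharP k p] [PerfectRing k p]
    (A B : Type u) [CommRing A] [CommRing B] [Algebra k A] [Algebra k B]
    [Algebra A B] [IsScalarTower k A B]
    (r : B →ₗ[A] A) (hr : ∀ a : A, r (algebraMap A B a) = a)
    (hB : FrobAlg.IsW2Liftable p k B) : FrobAlg.IsW2Liftable p k A := by
  obtain ⟨C, _, ι, π, hC⟩ := hB
  exact ⟨SS (A := A) π ⧸ NN hC r, inferInstance, iota' hC r, pi' hC r hr, isLift hC r hr⟩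



/-- Let k be a perfect field of characteristic p and A → B a homomorphism of Noetherian k-algebras with
an A-linear retraction B → A. If B lifts flatly to W₂(k), so does A. (The published statement
phrases the descent for finite surjective morphisms of degree prime to p, via a trace splitting; the
argument uses exactly an A-linear splitting of A → B for an affine morphism, which is the hypothesis
taken here.) -/
theorem result
    (p : ℕ) [Fact p.Prime] (k : Type u) [Field k] [CharP k p] [PerfectRing k p]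
    (A B : Type u) [CommRing A] [CommRing B] [Algebra k A] [Algebra k B]
    [IsNoetherianRing A] [IsNoetherianRing B] [Algebra A B] [IsScalarTower k A B]
    (r : B →ₗ[A] A) (hr : ∀ a : A, r (algebraMap A B a) = a)
    (hB : FrobAlg.IsW2Liftable p k B) : FrobAlg.IsW2Liftable p k A := by
  exact main p k A B r hr hB

end Groth.Agent.S13143
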