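import Groth.Statements.S13144
import Mathlib
import Groth.Agent.Lib.Helper9.FrobLift

set_option autoImplicit false
universe u
open FrobAlg

namespace Groth.Agent.S13144

/-- Let k be a perfect field of characteristic p, A → B a homomorphism of Noetherian k-algebras with an
A-linear retraction B → A, and A' → B' a homomorphism over W₂(k) between flat liftings of A and B
which reduces to A → B. If the Frobenius of B lifts to B' (a σ₂-semilinear ring endomorphism
reducing to the p-th power map), then the Frobenius of A lifts to A'. (The published statement is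
for an affine morphism whose map on structure sheaves splits linearly; the affine case with an
A-linear splitting is taken here.) -/
theorem result
    (p : ℕ) [Fact p.Prime] (k : Type u) [Field k] [CharP k p] [PerfectRing k p]
    (A B : Type u) [CommRing A] [CommRing B] [Algebra k A] [Algebra k B]
    [IsNoetherianRing A] [IsNoetherianRing B] [Algebra A B] [IsScalarTower k A B]
    (r : B →ₗ[A] A) (hr : ∀ a : A, r (algebraMap A B a) = a)
    (A' B' : Type u) [CommRing A'] [CommRing B']
    (ιA : FrobAlg.W2 p k →+* A') (πA : A' →+* A) (hA : FrobAlg.IsLift p k A A' ιA πA)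
    (ιB : FrobAlg.W2 p k →+* B') (πB : B' →+* B) (hB : FrobAlg.IsLift p k B B' ιB πB)
    (φ' : A' →+* B') (hφι : φ'.comp ιA = ιB) (hφπ : πB.comp φ' = (algebraMap A B).comp πA)
    (ΦB : B' →+* B') (hΦB : FrobAlg.IsFrobLift p k B B' ιB πB ΦB) :
    ∃ ΦA : A' →+* A', FrobAlg.IsFrobLift p k A A' ιA πA ΦA := by
  let d : A' → A := fun a => r (Groth.Agent.Lib.Helper9.FrobLift.delta hΦB (φ' a))
  have hπφ : ∀ a : A', πB (φ' a) = algebraMap A B (πA a) := fun a => RingHom.congr_fun hφπ a
  have h1 : d 1 = 0 := by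
    change r (Groth.Agent.Lib.Helper9.FrobLift.delta hΦB (φ' 1)) = 0
    rw [map_one, Groth.Agent.Lib.Helper9.FrobLift.delta_one]
    exact map_zero r
  have hmul : ∀ a c, d (a * c) = πA a ^ p * d c + πA c ^ p * d a := by
    intro a c
    change r (Groth.Agent.Lib.Helper9.FrobLift.delta hΦB (φ' (a * c))) =
      πA a ^ p * r (Groth.Agent.Lib.Helper9.FrobLift.delta hΦB (φ' c)) +
        πA c ^ p * r (Groth.Agent.Lib.Helper9.FrobLift.delta hΦB (φ' a))
    have e1 : ∀ (x : A') (y : B), algebraMap A B (πA x) ^ p * y = (πA x ^ p) • y := by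
      intro x y
      rw [Algebra.smul_def, map_pow]
    rw [map_mul, Groth.Agent.Lib.Helper9.FrobLift.delta_mul, hπφ, hπφ, e1, e1, map_add, map_smul,
      map_smul, smul_eq_mul, smul_eq_mul]
  have hadd : ∀ a c, d (a + c) = d a + d c - πA (Groth.Agent.Lib.Helper9.FrobLift.Qp p a c) := by
    intro a c
    change r (Groth.Agent.Lib.Helper9.FrobLift.delta hΦB (φ' (a + c))) =
      r (Groth.Agent.Lib.Helper9.FrobLift.delta hΦB (φ' a)) +
        r (Groth.Agent.Lib.Helper9.FrobLift.delta hΦB (φ' c)) -
        πA (Groth.Agent.Lib.Helper9.FrobLift.Qp p a c)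
    rw [map_add, Groth.Agent.Lib.Helper9.FrobLift.delta_add,
      ← Groth.Agent.Lib.Helper9.FrobLift.map_Qp p φ', hπφ, map_sub, map_add, hr]
  have hι : ∀ w : FrobAlg.W2 p k, d (ιA w) = algebraMap k A (w.coeff 1) := by
    intro w
    change r (Groth.Agent.Lib.Helper9.FrobLift.delta hΦB (φ' (ιA w))) = _
    have h1 : φ' (ιA w) = ιB w := RingHom.congr_fun hφι w
    rw [h1, Groth.Agent.Lib.Helper9.FrobLift.delta_iota, IsScalarTower.algebraMap_apply k A B, hr]
  obtain ⟨ΦA, hΦA, -⟩ := Groth.Agent.Lib.Helper9.FrobLift.exists_frobLift hA d h1 hmul hadd hι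
  exact ⟨ΦA, hΦA⟩

end Groth.Agent.S13144
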