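import Groth.Statements.S13146
import Mathlib
import Groth.Agent.Lib.Helper9.FrobLift

set_option autoImplicit false
set_option linter.unusedSectionVars false
universe u
open scoped BigOperators
open FrobAlg

namespace Groth.Agent.S13146

open Groth.Agent.Lib.Helper9.FrobLift

section functional

variable (p : ℕ) [hp : Fact p.Prime] (k : Type u) [Field k] [CharP k p] (n : ℕ)

/-- the coefficient ring `k[a][b]` -/
abbrev Zr := Polynomial (Polynomial k)

/-- the elements `z₀ = a`, `z₁ = b`, `z₂ = -(a+b)` -/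
noncomputable def zeta : Fin 3 → Zr k :=
  ![Polynomial.C Polynomial.X, Polynomial.X, -(Polynomial.C Polynomial.X + Polynomial.X)]

/-- the grading group -/
abbrev Gr := Fin 3 → ℤ

/-- Laurent polynomials over `Zr` -/
abbrev GA := AddMonoidAlgebra (Zr k) Gr

/-- images of the variables -/
noncomputable def fvar (v : Fin n × Fin 2) : GA k :=
  if h : v.1.val < 3 then
    (if v.2 = 0 then AddMonoidAlgebra.single (Pi.single ⟨v.1.val, h⟩ (1 : ℤ)) (zeta k ⟨v.1.val, h⟩)
      else AddMonoidAlgebra.single (-Pi.single ⟨v.1.val, h⟩ (1 : ℤ)) 1)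
  else 0

/-- the ring homomorphism `ψ` -/
noncomputable def psi : MvPolynomial (Fin n × Fin 2) k →+* GA k :=
  MvPolynomial.eval₂Hom (algebraMap k (GA k)) (fvar k n)

/-- divisibility of the coefficients of `ψ h`. -/
theorem dvd_psi_apply (h : MvPolynomial (Fin n × Fin 2) k) :
    ∀ (w : Gr) (i : Fin 3) (m : ℕ), (m : ℤ) ≤ w i → zeta k i ^ m ∣ (psi k n h).coeff w := by
  induction h using MvPolynomial.induction_on with
  | C c =>
    intro w i m hm
    by_cases hw : w = 0
    · subst hw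
      have : m = 0 := by simpa using hm
      subst this
      simp
    · have : (psi k n (MvPolynomial.C c)).coeff w = 0 := by
        simp only [psi, MvPolynomial.eval₂Hom_C, AddMonoidAlgebra.coe_algebraMap, Function.comp_apply]
        rw [AddMonoidAlgebra.coeff_single, Finsupp.single_apply, if_neg (Ne.symm hw)]
      rw [this]
      exact dvd_zero _
  | add f g hf hg =>
    intro w i m hm
    rw [map_add, AddMonoidAlgebra.coeff_add, Finsupp.add_apply]
    exact dvd_add (hf w i m hm) (hg w i m hm)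
  | mul_X f v hf =>
    intro w i m hm
    rw [map_mul]
    have hX : psi k n (MvPolynomial.X v) = fvar k n v := by
      simp only [psi, MvPolynomial.eval₂Hom_X']
    rw [hX]
    unfold fvar
    split_ifs with h3 h0
    · rw [AddMonoidAlgebra.coeff_mul_single_apply]
      by_cases hi : i = ⟨v.1.val, h3⟩
      · subst hi
        rcases Nat.eq_zero_or_pos m with rfl | hmpos
        · simp
        · obtain ⟨m', rfl⟩ : ∃ m', m = m' + 1 := ⟨m - 1, by omega⟩
          have := hf (w + -Pi.single ⟨v.1.val, h3⟩ 1) ⟨v.1.val, h3⟩ m' (by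
            simp only [Pi.add_apply, Pi.neg_apply, Pi.single_eq_same]
            push_cast at hm
            omega)
          rw [pow_succ]
          exact mul_dvd_mul this (dvd_refl _)
      · have := hf (w + -Pi.single ⟨v.1.val, h3⟩ 1) i m (by
          simp only [Pi.add_apply, Pi.neg_apply, Pi.single_eq_of_ne hi]
          simpa using hm)
        exact Dvd.dvd.mul_right this _
    · rw [AddMonoidAlgebra.coeff_mul_single_apply, mul_one]
      apply hf
      simp only [Pi.add_apply, Pi.neg_apply]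
      by_cases hi : i = ⟨v.1.val, h3⟩
      · subst hi
        simp only [Pi.single_eq_same]
        omega
      · simp only [Pi.single_eq_of_ne hi]
        simpa using hm
    · rw [mul_zero]
      simp

/-- the coefficient functional -/
noncomputable def cc (F : Zr k) : k := (F.coeff (p - 1)).coeff 1

theorem cc_add (F G : Zr k) : cc p k (F + G) = cc p k F + cc p k G := by simp [cc]

theorem cc_zero : cc p k 0 = 0 := by simp [cc]

theorem cc_sub (F G : Zr k) : cc p k (F - G) = cc p k F - cc p k G := by simp [cc]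

theorem cc_neg (F : Zr k) : cc p k (-F) = - cc p k F := by simp [cc]

theorem cc_a (u : Zr k) : cc p k ((Polynomial.C Polynomial.X) ^ p * u) = 0 := by
  unfold cc
  rw [← Polynomial.C_pow, Polynomial.coeff_C_mul, Polynomial.coeff_X_pow_mul', if_neg]
  have := hp.out.two_le
  omega

theorem cc_b (u : Zr k) : cc p k (Polynomial.X ^ p * u) = 0 := by
  unfold cc
  rw [Polynomial.coeff_X_pow_mul', if_neg, Polynomial.coeff_zero]
  have := hp.out.two_le
  omega

theorem cc_zeta (i : Fin 3) (u : Zr k) : cc p k (zeta k i ^ p * u) = 0 := by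
  fin_cases i
  · exact cc_a p k u
  · exact cc_b p k u
  · have h2 : zeta k 2 = -(Polynomial.C Polynomial.X + Polynomial.X) := rfl
    change cc p k (zeta k 2 ^ p * u) = 0
    have h := neg_pow (Polynomial.C Polynomial.X + Polynomial.X : Zr k) p
    rw [h2, h, add_pow_char]
    have : (-1 : Zr k) ^ p * ((Polynomial.C Polynomial.X) ^ p + Polynomial.X ^ p) * u
        = (Polynomial.C Polynomial.X) ^ p * ((-1) ^ p * u) + Polynomial.X ^ p * ((-1) ^ p * u) := by
      ring
    rw [this, cc_add, cc_a, cc_b, add_zero]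

/-- the key value: `c (Q_p(a, b)) = 1`. -/
theorem cc_Qp : cc p k (Qp p (zeta k 0) (zeta k 1)) = 1 := by
  have h0 : zeta k 0 = Polynomial.C Polynomial.X := rfl
  have h1 : zeta k 1 = Polynomial.X := rfl
  rw [h0, h1]
  have hp2 := hp.out.two_le
  have key : Qp p (Polynomial.C Polynomial.X : Zr k) Polynomial.X
      = ∑ j ∈ Finset.Ioo 0 p,
        Polynomial.C (Polynomial.C (((p.choose j / p : ℕ) : k)) * Polynomial.X ^ j) * Polynomial.X ^ (p - j) := by
    unfold Qp
    rw [Finset.mul_sum]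
    refine Finset.sum_congr rfl fun j hj => ?_
    rw [Finset.mem_Ioo] at hj
    obtain ⟨j', rfl⟩ : ∃ j', j = j' + 1 := ⟨j - 1, by omega⟩
    obtain ⟨m, hm⟩ : ∃ m, p - (j' + 1) = m + 1 := ⟨p - (j' + 1) - 1, by omega⟩
    rw [hm]
    simp only [Nat.add_sub_cancel, map_mul, map_pow, map_natCast]
    ring
  rw [key]
  unfold cc
  rw [Polynomial.finsetSum_coeff]
  simp only [Polynomial.coeff_C_mul_X_pow]
  rw [Polynomial.finsetSum_coeff]
  rw [Finset.sum_eq_single 1]
  · rw [if_pos rfl, Polynomial.coeff_C_mul, Polynomial.coeff_X_pow, if_pos rfl, mul_one,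
      Nat.choose_one_right, Nat.div_self hp.out.pos, Nat.cast_one]
  · intro j hj hj1
    rw [Finset.mem_Ioo] at hj
    rw [if_neg (by omega), Polynomial.coeff_zero]
  · intro h
    exfalso
    apply h
    rw [Finset.mem_Ioo]
    omega


theorem psi_X (v : Fin n × Fin 2) : psi k n (MvPolynomial.X v) = fvar k n v := by
  simp only [psi, MvPolynomial.eval₂Hom_X']

/-- `ψ (x_i y_i)` -/
theorem psi_zhat (i : Fin n) :
    psi k n (MvPolynomial.X (i, 0) * MvPolynomial.X (i, 1))
      = if h : i.val < 3 then AddMonoidAlgebra.single 0 (zeta k ⟨i.val, h⟩) else 0 := by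
  rw [map_mul, psi_X, psi_X]
  unfold fvar
  by_cases h : i.val < 3
  · simp only [dif_pos h, if_true, show ((1 : Fin 2) = 0) = False from by simp, if_false]
    rw [AddMonoidAlgebra.single_mul_single, add_neg_cancel, mul_one]
  · simp only [dif_neg h, mul_zero]

theorem zeta_sum : zeta k 0 + zeta k 1 + zeta k 2 = 0 := by
  change (Polynomial.C Polynomial.X + Polynomial.X : Zr k)
    + -(Polynomial.C Polynomial.X + Polynomial.X) = 0
  exact add_neg_cancel _

theorem psi_q (hn : 3 ≤ n) :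
    psi k n (∑ i : Fin n, MvPolynomial.X (i, (0 : Fin 2)) * MvPolynomial.X (i, (1 : Fin 2))) = 0 := by
  obtain ⟨m, rfl⟩ := Nat.exists_eq_add_of_le hn
  rw [map_sum, Fin.sum_univ_add, Fin.sum_univ_three]
  have h0 : psi k (3 + m) (MvPolynomial.X (Fin.castAdd m (0 : Fin 3), 0) *
      MvPolynomial.X (Fin.castAdd m (0 : Fin 3), 1)) = AddMonoidAlgebra.single 0 (zeta k 0) := by
    rw [psi_zhat, dif_pos (by simp)]
    rfl
  have h1 : psi k (3 + m) (MvPolynomial.X (Fin.castAdd m (1 : Fin 3), 0) *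
      MvPolynomial.X (Fin.castAdd m (1 : Fin 3), 1)) = AddMonoidAlgebra.single 0 (zeta k 1) := by
    rw [psi_zhat, dif_pos (by simp)]
    rfl
  have h2 : psi k (3 + m) (MvPolynomial.X (Fin.castAdd m (2 : Fin 3), 0) *
      MvPolynomial.X (Fin.castAdd m (2 : Fin 3), 1)) = AddMonoidAlgebra.single 0 (zeta k 2) := by
    rw [psi_zhat, dif_pos (by simp)]
    rfl
  rw [h0, h1, h2, ← AddMonoidAlgebra.single_add, ← AddMonoidAlgebra.single_add, zeta_sum,
    AddMonoidAlgebra.single_zero, zero_add]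
  apply Finset.sum_eq_zero
  intro i _
  rw [psi_zhat, dif_neg]
  simp

/-- the functional `Λ ∘ ψ` -/
noncomputable def Lam (f : MvPolynomial (Fin n × Fin 2) k) : k := cc p k ((psi k n f).coeff 0)

theorem Lam_add (f g : MvPolynomial (Fin n × Fin 2) k) :
    Lam p k n (f + g) = Lam p k n f + Lam p k n g := by
  unfold Lam
  rw [map_add, AddMonoidAlgebra.coeff_add, Finsupp.add_apply, cc_add]

theorem Lam_sub (f g : MvPolynomial (Fin n × Fin 2) k) :
    Lam p k n (f - g) = Lam p k n f - Lam p k n g := by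
  unfold Lam
  rw [map_sub, AddMonoidAlgebra.coeff_sub, Finsupp.sub_apply, cc_sub]

theorem Lam_of_psi_eq_zero (f : MvPolynomial (Fin n × Fin 2) k) (h : psi k n f = 0) :
    Lam p k n f = 0 := by
  unfold Lam
  rw [h, AddMonoidAlgebra.coeff_zero, Finsupp.zero_apply, cc_zero]

theorem Lam_mul_X0 (h : MvPolynomial (Fin n × Fin 2) k) (i : Fin n) :
    Lam p k n (h * MvPolynomial.X (i, 0) ^ p) = 0 := by
  by_cases h3 : i.val < 3
  · unfold Lam
    rw [map_mul, map_pow, psi_X]
    unfold fvar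
    simp only [dif_pos h3, if_true]
    rw [AddMonoidAlgebra.single_pow, AddMonoidAlgebra.coeff_mul_single_apply, mul_comm]
    exact cc_zeta p k _ _
  · apply Lam_of_psi_eq_zero
    rw [map_mul, map_pow, psi_X]
    unfold fvar
    rw [dif_neg h3, zero_pow hp.out.ne_zero, mul_zero]

theorem Lam_mul_X1 (h : MvPolynomial (Fin n × Fin 2) k) (i : Fin n) :
    Lam p k n (h * MvPolynomial.X (i, 1) ^ p) = 0 := by
  by_cases h3 : i.val < 3
  · unfold Lam
    rw [map_mul, map_pow, psi_X]
    unfold fvar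
    simp only [dif_pos h3, show ((1 : Fin 2) = 0) = False from by simp, if_false]
    rw [AddMonoidAlgebra.single_pow, AddMonoidAlgebra.coeff_mul_single_apply, one_pow, mul_one]
    obtain ⟨u, hu⟩ := dvd_psi_apply k n h (0 + -(p • -Pi.single (⟨i.val, h3⟩ : Fin 3) (1 : ℤ)))
      ⟨i.val, h3⟩ p (by simp)
    rw [hu]
    exact cc_zeta p k _ _
  · apply Lam_of_psi_eq_zero
    rw [map_mul, map_pow, psi_X]
    unfold fvar
    rw [dif_neg h3, zero_pow hp.out.ne_zero, mul_zero]

/-- the ideal `I` -/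
noncomputable abbrev II : Ideal (MvPolynomial (Fin n × Fin 2) k) :=
  Ideal.span (insert (∑ i : Fin n, MvPolynomial.X (i, (0 : Fin 2)) * MvPolynomial.X (i, (1 : Fin 2)))
    (Set.range fun v : Fin n × Fin 2 => (MvPolynomial.X v : MvPolynomial (Fin n × Fin 2) k) ^ p))

theorem Lam_mul_I (hn : 3 ≤ n) (f : MvPolynomial (Fin n × Fin 2) k) (hf : f ∈ II p k n) :
    ∀ h : MvPolynomial (Fin n × Fin 2) k, Lam p k n (h * f) = 0 := by
  induction hf using Submodule.span_induction with
  | mem x hx =>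
    intro h
    rcases hx with rfl | ⟨v, rfl⟩
    · apply Lam_of_psi_eq_zero
      rw [map_mul, psi_q k n hn, mul_zero]
    · obtain ⟨i, e⟩ := v
      fin_cases e
      · exact Lam_mul_X0 p k n h i
      · exact Lam_mul_X1 p k n h i
  | zero =>
    intro h
    apply Lam_of_psi_eq_zero
    rw [mul_zero, map_zero]
  | add x y _ _ hx hy =>
    intro h
    rw [mul_add, Lam_add, hx h, hy h, add_zero]
  | smul a x _ hx =>
    intro h
    rw [smul_eq_mul, ← mul_assoc]
    exact hx (h * a)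

theorem Lam_I (hn : 3 ≤ n) (f : MvPolynomial (Fin n × Fin 2) k) (hf : f ∈ II p k n) :
    Lam p k n f = 0 := by
  have := Lam_mul_I p k n hn f hf 1
  rwa [one_mul] at this

/-- the value on `T` -/
theorem Lam_T (hn : 3 ≤ n) :
    Lam p k n ((-1) ^ p * Qp p
      (MvPolynomial.X (⟨0, by omega⟩, 0) * MvPolynomial.X (⟨0, by omega⟩, 1))
      (MvPolynomial.X (⟨1, by omega⟩, 0) * MvPolynomial.X (⟨1, by omega⟩, 1))) ≠ 0 := by
  unfold Lam
  have hQ := map_Qp (R := MvPolynomial (Fin n × Fin 2) k) (S := GA k) p (psi k n)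
      (MvPolynomial.X ((⟨0, by omega⟩ : Fin n), (0 : Fin 2)) * MvPolynomial.X ((⟨0, by omega⟩ : Fin n), (1 : Fin 2)))
      (MvPolynomial.X ((⟨1, by omega⟩ : Fin n), (0 : Fin 2)) * MvPolynomial.X ((⟨1, by omega⟩ : Fin n), (1 : Fin 2)))
  rw [map_mul, map_pow, map_neg, map_one, hQ, psi_zhat, psi_zhat, dif_pos (by simp),
    dif_pos (by simp)]
  have e0 : (AddMonoidAlgebra.single 0 (zeta k ⟨0, by simp⟩) : GA k)
      = AddMonoidAlgebra.singleZeroRingHom (zeta k 0) := rfl
  have e1 : (AddMonoidAlgebra.single 0 (zeta k ⟨1, by simp⟩) : GA k)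
      = AddMonoidAlgebra.singleZeroRingHom (zeta k 1) := rfl
  have e2 : ((-1 : GA k)) ^ p = AddMonoidAlgebra.singleZeroRingHom ((-1) ^ p) := by
    rw [map_pow, map_neg, map_one]
  rw [e0, e1, e2, ← map_Qp, ← map_mul]
  change cc p k ((AddMonoidAlgebra.single (0 : Gr)
    ((-1) ^ p * Qp p (zeta k 0) (zeta k 1)) : GA k).coeff 0) ≠ 0
  rw [AddMonoidAlgebra.coeff_single, Finsupp.single_eq_same]
  rcases neg_one_pow_eq_or (Zr k) p with h | h
  · rw [h, one_mul, cc_Qp]
    exact one_ne_zero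
  · rw [h, neg_one_mul, cc_neg, cc_Qp]
    exact neg_ne_zero.mpr one_ne_zero

/-- generators `ẑ_i ẑ_j` kill `ψ` -/
theorem psi_span (hn : 3 ≤ n) (g : MvPolynomial (Fin n × Fin 2) k)
    (hg : g ∈ Ideal.span {x : MvPolynomial (Fin n × Fin 2) k |
      ∃ i ∈ ((Finset.univ : Finset (Fin n)).erase ⟨0, by omega⟩).erase ⟨1, by omega⟩,
      ∃ j ∈ ((Finset.univ : Finset (Fin n)).erase ⟨0, by omega⟩).erase ⟨1, by omega⟩, i ≠ j ∧
        x = (MvPolynomial.X (i, 0) * MvPolynomial.X (i, 1)) *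
          (MvPolynomial.X (j, 0) * MvPolynomial.X (j, 1))}) :
    psi k n g = 0 := by
  have hle : Ideal.span {x : MvPolynomial (Fin n × Fin 2) k |
      ∃ i ∈ ((Finset.univ : Finset (Fin n)).erase ⟨0, by omega⟩).erase ⟨1, by omega⟩,
      ∃ j ∈ ((Finset.univ : Finset (Fin n)).erase ⟨0, by omega⟩).erase ⟨1, by omega⟩, i ≠ j ∧
        x = (MvPolynomial.X (i, 0) * MvPolynomial.X (i, 1)) *
          (MvPolynomial.X (j, 0) * MvPolynomial.X (j, 1))} ≤ RingHom.ker (psi k n) := by
    rw [Ideal.span_le]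
    rintro x ⟨i, hi, j, hj, hij, rfl⟩
    rw [SetLike.mem_coe, RingHom.mem_ker, map_mul, psi_zhat, psi_zhat]
    simp only [Finset.mem_erase, Finset.mem_univ, and_true, ne_eq, Fin.ext_iff] at hi hj
    have hij' : i.val ≠ j.val := fun h => hij (Fin.ext h)
    by_cases h3 : i.val < 3
    · rw [dif_neg (by omega : ¬ j.val < 3), mul_zero]
    · rw [dif_neg h3, zero_mul]
  exact hle hg

end functional

section Bside

theorem sum_pow_mem {R : Type*} [CommRing R] {ι : Type*} [DecidableEq ι] (p : ℕ)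
    [hp : Fact p.Prime] (w : ι → R) (s : Finset ι) :
    ∃ G ∈ Ideal.span {x : R | ∃ i ∈ s, ∃ j ∈ s, i ≠ j ∧ x = w i * w j},
      (∑ i ∈ s, w i) ^ p = ∑ i ∈ s, w i ^ p + (p : R) * G := by
  induction s using Finset.induction_on with
  | empty =>
    exact ⟨0, zero_mem _, by simp [zero_pow hp.out.ne_zero]⟩
  | insert a s ha ih =>
    obtain ⟨G, hG, hs⟩ := ih
    refine ⟨G + Qp p (w a) (∑ i ∈ s, w i), add_mem ?_ ?_, ?_⟩
    · refine Ideal.span_mono ?_ hG
      rintro x ⟨i, hi, j, hj, hij, rfl⟩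
      exact ⟨i, Finset.mem_insert_of_mem hi, j, Finset.mem_insert_of_mem hj, hij, rfl⟩
    · unfold Qp
      apply Ideal.mul_mem_right
      rw [Finset.mul_sum]
      apply Ideal.sum_mem
      intro i hi
      apply Ideal.subset_span
      refine ⟨a, Finset.mem_insert_self _ _, i, Finset.mem_insert_of_mem hi, ?_, rfl⟩
      rintro rfl
      exact ha hi
    · rw [Finset.sum_insert ha, Finset.sum_insert ha, add_pow_eq, hs]
      ring

variable {p : ℕ} [hp : Fact p.Prime] {k : Type u} [Field k] [CharP k p] [PerfectRing k p]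
variable {A : Type u} [CommRing A] [Algebra k A] {B : Type u} [CommRing B]
  {ι : FrobAlg.W2 p k →+* B} {π : B →+* A}

theorem key_B (hB : FrobAlg.IsLift p k A B ι π) {J : Type*} [Fintype J] [DecidableEq J]
    (Zb : J → B) (hZp : ∀ i, Zb i ^ p = 0) (hsum : π (∑ i, Zb i) = 0) (i0 i1 : J) (h01 : i0 ≠ i1) :
    (-1) ^ p * Qp p (π (Zb i0)) (π (Zb i1)) ∈
      Ideal.span {x : A | ∃ i ∈ ((Finset.univ : Finset J).erase i0).erase i1,
        ∃ j ∈ ((Finset.univ : Finset J).erase i0).erase i1, i ≠ j ∧ x = π (Zb i) * π (Zb j)} := by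
  obtain ⟨a, ha⟩ := exists_of_pi_eq_zero hB _ hsum
  set s := ((Finset.univ : Finset J).erase i0).erase i1 with hs
  have hsplit : ∑ i, Zb i = Zb i0 + (Zb i1 + ∑ i ∈ s, Zb i) := by
    rw [hs, Finset.add_sum_erase _ _ (Finset.mem_erase.mpr ⟨h01.symm, Finset.mem_univ _⟩),
      Finset.add_sum_erase _ _ (Finset.mem_univ _)]
  have hR : ∑ i ∈ s, Zb i = (p : B) * a + -(Zb i0 + Zb i1) := by
    rw [← ha, hsplit]
    ring
  obtain ⟨G, hG, hGs⟩ := sum_pow_mem p Zb s
  have hpp := pp hB
  have hp2 := hp.out.two_le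
  have hppow : (p : B) ^ p = 0 := by
    obtain ⟨m, hm⟩ : ∃ m, p = 2 + m := ⟨p - 2, by omega⟩
    rw [show (p : B) ^ p = (p : B) ^ (2 + m) by rw [← hm], pow_add, pow_two, hpp, zero_mul]
  have hsum0 : ∑ i ∈ s, Zb i ^ p = 0 := Finset.sum_eq_zero fun i _ => hZp i
  have hV : (Zb i0 + Zb i1) ^ p = (p : B) * Qp p (Zb i0) (Zb i1) := by
    rw [add_pow_eq, hZp, hZp, zero_add, zero_add]
  have hRp : (∑ i ∈ s, Zb i) ^ p = (-1) ^ p * ((p : B) * Qp p (Zb i0) (Zb i1)) := by
    rw [hR, add_pow_eq, mul_pow, hppow, zero_mul, zero_add, neg_pow, hV]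
    have : (p : B) * Qp p ((p : B) * a) (-(Zb i0 + Zb i1)) = 0 := by
      unfold Qp
      rw [← mul_assoc, ← mul_assoc, ← mul_assoc, hpp, zero_mul, zero_mul, zero_mul]
    rw [this, add_zero]
  have hzero : (p : B) * (G - (-1) ^ p * Qp p (Zb i0) (Zb i1)) = 0 := by
    have h1 : (p : B) * G = (-1) ^ p * ((p : B) * Qp p (Zb i0) (Zb i1)) := by
      rw [← hRp, hGs, hsum0, zero_add]
    rw [mul_sub, h1]
    ring
  have hπ := pi_eq_zero_of_p_mul hB _ hzero
  rw [map_sub, sub_eq_zero, map_mul, map_pow, map_neg, map_one, map_Qp] at hπ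
  rw [← hπ]
  have hmem := Ideal.mem_map_of_mem π hG
  rw [Ideal.map_span] at hmem
  refine Ideal.span_mono ?_ hmem
  rintro x ⟨y, ⟨i, hi, j, hj, hij, rfl⟩, rfl⟩
  exact ⟨i, hi, j, hj, hij, by rw [map_mul]⟩

end Bside

theorem main
    (p : ℕ) [hp : Fact p.Prime] (k : Type u) [Field k] [CharP k p] [PerfectRing k p]
    (n : ℕ) (hn : 3 ≤ n) :
    ¬ FrobAlg.IsW2Liftable p k
      (MvPolynomial (Fin n × Fin 2) k ⧸ Ideal.span
        (insert (∑ i : Fin n, MvPolynomial.X (i, (0 : Fin 2)) * MvPolynomial.X (i, (1 : Fin 2)))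
          (Set.range fun v : Fin n × Fin 2 => (MvPolynomial.X v : MvPolynomial (Fin n × Fin 2) k) ^ p))) := by
  rintro ⟨B, _, ι, π, hB⟩
  set I := II p k n with hI
  let mk := Ideal.Quotient.mk I
  have hsurj := hB.surj
  choose Xb hXb using fun v : Fin n × Fin 2 => hsurj (mk (MvPolynomial.X v))
  let Zb : Fin n → B := fun i => Xb (i, 0) * Xb (i, 1)
  have hpp := pp hB
  have hXp : ∀ v, ∃ c : B, Xb v ^ p = (p : B) * c := by
    intro v
    apply exists_of_pi_eq_zero hB
    rw [map_pow, hXb, ← map_pow]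
    apply Ideal.Quotient.eq_zero_iff_mem.mpr
    exact Ideal.subset_span (Set.mem_insert_of_mem _ ⟨v, rfl⟩)
  have hZp : ∀ i, Zb i ^ p = 0 := by
    intro i
    obtain ⟨c, hc⟩ := hXp (i, 0)
    obtain ⟨c', hc'⟩ := hXp (i, 1)
    change (Xb (i, 0) * Xb (i, 1)) ^ p = 0
    rw [mul_pow, hc, hc', mul_mul_mul_comm, hpp, zero_mul]
  have hπZ : ∀ i, π (Zb i) = mk (MvPolynomial.X (i, 0) * MvPolynomial.X (i, 1)) := by
    intro i
    change π (Xb (i, 0) * Xb (i, 1)) = _
    rw [map_mul, hXb, hXb, map_mul]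
  have hsum : π (∑ i, Zb i) = 0 := by
    rw [map_sum]
    simp only [hπZ]
    rw [← map_sum]
    apply Ideal.Quotient.eq_zero_iff_mem.mpr
    exact Ideal.subset_span (Set.mem_insert _ _)
  have h01 : (⟨0, by omega⟩ : Fin n) ≠ ⟨1, by omega⟩ := by
    intro h
    simpa using congrArg Fin.val h
  have key := key_B hB Zb hZp hsum ⟨0, by omega⟩ ⟨1, by omega⟩ h01
  -- move to the polynomial ring
  have hmem : mk ((-1) ^ p * Qp p
      (MvPolynomial.X ((⟨0, by omega⟩ : Fin n), (0 : Fin 2)) * MvPolynomial.X ((⟨0, by omega⟩ : Fin n), (1 : Fin 2)))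
      (MvPolynomial.X ((⟨1, by omega⟩ : Fin n), (0 : Fin 2)) * MvPolynomial.X ((⟨1, by omega⟩ : Fin n), (1 : Fin 2))))
      ∈ Ideal.map mk (Ideal.span {x : MvPolynomial (Fin n × Fin 2) k |
      ∃ i ∈ ((Finset.univ : Finset (Fin n)).erase ⟨0, by omega⟩).erase ⟨1, by omega⟩,
      ∃ j ∈ ((Finset.univ : Finset (Fin n)).erase ⟨0, by omega⟩).erase ⟨1, by omega⟩, i ≠ j ∧
        x = (MvPolynomial.X (i, 0) * MvPolynomial.X (i, 1)) *
          (MvPolynomial.X (j, 0) * MvPolynomial.X (j, 1))}) := by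
    rw [map_mul, map_pow, map_neg, map_one, map_Qp, ← hπZ, ← hπZ, Ideal.map_span]
    refine Ideal.span_mono ?_ key
    rintro x ⟨i, hi, j, hj, hij, rfl⟩
    refine ⟨_, ⟨i, hi, j, hj, hij, rfl⟩, ?_⟩
    rw [map_mul, hπZ, hπZ]
  obtain ⟨g, hg, hgT⟩ := (Ideal.mem_map_iff_of_surjective mk Ideal.Quotient.mk_surjective).mp hmem
  have hdiff := Ideal.Quotient.eq.mp hgT
  have h1 := Lam_I p k n hn _ hdiff
  rw [Lam_sub, Lam_of_psi_eq_zero p k n g (psi_span k n hn g hg), zero_sub, neg_eq_zero] at h1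
  exact Lam_T p k n hn h1



/-- In an even number of variables — for a perfect field k of characteristic p and n ≥ 3, the local
Artinian algebra k[x_1, y_1, …, x_n, y_n]/(x_1y_1 + ⋯ + x_ny_n, x_1^p, y_1^p, …, x_n^p, y_n^p)
admits no flat lifting over W₂(k). (The published statement covers every number N ≥ 5 of variables,
using x_1x_2 + ⋯ + x_{N−2}x_{N−1} + x_N² for odd N; the printed argument is written out for even N
and the odd case is said to be analogous, so only even N = 2n ≥ 6 is taken here.) -/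
theorem result
    (p : ℕ) [Fact p.Prime] (k : Type u) [Field k] [CharP k p] [PerfectRing k p]
    (n : ℕ) (hn : 3 ≤ n) :
    ¬ FrobAlg.IsW2Liftable p k
      (MvPolynomial (Fin n × Fin 2) k ⧸ Ideal.span
        (insert (∑ i : Fin n, MvPolynomial.X (i, (0 : Fin 2)) * MvPolynomial.X (i, (1 : Fin 2)))
          (Set.range fun v : Fin n × Fin 2 => (MvPolynomial.X v : MvPolynomial (Fin n × Fin 2) k) ^ p))) := by
  exact main p k n hn

end Groth.Agent.S13146
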