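import Groth.Statements.S13147
import Groth.Agent.S13136
import Groth.Agent.Lib.Helper9.W2Arith

set_option autoImplicit false
universe u
open FrobAlg

namespace Groth.Agent.S13147

open Groth.Agent.Lib.Helper9.W2Arith
theorem mem_splitIdeal_iff (p : ℕ) [Fact p.Prime] (A : Type u) [CommRing A] [CharP A p]
    (φ : A →+ A) (hφ : ∀ a b : A, φ (a ^ p * b) = a * φ b) (x : FrobAlg.W2 p A) :
    x ∈ FrobAlg.splitIdeal p A φ ↔ x.coeff 0 = 0 ∧ φ (x.coeff 1) = 0 := by
  constructor
  · intro hx
    unfold FrobAlg.splitIdeal at hx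
    induction hx using Submodule.span_induction with
    | mem y hy =>
      obtain ⟨hy1, hy2⟩ := hy
      rw [FrobAlg.res_apply] at hy1
      exact ⟨hy1, hy2⟩
    | zero =>
      rw [TruncatedWittVector.coeff_zero, TruncatedWittVector.coeff_zero, map_zero]
      exact ⟨rfl, rfl⟩
    | add y z _ _ hy hz =>
      rw [eq_vv_of_coeff_zero p y hy.1, eq_vv_of_coeff_zero p z hz.1, ← vv_add, coeff_zero_vv,
        coeff_one_vv, map_add, hy.2, hz.2, add_zero]
      exact ⟨rfl, rfl⟩
    | smul t y _ hy =>
      rw [smul_eq_mul, eq_vv_of_coeff_zero p y hy.1, mul_vv, coeff_zero_vv, coeff_one_vv, hφ, hy.2,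
        mul_zero]
      exact ⟨rfl, rfl⟩
  · intro hx
    apply Ideal.subset_span
    refine ⟨?_, hx.2⟩
    rw [FrobAlg.res_apply]
    exact hx.1


/-- Let k be a perfect field of characteristic p and (A, φ) a k-algebra with a Frobenius splitting (φ
additive, φ(a^p b) = a φ(b), φ(1) = 1). The quotient of W₂(A) by the ideal generated by the Witt
vectors (0, a) with φ(a) = 0 — the ring of twisted Witt vectors of (A, φ) — is a flat lifting of A
over W₂(k): flat over W₂(k), with reduction map onto A induced by (a₀, a₁) ↦ a₀ whose kernel is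
generated by the maximal ideal of W₂(k). (The published statement also asserts that a morphism of
algebras with Frobenius splittings compatible with the splittings induces a ring map between these
quotients; that part is not stated here.) -/
theorem result
    (p : ℕ) [Fact p.Prime] (k : Type u) [Field k] [CharP k p] [PerfectRing k p]
    (A : Type u) [CommRing A] [Algebra k A] (φ : A →+ A)
    (hφ : ∀ a b : A, φ (a ^ p * b) = a * φ b) (hφ1 : φ 1 = 1) :
    FrobAlg.IsLift p k A (FrobAlg.W2 p A ⧸ FrobAlg.splitIdeal p A φ)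
      ((Ideal.Quotient.mk (FrobAlg.splitIdeal p A φ)).comp (WittGrp.truncMap p 2 (algebraMap k A)))
      (FrobAlg.splitRes p A φ) := by
  rcases subsingleton_or_nontrivial A with hA | hA
  · have hW : Subsingleton (FrobAlg.W2 p A) :=
      ⟨fun x y => TruncatedWittVector.ext fun i => Subsingleton.elim _ _⟩
    have hB : Subsingleton (FrobAlg.W2 p A ⧸ FrobAlg.splitIdeal p A φ) :=
      Function.Surjective.subsingleton Ideal.Quotient.mk_surjective
    refine ⟨?_, fun a => ⟨0, Subsingleton.elim _ _⟩, ?_, RingHom.ext fun x => Subsingleton.elim _ _⟩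
    · unfold RingHom.Flat
      let _ : Algebra (FrobAlg.W2 p k) (FrobAlg.W2 p A ⧸ FrobAlg.splitIdeal p A φ) :=
        ((Ideal.Quotient.mk (FrobAlg.splitIdeal p A φ)).comp
          (WittGrp.truncMap p 2 (algebraMap k A))).toAlgebra
      have : Module.Free (FrobAlg.W2 p k) (FrobAlg.W2 p A ⧸ FrobAlg.splitIdeal p A φ) :=
        Module.Free.of_subsingleton _ _
      exact Module.Flat.of_free
    · ext b
      have hb : b = 0 := Subsingleton.elim _ _
      rw [hb]
      exact ⟨fun _ => Ideal.zero_mem _, fun _ => Ideal.zero_mem _⟩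
  · have hchar : CharP A p := charP_of_injective_algebraMap (algebraMap k A).injective p
    have hmem := mem_splitIdeal_iff p A φ hφ
    have hφp : ∀ a : A, φ (a ^ p) = a := fun a => by
      have := hφ a 1
      rwa [mul_one, hφ1, mul_one] at this
    have hkey : ∀ a : A, Ideal.Quotient.mk (FrobAlg.splitIdeal p A φ) (vv p a) =
        (p : FrobAlg.W2 p A ⧸ FrobAlg.splitIdeal p A φ) *
          Ideal.Quotient.mk (FrobAlg.splitIdeal p A φ) (tt p (φ a)) := by
      intro a
      rw [← map_natCast (Ideal.Quotient.mk (FrobAlg.splitIdeal p A φ)), ← map_mul, p_mul,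
        coeff_zero_tt, Ideal.Quotient.eq, ← vv_sub, hmem, coeff_zero_vv, coeff_one_vv, map_sub, hφp,
        sub_self]
      exact ⟨rfl, rfl⟩
    have hsplit : ∀ x : FrobAlg.W2 p A, FrobAlg.splitRes p A φ
        (Ideal.Quotient.mk (FrobAlg.splitIdeal p A φ) x) = x.coeff 0 := fun x => by
      rw [FrobAlg.splitRes, Ideal.Quotient.lift_mk, FrobAlg.res_apply]
    refine ⟨?flat, ?surj, ?ker, ?comm⟩
    case surj =>
      intro a
      exact ⟨Ideal.Quotient.mk _ (tt p a), by rw [hsplit, coeff_zero_tt]⟩
    case comm =>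
      ext w
      change FrobAlg.splitRes p A φ (Ideal.Quotient.mk _
        (WittGrp.truncMap p 2 (algebraMap k A) w)) = algebraMap k A (FrobAlg.res p k w)
      rw [hsplit, WittGrp.coeff_truncMap, FrobAlg.res_apply]
    case ker =>
      have hker : RingHom.ker (FrobAlg.res p k) = Ideal.span {(p : FrobAlg.W2 p k)} := by
        rw [← Groth.Agent.Lib.Helper9.TruncWitt.maximalIdeal_eq p k 1]
        ext x
        rw [RingHom.mem_ker, FrobAlg.res_apply,
          Groth.Agent.Lib.Helper9.TruncWitt.mem_maximalIdeal_iff]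
        rfl
      rw [hker, Ideal.map_span, Set.image_singleton, map_natCast]
      ext b
      obtain ⟨x, rfl⟩ := Ideal.Quotient.mk_surjective b
      rw [RingHom.mem_ker, hsplit, Ideal.mem_span_singleton']
      constructor
      · intro hx0
        refine ⟨Ideal.Quotient.mk _ (tt p (φ (x.coeff 1))), ?_⟩
        rw [mul_comm, ← hkey, ← eq_vv_of_coeff_zero p x hx0]
      · rintro ⟨c, hc⟩
        obtain ⟨y, rfl⟩ := Ideal.Quotient.mk_surjective c
        have := congrArg (FrobAlg.splitRes p A φ) hc
        rw [map_mul, map_natCast, hsplit, hsplit, CharP.cast_eq_zero, mul_zero] at this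
        exact this.symm
    case flat =>
      unfold RingHom.Flat
      let _ : Algebra (FrobAlg.W2 p k) (FrobAlg.W2 p A ⧸ FrobAlg.splitIdeal p A φ) :=
        ((Ideal.Quotient.mk (FrobAlg.splitIdeal p A φ)).comp
          (WittGrp.truncMap p 2 (algebraMap k A))).toAlgebra
      rw [Groth.Agent.S13136.result p k (FrobAlg.W2 p A ⧸ FrobAlg.splitIdeal p A φ)]
      intro m hm
      obtain ⟨x, rfl⟩ := Ideal.Quotient.mk_surjective m
      have h1 : ∀ y : FrobAlg.W2 p A, (p : FrobAlg.W2 p k) • Ideal.Quotient.mk
          (FrobAlg.splitIdeal p A φ) y = Ideal.Quotient.mk _ ((p : FrobAlg.W2 p A) * y) := by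
        intro y
        rw [Algebra.smul_def, map_natCast, map_mul, map_natCast]
      rw [h1, p_mul, Ideal.Quotient.eq_zero_iff_mem, hmem, coeff_one_vv, hφp] at hm
      have hx0 := hm.2
      refine ⟨Ideal.Quotient.mk _ (tt p (φ (x.coeff 1))), ?_⟩
      rw [Algebra.smul_def, map_natCast, ← hkey, ← eq_vv_of_coeff_zero p x hx0]

end Groth.Agent.S13147
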