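import Groth.Statements.S13148
import Mathlib
import Groth.Agent.Lib.Helper26.SmLiftH
import Groth.Agent.Lib.Helper9.TruncWitt

set_option autoImplicit false
universe u
open FrobAlg

namespace Groth.Agent.S13148

section helpers
open FrobAlg

section helpers

open Groth.Agent.Lib.Helper9

/-- the same ring with a twisted algebra structure -/
def Tw (Q : Type u) : Type u := Q

instance (Q : Type u) [CommRing Q] : CommRing (Tw Q) := inferInstanceAs (CommRing Q)

variable (p : ℕ) [Fact p.Prime] (k : Type u) [Field k] [CharP k p] [PerfectRing k p]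

lemma ker_res_sq : (RingHom.ker (FrobAlg.res p k)) ^ 2 = ⊥ := by
  have h1 : RingHom.ker (FrobAlg.res p k) = RingHom.ker (TruncWitt.c0 p k 1) := by
    ext x
    rw [RingHom.mem_ker, RingHom.mem_ker, FrobAlg.res_apply]
    rfl
  rw [h1, TruncWitt.ker_c0, TruncWitt.maximalIdeal_eq, Ideal.span_singleton_pow,
    TruncWitt.p_pow_eq_zero p k 1]
  simp

lemma res_surjective : Function.Surjective (FrobAlg.res p k) := by
  intro a
  obtain ⟨x, hx⟩ := TruncWitt.c0_surjective p k 1 a
  refine ⟨x, ?_⟩
  rw [FrobAlg.res_apply]
  exact hx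

lemma res_sigma (w : W2 p k) : FrobAlg.res p k (FrobAlg.sigma p k w) = (FrobAlg.res p k w) ^ p := by
  rw [FrobAlg.res_apply, FrobAlg.res_apply]
  exact WittGrp.coeff_frob p 2 _ w 0

end helpers

end helpers

/-- Over a perfect field k of characteristic p, every smooth affine scheme Spec A admits a flat lifting
over W₂(k) together with a lifting of Frobenius (not necessarily unique). -/
theorem result
    (p : ℕ) [Fact p.Prime] (k : Type u) [Field k] [CharP k p] [PerfectRing k p]
    (A : Type u) [CommRing A] [Algebra k A] [Algebra.Smooth k A] :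
    FrobAlg.IsFLiftable p k A := by
  classical
  rcases subsingleton_or_nontrivial A with hA | hA
  · -- trivial case
    let ι' : W2 p k →+* A := (algebraMap k A).comp (FrobAlg.res p k)
    refine ⟨A, inferInstance, ι', RingHom.id A, RingHom.id A,
      ⟨⟨?_, Function.surjective_id, ?_, ?_⟩, ?_, ?_⟩⟩
    · rw [RingHom.Flat]
      let _ : Algebra (W2 p k) A := ι'.toAlgebra
      infer_instance
    · exact Subsingleton.elim _ _
    · rfl
    · ext x; exact Subsingleton.elim _ _
    · intro b; exact Subsingleton.elim _ _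
  let R := W2 p k
  let ρ : R →+* k := FrobAlg.res p k
  have hρ : Function.Surjective ρ := res_surjective p k
  let I : Ideal R := RingHom.ker ρ
  let e₀ : R ⧸ I ≃+* k := RingHom.quotientKerEquivOfSurjective hρ
  letI : Algebra (R ⧸ I) A := ((algebraMap k A).comp e₀.toRingHom).toAlgebra
  haveI : Algebra.Smooth (R ⧸ I) A :=
    (RingHom.Smooth.of_bijective e₀.bijective).comp
      (RingHom.smooth_algebraMap.mpr (inferInstance : Algebra.Smooth k A))
  obtain ⟨C, _, _, hsm, ⟨e⟩⟩ := Groth.Agent.Lib.Helper26.SmLiftH.main_6827 (R := R) (A₀ := A) I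
  let γ : C →+* A := (e : _ →+* A).comp (Ideal.Quotient.mk (I.map (algebraMap R C)))
  have hγsurj : Function.Surjective γ := e.surjective.comp Ideal.Quotient.mk_surjective
  have hγker : RingHom.ker γ = I.map (algebraMap R C) := by
    ext c
    simp only [γ, RingHom.mem_ker, RingHom.comp_apply]
    rw [← Ideal.Quotient.eq_zero_iff_mem]
    exact ⟨fun h => e.injective (by rw [map_zero]; exact h), fun h => by rw [h]; exact map_zero _⟩
  have hcomm : ∀ r : R, γ (algebraMap R C r) = algebraMap k A (ρ r) := by
    intro r
    have h1 := e.commutes (Ideal.Quotient.mk I r)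
    have h2 : algebraMap (R ⧸ I) A (Ideal.Quotient.mk I r) = algebraMap k A (ρ r) := by
      show algebraMap k A (e₀ _) = _
      rw [RingHom.quotientKerEquivOfSurjective_apply_mk]
    rw [h2] at h1
    rw [← h1]
    rfl
  -- Frobenius lift
  let _ : Algebra R (Tw C) := (show R →+* Tw C from (algebraMap R C).comp (sigma p k)).toAlgebra
  let _ : Algebra R (Tw A) :=
    (show R →+* Tw A from ((algebraMap k A).comp ρ).comp (sigma p k)).toAlgebra
  let _ : Algebra R A := ((algebraMap k A).comp ρ).toAlgebra
  have hTC : ∀ r, algebraMap R (Tw C) r = algebraMap R C (sigma p k r) := fun _ => rfl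
  have hTA : ∀ r, algebraMap R (Tw A) r = algebraMap k A (ρ (sigma p k r)) := fun _ => rfl
  haveI hchar : CharP A p := charP_of_injective_algebraMap (algebraMap k A).injective p
  let g : Tw C →ₐ[R] Tw A :=
    { (show Tw C →+* Tw A from γ) with
      commutes' := fun r => by
        change γ (algebraMap R C (sigma p k r)) = algebraMap k A (ρ (sigma p k r))
        exact hcomm _ }
  let f : C →ₐ[R] Tw A :=
    { (show C →+* Tw A from (frobenius A p).comp γ) with
      commutes' := fun r => by
        change (γ (algebraMap R C r)) ^ p = algebraMap k A (ρ (sigma p k r))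
        rw [hcomm, res_sigma, map_pow] }
  have hgs : Function.Surjective g := hγsurj
  have hk2 : (RingHom.ker γ) ^ 2 = ⊥ := by
    rw [hγker, ← Ideal.map_pow, ker_res_sq, Ideal.map_bot]
  have hnil : IsNilpotent (RingHom.ker (g : Tw C →+* Tw A)) := ⟨2, hk2⟩
  haveI : Algebra.FormallySmooth R C := Algebra.Smooth.formallySmooth
  let L : C →ₐ[R] Tw C := Algebra.FormallySmooth.liftOfSurjective f g hgs hnil
  have hL : ∀ q : C, γ (L q) = (γ q) ^ p := fun q =>
    Algebra.FormallySmooth.liftOfSurjective_apply f g hgs hnil q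
  let Φ : C →+* C := (show C →+* C from L.toRingHom)
  refine ⟨C, inferInstance, algebraMap R C, γ, Φ, ⟨⟨?_, hγsurj, hγker, ?_⟩, ?_, ?_⟩⟩
  · rw [RingHom.flat_algebraMap_iff]
    infer_instance
  · ext w
    exact hcomm w
  · ext w
    change L (algebraMap R C w) = algebraMap R C (sigma p k w)
    rw [L.commutes, hTC]
  · intro q
    exact hL q

end Groth.Agent.S13148
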