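import Groth.Statements.S13149
import Mathlib.LinearAlgebra.Matrix.Determinant.Basic
import Mathlib.RingTheory.LocalRing.Basic
import Mathlib.RingTheory.LocalRing.MaximalIdeal.Basic
import Mathlib.Data.ZMod.Basic
import Mathlib.Tactic.LinearCombination
import Mathlib.Tactic.FinCases
import Mathlib.Tactic.Ring

set_option autoImplicit false
universe u
open CAlg

namespace Groth.Agent.S13149

section Aux

variable {A : Type*} [CommRing A]

/-- explicit 3×3 determinant -/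
def D (u v w : Fin 3 → A) : A :=
  u 0 * v 1 * w 2 - u 0 * v 2 * w 1 - u 1 * v 0 * w 2 + u 1 * v 2 * w 0 + u 2 * v 0 * w 1
    - u 2 * v 1 * w 0

theorem det_eq_D (u v w : Fin 3 → A) : Matrix.det (Matrix.of ![u, v, w]) = D u v w := by
  rw [Matrix.det_fin_three]
  simp [D]

/-- Cramer coordinates -/
def cc (E₀ E₁ E₂ x : Fin 3 → A) : Fin 3 → A := ![D x E₁ E₂, D E₀ x E₂, D E₀ E₁ x]

@[simp] lemma cc_0 (E₀ E₁ E₂ x : Fin 3 → A) : cc E₀ E₁ E₂ x 0 = D x E₁ E₂ := rfl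
@[simp] lemma cc_1 (E₀ E₁ E₂ x : Fin 3 → A) : cc E₀ E₁ E₂ x 1 = D E₀ x E₂ := rfl
@[simp] lemma cc_2 (E₀ E₁ E₂ x : Fin 3 → A) : cc E₀ E₁ E₂ x 2 = D E₀ E₁ x := rfl

set_option maxHeartbeats 1000000 in
theorem D_cc (E₀ E₁ E₂ x y z : Fin 3 → A) :
    D (cc E₀ E₁ E₂ x) (cc E₀ E₁ E₂ y) (cc E₀ E₁ E₂ z) = D E₀ E₁ E₂ ^ 2 * D x y z := by
  simp only [D, cc_0, cc_1, cc_2]
  ring

theorem cramer (E₀ E₁ E₂ x : Fin 3 → A) (j : Fin 3) :
    D E₀ E₁ E₂ * x j =
      cc E₀ E₁ E₂ x 0 * E₀ j + cc E₀ E₁ E₂ x 1 * E₁ j + cc E₀ E₁ E₂ x 2 * E₂ j := by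
  fin_cases j <;> simp only [D, cc_0, cc_1, cc_2, Fin.zero_eta, Fin.mk_one, Fin.reduceFinMk] <;>
    ring

/-- cross product -/
def cr (a b : Fin 3 → A) : Fin 3 → A :=
  ![a 1 * b 2 - a 2 * b 1, a 2 * b 0 - a 0 * b 2, a 0 * b 1 - a 1 * b 0]

@[simp] lemma cr_0 (a b : Fin 3 → A) : cr a b 0 = a 1 * b 2 - a 2 * b 1 := rfl
@[simp] lemma cr_1 (a b : Fin 3 → A) : cr a b 1 = a 2 * b 0 - a 0 * b 2 := rfl
@[simp] lemma cr_2 (a b : Fin 3 → A) : cr a b 2 = a 0 * b 1 - a 1 * b 0 := rfl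

def HasUnit (x : Fin 3 → A) : Prop := ∃ i, IsUnit (x i)

def Sim (x y : Fin 3 → A) : Prop := ∃ c : A, IsUnit c ∧ x = c • y

theorem Sim.trans_smul {x y z : Fin 3 → A} (h : Sim x y) (c : A) (hc : IsUnit c) (hy : y = c • z) :
    Sim x z := by
  obtain ⟨d, hd, rfl⟩ := h
  exact ⟨d * c, hd.mul hc, by rw [hy, smul_smul]⟩

/-- If `x ⟂ ℓ, ℓ'`, and `ℓ × ℓ'` and `x` have a unit coordinate then `x ~ ℓ × ℓ'`. -/
theorem sim_cr_of_perp (x l l' : Fin 3 → A)
    (h1 : x 0 * l 0 + x 1 * l 1 + x 2 * l 2 = 0)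
    (h2 : x 0 * l' 0 + x 1 * l' 1 + x 2 * l' 2 = 0)
    (hx : HasUnit x) (hr : HasUnit (cr l l')) : Sim x (cr l l') := by
  have e01 : x 0 * cr l l' 1 = x 1 * cr l l' 0 := by
    simp only [cr_0, cr_1]
    linear_combination (l 2) * h2 - (l' 2) * h1
  have e02 : x 0 * cr l l' 2 = x 2 * cr l l' 0 := by
    simp only [cr_0, cr_2]
    linear_combination (l' 1) * h1 - (l 1) * h2
  have e12 : x 1 * cr l l' 2 = x 2 * cr l l' 1 := by
    simp only [cr_1, cr_2]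
    linear_combination (l 0) * h2 - (l' 0) * h1
  obtain ⟨i, hi⟩ := hr
  obtain ⟨v, hv⟩ := hi.exists_left_inv
  have key : x = (x i * v) • cr l l' := by
    funext j
    rw [Pi.smul_apply, smul_eq_mul]
    have hij : x i * cr l l' j = x j * cr l l' i := by
      fin_cases i <;> fin_cases j <;>
        simp only [Fin.zero_eta, Fin.mk_one, Fin.reduceFinMk] <;>
        first
          | rfl
          | exact e01
          | exact e02
          | exact e12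
          | exact e01.symm
          | exact e02.symm
          | exact e12.symm
    calc x j = x j * (v * cr l l' i) := by rw [hv, mul_one]
      _ = v * (x j * cr l l' i) := by ring
      _ = v * (x i * cr l l' j) := by rw [hij]
      _ = x i * v * cr l l' j := by ring
  obtain ⟨j, hj⟩ := hx
  refine ⟨x i * v, ?_, key⟩
  have : x j = (x i * v) * cr l l' j := by
    conv_lhs => rw [key]
    rfl
  rw [this] at hj
  exact isUnit_of_mul_isUnit_left hj

theorem D_eq_dot_cr (a b x : Fin 3 → A) :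
    D a b x = x 0 * cr a b 0 + x 1 * cr a b 1 + x 2 * cr a b 2 := by
  simp only [D, cr_0, cr_1, cr_2]; ring

theorem D_smul_smul (a b x : Fin 3 → A) (c d : A) : D (c • a) (d • b) x = c * d * D a b x := by
  simp only [D, Pi.smul_apply, smul_eq_mul]; ring

end Aux

section Main

variable {A : Type*} [CommRing A] (p : ℕ) [Fact p.Prime]
  (σ : (Fin 3 → ZMod p) → (Fin 3 → A))

/-- intersection lemma -/
theorem sim_of_collinear
    (ha : ∀ v : Fin 3 → ZMod p, v ≠ 0 → HasUnit (σ v))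
    (hb : ∀ u v w : Fin 3 → ZMod p, u ≠ 0 → v ≠ 0 → w ≠ 0 →
      Matrix.det (Matrix.of ![u, v, w]) = 0 → D (σ u) (σ v) (σ w) = 0)
    (P Q P' Q' R : Fin 3 → ZMod p) (a b a' b' : Fin 3 → A)
    (hP : P ≠ 0) (hQ : Q ≠ 0) (hP' : P' ≠ 0) (hQ' : Q' ≠ 0) (hR : R ≠ 0)
    (h1 : Matrix.det (Matrix.of ![P, Q, R]) = 0) (h2 : Matrix.det (Matrix.of ![P', Q', R]) = 0)
    (sP : Sim (σ P) a) (sQ : Sim (σ Q) b) (sP' : Sim (σ P') a') (sQ' : Sim (σ Q') b')
    (hu : HasUnit (cr (cr a b) (cr a' b'))) : Sim (σ R) (cr (cr a b) (cr a' b')) := by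
  have d1 := hb P Q R hP hQ hR h1
  have d2 := hb P' Q' R hP' hQ' hR h2
  obtain ⟨c, hc, eP⟩ := sP
  obtain ⟨d, hd, eQ⟩ := sQ
  obtain ⟨c', hc', eP'⟩ := sP'
  obtain ⟨d', hd', eQ'⟩ := sQ'
  rw [eP, eQ, D_smul_smul] at d1
  rw [eP', eQ', D_smul_smul] at d2
  have d1' : D a b (σ R) = 0 := by
    have := (hc.mul hd).mul_left_cancel (a := c * d) (b := D a b (σ R)) (c := 0)
    exact this (by rw [d1, mul_zero])
  have d2' : D a' b' (σ R) = 0 := by
    have := (hc'.mul hd').mul_left_cancel (a := c' * d') (b := D a' b' (σ R)) (c := 0)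
    exact this (by rw [d2, mul_zero])
  rw [D_eq_dot_cr] at d1' d2'
  exact sim_cr_of_perp (σ R) (cr a b) (cr a' b') d1' d2' (ha R hR) hu

end Main

section Main2

variable {A : Type*} [CommRing A] (p : ℕ) [Fact p.Prime]
  (σ : (Fin 3 → ZMod p) → (Fin 3 → A))

theorem main
    (ha : ∀ v : Fin 3 → ZMod p, v ≠ 0 → HasUnit (σ v))
    (hb : ∀ u v w : Fin 3 → ZMod p, u ≠ 0 → v ≠ 0 → w ≠ 0 →
      Matrix.det (Matrix.of ![u, v, w]) = 0 → D (σ u) (σ v) (σ w) = 0)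
    (hX : Sim (σ ![1, 0, 0]) ![1, 0, 0]) (hY : Sim (σ ![0, 1, 0]) ![0, 1, 0])
    (hO : Sim (σ ![0, 0, 1]) ![0, 0, 1]) (hU : Sim (σ ![1, 1, 1]) ![1, 1, 1]) :
    (p : A) = 0 := by
  have nz : ∀ (v : Fin 3 → ZMod p) (i : Fin 3), v i = 1 → v ≠ 0 := fun v i h h0 => by
    rw [h0] at h; exact zero_ne_one h
  -- P₁ = (1,0,1)
  have hP1 : Sim (σ ![1, 0, 1]) ![1, 0, 1] := by
    have := sim_of_collinear p σ ha hb ![0, 0, 1] ![1, 0, 0] ![1, 1, 1] ![0, 1, 0] ![1, 0, 1]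
      ![0, 0, 1] ![1, 0, 0] ![1, 1, 1] ![0, 1, 0]
      (nz _ 2 rfl) (nz _ 0 rfl) (nz _ 0 rfl) (nz _ 1 rfl) (nz _ 0 rfl)
      (by rw [Matrix.det_fin_three]; simp) (by rw [Matrix.det_fin_three]; simp)
      hO hX hU hY ⟨0, by simp⟩
    exact this.trans_smul 1 isUnit_one (by funext i; fin_cases i <;> simp)
  -- Q₀ = (0,1,1)
  have hQ0 : Sim (σ ![0, 1, 1]) ![0, 1, 1] := by
    have := sim_of_collinear p σ ha hb ![0, 0, 1] ![0, 1, 0] ![1, 1, 1] ![1, 0, 0] ![0, 1, 1]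
      ![0, 0, 1] ![0, 1, 0] ![1, 1, 1] ![1, 0, 0]
      (nz _ 2 rfl) (nz _ 1 rfl) (nz _ 0 rfl) (nz _ 0 rfl) (nz _ 1 rfl)
      (by rw [Matrix.det_fin_three]; simp) (by rw [Matrix.det_fin_three]; simp)
      hO hY hU hX ⟨1, by simp⟩
    exact this.trans_smul (-1) isUnit_one.neg (by funext i; fin_cases i <;> simp)
  -- D = (1,-1,0)
  have hD : Sim (σ ![1, -1, 0]) ![1, -1, 0] := by
    have := sim_of_collinear p σ ha hb ![1, 0, 0] ![0, 1, 0] ![0, 1, 1] ![1, 0, 1] ![1, -1, 0]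
      ![1, 0, 0] ![0, 1, 0] ![0, 1, 1] ![1, 0, 1]
      (nz _ 0 rfl) (nz _ 1 rfl) (nz _ 1 rfl) (nz _ 0 rfl) (nz _ 0 rfl)
      (by rw [Matrix.det_fin_three]; simp) (by rw [Matrix.det_fin_three]; simp)
      hX hY hQ0 hP1 ⟨1, by simp⟩
    exact this.trans_smul (-1) isUnit_one.neg (by funext i; fin_cases i <;> simp)
  -- induction
  have hPk : ∀ k : ℕ, Sim (σ ![(k : ZMod p), 0, 1]) ![(k : A), 0, 1] := by
    intro k
    induction k with
    | zero => simpa using hO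
    | succ k ih =>
      have hQk : Sim (σ ![(k : ZMod p), 1, 1]) ![(k : A), 1, 1] := by
        have := sim_of_collinear p σ ha hb ![(k : ZMod p), 0, 1] ![0, 1, 0] ![1, 1, 1] ![1, 0, 0]
          ![(k : ZMod p), 1, 1] ![(k : A), 0, 1] ![0, 1, 0] ![1, 1, 1] ![1, 0, 0]
          (nz _ 2 rfl) (nz _ 1 rfl) (nz _ 0 rfl) (nz _ 0 rfl) (nz _ 1 rfl)
          (by rw [Matrix.det_fin_three]; simp) (by rw [Matrix.det_fin_three]; simp)
          ih hY hU hX ⟨1, by simp⟩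
        exact this.trans_smul (-1) isUnit_one.neg (by funext i; fin_cases i <;> simp)
      have := sim_of_collinear p σ ha hb ![0, 0, 1] ![1, 0, 0] ![(k : ZMod p), 1, 1] ![1, -1, 0]
        ![((k + 1 : ℕ) : ZMod p), 0, 1] ![0, 0, 1] ![1, 0, 0] ![(k : A), 1, 1] ![1, -1, 0]
        (nz _ 2 rfl) (nz _ 0 rfl) (nz _ 1 rfl) (nz _ 0 rfl) (nz _ 2 rfl)
        (by rw [Matrix.det_fin_three]; simp) (by rw [Matrix.det_fin_three]; simp; ring)
        hO hX hQk hD ⟨2, by simp⟩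
      exact this.trans_smul (-1) isUnit_one.neg (by
        funext i; fin_cases i <;> simp <;> ring)
  have h1 := hPk p
  rw [ZMod.natCast_self] at h1
  obtain ⟨c, hc, e1⟩ := h1
  obtain ⟨d, hd, e2⟩ := hO
  have h0 := congrFun (e1.symm.trans e2) 0
  simp only [Pi.smul_apply, smul_eq_mul, Matrix.cons_val_zero, mul_zero] at h0
  exact hc.mul_right_eq_zero.1 h0

end Main2

theorem D_scale {A' : Type*} [CommRing A'] (u a b c : Fin 3 → A') :
    D (fun i => u i * a i) (fun i => u i * b i) (fun i => u i * c i) =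
      u 0 * u 1 * u 2 * D a b c := by
  simp only [D]; ring

theorem aux
    (p : ℕ) [Fact p.Prime] (A : Type u) [CommRing A] [IsLocalRing A]
    (ρ : (Fin 3 → ZMod p) → (Fin 3 → A))
    (hpt : ∀ v : Fin 3 → ZMod p, v ≠ 0 → ∃ i, IsUnit (ρ v i))
    (hcol : ∀ u v w : Fin 3 → ZMod p, u ≠ 0 → v ≠ 0 → w ≠ 0 →
      Matrix.det (Matrix.of ![u, v, w]) = 0 →
      ∃ n : Fin 3 → A, (∃ i, IsUnit (n i)) ∧
        dotProduct (ρ u) n = 0 ∧ dotProduct (ρ v) n = 0 ∧ dotProduct (ρ w) n = 0)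
    (hgen : IsUnit (Matrix.det (Matrix.of ![ρ (Pi.single 0 1), ρ (Pi.single 1 1), ρ (Pi.single 2 1)])) ∧
      IsUnit (Matrix.det (Matrix.of ![ρ (Pi.single 0 1), ρ (Pi.single 1 1), ρ (fun _ => 1)])) ∧
      IsUnit (Matrix.det (Matrix.of ![ρ (Pi.single 0 1), ρ (Pi.single 2 1), ρ (fun _ => 1)])) ∧
      IsUnit (Matrix.det (Matrix.of ![ρ (Pi.single 1 1), ρ (Pi.single 2 1), ρ (fun _ => 1)]))) :
    (p : A) = 0 := by
  have e0 : (![1, 0, 0] : Fin 3 → ZMod p) = Pi.single 0 1 := by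
    funext i; fin_cases i <;> simp
  have e1 : (![0, 1, 0] : Fin 3 → ZMod p) = Pi.single 1 1 := by
    funext i; fin_cases i <;> simp
  have e2 : (![0, 0, 1] : Fin 3 → ZMod p) = Pi.single 2 1 := by
    funext i; fin_cases i <;> simp
  have e3 : (![1, 1, 1] : Fin 3 → ZMod p) = fun _ => 1 := by
    funext i; fin_cases i <;> simp
  rw [← e0, ← e1, ← e2, ← e3] at hgen
  set E₀ := ρ ![1, 0, 0] with hE₀
  set E₁ := ρ ![0, 1, 0] with hE₁
  set E₂ := ρ ![0, 0, 1] with hE₂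
  set W := ρ ![1, 1, 1] with hW
  rw [det_eq_D, det_eq_D, det_eq_D, det_eq_D] at hgen
  obtain ⟨hδ, hw2, hw1, hw0⟩ := hgen
  -- collinear triples have vanishing determinant
  have hH : ∀ u v w : Fin 3 → ZMod p, u ≠ 0 → v ≠ 0 → w ≠ 0 →
      Matrix.det (Matrix.of ![u, v, w]) = 0 → D (ρ u) (ρ v) (ρ w) = 0 := by
    intro u v w hu hv hw hdet
    obtain ⟨n, ⟨i, hi⟩, h1, h2, h3⟩ := hcol u v w hu hv hw hdet
    simp only [dotProduct, Fin.sum_univ_three] at h1 h2 h3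
    have : D (ρ u) (ρ v) (ρ w) * n i = 0 := by
      fin_cases i
      · simp only [D, Fin.zero_eta]
        linear_combination (ρ v 1 * ρ w 2 - ρ v 2 * ρ w 1) * h1 -
          (ρ u 1 * ρ w 2 - ρ u 2 * ρ w 1) * h2 + (ρ u 1 * ρ v 2 - ρ u 2 * ρ v 1) * h3
      · simp only [D, Fin.mk_one]
        linear_combination -(ρ v 0 * ρ w 2 - ρ v 2 * ρ w 0) * h1 +
          (ρ u 0 * ρ w 2 - ρ u 2 * ρ w 0) * h2 - (ρ u 0 * ρ v 2 - ρ u 2 * ρ v 0) * h3
      · simp only [D, Fin.reduceFinMk]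
        linear_combination (ρ v 0 * ρ w 1 - ρ v 1 * ρ w 0) * h1 -
          (ρ u 0 * ρ w 1 - ρ u 1 * ρ w 0) * h2 + (ρ u 0 * ρ v 1 - ρ u 1 * ρ v 0) * h3
    exact hi.mul_left_eq_zero.1 this
  -- the normalising units
  have hc0 : IsUnit (D W E₁ E₂) := by
    have : D W E₁ E₂ = D E₁ E₂ W := by simp only [D]; ring
    rw [this]; exact hw0
  have hc1 : IsUnit (D E₀ W E₂) := by
    have : D E₀ W E₂ = -D E₀ E₂ W := by simp only [D]; ring
    rw [this]; exact hw1.neg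
  obtain ⟨u₀, hu₀⟩ := hc0.exists_left_inv
  obtain ⟨u₁, hu₁⟩ := hc1.exists_left_inv
  obtain ⟨u₂, hu₂⟩ := hw2.exists_left_inv
  have hu₀' : IsUnit u₀ := IsUnit.of_mul_eq_one _ hu₀
  have hu₁' : IsUnit u₁ := IsUnit.of_mul_eq_one _ hu₁
  have hu₂' : IsUnit u₂ := IsUnit.of_mul_eq_one _ hu₂
  let uu : Fin 3 → A := ![u₀, u₁, u₂]
  have huu : ∀ i, IsUnit (uu i) := by
    intro i; fin_cases i
    · exact hu₀'
    · exact hu₁'
    · exact hu₂'
  let σ : (Fin 3 → ZMod p) → (Fin 3 → A) := fun v i => uu i * cc E₀ E₁ E₂ (ρ v) i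
  have ha : ∀ v : Fin 3 → ZMod p, v ≠ 0 → HasUnit (σ v) := by
    intro v hv
    by_contra hcon
    have hall : ∀ i, cc E₀ E₁ E₂ (ρ v) i ∈ IsLocalRing.maximalIdeal A := by
      intro i
      rw [IsLocalRing.mem_maximalIdeal, mem_nonunits_iff]
      intro hi
      exact hcon ⟨i, (huu i).mul hi⟩
    obtain ⟨j, hj⟩ := hpt v hv
    have hmem : D E₀ E₁ E₂ * ρ v j ∈ IsLocalRing.maximalIdeal A := by
      rw [cramer]
      exact Ideal.add_mem _ (Ideal.add_mem _ (Ideal.mul_mem_right _ _ (hall 0))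
        (Ideal.mul_mem_right _ _ (hall 1))) (Ideal.mul_mem_right _ _ (hall 2))
    rw [IsLocalRing.mem_maximalIdeal, mem_nonunits_iff] at hmem
    exact hmem (hδ.mul hj)
  have hb : ∀ u v w : Fin 3 → ZMod p, u ≠ 0 → v ≠ 0 → w ≠ 0 →
      Matrix.det (Matrix.of ![u, v, w]) = 0 → D (σ u) (σ v) (σ w) = 0 := by
    intro u v w hu hv hw hdet
    have := hH u v w hu hv hw hdet
    change D (fun i => uu i * cc E₀ E₁ E₂ (ρ u) i) (fun i => uu i * cc E₀ E₁ E₂ (ρ v) i)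
      (fun i => uu i * cc E₀ E₁ E₂ (ρ w) i) = 0
    rw [D_scale, D_cc, this, mul_zero, mul_zero]
  have hX : Sim (σ ![1, 0, 0]) ![1, 0, 0] := by
    refine ⟨u₀ * D E₀ E₁ E₂, hu₀'.mul hδ, ?_⟩
    funext i
    fin_cases i
    · simp [σ, uu, ← hE₀]
    · simp only [σ, ← hE₀, Fin.mk_one, cc_1, Pi.smul_apply, smul_eq_mul]
      simp only [D, Matrix.cons_val_one, Matrix.cons_val_zero]; ring
    · simp only [σ, ← hE₀, Fin.reduceFinMk, cc_2, Pi.smul_apply, smul_eq_mul]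
      simp only [D, Matrix.cons_val_two, Matrix.tail_cons, Matrix.head_cons]; ring
  have hY : Sim (σ ![0, 1, 0]) ![0, 1, 0] := by
    refine ⟨u₁ * D E₀ E₁ E₂, hu₁'.mul hδ, ?_⟩
    funext i
    fin_cases i
    · simp only [σ, ← hE₁, Fin.zero_eta, cc_0, Pi.smul_apply, smul_eq_mul]
      simp only [D, Matrix.cons_val_zero]; ring
    · simp [σ, uu, ← hE₁]
    · simp only [σ, ← hE₁, Fin.reduceFinMk, cc_2, Pi.smul_apply, smul_eq_mul]
      simp only [D, Matrix.cons_val_two, Matrix.tail_cons, Matrix.head_cons]; ring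
  have hO : Sim (σ ![0, 0, 1]) ![0, 0, 1] := by
    refine ⟨u₂ * D E₀ E₁ E₂, hu₂'.mul hδ, ?_⟩
    funext i
    fin_cases i
    · simp only [σ, ← hE₂, Fin.zero_eta, cc_0, Pi.smul_apply, smul_eq_mul]
      simp only [D, Matrix.cons_val_zero]; ring
    · simp only [σ, ← hE₂, Fin.mk_one, cc_1, Pi.smul_apply, smul_eq_mul]
      simp only [D, Matrix.cons_val_one, Matrix.cons_val_zero]; ring
    · simp [σ, uu, ← hE₂]
  have hU : Sim (σ ![1, 1, 1]) ![1, 1, 1] := by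
    refine ⟨1, isUnit_one, ?_⟩
    funext i
    fin_cases i
    · simp [σ, uu, ← hW, hu₀]
    · simp [σ, uu, ← hW, hu₁]
    · simp [σ, uu, ← hW, hu₂]
  exact main p σ ha hb hX hY hO hU

/-- Let A be a local ring and ρ a map from the points of the projective plane over F_p to the points of
the projective plane over A (vectors with a unit coordinate, up to units) taking collinear triples
to collinear triples (three points are collinear when a vector with a unit coordinate is orthogonal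
to all three). If ρ sends the standard frame (1:0:0), (0:1:0), (0:0:1), (1:1:1) to four points in
general position, then p = 0 in A. (The published statement asks only that ρ preserve collinearity;
a constant map does so over any ring, and the published argument begins by moving the images of the
standard frame to the standard frame, which needs them in general position — that condition is made
a hypothesis here.) -/
theorem result
    (p : ℕ) [Fact p.Prime] (A : Type u) [CommRing A] [IsLocalRing A]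
    (ρ : (Fin 3 → ZMod p) → (Fin 3 → A))
    (hpt : ∀ v : Fin 3 → ZMod p, v ≠ 0 → ∃ i, IsUnit (ρ v i))
    (hcol : ∀ u v w : Fin 3 → ZMod p, u ≠ 0 → v ≠ 0 → w ≠ 0 →
      Matrix.det (Matrix.of ![u, v, w]) = 0 →
      ∃ n : Fin 3 → A, (∃ i, IsUnit (n i)) ∧
        dotProduct (ρ u) n = 0 ∧ dotProduct (ρ v) n = 0 ∧ dotProduct (ρ w) n = 0)
    (hgen : IsUnit (Matrix.det (Matrix.of ![ρ (Pi.single 0 1), ρ (Pi.single 1 1), ρ (Pi.single 2 1)])) ∧
      IsUnit (Matrix.det (Matrix.of ![ρ (Pi.single 0 1), ρ (Pi.single 1 1), ρ (fun _ => 1)])) ∧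
      IsUnit (Matrix.det (Matrix.of ![ρ (Pi.single 0 1), ρ (Pi.single 2 1), ρ (fun _ => 1)])) ∧
      IsUnit (Matrix.det (Matrix.of ![ρ (Pi.single 1 1), ρ (Pi.single 2 1), ρ (fun _ => 1)]))) :
    (p : A) = 0 := by
  exact aux p A ρ hpt hcol hgen

end Groth.Agent.S13149
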