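import Groth.Statements.S1315
import Mathlib
import Groth.Agent.Lib.Helper10.ThickMono2

set_option autoImplicit false
universe u
open FlatMor

namespace Groth.Agent.S1315

open AlgebraicGeometry CategoryTheory Limits in
/-- Let Y ⟶ Y' be a thickening, let X be the base change to Y of a scheme X' over Y', and assume both X
⟶ Y and X' ⟶ Y' are locally of finite type. Then X ⟶ Y is a monomorphism if and only if X' ⟶ Y' is. -/
theorem result {X X' Y Y' : Scheme.{u}} (iX : X ⟶ X') (iY : Y ⟶ Y') (f : X ⟶ Y) (f' : X' ⟶ Y')
    (hY : MoreMor.IsThickening iY) (hc : IsPullback iX f f' iY) [LocallyOfFiniteType f] [LocallyOfFiniteType f'] :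
    Mono f ↔ Mono f' := by
  obtain ⟨hcl, hsurj⟩ := hY
  haveI : IsClosedImmersion iY := hcl
  haveI : Surjective iY := hsurj
  haveI : IsClosedImmersion iX := MorphismProperty.of_isPullback (P := @IsClosedImmersion) hc.flip hcl
  haveI : Surjective iX := MorphismProperty.of_isPullback (P := @Surjective) hc.flip hsurj
  constructor
  · intro hf
    apply Groth.Agent.Lib.Helper10.Thick.mono_of_isPullback hc
    intro x'
    obtain ⟨_, ⟨V', hV', rfl⟩, hxV', -⟩ :=
      X'.isBasis_affineOpens.exists_subset_of_mem_open (Set.mem_univ x') isOpen_univ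
    refine ⟨V', hV', hxV', Or.inr ⟨?_, inferInstance⟩⟩
    exact Groth.Agent.Lib.Helper10.Thick.ker_appLE_le_nilradical (iY := iX) hV'
  · intro hf'
    exact MorphismProperty.of_isPullback (P := MorphismProperty.monomorphisms Scheme) hc hf'

end Groth.Agent.S1315
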