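import Groth.Statements.S13150
import Mathlib
import Groth.Agent.Lib.Helper9.FrobLift2

set_option autoImplicit false
universe u
open FrobAlg

namespace Groth.Agent.S13150

/-- Let k be a perfect field of characteristic p and (B, ι, π) a flat lifting over W₂(k) of a Noetherian
k-algebra A. The Frobenius of A lifts to B (a σ₂-semilinear ring endomorphism of B reducing to the
p-th power map) if and only if there is a ring homomorphism θ : B → W₂(A) over A (the zeroth Witt
component of θ(b) is π(b)) with θ ∘ ι equal to the map W₂(k) → W₂(A) induced by k → A. (The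
published statement is for a flat W₂(k)-extension of the structure sheaf of a scheme and says: the
push-out of that extension along the Frobenius O_X → F_*O_X is isomorphic, as an extension by F_*O_X
over W₂(k), to W₂(O_X); by the universal property of the push-out this is the existence of a
morphism of extensions to W₂(O_X), which in the affine case taken here is the map θ.) -/
theorem result
    (p : ℕ) [Fact p.Prime] (k : Type u) [Field k] [CharP k p] [PerfectRing k p]
    (A B : Type u) [CommRing A] [Algebra k A] [IsNoetherianRing A] [CommRing B]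
    (ι : FrobAlg.W2 p k →+* B) (π : B →+* A) (hB : FrobAlg.IsLift p k A B ι π) :
    (∃ Φ : B →+* B, FrobAlg.IsFrobLift p k A B ι π Φ) ↔
      ∃ θ : B →+* FrobAlg.W2 p A,
        (FrobAlg.res p A).comp θ = π ∧ θ.comp ι = WittGrp.truncMap p 2 (algebraMap k A) := by
  constructor
  · rintro ⟨Φ, hΦ⟩
    let f : B → FrobAlg.W2 p A := fun b =>
      TruncatedWittVector.mk p ![π b, Groth.Agent.Lib.Helper9.FrobLift.delta hΦ b]
    have hf0 : ∀ b, (f b).coeff 0 = π b := fun b => by
      change (TruncatedWittVector.mk p ![π b, _]).coeff 0 = _
      rw [TruncatedWittVector.coeff_mk]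
      rfl
    have hf1 : ∀ b, (f b).coeff 1 = Groth.Agent.Lib.Helper9.FrobLift.delta hΦ b := fun b => by
      change (TruncatedWittVector.mk p ![π b, _]).coeff 1 = _
      rw [TruncatedWittVector.coeff_mk]
      rfl
    have hgf : ∀ b, Groth.Agent.Lib.Helper9.FrobLift.gh hB (f b) = Φ b := fun b => by
      rw [Groth.Agent.Lib.Helper9.FrobLift.gh_eq hB (f b) b (hf0 b).symm, hf1,
        Groth.Agent.Lib.Helper9.FrobLift.mu_delta]
      ring
    have hres : ∀ x : FrobAlg.W2 p A, x.coeff 0 = FrobAlg.res p A x := fun x =>
      (FrobAlg.res_apply p A x).symm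
    let θ : B →+* FrobAlg.W2 p A :=
      { toFun := f
        map_one' := by
          apply Groth.Agent.Lib.Helper9.FrobLift.gh_injective hB
          · rw [hf0, hres, map_one, map_one]
          · rw [hgf, map_one, map_one]
        map_zero' := by
          apply Groth.Agent.Lib.Helper9.FrobLift.gh_injective hB
          · rw [hf0, hres, map_zero, map_zero]
          · rw [hgf, map_zero, map_zero]
        map_mul' := fun b c => by
          apply Groth.Agent.Lib.Helper9.FrobLift.gh_injective hB
          · rw [hf0, hres, map_mul, map_mul, ← hres, ← hres, hf0, hf0]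
          · rw [hgf, map_mul, map_mul, hgf, hgf]
        map_add' := fun b c => by
          apply Groth.Agent.Lib.Helper9.FrobLift.gh_injective hB
          · rw [hf0, hres, map_add, map_add, ← hres, ← hres, hf0, hf0]
          · rw [hgf, map_add, map_add, hgf, hgf] }
    refine ⟨θ, ?_, ?_⟩
    · ext b
      rw [RingHom.comp_apply, FrobAlg.res_apply]
      exact hf0 b
    · ext1 w
      rw [RingHom.comp_apply]
      apply Groth.Agent.Lib.Helper9.FrobLift.gh_injective hB
      · change (f (ι w)).coeff 0 = _
        rw [hf0, WittGrp.coeff_truncMap]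
        have := RingHom.congr_fun hB.comm w
        rw [RingHom.comp_apply, RingHom.comp_apply, FrobAlg.res_apply] at this
        exact this
      · change Groth.Agent.Lib.Helper9.FrobLift.gh hB (f (ι w)) = _
        rw [hgf, Groth.Agent.Lib.Helper9.FrobLift.gh_truncMap]
        exact RingHom.congr_fun hΦ.semi w
  · rintro ⟨θ, hθ1, hθ2⟩
    refine ⟨(Groth.Agent.Lib.Helper9.FrobLift.gh hB).comp θ, hB, ?_, ?_⟩
    · ext1 w
      rw [RingHom.comp_apply, RingHom.comp_apply, RingHom.comp_apply]
      have := RingHom.congr_fun hθ2 w
      rw [RingHom.comp_apply] at this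
      rw [this, Groth.Agent.Lib.Helper9.FrobLift.gh_truncMap]
    · intro b
      rw [RingHom.comp_apply, Groth.Agent.Lib.Helper9.FrobLift.pi_gh]
      have := RingHom.congr_fun hθ1 b
      rw [RingHom.comp_apply, FrobAlg.res_apply] at this
      rw [this]

end Groth.Agent.S13150
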