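import Groth.Statements.S13151
import Mathlib.RingTheory.IntegralClosure.IntegrallyClosed
import Mathlib.RingTheory.Polynomial.ScaleRoots
import Mathlib.RingTheory.Ideal.Quotient.Operations

set_option autoImplicit false
universe u
open CAlg

namespace Groth.Agent.S13151

theorem aux {A B : Type u} [CommRing A] [CommRing B]
    [IsDomain A] [IsDomain B] [IsIntegrallyClosed A] [Algebra A B] [Algebra.IsIntegral A B]
    (hinj : Function.Injective (algebraMap A B)) (π : A) :
    (Ideal.span {algebraMap A B π}).comap (algebraMap A B) = Ideal.span {π} ∧
      (IsDomain (B ⧸ Ideal.span {algebraMap A B π}) → IsDomain (A ⧸ Ideal.span {π})) := by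
  have h1 : (Ideal.span {algebraMap A B π}).comap (algebraMap A B) = Ideal.span {π} := by
    apply le_antisymm
    · intro a ha
      rw [Ideal.mem_comap, Ideal.mem_span_singleton] at ha
      obtain ⟨b, hb⟩ := ha
      rw [Ideal.mem_span_singleton]
      by_cases hπ : π = 0
      · subst hπ
        rw [map_zero, zero_mul] at hb
        have : a = 0 := hinj (by rw [hb, map_zero])
        rw [this]
      obtain ⟨p, hp, hpb⟩ := Algebra.IsIntegral.isIntegral (R := A) b
      have hKπ : algebraMap A (FractionRing A) π ≠ 0 := by
        rwa [Ne, IsFractionRing.to_map_eq_zero_iff]
      have h2 : Polynomial.eval a (Polynomial.scaleRoots p π) = 0 := by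
        apply hinj
        rw [map_zero, ← Polynomial.eval₂_at_apply, hb, Polynomial.scaleRoots_eval₂_mul, hpb,
          mul_zero]
      have hx : IsIntegral A (algebraMap A (FractionRing A) a / algebraMap A (FractionRing A) π) := by
        refine ⟨p, hp, ?_⟩
        have h3 := Polynomial.scaleRoots_eval₂_mul (p := p) (algebraMap A (FractionRing A))
          (algebraMap A (FractionRing A) a / algebraMap A (FractionRing A) π) π
        rw [mul_div_cancel₀ _ hKπ, Polynomial.eval₂_at_apply, h2, map_zero] at h3
        exact (mul_eq_zero.1 h3.symm).resolve_left (pow_ne_zero _ hKπ)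
      obtain ⟨c, hc⟩ := IsIntegrallyClosed.isIntegral_iff.1 hx
      refine ⟨c, ?_⟩
      apply IsFractionRing.injective A (FractionRing A)
      rw [map_mul, hc, mul_div_cancel₀ _ hKπ]
    · rw [Ideal.span_le, Set.singleton_subset_iff]
      exact Ideal.subset_span rfl
  refine ⟨h1, fun hB => ?_⟩
  have hle : Ideal.span {π} ≤ (Ideal.span {algebraMap A B π}).comap (algebraMap A B) := h1.ge
  have hinj' : Function.Injective (Ideal.quotientMap (Ideal.span {algebraMap A B π})
      (algebraMap A B) hle) := by
    apply Ideal.quotientMap_injective'
    exact h1.le
  exact hinj'.isDomain _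

/-- Let A → B be an injective ring homomorphism of integral domains which is integral, with A integrally
closed, and let π be an element of A. Then the contraction to A of the ideal πB is πA, i.e. an
element of A which is a multiple of π in B is already a multiple of π in A; in particular if B/πB is
an integral domain then A/πA is an integral domain. (The published statement is for an integral
dominant morphism of integral schemes flat over a discrete valuation ring, with normal target and π
a uniformizer; flatness and the valuation ring play no role, so π is an arbitrary element here.) -/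
theorem result {A B : Type u} [CommRing A] [CommRing B]
    [IsDomain A] [IsDomain B] [IsIntegrallyClosed A] [Algebra A B] [Algebra.IsIntegral A B]
    (hinj : Function.Injective (algebraMap A B)) (π : A) :
    (Ideal.span {algebraMap A B π}).comap (algebraMap A B) = Ideal.span {π} ∧
      (IsDomain (B ⧸ Ideal.span {algebraMap A B π}) → IsDomain (A ⧸ Ideal.span {π})) := by
  exact aux hinj π

end Groth.Agent.S13151
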