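import Groth.Statements.S13153
import Groth.Agent.Lib.Helper4.KaehlerField

set_option autoImplicit false
universe u
open CAlg

namespace Groth.Agent.S13153

theorem aux (R : Type u) [CommRing R] [IsDomain R]
    [IsDiscreteValuationRing R] [CharZero R] (K : Type u) [Field K] [Algebra R K] [IsFractionRing R K]
    (A : Type u) [CommRing A] [IsDomain A] [Algebra R A] [Module.FaithfullyFlat R A]
    (L : Type u) [Field L] [Algebra A L] [IsFractionRing A L] [Algebra R L] [Algebra K L]
    [IsScalarTower R A L] [IsScalarTower R K L]
    (hac : ∀ x : L, IsAlgebraic K x → x ∈ (algebraMap K L).range)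
    (f : A) (hf : KaehlerDifferential.D R A f = 0) : f ∈ (algebraMap R A).range := by
  haveI : CharZero K := charZero_of_injective_algebraMap (IsFractionRing.injective R K)
  haveI : SMulCommClass K A L := ⟨fun k a l => by
    simp only [Algebra.smul_def]; ring⟩
  have h1 : KaehlerDifferential.D K L (algebraMap A L f) = 0 := by
    rw [← KaehlerDifferential.map_D R K A L, hf, map_zero]
  have h2 : IsAlgebraic K (algebraMap A L f) := by
    by_contra hT
    set y := algebraMap A L f with hy
    have hs : AlgebraicIndepOn K id ({y} : Set L) :=
      (algebraicIndependent_singleton_iff (⟨y, rfl⟩ : ({y} : Set L))).2 hT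
    obtain ⟨t, hst, ht⟩ := exists_isTranscendenceBasis_superset hs
    haveI := ht.isAlgebraic_field
    haveI : CharZero (IntermediateField.adjoin K (Set.range ((↑) : t → L))) :=
      charZero_of_injective_algebraMap
        (algebraMap K (IntermediateField.adjoin K (Set.range ((↑) : t → L)))).injective
    obtain ⟨b, hb⟩ := Groth.Agent.Lib.Helper4.exists_basis_D_of_isSeparable ht.1
    have hmem : y ∈ t := hst rfl
    have := hb ⟨y, hmem⟩
    exact b.ne_zero ⟨y, hmem⟩ (by rw [this]; exact h1)
  obtain ⟨k, hk⟩ := hac _ h2
  obtain ⟨r, s, hs0, rfl⟩ := IsFractionRing.div_surjective (A := R) k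
  have hs0' : s ≠ 0 := nonZeroDivisors.ne_zero hs0
  have hsK : algebraMap R K s ≠ 0 := by
    rwa [Ne, IsFractionRing.to_map_eq_zero_iff]
  have hinjA : Function.Injective (algebraMap R A) := FaithfulSMul.algebraMap_injective R A
  have h3 : algebraMap R A r = algebraMap R A s * f := by
    apply IsFractionRing.injective A L
    rw [map_mul, ← hk, ← IsScalarTower.algebraMap_apply, ← IsScalarTower.algebraMap_apply,
      IsScalarTower.algebraMap_apply R K L r, IsScalarTower.algebraMap_apply R K L s, ← map_mul,
      mul_div_cancel₀ _ hsK]
  have h4 : r ∈ ((Ideal.span {s}).map (algebraMap R A)).comap (algebraMap R A) := by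
    rw [Ideal.mem_comap, Ideal.map_span, Set.image_singleton, Ideal.mem_span_singleton]
    exact ⟨f, h3⟩
  rw [Ideal.comap_map_eq_self_of_faithfullyFlat, Ideal.mem_span_singleton] at h4
  obtain ⟨t, rfl⟩ := h4
  refine ⟨t, ?_⟩
  have hsA : algebraMap R A s ≠ 0 := by
    intro h
    exact hs0' (hinjA (by rw [h, map_zero]))
  rw [map_mul] at h3
  exact mul_left_cancel₀ hsA h3

/-- Let R be a discrete valuation ring whose fraction field K has characteristic zero, A an integral
domain which is a faithfully flat R-algebra, with fraction field L, such that K is algebraically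
closed in L (every element of L algebraic over K is in the image of K). If f ∈ A has vanishing
differential, df = 0 in Ω_{A/R}, then f is the image of an element of R. (The published statement is
the sheaf form: for a faithfully flat morphism X → Spec R with geometrically integral generic fibre,
the kernel of d : O_X → Ω¹_{X/R} is the inverse image of O_{Spec R}; for integral X, geometric
integrality of the generic fibre in characteristic zero amounts to K being algebraically closed in
the function field, which is the form used here, and this row is the case of global sections over an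
affine X = Spec A.) -/
theorem result (R : Type u) [CommRing R] [IsDomain R]
    [IsDiscreteValuationRing R] [CharZero R] (K : Type u) [Field K] [Algebra R K] [IsFractionRing R K]
    (A : Type u) [CommRing A] [IsDomain A] [Algebra R A] [Module.FaithfullyFlat R A]
    (L : Type u) [Field L] [Algebra A L] [IsFractionRing A L] [Algebra R L] [Algebra K L]
    [IsScalarTower R A L] [IsScalarTower R K L]
    (hac : ∀ x : L, IsAlgebraic K x → x ∈ (algebraMap K L).range)
    (f : A) (hf : KaehlerDifferential.D R A f = 0) : f ∈ (algebraMap R A).range := by
  exact aux R K A L hac f hf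

end Groth.Agent.S13153
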