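import Groth.Statements.S13154
import Mathlib.RingTheory.Flat.FaithfullyFlat.Algebra
import Mathlib.RingTheory.Flat.TorsionFree
import Mathlib.RingTheory.Localization.FractionRing

set_option autoImplicit false
universe u
open scoped TensorProduct
open CAlg

namespace Groth.Agent.S13154

section Core

variable {R : Type*} [CommRing R] [IsDomain R] (K : Type*) [Field K] [Algebra R K]
  [IsFractionRing R K] (A : Type*) [CommRing A] [Algebra R A]
  (M : Type*) [AddCommGroup M] [Module R M]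

include K in
theorem exists_smul_eq_one_tmul (x : K ⊗[R] M) :
    ∃ s : R, s ≠ 0 ∧ ∃ m₀ : M, s • x = (1 : K) ⊗ₜ[R] m₀ := by
  induction x using TensorProduct.induction_on with
  | zero => exact ⟨1, one_ne_zero, 0, by simp⟩
  | tmul k m =>
    obtain ⟨r, s, hs, rfl⟩ := IsFractionRing.div_surjective (A := R) k
    have hs0 : s ≠ 0 := nonZeroDivisors.ne_zero hs
    have hsK : algebraMap R K s ≠ 0 := by
      rwa [Ne, IsFractionRing.to_map_eq_zero_iff]
    refine ⟨s, hs0, r • m, ?_⟩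
    rw [TensorProduct.smul_tmul', Algebra.smul_def, mul_div_cancel₀ _ hsK,
      Algebra.algebraMap_eq_smul_one, TensorProduct.smul_tmul]
  | add x₁ x₂ h₁ h₂ =>
    obtain ⟨s₁, hs₁, m₁, e₁⟩ := h₁
    obtain ⟨s₂, hs₂, m₂, e₂⟩ := h₂
    refine ⟨s₁ * s₂, mul_ne_zero hs₁ hs₂, s₂ • m₁ + s₁ • m₂, ?_⟩
    rw [smul_add, mul_comm s₁ s₂, mul_smul, e₁, mul_comm s₂ s₁, mul_smul, e₂,
      TensorProduct.tmul_add, TensorProduct.tmul_smul, TensorProduct.tmul_smul]

theorem one_tmul_injective [Module.Flat R M] :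
    Function.Injective (fun m : M => (1 : K) ⊗ₜ[R] m) :=
  Module.Flat.tensorProduct_mk_injective R M K

variable [Module.FaithfullyFlat R A] [Module.Flat R M]

theorem core (x : K ⊗[R] M) (y : A ⊗[R] M)
    (h : LinearMap.rTensor M
        (Algebra.TensorProduct.includeLeft : K →ₐ[R] K ⊗[R] A).toLinearMap x =
      LinearMap.rTensor M
        (Algebra.TensorProduct.includeRight : A →ₐ[R] K ⊗[R] A).toLinearMap y) :
    ∃ m : M, x = 1 ⊗ₜ m ∧ y = 1 ⊗ₜ m := by
  obtain ⟨s, hs, m₀, hx⟩ := exists_smul_eq_one_tmul K M x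
  have hsK : algebraMap R K s ≠ 0 := by
    rwa [Ne, IsFractionRing.to_map_eq_zero_iff]
  -- injectivity of `A ⊗ M → (K ⊗ A) ⊗ M`
  have hinjR : Function.Injective
      (Algebra.TensorProduct.includeRight : A →ₐ[R] K ⊗[R] A).toLinearMap := by
    have : (Algebra.TensorProduct.includeRight : A →ₐ[R] K ⊗[R] A).toLinearMap =
        (Algebra.linearMap R K).rTensor A ∘ₗ (TensorProduct.lid R A).symm.toLinearMap := by
      ext a; simp
    rw [this]
    have hK : Function.Injective (Algebra.linearMap R K) := IsFractionRing.injective R K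
    have hK' : Function.Injective ((Algebra.linearMap R K).rTensor A) :=
      Module.Flat.rTensor_preserves_injective_linearMap (M := A) (Algebra.linearMap R K) hK
    rw [LinearMap.coe_comp]
    exact hK'.comp (LinearEquiv.injective (TensorProduct.lid R A).symm)
  have hj : Function.Injective (LinearMap.rTensor M
      (Algebra.TensorProduct.includeRight : A →ₐ[R] K ⊗[R] A).toLinearMap) :=
    Module.Flat.rTensor_preserves_injective_linearMap _ hinjR
  have hy : s • y = (1 : A) ⊗ₜ[R] m₀ := by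
    apply hj
    rw [map_smul, ← h, ← map_smul, hx]
    simp
  -- `m₀ ∈ s M`
  let N := M ⧸ LinearMap.range (LinearMap.lsmul R M s)
  let q : M →ₗ[R] N := Submodule.mkQ _
  have hkill : ∀ z : A ⊗[R] N, s • z = 0 := by
    intro z
    induction z using TensorProduct.induction_on with
    | zero => simp
    | tmul a n =>
      obtain ⟨m, rfl⟩ := Submodule.mkQ_surjective _ n
      rw [← TensorProduct.tmul_smul, ← map_smul]
      have : Submodule.mkQ (LinearMap.range (LinearMap.lsmul R M s)) (s • m) = 0 := by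
        rw [Submodule.mkQ_apply, Submodule.Quotient.mk_eq_zero]
        exact ⟨m, rfl⟩
      rw [this, TensorProduct.tmul_zero]
    | add z₁ z₂ h₁ h₂ => rw [smul_add, h₁, h₂, add_zero]
  have h0 : (1 : A) ⊗ₜ[R] q m₀ = 0 := by
    have := congrArg (LinearMap.lTensor A q) hy
    rw [map_smul, hkill, LinearMap.lTensor_tmul] at this
    exact this.symm
  have hq : q m₀ = 0 :=
    Module.FaithfullyFlat.tensorProduct_mk_injective (A := R) (B := A) N
      (by simpa using h0)
  obtain ⟨m, hm⟩ : ∃ m : M, s • m = m₀ := by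
    have : m₀ ∈ LinearMap.range (LinearMap.lsmul R M s) := by
      rwa [← Submodule.Quotient.mk_eq_zero]
    exact this
  refine ⟨m, ?_, ?_⟩
  · -- cancel s in the K-vector space
    have h1 : s • x = s • ((1 : K) ⊗ₜ[R] m) := by
      rw [hx, ← hm, TensorProduct.tmul_smul]
    have h2 : ∀ z : K ⊗[R] M, s • z = (algebraMap R K s) • z := fun z =>
      (algebraMap_smul K s z).symm
    rw [h2, h2] at h1
    exact smul_right_injective _ hsK h1
  · have h1 : s • y = s • ((1 : A) ⊗ₜ[R] m) := by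
      rw [hy, ← hm, TensorProduct.tmul_smul]
    exact Module.Flat.isSMulRegular_of_nonZeroDivisors (mem_nonZeroDivisors_of_ne_zero hs) h1

end Core

theorem aux (R : Type u) [CommRing R] [IsDomain R]
    [IsDiscreteValuationRing R] (K : Type u) [Field K] [Algebra R K] [IsFractionRing R K]
    (A : Type u) [CommRing A] [Algebra R A] [Module.FaithfullyFlat R A]
    (B₁ B₂ : Type u) [CommRing B₁] [CommRing B₂] [Algebra R B₁] [Algebra R B₂]
    [Module.Flat R B₁] [Module.Flat R B₂]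
    (φK : K ⊗[R] B₂ →ₐ[K] K ⊗[R] B₁) (φA : A ⊗[R] B₂ →ₐ[A] A ⊗[R] B₁)
    (hcomp : ∀ b : B₂,
      Algebra.TensorProduct.map (Algebra.TensorProduct.includeLeft : K →ₐ[R] K ⊗[R] A) (AlgHom.id R B₁)
          (φK (1 ⊗ₜ b)) =
        Algebra.TensorProduct.map (Algebra.TensorProduct.includeRight : A →ₐ[R] K ⊗[R] A) (AlgHom.id R B₁)
          (φA (1 ⊗ₜ b))) :
    ∃! φ : B₂ →ₐ[R] B₁, (∀ b : B₂, φK (1 ⊗ₜ b) = 1 ⊗ₜ φ b) ∧ (∀ b : B₂, φA (1 ⊗ₜ b) = 1 ⊗ₜ φ b) := by
  have hcore : ∀ b : B₂, ∃ m : B₁, φK (1 ⊗ₜ b) = 1 ⊗ₜ m ∧ φA (1 ⊗ₜ b) = 1 ⊗ₜ m := by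
    intro b
    apply core K A B₁
    exact hcomp b
  let ι : B₁ →ₐ[R] K ⊗[R] B₁ := Algebra.TensorProduct.includeRight
  have hι : Function.Injective ι := one_tmul_injective K B₁
  let ψ : B₂ →ₐ[R] K ⊗[R] B₁ :=
    (φK.restrictScalars R).comp (Algebra.TensorProduct.includeRight : B₂ →ₐ[R] K ⊗[R] B₂)
  have hψ : ∀ b, ψ b ∈ ι.range := by
    intro b
    obtain ⟨m, hm, -⟩ := hcore b
    exact ⟨m, hm.symm⟩
  let φ : B₂ →ₐ[R] B₁ :=
    (AlgEquiv.ofInjective ι hι).symm.toAlgHom.comp (ψ.codRestrict ι.range hψ)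
  have hφ : ∀ b, (1 : K) ⊗ₜ[R] φ b = φK (1 ⊗ₜ b) := by
    intro b
    have : ι (φ b) = ψ b := by
      have h1 := (AlgEquiv.ofInjective ι hι).apply_symm_apply (ψ.codRestrict ι.range hψ b)
      exact congrArg Subtype.val h1
    exact this
  refine ⟨φ, ⟨fun b => (hφ b).symm, fun b => ?_⟩, ?_⟩
  · obtain ⟨m, hm, hm'⟩ := hcore b
    have : φ b = m := hι (by change (1 : K) ⊗ₜ[R] φ b = 1 ⊗ₜ m; rw [hφ, hm])
    rw [hm', this]
  · rintro φ' ⟨h1, -⟩
    ext b
    apply hι
    change (1 : K) ⊗ₜ[R] φ' b = 1 ⊗ₜ φ b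
    rw [← h1, hφ]

/-- Let R be a discrete valuation ring with fraction field K, A a faithfully flat R-algebra (an affine
faithfully flat base change S' → S = Spec R) and B₁, B₂ flat R-algebras (two affine S-schemes X₁ =
Spec B₁, X₂ = Spec B₂, flat over S). Suppose given a K-algebra homomorphism φ_K : K ⊗ B₂ → K ⊗ B₁ (a
morphism of the generic fibres X₁,K → X₂,K) and an A-algebra homomorphism φ_A : A ⊗ B₂ → A ⊗ B₁ (a
morphism X₁ ×_S S' → X₂ ×_S S' over S') which coincide after base change to K ⊗ A, in the sense that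
for every b ∈ B₂ the images of φ_K(1 ⊗ b) and φ_A(1 ⊗ b) in (K ⊗ A) ⊗ B₁ agree. Then there is
exactly one R-algebra homomorphism φ : B₂ → B₁ (a morphism X₁ → X₂) whose base changes to K and to A
are φ_K and φ_A. (The published statement assumes only X₂ flat over S; flatness of X₁ is also
needed: with B₂ = R[t], B₁ = R[e]/(e², πe) for a uniformizer π and A = R[x], the maps t ↦ 0 over K
and t ↦ e x over A agree over K ⊗ A = K[x] but come from no map over R.) -/
theorem result (R : Type u) [CommRing R] [IsDomain R]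
    [IsDiscreteValuationRing R] (K : Type u) [Field K] [Algebra R K] [IsFractionRing R K]
    (A : Type u) [CommRing A] [Algebra R A] [Module.FaithfullyFlat R A]
    (B₁ B₂ : Type u) [CommRing B₁] [CommRing B₂] [Algebra R B₁] [Algebra R B₂]
    [Module.Flat R B₁] [Module.Flat R B₂]
    (φK : K ⊗[R] B₂ →ₐ[K] K ⊗[R] B₁) (φA : A ⊗[R] B₂ →ₐ[A] A ⊗[R] B₁)
    (hcomp : ∀ b : B₂,
      Algebra.TensorProduct.map (Algebra.TensorProduct.includeLeft : K →ₐ[R] K ⊗[R] A) (AlgHom.id R B₁)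
          (φK (1 ⊗ₜ b)) =
        Algebra.TensorProduct.map (Algebra.TensorProduct.includeRight : A →ₐ[R] K ⊗[R] A) (AlgHom.id R B₁)
          (φA (1 ⊗ₜ b))) :
    ∃! φ : B₂ →ₐ[R] B₁, (∀ b : B₂, φK (1 ⊗ₜ b) = 1 ⊗ₜ φ b) ∧ (∀ b : B₂, φA (1 ⊗ₜ b) = 1 ⊗ₜ φ b) := by
  exact aux R K A B₁ B₂ φK φA hcomp

end Groth.Agent.S13154
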