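import Groth.Statements.S13155
-- import your own Groth.Agent.* helpers here

set_option autoImplicit false
universe u
open CAlg

namespace Groth.Agent.S13155

/-- factorization of divisors of powers of a prime element -/
lemma exists_eq_pow_mul_unit {A : Type*} [CommRing A] [IsDomain A] (π : A)
    (hprime : (Ideal.span {π}).IsPrime) (hπ0 : π ≠ 0) :
    ∀ (N : ℕ) (f g : A), f * g = π ^ N → ∃ (a : ℕ) (u : Aˣ), f = π ^ a * u := by
  intro N
  induction N with
  | zero =>
    intro f g h
    rw [pow_zero] at h
    exact ⟨0, Units.mkOfMulEqOne f g h, by simp⟩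
  | succ N ih =>
    intro f g h
    have hmem : f * g ∈ Ideal.span {π} := by
      rw [h, pow_succ]
      exact Ideal.mul_mem_left _ _ (Ideal.subset_span rfl)
    rcases hprime.mem_or_mem hmem with hf | hg
    · obtain ⟨f', rfl⟩ := Ideal.mem_span_singleton.1 hf
      have h' : f' * g = π ^ N := by
        apply mul_left_cancel₀ hπ0
        rw [← mul_assoc, h, pow_succ, mul_comm]
      obtain ⟨a, u, hu⟩ := ih f' g h'
      exact ⟨a + 1, u, by rw [hu, pow_succ]; ring⟩
    · obtain ⟨g', rfl⟩ := Ideal.mem_span_singleton.1 hg
      have h' : f * g' = π ^ N := by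
        apply mul_left_cancel₀ hπ0
        rw [← pow_succ', ← h]; ring
      exact ih f g' h'

lemma core {A S : Type*} [CommRing A] [CommRing S] [IsDomain S] [Algebra A S] (π : A) (u : Aˣ)
    (m a : ℕ) (hm : 0 < m) (z : S) (hz : z ^ m = algebraMap A S (π ^ a * u))
    (hπS : IsUnit (algebraMap A S π))
    (hprime : (Ideal.span {algebraMap A (integralClosure A S) π}).IsPrime) : m ∣ a := by
  set q := a / m with hq
  set r := a % m with hr
  have ha : a = m * q + r := (Nat.div_add_mod a m).symm
  have hrm : r < m := Nat.mod_lt a hm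
  rcases Nat.eq_zero_or_pos r with hr0 | hrpos
  · exact ⟨q, by rw [ha, hr0, add_zero]⟩
  exfalso
  obtain ⟨πS, hπS'⟩ := hπS
  -- the element `W = z / π^q`
  let W : S := z * ((πS⁻¹ : Sˣ) : S) ^ q
  have hW : W ^ m = algebraMap A S (π ^ r * u) := by
    have h1 : (πS : S) ^ (m * q) * W ^ m = (πS : S) ^ (m * q) * algebraMap A S (π ^ r * u) := by
      have e1 : (πS : S) ^ (m * q) * W ^ m = z ^ m := by
        simp only [W, mul_pow, ← pow_mul]
        rw [mul_comm q m, mul_left_comm, ← mul_pow, Units.mul_inv, one_pow, mul_one]
      rw [e1, hz, ha, pow_add, hπS', ← map_pow, ← map_mul]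
      congr 1; ring
    exact mul_left_cancel₀ (pow_ne_zero _ πS.ne_zero) h1
  have hWint : IsIntegral A W := by
    refine ⟨Polynomial.X ^ m - Polynomial.C (π ^ r * u), Polynomial.monic_X_pow_sub_C _ hm.ne', ?_⟩
    simp [hW]
  let WB : integralClosure A S := ⟨W, hWint⟩
  set πB : integralClosure A S := algebraMap A (integralClosure A S) π with hπB
  have hπBval : (πB : S) = πS := by rw [hπS']; rfl
  have hWB : WB ^ m = πB ^ r * algebraMap A (integralClosure A S) u := by
    apply Subtype.ext
    simp only [SubmonoidClass.coe_pow, MulMemClass.coe_mul]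
    change W ^ m = (πB : S) ^ r * algebraMap A S u
    rw [hW, map_mul, map_pow]
    rfl
  have hmem : WB ^ m ∈ Ideal.span {πB} := by
    rw [hWB]
    obtain ⟨r', hr'⟩ : ∃ r', r = r' + 1 := ⟨r - 1, by omega⟩
    rw [hr', pow_succ, mul_assoc]
    exact Ideal.mul_mem_left _ _ (Ideal.mul_mem_right _ _ (Ideal.subset_span rfl))
  have hWBmem := hprime.mem_of_pow_mem m hmem
  obtain ⟨W₁, hW₁⟩ := Ideal.mem_span_singleton.1 hWBmem
  have hπB0 : πB ≠ 0 := by
    intro h0
    have : (πB : S) = 0 := by rw [h0]; rfl
    rw [hπBval] at this
    exact πS.ne_zero this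
  have hdvd : πB ∣ algebraMap A (integralClosure A S) u := by
    have h2 : πB ^ r * (πB ^ (m - r) * W₁ ^ m) = πB ^ r * algebraMap A (integralClosure A S) u := by
      rw [← hWB, hW₁, mul_pow, ← mul_assoc, ← pow_add, Nat.add_sub_cancel' hrm.le]
    have h3 := mul_left_cancel₀ (pow_ne_zero r hπB0) h2
    rw [← h3]
    obtain ⟨k, hk⟩ : ∃ k, m - r = k + 1 := ⟨m - r - 1, by omega⟩
    rw [hk, pow_succ, mul_assoc]
    exact (dvd_mul_right _ _).mul_left _
  have hunit : IsUnit πB := isUnit_of_dvd_unit hdvd (u.isUnit.map _)
  exact hprime.ne_top (Ideal.span_singleton_eq_top.2 hunit)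


/-- Let R be a discrete valuation ring of characteristic zero with uniformizer π, and A a Noetherian
integrally closed domain which is an R-algebra with injective structure map and in which πA is a
prime ideal (X = Spec A is normal, flat over R, with integral special fibre). Let m ≥ 1 and let f ∈
A be invertible in A[1/π] (so Z^m = f defines a μ_m-torsor over the generic fibre), such that S =
A[1/π][Z]/(Z^m − f) is an integral domain and, writing B for the integral closure of A in S (the
normalization of X in that cover), πB is a prime ideal of B (the normalization has integral special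
fibre). Then f is, up to a unit of A, an m-th power of a power of π: f = π^{mq}·u with q ≥ 0 and u ∈
A^×, so that the cover extends to the μ_m-torsor Z^m = u over all of X. (The published statement is
the existence and uniqueness of the extending μ_m-torsor over a normal faithfully flat R-scheme with
integral fibres, R containing a primitive m-th root of unity; this row is the affine computation
that carries the proof.) -/
theorem result (R : Type u) [CommRing R]
    [IsDomain R] [IsDiscreteValuationRing R] [CharZero R] (ϖ : R) (hϖ : Irreducible ϖ)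
    (A : Type u) [CommRing A] [IsDomain A] [IsNoetherianRing A] [IsIntegrallyClosed A] [Algebra R A]
    (hinj : Function.Injective (algebraMap R A)) (hprime : (Ideal.span {algebraMap R A ϖ}).IsPrime)
    (m : ℕ) (hm : 0 < m) (f : A) (hf : IsUnit (algebraMap A (Localization.Away (algebraMap R A ϖ)) f))
    [IsDomain (AdjoinRoot (Polynomial.X ^ m - Polynomial.C (algebraMap A (Localization.Away (algebraMap R A ϖ)) f)))]
    (hsp : (Ideal.span {algebraMap A (integralClosure A
        (AdjoinRoot (Polynomial.X ^ m - Polynomial.C (algebraMap A (Localization.Away (algebraMap R A ϖ)) f))))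
          (algebraMap R A ϖ)}).IsPrime) :
    ∃ (q : ℕ) (u : Aˣ), f = algebraMap R A ϖ ^ (m * q) * (u : A) := by
  set π := algebraMap R A ϖ with hπ
  have hπ0 : π ≠ 0 := by
    rw [hπ, Ne, ← map_zero (algebraMap R A), hinj.eq_iff]
    exact hϖ.ne_zero
  obtain ⟨N, g, hg⟩ := (IsLocalization.Away.algebraMap_isUnit_iff
    (S := Localization.Away π) π).1 hf
  obtain ⟨a, u, hu⟩ := exists_eq_pow_mul_unit π hprime hπ0 N f g hg.symm
  have hz : (AdjoinRoot.root (Polynomial.X ^ m -
      Polynomial.C (algebraMap A (Localization.Away π) f))) ^ m =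
      algebraMap A (AdjoinRoot (Polynomial.X ^ m -
        Polynomial.C (algebraMap A (Localization.Away π) f))) (π ^ a * u) := by
    have h := AdjoinRoot.eval₂_root (Polynomial.X ^ m -
      Polynomial.C (algebraMap A (Localization.Away π) f))
    rw [Polynomial.eval₂_sub, Polynomial.eval₂_pow, Polynomial.eval₂_X, Polynomial.eval₂_C,
      sub_eq_zero] at h
    rw [h, ← hu]
    rfl
  have hπS : IsUnit (algebraMap A (AdjoinRoot (Polynomial.X ^ m -
        Polynomial.C (algebraMap A (Localization.Away π) f))) π) := by
    have h1 : IsUnit (algebraMap A (Localization.Away π) π) :=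
      IsLocalization.Away.algebraMap_isUnit π
    have h2 := h1.map (algebraMap (Localization.Away π) (AdjoinRoot (Polynomial.X ^ m -
        Polynomial.C (algebraMap A (Localization.Away π) f))))
    exact h2
  have hdiv : m ∣ a := core π u m a hm _ hz hπS hsp
  obtain ⟨q, rfl⟩ := hdiv
  exact ⟨q, u, hu⟩

end Groth.Agent.S13155
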