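import Groth.Statements.S13156
import Mathlib.Tactic
import Mathlib.Data.Fin.VecNotation
import Mathlib.Tactic.Ring
import Mathlib.Algebra.MvPolynomial.Eval
import Mathlib.Algebra.Polynomial.Eval.Degree
import Mathlib.Algebra.Polynomial.Degree.Lemmas

set_option autoImplicit false
universe u
open scoped Polynomial
open CAlg

namespace Groth.Agent.S13156

section helpers
open Polynomial

lemma keyc {A : Type*} [CommRing A] (μ c : A) (F : A[X]) :
    F * Polynomial.C c = Polynomial.derivative F * (1 + Polynomial.C μ * Polynomial.X) ↔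
      ∀ n : ℕ, ((n : A) + 1) * F.coeff (n + 1) = F.coeff n * (c - n * μ) := by
  rw [Polynomial.ext_iff]
  have e : derivative F * (1 + C μ * X) = derivative F + C μ * (derivative F * X) := by ring
  refine forall_congr' fun n ↦ ?_
  rw [e, coeff_mul_C, coeff_add, coeff_C_mul]
  cases n with
  | zero =>
    rw [coeff_mul_X_zero, coeff_derivative]
    simp only [Nat.cast_zero, zero_add, mul_zero, add_zero, zero_mul, sub_zero, mul_one, one_mul]
    constructor <;> intro h <;> linear_combination (-1 : A) * h
  | succ m =>
    rw [coeff_mul_X, coeff_derivative, coeff_derivative]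
    push_cast
    constructor <;> intro h <;> linear_combination (-1 : A) * h

lemma isUnit_succ {B : Type*} [CommRing B] (p : ℕ) (hu : IsUnit ((Nat.factorial (p - 1) : ℕ) : B))
    (n : ℕ) (hn : n + 1 < p) : IsUnit ((n : B) + 1) := by
  have hdvd : (n + 1) ∣ (p - 1).factorial := Nat.dvd_factorial (Nat.succ_pos n) (by omega)
  have := isUnit_of_dvd_unit (Nat.cast_dvd_cast (α := B) hdvd) hu
  simpa using this

/-- uniqueness -/
lemma uniq {B : Type*} [CommRing B] (p : ℕ) (hu : IsUnit ((Nat.factorial (p - 1) : ℕ) : B))
    (μ c : B) (H : B[X]) (hH : H.natDegree < p)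
    (hode : H * C c = derivative H * (1 + C μ * X)) (h0 : H.coeff 0 = 0) : H = 0 := by
  rw [keyc] at hode
  ext n
  rw [coeff_zero]
  induction n with
  | zero => exact h0
  | succ n ih =>
    by_cases hn : n + 1 < p
    · apply (isUnit_succ p hu n hn).mul_left_cancel
      rw [hode n, ih, zero_mul, mul_zero]
    · exact coeff_eq_zero_of_natDegree_lt (by omega)

lemma kill {B : Type*} [CommRing B] (p : ℕ) (hu : IsUnit ((Nat.factorial (p - 1) : ℕ) : B))
    (μ : B) (E : B[X]) (hE : E.natDegree < p)
    (hode : E * C (E.coeff 1) = derivative E * (1 + C μ * X)) (n : ℕ) :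
    (E.coeff 0 - 1) * E.coeff (n + 1) = 0 := by
  rw [keyc] at hode
  induction n with
  | zero =>
    have := hode 0
    simp only [Nat.cast_zero, zero_add, one_mul, zero_mul, sub_zero] at this
    linear_combination (-1 : B) * this
  | succ n ih =>
    by_cases hn : n + 1 + 1 < p
    · apply (isUnit_succ p hu (n + 1) hn).mul_left_cancel
      have := hode (n + 1)
      push_cast at this ⊢
      rw [mul_zero]
      linear_combination (E.coeff 0 - 1) * this + (E.coeff 1 - (n + 1) * μ) * ih
    · rw [coeff_eq_zero_of_natDegree_lt (n := n + 1 + 1) (by omega), mul_zero]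

lemma mainB {B : Type*} [CommRing B] (p : ℕ) (hu : IsUnit ((Nat.factorial (p - 1) : ℕ) : B))
    (μ s : B) (E : B[X]) (hE : E.natDegree < p)
    (hode : E * C (E.coeff 1) = derivative E * (1 + C μ * X)) :
    C (eval s E) * E - C (E.coeff 0 ^ 2) = E.comp (C s + X + C μ * C s * X) - C (E.coeff 0) := by
  set q : B[X] := C s + X + C μ * C s * X with hq
  set e0 := E.coeff 0 with he0
  set e1 := E.coeff 1 with he1
  suffices h : C (eval s E) * E - C (e0 ^ 2) - E.comp q + C e0 = 0 by
    linear_combination h
  have hqdeg : q.natDegree ≤ 1 := by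
    have : q = C (1 + μ * s) * X + C s := by rw [hq]; simp only [map_add, map_mul, map_one]; ring
    rw [this]
    exact natDegree_linear_le
  have hcompdeg : (E.comp q).natDegree ≤ E.natDegree :=
    (natDegree_comp_le).trans (by
      calc E.natDegree * q.natDegree ≤ E.natDegree * 1 := Nat.mul_le_mul_left _ hqdeg
        _ = E.natDegree := mul_one _)
  have hp0 : 0 < p := by omega
  refine uniq p hu μ e1 _ ?_ ?_ ?_
  · -- degree
    have h1 : (C (eval s E) * E).natDegree ≤ E.natDegree := natDegree_C_mul_le _ _
    have h2 : (C (eval s E) * E - C (e0 ^ 2)).natDegree ≤ E.natDegree :=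
      (natDegree_sub_le _ _).trans (max_le h1 ((natDegree_C _).le.trans (Nat.zero_le _)))
    have h3 : (C (eval s E) * E - C (e0 ^ 2) - E.comp q).natDegree ≤ E.natDegree :=
      (natDegree_sub_le _ _).trans (max_le h2 hcompdeg)
    have h4 : (C (eval s E) * E - C (e0 ^ 2) - E.comp q + C e0).natDegree ≤ E.natDegree :=
      (natDegree_add_le _ _).trans (max_le h3 ((natDegree_C _).le.trans (Nat.zero_le _)))
    omega
  · -- ODE
    have h2 : E.comp q * C e1 = (derivative E).comp q * (1 + C μ * q) := by
      have := congrArg (fun P : B[X] ↦ P.comp q) hode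
      simpa only [mul_comp, add_comp, C_comp, X_comp, one_comp] using this
    have h3 : e1 = e0 * e1 := by
      have := (keyc μ e1 E).mp hode 0
      simp only [Nat.cast_zero, zero_add, one_mul, zero_mul, sub_zero] at this
      exact this
    have hdq : derivative q = 1 + C μ * C s := by
      rw [hq]
      simp only [derivative_add, derivative_C, derivative_X, derivative_mul, zero_mul, mul_zero,
        zero_add, add_zero, mul_one]
    have hd : derivative (C (eval s E) * E - C (e0 ^ 2) - E.comp q + C e0) =
        C (eval s E) * derivative E - (derivative E).comp q * (1 + C μ * C s) := by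
      simp only [derivative_add, derivative_sub, derivative_C_mul, derivative_C, derivative_comp,
        hdq, sub_zero, add_zero]
      ring
    rw [hd]
    have h3' : (C e1 : B[X]) = C e0 * C e1 := by rw [← C_mul, ← h3]
    have hq' : (1 : B[X]) + C μ * q = (1 + C μ * C s) * (1 + C μ * X) := by rw [hq]; ring
    rw [hq'] at h2
    simp only [map_pow]
    linear_combination (C (eval s E)) * hode - h2 + C e0 * h3'
  · -- initial value
    rw [coeff_zero_eq_eval_zero]
    simp only [eval_add, eval_sub, eval_mul, eval_C, eval_comp]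
    have hq0 : eval 0 q = s := by rw [hq]; simp
    rw [hq0, ← coeff_zero_eq_eval_zero, ← he0]
    have hk : C (e0 - 1) * (E - C e0) = 0 := by
      ext n
      rw [coeff_C_mul, coeff_sub, coeff_zero]
      cases n with
      | zero => rw [coeff_C_zero, ← he0, sub_self, mul_zero]
      | succ n =>
        rw [coeff_C_succ, sub_zero]
        exact kill p hu μ E hE hode n
    have := congrArg (eval s) hk
    simp only [eval_mul, eval_C, eval_sub, eval_zero] at this
    linear_combination this

lemma convB {B : Type*} [CommRing B] (μ s : B) (E : B[X])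
    (h : C (eval s E) * E - C (E.coeff 0 ^ 2) =
      E.comp (C s + X + C μ * C s * X) - C (E.coeff 0)) :
    eval s E * E.coeff 1 = eval s (derivative E) * (1 + μ * s) := by
  have h1 := congrArg (fun P : B[X] ↦ (derivative P).coeff 0) h
  simp only [derivative_sub, derivative_C, sub_zero, derivative_comp,
    derivative_add, derivative_X, derivative_mul, zero_mul, mul_zero, zero_add, add_zero,
    mul_one, zero_add] at h1
  rw [coeff_C_mul, coeff_derivative, coeff_zero_eq_eval_zero (_ * _)] at h1
  simp only [eval_mul, eval_comp, eval_add, eval_C, eval_X, eval_one, mul_zero, add_zero,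
    Nat.cast_zero, zero_add, mul_one] at h1
  linear_combination h1

lemma aeval_eq_comp {A : Type*} [CommRing A] (F : A[X]) (q : A[X][X]) :
    aeval q F = (F.map (C : A →+* A[X])).comp q := by
  rw [comp, eval₂_map, aeval_def]
  rfl

theorem result' (A : Type*) [CommRing A] (p : ℕ) [Fact p.Prime]
    (hu : IsUnit ((Nat.factorial (p - 1) : ℕ) : A)) (μ : A) (F : A[X]) (hF : F.natDegree < p) :
    (Polynomial.aeval (MvPolynomial.X 0 : MvPolynomial (Fin 2) A) F *
          Polynomial.aeval (MvPolynomial.X 1 : MvPolynomial (Fin 2) A) F - MvPolynomial.C (F.coeff 0 ^ 2) =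
        Polynomial.aeval (MvPolynomial.X 0 + MvPolynomial.X 1 +
            MvPolynomial.C μ * MvPolynomial.X 0 * MvPolynomial.X 1 : MvPolynomial (Fin 2) A) F -
          MvPolynomial.C (F.coeff 0)) ↔
      F * Polynomial.C (F.coeff 1) = Polynomial.derivative F * (1 + Polynomial.C μ * Polynomial.X) := by
  set E : A[X][X] := F.map (C : A →+* A[X]) with hE
  have hEs : eval (X : A[X]) E = F := by rw [hE, eval_map, eval₂_C_X]
  have hEc : ∀ n, E.coeff n = C (F.coeff n) := fun n ↦ by rw [hE, coeff_map]
  have hEd : derivative E = (derivative F).map (C : A →+* A[X]) := by rw [hE, derivative_map]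
  have hEds : eval (X : A[X]) (derivative E) = derivative F := by rw [hEd, eval_map, eval₂_C_X]
  have hEdeg : E.natDegree < p := lt_of_le_of_lt natDegree_map_le hF
  have huB : IsUnit ((Nat.factorial (p - 1) : ℕ) : A[X]) := by
    have := hu.map (C : A →+* A[X])
    rwa [map_natCast] at this
  -- the functional equation over `A[X][X]`
  have hFE : (C (eval (X : A[X]) E) * E - C (E.coeff 0 ^ 2) =
      E.comp (C (X : A[X]) + X + C (C μ) * C (X : A[X]) * X) - C (E.coeff 0)) ↔
      (aeval (C (X : A[X]) : A[X][X]) F * aeval (X : A[X][X]) F - C (C (F.coeff 0 ^ 2)) =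
        aeval (C (X : A[X]) + X + C (C μ) * C (X : A[X]) * X : A[X][X]) F - C (C (F.coeff 0))) := by
    rw [aeval_eq_comp, aeval_eq_comp, aeval_eq_comp, ← hE, comp_C, comp_X, hEc 0, ← C_pow]
  -- the two comparison maps
  let Θ : MvPolynomial (Fin 2) A →ₐ[A] A[X][X] :=
    MvPolynomial.aeval ![C (X : A[X]), (X : A[X][X])]
  let φ₀ : A[X] →ₐ[A] MvPolynomial (Fin 2) A := aeval (MvPolynomial.X 0)
  let Ξ : A[X][X] →ₐ[A] MvPolynomial (Fin 2) A :=
    aevalTower φ₀ (MvPolynomial.X 1)
  constructor
  · intro h
    have h1 := congrArg Θ h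
    simp only [map_sub, map_mul, map_add, ← aeval_algHom_apply] at h1
    have e0 : Θ (MvPolynomial.X 0) = C (X : A[X]) := by simp [Θ]
    have e1 : Θ (MvPolynomial.X 1) = (X : A[X][X]) := by simp [Θ]
    have eC : ∀ a : A, Θ (MvPolynomial.C a) = C (C a) := fun a ↦ by
      simp [Θ]
    rw [e0, e1, eC, eC, eC] at h1
    have h2 := convB (C μ) (X : A[X]) E (hFE.mpr h1)
    rw [hEs, hEds, hEc 1] at h2
    exact h2
  · intro h
    have hode : E * C (E.coeff 1) = derivative E * (1 + C (C μ) * X) := by
      have := congrArg (Polynomial.map (C : A →+* A[X])) h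
      simp only [Polynomial.map_mul, Polynomial.map_add, Polynomial.map_one, map_C, map_X] at this
      rw [hEc 1, hEd]
      exact this
    have h1 := hFE.mp (mainB p huB (C μ) (X : A[X]) E hEdeg hode)
    have h2 := congrArg Ξ h1
    simp only [map_sub, map_mul, map_add, ← aeval_algHom_apply] at h2
    have e0 : Ξ (C (X : A[X])) = MvPolynomial.X 0 := by simp [Ξ, φ₀]
    have e1 : Ξ (X : A[X][X]) = MvPolynomial.X 1 := by simp [Ξ]
    have eC : ∀ a : A, Ξ (C (C a)) = MvPolynomial.C a := fun a ↦ by
      simp [Ξ, φ₀]
    rw [e0, e1, eC, eC, eC] at h2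
    exact h2

end helpers

/-- Let p be a prime number, A a commutative ring in which (p−1)! is invertible, μ an element of A, and
F ∈ A[X] a polynomial of degree at most p − 1 with coefficients a_0, a_1, …. Then the identity
F(S)·F(T) − a_0² = F(S + T + μST) − a_0 holds in the polynomial ring A[S, T] if and only if a_1·F(S)
= F′(S)·(1 + μS) holds in A[S], F′ the formal derivative. (The published statement is over the
quotient of a discrete valuation ring of residue characteristic p by a nonzero element of its
maximal ideal; only the invertibility of 1, …, p − 1 is used, so an arbitrary such ring A is allowed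
here.) -/
theorem result (A : Type u) [CommRing A] (p : ℕ) [Fact p.Prime]
    (hu : IsUnit ((Nat.factorial (p - 1) : ℕ) : A)) (μ : A) (F : A[X]) (hF : F.natDegree < p) :
    (Polynomial.aeval (MvPolynomial.X 0 : MvPolynomial (Fin 2) A) F *
          Polynomial.aeval (MvPolynomial.X 1 : MvPolynomial (Fin 2) A) F - MvPolynomial.C (F.coeff 0 ^ 2) =
        Polynomial.aeval (MvPolynomial.X 0 + MvPolynomial.X 1 +
            MvPolynomial.C μ * MvPolynomial.X 0 * MvPolynomial.X 1 : MvPolynomial (Fin 2) A) F -
          MvPolynomial.C (F.coeff 0)) ↔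
      F * Polynomial.C (F.coeff 1) = Polynomial.derivative F * (1 + Polynomial.C μ * Polynomial.X) := by
  exact result' A p hu μ F hF

end Groth.Agent.S13156
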