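import Groth.Statements.S13157
import Mathlib.Tactic.LinearCombination
import Mathlib.Tactic.Ring
import Mathlib.Algebra.BigOperators.Intervals

set_option autoImplicit false
universe u
open scoped Polynomial
open CAlg

namespace Groth.Agent.S13157

open Polynomial in
lemma key {A : Type*} [CommRing A] (μ : A) (F : A[X]) :
    F * Polynomial.C (F.coeff 1) = Polynomial.derivative F * (1 + Polynomial.C μ * Polynomial.X) ↔
      ∀ n : ℕ, ((n : A) + 1) * F.coeff (n + 1) = F.coeff n * (F.coeff 1 - n * μ) := by
  rw [Polynomial.ext_iff]
  have e : derivative F * (1 + C μ * X) = derivative F + C μ * (derivative F * X) := by ring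
  refine forall_congr' fun n ↦ ?_
  rw [e, coeff_mul_C, coeff_add, coeff_C_mul]
  cases n with
  | zero =>
    rw [coeff_mul_X_zero, coeff_derivative]
    simp only [Nat.cast_zero, zero_add, mul_zero, add_zero, zero_mul, sub_zero, mul_one, one_mul]
    constructor <;> intro h <;> linear_combination (-1 : A) * h
  | succ m =>
    rw [coeff_mul_X, coeff_derivative, coeff_derivative]
    push_cast
    constructor <;> intro h <;> linear_combination (-1 : A) * h

/-- (i) ⇔ (ii): let p be a prime number, A a commutative ring in which (p−1)! is invertible, μ ∈ A, and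
F ∈ A[X] a polynomial of degree at most p − 1 with constant term a_0 = 1 and coefficients a_1, a_2,
…. Then the relations a_{r−1}·a_1 = (r − 1)μ·a_{r−1} + r·a_r for 1 ≤ r ≤ p (with a_p = 0), written
here as the single identity a_1·F = F′·(1 + μX), hold if and only if r!·a_r = ∏_{k=0}^{r−1} (a_1 −
kμ) for every 1 ≤ r ≤ p − 1 and ∏_{k=0}^{p−1} (a_1 − kμ) = 0. (The published statement lists the
relations only for 1 ≤ r ≤ p − 1, while its proof uses and derives the relation for r = p as well,
which is needed for the vanishing of the last product; it is included here. The published setting is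
the quotient of a discrete valuation ring of residue characteristic p by a nonzero non-unit; only
the invertibility of 1, …, p − 1 is used.) -/
theorem result (A : Type u) [CommRing A] (p : ℕ) [Fact p.Prime]
    (hu : IsUnit ((Nat.factorial (p - 1) : ℕ) : A)) (μ : A) (F : A[X]) (hF : F.natDegree < p)
    (h0 : F.coeff 0 = 1) :
    F * Polynomial.C (F.coeff 1) = Polynomial.derivative F * (1 + Polynomial.C μ * Polynomial.X) ↔
      ((∀ r : ℕ, 1 ≤ r → r < p →
          (r.factorial : A) * F.coeff r = ∏ k ∈ Finset.range r, (F.coeff 1 - (k : A) * μ)) ∧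
        ∏ k ∈ Finset.range p, (F.coeff 1 - (k : A) * μ) = 0) := by
  rw [key]
  have hp : p.Prime := Fact.out
  have hdeg : ∀ n, p ≤ n → F.coeff n = 0 := fun n hn ↦
    Polynomial.coeff_eq_zero_of_natDegree_lt (lt_of_lt_of_le hF hn)
  constructor
  · intro h
    have hall : ∀ r : ℕ, (r.factorial : A) * F.coeff r =
        ∏ k ∈ Finset.range r, (F.coeff 1 - (k : A) * μ) := by
      intro r
      induction r with
      | zero => simp [h0]
      | succ r ih =>
        rw [Finset.prod_range_succ, ← ih, Nat.factorial_succ]
        push_cast
        linear_combination (r.factorial : A) * h r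
    refine ⟨fun r _ _ ↦ hall r, ?_⟩
    rw [← hall p, hdeg p le_rfl, mul_zero]
  · rintro ⟨H1, H2⟩ n
    have hunit : ∀ n, n < p → IsUnit ((n.factorial : ℕ) : A) := by
      intro n hn
      have hdvd : n.factorial ∣ (p - 1).factorial := Nat.factorial_dvd_factorial (by omega)
      exact isUnit_of_dvd_unit (Nat.cast_dvd_cast (α := A) hdvd) hu
    have H1' : ∀ r, r < p → (r.factorial : A) * F.coeff r =
        ∏ k ∈ Finset.range r, (F.coeff 1 - (k : A) * μ) := by
      intro r hr
      rcases Nat.eq_zero_or_pos r with rfl | hr0
      · simp [h0]
      · exact H1 r hr0 hr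
    rcases lt_trichotomy (n + 1) p with hlt | heq | hgt
    · have hn : n < p := by omega
      apply (hunit n hn).mul_left_cancel
      have e1 := H1' (n + 1) hlt
      rw [Finset.prod_range_succ, ← H1' n hn, Nat.factorial_succ] at e1
      push_cast at e1
      linear_combination e1
    · have hn : n < p := by omega
      apply (hunit n hn).mul_left_cancel
      rw [hdeg (n + 1) heq.ge, mul_zero, mul_zero]
      have e1 := H2
      rw [← heq, Finset.prod_range_succ, ← H1' n hn] at e1
      linear_combination (-1 : A) * e1
    · rw [hdeg (n + 1) hgt.le, hdeg n (by omega), mul_zero, zero_mul]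

end Groth.Agent.S13157
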