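import Groth.Statements.S13158
import Mathlib.RingTheory.Flat.FaithfullyFlat.Algebra
import Mathlib.RingTheory.IntegralClosure.IntegrallyClosed
import Mathlib.Algebra.CharP.Lemmas
import Mathlib.Data.Nat.Choose.Dvd
import Mathlib.RingTheory.Polynomial.Content
-- import your own Groth.Agent.* helpers here

set_option autoImplicit false
universe u
open CAlg

namespace Groth.Agent.S13158

open Polynomial

/-- one step, easy direction -/
lemma step_up {A : Type*} [CommRing A] (p : ℕ) (hp : p.Prime) (μ y : A)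
    (hμ : μ ^ (p - 1) ∣ (p : A)) (h : μ ∣ y - 1) : μ ^ p ∣ y ^ p - 1 := by
  obtain ⟨t, ht⟩ := h
  obtain ⟨q, hq⟩ := hμ
  have h1 : μ ^ p ∣ (y - 1) ^ p := by rw [ht, mul_pow]; exact dvd_mul_right _ _
  have h2 : μ ^ p ∣ (p : A) * (y - 1) := by
    rw [ht, hq]
    refine ⟨q * t, ?_⟩
    have : μ ^ p = μ ^ (p - 1) * μ := by
      rw [← pow_succ, Nat.sub_add_cancel hp.one_le]
    rw [this]; ring
  have := hp.dvd_add_pow_sub_pow_of_dvd (x := y - 1) (y := 1) h1 h2
  simpa using this

lemma coeff_F {A : Type*} [CommRing A] (p : ℕ) (μ c : A) (i : ℕ) :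
    (((X + C (1 : A)) ^ p).comp (C μ * X) - C c).coeff i =
      (p.choose i : A) * μ ^ i - (if i = 0 then c else 0) := by
  rw [coeff_sub, comp_C_mul_X_coeff, coeff_X_add_C_pow, one_pow, one_mul, coeff_C]

/-- one step, hard direction (uses integral closedness) -/
lemma step_down {A : Type*} [CommRing A] [IsDomain A] [IsIntegrallyClosed A] (p : ℕ)
    (hp : p.Prime) (μ y : A) (hμ0 : μ ≠ 0)
    (hμ : μ ^ (p - 1) ∣ (p : A)) (h : μ ^ p ∣ y ^ p - 1) : μ ∣ y - 1 := by
  set F : A[X] := ((X + C (1 : A)) ^ p).comp (C μ * X) - C (y ^ p) with hF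
  have hdiv : C (μ ^ p) ∣ F := by
    rw [C_dvd_iff_dvd_coeff]
    intro i
    rw [hF, coeff_F]
    rcases Nat.eq_zero_or_pos i with rfl | hi
    · simp only [Nat.choose_zero_right, Nat.cast_one, pow_zero, mul_one, if_true]
      rw [← neg_sub]
      exact (dvd_neg).2 h
    · rw [if_neg hi.ne', sub_zero]
      rcases lt_trichotomy i p with hlt | rfl | hgt
      · obtain ⟨q, hq⟩ := hμ
        obtain ⟨m, hm⟩ := hp.dvd_choose_self hi.ne' hlt
        rw [hm, Nat.cast_mul, hq]
        refine ⟨q * m * μ ^ (i - 1), ?_⟩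
        have e1 : μ ^ p = μ ^ (p - 1) * μ := by
          rw [← pow_succ, Nat.sub_add_cancel hp.one_le]
        have e2 : μ ^ i = μ ^ (i - 1) * μ := by
          rw [← pow_succ, Nat.sub_add_cancel hi]
        rw [e1, e2]; ring
      · simp
      · simp [Nat.choose_eq_zero_of_lt hgt]
  obtain ⟨P, hP⟩ := hdiv
  have hμp : μ ^ p ≠ 0 := pow_ne_zero _ hμ0
  have hPcoeff : ∀ i, μ ^ p * P.coeff i = (p.choose i : A) * μ ^ i - (if i = 0 then y ^ p else 0) := by
    intro i
    rw [← coeff_C_mul, ← hP, hF, coeff_F]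
  have hmonic : P.Monic := by
    apply monic_of_natDegree_le_of_coeff_eq_one p
    · rw [natDegree_le_iff_coeff_eq_zero]
      intro N hN
      have := hPcoeff N
      rw [Nat.choose_eq_zero_of_lt hN, if_neg (by omega)] at this
      simpa [hμp] using this
    · have := hPcoeff p
      rw [if_neg hp.ne_zero, Nat.choose_self] at this
      simp only [Nat.cast_one, one_mul, sub_zero] at this
      exact mul_left_cancel₀ hμp (by rw [this, mul_one])
  let K := FractionRing A
  set t : K := algebraMap A K (y - 1) / algebraMap A K μ with ht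
  have hμK : algebraMap A K μ ≠ 0 := by
    rwa [Ne, IsFractionRing.to_map_eq_zero_iff]
  have hμt : algebraMap A K μ * t = algebraMap A K (y - 1) := by
    rw [ht, mul_div_cancel₀ _ hμK]
  have hFt : aeval t F = 0 := by
    rw [hF]
    simp only [map_sub, aeval_comp, map_pow, map_add, aeval_X, aeval_C, map_mul, map_one]
    rw [hμt]
    simp
  have hPt : aeval t P = 0 := by
    rw [hP, map_mul, aeval_C] at hFt
    rcases mul_eq_zero.1 hFt with h0 | h0
    · exfalso
      rw [map_pow] at h0
      exact pow_ne_zero _ hμK h0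
    · exact h0
  have hint : IsIntegral A t := ⟨P, hmonic, hPt⟩
  obtain ⟨a, ha⟩ := IsIntegrallyClosed.isIntegral_iff.1 hint
  refine ⟨a, ?_⟩
  apply IsFractionRing.injective A K
  rw [← hμt, map_mul, ha]


/-- Let R be a discrete valuation ring of characteristic zero whose maximal ideal contains the prime
number p, let n ≥ 1, and let λ be a nonzero element of R such that λ^(p^(n−1)(p−1)) divides p (the
condition v(p) ≥ p^(n−1)(p−1)·v(λ) under which the polynomial ((1 + λT)^(p^n) − 1)/λ^(p^n) has
coefficients in R). Let A be an integrally closed integral domain which is a faithfully flat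
R-algebra. Then for every unit x of A, λ^(p^n) divides x^(p^n) − 1 in A if and only if λ divides x −
1 in A. -/
theorem result (R : Type u) [CommRing R]
    [IsDomain R] [IsDiscreteValuationRing R] [CharZero R] (p n : ℕ) [Fact p.Prime] (hn : 1 ≤ n)
    (hp : (p : R) ∈ IsLocalRing.maximalIdeal R) (lam : R) (hlam : lam ≠ 0)
    (hstar : lam ^ (p ^ (n - 1) * (p - 1)) ∣ (p : R))
    (A : Type u) [CommRing A] [IsDomain A] [IsIntegrallyClosed A] [Algebra R A] [Module.FaithfullyFlat R A]
    (x : Aˣ) :
    (algebraMap R A lam ^ p ^ n ∣ (x : A) ^ p ^ n - 1) ↔ (algebraMap R A lam ∣ (x : A) - 1) := by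
  have hp' : p.Prime := Fact.out
  set l : A := algebraMap R A lam with hl
  have hl0 : l ≠ 0 := by
    rw [hl, Ne, FaithfulSMul.algebraMap_eq_zero_iff]
    exact hlam
  have hstarA : l ^ (p ^ (n - 1) * (p - 1)) ∣ (p : A) := by
    have := map_dvd (algebraMap R A) hstar
    simpa [hl] using this
  have hq : ∀ i, i < n → (l ^ p ^ i) ^ (p - 1) ∣ (p : A) := by
    intro i hi
    refine dvd_trans ?_ hstarA
    rw [← pow_mul]
    apply pow_dvd_pow
    exact Nat.mul_le_mul_right _ (Nat.pow_le_pow_right hp'.pos (by omega))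
  have key : ∀ i, i ≤ n → ((l ^ p ^ i ∣ (x : A) ^ p ^ i - 1) ↔ (l ∣ (x : A) - 1)) := by
    intro i
    induction i with
    | zero => intro _; simp
    | succ i ih =>
      intro hi
      rw [← ih (by omega), pow_succ, pow_mul, pow_mul]
      constructor
      · exact step_down p hp' _ _ (pow_ne_zero _ hl0) (hq i (by omega))
      · exact step_up p hp' _ _ (hq i (by omega))
  exact key n le_rfl

end Groth.Agent.S13158
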