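import Groth.Statements.S13159
import Mathlib.RingTheory.IntegralClosure.IntegrallyClosed
import Mathlib.RingTheory.IntegralClosure.IsIntegralClosure.Basic
import Mathlib.RingTheory.DedekindDomain.Basic
import Mathlib.RingTheory.DedekindDomain.Dvr

set_option autoImplicit false
universe u
open CAlg

namespace Groth.Agent.S13159

/-- Let R be a discrete valuation ring with fraction field K, C an R-algebra which is finitely generated
as an R-module (the coordinate ring of a finite R-scheme G), and A an integral domain which is an
R-algebra with injective structure map and fraction field L, K → L being compatible, such that every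
element of L algebraic over K lies in the image of K (the condition satisfied by the rings of
nonempty opens of an R-scheme with geometrically integral fibres). Then every R-algebra homomorphism
C → A factors uniquely through the structure map R → A: the points of G with values in A are the
R-points of G. (The published statement is that for Y → Spec R with geometrically integral fibres
and G finite flat, the map H¹(Y, G) → H⁰(Y_Zar, R¹f_*G) from the Leray spectral sequence of Y_fl →
Y_Zar is bijective; this row is the step asserting that G restricted to the Zariski site of Y is the
constant sheaf G(R), for an affine open with function ring A.) -/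
theorem result (R : Type u) [CommRing R]
    [IsDomain R] [IsDiscreteValuationRing R] (K : Type u) [Field K] [Algebra R K] [IsFractionRing R K]
    (C : Type u) [CommRing C] [Algebra R C] [Module.Finite R C]
    (A : Type u) [CommRing A] [IsDomain A] [Algebra R A] (hinj : Function.Injective (algebraMap R A))
    (L : Type u) [Field L] [Algebra A L] [IsFractionRing A L] [Algebra R L] [Algebra K L]
    [IsScalarTower R A L] [IsScalarTower R K L]
    (hac : ∀ x : L, IsAlgebraic K x → x ∈ (algebraMap K L).range)
    (φ : C →ₐ[R] A) : ∃! ψ : C →ₐ[R] R, φ = (Algebra.ofId R A).comp ψ := by
  have key : ∀ c : C, φ c ∈ (⊥ : Subalgebra R A) := by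
    intro c
    rw [Algebra.mem_bot]
    have hc : IsIntegral R c := Algebra.IsIntegral.isIntegral c
    have h1 : IsIntegral R (algebraMap A L (φ c)) :=
      (hc.map φ).map (IsScalarTower.toAlgHom R A L)
    have h2 : IsAlgebraic K (algebraMap A L (φ c)) := (h1.tower_top (A := K)).isAlgebraic
    obtain ⟨y, hy⟩ := hac _ h2
    have h3 : IsIntegral R y := by
      rw [← hy] at h1
      exact (isIntegral_algebraMap_iff (algebraMap K L).injective).mp h1
    obtain ⟨r, hr⟩ := IsIntegrallyClosed.isIntegral_iff.mp h3
    refine ⟨r, ?_⟩
    apply IsFractionRing.injective A L
    rw [← IsScalarTower.algebraMap_apply, IsScalarTower.algebraMap_apply R K L, hr, hy]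
  let e := Algebra.botEquivOfInjective hinj
  have he : ∀ x : (⊥ : Subalgebra R A), algebraMap R A (e x) = x.1 := by
    intro x
    have : e.symm (e x) = x := e.symm_apply_apply x
    exact congrArg Subtype.val this
  refine ⟨e.toAlgHom.comp (φ.codRestrict ⊥ key), ?_, ?_⟩
  · ext c
    exact (he ⟨φ c, key c⟩).symm
  · intro ψ' hψ'
    ext c
    apply hinj
    have h1 : algebraMap R A (ψ' c) = φ c := by rw [hψ']; rfl
    rw [h1]
    exact (he ⟨φ c, key c⟩).symm

end Groth.Agent.S13159
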