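import Groth.Statements.S13160
import Mathlib.RingTheory.MvPolynomial.Ideal
import Mathlib.RingTheory.WittVector.Frobenius
import Mathlib.RingTheory.Valuation.ValuationRing
import Mathlib.RingTheory.DiscreteValuationRing.Basic
-- import your own Groth.Agent.* helpers here

set_option autoImplicit false
universe u
open CAlg

namespace Groth.Agent.S13160

open MvPolynomial

lemma mem_idealOfVars_of_constantCoeff {σ : Type*} (f : MvPolynomial σ ℤ)
    (hf : constantCoeff f = 0) : f ∈ idealOfVars σ ℤ := by
  have := (mem_pow_idealOfVars_iff' 1 f).2 (by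
    intro x hx
    have hx0 : x = 0 := by
      have : x.degree = 0 := by omega
      exact (Finsupp.degree_eq_zero_iff x).1 this
    subst hx0
    simpa [constantCoeff_eq] using hf)
  simpa using this

lemma wittAdd_sub_mem (p : ℕ) [hp : Fact p.Prime] (n : ℕ) :
    WittVector.wittAdd p n - X (0, n) - X (1, n) ∈ (idealOfVars (Fin 2 × ℕ) ℤ) ^ p := by
  have h := wittStructureInt_prop p (X (0 : Fin 2) + X 1) n
  rw [wittPolynomial_eq_sum_C_mul_X_pow] at h
  simp only [map_add, bind₁_X_right, map_sum, map_mul, map_pow, rename_X, rename_C, bind₁_C_right]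
    at h
  change ∑ x ∈ Finset.range (n + 1), C (p : ℤ) ^ x * WittVector.wittAdd p x ^ p ^ (n - x) = _ at h
  rw [Finset.sum_range_succ, Finset.sum_range_succ, Finset.sum_range_succ] at h
  simp only [Nat.sub_self, pow_zero, pow_one] at h
  have key : C (p : ℤ) ^ n * (WittVector.wittAdd p n - X (0, n) - X (1, n)) =
      ∑ x ∈ Finset.range n, C (p : ℤ) ^ x *
        (X (0, x) ^ p ^ (n - x) + X (1, x) ^ p ^ (n - x) - WittVector.wittAdd p x ^ p ^ (n - x)) := by
    simp only [mul_sub, mul_add, Finset.sum_sub_distrib, Finset.sum_add_distrib]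
    linear_combination h
  have hmem : C (p : ℤ) ^ n * (WittVector.wittAdd p n - X (0, n) - X (1, n)) ∈
      (idealOfVars (Fin 2 × ℕ) ℤ) ^ p := by
    rw [key]
    refine Ideal.sum_mem _ fun i hi => Ideal.mul_mem_left _ _ ?_
    have hi' : i < n := Finset.mem_range.1 hi
    have hle : p ≤ p ^ (n - i) := by
      calc p = p ^ 1 := (pow_one p).symm
        _ ≤ p ^ (n - i) := Nat.pow_le_pow_right hp.out.pos (by omega)
    have hX : ∀ v : Fin 2 × ℕ, (X v : MvPolynomial (Fin 2 × ℕ) ℤ) ^ p ^ (n - i) ∈
        (idealOfVars (Fin 2 × ℕ) ℤ) ^ p :=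
      fun v => Ideal.pow_le_pow_right hle (Ideal.pow_mem_pow (Ideal.subset_span (Set.mem_range_self v)) _)
    refine Ideal.sub_mem _ (Ideal.add_mem _ (hX _) (hX _)) ?_
    exact Ideal.pow_le_pow_right hle (Ideal.pow_mem_pow
      (mem_idealOfVars_of_constantCoeff _ (WittVector.constantCoeff_wittAdd p i)) _)
  rw [mem_pow_idealOfVars_iff'] at hmem ⊢
  intro x hx
  have := hmem x hx
  rw [← map_pow, coeff_C_mul] at this
  exact (mul_eq_zero.1 this).resolve_left (pow_ne_zero _ (by exact_mod_cast hp.out.ne_zero))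


lemma exists_dvd_all {R : Type*} [CommRing R] [IsDomain R] [ValuationRing R] {ι : Type*}
    (w : ι → R) (s : Finset ι) (hs : s.Nonempty) : ∃ v₀ ∈ s, ∀ v ∈ s, w v₀ ∣ w v := by
  classical
  induction hs using Finset.Nonempty.cons_induction with
  | singleton a => exact ⟨a, Finset.mem_singleton_self a, fun v hv => by
      rw [Finset.mem_singleton.1 hv]⟩
  | cons a s ha hs ih =>
    obtain ⟨v₀, hv₀, h⟩ := ih
    rcases ValuationRing.dvd_total (w a) (w v₀) with h1 | h1
    · refine ⟨a, Finset.mem_cons_self a s, fun v hv => ?_⟩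
      rcases Finset.mem_cons.1 hv with rfl | hv
      · exact dvd_rfl
      · exact h1.trans (h v hv)
    · refine ⟨v₀, Finset.mem_cons.2 (Or.inr hv₀), fun v hv => ?_⟩
      rcases Finset.mem_cons.1 hv with rfl | hv
      · exact h1
      · exact h v hv

lemma prod_eq_zero_chain {R : Type*} [CommRing R] [IsDomain R] [ValuationRing R] (lam : R)
    (p : ℕ) (hp : 0 < p) {ι : Type*} (u : ι → R ⧸ Ideal.span {lam}) (hu : ∀ v, u v ^ p = 0)
    (x : ι →₀ ℕ) (hx : p ≤ x.degree) : x.prod (fun v k => u v ^ k) = 0 := by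
  classical
  choose w hw using fun v => Ideal.Quotient.mk_surjective (u v)
  have hlam : ∀ v, lam ∣ w v ^ p := by
    intro v
    have : Ideal.Quotient.mk (Ideal.span {lam}) (w v ^ p) = 0 := by rw [map_pow, hw, hu]
    exact Ideal.mem_span_singleton.1 (Ideal.Quotient.eq_zero_iff_mem.1 this)
  have hne : x.support.Nonempty := by
    rw [Finset.nonempty_iff_ne_empty, Ne, Finsupp.support_eq_empty]
    rintro rfl
    simp at hx
    omega
  obtain ⟨v₀, hv₀, h⟩ := exists_dvd_all w x.support hne
  have hdvd : lam ∣ x.prod (fun v k => w v ^ k) := by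
    refine (hlam v₀).trans ?_
    refine (pow_dvd_pow (w v₀) hx).trans ?_
    rw [Finsupp.degree_apply, ← Finset.prod_pow_eq_pow_sum]
    exact Finset.prod_dvd_prod_of_dvd _ _ fun v hv => pow_dvd_pow_of_dvd (h v hv) _
  have : x.prod (fun v k => u v ^ k) =
      Ideal.Quotient.mk (Ideal.span {lam}) (x.prod (fun v k => w v ^ k)) := by
    rw [map_finsuppProd]
    simp only [map_pow, hw]
  rw [this]
  exact Ideal.Quotient.eq_zero_iff_mem.2 (Ideal.mem_span_singleton.2 hdvd)

lemma aeval_eq_zero_of_mem {R : Type*} [CommRing R] [IsDomain R] [ValuationRing R] (lam : R)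
    (p : ℕ) (hp : 0 < p) {ι : Type*} (u : ι → R ⧸ Ideal.span {lam}) (hu : ∀ v, u v ^ p = 0)
    (f : MvPolynomial ι ℤ) (hf : f ∈ (idealOfVars ι ℤ) ^ p) : aeval u f = 0 := by
  rw [mem_pow_idealOfVars_iff] at hf
  rw [f.as_sum, map_sum]
  refine Finset.sum_eq_zero fun x hx => ?_
  rw [aeval_monomial, prod_eq_zero_chain lam p hp u hu x (hf x hx), mul_zero]


/-- Let R be a discrete valuation ring, p a prime number and λ an element of R dividing p (so that R/λR
is an 𝔽_p-algebra), and let a and b be p-typical Witt vectors with coefficients in R/λR which are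
killed by the Frobenius endomorphism. Then the Witt sum a + b has components a_n + b_n for every n.
(The published statement allows an arbitrary λ ∈ R and is stated for Witt vectors with finitely many
nonzero components; this row assumes that λ divides p, so that p = 0 in R/λR, and allows all Witt
vectors.) -/
theorem result (R : Type u) [CommRing R] [IsDomain R]
    [IsDiscreteValuationRing R] (p : ℕ) [Fact p.Prime] (lam : R) (hlam : lam ∣ (p : R))
    (a b : WittVector p (R ⧸ Ideal.span {lam})) (ha : WittVector.frobenius a = 0)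
    (hb : WittVector.frobenius b = 0) (n : ℕ) : (a + b).coeff n = a.coeff n + b.coeff n := by
  rcases subsingleton_or_nontrivial (R ⧸ Ideal.span {lam}) with hsub | hnt
  · exact Subsingleton.elim _ _
  have hp0 : ((p : ℕ) : R ⧸ Ideal.span {lam}) = 0 := by
    have : Ideal.Quotient.mk (Ideal.span {lam}) (p : R) = 0 :=
      Ideal.Quotient.eq_zero_iff_mem.2 (Ideal.mem_span_singleton.2 hlam)
    simpa using this
  have : CharP (R ⧸ Ideal.span {lam}) p := (CharP.charP_iff_prime_eq_zero (Fact.out)).2 hp0
  have ha' : ∀ k, a.coeff k ^ p = 0 := fun k => by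
    rw [← WittVector.coeff_frobenius_charP, ha, WittVector.zero_coeff]
  have hb' : ∀ k, b.coeff k ^ p = 0 := fun k => by
    rw [← WittVector.coeff_frobenius_charP, hb, WittVector.zero_coeff]
  rw [WittVector.add_coeff, WittVector.peval]
  set u : Fin 2 × ℕ → R ⧸ Ideal.span {lam} := Function.uncurry ![a.coeff, b.coeff] with hu
  have hu' : ∀ v, u v ^ p = 0 := by
    rintro ⟨i, k⟩
    fin_cases i
    · exact ha' k
    · exact hb' k
  have h0 := aeval_eq_zero_of_mem lam p (Fact.out : p.Prime).pos u hu' _ (wittAdd_sub_mem p n)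
  rw [map_sub, map_sub, aeval_X, aeval_X] at h0
  have e0 : u (0, n) = a.coeff n := rfl
  have e1 : u (1, n) = b.coeff n := rfl
  rw [e0, e1, sub_sub, sub_eq_zero] at h0
  exact h0

end Groth.Agent.S13160
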