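import Groth.Statements.S13161
import Mathlib.RingTheory.Localization.BaseChange
import Mathlib.Algebra.Module.LocalizedModule.Basic
-- import your own Groth.Agent.* helpers here

set_option autoImplicit false
universe u
open scoped TensorProduct
open CAlg

namespace Groth.Agent.S13161

section helpers
variable (R : Type u) [CommRing R] [IsDomain R] (K : Type u) [Field K] [Algebra R K]
  [IsFractionRing R K] (A : Type u) [CommRing A] [Algebra R A]

/-- the canonical map `A → A ⊗ K` as an `A`-linear map -/
noncomputable def iota : A →ₗ[A] A ⊗[R] K :=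
  (Algebra.TensorProduct.includeLeft : A →ₐ[A] A ⊗[R] K).toLinearMap

lemma iota_apply (a : A) : iota R K A a = a ⊗ₜ[R] (1 : K) := rfl

lemma exists_smul_mem_range (t : A ⊗[R] K) :
    ∃ s : R, s ≠ 0 ∧ s • t ∈ LinearMap.range (iota R K A) := by
  induction t using TensorProduct.induction_on with
  | zero => exact ⟨1, one_ne_zero, by simp⟩
  | tmul a k =>
    obtain ⟨r, s, hs, rfl⟩ := IsFractionRing.div_surjective (A := R) k
    refine ⟨s, nonZeroDivisors.ne_zero hs, ⟨r • a, ?_⟩⟩
    rw [iota_apply, TensorProduct.smul_tmul, ← TensorProduct.tmul_smul]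
    congr 1
    have hs' : algebraMap R K s ≠ 0 := by
      intro h
      exact nonZeroDivisors.ne_zero hs
        ((injective_iff_map_eq_zero (algebraMap R K)).1 (IsFractionRing.injective R K) s h)
    rw [Algebra.smul_def, Algebra.smul_def, mul_one]
    field_simp
  | add x y hx hy =>
    obtain ⟨s1, hs1, h1⟩ := hx
    obtain ⟨s2, hs2, h2⟩ := hy
    refine ⟨s1 * s2, mul_ne_zero hs1 hs2, ?_⟩
    rw [smul_add]
    refine Submodule.add_mem _ ?_ ?_
    · rw [mul_comm, mul_smul]
      obtain ⟨a, ha⟩ := h1
      exact ⟨s2 • a, by rw [← ha]; simp [iota_apply, TensorProduct.smul_tmul']⟩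
    · rw [mul_smul]
      obtain ⟨a, ha⟩ := h2
      exact ⟨s1 • a, by rw [← ha]; simp [iota_apply, TensorProduct.smul_tmul']⟩

lemma smul_ne_zero_of_ne_zero (s : R) (hs : s ≠ 0) (t : A ⊗[R] K) (ht : t ≠ 0) : s • t ≠ 0 := by
  intro h
  apply ht
  have hs' : algebraMap R K s ≠ 0 := by
    intro h
    exact hs ((injective_iff_map_eq_zero (algebraMap R K)).1 (IsFractionRing.injective R K) s h)
  have key : ((1 : A) ⊗ₜ[R] (algebraMap R K s)⁻¹) * (s • t) = t := by
    rw [Algebra.smul_def, ← mul_assoc]
    rw [Algebra.TensorProduct.algebraMap_apply, Algebra.TensorProduct.tmul_mul_tmul, one_mul,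
      mul_one]
    rw [Algebra.algebraMap_eq_smul_one, TensorProduct.smul_tmul, Algebra.smul_def,
      mul_inv_cancel₀ hs', ← Algebra.TensorProduct.one_def, one_mul]
  rw [← key, h, mul_zero]

end helpers

/-- Let R be a discrete valuation ring with fraction field K, A an R-algebra which is semireflexive as
an R-module (the map to its double dual is injective: every nonzero a ∈ A has an R-linear form f : A
→ R with f(a) ≠ 0), and B an A-algebra which is finitely generated as an A-module and flat over R.
Suppose B ⊗ K is semireflexive as a module over A ⊗ K, which for such B amounts to: every nonzero b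
∈ B has an A-linear map g : B → A ⊗_R K with g(b) ≠ 0. Then B is semireflexive as an R-module: every
nonzero b ∈ B has an R-linear form h : B → R with h(b) ≠ 0. (The published statement phrases the
hypothesis on B_K as an A_K-module; for B flat over R and finite over A this is the elementwise
condition used here.) -/
theorem result (R : Type u) [CommRing R] [IsDomain R]
    [IsDiscreteValuationRing R] (K : Type u) [Field K] [Algebra R K] [IsFractionRing R K]
    (A B : Type u) [CommRing A] [CommRing B] [Algebra R A] [Algebra R B] [Algebra A B] [IsScalarTower R A B]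
    [Module.Finite A B] [Module.Flat R B]
    (hA : ∀ a : A, a ≠ 0 → ∃ f : A →ₗ[R] R, f a ≠ 0)
    (hBK : ∀ b : B, b ≠ 0 → ∃ g : B →ₗ[A] A ⊗[R] K, g b ≠ 0) :
    ∀ b : B, b ≠ 0 → ∃ h : B →ₗ[R] R, h b ≠ 0 := by
  classical
  intro b hb
  obtain ⟨g, hg⟩ := hBK b hb
  -- `A` is torsion-free
  have htf : ∀ (s : R) (a : A), s ≠ 0 → s • a = 0 → a = 0 := by
    intro s a hs h
    by_contra ha
    obtain ⟨f, hf⟩ := hA a ha
    apply hf
    have : s • f a = 0 := by rw [← map_smul, h, map_zero]
    exact (smul_eq_zero.1 this).resolve_left hs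
  -- `iota` is injective
  have hinj : Function.Injective (iota R K A) := by
    rw [← LinearMap.ker_eq_bot, LinearMap.ker_eq_bot']
    intro a ha
    have h1 : TensorProduct.mk R K A 1 a = 0 := by
      have : (TensorProduct.comm R A K) (iota R K A a) = 0 := by rw [ha, map_zero]
      simpa [iota_apply] using this
    obtain ⟨s', hs'⟩ := (IsLocalizedModule.eq_zero_iff (nonZeroDivisors R)
      (TensorProduct.mk R K A 1)).1 h1
    exact htf s' a (nonZeroDivisors.ne_zero s'.2) hs'
  -- common denominator
  obtain ⟨S, hS⟩ := (Module.Finite.fg_top : (⊤ : Submodule A B).FG)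
  choose c hc0 hc using fun x : B => exists_smul_mem_range R K A (g x)
  set s : R := ∏ x ∈ S, c x with hs
  have hs0 : s ≠ 0 := Finset.prod_ne_zero_iff.2 fun x _ => hc0 x
  have hall : ∀ x : B, s • g x ∈ LinearMap.range (iota R K A) := by
    have hle : (⊤ : Submodule A B) ≤ (LinearMap.range (iota R K A)).comap (s • g) := by
      rw [← hS, Submodule.span_le]
      intro x hx
      simp only [Submodule.comap_coe, Set.mem_preimage, LinearMap.smul_apply, SetLike.mem_coe]
      rw [hs, ← Finset.mul_prod_erase S c hx, mul_comm, mul_smul]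
      obtain ⟨a, ha⟩ := hc x
      exact ⟨(∏ y ∈ S.erase x, c y) • a, by rw [← ha]; simp [iota_apply, TensorProduct.smul_tmul']⟩
    intro x
    exact hle (Submodule.mem_top (x := x))
  -- the resulting `A`-linear map `B → A`
  let e := LinearEquiv.ofInjective (iota R K A) hinj
  let g' : B →ₗ[A] A := e.symm.toLinearMap.comp ((s • g).codRestrict _ hall)
  have hg' : g' b ≠ 0 := by
    intro h
    have h2 : (s • g).codRestrict _ hall b = 0 := by
      have := congrArg e h
      simpa [g'] using this
    have h3 : s • g b = 0 := by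
      have := congrArg Subtype.val h2
      simpa using this
    exact smul_ne_zero_of_ne_zero R K A s hs0 _ hg h3
  obtain ⟨f, hf⟩ := hA _ hg'
  exact ⟨f.comp (g'.restrictScalars R), by simpa using hf⟩

end Groth.Agent.S13161
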