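import Groth.Statements.S13162
import Mathlib.Data.Nat.Choose.Lucas
import Mathlib.Data.Nat.Factorization.Basic
import Mathlib.RingTheory.Ideal.Quotient.Basic
import Mathlib.Algebra.BigOperators.Ring.Finset

set_option autoImplicit false
universe u v
open ZeroCyc

namespace Groth.Agent.S13162

/-- Let a finite group G act on a commutative ring A by ring automorphisms and let p be a prime such
that every integer prime to p is a unit in A. If I is an ideal of A and f ∈ A has G-invariant class
modulo I, then f^(p^k) is congruent modulo I to a G-invariant element of A, where p^k is the exact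
power of p dividing the order of G. (The published statement assumes I stable under G, so that G
acts on A/I and the claim reads: the p^k-th power of an invariant of A/I lies in the image of the
invariants of A; the form here asks only that the class of f be invariant.) -/
theorem result {A : Type u} [CommRing A] {G : Type v} [Group G] [Fintype G]
    [MulSemiringAction G A] (p : ℕ) [Fact p.Prime]
    (hA : ∀ m : ℕ, ¬ p ∣ m → IsUnit (m : A))
    (I : Ideal A) (f : A) (hf : ∀ g : G, g • f - f ∈ I) :
    ∃ a : A, (∀ g : G, g • a = a) ∧ a - f ^ (p ^ (Fintype.card G).factorization p) ∈ I := by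
  classical
  set N := Fintype.card G with hNdef
  set k := N.factorization p with hk
  set m := N / p ^ k with hmdef
  have hp : p.Prime := Fact.out
  have hN : p ^ k * m = N := Nat.ordProj_mul_ordCompl_eq_self N p
  have hm : ¬ p ∣ m := Nat.not_dvd_ordCompl hp Fintype.card_ne_zero
  set c := N.choose (p ^ k) with hcdef
  have hc : ¬ p ∣ c := by
    have h1 : c ≡ m.choose 1 [MOD p] := by
      have := Choose.choose_pow_mul_pow_mul_modEq_choose_nat (p := p) (k := k) (a := m) (b := 1)
      rwa [mul_one, hN] at this
    rw [Nat.choose_one_right] at h1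
    intro h
    exact hm (Nat.modEq_zero_iff_dvd.mp (h1.symm.trans (Nat.modEq_zero_iff_dvd.mpr h)))
  obtain ⟨u, hu⟩ := hA c hc
  set e : A := ∑ T ∈ Finset.powersetCard (p ^ k) (Finset.univ : Finset G), ∏ g ∈ T, g • f with he
  have he_inv : ∀ h : G, h • e = e := by
    intro h
    rw [he, Finset.smul_sum]
    refine Finset.sum_equiv (Equiv.finsetCongr (Equiv.mulLeft h)) ?_ ?_
    · intro T
      simp only [Finset.mem_powersetCard, Finset.subset_univ, true_and, Equiv.finsetCongr_apply,
        Finset.card_map]
    · intro T _
      rw [Finset.smul_prod', Equiv.finsetCongr_apply, Finset.prod_map]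
      refine Finset.prod_congr rfl fun g _ ↦ ?_
      rw [smul_smul]
      rfl
  have he_mod : e - (c : A) * f ^ (p ^ k) ∈ I := by
    rw [← Ideal.Quotient.eq, he, map_sum, map_mul, map_pow, map_natCast]
    have : ∀ T ∈ Finset.powersetCard (p ^ k) (Finset.univ : Finset G),
        Ideal.Quotient.mk I (∏ g ∈ T, g • f) = (Ideal.Quotient.mk I f) ^ (p ^ k) := by
      intro T hT
      rw [map_prod, ← (Finset.mem_powersetCard.mp hT).2, ← Finset.prod_const]
      refine Finset.prod_congr rfl fun g _ ↦ ?_
      exact Ideal.Quotient.eq.mpr (hf g)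
    rw [Finset.sum_congr rfl this, Finset.sum_const, Finset.card_powersetCard, Finset.card_univ,
      nsmul_eq_mul]
  have hu_inv : ∀ g : G, g • (↑u⁻¹ : A) = ↑u⁻¹ := by
    intro g
    have h1 : g • (↑u : A) = ↑u := by
      rw [hu]
      exact map_natCast (MulSemiringAction.toRingHom G A g) c
    have h2 : g • (↑u⁻¹ : A) * ↑u = 1 := by
      rw [← h1, ← smul_mul', Units.inv_mul, smul_one]
    exact (Units.eq_inv_of_mul_eq_one_left (by rw [mul_comm]; exact h2))
  refine ⟨↑u⁻¹ * e, fun g ↦ ?_, ?_⟩
  · rw [smul_mul', hu_inv, he_inv]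
  · have : ↑u⁻¹ * e - f ^ (p ^ k) = ↑u⁻¹ * (e - (c : A) * f ^ (p ^ k)) := by
      rw [mul_sub, ← mul_assoc, ← hu, Units.inv_mul, one_mul]
    rw [this]
    exact I.mul_mem_left _ he_mod

end Groth.Agent.S13162
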