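import Groth.Statements.S13163
-- import your own Groth.Agent.* helpers here

set_option autoImplicit false
universe u
open ZeroCyc

namespace Groth.Agent.S13163

open Polynomial in
/-- Let P_d(T) = ∏_{0 ≤ i < j ≤ d} (T^i − T^j) − 1 ∈ ℤ[T]. Every residue field of ℤ[T]/(P_d), i.e. every
field receiving a ring homomorphism from it, has at least d + 1 elements. -/
theorem result (d : ℕ) (k : Type u) [Field k]
    (φ : (ℤ[X] ⧸ Ideal.span {(∏ j ∈ Finset.range (d + 1), ∏ i ∈ Finset.range j,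
        ((X : ℤ[X]) ^ i - X ^ j)) - 1}) →+* k) :
    ((d + 1 : ℕ) : Cardinal) ≤ Cardinal.mk k := by
  classical
  set P : ℤ[X] := (∏ j ∈ Finset.range (d + 1), ∏ i ∈ Finset.range j,
        ((X : ℤ[X]) ^ i - X ^ j)) - 1 with hP
  set t : k := φ (Ideal.Quotient.mk _ X) with ht
  have h0 : φ (Ideal.Quotient.mk (Ideal.span {P}) P) = 0 := by
    rw [Ideal.Quotient.eq_zero_iff_mem.mpr (Ideal.mem_span_singleton_self P), map_zero]
  have h1 : ∏ j ∈ Finset.range (d + 1), ∏ i ∈ Finset.range j, (t ^ i - t ^ j) = 1 := by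
    have : φ (Ideal.Quotient.mk (Ideal.span {P}) P) =
        (∏ j ∈ Finset.range (d + 1), ∏ i ∈ Finset.range j, (t ^ i - t ^ j)) - 1 := by
      simp only [hP, map_sub, map_prod, map_pow, map_one, ht]
    rw [this] at h0
    exact sub_eq_zero.mp h0
  have hne : ∀ j ∈ Finset.range (d + 1), ∀ i ∈ Finset.range j, t ^ i - t ^ j ≠ 0 := by
    intro j hj i hi h
    have : ∏ j ∈ Finset.range (d + 1), ∏ i ∈ Finset.range j, (t ^ i - t ^ j) = 0 :=
      Finset.prod_eq_zero hj (Finset.prod_eq_zero hi h)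
    rw [h1] at this
    exact one_ne_zero this
  have hinj : Function.Injective (fun i : Fin (d + 1) ↦ t ^ (i : ℕ)) := by
    intro a b hab
    by_contra hne'
    rcases lt_or_gt_of_ne (fun h ↦ hne' (Fin.ext h) : (a : ℕ) ≠ b) with h | h
    · exact hne b (Finset.mem_range.mpr b.2) a (Finset.mem_range.mpr h) (sub_eq_zero.mpr hab)
    · exact hne a (Finset.mem_range.mpr a.2) b (Finset.mem_range.mpr h) (sub_eq_zero.mpr hab.symm)
  have := Cardinal.lift_mk_le'.mpr ⟨⟨_, hinj⟩⟩
  simpa using this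

end Groth.Agent.S13163
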