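import Groth.Statements.S13166
import Groth.Agent.Lib.Helper25.SubspaceUnion

set_option autoImplicit false
universe u
open ZeroCyc

namespace Groth.Agent.S13166

/-- Let k be a field, B a k-algebra generated as an algebra by a k-subspace V, k'/k a field extension
and x_1, …, x_d pairwise distinct k'-points of B ⊗_k k' (equivalently, distinct k-algebra
homomorphisms B → k'). If k has at least d(d − 1)/2 elements, then there is b ∈ V whose values at
x_1, …, x_d are pairwise distinct. -/
theorem result {k : Type u} [Field k] {B : Type u} [CommRing B] [Algebra k B] (V : Submodule k B)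
    (hV : Algebra.adjoin k (V : Set B) = ⊤) {k' : Type u} [Field k'] [Algebra k k']
    {d : ℕ} (x : Fin d → (B →ₐ[k] k')) (hx : Function.Injective x)
    (hk : ((d.choose 2 : ℕ) : Cardinal) ≤ Cardinal.mk k) :
    ∃ b ∈ V, Function.Injective fun i => x i b := by
  classical
  let p : Finset (Fin d) → Submodule k V := fun t ↦
    { carrier := {b | ∀ i ∈ t, ∀ j ∈ t, x i b = x j b}
      add_mem' := fun {a b} ha hb i hi j hj ↦ by
        simp only [Submodule.coe_add, map_add, ha i hi j hj, hb i hi j hj]
      zero_mem' := fun i _ j _ ↦ by simp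
      smul_mem' := fun c b hb i hi j hj ↦ by
        simp only [Submodule.coe_smul, map_smul, hb i hi j hj] }
  have hp : ∀ t ∈ Finset.powersetCard 2 (Finset.univ : Finset (Fin d)), p t ≠ ⊤ := by
    intro t ht htop
    obtain ⟨i, j, hij, rfl⟩ := Finset.card_eq_two.mp (Finset.mem_powersetCard.mp ht).2
    apply hij
    apply hx
    apply AlgHom.ext_of_adjoin_eq_top hV
    intro b hb
    have : (⟨b, hb⟩ : V) ∈ p {i, j} := by rw [htop]; trivial
    exact this i (by simp) j (by simp)
  obtain ⟨b, hb⟩ := Groth.Agent.Lib.Helper25.exists_forall_notMem_of_card_le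
    (Finset.powersetCard 2 (Finset.univ : Finset (Fin d))) p hp (by
      rw [Finset.card_powersetCard, Finset.card_univ, Fintype.card_fin]
      exact hk)
  refine ⟨b.1, b.2, fun i j hij ↦ ?_⟩
  by_contra hne
  apply hb {i, j} (Finset.mem_powersetCard.mpr ⟨Finset.subset_univ _, Finset.card_pair hne⟩)
  intro a ha c hc
  simp only [Finset.mem_insert, Finset.mem_singleton] at ha hc
  rcases ha with rfl | rfl <;> rcases hc with rfl | rfl
  · rfl
  · exact hij
  · exact hij.symm
  · rfl

end Groth.Agent.S13166
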