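import Groth.Statements.S13167
import Groth.Agent.Lib.Helper25.SubspaceUnion
import Mathlib.RingTheory.LocalRing.ResidueField.Ideal
-- import your own Groth.Agent.* helpers here

set_option autoImplicit false
universe u
open AlgebraicGeometry
open ZeroCyc

namespace Groth.Agent.S13167

open Groth.Agent.Lib.Helper25 in
/-- pure algebra core: avoiding finitely many primes over `p` inside a finitely generated
submodule, when the residue field at `p` has enough elements -/
lemma exists_mem_span_forall_notMem {R A : Type u} [CommRing R] [CommRing A] [Algebra R A]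
    (p : Ideal R) [p.IsPrime] (S : Finset A) {d : ℕ} (P : Fin d → Ideal A) [∀ i, (P i).IsPrime]
    (hP : ∀ i, (P i).comap (algebraMap R A) = p) (hne : ∀ i, ∃ j ∈ S, j ∉ P i)
    (hcard : (d : Cardinal) ≤ Cardinal.mk p.ResidueField) :
    ∃ g ∈ Submodule.span R (S : Set A), ∀ i, g ∉ P i := by
  classical
  let ρ : ∀ i, p.ResidueField →+* (P i).ResidueField := fun i =>
    Ideal.ResidueField.map p (P i) (algebraMap R A) (hP i).symm
  let φ : ∀ i, (S → p.ResidueField) → (P i).ResidueField := fun i c =>
    ∑ j : S, ρ i (c j) * algebraMap A (P i).ResidueField (j : A)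
  let W : Fin d → Submodule p.ResidueField (S → p.ResidueField) := fun i =>
    { carrier := {c | φ i c = 0}
      add_mem' := by
        intro a b ha hb
        simp only [Set.mem_setOf_eq, φ] at ha hb ⊢
        simp only [Pi.add_apply, map_add, add_mul, Finset.sum_add_distrib, ha, hb, add_zero]
      zero_mem' := by
        simp [φ]
      smul_mem' := by
        intro k a ha
        simp only [Set.mem_setOf_eq, φ] at ha ⊢
        simp only [Pi.smul_apply, smul_eq_mul, map_mul, mul_assoc, ← Finset.mul_sum, ha,
          mul_zero] }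
  have hW : ∀ i ∈ (Finset.univ : Finset (Fin d)), W i ≠ ⊤ := by
    intro i _ htop
    obtain ⟨j, hjS, hj⟩ := hne i
    have hmem : (Pi.single (⟨j, hjS⟩ : S) (1 : p.ResidueField)) ∈ W i := by
      rw [htop]; trivial
    have h0 : φ i (Pi.single (⟨j, hjS⟩ : S) (1 : p.ResidueField)) = 0 := hmem
    simp only [φ] at h0
    rw [Finset.sum_eq_single (⟨j, hjS⟩ : S)] at h0
    · simp only [Pi.single_eq_same, map_one, one_mul] at h0
      exact hj (Ideal.algebraMap_residueField_eq_zero.1 h0)
    · intro b _ hb
      simp [Pi.single_eq_of_ne hb]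
    · intro h
      exact absurd (Finset.mem_univ _) h
  obtain ⟨c, hc⟩ := exists_forall_notMem_of_card_le Finset.univ W hW (by simpa using hcard)
  -- clear denominators
  obtain ⟨b, hb⟩ := IsLocalization.exist_integer_multiples (nonZeroDivisors (R ⧸ p))
    (Finset.univ : Finset S) c
  obtain ⟨s, hs⟩ := Ideal.Quotient.mk_surjective (b : R ⧸ p)
  have hsp : s ∉ p := by
    intro h
    have : (b : R ⧸ p) = 0 := by rw [← hs]; exact Ideal.Quotient.eq_zero_iff_mem.2 h
    exact nonZeroDivisors.ne_zero b.2 this
  have hr : ∀ j : S, ∃ r : R, algebraMap R p.ResidueField r =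
      algebraMap R p.ResidueField s * c j := by
    intro j
    obtain ⟨a, ha⟩ := hb j (Finset.mem_univ j)
    obtain ⟨r, rfl⟩ := Ideal.Quotient.mk_surjective a
    refine ⟨r, ?_⟩
    rw [Ideal.algebraMap_quotient_residueField_mk] at ha
    rw [ha, Algebra.smul_def, ← hs, Ideal.algebraMap_quotient_residueField_mk]
  choose r hr using hr
  refine ⟨∑ j : S, r j • (j : A), ?_, ?_⟩
  · exact Submodule.sum_mem _ fun j _ => Submodule.smul_mem _ _ (Submodule.subset_span j.2)
  · intro i hi
    have hsK : algebraMap R p.ResidueField s ≠ 0 := by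
      intro h
      exact hsp (Ideal.algebraMap_residueField_eq_zero.1 h)
    have h1 : algebraMap A (P i).ResidueField (∑ j : S, r j • (j : A)) =
        ρ i (algebraMap R p.ResidueField s) * φ i c := by
      simp only [φ, map_sum, Finset.mul_sum]
      refine Finset.sum_congr rfl fun j _ => ?_
      rw [Algebra.smul_def, map_mul (algebraMap A (P i).ResidueField), ← mul_assoc,
        ← map_mul (ρ i), ← hr j]
      congr 1
      exact (Ideal.ResidueField.map_algebraMap p (P i) (algebraMap R A) (hP i).symm (r j)).symm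
    have h2 : algebraMap A (P i).ResidueField (∑ j : S, r j • (j : A)) = 0 :=
      Ideal.algebraMap_residueField_eq_zero.2 hi
    rw [h1] at h2
    rcases mul_eq_zero.1 h2 with h3 | h3
    · exact hsK ((map_eq_zero (ρ i)).1 h3)
    · exact hc i (Finset.mem_univ i) h3

/-- Let B be a graded R-algebra generated by its degree-one part B_1, with B_1 a finitely generated
R-module, and let x_1, …, x_d be points of X = Proj B lying over one and the same prime p of R. If
the residue field of p has at least d elements, then some f ∈ B_1 ⊆ Γ(X, O_X(1)) has all the x_i in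
D_+(f). (Without the hypothesis on the residue field such an f exists in some B_n with n ≥ 1; that
first assertion is a known property of ample sheaves and is not restated here.) -/
theorem result {R A : Type u} [CommRing R] [CommRing A] [Algebra R A] (𝒜 : ℕ → Submodule R A) [GradedAlgebra 𝒜]
    (hgen : Algebra.adjoin R (𝒜 1 : Set A) = ⊤) (hfg : (𝒜 1).FG)
    (p : Ideal R) [p.IsPrime] {d : ℕ} (x : Fin d → Proj 𝒜)
    (hx : ∀ i, ((x i).asHomogeneousIdeal.toIdeal).comap (algebraMap R A) = p)
    (hcard : (d : Cardinal) ≤ Cardinal.mk p.ResidueField) :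
    ∃ g ∈ 𝒜 1, ∀ i, x i ∈ Proj.basicOpen 𝒜 g := by
  classical
  obtain ⟨S, hS⟩ := hfg
  have hadj : Algebra.adjoin (𝒜 0) (Set.range (Subtype.val : 𝒜 1 → A)) = ⊤ := by
    rw [eq_top_iff]
    intro y _
    have hy : y ∈ Algebra.adjoin R (𝒜 1 : Set A) := by rw [hgen]; trivial
    induction hy using Algebra.adjoin_induction with
    | mem y hy => exact Algebra.subset_adjoin ⟨⟨y, hy⟩, rfl⟩
    | algebraMap r =>
      have h0 : algebraMap R A r ∈ 𝒜 0 := by
        rw [Algebra.algebraMap_eq_smul_one]
        exact (𝒜 0).smul_mem r (SetLike.GradedOne.one_mem)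
      exact Subalgebra.algebraMap_mem _ (⟨algebraMap R A r, h0⟩ : 𝒜 0)
    | add y z _ _ hy hz => exact Subalgebra.add_mem _ (hy trivial) (hz trivial)
    | mul y z _ _ hy hz => exact Subalgebra.mul_mem _ (hy trivial) (hz trivial)
  have hcov := Proj.iSup_basicOpen_eq_top' 𝒜 (Subtype.val : 𝒜 1 → A) (fun i ↦ ⟨1, i.2⟩) hadj
  have hne : ∀ i, ∃ j ∈ S, j ∉ (x i).asHomogeneousIdeal.toIdeal := by
    intro i
    have hxi : x i ∈ (⊤ : (Proj 𝒜).Opens) := trivial
    rw [← hcov] at hxi
    obtain ⟨b, hb⟩ := TopologicalSpace.Opens.mem_iSup.mp hxi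
    by_contra hcon
    simp only [not_exists, not_and, not_not] at hcon
    have hle : Submodule.span R (S : Set A) ≤
        ((x i).asHomogeneousIdeal.toIdeal).restrictScalars R := by
      rw [Submodule.span_le]
      intro j hj
      exact hcon j hj
    have hb1 : (b : A) ∈ Submodule.span R (S : Set A) := by rw [hS]; exact b.2
    exact hb (hle hb1)
  obtain ⟨g, hg, hgi⟩ := exists_mem_span_forall_notMem p S
    (fun i => (x i).asHomogeneousIdeal.toIdeal) hx hne hcard
  rw [hS] at hg
  exact ⟨g, hg, fun i => hgi i⟩

end Groth.Agent.S13167
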