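import Groth.Statements.S13168
-- import your own Groth.Agent.* helpers here

set_option autoImplicit false
universe u
open AlgebraicGeometry
open ZeroCyc

namespace Groth.Agent.S13168

/-- Let B be a graded R-algebra generated by homogeneous elements f_1, …, f_s of positive degrees d_1,
…, d_s, let l be the least common multiple of the d_i and X = Proj B. For n = a l with a ≥ 1, X is
the union of the opens D_+(g), g ∈ B_n. -/
theorem result {R A : Type u} [CommRing R] [CommRing A] [Algebra R A] (𝒜 : ℕ → Submodule R A) [GradedAlgebra 𝒜]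
    {s : ℕ} (f : Fin s → A) (deg : Fin s → ℕ) (hdeg : ∀ i, 0 < deg i) (hf : ∀ i, f i ∈ 𝒜 (deg i))
    (hgen : Algebra.adjoin R (Set.range f) = ⊤) (a : ℕ) (ha : 0 < a) :
    (⨆ g : 𝒜 (a * Finset.univ.lcm deg), Proj.basicOpen 𝒜 (g : A)) = ⊤ := by
  classical
  set l := Finset.univ.lcm deg with hl
  have hl0 : l ≠ 0 := by
    rw [hl, Ne, Finset.lcm_eq_zero_iff]
    rintro ⟨i, -, hi⟩
    exact (hdeg i).ne' hi
  have hadj : Algebra.adjoin (𝒜 0) (Set.range f) = ⊤ := by
    rw [eq_top_iff]
    intro x _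
    have hx : x ∈ Algebra.adjoin R (Set.range f) := by rw [hgen]; trivial
    induction hx using Algebra.adjoin_induction with
    | mem x hx => exact Algebra.subset_adjoin hx
    | algebraMap r =>
      have h0 : algebraMap R A r ∈ 𝒜 0 := by
        rw [Algebra.algebraMap_eq_smul_one]
        exact (𝒜 0).smul_mem r (SetLike.GradedOne.one_mem)
      exact Subalgebra.algebraMap_mem _ (⟨algebraMap R A r, h0⟩ : 𝒜 0)
    | add x y _ _ hx hy => exact Subalgebra.add_mem _ (hx trivial) (hy trivial)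
    | mul x y _ _ hx hy => exact Subalgebra.mul_mem _ (hx trivial) (hy trivial)
  have hcov := Proj.iSup_basicOpen_eq_top' 𝒜 f (fun i ↦ ⟨deg i, hf i⟩) hadj
  rw [eq_top_iff]
  intro x hx
  rw [← hcov] at hx
  obtain ⟨i, hi⟩ := TopologicalSpace.Opens.mem_iSup.mp hx
  obtain ⟨c, hc⟩ : deg i ∣ l := Finset.dvd_lcm (Finset.mem_univ i)
  have hc0 : c ≠ 0 := by
    rintro rfl
    rw [mul_zero] at hc
    exact hl0 hc
  have hmem : f i ^ (a * c) ∈ 𝒜 (a * l) := by
    have := SetLike.pow_mem_graded (a * c) (hf i)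
    rw [smul_eq_mul] at this
    convert this using 2
    rw [hc]; ring
  refine TopologicalSpace.Opens.mem_iSup.mpr ⟨⟨f i ^ (a * c), hmem⟩, ?_⟩
  rw [Proj.basicOpen_pow _ _ _ (Nat.pos_of_ne_zero (Nat.mul_ne_zero ha.ne' hc0))]
  exact hi

end Groth.Agent.S13168
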