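import Groth.Statements.S13174
import Mathlib.RingTheory.PolynomialLaw.Basic
import Mathlib.RingTheory.TensorProduct.DirectLimitFG
import Mathlib.LinearAlgebra.TensorProduct.RightExactness
-- import your own Groth.Agent.* helpers here

set_option autoImplicit false
universe u v w
open scoped TensorProduct
open ZeroCyc

namespace Groth.Agent.S13174

open LinearMap

section helpers
variable {A : Type u} [CommRing A] {M : Type v} [AddCommGroup M] [Module A M]
  {N : Type w} [AddCommGroup N] [Module A N]
  (T : ∀ n : ℕ, MvPolynomial (Fin n) A ⊗[A] M → MvPolynomial (Fin n) A ⊗[A] N)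
  (hT : ∀ (n m : ℕ) (φ : MvPolynomial (Fin n) A →ₐ[A] MvPolynomial (Fin m) A),
    φ.toLinearMap.rTensor N ∘ T n = T m ∘ φ.toLinearMap.rTensor M)

include hT in
lemma hT_apply {n m : ℕ} (φ : MvPolynomial (Fin n) A →ₐ[A] MvPolynomial (Fin m) A)
    (p : MvPolynomial (Fin n) A ⊗[A] M) :
    φ.toLinearMap.rTensor N (T n p) = T m (φ.toLinearMap.rTensor M p) :=
  congrFun (hT n m φ) p

lemma rTensor_comp_apply' {P : Type*} [AddCommGroup P] [Module A P]
    {S₁ S₂ S₃ : Type*} [CommSemiring S₁] [Algebra A S₁]
    [CommSemiring S₂] [Algebra A S₂] [CommSemiring S₃] [Algebra A S₃]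
    (g : S₂ →ₐ[A] S₃) (f : S₁ →ₐ[A] S₂) (x : S₁ ⊗[A] P) :
    g.toLinearMap.rTensor P (f.toLinearMap.rTensor P x) = (g.comp f).toLinearMap.rTensor P x := by
  rw [AlgHom.comp_toLinearMap, LinearMap.rTensor_comp, LinearMap.comp_apply]

include hT in
/-- the fresh-variable trick -/
lemma fresh {S : Type u} [CommSemiring S] [Algebra A S] {k : ℕ}
    (χ : MvPolynomial (Fin k) A →ₐ[A] S) (f : MvPolynomial (Fin k) A) (hf : χ f = 0) (m : M)
    (q : MvPolynomial (Fin k) A ⊗[A] M) :
    χ.toLinearMap.rTensor N (T k (q + f ⊗ₜ[A] m)) = χ.toLinearMap.rTensor N (T k q) := by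
  let ι : MvPolynomial (Fin k) A →ₐ[A] MvPolynomial (Fin (k+1)) A :=
    MvPolynomial.rename Fin.castSucc
  let α : MvPolynomial (Fin (k+1)) A →ₐ[A] MvPolynomial (Fin k) A :=
    MvPolynomial.aeval (fun i => Fin.lastCases f (fun j => MvPolynomial.X j) i)
  let β : MvPolynomial (Fin (k+1)) A →ₐ[A] MvPolynomial (Fin k) A :=
    MvPolynomial.aeval (fun i => Fin.lastCases 0 (fun j => MvPolynomial.X j) i)
  have hαι : α.comp ι = AlgHom.id A _ := by
    apply MvPolynomial.algHom_ext
    intro i
    simp [α, ι]
  have hβι : β.comp ι = AlgHom.id A _ := by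
    apply MvPolynomial.algHom_ext
    intro i
    simp [β, ι]
  have hχ : χ.comp α = χ.comp β := by
    apply MvPolynomial.algHom_ext
    intro i
    refine Fin.lastCases ?_ (fun j => ?_) i
    · simp [α, β, hf]
    · simp [α, β]
  let Q : MvPolynomial (Fin (k+1)) A ⊗[A] M :=
    ι.toLinearMap.rTensor M q + (MvPolynomial.X (Fin.last k)) ⊗ₜ[A] m
  have hαQ : α.toLinearMap.rTensor M Q = q + f ⊗ₜ[A] m := by
    simp only [Q, map_add, rTensor_comp_apply', hαι]
    simp [α]
  have hβQ : β.toLinearMap.rTensor M Q = q := by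
    simp only [Q, map_add, rTensor_comp_apply', hβι]
    simp [β]
  rw [← hαQ, ← hT_apply T hT, rTensor_comp_apply', hχ, ← rTensor_comp_apply', hT_apply T hT, hβQ]


include hT in
/-- elements differing by the kernel of a quotient map give the same value -/
lemma quot_indep {S : Type u} [CommSemiring S] [Algebra A S] {k : ℕ}
    (χ : MvPolynomial (Fin k) A →ₐ[A] S) (I : Ideal (MvPolynomial (Fin k) A))
    (hI : ∀ f ∈ I, χ f = 0) (q q' : MvPolynomial (Fin k) A ⊗[A] M)
    (h : (Ideal.Quotient.mkₐ A I).toLinearMap.rTensor M q =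
      (Ideal.Quotient.mkₐ A I).toLinearMap.rTensor M q') :
    χ.toLinearMap.rTensor N (T k q) = χ.toLinearMap.rTensor N (T k q') := by
  have hex : Function.Exact (rTensor M ((I.restrictScalars A).subtype))
      (rTensor M (Ideal.Quotient.mkₐ A I).toLinearMap) := by
    refine rTensor_exact M ?_ (Ideal.Quotient.mkₐ_surjective A I)
    intro x
    simp [Ideal.Quotient.eq_zero_iff_mem]
  have hd : rTensor M (Ideal.Quotient.mkₐ A I).toLinearMap (q - q') = 0 := by
    rw [map_sub, h, sub_self]
  obtain ⟨w, hw⟩ := (hex _).1 hd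
  have key : ∀ w : (I.restrictScalars A) ⊗[A] M, ∀ q₀ : MvPolynomial (Fin k) A ⊗[A] M,
      χ.toLinearMap.rTensor N (T k (q₀ + rTensor M ((I.restrictScalars A).subtype) w)) =
        χ.toLinearMap.rTensor N (T k q₀) := by
    intro w
    induction w using TensorProduct.induction_on with
    | zero => intro q₀; simp
    | tmul f m =>
      intro q₀
      simp only [rTensor_tmul, Submodule.subtype_apply]
      exact fresh T hT χ f.1 (hI _ f.2) m q₀
    | add x y hx hy =>
      intro q₀
      rw [map_add, ← add_assoc, hy, hx]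
  have := key w q'
  rw [hw] at this
  rw [← this]
  congr 2
  abel


include hT in
/-- the value computed through a lift to a polynomial ring does not depend on the lift -/
lemma wellDefined {S : Type u} [CommSemiring S] [Algebra A S] {n n' : ℕ}
    (ψ : MvPolynomial (Fin n) A →ₐ[A] S) (ψ' : MvPolynomial (Fin n') A →ₐ[A] S)
    (p : MvPolynomial (Fin n) A ⊗[A] M) (p' : MvPolynomial (Fin n') A ⊗[A] M)
    (h : ψ.toLinearMap.rTensor M p = ψ'.toLinearMap.rTensor M p') :
    ψ.toLinearMap.rTensor N (T n p) = ψ'.toLinearMap.rTensor N (T n' p') := by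
  have uFG : Subalgebra.FG (R := A) ψ.range := by
    rw [← Algebra.map_top]
    exact Subalgebra.FG.map _ Algebra.FiniteType.out
  have u'FG : Subalgebra.FG (R := A) ψ'.range := by
    rw [← Algebra.map_top]
    exact Subalgebra.FG.map _ Algebra.FiniteType.out
  have huu' : rTensor M (Subalgebra.val _).toLinearMap (rTensor M ψ.rangeRestrict.toLinearMap p) =
      rTensor M (Subalgebra.val _).toLinearMap (rTensor M ψ'.rangeRestrict.toLinearMap p') := by
    simp only [rTensor_comp_apply', AlgHom.val_comp_rangeRestrict, h]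
  obtain ⟨B, hAB, hA'B, hBfg, hB⟩ :=
    TensorProduct.Algebra.eq_of_fg_of_subtype_eq' (R := A) uFG u'FG huu'
  obtain ⟨s, rfl⟩ := PolynomialLaw.exists_range_φ_eq_of_fg hBfg
  set χ := PolynomialLaw.φ A s with hχ
  have hg : ∀ i : Fin n, ∃ g, χ g = ψ (MvPolynomial.X i) := fun i => hAB (ψ.mem_range_self _)
  choose g hg using hg
  have hg' : ∀ i : Fin n', ∃ g, χ g = ψ' (MvPolynomial.X i) := fun i => hA'B (ψ'.mem_range_self _)
  choose g' hg' using hg'
  let lam : MvPolynomial (Fin n) A →ₐ[A] MvPolynomial (Fin s.card) A := MvPolynomial.aeval g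
  let lam' : MvPolynomial (Fin n') A →ₐ[A] MvPolynomial (Fin s.card) A := MvPolynomial.aeval g'
  have hlam : χ.comp lam = ψ := by
    apply MvPolynomial.algHom_ext
    intro i
    simp [lam, hg]
  have hlam' : χ.comp lam' = ψ' := by
    apply MvPolynomial.algHom_ext
    intro i
    simp [lam', hg']
  let π := χ.rangeRestrict
  have hπ : Function.Surjective π := AlgHom.rangeRestrict_surjective χ
  let I := RingHom.ker π
  let e := Ideal.quotientKerAlgEquivOfSurjective hπ
  have he : e.toAlgHom.comp (Ideal.Quotient.mkₐ A I) = π := by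
    ext x
    simp [e, I]
  have h1 : π.comp lam = (Subalgebra.inclusion hAB).comp ψ.rangeRestrict := by
    apply AlgHom.ext
    intro x
    apply Subtype.ext
    exact congrArg (fun h => h x) hlam
  have h1' : π.comp lam' = (Subalgebra.inclusion hA'B).comp ψ'.rangeRestrict := by
    apply AlgHom.ext
    intro x
    apply Subtype.ext
    exact congrArg (fun h => h x) hlam'
  have hinj : Function.Injective (rTensor M e.toAlgHom.toLinearMap) := by
    apply Function.LeftInverse.injective (g := rTensor M e.symm.toAlgHom.toLinearMap)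
    intro x
    rw [rTensor_comp_apply']
    have : e.symm.toAlgHom.comp e.toAlgHom = AlgHom.id A _ := by ext; simp
    rw [this]; simp
  have hq : rTensor M (Ideal.Quotient.mkₐ A I).toLinearMap (rTensor M lam.toLinearMap p) =
      rTensor M (Ideal.Quotient.mkₐ A I).toLinearMap (rTensor M lam'.toLinearMap p') := by
    apply hinj
    have hL : ∀ {m : ℕ} (l : MvPolynomial (Fin m) A →ₐ[A] MvPolynomial (Fin s.card) A)
        (x : MvPolynomial (Fin m) A ⊗[A] M),
        rTensor M e.toAlgHom.toLinearMap (rTensor M (Ideal.Quotient.mkₐ A I).toLinearMap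
          (rTensor M l.toLinearMap x)) = rTensor M (π.comp l).toLinearMap x := by
      intro m l x
      rw [rTensor_comp_apply' e.toAlgHom, he, rTensor_comp_apply']
    rw [hL, hL, h1, h1', ← rTensor_comp_apply', ← rTensor_comp_apply', hB]
  have := quot_indep T hT χ I (fun f hf => by
    have : π f = 0 := hf
    exact congrArg Subtype.val this) _ _ hq
  rw [← hT_apply T hT, ← hT_apply T hT, rTensor_comp_apply', rTensor_comp_apply', hlam, hlam']
    at this
  exact this


include hT in
lemma exists_val (S : Type u) [CommSemiring S] [Algebra A S] (t : S ⊗[A] M) :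
    ∃ y : S ⊗[A] N, ∀ (n : ℕ) (ψ : MvPolynomial (Fin n) A →ₐ[A] S)
      (p : MvPolynomial (Fin n) A ⊗[A] M), ψ.toLinearMap.rTensor M p = t →
        y = ψ.toLinearMap.rTensor N (T n p) := by
  obtain ⟨n₀, ψ₀, p₀, h₀⟩ := PolynomialLaw.exists_lift (R := A) (M := M) t
  refine ⟨ψ₀.toLinearMap.rTensor N (T n₀ p₀), fun n ψ p h => ?_⟩
  exact wellDefined T hT ψ₀ ψ p₀ p (h₀.trans h.symm)

/-- the value of the extended law -/
noncomputable def val (S : Type u) [CommSemiring S] [Algebra A S] (t : S ⊗[A] M) : S ⊗[A] N :=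
  Classical.choose (exists_val T hT S t)

lemma val_spec {S : Type u} [CommSemiring S] [Algebra A S] {n : ℕ}
    (ψ : MvPolynomial (Fin n) A →ₐ[A] S) (p : MvPolynomial (Fin n) A ⊗[A] M) :
    val T hT S (ψ.toLinearMap.rTensor M p) = ψ.toLinearMap.rTensor N (T n p) :=
  Classical.choose_spec (exists_val T hT S (ψ.toLinearMap.rTensor M p)) n ψ p rfl

/-- the polynomial law attached to a compatible family on polynomial rings -/
noncomputable def lawOf : M →ₚₗ[A] N where
  toFun' S _ _ := val T hT S
  isCompat' := by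
    intro S _ _ S' _ _ φ
    funext t
    obtain ⟨n, ψ, p, rfl⟩ := PolynomialLaw.exists_lift (R := A) (M := M) t
    simp only [Function.comp_apply]
    rw [val_spec, rTensor_comp_apply', rTensor_comp_apply', val_spec]

lemma lawOf_toFun' (n : ℕ) (p : MvPolynomial (Fin n) A ⊗[A] M) :
    (lawOf T hT).toFun' (MvPolynomial (Fin n) A) p = T n p := by
  have := val_spec T hT (AlgHom.id A (MvPolynomial (Fin n) A)) p
  simp only [AlgHom.toLinearMap_id, LinearMap.rTensor_id, LinearMap.id_coe, id_eq] at this
  exact this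

end helpers

/-- Let M and N be A-modules. Polynomial laws M → N correspond one-to-one, by restriction, to families
of maps T_n : M[t_1, …, t_n] → N[t_1, …, t_n], n ≥ 0, compatible with all A-algebra homomorphisms
A[t_1, …, t_n] → A[t_1, …, t_m]: in the definition of a polynomial law the category of A-algebras
may be replaced by the polynomial rings in finitely many variables. (Here a polynomial law is given
on all commutative A-algebra semirings of the universe of A.) -/
theorem result {A : Type u} [CommRing A] {M : Type v} [AddCommGroup M] [Module A M] {N : Type w} [AddCommGroup N] [Module A N] :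
    Function.Bijective (fun F : M →ₚₗ[A] N =>
      (⟨fun n => F.toFun' (MvPolynomial (Fin n) A), fun n m φ => F.isCompat' φ⟩ :
        {T : ∀ n : ℕ, MvPolynomial (Fin n) A ⊗[A] M → MvPolynomial (Fin n) A ⊗[A] N //
          ∀ (n m : ℕ) (φ : MvPolynomial (Fin n) A →ₐ[A] MvPolynomial (Fin m) A),
            φ.toLinearMap.rTensor N ∘ T n = T m ∘ φ.toLinearMap.rTensor M})) := by
  constructor
  · intro F G hFG
    have h0 : ∀ n : ℕ, F.toFun' (MvPolynomial (Fin n) A) = G.toFun' (MvPolynomial (Fin n) A) :=
      fun n => congrFun (congrArg Subtype.val hFG) n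
    apply PolynomialLaw.ext
    funext S _ _ t
    obtain ⟨n, ψ, p, rfl⟩ := PolynomialLaw.exists_lift (R := A) (M := M) t
    rw [← PolynomialLaw.isCompat_apply', ← PolynomialLaw.isCompat_apply', h0]
  · rintro ⟨T, hT⟩
    refine ⟨lawOf T hT, ?_⟩
    apply Subtype.ext
    funext n p
    exact lawOf_toFun' T hT n p

end Groth.Agent.S13174
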