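import Groth.Statements.S13175
-- import your own Groth.Agent.* helpers here

set_option autoImplicit false
universe u v w
open scoped TensorProduct
open ZeroCyc

namespace Groth.Agent.S13175

section helpers
variable {A : Type u} [CommRing A] {B : Type v} [CommRing B] [Algebra A B]

lemma rTensor_eq_map {S T : Type u} [CommRing S] [Algebra A S] [CommRing T] [Algebra A T]
    (ψ : S →ₐ[A] T) (t : S ⊗[A] B) :
    ψ.toLinearMap.rTensor B t = Algebra.TensorProduct.map ψ (AlgHom.id A B) t := by
  induction t using TensorProduct.induction_on with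
  | zero => simp
  | tmul a b => simp
  | add x y hx hy => rw [map_add, map_add, hx, hy]

lemma rTensor_mul' {S T : Type u} [CommRing S] [Algebra A S] [CommRing T] [Algebra A T]
    (ψ : S →ₐ[A] T) (t t' : S ⊗[A] B) :
    ψ.toLinearMap.rTensor B (t * t') = ψ.toLinearMap.rTensor B t * ψ.toLinearMap.rTensor B t' := by
  simp only [rTensor_eq_map, map_mul]

lemma rTensor_one' {S T : Type u} [CommRing S] [Algebra A S] [CommRing T] [Algebra A T]
    (ψ : S →ₐ[A] T) :
    ψ.toLinearMap.rTensor B (1 : S ⊗[A] B) = 1 := by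
  simp only [rTensor_eq_map, map_one]

/-- simultaneous lifting of two tensors to a polynomial ring -/
lemma exists_lift₂ {S : Type u} [CommRing S] [Algebra A S] (x y : S ⊗[A] B) :
    ∃ (n : ℕ) (ψ : MvPolynomial (Fin n) A →ₐ[A] S) (p q : MvPolynomial (Fin n) A ⊗[A] B),
      ψ.toLinearMap.rTensor B p = x ∧ ψ.toLinearMap.rTensor B q = y := by
  obtain ⟨A1, hA1, hx⟩ := TensorProduct.Algebra.exists_of_fg x
  obtain ⟨A2, hA2, hy⟩ := TensorProduct.Algebra.exists_of_fg y
  have hB : Subalgebra.FG (A1 ⊔ A2) := Subalgebra.FG.sup hA1 hA2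
  obtain ⟨gen, hgen⟩ := PolynomialLaw.exists_range_φ_eq_of_fg hB
  have h1 : A1 ≤ (PolynomialLaw.φ A gen).range := hgen ▸ le_sup_left
  have h2 : A2 ≤ (PolynomialLaw.φ A gen).range := hgen ▸ le_sup_right
  obtain ⟨p, hp⟩ := PolynomialLaw.exists_lift_of_mem_range_rTensor _ h1 hx
  obtain ⟨q, hq⟩ := PolynomialLaw.exists_lift_of_mem_range_rTensor _ h2 hy
  exact ⟨gen.card, PolynomialLaw.φ A gen, p, q, hp, hq⟩

end helpers

/-- Let B and C be A-algebras and F : B → C a polynomial law. If the maps F over the polynomial rings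
A[t_1, …, t_n], n ≥ 0, are multiplicative (send 1 to 1 and products to products), then F is a
multiplicative law: F sends 1 to 1 and products to products over every A-algebra. -/
theorem result {A : Type u} [CommRing A] {B : Type v} [CommRing B] [Algebra A B] {C : Type w} [CommRing C] [Algebra A C]
    (F : B →ₚₗ[A] C)
    (h1 : ∀ n : ℕ, F.toFun' (MvPolynomial (Fin n) A) 1 = 1)
    (hmul : ∀ (n : ℕ) (x y : MvPolynomial (Fin n) A ⊗[A] B),
      F.toFun' (MvPolynomial (Fin n) A) (x * y) = F.toFun' (MvPolynomial (Fin n) A) x * F.toFun' (MvPolynomial (Fin n) A) y) :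
    ∀ (S : Type u) [CommRing S] [Algebra A S], F.toFun' S 1 = 1 ∧
      ∀ x y : S ⊗[A] B, F.toFun' S (x * y) = F.toFun' S x * F.toFun' S y := by
  intro S _ _
  refine ⟨?_, ?_⟩
  · let ψ : MvPolynomial (Fin 0) A →ₐ[A] S := MvPolynomial.aeval (fun i => i.elim0)
    have e1 : (1 : S ⊗[A] B) = ψ.toLinearMap.rTensor B 1 := (rTensor_one' ψ).symm
    rw [e1, ← PolynomialLaw.isCompat_apply', h1 0]
    exact rTensor_one' (B := C) ψ
  · intro x y
    obtain ⟨n, ψ, p, q, rfl, rfl⟩ := exists_lift₂ x y
    rw [← rTensor_mul', ← PolynomialLaw.isCompat_apply', ← PolynomialLaw.isCompat_apply',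
      ← PolynomialLaw.isCompat_apply', hmul, rTensor_mul']

end Groth.Agent.S13175
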