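import Groth.Statements.S13176
import Groth.Agent.Lib.Helper7.QGP3


set_option autoImplicit false
universe u
open CategoryTheory CategoryTheory.Limits AlgebraicGeometry
open ZeroCyc

namespace Groth.Agent.S13176

/-- Let a finite group G act on a scheme X over S through ρ, let q : X → Y be a quotient of X by G over
S (affine, G-invariant, O_Y = the G-invariant sections of O_X), let S' → S be any morphism and X' =
X ×_S S' with the induced action ρ', and let r : X' → Y' be a quotient of X' by G. Then the morphism
Y' → Y ×_S S' through which the canonical map X' → Y ×_S S' factors via r is a universal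
homeomorphism. (The published statement assumes every G-orbit lies in an affine open, which is what
makes the quotients exist; here the two quotients are hypotheses.) -/
theorem result {X Y S S' Y' : Scheme.{u}} {G : Type u} [Group G] [Finite G]
    (ρ : G →* Aut X) (f : X ⟶ S) (hρ : ∀ σ : G, (ρ σ).hom ≫ f = f)
    (q : X ⟶ Y) (h : Y ⟶ S) (hq : q ≫ h = f) (hquot : SGA1.IsQuot ρ q)
    (g : S' ⟶ S)
    (ρ' : G →* Aut (pullback f g))
    (hρ' : ∀ σ : G, (ρ' σ).hom ≫ pullback.fst f g = pullback.fst f g ≫ (ρ σ).hom ∧
      (ρ' σ).hom ≫ pullback.snd f g = pullback.snd f g)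
    (r : pullback f g ⟶ Y') (hr : SGA1.IsQuot ρ' r)
    (m : Y' ⟶ pullback h g)
    (hm : r ≫ m = pullback.map f g h g q (𝟙 S') (𝟙 S)
      ((Category.comp_id f).trans hq.symm) ((Category.comp_id g).trans (Category.id_comp g).symm)) :
    FlatMor.IsUnivHomeo m := by

  have hcond1 : f ≫ 𝟙 S = q ≫ h := (Category.comp_id f).trans hq.symm
  have hcond2 : g ≫ 𝟙 S = 𝟙 S' ≫ g := (Category.comp_id g).trans (Category.id_comp g).symm
  set π' := pullback.map f g h g q (𝟙 S') (𝟙 S) hcond1 hcond2 with hπ'
  have hfst : π' ≫ pullback.fst h g = pullback.fst f g ≫ q := pullback.lift_fst _ _ _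
  have hsnd : π' ≫ pullback.snd h g = pullback.snd f g := by
    rw [hπ']
    exact (pullback.lift_snd _ _ _).trans (Category.comp_id _)
  -- the left square is cartesian
  have hsq : IsPullback π' (pullback.fst f g) (pullback.fst h g) q := by
    refine IsPullback.of_right ?_ hfst (IsPullback.of_hasPullback h g).flip
    rw [hsnd, hq]
    exact (IsPullback.of_hasPullback f g).flip
  haveI : IsIntegralHom q := Groth.Agent.Lib.Helper7.FiniteQuotient.isIntegralHom hquot
  haveI : Surjective q := ⟨Groth.Agent.Lib.Helper7.FiniteQuotient.surjective hquot⟩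
  haveI : IsIntegralHom π' :=
    MorphismProperty.of_isPullback (P := @IsIntegralHom) hsq.flip inferInstance
  haveI : Surjective π' :=
    MorphismProperty.of_isPullback (P := @Surjective) hsq.flip inferInstance
  haveI : IsIntegralHom (r ≫ m) := by rw [hm]; infer_instance
  haveI : Surjective (r ≫ m) := by rw [hm]; infer_instance
  refine Groth.Agent.Lib.Helper7.QGP.isUnivHomeo_of_isQuot hr m ?_
  intro L _ _ x₁ x₂ hx
  rw [hm] at hx
  have h1 : (x₁ ≫ pullback.fst f g) ≫ q = (x₂ ≫ pullback.fst f g) ≫ q := by
    rw [Category.assoc, Category.assoc, ← hfst, ← Category.assoc, ← Category.assoc, hx]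
  have h2 : x₁ ≫ pullback.snd f g = x₂ ≫ pullback.snd f g := by
    rw [← hsnd, ← Category.assoc, ← Category.assoc, hx]
  obtain ⟨γ, hγ⟩ := Groth.Agent.Lib.Helper7.QGP.exists_comp_eq hquot _ _ h1
  have h3 : x₂ = x₁ ≫ (ρ' γ).hom := by
    apply pullback.hom_ext
    · rw [hγ, Category.assoc, Category.assoc, (hρ' γ).1]
    · rw [← h2, Category.assoc, (hρ' γ).2]
  rw [h3, Category.assoc, hr.inv γ]

end Groth.Agent.S13176
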