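import Groth.Statements.S13178
import Groth.Agent.Lib.Helper15.FieldLaw4
-- import your own Groth.Agent.* helpers here

set_option autoImplicit false
universe u
open scoped TensorProduct
open ZeroCyc

namespace Groth.Agent.S13178

/-- Let K/k be a finite field extension with separable degree d_s and exponent e (the least e ≥ 1 such
that x^e is separable over k for every x ∈ K), and let d ≥ 0. The k-points of Γ^d(Spec K / Spec k)
are the multiplicative polynomial laws K → k over k that are homogeneous of degree d; there is at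
most one such law, and one exists if and only if the quasi-degree d_s·e divides d. (The
identification of k-points of Γ^d with multiplicative homogeneous laws is the universal property of
the algebra of divided powers; the row is stated directly for laws.) -/
theorem result {k : Type u} [Field k] {K : Type u} [Field K] [Algebra k K]
    [FiniteDimensional k K] (d e : ℕ) (he : 0 < e) (hexp : ∀ x : K, x ^ e ∈ separableClosure k K)
    (hmin : ∀ n : ℕ, 0 < n → (∀ x : K, x ^ n ∈ separableClosure k K) → e ≤ n) :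
    (∀ F F' : K →ₚₗ[k] k,
      ((∀ (S : Type u) [CommRing S] [Algebra k S], F.toFun' S 1 = 1 ∧
        ∀ x y : S ⊗[k] K, F.toFun' S (x * y) = F.toFun' S x * F.toFun' S y) ∧
      ∀ (S : Type u) [CommRing S] [Algebra k S] (a : S) (z : S ⊗[k] K), F.toFun' S (a • z) = a ^ d • F.toFun' S z) →
      ((∀ (S : Type u) [CommRing S] [Algebra k S], F'.toFun' S 1 = 1 ∧
        ∀ x y : S ⊗[k] K, F'.toFun' S (x * y) = F'.toFun' S x * F'.toFun' S y) ∧
      ∀ (S : Type u) [CommRing S] [Algebra k S] (a : S) (z : S ⊗[k] K), F'.toFun' S (a • z) = a ^ d • F'.toFun' S z) → F = F') ∧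
    ((∃ F : K →ₚₗ[k] k, ((∀ (S : Type u) [CommRing S] [Algebra k S], F.toFun' S 1 = 1 ∧
        ∀ x y : S ⊗[k] K, F.toFun' S (x * y) = F.toFun' S x * F.toFun' S y) ∧
      ∀ (S : Type u) [CommRing S] [Algebra k S] (a : S) (z : S ⊗[k] K), F.toFun' S (a • z) = a ^ d • F.toFun' S z)) ↔ Field.finSepDegree k K * e ∣ d) := by
  classical
  haveI : Module.Flat k K := inferInstance
  refine ⟨?_, ?_, ?_⟩
  · intro F F' hF hF'
    let γ := Groth.Agent.Lib.Helper15.FieldLaw1.mkMulLaw F d hF.1 hF.2
    let γ' := Groth.Agent.Lib.Helper15.FieldLaw1.mkMulLaw F' d hF'.1 hF'.2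
    obtain ⟨f, hf, -⟩ := Groth.Agent.Lib.Helper15.TSFlat.isGammaD_ts_of_flat (A := k) (B := K) d k γ
    obtain ⟨f', hf', -⟩ :=
      Groth.Agent.Lib.Helper15.TSFlat.isGammaD_ts_of_flat (A := k) (B := K) d k γ'
    have hff' : f = f' := Groth.Agent.Lib.Helper15.FieldLaw2.phi_unique d f f'
    have h1 : F = γ.law := rfl
    have h2 : F' = γ'.law := rfl
    rw [h1, h2, ← hf, ← hf', hff']
  · rintro ⟨F, hF⟩
    let γ := Groth.Agent.Lib.Helper15.FieldLaw1.mkMulLaw F d hF.1 hF.2
    obtain ⟨f, -, -⟩ := Groth.Agent.Lib.Helper15.TSFlat.isGammaD_ts_of_flat (A := k) (B := K) d k γ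
    exact Groth.Agent.Lib.Helper15.FieldLaw3.dvd_of_phi d e he hexp hmin f
  · rintro ⟨m, hm⟩
    have hadd := Groth.Agent.Lib.Helper15.FieldLaw4.add_pow_exponent (k := k) (K := K) e he hexp hmin
    obtain ⟨r, hr⟩ := LinearMap.exists_leftInverse_of_injective
      (separableClosure k K).val.toLinearMap
      (LinearMap.ker_eq_bot.2 (separableClosure k K).val.injective)
    have hr' : ∀ c : separableClosure k K, r c.1 = c := fun c => LinearMap.congr_fun hr c
    have hd : Module.finrank k (separableClosure k K) = Field.finSepDegree k K :=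
      (Field.finSepDegree_eq k K).symm
    refine ⟨Groth.Agent.Lib.Helper15.FieldLaw4.F e r (Field.finSepDegree k K) hd m,
      fun S _ _ => ⟨?_, fun x y => ?_⟩, fun S _ _ a z => ?_⟩
    · exact Groth.Agent.Lib.Helper15.FieldLaw4.F_one e r hr' S _ hd m
    · exact Groth.Agent.Lib.Helper15.FieldLaw4.F_mul e he hexp hadd r hr' S _ hd m x y
    · rw [Groth.Agent.Lib.Helper15.FieldLaw4.F_smul, hm]

end Groth.Agent.S13178
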