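import Groth.Statements.S13181
import Groth.Agent.Lib.Helper7.ProjQuot
import Groth.Agent.Lib.Helper7.QuotientChart

set_option autoImplicit false
universe u
open CategoryTheory CategoryTheory.Limits AlgebraicGeometry
open ZeroCyc

namespace Groth.Agent.S13181

open Groth.Agent.Lib.Helper7.FiniteQuotient Groth.Agent.Lib.Helper7.ProjQuot HomogeneousLocalization


/-- Over an affine base Spec R, let B be a graded R-algebra generated by its degree-one part and let a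
finite group G act on B by graded R-algebra automorphisms, with ring of invariants C = B^G (graded
by C_n = B_n ∩ B^G, given here as a graded ring with an injective graded map ι onto the invariants).
Let ρ be the induced action of G on X = Proj B (on each chart D_+(σf) → D_+(f) it is Spec of b/f^k ↦
σ(b)/σ(f)^k) and π : Proj B → Proj C the morphism induced by ι (on D_+(ι c) → D_+(c) it is Spec of
C_(c) → B_(ι c)). Then π is a quotient of X by G: affine, G-invariant, with O_{Proj C} the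
G-invariant sections of O_X. (The published statement is over a general base scheme with a
quasi-coherent graded algebra and includes the existence of the quotient; this row is its
affine-local content, with ρ and π characterised chartwise.) -/
theorem result {R A : Type u} [CommRing R] [CommRing A] [Algebra R A] (𝒜 : ℕ → Submodule R A) [GradedAlgebra 𝒜]
    (hgen : Algebra.adjoin R (𝒜 1 : Set A) = ⊤)
    {G : Type u} [Group G] [Finite G] [MulSemiringAction G A]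
    (hGR : ∀ (σ : G) (r : R), σ • algebraMap R A r = algebraMap R A r)
    (hGdeg : ∀ (σ : G) (i : ℕ) (a : A), a ∈ 𝒜 i → σ • a ∈ 𝒜 i)
    {C : Type u} [CommRing C] [Algebra R C] (𝒞 : ℕ → Submodule R C) [GradedAlgebra 𝒞]
    (ι : C →ₐ[R] A) (hι : Function.Injective ι)
    (hιdeg : ∀ (i : ℕ) (a : A), a ∈ (𝒞 i).map ι.toLinearMap ↔ (a ∈ 𝒜 i ∧ ∀ σ : G, σ • a = a))
    (ρ : G →* Aut (Proj 𝒜))
    (hρ : ∀ (σ : G) (n : ℕ) (f : A) (hn : 0 < n) (hf : f ∈ 𝒜 n)
      (θ : CommRingCat.of (HomogeneousLocalization.Away 𝒜 f) ⟶ CommRingCat.of (HomogeneousLocalization.Away 𝒜 (σ • f))),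
      (algebraMap (HomogeneousLocalization.Away 𝒜 (σ • f)) (Localization.Away (σ • f))).comp θ.hom =
        (Localization.awayMap (MulSemiringAction.toRingHom G A σ) f).comp
          (algebraMap (HomogeneousLocalization.Away 𝒜 f) (Localization.Away f)) →
      Proj.awayι 𝒜 (σ • f) (hGdeg σ n f hf) hn ≫ (ρ σ).inv = Spec.map θ ≫ Proj.awayι 𝒜 f hf hn)
    (π : Proj 𝒜 ⟶ Proj 𝒞)
    (hπ : ∀ (n : ℕ) (c : C) (hn : 0 < n) (hc : c ∈ 𝒞 n)
      (θ : CommRingCat.of (HomogeneousLocalization.Away 𝒞 c) ⟶ CommRingCat.of (HomogeneousLocalization.Away 𝒜 (ι c))),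
      (algebraMap (HomogeneousLocalization.Away 𝒜 (ι c)) (Localization.Away (ι c))).comp θ.hom =
        (Localization.awayMap ι.toRingHom c).comp
          (algebraMap (HomogeneousLocalization.Away 𝒞 c) (Localization.Away c)) →
      Proj.awayι 𝒜 (ι c) ((hιdeg n (ι c)).mp (Submodule.mem_map_of_mem hc)).1 hn ≫ π =
        Spec.map θ ≫ Proj.awayι 𝒞 c hc hn) :
    SGA1.IsQuot ρ π := by
  classical
  have hfixι : ∀ (σ : G) (c : C), σ • ι c = ι c := ι_fixed 𝒜 𝒞 ι hιdeg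
  have hιmem : ∀ {n : ℕ} {c : C}, c ∈ 𝒞 n → ι c ∈ 𝒜 n := fun hc => ι_mem 𝒜 𝒞 ι hιdeg hc
  -- the chart squares for π
  have hπ' : ∀ (n : ℕ) (c : C) (hn : 0 < n) (hc : c ∈ 𝒞 n),
      Proj.awayι 𝒜 (ι c) (hιmem hc) hn ≫ π =
        Spec.map (CommRingCat.ofHom (θπ 𝒜 𝒞 ι hιdeg c)) ≫ Proj.awayι 𝒞 c hc hn :=
    fun n c hn hc => hπ n c hn hc (CommRingCat.ofHom (θπ 𝒜 𝒞 ι hιdeg c)) (θπ_compat 𝒜 𝒞 ι hιdeg c)
  -- (F1) the cover
  have hcover : ∀ x : Proj 𝒜, ∃ (n : ℕ) (c : C), 0 < n ∧ c ∈ 𝒞 n ∧ x ∈ Proj.basicOpen 𝒜 (ι c) := by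
    intro x
    have hx := (Proj.affineOpenCover 𝒜).covers x
    generalize (Proj.affineOpenCover 𝒜).idx x = i at hx
    rw [Proj.affineOpenCover_f] at hx
    have hxi : x ∈ Proj.basicOpen 𝒜 (i.2 : A) := by
      rw [← Proj.opensRange_awayι 𝒜 _ i.2.2 i.1.2]
      exact hx
    obtain ⟨n, a, hn, han, hainv, haP⟩ := exists_invariant_notMem 𝒜 hGdeg
      x.asHomogeneousIdeal.toIdeal (i.2 : A) i.1 i.1.2 i.2.2 hxi
    obtain ⟨c, hc, rfl⟩ := (hιdeg n a).mpr ⟨han, hainv⟩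
    exact ⟨n, c, hn, hc, haP⟩
  -- (F3') the chart squares for ρ on invariant elements
  have hρ' : ∀ (σ : G) (n : ℕ) (c : C) (hn : 0 < n) (hc : c ∈ 𝒞 n),
      Proj.awayι 𝒜 (ι c) (hιmem hc) hn ≫ (ρ σ).inv =
        Spec.map (CommRingCat.ofHom (θσ' 𝒜 hGdeg σ (ι c) (hfixι σ c))) ≫
          Proj.awayι 𝒜 (ι c) (hιmem hc) hn := by
    intro σ n c hn hc
    have key : ∀ (f' : A) (e : σ • ι c = f') (hf' : f' ∈ 𝒜 n)
        (θ : CommRingCat.of (Away 𝒜 (ι c)) ⟶ CommRingCat.of (Away 𝒜 f')),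
        (∀ x : Away 𝒜 (ι c), ∃ (a : A) (k : ℕ),
          x.val = Localization.mk a (⟨ι c ^ k, ⟨k, rfl⟩⟩ : Submonoid.powers (ι c)) ∧
          (θ.hom x).val = Localization.mk (σ • a) (⟨f' ^ k, ⟨k, rfl⟩⟩ : Submonoid.powers f')) →
        Proj.awayι 𝒜 f' hf' hn ≫ (ρ σ).inv =
          Spec.map θ ≫ Proj.awayι 𝒜 (ι c) (hιmem hc) hn := by
      intro f' e
      subst e
      intro hf' θ hθ
      apply hρ σ n (ι c) hn (hιmem hc) θ
      ext x
      obtain ⟨a, k, h1, h2⟩ := hθ x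
      change (θ.hom x).val =
        Localization.awayMap (MulSemiringAction.toRingHom G A σ) (ι c) x.val
      rw [h1, h2, Localization.mk_eq_mk', Localization.mk_eq_mk', Localization.awayMap,
        IsLocalization.Away.map, IsLocalization.map_mk']
      congr 1
      apply Subtype.ext
      exact (smul_pow' σ (ι c) k).symm
    apply key (ι c) (hfixι σ c) (hιmem hc)
    intro x
    obtain ⟨k, a, ha, rfl⟩ := Away.mk_surjective 𝒜 (hιmem hc) x
    exact ⟨a, k, rfl, val_θσ'_mk 𝒜 hGdeg σ (ι c) (hfixι σ c) (hιmem hc) k a ha⟩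
  -- (F3) invariance
  have hinv' : ∀ σ : G, (ρ σ).inv ≫ π = π := by
    intro σ
    apply Scheme.hom_ext_of_forall
    intro x
    obtain ⟨n, c, hn, hc, hx⟩ := hcover x
    refine ⟨Proj.basicOpen 𝒜 (ι c), hx, ?_⟩
    have hιι : (Proj.basicOpen 𝒜 (ι c)).ι = (Proj.basicOpenIsoSpec 𝒜 (ι c) (hιmem hc) hn).hom ≫
        Proj.awayι 𝒜 (ι c) (hιmem hc) hn := by
      rw [Proj.awayι, Iso.hom_inv_id_assoc]
    have h1 : Proj.awayι 𝒜 (ι c) (hιmem hc) hn ≫ (ρ σ).inv ≫ π =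
        Proj.awayι 𝒜 (ι c) (hιmem hc) hn ≫ π := by
      rw [← Category.assoc, hρ' σ n c hn hc, Category.assoc, hπ' n c hn hc, ← Category.assoc,
        ← Spec.map_comp]
      congr 2
      ext x
      exact congrArg HomogeneousLocalization.val (θσ'_θπ 𝒜 hGdeg 𝒞 ι hιdeg σ c x)
    rw [hιι, Category.assoc, Category.assoc, h1]
  have hinv : ∀ σ : G, (ρ σ).hom ≫ π = π := by
    intro σ
    have h1 : (ρ σ⁻¹).inv = (ρ σ).hom := by
      rw [map_inv]; rfl
    rw [← h1]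
    exact hinv' σ⁻¹
  -- (F2) preimages of the basic opens
  have hpre : ∀ (n : ℕ) (c : C) (hn : 0 < n) (hc : c ∈ 𝒞 n),
      π ⁻¹ᵁ Proj.basicOpen 𝒞 c = Proj.basicOpen 𝒜 (ι c) := by
    intro n c hn hc
    apply le_antisymm
    · intro x hx
      obtain ⟨n', c', hn', hc', hx'⟩ := hcover x
      rw [← Proj.opensRange_awayι 𝒜 (ι c') (hιmem hc') hn'] at hx'
      obtain ⟨z, rfl⟩ := hx'
      have h1 : π.base ((Proj.awayι 𝒜 (ι c') (hιmem hc') hn').base z) =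
          (Proj.awayι 𝒞 c' hc' hn').base
            ((Spec.map (CommRingCat.ofHom (θπ 𝒜 𝒞 ι hιdeg c'))).base z) := by
        rw [← Scheme.Hom.comp_apply, hπ' n' c' hn' hc', Scheme.Hom.comp_apply]
      have h2 : (Spec.map (CommRingCat.ofHom (θπ 𝒜 𝒞 ι hιdeg c'))).base z ∈
          Proj.awayι 𝒞 c' hc' hn' ⁻¹ᵁ Proj.basicOpen 𝒞 c := by
        change (Proj.awayι 𝒞 c' hc' hn').base _ ∈ Proj.basicOpen 𝒞 c
        rw [← h1]; exact hx
      rw [Proj.awayι_preimage_basicOpen 𝒞 hc' hn' hc hn] at h2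
      have h3 : z ∈ Proj.awayι 𝒜 (ι c') (hιmem hc') hn' ⁻¹ᵁ Proj.basicOpen 𝒜 (ι c) := by
        rw [Proj.awayι_preimage_basicOpen 𝒜 (hιmem hc') hn' (hιmem hc) hn]
        have h4 : θπ 𝒜 𝒞 ι hιdeg c' (Away.isLocalizationElem hc' hc) =
            Away.isLocalizationElem (hιmem hc') (hιmem hc) := by
          rw [HomogeneousLocalization.ext_iff_val]
          unfold Away.isLocalizationElem
          rw [val_θπ_mk, Away.val_mk, map_pow]
        rw [← h4]
        exact h2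
      exact h3
    · rw [← Proj.opensRange_awayι 𝒜 (ι c) (hιmem hc) hn]
      rintro _ ⟨z, rfl⟩
      change π.base _ ∈ Proj.basicOpen 𝒞 c
      rw [← Scheme.Hom.comp_apply, hπ' n c hn hc, Scheme.Hom.comp_apply,
        ← Proj.opensRange_awayι 𝒞 c hc hn]
      exact ⟨_, rfl⟩
  -- the chart criterion on each basic open
  have hchart : ∀ (n : ℕ) (c : C) (hn : 0 < n) (hc : c ∈ 𝒞 n),
      IsAffineOpen (Proj.basicOpen 𝒞 c) ∧ IsAffineOpen (π ⁻¹ᵁ Proj.basicOpen 𝒞 c) ∧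
      Function.Injective (π.app (Proj.basicOpen 𝒞 c)).hom ∧
      ∀ s : Γ(Proj 𝒜, π ⁻¹ᵁ Proj.basicOpen 𝒞 c),
        (∀ g : G, (actHom ρ π hinv (Proj.basicOpen 𝒞 c) g).hom s = s) →
          s ∈ Set.range (π.app (Proj.basicOpen 𝒞 c)).hom := by
    intro n c hn hc
    refine chart_criterion ρ π hinv (Proj.basicOpen 𝒞 c) (Proj.awayι 𝒜 (ι c) (hιmem hc) hn)
      (Proj.awayι 𝒞 c hc hn) (CommRingCat.ofHom (θπ 𝒜 𝒞 ι hιdeg c)) (hπ' n c hn hc)
      (Proj.opensRange_awayι 𝒞 c hc hn)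
      ((Proj.opensRange_awayι 𝒜 (ι c) (hιmem hc) hn).trans (hpre n c hn hc).symm)
      (fun g => CommRingCat.ofHom (θσ' 𝒜 hGdeg g⁻¹ (ι c) (hfixι g⁻¹ c))) ?_
      (θπ_injective 𝒜 𝒞 ι hιdeg hι c hc) ?_
    · intro g
      rw [← hρ' g⁻¹ n c hn hc]
      congr 1
      rw [map_inv]; rfl
    · intro a ha
      refine mem_range_θπ 𝒜 hGdeg 𝒞 ι hιdeg c hc a (fun σ => ?_)
      have := ha σ⁻¹
      simp only [inv_inv] at this
      exact this
  refine isQuot_of_affine_cover ρ π hinv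
    {U | ∃ (n : ℕ) (c : C), 0 < n ∧ c ∈ 𝒞 n ∧ U = Proj.basicOpen 𝒞 c} ?_ ?_ ?_ ?_ ?_
  · intro y
    have hy := (Proj.affineOpenCover 𝒞).covers y
    generalize (Proj.affineOpenCover 𝒞).idx y = i at hy
    rw [Proj.affineOpenCover_f] at hy
    refine ⟨Proj.basicOpen 𝒞 (i.2 : C), ⟨i.1, i.2, i.1.2, i.2.2, rfl⟩, ?_⟩
    rw [← Proj.opensRange_awayι 𝒞 _ i.2.2 i.1.2]
    exact hy
  · rintro _ ⟨n, c, hn, hc, rfl⟩
    exact (hchart n c hn hc).1
  · rintro _ ⟨n, c, hn, hc, rfl⟩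
    exact (hchart n c hn hc).2.1
  · rintro _ ⟨n, c, hn, hc, rfl⟩
    exact (hchart n c hn hc).2.2.1
  · rintro _ ⟨n, c, hn, hc, rfl⟩
    exact (hchart n c hn hc).2.2.2

end Groth.Agent.S13181
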