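import Groth.Statements.S13184
import Mathlib.FieldTheory.Perfect
import Mathlib.FieldTheory.SeparableClosure
import Mathlib.FieldTheory.IsAlgClosed.Basic
import Mathlib.Algebra.Polynomial.Lifts
-- import your own Groth.Agent.* helpers here

set_option autoImplicit false
universe u
open ZeroCyc

namespace Groth.Agent.S13184

open Polynomial

section
variable {k : Type u} [Field k] (p : ℕ) [Fact p.Prime] [CharP k p]
  {Ω : Type u} [Field Ω] [Algebra k Ω] (e : ℕ)

/-- elements of the field generated by the `p^e`-th roots of elements of `k` are themselves such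
roots -/
lemma pow_mem_of_mem_adjoin (y : Ω)
    (hy : y ∈ IntermediateField.adjoin k {y : Ω | y ^ (p ^ e) ∈ Set.range (algebraMap k Ω)}) :
    y ^ (p ^ e) ∈ Set.range (algebraMap k Ω) := by
  have : CharP Ω p := charP_of_injective_algebraMap (algebraMap k Ω).injective p
  induction hy using IntermediateField.adjoin_induction with
  | mem x hx => exact hx
  | algebraMap x => exact ⟨x ^ p ^ e, by rw [map_pow]⟩
  | add x y _ _ hx hy =>
    obtain ⟨a, ha⟩ := hx
    obtain ⟨b, hb⟩ := hy
    exact ⟨a + b, by rw [map_add, ha, hb, add_pow_char_pow]⟩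
  | inv x _ hx =>
    obtain ⟨a, ha⟩ := hx
    exact ⟨a⁻¹, by rw [map_inv₀, ha, inv_pow]⟩
  | mul x y _ _ hx hy =>
    obtain ⟨a, ha⟩ := hx
    obtain ⟨b, hb⟩ := hy
    exact ⟨a * b, by rw [map_mul, ha, hb, mul_pow]⟩

end



/-- Let k ⊆ K be a finite extension of fields of characteristic p > 0, viewed inside an algebraically
closed field Ω, and for e ≥ 0 let k^{p^{-e}} ⊆ Ω be the field of elements whose p^e-th power lies in
k. Then the compositum k^{p^{-e}}K is separable over k^{p^{-e}} if and only if x^{p^e} is separable
over k for every x ∈ K; hence the exponent of K/k (the least n ≥ 1 with K^n separable over k, a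
power of p) is the least p^e for which k^{p^{-e}} ⊆ k^{p^{-e}}K is separable. -/
theorem result {k : Type u} [Field k] (p : ℕ) [Fact p.Prime] [CharP k p]
    {K : Type u} [Field K] [Algebra k K] [FiniteDimensional k K]
    {Ω : Type u} [Field Ω] [Algebra k Ω] [Algebra K Ω] [IsScalarTower k K Ω] [IsAlgClosed Ω] (e : ℕ) :
    (∀ x : Ω, x ∈ IntermediateField.adjoin k {y : Ω | y ^ (p ^ e) ∈ Set.range (algebraMap k Ω)} ⊔
        IntermediateField.adjoin k (Set.range (algebraMap K Ω)) →
      IsSeparable (IntermediateField.adjoin k {y : Ω | y ^ (p ^ e) ∈ Set.range (algebraMap k Ω)}) x) ↔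
    ∀ x : K, x ^ (p ^ e) ∈ separableClosure k K := by
  have hchar : CharP Ω p := charP_of_injective_algebraMap (algebraMap k Ω).injective p
  have hexp : ExpChar Ω p := ExpChar.prime Fact.out
  have hperf : PerfectRing Ω p := inferInstance
  set L := IntermediateField.adjoin k {y : Ω | y ^ (p ^ e) ∈ Set.range (algebraMap k Ω)} with hL
  let σ := iterateFrobeniusEquiv Ω p e
  have hσ : ∀ y, σ y = y ^ p ^ e := fun y => iterateFrobeniusEquiv_def Ω p e y
  constructor
  · intro h x
    rw [mem_separableClosure_iff]
    have hx' : algebraMap K Ω x ∈ L ⊔ IntermediateField.adjoin k (Set.range (algebraMap K Ω)) :=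
      (le_sup_right : _ ≤ L ⊔ _) (IntermediateField.subset_adjoin k _ ⟨x, rfl⟩)
    have hsep := h _ hx'
    set m := minpoly L (algebraMap K Ω x) with hm
    have hmsep : m.Separable := hsep
    have hlift : (m.map (algebraMap L Ω)).map (σ : Ω →+* Ω) ∈ lifts (algebraMap k Ω) := by
      rw [lifts_iff_coeff_lifts]
      intro n
      rw [coeff_map, coeff_map]
      exact pow_mem_of_mem_adjoin p e _ (m.coeff n).2
    obtain ⟨q, hq⟩ := (mem_lifts _).1 hlift
    have hqsep : q.Separable := by
      rw [← separable_map (algebraMap k Ω), hq]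
      exact (hmsep.map).map
    have hqroot : aeval (x ^ p ^ e) q = 0 := by
      apply (algebraMap K Ω).injective
      rw [map_zero, ← aeval_algebraMap_apply, map_pow, aeval_def, ← eval_map, hq, ← hσ]
      have : eval ((σ : Ω →+* Ω) ((algebraMap K Ω) x))
          (map (σ : Ω →+* Ω) (map (algebraMap (↥L) Ω) m)) = 0 := by
        rw [eval_map_apply, eval_map_algebraMap, hm, minpoly.aeval, map_zero]
      exact this
    exact hqsep.of_dvd (minpoly.dvd k _ hqroot)
  · intro h
    have hle : L ⊔ IntermediateField.adjoin k (Set.range (algebraMap K Ω)) ≤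
        (separableClosure L Ω).restrictScalars k := by
      refine sup_le ?_ ?_
      · intro y hy
        change y ∈ separableClosure L Ω
        exact (separableClosure L Ω).algebraMap_mem (⟨y, hy⟩ : L)
      · rw [IntermediateField.adjoin_le_iff]
        rintro _ ⟨x, rfl⟩
        change algebraMap K Ω x ∈ separableClosure L Ω
        rw [mem_separableClosure_iff]
        have hxs : IsSeparable k (x ^ p ^ e) := (mem_separableClosure_iff).1 (h x)
        set g := minpoly k (x ^ p ^ e) with hg
        have hgsep : g.Separable := hxs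
        have hlift : (g.map (algebraMap k Ω)).map (σ.symm : Ω →+* Ω) ∈ lifts (algebraMap L Ω) := by
          rw [lifts_iff_coeff_lifts]
          intro n
          rw [coeff_map, coeff_map]
          refine ⟨⟨σ.symm (algebraMap k Ω (g.coeff n)), ?_⟩, rfl⟩
          apply IntermediateField.subset_adjoin
          refine ⟨g.coeff n, ?_⟩
          rw [← hσ, RingEquiv.apply_symm_apply]
        obtain ⟨q, hq⟩ := (mem_lifts _).1 hlift
        have hqsep : q.Separable := by
          rw [← separable_map (algebraMap L Ω), hq]
          exact (hgsep.map).map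
        have hqroot : aeval (algebraMap K Ω x) q = 0 := by
          rw [aeval_def, ← eval_map, hq]
          have hx2 : algebraMap K Ω x = (σ.symm : Ω →+* Ω) (algebraMap K Ω (x ^ p ^ e)) := by
            rw [map_pow, ← hσ, RingEquiv.coe_toRingHom, RingEquiv.symm_apply_apply]
          rw [hx2, eval_map_apply, eval_map_algebraMap, aeval_algebraMap_apply, hg, minpoly.aeval,
            map_zero, map_zero]
        exact hqsep.of_dvd (minpoly.dvd L _ hqroot)
    intro x hx
    exact (mem_separableClosure_iff).1 (hle hx)

end Groth.Agent.S13184
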