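import Groth.Statements.S13185
import Groth.Agent.Lib.Helper15.GpH1Lemmas
open Groth.Agent.Lib.Helper15.GpH1L GpH1
-- import your own Groth.Agent.* helpers here

set_option autoImplicit false
universe u v w x
open GalCoh

namespace Groth.Agent.S13185

/-- Let a group G act by automorphisms on groups A, B, C and let 1 → A → B → C → 1 (maps ι, π) be a
G-equivariant short exact sequence. For G-fixed elements c, c' of C, the connecting map to H¹(G, A)
takes equal values on c and c' if and only if c' = π(b) · c for some G-fixed b in B: the fibres of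
the connecting map are the orbits of the fixed points of B acting on the fixed points of C by left
multiplication. (The published statement is for a Galois group acting on discrete modules; this row
takes an arbitrary group acting on groups, which is what the argument proves.) -/
theorem result {G : Type u} {A : Type v} {B : Type w} {C : Type x}
    [Group G] [Group A] [Group B] [Group C]
    [MulDistribMulAction G A] [MulDistribMulAction G B] [MulDistribMulAction G C]
    {ι : A →* B} {π : B →* C} (h : GpH1.IsGExt G ι π)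
    (c c' : MulAction.fixedPoints G C) :
    GpH1.delta0 h c = GpH1.delta0 h c' ↔
      ∃ b : B, b ∈ MulAction.fixedPoints G B ∧ (c' : C) = π b * (c : C) := by
  obtain ⟨b₁, hb₁⟩ := h.surjective c.1
  obtain ⟨b₂, hb₂⟩ := h.surjective c'.1
  rw [delta0_eq h c b₁ hb₁, delta0_eq h c' b₂ hb₂]
  constructor
  · intro hd
    obtain ⟨n, hn⟩ := (OneCocycle.cl_eq_cl_iff _ _).mp hd
    refine ⟨b₂ * ι n * b₁⁻¹, fun σ => ?_, ?_⟩
    · have h1 := h.ι_cocycleOfLift b₁ (hb₁ ▸ c.2) σ
      rw [hn σ, map_mul, map_mul, map_inv, h.smul_ι, h.ι_cocycleOfLift] at h1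
      have h2 : σ • b₁ = b₁ * ((ι n)⁻¹ * (b₂⁻¹ * σ • b₂) * σ • ι n) := by
        rw [h1, mul_inv_cancel_left]
      rw [smul_mul', smul_mul', smul_inv', h2]
      group
    · rw [map_mul, map_mul, π_ι h, mul_one, map_inv, hb₁, hb₂, inv_mul_cancel_right]
  · rintro ⟨b, hbfix, hcc⟩
    have hb₂' : π (b * b₁) = (c' : C) := by rw [map_mul, hb₁, hcc]
    rw [cl_cocycleOfLift_eq h (b * b₁) b₂ (hb₂' ▸ c'.2) (hb₂ ▸ c'.2) (hb₂'.trans hb₂.symm)]
    congr 1
    refine OneCocycle.ext fun σ => ?_
    rw [cocycleOfLift_eq_iff, h.ι_cocycleOfLift, smul_mul', hbfix σ]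
    group

end Groth.Agent.S13185
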