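import Groth.Statements.S13186
import Groth.Agent.Lib.Helper25.Hilbert90GL
-- import your own Groth.Agent.* helpers here

set_option autoImplicit false
universe u
open GalCoh

namespace Groth.Agent.S13186

/-- Let L/K be a finite Galois extension of fields, n a natural number, and B a map from the Galois
group of L over K to the invertible n × n matrices over L such that B(σ) · σ(B(τ)) = B(στ) for all
σ, τ (σ acting on matrices entrywise, στ applying τ first) and det B(σ) = 1 for every σ. Then there
is an invertible matrix A over L of determinant 1 with B(σ) = A⁻¹ · σ(A) for every σ; that is, every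
1-cocycle of the Galois group with values in SL_n(L) is the coboundary of an element of SL_n(L), so
H¹ of the Galois group with values in SL_n(L) is a point. (The published statement says that every
torsor under the special linear group over K is trivial; this row is the finite-Galois-level cocycle
form that its proof establishes.) -/
theorem result (K L : Type u) [Field K] [Field L]
    [Algebra K L] [FiniteDimensional K L] [IsGalois K L] (n : ℕ)
    (B : (L ≃ₐ[K] L) → GL (Fin n) L)
    (hB : ∀ σ τ : L ≃ₐ[K] L,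
      (B σ : Matrix (Fin n) (Fin n) L) * (B τ : Matrix (Fin n) (Fin n) L).map σ =
        (B (σ * τ) : Matrix (Fin n) (Fin n) L))
    (hdet : ∀ σ : L ≃ₐ[K] L, Matrix.det (B σ : Matrix (Fin n) (Fin n) L) = 1) :
    ∃ A : GL (Fin n) L, Matrix.det (A : Matrix (Fin n) (Fin n) L) = 1 ∧ ∀ σ : L ≃ₐ[K] L,
      (B σ : Matrix (Fin n) (Fin n) L) =
        ((A⁻¹ : GL (Fin n) L) : Matrix (Fin n) (Fin n) L) * (A : Matrix (Fin n) (Fin n) L).map σ := by
  classical
  obtain ⟨A, hA⟩ := Groth.Agent.Lib.Helper25.exists_eq_inv_mul_map_of_cocycle B hB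
  rcases Nat.eq_zero_or_pos n with rfl | hn
  · exact ⟨A, Matrix.det_isEmpty, hA⟩
  set d : L := Matrix.det (A : Matrix (Fin n) (Fin n) L) with hd
  have hd0 : d ≠ 0 := by
    have := (Matrix.isUnit_iff_isUnit_det _).1 A.isUnit
    exact this.ne_zero
  have hdetinv : Matrix.det ((A⁻¹ : GL (Fin n) L) : Matrix (Fin n) (Fin n) L) = d⁻¹ := by
    have h : ((A⁻¹ : GL (Fin n) L) : Matrix (Fin n) (Fin n) L) * (A : Matrix (Fin n) (Fin n) L) = 1 :=
      Units.inv_mul A
    have h2 := congrArg Matrix.det h
    rw [Matrix.det_mul, Matrix.det_one] at h2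
    exact eq_inv_of_mul_eq_one_left h2
  -- `d` is Galois-invariant
  have hfix : ∀ σ : L ≃ₐ[K] L, σ d = d := by
    intro σ
    have h := congrArg Matrix.det (hA σ)
    rw [hdet σ, Matrix.det_mul, hdetinv] at h
    have hmapdet : Matrix.det ((A : Matrix (Fin n) (Fin n) L).map σ) = σ d := by
      rw [hd]
      exact ((σ : L →+* L).map_det (A : Matrix (Fin n) (Fin n) L)).symm
    rw [hmapdet] at h
    field_simp at h
    exact h.symm
  let i₀ : Fin n := ⟨0, hn⟩
  let v : Fin n → L := Function.update (fun _ => (1 : L)) i₀ d⁻¹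
  let D : Matrix (Fin n) (Fin n) L := Matrix.diagonal v
  have hvfix : ∀ (σ : L ≃ₐ[K] L) (i : Fin n), σ (v i) = v i := by
    intro σ i
    by_cases hi : i = i₀
    · subst hi
      simp [v, hfix σ]
    · simp [v, Function.update_of_ne hi]
  have hDmap : ∀ σ : L ≃ₐ[K] L, D.map σ = D := by
    intro σ
    ext i j
    by_cases hij : i = j
    · subst hij
      simp [D, hvfix σ i]
    · simp [D, Matrix.diagonal_apply_ne _ hij]
  have hDdet : Matrix.det D = d⁻¹ := by
    simp only [D, Matrix.det_diagonal, v]
    rw [Finset.prod_update_of_mem (Finset.mem_univ i₀)]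
    simp
  have hDunit : IsUnit D := by
    rw [Matrix.isUnit_iff_isUnit_det, hDdet]
    exact (inv_ne_zero hd0).isUnit
  obtain ⟨U, hU⟩ := hDunit
  refine ⟨U * A, ?_, fun σ => ?_⟩
  · rw [Units.val_mul, Matrix.det_mul, hU, hDdet, ← hd, inv_mul_cancel₀ hd0]
  · rw [hA σ, mul_inv_rev, Units.val_mul, Units.val_mul, Matrix.map_mul, hU, hDmap σ, ← hU]
    rw [mul_assoc, ← mul_assoc ((U⁻¹ : GL (Fin n) L) : Matrix (Fin n) (Fin n) L)]
    have : ((U⁻¹ : GL (Fin n) L) : Matrix (Fin n) (Fin n) L) * (U : Matrix (Fin n) (Fin n) L) = 1 :=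
      Units.inv_mul U
    rw [this, one_mul]

end Groth.Agent.S13186
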