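import Groth.Statements.S13188
import Mathlib
import Groth.Agent.Lib.Helper8.TsenLang

set_option autoImplicit false
universe u v w
open Brauer

namespace Groth.Agent.S13188

open MvPolynomial in
/-- value of a form at a scaled point -/
theorem eval_smul_of_isHomogeneous {K : Type*} [CommRing K] {ι : Type*} {F : MvPolynomial ι K}
    {d : ℕ} (hF : F.IsHomogeneous d) (z : K) (x : ι → K) :
    eval (fun i => z * x i) F = z ^ d * eval x F := by
  rw [eval_eq, eval_eq, Finset.mul_sum]
  refine Finset.sum_congr rfl fun m hm => ?_
  have hdeg := hF.degree_eq_sum_deg_support hm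
  simp only [mul_pow, Finset.prod_mul_distrib, Finset.prod_pow_eq_pow_sum]
  rw [← hdeg]
  ring


open MvPolynomial in
/-- Let K be a field with property C_2 for systems of forms and D a finite-dimensional central division
algebra over K with dim_K D = d². Let N : D → K be multiplicative, a reduced norm of D over K, and
given in the coordinates of a K-basis b of D by a homogeneous polynomial F of degree d, i.e. N(Σ x_i
b_i) = F(x) for every coordinate vector x (the reduced norm of a central simple algebra of dimension
d² is such a polynomial map of degree d; these data record it). Then N : D → K is surjective. -/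
theorem result (K : Type u) [Field K] (hK : Curves.IsCi K 2)
    (D : Type v) [DivisionRing D] [Algebra K D] [Algebra.IsCentral K D] [FiniteDimensional K D]
    (d : ℕ) (hd : Module.finrank K D = d ^ 2)
    (N : D →* K) (hN : CSAGal.IsRedNorm K D N)
    {ι : Type w} [Fintype ι] (b : Module.Basis ι K D)
    (F : MvPolynomial ι K) (hF : F.IsHomogeneous d)
    (hNF : ∀ x : ι → K, N (∑ i, x i • b i) = MvPolynomial.eval x F) :
    Function.Surjective N := by
  classical
  intro c
  have hd0 : 0 < d := by
    rcases Nat.eq_zero_or_pos d with h | h
    · exfalso
      have hpos : 0 < Module.finrank K D := Module.finrank_pos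
      rw [hd, h] at hpos
      simp at hpos
    · exact h
  have hcard : Fintype.card ι = d ^ 2 := by rw [← hd, Module.finrank_eq_card_basis b]
  let G : MvPolynomial (Option ι) K := rename some F - C c * X none ^ d
  have hG : G.IsHomogeneous d :=
    (hF.rename_isHomogeneous).sub (isHomogeneous_C_mul_X_pow c none d)
  obtain ⟨y, hy0, hy⟩ := Groth.Agent.Lib.Helper8.TsenLang.isCi_fintype hK (ι := Unit)
    (σ := Option ι) (fun _ => G) (fun _ => d) (fun _ => hG) (fun _ => hd0)
    (by simp [Fintype.card_option, hcard])
  have hy' := hy ()
  simp only [G, map_sub, eval_rename, map_mul, eval_C, map_pow, eval_X] at hy'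
  let x : ι → K := fun i => y (some i)
  have hFx : eval x F = c * y none ^ d := by
    have : eval (y ∘ some) F = eval x F := rfl
    rw [← this]
    exact sub_eq_zero.mp hy'
  have hN0 : ∀ u : D, u ≠ 0 → N u ≠ 0 := by
    intro u hu h0
    have h1 : N (u * u⁻¹) = 1 := by rw [mul_inv_cancel₀ hu, map_one]
    rw [map_mul, h0, zero_mul] at h1
    exact zero_ne_one h1
  by_cases hz : y none = 0
  · exfalso
    have hx0 : x ≠ 0 := by
      intro h
      apply hy0
      funext o
      cases o with
      | none => exact hz
      | some i => exact congrFun h i
    have hu : (∑ i, x i • b i) ≠ 0 := by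
      intro h0
      apply hx0
      have h1 := b.repr_sum_self x
      rw [h0] at h1
      funext i
      have := congrFun h1 i
      simpa using this.symm
    apply hN0 _ hu
    rw [hNF, hFx, hz, zero_pow hd0.ne', mul_zero]
  · refine ⟨∑ i, ((y none)⁻¹ * x i) • b i, ?_⟩
    rw [hNF, eval_smul_of_isHomogeneous hF, hFx, inv_pow]
    field_simp

end Groth.Agent.S13188
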