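import Groth.Statements.S13189
import Mathlib.FieldTheory.Finite.Polynomial
import Mathlib.FieldTheory.Finite.Basic

set_option autoImplicit false
universe u
open CAlg

namespace Groth.Agent.S13189

lemma pow_reduce {Q : Type*} [CommRing Q] (q : ℕ) (hq : 2 ≤ q) (x : Q) (hx : x ^ q = x) (e : ℕ) :
    ∃ e' ≤ q - 1, x ^ e = x ^ e' := by
  induction e using Nat.strong_induction_on with
  | _ e ih =>
    by_cases he : e ≤ q - 1
    · exact ⟨e, he, rfl⟩
    · obtain ⟨e', he', h⟩ := ih (e - q + 1) (by omega)
      refine ⟨e', he', ?_⟩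
      rw [← h, pow_succ, ← pow_mul_pow_sub x (show q ≤ e by omega), hx, mul_comm]

/-- vanishing of a polynomial of restricted degree (universe-polymorphic index). -/
lemma eq_zero_of_restrict (K : Type u) [Field K] [Fintype K] (n : ℕ)
    (p : MvPolynomial (Fin n) K) (h : ∀ a : Fin n → K, MvPolynomial.eval a p = 0)
    (hp : p ∈ MvPolynomial.restrictDegree (Fin n) K (Fintype.card K - 1)) : p = 0 := by
  classical
  have hinj : Function.Injective (ULift.up.{u} : Fin n → ULift.{u} (Fin n)) := ULift.up_injective
  apply MvPolynomial.rename_injective _ hinj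
  rw [map_zero]
  apply MvPolynomial.eq_zero_of_eval_eq_zero
  · intro v
    rw [MvPolynomial.eval_rename]
    exact h _
  · rw [MvPolynomial.mem_restrictDegree] at hp ⊢
    intro s hs i
    rw [MvPolynomial.support_rename_of_injective hinj, Finset.mem_image] at hs
    obtain ⟨s', hs', rfl⟩ := hs
    obtain ⟨i⟩ := i
    rw [Finsupp.mapDomain_apply hinj]
    exact hp s' hs' i

/-- For a finite field K of cardinality q and n ≥ 0, a polynomial p in n variables over K vanishes at
every point of K^n if and only if p belongs to the ideal generated by the X_i^q − X_i, i = 1, …, n;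
in other words that ideal is the kernel of the evaluation homomorphism from K[X_1, …, X_n] to the
ring of K-valued functions on K^n. -/
theorem result (K : Type u) [Field K] [Fintype K]
    (n : ℕ) (p : MvPolynomial (Fin n) K) :
    (∀ a : Fin n → K, MvPolynomial.eval a p = 0) ↔
      p ∈ Ideal.span (Set.range fun i : Fin n =>
        (MvPolynomial.X i ^ Fintype.card K - MvPolynomial.X i : MvPolynomial (Fin n) K)) := by
  classical
  set q := Fintype.card K with hq
  have hq2 : 2 ≤ q := Fintype.one_lt_card
  set I : Ideal (MvPolynomial (Fin n) K) := Ideal.span (Set.range fun i : Fin n =>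
        (MvPolynomial.X i ^ q - MvPolynomial.X i : MvPolynomial (Fin n) K)) with hI
  -- elements of `I` vanish everywhere
  have hvan : ∀ f ∈ I, ∀ a : Fin n → K, MvPolynomial.eval a f = 0 := by
    intro f hf a
    have : I ≤ RingHom.ker (MvPolynomial.eval a) := by
      rw [hI, Ideal.span_le]
      rintro _ ⟨i, rfl⟩
      simp only [SetLike.mem_coe, RingHom.mem_ker, map_sub, map_pow, MvPolynomial.eval_X]
      rw [hq, FiniteField.pow_card, sub_self]
    exact this hf
  refine ⟨fun h ↦ ?_, fun h a ↦ hvan p h a⟩
  -- reduction modulo `I`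
  have hx : ∀ i : Fin n, (Ideal.Quotient.mk I (MvPolynomial.X i)) ^ q =
      Ideal.Quotient.mk I (MvPolynomial.X i) := by
    intro i
    rw [← map_pow, Ideal.Quotient.eq]
    exact Ideal.subset_span ⟨i, rfl⟩
  choose r hr hr' using fun (i : Fin n) (e : ℕ) ↦
    pow_reduce q hq2 (Ideal.Quotient.mk I (MvPolynomial.X i)) (hx i) e
  let red : (Fin n →₀ ℕ) → (Fin n →₀ ℕ) := fun s ↦
    Finsupp.equivFunOnFinite.symm (fun i ↦ r i (s i))
  have hmono : ∀ (s : Fin n →₀ ℕ) (a : K),
      Ideal.Quotient.mk I (MvPolynomial.monomial s a) =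
        Ideal.Quotient.mk I (MvPolynomial.monomial (red s) a) := by
    intro s a
    rw [MvPolynomial.monomial_eq, MvPolynomial.monomial_eq, map_mul, map_mul]
    congr 1
    rw [Finsupp.prod_fintype _ _ (fun i ↦ pow_zero _), Finsupp.prod_fintype _ _ (fun i ↦ pow_zero _),
      map_prod, map_prod]
    refine Finset.prod_congr rfl fun i _ ↦ ?_
    rw [map_pow, map_pow, hr' i (s i)]
    rfl
  set p' : MvPolynomial (Fin n) K :=
    ∑ s ∈ p.support, MvPolynomial.monomial (red s) (MvPolynomial.coeff s p) with hp'
  have hpp' : p - p' ∈ I := by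
    rw [← Ideal.Quotient.eq]
    conv_lhs => rw [p.as_sum]
    rw [hp', map_sum, map_sum]
    exact Finset.sum_congr rfl fun s _ ↦ hmono s _
  have hp'res : p' ∈ MvPolynomial.restrictDegree (Fin n) K (q - 1) := by
    refine Submodule.sum_mem _ fun s _ ↦ ?_
    rw [MvPolynomial.mem_restrictDegree]
    intro t ht i
    have := MvPolynomial.support_monomial_subset ht
    rw [Finset.mem_singleton] at this
    rw [this]
    exact hr i (s i)
  have hp'van : ∀ a : Fin n → K, MvPolynomial.eval a p' = 0 := by
    intro a
    have h1 := hvan _ hpp' a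
    rw [map_sub, h a, zero_sub, neg_eq_zero] at h1
    exact h1
  have hp'0 : p' = 0 := eq_zero_of_restrict K n p' hp'van hp'res
  rw [hp'0, sub_zero] at hpp'
  exact hpp'

end Groth.Agent.S13189
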