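import Groth.Statements.S1319
import Mathlib
import Groth.Agent.Lib.Helper10.Deform2
import Groth.Agent.S1318

set_option autoImplicit false
universe u
open FlatMor

namespace Groth.Agent.S1319

open AlgebraicGeometry CategoryTheory Limits in
/-- Let S ⟶ S' be a finite order thickening, let X' ⟶ Y' be a morphism of schemes over S' with X' flat
over S', and let X ⟶ Y be its base change to S. Then X' ⟶ Y' is an open immersion exactly when X ⟶ Y
is one. -/
theorem result {X X' Y Y' S S' : Scheme.{u}} (iX : X ⟶ X') (iY : Y ⟶ Y') (iS : S ⟶ S')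
    (f : X ⟶ Y) (f' : X' ⟶ Y') (g : Y ⟶ S) (g' : Y' ⟶ S')
    (hS : MoreMor.IsFiniteOrderThickening iS) (hcX : IsPullback iX (f ≫ g) (f' ≫ g') iS) (hcY : IsPullback iY g g' iS)
    (w : iX ≫ f' = f ≫ iY) [Flat (f' ≫ g')] :
    IsOpenImmersion f ↔ IsOpenImmersion f' := by
  have hsq := Groth.Agent.Lib.Helper10.Deform.isPullback_top iX iY iS f f' g g' hcX hcY w
  obtain ⟨⟨hcl, hsurj⟩, hnil⟩ := id hS
  haveI : IsClosedImmersion iS := hcl
  haveI : Surjective iS := hsurj
  haveI : IsClosedImmersion iY :=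
    MorphismProperty.of_isPullback (P := @IsClosedImmersion) hcY.flip hcl
  haveI : IsClosedImmersion iX :=
    MorphismProperty.of_isPullback (P := @IsClosedImmersion) hcX.flip hcl
  haveI : Surjective iY := MorphismProperty.of_isPullback (P := @Surjective) hcY.flip hsurj
  haveI : Surjective iX := MorphismProperty.of_isPullback (P := @Surjective) hcX.flip hsurj
  constructor
  · intro hf
    have hcomm : ∀ x, f' (iX x) = iY (f x) := fun x => by
      rw [← Scheme.Hom.comp_apply, w, Scheme.Hom.comp_apply]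
    have hopen : IsOpen (Set.range f) := f.isOpenEmbedding.isOpen_range
    let V' : Y'.Opens := ⟨(iY '' ((Set.range f)ᶜ))ᶜ,
      (iY.isClosedEmbedding.isClosedMap _ hopen.isClosed_compl).isOpen_compl⟩
    have hV'mem : ∀ y, iY y ∈ V' ↔ y ∈ Set.range f := by
      intro y
      constructor
      · intro hy
        by_contra hny
        exact hy ⟨y, hny, rfl⟩
      · rintro hy ⟨v, hv, hvy⟩
        exact hv (iY.isClosedEmbedding.injective hvy ▸ hy)
    have hr' : Set.range f' ⊆ Set.range V'.ι := by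
      rintro _ ⟨x', rfl⟩
      obtain ⟨x, rfl⟩ := iX.surjective x'
      rw [Scheme.Opens.range_ι, hcomm]
      exact (hV'mem _).mpr ⟨x, rfl⟩
    have hr : Set.range f ⊆ Set.range (iY ⁻¹ᵁ V').ι := by
      rintro _ ⟨x, rfl⟩
      rw [Scheme.Opens.range_ι]
      exact (hV'mem _).mpr ⟨x, rfl⟩
    let g'₀ : X' ⟶ V' := IsOpenImmersion.lift V'.ι f' hr'
    let g₀ : X ⟶ (iY ⁻¹ᵁ V' : Y.Opens) := IsOpenImmersion.lift (iY ⁻¹ᵁ V').ι f hr
    have hg' : g'₀ ≫ V'.ι = f' := IsOpenImmersion.lift_fac _ _ _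
    have hg₀ : g₀ ≫ (iY ⁻¹ᵁ V').ι = f := IsOpenImmersion.lift_fac _ _ _
    haveI : IsOpenImmersion (g₀ ≫ (iY ⁻¹ᵁ V').ι) := by rw [hg₀]; infer_instance
    haveI : IsOpenImmersion g₀ := IsOpenImmersion.of_comp g₀ (iY ⁻¹ᵁ V').ι
    haveI : Surjective g₀ := by
      refine ⟨fun v => ?_⟩
      have hv : (iY ⁻¹ᵁ V').ι v ∈ Set.range f := (hV'mem _).mp v.2
      obtain ⟨x, hx⟩ := hv
      refine ⟨x, ?_⟩
      apply (iY ⁻¹ᵁ V').ι.isOpenEmbedding.injective
      rw [← Scheme.Hom.comp_apply, hg₀, hx]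
    haveI : IsIso g₀ := (isIso_iff_isOpenImmersion_and_surjective g₀).mpr ⟨inferInstance, inferInstance⟩
    have hbot : IsPullback (iY ∣_ V') (iY ⁻¹ᵁ V').ι V'.ι iY := isPullback_morphismRestrict iY V'
    have hcY' : IsPullback (iY ∣_ V') ((iY ⁻¹ᵁ V').ι ≫ g) (V'.ι ≫ g') iS :=
      IsPullback.paste_vert hbot hcY
    have hw : iX ≫ g'₀ = g₀ ≫ (iY ∣_ V') := by
      rw [← cancel_mono V'.ι, Category.assoc, Category.assoc, hg', morphismRestrict_ι,
        ← Category.assoc, hg₀, w]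
    have hcX' : IsPullback iX (g₀ ≫ (iY ⁻¹ᵁ V').ι ≫ g) (g'₀ ≫ V'.ι ≫ g') iS := by
      rw [← Category.assoc, ← Category.assoc, hg₀, hg']
      exact hcX
    haveI : Flat (g'₀ ≫ V'.ι ≫ g') := by
      rw [← Category.assoc, hg']
      infer_instance
    haveI : IsIso g'₀ :=
      (Groth.Agent.S1318.result iX (iY ∣_ V') iS g₀ g'₀ ((iY ⁻¹ᵁ V').ι ≫ g) (V'.ι ≫ g')
        hS hcX' hcY' hw).mp inferInstance
    rw [← hg']
    infer_instance
  · intro hf'
    exact MorphismProperty.of_isPullback (P := @IsOpenImmersion) hsq hf'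

end Groth.Agent.S1319
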