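import Groth.Statements.S13198
import Mathlib
import Groth.Agent.Lib.Helper4.HzsBC1

set_option autoImplicit false
universe u
open scoped TensorProduct
open Hensel

namespace Groth.Agent.S13198

open Groth.Agent.Lib.Helper4 in
/-- Let R be a local ring which is strictly henselian (henselian, with separably closed residue field),
A a local ring which is an integral R-algebra with local structure map and whose residue field is
purely inseparable over that of R, and B a local ring with a local homomorphism R → B. Then A ⊗_R B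
is a local ring, the map B → A ⊗_R B is local, and the residue field extension of A ⊗_R B over B is
purely inseparable: every element of A ⊗_R B has a p^n-th power, p the characteristic exponent of
the residue field of B, congruent modulo the maximal ideal to an element 1 ⊗ b. -/
theorem result
    (R A B : Type u) [CommRing R] [HenselianLocalRing R] [IsSepClosed (IsLocalRing.ResidueField R)]
    [CommRing A] [IsLocalRing A] [Algebra R A] [IsLocalHom (algebraMap R A)] [Algebra.IsIntegral R A]
    [IsPurelyInseparable (IsLocalRing.ResidueField R) (IsLocalRing.ResidueField A)]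
    [CommRing B] [IsLocalRing B] [Algebra R B] [IsLocalHom (algebraMap R B)] :
    ∃ _ : IsLocalRing (A ⊗[R] B),
      IsLocalHom (Algebra.TensorProduct.includeRight : B →ₐ[R] A ⊗[R] B).toRingHom ∧
      ∀ x : A ⊗[R] B, ∃ (n : ℕ) (b : B),
        x ^ (ringExpChar (IsLocalRing.ResidueField B)) ^ n - (1 : A) ⊗ₜ[R] b ∈ IsLocalRing.maximalIdeal (A ⊗[R] B) := by
  classical
  have hBA : IsLocalRing (B ⊗[R] A) := Hzs.bc_isLocalRing R A B
  let e : A ⊗[R] B ≃ₐ[R] B ⊗[R] A := Algebra.TensorProduct.comm R A B
  have hAB : IsLocalRing (A ⊗[R] B) := e.symm.toRingEquiv.isLocalRing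
  have hloc1 : IsLocalHom (Algebra.TensorProduct.includeRight : B →ₐ[R] A ⊗[R] B).toRingHom := by
    have h1 := Hzs.bc_isLocalHom_left R A B
    constructor
    intro b hb
    have h2 : IsUnit (algebraMap B (B ⊗[R] A) b) := by
      have h3 := hb.map e
      have h4 : e ((Algebra.TensorProduct.includeRight : B →ₐ[R] A ⊗[R] B).toRingHom b) =
          algebraMap B (B ⊗[R] A) b := by
        change e ((1 : A) ⊗ₜ[R] b) = _
        rw [Algebra.TensorProduct.comm_tmul]
        rfl
      rwa [h4] at h3
    exact h1.map_nonunit b h2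
  have hloc2 : ∀ a ∈ IsLocalRing.maximalIdeal A,
      (a ⊗ₜ[R] (1 : B) : A ⊗[R] B) ∈ IsLocalRing.maximalIdeal (A ⊗[R] B) := by
    intro a ha
    have h1 := Hzs.bc_isLocalHom_right R A B
    rw [IsLocalRing.mem_maximalIdeal, mem_nonunits_iff] at ha ⊢
    intro hu
    apply ha
    have h3 := hu.map e
    rw [Algebra.TensorProduct.comm_tmul] at h3
    exact h1.map_nonunit a h3
  refine ⟨hAB, hloc1, ?_⟩
  set q := ringExpChar (IsLocalRing.ResidueField B) with hq
  have hqB : ExpChar (IsLocalRing.ResidueField B) q := ringExpChar.expChar _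
  have hqR : ExpChar (IsLocalRing.ResidueField R) q :=
    RingHom.expChar (algebraMap (IsLocalRing.ResidueField R) (IsLocalRing.ResidueField B))
      (algebraMap (IsLocalRing.ResidueField R) (IsLocalRing.ResidueField B)).injective q
  let K := IsLocalRing.ResidueField (A ⊗[R] B)
  let π : A ⊗[R] B →+* K := IsLocalRing.residue (A ⊗[R] B)
  have hqK : ExpChar K q := by
    let f : IsLocalRing.ResidueField B →+* K :=
      IsLocalRing.ResidueField.map (Algebra.TensorProduct.includeRight : B →ₐ[R] A ⊗[R] B).toRingHom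
    exact expChar_of_injective_ringHom f.injective q
  have key : ∀ x : A ⊗[R] B, ∃ (n : ℕ) (b : B), π x ^ q ^ n = π ((1 : A) ⊗ₜ[R] b) := by
    intro x
    induction x using TensorProduct.induction_on with
    | zero => exact ⟨0, 0, by simp⟩
    | tmul a b =>
      obtain ⟨n, y, hy⟩ := IsPurelyInseparable.pow_mem (IsLocalRing.ResidueField R) q
        (IsLocalRing.residue A a)
      obtain ⟨r, rfl⟩ := IsLocalRing.residue_surjective y
      rw [IsLocalRing.ResidueField.algebraMap_residue, ← map_pow] at hy
      have h1 : a ^ q ^ n - algebraMap R A r ∈ IsLocalRing.maximalIdeal A := by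
        rw [← IsLocalRing.residue_eq_zero_iff, map_sub, hy, sub_self]
      have h2 := hloc2 _ h1
      rw [← IsLocalRing.residue_eq_zero_iff, TensorProduct.sub_tmul, map_sub, sub_eq_zero] at h2
      refine ⟨n, r • b ^ q ^ n, ?_⟩
      have h3 : (a ⊗ₜ[R] b : A ⊗[R] B) = (a ⊗ₜ[R] (1 : B)) * ((1 : A) ⊗ₜ[R] b) := by
        rw [Algebra.TensorProduct.tmul_mul_tmul, mul_one, one_mul]
      have h4 : ((1 : A) ⊗ₜ[R] (r • b ^ q ^ n) : A ⊗[R] B) =
          (algebraMap R A r ⊗ₜ[R] (1 : B)) * ((1 : A) ⊗ₜ[R] b) ^ q ^ n := by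
        rw [Algebra.TensorProduct.tmul_pow, one_pow, Algebra.TensorProduct.tmul_mul_tmul, mul_one,
          one_mul, Algebra.algebraMap_eq_smul_one, TensorProduct.smul_tmul]
      rw [h3, map_mul, mul_pow, h4, map_mul, map_pow, ← h2, ← map_pow, ← map_pow,
        Algebra.TensorProduct.tmul_pow, one_pow]
    | add x y hx hy =>
      obtain ⟨n1, b1, h1⟩ := hx
      obtain ⟨n2, b2, h2⟩ := hy
      refine ⟨n1 + n2, b1 ^ q ^ n2 + b2 ^ q ^ n1, ?_⟩
      rw [map_add, add_pow_expChar_pow, TensorProduct.tmul_add, map_add]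
      congr 1
      · rw [pow_add, pow_mul, h1, ← map_pow, Algebra.TensorProduct.tmul_pow, one_pow]
      · rw [add_comm n1 n2, pow_add, pow_mul, h2, ← map_pow, Algebra.TensorProduct.tmul_pow, one_pow]
  intro x
  obtain ⟨n, b, h⟩ := key x
  refine ⟨n, b, ?_⟩
  rw [← IsLocalRing.residue_eq_zero_iff, map_sub, map_pow, sub_eq_zero]
  exact h

end Groth.Agent.S13198
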