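import Groth.Statements.S13200
import Mathlib
import Groth.Agent.Lib.Helper4.HzsUnibr
import Groth.Agent.Lib.Helper9.NormalFF3
import Groth.Agent.Lib.Helper18.PMor4
import Groth.Agent.Lib.Helper18.Exc

set_option autoImplicit false
universe u
open Hensel

namespace Groth.Agent.S13200

set_option synthInstance.maxHeartbeats 400000 in
set_option maxHeartbeats 2000000 in
open TensorProduct in
/-- Let R be an excellent local ring which is strictly henselian (henselian with separably closed
residue field), and let R^ denote its completion at the maximal ideal. An element Δ of R is a prime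
element of R exactly when its image in R^ is a prime element of R^. -/
theorem result
    (R : Type u) [CommRing R] [HenselianLocalRing R] [IsSepClosed (IsLocalRing.ResidueField R)]
    (hR : EGA4.IsExcellent R) (Δ : R) :
    Prime Δ ↔ Prime (algebraMap R (AdicCompletion (IsLocalRing.maximalIdeal R) R) Δ) := by
  classical
  obtain ⟨hN, hUC, hG, hJ⟩ := hR
  have := hN
  have hreg : CAlg.IsRegularHom R (EGA4.Cpl R) := by
    have hu : ∀ x ∈ (IsLocalRing.maximalIdeal R).primeCompl, IsUnit x := by
      intro x hx
      by_contra hxu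
      exact hx ((IsLocalRing.mem_maximalIdeal x).mpr hxu)
    let e : Localization.AtPrime (IsLocalRing.maximalIdeal R) ≃+* R :=
      (IsLocalization.atUnits R (IsLocalRing.maximalIdeal R).primeCompl
        (S := Localization.AtPrime (IsLocalRing.maximalIdeal R)) hu).symm.toRingEquiv
    have : IsNoetherianRing (Localization.AtPrime (IsLocalRing.maximalIdeal R)) :=
      IsLocalization.isNoetherianRing (IsLocalRing.maximalIdeal R).primeCompl _ inferInstance
    exact Groth.Agent.Lib.Helper18.Exc.isRegularHom_cpl_of_ringEquiv e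
      (hG.2 (IsLocalRing.maximalIdeal R))
  have hA : EGA4.HasGeomNormalFormalFibres R :=
    (Groth.Agent.Lib.Helper18.PMor.isNormalHom_of_isRegularHom hreg).2
  have : Module.FaithfullyFlat R (EGA4.Cpl R) := Module.FaithfullyFlat.of_flat_of_isLocalHom
  have hinj : Function.Injective (algebraMap R (EGA4.Cpl R)) :=
    FaithfulSMul.algebraMap_injective R (EGA4.Cpl R)
  have hmap : (Ideal.span {Δ}).map (algebraMap R (EGA4.Cpl R)) =
      Ideal.span {algebraMap R (EGA4.Cpl R) Δ} := by
    rw [Ideal.map_span, Set.image_singleton]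
  change Prime Δ ↔ Prime (algebraMap R (EGA4.Cpl R) Δ)
  constructor
  · intro hΔ
    have hne : algebraMap R (EGA4.Cpl R) Δ ≠ 0 := by
      intro h0
      exact hΔ.ne_zero (hinj (by rw [h0, map_zero]))
    have hI : (Ideal.span {Δ}).IsPrime := (Ideal.span_singleton_prime hΔ.ne_zero).mpr hΔ
    let I : Ideal R := Ideal.span {Δ}
    have : Algebra.IsIntegral R (integralClosure (R ⧸ I) (FractionRing (R ⧸ I))) :=
      Algebra.IsIntegral.trans (R ⧸ I)
    have hloc : IsLocalRing (integralClosure (R ⧸ I) (FractionRing (R ⧸ I))) :=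
      Groth.Agent.Lib.Helper4.Unibr.isLocalRing_of_isDomain_of_isIntegral R _
    have hdom : IsDomain (EGA4.Cpl R ⊗[R] (R ⧸ I)) :=
      Groth.Agent.Lib.Helper9.NormalFF.isDomain_cpl_tensor_of_isLocalRing R hA (R ⧸ I) hloc
    have e1 := (Algebra.TensorProduct.quotIdealMapEquivTensorQuot (EGA4.Cpl R) I).toRingEquiv
    have : IsDomain (EGA4.Cpl R ⧸ I.map (algebraMap R (EGA4.Cpl R))) :=
      Function.Injective.isDomain e1.toRingHom e1.injective
    have hp : (I.map (algebraMap R (EGA4.Cpl R))).IsPrime :=
      (Ideal.Quotient.isDomain_iff_prime _).mp inferInstance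
    rw [hmap] at hp
    exact (Ideal.span_singleton_prime hne).mp hp
  · intro hΔ
    have hne : Δ ≠ 0 := by
      intro h0
      exact hΔ.ne_zero (by rw [h0, map_zero])
    have hp : (Ideal.span {algebraMap R (EGA4.Cpl R) Δ}).IsPrime :=
      (Ideal.span_singleton_prime hΔ.ne_zero).mpr hΔ
    rw [← hmap] at hp
    have hc : ((Ideal.span {Δ}).map (algebraMap R (EGA4.Cpl R))).comap
        (algebraMap R (EGA4.Cpl R)) = Ideal.span {Δ} :=
      Ideal.comap_map_eq_self_of_faithfullyFlat _
    have hp2 : (Ideal.span {Δ}).IsPrime := by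
      rw [← hc]
      exact Ideal.comap_isPrime _ _
    exact (Ideal.span_singleton_prime hne).mp hp2

end Groth.Agent.S13200
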