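import Groth.Statements.S13202
import Mathlib
import Groth.Agent.Lib.Helper4.SmPrime

set_option autoImplicit false
universe u
open Hensel

namespace Groth.Agent.S13202

open Groth.Agent.Lib.Helper4 in
/-- Let R be a Noetherian regular ring (every localization at a prime ideal is a regular local ring) and
Δ ∈ R. The element Δ is étale-universally prime — meaning that for every prime ideal p of R
containing Δ and every strict henselization T of R_p, the image of Δ in T is a prime element —
exactly when for every smooth R-algebra R', every prime ideal q of R' and every strict henselization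
T of R'_q, the image of Δ in T is either invertible or a prime element. (Smooth R-algebras and their
strict henselizations are taken in the universe of R.) -/
theorem result
    (R : Type u) [CommRing R] [IsNoetherianRing R]
    (hreg : ∀ (p : Ideal R) [p.IsPrime], IsRegularLocalRing (Localization.AtPrime p)) (Δ : R) :
    (∀ (p : Ideal R) [p.IsPrime], Δ ∈ p →
        ∀ (T : Type u) [CommRing T] [IsLocalRing T] [Algebra (Localization.AtPrime p) T]
          [IsLocalHom (algebraMap (Localization.AtPrime p) T)]
          [Hensel.IsStrictHenselization (Localization.AtPrime p) T],
          Prime (algebraMap (Localization.AtPrime p) T (algebraMap R (Localization.AtPrime p) Δ))) ↔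
    (∀ (R' : Type u) [CommRing R'] [Algebra R R'] [Algebra.Smooth R R'] (q : Ideal R') [q.IsPrime]
        (T : Type u) [CommRing T] [IsLocalRing T] [Algebra (Localization.AtPrime q) T]
          [IsLocalHom (algebraMap (Localization.AtPrime q) T)]
          [Hensel.IsStrictHenselization (Localization.AtPrime q) T],
        IsUnit (algebraMap (Localization.AtPrime q) T (algebraMap R' (Localization.AtPrime q) (algebraMap R R' Δ))) ∨
          Prime (algebraMap (Localization.AtPrime q) T (algebraMap R' (Localization.AtPrime q) (algebraMap R R' Δ)))) := by
  constructor
  · intro h R' _ _ _ q _ T _ _ _ _ _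
    by_cases hΔq : Δ ∈ q.comap (algebraMap R R')
    · right
      have h0 := h (q.comap (algebraMap R R')) hΔq
        (Hzs.Hs (Localization.AtPrime (q.comap (algebraMap R R'))))
      exact SmPrime.prime_of_prime_base R R' q T Δ h0
    · left
      have h1 : algebraMap R R' Δ ∉ q := hΔq
      have h2 : IsUnit (algebraMap R' (Localization.AtPrime q) (algebraMap R R' Δ)) :=
        IsLocalization.map_units _ (⟨_, h1⟩ : q.primeCompl)
      exact h2.map _
  · intro h p _ hΔp T _ _ _ _ _
    rcases h R p T with hu | hp
    · exfalso
      have h1 : algebraMap R (Localization.AtPrime p) Δ ∈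
          IsLocalRing.maximalIdeal (Localization.AtPrime p) :=
        (IsLocalization.AtPrime.to_map_mem_maximal_iff _ p _).mpr hΔp
      have h2 : ¬ IsUnit (algebraMap (Localization.AtPrime p) T
          (algebraMap R (Localization.AtPrime p) Δ)) :=
        fun hu' => (IsLocalRing.mem_maximalIdeal _).mp h1 (isUnit_of_map_unit _ _ hu')
      exact h2 hu
    · exact hp

end Groth.Agent.S13202
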