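import Groth.Statements.S13203
import Groth.Agent.Helper19.NeronFormal
-- import your own Groth.Agent.* helpers here

set_option autoImplicit false
universe u
open CategoryTheory AlgebraicGeometry
open Neron

namespace Groth.Agent.S13203

open Groth.Agent.Helper19.NeronFormal Limits

/-- Let S be a scheme, U ⊆ S a schematically dense open subscheme and N → S a smooth S-scheme with the
Néron mapping property with respect to U: for every smooth S-scheme Y, sending an S-morphism Y → N
to its restriction Y ×_S U → N ×_S U is a bijection onto the U-morphisms. Then for every smooth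
morphism g : S' → S the base change N ×_S S' → S' (again smooth) has the Néron mapping property with
respect to g⁻¹(U): for every smooth S'-scheme Y', restriction to g⁻¹(U) is a bijection from
S'-morphisms Y' → N ×_S S' onto g⁻¹(U)-morphisms. (The published statement is for models which are
algebraic spaces, tested against smooth algebraic spaces, and also says that separatedness is
preserved; this row states the case of a smooth scheme model tested against smooth schemes.) -/
theorem result
    {S S' : Scheme.{u}} (g : S' ⟶ S) [Smooth g]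
    (U : S.Opens) (hU : CInt.IsSchematicallyDense U) (N : Over S) [Smooth N.hom]
    (hN : ∀ Y : Over S, Smooth Y.hom →
      Function.Bijective (fun f : Y ⟶ N => (Over.pullback U.ι).map f))
    (Y' : Over S') [Smooth Y'.hom] :
    Function.Bijective (fun f : Y' ⟶ (Over.pullback g).obj N => (Over.pullback (g ⁻¹ᵁ U).ι).map f) := by
  rw [bijective_iff]
  have hsm : Smooth (Over.mk (Y'.hom ≫ g)).hom := inferInstanceAs (Smooth (Y'.hom ≫ g))
  have hsq : IsPullback (pullback.fst Y'.hom (g ⁻¹ᵁ U).ι)
      (pullback.snd Y'.hom (g ⁻¹ᵁ U).ι ≫ (g ∣_ U)) (Over.mk (Y'.hom ≫ g)).hom U.ι :=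
    (IsPullback.of_hasPullback Y'.hom (g ⁻¹ᵁ U).ι).paste_vert
      (isPullback_morphismRestrict g U).flip
  have hN' := (bijective_iff_of_isPullback U.ι N (Over.mk (Y'.hom ≫ g)) hsq).mp (hN _ hsm)
  intro h hh
  have hh' : h ≫ pullback.snd N.hom g = pullback.fst Y'.hom (g ⁻¹ᵁ U).ι ≫ Y'.hom := hh
  obtain ⟨γ, ⟨hγa, hγb⟩, hu⟩ := hN' (h ≫ pullback.fst N.hom g) (by
    rw [Category.assoc, pullback.condition, ← Category.assoc, hh', Category.assoc]; rfl)
  have hγa' : γ ≫ N.hom = Y'.hom ≫ g := hγa
  refine ⟨pullback.lift γ Y'.hom hγa', ⟨pullback.lift_snd _ _ _, ?_⟩, ?_⟩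
  · apply pullback.hom_ext
    · rw [Category.assoc, pullback.lift_fst, hγb]
    · rw [Category.assoc, pullback.lift_snd, hh']
  · rintro G' ⟨h1, h2⟩
    have h1' : G' ≫ pullback.snd N.hom g = Y'.hom := h1
    apply pullback.hom_ext
    · rw [pullback.lift_fst]
      refine hu _ ⟨?_, by rw [← Category.assoc, h2]⟩
      show (G' ≫ pullback.fst N.hom g) ≫ N.hom = Y'.hom ≫ g
      rw [Category.assoc, pullback.condition, ← Category.assoc, h1']
    · rw [pullback.lift_snd]; exact h1'

end Groth.Agent.S13203
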