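import Groth.Statements.S13204
import Groth.Agent.Lib.Helper21.KA7
-- import your own Groth.Agent.* helpers here

set_option autoImplicit false
universe u
open Neron

namespace Groth.Agent.S13204

/-- Let R be a strictly henselian Noetherian local unique factorization domain and Δ₁, Δ₂ two non-units
of R with no common prime factor. Then there are a discrete valuation ring A and an injective local
homomorphism f : R → A — so that Spec A → Spec R sends the closed point to the closed point and the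
generic point to the generic point, which lies in every dense open subset — such that f(Δ₁) is a
non-zero non-unit and f(Δ₁) = u · f(Δ₂) for some unit u of A congruent to 1 modulo the maximal
ideal. (The published statement asks for the images of Δ₁ and Δ₂ in A to be equal, with the generic
point of Spec A sent into a given dense open subset of Spec R; that cannot hold in general — for R =
ℂ[[a,b]], Δ₁ = a, Δ₂ = b and the dense open D(a − b), any local map to a discrete valuation ring
identifying a and b sends the generic point into V(a − b) — so this row asks instead for f(Δ₁) = u ·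
f(Δ₂) with u a unit congruent to 1 modulo the maximal ideal.) -/
theorem result
    (R : Type u) [CommRing R] [IsDomain R] [IsNoetherianRing R] [UniqueFactorizationMonoid R]
    [HenselianLocalRing R] [IsSepClosed (IsLocalRing.ResidueField R)]
    (Δ₁ Δ₂ : R) (h₁ : ¬ IsUnit Δ₁) (h₂ : ¬ IsUnit Δ₂) (hcop : IsRelPrime Δ₁ Δ₂) :
    ∃ (A : Type u) (_ : CommRing A) (_ : IsDomain A) (_ : IsDiscreteValuationRing A) (f : R →+* A),
      IsLocalHom f ∧ Function.Injective f ∧ ¬ IsUnit (f Δ₁) ∧
        ∃ u : Aˣ, (u : A) - 1 ∈ IsLocalRing.maximalIdeal A ∧ f Δ₁ = (u : A) * f Δ₂ := by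
  classical
  let K := FractionRing R
  have hΔ₂0 : Δ₂ ≠ 0 := by
    rintro rfl
    exact h₁ (isRelPrime_zero_right.mp hcop)
  have hne : Δ₁ - Δ₂ ≠ 0 := by
    intro h0
    have h12 : Δ₁ = Δ₂ := sub_eq_zero.mp h0
    rw [h12] at hcop
    exact h₂ (isRelPrime_self.mp hcop)
  have hnu : ¬ IsUnit (Δ₁ - Δ₂) := by
    intro hu
    have hm₁ : Δ₁ ∈ IsLocalRing.maximalIdeal R := (IsLocalRing.mem_maximalIdeal _).mpr h₁
    have hm₂ : Δ₂ ∈ IsLocalRing.maximalIdeal R := (IsLocalRing.mem_maximalIdeal _).mpr h₂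
    exact ((IsLocalRing.mem_maximalIdeal _).mp (Ideal.sub_mem _ hm₁ hm₂)) hu
  have hinjK : Function.Injective (algebraMap R K) := IsFractionRing.injective R K
  have hd0 : algebraMap R K (Δ₁ - Δ₂) ≠ 0 := (map_ne_zero_iff _ hinjK).mpr hne
  have hΔ₂K : algebraMap R K Δ₂ ≠ 0 := (map_ne_zero_iff _ hinjK).mpr hΔ₂0
  let k : K := algebraMap R K Δ₂ / algebraMap R K (Δ₁ - Δ₂)
  have hk : k ∉ Set.range (algebraMap R K) := by
    rintro ⟨r, hr⟩
    have h1 : r * (Δ₁ - Δ₂) = Δ₂ := by
      apply hinjK
      rw [map_mul, hr]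
      exact div_mul_cancel₀ _ hd0
    have hdvd₂ : (Δ₁ - Δ₂) ∣ Δ₂ := ⟨r, by rw [mul_comm]; exact h1.symm⟩
    have hdvd₁ : (Δ₁ - Δ₂) ∣ Δ₁ := by
      have h2 : (Δ₁ - Δ₂) ∣ (Δ₁ - Δ₂) + Δ₂ := dvd_add (dvd_refl _) hdvd₂
      rwa [sub_add_cancel] at h2
    exact hnu (hcop hdvd₁ hdvd₂)
  obtain ⟨A, _, _, _, _, _, tow, hFr, hloc, hkA⟩ :=
    Groth.Agent.Lib.Helper21.KA.exists_dvr_dominating_notMem R K k hk
  have hinjAK : Function.Injective (algebraMap A K) := IsFractionRing.injective A K
  have hk0 : k ≠ 0 := div_ne_zero hΔ₂K hd0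
  obtain ⟨ξ, hξ⟩ : ∃ ξ : A, algebraMap A K ξ = k⁻¹ := by
    rcases ValuationRing.isInteger_or_isInteger A k with ⟨a, ha⟩ | ⟨a, ha⟩
    · exact absurd ⟨a, ha⟩ hkA
    · exact ⟨a, ha⟩
  have hξnu : ¬ IsUnit ξ := by
    intro hu
    apply hkA
    refine ⟨(hu.unit⁻¹ : Aˣ), ?_⟩
    have h1 : algebraMap A K ((hu.unit⁻¹ : Aˣ) : A) * algebraMap A K ξ = 1 := by
      rw [← map_mul]
      have : ((hu.unit⁻¹ : Aˣ) : A) * ξ = 1 := hu.val_inv_mul
      rw [this, map_one]
    rw [hξ] at h1
    have := eq_inv_of_mul_eq_one_left h1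
    rwa [inv_inv] at this
  let τ : A := ξ + 1
  have hτu : IsUnit τ := by
    have h1 : IsUnit (τ + (-ξ)) := by
      have : τ + (-ξ) = 1 := by simp [τ]
      rw [this]; exact isUnit_one
    rcases IsLocalRing.isUnit_or_isUnit_of_isUnit_add h1 with h | h
    · exact h
    · exact absurd (by simpa using h.neg) hξnu
  have hτK : algebraMap A K τ = algebraMap R K Δ₁ / algebraMap R K Δ₂ := by
    change algebraMap A K (ξ + 1) = _
    rw [map_add, map_one, hξ, inv_div, map_sub, sub_div, div_self hΔ₂K, sub_add_cancel]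
  refine ⟨A, inferInstance, inferInstance, inferInstance, algebraMap R A, hloc, ?_, ?_, ?_⟩
  · intro a b hab
    apply hinjK
    have := congrArg (algebraMap A K) hab
    rwa [← IsScalarTower.algebraMap_apply, ← IsScalarTower.algebraMap_apply] at this
  · intro hu
    exact h₁ (hloc.map_nonunit _ hu)
  · refine ⟨hτu.unit, ?_, ?_⟩
    · rw [IsLocalRing.mem_maximalIdeal, mem_nonunits_iff]
      have : ((hτu.unit : Aˣ) : A) - 1 = ξ := by simp [τ]
      rw [this]
      exact hξnu
    · apply hinjAK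
      rw [map_mul, ← IsScalarTower.algebraMap_apply, ← IsScalarTower.algebraMap_apply]
      change algebraMap R K Δ₁ = algebraMap A K τ * algebraMap R K Δ₂
      rw [hτK, div_mul_cancel₀ _ hΔ₂K]

end Groth.Agent.S13204
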