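import Groth.Statements.S13206
import Mathlib.AlgebraicGeometry.Morphisms.Separated
import Mathlib.AlgebraicGeometry.Morphisms.ClosedImmersion

set_option autoImplicit false
universe u
open CategoryTheory AlgebraicGeometry
open AlgGrp

namespace Groth.Agent.S13206

/-- Let X → S be a separated morphism of schemes and let a finite group G act on X through
S-automorphisms. Then the functor of G-fixed points is represented by a closed subscheme of X: there
are a scheme Z and a closed immersion i : Z → X with i ∘ g = i for all g ∈ G such that every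
morphism x : T → X with g ∘ x = x for all g ∈ G factors uniquely through i. (The published statement
is for an algebraic space X over S, also treats the locally separated case and notes compatibility
with base change; this row is the separated case for schemes.) -/
theorem result
    {X S : Scheme.{u}} (p : X ⟶ S) [IsSeparated p]
    (G : Type u) [Group G] [Finite G] (ρ : G →* Aut X) (hρ : ∀ g : G, (ρ g).hom ≫ p = p) :
    ∃ (Z : Scheme.{u}) (i : Z ⟶ X), IsClosedImmersion i ∧ (∀ g : G, i ≫ (ρ g).hom = i) ∧
      ∀ (T : Scheme.{u}) (x : T ⟶ X), (∀ g : G, x ≫ (ρ g).hom = x) → ∃! z : T ⟶ Z, z ≫ i = x := by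
  classical
  have : Fintype G := Fintype.ofFinite G
  have key : ∀ s : Finset G, ∃ (Z : Scheme.{u}) (i : Z ⟶ X), IsClosedImmersion i ∧
      (∀ g ∈ s, i ≫ (ρ g).hom = i) ∧
      ∀ (T : Scheme.{u}) (x : T ⟶ X), (∀ g ∈ s, x ≫ (ρ g).hom = x) → ∃ z : T ⟶ Z, z ≫ i = x := by
    intro s
    induction s using Finset.induction_on with
    | empty =>
      exact ⟨X, 𝟙 X, inferInstance, by simp, fun T x _ => ⟨x, by simp⟩⟩
    | insert g s hg ih =>
      obtain ⟨Z, i, hi, hfix, huniv⟩ := ih
      let X' : Over S := Over.mk p
      let φ : X' ⟶ X' := Over.homMk (ρ g).hom (hρ g)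
      have : IsSeparated X'.hom := ‹IsSeparated p›
      let ι : (Limits.equalizer (𝟙 X') φ).left ⟶ X := (Limits.equalizer.ι (𝟙 X') φ).left
      have : IsClosedImmersion ι := isClosedImmersion_equalizer_ι_left (𝟙 X') φ
      have hι : ι ≫ (ρ g).hom = ι := by
        have := congrArg CommaMorphism.left (Limits.equalizer.condition (𝟙 X') φ)
        simpa [ι, φ] using this.symm
      refine ⟨Limits.pullback i ι, Limits.pullback.fst i ι ≫ i, inferInstance, ?_, ?_⟩
      · intro h hh
        rcases Finset.mem_insert.mp hh with rfl | hh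
        · rw [Limits.pullback.condition, Category.assoc, hι]
        · rw [Category.assoc, hfix h hh]
      · intro T x hx
        obtain ⟨z₁, hz₁⟩ := huniv T x (fun h hh => hx h (Finset.mem_insert_of_mem hh))
        let T' : Over S := Over.mk (x ≫ p)
        let x' : T' ⟶ X' := Over.homMk x rfl
        have hx' : x' ≫ 𝟙 X' = x' ≫ φ := by
          ext
          simp [x', φ, hx g (Finset.mem_insert_self g s)]
        let z₂ : T ⟶ (Limits.equalizer (𝟙 X') φ).left := (Limits.equalizer.lift x' hx').left
        have hz₂ : z₂ ≫ ι = x := by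
          change (Limits.equalizer.lift x' hx' ≫ Limits.equalizer.ι (𝟙 X') φ).left = x
          rw [Limits.equalizer.lift_ι]
          rfl
        refine ⟨Limits.pullback.lift z₁ z₂ (by rw [hz₁, hz₂]), ?_⟩
        rw [Limits.pullback.lift_fst_assoc, hz₁]
  obtain ⟨Z, i, hi, hfix, huniv⟩ := key Finset.univ
  refine ⟨Z, i, hi, fun g => hfix g (Finset.mem_univ g), fun T x hx => ?_⟩
  obtain ⟨z, hz⟩ := huniv T x (fun g _ => hx g)
  refine ⟨z, hz, fun z' hz' => ?_⟩
  rw [← cancel_mono i, hz, hz']

end Groth.Agent.S13206
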