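import Groth.Statements.S1325
import Groth.Agent.Lib.Helper21.SCmp4
-- import your own Groth.Agent.* helpers here

set_option autoImplicit false
universe u
open FlatMor

namespace Groth.Agent.S1325

open AlgebraicGeometry CategoryTheory Limits in
/-- Let f be of finite type with a section s and let y be a point of the target. Then there is a subset
V of the closure of y, open in that closure and containing y (equivalently nonempty), such that the
trace of the section components of (f, s) on the preimage of V is open and closed in that preimage
(with the subspace topology, which is the topology of the base change to the locally closed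
subscheme V). -/
theorem result {X Y : Scheme.{u}} (f : X ⟶ Y) (s : Y ⟶ X) (hs : s ≫ f = 𝟙 Y)
    [LocallyOfFiniteType f] [QuasiCompact f] (y : Y) :
    ∃ V : Set ↑Y, V ⊆ closure {y} ∧ y ∈ V ∧ IsOpen (Subtype.val ⁻¹' V : Set ↑(closure ({y} : Set ↑Y))) ∧
      IsClopen (Subtype.val ⁻¹' MoreMor.sectionComponents f s : Set ↑(f ⁻¹' V)) := by
  obtain ⟨U, hyU, H⟩ := Groth.Agent.Lib.Helper21.SCmp.exists_isClopen_sectionComponents f s hs y
  refine ⟨closure {y} ∩ (U : Set Y), Set.inter_subset_left, ⟨subset_closure rfl, hyU⟩, ?_, H⟩
  have : (Subtype.val ⁻¹' (closure {y} ∩ (U : Set Y)) : Set ↑(closure ({y} : Set ↑Y))) =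
      Subtype.val ⁻¹' (U : Set Y) := by
    ext ⟨z, hz⟩
    simp [hz]
  rw [this]
  exact U.2.preimage continuous_subtype_val

end Groth.Agent.S1325
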