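import Groth.Statements.S13341
import Mathlib

set_option autoImplicit false
open CategoryTheory
universe u
open FCompl

namespace Groth.Agent.S13341

open CategoryTheory.Limits AlgebraicGeometry in
theorem graph_square {C : Type*} [Category C] [HasPullbacks C]
    {X₀ X₁ Y₀ Y₁ S₀ S₁ : C} (ιX : X₀ ⟶ X₁) (ιY : Y₀ ⟶ Y₁) (ιS : S₀ ⟶ S₁) [Mono ιY]
    (p₀ : X₀ ⟶ S₀) (p₁ : X₁ ⟶ S₁) (q₀ : Y₀ ⟶ S₀) (q₁ : Y₁ ⟶ S₁) (f₀ : X₀ ⟶ Y₀) (f₁ : X₁ ⟶ Y₁)
    (hp : p₀ ≫ ιS = ιX ≫ p₁) (hq : q₀ ≫ ιS = ιY ≫ q₁) (hf : f₀ ≫ ιY = ιX ≫ f₁)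
    (w₀ : 𝟙 X₀ ≫ p₀ = f₀ ≫ q₀) (w₁ : 𝟙 X₁ ≫ p₁ = f₁ ≫ q₁) :
    IsPullback ιX (pullback.lift (𝟙 X₀) f₀ w₀) (pullback.lift (𝟙 X₁) f₁ w₁)
      (pullback.map p₀ q₀ p₁ q₁ ιX ιY ιS hp hq) := by
  refine ⟨⟨?_⟩, ⟨?_⟩⟩
  · apply pullback.hom_ext
    · simp only [Category.assoc, pullback.lift_fst, pullback.lift_fst_assoc, Category.comp_id,
        Category.id_comp]
    · simp only [Category.assoc, pullback.lift_snd, pullback.lift_snd_assoc, hf]
  · refine PullbackCone.IsLimit.mk _ (fun s => s.snd ≫ pullback.fst p₀ q₀) ?_ ?_ ?_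
    · intro s
      have h1 := congrArg (· ≫ pullback.fst p₁ q₁) s.condition
      simp only [Category.assoc, pullback.lift_fst, Category.comp_id] at h1
      rw [Category.assoc, ← h1]
    · intro s
      have h1 := congrArg (· ≫ pullback.fst p₁ q₁) s.condition
      have h2 := congrArg (· ≫ pullback.snd p₁ q₁) s.condition
      simp only [Category.assoc, pullback.lift_fst, pullback.lift_snd, Category.comp_id] at h1 h2
      apply pullback.hom_ext
      · simp only [Category.assoc, pullback.lift_fst, Category.comp_id]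
      · simp only [Category.assoc, pullback.lift_snd]
        rw [← cancel_mono ιY, Category.assoc, Category.assoc, hf, Category.assoc, ← h2,
          ← Category.assoc, ← Category.assoc, Category.assoc s.snd, ← h1]
    · intro s m h1 h2
      rw [← h2, Category.assoc, pullback.lift_fst, Category.comp_id]

open CategoryTheory.Limits AlgebraicGeometry in
theorem graph_isClosedImmersion {X Y S : Scheme.{u}} (p : X ⟶ S) (q : Y ⟶ S) [IsSeparated q]
    (f : X ⟶ Y) (w : 𝟙 X ≫ p = f ≫ q) : IsClosedImmersion (pullback.lift (𝟙 X) f w) := by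
  have : IsClosedImmersion (pullback.lift (𝟙 X) f w ≫ pullback.fst p q) := by
    rw [pullback.lift_fst]; infer_instance
  exact IsClosedImmersion.of_comp _ (pullback.fst p q)

open CategoryTheory.Limits AlgebraicGeometry in
theorem aux {𝔛 𝔜 𝔖 : FSch.Sys.{u}} (h𝔜 : 𝔜.IsFormal) (p : 𝔛 ⟶ 𝔖) (q : 𝔜 ⟶ 𝔖)
    (hq : IsSeparated ((q : FSch.Hom 𝔜 𝔖).app 0)) (f : 𝔛 ⟶ 𝔜) (w : f ≫ q = p) :
    FSch.IsClosedImmHom (FSch.graph f p q w) := by
  constructor
  · intro n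
    have hmono : Mono (𝔜.ι n) := by
      have := (h𝔜 n).1
      infer_instance
    exact graph_square (𝔛.ι n) (𝔜.ι n) (𝔖.ι n) _ _ _ _ _ _ ((p : FSch.Hom 𝔛 𝔖).comm n)
      ((q : FSch.Hom 𝔜 𝔖).comm n) ((f : FSch.Hom 𝔛 𝔜).comm n) _ _
  · exact graph_isClosedImmersion _ _ _ _

open AlgebraicGeometry in
/-- Formal schemes are presented as locally Noetherian adic systems of thickenings and the fibre product
is taken levelwise (it presents the fibre product of formal schemes since one factor is adic over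
the base). Let 𝔖 be a locally Noetherian formal system, 𝔛 and 𝔜 locally Noetherian formal systems
over 𝔖 such that 𝔛 or 𝔜 is of finite type over 𝔖, and 𝔜 separated over 𝔖 at level 0. Then for every
𝔖-morphism f : 𝔛 → 𝔜 the graph morphism 𝔛 → 𝔛 ×_𝔖 𝔜 is a closed immersion: adic, with level 0 a
closed immersion. -/
theorem result {𝔛 𝔜 𝔖 : FSch.Sys.{u}} (h𝔖 : 𝔖.IsLocNoethFormal) (h𝔛 : 𝔛.IsLocNoethFormal)
    (h𝔜 : 𝔜.IsLocNoethFormal) (p : 𝔛 ⟶ 𝔖) (q : 𝔜 ⟶ 𝔖) (hpq : FSch.IsFiniteTypeHom p ∨ FSch.IsFiniteTypeHom q)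
    (hq : IsSeparated ((q : FSch.Hom 𝔜 𝔖).app 0)) (f : 𝔛 ⟶ 𝔜) (w : f ≫ q = p) :
    FSch.IsClosedImmHom (FSch.graph f p q w) := by
  exact aux h𝔜.1 p q hq f w

end Groth.Agent.S13341
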