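import Groth.Statements.S13355
import Groth.Agent.Lib.Helper29.GaChar

set_option autoImplicit false
universe u
open GaDual

namespace Groth.Agent.S13355

lemma coeff_eq_of_char {A : Type u} [CommRing A] [Algebra ℚ A] (χ : PowerSeries A)
    (h0 : PowerSeries.coeff 0 χ = 1)
    (h : ∀ i j : ℕ, (((i + j).choose i : ℕ) : A) * PowerSeries.coeff (i + j) χ
        = PowerSeries.coeff i χ * PowerSeries.coeff j χ) (n : ℕ) :
    PowerSeries.coeff n χ = (PowerSeries.coeff 1 χ) ^ n * algebraMap ℚ A (1 / (n.factorial : ℚ)) := by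
  induction n with
  | zero => simp [h0]
  | succ n ih =>
    have h1 := h n 1
    rw [Nat.choose_succ_self_right, ih] at h1
    have hinv : algebraMap ℚ A (1 / ((n + 1 : ℕ) : ℚ)) * (((n + 1 : ℕ) : ℕ) : A) = 1 := by
      rw [← map_natCast (algebraMap ℚ A), ← map_mul, one_div, inv_mul_cancel₀, map_one]
      exact_mod_cast Nat.succ_ne_zero n
    calc PowerSeries.coeff (n + 1) χ
        = algebraMap ℚ A (1 / ((n + 1 : ℕ) : ℚ)) * ((((n + 1 : ℕ) : ℕ) : A) *
            PowerSeries.coeff (n + 1) χ) := by rw [← mul_assoc, hinv, one_mul]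
      _ = algebraMap ℚ A (1 / ((n + 1 : ℕ) : ℚ)) * (PowerSeries.coeff 1 χ ^ n *
            algebraMap ℚ A (1 / (n.factorial : ℚ)) * PowerSeries.coeff 1 χ) := by rw [h1]
      _ = PowerSeries.coeff 1 χ ^ (n + 1) * (algebraMap ℚ A (1 / ((n + 1 : ℕ) : ℚ)) *
            algebraMap ℚ A (1 / (n.factorial : ℚ))) := by ring
      _ = PowerSeries.coeff 1 χ ^ (n + 1) * algebraMap ℚ A (1 / ((n + 1).factorial : ℚ)) := by
          rw [← map_mul, Nat.factorial_succ]
          congr 2
          push_cast
          field_simp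

lemma char_of_exp {A : Type u} [CommRing A] [Algebra ℚ A] (a : A) (i j : ℕ) :
    (((i + j).choose i : ℕ) : A) *
        PowerSeries.coeff (i + j) (PowerSeries.rescale a (PowerSeries.exp A))
      = PowerSeries.coeff i (PowerSeries.rescale a (PowerSeries.exp A)) *
        PowerSeries.coeff j (PowerSeries.rescale a (PowerSeries.exp A)) := by
  simp only [PowerSeries.coeff_rescale, PowerSeries.coeff_exp]
  rw [← map_natCast (algebraMap ℚ A)]
  have hq : (((i + j).choose i : ℕ) : ℚ) * (1 / ((i + j).factorial : ℚ))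
      = (1 / (i.factorial : ℚ)) * (1 / (j.factorial : ℚ)) := by
    have := Nat.add_choose_mul_factorial_mul_factorial i j
    rw [← Nat.choose_symm_add] at this
    have hi : (i.factorial : ℚ) ≠ 0 := by exact_mod_cast Nat.factorial_ne_zero i
    have hj : (j.factorial : ℚ) ≠ 0 := by exact_mod_cast Nat.factorial_ne_zero j
    have hij : ((i + j).factorial : ℚ) ≠ 0 := by exact_mod_cast Nat.factorial_ne_zero (i + j)
    have hc : (((i + j).choose i : ℕ) : ℚ) * (i.factorial : ℚ) * (j.factorial : ℚ)
        = ((i + j).factorial : ℚ) := by exact_mod_cast this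
    field_simp
    linarith [hc]
  calc algebraMap ℚ A (((i + j).choose i : ℕ) : ℚ) *
        (a ^ (i + j) * algebraMap ℚ A (1 / ((i + j).factorial : ℚ)))
      = a ^ (i + j) * algebraMap ℚ A ((((i + j).choose i : ℕ) : ℚ) *
          (1 / ((i + j).factorial : ℚ))) := by rw [map_mul]; ring
    _ = a ^ (i + j) * algebraMap ℚ A ((1 / (i.factorial : ℚ)) * (1 / (j.factorial : ℚ))) := by
        rw [hq]
    _ = a ^ i * algebraMap ℚ A (1 / (i.factorial : ℚ)) *
          (a ^ j * algebraMap ℚ A (1 / (j.factorial : ℚ))) := by rw [map_mul, pow_add]; ring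

/-- Over a commutative algebra A over the rationals, the formal characters (power series with constant
term 1 satisfying χ(X+Y) = χ(X)χ(Y) in two variables) are exactly the power series exp(aX) for a in
A. -/
theorem result (A : Type u) [CommRing A] [Algebra ℚ A] (χ : PowerSeries A) :
    (PowerSeries.constantCoeff χ = 1 ∧
      PowerSeries.subst (MvPowerSeries.X 0 + MvPowerSeries.X 1 : MvPowerSeries (Fin 2) A) χ =
        PowerSeries.subst (MvPowerSeries.X 0 : MvPowerSeries (Fin 2) A) χ *
          PowerSeries.subst (MvPowerSeries.X 1 : MvPowerSeries (Fin 2) A) χ) ↔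
      ∃ a : A, χ = PowerSeries.rescale a (PowerSeries.exp A) := by
  rw [Groth.Agent.Lib.Helper29.GaChar.char_iff]
  constructor
  · rintro ⟨h0, h⟩
    refine ⟨PowerSeries.coeff 1 χ, ?_⟩
    ext n
    rw [PowerSeries.coeff_rescale, PowerSeries.coeff_exp]
    exact coeff_eq_of_char χ (by rwa [PowerSeries.coeff_zero_eq_constantCoeff_apply]) h n
  · rintro ⟨a, rfl⟩
    refine ⟨?_, fun i j => char_of_exp a i j⟩
    rw [← PowerSeries.coeff_zero_eq_constantCoeff_apply, PowerSeries.coeff_rescale,
      PowerSeries.coeff_exp]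
    simp

end Groth.Agent.S13355
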