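import Groth.Statements.S13356
import Groth.Agent.Lib.Helper29.GaChar
import Groth.Agent.S13355

set_option autoImplicit false
universe u
open GaDual

namespace Groth.Agent.S13356

/-- coercion of two-variable polynomials to power series as an algebra hom -/
noncomputable def coeAlgHom (A : Type u) [CommRing A] :
    MvPolynomial (Fin 2) A →ₐ[A] MvPowerSeries (Fin 2) A :=
  { MvPolynomial.coeToMvPowerSeries.ringHom with
    commutes' := fun r => by
      change ((MvPolynomial.C r : MvPolynomial (Fin 2) A) : MvPowerSeries (Fin 2) A) = _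
      rw [MvPolynomial.coe_C]
      rfl }

lemma coeAlgHom_apply (A : Type u) [CommRing A] (φ : MvPolynomial (Fin 2) A) :
    coeAlgHom A φ = (φ : MvPowerSeries (Fin 2) A) := rfl

lemma poly_char_iff (A : Type u) [CommRing A] (f : Polynomial A) :
    (Polynomial.aeval (MvPolynomial.X 0 + MvPolynomial.X 1 : MvPolynomial (Fin 2) A) f =
        Polynomial.aeval (MvPolynomial.X 0 : MvPolynomial (Fin 2) A) f *
          Polynomial.aeval (MvPolynomial.X 1 : MvPolynomial (Fin 2) A) f) ↔
    ∀ i j : ℕ, (((i + j).choose i : ℕ) : A) * f.coeff (i + j) = f.coeff i * f.coeff j := by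
  have h := Groth.Agent.Lib.Helper29.GaChar.char_iff (f : PowerSeries A)
  simp only [Polynomial.coeff_coe] at h
  rw [← h]
  rw [PowerSeries.subst_coe ((PowerSeries.HasSubst.X 0).add (PowerSeries.HasSubst.X 1)),
    PowerSeries.subst_coe (PowerSeries.HasSubst.X 0), PowerSeries.subst_coe (PowerSeries.HasSubst.X 1)]
  have e1 : Polynomial.aeval (MvPowerSeries.X 0 + MvPowerSeries.X 1 : MvPowerSeries (Fin 2) A) f
      = coeAlgHom A (Polynomial.aeval (MvPolynomial.X 0 + MvPolynomial.X 1) f) := by
    rw [← Polynomial.aeval_algHom_apply, map_add, coeAlgHom_apply, coeAlgHom_apply,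
      MvPolynomial.coe_X, MvPolynomial.coe_X]
  have e2 : ∀ s : Fin 2, Polynomial.aeval (MvPowerSeries.X s : MvPowerSeries (Fin 2) A) f
      = coeAlgHom A (Polynomial.aeval (MvPolynomial.X s) f) := by
    intro s
    rw [← Polynomial.aeval_algHom_apply, coeAlgHom_apply, MvPolynomial.coe_X]
  rw [e1, e2 0, e2 1, ← map_mul]
  constructor
  · intro h; rw [h]
  · intro h; exact MvPolynomial.coe_injective _ _ h

/-- Over a commutative algebra A over the rationals, the polynomials f with f(0) = 1 and f(X+Y) =
f(X)f(Y) (the characters of the additive group into the multiplicative group over A) are exactly the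
polynomials exp(aX) with a in A nilpotent. -/
theorem result (A : Type u) [CommRing A] [Algebra ℚ A] (f : Polynomial A) :
    (f.eval 0 = 1 ∧
      Polynomial.aeval (MvPolynomial.X 0 + MvPolynomial.X 1 : MvPolynomial (Fin 2) A) f =
        Polynomial.aeval (MvPolynomial.X 0 : MvPolynomial (Fin 2) A) f *
          Polynomial.aeval (MvPolynomial.X 1 : MvPolynomial (Fin 2) A) f) ↔
      ∃ a : A, IsNilpotent a ∧ (f : PowerSeries A) = PowerSeries.rescale a (PowerSeries.exp A) := by
  rw [poly_char_iff]
  constructor
  · rintro ⟨h0, h⟩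
    have h0' : PowerSeries.coeff 0 (f : PowerSeries A) = 1 := by
      rw [Polynomial.coeff_coe, Polynomial.coeff_zero_eq_eval_zero, h0]
    have hcoef := Groth.Agent.S13355.coeff_eq_of_char (f : PowerSeries A) h0'
      (by simpa only [Polynomial.coeff_coe] using h)
    simp only [Polynomial.coeff_coe] at hcoef
    refine ⟨f.coeff 1, ⟨f.natDegree + 1, ?_⟩, ?_⟩
    · have h1 := hcoef (f.natDegree + 1)
      rw [Polynomial.coeff_eq_zero_of_natDegree_lt (Nat.lt_succ_self _)] at h1
      have h2 := congrArg (fun z => z * algebraMap ℚ A ((f.natDegree + 1).factorial : ℚ)) h1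
      simp only [zero_mul, mul_assoc, ← map_mul] at h2
      rw [one_div, inv_mul_cancel₀ (by exact_mod_cast Nat.factorial_ne_zero _), map_one,
        mul_one] at h2
      exact h2.symm
    · ext n
      rw [Polynomial.coeff_coe, PowerSeries.coeff_rescale, PowerSeries.coeff_exp]
      exact hcoef n
  · rintro ⟨a, -, ha⟩
    have hc : ∀ n, f.coeff n = PowerSeries.coeff n (PowerSeries.rescale a (PowerSeries.exp A)) := by
      intro n
      rw [← ha, Polynomial.coeff_coe]
    refine ⟨?_, fun i j => ?_⟩
    · rw [← Polynomial.coeff_zero_eq_eval_zero, hc, PowerSeries.coeff_rescale,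
        PowerSeries.coeff_exp]
      simp
    · rw [hc, hc, hc]
      exact Groth.Agent.S13355.char_of_exp a i j

end Groth.Agent.S13356
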