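import Groth.Statements.S13357
import Mathlib
import Groth.Agent.Lib.Helper8.GaCh2

set_option autoImplicit false
universe u
open GaDual



namespace Groth.Agent.S13357

/-- Over a commutative algebra A of prime characteristic p, the polynomials f with f(0) = 1 and f(X+Y) =
f(X)f(Y) (the characters of the additive group into the multiplicative group over A) are exactly the
finite products of truncated exponentials exp_p(a_n X^(p^n)) = Σ_{j<p} a_n^j X^(j p^n)/j! with a_n^p
= 0. -/
theorem result (p : ℕ) [Fact p.Prime] (A : Type u) [CommRing A] [CharP A p]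
    (f : Polynomial A) :
    (f.eval 0 = 1 ∧
      Polynomial.aeval (MvPolynomial.X 0 + MvPolynomial.X 1 : MvPolynomial (Fin 2) A) f =
        Polynomial.aeval (MvPolynomial.X 0 : MvPolynomial (Fin 2) A) f *
          Polynomial.aeval (MvPolynomial.X 1 : MvPolynomial (Fin 2) A) f) ↔
      ∃ (N : ℕ) (a : ℕ → A), (∀ n, a n ^ p = 0) ∧
        f = ∏ n ∈ Finset.range N, ∑ j ∈ Finset.range p,
          Polynomial.C (Ring.inverse (j.factorial : A) * a n ^ j) * Polynomial.X ^ (j * p ^ n) := by
  have hp : Fact p.Prime := inferInstance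
  constructor
  · rintro ⟨h0, hchar⟩
    have hstar := (Groth.Agent.Lib.Helper8.GaCh.isChar_iff f).1 hchar
    obtain ⟨a, ha, hf⟩ := Groth.Agent.Lib.Helper8.GaCh.eq_PP_of_star p f.natDegree f
      (Nat.lt_pow_self hp.out.one_lt) (by rw [Polynomial.coeff_zero_eq_eval_zero, h0])
      (fun i j _ _ => hstar i j)
    exact ⟨f.natDegree, a, ha, hf⟩
  · rintro ⟨N, a, ha, hf⟩
    have hf' : f = Groth.Agent.Lib.Helper8.GaCh.PP p N a := hf
    refine ⟨?_, ?_⟩
    · rw [← Polynomial.coeff_zero_eq_eval_zero, hf', Groth.Agent.Lib.Helper8.GaCh.coeff_zero_PP]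
    · have := Groth.Agent.Lib.Helper8.GaCh.isChar_PP p N a ha
      rw [← hf'] at this
      exact this

end Groth.Agent.S13357
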