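import Groth.Statements.S13358
import Mathlib
import Groth.Agent.Lib.Helper8.Lazard4

set_option autoImplicit false
universe u
open GaDual



namespace Groth.Agent.S13358

/-- Over a commutative algebra R of prime characteristic p, a polynomial F(X,Y) is symmetric and
satisfies the two-cocycle identity F(X,Y+Z) + F(Y,Z) − F(X+Y,Z) − F(X,Y) = 0 if and only if it has
the form G(X+Y) − G(X) − G(Y) + Σ_i r_i S(X^(p^i), Y^(p^i)) with G a one-variable polynomial, r_i in
R and S(X,Y) = Σ_{0<j<p} (C(p,j)/p) X^j Y^(p−j) the reduction mod p of ((X+Y)^p − X^p − Y^p)/p. -/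
theorem result (p : ℕ) [Fact p.Prime] (R : Type u) [CommRing R] [CharP R p]
    (F : MvPolynomial (Fin 2) R) :
    (MvPolynomial.aeval ![MvPolynomial.X 1, MvPolynomial.X 0] F = F ∧
      MvPolynomial.aeval ![MvPolynomial.X 0, MvPolynomial.X 1 + MvPolynomial.X 2] F
          + MvPolynomial.aeval ![MvPolynomial.X 1, MvPolynomial.X 2] F
          - MvPolynomial.aeval ![MvPolynomial.X 0 + MvPolynomial.X 1, MvPolynomial.X 2] F
          - MvPolynomial.aeval ![MvPolynomial.X 0, MvPolynomial.X 1] F = (0 : MvPolynomial (Fin 3) R)) ↔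
      ∃ (G : Polynomial R) (N : ℕ) (r : ℕ → R),
        F = Polynomial.aeval (MvPolynomial.X 0 + MvPolynomial.X 1 : MvPolynomial (Fin 2) R) G
              - Polynomial.aeval (MvPolynomial.X 0 : MvPolynomial (Fin 2) R) G
              - Polynomial.aeval (MvPolynomial.X 1 : MvPolynomial (Fin 2) R) G
            + ∑ i ∈ Finset.range N, MvPolynomial.C (r i) *
                MvPolynomial.aeval ![MvPolynomial.X 0 ^ p ^ i, MvPolynomial.X 1 ^ p ^ i]
                  (∑ j ∈ Finset.Ioo 0 p, MvPolynomial.C ((p.choose j / p : ℕ) : R) *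
                    MvPolynomial.X 0 ^ j * MvPolynomial.X 1 ^ (p - j) : MvPolynomial (Fin 2) R) := by
  classical
  open Groth.Agent.Lib.Helper8.Lazard in
  constructor
  · rintro ⟨hsymm, hcoc⟩
    have hD : ∀ i j, F.totalDegree < i + j → MvPolynomial.coeff (e2 i j) F = 0 := by
      intro i j hij
      apply MvPolynomial.coeff_eq_zero_of_totalDegree_lt
      rw [← Finsupp.degree_apply, e2_degree]
      exact hij
    obtain ⟨G, r, -, -, -, -, hF⟩ := additive_lazard p R ⊤ F (fun _ => trivial) hsymm hcoc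
      F.totalDegree hD
    exact ⟨G, F.totalDegree, r, hF⟩
  · rintro ⟨G, N, r, hF⟩
    have hF' : F = cobG G + ∑ t ∈ Finset.range N, MvPolynomial.C (r t) *
        MvPolynomial.aeval ![(MvPolynomial.X 0 : MvPolynomial (Fin 2) R) ^ p ^ t,
          MvPolynomial.X 1 ^ p ^ t] (Sp p R) := hF
    refine ⟨?_, ?_⟩
    · rw [hF', map_add, cobG_symm, Spart_symm]
    · change delta F = 0
      rw [hF', delta_add, delta_cobG, delta_Spart, add_zero]

end Groth.Agent.S13358
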