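import Groth.Statements.S13359
import Groth.Agent.Lib.Helper29.ProdLocal
import Mathlib.RingTheory.Localization.Integral
import Mathlib.RingTheory.IntegralClosure.IntegrallyClosed
import Mathlib.RingTheory.Localization.FractionRing

set_option autoImplicit false
universe u
open UltraProd

namespace Groth.Agent.S13359

lemma dvd_aux {D : Type*} [CommRing D] [IsDomain D] [IsIntegrallyClosed D]
    (F : Type*) [Field F] [Algebra D F] [IsFractionRing D F]
    (g : Polynomial D) (hg : g.Monic) (x y : D) (hy : y ≠ 0)
    (h : ∑ k ∈ Finset.range (g.natDegree + 1), g.coeff k * x ^ k * y ^ (g.natDegree - k) = 0) :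
    y ∣ x := by
  have hY : algebraMap D F y ≠ 0 := by
    rw [Ne, IsFractionRing.to_map_eq_zero_iff]; exact hy
  have hint : IsIntegral D (algebraMap D F x / algebraMap D F y) := by
    refine ⟨g, hg, ?_⟩
    rw [Polynomial.eval₂_eq_sum_range]
    have hpow : (algebraMap D F y) ^ g.natDegree ≠ 0 := pow_ne_zero _ hY
    apply (mul_right_injective₀ hpow)
    simp only [mul_zero]
    rw [Finset.mul_sum]
    have h' := congrArg (algebraMap D F) h
    rw [map_sum, map_zero] at h'
    rw [← h']
    refine Finset.sum_congr rfl fun k hk => ?_
    have hk' : k ≤ g.natDegree := Nat.lt_succ_iff.mp (Finset.mem_range.mp hk)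
    rw [map_mul, map_mul, map_pow, map_pow, div_pow]
    have : (algebraMap D F y) ^ g.natDegree
        = (algebraMap D F y) ^ k * (algebraMap D F y) ^ (g.natDegree - k) := by
      rw [← pow_add, Nat.add_sub_cancel' hk']
    rw [this]
    field_simp
  obtain ⟨r, hr⟩ := (isIntegrallyClosed_iff F).mp inferInstance hint
  refine ⟨r, ?_⟩
  apply IsFractionRing.injective D F
  rw [map_mul, hr, mul_div_cancel₀ _ hY]

lemma dvd_of_homogeneous_eq_zero {D : Type*} [CommRing D] [IsDomain D] [IsIntegrallyClosed D]
    (g : Polynomial D) (hg : g.Monic) (x y : D) (hy : y ≠ 0)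
    (h : ∑ k ∈ Finset.range (g.natDegree + 1), g.coeff k * x ^ k * y ^ (g.natDegree - k) = 0) :
    y ∣ x :=
  dvd_aux (FractionRing D) g hg x y hy h

/-- If (R_i) is a nonempty family of integrally closed domains, then the localization of the product
ring ∏ R_i at any prime ideal is an integrally closed domain. -/
theorem result {ι : Type u} [Nonempty ι] (R : ι → Type u)
    [∀ i, CommRing (R i)] [∀ i, IsDomain (R i)] [∀ i, IsIntegrallyClosed (R i)]
    (P : Ideal (∀ i, R i)) [P.IsPrime] :
    IsDomain (Localization.AtPrime P) ∧ IsIntegrallyClosed (Localization.AtPrime P) := by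
  classical
  have hdom : IsDomain (Localization.AtPrime P) :=
    Groth.Agent.Lib.Helper29.ProdLocal.isDomain_localization R P
  refine ⟨hdom, ?_⟩
  rw [isIntegrallyClosed_iff (FractionRing (Localization.AtPrime P))]
  intro z hz
  obtain ⟨t, ht⟩ := IsIntegral.exists_multiple_integral_of_isLocalization P.primeCompl z hz
  -- write `t • z` as a quotient of images of elements of the product
  have hinjLK : Function.Injective (algebraMap (Localization.AtPrime P)
      (FractionRing (Localization.AtPrime P))) := IsFractionRing.injective _ _
  obtain ⟨x, y, hy0, hxy⟩ : ∃ x y : ∀ i, R i,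
      algebraMap (∀ i, R i) (Localization.AtPrime P) y ≠ 0 ∧
      (t • z) * algebraMap (∀ i, R i) (FractionRing (Localization.AtPrime P)) y
        = algebraMap (∀ i, R i) (FractionRing (Localization.AtPrime P)) x := by
    obtain ⟨a, b, hb, hab⟩ := IsFractionRing.div_surjective (A := Localization.AtPrime P) (t • z)
    obtain ⟨⟨x, s⟩, hx⟩ := IsLocalization.surj P.primeCompl a
    obtain ⟨⟨y, s'⟩, hy⟩ := IsLocalization.surj P.primeCompl b
    simp only at hx hy
    have hb0 : b ≠ 0 := nonZeroDivisors.ne_zero hb
    have hs := IsLocalization.map_units (Localization.AtPrime P) s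
    have hs' := IsLocalization.map_units (Localization.AtPrime P) s'
    refine ⟨x * s', y * s, ?_, ?_⟩
    · rw [map_mul, ← hy]
      exact mul_ne_zero (mul_ne_zero hb0 hs'.ne_zero) hs.ne_zero
    · have hx' := congrArg (algebraMap (Localization.AtPrime P)
        (FractionRing (Localization.AtPrime P))) hx
      have hy' := congrArg (algebraMap (Localization.AtPrime P)
        (FractionRing (Localization.AtPrime P))) hy
      rw [map_mul] at hx' hy'
      have hbK : algebraMap (Localization.AtPrime P) (FractionRing (Localization.AtPrime P)) b ≠ 0 :=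
        fun h => hb0 (hinjLK (by rw [h, map_zero]))
      rw [IsScalarTower.algebraMap_apply (∀ i, R i) (Localization.AtPrime P)
        (FractionRing (Localization.AtPrime P)) (y * s),
        IsScalarTower.algebraMap_apply (∀ i, R i) (Localization.AtPrime P)
        (FractionRing (Localization.AtPrime P)) (x * s'), map_mul, map_mul, map_mul, map_mul,
        ← hx', ← hy', ← hab]
      field_simp
  obtain ⟨g, hgm, hg⟩ := ht
  rw [Polynomial.eval₂_eq_sum_range] at hg
  -- the homogenised relation in the product
  set w : ∀ i, R i := ∑ k ∈ Finset.range (g.natDegree + 1),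
    g.coeff k * x ^ k * y ^ (g.natDegree - k) with hw
  have hyK : algebraMap (∀ i, R i) (FractionRing (Localization.AtPrime P)) y ≠ 0 := by
    rw [IsScalarTower.algebraMap_apply (∀ i, R i) (Localization.AtPrime P)]
    exact fun h => hy0 (hinjLK (by rw [h, map_zero]))
  have hwK : algebraMap (∀ i, R i) (FractionRing (Localization.AtPrime P)) w = 0 := by
    rw [hw, map_sum]
    have : ∑ k ∈ Finset.range (g.natDegree + 1),
        algebraMap (∀ i, R i) (FractionRing (Localization.AtPrime P))
          (g.coeff k * x ^ k * y ^ (g.natDegree - k))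
        = (algebraMap (∀ i, R i) (FractionRing (Localization.AtPrime P)) y) ^ g.natDegree *
          ∑ k ∈ Finset.range (g.natDegree + 1),
            algebraMap (∀ i, R i) (FractionRing (Localization.AtPrime P)) (g.coeff k) *
              (t • z) ^ k := by
      rw [Finset.mul_sum]
      refine Finset.sum_congr rfl fun k hk => ?_
      have hk' : k ≤ g.natDegree := Nat.lt_succ_iff.mp (Finset.mem_range.mp hk)
      rw [map_mul, map_mul, map_pow, map_pow, ← hxy, mul_pow]
      have : (algebraMap (∀ i, R i) (FractionRing (Localization.AtPrime P)) y) ^ g.natDegree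
          = (algebraMap (∀ i, R i) (FractionRing (Localization.AtPrime P)) y) ^ k *
            (algebraMap (∀ i, R i) (FractionRing (Localization.AtPrime P)) y) ^ (g.natDegree - k) := by
        rw [← pow_add, Nat.add_sub_cancel' hk']
      rw [this]
      ring
    rw [this, hg, mul_zero]
  have hwL : algebraMap (∀ i, R i) (Localization.AtPrime P) w = 0 := by
    apply hinjLK
    rw [← IsScalarTower.algebraMap_apply, hwK, map_zero]
  obtain ⟨c, hc⟩ := (IsLocalization.map_eq_zero_iff P.primeCompl (Localization.AtPrime P) _).mp hwL
  have hU : Groth.Agent.Lib.Helper29.ProdLocal.ind R ({i | (c : ∀ i, R i) i ≠ 0} ∩ {i | y i ≠ 0}) ∉ P :=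
    Groth.Agent.Lib.Helper29.ProdLocal.ind_inter_notMem R P
      (Groth.Agent.Lib.Helper29.ProdLocal.ind_support_notMem R P c.2)
      (Groth.Agent.Lib.Helper29.ProdLocal.ind_support_notMem_of_algebraMap_ne_zero R P hy0)
  -- componentwise divisibility
  have hdvd : ∀ i ∈ ({i | (c : ∀ i, R i) i ≠ 0} ∩ {i | y i ≠ 0} : Set ι), y i ∣ x i := by
    rintro i ⟨hci, hyi⟩
    have hwi : w i = 0 := by
      have := congrFun hc i
      simp only [Pi.mul_apply, Pi.zero_apply] at this
      exact (mul_eq_zero.mp this).resolve_left hci
    have hgi : (g.map (Pi.evalRingHom R i)).Monic := hgm.map _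
    have hdeg : (g.map (Pi.evalRingHom R i)).natDegree = g.natDegree := hgm.natDegree_map _
    apply dvd_of_homogeneous_eq_zero (g.map (Pi.evalRingHom R i)) hgi (x i) (y i) hyi
    rw [hdeg, ← hwi, hw, Finset.sum_apply]
    refine Finset.sum_congr rfl fun k _ => ?_
    simp [Polynomial.coeff_map]
  let r : ∀ i, R i := fun i => if h : y i ∣ x i then h.choose else 0
  have hxr : algebraMap (∀ i, R i) (Localization.AtPrime P) x
      = algebraMap (∀ i, R i) (Localization.AtPrime P) (y * r) := by
    apply Groth.Agent.Lib.Helper29.ProdLocal.algebraMap_eq_of_eqOn R P _ hU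
    intro i hi
    have hi' := hdvd i hi
    simp only [Pi.mul_apply, r, dif_pos hi']
    exact hi'.choose_spec
  have htz : t • z = algebraMap (∀ i, R i) (FractionRing (Localization.AtPrime P)) r := by
    have h1 : (t • z) * algebraMap (∀ i, R i) (FractionRing (Localization.AtPrime P)) y
        = algebraMap (∀ i, R i) (FractionRing (Localization.AtPrime P)) r *
          algebraMap (∀ i, R i) (FractionRing (Localization.AtPrime P)) y := by
      rw [hxy, IsScalarTower.algebraMap_apply (∀ i, R i) (Localization.AtPrime P)
        (FractionRing (Localization.AtPrime P)) x, hxr, ← IsScalarTower.algebraMap_apply, map_mul,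
        mul_comm]
    exact mul_right_cancel₀ hyK h1
  refine ⟨IsLocalization.mk' (Localization.AtPrime P) r t, ?_⟩
  have htK : algebraMap (∀ i, R i) (FractionRing (Localization.AtPrime P)) (t : ∀ i, R i) ≠ 0 := by
    rw [IsScalarTower.algebraMap_apply (∀ i, R i) (Localization.AtPrime P)]
    intro h
    exact (IsLocalization.map_units (Localization.AtPrime P) t).ne_zero (hinjLK (by rw [h, map_zero]))
  apply mul_left_cancel₀ htK
  calc algebraMap (∀ i, R i) (FractionRing (Localization.AtPrime P)) (t : ∀ i, R i) *
        algebraMap (Localization.AtPrime P) (FractionRing (Localization.AtPrime P))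
          (IsLocalization.mk' (Localization.AtPrime P) r t)
      = algebraMap (Localization.AtPrime P) (FractionRing (Localization.AtPrime P))
          (algebraMap (∀ i, R i) (Localization.AtPrime P) (t : ∀ i, R i) *
            IsLocalization.mk' (Localization.AtPrime P) r t) := by
        rw [map_mul, ← IsScalarTower.algebraMap_apply]
    _ = algebraMap (Localization.AtPrime P) (FractionRing (Localization.AtPrime P))
          (algebraMap (∀ i, R i) (Localization.AtPrime P) r) := by
        rw [IsLocalization.mk'_spec']
    _ = algebraMap (∀ i, R i) (FractionRing (Localization.AtPrime P)) r :=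
        (IsScalarTower.algebraMap_apply (∀ i, R i) (Localization.AtPrime P)
          (FractionRing (Localization.AtPrime P)) r).symm
    _ = t • z := htz.symm
    _ = algebraMap (∀ i, R i) (FractionRing (Localization.AtPrime P)) (t : ∀ i, R i) * z := by
        rw [Submonoid.smul_def, Algebra.smul_def]

end Groth.Agent.S13359
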