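import Groth.Statements.S13360
import Groth.Agent.Lib.Helper29.ProdLocal

set_option autoImplicit false
universe u
open UltraProd

namespace Groth.Agent.S13360

/-- If (R_i) is a nonempty family of valuation rings, then the localization of the product ring ∏ R_i at
any prime ideal is a valuation ring: a domain in which, of any two elements, one divides the other. -/
theorem result {ι : Type u} [Nonempty ι] (R : ι → Type u)
    [∀ i, CommRing (R i)] [∀ i, IsDomain (R i)] [∀ i, ValuationRing (R i)]
    (P : Ideal (∀ i, R i)) [P.IsPrime] :
    IsDomain (Localization.AtPrime P) ∧ PreValuationRing (Localization.AtPrime P) := by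
  classical
  have hdom : IsDomain (Localization.AtPrime P) :=
    Groth.Agent.Lib.Helper29.ProdLocal.isDomain_localization R P
  refine ⟨hdom, ?_⟩
  -- divisibility of images of elements of the product
  have key : ∀ x y : ∀ i, R i,
      algebraMap (∀ i, R i) (Localization.AtPrime P) x ∣ algebraMap _ _ y ∨
      algebraMap (∀ i, R i) (Localization.AtPrime P) y ∣ algebraMap _ _ x := by
    intro x y
    rcases Groth.Agent.Lib.Helper29.ProdLocal.ind_or R P {i | x i ∣ y i} with hU | hU
    · left
      let c : ∀ i, R i := fun i => if h : x i ∣ y i then h.choose else 0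
      refine ⟨algebraMap _ _ c, ?_⟩
      rw [← map_mul]
      apply Groth.Agent.Lib.Helper29.ProdLocal.algebraMap_eq_of_eqOn R P _ hU
      intro i hi
      have hi' : x i ∣ y i := hi
      simp only [Pi.mul_apply, c, dif_pos hi']
      exact hi'.choose_spec
    · right
      let d : ∀ i, R i := fun i => if h : y i ∣ x i then h.choose else 0
      refine ⟨algebraMap _ _ d, ?_⟩
      rw [← map_mul]
      apply Groth.Agent.Lib.Helper29.ProdLocal.algebraMap_eq_of_eqOn R P _ hU
      intro i hi
      have hi' : y i ∣ x i := (ValuationRing.dvd_total (x i) (y i)).resolve_left hi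
      simp only [Pi.mul_apply, d, dif_pos hi']
      exact hi'.choose_spec
  rw [PreValuationRing.iff_dvd_total]
  constructor
  intro a b
  obtain ⟨⟨x, s⟩, hx⟩ := IsLocalization.surj P.primeCompl a
  obtain ⟨⟨y, t⟩, hy⟩ := IsLocalization.surj P.primeCompl b
  have hs := IsLocalization.map_units (Localization.AtPrime P) s
  have ht := IsLocalization.map_units (Localization.AtPrime P) t
  simp only at hx hy
  rcases key x y with h | h
  · left
    rw [← hx, ← hy] at h
    exact (hs.mul_right_dvd).mp ((ht.dvd_mul_right).mp h)
  · right
    rw [← hx, ← hy] at h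
    exact (ht.mul_right_dvd).mp ((hs.dvd_mul_right).mp h)

end Groth.Agent.S13360
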