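import Groth.Statements.S13361
import Mathlib.GroupTheory.FiniteAbelian.Basic

set_option autoImplicit false
universe u
open ProCompl

namespace Groth.Agent.S13361

/-- A finite abelian group with a nonzero element contained in every nonzero subgroup is isomorphic to a
cyclic group of prime-power order Z/p^n. -/
theorem result {A : Type u} [AddCommGroup A] [Finite A]
    (a : A) (ha : a ≠ 0) (h : ∀ B : AddSubgroup A, B ≠ ⊥ → a ∈ B) :
    ∃ p n : ℕ, p.Prime ∧ Nonempty (A ≃+ ZMod (p ^ n)) := by
  classical
  obtain ⟨ι, _, p, hp, e, ⟨f⟩⟩ := AddCommGroup.equiv_directSum_zmod_of_finite A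
  -- some component of `f a` is nonzero
  have hfa : f a ≠ 0 := fun hc => ha (f.injective (by rw [hc, map_zero]))
  obtain ⟨i₀, hi₀⟩ : ∃ i, (f a) i ≠ 0 := by
    by_contra hc
    apply hfa
    ext i
    by_contra hi
    exact hc ⟨i, hi⟩
  -- subgroup attached to an index
  let B : ι → AddSubgroup A := fun i =>
    ((DirectSum.of (fun i => ZMod (p i ^ e i)) i).range).comap f.toAddMonoidHom
  have hB : ∀ i, Nontrivial (ZMod (p i ^ e i)) → B i ≠ ⊥ := by
    intro i hnt hbot
    obtain ⟨u, hu⟩ := exists_ne (0 : ZMod (p i ^ e i))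
    have hmem : f.symm (DirectSum.of (fun i => ZMod (p i ^ e i)) i u) ∈ B i := by
      change f (f.symm (DirectSum.of (fun i => ZMod (p i ^ e i)) i u)) ∈
        (DirectSum.of (fun i => ZMod (p i ^ e i)) i).range
      rw [f.apply_symm_apply]
      exact ⟨u, rfl⟩
    rw [hbot, AddSubgroup.mem_bot] at hmem
    have h0 : DirectSum.of (fun i => ZMod (p i ^ e i)) i u = 0 := by
      have := congrArg f hmem
      rwa [f.apply_symm_apply, map_zero] at this
    apply hu
    have := congrArg (fun x => x i) h0
    simpa using this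
  have hsub : ∀ j, j ≠ i₀ → Subsingleton (ZMod (p j ^ e j)) := by
    intro j hj
    by_contra hns
    rw [not_subsingleton_iff_nontrivial] at hns
    obtain ⟨v, hv⟩ : f a ∈ (DirectSum.of (fun i => ZMod (p i ^ e i)) j).range := h (B j) (hB j hns)
    apply hi₀
    rw [← hv, DirectSum.of_eq_of_ne _ _ _ hj.symm]
  -- the projection to the `i₀` component is an isomorphism
  let π : (DirectSum ι fun i => ZMod (p i ^ e i)) →+ ZMod (p i₀ ^ e i₀) :=
    DirectSum.component ℤ ι (fun i => ZMod (p i ^ e i)) i₀ |>.toAddMonoidHom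
  have hπ : Function.Bijective π := by
    constructor
    · rw [injective_iff_map_eq_zero]
      intro x hx
      ext j
      by_cases hj : j = i₀
      · subst hj
        exact hx
      · have := hsub j hj
        exact Subsingleton.elim _ _
    · intro u
      refine ⟨DirectSum.of (fun i => ZMod (p i ^ e i)) i₀ u, ?_⟩
      change (DirectSum.of (fun i => ZMod (p i ^ e i)) i₀ u) i₀ = u
      rw [DirectSum.of_eq_same]
  exact ⟨p i₀, e i₀, hp i₀, ⟨f.trans (AddEquiv.ofBijective π hπ)⟩⟩

end Groth.Agent.S13361
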