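import Groth.Statements.S13362
import Mathlib.GroupTheory.Index
import Mathlib.GroupTheory.OrderOfElement
import Mathlib.RingTheory.Int.Basic
import Mathlib.RingTheory.PrincipalIdealDomain
import Mathlib.Data.Nat.Prime.Int
import Mathlib.Data.ZMod.QuotientGroup

set_option autoImplicit false
universe u
open ProCompl

namespace Groth.Agent.S13362

/-- transfer of the hypothesis to a subgroup containing `a` -/
lemma hyp_subgroup {A : Type u} [AddCommGroup A] (H : AddSubgroup A) (a : A) (haH : a ∈ H)
    (h : ∀ B : AddSubgroup A, B ≠ ⊥ → a ∈ B) :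
    ∀ B : AddSubgroup H, B ≠ ⊥ → (⟨a, haH⟩ : H) ∈ B := by
  intro B hB
  have hne : B.map H.subtype ≠ ⊥ := by
    rw [Ne, AddSubgroup.map_eq_bot_iff_of_injective _ H.subtype_injective]
    exact hB
  obtain ⟨b, hb, hba⟩ := h _ hne
  have : b = ⟨a, haH⟩ := Subtype.ext hba
  rwa [← this]

/-- Case of prime exponent. -/
lemma finite_of_prime_smul {A : Type u} [AddCommGroup A] (p : ℕ) (hp : p.Prime)
    (hpA : ∀ x : A, p • x = 0) (a : A) (ha : a ≠ 0)
    (h : ∀ B : AddSubgroup A, B ≠ ⊥ → a ∈ B) : Finite A := by
  have hall : ∀ x : A, x ∈ AddSubgroup.zmultiples a := by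
    intro x
    by_cases hx : x = 0
    · rw [hx]; exact zero_mem _
    have hmem := h (AddSubgroup.zmultiples x) (by
      rw [Ne, AddSubgroup.zmultiples_eq_bot]; exact hx)
    obtain ⟨m, hm⟩ := AddSubgroup.mem_zmultiples_iff.mp hmem
    have hpm : ¬ (p : ℤ) ∣ m := by
      rintro ⟨c, rfl⟩
      apply ha
      rw [← hm, mul_comm, mul_smul, natCast_zsmul, hpA, smul_zero]
    have hcop : IsCoprime (p : ℤ) m :=
      (Nat.prime_iff_prime_int.mp hp).irreducible.coprime_iff_not_dvd.mpr hpm
    obtain ⟨u, v, huv⟩ := hcop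
    have : x = v • a := by
      calc x = (1 : ℤ) • x := (one_smul _ _).symm
        _ = (u * p + v * m) • x := by rw [huv]
        _ = u • ((p : ℤ) • x) + v • (m • x) := by rw [add_smul, mul_smul, mul_smul]
        _ = v • a := by rw [natCast_zsmul, hpA, smul_zero, zero_add, hm]
    rw [this]
    exact AddSubgroup.zsmul_mem _ (AddSubgroup.mem_zmultiples a) v
  have hfin : Finite (AddSubgroup.zmultiples a) := by
    have hfo : IsOfFinAddOrder a := isOfFinAddOrder_iff_nsmul_eq_zero.mpr ⟨p, hp.pos, hpA a⟩
    exact (finite_zmultiples.mpr hfo).to_subtype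
  exact Finite.of_surjective (fun y : AddSubgroup.zmultiples a => (y : A))
    (fun x => ⟨⟨x, hall x⟩, rfl⟩)

lemma main : ∀ (N : ℕ), N ≠ 0 → ∀ (A : Type u) [AddCommGroup A], (∀ x : A, N • x = 0) →
    ∀ a : A, a ≠ 0 → (∀ B : AddSubgroup A, B ≠ ⊥ → a ∈ B) → Finite A := by
  intro N
  induction N using Nat.strong_induction_on with
  | _ N ih =>
    intro hN A _ hNA a ha h
    have hN1 : N ≠ 1 := by
      rintro rfl
      exact ha (by simpa using hNA a)
    have hpp : N.minFac.Prime := Nat.minFac_prime hN1
    obtain ⟨M, hM⟩ : N.minFac ∣ N := Nat.minFac_dvd N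
    have hM0 : M ≠ 0 := by
      rintro rfl
      rw [mul_zero] at hM
      exact hN hM
    have hMlt : M < N := by
      conv_rhs => rw [hM]
      exact lt_mul_of_one_lt_left (Nat.pos_of_ne_zero hM0) hpp.one_lt
    let φ : A →+ A := nsmulAddMonoidHom N.minFac
    have hφ : ∀ x, φ x = N.minFac • x := fun x => rfl
    rw [φ.finite_iff_finite_ker_range]
    constructor
    · by_cases hK : φ.ker = ⊥
      · rw [hK]; infer_instance
      · have haK : a ∈ φ.ker := h _ hK
        exact finite_of_prime_smul (A := φ.ker) N.minFac hpp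
          (fun x => Subtype.ext (by
            have := x.2
            rw [AddMonoidHom.mem_ker, hφ] at this
            simpa using this))
          ⟨a, haK⟩ (fun hc => ha (congrArg Subtype.val hc)) (hyp_subgroup _ a haK h)
    · by_cases hR : φ.range = ⊥
      · rw [hR]; infer_instance
      · have haR : a ∈ φ.range := h _ hR
        exact ih M hMlt hM0 φ.range
          (fun y => Subtype.ext (by
            obtain ⟨x, hx⟩ := y.2
            rw [AddSubgroup.coe_nsmul, ← hx, hφ, ← mul_smul, mul_comm, ← hM]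
            simpa using hNA x))
          ⟨a, haR⟩ (fun hc => ha (congrArg Subtype.val hc)) (hyp_subgroup _ a haR h)

/-- An abelian group of finite exponent having a nonzero element contained in every nonzero subgroup is
finite. -/
theorem result {A : Type u} [AddCommGroup A]
    (hA : AddMonoid.exponent A ≠ 0) (a : A) (ha : a ≠ 0) (h : ∀ B : AddSubgroup A, B ≠ ⊥ → a ∈ B) :
    Finite A := by
  exact main (AddMonoid.exponent A) hA A (fun x => AddMonoid.exponent_nsmul_eq_zero x) a ha h

end Groth.Agent.S13362
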