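import Groth.Statements.S13363
import Groth.Agent.S13362
import Mathlib.Topology.Algebra.OpenSubgroup
import Mathlib.GroupTheory.QuotientGroup.Basic
import Mathlib.Order.Zorn

set_option autoImplicit false
universe u
open ProCompl

namespace Groth.Agent.S13363

/-- Let A be a topological abelian group such that the subgroup n·A is open for each n > 0, and a ∈ A.
Then A has an open subgroup of finite index not containing a if and only if a does not lie in the
subgroup of divisible elements ∩_n nA. -/
theorem result {A : Type u} [AddCommGroup A]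
    [TopologicalSpace A] [IsTopologicalAddGroup A]
    (hn : ∀ n : ℕ, 0 < n → IsOpen (Set.range (fun x : A => n • x))) (a : A) :
    (∃ B : AddSubgroup A, IsOpen (B : Set A) ∧ B.FiniteIndex ∧ a ∉ B) ↔
      ¬ (∀ n : ℕ, 0 < n → ∃ b : A, n • b = a) := by
  constructor
  · rintro ⟨B, hBo, hBfi, haB⟩ hdiv
    obtain ⟨b, hb⟩ := hdiv B.index (Nat.pos_of_ne_zero hBfi.index_ne_zero)
    apply haB
    rw [← hb]
    exact B.nsmul_index_mem b
  · intro hnd
    have hex : ∃ n : ℕ, 0 < n ∧ ¬ ∃ b : A, n • b = a := by
      by_contra hc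
      apply hnd
      intro n hn0
      by_contra hb
      exact hc ⟨n, hn0, hb⟩
    obtain ⟨n, hn0, hna⟩ := hex
    let C : AddSubgroup A := (nsmulAddMonoidHom n : A →+ A).range
    have hCo : IsOpen (C : Set A) := hn n hn0
    have haC : a ∉ C := fun ⟨b, hb⟩ => hna ⟨b, hb⟩
    let S : Set (AddSubgroup A) := {B | C ≤ B ∧ a ∉ B}
    obtain ⟨B, hBmax⟩ : ∃ B, Maximal (· ∈ S) B := by
      apply zorn_le₀
      intro c hcS hchain
      by_cases hne : c.Nonempty
      · refine ⟨sSup c, ⟨?_, ?_⟩, fun z hz => le_sSup hz⟩
        · obtain ⟨z, hz⟩ := hne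
          exact (hcS hz).1.trans (le_sSup hz)
        · rw [AddSubgroup.mem_sSup_of_directedOn hne hchain.directedOn]
          rintro ⟨z, hz, haz⟩
          exact (hcS hz).2 haz
      · rw [Set.not_nonempty_iff_eq_empty] at hne
        exact ⟨C, ⟨le_rfl, haC⟩, fun z hz => by rw [hne] at hz; exact absurd hz (Set.notMem_empty z)⟩
    have hBS : B ∈ S := hBmax.prop
    have hmax : ∀ B' : AddSubgroup A, B < B' → a ∈ B' := by
      intro B' hlt
      by_contra haB'
      have hB'S : B' ∈ S := ⟨hBS.1.trans hlt.le, haB'⟩
      exact hlt.not_ge (hBmax.le_of_ge hB'S hlt.le)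
    refine ⟨B, AddSubgroup.isOpen_mono hBS.1 hCo, ?_, hBS.2⟩
    have hfin : Finite (A ⧸ B) := by
      apply Groth.Agent.S13362.main n hn0.ne' (A ⧸ B) _ (QuotientAddGroup.mk a)
      · rw [Ne, QuotientAddGroup.eq_zero_iff]
        exact hBS.2
      · intro D hD
        have hlt : B < D.comap (QuotientAddGroup.mk' B) := by
          refine lt_of_le_of_ne ?_ ?_
          · intro x hx
            rw [AddSubgroup.mem_comap, QuotientAddGroup.mk'_apply,
              (QuotientAddGroup.eq_zero_iff x).mpr hx]
            exact zero_mem _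
          · intro heq
            apply hD
            rw [eq_bot_iff]
            intro q hq
            obtain ⟨x, rfl⟩ := QuotientAddGroup.mk_surjective q
            have hx : x ∈ D.comap (QuotientAddGroup.mk' B) := hq
            rw [← heq] at hx
            rw [AddSubgroup.mem_bot, QuotientAddGroup.eq_zero_iff]
            exact hx
        exact hmax _ hlt
      · intro q
        obtain ⟨x, rfl⟩ := QuotientAddGroup.mk_surjective q
        rw [← QuotientAddGroup.mk_nsmul, QuotientAddGroup.eq_zero_iff]
        exact hBS.1 ⟨x, rfl⟩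
    exact AddSubgroup.finiteIndex_of_finite_quotient

end Groth.Agent.S13363
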