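import Groth.Statements.S13365
import Mathlib.Topology.Algebra.ClopenNhdofOne
import Mathlib.Topology.Algebra.Group.ClosedSubgroup

set_option autoImplicit false
universe u
open ProCompl

namespace Groth.Agent.S13365


/-- The quotient of a profinite (compact, Hausdorff, totally disconnected) abelian topological group by
a compact subgroup is profinite. -/
theorem result {A : Type u} [AddCommGroup A] [TopologicalSpace A]
    [IsTopologicalAddGroup A] [CompactSpace A] [T2Space A] [TotallyDisconnectedSpace A]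
    (B : AddSubgroup A) (hB : IsCompact (B : Set A)) :
    CompactSpace (A ⧸ B) ∧ T2Space (A ⧸ B) ∧ TotallyDisconnectedSpace (A ⧸ B) := by
  have hcl : IsClosed (B : Set A) := hB.isClosed
  have : IsClosed (B : Set A) := hcl
  refine ⟨inferInstance, inferInstance, ?_⟩
  rw [totallyDisconnectedSpace_iff_connectedComponent_zero]
  refine Set.eq_singleton_iff_unique_mem.mpr ⟨mem_connectedComponent, ?_⟩
  intro z hz
  obtain ⟨a, rfl⟩ := QuotientAddGroup.mk_surjective z
  by_contra hne
  have haB : a ∉ B := fun h => hne ((QuotientAddGroup.eq_zero_iff a).mpr h)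
  have hsInf := ProfiniteGrp.closedAddSubgroup_eq_sInf_open (⟨B, hcl⟩ : ClosedAddSubgroup A)
  have : ∃ N : AddSubgroup A, IsOpen (N : Set A) ∧ B ≤ N ∧ a ∉ N := by
    by_contra hcon
    push Not at hcon
    apply haB
    have : a ∈ sInf {N : AddSubgroup A | IsOpen (N : Set A) ∧ (⟨B, hcl⟩ : ClosedAddSubgroup A).toAddSubgroup ≤ N} := by
      rw [AddSubgroup.mem_sInf]
      rintro N ⟨hN1, hN2⟩
      exact hcon N hN1 hN2
    rw [← hsInf] at this
    exact this
  obtain ⟨N, hNo, hBN, haN⟩ := this
  let W : Set (A ⧸ B) := QuotientAddGroup.mk '' (N : Set A)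
  have hWo : IsOpen W := QuotientAddGroup.isOpenMap_coe _ hNo
  let NW : AddSubgroup (A ⧸ B) := N.map (QuotientAddGroup.mk' B)
  have hNW : (NW : Set (A ⧸ B)) = W := rfl
  have hWc : IsClosed W := hNW ▸ NW.isClosed_of_isOpen (hNW ▸ hWo)
  have h0W : (0 : A ⧸ B) ∈ W := ⟨0, N.zero_mem, rfl⟩
  have := (IsClopen.connectedComponent_subset ⟨hWc, hWo⟩ h0W) hz
  obtain ⟨n, hn, hna⟩ := this
  have h1 : -n + a ∈ B := QuotientAddGroup.eq.mp hna
  have : a ∈ N := by
    have := N.add_mem hn (hBN h1)
    simpa using this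
  exact haN this

end Groth.Agent.S13365
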