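import Groth.Statements.S13366
import Groth.Agent.Lib.Helper9.FrobModCoord

set_option autoImplicit false
universe u v
open FrobMod

namespace Groth.Agent.S13366

open Groth.Agent.Lib.Helper9.FrobModCoord Matrix


/-- Over a strictly Henselian local ring R of prime characteristic p (Henselian, separably closed
residue field), let M be a free module of finite rank n and T an additive Frobenius-semilinear
self-map of M (T(rm) = r^p T(m)) whose values generate M as an R-module; for a basis (e_i) this says
that the matrix of coefficients of the elements T(e_i) is invertible. Then the map T − 1 is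
surjective and its kernel has cardinality p^n. (The published statement calls T a
Frobenius-semilinear isomorphism; this row asks only that the values of T generate M over R, which
is the property of T the published proof uses. Requiring T itself to be bijective would, for M ≠ 0,
force the Frobenius of R to be surjective.) -/
theorem result (p : ℕ) [Fact p.Prime] {R : Type u} [CommRing R]
    [HenselianLocalRing R] [IsSepClosed (IsLocalRing.ResidueField R)] [CharP R p]
    {M : Type v} [AddCommGroup M] [Module R M] [Module.Free R M] [Module.Finite R M]
    (T : M →+ M) (hT : ∀ (r : R) (m : M), T (r • m) = r ^ p • T m)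
    (hspan : Submodule.span R (Set.range T) = ⊤) :
    Function.Surjective (fun m => T m - m) ∧ Nat.card {m : M // T m = m} = p ^ Module.finrank R M := by
  classical
  let e := Module.finBasis R M
  let C : Matrix (Fin (Module.finrank R M)) (Fin (Module.finrank R M)) R :=
    Matrix.of (fun i j => e.equivFun (T (e j)) i)
  -- T in coordinates
  have hTe : ∀ m : M, T m = ∑ j, (e.equivFun m j) ^ p • T (e j) := by
    intro m
    conv_lhs => rw [← e.sum_equivFun m, map_sum]
    exact Finset.sum_congr rfl (fun j _ => hT _ _)
  have hcoord : ∀ m : M, e.equivFun (T m) = Phi p C (e.equivFun m) := by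
    intro m
    funext i
    rw [Phi_apply, hTe m, map_sum, Finset.sum_apply]
    apply Finset.sum_congr rfl
    intro j _
    rw [map_smul, Pi.smul_apply, smul_eq_mul, mul_comm]
    rfl
  -- C is invertible
  have hC : IsUnit C := by
    rw [← Matrix.mulVec_surjective_iff_isUnit]
    intro y
    have hmem : e.equivFun.symm y ∈ Submodule.span R (Set.range (fun j => T (e j))) := by
      have hle : Submodule.span R (Set.range T) ≤
          Submodule.span R (Set.range (fun j => T (e j))) := by
        rw [Submodule.span_le]
        rintro _ ⟨m, rfl⟩
        change T m ∈ _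
        rw [hTe m]
        exact Submodule.sum_mem _ (fun j _ => Submodule.smul_mem _ _
          (Submodule.subset_span ⟨j, rfl⟩))
      exact hle (hspan ▸ Submodule.mem_top)
    obtain ⟨c, hc⟩ := (Submodule.mem_span_range_iff_exists_fun R).1 hmem
    refine ⟨c, ?_⟩
    have h1 : y = e.equivFun (∑ j, c j • T (e j)) := by
      rw [hc, LinearEquiv.apply_symm_apply]
    rw [h1, map_sum]
    funext i
    rw [Finset.sum_apply]
    simp only [Matrix.mulVec, dotProduct, map_smul, Pi.smul_apply, smul_eq_mul, C, Matrix.of_apply]
    exact Finset.sum_congr rfl (fun j _ => mul_comm _ _)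
  obtain ⟨hsurj, hcard⟩ := coord_main p C hC
  refine ⟨?_, ?_⟩
  · intro b
    obtain ⟨x, hx⟩ := hsurj (e.equivFun b)
    refine ⟨e.equivFun.symm x, ?_⟩
    apply e.equivFun.injective
    change e.equivFun (T (e.equivFun.symm x) - e.equivFun.symm x) = _
    rw [map_sub, hcoord, LinearEquiv.apply_symm_apply]
    exact hx
  · rw [← hcard]
    refine Nat.card_congr (Equiv.subtypeEquiv e.equivFun.toEquiv (fun m => ?_))
    change T m = m ↔ Phi p C (e.equivFun m) = e.equivFun m
    rw [← hcoord]
    exact e.equivFun.injective.eq_iff.symm

end Groth.Agent.S13366
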