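import Groth.Statements.S13367
import Groth.Agent.S13366

set_option autoImplicit false
universe u v
open FrobMod

namespace Groth.Agent.S13367

open IsLocalRing TensorProduct Polynomial

/-- transfer of separable closedness along a ring isomorphism -/
lemma isSepClosed_of_ringEquiv {K K' : Type*} [Field K] [Field K'] [IsSepClosed K]
    (e : K' ≃+* K) : IsSepClosed K' := by
  refine IsSepClosed.of_exists_root _ (fun q _ hirr hsep => ?_)
  have hdeg : (q.map e.toRingHom).degree ≠ 0 := by
    rw [degree_map]
    exact (degree_pos_of_irreducible hirr).ne'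
  obtain ⟨x, hx⟩ := IsSepClosed.exists_root (q.map e.toRingHom) hdeg hsep.map
  refine ⟨e.symm x, ?_⟩
  have h1 : e.toRingHom (q.eval (e.symm x)) = 0 := by
    rw [← eval_map_apply]
    simpa using hx
  exact (map_eq_zero_iff e.toRingHom e.injective).1 h1

section tau

variable {p : ℕ} {R : Type u} [CommRing R] {M : Type v} [AddCommGroup M] [Module R M]
  (T : M →+ M) (hT : ∀ (r : R) (m : M), T (r • m) = r ^ p • T m)

/-- preimage of a submodule under a semilinear map -/
def tau (N : Submodule R M) : Submodule R M where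
  carrier := {m | T m ∈ N}
  add_mem' := by
    intro a b ha hb
    simp only [Set.mem_ofPred_eq, map_add]
    exact N.add_mem ha hb
  zero_mem' := by simp
  smul_mem' := by
    intro r m hm
    simp only [Set.mem_ofPred_eq, hT]
    exact N.smul_mem _ hm

lemma mem_tau (N : Submodule R M) (m : M) : m ∈ tau T hT N ↔ T m ∈ N := Iff.rfl

lemma tau_mono : Monotone (tau T hT) := fun _ _ h _ hm => h hm

lemma tau_injective (hs : Function.Surjective T) : Function.Injective (tau T hT) := by
  intro N N' h
  ext x
  obtain ⟨m, rfl⟩ := hs x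
  rw [← mem_tau T hT, ← mem_tau T hT, h]

/-- the submodule `r M` -/
def mulSub (r : R) : Submodule R M := LinearMap.range (LinearMap.lsmul R M r)

lemma mem_mulSub (r : R) (x : M) : x ∈ (mulSub r : Submodule R M) ↔ ∃ m, r • m = x := by
  simp [mulSub, LinearMap.mem_range]

lemma tau_mulSub (hb : Function.Bijective T) (π : R) :
    tau T hT (mulSub (π ^ p)) = mulSub π := by
  ext m
  rw [mem_tau, mem_mulSub, mem_mulSub]
  constructor
  · rintro ⟨m', hm'⟩
    obtain ⟨m'', rfl⟩ := hb.2 m'
    rw [← hT] at hm'
    exact ⟨m'', hb.1 hm'⟩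
  · rintro ⟨m', rfl⟩
    exact ⟨T m', (hT _ _).symm⟩

include hT in
theorem smul_eq_zero_of_bijective [IsNoetherian R M] (hp : 2 ≤ p) (hb : Function.Bijective T)
    (π : R) (hπ : π ∈ Ideal.jacobson (⊥ : Ideal R)) (m : M) : π • m = 0 := by
  have hle : (mulSub (π ^ p) : Submodule R M) ≤ mulSub π := by
    intro x hx
    obtain ⟨m', rfl⟩ := (mem_mulSub _ _).1 hx
    refine (mem_mulSub _ _).2 ⟨π ^ (p - 1) • m', ?_⟩
    rw [smul_smul, ← pow_succ', Nat.sub_add_cancel (by omega)]
  have h0 : (mulSub π : Submodule R M) ≤ tau T hT (mulSub π) := by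
    conv_lhs => rw [← tau_mulSub T hT hb π]
    exact tau_mono T hT hle
  let f : ℕ →o Submodule R M :=
    ⟨fun k => (tau T hT)^[k] (mulSub π), monotone_nat_of_le_succ (fun k => by
      rw [Function.iterate_succ_apply]
      exact (tau_mono T hT).iterate k h0)⟩
  obtain ⟨k, hk⟩ := monotone_stabilizes_iff_noetherian.2 (inferInstance : IsNoetherian R M) f
  have h1 : (tau T hT)^[k] (mulSub π) = (tau T hT)^[k] (tau T hT (mulSub π)) := by
    have := hk (k + 1) (Nat.le_succ k)
    simpa [f, Function.iterate_succ_apply] using this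
  have h2 : (mulSub π : Submodule R M) = tau T hT (mulSub π) :=
    (tau_injective T hT hb.2).iterate k h1
  have h3 : (mulSub π : Submodule R M) = mulSub (π ^ p) := by
    apply tau_injective T hT hb.2
    rw [tau_mulSub T hT hb π, ← h2]
  have h4 : (mulSub π : Submodule R M) = ⊥ := by
    apply Submodule.eq_bot_of_le_smul_of_le_jacobson_bot (Ideal.span {π ^ (p - 1)}) _
      (IsNoetherian.noetherian _)
    · conv_lhs => rw [h3]
      intro x hx
      obtain ⟨m', rfl⟩ := (mem_mulSub _ _).1 hx
      have : π ^ p • m' = π ^ (p - 1) • (π • m') := by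
        rw [smul_smul, ← pow_succ, Nat.sub_add_cancel (by omega)]
      rw [this]
      exact Submodule.smul_mem_smul (Ideal.subset_span rfl) ((mem_mulSub _ _).2 ⟨m', rfl⟩)
    · rw [Ideal.span_le]
      intro x hx
      rw [Set.mem_singleton_iff] at hx
      rw [hx]
      exact Ideal.pow_mem_of_mem _ hπ _ (by omega)
  have : π • m ∈ (mulSub π : Submodule R M) := (mem_mulSub _ _).2 ⟨m, rfl⟩
  rw [h4] at this
  exact (Submodule.mem_bot R).1 this

end tau


set_option backward.isDefEq.respectTransparency false in
lemma mk_one_injective {R : Type u} [CommRing R] [IsLocalRing R] {M : Type v} [AddCommGroup M]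
    [Module R M] (hbot : maximalIdeal R • (⊤ : Submodule R M) = ⊥) :
    Function.Injective (TensorProduct.mk R (ResidueField R) M 1) := by
  rw [injective_iff_map_eq_zero]
  intro m hm
  have h2 : (quotTensorEquivQuotSMul M (maximalIdeal R)) ((1 : R ⧸ maximalIdeal R) ⊗ₜ[R] m) =
      Submodule.Quotient.mk m :=
    quotTensorEquivQuotSMul_mk_one_tmul (maximalIdeal R) m
  have h1 : (quotTensorEquivQuotSMul M (maximalIdeal R)) ((1 : R ⧸ maximalIdeal R) ⊗ₜ[R] m) = 0 := by
    have : ((1 : R ⧸ maximalIdeal R) ⊗ₜ[R] m) = 0 := hm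
    rw [this, map_zero]
  rw [h2, Submodule.Quotient.mk_eq_zero, hbot] at h1
  exact (Submodule.mem_bot R).1 h1


/-- Over a strictly Henselian discrete valuation ring R of prime characteristic p with residue field κ,
for a finitely generated module M with n = dim_κ(κ ⊗ M) and a Frobenius-semilinear additive
bijection T of M (T(rm) = r^p T(m)), the map T − 1 is surjective and its kernel has cardinality p^n. -/
theorem result (p : ℕ) [Fact p.Prime] {R : Type u} [CommRing R] [IsDomain R]
    [IsDiscreteValuationRing R] [HenselianLocalRing R] [IsSepClosed (IsLocalRing.ResidueField R)] [CharP R p]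
    {M : Type v} [AddCommGroup M] [Module R M] [Module.Finite R M]
    (T : M →+ M) (hT : ∀ (r : R) (m : M), T (r • m) = r ^ p • T m) (hbij : Function.Bijective T) :
    Function.Surjective (fun m => T m - m) ∧
      Nat.card {m : M // T m = m} =
        p ^ Module.finrank (IsLocalRing.ResidueField R) (TensorProduct R (IsLocalRing.ResidueField R) M) := by
  classical
  have hp : p.Prime := Fact.out
  obtain ⟨π, hπ⟩ := IsDiscreteValuationRing.exists_irreducible R
  have hmax : maximalIdeal R = Ideal.span {π} := hπ.maximalIdeal_eq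
  have hπm : π ∈ maximalIdeal R := by rw [hmax]; exact Ideal.subset_span rfl
  have hkillπ : ∀ m : M, π • m = 0 := fun m =>
    smul_eq_zero_of_bijective T hT hp.two_le hbij π
      (by rw [IsLocalRing.jacobson_eq_maximalIdeal _ bot_ne_top]; exact hπm) m
  have hkill : ∀ r ∈ maximalIdeal R, ∀ m : M, r • m = 0 := by
    intro r hr m
    rw [hmax, Ideal.mem_span_singleton] at hr
    obtain ⟨s, rfl⟩ := hr
    rw [mul_comm, mul_smul, hkillπ, smul_zero]
  have hbot : (maximalIdeal R) • (⊤ : Submodule R M) = ⊥ := by
    rw [eq_bot_iff, Submodule.smul_le]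
    intro r hr m _
    rw [hkill r hr m]
    exact Submodule.zero_mem _
  -- the comparison map
  let φ : M →ₗ[R] (ResidueField R) ⊗[R] M := TensorProduct.mk R (ResidueField R) M 1
  have hφs : Function.Surjective φ :=
    TensorProduct.mk_surjective R M (ResidueField R) residue_surjective
  have hφi : Function.Injective φ := mk_one_injective hbot
  let φe : M ≃+ (ResidueField R) ⊗[R] M := AddEquiv.ofBijective φ.toAddMonoidHom ⟨hφi, hφs⟩
  have hφe : ∀ m, φe m = (1 : ResidueField R) ⊗ₜ[R] m := fun m => rfl
  let T' : (ResidueField R) ⊗[R] M →+ (ResidueField R) ⊗[R] M :=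
    (φe.toAddMonoidHom.comp T).comp φe.symm.toAddMonoidHom
  have hT'φ : ∀ m, T' (φe m) = φe (T m) := by
    intro m
    simp [T']
  have hsm : ∀ (r : R) (m : M), (residue R r) • φe m = φe (r • m) := by
    intro r m
    have h1 : (r • (1 : ResidueField R)) = residue R r := by
      rw [Algebra.smul_def, mul_one]; rfl
    rw [hφe, hφe, TensorProduct.smul_tmul', smul_eq_mul, mul_one, TensorProduct.tmul_smul,
      TensorProduct.smul_tmul', h1]
  have hT' : ∀ (c : ResidueField R) (x : (ResidueField R) ⊗[R] M), T' (c • x) = c ^ p • T' x := by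
    intro c x
    obtain ⟨r, rfl⟩ := residue_surjective c
    obtain ⟨m, rfl⟩ := φe.surjective x
    rw [hsm, hT'φ, hT'φ, hT, ← map_pow, hsm]
  have hT's : Function.Bijective T' := by
    have : ⇑T' = φe ∘ T ∘ φe.symm := rfl
    rw [this]
    exact φe.bijective.comp (hbij.comp φe.symm.bijective)
  have hspan' : Submodule.span (ResidueField R) (Set.range T') = ⊤ := by
    rw [Set.range_eq_univ.2 hT's.2, Submodule.span_univ]
  have hchar : CharP (ResidueField R) p :=
    Groth.Agent.Lib.Helper9.FrobModCoord.charP_residueField p R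
  have hsep : IsSepClosed (ResidueField (ResidueField R)) :=
    isSepClosed_of_ringEquiv
      (RingEquiv.ofBijective (residue (ResidueField R))
        ⟨(residue (ResidueField R)).injective, residue_surjective⟩).symm
  obtain ⟨hsurj, hcard⟩ := Groth.Agent.S13366.result p (R := ResidueField R)
    (M := (ResidueField R) ⊗[R] M) T' hT' hspan'
  refine ⟨?_, ?_⟩
  · intro b
    obtain ⟨x, hx⟩ := hsurj (φe b)
    obtain ⟨m, rfl⟩ := φe.surjective x
    refine ⟨m, φe.injective ?_⟩
    change φe (T m - m) = φe b
    rw [map_sub, ← hT'φ]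
    exact hx
  · rw [← hcard]
    refine Nat.card_congr (Equiv.subtypeEquiv φe.toEquiv (fun m => ?_))
    change T m = m ↔ T' (φe m) = φe m
    rw [hT'φ]
    exact φe.injective.eq_iff.symm

end Groth.Agent.S13367
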