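import Groth.Statements.S13370
import Mathlib

set_option autoImplicit false
universe u
open GaDual

namespace Groth.Agent.S13370


open AlgebraicGeometry
open AlgebraicGeometry AffineSpace MvPolynomial CategoryTheory Limits

theorem affine_claim (n : Type u) (S : Scheme.{u}) [IsAffine S] [IsReduced S]
    (w : Γ(𝔸(n; S), ⊤)) (hw : IsUnit w) :
    ∃ a : Γ(S, ⊤), (𝔸(n; S) ↘ S).appTop a = w := by
  let Ψ : MvPolynomial n Γ(S, ⊤) →+* Γ(𝔸(n; S), ⊤) :=
    eval₂Hom ((𝔸(n; S) ↘ S).appTop).hom (coord S)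
  have hΨ : Function.Bijective Ψ := by
    have h1 : IsIso ((isoOfIsAffine n S).hom.appTop) := by
      show IsIso ((isoOfIsAffine n S).hom.app ⊤)
      infer_instance
    rw [isoOfIsAffine_hom_appTop] at h1
    have h2 : IsIso (CommRingCat.ofHom Ψ) := IsIso.of_isIso_comp_left (Scheme.ΓSpecIso _).hom _
    exact (ConcreteCategory.isIso_iff_bijective _).mp h2
  obtain ⟨P, rfl⟩ := hΨ.2 w
  have hP : IsUnit P := by
    let e := RingEquiv.ofBijective Ψ hΨ
    have : IsUnit (e P) := hw
    exact (MulEquiv.isUnit_map e).mp this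
  obtain ⟨r, hr, rfl⟩ := (isUnit_iff_eq_C_of_isReduced).mp hP
  exact ⟨r, by simp [Ψ]⟩

open AlgebraicGeometry in
/-- Over a reduced scheme X, each invertible global function on 𝔸ⁿ_X comes, by pullback along the
projection to X, from an invertible global function on X. -/
theorem result (n : Type u) [Finite n] (X : Scheme.{u}) [IsReduced X]
    (w : Γ(𝔸(n; X), ⊤)) (hw : IsUnit w) :
    ∃ v : Γ(X, ⊤), IsUnit v ∧ (𝔸(n; X) ↘ X).appTop v = w := by

  let p : 𝔸(n; X) ⟶ X := 𝔸(n; X) ↘ X
  let s : X ⟶ 𝔸(n; X) := homOfVector (𝟙 X) 0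
  have hsp : s ≫ p = 𝟙 X := homOfVector_over _ _
  refine ⟨s.appTop w, hw.map _, ?_⟩
  apply Scheme.OpenCover.ext_elem _ _ (X.affineCover.pullback₁ p)
  intro (i : X.affineCover.I₀)
  let j : X.affineCover.X i ⟶ X := X.affineCover.f i
  let e : 𝔸(n; X.affineCover.X i) ≅ pullback p j := (isPullback_map (n := n) j).isoPullback
  have he : e.hom ≫ pullback.fst p j = map n j := IsPullback.isoPullback_hom_fst _
  have he' : pullback.fst p j = e.inv ≫ map n j := by rw [← he, Iso.inv_hom_id_assoc]
  show (pullback.fst p j).app ⊤ (p.appTop (s.appTop w)) = (pullback.fst p j).app ⊤ w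
  suffices h : (map n j).appTop (p.appTop (s.appTop w)) = (map n j).appTop w by
    rw [he']
    rw [Scheme.Hom.comp_app]
    exact congrArg (e.inv.app ((map n j) ⁻¹ᵁ ⊤)) h
  let pS : 𝔸(n; X.affineCover.X i) ⟶ X.affineCover.X i := 𝔸(n; X.affineCover.X i) ↘ X.affineCover.X i
  let sS : X.affineCover.X i ⟶ 𝔸(n; X.affineCover.X i) := homOfVector (𝟙 _) 0
  have hspS : sS ≫ pS = 𝟙 _ := homOfVector_over _ _
  have h1 : map n j ≫ p = pS ≫ j := map_over j
  have h2 : sS ≫ map n j = j ≫ s := by
    apply AffineSpace.hom_ext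
    · rw [Category.assoc, map_over, ← Category.assoc, hspS, Category.id_comp, Category.assoc]
      show j = j ≫ s ≫ p
      rw [hsp, Category.comp_id]
    · intro k
      rw [Scheme.Hom.comp_appTop, Scheme.Hom.comp_appTop, CommRingCat.comp_apply,
        CommRingCat.comp_apply, map_appTop_coord]
      simp only [sS, s, homOfVector_appTop_coord]
      simp
  have h3 : map n j ≫ p ≫ s = pS ≫ sS ≫ map n j := by
    rw [← Category.assoc, h1, Category.assoc, h2]
  have key : ∀ x : Γ(𝔸(n; X), ⊤), (map n j).appTop (p.appTop (s.appTop x)) =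
      pS.appTop (sS.appTop ((map n j).appTop x)) := by
    intro x
    have := congrArg (fun φ => φ.appTop x) h3
    simpa only [Scheme.Hom.comp_appTop, CommRingCat.comp_apply] using this
  rw [key]
  have : IsReduced (X.affineCover.X i) := isReduced_of_isOpenImmersion j
  obtain ⟨a, ha⟩ := affine_claim n (X.affineCover.X i) ((map n j).appTop w) (hw.map _)
  rw [← ha]
  have h4 : sS.appTop (pS.appTop a) = a := by
    have := congrArg (fun φ => φ.appTop a) hspS
    simpa only [Scheme.Hom.comp_appTop, CommRingCat.comp_apply, Scheme.Hom.id_appTop,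
      CommRingCat.id_apply] using this
  rw [h4]

end Groth.Agent.S13370
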