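import Groth.Statements.S13373
import Mathlib
import Groth.Agent.Lib.Helper8.GaCh2

set_option autoImplicit false
universe u
open GaDual



namespace Groth.Agent.S13373

/-- Over a commutative algebra A of prime characteristic p, the formal characters (power series χ with
constant term 1 and χ(X+Y) = χ(X)χ(Y)) are exactly the infinite products ∏_n exp_p(a_n X^(p^n)) with
a_n^p = 0, where exp_p(Y) = Σ_{j<p} Y^j/j!; the infinite product is expressed through its
truncations: χ mod X^(p^m) equals the finite product over n < m. -/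
theorem result (p : ℕ) [Fact p.Prime] (A : Type u) [CommRing A] [CharP A p]
    (χ : PowerSeries A) :
    (PowerSeries.constantCoeff χ = 1 ∧
      PowerSeries.subst (MvPowerSeries.X 0 + MvPowerSeries.X 1 : MvPowerSeries (Fin 2) A) χ =
        PowerSeries.subst (MvPowerSeries.X 0 : MvPowerSeries (Fin 2) A) χ *
          PowerSeries.subst (MvPowerSeries.X 1 : MvPowerSeries (Fin 2) A) χ) ↔
      ∃ a : ℕ → A, (∀ n, a n ^ p = 0) ∧ ∀ m : ℕ,
        PowerSeries.trunc (p ^ m) χ = ∏ n ∈ Finset.range m, ∑ j ∈ Finset.range p,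
          Polynomial.C (Ring.inverse (j.factorial : A) * a n ^ j) * Polynomial.X ^ (j * p ^ n) := by
  have hp : Fact p.Prime := inferInstance
  constructor
  · rintro ⟨h0, hchar⟩
    have hstar := (Groth.Agent.Lib.Helper29.GaChar.char_iff χ).1 hchar
    set c : ℕ → A := fun m => PowerSeries.coeff m χ with hc
    have hc0 : c 0 = 1 := by
      simp only [hc]
      rw [PowerSeries.coeff_zero_eq_constantCoeff_apply, h0]
    have hst : ∀ n, Groth.Agent.Lib.Helper8.GaCh.Star (p ^ n) c := fun n i j _ _ => hstar i j
    refine ⟨fun k => c (p ^ k), ?_, ?_⟩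
    · intro k
      exact Groth.Agent.Lib.Helper8.GaCh.pow_eq_zero_of_star (k + 1) c hc0 (hst (k + 1)) k
        (Nat.lt_succ_self k)
    · intro m
      have hPP : (∏ n ∈ Finset.range m, ∑ j ∈ Finset.range p,
          Polynomial.C (Ring.inverse (j.factorial : A) * (fun k => c (p ^ k)) n ^ j) *
            Polynomial.X ^ (j * p ^ n)) =
          Groth.Agent.Lib.Helper8.GaCh.PP p m (fun k => c (p ^ k)) := rfl
      rw [hPP]
      ext i
      rw [PowerSeries.coeff_trunc]
      split_ifs with hi
      · exact Groth.Agent.Lib.Helper8.GaCh.coeff_eq_of_star m c hc0 (hst m) i hi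
      · rw [Polynomial.coeff_eq_zero_of_natDegree_lt
          (lt_of_lt_of_le (Groth.Agent.Lib.Helper8.GaCh.natDegree_PP_lt p m _) (by omega))]
  · rintro ⟨a, ha, htr⟩
    have hcoef : ∀ m k, k < p ^ m → PowerSeries.coeff k χ =
        (Groth.Agent.Lib.Helper8.GaCh.PP p m a).coeff k := by
      intro m k hk
      have h := congrArg (fun q => Polynomial.coeff q k) (htr m)
      simp only [PowerSeries.coeff_trunc, if_pos hk] at h
      exact h
    refine ⟨?_, ?_⟩
    · rw [← PowerSeries.coeff_zero_eq_constantCoeff_apply, hcoef 0 0 (by simp),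
        Groth.Agent.Lib.Helper8.GaCh.coeff_zero_PP]
    · rw [Groth.Agent.Lib.Helper29.GaChar.char_iff]
      intro i j
      have hlt : i + j < p ^ (i + j) := Nat.lt_pow_self hp.out.one_lt
      rw [hcoef (i + j) (i + j) hlt, hcoef (i + j) i (by omega), hcoef (i + j) j (by omega)]
      exact (Groth.Agent.Lib.Helper8.GaCh.isChar_iff _).1
        (Groth.Agent.Lib.Helper8.GaCh.isChar_PP p (i + j) a ha) i j

end Groth.Agent.S13373
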