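import Groth.Statements.S13375
import Groth.Agent.Lib.Helper2.CompareInj

set_option autoImplicit false
universe u v
open CechDer

namespace Groth.Agent.S13375
section Aux
open CategoryTheory CategoryTheory.Limits CategoryTheory.Category

variable {V : Type u} [Category.{v} V] [Abelian V]

/-- the cokernel complex of a degreewise mono embeds degreewise into the third term of a
degreewise left exact sequence -/
lemma mono_desc_f (C' C C'' : CochainComplex V ℕ) (jC : C' ⟶ C) (πC : C ⟶ C'')
    (mC : ∀ n, Mono (jC.f n)) (wC : ∀ n, jC.f n ≫ πC.f n = 0)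
    (exC : ∀ n, (ShortComplex.mk (jC.f n) (πC.f n) (wC n)).Exact)
    (hw : jC ≫ πC = 0) (n : ℕ) : Mono ((cokernel.desc jC πC hw).f n) := by
  have : Mono jC := HomologicalComplex.mono_of_mono_f _ mC
  have hS : (ShortComplex.mk jC (cokernel.π jC) (cokernel.condition jC)).ShortExact :=
    ShortComplex.ShortExact.mk' (ShortComplex.exact_of_g_is_cokernel _ (cokernelIsCokernel jC))
      inferInstance inferInstance
  have hSn := hS.map_of_exact (HomologicalComplex.eval V (ComplexShape.up ℕ) n)
  let e : (cokernel jC).X n ≅ cokernel (jC.f n) :=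
    IsColimit.coconePointUniqueUpToIso hSn.gIsCokernel (colimit.isColimit (parallelPair (jC.f n) 0))
  have he : (cokernel.π jC).f n ≫ e.hom = cokernel.π (jC.f n) :=
    IsColimit.comp_coconePointUniqueUpToIso_hom hSn.gIsCokernel
      (colimit.isColimit (parallelPair (jC.f n) 0)) WalkingParallelPair.one
  have hm : Mono (cokernel.desc (jC.f n) (πC.f n) (wC n)) :=
    (ShortComplex.exact_iff_mono_cokernel_desc _).mp (exC n)
  have hfac : (cokernel.desc jC πC hw).f n = e.hom ≫ cokernel.desc (jC.f n) (πC.f n) (wC n) := by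
    have : Epi ((cokernel.π jC).f n) := hSn.epi_g
    rw [← cancel_epi ((cokernel.π jC).f n), ← assoc, he, cokernel.π_desc,
      ← HomologicalComplex.comp_f, cokernel.π_desc]
  rw [hfac]
  exact mono_comp _ _

end Aux

open CategoryTheory CategoryTheory.Limits in

open CategoryTheory CategoryTheory.Limits in
/-- In an abelian category, given two degreewise left exact sequences of nonnegatively graded cochain
complexes 0 → C' → C → C'' and 0 → I' → I → I'', each complex exact in positive degrees and the I's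
termwise injective, every commutative ladder of maps g', g, g'' between their degree-zero
cohomologies is induced by chain maps f' : C' → I', f : C → I, f'' : C'' → I'' commuting with the
given maps of complexes. -/
theorem result {V : Type u} [Category.{v} V]
    [Abelian V] (C' C C'' I' I I'' : CochainComplex V ℕ)
    (jC : C' ⟶ C) (πC : C ⟶ C'') (jI : I' ⟶ I) (πI : I ⟶ I'')
    (mC : ∀ n, Mono (jC.f n)) (wC : ∀ n, jC.f n ≫ πC.f n = 0)
    (exC : ∀ n, (ShortComplex.mk (jC.f n) (πC.f n) (wC n)).Exact)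
    (mI : ∀ n, Mono (jI.f n)) (wI : ∀ n, jI.f n ≫ πI.f n = 0)
    (exI : ∀ n, (ShortComplex.mk (jI.f n) (πI.f n) (wI n)).Exact)
    (hC' : ∀ n, 0 < n → C'.ExactAt n) (hC : ∀ n, 0 < n → C.ExactAt n) (hC'' : ∀ n, 0 < n → C''.ExactAt n)
    (hI' : ∀ n, 0 < n → I'.ExactAt n) (hI : ∀ n, 0 < n → I.ExactAt n) (hI'' : ∀ n, 0 < n → I''.ExactAt n)
    (injI' : ∀ n, Injective (I'.X n)) (injI : ∀ n, Injective (I.X n)) (injI'' : ∀ n, Injective (I''.X n))
    (g' : C'.homology 0 ⟶ I'.homology 0) (g : C.homology 0 ⟶ I.homology 0)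
    (g'' : C''.homology 0 ⟶ I''.homology 0)
    (hg1 : HomologicalComplex.homologyMap jC 0 ≫ g = g' ≫ HomologicalComplex.homologyMap jI 0)
    (hg2 : HomologicalComplex.homologyMap πC 0 ≫ g'' = g ≫ HomologicalComplex.homologyMap πI 0) :
    ∃ (f' : C' ⟶ I') (f : C ⟶ I) (f'' : C'' ⟶ I''),
      jC ≫ f = f' ≫ jI ∧ πC ≫ f'' = f ≫ πI ∧
      HomologicalComplex.homologyMap f' 0 = g' ∧ HomologicalComplex.homologyMap f 0 = g ∧
      HomologicalComplex.homologyMap f'' 0 = g'' := by
  classical
  open Groth.Agent.Lib.Helper2.CompareInj in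
  -- Step 1
  obtain ⟨f', hf'⟩ := exists_lift C' I' hC' injI' g'
  -- Step 2
  obtain ⟨f₀, hf₀⟩ := exists_lift C I hC injI g
  obtain ⟨f, hf1, hf2⟩ := exists_extension C' C I hC' injI jC mC (f' ≫ jI) f₀ (by
    rw [HomologicalComplex.homologyMap_comp, HomologicalComplex.homologyMap_comp, hf₀, hf', hg1])
  rw [hf₀] at hf2
  -- Step 3
  have hwC : jC ≫ πC = 0 := by ext n; exact wC n
  have hwI : jI ≫ πI = 0 := by ext n; exact wI n
  have : Mono jC := HomologicalComplex.mono_of_mono_f _ mC
  have hS : (ShortComplex.mk jC (cokernel.π jC) (cokernel.condition jC)).ShortExact :=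
    ShortComplex.ShortExact.mk' (ShortComplex.exact_of_g_is_cokernel _ (cokernelIsCokernel jC))
      inferInstance inferInstance
  let ι : cokernel jC ⟶ C'' := cokernel.desc jC πC hwC
  have hφw : jC ≫ f ≫ πI = 0 := by
    rw [← Category.assoc, hf1, Category.assoc, hwI, comp_zero]
  let φ : cokernel jC ⟶ I'' := cokernel.desc jC (f ≫ πI) hφw
  obtain ⟨f''₀, hf''₀⟩ := exists_lift C'' I'' hC'' injI'' g''
  have hιmono : ∀ n, Mono (ι.f n) := mono_desc_f C' C C'' jC πC mC wC exC hwC
  have hP : ∀ n, 0 < n → (cokernel jC).ExactAt n := by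
    intro n hn
    rw [HomologicalComplex.exactAt_iff_isZero_homology]
    have hex := hS.homology_exact₃ n (n + 1) rfl
    have h1 : IsZero (C.homology n) := (hC n hn).isZero_homology
    have h2 : IsZero (C'.homology (n + 1)) := (hC' (n + 1) (by omega)).isZero_homology
    exact hex.isZero_X₂ (h1.eq_of_src _ _) (h2.eq_of_tgt _ _)
  have hepi : Epi (HomologicalComplex.homologyMap (cokernel.π jC) 0) := by
    have hex := hS.homology_exact₃ 0 1 rfl
    have h2 : IsZero (C'.homology 1) := (hC' 1 (by omega)).isZero_homology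
    exact hex.epi_f (h2.eq_of_tgt _ _)
  have h0'' : HomologicalComplex.homologyMap (ι ≫ f''₀) 0 = HomologicalComplex.homologyMap φ 0 := by
    rw [← cancel_epi (HomologicalComplex.homologyMap (cokernel.π jC) 0),
      ← HomologicalComplex.homologyMap_comp, ← HomologicalComplex.homologyMap_comp,
      ← Category.assoc, cokernel.π_desc, cokernel.π_desc,
      HomologicalComplex.homologyMap_comp, HomologicalComplex.homologyMap_comp, hf''₀, hf2, hg2]
  obtain ⟨f'', hf''1, hf''2⟩ := exists_extension (cokernel jC) C'' I'' hP injI'' ι hιmono φ f''₀ h0''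
  rw [hf''₀] at hf''2
  refine ⟨f', f, f'', hf1, ?_, hf', hf2, hf''2⟩
  have h1 : cokernel.π jC ≫ ι = πC := cokernel.π_desc _ _ _
  have h2 : cokernel.π jC ≫ φ = f ≫ πI := cokernel.π_desc _ _ _
  rw [← h1, Category.assoc, hf''1, h2]

end Groth.Agent.S13375
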