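import Groth.Statements.S13378
import Groth.Agent.Lib.Helper24.ProfiniteCompletion
import Mathlib.Algebra.Module.CharacterModule
import Mathlib.Topology.Instances.AddCircle.Defs
import Mathlib.GroupTheory.Index

set_option autoImplicit false
universe u
open ProCompl

namespace Groth.Agent.S13378

open CategoryTheory ProfiniteGrp ProfiniteGrp.ProfiniteCompletion
open Groth.Agent.Lib.Helper24

/-- residual finiteness away from `n`-th powers -/
lemma exists_finiteIndex_notMem_of_not_pow {G : Type u} [CommGroup G] (x : G) (n : ℕ) (hn : 0 < n)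
    (hx : ∀ b : G, b ^ n ≠ x) : ∃ K : Subgroup G, K.FiniteIndex ∧ x ∉ K := by
  let P : Subgroup G := (powMonoidHom n : G →* G).range
  let B := G ⧸ P
  have hxB : (QuotientGroup.mk x : B) ≠ 1 := by
    intro h
    obtain ⟨b, hb⟩ := (QuotientGroup.eq_one_iff x).mp h
    exact hx b hb
  have hxB' : Additive.ofMul (QuotientGroup.mk x : B) ≠ 0 := fun h => hxB (by simpa using h)
  obtain ⟨c, hc⟩ := CharacterModule.exists_character_apply_ne_zero_of_ne_zero hxB'
  let χ : B →* Multiplicative (AddCircle (1 : ℚ)) := AddMonoidHom.toMultiplicative c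
  let ψ : G →* Multiplicative (AddCircle (1 : ℚ)) := χ.comp (QuotientGroup.mk' P)
  refine ⟨ψ.ker, ?_, ?_⟩
  · have hfin : (Set.range ψ).Finite := by
      refine (AddCircle.finite_torsion (p := (1 : ℚ)) hn).subset ?_
      rintro _ ⟨g, rfl⟩
      show n • (Multiplicative.toAdd (ψ g)) = 0
      have h1 : ψ g ^ n = 1 := by
        rw [← map_pow]
        have : (QuotientGroup.mk' P) (g ^ n) = 1 :=
          (QuotientGroup.eq_one_iff _).mpr ⟨g, rfl⟩
        show χ ((QuotientGroup.mk' P) (g ^ n)) = 1
        rw [this, map_one]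
      exact congr_arg Multiplicative.toAdd h1
    have : Finite ψ.range := hfin.to_subtype
    have : Finite (G ⧸ ψ.ker) := Finite.of_equiv _ (QuotientGroup.quotientKerEquivRange ψ).symm.toEquiv
    exact Subgroup.finiteIndex_of_finite_quotient
  · intro h
    apply hc
    have : ψ x = 1 := h
    exact congr_arg Multiplicative.toAdd this

lemma exists_finiteIndex_inf_le {A : Type u} [CommGroup A] (A' : Subgroup A)
    (htors : ∃ N : ℕ, 0 < N ∧ ∀ x : A ⧸ A', IsOfFinOrder x → x ^ N = 1)
    (L : Subgroup A') [L.FiniteIndex] :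
    ∃ H : Subgroup A, H.FiniteIndex ∧ ∀ a : A', (a : A) ∈ H → a ∈ L := by
  classical
  obtain ⟨N, hN, hNt⟩ := htors
  let L' : Subgroup A := L.map A'.subtype
  have hm : 0 < L.index := Nat.pos_of_ne_zero Subgroup.FiniteIndex.index_ne_zero
  have key : ∀ a : A', a ∉ L → ∃ K : Subgroup A, K.FiniteIndex ∧ L' ≤ K ∧ (a : A) ∉ K := by
    intro a ha
    let G := A ⧸ L'
    have hx : ∀ b : G, b ^ (L.index * N) ≠ QuotientGroup.mk (a : A) := by
      intro b hb
      obtain ⟨β, rfl⟩ := QuotientGroup.mk_surjective b
      rw [← QuotientGroup.mk_pow] at hb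
      have h1 : (β ^ (L.index * N))⁻¹ * (a : A) ∈ L' := QuotientGroup.eq.mp hb
      obtain ⟨l, hl, hl'⟩ := h1
      have h2 : β ^ (L.index * N) ∈ A' := by
        have : β ^ (L.index * N) = (a : A) * ((l : A))⁻¹ := by
          have : (l : A) = (β ^ (L.index * N))⁻¹ * (a : A) := hl'
          rw [this]; group
        rw [this]
        exact A'.mul_mem a.2 (A'.inv_mem l.2)
      have h3 : (QuotientGroup.mk β : A ⧸ A') ^ (L.index * N) = 1 := by
        rw [← QuotientGroup.mk_pow]
        exact (QuotientGroup.eq_one_iff _).mpr h2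
      have h4 : IsOfFinOrder (QuotientGroup.mk β : A ⧸ A') :=
        isOfFinOrder_iff_pow_eq_one.mpr ⟨L.index * N, Nat.mul_pos hm hN, h3⟩
      have h5 : β ^ N ∈ A' := by
        have := hNt _ h4
        rw [← QuotientGroup.mk_pow] at this
        exact (QuotientGroup.eq_one_iff _).mp this
      have h6 : (⟨β ^ N, h5⟩ : A') ^ L.index ∈ L := Subgroup.pow_index_mem L _
      apply ha
      have h7 : a = (⟨β ^ N, h5⟩ : A') ^ L.index * l := by
        apply Subtype.ext
        have : (l : A) = (β ^ (L.index * N))⁻¹ * (a : A) := hl'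
        simp only [Subgroup.coe_mul, SubgroupClass.coe_pow, this]
        rw [← pow_mul, mul_comm N]
        group
      rw [h7]
      exact L.mul_mem h6 hl
    obtain ⟨K', hK', hxK'⟩ := exists_finiteIndex_notMem_of_not_pow (G := G) (QuotientGroup.mk (a : A))
      (L.index * N) (Nat.mul_pos hm hN) hx
    refine ⟨K'.comap (QuotientGroup.mk' L'), ?_, ?_, hxK'⟩
    · constructor
      rw [Subgroup.index_comap_of_surjective _ (QuotientGroup.mk'_surjective L')]
      exact hK'.index_ne_zero
    · intro l hl
      show (QuotientGroup.mk' L') l ∈ K'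
      have : (QuotientGroup.mk' L') l = 1 := (QuotientGroup.eq_one_iff _).mpr hl
      rw [this]
      exact K'.one_mem
  choose K hKfi hLK haK using key
  let ι := {q : A' ⧸ L // q ≠ 1}
  have hq : ∀ q : ι, (q.1.out : A') ∉ L := fun q h =>
    q.2 (by rw [← QuotientGroup.out_eq' q.1]; exact (QuotientGroup.eq_one_iff _).mpr h)
  have : Finite (A' ⧸ L) := Subgroup.finite_quotient_of_finiteIndex
  have : Finite ι := inferInstance
  refine ⟨⨅ q : ι, K (q.1.out) (hq q), ?_, ?_⟩
  · have : ∀ q : ι, (K (q.1.out) (hq q)).FiniteIndex := fun q => hKfi _ _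
    exact Subgroup.finiteIndex_iInf this
  · intro a haH
    by_contra haL
    have hq1 : (QuotientGroup.mk a : A' ⧸ L) ≠ 1 := fun h => haL ((QuotientGroup.eq_one_iff _).mp h)
    let q : ι := ⟨QuotientGroup.mk a, hq1⟩
    have h1 : (q.1.out)⁻¹ * a ∈ L := by
      apply QuotientGroup.eq.mp
      exact QuotientGroup.out_eq' q.1
    have h2 : (a : A) ∈ K (q.1.out) (hq q) := (Subgroup.mem_iInf.mp haH) q
    have h3 : (((q.1.out)⁻¹ * a : A') : A) ∈ K (q.1.out) (hq q) := hLK _ _ ⟨_, h1, rfl⟩
    apply haK (q.1.out) (hq q)
    have : ((q.1.out : A') : A) = (a : A) * ((((q.1.out)⁻¹ * a : A') : A))⁻¹ := by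
      simp only [Subgroup.coe_mul, InvMemClass.coe_inv]; group
    rw [this]
    exact (K _ _).mul_mem h2 ((K _ _).inv_mem h3)



/-- For an abelian group A (written multiplicatively, discrete) and a subgroup A' such that the quotient
A/A' has no nontrivial divisible element and its torsion elements are killed by one positive
integer, the map induced on profinite completions by the inclusion of A' in A is injective. (The
published statement is for topological abelian groups in which every nA is open, with completions
formed from open subgroups of finite index; this row is the case of the discrete topology.) -/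
theorem result (A : Type u) [CommGroup A] (A' : Subgroup A)
    (hdiv : ∀ x : A ⧸ A', (∀ n : ℕ, 0 < n → ∃ y : A ⧸ A', y ^ n = x) → x = 1)
    (htors : ∃ N : ℕ, 0 < N ∧ ∀ x : A ⧸ A', IsOfFinOrder x → x ^ N = 1) :
    Function.Injective (ProfiniteGrp.profiniteCompletion.map (GrpCat.ofHom A'.subtype)).hom := by
  classical
  have hinj : Function.Injective
      (ProfiniteGrp.profiniteCompletion.map (GrpCat.ofHom A'.subtype)).hom.toMonoidHom := by
    rw [injective_iff_map_eq_one]
    intro y hy
    have hy' : (profiniteCompletion.map (GrpCat.ofHom A'.subtype)).hom y = 1 := hy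
    refine limit_ext _ y 1 (fun L => ?_)
    show y.val L = 1
    obtain ⟨H, hHfi, hHL⟩ := exists_finiteIndex_inf_le A' htors L.toSubgroup
    have hHn : H.Normal := inferInstance
    let HN : FiniteIndexNormalSubgroup (GrpCat.of A) := { toSubgroup := H }
    let M : FiniteIndexNormalSubgroup (GrpCat.of A') := HN.comap (GrpCat.ofHom A'.subtype).hom
    have hML : M ≤ L := by
      intro a ha
      exact hHL a ha
    have h1 := coord_map (GrpCat.ofHom A'.subtype) HN y
    rw [hy'] at h1
    have h2 : y.val M = 1 := by
      have hinj : Function.Injective (QuotientGroup.map (HN.comap (GrpCat.ofHom A'.subtype).hom).toSubgroup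
          HN.toSubgroup (GrpCat.ofHom A'.subtype).hom (fun _ h => h)) := by
        rw [injective_iff_map_eq_one]
        intro q hq
        obtain ⟨a, rfl⟩ := QuotientGroup.mk_surjective q
        have hq' : (QuotientGroup.mk (A'.subtype a) : A ⧸ H) = 1 := hq
        rw [QuotientGroup.eq_one_iff] at hq'
        exact (QuotientGroup.eq_one_iff _).mpr hq'
      apply hinj
      exact h1.symm.trans (map_one _).symm
    have h3 := y.2 (homOfLE hML)
    rw [← h3, h2, map_one]
  exact hinj

end Groth.Agent.S13378
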