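import Groth.Statements.S13379
import Groth.Agent.Lib.Helper24.ProfiniteCompletion

set_option autoImplicit false
universe u
open ProCompl

namespace Groth.Agent.S13379

open CategoryTheory ProfiniteGrp ProfiniteGrp.ProfiniteCompletion
open Groth.Agent.Lib.Helper24

lemma aux (A : Type u) [CommGroup A] (A' : Subgroup A)
    (Fπ : completion (GrpCat.of A) →ₜ* completion (GrpCat.of (A ⧸ A')))
    (Fι : completion (GrpCat.of A') →ₜ* completion (GrpCat.of A))
    (hπη : ∀ a : A, Fπ (etaFn (GrpCat.of A) a) = etaFn (GrpCat.of (A ⧸ A')) (QuotientGroup.mk a))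
    (hιη : ∀ a : A', Fι (etaFn (GrpCat.of A') a) = etaFn (GrpCat.of A) (a : A)) :
    Function.Surjective Fπ ∧ Fπ.toMonoidHom.ker = Fι.toMonoidHom.range := by
  have hFπc : Continuous Fπ := map_continuous Fπ
  have hFιc : Continuous Fι := map_continuous Fι
  refine ⟨?_, ?_⟩
  · have hcl : IsClosed (Set.range Fπ) := (isCompact_range hFπc).isClosed
    have hdense : Dense (Set.range Fπ) := by
      refine Dense.mono ?_ (denseRange (G := GrpCat.of (A ⧸ A')))
      rintro _ ⟨q, rfl⟩
      obtain ⟨a, rfl⟩ := QuotientGroup.mk_surjective q
      exact ⟨etaFn (GrpCat.of A) a, hπη a⟩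
    have : Set.range Fπ = Set.univ := by rw [← hcl.closure_eq, hdense.closure_eq]
    exact Set.range_eq_univ.mp this
  · apply le_antisymm
    · intro x hx
      have hx1 : Fπ x = 1 := hx
      let I : Subgroup (completion (GrpCat.of A)) := Fι.toMonoidHom.range
      have hIcl : IsClosed (I : Set (completion (GrpCat.of A))) := by
        have : (I : Set (completion (GrpCat.of A))) = Set.range Fι := rfl
        rw [this]
        exact (isCompact_range hFιc).isClosed
      have hsInf := ProfiniteGrp.closedSubgroup_eq_sInf_open
        (⟨I, hIcl⟩ : ClosedSubgroup (completion (GrpCat.of A)))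
      have hxmem : x ∈ sInf {N : Subgroup (completion (GrpCat.of A)) |
          IsOpen (N : Set (completion (GrpCat.of A))) ∧
          (⟨I, hIcl⟩ : ClosedSubgroup (completion (GrpCat.of A))).toSubgroup ≤ N} := by
        rw [Subgroup.mem_sInf]
        rintro N ⟨hNo, hIN⟩
        have hNn : N.Normal := ⟨fun n hn g => by
          rw [completion_comm A g n, mul_inv_cancel_right]; exact hn⟩
        have : DiscreteTopology (completion (GrpCat.of A) ⧸ N) := QuotientGroup.discreteTopology hNo
        let Q : ProfiniteGrp.{u} := ProfiniteGrp.of (completion (GrpCat.of A) ⧸ N)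
        let q : completion (GrpCat.of A) →* completion (GrpCat.of A) ⧸ N := QuotientGroup.mk' N
        let ψ₀ : A ⧸ A' →* completion (GrpCat.of A) ⧸ N :=
          QuotientGroup.lift A' (q.comp (eta (GrpCat.of A)).hom) (by
            intro a ha
            rw [MonoidHom.mem_ker]
            show q (etaFn (GrpCat.of A) a) = 1
            rw [QuotientGroup.mk'_apply, QuotientGroup.eq_one_iff]
            apply hIN
            exact ⟨etaFn (GrpCat.of A') ⟨a, ha⟩, hιη ⟨a, ha⟩⟩)
        let Ψ : completion (GrpCat.of (A ⧸ A')) ⟶ Q :=
          lift (P := Q) (GrpCat.ofHom ψ₀ : GrpCat.of (A ⧸ A') ⟶ GrpCat.of Q)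
        have hΨ : ∀ b : A ⧸ A', Ψ.hom (etaFn (GrpCat.of (A ⧸ A')) b) = ψ₀ b := fun b =>
          ConcreteCategory.congr_hom (lift_eta (P := Q) (GrpCat.ofHom ψ₀ : GrpCat.of (A ⧸ A') ⟶ GrpCat.of Q)) b
        have hΨc : Continuous Ψ.hom := map_continuous Ψ.hom
        have heq := completion_ext (G := GrpCat.of A) (Y := completion (GrpCat.of A) ⧸ N)
          (f := fun z => Ψ.hom (Fπ z)) (g := fun z => q z)
          (hΨc.comp hFπc) (QuotientGroup.continuous_mk) (fun a => by
            show Ψ.hom (Fπ (etaFn (GrpCat.of A) a)) = q (etaFn (GrpCat.of A) a)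
            rw [hπη a, hΨ]
            rfl)
        have h2 : q x = 1 := by
          have h3 : Ψ.hom (Fπ x) = q x := congr_fun heq x
          rw [← h3, hx1, map_one]
        exact (QuotientGroup.eq_one_iff x).mp h2
      rw [← hsInf] at hxmem
      exact hxmem
    · rintro _ ⟨y, rfl⟩
      show Fπ (Fι y) = 1
      have := completion_ext (G := GrpCat.of A')
        (f := fun z => Fπ (Fι z)) (g := fun _ => 1) (hFπc.comp hFιc) continuous_const (fun a => by
          show Fπ (Fι (etaFn (GrpCat.of A') a)) = 1
          rw [hιη a, hπη]
          have : (QuotientGroup.mk (a : A) : A ⧸ A') = 1 := (QuotientGroup.eq_one_iff _).mpr a.2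
          rw [this]
          rfl)
      exact congr_fun this y


/-- Profinite completion is right exact: for an abelian group A (written multiplicatively, discrete) and
a subgroup A', the map on profinite completions induced by A → A/A' is surjective and its kernel is
the image of the completion of A'. (The published statement is right-exactness for topological
abelian groups with completions formed from open subgroups of finite index; this row is the case of
the discrete topology.) -/
theorem result (A : Type u) [CommGroup A] (A' : Subgroup A) :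
    Function.Surjective (ProfiniteGrp.profiniteCompletion.map (GrpCat.ofHom (QuotientGroup.mk' A'))).hom ∧
      (ProfiniteGrp.profiniteCompletion.map (GrpCat.ofHom (QuotientGroup.mk' A'))).hom.toMonoidHom.ker =
        (ProfiniteGrp.profiniteCompletion.map (GrpCat.ofHom A'.subtype)).hom.toMonoidHom.range := by
  exact aux A A' (profiniteCompletion.map (GrpCat.ofHom (QuotientGroup.mk' A'))).hom
    (profiniteCompletion.map (GrpCat.ofHom A'.subtype)).hom
    (fun a => map_etaFn (GrpCat.ofHom (QuotientGroup.mk' A')) a)
    (fun a => map_etaFn (GrpCat.ofHom A'.subtype) a)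

end Groth.Agent.S13379
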