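import Groth.Statements.S13386
import Mathlib.RingTheory.Localization.Basic

set_option autoImplicit false
universe u
open scoped TensorProduct
open ZeroCyc

namespace Groth.Agent.S13386

open scoped TensorProduct


/-- Let A' = T⁻¹A be a localization of the ring A, M an A-module and M' = A' ⊗_A M. In the divided power
algebra Γ_{A'}(M') the A'-span of the d-th divided powers γ_d(1 ⊗ m), m ∈ M, is the A'-span of
γ_d(M'). (The published statement phrases this as the surjectivity of the natural map from (γ_d(M))
⊗_A A' onto (γ_d(M')); its further clause through the base-change isomorphism Γ_A(M) ⊗_A A' ≅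
Γ_{A'}(M') is not restated here.) -/
theorem result {A A' M : Type u} [CommRing A] [CommRing A']
    [Algebra A A'] (T : Submonoid A) [IsLocalization T A'] [AddCommGroup M] [Module A M] (d : ℕ) :
    Submodule.span A' (Set.range fun m : M => DividedPowerAlgebra.dp A' d ((1 : A') ⊗ₜ[A] m)) =
      Submodule.span A' (Set.range (DividedPowerAlgebra.dp A' d (M := A' ⊗[A] M))) := by
  apply le_antisymm
  · apply Submodule.span_mono
    rintro _ ⟨m, rfl⟩
    exact ⟨_, rfl⟩
  · rw [Submodule.span_le]
    rintro _ ⟨x, rfl⟩
    have : ∃ (c : A') (m : M), x = c • ((1 : A') ⊗ₜ[A] m) := by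
      induction x using TensorProduct.induction_on with
      | zero => exact ⟨0, 0, by simp⟩
      | tmul a' m =>
        exact ⟨a', m, by rw [TensorProduct.smul_tmul', smul_eq_mul, mul_one]⟩
      | add x y hx hy =>
        obtain ⟨c1, m1, rfl⟩ := hx
        obtain ⟨c2, m2, rfl⟩ := hy
        obtain ⟨⟨a1, t1⟩, h1⟩ := IsLocalization.surj T c1
        obtain ⟨⟨a2, t2⟩, h2⟩ := IsLocalization.surj T c2
        -- c1 = a1/t1, c2 = a2/t2
        obtain ⟨u, hu⟩ := (IsLocalization.map_units A' (t1 * t2)).exists_left_inv
        refine ⟨u, (t2 : A) • a1 • m1 + (t1 : A) • a2 • m2, ?_⟩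
        simp only [TensorProduct.tmul_add, TensorProduct.tmul_smul, smul_add]
        have e1 : c1 = u * (algebraMap A A' t2 * algebraMap A A' a1) := by
          have : c1 * algebraMap A A' t1 = algebraMap A A' a1 := h1
          calc c1 = (u * algebraMap A A' ((t1 * t2 : T) : A)) * c1 := by rw [hu, one_mul]
            _ = u * (algebraMap A A' t2 * (c1 * algebraMap A A' t1)) := by
              simp only [Submonoid.coe_mul, map_mul]; ring
            _ = _ := by rw [this]
        have e2 : c2 = u * (algebraMap A A' t1 * algebraMap A A' a2) := by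
          have : c2 * algebraMap A A' t2 = algebraMap A A' a2 := h2
          calc c2 = (u * algebraMap A A' ((t1 * t2 : T) : A)) * c2 := by rw [hu, one_mul]
            _ = u * (algebraMap A A' t1 * (c2 * algebraMap A A' t2)) := by
              simp only [Submonoid.coe_mul, map_mul]; ring
            _ = _ := by rw [this]
        rw [e1, e2]
        simp only [← algebraMap_smul A' (t2 : A), ← algebraMap_smul A' (t1 : A),
          ← algebraMap_smul A' a1, ← algebraMap_smul A' a2, smul_smul]
    obtain ⟨c, m, rfl⟩ := this
    rw [DividedPowerAlgebra.dp_smul]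
    exact Submodule.smul_mem _ _ (Submodule.subset_span ⟨m, rfl⟩)

end Groth.Agent.S13386
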