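import Groth.Statements.S13388
import Groth.Agent.Lib.Helper15.GammaLowerLocal
-- import your own Groth.Agent.* helpers here

set_option autoImplicit false
universe u
open ZeroCyc

namespace Groth.Agent.S13388

/-- Let A be a commutative ring, M a finitely generated A-module and d ≥ 0. If the degree-d piece
Γ^d_A(M) of Γ_A(M) is spanned over A by the divided powers γ_d(m), m ∈ M, then at each prime p of A
either k(p) has d or more elements, or the localisation M_p is a cyclic A_p-module. -/
theorem result {A M : Type u} [CommRing A] [AddCommGroup M]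
    [Module A M] [Module.Finite A M] (d : ℕ)
    (h : Submodule.span A (Set.range (DividedPowerAlgebra.dp A d : M → DividedPowerAlgebra A M)) =
      PolLaw.gammaPiece A M d)
    (p : PrimeSpectrum A) :
    (d : Cardinal) ≤ Cardinal.mk p.asIdeal.ResidueField ∨
      ∃ x : LocalizedModule p.asIdeal.primeCompl M, Submodule.span (Localization.AtPrime p.asIdeal) {x} = ⊤ := by
  by_contra hcon
  push Not at hcon
  obtain ⟨hcard, hcyc⟩ := hcon
  haveI : Finite p.asIdeal.ResidueField :=
    Cardinal.lt_aleph0_iff_finite.mp (hcard.trans (Cardinal.natCast_lt_aleph0 (n := d)))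
  letI : Fintype p.asIdeal.ResidueField := Fintype.ofFinite _
  have hq : Fintype.card p.asIdeal.ResidueField < d := by
    rw [Cardinal.mk_fintype] at hcard
    exact_mod_cast hcard
  obtain ⟨ℓ₁, ℓ₂, m₁, m₂, h11, h12, h21, h22⟩ :=
    Groth.Agent.Lib.Helper15.GammaLower.exists_forms p.asIdeal hcyc
  exact Groth.Agent.Lib.Helper15.GammaLower.span_dp_ne p.asIdeal.ResidueField d ℓ₁ ℓ₂ m₁ m₂
    h11 h12 h21 h22 hq h

end Groth.Agent.S13388
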