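import Groth.Statements.S13389
import Groth.Agent.Lib.Helper15.DpSpan
-- import your own Groth.Agent.* helpers here

set_option autoImplicit false
universe u
open ZeroCyc

namespace Groth.Agent.S13389

open Polynomial in
/-- Let P_d(T) = ∏_{0 ≤ i < j ≤ d} (T^i − T^j) − 1 ∈ ℤ[T]. If A is an algebra over ℤ[T]/(P_d), i.e.
receives a ring homomorphism from it, then for every A-module M the degree-d piece Γ^d_A(M) of the
divided power algebra Γ_A(M) is spanned over A by the d-th divided powers γ_d(m), m ∈ M. (The
published statement adds that consequently every ring has a finite faithfully flat extension,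
independent of M, over which this holds; that clause is not restated.) -/
theorem result {A M : Type u} [CommRing A] [AddCommGroup M]
    [Module A M] (d : ℕ)
    (φ : (ℤ[X] ⧸ Ideal.span {(∏ j ∈ Finset.range (d + 1), ∏ i ∈ Finset.range j,
        ((X : ℤ[X]) ^ i - X ^ j)) - 1}) →+* A) :
    Submodule.span A (Set.range (DividedPowerAlgebra.dp A d : M → DividedPowerAlgebra A M)) =
      PolLaw.gammaPiece A M d := by
  classical
  let T : A := φ (Ideal.Quotient.mk _ Polynomial.X)
  have h1 : ∏ j ∈ Finset.range (d + 1), ∏ i ∈ Finset.range j, (T ^ i - T ^ j) = 1 := by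
    have h0 : (Ideal.Quotient.mk (Ideal.span {(∏ j ∈ Finset.range (d + 1), ∏ i ∈ Finset.range j,
        ((Polynomial.X : Polynomial ℤ) ^ i - Polynomial.X ^ j)) - 1}))
        ((∏ j ∈ Finset.range (d + 1), ∏ i ∈ Finset.range j,
        ((Polynomial.X : Polynomial ℤ) ^ i - Polynomial.X ^ j)) - 1) = 0 :=
      Ideal.Quotient.eq_zero_iff_mem.mpr (Ideal.subset_span rfl)
    have h2 := congrArg φ h0
    simp only [map_sub, map_prod, map_pow, map_one, map_zero] at h2
    exact sub_eq_zero.mp h2
  have hT : ∀ i j : ℕ, i < j → j ≤ d → IsUnit (T ^ j - T ^ i) := by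
    intro i j hij hjd
    have hu : IsUnit (∏ j ∈ Finset.range (d + 1), ∏ i ∈ Finset.range j, (T ^ i - T ^ j)) := by
      rw [h1]
      exact isUnit_one
    have h2 := (IsUnit.prod_iff.mp hu) j (Finset.mem_range.mpr (by omega))
    have h3 := (IsUnit.prod_iff.mp h2) i (Finset.mem_range.mpr hij)
    rw [← neg_sub]
    exact h3.neg
  apply le_antisymm
  · rw [Submodule.span_le]
    rintro _ ⟨m, rfl⟩
    exact Submodule.subset_span ⟨1, fun _ => d, fun _ => m, by simp, by simp⟩
  · unfold PolLaw.gammaPiece
    rw [Submodule.span_le]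
    rintro _ ⟨n, k, m, hk, rfl⟩
    exact Groth.Agent.Lib.Helper15.DpSpan.prod_mem d T hT n k m hk

end Groth.Agent.S13389
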