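import Groth.Statements.S13391
import Groth.Agent.Lib.Helper15.SymProj-- import your own Groth.Agent.* helpers here

set_option autoImplicit false
universe u
open scoped TensorProduct
open ZeroCyc

namespace Groth.Agent.S13391

/-- Let A be a commutative ring, B a graded A-algebra generated by its degree-one part B_1 with B_1 a
finitely generated A-module, and d ≥ 0. Inside the d-fold tensor power T^d_A(B) let C_k be the
A-span of the pure tensors b_1 ⊗ ⋯ ⊗ b_d with all b_i ∈ B_k, let C = Σ_k C_k (the A-subalgebra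
generated by these pure tensors; Proj C is the d-fold fibre product of X = Proj B over S = Spec A)
and let D = C ∩ TS^d_A(B) be its subring of symmetric tensors, graded by D_k = C_k ∩ TS^d_A(B), so
that Proj D is the symmetric product Sym^d(X/S). Then Sym^d(X/S) is covered by the affine opens
Sym^d(X_f/S) = D_+(f ⊗ ⋯ ⊗ f), f ∈ B_n, n ≥ 1: every t ∈ D_k with k ≥ 1 has some power t^m, m ≥ 1,
in the ideal of D generated by the tensors f ⊗ f ⊗ ⋯ ⊗ f with f homogeneous of positive degree. -/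
theorem result {A B : Type u} [CommRing A] [CommRing B] [Algebra A B]
    (𝒜 : ℕ → Submodule A B) [GradedAlgebra 𝒜] (hgen : Algebra.adjoin A (𝒜 1 : Set B) = ⊤) (hfg : (𝒜 1).FG) (d : ℕ)
    (D : Subalgebra A (⨂[A] _ : Fin d, B))
    (hD : D = Algebra.adjoin A {t | ∃ (k : ℕ) (b : Fin d → B), (∀ i, b i ∈ 𝒜 k) ∧ t = PiTensorProduct.tprod A b}
      ⊓ SymTen.TS A B d)
    (k : ℕ) (hk : 0 < k) (t : ⨂[A] _ : Fin d, B) (htD : t ∈ D)
    (htk : t ∈ Submodule.span A {s | ∃ b : Fin d → B, (∀ i, b i ∈ 𝒜 k) ∧ s = PiTensorProduct.tprod A b}) :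
    ∃ m : ℕ, 0 < m ∧ (⟨t, htD⟩ : D) ^ m ∈
      Ideal.span {x : D | ∃ (n : ℕ) (f : B), 0 < n ∧ f ∈ 𝒜 n ∧
        (x : ⨂[A] _ : Fin d, B) = PiTensorProduct.tprod A (fun _ : Fin d => f)} := by
  subst hD
  have hmul : ∀ (n n' : ℕ) (b b' : B), b ∈ 𝒜 n → b' ∈ 𝒜 n' → b * b' ∈ 𝒜 (n + n') :=
    fun _ _ _ _ h h' => SetLike.mul_mem_graded h h'
  have hone : (1 : B) ∈ 𝒜 0 := SetLike.GradedOne.one_mem
  apply Groth.Agent.Lib.Helper15.SymProj.criterion 𝒜 d
  intro Q hQ htQ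
  haveI := hQ
  have htQ' : ¬ Groth.Agent.Lib.Helper15.SymProj.Vq Q t :=
    fun h => htQ ((Groth.Agent.Lib.Helper15.SymProj.Vq_incl Q ⟨t, htD⟩).mp h)
  obtain ⟨u, hu, huQ⟩ := Groth.Agent.Lib.Helper15.SymProj.exists_degOne_notMem hgen Q hk htk htQ'
  obtain ⟨n, hn, f, hf, hfQ⟩ :=
    Groth.Agent.Lib.Helper15.SymProj.exists_tpow_notMem hmul hone u hu Q huQ
  have hmem : PiTensorProduct.tprod A (fun _ : Fin d => f) ∈
      Groth.Agent.Lib.Helper15.SymProj.DD 𝒜 d :=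
    ⟨Groth.Agent.Lib.Helper15.SymProj.pure_mem_CC 𝒜 d ⟨_, fun _ => hf, rfl⟩, fun σ => by
      rw [PiTensorProduct.reindex_tprod]⟩
  exact ⟨⟨_, hmem⟩, Ideal.subset_span ⟨n, f, hn, hf, rfl⟩,
    fun h => hfQ ((Groth.Agent.Lib.Helper15.SymProj.Vq_incl Q ⟨_, hmem⟩).mpr h)⟩

end Groth.Agent.S13391
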