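import Groth.Statements.S13398
import Groth.Agent.Lib.Helper15.NormLaw-- import your own Groth.Agent.* helpers here

set_option autoImplicit false
universe u
open scoped TensorProduct
open ZeroCyc

namespace Groth.Agent.S13398

/-- Let A be a commutative ring, B an A-algebra, d ≥ 0, and let (C, γ) be the degree-d divided power
algebra Γ^d_A(B) with its universal multiplicative law γ : B → C of degree d (every multiplicative
law of degree d out of B factors uniquely through γ). Let φ : Γ^d_A(B) → TS^d_A(B) be the canonical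
homomorphism to the symmetric tensors, taken here as data characterised by: after any base change S,
φ ∘ γ sends Σ_j s_j ⊗ b_j to Σ_{c : [d] → [n]} (∏_i s_{c(i)}) ⊗ (b_{c(1)} ⊗ ⋯ ⊗ b_{c(d)}), i.e. φ
corresponds to the law x ↦ x ⊗ ⋯ ⊗ x. Then x^{d!} = 0 for every x in the kernel of φ, and y^{d!}
lies in the image of φ for every symmetric tensor y ∈ TS^d_A(B). -/
theorem result {A B C : Type u} [CommRing A] [CommRing B] [Algebra A B] [CommRing C] [Algebra A C] (d : ℕ)
    (γ : PolLaw.MulLaw A B C d) (hγ : PolLaw.IsGammaD γ) (φ : C →ₐ[A] SymTen.TS A B d)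
    (hφ : ∀ (S : Type u) [CommSemiring S] [Algebra A S] (n : ℕ) (s : Fin n → S) (b : Fin n → B),
      ((SymTen.TS A B d).val.comp φ).toLinearMap.lTensor S (γ.law.toFun' S (∑ j, s j ⊗ₜ[A] b j)) =
        ∑ c : Fin d → Fin n, (∏ i, s (c i)) ⊗ₜ[A] PiTensorProduct.tprod A (fun i => b (c i))) :
    (∀ x : C, φ x = 0 → x ^ d.factorial = 0) ∧
      (∀ y : SymTen.TS A B d, y ^ d.factorial ∈ φ.range) := by
  have hone : ∀ (M : Type u) [AddCommGroup M] [Module A M] (t : A ⊗[A] M),
      t = (1 : A) ⊗ₜ[A] (TensorProduct.lid A M t) := by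
    intro M _ _ t
    have h := (TensorProduct.lid A M).symm_apply_apply t
    rw [TensorProduct.lid_symm_apply] at h
    exact h.symm
  have hinj : ∀ (M : Type u) [AddCommGroup M] [Module A M] (m m' : M),
      (1 : A) ⊗ₜ[A] m = (1 : A) ⊗ₜ[A] m' → m = m' := by
    intro M _ _ m m' h
    have h2 := congrArg (TensorProduct.lid A M) h
    rw [TensorProduct.lid_tmul, TensorProduct.lid_tmul, one_smul, one_smul] at h2
    exact h2
  have hpow : ∀ (R : Type u) [CommRing R] [Algebra A R] (r : R) (k : ℕ),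
      ((1 : A) ⊗ₜ[A] r) ^ k = (1 : A) ⊗ₜ[A] (r ^ k) := by
    intro R _ _ r k
    rw [Algebra.TensorProduct.tmul_pow, one_pow]
  constructor
  · intro x hx
    have h := Groth.Agent.Lib.Helper15.NormLaw.F_val_φ γ φ hφ hγ A ((1 : A) ⊗ₜ[A] x)
    rw [LinearMap.lTensor_tmul, AlgHom.toLinearMap_apply, hx, TensorProduct.tmul_zero, map_zero,
      hpow] at h
    have h0 : (Groth.Agent.Lib.Helper15.NormLaw.F γ).law.toFun' A
        (0 : A ⊗[A] (⨂[A] _ : Fin d, B)) = 0 := by
      have := (Groth.Agent.Lib.Helper15.NormLaw.F γ).homog A (0 : A) 0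
      rw [zero_smul, zero_pow (Nat.factorial_ne_zero d), zero_smul] at this
      exact this
    rw [h0] at h
    apply hinj
    rw [← h, TensorProduct.tmul_zero]
  · intro y
    have h := Groth.Agent.Lib.Helper15.NormLaw.φ_F_val γ φ hφ A ((1 : A) ⊗ₜ[A] y)
    rw [hpow] at h
    rw [hone _ ((Groth.Agent.Lib.Helper15.NormLaw.F γ).law.toFun' A _), LinearMap.lTensor_tmul,
      AlgHom.toLinearMap_apply] at h
    exact ⟨_, hinj _ _ _ h⟩

end Groth.Agent.S13398
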