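import Groth.Statements.S1340
import Mathlib.AlgebraicGeometry.Morphisms.Proper

set_option autoImplicit false
universe u
open FlatMor

namespace Groth.Agent.S1340

open AlgebraicGeometry CategoryTheory Limits TopologicalSpace Opposite

variable {X S : Scheme.{u}} (f : X ⟶ S)

/-- sections over an affine open of the target of a universally closed map are integral -/
theorem isIntegral_app_of_universallyClosed [UniversallyClosed f] (V : S.Opens)
    (hV : IsAffineOpen V) : (f.app V).hom.IsIntegral := by
  have : IsAffine V := hV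
  have h1 := isIntegral_appTop_of_universallyClosed (f ∣_ V)
  rw [morphismRestrict_appTop] at h1
  have h2 : (f.app (V.ι ''ᵁ ⊤)).hom.IsIntegral := by
    have := RingHom.isIntegral_respectsIso.cancel_right_isIso (f.app (V.ι ''ᵁ ⊤))
      (X.presheaf.map (eqToHom (image_morphismRestrict_preimage f V ⊤)).op)
    exact this.mp h1
  have key : ∀ W : S.Opens, W = V → (f.app W).hom.IsIntegral → (f.app V).hom.IsIntegral := by
    rintro W rfl h; exact h
  exact key _ V.ι_image_top h2

theorem isIso_app_preimage [UniversallyClosed f] [QuasiSeparated f] (V : S.affineOpens) :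
    IsIso (f.toNormalization.app (f.fromNormalization ⁻¹ᵁ V.1)) := by
  let _ := (f.app V.1).hom.toAlgebra
  have htop : integralClosure Γ(S, V.1) Γ(X, f ⁻¹ᵁ V.1) = ⊤ := by
    rw [integralClosure_eq_top_iff, ← algebraMap_isIntegral_iff, RingHom.algebraMap_toAlgebra]
    exact isIntegral_app_of_universallyClosed f V.1 V.2
  have := f.toNormalization_app_preimage V
  simp only at this
  rw [this]
  refine @IsIso.comp_isIso' _ _ _ _ _ _ _ inferInstance
    (@IsIso.comp_isIso' _ _ _ _ _ _ _ ?_ inferInstance)
  rw [ConcreteCategory.isIso_iff_bijective]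
  refine ⟨Subtype.val_injective, fun x => ⟨⟨x, ?_⟩, rfl⟩⟩
  rw [htop]; trivial

omit f in
theorem isIso_app_basicOpen_aux {X X' : Scheme.{u}} (h : X ⟶ X') (W : X'.Opens)
    (hW : IsAffineOpen W) (hθ : IsIso (h.app W)) (hc : IsCompact (h ⁻¹ᵁ W : Set X))
    (hqs : IsQuasiSeparated (h ⁻¹ᵁ W : Set X)) (b : Γ(X', W)) :
    IsIso (h.app (X'.basicOpen b)) := by
  refine @IsIso.of_isIso_comp_right _ _ _ _ _ _ (X.presheaf.map
    (eqToHom (h.preimage_basicOpen b).symm).op) _ ?_
  rw [ConcreteCategory.isIso_iff_bijective]
  let _ : Algebra Γ(X', W) Γ(X, X.basicOpen (h.app W b)) :=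
    (h.app W ≫ X.presheaf.map (homOfLE (X.basicOpen_le _)).op).hom.toAlgebra
  have loc1 : IsLocalization.Away b Γ(X', X'.basicOpen b) :=
    hW.isLocalization_basicOpen b
  have loc2' : IsLocalization.Away (h.app W b) Γ(X, X.basicOpen (h.app W b)) :=
    isLocalization_basicOpen_of_qcqs hc hqs _
  have loc2 : IsLocalization.Away b Γ(X, X.basicOpen (h.app W b)) :=
    IsLocalization.of_ringEquiv_left (asIso (h.app W)).commRingCatIsoToRingEquiv
      (M₁ := Submonoid.powers (h.app W b)) (by rw [Submonoid.map_powers]; rfl) (fun x => rfl)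
  apply IsLocalization.bijective (Submonoid.powers b)
  ext x
  simp only [RingHom.algebraMap_toAlgebra]
  have key : X'.presheaf.map (homOfLE (X'.basicOpen_le b)).op ≫ h.app (X'.basicOpen b) ≫
      X.presheaf.map (eqToHom (h.preimage_basicOpen b).symm).op =
      h.app W ≫ X.presheaf.map (homOfLE (X.basicOpen_le _)).op := by
    rw [← Category.assoc, Scheme.Hom.naturality, Category.assoc, ← Functor.map_comp]
    rfl
  exact ConcreteCategory.congr_hom key x

theorem isIso_app_basicOpen [UniversallyClosed f] [QuasiSeparated f] (V : S.affineOpens)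
    (b : Γ(f.normalization, f.fromNormalization ⁻¹ᵁ V.1)) :
    IsIso (f.toNormalization.app (f.normalization.basicOpen b)) := by
  have hpre : f.toNormalization ⁻¹ᵁ (f.fromNormalization ⁻¹ᵁ V.1) = f ⁻¹ᵁ V.1 := by
    rw [← Scheme.Hom.comp_preimage, Scheme.Hom.toNormalization_fromNormalization]
  refine isIso_app_basicOpen_aux f.toNormalization (f.fromNormalization ⁻¹ᵁ V.1)
    (V.2.preimage f.fromNormalization) (isIso_app_preimage f V) ?_ ?_ b
  · rw [hpre]; exact f.isCompact_preimage V.2.isCompact
  · rw [hpre]; exact f.isQuasiSeparated_preimage V.2.isQuasiSeparated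

open AlgebraicGeometry CategoryTheory Limits in
/-- Stein factorization, universally closed case: let f : X ⟶ S be universally closed and
quasi-separated, and let X ⟶ X' ⟶ S be its factorization through the normalization X' of S in X.
Then the canonical morphism X ⟶ X' identifies the structure sheaf of X' with the pushforward of the
structure sheaf of X: for every open U of X' the induced map from O_{X'}(U) to the sections of O_X
over the inverse image of U is an isomorphism. (That X ⟶ X' is surjective and universally closed and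
that X' ⟶ S is integral are separate facts not restated here.) -/
theorem result {X S : Scheme.{u}} (f : X ⟶ S) [UniversallyClosed f] [QuasiSeparated f]
    (U : f.normalization.Opens) : IsIso (f.toNormalization.app U) := by
  let F : TopCat.Sheaf CommRingCat f.normalization.toTopCat := f.normalization.sheaf
  let G : TopCat.Sheaf CommRingCat f.normalization.toTopCat :=
    (TopCat.Sheaf.pushforward CommRingCat f.toNormalization.base).obj X.sheaf
  let φ : F ⟶ G := ⟨f.toNormalization.c⟩
  let B : (Σ V : S.affineOpens, Γ(f.normalization, f.fromNormalization ⁻¹ᵁ V.1)) →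
      f.normalization.Opens := fun i => f.normalization.basicOpen i.2
  have hB : Opens.IsBasis (Set.range B) := by
    rw [Opens.isBasis_iff_nbhd]
    intro U' x hx
    obtain ⟨_, ⟨V, hV : IsAffineOpen V, rfl⟩, hxV, -⟩ :=
      S.isBasis_affineOpens.exists_subset_of_mem_open (Set.mem_univ (f.fromNormalization x))
        isOpen_univ
    have hW : IsAffineOpen (f.fromNormalization ⁻¹ᵁ V) := hV.preimage f.fromNormalization
    obtain ⟨b, hb1, hb2⟩ := hW.exists_basicOpen_le (V := U') ⟨x, hx⟩ hxV
    exact ⟨_, ⟨⟨⟨V, hV⟩, b⟩, rfl⟩, hb2, hb1⟩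
  have hiso : ∀ i, IsIso (φ.hom.app (op (B i))) := fun i =>
    isIso_app_basicOpen f i.1 i.2
  have hφ : IsIso φ := TopCat.Sheaf.isIso_iff_isIso_basis (B := B) hB hiso
  have h1 : IsIso ((TopCat.Sheaf.forget CommRingCat f.normalization.toTopCat).map φ) :=
    inferInstance
  exact inferInstanceAs (IsIso
    (((TopCat.Sheaf.forget CommRingCat f.normalization.toTopCat).map φ).app (op U)))

end Groth.Agent.S1340
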