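import Groth.Statements.S13402
import Mathlib.RingTheory.HopfAlgebra.Convolution
import Mathlib.Algebra.Algebra.Epi
import Mathlib.RingTheory.Finiteness.Basic

set_option autoImplicit false
universe u v w
open Hopf

namespace Groth.Agent.S13402

open TensorProduct WithConv Coalgebra Bialgebra

section
variable (k : Type u) [Field k] (A : Type v) (B : Type w)
    [CommRing A] [HopfAlgebra k A]
    [CommRing B] [HopfAlgebra k B]

lemma id_antipode_cancel' :
    toConv (AlgHom.id k A) * toConv (HopfAlgebra.antipodeAlgHom k A) = 1 := by
  apply WithConv.ofConv_injective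
  apply AlgHom.toLinearMap_injective
  apply WithConv.toConv_injective
  rw [AlgHom.toLinearMap_convMul, AlgHom.toLinearMap_convOne]
  simp [LinearMap.id_mul_antipode]

theorem surj_aux [Module.Finite k A]
    (f : B →ₐc[k] A)
    (hker : Ideal.map f (RingHom.ker (Bialgebra.counitAlgHom k B)) = RingHom.ker (Bialgebra.counitAlgHom k A)) :
    Function.Surjective f := by
  let _ : Algebra B A := (f : B →+* A).toAlgebra
  have halg : ∀ b : B, algebraMap B A b = f b := fun b => rfl
  have : IsScalarTower k B A := IsScalarTower.of_algebraMap_eq (fun x => by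
    rw [halg]; exact (AlgHomClass.commutes f x).symm)
  have : Module.Finite B A := Module.Finite.of_restrictScalars_finite k B A
  have : SMulCommClass B k A := IsScalarTower.to_smulCommClass'
  show Function.Surjective (algebraMap B A)
  rw [← Algebra.isEpi_iff_surjective_algebraMap_of_finite]
  rw [Algebra.isEpi_iff_forall_one_tmul_eq]
  let ι₁ : A →ₐ[k] A ⊗[B] A := Algebra.TensorProduct.includeLeft
  have : IsScalarTower k B (A ⊗[B] A) := inferInstance
  let ι₂ : A →ₐ[k] A ⊗[B] A := (Algebra.TensorProduct.includeRight (R := B) (A := A) (B := A)).restrictScalars k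
  let S : A →ₐ[k] A := HopfAlgebra.antipodeAlgHom k A
  let fa : B →ₐ[k] A := (f : B →ₐ[k] A)
  -- ι₁ ∘ f = ι₂ ∘ f
  have h12 : ι₁.comp fa = ι₂.comp fa := by
    ext b
    show (f b) ⊗ₜ[B] (1 : A) = (1 : A) ⊗ₜ[B] (f b)
    rw [← halg, Algebra.algebraMap_eq_smul_one, TensorProduct.smul_tmul]
  let g : WithConv (A →ₐ[k] A ⊗[B] A) := toConv (ι₁.comp S) * toConv ι₂
  have key : ∀ b : B, g (fa b) = algebraMap k (A ⊗[B] A) (counit b) := by
    intro b
    rw [AlgHom.convMul_apply]
    have h1 : comul (R := k) (fa b) = TensorProduct.map (fa : B →ₗ[k] A) (fa : B →ₗ[k] A) (comul b) :=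
      (CoalgHomClass.map_comp_comul_apply f b).symm
    rw [h1]
    have h2 : ((Algebra.TensorProduct.lift (ι₁.comp S) ι₂ (fun _ _ => .all ..)).comp
        (Algebra.TensorProduct.map fa fa)) =
        ι₁.comp ((Algebra.TensorProduct.lift S (AlgHom.id k A) (fun _ _ => .all ..)).comp
          (Algebra.TensorProduct.map fa fa)) := by
      ext b'
      · simp
      · simp
        exact (DFunLike.congr_fun h12 b').symm
    have h3 := DFunLike.congr_fun h2 (comul b)
    have h4 : ∀ x : A ⊗[k] A, Algebra.TensorProduct.lift S (AlgHom.id k A) (fun _ _ => .all ..) x =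
        LinearMap.mul' k A ((HopfAlgebra.antipode k).rTensor A x) := by
      intro x
      induction x with
      | zero => simp
      | tmul a b => simp [S]
      | add x y hx hy => simp only [map_add, hx, hy]
    have h5 : (Algebra.TensorProduct.map fa fa) (comul b) = comul (R := k) (fa b) := h1.symm
    simp only [AlgHom.comp_apply] at h3
    rw [h5, h4, HopfAlgebra.mul_antipode_rTensor_comul_apply] at h3
    have h6 : counit (R := k) (fa b) = counit (R := k) b := CoalgHomClass.counit_comp_apply f b
    rw [h6, AlgHom.commutes] at h3
    rw [← h3, ← h5]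
    rfl
  have hg1 : g = 1 := by
    apply WithConv.ofConv_injective
    apply AlgHom.ext
    intro a
    show g a = algebraMap k (A ⊗[B] A) (counit a)
    have hle : RingHom.ker (Bialgebra.counitAlgHom k A) ≤ RingHom.ker (g.ofConv : A →+* A ⊗[B] A) := by
      rw [← hker, Ideal.map_le_iff_le_comap]
      intro b hb
      rw [Ideal.mem_comap, RingHom.mem_ker]
      have hb' : counit (R := k) b = 0 := hb
      have := key b
      rw [hb', map_zero] at this
      exact this
    have hmem : a - algebraMap k A (counit a) ∈ RingHom.ker (Bialgebra.counitAlgHom k A) := by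
      rw [RingHom.mem_ker, map_sub, AlgHom.commutes]
      simp
    have := hle hmem
    rw [RingHom.mem_ker, map_sub, sub_eq_zero] at this
    have h7 : g a = g.ofConv (algebraMap k A (counit a)) := this
    rw [h7, AlgHom.commutes]
  have hι : toConv ι₁ = toConv ι₂ := by
    have e1 : toConv ι₁ * toConv (ι₁.comp S) = 1 := by
      have := AlgHom.comp_convMul_distrib ι₁ (toConv (AlgHom.id k A)) (toConv S)
      rw [id_antipode_cancel'] at this
      apply WithConv.ofConv_injective
      rw [show (toConv ι₁ * toConv (ι₁.comp S)).ofConv = _ from this.symm]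
      ext a
      simp
    calc toConv ι₁ = toConv ι₁ * g := by rw [hg1, mul_one]
      _ = (toConv ι₁ * toConv (ι₁.comp S)) * toConv ι₂ := by rw [mul_assoc]
      _ = toConv ι₂ := by rw [e1, one_mul]
  intro a
  have := DFunLike.congr_fun (congrArg WithConv.ofConv hι) a
  exact this.symm
end


/-- Let k be a field and let A and B be finite-dimensional commutative and cocommutative Hopf algebras
over k (finite commutative k-group schemes G = Spec A and H = Spec B). Let f : B → A be a bialgebra
map (a homomorphism G → H) which is injective and such that the ideal of A generated by the image of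
the augmentation ideal of B is the augmentation ideal of A (the homomorphism G → H has trivial
kernel). Then f is bijective, so G → H is an isomorphism; this is what makes the category of finite
commutative k-group schemes abelian. -/
theorem result (k : Type u) [Field k] (A : Type v) (B : Type w)
    [CommRing A] [HopfAlgebra k A] [Module.Finite k A] [Coalgebra.IsCocomm k A]
    [CommRing B] [HopfAlgebra k B] [Module.Finite k B] [Coalgebra.IsCocomm k B]
    (f : B →ₐc[k] A) (hinj : Function.Injective f)
    (hker : Ideal.map f (RingHom.ker (Bialgebra.counitAlgHom k B)) = RingHom.ker (Bialgebra.counitAlgHom k A)) :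
    Function.Bijective f := by
  exact ⟨hinj, surj_aux k A B f hker⟩

end Groth.Agent.S13402
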