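import Groth.Statements.S13404
import Mathlib
import Groth.Agent.Lib.Helper20.IdemLocal
import Groth.Agent.Lib.Helper25.HenselFinite

set_option autoImplicit false
universe u v
open Hopf

namespace Groth.Agent.S13404


open Groth.Agent.Lib.Helper20.IdemLocal TensorProduct Coalgebra

section
variable (R : Type u) [CommRing R] (A : Type v) [CommRing A] [HopfAlgebra R A]
  (e : A) (hε : Bialgebra.counitAlgHom R A e = 1)

include hε in
theorem counit_kills : ∀ a ∈ Ideal.span ({1 - e} : Set A), Bialgebra.counitAlgHom R A a = 0 := by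
  intro a ha
  obtain ⟨c, rfl⟩ := Ideal.mem_span_singleton'.mp ha
  rw [map_mul, map_sub, map_one, hε, sub_self, mul_zero]

/-- the augmentation of the unit component -/
noncomputable def epsBar : (A ⧸ Ideal.span ({1 - e} : Set A)) →ₐ[R] R :=
  Ideal.Quotient.liftₐ _ (Bialgebra.counitAlgHom R A) (counit_kills R A e hε)

theorem epsBar_mk (a : A) : epsBar R A e hε (Ideal.Quotient.mk _ a) = Bialgebra.counitAlgHom R A a :=
  rfl

include hε in
theorem mk_eq_one_of_idem [IsLocalRing (A ⧸ Ideal.span ({1 - e} : Set A))] [Nontrivial R]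
    (x : A) (hx : IsIdempotentElem x) (hεx : Bialgebra.counitAlgHom R A x = 1) :
    Ideal.Quotient.mk (Ideal.span ({1 - e} : Set A)) x = 1 := by
  rcases idem_local (hx.map (Ideal.Quotient.mk (Ideal.span ({1 - e} : Set A)))) with h | h
  · exfalso
    have := congrArg (epsBar R A e hε) h
    rw [epsBar_mk, hεx, map_zero] at this
    exact one_ne_zero this
  · exact h

include hε in
theorem hopfIdeal [IsLocalRing R] [Algebra.IsIntegral R A] (he : IsIdempotentElem e)
    [IsLocalRing (A ⧸ Ideal.span ({1 - e} : Set A))] :
    (Ideal.span ({1 - e} : Set A)).IsHopfIdeal R := by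
  set I : Ideal A := Ideal.span ({1 - e} : Set A) with hI
  have hint0 : Algebra.IsIntegral R (A ⧸ I) :=
    Algebra.IsIntegral.of_surjective (Ideal.Quotient.mkₐ R I) Ideal.Quotient.mk_surjective
  have hT : IsLocalRing ((A ⧸ I) ⊗[R] (A ⧸ I)) :=
    isLocalRing_tensor (epsBar R A e hε) (epsBar R A e hε)
  let D : A →ₐ[R] (A ⧸ I) ⊗[R] (A ⧸ I) :=
    (Algebra.TensorProduct.map (Ideal.Quotient.mkₐ R I) (Ideal.Quotient.mkₐ R I)).comp
      (Bialgebra.comulAlgHom R A)
  let s : (A ⧸ I) ⊗[R] (A ⧸ I) →ₐ[R] R :=
    Algebra.TensorProduct.lift (epsBar R A e hε) (epsBar R A e hε) (fun _ _ => Commute.all _ _)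
  have hsD : ∀ a : A, s (D a) = Bialgebra.counitAlgHom R A a := by
    intro a
    have h1 : D a = ∑ i ∈ (ℛ R a).index,
        (Ideal.Quotient.mk I ((ℛ R a).left i)) ⊗ₜ[R] (Ideal.Quotient.mk I ((ℛ R a).right i)) := by
      change (Algebra.TensorProduct.map (Ideal.Quotient.mkₐ R I) (Ideal.Quotient.mkₐ R I))
        (CoalgebraStruct.comul a) = _
      rw [← (ℛ R a).eq, map_sum]
      rfl
    rw [h1, map_sum]
    have h2 := congrArg (Bialgebra.counitAlgHom R A) (Coalgebra.sum_counit_smul (ℛ R a))
    rw [map_sum] at h2
    rw [← h2]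
    refine Finset.sum_congr rfl fun i _ => ?_
    rw [map_smul, smul_eq_mul]
    exact Algebra.TensorProduct.lift_tmul _ _ _ _ _
  have hDe : D e = 1 := by
    rcases idem_local (he.map D) with h | h
    · exfalso
      have := congrArg s h
      rw [hsD, hε, map_zero] at this
      exact one_ne_zero this
    · exact h
  have hDkill : ∀ x ∈ I, D x = 0 := by
    intro x hx
    obtain ⟨c, rfl⟩ := Ideal.mem_span_singleton'.mp hx
    rw [map_mul, map_sub, map_one, hDe, sub_self, mul_zero]
  refine { toIsCoideal := ⟨?_, ?_⟩, antipode_mem := ?_ }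
  · intro x hx
    exact counit_kills R A e hε x hx
  · intro x hx
    exact hDkill x hx
  · intro x hx
    obtain ⟨c, rfl⟩ := Ideal.mem_span_singleton'.mp hx
    have hSe : IsIdempotentElem (HopfAlgebra.antipode R e) := by
      rw [IsIdempotentElem, ← HopfAlgebra.antipode_mul_distrib, he.eq]
    have h1 := mk_eq_one_of_idem R A e hε (HopfAlgebra.antipode R e) hSe
      (by
        change counit (R := R) (HopfAlgebra.antipode R e) = 1
        rw [HopfAlgebra.counit_antipode]
        exact hε)
    have h2 : 1 - HopfAlgebra.antipode R e ∈ I := by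
      rw [← Ideal.Quotient.eq_zero_iff_mem, map_sub, map_one, h1, sub_self]
    rw [HopfAlgebra.antipode_mul_distrib, map_sub, HopfAlgebra.antipode_one]
    exact I.mul_mem_left _ h2

end

theorem hens (R : Type u) [CommRing R] [HenselianLocalRing R] (B : Type v) [CommRing B] [Algebra R B]
    [Module.Finite R B] [IsLocalRing B] : HenselianLocalRing B := by
  have hR' : HenselianLocalRing (ULift.{v} R) := henselian_of_ringEquiv (ULift.ringEquiv (R := R)).symm
  let alg : Algebra (ULift.{v} R) (ULift.{u} B) :=
    ((ULift.ringEquiv (R := B)).symm.toRingHom.comp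
      ((algebraMap R B).comp (ULift.ringEquiv (R := R)).toRingHom)).toAlgebra
  have hloc : IsLocalRing (ULift.{u} B) := (ULift.ringEquiv (R := B)).symm.isLocalRing
  have hfin : @Module.Finite (ULift.{v} R) (ULift.{u} B) _ _ alg.toModule :=
    @Module.Finite.of_equiv_equiv R B (ULift.{v} R) (ULift.{u} B) _ _ _ _ _ alg
      (ULift.ringEquiv (R := R)).symm (ULift.ringEquiv (R := B)).symm (by ext; rfl) _
  have := @Groth.Agent.Lib.Helper25.henselianLocalRing_of_finite (ULift.{v} R) (ULift.{u} B) _ hR' _
    hloc alg hfin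
  exact henselian_of_ringEquiv (ULift.ringEquiv (R := B))

/-- Let R be a henselian local ring and G = Spec A a finite flat group scheme over R (A a commutative
Hopf algebra over R, finite and flat as an R-module; G need not be commutative). Let e be an
idempotent of A on which the counit takes the value 1 and such that A/(1 - e) is a local ring, so
that Spec A/(1 - e) is the connected component G⁰ of G containing the unit section. Then the ideal
(1 - e) is a Hopf ideal (G⁰ is a closed subgroup scheme of G), A/(1 - e) is a henselian local ring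
with the same residue field as R (the composite R → A/(1 - e) → residue field is surjective), and
A/(1 - e) is flat over R. (The published statement also asserts that G⁰ is normal in G; this row
does not state normality.) -/
theorem result (R : Type u) [CommRing R] [HenselianLocalRing R]
    (A : Type v) [CommRing A] [HopfAlgebra R A] [Module.Finite R A] [Module.Flat R A]
    (e : A) (he : IsIdempotentElem e) (hε : Bialgebra.counitAlgHom R A e = 1)
    [IsLocalRing (A ⧸ Ideal.span ({1 - e} : Set A))] :
    (Ideal.span ({1 - e} : Set A)).IsHopfIdeal R ∧ HenselianLocalRing (A ⧸ Ideal.span ({1 - e} : Set A)) ∧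
      Function.Surjective (⇑(IsLocalRing.residue (A ⧸ Ideal.span ({1 - e} : Set A))) ∘ ⇑(algebraMap R (A ⧸ Ideal.span ({1 - e} : Set A)))) ∧
      Module.Flat R (A ⧸ Ideal.span ({1 - e} : Set A)) := by
  have hint : Algebra.IsIntegral R A := inferInstance
  refine ⟨hopfIdeal R A e hε he, ?_, ?_, ?_⟩
  · have hfin : Module.Finite R (A ⧸ Ideal.span ({1 - e} : Set A)) :=
      Module.Finite.of_surjective (Ideal.Quotient.mkₐ R _).toLinearMap Ideal.Quotient.mk_surjective
    exact hens R _
  · intro y
    obtain ⟨x, rfl⟩ := IsLocalRing.residue_surjective y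
    refine ⟨epsBar R A e hε x, ?_⟩
    rw [Function.comp_apply]
    have hk : x - algebraMap R _ (epsBar R A e hε x) ∈ RingHom.ker (epsBar R A e hε) := by
      rw [RingHom.mem_ker, map_sub, AlgHom.commutes]; exact sub_self _
    have hm := IsLocalRing.le_maximalIdeal
      (RingHom.ker_ne_top (epsBar R A e hε : (A ⧸ Ideal.span ({1 - e} : Set A)) →+* R)) hk
    rw [← IsLocalRing.residue_eq_zero_iff, map_sub, sub_eq_zero] at hm
    exact hm.symm
  · have hlocA : IsLocalization.Away e (A ⧸ Ideal.span ({1 - e} : Set A)) :=
      IsLocalization.Away.quotient_of_isIdempotentElem he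
    have hflatA : Module.Flat A (A ⧸ Ideal.span ({1 - e} : Set A)) :=
      IsLocalization.flat _ (Submonoid.powers e)
    exact Module.Flat.trans R A _

end Groth.Agent.S13404
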