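import Groth.Statements.S13407
import Mathlib

set_option autoImplicit false
universe u
open TensorProduct
open Hopf

namespace Groth.Agent.S13407


open Coalgebra

section
variable (R : Type u) [CommRing R] [IsDomain R]
    (K : Type u) [Field K] [Algebra R K] [IsFractionRing R K]
    (A : Type u) [CommRing A] [Algebra R A]

/-- clearing denominators -/
theorem clear (y : K ⊗[R] A) : ∃ t : R, t ≠ 0 ∧ ∃ b : A,
    t • y = (Algebra.TensorProduct.includeRight : A →ₐ[R] K ⊗[R] A) b := by
  induction y using TensorProduct.induction_on with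
  | zero => exact ⟨1, one_ne_zero, 0, by simp⟩
  | tmul k a =>
    obtain ⟨r, s, hs, rfl⟩ := IsFractionRing.div_surjective (A := R) k
    have hs0 : s ≠ 0 := nonZeroDivisors.ne_zero hs
    have hsK : algebraMap R K s ≠ 0 := by
      intro h
      exact hs0 ((IsFractionRing.injective R K) (by rw [h, map_zero]))
    refine ⟨s, hs0, r • a, ?_⟩
    rw [Algebra.TensorProduct.includeRight_apply, TensorProduct.smul_tmul', Algebra.smul_def,
      mul_div_cancel₀ _ hsK, Algebra.algebraMap_eq_smul_one, TensorProduct.smul_tmul]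
  | add x y hx hy =>
    obtain ⟨t, ht, b, hb⟩ := hx
    obtain ⟨t', ht', b', hb'⟩ := hy
    refine ⟨t * t', mul_ne_zero ht ht', t' • b + t • b', ?_⟩
    rw [smul_add, mul_comm t t', mul_smul, hb, mul_comm t' t, mul_smul, hb', map_add, map_smul,
      map_smul]

variable {R K A}

theorem mem_of_smul_mem (I : Ideal (K ⊗[R] A)) {s : R} (hs : s ≠ 0) {x : K ⊗[R] A}
    (h : s • x ∈ I) : x ∈ I := by
  have hsK : algebraMap R K s ≠ 0 := by
    intro h
    exact hs ((IsFractionRing.injective R K) (by rw [h, map_zero]))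
  have h1 : s • x = algebraMap K (K ⊗[R] A) (algebraMap R K s) * x := by
    rw [← IsScalarTower.algebraMap_apply, Algebra.smul_def]
  rw [h1] at h
  have hu : IsUnit (algebraMap K (K ⊗[R] A) (algebraMap R K s)) :=
    (IsUnit.mk0 _ hsK).map _
  exact (Ideal.unit_mul_mem_iff_mem I hu).mp h

theorem mem_map_iff (J' : Ideal A) (x : K ⊗[R] A) :
    x ∈ Ideal.map (Algebra.TensorProduct.includeRight : A →ₐ[R] K ⊗[R] A) J' ↔
      ∃ s : R, s ≠ 0 ∧ ∃ j ∈ J', s • x = (Algebra.TensorProduct.includeRight : A →ₐ[R] K ⊗[R] A) j := by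
  constructor
  · intro hx
    refine Submodule.span_induction (p := fun x _ => ∃ s : R, s ≠ 0 ∧ ∃ j ∈ J',
      s • x = (Algebra.TensorProduct.includeRight : A →ₐ[R] K ⊗[R] A) j) ?_ ?_ ?_ ?_ hx
    · rintro _ ⟨j, hj, rfl⟩
      exact ⟨1, one_ne_zero, j, hj, one_smul _ _⟩
    · exact ⟨1, one_ne_zero, 0, J'.zero_mem, by simp⟩
    · rintro x y _ _ ⟨t, ht, b, hbJ, hb⟩ ⟨t', ht', b', hbJ', hb'⟩
      refine ⟨t * t', mul_ne_zero ht ht', t' • b + t • b',
        J'.add_mem (J'.smul_of_tower_mem _ hbJ) (J'.smul_of_tower_mem _ hbJ'), ?_⟩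
      rw [smul_add, mul_comm t t', mul_smul, hb, mul_comm t' t, mul_smul, hb', map_add, map_smul,
        map_smul]
    · rintro y x _ ⟨s, hs, j, hj, hsj⟩
      obtain ⟨t, ht, b, hb⟩ := clear R K A y
      refine ⟨t * s, mul_ne_zero ht hs, b * j, J'.mul_mem_left _ hj, ?_⟩
      rw [map_mul, ← hb, ← hsj, smul_eq_mul, smul_mul_smul_comm]
  · rintro ⟨s, hs, j, hj, hsj⟩
    refine mem_of_smul_mem _ hs ?_
    rw [hsj]
    exact Ideal.mem_map_of_mem _ hj

end


section Hopf
variable {R : Type u} [CommRing R] [IsDomain R]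
    {K : Type u} [Field K] [Algebra R K] [IsFractionRing R K]
    {A : Type u} [CommRing A] [HopfAlgebra R A]

local notation "ι" => (Algebra.TensorProduct.includeRight : A →ₐ[R] K ⊗[R] A)

omit [IsDomain R] [IsFractionRing R K] in
theorem counit_incl (a : A) :
    counit (R := K) (ι a) = algebraMap R K (counit (R := R) a) := by
  rw [Algebra.TensorProduct.includeRight_apply, TensorProduct.counit_tmul, Bialgebra.counit_one,
    Algebra.algebraMap_eq_smul_one]

omit [IsDomain R] [IsFractionRing R K] in
theorem antipode_incl (a : A) :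
    HopfAlgebra.antipode K (ι a) = ι (HopfAlgebra.antipode R a) := by
  rw [Algebra.TensorProduct.includeRight_apply, TensorProduct.antipode_def,
    AlgebraTensorModule.map_tmul, HopfAlgebra.antipode_one]
  rfl

omit [IsDomain R] [IsFractionRing R K] in
theorem comul_incl (a : A) :
    comul (R := K) (ι a) =
      AlgebraTensorModule.tensorTensorTensorComm R K R K K K A A
        (((1 : K) ⊗ₜ[K] (1 : K)) ⊗ₜ[R] comul (R := R) a) := by
  rw [Algebra.TensorProduct.includeRight_apply, TensorProduct.comul_tmul, Bialgebra.comul_one]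
  rfl

theorem comul_compat (J' : Ideal A) (J : Ideal (K ⊗[R] A)) (h : J' ≤ Ideal.comap ι J)
    (z : A ⊗[R] A) :
    IsLocalization.moduleTensorEquiv (nonZeroDivisors R) K (K ⊗[R] A ⧸ J) (K ⊗[R] A ⧸ J)
      (Algebra.TensorProduct.map (Ideal.Quotient.mkₐ K J) (Ideal.Quotient.mkₐ K J)
        (AlgebraTensorModule.tensorTensorTensorComm R K R K K K A A
          (((1 : K) ⊗ₜ[K] (1 : K)) ⊗ₜ[R] z))) =
    TensorProduct.map (Ideal.quotientMapₐ J ι h).toLinearMap
      (Ideal.quotientMapₐ J ι h).toLinearMap
      (Algebra.TensorProduct.map (Ideal.Quotient.mkₐ R J') (Ideal.Quotient.mkₐ R J') z) := by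
  induction z using TensorProduct.induction_on with
  | zero =>
    rw [TensorProduct.tmul_zero, LinearEquiv.map_zero, map_zero, LinearEquiv.map_zero, map_zero,
      LinearMap.map_zero]
  | tmul l r =>
    rw [AlgebraTensorModule.tensorTensorTensorComm_tmul, Algebra.TensorProduct.map_tmul,
      Algebra.TensorProduct.map_tmul, TensorProduct.map_tmul]
    rfl
  | add x y hx hy =>
    rw [TensorProduct.tmul_add, LinearEquiv.map_add, map_add, LinearEquiv.map_add, hx, hy, map_add,
      LinearMap.map_add]


theorem mapsTo_part (J' : Ideal A) (hJ' : J'.IsHopfIdeal R) :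
    (Ideal.map ι J').IsHopfIdeal K := by
  set J := Ideal.map ι J' with hJ
  have hle : J' ≤ Ideal.comap ι J := Ideal.le_comap_map
  refine { toIsCoideal := ⟨?_, ?_⟩, antipode_mem := ?_ }
  · intro x hx
    have : J ≤ RingHom.ker (Bialgebra.counitAlgHom K (K ⊗[R] A)) := by
      refine Ideal.map_le_iff_le_comap.mpr ?_
      intro a ha
      rw [Ideal.mem_comap, RingHom.mem_ker]
      change counit (R := K) (ι a) = 0
      rw [counit_incl, hJ'.counit_eq_zero ha, map_zero]
    exact this hx
  · intro x hx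
    let D : K ⊗[R] A →ₐ[K] (K ⊗[R] A ⧸ J) ⊗[K] (K ⊗[R] A ⧸ J) :=
      (Algebra.TensorProduct.map (Ideal.Quotient.mkₐ K J) (Ideal.Quotient.mkₐ K J)).comp
        (Bialgebra.comulAlgHom K (K ⊗[R] A))
    have : J ≤ RingHom.ker D := by
      refine Ideal.map_le_iff_le_comap.mpr ?_
      intro a ha
      rw [Ideal.mem_comap, RingHom.mem_ker]
      change Algebra.TensorProduct.map (Ideal.Quotient.mkₐ K J) (Ideal.Quotient.mkₐ K J)
        (comul (R := K) (ι a)) = 0
      rw [comul_incl]
      apply (IsLocalization.moduleTensorEquiv (nonZeroDivisors R) K (K ⊗[R] A ⧸ J)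
        (K ⊗[R] A ⧸ J)).injective
      rw [comul_compat J' J hle, LinearEquiv.map_zero]
      have h0 := hJ'.map_mkQ_comul_eq_zero ha
      change Algebra.TensorProduct.map (Ideal.Quotient.mkₐ R J') (Ideal.Quotient.mkₐ R J')
        (comul (R := R) a) = 0 at h0
      rw [h0, LinearMap.map_zero]
    exact this hx
  · intro x hx
    have : J ≤ Ideal.comap (HopfAlgebra.antipodeAlgHom K (K ⊗[R] A)) J := by
      refine Ideal.map_le_iff_le_comap.mpr ?_
      intro a ha
      rw [Ideal.mem_comap, Ideal.mem_comap]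
      change HopfAlgebra.antipode K (ι a) ∈ _
      rw [antipode_incl]
      exact Ideal.mem_map_of_mem _ (hJ'.antipode_mem ha)
    exact this hx


theorem surj_part [IsDedekindDomain R] (J : Ideal (K ⊗[R] A)) (hJ : J.IsHopfIdeal K) :
    ((Ideal.comap ι J).IsHopfIdeal R ∧ Module.Flat R (A ⧸ Ideal.comap ι J)) ∧
      Ideal.map ι (Ideal.comap ι J) = J := by
  set J' := Ideal.comap ι J with hJ'
  have hle : J' ≤ Ideal.comap ι J := le_rfl
  have htf : Module.IsTorsionFree R (A ⧸ J') := by
    refine Module.IsTorsionFree.of_smul_eq_zero fun r m hrm => ?_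
    by_cases hr : r = 0
    · exact Or.inl hr
    · right
      obtain ⟨a, rfl⟩ := Ideal.Quotient.mk_surjective m
      rw [Ideal.Quotient.eq_zero_iff_mem]
      have h1 : r • a ∈ J' := by
        rw [← Ideal.Quotient.eq_zero_iff_mem]
        exact hrm
      have h2 : r • ι a ∈ J := by
        rw [← map_smul]; exact h1
      exact mem_of_smul_mem J hr h2
  have hflat : Module.Flat R (A ⧸ J') := inferInstance
  have hmap : Ideal.map ι J' = J := by
    refine le_antisymm Ideal.map_comap_le fun x hx => ?_
    obtain ⟨t, ht, b, hb⟩ := clear R K A x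
    rw [mem_map_iff]
    refine ⟨t, ht, b, ?_, hb⟩
    change ι b ∈ J
    rw [← hb]
    exact J.smul_of_tower_mem t hx
  refine ⟨⟨{ toIsCoideal := ⟨?_, ?_⟩, antipode_mem := ?_ }, hflat⟩, hmap⟩
  · intro a ha
    have h1 : counit (R := K) (ι a) = 0 := hJ.counit_eq_zero ha
    rw [counit_incl] at h1
    exact (IsFractionRing.injective R K) (by rw [h1, map_zero])
  · intro a ha
    change Algebra.TensorProduct.map (Ideal.Quotient.mkₐ R J') (Ideal.Quotient.mkₐ R J')
      (comul (R := R) a) = 0
    have h0 := hJ.map_mkQ_comul_eq_zero ha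
    change Algebra.TensorProduct.map (Ideal.Quotient.mkₐ K J) (Ideal.Quotient.mkₐ K J)
      (comul (R := K) (ι a)) = 0 at h0
    rw [comul_incl] at h0
    have h1 := comul_compat J' J hle (comul (R := R) a)
    rw [h0, LinearEquiv.map_zero] at h1
    have hinj : Function.Injective (Ideal.quotientMapₐ J ι hle).toLinearMap :=
      Ideal.quotientMap_injective' (f := (ι : A →+* K ⊗[R] A)) (H := hle) le_rfl
    have hRK : Module.Flat R K := IsLocalization.flat K (nonZeroDivisors R)
    have hflatK : Module.Flat R (K ⊗[R] A ⧸ J) := Module.Flat.trans R K _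
    have := TensorProduct.map_injective_of_flat_flat (Ideal.quotientMapₐ J ι hle).toLinearMap
      (Ideal.quotientMapₐ J ι hle).toLinearMap hinj hinj
    exact this (by rw [← h1, LinearMap.map_zero])
  · intro a ha
    change ι (HopfAlgebra.antipode R a) ∈ J
    rw [← antipode_incl]
    exact hJ.antipode_mem ha


theorem inj_part [Module.Flat R A] (J' : Ideal A) (hflat : Module.Flat R (A ⧸ J')) :
    Ideal.comap ι (Ideal.map ι J') = J' := by
  refine le_antisymm (fun a ha => ?_) Ideal.le_comap_map
  rw [Ideal.mem_comap, mem_map_iff] at ha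
  obtain ⟨s, hs, j, hj, hsj⟩ := ha
  rw [← map_smul] at hsj
  have hinj : Function.Injective ι :=
    Algebra.TensorProduct.includeRight_injective (IsFractionRing.injective R K)
  have h1 : s • a ∈ J' := by rw [hinj hsj]; exact hj
  have h2 : s • (Ideal.Quotient.mk J' a) = 0 := by
    rw [← Ideal.Quotient.eq_zero_iff_mem] at h1; exact h1
  rcases smul_eq_zero.mp h2 with h | h
  · exact absurd h hs
  · exact Ideal.Quotient.eq_zero_iff_mem.mp h

end Hopf

/-- Let R be a Dedekind domain with fraction field K and let G = Spec A be a finite flat group scheme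
over R (A a commutative Hopf algebra over R, finite and flat as an R-module). Closed flat R-subgroup
schemes of G correspond one-to-one to closed K-subgroup schemes of the generic fibre G_K under H ↦
H_K: the map sending a Hopf ideal J' of A with A/J' flat over R to the ideal it generates in K ⊗_R A
is a bijection onto the set of Hopf ideals of the Hopf algebra K ⊗_R A over K (its inverse takes a
Hopf ideal of K ⊗_R A to its preimage in A). -/
theorem result (R : Type u) [CommRing R] [IsDedekindDomain R]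
    (K : Type u) [Field K] [Algebra R K] [IsFractionRing R K]
    (A : Type u) [CommRing A] [HopfAlgebra R A] [Module.Finite R A] [Module.Flat R A] :
    Set.BijOn (fun J' : Ideal A => Ideal.map (Algebra.TensorProduct.includeRight : A →ₐ[R] K ⊗[R] A) J')
      {J' : Ideal A | J'.IsHopfIdeal R ∧ Module.Flat R (A ⧸ J')}
      {J : Ideal (K ⊗[R] A) | J.IsHopfIdeal K} := by
  refine ⟨fun J' hJ' => mapsTo_part J' hJ'.1, fun J₁ h₁ J₂ h₂ h => ?_,
    fun J hJ => ⟨Ideal.comap (Algebra.TensorProduct.includeRight : A →ₐ[R] K ⊗[R] A) J,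
      (surj_part J hJ).1, (surj_part J hJ).2⟩⟩
  rw [← inj_part (K := K) J₁ h₁.2, ← inj_part (K := K) J₂ h₂.2]
  exact congrArg _ h

end Groth.Agent.S13407
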