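import Groth.Statements.S1341
import Mathlib
import Groth.Agent.Lib.Helper6.CMChart4
-- import your own Groth.Agent.* helpers here

set_option autoImplicit false
universe u
open FlatMor

namespace Groth.Agent.S1341

open AlgebraicGeometry CategoryTheory Limits in
/-- Let f : X ⟶ S be flat and locally of finite presentation. Then the set of points of X at which f is
Cohen–Macaulay is open in X, and its intersection with every fibre of f is dense in that fibre. -/
theorem result {X S : Scheme.{u}} (f : X ⟶ S) [Flat f] [LocallyOfFinitePresentation f] :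
    IsOpen {x : ↑X | MoreMor.IsCMAt f x} ∧ ∀ s : S, Dense ((f.fiberι s) ⁻¹' {x : ↑X | MoreMor.IsCMAt f x}) := by
  haveI : LocallyOfFiniteType f := inferInstance
  refine ⟨?_, fun s => Groth.Agent.Lib.Helper6.CMChart.dense_cmLocus_fiber f s⟩
  rw [isOpen_iff_forall_mem_open]
  intro x hx
  obtain ⟨N, hN⟩ := Groth.Agent.Lib.Helper6.CMChart.exists_nat_fibreDimAt f x
  obtain ⟨U, g, hxU, hg, hfl, hlqf⟩ :=
    Groth.Agent.Lib.Helper6.CMChart.exists_flat_chart_nhd_of_isCMAt f x hx N hN
  haveI := hlqf
  haveI := hfl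
  refine ⟨U, ?_, U.2, hxU⟩
  intro z hz
  exact Groth.Agent.Lib.Helper6.CMChart.isCMAt_of_flat_chart f N U g hg ⟨z, hz⟩
    ((AlgebraicGeometry.Flat.iff_flat_stalkMap g).mp inferInstance _)

end Groth.Agent.S1341
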