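import Groth.Statements.S13410
import Mathlib
import Groth.Agent.Lib.Helper2.WalkLab

set_option autoImplicit false
universe u v
open CombGraph

namespace Groth.Agent.S13410
open Groth.Agent.Lib.Helper2.WalkLab SimpleGraph

/-- Let `A` be an abelian group and `G` a finite connected simple graph on `V`, bipartite for a
two-colouring `c`. Consider the additive group of labellings `x : Sym2 V → A` vanishing off the edge
set and with `∑_{e ∋ v} x e = 0` at every vertex `v`. If `e₀` is an edge whose deletion leaves `G`
connected, then evaluation at `e₀` restricted to this group is surjective and split: there is an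
additive map `φ : A → (Sym2 V → A)` with values in this group and with `φ a e₀ = a` for all `a`.
(The published statement concerns finite bipartite graphs in general; this row treats simple
graphs.) -/
theorem result {V : Type u} [Fintype V]
    [DecidableEq V] (G : SimpleGraph V) [DecidableRel G.Adj] (hconn : G.Connected) (c : V → Bool)
    (hbip : ∀ v w : V, G.Adj v w → c v ≠ c w) (A : Type v) [AddCommGroup A] (e₀ : Sym2 V)
    (he₀ : e₀ ∈ G.edgeSet) (hdel : (G.deleteEdges {e₀}).Connected) :
    ∃ φ : A →+ (Sym2 V → A),
      (∀ a : A, (∀ e : Sym2 V, e ∉ G.edgeSet → φ a e = 0) ∧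
        ∀ v : V, ∑ e ∈ G.incidenceFinset v, φ a e = 0) ∧
      ∀ a : A, φ a e₀ = a := by
  classical
  induction e₀ using Sym2.ind with
  | _ v0 w0 =>
  have hadj : G.Adj v0 w0 := he₀
  let p' : (G.deleteEdges {s(v0, w0)}).Walk w0 v0 := (hdel.preconnected w0 v0).some
  let p : G.Walk w0 v0 := p'.mapLe (deleteEdges_le _)
  have hp : s(v0, w0) ∉ p.edges := by
    intro h
    rw [Walk.edges_mapLe_eq_edges] at h
    have := Walk.edges_subset_edgeSet p' h
    rw [edgeSet_deleteEdges] at this
    exact this.2 rfl
  let q : G.Walk v0 v0 := Walk.cons hadj p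
  have hq0 : lab q s(v0, w0) = 1 := by
    rw [lab_cons, if_pos rfl, lab_eq_zero_of_not_mem_edges p _ hp, sub_zero]
  have hqs : ∀ u, ∑ e ∈ G.incidenceFinset u, lab q e = 0 := by
    intro u
    rw [sum_incidence_lab, neg_one_pow_length c hbip q, if_pos rfl, one_mul, sub_self]
  refine ⟨{ toFun := fun a e => lab q e • a, map_zero' := ?_, map_add' := ?_ }, ?_, ?_⟩
  · funext e; simp
  · intro a b; funext e; simp [smul_add]
  · intro a
    refine ⟨fun e he => ?_, fun u => ?_⟩
    · show lab q e • a = 0
      rw [lab_eq_zero_of_not_mem_edgeSet q e he, zero_smul]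
    · show ∑ e ∈ G.incidenceFinset u, lab q e • a = 0
      rw [← Finset.sum_smul, hqs, zero_smul]
  · intro a
    show lab q s(v0, w0) • a = a
    rw [hq0, one_smul]

end Groth.Agent.S13410
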