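import Groth.Statements.S13411
import Mathlib
import Groth.Agent.Lib.Helper2.WalkLab
import Groth.Agent.S13410

set_option autoImplicit false
universe u v
open CombGraph

namespace Groth.Agent.S13411
open SimpleGraph

section Aux
variable {V : Type u} [Fintype V] [DecidableEq V]

lemma adj_sum {A : Type v} [AddCommGroup A] (G : SimpleGraph V) [DecidableRel G.Adj] (g : V → ℤ)
    (x : Sym2 V → A) :
    ∑ u, g u • ∑ e ∈ G.incidenceFinset u, x e
      = ∑ e ∈ G.edgeFinset, (Sym2.lift ⟨fun a b => g a + g b, fun a b => add_comm _ _⟩ e) • x e := by
  simp_rw [Finset.smul_sum]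
  rw [Finset.sum_comm' (t' := G.edgeFinset) (s' := fun e => Finset.univ.filter (fun u => u ∈ e))]
  · refine Finset.sum_congr rfl fun e he => ?_
    induction e using Sym2.ind with
    | _ p q =>
    rw [mem_edgeFinset, mem_edgeSet] at he
    have hpq : p ≠ q := he.ne
    have : Finset.univ.filter (fun u => u ∈ s(p, q)) = {p, q} := by
      ext u; simp [Sym2.mem_iff]
    rw [this, Finset.sum_pair hpq, Sym2.lift_mk, add_smul]
  · intro u e
    simp [mem_incidenceFinset, incidenceSet, and_comm]

lemma eq_zero_of_bridge {A : Type v} [AddCommGroup A] (G : SimpleGraph V) [DecidableRel G.Adj]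
    (c : V → Bool) (hbip : ∀ v w, G.Adj v w → c v ≠ c w) (x : Sym2 V → A)
    (hx : ∀ v, ∑ e ∈ G.incidenceFinset v, x e = 0) {a b : V} (hab : G.Adj a b)
    (hbr : G.IsBridge s(a, b)) : x s(a, b) = 0 := by
  classical
  set G' := G.deleteEdges {s(a, b)} with hG'
  set g : V → ℤ := fun u => if G'.Reachable a u then (if c u then 1 else -1) else 0 with hg
  have h := adj_sum G g x
  simp_rw [hx, smul_zero, Finset.sum_const_zero] at h
  rw [Finset.sum_eq_single s(a, b)] at h
  · rw [Sym2.lift_mk] at h
    change 0 = (g a + g b) • x s(a, b) at h
    have hga : g a = if c a then 1 else -1 := if_pos (Reachable.refl a)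
    have hgb : g b = 0 := if_neg (isBridge_iff.mp hbr)
    simp only [hga, hgb, add_zero] at h
    cases hc : c a <;> simpa [hc] using h.symm
  · intro e he hne
    induction e using Sym2.ind with
    | _ p q =>
    rw [mem_edgeFinset, mem_edgeSet] at he
    have hG'pq : G'.Adj p q := by
      rw [hG', deleteEdges_adj]; exact ⟨he, by simpa using hne⟩
    rw [Sym2.lift_mk]
    have : g p + g q = 0 := by
      have hreach : G'.Reachable a p ↔ G'.Reachable a q :=
        ⟨fun h => h.trans hG'pq.reachable, fun h => h.trans hG'pq.symm.reachable⟩
      simp only [hg]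
      by_cases hr : G'.Reachable a p
      · rw [if_pos hr, if_pos (hreach.mp hr)]
        have := hbip p q he
        cases hp : c p <;> cases hq : c q <;> simp_all
      · rw [if_neg hr, if_neg (fun h => hr (hreach.mpr h))]; rfl
    show (g p + g q) • x s(p, q) = 0
    rw [this, zero_smul]
  · intro hnot
    exact absurd (by rw [mem_edgeFinset]; exact hab) hnot

lemma sum_inc_eq {A : Type v} [AddCommGroup A] (G G' : SimpleGraph V) [DecidableRel G.Adj]
    [DecidableRel G'.Adj] (hle : G' ≤ G)
    (y : Sym2 V → A) (hy : ∀ e, e ∉ G'.edgeSet → y e = 0) (v : V) :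
    ∑ e ∈ G.incidenceFinset v, y e = ∑ e ∈ G'.incidenceFinset v, y e := by
  symm
  apply Finset.sum_subset
  · intro e he
    rw [mem_incidenceFinset] at he ⊢
    exact ⟨edgeSet_mono hle he.1, he.2⟩
  · intro e he hne
    apply hy
    intro he'
    apply hne
    rw [mem_incidenceFinset] at he ⊢
    exact ⟨he', he.2⟩

end Aux


/-- Let `A` be an abelian group and `G` a finite connected simple graph on `V`, bipartite for a
two-colouring `c`, with cyclomatic number `n` (number of edges minus number of vertices plus one).
Then the additive group of labellings `x : Sym2 V → A` vanishing off the edge set and with `∑_{e ∋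
v} x e = 0` at every vertex `v` is isomorphic to `A^n`: it is the range of an injective additive map
`(Fin n → A) → (Sym2 V → A)`. (The published statement concerns finite bipartite graphs in general;
this row treats simple graphs.) -/
theorem result {V : Type u} [Fintype V]
    [DecidableEq V] (G : SimpleGraph V) [DecidableRel G.Adj] (hconn : G.Connected) (c : V → Bool)
    (hbip : ∀ v w : V, G.Adj v w → c v ≠ c w) (A : Type v) [AddCommGroup A] (n : ℕ)
    (hn : G.edgeFinset.card + 1 = Fintype.card V + n) :
    ∃ f : (Fin n → A) →+ (Sym2 V → A), Function.Injective f ∧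
      Set.range f = {x : Sym2 V → A | (∀ e : Sym2 V, e ∉ G.edgeSet → x e = 0) ∧
        ∀ v : V, ∑ e ∈ G.incidenceFinset v, x e = 0} := by
  classical
  have claim : ∀ (n : ℕ) (G : SimpleGraph V) [DecidableRel G.Adj], G.Connected →
      (∀ v w : V, G.Adj v w → c v ≠ c w) → G.edgeFinset.card + 1 = Fintype.card V + n →
      ∃ f : (Fin n → A) →+ (Sym2 V → A), Function.Injective f ∧
        Set.range f = {x : Sym2 V → A | (∀ e : Sym2 V, e ∉ G.edgeSet → x e = 0) ∧
          ∀ v : V, ∑ e ∈ G.incidenceFinset v, x e = 0} := by
    intro n
    induction n with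
    | zero =>
      intro G _ hconn hbip hn
      have htree : G.IsTree := by
        rw [isTree_iff_connected_and_card]
        refine ⟨hconn, ?_⟩
        rw [Nat.card_eq_fintype_card, ← edgeFinset_card, Nat.card_eq_fintype_card]
        simpa using hn
      have hbr := isAcyclic_iff_forall_adj_isBridge.mp htree.isAcyclic
      refine ⟨0, fun a b _ => Subsingleton.elim _ _, ?_⟩
      ext x
      simp only [Set.mem_range, AddMonoidHom.zero_apply, Set.mem_ofPred_eq]
      constructor
      · rintro ⟨_, rfl⟩; simp
      · rintro ⟨h1, h2⟩
        refine ⟨0, ?_⟩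
        funext e
        by_cases he : e ∈ G.edgeSet
        · induction e using Sym2.ind with
          | _ p q => exact (eq_zero_of_bridge G c hbip x h2 he (hbr he)).symm
        · exact (h1 e he).symm
    | succ n ih =>
      intro G _ hconn hbip hn
      obtain ⟨e₀, he₀, hnb⟩ : ∃ e₀ ∈ G.edgeSet, ¬ G.IsBridge e₀ := by
        by_contra hcon
        push Not at hcon
        have htree : G.IsTree := ⟨hconn, isAcyclic_iff_forall_isBridge.mpr (fun e he => hcon e he)⟩
        have := htree.card_edgeFinset
        omega
      have hdel : (G.deleteEdges {e₀}).Connected := by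
        induction e₀ using Sym2.ind with
        | _ p q => exact hconn.connected_delete_edge_of_not_isBridge hnb
      set G' := G.deleteEdges {e₀} with hG'
      have hle : G' ≤ G := deleteEdges_le _
      have hEq : G'.edgeFinset = G.edgeFinset.erase e₀ := by
        ext e
        simp only [mem_edgeFinset, Finset.mem_erase, hG', edgeSet_deleteEdges, Set.mem_diff,
          Set.mem_singleton_iff]
        tauto
      have hcard : G'.edgeFinset.card + 1 = G.edgeFinset.card := by
        rw [hEq, Finset.card_erase_of_mem (mem_edgeFinset.mpr he₀)]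
        have : 0 < G.edgeFinset.card := Finset.card_pos.mpr ⟨e₀, mem_edgeFinset.mpr he₀⟩
        omega
      obtain ⟨f', hinj, hrange⟩ := ih G' hdel (fun v w h => hbip v w (hle h)) (by omega)
      obtain ⟨φ, hφ1, hφ2⟩ := Groth.Agent.S13410.result G hconn c hbip A e₀ he₀ hdel
      have hf'mem : ∀ b, (∀ e : Sym2 V, e ∉ G'.edgeSet → f' b e = 0) ∧
          ∀ v : V, ∑ e ∈ G'.incidenceFinset v, f' b e = 0 := by
        intro b
        have : f' b ∈ Set.range f' := ⟨b, rfl⟩
        rw [hrange] at this
        exact this
      have he₀' : e₀ ∉ G'.edgeSet := by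
        rw [hG', edgeSet_deleteEdges]; exact fun h => h.2 rfl
      let f : (Fin (n+1) → A) →+ (Sym2 V → A) :=
        { toFun := fun a => φ (a 0) + f' (fun i => a i.succ)
          map_zero' := by
            show φ 0 + f' 0 = 0
            rw [map_zero, map_zero, add_zero]
          map_add' := fun a b => by
            show φ (a 0 + b 0) + f' ((fun i => a i.succ) + (fun i => b i.succ)) = _
            rw [map_add, map_add]
            abel }
      have hfdef : ∀ a, f a = φ (a 0) + f' (fun i => a i.succ) := fun a => rfl
      refine ⟨f, ?_, ?_⟩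
      · rw [injective_iff_map_eq_zero]
        intro a ha
        rw [hfdef] at ha
        have h0 : a 0 = 0 := by
          have := congr_fun ha e₀
          rw [Pi.add_apply, hφ2, (hf'mem _).1 e₀ he₀', add_zero] at this
          exact this
        rw [h0, map_zero, zero_add] at ha
        have h1 : (fun i : Fin n => a i.succ) = 0 := by
          apply hinj
          rw [ha, map_zero]
        funext i
        refine Fin.cases h0 (fun j => ?_) i
        exact congr_fun h1 j
      · ext x
        simp only [Set.mem_range, Set.mem_ofPred_eq]
        constructor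
        · rintro ⟨a, rfl⟩
          rw [hfdef]
          refine ⟨fun e he => ?_, fun v => ?_⟩
          · rw [Pi.add_apply, (hφ1 (a 0)).1 e he,
              (hf'mem _).1 e (fun h => he (edgeSet_mono hle h)), add_zero]
          · simp only [Pi.add_apply]
            rw [Finset.sum_add_distrib, (hφ1 _).2 v, sum_inc_eq G G' hle _ (hf'mem _).1 v,
              (hf'mem _).2 v, add_zero]
        · rintro ⟨h1, h2⟩
          have hy1 : ∀ e : Sym2 V, e ∉ G'.edgeSet → (x - φ (x e₀)) e = 0 := by
            intro e he
            by_cases he' : e ∈ G.edgeSet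
            · have : e = e₀ := by
                by_contra hne
                apply he
                rw [hG', edgeSet_deleteEdges]
                exact ⟨he', hne⟩
              rw [this, Pi.sub_apply, hφ2, sub_self]
            · rw [Pi.sub_apply, h1 e he', (hφ1 _).1 e he', sub_zero]
          have hy : (x - φ (x e₀)) ∈ Set.range f' := by
            rw [hrange]
            refine ⟨hy1, fun v => ?_⟩
            rw [← sum_inc_eq G G' hle _ hy1 v]
            simp only [Pi.sub_apply]
            rw [Finset.sum_sub_distrib, h2 v, (hφ1 _).2 v, sub_zero]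
          obtain ⟨b, hb⟩ := hy
          refine ⟨Fin.cons (x e₀) b, ?_⟩
          rw [hfdef]
          simp only [Fin.cons_zero, Fin.cons_succ]
          rw [hb]
          abel
  exact claim n G hconn hbip hn

end Groth.Agent.S13411
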