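import Groth.Statements.S13418
import Groth.Agent.Helper19.NeronFormal
-- import your own Groth.Agent.* helpers here

set_option autoImplicit false
universe u
open CategoryTheory AlgebraicGeometry
open NeronHD

namespace Groth.Agent.S13418

open Groth.Agent.Helper19.NeronFormal Limits

/-- Let S be a locally Noetherian scheme over a field of characteristic 0 and S₀ ⊆ S a
scheme-theoretically dense open. If N and M are smooth S-schemes having the Néron mapping property
for S₀ ⊆ S (for every smooth S-scheme Z, restriction to S₀ is a bijection from S-morphisms Z → N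
onto S₀-morphisms Z|S₀ → N|S₀), then the fibre product N ×_S M has the Néron mapping property for S₀
⊆ S (its smoothness over S being automatic). (This row is the case of schemes, with smooth test
schemes, of a statement about algebraic spaces.) -/
theorem result {k : Type u} [Field k] [CharZero k] {S : Scheme.{u}} (σ : S ⟶ Spec (CommRingCat.of k)) [IsLocallyNoetherian S] (S₀ : S.Opens) (hS₀ : CInt.IsSchematicallyDense S₀)
    (N M : Over S) [Smooth N.hom] [Smooth M.hom]
    (hN : ∀ Z : Over S, Smooth Z.hom → Function.Bijective (fun g : Z ⟶ N => (Over.pullback S₀.ι).map g))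
    (hM : ∀ Z : Over S, Smooth Z.hom → Function.Bijective (fun g : Z ⟶ M => (Over.pullback S₀.ι).map g)) :
    ∀ Z : Over S, Smooth Z.hom → Function.Bijective (fun g : Z ⟶ Over.mk (Limits.pullback.fst N.hom M.hom ≫ N.hom) => (Over.pullback S₀.ι).map g) := by
  intro Z hZ
  rw [bijective_iff]
  have hN' := (bijective_iff S₀.ι N Z).mp (hN Z hZ)
  have hM' := (bijective_iff S₀.ι M Z).mp (hM Z hZ)
  intro h hh
  have hh' : h ≫ pullback.fst N.hom M.hom ≫ N.hom = pullback.fst Z.hom S₀.ι ≫ Z.hom := hh
  obtain ⟨g₁, ⟨hg₁a, hg₁b⟩, hu₁⟩ := hN' (h ≫ pullback.fst N.hom M.hom) (by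
    rw [Category.assoc]; exact hh')
  obtain ⟨g₂, ⟨hg₂a, hg₂b⟩, hu₂⟩ := hM' (h ≫ pullback.snd N.hom M.hom) (by
    rw [Category.assoc, ← pullback.condition]; exact hh')
  refine ⟨pullback.lift g₁ g₂ (hg₁a.trans hg₂a.symm), ⟨?_, ?_⟩, ?_⟩
  · show _ ≫ (pullback.fst _ _ ≫ N.hom) = Z.hom
    rw [pullback.lift_fst_assoc, hg₁a]
  · apply pullback.hom_ext
    · rw [Category.assoc, pullback.lift_fst, hg₁b]
    · rw [Category.assoc, pullback.lift_snd, hg₂b]
  · rintro g' ⟨h1, h2⟩
    have h1' : g' ≫ pullback.fst N.hom M.hom ≫ N.hom = Z.hom := h1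
    apply pullback.hom_ext
    · rw [pullback.lift_fst]
      exact hu₁ _ ⟨by rw [Category.assoc]; exact h1', by rw [← Category.assoc, h2]⟩
    · rw [pullback.lift_snd]
      exact hu₂ _ ⟨by rw [Category.assoc, ← pullback.condition]; exact h1',
        by rw [← Category.assoc, h2]⟩

end Groth.Agent.S13418
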