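import Groth.Statements.S13419
import Groth.Agent.Helper19.NeronOpens
-- import your own Groth.Agent.* helpers here

set_option autoImplicit false
universe u
open CategoryTheory AlgebraicGeometry
open NeronHD

namespace Groth.Agent.S13419

open Groth.Agent.Helper19.NeronFormal Groth.Agent.Helper19.NeronOpens Limits

/-- Let S be a locally Noetherian scheme over a field of characteristic 0, S₀ ⊆ S₁ ⊆ S opens with S₀
scheme-theoretically dense in S, and N a smooth S-scheme. If N has the Néron mapping property for S₁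
⊆ S and the restriction N|S₁ has the Néron mapping property for S₀ ⊆ S₁ (in both cases: restriction
of morphisms from smooth schemes over the base is bijective), then N has the Néron mapping property
for S₀ ⊆ S. (Case of schemes, with smooth test schemes, of a statement about algebraic spaces.) -/
theorem result {k : Type u} [Field k] [CharZero k] {S : Scheme.{u}} (σ : S ⟶ Spec (CommRingCat.of k)) [IsLocallyNoetherian S] (S₀ S₁ : S.Opens) (h01 : S₀ ≤ S₁) (hS₀ : CInt.IsSchematicallyDense S₀)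
    (N : Over S) [Smooth N.hom]
    (hN1 : ∀ Z : Over S, Smooth Z.hom → Function.Bijective (fun g : Z ⟶ N => (Over.pullback S₁.ι).map g))
    (hN10 : ∀ Z : Over (S₁ : Scheme.{u}), Smooth Z.hom → Function.Bijective (fun g : Z ⟶ (Over.pullback S₁.ι).obj N => (Over.pullback (S₁.ι ⁻¹ᵁ S₀).ι).map g)) :
    ∀ Z : Over S, Smooth Z.hom → Function.Bijective (fun g : Z ⟶ N => (Over.pullback S₀.ι).map g) := by
  intro Z hZ
  rw [bijective_iff]
  have h1 := (bijective_iff S₁.ι N Z).mp (hN1 Z hZ)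
  obtain ⟨r, q, hr, hsq⟩ := isPullback_restrict S₀ S₁ h01 Z
  have hsm : Smooth ((Over.pullback S₁.ι).obj Z).hom :=
    inferInstanceAs (Smooth (pullback.snd Z.hom S₁.ι))
  have h10 : NMP ((Over.pullback S₁.ι).obj N) ((Over.pullback S₁.ι).obj Z) r :=
    (bijective_iff_of_isPullback (S₁.ι ⁻¹ᵁ S₀).ι _ ((Over.pullback S₁.ι).obj Z) hsq).mp
      (hN10 _ hsm)
  have hrsnd : r ≫ pullback.snd Z.hom S₁.ι = q ≫ (S₁.ι ⁻¹ᵁ S₀).ι := hsq.w
  intro h hh
  -- lift `h` to `N₁`
  have hc1 : h ≫ N.hom = (r ≫ pullback.snd Z.hom S₁.ι) ≫ S₁.ι := by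
    rw [hh, ← hr, Category.assoc, Category.assoc, pullback.condition]
  obtain ⟨g₁, ⟨hg₁a, hg₁b⟩, hu₁⟩ := h10 (pullback.lift h (r ≫ pullback.snd Z.hom S₁.ι) hc1)
    (pullback.lift_snd _ _ _)
  have hg₁a' : g₁ ≫ pullback.snd N.hom S₁.ι = pullback.snd Z.hom S₁.ι := hg₁a
  obtain ⟨g, ⟨hga, hgb⟩, hu⟩ := h1 (g₁ ≫ pullback.fst N.hom S₁.ι) (by
    rw [Category.assoc, pullback.condition, ← Category.assoc, hg₁a', pullback.condition])
  refine ⟨g, ⟨hga, ?_⟩, ?_⟩
  · rw [← hr, Category.assoc, hgb, ← Category.assoc, hg₁b, pullback.lift_fst]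
  · rintro g' ⟨h1', h2'⟩
    apply hu g' ⟨h1', ?_⟩
    have hc2 : (pullback.fst Z.hom S₁.ι ≫ g') ≫ N.hom = pullback.snd Z.hom S₁.ι ≫ S₁.ι := by
      rw [Category.assoc, h1', pullback.condition]
    have : pullback.lift (pullback.fst Z.hom S₁.ι ≫ g') (pullback.snd Z.hom S₁.ι) hc2 = g₁ := by
      apply hu₁ _ ⟨pullback.lift_snd _ _ _, ?_⟩
      apply pullback.hom_ext
      · rw [Category.assoc, pullback.lift_fst, pullback.lift_fst, ← Category.assoc, hr, h2']
      · rw [Category.assoc, pullback.lift_snd, pullback.lift_snd]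
        rfl
    rw [← this, pullback.lift_fst]

end Groth.Agent.S13419
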