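import Groth.Statements.S13420
import Groth.Agent.Helper19.NeronOpens
-- import your own Groth.Agent.* helpers here

set_option autoImplicit false
universe u
open CategoryTheory AlgebraicGeometry
open NeronHD

namespace Groth.Agent.S13420

open Groth.Agent.Helper19.NeronFormal Groth.Agent.Helper19.NeronOpens Limits

/-- Let S be a locally Noetherian scheme over a field of characteristic 0, S₀ ⊆ S₁ ⊆ S opens with S₀
scheme-theoretically dense in S, and N a smooth S-scheme. If N has the Néron mapping property for S₀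
⊆ S and N|S₁ has the Néron mapping property for S₀ ⊆ S₁ (restriction of morphisms from smooth
schemes over the base is bijective), then N has the Néron mapping property for S₁ ⊆ S. (Case of
schemes, with smooth test schemes, of a statement about algebraic spaces.) -/
theorem result {k : Type u} [Field k] [CharZero k] {S : Scheme.{u}} (σ : S ⟶ Spec (CommRingCat.of k)) [IsLocallyNoetherian S] (S₀ S₁ : S.Opens) (h01 : S₀ ≤ S₁) (hS₀ : CInt.IsSchematicallyDense S₀)
    (N : Over S) [Smooth N.hom]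
    (hN0 : ∀ Z : Over S, Smooth Z.hom → Function.Bijective (fun g : Z ⟶ N => (Over.pullback S₀.ι).map g))
    (hN10 : ∀ Z : Over (S₁ : Scheme.{u}), Smooth Z.hom → Function.Bijective (fun g : Z ⟶ (Over.pullback S₁.ι).obj N => (Over.pullback (S₁.ι ⁻¹ᵁ S₀).ι).map g)) :
    ∀ Z : Over S, Smooth Z.hom → Function.Bijective (fun g : Z ⟶ N => (Over.pullback S₁.ι).map g) := by
  intro Z hZ
  rw [bijective_iff]
  have h0 := (bijective_iff S₀.ι N Z).mp (hN0 Z hZ)
  obtain ⟨r, q, hr, hsq⟩ := isPullback_restrict S₀ S₁ h01 Z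
  have hsm : Smooth ((Over.pullback S₁.ι).obj Z).hom :=
    inferInstanceAs (Smooth (pullback.snd Z.hom S₁.ι))
  have h10 : NMP ((Over.pullback S₁.ι).obj N) ((Over.pullback S₁.ι).obj Z) r :=
    (bijective_iff_of_isPullback (S₁.ι ⁻¹ᵁ S₀).ι _ ((Over.pullback S₁.ι).obj Z) hsq).mp
      (hN10 _ hsm)
  intro h hh
  obtain ⟨g, ⟨hga, hgb⟩, hu⟩ := h0 (r ≫ h) (by
    rw [Category.assoc, hh, ← Category.assoc, hr])
  -- two lifts to `N₁`
  have hca : (pullback.fst Z.hom S₁.ι ≫ g) ≫ N.hom = pullback.snd Z.hom S₁.ι ≫ S₁.ι := by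
    rw [Category.assoc, hga, pullback.condition]
  have hcb : h ≫ N.hom = pullback.snd Z.hom S₁.ι ≫ S₁.ι := by
    rw [hh, pullback.condition]
  have hab : pullback.lift (pullback.fst Z.hom S₁.ι ≫ g) (pullback.snd Z.hom S₁.ι) hca =
      pullback.lift h (pullback.snd Z.hom S₁.ι) hcb := by
    obtain ⟨g₀, -, hu₀⟩ := h10 (r ≫ pullback.lift h (pullback.snd Z.hom S₁.ι) hcb) (by
      rw [Category.assoc]
      show r ≫ pullback.lift h (pullback.snd Z.hom S₁.ι) hcb ≫ pullback.snd N.hom S₁.ι = _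
      rw [pullback.lift_snd]; rfl)
    rw [hu₀ (pullback.lift (pullback.fst Z.hom S₁.ι ≫ g) (pullback.snd Z.hom S₁.ι) hca)
        ⟨pullback.lift_snd _ _ _, ?_⟩,
      hu₀ (pullback.lift h (pullback.snd Z.hom S₁.ι) hcb) ⟨pullback.lift_snd _ _ _, rfl⟩]
    apply pullback.hom_ext
    · rw [Category.assoc, Category.assoc, pullback.lift_fst, pullback.lift_fst, ← Category.assoc, hr,
        hgb]
    · rw [Category.assoc, Category.assoc, pullback.lift_snd, pullback.lift_snd]
  refine ⟨g, ⟨hga, ?_⟩, ?_⟩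
  · have := congrArg (fun φ => φ ≫ pullback.fst N.hom S₁.ι) hab
    simpa only [pullback.lift_fst] using this
  · rintro g' ⟨h1', h2'⟩
    exact hu g' ⟨h1', by rw [← hr, Category.assoc, h2']⟩

end Groth.Agent.S13420
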