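import Groth.Statements.S13421
import Groth.Agent.Helper19.NeronFormal
-- import your own Groth.Agent.* helpers here

set_option autoImplicit false
universe u
open CategoryTheory AlgebraicGeometry
open NeronHD

namespace Groth.Agent.S13421

open Groth.Agent.Helper19.NeronFormal Limits


theorem smooth_of_comp_etale {X Y Z : Scheme.{u}} (s : X ⟶ Y) (f : Y ⟶ Z) [Etale f]
    (h : Smooth (s ≫ f)) : Smooth s := by
  have : MorphismProperty.IsMultiplicative @Smooth :=
    { id_mem := fun X => (inferInstance : Smooth (𝟙 X))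
      comp_mem := fun f g hf hg => MorphismProperty.comp_mem _ f g hf hg }
  have : MorphismProperty.HasOfPostcompProperty @Smooth @Etale := by
    rw [MorphismProperty.hasOfPostcompProperty_iff_le_diagonal]
    intro X Y f hf
    have : Etale f := hf
    have : Etale (pullback.diagonal f) := inferInstance
    exact (inferInstance : Smooth (pullback.diagonal f))
  exact MorphismProperty.of_postcomp (W := @Smooth) (W' := @Etale) s f ‹_› h

/-- Let T be a locally Noetherian scheme over a field of characteristic 0 and T₀ ⊆ T a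
scheme-theoretically dense open. Let f : S → T be étale and such that S, viewed as a T-scheme, has
the Néron mapping property for T₀ ⊆ T, and let g : N → S be smooth and such that N, viewed as an
S-scheme, has the Néron mapping property for f⁻¹(T₀) ⊆ S (restriction of morphisms from smooth
schemes over the base is bijective). Then N → T, the composite g ≫ f, has the Néron mapping property
for T₀ ⊆ T. (Case of schemes, with smooth test schemes, of a statement about algebraic spaces.) -/
theorem result {k : Type u} [Field k] [CharZero k] {T : Scheme.{u}} (τ : T ⟶ Spec (CommRingCat.of k)) [IsLocallyNoetherian T] (T₀ : T.Opens) (hT₀ : CInt.IsSchematicallyDense T₀)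
    {S N : Scheme.{u}} (f : S ⟶ T) [Etale f] (g : N ⟶ S) [Smooth g]
    (hS : ∀ Z : Over T, Smooth Z.hom → Function.Bijective (fun g : Z ⟶ Over.mk f => (Over.pullback T₀.ι).map g))
    (hN : ∀ Z : Over S, Smooth Z.hom → Function.Bijective (fun g : Z ⟶ Over.mk g => (Over.pullback (f ⁻¹ᵁ T₀).ι).map g)) :
    ∀ Z : Over T, Smooth Z.hom → Function.Bijective (fun g : Z ⟶ Over.mk (g ≫ f) => (Over.pullback T₀.ι).map g) := by
  intro Z hZ
  rw [bijective_iff]
  have hS' := (bijective_iff T₀.ι (Over.mk f) Z).mp (hS Z hZ)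
  intro h hh
  have hh' : h ≫ g ≫ f = pullback.fst Z.hom T₀.ι ≫ Z.hom := hh
  obtain ⟨s, ⟨hsa, hsb⟩, hus⟩ := hS' (h ≫ g) (by rw [Category.assoc]; exact hh')
  have hsa' : s ≫ f = Z.hom := hsa
  have hsm : Smooth s := smooth_of_comp_etale s f (hsa' ▸ hZ)
  -- the pullback square for `Z' = (Z, s)` over `S`
  have hcond : pullback.snd Z.hom T₀.ι ≫ T₀.ι = (pullback.fst Z.hom T₀.ι ≫ s) ≫ f := by
    rw [Category.assoc, hsa', pullback.condition]
  obtain ⟨q', hq'⟩ : ∃ q' : pullback Z.hom T₀.ι ⟶ ((f ⁻¹ᵁ T₀ : S.Opens) : Scheme.{u}),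
      q' ≫ (f ∣_ T₀) = pullback.snd Z.hom T₀.ι ∧ q' ≫ (f ⁻¹ᵁ T₀).ι = pullback.fst Z.hom T₀.ι ≫ s :=
    ⟨(isPullback_morphismRestrict f T₀).lift _ _ hcond,
      (isPullback_morphismRestrict f T₀).lift_fst _ _ hcond,
      (isPullback_morphismRestrict f T₀).lift_snd _ _ hcond⟩
  have hsq : IsPullback (pullback.fst Z.hom T₀.ι) q' s (f ⁻¹ᵁ T₀).ι := by
    refine (IsPullback.of_right ?_ hq'.2 (isPullback_morphismRestrict f T₀)).flip
    rw [hq'.1, hsa']
    exact (IsPullback.of_hasPullback Z.hom T₀.ι).flip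
  have hN' : NMP (Over.mk g) (Over.mk s) (pullback.fst Z.hom T₀.ι) :=
    (bijective_iff_of_isPullback (f ⁻¹ᵁ T₀).ι (Over.mk g) (Over.mk s) hsq).mp (hN (Over.mk s) hsm)
  obtain ⟨γ, ⟨hγa, hγb⟩, huγ⟩ := hN' h hsb.symm
  have hγa' : γ ≫ g = s := hγa
  refine ⟨γ, ⟨?_, hγb⟩, ?_⟩
  · show γ ≫ g ≫ f = Z.hom
    rw [← Category.assoc, hγa', hsa']
  · rintro γ' ⟨h1, h2⟩
    have h1' : γ' ≫ g ≫ f = Z.hom := h1
    have hs' : γ' ≫ g = s := hus (γ' ≫ g) ⟨by rw [Category.assoc]; exact h1', by
      rw [← Category.assoc, h2]⟩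
    exact huγ γ' ⟨hs', h2⟩

end Groth.Agent.S13421
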