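import Groth.Statements.S13422
import Groth.Agent.Lib27.Sch.ClosedInFibre
import Groth.Agent.Lib27.Sch.RelSchDense

set_option autoImplicit false
universe u
open CategoryTheory AlgebraicGeometry
open NeronHD

namespace Groth.Agent.S13422

/-- Let S be a locally Noetherian scheme over a field of characteristic 0, S₀ ⊆ S a scheme-theoretically
dense open, and N a smooth S-scheme with the weak Néron mapping property for S₀ ⊆ S: for every étale
S-scheme U, restriction to S₀ is a bijection from S-morphisms U → N onto S₀-morphisms U|S₀ → N|S₀.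
Then N has the uniqueness half of the Néron mapping property: for every smooth S-scheme Z,
restriction of S-morphisms Z → N to S₀ is injective. (Case of schemes of a statement about algebraic
spaces.) -/
theorem result {k : Type u} [Field k] [CharZero k] {S : Scheme.{u}} (σ : S ⟶ Spec (CommRingCat.of k)) [IsLocallyNoetherian S] (S₀ : S.Opens) (hS₀ : CInt.IsSchematicallyDense S₀)
    (N : Over S) [Smooth N.hom]
    (hN : ∀ U : Over S, Etale U.hom → Function.Bijective (fun g : U ⟶ N => (Over.pullback S₀.ι).map g))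
    (Z : Over S) [Smooth Z.hom] :
    Function.Injective (fun g : Z ⟶ N => (Over.pullback S₀.ι).map g) := by
  intro g₁ g₂ hg
  have hg' : (Over.pullback S₀.ι).map g₁ = (Over.pullback S₀.ι).map g₂ := hg
  -- Step 0: agreement on the preimage of `S₀`
  have h0 : Limits.pullback.fst Z.hom S₀.ι ≫ g₁.left = Limits.pullback.fst Z.hom S₀.ι ≫ g₂.left := by
    have e1 := congrArg (fun t => t.left ≫ Limits.pullback.fst N.hom S₀.ι) hg'
    simpa only [Over.pullback_map_left, Limits.pullback.lift_fst] using e1
  -- `S₀ ⟶ S` is scheme-theoretically dominant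
  have hdom : IsSchemeTheoreticallyDominant S₀.ι :=
    ⟨Groth.Agent.Lib27.RelSchDense.ker_ι_eq_bot_of_isSchematicallyDense S₀ hS₀⟩
  have hflat : Flat Z.hom := inferInstance
  have hpdom : IsSchemeTheoreticallyDominant (Limits.pullback.fst Z.hom S₀.ι) := inferInstance
  -- the equalizer
  let e : Limits.equalizer g₁.left g₂.left ⟶ Z.left := Limits.equalizer.ι g₁.left g₂.left
  let τ₀ : Limits.pullback Z.hom S₀.ι ⟶ Limits.equalizer g₁.left g₂.left :=
    Limits.equalizer.lift (Limits.pullback.fst Z.hom S₀.ι) h0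
  have hτ₀ : τ₀ ≫ e = Limits.pullback.fst Z.hom S₀.ι := Limits.equalizer.lift_ι _ _
  -- Step 2: `e` is an open immersion
  let W : Z.left.Opens := e.coborderRange
  let c : Limits.equalizer g₁.left g₂.left ⟶ W.toScheme := e.liftCoborder
  have hc : c ≫ W.ι = e := e.liftCoborder_ι
  have hcker : c.ker = ⊥ := by
    have hd : IsSchemeTheoreticallyDominant (Limits.pullback.snd (Limits.pullback.fst Z.hom S₀.ι) W.ι) :=
      inferInstance
    have hfac : (Limits.pullback.fst (Limits.pullback.fst Z.hom S₀.ι) W.ι ≫ τ₀) ≫ c =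
        Limits.pullback.snd (Limits.pullback.fst Z.hom S₀.ι) W.ι := by
      rw [← cancel_mono W.ι, Category.assoc, Category.assoc, hc, hτ₀, Limits.pullback.condition]
    rw [eq_bot_iff, ← hd.ker_eq_bot, ← hfac]
    exact Scheme.Hom.le_ker_comp _ _
  have hciso : IsIso c := IsClosedImmersion.isIso_iff_ker_eq_bot.mpr hcker
  have heopen : IsOpenImmersion e := by
    rw [← hc]; infer_instance
  -- Step 3: `e` is surjective
  have hsurj : Function.Surjective e := by
    by_contra hns
    rw [Function.Surjective] at hns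
    push Not at hns
    obtain ⟨c₀, hc₀⟩ := hns
    have hCcl : IsClosed (Set.range e)ᶜ := e.isOpenEmbedding.isOpen_range.isClosed_compl
    have hc₀' : c₀ ∈ (Set.range e)ᶜ := fun ⟨y, hy⟩ => hc₀ y hy
    obtain ⟨x, hxC, hx⟩ := Groth.Agent.Lib27.ClosedInFibre.exists_isClosedInFibre_mem Z.hom
      (Set.range e)ᶜ hCcl c₀ hc₀'
    obtain ⟨T, i, t, hi, het, hit⟩ :=
      Groth.Agent.Lib27.ClosedInFibre.exists_etale_slice_of_isClosedInFibre σ Z.hom x hx
    let U : Over S := Over.mk (i ≫ Z.hom)
    let h : U ⟶ Z := Over.homMk i rfl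
    have hU : Etale U.hom := het
    have heq : (fun g : U ⟶ N => (Over.pullback S₀.ι).map g) (h ≫ g₁) =
        (fun g : U ⟶ N => (Over.pullback S₀.ι).map g) (h ≫ g₂) := by
      simp only [Functor.map_comp, hg']
    have h12 : h ≫ g₁ = h ≫ g₂ := (hN U hU).1 heq
    have h12' : i ≫ g₁.left = i ≫ g₂.left := congrArg (fun t => t.left) h12
    apply hxC
    refine ⟨Limits.equalizer.lift i h12' t, ?_⟩
    change (Limits.equalizer.lift i h12' ≫ Limits.equalizer.ι g₁.left g₂.left) t = x
    rw [Limits.equalizer.lift_ι]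
    exact hit
  have hsurj' : Surjective e := ⟨hsurj⟩
  have hiso : IsIso e := (isIso_iff_isOpenImmersion_and_surjective e).mpr ⟨heopen, hsurj'⟩
  ext1
  rw [← cancel_epi e]
  exact Limits.equalizer.condition g₁.left g₂.left

end Groth.Agent.S13422
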