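import Groth.Statements.S13426
import Groth.Agent.Lib27.Sch.AlignedSep
import Groth.Agent.Lib27.Sch.RelSchDense
import Groth.Agent.S0346

set_option autoImplicit false
universe u
open CategoryTheory MonoidalCategory CartesianMonoidalCategory MonObj GrpObj AlgebraicGeometry
open GrpSch

namespace Groth.Agent.S13426

/-- Let S be a locally Noetherian scheme over a field of characteristic 0, S₀ ⊆ S a scheme-theoretically
dense open, and G a smooth S-scheme with the weak Néron mapping property for S₀ ⊆ S: for every étale
S-scheme U, restriction to S₀ is a bijection from S-morphisms U → G onto S₀-morphisms. Let H be a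
smooth group scheme over S together with a monomorphism H → G of S-schemes (the case in view: G a
group scheme and H a subgroup scheme), and assume that H is aligned, i.e. the scheme-theoretic image
of its unit section is étale over S, and that H ×_S S₀ → S₀ is separated. Then H → S is separated.
(Case of schemes of a statement about group algebraic spaces; only the injectivity of H → G on
morphisms is used of the subgroup condition.) -/
theorem result {k : Type u} [Field k] [CharZero k] {S : Scheme.{u}} (σ : S ⟶ Spec (CommRingCat.of k)) [IsLocallyNoetherian S] (S₀ : S.Opens) (hS₀ : CInt.IsSchematicallyDense S₀)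
    (G : Over S) [Smooth G.hom]
    (hG : ∀ U : Over S, Etale U.hom → Function.Bijective (fun g : U ⟶ G => (Over.pullback S₀.ι).map g))
    (H : Over S) [GrpObj H] [Smooth H.hom] (j : H ⟶ G) [Mono j.left]
    (hal : Etale (η[H].left.ker.subschemeι ≫ H.hom))
    (h0 : IsSeparated (Limits.pullback.snd H.hom S₀.ι)) :
    IsSeparated H.hom := by
  have hker : S₀.ι.ker = ⊥ :=
    Groth.Agent.Lib27.RelSchDense.ker_ι_eq_bot_of_isSchematicallyDense S₀ hS₀
  have hGinj : ∀ U : Over S, Etale U.hom →
      Function.Injective (fun g : U ⟶ G => (Over.pullback S₀.ι).map g) :=
    fun U hU => (hG U hU).1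
  have hu : η[H].left ≫ H.hom = 𝟙 S := Over.w η[H]
  have hcl : IsClosedImmersion η[H].left :=
    Groth.Agent.Lib27.AlignedSep.isClosedImmersion_section_of_aligned S₀ hker G hGinj H.hom j.left
      (Over.w j) η[H].left hu hal h0
  exact ((Groth.Agent.S0346.result S H).1).mpr hcl

end Groth.Agent.S13426
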