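import Groth.Statements.S13427
import Groth.Agent.Helper19.NeronFormal
-- import your own Groth.Agent.* helpers here

set_option autoImplicit false
universe u
open CategoryTheory AlgebraicGeometry
open NeronHD

namespace Groth.Agent.S13427

open Groth.Agent.Helper19.NeronFormal Limits

/-- Let S be a locally Noetherian scheme over a field of characteristic 0, S₀ ⊆ S a scheme-theoretically
dense open, and G, H smooth S-schemes with the Néron mapping property for S₀ ⊆ S (restriction to S₀
of S-morphisms from smooth S-schemes is bijective). Let f : G → H be an S-morphism and e : S → H a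
section of H → S, and let K = G ×_H S be the fibre of f over e (the case in view: f a homomorphism
of smooth group schemes, e the unit, K the kernel, so that 1 → K → G → H is left exact). If K → S is
smooth, then K has the Néron mapping property for S₀ ⊆ S. (Case of schemes, with smooth test
schemes, of a statement about group algebraic spaces.) -/
theorem result {k : Type u} [Field k] [CharZero k] {S : Scheme.{u}} (σ : S ⟶ Spec (CommRingCat.of k)) [IsLocallyNoetherian S] (S₀ : S.Opens) (hS₀ : CInt.IsSchematicallyDense S₀)
    (G H : Over S) [Smooth G.hom] [Smooth H.hom]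
    (hG : ∀ Z : Over S, Smooth Z.hom → Function.Bijective (fun g : Z ⟶ G => (Over.pullback S₀.ι).map g))
    (hH : ∀ Z : Over S, Smooth Z.hom → Function.Bijective (fun g : Z ⟶ H => (Over.pullback S₀.ι).map g))
    (f : G ⟶ H) (e : S ⟶ H.left) (he : e ≫ H.hom = 𝟙 S)
    [Smooth (Limits.pullback.snd f.left e)] :
    ∀ Z : Over S, Smooth Z.hom → Function.Bijective (fun g : Z ⟶ Over.mk (Limits.pullback.snd f.left e) => (Over.pullback S₀.ι).map g) := by
  intro Z hZ
  rw [bijective_iff]
  have hG' := (bijective_iff S₀.ι G Z).mp (hG Z hZ)
  have hH' := (bijective_iff S₀.ι H Z).mp (hH Z hZ)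
  have hfw : f.left ≫ H.hom = G.hom := Over.w f
  intro h hh
  have hh' : h ≫ pullback.snd f.left e = pullback.fst Z.hom S₀.ι ≫ Z.hom := hh
  obtain ⟨gG, ⟨hgGa, hgGb⟩, huG⟩ := hG' (h ≫ pullback.fst f.left e) (by
    rw [Category.assoc, ← hfw, ← Category.assoc (pullback.fst f.left e), pullback.condition,
      Category.assoc, he, Category.comp_id]
    exact hh')
  -- the two maps `Z ⟶ H` agree
  have hcomp : gG ≫ f.left = Z.hom ≫ e := by
    obtain ⟨g₀, -, hu⟩ := hH' (pullback.fst Z.hom S₀.ι ≫ Z.hom ≫ e) (by
      rw [Category.assoc, Category.assoc, he, Category.comp_id])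
    rw [hu (gG ≫ f.left) ⟨by rw [Category.assoc, hfw, hgGa], by
        rw [← Category.assoc, hgGb, Category.assoc, pullback.condition, ← Category.assoc, hh',
          Category.assoc]⟩,
      hu (Z.hom ≫ e) ⟨by rw [Category.assoc, he, Category.comp_id], rfl⟩]
  refine ⟨pullback.lift gG Z.hom hcomp, ⟨?_, ?_⟩, ?_⟩
  · show _ ≫ pullback.snd f.left e = Z.hom
    rw [pullback.lift_snd]
  · apply pullback.hom_ext
    · rw [Category.assoc, pullback.lift_fst, hgGb]
    · rw [Category.assoc, pullback.lift_snd, hh']
  · rintro g' ⟨h1, h2⟩
    have h1' : g' ≫ pullback.snd f.left e = Z.hom := h1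
    apply pullback.hom_ext
    · rw [pullback.lift_fst]
      refine huG _ ⟨?_, by rw [← Category.assoc, h2]⟩
      rw [Category.assoc, ← hfw, ← Category.assoc (pullback.fst f.left e), pullback.condition,
        Category.assoc, he, Category.comp_id]
      exact h1'
    · rw [pullback.lift_snd]; exact h1'

end Groth.Agent.S13427
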