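import Groth.Statements.S13430
-- import your own Groth.Agent.* helpers here

set_option autoImplicit false
universe u
open CategoryTheory MonoidalCategory CartesianMonoidalCategory MonObj GrpObj AlgebraicGeometry
open NeronHD

namespace Groth.Agent.S13430

section helpers
open CategoryTheory.Limits

variable {C : Type*} [Category C] [CartesianMonoidalCategory C] {D : Type*} [Category D]

/-- a functor preserving binary products sends the projections to a jointly monic pair -/
theorem map_hom_ext (P : C ⥤ D) (X Y : C) [PreservesLimit (pair X Y) P] {T : D}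
    (f g : T ⟶ P.obj (X ⊗ Y)) (h1 : f ≫ P.map (fst X Y) = g ≫ P.map (fst X Y))
    (h2 : f ≫ P.map (snd X Y) = g ≫ P.map (snd X Y)) : f = g := by
  have hl := isLimitOfPreserves P (tensorProductIsBinaryProduct X Y)
  apply hl.hom_ext
  rintro ⟨_ | _⟩
  · exact h1
  · exact h2

theorem isIso_translation (P : C ⥤ D) (G N : C) [PreservesLimit (pair G N) P] (act : G ⊗ N ⟶ N)
    (hGinj : ∀ f g : G ⊗ N ⟶ G, P.map f = P.map g → f = g)
    (hNinj1 : ∀ f g : G ⊗ N ⟶ N, P.map f = P.map g → f = g)
    (hNinj2 : ∀ f g : N ⊗ N ⟶ N, P.map f = P.map g → f = g)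
    (hsurj : ∀ φ : P.obj (N ⊗ N) ⟶ P.obj G, ∃ d : N ⊗ N ⟶ G, P.map d = φ)
    (h0 : IsIso (P.map (lift act (snd G N)))) : IsIso (lift act (snd G N)) := by
  obtain ⟨τ, hτ⟩ : ∃ τ, τ = lift act (snd G N) := ⟨_, rfl⟩
  rw [← hτ] at h0 ⊢
  obtain ⟨d, hd⟩ := hsurj (inv (P.map τ) ≫ P.map (fst G N))
  have hτsnd : τ ≫ snd N N = snd G N := by rw [hτ]; simp
  have hinv : P.map (lift d (snd N N)) = inv (P.map τ) := by
    apply map_hom_ext P G N
    · rw [← P.map_comp, lift_fst, hd]
    · rw [← P.map_comp, lift_snd, IsIso.eq_inv_comp, ← P.map_comp, hτsnd]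
  refine ⟨⟨lift d (snd N N), ?_, ?_⟩⟩
  · apply CartesianMonoidalCategory.hom_ext
    · apply hGinj
      simp only [Functor.map_comp, Category.id_comp, Category.assoc, hinv,
        IsIso.hom_inv_id_assoc]
    · apply hNinj1
      simp only [Functor.map_comp, Category.id_comp, Category.assoc, hinv,
        IsIso.hom_inv_id_assoc]
  · apply CartesianMonoidalCategory.hom_ext
    · apply hNinj2
      simp only [Functor.map_comp, Category.id_comp, Category.assoc, hinv,
        IsIso.inv_hom_id_assoc]
    · apply hNinj2
      simp only [Functor.map_comp, Category.id_comp, Category.assoc, hinv,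
        IsIso.inv_hom_id_assoc]

end helpers

/-- The implication ⇐: let S be a locally Noetherian scheme over a field of characteristic 0 and S₀ ⊆ S
a scheme-theoretically dense open. Let G be a smooth group scheme over S and N a smooth S-scheme,
both with the Néron mapping property for S₀ ⊆ S (restriction to S₀ of S-morphisms from smooth
S-schemes is bijective), and let a be an action of G on N over S whose translation map G ×_S N → N
×_S N, (g, x) ↦ (g·x, x), restricts to an isomorphism over S₀, so that N|S₀ is a pseudo-torsor under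
G|S₀ and a is the unique extension of that action. If N → S is surjective, then the translation map
is an isomorphism: N is a pseudo-torsor under G over all of S (and then a torsor for the étale
topology, N → S being smooth and surjective). (Case of schemes of a statement about group algebraic
spaces; the converse 'torsor ⇒ surjective' presumes local triviality.) -/
theorem result {k : Type u} [Field k] [CharZero k] {S : Scheme.{u}} (σ : S ⟶ Spec (CommRingCat.of k)) [IsLocallyNoetherian S] (S₀ : S.Opens) (hS₀ : CInt.IsSchematicallyDense S₀)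
    (G : Over S) [GrpObj G] [Smooth G.hom]
    (hG : ∀ Z : Over S, Smooth Z.hom → Function.Bijective (fun g : Z ⟶ G => (Over.pullback S₀.ι).map g))
    (N : Over S) [Smooth N.hom] [Surjective N.hom]
    (hN : ∀ Z : Over S, Smooth Z.hom → Function.Bijective (fun g : Z ⟶ N => (Over.pullback S₀.ι).map g))
    (a : AlgGrp.Action G N)
    (h0 : IsIso ((Over.pullback S₀.ι).map (lift a.act (snd G N)))) :
    NonAbH1.IsPseudoTorsorSch a := by
  have hsmGN : Smooth (G ⊗ N).hom := by
    rw [Over.tensorObj_hom]; infer_instance
  have hsmNN : Smooth (N ⊗ N).hom := by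
    rw [Over.tensorObj_hom]; infer_instance
  exact isIso_translation (Over.pullback S₀.ι) G N a.act
    (fun f g h => (hG _ hsmGN).1 h) (fun f g h => (hN _ hsmGN).1 h)
    (fun f g h => (hN _ hsmNN).1 h) (fun φ => (hG _ hsmNN).2 φ) h0

end Groth.Agent.S13430
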