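import Groth.Statements.S13431
import Mathlib.AlgebraicGeometry.Sites.Fpqc
-- import your own Groth.Agent.* helpers here

set_option autoImplicit false
universe u
open CategoryTheory MonoidalCategory CartesianMonoidalCategory MonObj GrpObj AlgebraicGeometry
open NeronHD

namespace Groth.Agent.S13431

section helpers
open CategoryTheory.Limits

section abstract

variable {C : Type*} [Category C] [CartesianMonoidalCategory C] {D : Type*} [Category D]
  [CartesianMonoidalCategory D]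

/-- a functor preserving binary products sends the projections to a jointly monic pair -/
theorem map_hom_ext (P : C ⥤ D) (X Y : C) [PreservesLimit (pair X Y) P] {T : D}
    (f g : T ⟶ P.obj (X ⊗ Y)) (h1 : f ≫ P.map (fst X Y) = g ≫ P.map (fst X Y))
    (h2 : f ≫ P.map (snd X Y) = g ≫ P.map (snd X Y)) : f = g := by
  have hl := isLimitOfPreserves P (tensorProductIsBinaryProduct X Y)
  apply hl.hom_ext
  rintro ⟨_ | _⟩
  · exact h1
  · exact h2

/-- pairing into the image of a product -/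
noncomputable def mapLift (P : C ⥤ D) (X Y : C) [PreservesLimit (pair X Y) P] {T : D}
    (a : T ⟶ P.obj X) (b : T ⟶ P.obj Y) : T ⟶ P.obj (X ⊗ Y) :=
  lift a b ≫ inv (prodComparison P X Y)

theorem mapLift_fst (P : C ⥤ D) (X Y : C) [PreservesLimit (pair X Y) P] {T : D}
    (a : T ⟶ P.obj X) (b : T ⟶ P.obj Y) : mapLift P X Y a b ≫ P.map (fst X Y) = a := by
  rw [mapLift, Category.assoc, CartesianMonoidalCategory.inv_prodComparison_map_fst, lift_fst]

theorem mapLift_snd (P : C ⥤ D) (X Y : C) [PreservesLimit (pair X Y) P] {T : D}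
    (a : T ⟶ P.obj X) (b : T ⟶ P.obj Y) : mapLift P X Y a b ≫ P.map (snd X Y) = b := by
  rw [mapLift, Category.assoc, CartesianMonoidalCategory.inv_prodComparison_map_snd, lift_snd]

variable (P : C ⥤ D) {G N : C} [GrpObj G]

theorem unit_act (act : G ⊗ N ⟶ N) (one_act : (η[G] ▷ N) ≫ act = (λ_ N).hom)
    {Z : C} (g : Z ⟶ N) : lift (toUnit Z ≫ η[G]) g ≫ act = g := by
  have : lift (toUnit Z ≫ η[G]) g = lift (toUnit Z) g ≫ (η[G] ▷ N) := by simp
  rw [this, Category.assoc, one_act]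
  simp

theorem inv_τ_snd (act : G ⊗ N ⟶ N) [hτ : IsIso (lift act (snd G N))] :
    inv (lift act (snd G N)) ≫ snd G N = snd N N := by
  rw [IsIso.inv_comp_eq, lift_snd]

/-- Lemma A: injectivity for `G` gives injectivity for `N`. -/
theorem inj_N_of_inj_G (act : G ⊗ N ⟶ N) (one_act : (η[G] ▷ N) ≫ act = (λ_ N).hom)
    [hτ : IsIso (lift act (snd G N))] [PreservesLimit (pair N N) P] (Z : C)
    (hG : ∀ f g : Z ⟶ G, P.map f = P.map g → f = g) (f g : Z ⟶ N) (h : P.map f = P.map g) :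
    f = g := by
  have h1 : P.map (lift f g) = P.map (lift g g) := by
    apply map_hom_ext P N N
    · rw [← P.map_comp, ← P.map_comp, lift_fst, lift_fst, h]
    · rw [← P.map_comp, ← P.map_comp, lift_snd, lift_snd]
  have h2 : lift g g ≫ inv (lift act (snd G N)) = lift (toUnit Z ≫ η[G]) g := by
    rw [IsIso.comp_inv_eq]
    apply CartesianMonoidalCategory.hom_ext
    · rw [Category.assoc, lift_fst, lift_fst, unit_act act one_act]
    · rw [Category.assoc, lift_snd, lift_snd, lift_snd]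
  have h3 : lift f g ≫ inv (lift act (snd G N)) ≫ fst G N = toUnit Z ≫ η[G] := by
    apply hG
    rw [P.map_comp, h1, ← P.map_comp, ← Category.assoc, h2, lift_fst]
  have h4 : lift f g ≫ inv (lift act (snd G N)) = lift (toUnit Z ≫ η[G]) g := by
    apply CartesianMonoidalCategory.hom_ext
    · rw [Category.assoc, h3, lift_fst]
    · rw [Category.assoc, inv_τ_snd act, lift_snd, lift_snd]
  rw [IsIso.comp_inv_eq] at h4
  have h5 := congrArg (fun t => t ≫ fst N N) h4
  simp only [lift_fst, Category.assoc] at h5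
  rw [h5, unit_act act one_act]

/-- Lemma B: injectivity for `N` gives injectivity for `G`. -/
theorem inj_G_of_inj_N (act : G ⊗ N ⟶ N)
    [hτ : IsIso (lift act (snd G N))] [PreservesLimit (pair G N) P] (Z : C) [Epi (fst Z N)]
    (hN : ∀ f g : Z ⊗ N ⟶ N, P.map f = P.map g → f = g) (f g : Z ⟶ G) (h : P.map f = P.map g) :
    f = g := by
  have h1 : P.map (f ▷ N) = P.map (g ▷ N) := by
    apply map_hom_ext P G N
    · rw [← P.map_comp, ← P.map_comp, whiskerRight_fst, whiskerRight_fst, P.map_comp, P.map_comp, h]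
    · rw [← P.map_comp, ← P.map_comp, whiskerRight_snd, whiskerRight_snd]
  have h2 : (f ▷ N) ≫ act = (g ▷ N) ≫ act := by
    apply hN
    rw [P.map_comp, P.map_comp, h1]
  have h3 : (f ▷ N) ≫ lift act (snd G N) = (g ▷ N) ≫ lift act (snd G N) := by
    apply CartesianMonoidalCategory.hom_ext
    · rw [Category.assoc, Category.assoc, lift_fst, h2]
    · rw [Category.assoc, Category.assoc, lift_snd, whiskerRight_snd, whiskerRight_snd]
  have h4 : f ▷ N = g ▷ N := (cancel_mono _).mp h3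
  have h5 := congrArg (fun t => t ≫ fst G N) h4
  simp only [whiskerRight_fst] at h5
  exact (cancel_epi _).mp h5

/-- Lemma C: extension for `G` gives extension on `Z ⊗ N` for `N`. -/
theorem ext_N_of_ext_G (act : G ⊗ N ⟶ N)
    [hτ : IsIso (lift act (snd G N))] [PreservesLimit (pair N N) P] [PreservesLimit (pair G N) P] (Z : C)
    (hG : ∀ φ : P.obj (Z ⊗ N) ⟶ P.obj G, ∃ d : Z ⊗ N ⟶ G, P.map d = φ)
    (φ₀ : P.obj Z ⟶ P.obj N) :
    ∃ Φ : Z ⊗ N ⟶ N, P.map Φ = P.map (fst Z N) ≫ φ₀ := by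
  obtain ⟨ℓ, hℓ⟩ : ∃ ℓ, ℓ = mapLift P N N (P.map (fst Z N) ≫ φ₀) (P.map (snd Z N)) := ⟨_, rfl⟩
  have hℓ1 : ℓ ≫ P.map (fst N N) = P.map (fst Z N) ≫ φ₀ := by rw [hℓ, mapLift_fst]
  have hℓ2 : ℓ ≫ P.map (snd N N) = P.map (snd Z N) := by rw [hℓ, mapLift_snd]
  obtain ⟨d, hd⟩ := hG (ℓ ≫ P.map (inv (lift act (snd G N)) ≫ fst G N))
  refine ⟨lift d (snd Z N) ≫ act, ?_⟩
  have h1 : P.map (lift d (snd Z N)) = ℓ ≫ P.map (inv (lift act (snd G N))) := by
    apply map_hom_ext P G N
    · rw [← P.map_comp, lift_fst, hd, Category.assoc, ← P.map_comp]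
    · rw [← P.map_comp, lift_snd, Category.assoc, ← P.map_comp, inv_τ_snd act, hℓ2]
  rw [P.map_comp, h1, Category.assoc, ← P.map_comp, ← hℓ1]
  congr 2
  rw [IsIso.inv_comp_eq, lift_fst]

/-- Lemma D: extension for `N` gives extension on `Z ⊗ N` for `G`. -/
theorem ext_G_of_ext_N (act : G ⊗ N ⟶ N)
    [hτ : IsIso (lift act (snd G N))] [PreservesLimit (pair N N) P] [PreservesLimit (pair G N) P] (Z : C)
    (hN : ∀ φ : P.obj (Z ⊗ N) ⟶ P.obj N, ∃ d : Z ⊗ N ⟶ N, P.map d = φ)
    (φ₀ : P.obj Z ⟶ P.obj G) :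
    ∃ Φ : Z ⊗ N ⟶ G, P.map Φ = P.map (fst Z N) ≫ φ₀ := by
  obtain ⟨ℓ, hℓ⟩ : ∃ ℓ, ℓ = mapLift P G N (P.map (fst Z N) ≫ φ₀) (P.map (snd Z N)) := ⟨_, rfl⟩
  have hℓ1 : ℓ ≫ P.map (fst G N) = P.map (fst Z N) ≫ φ₀ := by rw [hℓ, mapLift_fst]
  have hℓ2 : ℓ ≫ P.map (snd G N) = P.map (snd Z N) := by rw [hℓ, mapLift_snd]
  obtain ⟨Ψ, hΨ⟩ := hN (ℓ ≫ P.map act)
  refine ⟨lift Ψ (snd Z N) ≫ inv (lift act (snd G N)) ≫ fst G N, ?_⟩
  have h1 : P.map (lift Ψ (snd Z N)) = ℓ ≫ P.map (lift act (snd G N)) := by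
    apply map_hom_ext P N N
    · rw [← P.map_comp, lift_fst, hΨ, Category.assoc, ← P.map_comp, lift_fst]
    · rw [← P.map_comp, lift_snd, Category.assoc, ← P.map_comp, lift_snd, hℓ2]
  rw [P.map_comp, h1, Category.assoc, ← P.map_comp, IsIso.hom_inv_id_assoc, hℓ1]

end abstract

section scheme

theorem epi_fst {S : Scheme.{u}} (X Y : Over S) [Smooth Y.hom] [Surjective Y.hom] :
    Epi (fst X Y) := by
  have : Epi ((Over.forget S).map (fst X Y)) := by
    change Epi (fst X Y).left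
    rw [Over.fst_left]
    infer_instance
  exact (Over.forget S).epi_of_epi_map this

theorem smooth_tensor {S : Scheme.{u}} (X Y : Over S) [Smooth X.hom] [Smooth Y.hom] :
    Smooth (X ⊗ Y).hom := by
  rw [Over.tensorObj_hom]; infer_instance

theorem epi_map_fst {S : Scheme.{u}} (S₀ : S.Opens) (X Y : Over S) [Smooth Y.hom]
    [Surjective Y.hom] : Epi ((Over.pullback S₀.ι).map (fst X Y)) := by
  rw [← CartesianMonoidalCategory.prodComparison_fst]
  haveI : Smooth ((Over.pullback S₀.ι).obj Y).hom := by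
    change Smooth (Limits.pullback.snd Y.hom S₀.ι); infer_instance
  haveI : Surjective ((Over.pullback S₀.ι).obj Y).hom := by
    change Surjective (Limits.pullback.snd Y.hom S₀.ι); infer_instance
  haveI := epi_fst ((Over.pullback S₀.ι).obj X) ((Over.pullback S₀.ι).obj Y)
  exact epi_comp _ _

/-- Lemma E: descent along the smooth surjective projection `Z ⊗ N ⟶ Z`. -/
theorem descend {S : Scheme.{u}} (S₀ : S.Opens) (T Z N : Over S) [Smooth Z.hom] [Smooth N.hom]
    [Surjective N.hom]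
    (hT : ∀ W : Over S, Smooth W.hom → ∀ f g : W ⟶ T,
      (Over.pullback S₀.ι).map f = (Over.pullback S₀.ι).map g → f = g)
    (Φ : Z ⊗ N ⟶ T) (φ₀ : (Over.pullback S₀.ι).obj Z ⟶ (Over.pullback S₀.ι).obj T)
    (hΦ : (Over.pullback S₀.ι).map Φ = (Over.pullback S₀.ι).map (fst Z N) ≫ φ₀) :
    ∃ ψ : Z ⟶ T, (Over.pullback S₀.ι).map ψ = φ₀ := by
  obtain ⟨π, hπ⟩ : ∃ π, π = (fst Z N).left := ⟨_, rfl⟩
  have hπ' : π = Limits.pullback.fst Z.hom N.hom := hπ
  haveI : Smooth π := by rw [hπ']; infer_instance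
  haveI : Surjective π := by rw [hπ']; infer_instance
  haveI : EffectiveEpi π := inferInstance
  have hπZ : π ≫ Z.hom = (Z ⊗ N).hom := by rw [hπ]; exact Over.w (fst Z N)
  haveI := smooth_tensor Z N
  -- the kernel pair
  have hW : Smooth (Limits.pullback.fst π π ≫ (Z ⊗ N).hom) := inferInstance
  obtain ⟨q₁, hq₁⟩ : ∃ q₁ : Over.mk (Limits.pullback.fst π π ≫ (Z ⊗ N).hom) ⟶ Z ⊗ N,
      q₁ = Over.homMk (Limits.pullback.fst π π) rfl := ⟨_, rfl⟩
  obtain ⟨q₂, hq₂⟩ : ∃ q₂ : Over.mk (Limits.pullback.fst π π ≫ (Z ⊗ N).hom) ⟶ Z ⊗ N,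
      q₂ = Over.homMk (Limits.pullback.snd π π) (by
        change Limits.pullback.snd π π ≫ (Z ⊗ N).hom = Limits.pullback.fst π π ≫ (Z ⊗ N).hom
        rw [← hπZ, ← Category.assoc, ← Category.assoc, Limits.pullback.condition]) := ⟨_, rfl⟩
  have hq : q₁ ≫ fst Z N = q₂ ≫ fst Z N := by
    apply Over.OverMorphism.ext
    rw [hq₁, hq₂]
    change Limits.pullback.fst π π ≫ (fst Z N).left = Limits.pullback.snd π π ≫ (fst Z N).left
    rw [← hπ, Limits.pullback.condition]
  have h12 : q₁ ≫ Φ = q₂ ≫ Φ := by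
    apply hT _ hW
    rw [Functor.map_comp, Functor.map_comp, hΦ, ← Category.assoc, ← Functor.map_comp, hq,
      Functor.map_comp, Category.assoc]
  have h12' : Limits.pullback.fst π π ≫ Φ.left = Limits.pullback.snd π π ≫ Φ.left := by
    have := congrArg (fun t => t.left) h12
    rw [hq₁, hq₂] at this
    exact this
  have hdesc : ∀ {W : Scheme.{u}} (g₁ g₂ : W ⟶ (Z ⊗ N).left), g₁ ≫ π = g₂ ≫ π →
      g₁ ≫ Φ.left = g₂ ≫ Φ.left := by
    intro W g₁ g₂ h
    have e1 : g₁ = Limits.pullback.lift g₁ g₂ h ≫ Limits.pullback.fst π π :=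
      (Limits.pullback.lift_fst g₁ g₂ h).symm
    have e2 : g₂ = Limits.pullback.lift g₁ g₂ h ≫ Limits.pullback.snd π π :=
      (Limits.pullback.lift_snd g₁ g₂ h).symm
    rw [e1, Category.assoc, h12', ← Category.assoc, ← e2]
  obtain ⟨ψ₀, hψ₀⟩ : ∃ ψ₀ : Z.left ⟶ T.left, π ≫ ψ₀ = Φ.left :=
    ⟨EffectiveEpi.desc π Φ.left hdesc, EffectiveEpi.fac π Φ.left hdesc⟩
  have hover : ψ₀ ≫ T.hom = Z.hom := by
    rw [← cancel_epi π, ← Category.assoc, hψ₀, Over.w Φ, hπZ]
  have hψ : fst Z N ≫ Over.homMk ψ₀ hover = Φ := by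
    apply Over.OverMorphism.ext
    change (fst Z N).left ≫ ψ₀ = Φ.left
    rw [← hπ, hψ₀]
  refine ⟨Over.homMk ψ₀ hover, ?_⟩
  haveI := epi_map_fst S₀ Z N
  rw [← cancel_epi ((Over.pullback S₀.ι).map (fst Z N)), ← Functor.map_comp, hψ, hΦ]

end scheme

end helpers

/-- Let S be a locally Noetherian scheme over a field of characteristic 0 and S₀ ⊆ S a
scheme-theoretically dense open. Let G be a smooth group scheme over S and N a smooth S-scheme with
N → S surjective, equipped with an action of G making N a pseudo-torsor: the translation map G ×_S N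
→ N ×_S N, (g, x) ↦ (g·x, x), is an isomorphism. Then G has the Néron mapping property for S₀ ⊆ S
(restriction to S₀ of S-morphisms from smooth S-schemes is bijective) if and only if N has it. (The
published statement says 'G-torsor' with torsor defined as an action whose translation map is an
isomorphism; for N empty that holds and N has the mapping property while G need not, so surjectivity
of N → S — which gives étale-local sections — is assumed here, as the published proof uses. Case of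
schemes of a statement about algebraic spaces.) -/
theorem result {k : Type u} [Field k] [CharZero k] {S : Scheme.{u}} (σ : S ⟶ Spec (CommRingCat.of k)) [IsLocallyNoetherian S] (S₀ : S.Opens) (hS₀ : CInt.IsSchematicallyDense S₀)
    (G : Over S) [GrpObj G] [Smooth G.hom]
    (N : Over S) [Smooth N.hom] [Surjective N.hom]
    (a : AlgGrp.Action G N) (ha : NonAbH1.IsPseudoTorsorSch a) :
    (∀ Z : Over S, Smooth Z.hom → Function.Bijective (fun g : Z ⟶ G => (Over.pullback S₀.ι).map g)) ↔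
    (∀ Z : Over S, Smooth Z.hom → Function.Bijective (fun g : Z ⟶ N => (Over.pullback S₀.ι).map g)) := by
  haveI hτ : IsIso (lift a.act (snd G N)) := ha
  constructor
  · intro hG
    have hinj : ∀ W : Over S, Smooth W.hom → ∀ f g : W ⟶ N,
        (Over.pullback S₀.ι).map f = (Over.pullback S₀.ι).map g → f = g := by
      intro W hW f g h
      exact inj_N_of_inj_G (Over.pullback S₀.ι) a.act a.one_act W (fun f g h => (hG W hW).1 h) f g h
    intro Z hZ
    refine ⟨fun f g h => hinj Z hZ f g h, fun φ₀ => ?_⟩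
    haveI := hZ
    haveI := smooth_tensor Z N
    obtain ⟨Φ, hΦ⟩ := ext_N_of_ext_G (Over.pullback S₀.ι) a.act Z
      (fun φ => (hG (Z ⊗ N) inferInstance).2 φ) φ₀
    exact descend S₀ N Z N hinj Φ φ₀ hΦ
  · intro hN
    have hinj : ∀ W : Over S, Smooth W.hom → ∀ f g : W ⟶ G,
        (Over.pullback S₀.ι).map f = (Over.pullback S₀.ι).map g → f = g := by
      intro W hW f g h
      haveI := hW
      haveI := smooth_tensor W N
      haveI := epi_fst W N
      exact inj_G_of_inj_N (Over.pullback S₀.ι) a.act W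
        (fun f g h => (hN (W ⊗ N) inferInstance).1 h) f g h
    intro Z hZ
    refine ⟨fun f g h => hinj Z hZ f g h, fun φ₀ => ?_⟩
    haveI := hZ
    haveI := smooth_tensor Z N
    obtain ⟨Φ, hΦ⟩ := ext_G_of_ext_N (Over.pullback S₀.ι) a.act Z
      (fun φ => (hN (Z ⊗ N) inferInstance).2 φ) φ₀
    exact descend S₀ G Z N hinj Φ φ₀ hΦ

end Groth.Agent.S13431
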