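import Groth.Statements.S1344
import Mathlib
import Groth.Agent.Lib.Helper6.CMChart4
import Groth.Agent.Lib.Helper14.FlatRelDim
import Groth.Agent.Lib.Helper6.EtaleSq
-- import your own Groth.Agent.* helpers here

set_option autoImplicit false
universe u
open FlatMor

namespace Groth.Agent.S1344

open AlgebraicGeometry CategoryTheory Limits in
/-- Let f be locally of finite type between locally Noetherian schemes and Cohen–Macaulay at every
point. Then for every point x of the source with image y, the local dimension of the source at x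
equals the local dimension of the target at y plus the local dimension at x of the fibre over y. -/
theorem result {X Y : Scheme.{u}} (f : X ⟶ Y) [IsLocallyNoetherian X] [IsLocallyNoetherian Y] [LocallyOfFiniteType f]
    (hf : ∀ x : X, MoreMor.IsCMAt f x) (x : X) :
    FlatMor.localDim ↑X x = FlatMor.localDim ↑Y (f x) + FlatMor.fibreDimAt f x := by
  haveI : LocallyOfFinitePresentation f :=
    AlgebraicGeometry.LocallyOfFinitePresentation.iff_locallyOfFiniteType.mpr inferInstance
  obtain ⟨d, hd⟩ := Groth.Agent.Lib.Helper6.CMChart.exists_nat_fibreDimAt f x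
  obtain ⟨W, hxW, hW⟩ :=
    Groth.Agent.Lib.Helper6.CMChart.exists_open_fibreDimAt_eq_of_isCMAt f x (hf x)
  haveI : Flat (W.ι ≫ f) := by
    rw [AlgebraicGeometry.Flat.iff_flat_stalkMap]
    intro w
    rw [AlgebraicGeometry.Scheme.Hom.stalkMap_comp]
    exact RingHom.Flat.comp (hf (W.ι w)).1
      (Groth.Agent.Lib.Helper6.CMChart.flat_stalkMap_of_isOpenImmersion W.ι w)
  have h1 := Groth.Agent.Lib.Helper14.AS.localDim_eq_add_of_flat_of_forall_fibreDimAt (W.ι ≫ f) d
    (fun u => by
      rw [Groth.Agent.Lib.Helper21.EquidimAt.fibreDimAt_ι_comp f W u, hW u.1 u.2, hd])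
    ⟨x, hxW⟩
  have h2 := Groth.Agent.Lib.Helper6.EtaleSq.localDim_eq_of_etale W.ι ⟨x, hxW⟩
  rw [hd]
  have h3 : FlatMor.localDim ↥X x = FlatMor.localDim ↥(W : Scheme.{u}) ⟨x, hxW⟩ := h2.symm
  rw [h3]
  exact h1

end Groth.Agent.S1344
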