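import Groth.Statements.S13441
import Mathlib

set_option autoImplicit false
universe u
open W4c1hilbpn

namespace Groth.Agent.S13441

open MvPolynomial W4c1hilbpn
open MvPolynomial W4c1hilbpn

variable {k : Type u} [Field k]

theorem finite_of_injective (I : Ideal (MvPolynomial (Fin 3) k)) (hI : IsMonomial I)
    [Module.Finite k (MvPolynomial (Fin 3) k ⧸ I)] (φ : ℕ → (Fin 3 →₀ ℕ))
    (hφ : Function.Injective φ) : {c : ℕ | φ c ∉ exps I}.Finite := by
  classical
  have hli : LinearIndependent k
      (fun c : {c : ℕ // φ c ∉ exps I} => Ideal.Quotient.mk I (monomial (φ c.1) (1 : k))) := by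
    rw [linearIndependent_iff']
    intro s g hg c hc
    by_contra hne
    apply c.2
    have hmem : (∑ c' ∈ s, monomial (φ c'.1) (g c')) ∈ I := by
      rw [← Ideal.Quotient.eq_zero_iff_mem, map_sum, ← hg]
      refine Finset.sum_congr rfl fun c' _ => ?_
      have := map_smul (Ideal.Quotient.mkₐ k I) (g c') (monomial (φ c'.1) 1)
      rw [smul_monomial, smul_eq_mul, mul_one] at this
      exact this
    apply hI _ hmem
    rw [mem_support_iff, coeff_sum, Finset.sum_eq_single_of_mem c hc]
    · rw [coeff_monomial, if_pos rfl]
      exact hne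
    · intro c' _ hne'
      rw [coeff_monomial, if_neg]
      intro h
      exact hne' (Subtype.ext (hφ h))
  have := hli.finite
  exact Set.finite_coe_iff.mp this

theorem e3_0 (a b c : ℕ) : e3 a b c 0 = a := rfl
theorem e3_1 (a b c : ℕ) : e3 a b c 1 = b := rfl
theorem e3_2 (a b c : ℕ) : e3 a b c 2 = c := rfl

theorem e3_injective_c (a b : ℕ) : Function.Injective (fun c => e3 a b c) := by
  intro c c' h
  have := DFunLike.congr_fun h 2
  simpa [e3_2] using this

theorem e3_injective_b (a c : ℕ) : Function.Injective (fun b => e3 a b c) := by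
  intro b b' h
  have := DFunLike.congr_fun h 1
  simpa [e3_1] using this


open W4c1hilbpn in
/-- Let k be an infinite field, S = k[x,y,z] with variables ordered x > y > z, and I a strongly stable
ideal of finite colength, with staircase numbers b^z_{i,j} = the number of c with x^i y^j z^c
outside I and b^y_{i,j} = the number of b with x^i y^b z^j outside I. Then b^z_{i+1,j} ≤ b^z_{i,j+1}
and b^y_{i+1,j} ≤ b^y_{i,j+1} for all i and j (equivalently the maximum of the two neighbouring
staircase numbers is the second one). -/
theorem result (k : Type u) [Field k] [Infinite k]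
    (I : Ideal (MvPolynomial (Fin 3) k)) (hI : IsStronglyStable I) [Module.Finite k (MvPolynomial (Fin 3) k ⧸ I)] (i j : ℕ) :
    stairZ I (i + 1) j ≤ stairZ I i (j + 1) ∧ stairY I (i + 1) j ≤ stairY I i (j + 1) := by
  constructor
  · unfold stairZ
    refine Nat.card_mono (finite_of_injective I hI.1 _ (e3_injective_c i (j + 1))) ?_
    intro c hc hmem
    apply hc
    have := hI.2 _ hmem 0 1 (by decide) (by simp [e3_1, e3_2])
    convert this using 1
    ext t
    have h3 : t = 0 ∨ t = 1 ∨ t = 2 := by fin_cases t <;> simp
    rcases h3 with rfl | rfl | rfl <;>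
    simp [Finsupp.add_apply, Finsupp.tsub_apply, e3_0, e3_1, e3_2, Finsupp.single_apply]
  · unfold stairY
    refine Nat.card_mono (finite_of_injective I hI.1 _ (e3_injective_b i (j + 1))) ?_
    intro b hb hmem
    apply hb
    have := hI.2 _ hmem 0 2 (by decide) (by simp [e3_1, e3_2])
    convert this using 1
    ext t
    have h3 : t = 0 ∨ t = 1 ∨ t = 2 := by fin_cases t <;> simp
    rcases h3 with rfl | rfl | rfl <;>
    simp [Finsupp.add_apply, Finsupp.tsub_apply, e3_0, e3_1, e3_2, Finsupp.single_apply]

end Groth.Agent.S13441
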