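import Groth.Statements.S13453
import Mathlib

set_option autoImplicit false
universe u
open W4c1hilbpn

namespace Groth.Agent.S13453
open MvPolynomial

section Aux
variable {k : Type u} [Field k]

noncomputable def iota (a : ℕ) (β : Fin 2 →₀ ℕ) : Fin 3 →₀ ℕ :=
  Finsupp.single 0 a + β.mapDomain Fin.succ

lemma iota_zero (a : ℕ) (β : Fin 2 →₀ ℕ) : iota a β 0 = a := by
  have : (β.mapDomain Fin.succ) (0 : Fin 3) = 0 := by
    apply Finsupp.mapDomain_notin_range
    rintro ⟨x, hx⟩
    exact Fin.succ_ne_zero x hx
  simp [iota, this]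

lemma iota_succ (a : ℕ) (β : Fin 2 →₀ ℕ) (l : Fin 2) : iota a β l.succ = β l := by
  have : (β.mapDomain Fin.succ) (l.succ : Fin 3) = β l :=
    Finsupp.mapDomain_apply (Fin.succ_injective _) _ _
  have h2 : (Finsupp.single (0 : Fin 3) a) l.succ = 0 := by
    rw [Finsupp.single_apply, if_neg]
    exact (Fin.succ_ne_zero l).symm
  simp [iota, this, h2]

lemma mem_sliceX (I : Ideal (MvPolynomial (Fin 3) k)) (a : ℕ) (f : MvPolynomial (Fin 2) k) :
    f ∈ sliceX I a ↔ X 0 ^ a * rename Fin.succ f ∈ I := by
  unfold sliceX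
  rw [Ideal.mem_comap, Submodule.mem_colon_singleton]
  simp [mul_comm]

lemma X_pow_mul_rename_monomial (a : ℕ) (β : Fin 2 →₀ ℕ) (c : k) :
    (X 0 ^ a * rename Fin.succ (monomial β c) : MvPolynomial (Fin 3) k) = monomial (iota a β) c := by
  rw [rename_monomial, X_pow_eq_monomial, monomial_mul, one_mul]
  rfl

lemma mem_sliceX_iff (I : Ideal (MvPolynomial (Fin 3) k)) (hI : IsMonomial I) (a : ℕ)
    (f : MvPolynomial (Fin 2) k) :
    f ∈ sliceX I a ↔ ∀ β ∈ f.support, monomial (iota a β) (1 : k) ∈ I := by
  rw [mem_sliceX]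
  constructor
  · intro h β hβ
    apply hI _ h
    rw [mem_support_iff, X_pow_eq_monomial]
    have := coeff_monomial_mul (β.mapDomain Fin.succ) (Finsupp.single (0 : Fin 3) a) (1 : k)
      (rename Fin.succ f)
    rw [coeff_rename_mapDomain _ (Fin.succ_injective _)] at this
    unfold iota
    rw [this, one_mul]
    exact mem_support_iff.mp hβ
  · intro h
    rw [← support_sum_monomial_coeff f, map_sum, Finset.mul_sum]
    apply Ideal.sum_mem
    intro β hβ
    rw [X_pow_mul_rename_monomial]
    have : (monomial (iota a β) (coeff β f) : MvPolynomial (Fin 3) k)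
        = C (coeff β f) * monomial (iota a β) 1 := by
      rw [C_mul_monomial, mul_one]
    rw [this]
    exact Ideal.mul_mem_left _ _ (h β hβ)

end Aux

open W4c1hilbpn in
/-- Let k be an infinite field, S = k[x,y,z] with variables ordered x > y > z, and I a strongly stable
ideal of finite colength; write I_i for the ideal of polynomials f in k[y,z] with x^i f in I (so I
is the direct sum of the x^i I_i). Then each I_i is a strongly stable ideal of k[y,z] (with y > z)
and the ideal quotient (I_i : y) is contained in I_{i+1}. -/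
theorem result (k : Type u) [Field k] [Infinite k]
    (I : Ideal (MvPolynomial (Fin 3) k)) (hI : IsStronglyStable I) [Module.Finite k (MvPolynomial (Fin 3) k ⧸ I)] (i : ℕ) :
    IsStronglyStable (sliceX I i) ∧
      (sliceX I i).colon {(MvPolynomial.X 0 : MvPolynomial (Fin 2) k)} ≤ sliceX I (i + 1) := by
  classical
  have hmon : ∀ a, IsMonomial (sliceX I a) := by
    intro a p hp β hβ
    rw [mem_sliceX_iff I hI.1] at hp ⊢
    intro γ hγ
    rw [support_monomial, if_neg one_ne_zero, Finset.mem_singleton] at hγ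
    subst hγ
    exact hp _ hβ
  have hexp : ∀ a (β : Fin 2 →₀ ℕ), β ∈ exps (sliceX I a) ↔ iota a β ∈ exps I := by
    intro a β
    unfold exps
    simp only [Set.mem_ofPred_eq]
    rw [mem_sliceX, X_pow_mul_rename_monomial]
  refine ⟨⟨hmon i, ?_⟩, ?_⟩
  · intro β hβ p q hpq hq
    rw [hexp] at hβ ⊢
    have := hI.2 _ hβ p.succ q.succ (Fin.succ_lt_succ_iff.mpr hpq) (by rwa [iota_succ])
    convert this using 1
    ext l
    refine Fin.cases ?_ (fun l => ?_) l
    · simp [iota_zero, Finsupp.single_apply, Fin.succ_ne_zero]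
    · simp only [iota_succ, Finsupp.coe_add, Finsupp.coe_tsub, Pi.add_apply, Pi.sub_apply,
        Finsupp.single_apply, Fin.succ_inj]
  · intro f hf
    rw [Submodule.mem_colon_singleton] at hf
    rw [mem_sliceX_iff I hI.1] at hf ⊢
    intro β hβ
    have h1 := hf (β + Finsupp.single 0 1) (by
      rw [smul_eq_mul, mul_comm, support_X_mul]
      simp only [Finset.mem_map, addLeftEmbedding_apply]
      exact ⟨β, hβ, by rw [add_comm]⟩)
    have := hI.2 _ h1 0 1 (by decide) (by
      rw [show (1 : Fin 3) = Fin.succ 0 from rfl, iota_succ]; simp)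
    have e : iota (i + 1) β = iota i (β + Finsupp.single 0 1) - Finsupp.single 1 1
        + Finsupp.single 0 1 := ?_
    · rw [e]; exact this
    ext l
    refine Fin.cases ?_ (fun l => ?_) l
    · simp [iota_zero, Finsupp.single_apply]
    · rw [iota_succ]
      simp only [Finsupp.coe_add, Finsupp.coe_tsub, Pi.add_apply, Pi.sub_apply, iota_succ]
      fin_cases l
      · simp [Finsupp.single_apply]
      · simp

end Groth.Agent.S13453
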