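import Groth.Statements.S13455
import Mathlib

set_option autoImplicit false
universe u
open W4c1hilbpn

namespace Groth.Agent.S13455
section Aux
open MvPolynomial

lemma two_single_le {σ : Type*} [DecidableEq σ] (m : σ →₀ ℕ) (p q : σ)
    (h : (p = q ∧ 2 ≤ m p) ∨ (p ≠ q ∧ 1 ≤ m p ∧ 1 ≤ m q)) :
    Finsupp.single p 1 + Finsupp.single q 1 ≤ m := by
  intro i
  simp only [Finsupp.add_apply, Finsupp.single_apply]
  rcases h with ⟨rfl, h2⟩ | ⟨hne, h1, h2⟩
  · split_ifs with h1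
    · subst h1; omega
    · omega
  · split_ifs with h3 h4 h4
    · exact absurd (h3.trans h4.symm) hne
    · subst h3; omega
    · subst h4; omega
    · omega

lemma monomial_mem_of_le {σ R : Type*} [CommRing R] (I : Ideal (MvPolynomial σ R))
    (s m : σ →₀ ℕ) (c : R) (hs : monomial s (1 : R) ∈ I) (hle : s ≤ m) :
    monomial m c ∈ I := by
  have : monomial m c = monomial (m - s) c * monomial s (1 : R) := by
    rw [monomial_mul, mul_one, tsub_add_cancel_of_le hle]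
  rw [this]
  exact Ideal.mul_mem_left _ _ hs

end Aux

open MvPolynomial

/-- Let k be an algebraically closed field of characteristic different from 2, k0 ≥ 1 and n ≥ 2k0 - 1
natural numbers, S = k[x_0, ..., x_n], and e1 ≤ e2 ≤ k0 - 1. The ideal generated by all products x_p
x_q with e1 ≤ p, q ≤ e2 together with the products x_p x_{n-k0+1+q} for e1 ≤ p < q ≤ e2 is the
intersection, over j from e1 to e2, of the ideals generated by the variables x_i with e1 ≤ i ≤ e2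
and i ≠ j, the square x_j^2, and the variables x_{n-k0+1+q} for j < q ≤ e2 (a primary decomposition
of this monomial ideal). -/
theorem result (k : Type u) [Field k] [IsAlgClosed k] (hchar : ringChar k ≠ 2)
    (n k0 e1 e2 : ℕ) (hk : 1 ≤ k0) (hn : 2 * k0 ≤ n + 1) (he : e1 ≤ e2) (he2 : e2 + 1 ≤ k0) :
    Ideal.span ({f : MvPolynomial (Fin (n + 1)) k | ∃ p q : Fin (n + 1), e1 ≤ p.val ∧ p.val ≤ e2 ∧ e1 ≤ q.val ∧ q.val ≤ e2 ∧
        f = MvPolynomial.X p * MvPolynomial.X q} ∪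
      {f : MvPolynomial (Fin (n + 1)) k | ∃ p q m : Fin (n + 1), e1 ≤ p.val ∧ p.val < q.val ∧ q.val ≤ e2 ∧
        m.val + k0 = n + 1 + q.val ∧ f = MvPolynomial.X p * MvPolynomial.X m}) =
    ⨅ j : Fin (n + 1), ⨅ (_ : e1 ≤ j.val ∧ j.val ≤ e2),
      Ideal.span ({f : MvPolynomial (Fin (n + 1)) k | ∃ i : Fin (n + 1), e1 ≤ i.val ∧ i.val ≤ e2 ∧ i ≠ j ∧ f = MvPolynomial.X i} ∪
        {MvPolynomial.X j ^ 2} ∪
        {f : MvPolynomial (Fin (n + 1)) k | ∃ q m : Fin (n + 1), j.val < q.val ∧ q.val ≤ e2 ∧ m.val + k0 = n + 1 + q.val ∧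
          f = MvPolynomial.X m}) := by
  classical
  apply le_antisymm
  · -- generators of I lie in each J_j
    rw [Ideal.span_le]
    rintro f hf
    simp only [SetLike.mem_coe, Submodule.mem_iInf]
    intro j hj
    rcases hf with ⟨p, q, hp1, hp2, hq1, hq2, rfl⟩ | ⟨p, q, m, hp1, hpq, hq2, hm, rfl⟩
    · by_cases hpj : p = j
      · by_cases hqj : q = j
        · rw [hpj, hqj, ← pow_two]
          exact Ideal.subset_span (Or.inl (Or.inr rfl))
        · exact Ideal.mul_mem_left _ _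
            (Ideal.subset_span (Or.inl (Or.inl ⟨q, hq1, hq2, hqj, rfl⟩)))
      · exact Ideal.mul_mem_right _ _
          (Ideal.subset_span (Or.inl (Or.inl ⟨p, hp1, hp2, hpj, rfl⟩)))
    · by_cases hpj : p = j
      · refine Ideal.mul_mem_left _ _ (Ideal.subset_span (Or.inr ⟨q, m, ?_, hq2, hm, rfl⟩))
        rw [← hpj]; exact hpq
      · exact Ideal.mul_mem_right _ _
          (Ideal.subset_span (Or.inl (Or.inl ⟨p, hp1, by omega, hpj, rfl⟩)))
  · intro f hf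
    simp only [Submodule.mem_iInf] at hf
    rw [← MvPolynomial.support_sum_monomial_coeff f]
    apply Ideal.sum_mem
    intro m hm
    -- information from each j
    have H : ∀ j : Fin (n + 1), e1 ≤ j.val → j.val ≤ e2 →
        (∃ i : Fin (n + 1), e1 ≤ i.val ∧ i.val ≤ e2 ∧ i ≠ j ∧ 1 ≤ m i) ∨ 2 ≤ m j ∨
        (∃ q mm : Fin (n + 1), j.val < q.val ∧ q.val ≤ e2 ∧ mm.val + k0 = n + 1 + q.val ∧
          1 ≤ m mm) := by
      intro j hj1 hj2
      have hfj := hf j ⟨hj1, hj2⟩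
      have hset : ({f : MvPolynomial (Fin (n + 1)) k | ∃ i : Fin (n + 1), e1 ≤ i.val ∧ i.val ≤ e2 ∧ i ≠ j ∧ f = MvPolynomial.X i} ∪
        {MvPolynomial.X j ^ 2} ∪
        {f : MvPolynomial (Fin (n + 1)) k | ∃ q m : Fin (n + 1), j.val < q.val ∧ q.val ≤ e2 ∧ m.val + k0 = n + 1 + q.val ∧
          f = MvPolynomial.X m}) = (fun s => monomial s (1 : k)) ''
          ({s | ∃ i : Fin (n + 1), e1 ≤ i.val ∧ i.val ≤ e2 ∧ i ≠ j ∧ s = Finsupp.single i 1} ∪
            {Finsupp.single j 2} ∪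
            {s | ∃ q mm : Fin (n + 1), j.val < q.val ∧ q.val ≤ e2 ∧ mm.val + k0 = n + 1 + q.val ∧
              s = Finsupp.single mm 1}) := by
        ext g
        constructor
        · rintro ((⟨i, h1, h2, h3, rfl⟩ | hg) | ⟨q, mm, h1, h2, h3, rfl⟩)
          · exact ⟨Finsupp.single i 1, Or.inl (Or.inl ⟨i, h1, h2, h3, rfl⟩), rfl⟩
          · rw [Set.mem_singleton_iff] at hg
            rw [hg]
            exact ⟨Finsupp.single j 2, Or.inl (Or.inr rfl), (X_pow_eq_monomial).symm⟩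
          · exact ⟨Finsupp.single mm 1, Or.inr ⟨q, mm, h1, h2, h3, rfl⟩, rfl⟩
        · rintro ⟨s, ((⟨i, h1, h2, h3, rfl⟩ | hs) | ⟨q, mm, h1, h2, h3, rfl⟩), rfl⟩
          · exact Or.inl (Or.inl ⟨i, h1, h2, h3, rfl⟩)
          · rw [Set.mem_singleton_iff] at hs
            rw [hs]
            exact Or.inl (Or.inr (X_pow_eq_monomial).symm)
          · exact Or.inr ⟨q, mm, h1, h2, h3, rfl⟩
      rw [hset, mem_ideal_span_monomial_image] at hfj
      obtain ⟨s, hs, hsm⟩ := hfj m hm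
      rcases hs with (⟨i, h1, h2, h3, rfl⟩ | hs) | ⟨q, mm, h1, h2, h3, rfl⟩
      · exact Or.inl ⟨i, h1, h2, h3, Finsupp.single_le_iff.1 hsm⟩
      · rw [Set.mem_singleton_iff] at hs
        rw [hs] at hsm
        exact Or.inr (Or.inl (Finsupp.single_le_iff.1 hsm))
      · exact Or.inr (Or.inr ⟨q, mm, h1, h2, h3, Finsupp.single_le_iff.1 hsm⟩)
    -- generators as monomials
    have gen1 : ∀ p q : Fin (n + 1), e1 ≤ p.val → p.val ≤ e2 → e1 ≤ q.val → q.val ≤ e2 →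
        Finsupp.single p 1 + Finsupp.single q 1 ≤ m → monomial m (coeff m f) ∈
        Ideal.span ({f : MvPolynomial (Fin (n + 1)) k | ∃ p q : Fin (n + 1), e1 ≤ p.val ∧ p.val ≤ e2 ∧ e1 ≤ q.val ∧ q.val ≤ e2 ∧
        f = MvPolynomial.X p * MvPolynomial.X q} ∪
      {f : MvPolynomial (Fin (n + 1)) k | ∃ p q m : Fin (n + 1), e1 ≤ p.val ∧ p.val < q.val ∧ q.val ≤ e2 ∧
        m.val + k0 = n + 1 + q.val ∧ f = MvPolynomial.X p * MvPolynomial.X m}) := by
      intro p q h1 h2 h3 h4 hle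
      apply monomial_mem_of_le _ _ _ _ _ hle
      apply Ideal.subset_span
      refine Or.inl ⟨p, q, h1, h2, h3, h4, ?_⟩
      rw [X, X, monomial_mul, one_mul]
    have gen2 : ∀ p q mm : Fin (n + 1), e1 ≤ p.val → p.val < q.val → q.val ≤ e2 →
        mm.val + k0 = n + 1 + q.val →
        Finsupp.single p 1 + Finsupp.single mm 1 ≤ m → monomial m (coeff m f) ∈
        Ideal.span ({f : MvPolynomial (Fin (n + 1)) k | ∃ p q : Fin (n + 1), e1 ≤ p.val ∧ p.val ≤ e2 ∧ e1 ≤ q.val ∧ q.val ≤ e2 ∧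
        f = MvPolynomial.X p * MvPolynomial.X q} ∪
      {f : MvPolynomial (Fin (n + 1)) k | ∃ p q m : Fin (n + 1), e1 ≤ p.val ∧ p.val < q.val ∧ q.val ≤ e2 ∧
        m.val + k0 = n + 1 + q.val ∧ f = MvPolynomial.X p * MvPolynomial.X m}) := by
      intro p q mm h1 h2 h3 h4 hle
      apply monomial_mem_of_le _ _ _ _ _ hle
      apply Ideal.subset_span
      refine Or.inr ⟨p, q, mm, h1, h2, h3, h4, ?_⟩
      rw [X, X, monomial_mul, one_mul]
    by_cases hA : ∃ p : Fin (n + 1), e1 ≤ p.val ∧ p.val ≤ e2 ∧ 2 ≤ m p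
    · obtain ⟨p, h1, h2, h3⟩ := hA
      exact gen1 p p h1 h2 h1 h2 (two_single_le m p p (Or.inl ⟨rfl, h3⟩))
    by_cases hB : ∃ p q : Fin (n + 1), e1 ≤ p.val ∧ p.val ≤ e2 ∧ e1 ≤ q.val ∧ q.val ≤ e2 ∧ p ≠ q ∧
        1 ≤ m p ∧ 1 ≤ m q
    · obtain ⟨p, q, h1, h2, h3, h4, h5, h6, h7⟩ := hB
      exact gen1 p q h1 h2 h3 h4 (two_single_le m p q (Or.inr ⟨h5, h6, h7⟩))
    by_cases hC : ∃ p : Fin (n + 1), e1 ≤ p.val ∧ p.val ≤ e2 ∧ 1 ≤ m p
    · obtain ⟨p, h1, h2, h3⟩ := hC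
      rcases H p h1 h2 with ⟨i, hi1, hi2, hi3, hi4⟩ | h | ⟨q, mm, hq1, hq2, hq3, hq4⟩
      · exact absurd ⟨i, p, hi1, hi2, h1, h2, hi3, hi4, h3⟩ hB
      · exact absurd ⟨p, h1, h2, h⟩ hA
      · have hne : p ≠ mm := by
          intro heq
          have := congrArg Fin.val heq
          omega
        exact gen2 p q mm h1 hq1 hq2 hq3 (two_single_le m p mm (Or.inr ⟨hne, h3, hq4⟩))
    · have he2n : e2 < n + 1 := by omega
      rcases H ⟨e2, he2n⟩ he (le_refl _) with ⟨i, hi1, hi2, hi3, hi4⟩ | h | ⟨q, mm, hq1, hq2, hq3, hq4⟩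
      · exact absurd ⟨i, hi1, hi2, hi4⟩ hC
      · exact absurd ⟨⟨e2, he2n⟩, he, le_refl _, by omega⟩ hC
      · simp only at hq1
        omega

end Groth.Agent.S13455
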