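import Groth.Statements.S13460
import Mathlib

set_option autoImplicit false
universe u
open CategoryTheory CategoryTheory.Limits AlgebraicGeometry TopologicalSpace
open WDiv

namespace Groth.Agent.S13460



theorem ord_eq_one_of_span {R S : Type*} [CommRing R] [CommRing S]
    [Algebra R S] (P : Ideal R) [P.IsPrime] [IsLocalization.AtPrime S P] (π : R)
    (hπ : P = Ideal.span {π}) : Ring.ord S (algebraMap R S π) = 1 := by
  rw [Ring.ord, Module.length_eq_one_iff]
  haveI : IsLocalRing S := IsLocalization.AtPrime.isLocalRing S P
  have h1 : Ideal.span {algebraMap R S π} = IsLocalRing.maximalIdeal S := by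
    rw [← IsLocalization.AtPrime.map_eq_maximalIdeal P S, hπ, Ideal.map_span, Set.image_singleton]
  have : (Ideal.span {algebraMap R S π}).IsMaximal := by
    rw [h1]; infer_instance
  rw [isSimpleModule_iff_isSimpleModule_of_algebraMap_surjective
    (S := S ⧸ Ideal.span {algebraMap R S π}) Ideal.Quotient.mk_surjective]
  let := Ideal.Quotient.field (Ideal.span {algebraMap R S π})
  exact instIsSimpleModule _

section
variable (A : Type u) [CommRing A] [IsDomain A] [IsNoetherianRing A]

/-- the canonical map to the function field -/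
noncomputable def toFF : A →+* (Spec (CommRingCat.of A)).functionField :=
  (StructureSheaf.toStalk A (genericPoint (Spec (CommRingCat.of A)))).hom

theorem toFF_eq_stalk (y : ↥(Spec (CommRingCat.of A))) (a : A) :
    toFF A a =
      algebraMap ((Spec (CommRingCat.of A)).presheaf.stalk y)
        (Spec (CommRingCat.of A)).functionField (StructureSheaf.toStalk A y a) := by
  have h := StructureSheaf.toStalk_stalkSpecializes (R := A)
    ((genericPoint_spec (Spec (CommRingCat.of A))).specializes (Set.mem_univ y))
  have h2 := congrArg (fun t => t.hom a) h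
  exact h2.symm

theorem toStalk_ne_zero (y : ↥(Spec (CommRingCat.of A))) (a : A) (ha : a ≠ 0) :
    StructureSheaf.toStalk A y a ≠ 0 := by
  intro h
  have h1 : toFF A a = 0 := by
    rw [toFF_eq_stalk A y a]
    exact (congrArg (algebraMap ((Spec (CommRingCat.of A)).presheaf.stalk y)
        (Spec (CommRingCat.of A)).functionField) h).trans
      (map_zero (algebraMap ((Spec (CommRingCat.of A)).presheaf.stalk y)
        (Spec (CommRingCat.of A)).functionField))
  -- toFF injective
  have hinj : Function.Injective (toFF A) := by
    have := IsLocalization.injective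
      (M := (genericPoint (Spec (CommRingCat.of A)) : PrimeSpectrum A).asIdeal.primeCompl)
      ((Spec.structureSheaf A).presheaf.stalk (genericPoint (Spec (CommRingCat.of A)) : PrimeSpectrum A))
      (Ideal.primeCompl_le_nonZeroDivisors _)
    exact this
  exact ha (hinj (h1.trans (map_zero (toFF A)).symm))

theorem ordHom_of_not_mem (y : ↥(Spec (CommRingCat.of A))) (hy : Order.coheight y = 1) (a : A)
    (ha : a ∉ (y : PrimeSpectrum A).asIdeal) :
    (Spec (CommRingCat.of A)).ordHom y hy (toFF A a) = 1 := by
  have : Ring.KrullDimLE 1 ((Spec (CommRingCat.of A)).presheaf.stalk y) :=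
    krullDimLE_of_coheight_le hy.le
  rw [toFF_eq_stalk A y a]
  have hu : IsUnit (StructureSheaf.toStalk A y a) :=
    IsLocalization.map_units ((Spec.structureSheaf A).presheaf.stalk (y : PrimeSpectrum A))
      (⟨a, ha⟩ : (y : PrimeSpectrum A).asIdeal.primeCompl)
  exact Ring.ordFrac_of_isUnit hu

theorem ordHom_of_span (y : ↥(Spec (CommRingCat.of A))) (hy : Order.coheight y = 1) (a : A)
    (ha : (y : PrimeSpectrum A).asIdeal = Ideal.span {a}) (ha0 : a ≠ 0) :
    (Spec (CommRingCat.of A)).ordHom y hy (toFF A a) = Multiplicative.ofAdd (1 : ℤ) := by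
  have : Ring.KrullDimLE 1 ((Spec (CommRingCat.of A)).presheaf.stalk y) :=
    krullDimLE_of_coheight_le hy.le
  rw [toFF_eq_stalk A y a]
  have hne := toStalk_ne_zero A y a ha0
  have h1 : Ring.ord ((Spec (CommRingCat.of A)).presheaf.stalk y) (StructureSheaf.toStalk A y a) =
      ((1 : ℕ) : ℕ∞) :=
    ord_eq_one_of_span (S := (Spec.structureSheaf A).presheaf.stalk (y : PrimeSpectrum A))
      (y : PrimeSpectrum A).asIdeal a ha
  have h2 := Ring.ordMonoidWithZeroHom_eq_coe ((Spec (CommRingCat.of A)).presheaf.stalk y)
    (mem_nonZeroDivisors_of_ne_zero hne) h1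
  have hne' : ((StructureSheaf.toStalk A y).hom a : (Spec (CommRingCat.of A)).presheaf.stalk y) ≠ 0 :=
    hne
  have h3 := Ring.ordFrac_eq_ord ((Spec (CommRingCat.of A)).presheaf.stalk y)
    (K := (Spec (CommRingCat.of A)).functionField)
    (x := ((StructureSheaf.toStalk A y).hom a : (Spec (CommRingCat.of A)).presheaf.stalk y)) hne'
  exact h3.trans h2

end

/-- Let A be a Noetherian integral domain which is a unique factorization domain, and X = Spec A. Then
the divisor class group of X vanishes: every Weil divisor D on X, an integer-valued function on the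
points of X with finite support inside the points of coheight 1 (codimension one), is the divisor of
a nonzero rational function f on X, i.e. the order of vanishing of f at every point x of coheight 1
is D(x). (The published statement assumes only that A is a unique factorization domain; this row
also assumes A Noetherian.) -/
theorem result (A : Type u) [CommRing A] [IsDomain A] [IsNoetherianRing A]
    [UniqueFactorizationMonoid A]
    (D : ↥(Spec (CommRingCat.of A)) → ℤ) (hD : ∀ x, Order.coheight x ≠ 1 → D x = 0) (hfin : {x | D x ≠ 0}.Finite) :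
    ∃ f : ↑(Spec (CommRingCat.of A)).functionField, f ≠ 0 ∧
      ∀ x : ↥(Spec (CommRingCat.of A)), Order.coheight x = 1 → Scheme.ord f x = D x := by

  classical
  have hprin : ∀ x : ↥(Spec (CommRingCat.of A)), Order.coheight x = 1 →
      ∃ π : A, Prime π ∧ (x : PrimeSpectrum A).asIdeal = Ideal.span {π} := by
    intro x hx
    have hh : (x : PrimeSpectrum A).asIdeal.height = 1 := by
      rw [idealHeight_eq_coheight (CommRingCat.of A) x, hx]
    have hpn : (x : PrimeSpectrum A).asIdeal ≠ ⊥ := Ideal.ne_bot_of_height_eq_one hh
    obtain ⟨π, hπmem, hπp⟩ :=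
      Ideal.IsPrime.exists_mem_prime_of_ne_bot (x : PrimeSpectrum A).isPrime hpn
    exact ⟨π, hπp, Ideal.eq_span_singleton_of_height_eq_one hh hπmem hπp⟩
  choose! π hπ using hprin
  have hinj : Function.Injective (toFF A) := by
    have := IsLocalization.injective
      (M := (genericPoint (Spec (CommRingCat.of A)) : PrimeSpectrum A).asIdeal.primeCompl)
      ((Spec.structureSheaf A).presheaf.stalk (genericPoint (Spec (CommRingCat.of A)) : PrimeSpectrum A))
      (Ideal.primeCompl_le_nonZeroDivisors _)
    exact this
  have hS1 : ∀ x ∈ hfin.toFinset, Order.coheight x = 1 := by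
    intro x hx
    by_contra h
    exact (hfin.mem_toFinset.mp hx) (hD x h)
  have hne : ∀ x ∈ hfin.toFinset, toFF A (π x) ≠ 0 := by
    intro x hx h
    have := hinj (h.trans (map_zero (toFF A)).symm)
    exact (hπ x (hS1 x hx)).1.ne_zero this
  have hf : (∏ x ∈ hfin.toFinset, (toFF A (π x)) ^ (D x)) ≠ 0 :=
    Finset.prod_ne_zero_iff.mpr (fun x hx => zpow_ne_zero _ (hne x hx))
  refine ⟨∏ x ∈ hfin.toFinset, (toFF A (π x)) ^ (D x), hf, fun y hy => ?_⟩
  rw [Scheme.ord_eq_iff hy hf, map_prod]
  have hfac : ∀ x ∈ hfin.toFinset,
      (Spec (CommRingCat.of A)).ordHom y hy (toFF A (π x) ^ D x) =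
        if y = x then ((Multiplicative.ofAdd (D x) : Multiplicative ℤ) : WithZero (Multiplicative ℤ))
        else 1 := by
    intro x hx
    have hx1 := hS1 x hx
    rw [map_zpow₀]
    by_cases hxy : y = x
    · subst hxy
      rw [if_pos rfl, ordHom_of_span A y hy (π y) (hπ y hy).2 (hπ y hy).1.ne_zero]
      rw [← WithZero.coe_zpow, ← ofAdd_zsmul]
      simp
    · rw [if_neg hxy]
      have hnm : π x ∉ (y : PrimeSpectrum A).asIdeal := by
        intro hmem
        apply hxy
        have hle : (x : PrimeSpectrum A).asIdeal ≤ (y : PrimeSpectrum A).asIdeal := by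
          rw [(hπ x hx1).2, Ideal.span_singleton_le_iff_mem]
          exact hmem
        have hhx : (x : PrimeSpectrum A).asIdeal.height = 1 := by
          rw [idealHeight_eq_coheight (CommRingCat.of A) x, hx1]
        have hhy : (y : PrimeSpectrum A).asIdeal.height = 1 := by
          rw [idealHeight_eq_coheight (CommRingCat.of A) y, hy]
        haveI : (x : PrimeSpectrum A).asIdeal.FiniteHeight := by
          rw [Ideal.finiteHeight_iff]
          right
          rw [hhx]; exact ENat.one_ne_top
        have := Ideal.eq_of_le_of_height_le (I := (x : PrimeSpectrum A).asIdeal)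
          (J := (y : PrimeSpectrum A).asIdeal) hle (by rw [hhx, hhy])
        exact (PrimeSpectrum.ext this).symm
      rw [ordHom_of_not_mem A y hy (π x) hnm, one_zpow]
  rw [Finset.prod_congr rfl hfac, Finset.prod_ite_eq]
  split_ifs with hyS
  · rfl
  · have : D y = 0 := by
      by_contra h
      exact hyS (hfin.mem_toFinset.mpr h)
    rw [this]
    rfl

end Groth.Agent.S13460
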