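import Groth.Statements.S1348
import Groth.Agent.Lib27.Flat.SliceCore
import Groth.Agent.Lib.Helper18.FlG

set_option autoImplicit false
universe u
open FlatMor

namespace Groth.Agent.S1348

open AlgebraicGeometry CategoryTheory Limits in
/-- Let f be locally of finite presentation and flat at a point x with image s, and let h be an element
of the maximal ideal of the local ring at x whose image in the local ring of the fibre (the local
ring at x modulo the ideal generated by the maximal ideal at s) is a nonzerodivisor. Then there is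
an affine open neighbourhood U of x and a nonzerodivisor of its coordinate ring with germ h at x (so
its zero locus is an effective Cartier divisor of U through x) whose zero scheme is flat and locally
of finite presentation over the base. -/
theorem result {X S : Scheme.{u}} (f : X ⟶ S) [LocallyOfFinitePresentation f] (x : X)
    (hflat : (f.stalkMap x).hom.Flat) (h : X.presheaf.stalk x) (hm : h ∈ IsLocalRing.maximalIdeal (X.presheaf.stalk x))
    (hreg : Ideal.Quotient.mk (Ideal.map (f.stalkMap x).hom (IsLocalRing.maximalIdeal (S.presheaf.stalk (f x)))) h ∈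
      nonZeroDivisors (X.presheaf.stalk x ⧸ Ideal.map (f.stalkMap x).hom (IsLocalRing.maximalIdeal (S.presheaf.stalk (f x))))) :
    ∃ (U : X.Opens) (hU : IsAffineOpen U) (hx : x ∈ U) (h' : Γ(X, U)), X.presheaf.germ U x hx h' = h ∧ h' ∈ nonZeroDivisors Γ(X, U) ∧
      Flat (Spec.map (CommRingCat.ofHom (Ideal.Quotient.mk (Ideal.span {h'}))) ≫ hU.fromSpec ≫ f) ∧
      LocallyOfFinitePresentation (Spec.map (CommRingCat.ofHom (Ideal.Quotient.mk (Ideal.span {h'}))) ≫ hU.fromSpec ≫ f) := by
  classical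
  obtain ⟨⟨W, hW⟩, hfxW⟩ : ∃ W : S.affineOpens, f x ∈ W.1 := by
    obtain ⟨_, ⟨W, hW : IsAffineOpen W, rfl⟩, hxW, -⟩ :=
      S.isBasis_affineOpens.exists_subset_of_mem_open (Set.mem_univ (f x)) isOpen_univ
    exact ⟨⟨W, hW⟩, hxW⟩
  obtain ⟨⟨V, hV⟩, hxV, hVW⟩ : ∃ V : X.affineOpens, x ∈ V.1 ∧ V.1 ≤ f ⁻¹ᵁ W := by
    obtain ⟨_, ⟨V, hV : IsAffineOpen V, rfl⟩, hxV, hVW⟩ :=
      X.isBasis_affineOpens.exists_subset_of_mem_open (show x ∈ (f ⁻¹ᵁ W : Set X) from hfxW)
        (f ⁻¹ᵁ W).isOpen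
    exact ⟨⟨V, hV⟩, hxV, hVW⟩
  have hfp : RingHom.FinitePresentation (f.appLE W V hVW).hom :=
    HasRingHomProperty.appLE (P := @LocallyOfFinitePresentation) f inferInstance ⟨W, hW⟩ ⟨V, hV⟩
      hVW
  algebraize [(f.appLE W V hVW).hom]
  letI algBL : Algebra Γ(X, V) (X.presheaf.stalk x) := X.presheaf.algebra_section_stalk ⟨x, hxV⟩
  haveI locL : IsLocalization.AtPrime (X.presheaf.stalk x) (hV.primeIdealOf ⟨x, hxV⟩).asIdeal :=
    hV.isLocalization_stalk ⟨x, hxV⟩
  letI algAL : Algebra Γ(S, W) (X.presheaf.stalk x) :=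
    ((algebraMap Γ(X, V) (X.presheaf.stalk x)).comp (algebraMap Γ(S, W) Γ(X, V))).toAlgebra
  haveI towerL : IsScalarTower Γ(S, W) Γ(X, V) (X.presheaf.stalk x) :=
    IsScalarTower.of_algebraMap_eq (fun _ => rfl)
  -- the comparison `stalkMap ∘ germ_W = germ_V ∘ appLE`
  have hcomp : (f.stalkMap x).hom.comp (S.presheaf.germ W (f x) hfxW).hom =
      algebraMap Γ(S, W) (X.presheaf.stalk x) := by
    ext a
    change f.stalkMap x (S.presheaf.germ W (f x) hfxW a) =
      X.presheaf.germ V x hxV (f.appLE W V hVW a)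
    rw [Scheme.Hom.germ_stalkMap_apply, Scheme.Hom.appLE, CommRingCat.comp_apply,
      X.presheaf.germ_res_apply]
  -- flatness of the stalk over `Γ(S, W)`
  haveI flatL : Module.Flat Γ(S, W) (X.presheaf.stalk x) := by
    have h1 : (S.presheaf.germ W (f x) hfxW).hom.Flat := by
      letI := S.presheaf.algebra_section_stalk ⟨f x, hfxW⟩
      haveI := hW.isLocalization_stalk ⟨f x, hfxW⟩
      exact RingHom.flat_algebraMap_iff.mpr
        (IsLocalization.flat (S.presheaf.stalk (f x))
          (hW.primeIdealOf ⟨f x, hfxW⟩).asIdeal.primeCompl)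
    have h2 := RingHom.Flat.comp h1 hflat
    rw [hcomp] at h2
    exact RingHom.flat_algebraMap_iff.mp h2
  -- identification of the ideal generated by the maximal ideal of the base point
  have hJ : Ideal.map (f.stalkMap x).hom (IsLocalRing.maximalIdeal (S.presheaf.stalk (f x))) =
      Ideal.map (algebraMap Γ(S, W) (X.presheaf.stalk x))
        ((hV.primeIdealOf ⟨x, hxV⟩).asIdeal.comap (algebraMap Γ(S, W) Γ(X, V))) := by
    letI := S.presheaf.algebra_section_stalk ⟨f x, hfxW⟩
    haveI := hW.isLocalization_stalk ⟨f x, hfxW⟩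
    have hmax := IsLocalization.AtPrime.map_eq_maximalIdeal
      (hW.primeIdealOf ⟨f x, hfxW⟩).asIdeal (S.presheaf.stalk (f x))
    have hp : (hW.primeIdealOf ⟨f x, hfxW⟩).asIdeal =
        (hV.primeIdealOf ⟨x, hxV⟩).asIdeal.comap (algebraMap Γ(S, W) Γ(X, V)) :=
      congr($(IsAffineOpen.comap_primeIdealOf_appLE W hW V hV hVW hxV).1).symm
    rw [← hmax, Ideal.map_map, ← hp]
    exact congrArg (fun φ => Ideal.map φ (hW.primeIdealOf ⟨f x, hfxW⟩).asIdeal) hcomp
  have hreg' : ∀ y : X.presheaf.stalk x,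
      h * y ∈ Ideal.map (algebraMap Γ(S, W) (X.presheaf.stalk x))
        ((hV.primeIdealOf ⟨x, hxV⟩).asIdeal.comap (algebraMap Γ(S, W) Γ(X, V))) →
      y ∈ Ideal.map (algebraMap Γ(S, W) (X.presheaf.stalk x))
        ((hV.primeIdealOf ⟨x, hxV⟩).asIdeal.comap (algebraMap Γ(S, W) Γ(X, V))) := by
    intro y hy
    rw [← hJ] at hy ⊢
    rw [mem_nonZeroDivisors_iff_right] at hreg
    have h0 := hreg (Ideal.Quotient.mk _ y) (by
      rw [← map_mul, Ideal.Quotient.eq_zero_iff_mem, mul_comm]
      exact hy)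
    exact Ideal.Quotient.eq_zero_iff_mem.mp h0
  obtain ⟨g, hg, hslice⟩ := Groth.Agent.Lib27.Slice.exists_slice
    (hV.primeIdealOf ⟨x, hxV⟩).asIdeal (X.presheaf.stalk x) h hreg'
  have hxU : x ∈ X.basicOpen g := by
    rw [Scheme.mem_basicOpen X g x hxV]
    exact IsLocalization.map_units (X.presheaf.stalk x)
      (⟨g, hg⟩ : (hV.primeIdealOf ⟨x, hxV⟩).asIdeal.primeCompl)
  have hU : IsAffineOpen (X.basicOpen g) := hV.basicOpen g
  haveI locU : IsLocalization.Away g Γ(X, X.basicOpen g) := hV.isLocalization_basicOpen g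
  letI algAU : Algebra Γ(S, W) Γ(X, X.basicOpen g) :=
    ((algebraMap Γ(X, V) Γ(X, X.basicOpen g)).comp (algebraMap Γ(S, W) Γ(X, V))).toAlgebra
  haveI towerU : IsScalarTower Γ(S, W) Γ(X, V) Γ(X, X.basicOpen g) :=
    IsScalarTower.of_algebraMap_eq (fun _ => rfl)
  have hψ : (X.presheaf.germ (X.basicOpen g) x hxU).hom.comp
      (algebraMap Γ(X, V) Γ(X, X.basicOpen g)) = algebraMap Γ(X, V) (X.presheaf.stalk x) := by
    ext a
    change X.presheaf.germ (X.basicOpen g) x hxU
      (X.presheaf.map (homOfLE (X.basicOpen_le g)).op a) = X.presheaf.germ V x hxV a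
    rw [X.presheaf.germ_res_apply]
  obtain ⟨h', hh', hnzd, hflat'⟩ := hslice Γ(X, X.basicOpen g)
    (X.presheaf.germ (X.basicOpen g) x hxU).hom hψ
  refine ⟨X.basicOpen g, hU, hxU, h', hh', hnzd, ?_, ?_⟩
  · have hUW : X.basicOpen g ≤ f ⁻¹ᵁ W := (X.basicOpen_le g).trans hVW
    rw [← IsAffineOpen.SpecMap_appLE_fromSpec f hW hU hUW, ← Spec.map_comp_assoc]
    have hfl : (f.appLE W (X.basicOpen g) hUW ≫
        CommRingCat.ofHom (Ideal.Quotient.mk (Ideal.span {h'}))).hom.Flat := by
      have h1 : (algebraMap Γ(S, W) (Γ(X, X.basicOpen g) ⧸ Ideal.span {h'})).Flat :=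
        RingHom.flat_algebraMap_iff.mpr hflat'
      have h2 : algebraMap Γ(S, W) (Γ(X, X.basicOpen g) ⧸ Ideal.span {h'}) =
          (f.appLE W (X.basicOpen g) hUW ≫
            CommRingCat.ofHom (Ideal.Quotient.mk (Ideal.span {h'}))).hom := by
        rw [← Scheme.Hom.appLE_map f hVW (homOfLE (X.basicOpen_le g)).op]
        rfl
      rw [← h2]
      exact h1
    haveI : Flat (Spec.map (f.appLE W (X.basicOpen g) hUW ≫
        CommRingCat.ofHom (Ideal.Quotient.mk (Ideal.span {h'})))) :=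
      Flat.SpecMap_iff.mpr hfl
    infer_instance
  · haveI : LocallyOfFinitePresentation
        (Spec.map (CommRingCat.ofHom (Ideal.Quotient.mk (Ideal.span {h'})))) := by
      rw [LocallyOfFinitePresentation.SpecMap_iff]
      refine RingHom.FinitePresentation.of_surjective _ Ideal.Quotient.mk_surjective ?_
      change (RingHom.ker (Ideal.Quotient.mk (Ideal.span {h'}))).FG
      rw [Ideal.mk_ker]
      exact ⟨{h'}, by simp⟩
    infer_instance

end Groth.Agent.S1348
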