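import Groth.Statements.S19975
import Groth.Agent.Lib.Helper22.ColimCohU.Etale
import Groth.Agent.Lib.Helper22.ColimCohU.IsColimit

set_option autoImplicit false
universe u
open CategoryTheory Opposite AlgebraicGeometry
open EtCoh

namespace Groth.Agent.S19975

open CategoryTheory.Limits
open Groth.Agent.Lib.Helper22.ColimCohU Groth.Agent.Lib.Helper22.ColimCohU.Etale
open Groth.Agent.Lib.Helper22.CechU.Etale

instance : PreservesColimitsOfShape ℕ (forget AddCommGrpCat.{u + 1}) := by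
  have : PreservesFilteredColimitsOfSize.{0, 0} (forget AddCommGrpCat.{u + 1}) :=
    preservesFilteredColimitsOfSize_shrink.{0, u + 1, 0, u + 1} _
  infer_instance

instance (X : Scheme.{u}) : HasExactColimitsOfShape ℕ (EtCoh.Ab X) := by
  have h := AB5OfSize_shrink.{0, 0, u + 1, u + 1} (EtCoh.Ab X)
  exact h.ofShape ℕ

variable {X : Scheme.{u}}

/-- Evaluation of morphisms of sheaves on sections, as an additive map. -/
def evalHom (P Q : EtCoh.Ab X) (U : X.Etaleᵒᵖ) (s : P.obj.obj U) : (P ⟶ Q) →+ Q.obj.obj U :=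
  AddMonoidHom.mk' (fun ψ => ψ.hom.app U s) (fun _ _ => rfl)

lemma zsmul_hom_app (m : ℤ) {P Q : EtCoh.Ab X} (ψ : P ⟶ Q) (U : X.Etaleᵒᵖ) (s : P.obj.obj U) :
    (m • ψ).hom.app U s = m • ψ.hom.app U s :=
  map_zsmul (evalHom P Q U s) m ψ

/-- `ψ ↦ H^n(ψ)(x)` as an additive map. -/
noncomputable def HmapHom (P Q : EtCoh.Ab X) (n : ℕ) (x : EtCoh.H X P n) :
    (P ⟶ Q) →+ EtCoh.H X Q n :=
  AddMonoidHom.mk' (fun ψ => Sheaf.H.map ψ n x) (fun f g => Sheaf.H.map_add_apply f g x)

lemma H_map_zsmul (m : ℤ) {P Q : EtCoh.Ab X} (ψ : P ⟶ Q) (n : ℕ) (x : EtCoh.H X P n) :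
    Sheaf.H.map (m • ψ) n x = m • Sheaf.H.map ψ n x :=
  map_zsmul (HmapHom P Q n x) m ψ

lemma H_map_id (P : EtCoh.Ab X) (n : ℕ) (x : EtCoh.H X P n) :
    Sheaf.H.map (𝟙 P) n x = x := by
  have h := (EtCoh.HF X n).map_id P
  exact congrArg (fun f : (EtCoh.HF X n).obj P ⟶ (EtCoh.HF X n).obj P => f.hom x) h

lemma H_map_comp {P Q R : EtCoh.Ab X} (f : P ⟶ Q) (g : Q ⟶ R) (n : ℕ) (x : EtCoh.H X P n) :
    Sheaf.H.map (f ≫ g) n x = Sheaf.H.map g n (Sheaf.H.map f n x) := by
  have h := (EtCoh.HF X n).map_comp f g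
  exact congrArg (fun k : (EtCoh.HF X n).obj P ⟶ (EtCoh.HF X n).obj R => k.hom x) h

lemma H_map_zsmul_id (m : ℤ) (P : EtCoh.Ab X) (n : ℕ) (x : EtCoh.H X P n) :
    Sheaf.H.map (m • 𝟙 P) n x = m • x := by
  rw [H_map_zsmul, H_map_id]

/-- A sieve containing all maps from affines is covering. -/
lemma affine_sieve_mem {U : X.Etale} (T : Sieve U)
    (h : ∀ (V : X.Etale) (f : V ⟶ U), IsAffine V.left → T.arrows f) :
    T ∈ X.smallEtaleTopology U := by
  rw [mem_smallEtaleTopology_iff]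
  intro x
  have hE : Etale (U.hom : U.left ⟶ X) := U.prop
  obtain ⟨W, hW, hxW, -⟩ := exists_isAffineOpen_mem_and_subset (x := x) (U := ⊤) trivial
  let V' : X.Etale := Scheme.Etale.mk (W.ι ≫ U.hom)
  let g : V' ⟶ U := MorphismProperty.Over.homMk W.ι rfl trivial
  have hA : IsAffine V'.left := hW
  exact ⟨V', g, ⟨x, hxW⟩, h V' g hA, rfl⟩

/-- A morphism of sheaves which is bijective on affine étale schemes is an isomorphism. -/
lemma isIso_of_bijective_affine {P Q : EtCoh.Ab X} (ψ : P ⟶ Q)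
    (h : ∀ U : X.Etale, IsAffine U.left → Function.Bijective (ψ.hom.app (op U))) : IsIso ψ := by
  have hm : Mono ψ := by
    apply mono_of_injective
    intro U
    refine (injective_iff_map_eq_zero _).2 fun s hs => ?_
    let T : Sieve U :=
      { arrows := fun V f => P.obj.map f.op s = 0
        downward_closed := by
          intro V W f hf g
          rw [op_comp, Functor.map_comp, ConcreteCategory.comp_apply]
          rw [show P.obj.map f.op s = 0 from hf, map_zero] }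
    refine eq_zero_of_sieve (J := X.smallEtaleTopology) (fun Q => isSheaf_forget Q) P s T
      (affine_sieve_mem T fun V f hV => ?_) (fun V f hf => hf)
    apply (h V hV).1
    rw [map_zero]
    have := NatTrans.naturality_apply ψ.hom f.op s
    rw [this, hs, map_zero]
  have he : Epi ψ := by
    have : Sheaf.IsLocallySurjective ψ := by
      constructor
      intro U s
      refine X.smallEtaleTopology.superset_covering ?_
        (affine_sieve_mem (Presheaf.imageSieve ψ.hom s) fun V f hV => ?_)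
      · exact le_rfl
      · obtain ⟨t, ht⟩ := (h V hV).2 (Q.obj.map f.op s)
        exact ⟨t, ht⟩
    exact Sheaf.epi_of_isLocallySurjective _
  exact isIso_of_mono_of_epi ψ


section Main

variable (S : Submonoid ℤ) {F G : EtCoh.Ab X} (φ : F ⟶ G)
  (hφ : ∀ U : X.Etale, IsAffine U.left →
      IsLocalizedModule S (φ.hom.app (op U)).hom.toIntLinearMap)

include hφ in
lemma isIso_zsmul (a : ℤ) (ha : a ∈ S) : IsIso (a • 𝟙 G) := by
  apply isIso_of_bijective_affine
  intro U hU
  have hu := (hφ U hU).map_units ⟨a, ha⟩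
  rw [Module.End.isUnit_iff] at hu
  have : ⇑(ConcreteCategory.hom ((a • 𝟙 G).hom.app (op U))) =
      ⇑((algebraMap ℤ (Module.End ℤ (G.obj.obj (op U)))) (⟨a, ha⟩ : S)) := by
    funext t
    rw [zsmul_hom_app]
    rfl
  rw [this]
  exact hu


/-- The inverse of multiplication by an element of `S` on `G`. -/
noncomputable def invS (a : ℤ) (ha : a ∈ S) : G ⟶ G :=
  @inv _ _ _ _ (a • 𝟙 G) (isIso_zsmul S φ hφ a ha)

lemma zsmul_invS (a : ℤ) (ha : a ∈ S) : (a • 𝟙 G) ≫ invS S φ hφ a ha = 𝟙 G :=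
  @IsIso.hom_inv_id _ _ _ _ (a • 𝟙 G) (isIso_zsmul S φ hφ a ha)

lemma invS_zsmul (a : ℤ) (ha : a ∈ S) : invS S φ hφ a ha ≫ (a • 𝟙 G) = 𝟙 G :=
  @IsIso.inv_hom_id _ _ _ _ (a • 𝟙 G) (isIso_zsmul S φ hφ a ha)

lemma invS_app_zsmul (a : ℤ) (ha : a ∈ S) (U : X.Etaleᵒᵖ) (s : G.obj.obj U) :
    (invS S φ hφ a ha).hom.app U (a • s) = s := by
  have h := zsmul_invS S φ hφ a ha
  have h2 := congrArg (fun ψ : G ⟶ G => ψ.hom.app U s) h
  have h3 : ((a • 𝟙 G) ≫ invS S φ hφ a ha).hom.app U s =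
      (invS S φ hφ a ha).hom.app U ((a • 𝟙 G).hom.app U s) := rfl
  rw [zsmul_hom_app] at h3
  exact h3.symm.trans h2

lemma zsmul_invS_app (a : ℤ) (ha : a ∈ S) (U : X.Etaleᵒᵖ) (s : G.obj.obj U) :
    a • (invS S φ hφ a ha).hom.app U s = s := by
  have h := invS_zsmul S φ hφ a ha
  have h2 := congrArg (fun ψ : G ⟶ G => ψ.hom.app U s) h
  have h3 : (invS S φ hφ a ha ≫ (a • 𝟙 G)).hom.app U s =
      (a • 𝟙 G).hom.app U ((invS S φ hφ a ha).hom.app U s) := rfl
  rw [zsmul_hom_app] at h3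
  exact h3.symm.trans h2

variable (e : ℕ → ℤ) (he : ∀ k, e k ∈ S)

/-- Partial products of the sequence `e`. -/
def PP (n m : ℕ) : ℤ := ∏ k ∈ Finset.Ico n m, e k

include he in
lemma PP_mem (n m : ℕ) : PP e n m ∈ S := Submonoid.prod_mem _ (fun k _ => he k)

lemma PP_self (n : ℕ) : PP e n n = 1 := by
  unfold PP
  rw [Finset.Ico_self, Finset.prod_empty]

lemma PP_mul {n m l : ℕ} (h1 : n ≤ m) (h2 : m ≤ l) : PP e n m * PP e m l = PP e n l :=
  Finset.prod_Ico_consecutive _ h1 h2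

lemma PP_succ {n k : ℕ} (h : n ≤ k) : PP e n (k + 1) = PP e n k * e k :=
  Finset.prod_Ico_succ_top h _

variable (F) in
/-- The diagram `F → F → F → ⋯` of multiplications by the `e k`. -/
noncomputable def D : ℕ ⥤ EtCoh.Ab X where
  obj _ := F
  map {n m} _ := PP e n m • 𝟙 F
  map_id n := by rw [PP_self, one_smul]
  map_comp {n m l} f g := by
    rw [Preadditive.zsmul_comp, Preadditive.comp_zsmul, Category.id_comp, smul_smul,
      PP_mul e (leOfHom f) (leOfHom g)]

/-- The cocone on `G`. -/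
noncomputable def cD : Cocone (D F e) where
  pt := G
  ι := { app := fun n => φ ≫ invS S φ hφ (PP e 0 n) (PP_mem S e he 0 n)
         naturality := fun n m f => by
          change (PP e n m • 𝟙 F) ≫ φ ≫ invS S φ hφ (PP e 0 m) (PP_mem S e he 0 m) =
            (φ ≫ invS S φ hφ (PP e 0 n) (PP_mem S e he 0 n)) ≫ 𝟙 G
          rw [Category.comp_id, Preadditive.zsmul_comp, Category.id_comp]
          have h1 : PP e n m • (φ ≫ invS S φ hφ (PP e 0 m) (PP_mem S e he 0 m)) =
              φ ≫ (PP e n m • 𝟙 G) ≫ invS S φ hφ (PP e 0 m) (PP_mem S e he 0 m) := by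
            rw [Preadditive.zsmul_comp, Category.id_comp, Preadditive.comp_zsmul]
          rw [h1]
          congr 1
          have h2 : (PP e 0 n • 𝟙 G) ≫ (PP e n m • 𝟙 G) = PP e 0 m • 𝟙 G := by
            rw [Preadditive.zsmul_comp, Preadditive.comp_zsmul, Category.id_comp, smul_smul,
              PP_mul e (Nat.zero_le n) (leOfHom f)]
          calc (PP e n m • 𝟙 G) ≫ invS S φ hφ (PP e 0 m) (PP_mem S e he 0 m)
              = (invS S φ hφ (PP e 0 n) (PP_mem S e he 0 n) ≫ (PP e 0 n • 𝟙 G)) ≫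
                  (PP e n m • 𝟙 G) ≫ invS S φ hφ (PP e 0 m) (PP_mem S e he 0 m) := by
                rw [invS_zsmul, Category.id_comp]
            _ = invS S φ hφ (PP e 0 n) (PP_mem S e he 0 n) ≫ ((PP e 0 n • 𝟙 G) ≫
                  (PP e n m • 𝟙 G)) ≫ invS S φ hφ (PP e 0 m) (PP_mem S e he 0 m) := by
                simp only [Category.assoc]
            _ = invS S φ hφ (PP e 0 n) (PP_mem S e he 0 n) := by
                rw [h2, zsmul_invS, Category.comp_id] }

lemma cD_ι_app (n : ℕ) (U : X.Etaleᵒᵖ) (t : F.obj.obj U) :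
    ((cD S φ hφ e he).ι.app n).hom.app U t =
      (invS S φ hφ (PP e 0 n) (PP_mem S e he 0 n)).hom.app U (φ.hom.app U t) := rfl

lemma D_map_app {n m : ℕ} (f : n ⟶ m) (U : X.Etaleᵒᵖ) (t : F.obj.obj U) :
    ((D F e).map f).hom.app U t = PP e n m • t := by
  change (PP e n m • 𝟙 F).hom.app U t = _
  rw [zsmul_hom_app]
  rfl


/-- Restriction commutes with integer multiples. -/
lemma map_zsmul' (P : EtCoh.Ab X) {U V : X.Etaleᵒᵖ} (f : U ⟶ V) (a : ℤ) (s : P.obj.obj U) :
    P.obj.map f (a • s) = a • P.obj.map f s :=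
  map_zsmul (P.obj.map f).hom a s

theorem isColimit_cD (hsurj : ∀ a ∈ S, ∀ n : ℕ, ∃ k, n ≤ k ∧ e k = a) :
    Nonempty (IsColimit (cD S φ hφ e he)) := by
  refine isColimit_of_local (J := X.smallEtaleTopology) (fun Q => isSheaf_forget Q)
    (cD S φ hφ e he) ?_ ?_
  · intro U s
    let T : Sieve U :=
      { arrows := fun V f => ∃ (n : ℕ) (t : F.obj.obj (op V)),
          ((cD S φ hφ e he).ι.app n).hom.app (op V) t = G.obj.map f.op s
        downward_closed := by
          rintro V W f ⟨n, t, ht⟩ g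
          refine ⟨n, F.obj.map g.op t, ?_⟩
          have := NatTrans.naturality_apply ((cD S φ hφ e he).ι.app n).hom g.op t
          rw [op_comp, Functor.map_comp, ConcreteCategory.comp_apply, ← ht]
          exact this }
    refine ⟨T, affine_sieve_mem T fun V f hV => ?_, fun V f hf => hf⟩
    obtain ⟨⟨t, a⟩, hta⟩ := (hφ V hV).surj (G.obj.map f.op s)
    obtain ⟨k, -, hk⟩ := hsurj a.1 a.2 0
    refine ⟨k + 1, PP e 0 k • t, ?_⟩
    rw [cD_ι_app]
    have h1 : φ.hom.app (op V) (PP e 0 k • t) = PP e 0 (k + 1) • G.obj.map f.op s := by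
      rw [PP_succ e (Nat.zero_le k), hk, mul_smul]
      have h2 : φ.hom.app (op V) (PP e 0 k • t) = PP e 0 k • φ.hom.app (op V) t :=
        map_zsmul (φ.hom.app (op V)).hom _ _
      rw [h2]
      congr 1
      exact hta.symm
    rw [h1, invS_app_zsmul]
  · intro U n t ht
    have ht' : (invS S φ hφ (PP e 0 n) (PP_mem S e he 0 n)).hom.app (op U)
        (φ.hom.app (op U) t) = (0 : G.obj.obj (op U)) := ht
    have h0 : φ.hom.app (op U) t = 0 := by
      rw [← zsmul_invS_app S φ hφ (PP e 0 n) (PP_mem S e he 0 n) (op U) (φ.hom.app (op U) t), ht',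
        smul_zero]
    let T : Sieve U :=
      { arrows := fun V f => ∃ (m : ℕ) (g : n ⟶ m),
          ((D F e).map g).hom.app (op V) (((D F e).obj n).obj.map f.op t) = 0
        downward_closed := by
          rintro V W f ⟨m, g, hg⟩ h
          refine ⟨m, g, ?_⟩
          have := NatTrans.naturality_apply ((D F e).map g).hom h.op
            (((D F e).obj n).obj.map f.op t)
          rw [op_comp, Functor.map_comp, ConcreteCategory.comp_apply, this, hg, map_zero] }
    refine ⟨T, affine_sieve_mem T fun V f hV => ?_, fun V f hf => hf⟩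
    have h1 : φ.hom.app (op V) (F.obj.map f.op t) = 0 := by
      have := NatTrans.naturality_apply φ.hom f.op t
      rw [this, h0, map_zero]
    obtain ⟨a, ha⟩ := (hφ V hV).exists_of_eq (x₁ := F.obj.map f.op t) (x₂ := 0)
      (h1.trans (map_zero _).symm)
    rw [smul_zero] at ha
    obtain ⟨k, hnk, hk⟩ := hsurj a.1 a.2 n
    refine ⟨k + 1, homOfLE (hnk.trans (Nat.le_succ k)), ?_⟩
    rw [D_map_app, PP_succ e hnk, hk, mul_smul]
    have : (a : ℤ) • F.obj.map f.op t = 0 := ha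
    change PP e n k • (a : ℤ) • F.obj.map f.op t = 0
    rw [this, smul_zero]

end Main


section Aux

variable [CompactSpace X] [QuasiSeparatedSpace X] (S : Submonoid ℤ) {F G : EtCoh.Ab X} (φ : F ⟶ G)
  (hφ : ∀ U : X.Etale, IsAffine U.left →
      IsLocalizedModule S (φ.hom.app (op U)).hom.toIntLinearMap)
  (i : ℕ)

omit [CompactSpace X] [QuasiSeparatedSpace X] in
include hφ in
lemma units_aux (a : ℤ) (ha : a ∈ S) : Function.Bijective (fun y : EtCoh.H X G i => a • y) := by
  have h1 : ∀ y : EtCoh.H X G i,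
      Sheaf.H.map (invS S φ hφ a ha) i (a • y) = y := by
    intro y
    rw [← H_map_zsmul_id, ← H_map_comp, zsmul_invS, H_map_id]
  have h2 : ∀ y : EtCoh.H X G i,
      a • Sheaf.H.map (invS S φ hφ a ha) i y = y := by
    intro y
    rw [← H_map_zsmul_id, ← H_map_comp, invS_zsmul, H_map_id]
  constructor
  · intro y₁ y₂ h
    have h' : a • y₁ = a • y₂ := h
    have := congrArg (Sheaf.H.map (invS S φ hφ a ha) i) h'
    rwa [h1, h1] at this
  · intro y
    exact ⟨Sheaf.H.map (invS S φ hφ a ha) i y, h2 y⟩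

variable (e : ℕ → ℤ) (he : ∀ k, e k ∈ S) (hc : IsColimit (cD S φ hφ e he))

include hc in
lemma surj_aux (y : EtCoh.H X G i) :
    ∃ (x : EtCoh.H X F i) (a : ℤ), a ∈ S ∧ a • y = Sheaf.H.map φ i x := by
  obtain ⟨n, x, hx⟩ := H_rep (cD S φ hφ e he) hc i y
  have hx' : Sheaf.H.map (φ ≫ invS S φ hφ (PP e 0 n) (PP_mem S e he 0 n)) i x = y := hx
  refine ⟨x, PP e 0 n, PP_mem S e he 0 n, ?_⟩
  rw [← H_map_zsmul_id, ← hx', ← H_map_comp]
  congr 1
  rw [Category.assoc, invS_zsmul, Category.comp_id]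

include hc in
lemma eq_aux (x₁ x₂ : EtCoh.H X F i) (h : Sheaf.H.map φ i x₁ = Sheaf.H.map φ i x₂) :
    ∃ a : ℤ, a ∈ S ∧ a • x₁ = a • x₂ := by
  have h0 : Sheaf.H.map (φ ≫ invS S φ hφ (PP e 0 0) (PP_mem S e he 0 0)) i (x₁ - x₂) = 0 := by
    rw [H_map_comp, map_sub, h, sub_self, map_zero]
  obtain ⟨m, g, hg⟩ := H_zero (cD S φ hφ e he) hc i 0 (x₁ - x₂) h0
  refine ⟨PP e 0 m, PP_mem S e he 0 m, ?_⟩
  have hg' : Sheaf.H.map (PP e 0 m • 𝟙 F) i (x₁ - x₂) = 0 := hg
  rw [H_map_zsmul_id, smul_sub, sub_eq_zero] at hg'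
  exact hg'

end Aux


/-- In the case of the small etale topos of a quasi-compact quasi-separated scheme X (X is then a
coherent object of it), let R = S⁻¹ℤ be a localization of the ring of integers at a multiplicative
subset S, and let φ : F ⟶ G be a morphism of abelian etale sheaves on X which exhibits G as F ⊗ R:
over every affine scheme U etale over X, the map on sections F(U) → G(U) is a localization of
ℤ-modules at S. Then for every i the induced map on etale cohomology Hⁱ(X, F) → Hⁱ(X, G) is a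
localization at S, i.e. the natural map Hⁱ(X, F) ⊗ R → Hⁱ(X, F ⊗ R) is invertible. (The source
states this for a coherent object of an arbitrary topos; the tensor product F ⊗ R is rendered
through its characterisation on affine etale schemes over X.) -/
theorem result (X : Scheme.{u})
    [CompactSpace X] [QuasiSeparatedSpace X] (S : Submonoid ℤ)
    (F G : EtCoh.Ab X) (φ : F ⟶ G)
    (hφ : ∀ U : X.Etale, IsAffine U.left →
      IsLocalizedModule S (φ.hom.app (op U)).hom.toIntLinearMap)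
    (i : ℕ) : IsLocalizedModule S ((EtCoh.HF X i).map φ).hom.toIntLinearMap := by
  have : Nonempty S := ⟨⟨1, S.one_mem⟩⟩
  obtain ⟨e₀, he₀⟩ := exists_surjective_nat S
  let e : ℕ → ℤ := fun n => (e₀ (Nat.unpair n).1 : ℤ)
  have he : ∀ k, e k ∈ S := fun k => (e₀ _).2
  have hsurj : ∀ a ∈ S, ∀ n, ∃ k, n ≤ k ∧ e k = a := by
    intro a ha n
    obtain ⟨j, hj⟩ := he₀ ⟨a, ha⟩
    refine ⟨Nat.pair j n, Nat.right_le_pair j n, ?_⟩
    change (e₀ (Nat.unpair (Nat.pair j n)).1 : ℤ) = a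
    rw [Nat.unpair_pair, hj]
  obtain ⟨hc⟩ := isColimit_cD S φ hφ e he hsurj
  refine ⟨?_, ?_, ?_⟩
  · intro a
    rw [Module.End.isUnit_iff]
    exact units_aux S φ hφ i a.1 a.2
  · intro y
    obtain ⟨x, a, ha, h⟩ := surj_aux S φ hφ i e he hc y
    exact ⟨(x, ⟨a, ha⟩), h⟩
  · intro x₁ x₂ h
    obtain ⟨a, ha, h'⟩ := eq_aux S φ hφ i e he hc x₁ x₂ h
    exact ⟨⟨a, ha⟩, h'⟩

end Groth.Agent.S19975
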