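import Groth.Statements.S13499
import Groth.Agent.S7744

set_option autoImplicit false
universe u
open CategoryTheory CategoryTheory.Limits AlgebraicGeometry Opposite
open GalCoh

namespace Groth.Agent.S13499

open CategoryTheory.Abelian

noncomputable section

variable (X : Scheme.{u})

/-- The constant sheaf functor. -/
abbrev cst : AddCommGrpCat.{u + 1} ⥤ EtCoh.Ab X :=
  constantSheaf X.smallEtaleTopology AddCommGrpCat.{u + 1}

instance : PreservesFiniteLimits (cst X) := by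
  unfold cst constantSheaf
  infer_instance

instance : PreservesFiniteColimits (cst X) := by
  have : PreservesColimitsOfSize.{0, 0} (cst X) := (EtCore.constAdj X).leftAdjoint_preservesColimits
  exact PreservesColimitsOfSize.preservesFiniteColimits _

instance : (cst X).Additive := Functor.additive_of_preserves_binary_products _

/-- `ℤ → ℚ` on `ULift`s. -/
def fZQ : ULift.{u + 1} ℤ →+ ULift.{u + 1} ℚ :=
  (AddEquiv.ulift.symm.toAddMonoidHom.comp (Int.castAddHom ℚ)).comp AddEquiv.ulift.toAddMonoidHom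

/-- `ℚ → ℚ/ℤ` on `ULift`s. -/
def gQZ : ULift.{u + 1} ℚ →+ ULift.{u + 1} (ℚ ⧸ AddSubgroup.zmultiples (1 : ℚ)) :=
  (AddEquiv.ulift.symm.toAddMonoidHom.comp
    (QuotientAddGroup.mk' (AddSubgroup.zmultiples (1 : ℚ)))).comp AddEquiv.ulift.toAddMonoidHom

/-- The short complex `0 → ℤ → ℚ → ℚ/ℤ → 0`. -/
def SC : ShortComplex AddCommGrpCat.{u + 1} :=
  ShortComplex.mk (AddCommGrpCat.ofHom fZQ.{u}) (AddCommGrpCat.ofHom gQZ.{u}) (by
    ext ⟨n⟩
    change (QuotientAddGroup.mk ((n : ℤ) : ℚ) : ℚ ⧸ AddSubgroup.zmultiples (1 : ℚ)) = 0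
    rw [QuotientAddGroup.eq_zero_iff]
    exact ⟨n, by simp⟩)

lemma SC_shortExact : SC.{u}.ShortExact := by
  have hmono : Mono SC.{u}.f := by
    rw [AddCommGrpCat.mono_iff_injective]
    rintro ⟨a⟩ ⟨b⟩ h
    have h' : ((a : ℤ) : ℚ) = (b : ℚ) := congrArg ULift.down h
    exact congrArg ULift.up (Int.cast_injective h')
  have hepi : Epi SC.{u}.g := by
    rw [AddCommGrpCat.epi_iff_surjective]
    rintro ⟨y⟩
    obtain ⟨x, rfl⟩ := QuotientAddGroup.mk_surjective y
    exact ⟨⟨x⟩, rfl⟩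
  refine ShortComplex.ShortExact.mk ?_
  rw [ShortComplex.ab_exact_iff]
  rintro ⟨x⟩ hx
  have hx' : (QuotientAddGroup.mk x : ℚ ⧸ AddSubgroup.zmultiples (1 : ℚ)) = 0 :=
    congrArg ULift.down hx
  rw [QuotientAddGroup.eq_zero_iff] at hx'
  obtain ⟨n, hn⟩ := hx'
  refine ⟨⟨n⟩, ?_⟩
  change (⟨((n : ℤ) : ℚ)⟩ : ULift.{u + 1} ℚ) = ⟨x⟩
  congr 1
  rw [← hn]
  simp

lemma isIso_nsmul_Q (n : ℕ) (hn : 0 < n) :
    IsIso (n • 𝟙 (AddCommGrpCat.of (ULift.{u + 1} ℚ))) := by
  rw [ConcreteCategory.isIso_iff_bijective]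
  have hmap : ∀ x : ULift.{u + 1} ℚ,
      (n • 𝟙 (AddCommGrpCat.of (ULift.{u + 1} ℚ)) : _ ⟶ _) x = n • x := fun x => rfl
  have hn' : (n : ℚ) ≠ 0 := by exact_mod_cast hn.ne'
  constructor
  · rintro ⟨a⟩ ⟨b⟩ h
    rw [hmap, hmap] at h
    have h' : n • a = n • b := congrArg ULift.down h
    rw [nsmul_eq_mul, nsmul_eq_mul] at h'
    exact congrArg ULift.up (mul_left_cancel₀ hn' h')
  · rintro ⟨y⟩
    refine ⟨⟨y / n⟩, ?_⟩
    rw [hmap]
    change (⟨n • (y / n)⟩ : ULift.{u + 1} ℚ) = ⟨y⟩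
    congr 1
    rw [nsmul_eq_mul]
    field_simp

lemma isIso_nsmul_constQ (n : ℕ) (hn : 0 < n) : IsIso (n • 𝟙 (EtCoh.const X ℚ)) := by
  have h := isIso_nsmul_Q.{u} n hn
  have e : n • 𝟙 (EtCoh.const X ℚ) =
      (cst X).map (n • 𝟙 (AddCommGrpCat.of (ULift.{u + 1} ℚ))) := by
    rw [Functor.map_nsmul, CategoryTheory.Functor.map_id]
  rw [e]
  infer_instance

end


/-- For a field k and i ≥ 2 there is an isomorphism between H^i(Spec k, Z) and H^{i-1}(Spec k, Q/Z),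
étale cohomology of Spec k with coefficients in the constant sheaves Z and Q/Z (existence of an
additive isomorphism only; the published statement is for an arbitrary profinite group with trivial
action and identifies the two groups through the boundary map of 0 → Z → Q → Q/Z → 0). -/
theorem result (k : Type u) [Field k] (i : ℕ) (hi : 2 ≤ i) :
    Nonempty (EtCoh.H (Spec (CommRingCat.of k)) (EtCoh.const (Spec (CommRingCat.of k)) ℤ) i ≃+
      EtCoh.H (Spec (CommRingCat.of k))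
        (EtCoh.const (Spec (CommRingCat.of k)) (ℚ ⧸ AddSubgroup.zmultiples (1 : ℚ))) (i - 1)) := by
  obtain ⟨j, rfl⟩ : ∃ j, i = j + 2 := ⟨i - 2, by omega⟩
  change Nonempty (EtCoh.H (Spec (CommRingCat.of k)) (EtCoh.const (Spec (CommRingCat.of k)) ℤ) (j + 2) ≃+
      EtCoh.H (Spec (CommRingCat.of k))
        (EtCoh.const (Spec (CommRingCat.of k)) (ℚ ⧸ AddSubgroup.zmultiples (1 : ℚ))) (j + 1))
  let X := Spec (CommRingCat.of k)
  have hS : (SC.{u}.map (cst X)).ShortExact := SC_shortExact.map_of_exact (cst X)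
  have hQ : ∀ q : ℕ, 0 < q → Subsingleton (EtCoh.H X (EtCoh.const X ℚ) q) := fun q hq =>
    Groth.Agent.S7744.result k (EtCoh.const X ℚ) (fun n hn => isIso_nsmul_constQ X n hn) q hq
  let δ : EtCoh.H X (EtCoh.const X (ℚ ⧸ AddSubgroup.zmultiples (1 : ℚ))) (j + 1) →+
      EtCoh.H X (EtCoh.const X ℤ) (j + 2) :=
    hS.extClass.postcomp (EtCoh.const X ℤ) (rfl : j + 1 + 1 = j + 2)
  have hδ : Function.Bijective δ := by
    constructor
    · rw [injective_iff_map_eq_zero]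
      intro x hx
      obtain ⟨x₂, hx₂⟩ := Ext.covariant_sequence_exact₃ _ hS x (rfl : j + 1 + 1 = j + 2) hx
      have : x₂ = 0 := @Subsingleton.elim _ (hQ (j + 1) (Nat.succ_pos _)) _ _
      rw [← hx₂, this]
      exact Ext.zero_comp ..
    · intro y
      have h0 : (y : Ext (EtCoh.const X ℤ) (SC.{u}.map (cst X)).X₁ (j + 2)).comp
          (Ext.mk₀ (SC.{u}.map (cst X)).f) (add_zero (j + 2)) = 0 :=
        @Subsingleton.elim _ (hQ (j + 2) (Nat.succ_pos _)) _ _
      obtain ⟨x₃, hx₃⟩ := Ext.covariant_sequence_exact₁ _ hS y h0 (rfl : j + 1 + 1 = j + 2)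
      exact ⟨x₃, hx₃⟩
  exact ⟨(AddEquiv.ofBijective δ hδ).symm⟩

end Groth.Agent.S13499
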