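import Groth.Statements.S13506
import Mathlib
import Groth.Agent.Lib.Helper4.ZC6
import Groth.Agent.Lib.Helper4.ZC7

set_option autoImplicit false
universe u
open CategoryTheory CategoryTheory.Limits AlgebraicGeometry
open Hensel

namespace Groth.Agent.S13506


open AlgebraicGeometry in
/-- Let A be a Noetherian ring which is complete for the adic topology of an ideal I, f : X → Spec A
proper and X_0 = X ×_{Spec A} Spec (A/I). Then the projection X_0 → X induces a bijection from the
connected components of X_0 to the connected components of X. -/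
theorem result (A : Type u) [CommRing A]
    [IsNoetherianRing A] (I : Ideal A) [IsAdicComplete I A] {X : Scheme.{u}}
    (f : X ⟶ Spec (CommRingCat.of A)) [IsProper f] :
    Function.Bijective
      (Continuous.connectedComponentsMap
        (pullback.fst f (Spec.map (CommRingCat.ofHom (Ideal.Quotient.mk I)))).continuous) := by
  let mk : Spec (CommRingCat.of (A ⧸ I)) ⟶ Spec (CommRingCat.of A) :=
    Spec.map (CommRingCat.ofHom (Ideal.Quotient.mk I))
  haveI : IsClosedImmersion mk :=
    IsClosedImmersion.spec_of_surjective _ Ideal.Quotient.mk_surjective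
  let i : pullback f mk ⟶ X := pullback.fst f mk
  haveI : IsClosedImmersion i := by
    dsimp only [i]
    infer_instance
  have hemb : Topology.IsClosedEmbedding i.base := i.isClosedEmbedding
  haveI : IsLocallyNoetherian X := LocallyOfFiniteType.isLocallyNoetherian f
  haveI : CompactSpace X := (quasiCompact_iff_compactSpace f).mp inferInstance
  haveI : IsNoetherian X := {}
  haveI : TopologicalSpace.NoetherianSpace X := inferInstance
  haveI : TopologicalSpace.NoetherianSpace ↥(pullback f mk) := hemb.isInducing.noetherianSpace
  have hI : I ≤ Ideal.jacobson ⊥ := IsAdicComplete.le_jacobson_bot I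
  refine Groth.Agent.Lib.Helper4.ZC.bijective_connectedComponentsMap_of_clopen_lift
    i.continuous (fun V hV => Groth.Agent.Lib.Helper4.ZC.exists_clopen_lift A I f V hV) ?_
  intro U U' hU hU' hUU'
  have hW : IsClosed (symmDiff U U') :=
    (hU.isClosed.sdiff hU'.isOpen).union (hU'.isClosed.sdiff hU.isOpen)
  have hdisj : ∀ w ∈ symmDiff U U', f.base w ∉ PrimeSpectrum.zeroLocus (I : Set A) := by
    intro w hw hz
    have hr : w ∈ Set.range i.base := by
      rw [Groth.Agent.Lib.Helper4.ZC.range_fst_eq A I f]
      exact hz
    obtain ⟨y, rfl⟩ := hr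
    have h1 : y ∈ i.base ⁻¹' U ↔ y ∈ i.base ⁻¹' U' := by rw [hUU']
    rcases hw with ⟨h2, h3⟩ | ⟨h2, h3⟩
    · exact h3 (h1.mp h2)
    · exact h3 (h1.mpr h2)
  have hempty := Groth.Agent.Lib.Helper4.ZC.eq_empty_of_isClosed_of_disjoint A I hI f.base
    f.isClosedMap _ hW hdisj
  exact symmDiff_eq_bot.mp hempty

end Groth.Agent.S13506
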