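import Groth.Statements.S13536
import Mathlib
import Groth.Agent.Lib.Helper18.CZ1

set_option autoImplicit false
universe u
open CategoryTheory CategoryTheory.Limits AlgebraicGeometry
open ResProp

namespace Groth.Agent.S13536

/-- On a Noetherian scheme X let Z be a closed subscheme of cohomological dimension at most k (every
quasi-coherent module on Z has zero cohomology in degrees ≥ k + 1) and let F, F' be coherent modules
which are isomorphic on the open complement of Z. Then H^i(X, F) and H^i(X, F') are isomorphic for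
all i ≥ k + 2 (existence of an additive isomorphism only; the identification depends on choices). -/
theorem result (X : Scheme.{u}) [IsNoetherian X]
    {Z : Scheme.{u}} (ι : Z ⟶ X) [IsClosedImmersion ι] (k : ℕ)
    (hcd : ∀ G : Z.Modules, Coh.IsQCoh G → ∀ i : ℕ, k + 1 ≤ i → Subsingleton (Coh.HH Z G i))
    (U : X.Opens) (hU : (U : Set X) = (Set.range ι.base)ᶜ)
    (F F' : X.Modules) (hF : Coh.IsCoh F) (hF' : Coh.IsCoh F')
    (hiso : Nonempty (F.restrict U.ι ≅ F'.restrict U.ι)) (i : ℕ) (hi : k + 2 ≤ i) :
    Nonempty (Coh.HH X F i ≃+ Coh.HH X F' i) := by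
  classical
  obtain ⟨θ⟩ := hiso
  obtain ⟨G, a, b, hG, ha, hb⟩ :=
    (Groth.Agent.Lib.Helper18.AL2.locHyp_opens U).L2 F F' hF hF' θ
  have hUr : Set.range U.ι = (Set.range ι)ᶜ := by
    rw [Scheme.Opens.range_ι]
    exact hU
  have key : ∀ {M N : X.Modules} (c : M ⟶ N), Coh.IsCoh M → Coh.IsCoh N →
      IsIso ((Scheme.Modules.restrictFunctor U.ι).map c) →
      Function.Bijective (Groth.Agent.Lib.Helper18.CZ1.mapHH c i) := by
    intro M N c hM hN hc
    refine Groth.Agent.Lib.Helper18.CZ1.bijective_mapHH_of_ker_coker c k ?_ ?_ i hi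
    · intro j hj
      refine Groth.Agent.Lib.Helper18.CZ1.subsingleton_HH_of_support ι j
        (fun G hG => hcd G hG j hj) _
        (Groth.Agent.Lib.Helper12.H12Dev.isCoh_kernel c hM hN) ?_
      exact Groth.Agent.Lib.Helper18.AL2.support_subset_of_isZero_restrict ι U.ι hUr _
        (IsZero.of_iso (isZero_kernel_of_mono ((Scheme.Modules.restrictFunctor U.ι).map c))
          (PreservesKernel.iso (Scheme.Modules.restrictFunctor U.ι) c))
    · intro j hj
      refine Groth.Agent.Lib.Helper18.CZ1.subsingleton_HH_of_support ι j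
        (fun G hG => hcd G hG j hj) _
        (Groth.Agent.Lib.Helper12.H12Dev.isCoh_cokernel c hM hN) ?_
      exact Groth.Agent.Lib.Helper18.AL2.support_subset_of_isZero_restrict ι U.ι hUr _
        (IsZero.of_iso (isZero_cokernel_of_epi ((Scheme.Modules.restrictFunctor U.ι).map c))
          (PreservesCokernel.iso (Scheme.Modules.restrictFunctor U.ι) c))
  exact ⟨(AddEquiv.ofBijective _ (key a hG hF ha)).symm.trans
    (AddEquiv.ofBijective _ (key b hG hF' hb))⟩

end Groth.Agent.S13536
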