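import Groth.Statements.S13542
-- import your own Groth.Agent.* helpers here
import Groth.Agent.Lib.Helper29.JEpi1
import Groth.Agent.Lib.Helper29.ProjF5

set_option autoImplicit false
universe u
open CategoryTheory CategoryTheory.Limits AlgebraicGeometry
open ResProp

namespace Groth.Agent.S13542

open Groth.Agent.Lib.Helper29.QCoh Groth.Agent.Lib.Helper29.QCoh.ProjF Groth.Agent.Lib.Helper3 Groth.Agent.Lib.Helper29.QCoh.Res Groth.Agent.Lib.Helper29.QCoh.Dual Groth.Agent.Lib.Helper29.QCoh.HomSec in
theorem exists_epi_sigma_pushforward {X Y : Scheme.{u}} (f : X ⟶ Y) [IsFinite f] [Flat f]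
    [LocallyOfFinitePresentation f] [Surjective f]
    {ι : Type u} (E : ι → X.Modules) (hE : ∀ i, (E i).IsQuasicoherent)
    (hgen : ∀ M : X.Modules, M.IsQuasicoherent →
      ∃ (κ : Type u) (j : κ → ι) (π : (∐ fun k : κ => E (j k)) ⟶ M), Epi π)
    (N : Y.Modules) [N.IsQuasicoherent] :
    ∃ (κ : Type u) (j : κ → ι)
      (π : (∐ fun k : κ => (Scheme.Modules.pushforward f).obj (E (j k))) ⟶ N), Epi π := by
  let B : Y.Modules := pushUnit f
  have hB : FlatMod.IsFinLocFree B := isFinLocFree_pushforward f (isFinLocFree_unitM X)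
  let T : Y.Modules := RefHull.homSh B (unitM Y)
  have hT : FlatMod.IsFinLocFree T := isFinLocFree_homSh hB (isFinLocFree_unitM Y)
  have hTq : T.IsQuasicoherent := isQuasicoherent_of_isFinLocFree hT
  let N' : Y.Modules := CohB1.tensorMod N T
  have hN'q : N'.IsQuasicoherent := inferInstance
  let M : X.Modules := (Scheme.Modules.pullback f).obj N'
  have hMq : M.IsQuasicoherent := inferInstance
  obtain ⟨κ, j, p, hp⟩ := hgen M hMq
  have hEq : ∀ k : κ, (E (j k)).IsQuasicoherent := fun k => hE (j k)
  have hJ : Res.JointlyEpi (fun k : κ => Sigma.ι (fun k : κ => E (j k)) k ≫ p) := by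
    apply Res.jointlyEpi_of_epi_desc
    have : Sigma.desc (fun k : κ => Sigma.ι (fun k : κ => E (j k)) k ≫ p) = p := by
      apply Sigma.hom_ext
      intro k
      rw [Sigma.ι_desc]
    rw [this]
    exact hp
  have hiso : IsIso (projHom f N') := isIso_projHom' f N'
  have h4 : Epi (evHom B (unitM Y)) := epi_evHom_pushUnit f
  have h5 : Epi (tensorMapLeft N (evHom B (unitM Y))) := epi_tensorMapLeft N _
  have h6 : Epi (tensorMapLeft N (evHom B (unitM Y)) ≫ (tensorUnitR N).hom) := epi_comp _ _
  have h7 : Epi ((tensorAssoc N T B).hom ≫ tensorMapLeft N (evHom B (unitM Y)) ≫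
      (tensorUnitR N).hom) := epi_comp _ _
  have h8 : Epi (inv (projHom f N') ≫ (tensorAssoc N T B).hom ≫
      tensorMapLeft N (evHom B (unitM Y)) ≫ (tensorUnitR N).hom) := epi_comp _ _
  exact ⟨κ, j, _, JEpi.epi_desc_pushforward f
    (fun k : κ => Sigma.ι (fun k : κ => E (j k)) k ≫ p) hJ
    (inv (projHom f N') ≫ (tensorAssoc N T B).hom ≫
      tensorMapLeft N (evHom B (unitM Y)) ≫ (tensorUnitR N).hom)⟩

/-- In the case of schemes over an affine base, let f : X ⟶ Y be finite, flat, of finite presentation
and surjective between quasi-compact quasi-separated schemes. If a family (E_i) of finitely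
presented quasi-coherent modules on X is generating, i.e. every quasi-coherent module on X is a
quotient of a direct sum of copies of the E_i, then the family of direct images (f_*E_i) is
generating on Y. (The published statement is for morphisms of algebraic stacks and families
generating relative to a further morphism; this row is the case of schemes with the absolute notion
of a generating family.) -/
theorem result {X Y : Scheme.{u}}
    [CompactSpace X] [QuasiSeparatedSpace X] [CompactSpace Y] [QuasiSeparatedSpace Y]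
    (f : X ⟶ Y) [IsFinite f] [Flat f] [LocallyOfFinitePresentation f] [Surjective f]
    {ι : Type u} (E : ι → X.Modules) (hE : ∀ i, Coh.IsQCoh (E i) ∧ CohB1.IsFP (E i))
    (hgen : ∀ M : X.Modules, Coh.IsQCoh M →
      ∃ (κ : Type u) (j : κ → ι) (π : (∐ fun k : κ => E (j k)) ⟶ M), Epi π) :
    ∀ N : Y.Modules, Coh.IsQCoh N →
      ∃ (κ : Type u) (j : κ → ι) (π : (∐ fun k : κ => (Scheme.Modules.pushforward f).obj (E (j k))) ⟶ N), Epi π := by
  intro N hN
  have hNq : N.IsQuasicoherent := hN
  exact exists_epi_sigma_pushforward f E (fun i => (hE i).1)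
    (fun M hM => hgen M hM) N

end Groth.Agent.S13542
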