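import Groth.Statements.S13581
import Mathlib
import Groth.Agent.Lib.Helper5.Deg0
import Groth.Agent.Lib.Helper17.ExtZero
import Groth.Agent.Lib.Helper5.RestrExact

set_option autoImplicit false
universe w' w u
open CategoryTheory CategoryTheory.Limits
open ExtSupp

namespace Groth.Agent.S13581

open Groth.Agent.Lib.Helper22.ExtCompare Groth.Agent.Lib.Helper5.Deg0 in
theorem aux {C : Type u} [SmallCategory C]
    {J : GrothendieckTopology C} {O : Sheaf J CommRingCat.{u}} [HasExt.{w} (ModSite.Mod O)]
    (U : C) [HasExt.{w'} (ModSite.Mod (O.over U))] (P : ModSite.Mod (O.over U)) (N : ModSite.Mod O) (i : ℕ) :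
    Nonempty (Abelian.Ext.{w} ((ModSite.extZero O U).obj P) N i ≃+
      Abelian.Ext.{w'} P ((ModSite.restr O U).obj N) i) := by
  haveI : EnoughInjectives (ModSite.Mod O) := Groth.Agent.S0485.result J (ModSite.ringSh O)
  let adj := ModSite.extZeroAdj O U
  haveI : (ModSite.restr O U).Additive := Groth.Agent.Lib.Helper5.RestrExact.restr_additive O U
  haveI : PreservesFiniteLimits (ModSite.restr O U) :=
    Groth.Agent.Lib.Helper5.RestrExact.restr_preservesFiniteLimits O U
  haveI : PreservesFiniteColimits (ModSite.restr O U) :=
    Groth.Agent.Lib.Helper5.RestrExact.restr_preservesFiniteColimits O U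
  have bij : ∀ G : ModSite.Mod O, Function.Bijective
      (fun f : (ModSite.extZero O U).obj P ⟶ G => adj.unit.app P ≫ (ModSite.restr O U).map f) := by
    intro G
    have : (fun f : (ModSite.extZero O U).obj P ⟶ G => adj.unit.app P ≫ (ModSite.restr O U).map f) =
        adj.homEquiv P G := by
      funext f
      exact (adj.homEquiv_unit P G f).symm
    rw [this]
    exact (adj.homEquiv P G).bijective
  let d : Deg0Iso (ModSite.restr O U) ((ModSite.extZero O U).obj P) P :=
    deg0OfBij (ModSite.restr O U) (adj.unit.app P) bij
  refine nonempty_ext_addEquiv d (fun _ => True) ?_ (fun _ _ => trivial) ?_ i N trivial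
  · intro F _
    exact (injSC_shortExact F).map_of_exact (ModSite.restr O U)
  · intro F _ n x
    haveI : Injective ((ModSite.restr O U).obj (injSC F).X₂) :=
      (Groth.Agent.Lib.Helper5.RestrExact.restr_preservesInjectiveObjects O U).injective_obj
        inferInstance
    exact Abelian.Ext.eq_zero_of_injective x

/-- On a ringed site, for an object `U` and sheaves of modules `M`, `N`, the group `Ext^i(M_U, N)`,
where `M_U = j_!(M|_U)` is the extension by zero of the restriction, is isomorphic to
`Ext^i_{O|_U}(M|_U, N|_U)` computed on the localised site over `U`; hence the long exact sequence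
`Ext^i_Z(M, N) → Ext^i(M, N) → Ext^i(M_U, N) → Ext^{i+1}_Z(M, N)` for the closed complement `Z` of
`U` has the Ext groups of the restrictions as its third terms. Existence of an isomorphism of groups
in each degree only. (The published statements give the long exact sequence itself, on a ringed
space resp. a ringed topos; its exactness over these definitions is formal and is not part of this
row.) -/
theorem result {C : Type u} [SmallCategory C]
    {J : GrothendieckTopology C} {O : Sheaf J CommRingCat.{u}} [HasExt.{w} (ModSite.Mod O)]
    (U : C) [HasExt.{w'} (ModSite.Mod (O.over U))] (M N : ModSite.Mod O) (i : ℕ) :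
    Nonempty (Abelian.Ext.{w} (ExtSupp.openMod U M) N i ≃+
      Abelian.Ext.{w'} ((ModSite.restr O U).obj M) ((ModSite.restr O U).obj N) i) := by
  exact aux U ((ModSite.restr O U).obj M) N i

end Groth.Agent.S13581
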