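import Groth.Statements.S9738
import Groth.Agent.Lib.Helper13.SchemeLocal
import Groth.Agent.Lib.Helper25.PushoutTransfer

set_option autoImplicit false
universe u
open FlatMor

namespace Groth.Agent.S9738

open CategoryTheory CategoryTheory.Limits AlgebraicGeometry Opposite
open AlgebraicGeometry CategoryTheory Limits in
/-- For a morphism f : X ⟶ S between locally Noetherian schemes, an ideal sheaf I on S with closed
subscheme Z, and Z_n the closed subscheme cut out by I^(n+1): if each base change X ×_S Z_n ⟶ Z_n is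
flat, then f is flat at each point of X lying over Z. -/
theorem result {X S : Scheme.{u}} (f : X ⟶ S) [IsLocallyNoetherian X] [IsLocallyNoetherian S]
    (I : S.IdealSheafData) (h : ∀ n : ℕ, Flat (pullback.snd f (I ^ (n + 1)).subschemeι)) (x : X) (hx : f x ∈ I.support) :
    (f.stalkMap x).hom.Flat := by
  -- affine charts
  obtain ⟨U, hU, hsU, -⟩ := TopologicalSpace.Opens.isBasis_iff_nbhd.mp
    S.isBasis_affineOpens (TopologicalSpace.Opens.mem_top (f x))
  obtain ⟨V, hV, hxV, hVU⟩ := TopologicalSpace.Opens.isBasis_iff_nbhd.mp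
    X.isBasis_affineOpens (show x ∈ f ⁻¹ᵁ U from hsU)
  have : IsNoetherianRing Γ(S, U) := IsLocallyNoetherian.component_noetherian ⟨U, hU⟩
  have : IsNoetherianRing Γ(X, V) := IsLocallyNoetherian.component_noetherian ⟨V, hV⟩
  let _ : Algebra Γ(S, U) Γ(X, V) := (f.appLE U V hVU).hom.toAlgebra
  rw [Groth.Agent.Lib.Helper13.flat_stalkMap_iff U hU V hV hVU hxV]
  let q : Ideal Γ(X, V) := (hV.primeIdealOf ⟨x, hxV⟩).asIdeal
  let p : Ideal Γ(S, U) := (hU.primeIdealOf ⟨f x, hsU⟩).asIdeal
  have hqp : q.LiesOver p :=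
    ⟨congr($(IsAffineOpen.comap_primeIdealOf_appLE U hU V hV hVU hxV).1).symm⟩
  have hap : I.ideal ⟨U, hU⟩ ≤ p := by
    intro r hr
    by_contra hrp
    have h1 : f x ∈ S.basicOpen r :=
      (Groth.Agent.Lib.Helper13.mem_basicOpen_iff_primeIdealOf hU r hsU).mpr hrp
    have h2 := (Scheme.IdealSheafData.mem_support_iff_of_mem (I := I) (U := ⟨U, hU⟩) hsU).mp hx
    rw [Scheme.mem_zeroLocus_iff] at h2
    exact h2 r hr h1
  refine Groth.Agent.Lib.Helper25.PushoutTransfer.flat_localization_of_flat_quotients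
    (I.ideal ⟨U, hU⟩) ?_ q ?_
  · intro n
    set J := I ^ (n + 1) with hJ
    set ι := J.subschemeι with hι
    have H : IsPullback (pullback.fst f ι) (pullback.snd f ι) f ι := IsPullback.of_hasPullback f ι
    set UT : J.subscheme.Opens := ι ⁻¹ᵁ U with hUT
    have hUTaff : IsAffineOpen UT := hU.preimage ι
    have hUTU : UT ≤ ι ⁻¹ᵁ U := le_rfl
    set UY : (pullback f ι).Opens := pullback.fst f ι ⁻¹ᵁ V ⊓ pullback.snd f ι ⁻¹ᵁ UT with hUYdef
    have hUYV : UY ≤ pullback.fst f ι ⁻¹ᵁ V := inf_le_left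
    have hUYT : UY ≤ pullback.snd f ι ⁻¹ᵁ UT := inf_le_right
    have hUY : IsAffineOpen UY := by
      have : IsAffine U := hU
      have : IsAffine UT := hUTaff
      have : IsAffine V := hV
      exact .of_isIso (Scheme.Hom.isPullback_resLE H hUTU hVU hUYdef).isoPullback.hom
    have hpush : IsPushout (f.appLE U V hVU) (ι.appLE U UT hUTU)
        ((pullback.fst f ι).appLE V UY hUYV) ((pullback.snd f ι).appLE UT UY hUYT) :=
      (isIso_pushoutSection_iff H hUTU hVU hUYdef).mp
        (isIso_pushoutSection_of_isAffineOpen H hUTU hVU hUYdef hU hUTaff hV)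
    have hflat : ((pullback.snd f ι).appLE UT UY hUYT).hom.Flat :=
      HasRingHomProperty.appLE @Flat _ (h n) ⟨UT, hUTaff⟩ ⟨UY, hUY⟩ hUYT
    let _ : Algebra Γ(S, U) Γ(J.subscheme, UT) := (ι.appLE U UT hUTU).hom.toAlgebra
    let _ : Algebra Γ(X, V) Γ(pullback f ι, UY) :=
      ((pullback.fst f ι).appLE V UY hUYV).hom.toAlgebra
    let _ : Algebra Γ(J.subscheme, UT) Γ(pullback f ι, UY) :=
      ((pullback.snd f ι).appLE UT UY hUYT).hom.toAlgebra
    let _ : Algebra Γ(S, U) Γ(pullback f ι, UY) :=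
      (((pullback.fst f ι).appLE V UY hUYV).hom.comp (f.appLE U V hVU).hom).toAlgebra
    have : IsScalarTower Γ(S, U) Γ(X, V) Γ(pullback f ι, UY) := .of_algebraMap_eq' rfl
    have : IsScalarTower Γ(S, U) Γ(J.subscheme, UT) Γ(pullback f ι, UY) :=
      .of_algebraMap_eq' <| by
        change ((pullback.fst f ι).appLE V UY hUYV).hom.comp (f.appLE U V hVU).hom =
          ((pullback.snd f ι).appLE UT UY hUYT).hom.comp (ι.appLE U UT hUTU).hom
        rw [← CommRingCat.hom_comp, ← CommRingCat.hom_comp, hpush.w]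
    have : Algebra.IsPushout Γ(S, U) Γ(X, V) Γ(J.subscheme, UT) Γ(pullback f ι, UY) :=
      CommRingCat.isPushout_iff_isPushout.mp hpush
    have : Module.Flat Γ(J.subscheme, UT) Γ(pullback f ι, UY) := hflat
    have happ : ι.appLE U UT hUTU = ι.app U := Scheme.Hom.appLE_eq_app ι
    have hsurj : Function.Surjective (algebraMap Γ(S, U) Γ(J.subscheme, UT)) := by
      change Function.Surjective (ι.appLE U UT hUTU).hom
      rw [happ]
      exact J.subschemeι_app_surjective ⟨U, hU⟩
    have hker : RingHom.ker (algebraMap Γ(S, U) Γ(J.subscheme, UT)) =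
        I.ideal ⟨U, hU⟩ ^ (n + 1) := by
      change RingHom.ker (ι.appLE U UT hUTU).hom = _
      rw [happ]
      exact J.ker_subschemeι_app ⟨U, hU⟩
    exact Groth.Agent.Lib.Helper25.PushoutTransfer.flat_quotient_tensor_of_isPushout
      (R := Γ(S, U)) (B := Γ(X, V)) (Rn := Γ(J.subscheme, UT)) (Bn := Γ(pullback f ι, UY))
      _ hsurj hker
  · rw [Ideal.map_le_iff_le_comap]
    refine hap.trans ?_
    rw [hqp.over]


end Groth.Agent.S9738
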