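import Groth.Statements.S1359
import Groth.Agent.S2156
import Groth.Agent.S9738
import Groth.Agent.Lib.Helper25.FiberSmoothScheme2

set_option autoImplicit false
universe u
open FlatMor

namespace Groth.Agent.S1359

open CategoryTheory CategoryTheory.Limits AlgebraicGeometry Opposite
open AlgebraicGeometry CategoryTheory Limits in
/-- Let S be locally Noetherian, f : X → S of finite type, and Z the closed subscheme of S cut out by an
ideal sheaf I, with infinitesimal neighbourhoods cut out by the powers of I. If the base change of f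
to every infinitesimal neighbourhood is smooth, then every point of X lying over Z is in the smooth
locus of f. -/
theorem result {X S : Scheme.{u}} (f : X ⟶ S) [IsLocallyNoetherian S] [LocallyOfFinitePresentation f] [QuasiCompact f]
    (I : S.IdealSheafData) (h : ∀ n : ℕ, Smooth (pullback.snd f (I ^ (n + 1)).subschemeι)) (x : X) (hx : f x ∈ I.support) :
    x ∈ f.smoothLocus := by
  have : IsLocallyNoetherian X := LocallyOfFiniteType.isLocallyNoetherian f
  have hflat : (f.stalkMap x).hom.Flat :=
    Groth.Agent.S9738.result f I (fun n => inferInstance) x hx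
  set J := I ^ (0 + 1) with hJ
  set ι := J.subschemeι with hι
  have hsm0 : Smooth (pullback.snd f ι) := h 0
  have H : IsPullback (pullback.fst f ι) (pullback.snd f ι) f ι := IsPullback.of_hasPullback f ι
  obtain ⟨s₀, hs₀⟩ : ∃ s₀, ι s₀ = f x := by
    have : f x ∈ Set.range ι := by
      rw [hι, Scheme.IdealSheafData.range_subschemeι]
      exact hx
    exact this
  obtain ⟨y, hy1, hy2⟩ := Scheme.Pullback.exists_preimage_pullback x s₀ hs₀.symm
  set f₀ := pullback.snd f ι with hf₀
  have i1 : LocallyOfFinitePresentation (f₀.fiberToSpecResidueField (f₀.base y)) :=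
    MorphismProperty.pullback_snd _ _ inferInstance
  have i2 : LocallyOfFinitePresentation (f.fiberToSpecResidueField (ι (f₀ y))) :=
    MorphismProperty.pullback_snd _ _ inferInstance
  have hy : y ∈ f₀.smoothLocus := by
    rw [Scheme.Hom.smoothLocus_eq_top]; trivial
  have h1 := ((Groth.Agent.S2156.result f₀ y).mp hy).2
  have hP := isPullback_fiberToSpecResidueField_of_isPullback H (f₀ y)
  have hflatres : Flat (Spec.map (ι.residueFieldMap (f₀ y))) := inferInstance
  have h2 := @Groth.Agent.Lib.Helper25.FiberSmoothScheme.mem_smoothLocus_of_isPullback_of_flat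
    _ _ _ _ _ _ _ _ hP i2 i1 (f₀.asFiber y) (Flat.stalkMap _ _) h1
  set pm := pullback.map f₀ (J.subscheme.fromSpecResidueField (f₀ y)) f
    (S.fromSpecResidueField (ι (f₀ y))) (pullback.fst f ι) (Spec.map (ι.residueFieldMap (f₀ y))) ι
    H.w.symm (by simp) with hpm
  set z := pm (f₀.asFiber y) with hz
  have hzx : f.fiberι (ι (f₀ y)) z = x := by
    have hcomp : pm ≫ f.fiberι (ι (f₀ y)) = f₀.fiberι (f₀ y) ≫ pullback.fst f ι :=
      pullback.lift_fst _ _ _
    have h4 : (pm ≫ f.fiberι (ι (f₀ y))) (f₀.asFiber y) =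
        (f₀.fiberι (f₀ y) ≫ pullback.fst f ι) (f₀.asFiber y) :=
      congrArg (fun φ : f₀.fiber (f₀ y) ⟶ X => φ (f₀.asFiber y)) hcomp
    exact (h4.trans (congrArg (pullback.fst f ι) (f₀.fiberι_asFiber y))).trans hy1
  have hflat' : (f.stalkMap (f.fiberι (ι (f₀ y)) z)).hom.Flat := by
    rw [hzx]; exact hflat
  have h3 := Groth.Agent.Lib.Helper25.FiberSmoothScheme.mem_smoothLocus_of_flat_of_fiber f
    (ι (f₀ y)) z hflat' h2
  rw [hzx] at h3
  exact h3


end Groth.Agent.S1359
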