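import Groth.Statements.S13597
import Groth.Agent.Lib.Helper7.QuotientResidue

set_option autoImplicit false
universe u
open CategoryTheory AlgebraicGeometry
open SGA1

namespace Groth.Agent.S13597

open Groth.Agent.Lib.Helper7.FiniteQuotient Groth.Agent.Lib.Helper7.QuotientResidue
open Pointwise

theorem evaluation_appLE {X Y : Scheme.{u}} (f : X ⟶ Y) (U : Y.Opens) (W : X.Opens)
    (e : W ≤ f ⁻¹ᵁ U) (x : X) (hx : x ∈ W) (s : Γ(Y, U)) :
    (f.residueFieldMap x).hom ((Y.evaluation U (f.base x) (e hx)).hom s) =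
      (X.evaluation W x hx).hom ((f.appLE U W e).hom s) := by
  have h1 := Scheme.evaluation_naturality_apply f x (e hx) s
  have h2 : (X.evaluation W x hx).hom ((f.appLE U W e).hom s) =
      (X.evaluation (f ⁻¹ᵁ U) x (e hx)).hom ((f.app U).hom s) := by
    unfold Scheme.Hom.appLE Scheme.evaluation
    simp only [CommRingCat.hom_comp, RingHom.comp_apply]
    congr 1
    exact TopCat.Presheaf.germ_res_apply X.presheaf (homOfLE e) x hx _
  rw [h2]
  exact h1


/-- Let a finite group G act on a scheme X and let p : X ⟶ Y be a quotient of X by G (affine,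
G-invariant, sections of O_Y = G-invariant sections of O_X). For a point x of X with image y, the
residue field κ(x) is a normal algebraic extension of κ(y) through the map induced by p, and the
stabilizer of x in G maps onto the group of κ(y)-automorphisms of κ(x): every automorphism τ of κ(x)
over κ(y) is the map on residue fields induced by some g ∈ G with g·x = x (composed with the
identification of the residue fields at g·x and x). -/
theorem result {X Y : Scheme.{u}} {G : Type u}
    [Group G] [Finite G] (ρ : G →* Aut X) (p : X ⟶ Y) (hp : SGA1.IsQuot ρ p) (x : X) :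
    (letI := (p.residueFieldMap x).hom.toAlgebra
     Normal (Y.residueField (p.base x)) (X.residueField x)) ∧
    ∀ τ : X.residueField x ≅ X.residueField x,
      p.residueFieldMap x ≫ τ.hom = p.residueFieldMap x →
      ∃ (g : G) (e : (ρ g).hom.base x = x),
        τ.hom = (X.residueFieldCongr e).inv ≫ (ρ g).hom.residueFieldMap x := by
  obtain ⟨_, ⟨V, hV, rfl⟩, hyV, -⟩ :=
    Y.isBasis_affineOpens.exists_subset_of_mem_open (Set.mem_univ (p.base x)) isOpen_univ
  have : IsAffineHom p := hp.affine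
  have hU : IsAffineOpen (p ⁻¹ᵁ V) := hV.preimage p
  have hxU : x ∈ p ⁻¹ᵁ V := hyV
  let _ := (p.app V).hom.toAlgebra
  let _ := mulSemiringAction ρ p hp.inv V
  have := isInvariant hp V
  have := smulCommClass hp V
  have hcomm : ∀ a : Γ(Y, V), (p.residueFieldMap x).hom ((Y.evaluation V (p.base x) hyV).hom a) =
      (X.evaluation (p ⁻¹ᵁ V) x hxU).hom (algebraMap Γ(Y, V) Γ(X, p ⁻¹ᵁ V) a) :=
    fun a => Scheme.evaluation_naturality_apply p x hyV a
  obtain ⟨h1, h2⟩ := normal_and_stabilizer_surjective G (Y.evaluation V (p.base x) hyV).hom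
    (X.evaluation (p ⁻¹ᵁ V) x hxU).hom (p.residueFieldMap x).hom hcomm
    (exists_fraction hV (p.base x) hyV) (exists_fraction hU x hxU)
  refine ⟨h1, ?_⟩
  intro τ hτ
  obtain ⟨g, hg1, hg2⟩ := h2 τ.commRingCatIsoToRingEquiv (fun z => by
    have := congrArg (fun f => f.hom z) hτ
    simp only [CommRingCat.hom_comp, RingHom.comp_apply] at this
    exact this)
  -- the key identity
  have hkey : ∀ (h : G) (hx' : (ρ h).hom.base x ∈ p ⁻¹ᵁ V) (s : Γ(X, p ⁻¹ᵁ V)),
      ((ρ h).hom.residueFieldMap x).hom ((X.evaluation (p ⁻¹ᵁ V) ((ρ h).hom.base x) hx').hom s) =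
        (X.evaluation (p ⁻¹ᵁ V) x hxU).hom ((actHom ρ p hp.inv V h).hom s) := by
    intro h hx' s
    exact evaluation_appLE (ρ h).hom (p ⁻¹ᵁ V) (p ⁻¹ᵁ V) (SGA1.preimage_le_of_inv ρ p hp.inv h V) x hxU s
  have hx' : (ρ g⁻¹).hom.base x ∈ p ⁻¹ᵁ V := SGA1.preimage_le_of_inv ρ p hp.inv g⁻¹ V hxU
  have e : (ρ g⁻¹).hom.base x = x := by
    apply eq_of_ker_evaluation_eq hU _ _ hx' hxU
    ext s
    rw [RingHom.mem_ker, RingHom.mem_ker]
    rw [← map_eq_zero_iff _ ((ρ g⁻¹).hom.residueFieldMap x).hom.injective, hkey g⁻¹ hx' s]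
    have h3 : (actHom ρ p hp.inv V g⁻¹).hom s = g • s := (smul_def ρ p hp.inv V g s).symm
    rw [h3, ← RingHom.mem_ker]
    conv_lhs => rw [← hg1]
    exact Ideal.smul_mem_pointwise_smul_iff
  refine ⟨g⁻¹, e, ?_⟩
  apply CommRingCat.hom_ext
  apply RingHom.ext
  intro z
  obtain ⟨a, s, rfl⟩ := exists_fraction hU x hxU z
  have hval : ∀ b : Γ(X, p ⁻¹ᵁ V), τ.hom.hom ((X.evaluation (p ⁻¹ᵁ V) x hxU).hom b) =
      ((X.residueFieldCongr e).inv ≫ (ρ g⁻¹).hom.residueFieldMap x).hom
        ((X.evaluation (p ⁻¹ᵁ V) x hxU).hom b) := by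
    intro b
    have h4 := hg2 b
    have h5 : ((X.residueFieldCongr e).inv).hom ((X.evaluation (p ⁻¹ᵁ V) x hxU).hom b) =
        (X.evaluation (p ⁻¹ᵁ V) ((ρ g⁻¹).hom.base x) hx').hom b := by
      clear h4 hkey
      generalize (ρ g⁻¹).hom.base x = x' at e hx'
      subst e
      rfl
    rw [CommRingCat.hom_comp, RingHom.comp_apply, h5, hkey g⁻¹ hx' b]
    exact h4
  rw [map_div₀, map_div₀, hval a, hval s]

end Groth.Agent.S13597
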