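import Groth.Statements.S13598
-- import your own Groth.Agent.* helpers here

set_option autoImplicit false
universe u
open Hensel

namespace Groth.Agent.S13598

open Polynomial IsLocalRing in
theorem henselian_of_surjective {S T : Type*} [CommRing S] [CommRing T] [HenselianLocalRing S]
    [IsLocalRing T] (φ : S →+* T) (hφ : Function.Surjective φ) : HenselianLocalRing T where
  is_henselian f hf a₀ h₁ h₂ := by
    have : IsLocalHom φ := IsLocalHom.of_surjective φ hφ
    have hl : f ∈ Polynomial.lifts φ := by
      obtain ⟨F, hF⟩ := Polynomial.map_surjective φ hφ f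
      exact ⟨F, hF⟩
    obtain ⟨F, hF, -, hFm⟩ := Polynomial.lifts_and_natDegree_eq_and_monic hl hf
    obtain ⟨A₀, rfl⟩ := hφ a₀
    subst hF
    have e1 : (F.map φ).eval (φ A₀) = φ (F.eval A₀) := by
      rw [Polynomial.eval_map, Polynomial.eval₂_at_apply]
    have e2 : (derivative (F.map φ)).eval (φ A₀) = φ ((derivative F).eval A₀) := by
      rw [Polynomial.derivative_map, Polynomial.eval_map, Polynomial.eval₂_at_apply]
    rw [e1] at h₁
    rw [e2] at h₂
    have h₁' : F.eval A₀ ∈ maximalIdeal S := by
      rw [← IsLocalRing.maximalIdeal_comap φ]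
      exact h₁
    have h₂' : IsUnit ((derivative F).eval A₀) := (isUnit_map_iff φ _).1 h₂
    obtain ⟨A, hA, hAA⟩ := HenselianLocalRing.is_henselian F hFm A₀ h₁' h₂'
    refine ⟨φ A, ?_, ?_⟩
    · rw [Polynomial.IsRoot.def, Polynomial.eval_map, Polynomial.eval₂_at_apply, hA.eq_zero,
        map_zero]
    · rw [← map_sub]
      exact _root_.map_nonunit φ _ hAA

/-- For a local ring A, a henselization A ⟶ S of A (S a henselian local ring, the structure map local,
and initial among local homomorphisms from A to henselian local rings) and an ideal I of A inside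
the maximal ideal, the quotient S/IS with its induced algebra structure over A/I is a henselization
of A/I. (The local-ring and local-homomorphism instances on the quotients hold automatically; they
are taken as hypotheses only so that the conclusion can be stated.) -/
theorem result {A S : Type u} [CommRing A] [IsLocalRing A] [CommRing S]
    [IsLocalRing S] [Algebra A S] [IsLocalHom (algebraMap A S)] [Hensel.IsHenselization A S]
    (I : Ideal A) (hI : I ≤ IsLocalRing.maximalIdeal A)
    [IsLocalRing (A ⧸ I)] [IsLocalRing (S ⧸ I.map (algebraMap A S))]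
    [IsLocalHom (algebraMap (A ⧸ I) (S ⧸ I.map (algebraMap A S)))] :
    Hensel.IsHenselization (A ⧸ I) (S ⧸ I.map (algebraMap A S)) := by
  have hS : HenselianLocalRing S := Hensel.IsHenselization.henselian (R := A)
  refine ⟨henselian_of_surjective (Ideal.Quotient.mk (I.map (algebraMap A S)))
    Ideal.Quotient.mk_surjective, ?_⟩
  intro T _ _ f hf
  have hmk : IsLocalHom (Ideal.Quotient.mk I) :=
    IsLocalHom.of_surjective _ Ideal.Quotient.mk_surjective
  have hloc : IsLocalHom (f.comp (Ideal.Quotient.mk I)) := RingHom.isLocalHom_comp _ _
  obtain ⟨g, hg, hguniq⟩ := Hensel.IsHenselization.universal (R := A) (S := S) T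
    (f.comp (Ideal.Quotient.mk I)) hloc
  have hker : ∀ a ∈ I.map (algebraMap A S), g a = 0 := by
    intro a ha
    have : I.map (algebraMap A S) ≤ RingHom.ker g := by
      rw [Ideal.map_le_iff_le_comap]
      intro x hx
      rw [Ideal.mem_comap, RingHom.mem_ker]
      have := congrArg (fun h => h x) hg
      simp only [RingHom.comp_apply] at this
      rw [this, Ideal.Quotient.eq_zero_iff_mem.2 hx, map_zero]
    exact this ha
  refine ⟨Ideal.Quotient.lift _ g hker, ?_, ?_⟩
  · apply Ideal.Quotient.ringHom_ext
    ext x
    simp only [RingHom.comp_apply]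
    rw [Ideal.Quotient.algebraMap_quotient_map_quotient, Ideal.Quotient.lift_mk]
    have := congrArg (fun h => h x) hg
    simpa using this
  · intro g' hg'
    apply Ideal.Quotient.ringHom_ext
    have : g'.comp (Ideal.Quotient.mk _) = g := by
      apply hguniq
      ext x
      have := congrArg (fun h => h (Ideal.Quotient.mk I x)) hg'
      simp only [RingHom.comp_apply] at this ⊢
      rw [Ideal.Quotient.algebraMap_quotient_map_quotient] at this
      exact this
    rw [this]
    ext x
    simp

end Groth.Agent.S13598
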