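import Groth.Statements.S1360
import Groth.Agent.S1359
import Groth.Agent.Lib.Helper25.UnramQuot
import Groth.Agent.Lib.Helper13.SchemeLocal

set_option autoImplicit false
universe u
open FlatMor

namespace Groth.Agent.S1360

open AlgebraicGeometry CategoryTheory Limits in
/-- Let S be locally Noetherian, f : X → S of finite type, and Z the closed subscheme of S cut out by an
ideal sheaf I. If the base change of f to every infinitesimal neighbourhood of Z is étale, then
every point of X over Z has an open neighbourhood on which f is étale. -/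
theorem result {X S : Scheme.{u}} (f : X ⟶ S) [IsLocallyNoetherian S] [LocallyOfFinitePresentation f] [QuasiCompact f]
    (I : S.IdealSheafData) (h : ∀ n : ℕ, Etale (pullback.snd f (I ^ (n + 1)).subschemeι)) (x : X) (hx : f x ∈ I.support) :
    ∃ U : X.Opens, x ∈ U ∧ Etale (U.ι ≫ f) := by
  have hsm : x ∈ f.smoothLocus := Groth.Agent.S1359.result f I (fun n => inferInstance) x hx
  have hunr : (f.stalkMap x).hom.FormallyUnramified := by
    obtain ⟨U, hU, hsU, -⟩ := TopologicalSpace.Opens.isBasis_iff_nbhd.mp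
      S.isBasis_affineOpens (TopologicalSpace.Opens.mem_top (f x))
    obtain ⟨V, hV, hxV, hVU⟩ := TopologicalSpace.Opens.isBasis_iff_nbhd.mp
      X.isBasis_affineOpens (show x ∈ f ⁻¹ᵁ U from hsU)
    have hft := f.finiteType_appLE hU hV hVU
    let _ : Algebra Γ(S, U) Γ(X, V) := (f.appLE U V hVU).hom.toAlgebra
    have : Algebra.FiniteType Γ(S, U) Γ(X, V) := hft
    rw [Groth.Agent.Lib.Helper13.formallyUnramified_stalkMap_iff U hU V hV hVU hxV]
    let q : Ideal Γ(X, V) := (hV.primeIdealOf ⟨x, hxV⟩).asIdeal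
    let p : Ideal Γ(S, U) := (hU.primeIdealOf ⟨f x, hsU⟩).asIdeal
    have hqp : q.LiesOver p :=
      ⟨congr($(IsAffineOpen.comap_primeIdealOf_appLE U hU V hV hVU hxV).1).symm⟩
    have hap : I.ideal ⟨U, hU⟩ ≤ p := by
      intro r hr
      by_contra hrp
      have h1 : f x ∈ S.basicOpen r :=
        (Groth.Agent.Lib.Helper13.mem_basicOpen_iff_primeIdealOf hU r hsU).mpr hrp
      have h2 := (Scheme.IdealSheafData.mem_support_iff_of_mem (I := I) (U := ⟨U, hU⟩) hsU).mp hx
      rw [Scheme.mem_zeroLocus_iff] at h2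
      exact h2 r hr h1
    set J := I ^ (0 + 1) with hJ
    set ι := J.subschemeι with hι
    have H : IsPullback (pullback.fst f ι) (pullback.snd f ι) f ι := IsPullback.of_hasPullback f ι
    set UT : J.subscheme.Opens := ι ⁻¹ᵁ U with hUT
    have hUTaff : IsAffineOpen UT := hU.preimage ι
    have hUTU : UT ≤ ι ⁻¹ᵁ U := le_rfl
    set UY : (pullback f ι).Opens := pullback.fst f ι ⁻¹ᵁ V ⊓ pullback.snd f ι ⁻¹ᵁ UT with hUYdef
    have hUYV : UY ≤ pullback.fst f ι ⁻¹ᵁ V := inf_le_left
    have hUYT : UY ≤ pullback.snd f ι ⁻¹ᵁ UT := inf_le_right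
    have hUY : IsAffineOpen UY := by
      have : IsAffine U := hU
      have : IsAffine UT := hUTaff
      have : IsAffine V := hV
      exact .of_isIso (Scheme.Hom.isPullback_resLE H hUTU hVU hUYdef).isoPullback.hom
    have hpush : IsPushout (f.appLE U V hVU) (ι.appLE U UT hUTU)
        ((pullback.fst f ι).appLE V UY hUYV) ((pullback.snd f ι).appLE UT UY hUYT) :=
      (isIso_pushoutSection_iff H hUTU hVU hUYdef).mp
        (isIso_pushoutSection_of_isAffineOpen H hUTU hVU hUYdef hU hUTaff hV)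
    have het : Etale (pullback.snd f ι) := h 0
    have hunr0 : ((pullback.snd f ι).appLE UT UY hUYT).hom.FormallyUnramified :=
      HasRingHomProperty.appLE @FormallyUnramified _ inferInstance ⟨UT, hUTaff⟩ ⟨UY, hUY⟩ hUYT
    let _ : Algebra Γ(S, U) Γ(J.subscheme, UT) := (ι.appLE U UT hUTU).hom.toAlgebra
    let _ : Algebra Γ(X, V) Γ(pullback f ι, UY) :=
      ((pullback.fst f ι).appLE V UY hUYV).hom.toAlgebra
    let _ : Algebra Γ(J.subscheme, UT) Γ(pullback f ι, UY) :=
      ((pullback.snd f ι).appLE UT UY hUYT).hom.toAlgebra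
    let _ : Algebra Γ(S, U) Γ(pullback f ι, UY) :=
      (((pullback.fst f ι).appLE V UY hUYV).hom.comp (f.appLE U V hVU).hom).toAlgebra
    have : IsScalarTower Γ(S, U) Γ(X, V) Γ(pullback f ι, UY) := .of_algebraMap_eq' rfl
    have : IsScalarTower Γ(S, U) Γ(J.subscheme, UT) Γ(pullback f ι, UY) :=
      .of_algebraMap_eq' <| by
        change ((pullback.fst f ι).appLE V UY hUYV).hom.comp (f.appLE U V hVU).hom =
          ((pullback.snd f ι).appLE UT UY hUYT).hom.comp (ι.appLE U UT hUTU).hom
        rw [← CommRingCat.hom_comp, ← CommRingCat.hom_comp, hpush.w]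
    have : Algebra.IsPushout Γ(S, U) Γ(X, V) Γ(J.subscheme, UT) Γ(pullback f ι, UY) :=
      CommRingCat.isPushout_iff_isPushout.mp hpush
    have : Algebra.FormallyUnramified Γ(J.subscheme, UT) Γ(pullback f ι, UY) := hunr0
    have happ : ι.appLE U UT hUTU = ι.app U := Scheme.Hom.appLE_eq_app ι
    have hsurj : Function.Surjective (algebraMap Γ(S, U) Γ(J.subscheme, UT)) := by
      change Function.Surjective (ι.appLE U UT hUTU).hom
      rw [happ]
      exact J.subschemeι_app_surjective ⟨U, hU⟩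
    have hker : RingHom.ker (algebraMap Γ(S, U) Γ(J.subscheme, UT)) =
        I.ideal ⟨U, hU⟩ ^ (0 + 1) := by
      change RingHom.ker (ι.appLE U UT hUTU).hom = _
      rw [happ]
      exact J.ker_subschemeι_app ⟨U, hU⟩
    refine Groth.Agent.Lib.Helper25.UnramQuot.mem_unramifiedLocus_of_quotient
      (R := Γ(S, U)) (B := Γ(X, V)) (Rn := Γ(J.subscheme, UT)) (Bn := Γ(pullback f ι, UY))
      hsurj (hV.primeIdealOf ⟨x, hxV⟩) ?_
    rw [hker, zero_add, pow_one, Ideal.map_le_iff_le_comap]
    refine hap.trans ?_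
    rw [hqp.over]
  obtain ⟨W, hxW, hW⟩ :=
    Groth.Agent.Lib.Helper13.exists_open_forall_formallyUnramified_stalkMap f x hunr
  refine ⟨W ⊓ f.smoothLocus, ⟨hxW, hsm⟩, ?_⟩
  exact Groth.Agent.Lib.Helper13.etale_ι_comp_of_forall f _ inf_le_right (fun z hz => hW z hz.1)


end Groth.Agent.S1360
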