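import Groth.Statements.S13602
import Groth.Agent.Lib27.Sch.FinBasic

set_option autoImplicit false
universe u
open CategoryTheory AlgebraicGeometry
open SymProd

namespace Groth.Agent.S13602

/-- Let f : X ⟶ S be a morphism of schemes satisfying (AF): every finite set of points of X over a
single point of S lies in an affine open of X. Then for every d ≥ 0 and every point x of the d-fold
fibre power X ×_S ⋯ ×_S X, some affine open of the fibre power contains the whole orbit of x under
the symmetric group on d letters permuting the factors. (With the existence of a quotient by a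
finite group whose orbits lie in affine opens, this is the existence of the symmetric power
Sym^d(X/S) for X/S satisfying (AF).) -/
theorem result {X S : Scheme.{u}} (f : X ⟶ S) (hAF : SymProd.IsAF f)
    (d : ℕ) (x : ↥(SymProd.fibPow f d)) :
    ∃ U : (SymProd.fibPow f d).Opens, IsAffineOpen U ∧
      ∀ σ : Equiv.Perm (Fin d), (SymProd.permHom f d σ).base x ∈ U := by
  classical
  set s : S := (Limits.WidePullback.base (fun _ : Fin d => f)) x with hs
  set xi : Fin d → X := fun i => (Limits.WidePullback.π (fun _ : Fin d => f) i) x with hxi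
  have hfx : ∀ i, f (xi i) = s := by
    intro i
    rw [hxi, hs, ← Scheme.Hom.comp_apply, Limits.WidePullback.π_arrow]
  obtain ⟨U₀, hU₀, hU₀mem⟩ := hAF s (Finset.univ.image xi) (by
    intro y hy
    obtain ⟨i, -, rfl⟩ := Finset.mem_image.mp hy
    exact hfx i)
  obtain ⟨V, hV, hsV⟩ : ∃ V : S.Opens, IsAffineOpen V ∧ s ∈ V := by
    obtain ⟨_, ⟨V, hV, rfl⟩, hsV, -⟩ := S.isBasis_affineOpens.exists_subset_of_mem_open
      (Set.mem_univ s) isOpen_univ
    exact ⟨V, hV, hsV⟩
  obtain ⟨g, hTg, hgW⟩ := Groth.Agent.Lib27.FinBasic.exists_basicOpen_of_finite hU₀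
    (Set.range xi) (Set.finite_range xi)
    (by rintro _ ⟨i, rfl⟩; exact hU₀mem _ (Finset.mem_image.mpr ⟨i, Finset.mem_univ _, rfl⟩))
    (f ⁻¹ᵁ V)
    (by rintro _ ⟨i, rfl⟩; show f (xi i) ∈ V; rw [hfx]; exact hsV)
  have hU : IsAffineOpen (X.basicOpen g) := hU₀.basicOpen g
  refine ⟨_, Groth.Agent.Lib27.FinBasic.isAffineOpen_fibPow f d V hV (X.basicOpen g) hU hgW, ?_⟩
  intro σ
  refine ⟨?_, ?_⟩
  · show (Limits.WidePullback.base (fun _ : Fin d => f)) ((SymProd.permHom f d σ) x) ∈ V
    rw [← Scheme.Hom.comp_apply, SymProd.permHom_base]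
    exact hsV
  · simp only [TopologicalSpace.Opens.coe_iInf, Set.mem_iInter]
    intro i
    show (Limits.WidePullback.π (fun _ : Fin d => f) i) ((SymProd.permHom f d σ) x) ∈ X.basicOpen g
    rw [← Scheme.Hom.comp_apply, SymProd.permHom_π]
    exact hTg ⟨σ.symm i, rfl⟩

end Groth.Agent.S13602
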