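import Groth.Statements.S13603
-- import your own Groth.Agent.* helpers here

set_option autoImplicit false
universe u v
open CAlg

namespace Groth.Agent.S13603

section helpers


end helpers

/-- Let a group G act on a commutative ring B by ring automorphisms so that every element of B has a
finite orbit, and let S ⊆ B be a multiplicative set of G-fixed elements (so each g ∈ G induces an
endomorphism of the localization S⁻¹B; the hypothesis that g maps S into S is implied by the
previous one and is only carried to name that endomorphism). Then an element of S⁻¹B is fixed by all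
of G if and only if it is a fraction b/s with b fixed by G and s ∈ S: the canonical map S⁻¹(B^G) →
(S⁻¹B)^G is onto. -/
theorem result {B : Type u} [CommRing B]
    {G : Type v} [Group G] [MulSemiringAction G B] (hfin : ∀ b : B, (MulAction.orbit G b).Finite)
    (S : Submonoid B) (hS : ∀ (g : G) (s : B), s ∈ S → g • s = s)
    (hS' : ∀ g : G, S ≤ S.comap (MulSemiringAction.toRingHom G B g)) (x : Localization S) :
    (∀ g : G, IsLocalization.map (Localization S) (MulSemiringAction.toRingHom G B g) (hS' g) x = x) ↔
      ∃ (b : B) (s : S), (∀ g : G, g • b = b) ∧ x = IsLocalization.mk' (Localization S) b s := by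
  classical
  constructor
  · intro hx
    obtain ⟨b₀, s₀, rfl⟩ := IsLocalization.exists_mk'_eq S x
    -- for each element of the orbit, a witness in S
    have hw : ∀ c ∈ MulAction.orbit G b₀, ∃ t : S, (t : B) * c = t * b₀ := by
      rintro _ ⟨g, rfl⟩
      have h1 := hx g
      rw [IsLocalization.map_mk'] at h1
      have h2 : (⟨MulSemiringAction.toRingHom G B g s₀, hS' g s₀.2⟩ : S) = s₀ :=
        Subtype.ext (hS g s₀ s₀.2)
      rw [h2, IsLocalization.eq] at h1
      obtain ⟨c, hc⟩ := h1
      refine ⟨c * s₀, ?_⟩
      simpa [mul_assoc] using hc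
    choose! t ht using hw
    let T : S := ∏ c ∈ (hfin b₀).toFinset, t c
    have hT : ∀ c ∈ MulAction.orbit G b₀, (T : B) * c = T * b₀ := by
      intro c hc
      have hc' : c ∈ (hfin b₀).toFinset := (Set.Finite.mem_toFinset _).mpr hc
      have : T = (∏ c' ∈ (hfin b₀).toFinset.erase c, t c') * t c := by
        simp only [T]
        rw [Finset.prod_erase_mul _ _ hc']
      rw [this]
      simp only [Submonoid.coe_mul, mul_assoc]
      rw [ht c hc]
    refine ⟨T * b₀, T * s₀, ?_, ?_⟩
    · intro g
      rw [smul_mul', hS g T T.2]
      exact hT _ ⟨g, rfl⟩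
    · rw [IsLocalization.eq]
      refine ⟨1, ?_⟩
      simp only [Submonoid.coe_mul, OneMemClass.coe_one, one_mul]
      ring
  · rintro ⟨b, s, hb, rfl⟩ g
    rw [IsLocalization.map_mk']
    congr 1
    · exact hb g
    · exact Subtype.ext (hS g s s.2)

end Groth.Agent.S13603
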