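import Groth.Statements.S2908
import Groth.Agent.Lib.Helper7.FiniteQuotient

set_option autoImplicit false
open CategoryTheory CategoryTheory.Limits AlgebraicGeometry
universe u
open SGA1

namespace Groth.Agent.S2908

/-- Let a finite group G act on a scheme X and let p : X ⟶ Y be a quotient of X by G. Then p is
surjective, two points of X have the same image exactly when they lie in one G-orbit, and the
topology of Y is the quotient topology. -/
theorem result {X Y : Scheme.{u}} {G : Type u} [Group G] [Finite G] (ρ : G →* Aut X)
    (p : X ⟶ Y) (hp : SGA1.IsQuot ρ p) :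
    Function.Surjective p.base ∧ (∀ x x' : X, p.base x = p.base x' ↔ ∃ g : G, (ρ g).hom.base x = x') ∧
      Topology.IsQuotientMap p.base := by
  exact ⟨Groth.Agent.Lib.Helper7.FiniteQuotient.surjective hp,
    Groth.Agent.Lib.Helper7.FiniteQuotient.app_eq_iff hp,
    Groth.Agent.Lib.Helper7.FiniteQuotient.isQuotientMap hp⟩

end Groth.Agent.S2908
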