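import Groth.Statements.S13605
import Groth.Agent.Lib27.Sch.FinBasic
import Groth.Agent.Lib.Helper7.QuotientAffine
import Groth.Agent.S2908

set_option autoImplicit false
universe u
open CategoryTheory AlgebraicGeometry
open CategoryTheory.Limits
open SymProd

namespace Groth.Agent.S13605

/-- Let f : X ⟶ S be a morphism of schemes satisfying (AF) (every finite set of points of X over a
single point of S lies in an affine open of X), let 𝒮 be a cover of S by affine opens, let d ≥ 1 and
let (Y, q, g) be a d-th symmetric power of X over S: q : X ×_S ⋯ ×_S X ⟶ Y is a quotient by the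
symmetric group on d letters permuting the factors (affine, invariant, sections of O_Y = invariant
sections) and q ≫ g is the structure map of the fibre power. Then Y is covered by affine opens of
the form Sym^d(U/V) with V in the given cover: for every point y of Y there are V ∈ 𝒮 and an affine
open U ⊆ f⁻¹V of X such that the open W = ⋂_i pr_i⁻¹ U of the fibre power (the fibre power of U over
V) is affine and stable under every permutation of the factors, and an affine open W' of Y
containing y with q⁻¹ W' = W. (The published statement also fixes an affine open cover of X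
subordinate to the cover of S, in which any d points over a common point of a member V lie in a
common member mapping into V, and concludes that the corresponding opens Sym^d(U/V) cover Y; this
row states the pointwise form, producing U for each y.) -/
theorem result {X S Y : Scheme.{u}} (f : X ⟶ S) (hAF : SymProd.IsAF f)
    (𝒮 : Set S.Opens) (h𝒮 : ∀ V ∈ 𝒮, IsAffineOpen V) (hcov : ∀ s : S, ∃ V ∈ 𝒮, s ∈ V)
    (d : ℕ) (hd : 0 < d) (q : SymProd.fibPow f d ⟶ Y) (g : Y ⟶ S) (hq : SymProd.IsSymProd f d q g) (y : Y) :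
    ∃ V ∈ 𝒮, ∃ U : X.Opens, IsAffineOpen U ∧ U ≤ f ⁻¹ᵁ V ∧
      ∃ W : (SymProd.fibPow f d).Opens,
        (W : Set ↥(SymProd.fibPow f d)) =
          ⋂ i : Fin d, (WidePullback.π (fun _ : Fin d => f) i).base ⁻¹' (U : Set X) ∧
        IsAffineOpen W ∧ (∀ σ : Equiv.Perm (Fin d), (SymProd.permHom f d σ) ⁻¹ᵁ W = W) ∧
        ∃ W' : Y.Opens, y ∈ W' ∧ IsAffineOpen W' ∧ q ⁻¹ᵁ W' = W := by
  classical
  have hQ := hq.isQuot
  obtain ⟨hsurj, horb, hquot⟩ := Groth.Agent.S2908.result (SymProd.permActU f d) q hQ
  obtain ⟨x, rfl⟩ := hsurj y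
  set s : S := (Limits.WidePullback.base (fun _ : Fin d => f)) x with hs
  set xi : Fin d → X := fun i => (Limits.WidePullback.π (fun _ : Fin d => f) i) x with hxi
  have hfx : ∀ i, f (xi i) = s := by
    intro i
    rw [hxi, hs, ← Scheme.Hom.comp_apply, Limits.WidePullback.π_arrow]
  obtain ⟨U₀, hU₀, hU₀mem⟩ := hAF s (Finset.univ.image xi) (by
    intro y hy
    obtain ⟨i, -, rfl⟩ := Finset.mem_image.mp hy
    exact hfx i)
  obtain ⟨V, hV𝒮, hsV⟩ := hcov s
  have hV : IsAffineOpen V := h𝒮 V hV𝒮
  obtain ⟨a, hTa, haW⟩ := Groth.Agent.Lib27.FinBasic.exists_basicOpen_of_finite hU₀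
    (Set.range xi) (Set.finite_range xi)
    (by rintro _ ⟨i, rfl⟩; exact hU₀mem _ (Finset.mem_image.mpr ⟨i, Finset.mem_univ _, rfl⟩))
    (f ⁻¹ᵁ V)
    (by rintro _ ⟨i, rfl⟩; show f (xi i) ∈ V; rw [hfx]; exact hsV)
  have hU : IsAffineOpen (X.basicOpen a) := hU₀.basicOpen a
  refine ⟨V, hV𝒮, X.basicOpen a, hU, haW, ?_⟩
  set W : (SymProd.fibPow f d).Opens := (Limits.WidePullback.base (fun _ : Fin d => f)) ⁻¹ᵁ V ⊓
      ⨅ i : Fin d, (Limits.WidePullback.π (fun _ : Fin d => f) i) ⁻¹ᵁ (X.basicOpen a) with hW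
  have hWaff : IsAffineOpen W :=
    Groth.Agent.Lib27.FinBasic.isAffineOpen_fibPow f d V hV (X.basicOpen a) hU haW
  have hmemW : ∀ p : ↥(SymProd.fibPow f d), p ∈ W ↔
      ∀ i : Fin d, (Limits.WidePullback.π (fun _ : Fin d => f) i) p ∈ X.basicOpen a := by
    intro p
    constructor
    · intro hp i
      have := hp.2
      simp only [TopologicalSpace.Opens.coe_iInf, Set.mem_iInter] at this
      exact this i
    · intro hp
      refine ⟨?_, ?_⟩
      · show (Limits.WidePullback.base (fun _ : Fin d => f)) p ∈ V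
        have h0 := hp ⟨0, hd⟩
        have : (Limits.WidePullback.base (fun _ : Fin d => f)) p =
            f ((Limits.WidePullback.π (fun _ : Fin d => f) ⟨0, hd⟩) p) := by
          rw [← Scheme.Hom.comp_apply, Limits.WidePullback.π_arrow]
        rw [this]
        exact haW h0
      · simp only [TopologicalSpace.Opens.coe_iInf, Set.mem_iInter]
        exact hp
  have hstab : ∀ σ : Equiv.Perm (Fin d), (SymProd.permHom f d σ) ⁻¹ᵁ W = W := by
    intro σ
    ext p
    show (SymProd.permHom f d σ) p ∈ W ↔ p ∈ W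
    rw [hmemW, hmemW]
    constructor
    · intro h i
      have := h (σ i)
      rw [← Scheme.Hom.comp_apply, SymProd.permHom_π] at this
      simpa using this
    · intro h i
      rw [← Scheme.Hom.comp_apply, SymProd.permHom_π]
      exact h _
  have hxW : x ∈ W := (hmemW x).mpr (fun i => hTa ⟨i, rfl⟩)
  refine ⟨W, ?_, hWaff, hstab, ?_⟩
  · ext p
    simp only [Set.mem_iInter, Set.mem_preimage, SetLike.mem_coe]
    exact hmemW p
  -- the image of W in Y
  have hsat : q ⁻¹' (q '' (W : Set ↥(SymProd.fibPow f d))) = W := by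
    ext p
    constructor
    · rintro ⟨w, hw, hwp⟩
      obtain ⟨σ, hσ⟩ := (horb w p).mp hwp
      have h1 : (SymProd.permHom f d σ.down) w ∈ W := by
        have : w ∈ (SymProd.permHom f d σ.down) ⁻¹ᵁ W := by rw [hstab]; exact hw
        exact this
      rw [SymProd.permActU_hom] at hσ
      rw [← hσ]
      exact h1
    · intro hp
      exact ⟨p, hp, rfl⟩
  have hopen : IsOpen (q '' (W : Set ↥(SymProd.fibPow f d))) := by
    rw [← hquot.isOpen_preimage, hsat]
    exact W.isOpen
  set W' : Y.Opens := ⟨q '' (W : Set ↥(SymProd.fibPow f d)), hopen⟩ with hW'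
  have hpre : q ⁻¹ᵁ W' = W := by
    ext p
    show p ∈ q ⁻¹' (q '' (W : Set ↥(SymProd.fibPow f d))) ↔ p ∈ W
    rw [hsat]; rfl
  refine ⟨W', ⟨x, hxW, rfl⟩, ?_, hpre⟩
  apply Groth.Agent.Lib.Helper7.FiniteQuotient.isAffineOpen_of_isQuot hQ W'
  rw [hpre]
  exact hWaff

end Groth.Agent.S13605
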