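import Groth.Statements.S13608
import Mathlib.RingTheory.Finiteness.Ideal

set_option autoImplicit false
universe u v
open CAlg

namespace Groth.Agent.S13608

section helpers

theorem exists_sum_of_mem_span_smul {A L : Type*} [CommRing A] [AddCommGroup L] [Module A L]
    (s : Finset A) (N : Submodule A L) (w : L) (hw : w ∈ Ideal.span (s : Set A) • N) :
    ∃ c : A → L, (∀ a, c a ∈ N) ∧ w = ∑ a ∈ s, a • c a := by
  refine Submodule.smul_induction_on hw ?_ ?_
  · intro r hr n hn
    obtain ⟨d, -, hd⟩ := Submodule.mem_span_finset.mp hr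
    refine ⟨fun a => d a • n, fun a => N.smul_mem _ hn, ?_⟩
    rw [← hd, Finset.sum_smul]
    refine Finset.sum_congr rfl fun a _ => ?_
    rw [smul_eq_mul, mul_comm, mul_smul]
  · rintro x y ⟨c₁, hc₁, rfl⟩ ⟨c₂, hc₂, rfl⟩
    refine ⟨fun a => c₁ a + c₂ a, fun a => N.add_mem (hc₁ a) (hc₂ a), ?_⟩
    simp [smul_add, Finset.sum_add_distrib]

theorem result_aux
    (A : Type u) [CommRing A] (I : Ideal A) (hI : I.FG)
    (M : ℕ → Type v) [∀ n, AddCommGroup (M n)] [∀ n, Module A (M n)]
    (f : ∀ n, M (n + 1) →ₗ[A] M n)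
    (hkill : ∀ n, I ^ (n + 1) • (⊤ : Submodule A (M n)) = ⊥)
    (L : Type v) [AddCommGroup L] [Module A L] (π : ∀ n, L →ₗ[A] M n)
    (hπ : ∀ n, f n ∘ₗ π (n + 1) = π n)
    (hinj : ∀ x : L, (∀ n, π n x = 0) → x = 0)
    (hlift : ∀ y : (∀ n, M n), (∀ n, f n (y (n + 1)) = y n) → ∃ x : L, ∀ n, π n x = y n) :
    IsAdicComplete I L := by
  have hπ' : ∀ n (w : L), f n (π (n + 1) w) = π n w := fun n w => by
    rw [← hπ n]; rfl
  have hzero : ∀ m (w : L), w ∈ I ^ (m + 1) • (⊤ : Submodule A L) → π m w = 0 := by
    intro m w hw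
    have h1 : π m w ∈ Submodule.map (π m) (I ^ (m + 1) • (⊤ : Submodule A L)) :=
      Submodule.mem_map_of_mem hw
    rw [Submodule.map_smul''] at h1
    have h2 : I ^ (m + 1) • Submodule.map (π m) (⊤ : Submodule A L) ≤
        I ^ (m + 1) • (⊤ : Submodule A (M m)) := Submodule.smul_mono le_rfl le_top
    have h3 := h2 h1
    rw [hkill m] at h3
    simpa using h3
  have hzero' : ∀ m j (w : L), m + 1 ≤ j → w ∈ I ^ j • (⊤ : Submodule A L) → π m w = 0 := by
    intro m j w hj hw
    exact hzero m w (Submodule.smul_mono (Ideal.pow_le_pow_right hj) le_rfl hw)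
  have hH : IsHausdorff I L := by
    refine ⟨fun x hx => hinj x fun n => hzero n x ?_⟩
    have := hx (n + 1)
    rw [SModEq.zero] at this
    simpa using this
  have hP : IsPrecomplete I L := by
    refine ⟨fun x hx => ?_⟩
    -- differences
    have hdiff : ∀ m n, m ≤ n → x n - x m ∈ I ^ m • (⊤ : Submodule A L) := by
      intro m n hmn
      have := (hx hmn).symm
      rw [SModEq.sub_mem] at this
      simpa using this
    have hπx : ∀ m n n', m + 1 ≤ n → m + 1 ≤ n' → π m (x n) = π m (x n') := by
      intro m n n' h h'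
      have h1 : π m (x n - x (m + 1)) = 0 := hzero m _ (by simpa using hdiff (m + 1) n h)
      have h2 : π m (x n' - x (m + 1)) = 0 := hzero m _ (by simpa using hdiff (m + 1) n' h')
      rw [map_sub, sub_eq_zero] at h1 h2
      rw [h1, h2]
    obtain ⟨z, hz⟩ := hlift (fun n => π n (x (n + 1))) (fun n => by
      rw [hπ']
      exact hπx n _ _ (by omega) le_rfl)
    refine ⟨z, fun k => ?_⟩
    -- finite generation of I ^ k
    obtain ⟨s, hs⟩ := Ideal.FG.pow (n := k) hI
    have hd : ∀ l, ∃ c : A → L, (∀ a, c a ∈ I ^ l • (⊤ : Submodule A L)) ∧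
        x (k + l + 1) - x (k + l) = ∑ a ∈ s, a • c a := by
      intro l
      apply exists_sum_of_mem_span_smul
      rw [hs, ← Submodule.mul_smul, ← pow_add]
      exact hdiff (k + l) (k + l + 1) (by omega)
    choose c hc hcsum using hd
    have hw : ∀ a, ∃ w : L, ∀ m, π m w = ∑ l ∈ Finset.range (m + 1), π m (c l a) := by
      intro a
      apply hlift (fun m => ∑ l ∈ Finset.range (m + 1), π m (c l a))
      intro m
      rw [map_sum, Finset.sum_range_succ (n := m + 1)]
      simp only [hπ']
      rw [hzero m (c (m + 1) a) (hc (m + 1) a), add_zero]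
    choose w hw using hw
    have key : z - x k = ∑ a ∈ s, a • w a := by
      rw [← sub_eq_zero]
      apply hinj
      intro m
      rw [map_sub, map_sub, map_sum, hz m]
      have h1 : ∑ a ∈ s, π m (a • w a) = π m (x (k + m + 1) - x k) := by
        have : ∀ a ∈ s, π m (a • w a) = ∑ l ∈ Finset.range (m + 1), π m (a • c l a) := by
          intro a _
          rw [map_smul, hw a m, Finset.smul_sum]
          simp only [map_smul]
        rw [Finset.sum_congr rfl this, Finset.sum_comm]
        have h2 : ∀ l ∈ Finset.range (m + 1), ∑ a ∈ s, π m (a • c l a) =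
            π m (x (k + (l + 1))) - π m (x (k + l)) := by
          intro l _
          rw [← map_sum, ← hcsum l, map_sub]
          rfl
        rw [Finset.sum_congr rfl h2, Finset.sum_range_sub (fun l => π m (x (k + l))), map_sub]
        rfl
      rw [h1, map_sub, hπx m (m + 1) (k + m + 1) le_rfl (by omega)]
      abel
    have hmem : x k - z ∈ I ^ k • (⊤ : Submodule A L) := by
      have : x k - z = - ∑ a ∈ s, a • w a := by rw [← key]; abel
      rw [this]
      refine Submodule.neg_mem _ (Submodule.sum_mem _ fun a ha => ?_)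
      refine Submodule.smul_mem_smul ?_ Submodule.mem_top
      rw [← hs]
      exact Ideal.subset_span ha
    rw [SModEq.sub_mem]
    exact hmem
  exact { toIsHausdorff := hH, toIsPrecomplete := hP }

end helpers

/-- Let A be a commutative ring, I a finitely generated ideal of A and (M_n) an inverse system of
A-modules with transition maps f_n : M_(n+1) → M_n such that I^(n+1) M_n = 0 for every n. If L is an
inverse limit of the system (projections π_n compatible with the f_n, jointly injective, and such
that every compatible family of elements lifts to L), then L is complete and separated for the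
I-adic topology. No surjectivity of the transition maps is assumed. -/
theorem result
    (A : Type u) [CommRing A] (I : Ideal A) (hI : I.FG)
    (M : ℕ → Type v) [∀ n, AddCommGroup (M n)] [∀ n, Module A (M n)]
    (f : ∀ n, M (n + 1) →ₗ[A] M n)
    (hkill : ∀ n, I ^ (n + 1) • (⊤ : Submodule A (M n)) = ⊥)
    (L : Type v) [AddCommGroup L] [Module A L] (π : ∀ n, L →ₗ[A] M n)
    (hπ : ∀ n, f n ∘ₗ π (n + 1) = π n)
    (hinj : ∀ x : L, (∀ n, π n x = 0) → x = 0)
    (hlift : ∀ y : (∀ n, M n), (∀ n, f n (y (n + 1)) = y n) → ∃ x : L, ∀ n, π n x = y n) :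
    IsAdicComplete I L := by
  exact result_aux A I hI M f hkill L π hπ hinj hlift

end Groth.Agent.S13608
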