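import Groth.Statements.S13615
import Mathlib
import Groth.Agent.Lib.Helper4.AR2
import Groth.Agent.Lib.Helper22.EtStalk.ClosedOpen
import Groth.Agent.Lib.Helper22.EtStalk.IsoStalks

set_option autoImplicit false
open CategoryTheory CategoryTheory.Limits AlgebraicGeometry Opposite
universe u
open EtModW

namespace Groth.Agent.S13615


open Groth.Agent.Lib.Helper4.AR Groth.Agent.Lib.Helper22.EtStalk in
/-- Let X be a Noetherian scheme, i : A → X a closed immersion and j : U → X an open immersion whose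
images are complementary, Λ a Noetherian ring, I an ideal of Λ and F = (F_n) an inverse system of
constructible sheaves of Λ-modules on the small etale site of X with I^(n+1) F_n = 0 for all n. Then
F is AR I-adic (receives a morphism with kernel and cokernel null up to translation from an I-adic
system of constructible sheaves) if and only if both restricted systems (j^* F_n)_n on U and (i^*
F_n)_n on A are AR I-adic in the same sense. -/
theorem result
    (Λ : Type (u + 1)) [CommRing Λ] [IsNoetherianRing Λ] (I : Ideal Λ)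
    {X A U : Scheme.{u}} [IsNoetherian X] (i : A ⟶ X) [IsClosedImmersion i] (j : U ⟶ X) [IsOpenImmersion j]
    (hAU : Set.range (fun a => i.base a) = (Set.range (fun t => j.base t))ᶜ)
    (F : ARSys.PS (EtModW.Mod Λ X)) (hc : ∀ n : ℕ, EtModW.IsConstructible Λ (F.obj (op n)))
    (hk : ARSys.TermKilled I F) :
    (ARSys.TermKilled I F ∧ ∃ (Y : ARSys.PS (EtModW.Mod Λ X)) (v : Y ⟶ F), ARSys.IsAdic I Y ∧ (∀ n : ℕ, EtModW.IsConstructible Λ (Y.obj (op n))) ∧ ARSys.IsARIso v) ↔
      ((ARSys.TermKilled I (F ⋙ EtModW.pull Λ j) ∧ ∃ (Y : ARSys.PS (EtModW.Mod Λ U)) (v : Y ⟶ (F ⋙ EtModW.pull Λ j)), ARSys.IsAdic I Y ∧ (∀ n : ℕ, EtModW.IsConstructible Λ (Y.obj (op n))) ∧ ARSys.IsARIso v) ∧ (ARSys.TermKilled I (F ⋙ EtModW.pull Λ i) ∧ ∃ (Y : ARSys.PS (EtModW.Mod Λ A)) (v : Y ⟶ (F ⋙ EtModW.pull Λ i)), ARSys.IsAdic I Y ∧ (∀ n : ℕ, EtModW.IsConstructible Λ (Y.obj (op n))) ∧ ARSys.IsARIso v)) := by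
  let T : Bool → Scheme.{u} := fun b => Bool.rec U A b
  let g : ∀ b : Bool, T b ⟶ X := fun b => match b with
    | false => j
    | true => i
  have hg : ∀ (Ω : Type u) [Field Ω] [IsSepClosed Ω] (ξ : Spec (CommRingCat.of Ω) ⟶ X),
      ∃ (b : Bool) (ζ : Spec (CommRingCat.of Ω) ⟶ T b), ζ ≫ g b = ξ := by
    intro Ω _ _ ξ
    rcases factors_or_disjoint j ξ with ⟨ξ', h⟩ | hdis
    · exact ⟨false, ξ', h⟩
    · rcases ClosedOpen.factors_or_disjoint_closed i ξ with ⟨ζ, h⟩ | hd
      · exact ⟨true, ζ, h⟩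
      · exfalso
        have h1 : ξ.base default ∈ Set.range ξ.base := ⟨default, rfl⟩
        have h2 : ξ.base default ∈ Set.range (fun a => i.base a) := by
          rw [hAU]
          exact hdis h1
        exact Set.disjoint_left.1 hd h1 h2
  exact (arc_iff_of_geomCover Λ I T g hg F hc hk).trans Bool.forall_bool

end Groth.Agent.S13615
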