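import Groth.Statements.S13622
import Mathlib.RingTheory.AdicCompletion.Completeness
import Mathlib.RingTheory.Finiteness.Ideal

set_option autoImplicit false
universe u v
open CAlg

namespace Groth.Agent.S13622

section helpers

theorem exists_compat_zero {M : ℕ → Type v} (f : ∀ n, M (n + 1) → M n)
    (hf : ∀ n, Function.Surjective (f n)) (m : M 0) :
    ∃ y : ∀ k, M k, (∀ k, f k (y (k + 1)) = y k) ∧ y 0 = m := by
  choose F hF using hf
  exact ⟨fun k => Nat.rec m (fun k yk => F k yk) k, fun k => hF k _, rfl⟩

theorem result_aux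
    (A : Type u) [CommRing A] (I : Ideal A) (hI : I.FG)
    (M : ℕ → Type v) [∀ n, AddCommGroup (M n)] [∀ n, Module A (M n)] [∀ n, Module.Finite A (M n)]
    (f : ∀ n, M (n + 1) →ₗ[A] M n) (hf : ∀ n, Function.Surjective (f n))
    (hker : ∀ n, LinearMap.ker (f n) = I ^ (n + 1) • (⊤ : Submodule A (M (n + 1))))
    (hkill : ∀ n, I ^ (n + 1) • (⊤ : Submodule A (M n)) = ⊥)
    (L : Type v) [AddCommGroup L] [Module A L] (π : ∀ n, L →ₗ[A] M n)
    (hπ : ∀ n, f n ∘ₗ π (n + 1) = π n)
    (hinj : ∀ x : L, (∀ n, π n x = 0) → x = 0)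
    (hlift : ∀ y : (∀ n, M n), (∀ n, f n (y (n + 1)) = y n) → ∃ x : L, ∀ n, π n x = y n)
    [Module (AdicCompletion I A) L] [IsScalarTower A (AdicCompletion I A) L] :
    Module.Finite (AdicCompletion I A) L := by
  classical
  have hπ' : ∀ n (w : L), f n (π (n + 1) w) = π n w := fun n w => by
    rw [← hπ n]; rfl
  have hzero : ∀ m (w : L), w ∈ I ^ (m + 1) • (⊤ : Submodule A L) → π m w = 0 := by
    intro m w hw
    have h1 : π m w ∈ Submodule.map (π m) (I ^ (m + 1) • (⊤ : Submodule A L)) :=
      Submodule.mem_map_of_mem hw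
    rw [Submodule.map_smul''] at h1
    have h2 : I ^ (m + 1) • Submodule.map (π m) (⊤ : Submodule A L) ≤
        I ^ (m + 1) • (⊤ : Submodule A (M m)) := Submodule.smul_mono le_rfl le_top
    have h3 := h2 h1
    rw [hkill m] at h3
    simpa using h3
  have hsurj0 : Function.Surjective (π 0) := by
    intro m
    obtain ⟨y, hy, hy0⟩ := exists_compat_zero (fun n => f n) hf m
    obtain ⟨x, hx⟩ := hlift y hy
    exact ⟨x, by rw [hx 0, hy0]⟩
  obtain ⟨r, s, hs⟩ := Module.Finite.exists_fin (R := A) (M := M 0)
  choose g hg using fun i => hsurj0 (s i)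
  have hspan : ∀ n, Submodule.span A (Set.range fun i => π n (g i)) = ⊤ := by
    intro n
    induction n with
    | zero =>
      have : (fun i => π 0 (g i)) = s := funext hg
      rw [this, hs]
    | succ n ih =>
      set N := Submodule.span A (Set.range fun i => π (n + 1) (g i)) with hN
      have hA : (⊤ : Submodule A (M (n + 1))) ≤ N ⊔ I ^ (n + 1) • ⊤ := by
        intro m _
        have hm : f n m ∈ Submodule.span A (Set.range fun i => π n (g i)) := by
          rw [ih]; trivial
        obtain ⟨c, hc⟩ := (Submodule.mem_span_range_iff_exists_fun A).mp hm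
        have hm' : ∑ i, c i • π (n + 1) (g i) ∈ N :=
          Submodule.sum_mem _ fun i _ =>
            Submodule.smul_mem _ _ (Submodule.subset_span ⟨i, rfl⟩)
        have hk : m - ∑ i, c i • π (n + 1) (g i) ∈ LinearMap.ker (f n) := by
          rw [LinearMap.mem_ker, map_sub, map_sum, ← hc, sub_eq_zero]
          simp only [map_smul, hπ']
        rw [hker n] at hk
        have : m = ∑ i, c i • π (n + 1) (g i) + (m - ∑ i, c i • π (n + 1) (g i)) := by abel
        rw [this]
        exact Submodule.add_mem_sup hm' hk
      have hB : I ^ (n + 1) • (⊤ : Submodule A (M (n + 1))) ≤ N := by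
        calc I ^ (n + 1) • (⊤ : Submodule A (M (n + 1)))
            ≤ I ^ (n + 1) • (N ⊔ I ^ (n + 1) • ⊤) := Submodule.smul_mono le_rfl hA
          _ = I ^ (n + 1) • N ⊔ I ^ (n + 1) • (I ^ (n + 1) • ⊤) := Submodule.smul_sup _ _ _
          _ ≤ N ⊔ ⊥ := sup_le_sup Submodule.smul_le_right ?_
          _ = N := sup_bot_eq _
        rw [← Submodule.mul_smul, ← pow_add, ← hkill (n + 1)]
        exact Submodule.smul_mono (Ideal.pow_le_pow_right (by omega)) le_rfl
      exact top_le_iff.mp (hA.trans (sup_le le_rfl hB))
  -- the successive approximation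
  have main : ∀ x : L, ∃ a : Fin r → AdicCompletion I A, x = ∑ i, a i • g i := by
    intro x
    -- step
    have step : ∀ (n : ℕ) (S : Fin r → A), ∃ S' : Fin r → A,
        π n (x - ∑ i, S i • g i) = 0 →
          (∀ i, S' i - S i ∈ I ^ (n + 1)) ∧ π (n + 1) (x - ∑ i, S' i • g i) = 0 := by
      intro n S
      by_cases h : π n (x - ∑ i, S i • g i) = 0
      · have h1 : π (n + 1) (x - ∑ i, S i • g i) ∈ LinearMap.ker (f n) := by
          rw [LinearMap.mem_ker, hπ', h]
        rw [hker n, ← hspan (n + 1), Submodule.mem_ideal_smul_span_iff_exists_sum] at h1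
        obtain ⟨b, hb, hbsum⟩ := h1
        refine ⟨fun i => S i + b i, fun _ => ⟨fun i => by simpa using hb i, ?_⟩⟩
        rw [Finsupp.sum_fintype b (fun i c => c • π (n + 1) (g i)) (fun i => zero_smul _ _)] at hbsum
        have : x - ∑ i, (S i + b i) • g i = (x - ∑ i, S i • g i) - ∑ i, b i • g i := by
          simp only [add_smul, Finset.sum_add_distrib]; abel
        rw [this, map_sub, ← hbsum, map_sum, sub_eq_zero]
        simp only [map_smul]
      · exact ⟨S, fun h' => absurd h' h⟩
    choose stepf hstep using step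
    -- base
    have hbase : ∃ S0 : Fin r → A, π 0 (x - ∑ i, S0 i • g i) = 0 := by
      have hm : π 0 x ∈ Submodule.span A (Set.range fun i => π 0 (g i)) := by
        rw [hspan 0]; trivial
      obtain ⟨c, hc⟩ := (Submodule.mem_span_range_iff_exists_fun A).mp hm
      refine ⟨c, ?_⟩
      rw [map_sub, map_sum, ← hc, sub_eq_zero]
      simp only [map_smul]
    obtain ⟨S0, hS0⟩ := hbase
    let S : ℕ → Fin r → A := fun n => Nat.rec S0 (fun n Sn => stepf n Sn) n
    have hSsucc : ∀ n, S (n + 1) = stepf n (S n) := fun n => rfl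
    have hSzero : ∀ n, π n (x - ∑ i, S n i • g i) = 0 := by
      intro n
      induction n with
      | zero => exact hS0
      | succ n ih => rw [hSsucc]; exact (hstep n (S n) ih).2
    have hSdiff : ∀ n i, S (n + 1) i - S n i ∈ I ^ (n + 1) := by
      intro n i
      rw [hSsucc]; exact (hstep n (S n) (hSzero n)).1 i
    -- Cauchy sequences
    have hC : ∀ i n, S n i ≡ S (n + 1) i [SMOD (I ^ n • ⊤ : Submodule A A)] := by
      intro i n
      symm
      rw [SModEq.sub_mem]
      have := hSdiff n i
      have h2 : I ^ (n + 1) ≤ I ^ n := Ideal.pow_le_pow_right (Nat.le_succ n)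
      simpa using h2 this
    let a : Fin r → AdicCompletion I A := fun i =>
      AdicCompletion.mk I A (AdicCompletion.AdicCauchySequence.mk I A (fun n => S n i) (hC i))
    refine ⟨a, ?_⟩
    rw [← sub_eq_zero]
    apply hinj
    intro n
    have hmem : ∀ i, (a i - algebraMap A (AdicCompletion I A) (S n i)) • g i ∈
        I ^ (n + 1) • (⊤ : Submodule A L) := by
      intro i
      have h1 : a i - algebraMap A (AdicCompletion I A) (S n i) ∈
          LinearMap.ker (AdicCompletion.eval I A (n + 1)) := by
        rw [LinearMap.mem_ker, map_sub, sub_eq_zero]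
        have e1 : AdicCompletion.eval I A (n + 1) (a i) =
            Submodule.mkQ (I ^ (n + 1) • ⊤ : Submodule A A) (S (n + 1) i) := rfl
        have e2 : AdicCompletion.eval I A (n + 1) (algebraMap A (AdicCompletion I A) (S n i)) =
            Submodule.mkQ (I ^ (n + 1) • ⊤ : Submodule A A) (S n i) := rfl
        rw [e1, e2, Submodule.mkQ_apply, Submodule.mkQ_apply, Submodule.Quotient.eq]
        simpa using hSdiff n i
      rw [← AdicCompletion.pow_smul_top_eq_ker_eval hI] at h1
      let φ : AdicCompletion I A →ₗ[A] L :=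
        (LinearMap.toSpanSingleton (AdicCompletion I A) L (g i)).restrictScalars A
      have h2 : φ (a i - algebraMap A (AdicCompletion I A) (S n i)) ∈
          Submodule.map φ (I ^ (n + 1) • (⊤ : Submodule A (AdicCompletion I A))) :=
        Submodule.mem_map_of_mem h1
      rw [Submodule.map_smul''] at h2
      exact Submodule.smul_mono le_rfl le_top h2
    have : x - ∑ i, a i • g i = (x - ∑ i, S n i • g i) -
        ∑ i, (a i - algebraMap A (AdicCompletion I A) (S n i)) • g i := by
      simp only [sub_smul, Finset.sum_sub_distrib, algebraMap_smul]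
      abel
    rw [this, map_sub, hSzero n, zero_sub, neg_eq_zero, map_sum]
    exact Finset.sum_eq_zero fun i _ => hzero n _ (hmem i)
  refine ⟨⟨Finset.univ.image g, top_le_iff.mp fun x _ => ?_⟩⟩
  obtain ⟨a, rfl⟩ := main x
  exact Submodule.sum_mem _ fun i _ =>
    Submodule.smul_mem _ _ (Submodule.subset_span (by simp))

end helpers

/-- Let A be a commutative ring, I a finitely generated ideal and (M_n) an inverse system of finitely
generated A-modules whose transition maps f_n : M_(n+1) → M_n are surjective with kernel I^(n+1)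
M_(n+1), and with I^(n+1) M_n = 0 for all n. If L is an inverse limit of the system (projections π_n
compatible with the f_n, jointly injective, every compatible family lifting to L), endowed with a
module structure over the I-adic completion A^ of A that is compatible with its A-module structure,
then L is finitely generated as an A^-module. No completeness of A is assumed. -/
theorem result
    (A : Type u) [CommRing A] (I : Ideal A) (hI : I.FG)
    (M : ℕ → Type v) [∀ n, AddCommGroup (M n)] [∀ n, Module A (M n)] [∀ n, Module.Finite A (M n)]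
    (f : ∀ n, M (n + 1) →ₗ[A] M n) (hf : ∀ n, Function.Surjective (f n))
    (hker : ∀ n, LinearMap.ker (f n) = I ^ (n + 1) • (⊤ : Submodule A (M (n + 1))))
    (hkill : ∀ n, I ^ (n + 1) • (⊤ : Submodule A (M n)) = ⊥)
    (L : Type v) [AddCommGroup L] [Module A L] (π : ∀ n, L →ₗ[A] M n)
    (hπ : ∀ n, f n ∘ₗ π (n + 1) = π n)
    (hinj : ∀ x : L, (∀ n, π n x = 0) → x = 0)
    (hlift : ∀ y : (∀ n, M n), (∀ n, f n (y (n + 1)) = y n) → ∃ x : L, ∀ n, π n x = y n)
    [Module (AdicCompletion I A) L] [IsScalarTower A (AdicCompletion I A) L] :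
    Module.Finite (AdicCompletion I A) L := by
  exact result_aux A I hI M f hf hker hkill L π hπ hinj hlift

end Groth.Agent.S13622
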