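import Groth.Statements.S13623
import Mathlib.RingTheory.GradedAlgebra.Homogeneous.Subsemiring
import Mathlib.RingTheory.LocalRing.Module
import Mathlib.RingTheory.Flat.FaithfullyFlat.Basic
import Mathlib.FieldTheory.IsAlgClosed.AlgebraicClosure
import Mathlib.RingTheory.Support

set_option autoImplicit false
universe u
open TensorProduct
open CAlg

namespace Groth.Agent.S13623

section helpers

theorem result_aux
    (A : Type u) [CommRing A] (B : Type u) [CommRing B] [Algebra A B]
    (𝒜 : ℕ → Submodule A B) [GradedAlgebra 𝒜]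
    (hfin : ∀ m : ℕ, Module.Finite A (𝒜 m))
    (hgen : ∀ (k : Type u) [Field k] [IsAlgClosed k] [Algebra A k],
      Algebra.adjoin k ((Algebra.TensorProduct.includeRight : B →ₐ[A] k ⊗[A] B) '' (𝒜 1 : Set B)) = ⊤) :
    Algebra.adjoin A (𝒜 1 : Set B) = ⊤ := by
  classical
  set C := Algebra.adjoin A (𝒜 1 : Set B) with hC
  have hhom : ∀ (i : ℕ) (x : B), x ∈ C → (DirectSum.decompose 𝒜 x i : B) ∈ C := by
    have : DirectSum.SetLike.IsHomogeneous 𝒜 C.toSubsemiring := by
      rw [hC, Algebra.adjoin_toSubsemiring]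
      apply IsHomogeneous.subsemiringClosure_of_isHomogeneousElem
      rintro x (⟨a, rfl⟩ | hx)
      · exact ⟨0, SetLike.algebraMap_mem_graded 𝒜 a⟩
      · exact ⟨1, hx⟩
    intro i x hx
    exact this i hx
  suffices h : ∀ m, 𝒜 m ≤ Subalgebra.toSubmodule C by
    rw [eq_top_iff]
    intro b _
    rw [← DirectSum.sum_support_decompose 𝒜 b]
    exact Subalgebra.sum_mem _ fun i _ => h i (SetLike.coe_mem _)
  intro m
  let P : Submodule A (𝒜 m) := (Subalgebra.toSubmodule C).comap (𝒜 m).subtype
  have : Module.Finite A (𝒜 m) := hfin m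
  let ρ : B →ₗ[A] (↥(𝒜 m) ⧸ P) :=
    P.mkQ ∘ₗ (DirectSum.component A ℕ (fun i => 𝒜 i) m) ∘ₗ
      (DirectSum.decomposeLinearEquiv 𝒜).toLinearMap
  have hρ : ∀ b, ρ b = P.mkQ (DirectSum.decompose 𝒜 b m) := fun b => rfl
  have hρC : ∀ c ∈ C, ρ c = 0 := by
    intro c hc
    rw [hρ, Submodule.mkQ_apply, Submodule.Quotient.mk_eq_zero]
    exact hhom m c hc
  have hρm : ∀ (b : B) (hb : b ∈ 𝒜 m), ρ b = P.mkQ ⟨b, hb⟩ := by
    intro b hb
    rw [hρ]
    congr 1
    exact Subtype.ext (DirectSum.decompose_of_mem_same 𝒜 hb)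
  -- key: vanishing after base change to algebraically closed fields
  have key : ∀ (k : Type u) [Field k] [IsAlgClosed k] [Algebra A k],
      Subsingleton (k ⊗[A] (↥(𝒜 m) ⧸ P)) := by
    intro k _ _ _
    have hz : ∀ t : k ⊗[A] B, ρ.baseChange k t = 0 := by
      intro t
      have ht : t ∈ Subalgebra.toSubmodule (Algebra.adjoin k
          ((Algebra.TensorProduct.includeRight : B →ₐ[A] k ⊗[A] B) '' (𝒜 1 : Set B))) := by
        rw [hgen k]; trivial
      rw [Algebra.adjoin_eq_span] at ht
      refine Submodule.span_induction ?_ ?_ ?_ ?_ ht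
      · intro x hx
        have hx' : ∃ c ∈ C, x = (1 : k) ⊗ₜ[A] c := by
          refine Submonoid.closure_induction ?_ ?_ ?_ hx
          · rintro _ ⟨b, hb, rfl⟩
            exact ⟨b, Algebra.subset_adjoin hb, rfl⟩
          · exact ⟨1, C.one_mem, rfl⟩
          · rintro _ _ _ _ ⟨c, hc, rfl⟩ ⟨c', hc', rfl⟩
            exact ⟨c * c', C.mul_mem hc hc', by simp⟩
        obtain ⟨c, hc, rfl⟩ := hx'
        rw [LinearMap.baseChange_tmul, hρC c hc, tmul_zero]
      · simp
      · intro x y _ _ hx hy
        rw [map_add, hx, hy, add_zero]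
      · intro a x _ hx
        rw [map_smul, hx, smul_zero]
    refine ⟨fun x y => ?_⟩
    have hzero : ∀ x : k ⊗[A] (↥(𝒜 m) ⧸ P), x = 0 := by
      intro x
      induction x using TensorProduct.induction_on with
      | zero => rfl
      | tmul t q =>
        obtain ⟨⟨b, hb⟩, rfl⟩ := P.mkQ_surjective q
        rw [← hρm b hb, ← LinearMap.baseChange_tmul, hz]
      | add x y hx hy => rw [hx, hy, add_zero]
    rw [hzero x, hzero y]
  -- conclude via support
  have hsub : Subsingleton (↥(𝒜 m) ⧸ P) := by
    rw [← Module.support_eq_empty_iff (R := A), Set.eq_empty_iff_forall_notMem]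
    intro p
    rw [Module.mem_support_iff_nontrivial_residueField_tensorProduct,
      not_nontrivial_iff_subsingleton]
    have h1 := key (AlgebraicClosure p.asIdeal.ResidueField)
    have e := TensorProduct.AlgebraTensorModule.cancelBaseChange A p.asIdeal.ResidueField
      (AlgebraicClosure p.asIdeal.ResidueField) (AlgebraicClosure p.asIdeal.ResidueField)
      (↥(𝒜 m) ⧸ P)
    have h2 : Subsingleton ((AlgebraicClosure p.asIdeal.ResidueField) ⊗[p.asIdeal.ResidueField]
        (p.asIdeal.ResidueField ⊗[A] (↥(𝒜 m) ⧸ P))) := e.toEquiv.subsingleton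
    exact (Module.FaithfullyFlat.subsingleton_tensorProduct_iff_right
      p.asIdeal.ResidueField (AlgebraicClosure p.asIdeal.ResidueField)).mp h2
  intro b hb
  have : P.mkQ ⟨b, hb⟩ = 0 := Subsingleton.elim _ _
  rw [Submodule.mkQ_apply, Submodule.Quotient.mk_eq_zero] at this
  exact this

end helpers

/-- Let A be a commutative ring and B a commutative A-algebra, graded by A-submodules B_m (m ≥ 0)
forming a graded-algebra structure, such that every B_m is a finitely generated A-module. If for
every algebraically closed field k and every A-algebra structure on k the k-algebra k ⊗_A B is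
generated by the image of B_1 under b ↦ 1 ⊗ b, then its degree-one part B_1 generates the A-algebra
B. (Algebraically closed fields are taken in the universe of A.) -/
theorem result
    (A : Type u) [CommRing A] (B : Type u) [CommRing B] [Algebra A B]
    (𝒜 : ℕ → Submodule A B) [GradedAlgebra 𝒜]
    (hfin : ∀ m : ℕ, Module.Finite A (𝒜 m))
    (hgen : ∀ (k : Type u) [Field k] [IsAlgClosed k] [Algebra A k],
      Algebra.adjoin k ((Algebra.TensorProduct.includeRight : B →ₐ[A] k ⊗[A] B) '' (𝒜 1 : Set B)) = ⊤) :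
    Algebra.adjoin A (𝒜 1 : Set B) = ⊤ := by
  exact result_aux A B 𝒜 hfin hgen

end Groth.Agent.S13623
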