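import Groth.Statements.S13626
import Mathlib
import Groth.Agent.S0927
import Groth.Agent.Lib.Helper12.RP3
import Groth.Agent.Lib.Helper22.CohTop.Leray
import Groth.Agent.Lib.Lead.TwistExact
import Groth.Agent.Lib.Helper29.TensorIso
-- import your own Groth.Agent.* helpers here

set_option autoImplicit false
universe u
open CategoryTheory CategoryTheory.Limits AlgebraicGeometry
open Coh

namespace Groth.Agent.S13626

/-- Let f : X → Y be a morphism of schemes with R^i f_* O_X = 0 for every i ≥ 1 and f_* O_X ≅ O_Y. Then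
for every invertible O_Y-module L and every p ≥ 0 the groups H^p(X, f^* L) and H^p(Y, L) are
isomorphic (existence of a group isomorphism; the higher direct images are the right derived
functors of f_* on O_X-modules, under the instance argument recording that O_X-modules have
injective resolutions). -/
theorem result
    {X Y : Scheme.{u}} (f : X ⟶ Y) [HasInjectiveResolutions X.Modules]
    (hR : ∀ i : ℕ, IsZero ((Coh.Rpush f (i + 1)).obj (Coh.structureModule X)))
    (h0 : Nonempty ((Coh.push f).obj (Coh.structureModule X) ≅ Coh.structureModule Y))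
    (L : Y.Modules) (hL : PicF.IsInvertible L) (p : ℕ) :
    Nonempty (Coh.HH X ((Scheme.Modules.pullback f).obj L) p ≃+ Coh.HH Y L p) := by
  classical
  have hLf : FlatMod.IsFinLocFree L :=
    Groth.Agent.Lib.Helper29.QCoh.isFinLocFree_of_isFinLocFreeOfRank
      ((Groth.Agent.Lib.Helper29.QCoh.isInvertible_iff_isFinLocFreeOfRank_one L).mp hL)
  obtain ⟨e00⟩ := h0
  haveI : PreservesFiniteLimits (Scheme.Modules.pushforward f) := by
    haveI := (Scheme.Modules.pullbackPushforwardAdjunction f).rightAdjoint_preservesLimits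
    infer_instance
  let M : X.Modules := (Scheme.Modules.pullback f).obj L
  have eM : CohB1.tensorMod M (Coh.structureModule X) ≅ M :=
    Groth.Agent.Lib.Helper29.QCoh.tensorUnitR M
  -- vanishing of the higher direct images of `f^* L`
  have hz : ∀ q : ℕ, IsZero ((Coh.Rpush f (q + 1)).obj M) := by
    intro q
    obtain ⟨e⟩ := Groth.Agent.S0927.result f (Coh.structureModule X) L hLf (q + 1)
    have h1 : IsZero (CohB1.tensorMod ((Coh.Rpush f (q + 1)).obj (Coh.structureModule X)) L) :=
      Functor.map_isZero (Groth.Agent.Lib.Lead.TwistExact.tensorRight L) (hR q)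
    have h2 : IsZero (CohB1.tensorMod L ((Coh.Rpush f (q + 1)).obj (Coh.structureModule X))) :=
      h1.of_iso (Groth.Agent.Lib.Helper29.QCoh.tensorBraid _ _)
    have h3 := h2.of_iso e.symm
    exact h3.of_iso ((Coh.Rpush f (q + 1)).mapIso eM.symm)
  -- `f_* f^* L ≅ L`
  have e0' : Nonempty ((Coh.push f).obj M ≅ L) := by
    obtain ⟨e⟩ := Groth.Agent.S0927.result f (Coh.structureModule X) L hLf 0
    have i0 : Coh.Rpush f 0 ≅ Coh.push f := Functor.rightDerivedZeroIsoSelf _
    exact ⟨(i0.app M).symm ≪≫ (Coh.Rpush f 0).mapIso eM.symm ≪≫ e.symm ≪≫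
      Groth.Agent.Lib.Helper29.QCoh.tensorCongr (Iso.refl L) (i0.app _ ≪≫ e00) ≪≫
      Groth.Agent.Lib.Helper29.QCoh.tensorUnitR L⟩
  obtain ⟨e0⟩ := e0'
  have hzAb : ∀ q : ℕ, IsZero ((CohTop.Rpush f.base (q + 1)).obj (Coh.toAb M)) := by
    intro q
    have i := (Groth.Agent.Lib.Helper12.H12RP.RpushAbIso f (q + 1)).app M
    exact (Functor.map_isZero (Groth.Agent.Lib.Helper5.RpushAb.TT Y) (hz q)).of_iso i.symm
  obtain ⟨e⟩ := Groth.Agent.Lib.Helper22.CohTop.leray_degenerate f.base (Coh.toAb M) hzAb p
  let e1 : Coh.HH X M p ≃+ Coh.HH Y ((Coh.push f).obj M) p := e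
  exact ⟨e1.trans (((Sheaf.functorH _ p).mapIso ((SheafOfModules.toSheaf Y.ringCatSheaf).mapIso
    e0)).addCommGroupIsoToAddEquiv)⟩

end Groth.Agent.S13626
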