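import Groth.Statements.S13628
import Mathlib.AlgebraicGeometry.ResidueField
import Mathlib.FieldTheory.IsAlgClosed.AlgebraicClosure
import Mathlib.RingTheory.Flat.Basic

set_option autoImplicit false
universe u
open CategoryTheory CategoryTheory.Limits AlgebraicGeometry Opposite
open FBase

namespace Groth.Agent.S13628

section helpers

open AlgebraicGeometry CategoryTheory Limits TensorProduct

/-- Two field extensions of a field embed compatibly in a common algebraically closed field. -/
theorem exists_common_algClosed (F K₁ K₂ : Type u) [Field F] [Field K₁] [Field K₂]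
    (i₁ : F →+* K₁) (i₂ : F →+* K₂) :
    ∃ (K : Type u) (_ : Field K) (_ : IsAlgClosed K) (a : K₁ →+* K) (b : K₂ →+* K),
      a.comp i₁ = b.comp i₂ := by
  let _ := i₁.toAlgebra
  let _ := i₂.toAlgebra
  have : Nontrivial (K₁ ⊗[F] K₂) :=
    Algebra.TensorProduct.nontrivial_of_algebraMap_injective_of_flat_left (R := F) K₁ K₂
      (algebraMap F K₂).injective
  obtain ⟨m, hm⟩ := Ideal.exists_maximal (K₁ ⊗[F] K₂)
  let _ : Field ((K₁ ⊗[F] K₂) ⧸ m) := Ideal.Quotient.field m
  let K := AlgebraicClosure ((K₁ ⊗[F] K₂) ⧸ m)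
  let q : (K₁ ⊗[F] K₂) →+* K := (algebraMap _ K).comp (Ideal.Quotient.mk m)
  refine ⟨K, inferInstance, inferInstance,
    q.comp Algebra.TensorProduct.includeLeftRingHom,
    q.comp (Algebra.TensorProduct.includeRight (R := F) (A := K₁) (B := K₂)).toRingHom, ?_⟩
  ext x
  simp only [RingHom.comp_apply]
  congr 1
  change (algebraMap F K₁ x) ⊗ₜ[F] (1 : K₂) = (1 : K₁) ⊗ₜ[F] (algebraMap F K₂ x)
  rw [Algebra.algebraMap_eq_smul_one, Algebra.algebraMap_eq_smul_one, TensorProduct.smul_tmul]

theorem result_aux
    (P : ∀ (k : Type u) [Field k] (Z : Scheme.{u}), (Z ⟶ Spec (CommRingCat.of k)) → Prop)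
    (hiso : ∀ (k : Type u) [Field k] (Z Z' : Scheme.{u}) (e : Z ≅ Z') (g : Z' ⟶ Spec (CommRingCat.of k)),
      P k Z' g → P k Z (e.hom ≫ g))
    (hext : ∀ (k K : Type u) [Field k] [Field K] (i : k →+* K) (Z : Scheme.{u}) (g : Z ⟶ Spec (CommRingCat.of k)),
      P k Z g ↔ P K (pullback g (Spec.map (CommRingCat.ofHom i))) (pullback.snd g (Spec.map (CommRingCat.ofHom i))))
    {X T X' T' : Scheme.{u}} (f : X ⟶ T) (h : T' ⟶ T) [Surjective h] (f' : X' ⟶ T') (h' : X' ⟶ X)
    (sq : IsPullback h' f' f h)
    (H : ∀ (k : Type u) [Field k] [IsAlgClosed k] (σ' : Spec (CommRingCat.of k) ⟶ T'),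
        P k (pullback f' σ') (pullback.snd f' σ'))
    (k : Type u) [Field k] [IsAlgClosed k] (σ : Spec (CommRingCat.of k) ⟶ T) :
    P k (pullback f σ) (pullback.snd f σ) := by
  obtain ⟨⟨t, j⟩, hσ⟩ : ∃ xf : (Σ x, T.residueField x ⟶ .of k),
      σ = Spec.map xf.2 ≫ T.fromSpecResidueField xf.1 :=
    ⟨Scheme.SpecToEquivOfField k T σ, ((Scheme.SpecToEquivOfField k T).left_inv σ).symm⟩
  dsimp only at hσ
  obtain ⟨t', ht'⟩ := h.surjective t
  subst ht'
  obtain ⟨K, _, _, a, b, hab⟩ := exists_common_algClosed (T.residueField (h t'))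
    (T'.residueField t') k (h.residueFieldMap t').hom j.hom
  let σ' : Spec (CommRingCat.of K) ⟶ T' :=
    Spec.map (CommRingCat.ofHom a) ≫ T'.fromSpecResidueField t'
  let ρ : Spec (CommRingCat.of K) ⟶ Spec (CommRingCat.of k) := Spec.map (CommRingCat.ofHom b)
  have hcomm : σ' ≫ h = ρ ≫ σ := by
    simp only [σ', ρ, hσ, Category.assoc]
    rw [← Scheme.Hom.SpecMap_residueFieldMap_fromSpecResidueField, ← Spec.map_comp_assoc,
      ← Spec.map_comp_assoc]
    congr 2
    ext x
    exact RingHom.congr_fun hab x
  have h6 := H K σ'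
  have hpb : IsPullback (pullback.fst f' σ' ≫ h') (pullback.snd f' σ') f (σ' ≫ h) :=
    (IsPullback.of_hasPullback f' σ').paste_horiz sq
  have h7 := hiso K _ _ hpb.isoPullback.symm _ h6
  rw [Iso.symm_hom, IsPullback.isoPullback_inv_snd, hcomm] at h7
  have h9 := hiso K _ _ (pullbackLeftPullbackSndIso f σ ρ) _ h7
  rw [pullbackLeftPullbackSndIso_hom_snd] at h9
  exact (hext k K b (pullback f σ) (pullback.snd f σ)).mpr h9

end helpers

/-- Let P be a property of schemes over fields, invariant under isomorphisms of schemes over the base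
field and invariant in both directions under every field extension k → K (Z over k has P if and only
if Z ×_k Spec K over K has P). Let f : X → T be a morphism of schemes, h : T' → T a surjective
morphism of schemes and f' : X' → T' a base change of f along h. If for every algebraically closed
field k and every Spec k → T' the fibre X' ×_{T'} Spec k has P, then for every algebraically closed
field k and every Spec k → T the fibre X ×_T Spec k has P. (Fields are taken in the universe of the
schemes. The published statement is that families of del Pezzo surfaces form a stack for the étale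
topology; this row is the step of its proof that descends the condition on geometric fibres along a
surjective base change, stated for any fibre property with the invariance above.) -/
theorem result
    (P : ∀ (k : Type u) [Field k] (Z : Scheme.{u}), (Z ⟶ Spec (CommRingCat.of k)) → Prop)
    (hiso : ∀ (k : Type u) [Field k] (Z Z' : Scheme.{u}) (e : Z ≅ Z') (g : Z' ⟶ Spec (CommRingCat.of k)),
      P k Z' g → P k Z (e.hom ≫ g))
    (hext : ∀ (k K : Type u) [Field k] [Field K] (i : k →+* K) (Z : Scheme.{u}) (g : Z ⟶ Spec (CommRingCat.of k)),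
      P k Z g ↔ P K (pullback g (Spec.map (CommRingCat.ofHom i))) (pullback.snd g (Spec.map (CommRingCat.ofHom i))))
    {X T X' T' : Scheme.{u}} (f : X ⟶ T) (h : T' ⟶ T) [Surjective h] (f' : X' ⟶ T') (h' : X' ⟶ X)
    (sq : IsPullback h' f' f h)
    (H : ∀ (k : Type u) [Field k] [IsAlgClosed k] (σ' : Spec (CommRingCat.of k) ⟶ T'),
        P k (pullback f' σ') (pullback.snd f' σ'))
    (k : Type u) [Field k] [IsAlgClosed k] (σ : Spec (CommRingCat.of k) ⟶ T) :
    P k (pullback f σ) (pullback.snd f σ) := by
  exact result_aux P hiso hext f h f' h' sq H k σ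

end Groth.Agent.S13628
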