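import Groth.Statements.S13631
import Mathlib.LinearAlgebra.Matrix.ToLinearEquiv
import Mathlib.LinearAlgebra.FreeModule.Finite.Basic

set_option autoImplicit false
universe u v w
open CAlg

namespace Groth.Agent.S13631

section helpers

theorem result_aux
    {k : Type u} {R : Type v} {M : Type w} [Field k] [CommRing R] [IsDomain R] [Algebra k R]
    (hR : ¬ Module.Finite k R)
    [AddCommGroup M] [Module R M] [Module k M] [IsScalarTower k R M]
    [Module.Finite R M] [Module.Free R M]
    (σ : R ≃+* R)
    (φ : M →ₛₗ[(σ : R →+* R)] M)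
    (hcoker : ∃ N : Submodule k M, N.FG ∧ ∀ m : M, ∃ n ∈ N, ∃ m' : M, m = n + φ m') :
    Function.Injective φ := by
  classical
  obtain ⟨N, hN, hcov⟩ := hcoker
  let ι := Module.Free.ChooseBasisIndex R M
  let b : Module.Basis ι R M := Module.Free.chooseBasis R M
  rw [injective_iff_map_eq_zero]
  intro x hx
  by_contra hne
  let P : Matrix ι ι R := fun j i => b.repr (φ (b i)) j
  have hrepr : ∀ m : M, (fun j => b.repr (φ m) j) = P.mulVec (fun i => σ (b.repr m i)) := by
    intro m
    have h1 : φ m = ∑ i, σ (b.repr m i) • φ (b i) := by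
      conv_lhs => rw [← b.sum_repr m]
      rw [map_sum]
      refine Finset.sum_congr rfl fun i _ => ?_
      rw [LinearMap.map_smulₛₗ]
      rfl
    funext j
    rw [h1, map_sum, Finsupp.coe_finsetSum, Finset.sum_apply]
    simp only [map_smul, Finsupp.smul_apply, smul_eq_mul, Matrix.mulVec, dotProduct, P]
    exact Finset.sum_congr rfl fun i _ => mul_comm _ _
  -- det P = 0
  have hdet : P.det = 0 := by
    rw [← Matrix.exists_mulVec_eq_zero_iff]
    refine ⟨fun i => σ (b.repr x i), ?_, ?_⟩
    · intro h0
      apply hne
      apply b.repr.injective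
      ext i
      have := congr_fun h0 i
      simpa using this
    · rw [← hrepr x, hx]
      funext j
      simp
  obtain ⟨w, hw, hwP⟩ := Matrix.exists_vecMul_eq_zero_iff.mpr hdet
  -- the functional
  let lam : M →ₗ[R] R :=
    { toFun := fun m => ∑ j, w j * b.repr m j
      map_add' := fun m m' => by simp [mul_add, Finset.sum_add_distrib]
      map_smul' := fun r m => by
        simp only [map_smul, Finsupp.smul_apply, smul_eq_mul, RingHom.id_apply, Finset.mul_sum]
        exact Finset.sum_congr rfl fun i _ => by ring }
  have hlamφ : ∀ m, lam (φ m) = 0 := by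
    intro m
    change ∑ j, w j * b.repr (φ m) j = 0
    have : ∑ j, w j * b.repr (φ m) j = dotProduct w (fun j => b.repr (φ m) j) := rfl
    rw [this, hrepr m, Matrix.dotProduct_mulVec, hwP]
    simp
  obtain ⟨j0, hj0⟩ : ∃ j0, w j0 ≠ 0 := by
    by_contra h
    exact hw (funext fun j => not_not.mp fun hj => h ⟨j, hj⟩)
  have hlamb : ∀ r : R, lam (r • b j0) = r * w j0 := by
    intro r
    change ∑ j, w j * b.repr (r • b j0) j = r * w j0
    simp only [map_smul, Module.Basis.repr_self, Finsupp.smul_apply, smul_eq_mul,
      Finsupp.single_apply]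
    rw [Finset.sum_eq_single j0]
    · simp [mul_comm]
    · intro j _ hj
      simp [Ne.symm hj]
    · intro h; exact absurd (Finset.mem_univ j0) h
  -- k-linear version
  let lamk : M →ₗ[k] R := lam.restrictScalars k
  let W : Submodule k R := Submodule.map lamk N
  have hWfg : W.FG := hN.map lamk
  have hmemW : ∀ m : M, lam m ∈ W := by
    intro m
    obtain ⟨n, hn, m', rfl⟩ := hcov m
    rw [map_add, hlamφ, add_zero]
    exact ⟨n, hn, rfl⟩
  have : Module.Finite k W := Module.Finite.of_fg hWfg
  let g : R →ₗ[k] W :=
    { toFun := fun r => ⟨r * w j0, by rw [← hlamb]; exact hmemW _⟩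
      map_add' := fun r r' => Subtype.ext (add_mul r r' (w j0))
      map_smul' := fun c r => Subtype.ext (by simp) }
  have hg : Function.Injective g := by
    intro r r' h
    have : r * w j0 = r' * w j0 := congrArg Subtype.val h
    exact mul_right_cancel₀ hj0 this
  exact hR (Module.Finite.of_injective g hg)

end helpers

/-- Let k be a field, R an integral domain which is a k-algebra of infinite dimension over k, M a finite
free R-module, σ a ring automorphism of R mapping the image of k onto itself, and φ : M → M a
σ-semilinear map. If the cokernel of φ is finite-dimensional over k, in the sense that some finitely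
generated k-subspace N of M satisfies M = N + φ(M), then φ is injective. -/
theorem result
    {k : Type u} {R : Type v} {M : Type w} [Field k] [CommRing R] [IsDomain R] [Algebra k R]
    (hR : ¬ Module.Finite k R)
    [AddCommGroup M] [Module R M] [Module k M] [IsScalarTower k R M]
    [Module.Finite R M] [Module.Free R M]
    (σ : R ≃+* R)
    (hσ : ∀ x : k, ∃ y : k, σ (algebraMap k R x) = algebraMap k R y)
    (hσ' : ∀ y : k, ∃ x : k, σ (algebraMap k R x) = algebraMap k R y)
    (φ : M →ₛₗ[(σ : R →+* R)] M)
    (hcoker : ∃ N : Submodule k M, N.FG ∧ ∀ m : M, ∃ n ∈ N, ∃ m' : M, m = n + φ m') :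
    Function.Injective φ := by
  exact result_aux hR σ φ hcoker

end Groth.Agent.S13631
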