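import Groth.Statements.S13632
import Mathlib

set_option autoImplicit false
universe u
open TensorProduct
open CAlg

namespace Groth.Agent.S13632



/-- Local lemma. -/
theorem local_kill {R A B : Type u} [CommRing R] [IsLocalRing R] [CommRing A] [CommRing B]
    [Algebra R A] [Algebra R B] [Module.Finite R A] [Module.Flat R A] [Algebra.FiniteType R B]
    (f : B →ₐ[R] A) (hf : Function.Surjective f)
    (H : ∀ x : B, f x = 0 → x ∈ Ideal.map (algebraMap R B) (IsLocalRing.maximalIdeal R)) :
    ∃ w : B, w - 1 ∈ Ideal.map (algebraMap R B) (IsLocalRing.maximalIdeal R) ∧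
      ∀ x : B, f x = 0 → w * x = 0 := by
  have hfree : Module.Free R A := Module.free_of_flat_of_isLocalRing
  have hfp : Module.FinitePresentation R A := Module.finitePresentation_of_projective R A
  have hafp : Algebra.FinitePresentation R A := inferInstance
  -- kernel is f.g.
  have hKfg : (RingHom.ker f.toRingHom).FG := by
    obtain ⟨n, g, hg⟩ := Algebra.FiniteType.iff_quotient_mvPolynomial''.mp
      (inferInstance : Algebra.FiniteType R B)
    have h1 := Algebra.FinitePresentation.ker_fg_of_mvPolynomial (f.comp g) (hf.comp hg)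
    have h2 := h1.map g.toRingHom
    convert h2 using 1
    simp_rw [RingHom.ker_eq_comap_bot, AlgHom.toRingHom_eq_coe, AlgHom.comp_toRingHom]
    rw [← Ideal.comap_comap, Ideal.map_comap_of_surjective (g : MvPolynomial (Fin n) R →+* B) hg]
  -- section
  obtain ⟨σ, hσ⟩ := Module.projective_lifting_property f.toLinearMap (LinearMap.id (M := A)) hf
  have hσ' : ∀ a : A, f (σ a) = a := fun a => congrArg (fun t => t a) hσ
  set K : Ideal B := RingHom.ker f.toRingHom with hK
  set J : Ideal B := Ideal.map (algebraMap R B) (IsLocalRing.maximalIdeal R) with hJ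
  have hmemK : ∀ x : B, x ∈ K ↔ f x = 0 := fun x => Iff.rfl
  have key : ∀ x : B, x ∈ (IsLocalRing.maximalIdeal R) • (⊤ : Submodule R B) →
      x - σ (f x) ∈ J * K := by
    intro x hx
    refine Submodule.smul_induction_on (p := fun x => x - σ (f x) ∈ J * K) hx ?_ ?_
    · intro r hr b _
      have h1 : b - σ (f b) ∈ K := by
        rw [hmemK, map_sub, hσ', sub_self]
      have h2 : r • b - σ (f (r • b)) = algebraMap R B r * (b - σ (f b)) := by
        rw [map_smul, map_smul, ← smul_sub, Algebra.smul_def]
      change r • b - σ (f (r • b)) ∈ J * K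
      rw [h2]
      exact Ideal.mul_mem_mul (Ideal.mem_map_of_mem _ hr) h1
    · intro x y hx hy
      have : x + y - σ (f (x + y)) = (x - σ (f x)) + (y - σ (f y)) := by
        rw [map_add, map_add]; ring
      change x + y - σ (f (x + y)) ∈ J * K
      rw [this]
      exact add_mem hx hy
  have hle : K ≤ J • K := by
    intro x hx
    have h1 : x ∈ (IsLocalRing.maximalIdeal R) • (⊤ : Submodule R B) := by
      rw [Ideal.smul_top_eq_map]
      exact H x hx
    have h2 := key x h1
    rw [(hmemK x).mp hx, map_zero, sub_zero] at h2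
    exact h2
  obtain ⟨w, hw1, hw2⟩ :=
    Submodule.exists_sub_one_mem_and_smul_eq_zero_of_fg_of_le_smul J K hKfg hle
  exact ⟨w, hw1, fun x hx => hw2 x hx⟩

theorem surj_of_max {R A B : Type u} [CommRing R] [CommRing A] [CommRing B] [Algebra R A]
    [Algebra R B] [Module.Finite R A] (f : B →ₐ[R] A)
    (hmax : ∀ (m : Ideal R) [m.IsMaximal],
      Function.Surjective (LinearMap.lTensor m.ResidueField f.toLinearMap)) :
    Function.Surjective f := by
  let N : Submodule R A := LinearMap.range f.toLinearMap
  have hsub : Subsingleton (A ⧸ N) := by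
    rw [← Module.support_eq_empty_iff (R := R)]
    by_contra hne
    obtain ⟨p, hp⟩ := Set.nonempty_iff_ne_empty.mpr hne
    obtain ⟨m, hm, hpm⟩ := Ideal.exists_le_maximal p.asIdeal p.isPrime.ne_top
    have hm' : (⟨m, hm.isPrime⟩ : PrimeSpectrum R) ∈ Module.support R (A ⧸ N) :=
      Module.mem_support_mono (q := ⟨m, hm.isPrime⟩) hpm hp
    rw [Module.mem_support_iff_nontrivial_residueField_tensorProduct] at hm'
    have hex : Function.Exact f.toLinearMap N.mkQ := by
      intro a
      rw [Submodule.mkQ_apply, Submodule.Quotient.mk_eq_zero]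
      rfl
    have hex2 := lTensor_exact m.ResidueField hex (Submodule.mkQ_surjective N)
    have hzero : ∀ x, (LinearMap.lTensor m.ResidueField N.mkQ) x = 0 := by
      intro x
      rw [hex2 x]
      exact hmax m x
    have hs2 : Function.Surjective (LinearMap.lTensor m.ResidueField N.mkQ) :=
      LinearMap.lTensor_surjective _ (Submodule.mkQ_surjective N)
    apply not_subsingleton (m.ResidueField ⊗[R] (A ⧸ N))
    refine ⟨fun x y => ?_⟩
    obtain ⟨x', rfl⟩ := hs2 x
    obtain ⟨y', rfl⟩ := hs2 y
    rw [hzero, hzero]
  intro a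
  have : (N.mkQ a) = 0 := Subsingleton.elim _ _
  rw [Submodule.mkQ_apply, Submodule.Quotient.mk_eq_zero] at this
  obtain ⟨b, hb⟩ := this
  exact ⟨b, hb⟩

theorem inj_fibre {R A B : Type u} [CommRing R] [CommRing A] [CommRing B] [Algebra R A]
    [Algebra R B] [Module.Finite R A] (f : B →ₐ[R] A) (hf : Function.Surjective f)
    (p : PrimeSpectrum R)
    (hrank : Module.rank p.asIdeal.ResidueField (p.asIdeal.ResidueField ⊗[R] B) =
        Module.rank p.asIdeal.ResidueField (p.asIdeal.ResidueField ⊗[R] A)) :
    Function.Injective (LinearMap.lTensor p.asIdeal.ResidueField f.toLinearMap) := by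
  have hfinA : Module.Finite p.asIdeal.ResidueField (p.asIdeal.ResidueField ⊗[R] A) :=
    inferInstance
  have hfinB : Module.Finite p.asIdeal.ResidueField (p.asIdeal.ResidueField ⊗[R] B) := by
    rw [← Module.rank_lt_aleph0_iff, hrank, Module.rank_lt_aleph0_iff]
    exact hfinA
  have hfr : Module.finrank p.asIdeal.ResidueField (p.asIdeal.ResidueField ⊗[R] B) =
      Module.finrank p.asIdeal.ResidueField (p.asIdeal.ResidueField ⊗[R] A) :=
    congrArg Cardinal.toNat hrank
  let g : p.asIdeal.ResidueField ⊗[R] B →ₗ[p.asIdeal.ResidueField]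
      p.asIdeal.ResidueField ⊗[R] A :=
    TensorProduct.AlgebraTensorModule.lTensor p.asIdeal.ResidueField p.asIdeal.ResidueField
      f.toLinearMap
  have hg : ∀ x, g x = LinearMap.lTensor p.asIdeal.ResidueField f.toLinearMap x := fun x => rfl
  have hgs : Function.Surjective g := by
    intro y
    obtain ⟨x, hx⟩ := LinearMap.lTensor_surjective p.asIdeal.ResidueField
      (g := f.toLinearMap) hf y
    exact ⟨x, hx⟩
  have hgi : Function.Injective g :=
    (LinearMap.injective_iff_surjective_of_finrank_eq_finrank hfr).mpr hgs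
  intro x y hxy
  exact hgi hxy

section
attribute [local instance] Algebra.TensorProduct.rightAlgebra

theorem exists_kill {R A B : Type u} [CommRing R] [CommRing A] [CommRing B] [Algebra R A]
    [Algebra R B] [Module.Finite R A] [Module.Flat R A] [Algebra.FiniteType R B]
    (f : B →ₐ[R] A) (hf : Function.Surjective f)
    (hinj : ∀ p : PrimeSpectrum R,
      Function.Injective (LinearMap.lTensor p.asIdeal.ResidueField f.toLinearMap))
    (P : Ideal B) [hPprime : P.IsPrime] (b : B) (hb : f b = 0) : ∃ c : B, c ∉ P ∧ c * b = 0 := by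
  let p : Ideal R := P.comap (algebraMap R B)
  have hp : p.IsPrime := Ideal.comap_isPrime _ _
  let Rp := Localization.AtPrime p
  let Ap := Rp ⊗[R] A
  let Bp := Rp ⊗[R] B
  let fp : Bp →ₐ[Rp] Ap := Algebra.TensorProduct.map (AlgHom.id Rp Rp) f
  have hfpl : ∀ x : Bp, fp x = LinearMap.lTensor Rp f.toLinearMap x := by
    intro x
    induction x using TensorProduct.induction_on with
    | zero => simp
    | tmul r b => rw [Algebra.TensorProduct.map_tmul, LinearMap.lTensor_tmul]; rfl
    | add x y hx hy => rw [map_add, map_add, hx, hy]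
  have hfps : Function.Surjective fp := by
    intro y
    obtain ⟨x, hx⟩ := LinearMap.lTensor_surjective Rp (g := f.toLinearMap) hf y
    exact ⟨x, (hfpl x).trans hx⟩
  let κ := p.ResidueField
  let π : Rp →ₗ[R] κ := (IsScalarTower.toAlgHom R Rp κ).toLinearMap
  have hπ : ∀ r : Rp, π r = IsLocalRing.residue Rp r := fun r => rfl
  have hπs : Function.Surjective π := IsLocalRing.residue_surjective
  let ι : ((IsLocalRing.maximalIdeal Rp).restrictScalars R) →ₗ[R] Rp :=
    ((IsLocalRing.maximalIdeal Rp).restrictScalars R).subtype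
  have hex : Function.Exact ι π := by
    intro r
    constructor
    · intro h
      exact ⟨⟨r, (IsLocalRing.residue_eq_zero_iff r).mp h⟩, rfl⟩
    · rintro ⟨y, rfl⟩
      exact (IsLocalRing.residue_eq_zero_iff _).mpr y.2
  have hex2 := rTensor_exact B hex hπs
  have hrange : ∀ y, LinearMap.rTensor B ι y ∈
      Ideal.map (algebraMap Rp Bp) (IsLocalRing.maximalIdeal Rp) := by
    intro y
    induction y using TensorProduct.induction_on with
    | zero => simp
    | tmul r b =>
      rw [LinearMap.rTensor_tmul]
      have : ((ι r) ⊗ₜ[R] b : Bp) = algebraMap Rp Bp (r : Rp) * ((1 : Rp) ⊗ₜ[R] b) := by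
        rw [Algebra.TensorProduct.algebraMap_apply, Algebra.TensorProduct.tmul_mul_tmul]
        simp [ι]
      rw [this]
      exact Ideal.mul_mem_right _ _ (Ideal.mem_map_of_mem _ r.2)
    | add y z hy hz => rw [map_add]; exact add_mem hy hz
  have H : ∀ x : Bp, fp x = 0 →
      x ∈ Ideal.map (algebraMap Rp Bp) (IsLocalRing.maximalIdeal Rp) := by
    intro x hx
    have hcomm : (LinearMap.lTensor κ f.toLinearMap) (LinearMap.rTensor B π x) =
        LinearMap.rTensor A π (LinearMap.lTensor Rp f.toLinearMap x) := by
      rw [← LinearMap.comp_apply, ← LinearMap.comp_apply, LinearMap.lTensor_comp_rTensor,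
        LinearMap.rTensor_comp_lTensor]
    have hx' : LinearMap.lTensor Rp f.toLinearMap x = 0 := (hfpl x).symm.trans hx
    have h0 : LinearMap.rTensor B π x = 0 :=
      hinj ⟨p, hp⟩ (by rw [hcomm, hx', map_zero, map_zero])
    obtain ⟨y, rfl⟩ := (hex2 x).mp h0
    exact hrange y
  obtain ⟨w, hw1, hw2⟩ := local_kill fp hfps H
  have hb' : fp ((1 : Rp) ⊗ₜ[R] b) = 0 := by
    rw [Algebra.TensorProduct.map_tmul, hb, TensorProduct.tmul_zero]
  have hwb := hw2 _ hb'
  let M : Submonoid B := Algebra.algebraMapSubmonoid B p.primeCompl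
  have hloc : IsLocalization M Bp := IsLocalization.tensorRight (S := B) Rp p.primeCompl
  obtain ⟨⟨c, s⟩, hcs⟩ := IsLocalization.surj M w
  have halg : algebraMap B Bp b = (1 : Rp) ⊗ₜ[R] b := rfl
  have h0 : algebraMap B Bp (c * b) = 0 := by
    rw [map_mul, ← hcs, halg, mul_assoc, mul_comm (algebraMap B Bp s), ← mul_assoc, hwb, zero_mul]
  obtain ⟨t, ht⟩ := (IsLocalization.map_eq_zero_iff M Bp (c * b)).mp h0
  have hMP : ∀ t : B, t ∈ M → t ∉ P := by
    rintro t ⟨r, hr, rfl⟩ hmem
    exact hr hmem
  refine ⟨t * c, ?_, by rw [mul_assoc]; exact ht⟩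
  intro hmem
  rcases hPprime.mem_or_mem hmem with h | h
  · exact hMP t t.2 h
  · have hdisj : Disjoint (M : Set B) (P : Set B) := by
      rw [Set.disjoint_left]
      intro t ht
      exact hMP t ht
    have hP' : (Ideal.map (algebraMap B Bp) P).IsPrime :=
      IsLocalization.isPrime_of_isPrime_disjoint M Bp P hPprime hdisj
    have h1 : w * algebraMap B Bp s ∈ Ideal.map (algebraMap B Bp) P := by
      rw [hcs]; exact Ideal.mem_map_of_mem _ h
    have hs_unit : IsUnit (algebraMap B Bp s) := IsLocalization.map_units Bp s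
    have hw : w ∈ Ideal.map (algebraMap B Bp) P :=
      (hP'.mem_or_mem h1).resolve_right
        (fun h => hP'.ne_top (Ideal.eq_top_of_isUnit_mem _ h hs_unit))
    have hJle : Ideal.map (algebraMap Rp Bp) (IsLocalRing.maximalIdeal Rp) ≤
        Ideal.map (algebraMap B Bp) P := by
      rw [← IsLocalization.AtPrime.map_eq_maximalIdeal p Rp, Ideal.map_map]
      have hcomp : (algebraMap Rp Bp).comp (algebraMap R Rp) =
          (algebraMap B Bp).comp (algebraMap R B) := by
        ext r
        change (algebraMap R Rp r) ⊗ₜ[R] (1 : B) = (1 : Rp) ⊗ₜ[R] (algebraMap R B r)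
        rw [Algebra.algebraMap_eq_smul_one, Algebra.algebraMap_eq_smul_one,
          TensorProduct.smul_tmul]
      rw [hcomp, ← Ideal.map_map]
      exact Ideal.map_mono Ideal.map_comap_le
    have : (1 : Bp) ∈ Ideal.map (algebraMap B Bp) P := by
      have := sub_mem hw (hJle hw1)
      simpa using this
    exact hP'.ne_top ((Ideal.eq_top_iff_one _).mpr this)
end

/-- Let S = Spec R, X = Spec A finite and flat over S, Y = Spec B of finite type over S, and φ : X → Y
an S-morphism given by f : B → A. If for every point s of S the fibres X_s and Y_s have the same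
order (the κ(s)-dimension of their rings of global sections κ(s) ⊗ A and κ(s) ⊗ B; equivalently at
every geometric point) and φ is an isomorphism over every closed point of S (κ(m) ⊗ f bijective for
every maximal ideal m), then φ is an isomorphism, i.e. f is bijective. (The published statement
allows an arbitrary base scheme S and Y separated of finite type over S; this row is the case of an
affine base with X and Y affine, the case its proof treats directly. Over a base with no closed
points the general statement fails: the hypothesis at closed points is then empty.) -/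
theorem result
    {R A B : Type u} [CommRing R] [CommRing A] [CommRing B] [Algebra R A] [Algebra R B]
    [Module.Finite R A] [Module.Flat R A] [Algebra.FiniteType R B]
    (f : B →ₐ[R] A)
    (hrank : ∀ p : PrimeSpectrum R,
      Module.rank p.asIdeal.ResidueField (p.asIdeal.ResidueField ⊗[R] B) =
        Module.rank p.asIdeal.ResidueField (p.asIdeal.ResidueField ⊗[R] A))
    (hmax : ∀ (m : Ideal R) [m.IsMaximal],
      Function.Bijective (LinearMap.lTensor m.ResidueField f.toLinearMap)) :
    Function.Bijective f := by

  have hsurj : Function.Surjective f := surj_of_max f (fun m _ => (hmax m).2)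
  refine ⟨?_, hsurj⟩
  have hinj : ∀ p : PrimeSpectrum R,
      Function.Injective (LinearMap.lTensor p.asIdeal.ResidueField f.toLinearMap) :=
    fun p => inj_fibre f hsurj p (hrank p)
  rw [injective_iff_map_eq_zero]
  intro b hb
  by_contra hne
  let J : Ideal B := Ideal.span {b} |>.annihilator
  have hJ : ∀ c : B, c ∈ J ↔ c * b = 0 := by
    intro c
    change c ∈ (Ideal.span {b}).annihilator ↔ _
    rw [Submodule.mem_annihilator_span_singleton, smul_eq_mul]
  have hJne : J ≠ ⊤ := by
    intro h
    have : (1 : B) ∈ J := by rw [h]; trivial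
    rw [hJ, one_mul] at this
    exact hne this
  obtain ⟨P, hP, hJP⟩ := Ideal.exists_le_maximal J hJne
  haveI := hP.isPrime
  obtain ⟨c, hc1, hc2⟩ := exists_kill f hsurj hinj P b hb
  exact hc1 (hJP ((hJ c).mpr hc2))

end Groth.Agent.S13632
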