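import Groth.Statements.S13636
import Groth.Agent.Lib.Helper14.ShExactLoc2

set_option autoImplicit false
universe u w
open CategoryTheory CategoryTheory.Limits MonoidalCategory CartesianMonoidalCategory MonObj AlgebraicGeometry
open MultSch

namespace Groth.Agent.S13636

/-- Let M' → M → M'' → 0 be a sequence of R-module schemes over a scheme S, with R-linear homomorphisms
j and π, exact as fppf sheaves, and let ψ : P × M × Q → N be a morphism to an R-module scheme N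
which is additive and R-linear in the coordinate M (on T-valued points) and trivial on all points
whose M-coordinate lies in the image of j. Then ψ = ψ' ∘ (id × π × id) for a unique morphism ψ' : P
× M'' × Q → N, and ψ' is additive and R-linear in the coordinate M''. (The published statement has a
product M₁ × ⋯ × M_r of R-module schemes with the exact sequence in the i-th factor and ψ
R-multilinear; here the factors before and after the i-th are collected into single S-schemes P and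
Q, and only linearity in the i-th coordinate, the one the statement is about, is carried; linearity
in the other coordinates passes between ψ and ψ' formally.) -/
theorem result
    {S : Scheme.{u}} {R : Type w} [CommRing R] {P Q M' M M'' N : Over S}
    [GrpObj M'] [IsCommMonObj M'] [GrpObj M] [IsCommMonObj M] [GrpObj M''] [IsCommMonObj M'']
    [GrpObj N] [IsCommMonObj N]
    (ρ' : MultSch.RMod R M') (ρ : MultSch.RMod R M) (ρ'' : MultSch.RMod R M'') (ρN : MultSch.RMod R N)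
    (j : M' ⟶ M) (π : M ⟶ M'') [IsMonHom j] [IsMonHom π]
    (hj : ∀ a : R, j ≫ ρ.act a = ρ'.act a ≫ j) (hπ : ∀ a : R, π ≫ ρ''.act a = ρ.act a ≫ π)
    (w : j ≫ π = 1) (hex : (CGrpSh.seq Scheme.fppfPrecoverage j π w).Exact)
    (hepi : Epi (CGrpSh.ptsMap Scheme.fppfPrecoverage π))
    (ψ : P ⊗ (M ⊗ Q) ⟶ N)
    (hadd : ∀ (T : Over S) (p : T ⟶ P) (q : T ⟶ Q) (y z : T ⟶ M),
      lift p (lift (y * z) q) ≫ ψ = (lift p (lift y q) ≫ ψ) * (lift p (lift z q) ≫ ψ))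
    (hlin : ∀ (T : Over S) (p : T ⟶ P) (q : T ⟶ Q) (y : T ⟶ M) (a : R),
      lift p (lift (y ≫ ρ.act a) q) ≫ ψ = (lift p (lift y q) ≫ ψ) ≫ ρN.act a)
    (hvan : ∀ (T : Over S) (p : T ⟶ P) (q : T ⟶ Q) (y' : T ⟶ M'), lift p (lift (y' ≫ j) q) ≫ ψ = 1) :
    ∃ ψ' : P ⊗ (M'' ⊗ Q) ⟶ N,
      (P ◁ (π ▷ Q)) ≫ ψ' = ψ ∧
      (∀ (T : Over S) (p : T ⟶ P) (q : T ⟶ Q) (y z : T ⟶ M''),
        lift p (lift (y * z) q) ≫ ψ' = (lift p (lift y q) ≫ ψ') * (lift p (lift z q) ≫ ψ')) ∧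
      (∀ (T : Over S) (p : T ⟶ P) (q : T ⟶ Q) (y : T ⟶ M'') (a : R),
        lift p (lift (y ≫ ρ''.act a) q) ≫ ψ' = (lift p (lift y q) ≫ ψ') ≫ ρN.act a) ∧
      ∀ ψ'' : P ⊗ (M'' ⊗ Q) ⟶ N, (P ◁ (π ▷ Q)) ≫ ψ'' = ψ → ψ'' = ψ' := by
  classical
  have decomp : ∀ {X Y Z : Over S} {T : Over S} (b : T ⟶ X ⊗ (Y ⊗ Z)),
      b = lift (b ≫ fst _ _) (lift (b ≫ snd _ _ ≫ fst _ _) (b ≫ snd _ _ ≫ snd _ _)) := by
    intro X Y Z T b
    apply CartesianMonoidalCategory.hom_ext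
    · rw [lift_fst]
    · rw [lift_snd]
      apply CartesianMonoidalCategory.hom_ext
      · rw [lift_fst, Category.assoc]
      · rw [lift_snd, Category.assoc]
  have hq : ∀ {T : Over S} (p : T ⟶ P) (y : T ⟶ M) (q : T ⟶ Q),
      lift p (lift y q) ≫ (P ◁ (π ▷ Q)) = lift p (lift (y ≫ π) q) := by
    intro T p y q
    rw [lift_whiskerLeft, lift_whiskerRight]
  -- fibre-constancy
  have hfib : ∀ {T : Over S} (a₁ a₂ : T ⟶ P ⊗ (M ⊗ Q)),
      a₁ ≫ (P ◁ (π ▷ Q)) = a₂ ≫ (P ◁ (π ▷ Q)) → a₁ ≫ ψ = a₂ ≫ ψ := by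
    intro T a₁ a₂ h12
    have h1 := congrArg (fun t => t ≫ fst _ _) h12
    have h2 := congrArg (fun t => t ≫ snd _ _ ≫ fst _ _) h12
    have h3 := congrArg (fun t => t ≫ snd _ _ ≫ snd _ _) h12
    simp only [Category.assoc, whiskerLeft_fst, whiskerLeft_snd_assoc, whiskerRight_fst,
      whiskerRight_snd] at h1 h2 h3
    obtain ⟨R₀, hR₀, hl⟩ := Groth.Agent.Lib.Helper14.ShExactLoc.exists_cover_diff
      Scheme.fppfPrecoverage j π w hex (a₁ ≫ snd _ _ ≫ fst _ _) (a₂ ≫ snd _ _ ≫ fst _ _)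
      (by simpa only [Category.assoc] using h2)
    refine Groth.Agent.Lib.Helper14.ShExactLoc.ext_of_cover Scheme.fppfPrecoverage hR₀ _ _ ?_
    intro T' g hg
    obtain ⟨x, hx⟩ := hl g hg
    have e1 : g ≫ a₁ ≫ ψ = lift (g ≫ a₁ ≫ fst _ _)
        (lift (g ≫ a₁ ≫ snd _ _ ≫ fst _ _) (g ≫ a₁ ≫ snd _ _ ≫ snd _ _)) ≫ ψ := by
      conv_lhs => rw [← Category.assoc, decomp (g ≫ a₁)]
      simp only [Category.assoc]
    have e2 : g ≫ a₂ ≫ ψ = lift (g ≫ a₂ ≫ fst _ _)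
        (lift (g ≫ a₂ ≫ snd _ _ ≫ fst _ _) (g ≫ a₂ ≫ snd _ _ ≫ snd _ _)) ≫ ψ := by
      conv_lhs => rw [← Category.assoc, decomp (g ≫ a₂)]
      simp only [Category.assoc]
    rw [e1, e2, hx, hadd, hvan, _root_.one_mul, h1, h3]
  -- local surjectivity
  obtain ⟨R₀, hR₀, hl₀⟩ := Groth.Agent.Lib.Helper14.ShExactLoc.exists_cover_lift_epi
    Scheme.fppfPrecoverage π hepi (𝟙 (P ⊗ (M'' ⊗ Q)) ≫ snd _ _ ≫ fst _ _)
  obtain ⟨ψ', hψ', huniq⟩ := Groth.Agent.Lib.Helper14.ShExactLoc.descend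
    (QuotSh.J Scheme.fppfPrecoverage S)
    (Groth.Agent.Lib.Helper14.ShExactLoc.isSheaf_yoneda Scheme.fppfPrecoverage N)
    (P ◁ (π ▷ Q)) ψ R₀ hR₀
    (by
      intro T h hh
      obtain ⟨x, hx⟩ := hl₀ h hh
      refine ⟨lift (h ≫ fst _ _) (lift x (h ≫ snd _ _ ≫ snd _ _)), ?_⟩
      rw [hq, hx, Category.id_comp]
      exact (decomp h).symm)
    hfib
  have hψ'2 : ∀ {T : Over S} (p : T ⟶ P) (y : T ⟶ M) (q : T ⟶ Q),
      lift p (lift (y ≫ π) q) ≫ ψ' = lift p (lift y q) ≫ ψ := by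
    intro T p y q
    rw [← hq, Category.assoc, hψ']
  refine ⟨ψ', hψ', ?_, ?_, huniq⟩
  · intro T p q y z
    obtain ⟨R₁, hR₁, hl₁⟩ := Groth.Agent.Lib.Helper14.ShExactLoc.exists_cover_lift_epi
      Scheme.fppfPrecoverage π hepi y
    obtain ⟨R₂, hR₂, hl₂⟩ := Groth.Agent.Lib.Helper14.ShExactLoc.exists_cover_lift_epi
      Scheme.fppfPrecoverage π hepi z
    refine Groth.Agent.Lib.Helper14.ShExactLoc.ext_of_cover Scheme.fppfPrecoverage
      ((QuotSh.J Scheme.fppfPrecoverage S).intersection_covering hR₁ hR₂) _ _ ?_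
    intro T' g hg
    obtain ⟨y₀, hy₀⟩ := hl₁ g hg.1
    obtain ⟨z₀, hz₀⟩ := hl₂ g hg.2
    rw [MonObj.comp_mul, ← Category.assoc, ← Category.assoc, ← Category.assoc, comp_lift,
      comp_lift, comp_lift, comp_lift, comp_lift, comp_lift, MonObj.comp_mul, ← hy₀, ← hz₀,
      ← MonObj.mul_comp, hψ'2, hψ'2, hψ'2, hadd]
  · intro T p q y a
    obtain ⟨R₁, hR₁, hl₁⟩ := Groth.Agent.Lib.Helper14.ShExactLoc.exists_cover_lift_epi
      Scheme.fppfPrecoverage π hepi y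
    refine Groth.Agent.Lib.Helper14.ShExactLoc.ext_of_cover Scheme.fppfPrecoverage hR₁ _ _ ?_
    intro T' g hg
    obtain ⟨y₀, hy₀⟩ := hl₁ g hg
    rw [← Category.assoc, ← Category.assoc g, ← Category.assoc g, comp_lift, comp_lift,
      comp_lift, comp_lift, ← Category.assoc g, ← hy₀, Category.assoc y₀, hπ a,
      ← Category.assoc y₀, hψ'2, hψ'2, hlin]

end Groth.Agent.S13636
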