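import Groth.Statements.S13682
import Mathlib

set_option autoImplicit false
universe u v w
open scoped BigOperators
open BTGrp

namespace Groth.Agent.S13682



section
variable {A : Type u} [CommRing A] {r : ℕ} {M : Fin r → Type v} {N : Type w}
  [∀ i, AddCommGroup (M i)] [∀ i, Module A (M i)] [AddCommGroup N] [Module A N]
  (φ : MultilinearMap A M N)

/-- three-case family -/
def mix (a c b : ∀ k, M k) (i : Fin r) : ∀ k, M k :=
  fun k => if k < i then a k else if k = i then c k else b k

def SS (a c b : ∀ k, M k) : N := ∑ i, φ (mix a c b i)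

def hyb (a b : ∀ k, M k) (t : ℕ) : ∀ k, M k := fun k => if (k : ℕ) < t then a k else b k

theorem hyb_step (a b : ∀ k, M k) (i : Fin r) :
    φ (hyb a b ((i : ℕ) + 1)) - φ (hyb a b (i : ℕ)) = φ (mix a (a - b) b i) := by
  have h0 : mix a (a - b) b i = Function.update (mix a (a - b) b i) i (a i - b i) := by
    have : (mix a (a - b) b i) i = a i - b i := by simp [mix]
    rw [← this, Function.update_eq_self]
  have h1 : Function.update (mix a (a - b) b i) i (a i) = hyb a b ((i : ℕ) + 1) := by
    funext l
    by_cases hl : l = i
    · subst hl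
      rw [Function.update_self]
      simp [hyb]
    · rw [Function.update_of_ne hl]
      simp only [mix, hyb, Fin.lt_def]
      have hl' : (l : ℕ) ≠ (i : ℕ) := fun h => hl (Fin.ext h)
      split_ifs <;> first | rfl | (exfalso; omega)
  have h2 : Function.update (mix a (a - b) b i) i (b i) = hyb a b (i : ℕ) := by
    funext l
    by_cases hl : l = i
    · subst hl
      rw [Function.update_self]
      simp [hyb]
    · rw [Function.update_of_ne hl]
      simp only [mix, hyb, Fin.lt_def]
      have hl' : (l : ℕ) ≠ (i : ℕ) := fun h => hl (Fin.ext h)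
      split_ifs <;> first | rfl | (exfalso; omega)
  rw [h0, MultilinearMap.map_update_sub, h1, h2]

theorem tele (a b : ∀ k, M k) : φ a - φ b = SS φ a (a - b) b := by
  unfold SS
  have h1 : ∀ i : Fin r, φ (mix a (a - b) b i) =
      (fun t : ℕ => φ (hyb a b (t + 1)) - φ (hyb a b t)) (i : ℕ) := fun i => (hyb_step φ a b i).symm
  rw [Finset.sum_congr rfl (fun i _ => h1 i),
    Fin.sum_univ_eq_sum_range (fun t : ℕ => φ (hyb a b (t + 1)) - φ (hyb a b t)) r,
    Finset.sum_range_sub (fun t => φ (hyb a b t))]
  have ha : hyb a b r = a := by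
    funext k; simp [hyb, k.isLt]
  have hb : hyb a b 0 = b := by
    funext k; simp [hyb]
  rw [ha, hb]

/-- five-case family -/
def QQ (a d m e b : ∀ k, M k) (i k : Fin r) : ∀ l, M l :=
  fun l => if l < i then a l else if l = i then d l else if l < k then m l
    else if l = k then e l else b l

theorem K1 (α : A) (a d m e b : ∀ k, M k) (h2 : m = b + α • e) (i k : Fin r) :
    φ (mix (mix a d m i) (mix a d m i - mix a d b i) (mix a d b i) k) =
      if i < k then α • φ (QQ a d m e b i k) else 0 := by
  by_cases hik : i < k
  · rw [if_pos hik]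
    have h0 : QQ a d m e b i k = Function.update (QQ a d m e b i k) k (e k) := by
      have : (QQ a d m e b i k) k = e k := by
        have h1 : ¬ k < i := not_lt.mpr hik.le
        have h3 : k ≠ i := (ne_of_lt hik).symm
        simp [QQ, h1, h3]
      rw [← this, Function.update_eq_self]
    have h1 : mix (mix a d m i) (mix a d m i - mix a d b i) (mix a d b i) k =
        Function.update (QQ a d m e b i k) k (α • e k) := by
      funext l
      by_cases hl : l = k
      · subst hl
        rw [Function.update_self]
        have h1 : ¬ l < i := not_lt.mpr hik.le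
        have h3 : l ≠ i := (ne_of_lt hik).symm
        have h4 : m l = b l + α • e l := congrFun h2 l
        simp [mix, h1, h3, h4]
      · rw [Function.update_of_ne hl]
        simp only [mix, QQ, Fin.lt_def] at hik ⊢
        have hl' : (l : ℕ) ≠ (k : ℕ) := fun h => hl (Fin.ext h)
        by_cases hli : l = i
        · subst hli
          simp [hik]
        · have hli' : (l : ℕ) ≠ (i : ℕ) := fun h => hli (Fin.ext h)
          simp only [hl, hli, if_false]
          split_ifs <;> first | rfl | (exfalso; omega)
    rw [h1, MultilinearMap.map_update_smul, ← h0]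
  · rw [if_neg hik]
    apply φ.map_coord_zero k
    have hki : k ≤ i := not_lt.mp hik
    rcases hki.lt_or_eq with h | h
    · simp [mix, h]
    · subst h
      simp [mix]

theorem K2 (α : A) (a d m e b : ∀ k, M k) (h1 : a = m + α • d) (i k : Fin r) :
    φ (mix (mix a e b k) (mix a e b k - mix m e b k) (mix m e b k) i) =
      if i < k then α • φ (QQ a d m e b i k) else 0 := by
  by_cases hik : i < k
  · rw [if_pos hik]
    have h0 : QQ a d m e b i k = Function.update (QQ a d m e b i k) i (d i) := by
      have : (QQ a d m e b i k) i = d i := by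
        simp [QQ]
      rw [← this, Function.update_eq_self]
    have h1 : mix (mix a e b k) (mix a e b k - mix m e b k) (mix m e b k) i =
        Function.update (QQ a d m e b i k) i (α • d i) := by
      funext l
      by_cases hl : l = i
      · subst hl
        rw [Function.update_self]
        have h4 : a l = m l + α • d l := congrFun h1 l
        simp [mix, hik, h4]
      · rw [Function.update_of_ne hl]
        simp only [mix, QQ, Fin.lt_def] at hik ⊢
        have hl' : (l : ℕ) ≠ (i : ℕ) := fun h => hl (Fin.ext h)
        by_cases hlk : l = k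
        · subst hlk
          have : ¬ (l : ℕ) < (i : ℕ) := by omega
          simp [this, hl]
        · have hlk' : (l : ℕ) ≠ (k : ℕ) := fun h => hlk (Fin.ext h)
          simp only [hl, hlk, if_false]
          split_ifs <;> first | rfl | (exfalso; omega)
    rw [h1, MultilinearMap.map_update_smul, ← h0]
  · rw [if_neg hik]
    apply φ.map_coord_zero i
    have hki : k ≤ i := not_lt.mp hik
    rcases hki.lt_or_eq with h | h
    · have h' : ¬ i < k := hik
      have h'' : i ≠ k := (ne_of_lt h).symm
      simp [mix, h', h'']
    · subst h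
      simp [mix]

theorem GG (α : A) (a d m e b : ∀ k, M k) (h1 : a = m + α • d) (h2 : m = b + α • e) :
    SS φ a d m - SS φ a d b = SS φ a e b - SS φ m e b := by
  have hL : SS φ a d m - SS φ a d b =
      ∑ i : Fin r, ∑ k : Fin r, if i < k then α • φ (QQ a d m e b i k) else 0 := by
    unfold SS
    rw [← Finset.sum_sub_distrib]
    refine Finset.sum_congr rfl (fun i _ => ?_)
    rw [tele φ (mix a d m i) (mix a d b i)]
    unfold SS
    exact Finset.sum_congr rfl (fun k _ => K1 φ α a d m e b h2 i k)
  have hR : SS φ a e b - SS φ m e b =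
      ∑ k : Fin r, ∑ i : Fin r, if i < k then α • φ (QQ a d m e b i k) else 0 := by
    unfold SS
    rw [← Finset.sum_sub_distrib]
    refine Finset.sum_congr rfl (fun k _ => ?_)
    rw [tele φ (mix a e b k) (mix m e b k)]
    unfold SS
    exact Finset.sum_congr rfl (fun i _ => K2 φ α a d m e b h1 i k)
  rw [hL, hR, Finset.sum_comm]

theorem mix_eq_update (a c b : ∀ k, M k) (i : Fin r) :
    mix a c b i = Function.update (mix a 0 b i) i (c i) := by
  funext l
  by_cases hl : l = i
  · subst hl
    rw [Function.update_self]
    simp [mix]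
  · rw [Function.update_of_ne hl]
    simp [mix, hl]

theorem SS_sum {ι : Type*} (s : Finset ι) (a b : ∀ k, M k) (c : ι → ∀ k, M k) :
    SS φ a (∑ j ∈ s, c j) b = ∑ j ∈ s, SS φ a (c j) b := by
  unfold SS
  rw [Finset.sum_comm]
  refine Finset.sum_congr rfl (fun i _ => ?_)
  rw [mix_eq_update]
  have : ∀ j, φ (mix a (c j) b i) = (φ.toLinearMap (mix a 0 b i) i) (c j i) := by
    intro j
    rw [mix_eq_update]
    rfl
  rw [Finset.sum_congr rfl (fun j _ => this j), ← map_sum, Finset.sum_apply]
  rfl

theorem main_aux (α : A) (W Y : ℕ → ∀ k, M k) (n : ℕ)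
    (hw : ∀ j < n, W (j + 1) = W j + α • Y j) :
    W n = W 0 + α • ∑ j ∈ Finset.range n, Y j := by
  induction n with
  | zero => simp
  | succ n ih =>
    rw [hw n (Nat.lt_succ_self n), ih (fun j hj => hw j (Nat.lt_succ_of_lt hj)),
      Finset.sum_range_succ, smul_add, add_assoc]

theorem main (α : A) (W Y : ℕ → ∀ k, M k) (n : ℕ)
    (hw : ∀ j < n, W (j + 1) = W j + α • Y j) :
    ∑ j ∈ Finset.range n, SS φ (W (j + 1)) (Y j) (W j) =
      ∑ j ∈ Finset.range n, SS φ (W n) (Y j) (W 0) := by
  induction n with
  | zero => simp
  | succ n ih =>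
    have hw' : ∀ j < n, W (j + 1) = W j + α • Y j := fun j hj => hw j (Nat.lt_succ_of_lt hj)
    rw [Finset.sum_range_succ, Finset.sum_range_succ, ih hw']
    have h1 : W (n + 1) = W n + α • Y n := hw n (Nat.lt_succ_self n)
    have h2 := main_aux α W Y n hw'
    have hG := GG φ α (W (n + 1)) (Y n) (W n) (∑ j ∈ Finset.range n, Y j) (W 0) h1 h2
    rw [SS_sum, SS_sum] at hG
    have : ∀ x y z t : N, x - y = z - t → t + x = z + y := by
      intro x y z t h
      have h' : x = z - t + y := by rw [← h]; abel
      rw [h']; abel
    exact this _ _ _ _ hG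

end

/-- Let A be a commutative ring, α ∈ A a non-zero-divisor, M_1, …, M_r and N modules over A and φ : M_1
× ⋯ × M_r → N an A-multilinear map. Let n be a natural number and let y_{i,j} (j < n) and w_{i,j} (j
≤ n) be elements of M_i with w_{i,j+1} = w_{i,j} + α y_{i,j} for all i and all j < n. Then Σ_i
Σ_{j<n} φ(w_{1,j+1}, …, w_{i-1,j+1}, y_{i,j}, w_{i+1,j}, …, w_{r,j}) = Σ_i Σ_{j<n} φ(w_{1,n}, …,
w_{i-1,n}, y_{i,j}, w_{i+1,0}, …, w_{r,0}). (The published statement takes n ≥ 1; for n = 0 both
sides are empty sums. The families y, w are indexed by all natural numbers here and only the indices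
named above enter.) -/
theorem result {A : Type u} [CommRing A] (α : A) (hα : α ∈ nonZeroDivisors A)
    {r : ℕ} (M : Fin r → Type v) (N : Type w) [∀ i, AddCommGroup (M i)] [∀ i, Module A (M i)]
    [AddCommGroup N] [Module A N] (φ : MultilinearMap A M N) (n : ℕ)
    (y w : ∀ i, ℕ → M i) (hw : ∀ i, ∀ j < n, w i (j + 1) = w i j + α • y i j) :
    (∑ i : Fin r, ∑ j ∈ Finset.range n,
        φ (fun k => if k < i then w k (j + 1) else if k = i then y k j else w k j)) =
      ∑ i : Fin r, ∑ j ∈ Finset.range n,
        φ (fun k => if k < i then w k n else if k = i then y k j else w k 0) := by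

  have h := main φ α (fun j k => w k j) (fun j k => y k j) n (by
    intro j hj
    funext k
    exact hw k j hj)
  unfold SS at h
  rw [Finset.sum_comm]
  conv_rhs => rw [Finset.sum_comm]
  exact h

end Groth.Agent.S13682
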