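import Groth.Statements.S13695
import Groth.Agent.Lib.Helper15.LawCHKer
-- import your own Groth.Agent.* helpers here

set_option autoImplicit false
universe u
open scoped TensorProduct
open ZeroCyc

namespace Groth.Agent.S13695

/-- For a commutative ring A, a commutative A-algebra B and a multiplicative polynomial law F : B → A
homogeneous of degree d, the quotient of B by the kernel of F (the largest ideal I of B such that F
factors through B/I) is integral over A. Geometrically: the image of a family of zero-cycles of
degree d on Spec B parametrised by Spec A is integral over Spec A. -/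
theorem result {A : Type u} [CommRing A] {B : Type u} [CommRing B] [Algebra A B]
    {d : ℕ} (F : PolLaw.MulLaw A B A d) :
    Algebra.IsIntegral A (PolLaw.image F.law) := by
  constructor
  intro q
  obtain ⟨b, rfl⟩ := Ideal.Quotient.mk_surjective q
  let χ := Groth.Agent.Lib.Helper15.LawCHKer.chiB F b
  refine ⟨Polynomial.C ((-1 : A) ^ d) * χ, ?_, ?_⟩
  · apply Polynomial.monic_of_natDegree_le_of_coeff_eq_one d
    · refine (Polynomial.natDegree_C_mul_le _ _).trans ?_
      exact Groth.Agent.Lib.Helper15.LawCHKer.chiB_natDegree_le F b
    · rw [Polynomial.coeff_C_mul, Groth.Agent.Lib.Helper15.LawCHKer.chiB_coeff_d, ← mul_pow]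
      norm_num
  · have h1 : Polynomial.aeval (Ideal.Quotient.mk (PolLaw.ker F.law) b) χ = 0 := by
      have h2 := Polynomial.aeval_algHom_apply (Ideal.Quotient.mkₐ A (PolLaw.ker F.law)) b χ
      have h3 : (Ideal.Quotient.mkₐ A (PolLaw.ker F.law)) b =
          Ideal.Quotient.mk (PolLaw.ker F.law) b := rfl
      rw [h3] at h2
      rw [h2]
      exact Ideal.Quotient.eq_zero_iff_mem.mpr
        (Groth.Agent.Lib.Helper15.LawCHKer.aeval_chiB_mem_ker F b)
    rw [← Polynomial.aeval_def, map_mul, h1, mul_zero]

end Groth.Agent.S13695
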