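import Groth.Statements.S13703
import Groth.Agent.Lib.Helper15.LawField
import Groth.Agent.Lib.Helper15.KerBCInj
-- import your own Groth.Agent.* helpers here

set_option autoImplicit false
universe u
open scoped TensorProduct
open ZeroCyc

namespace Groth.Agent.S13703

/-- Let A be an integral domain, B a commutative A-algebra and F : B → A a multiplicative polynomial law
homogeneous of degree d. For every prime ideal P of B minimal among those containing the kernel of
F, the contraction of P to A is zero and every prime of A is the contraction of a prime of B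
containing P. Geometrically: every irreducible component of the support of the family of zero-cycles
on Spec B defined by F maps onto Spec A. (The published statement is over an arbitrary algebraic
space S, every irreducible component of the support mapping onto an irreducible component of S, and
its proof reduces to an integral affine base; this row is that case.) -/
theorem result {A : Type u} [CommRing A] [IsDomain A] {B : Type u} [CommRing B] [Algebra A B]
    {d : ℕ} (F : PolLaw.MulLaw A B A d) {P : Ideal B} (hP : P ∈ (PolLaw.ker F.law).minimalPrimes) :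
    P.comap (algebraMap A B) = ⊥ ∧
      ∀ q : Ideal A, q.IsPrime → ∃ Q : Ideal B, Q.IsPrime ∧ P ≤ Q ∧ Q.comap (algebraMap A B) = q := by
  classical
  have hinj : Function.Injective (algebraMap A (FractionRing A)) :=
    IsFractionRing.injective A (FractionRing A)
  have hcomap := Groth.Agent.Lib.Helper15.KerBCInj.comap_kerBC F (FractionRing A) hinj
  have hP' := hP
  rw [← hcomap] at hP'
  obtain ⟨Q', hQ'prime, hQ'le, hQ'eq⟩ := Ideal.exists_comap_eq_of_mem_minimalPrimes
    ((Algebra.TensorProduct.includeRight : B →ₐ[A] (FractionRing A) ⊗[A] B) :
      B →+* (FractionRing A) ⊗[A] B) P hP'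
  have h1 : P.comap (algebraMap A B) = ⊥ := by
    rw [← hQ'eq, Ideal.comap_comap]
    have hc : ((Algebra.TensorProduct.includeRight : B →ₐ[A] (FractionRing A) ⊗[A] B) :
        B →+* (FractionRing A) ⊗[A] B).comp (algebraMap A B) =
        (algebraMap (FractionRing A) ((FractionRing A) ⊗[A] B)).comp
          (algebraMap A (FractionRing A)) := by
      ext a
      rw [RingHom.comp_apply, RingHom.comp_apply, Algebra.TensorProduct.algebraMap_apply]
      change (1 : FractionRing A) ⊗ₜ[A] (algebraMap A B a) = _
      rw [Algebra.algebraMap_eq_smul_one, Algebra.algebraMap_eq_smul_one (R := A),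
        TensorProduct.tmul_smul, TensorProduct.smul_tmul']
      rfl
    rw [hc, ← Ideal.comap_comap]
    have hbot : Q'.comap (algebraMap (FractionRing A) ((FractionRing A) ⊗[A] B)) = ⊥ := by
      rcases Ideal.eq_bot_or_top
        (Q'.comap (algebraMap (FractionRing A) ((FractionRing A) ⊗[A] B))) with h | h
      · exact h
      · exfalso
        exact (Ideal.comap_isPrime (algebraMap (FractionRing A) ((FractionRing A) ⊗[A] B))
          Q').ne_top h
    rw [hbot, ← RingHom.ker_eq_comap_bot]
    exact (RingHom.injective_iff_ker_eq_bot _).mp hinj
  refine ⟨h1, ?_⟩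
  intro q hq
  haveI := Groth.Agent.Lib.Helper15.LawField.isIntegral_image F
  have hker : PolLaw.ker F.law ≤ P := hP.1.2
  have hπ : Function.Surjective (Ideal.Quotient.mk (PolLaw.ker F.law)) :=
    Ideal.Quotient.mk_surjective
  have hcm : (P.map (Ideal.Quotient.mk (PolLaw.ker F.law))).comap
      (Ideal.Quotient.mk (PolLaw.ker F.law)) = P := by
    rw [Ideal.comap_map_of_surjective _ hπ, ← RingHom.ker_eq_comap_bot, Ideal.mk_ker]
    exact sup_eq_left.mpr hker
  have hle : (P.map (Ideal.Quotient.mk (PolLaw.ker F.law))).comap
      (algebraMap A (PolLaw.image F.law)) ≤ q := by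
    have h2 : (algebraMap A (PolLaw.image F.law)) =
        (Ideal.Quotient.mk (PolLaw.ker F.law)).comp (algebraMap A B) := rfl
    rw [h2, ← Ideal.comap_comap, hcm, h1]
    exact bot_le
  obtain ⟨Q, hQge, hQprime, hQeq⟩ := Ideal.exists_ideal_over_prime_of_isIntegral q
    (P.map (Ideal.Quotient.mk (PolLaw.ker F.law))) hle
  refine ⟨Q.comap (Ideal.Quotient.mk (PolLaw.ker F.law)), Ideal.comap_isPrime _ Q, ?_, ?_⟩
  · rw [← hcm]
    exact Ideal.comap_mono hQge
  · rw [Ideal.comap_comap]
    exact hQeq

end Groth.Agent.S13703
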