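import Groth.Statements.S13704
import Groth.Agent.Lib.Helper15.LawGoingDown
-- import your own Groth.Agent.* helpers here

set_option autoImplicit false
universe u
open scoped TensorProduct
open ZeroCyc

namespace Groth.Agent.S13704

/-- Let F : B → A be a multiplicative polynomial law homogeneous of degree d over the commutative ring A
and let Z = Spec(B/ker F) be the image of the corresponding family of zero-cycles on Spec B over
Spec A. Then Z → Spec A is universally generizing: for every commutative A-algebra A', along the map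
Spec(A' ⊗_A (B/ker F)) → Spec A' every generization of the image of a point lifts to a generization
of the point. (The published statement is for X affine over an algebraic space S and for the support
of the family; this row is the case of an affine base, stated for the image, which has the same
underlying space as the support since generizing is a topological property.) -/
theorem result {A : Type u} [CommRing A] {B : Type u} [CommRing B] [Algebra A B]
    {d : ℕ} (F : PolLaw.MulLaw A B A d) (A' : Type u) [CommRing A'] [Algebra A A'] :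
    GeneralizingMap (PrimeSpectrum.comap (algebraMap A' (A' ⊗[A] PolLaw.image F.law))) := by
  classical
  intro x y' hy'
  rw [← PrimeSpectrum.le_iff_specializes] at hy'
  let q : B →ₐ[A] PolLaw.image F.law := Ideal.Quotient.mkₐ A (PolLaw.ker F.law)
  have hq : Function.Surjective q := Ideal.Quotient.mkₐ_surjective A _
  let f : A' ⊗[A] B →ₐ[A] A' ⊗[A] PolLaw.image F.law :=
    Algebra.TensorProduct.map (AlgHom.id A A') q
  have hf : Function.Surjective f :=
    Algebra.TensorProduct.map_surjective (AlgHom.id A A') q Function.surjective_id hq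
  have hkerf : RingHom.ker (f : A' ⊗[A] B →+* A' ⊗[A] PolLaw.image F.law) =
      (PolLaw.ker F.law).map
      (Algebra.TensorProduct.includeRight : B →ₐ[A] A' ⊗[A] B) := by
    have h1 := Algebra.TensorProduct.lTensor_ker (A := A') q hq
    have h2 : RingHom.ker q = PolLaw.ker F.law := Ideal.Quotient.mkₐ_ker A _
    rw [h2] at h1
    exact h1
  have hfalg : (f : A' ⊗[A] B →+* A' ⊗[A] PolLaw.image F.law).comp
      (algebraMap A' (A' ⊗[A] B)) = algebraMap A' (A' ⊗[A] PolLaw.image F.law) := by
    ext a
    rw [RingHom.comp_apply, Algebra.TensorProduct.algebraMap_apply,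
      Algebra.TensorProduct.algebraMap_apply]
    change f (a ⊗ₜ[A] (1 : B)) = _
    rw [Algebra.TensorProduct.map_tmul, map_one]
    rfl
  let FK := Groth.Agent.Lib.Helper15.BCLaw.bcLaw A' F
  have hkerFK : PolLaw.ker FK.law = PolLaw.kerBC F.law A' :=
    Groth.Agent.Lib.Helper15.BCLaw.ker_bcLaw (A' := A') F
  -- the prime `Q` of `A' ⊗ B`
  let Q : Ideal (A' ⊗[A] B) := x.asIdeal.comap (f : A' ⊗[A] B →+* A' ⊗[A] PolLaw.image F.law)
  haveI hQp : Q.IsPrime := Ideal.comap_isPrime _ _
  have hQ1 : (PolLaw.ker F.law).map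
      (Algebra.TensorProduct.includeRight : B →ₐ[A] A' ⊗[A] B) ≤ Q := by
    rw [← hkerf]
    intro z hz
    rw [Ideal.mem_comap, (RingHom.mem_ker).mp hz]
    exact Ideal.zero_mem _
  have hQ2 : PolLaw.ker FK.law ≤ Q := by
    rw [hkerFK]
    exact Groth.Agent.Lib.Helper15.LawGoingDown.kerBC_le_of_prime F A' Q hQ1
  have hQ3 : y'.asIdeal ≤ Q.comap (algebraMap A' (A' ⊗[A] B)) := by
    rw [Ideal.comap_comap, hfalg]
    exact hy'
  obtain ⟨Q₀, hQ₀p, hQ₀ker, hQ₀le, hQ₀eq⟩ :=
    Groth.Agent.Lib.Helper15.LawGoingDown.goingDown FK Q hQ2 y'.asIdeal hQ3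
  have hkerle : RingHom.ker (f : A' ⊗[A] B →+* A' ⊗[A] PolLaw.image F.law) ≤ Q₀ := by
    rw [hkerf]
    refine (Groth.Agent.Lib.Helper15.LawCH2.map_ker_le_kerBC F A').trans ?_
    rw [← hkerFK]
    exact hQ₀ker
  have hprime : (Q₀.map (f : A' ⊗[A] B →+* A' ⊗[A] PolLaw.image F.law)).IsPrime :=
    Ideal.map_isPrime_of_surjective hf hkerle
  have hcm : (Q₀.map (f : A' ⊗[A] B →+* A' ⊗[A] PolLaw.image F.law)).comap
      (f : A' ⊗[A] B →+* A' ⊗[A] PolLaw.image F.law) = Q₀ := by
    rw [Ideal.comap_map_of_surjective (f : A' ⊗[A] B →+* A' ⊗[A] PolLaw.image F.law) hf,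
      ← RingHom.ker_eq_comap_bot]
    exact sup_eq_left.mpr hkerle
  refine ⟨⟨Q₀.map (f : A' ⊗[A] B →+* A' ⊗[A] PolLaw.image F.law), hprime⟩, ?_, ?_⟩
  · apply (PrimeSpectrum.le_iff_specializes _ _).mp
    change Q₀.map (f : A' ⊗[A] B →+* A' ⊗[A] PolLaw.image F.law) ≤ x.asIdeal
    rw [Ideal.map_le_iff_le_comap]
    exact hQ₀le
  · apply PrimeSpectrum.ext
    change (Q₀.map (f : A' ⊗[A] B →+* A' ⊗[A] PolLaw.image F.law)).comap
      (algebraMap A' (A' ⊗[A] PolLaw.image F.law)) = y'.asIdeal
    rw [← hfalg, ← Ideal.comap_comap, hcm]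
    exact hQ₀eq

end Groth.Agent.S13704
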