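import Groth.Statements.S13706
import Groth.Agent.Lib.Helper15.LawCH2
-- import your own Groth.Agent.* helpers here

set_option autoImplicit false
universe u
open scoped TensorProduct
open ZeroCyc

namespace Groth.Agent.S13706

/-- Let A be a commutative ring, B an A-algebra of finite type and F : B → A a multiplicative polynomial
law homogeneous of degree d. Then there is a finitely generated ideal J of B, contained in the
kernel of F and with the same radical; thus the support of the family of zero-cycles defined by F is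
carried by a bijective closed immersion into Spec(B/J), a scheme of finite presentation over A. -/
theorem result {A : Type u} [CommRing A] {B : Type u} [CommRing B] [Algebra A B]
    [Algebra.FiniteType A B] {d : ℕ} (F : PolLaw.MulLaw A B A d) :
    ∃ J : Ideal B, J.FG ∧ J ≤ PolLaw.ker F.law ∧ J.radical = (PolLaw.ker F.law).radical := by
  classical
  obtain ⟨s, hs⟩ := (Algebra.FiniteType.out : (⊤ : Subalgebra A B).FG)
  -- the ideal generated by the Cayley–Hamilton elements of the generators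
  obtain ⟨J₁, hJ₁⟩ : ∃ J₁ : Ideal B, J₁ = Ideal.span
      ((fun b => Polynomial.aeval b (Groth.Agent.Lib.Helper15.LawCHKer.chiB F b)) '' (s : Set B)) :=
    ⟨_, rfl⟩
  have hJ₁fg : J₁.FG := by
    rw [hJ₁]
    exact Submodule.fg_span ((Finset.finite_toSet s).image _)
  have hJ₁ker : J₁ ≤ PolLaw.ker F.law := by
    rw [hJ₁, Ideal.span_le]
    rintro _ ⟨b, -, rfl⟩
    exact Groth.Agent.Lib.Helper15.LawCHKer.aeval_chiB_mem_ker F b
  -- `B ⧸ J₁` is a finite `A`-module
  have hint : Algebra.IsIntegral A (B ⧸ J₁) := by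
    have hgen : ∀ b ∈ s, IsIntegral A (Ideal.Quotient.mk J₁ b) := by
      intro b hb
      let χ := Groth.Agent.Lib.Helper15.LawCHKer.chiB F b
      refine ⟨Polynomial.C ((-1 : A) ^ d) * χ, ?_, ?_⟩
      · apply Polynomial.monic_of_natDegree_le_of_coeff_eq_one d
        · refine (Polynomial.natDegree_C_mul_le _ _).trans ?_
          exact Groth.Agent.Lib.Helper15.LawCHKer.chiB_natDegree_le F b
        · rw [Polynomial.coeff_C_mul, Groth.Agent.Lib.Helper15.LawCHKer.chiB_coeff_d, ← mul_pow]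
          norm_num
      · have h1 : Polynomial.aeval (Ideal.Quotient.mk J₁ b) χ = 0 := by
          have h2 := Polynomial.aeval_algHom_apply (Ideal.Quotient.mkₐ A J₁) b χ
          have h3 : (Ideal.Quotient.mkₐ A J₁) b = Ideal.Quotient.mk J₁ b := rfl
          rw [h3] at h2
          rw [h2]
          apply Ideal.Quotient.eq_zero_iff_mem.mpr
          rw [hJ₁]
          exact Ideal.subset_span ⟨b, hb, rfl⟩
        rw [← Polynomial.aeval_def, map_mul, h1, mul_zero]
    have htop : Algebra.adjoin A ((Ideal.Quotient.mkₐ A J₁) '' (s : Set B)) = ⊤ := by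
      rw [← AlgHom.map_adjoin, hs, Algebra.map_top, AlgHom.range_eq_top]
      exact Ideal.Quotient.mkₐ_surjective A J₁
    have hle : (⊤ : Subalgebra A (B ⧸ J₁)) ≤ integralClosure A (B ⧸ J₁) := by
      rw [← htop]
      apply Algebra.adjoin_le
      rintro _ ⟨b, hb, rfl⟩
      exact hgen b hb
    constructor
    intro q
    exact hle (Algebra.mem_top (x := q))
  have hft : Algebra.FiniteType A (B ⧸ J₁) :=
    Algebra.FiniteType.of_surjective (Ideal.Quotient.mkₐ A J₁) (Ideal.Quotient.mkₐ_surjective A J₁)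
  have hfin : Module.Finite A (B ⧸ J₁) := Algebra.IsIntegral.finite
  obtain ⟨S, hS⟩ := (Module.Finite.fg_top : (⊤ : Submodule A (B ⧸ J₁)).FG)
  -- lifts of the module generators
  let lift : (B ⧸ J₁) → B := Function.surjInv (Ideal.Quotient.mk_surjective (I := J₁))
  have hlift : ∀ q, Ideal.Quotient.mk J₁ (lift q) = q :=
    Function.surjInv_eq (Ideal.Quotient.mk_surjective (I := J₁))
  -- the generic element and its Cayley–Hamilton element
  obtain ⟨y, hy⟩ : ∃ y : MvPolynomial (B ⧸ J₁) A ⊗[A] B,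
    y = ∑ q ∈ S, (MvPolynomial.X q : MvPolynomial (B ⧸ J₁) A) ⊗ₜ[A] lift q := ⟨_, rfl⟩
  obtain ⟨c, hc⟩ : ∃ c : MvPolynomial (B ⧸ J₁) A ⊗[A] B,
    c = Polynomial.aeval y (Groth.Agent.Lib.Helper15.LawCH.chi F (MvPolynomial (B ⧸ J₁) A) y) :=
    ⟨_, rfl⟩
  obtain ⟨f, hf1, hf2⟩ := Groth.Agent.Lib.Helper15.LawFree.exists_repr_tcoeff c
  have hfker : ∀ α, f α ∈ PolLaw.ker F.law := by
    intro α
    rw [hf1, hc]
    exact Groth.Agent.Lib.Helper15.LawCH2.ext_cayleyHamilton F _ y (MvPolynomial.lcoeff A α)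
  obtain ⟨J₂, hJ₂⟩ : ∃ J₂ : Ideal B, J₂ = Ideal.span ((fun α => f α) '' (f.support : Set _)) :=
    ⟨_, rfl⟩
  have hJ₂fg : J₂.FG := by
    rw [hJ₂]
    exact Submodule.fg_span ((Finset.finite_toSet f.support).image _)
  have hJ₂ker : J₂ ≤ PolLaw.ker F.law := by
    rw [hJ₂, Ideal.span_le]
    rintro _ ⟨α, -, rfl⟩
    exact hfker α
  refine ⟨J₁ ⊔ J₂, Submodule.FG.sup hJ₁fg hJ₂fg, sup_le hJ₁ker hJ₂ker, ?_⟩
  apply le_antisymm (Ideal.radical_mono (sup_le hJ₁ker hJ₂ker))
  rw [Ideal.radical_le_radical_iff]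
  intro b hb
  -- write `b` modulo `J₁` as a combination of the lifts
  have hmem : Ideal.Quotient.mk J₁ b ∈ Submodule.span A (S : Set (B ⧸ J₁)) := by
    rw [hS]; trivial
  obtain ⟨a, -, ha⟩ := (Submodule.mem_span_finset).mp hmem
  obtain ⟨b₀, hb₀⟩ : ∃ b₀ : B, b₀ = ∑ q ∈ S, a q • lift q := ⟨_, rfl⟩
  have hdiff : b - b₀ ∈ J₁ := by
    apply Ideal.Quotient.eq_zero_iff_mem.mp
    rw [map_sub, hb₀, map_sum, ← ha, sub_eq_zero]
    refine Finset.sum_congr rfl fun q _ => ?_
    have : Ideal.Quotient.mk J₁ (a q • lift q) = a q • Ideal.Quotient.mk J₁ (lift q) := rfl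
    rw [this, hlift]
  have hb₀ker : b₀ ∈ PolLaw.ker F.law := by
    have := (PolLaw.ker F.law).sub_mem hb (hJ₁ker hdiff)
    rwa [sub_sub_cancel] at this
  -- specialise the generic Cayley–Hamilton element
  let ψ : MvPolynomial (B ⧸ J₁) A →ₐ[A] A := MvPolynomial.aeval a
  have hy2 : Algebra.TensorProduct.map ψ (AlgHom.id A B) y = (1 : A) ⊗ₜ[A] b₀ := by
    rw [hy, map_sum, hb₀, TensorProduct.tmul_sum]
    refine Finset.sum_congr rfl fun q _ => ?_
    rw [Algebra.TensorProduct.map_tmul, AlgHom.id_apply, TensorProduct.tmul_smul,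
      TensorProduct.smul_tmul', smul_eq_mul, mul_one]
    congr 1
    exact MvPolynomial.aeval_X _ _
  have h4 := Groth.Agent.Lib.Helper15.LawCH2.map_ch F ψ y
  rw [← hc, hy2, ← Groth.Agent.Lib.Helper15.LawCHKer.chiB_eq,
    Groth.Agent.Lib.Helper15.LawCHKer.chiB_of_mem_ker F b₀ hb₀ker, map_pow, map_neg,
    Polynomial.aeval_X, hf2, map_sum] at h4
  have h5 := congrArg (TensorProduct.lid A B) h4
  rw [map_sum] at h5
  have h6 : TensorProduct.lid A B ((-((1 : A) ⊗ₜ[A] b₀)) ^ d) = (-b₀) ^ d := by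
    rw [← TensorProduct.tmul_neg, Algebra.TensorProduct.tmul_pow, one_pow, TensorProduct.lid_tmul,
      one_smul]
  rw [h6] at h5
  have h7 : (-b₀) ^ d ∈ J₂ := by
    rw [← h5]
    refine Ideal.sum_mem _ fun α hα => ?_
    rw [Algebra.TensorProduct.map_tmul, AlgHom.id_apply, TensorProduct.lid_tmul]
    rw [Algebra.smul_def]
    apply Ideal.mul_mem_left
    rw [hJ₂]
    exact Ideal.subset_span ⟨α, hα, rfl⟩
  have h8 : -b₀ ∈ (J₁ ⊔ J₂).radical := ⟨d, Ideal.mem_sup_right h7⟩
  have h9 : b₀ ∈ (J₁ ⊔ J₂).radical := by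
    have := neg_mem h8
    rwa [neg_neg] at this
  have h10 : b - b₀ ∈ (J₁ ⊔ J₂).radical := Ideal.le_radical (Ideal.mem_sup_left hdiff)
  have := Ideal.add_mem _ h10 h9
  rwa [sub_add_cancel] at this

end Groth.Agent.S13706
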