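import Groth.Statements.S13723
import Groth.Agent.Lib.Helper15.LawField
import Groth.Agent.Lib.Helper15.BCLaw
import Groth.Agent.Lib.Helper15.LawCH2
import Groth.Agent.Lib.Helper15.SpecTransfer
-- import your own Groth.Agent.* helpers here

set_option autoImplicit false
universe u
open scoped TensorProduct
open ZeroCyc

namespace Groth.Agent.S13723

/-- Let F : B → A be a multiplicative polynomial law homogeneous of degree d over the commutative ring A
and let Z = Spec(B/ker F) be the image of the family of zero-cycles it defines. For every field K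
and ring map A → K, the fibre Spec(K ⊗_A (B/ker F)) has finitely many points, at most d of them. In
particular every geometric fibre of Z → Spec A has at most d points and Z → Spec A has universally
topologically finite fibres. -/
theorem result {A : Type u} [CommRing A] {B : Type u} [CommRing B] [Algebra A B]
    {d : ℕ} (F : PolLaw.MulLaw A B A d) (K : Type u) [Field K] [Algebra A K] :
    Finite (PrimeSpectrum (K ⊗[A] PolLaw.image F.law)) ∧
      Nat.card (PrimeSpectrum (K ⊗[A] PolLaw.image F.law)) ≤ d := by
  classical
  let FK := Groth.Agent.Lib.Helper15.BCLaw.bcLaw K F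
  obtain ⟨hfin, hcard, -⟩ := Groth.Agent.Lib.Helper15.LawField.field_main FK
  let q : B →ₐ[A] PolLaw.image F.law := Ideal.Quotient.mkₐ A (PolLaw.ker F.law)
  have hq : Function.Surjective q := Ideal.Quotient.mkₐ_surjective A _
  let f : K ⊗[A] B →ₐ[A] K ⊗[A] PolLaw.image F.law :=
    Algebra.TensorProduct.map (AlgHom.id A K) q
  have hf : Function.Surjective f :=
    Algebra.TensorProduct.map_surjective (AlgHom.id A K) q Function.surjective_id hq
  have hkerf : RingHom.ker f = (PolLaw.ker F.law).map
      (Algebra.TensorProduct.includeRight : B →ₐ[A] K ⊗[A] B) := by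
    have h1 := Algebra.TensorProduct.lTensor_ker (A := K) q hq
    have h2 : RingHom.ker q = PolLaw.ker F.law := Ideal.Quotient.mkₐ_ker A _
    rw [h2] at h1
    exact h1
  let g : K ⊗[A] B →+* PolLaw.image FK.law := Ideal.Quotient.mk (PolLaw.ker FK.law)
  have hg : Function.Surjective g := Ideal.Quotient.mk_surjective
  have hkerg : RingHom.ker g = PolLaw.kerBC F.law K := by
    rw [Ideal.mk_ker]
    exact Groth.Agent.Lib.Helper15.BCLaw.ker_bcLaw (A' := K) F
  have hrad : (RingHom.ker (f : K ⊗[A] B →+* K ⊗[A] PolLaw.image F.law)).radical =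
      (RingHom.ker g).radical := by
    rw [hkerg, Groth.Agent.Lib.Helper15.LawCH2.radical_kerBC F K]
    congr 1
  let e := Groth.Agent.Lib.Helper15.SpecTransfer.equivOfRadical
    (f : K ⊗[A] B →+* K ⊗[A] PolLaw.image F.law) g hf hg hrad
  refine ⟨Finite.of_equiv _ e.symm, ?_⟩
  rw [Nat.card_congr e]
  exact hcard

end Groth.Agent.S13723
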