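import Groth.Statements.S13707
import Groth.Agent.Lib.Helper15.LawField
import Groth.Agent.Lib.Helper15.EmbFinite
import Groth.Agent.S13723
-- import your own Groth.Agent.* helpers here

set_option autoImplicit false
universe u
open scoped TensorProduct
open ZeroCyc

namespace Groth.Agent.S13707

/-- Let k be a field, B a commutative k-algebra and F : B → k a multiplicative polynomial law
homogeneous of degree d. Then the spectrum of B/ker F (the image of the family of zero-cycles of
degree d on Spec B defined by F) is a finite set of at most d closed points, and the residue field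
at each of them has finite separable degree over k. -/
theorem result {k : Type u} [Field k] {B : Type u} [CommRing B] [Algebra k B]
    {d : ℕ} (F : PolLaw.MulLaw k B k d) :
    Finite (PrimeSpectrum (PolLaw.image F.law)) ∧ Nat.card (PrimeSpectrum (PolLaw.image F.law)) ≤ d ∧
      ∀ P : PrimeSpectrum (PolLaw.image F.law), P.asIdeal.IsMaximal ∧
        Finite (Field.Emb k P.asIdeal.ResidueField) := by
  obtain ⟨hfin, hcard, hmax⟩ := Groth.Agent.Lib.Helper15.LawField.field_main F
  refine ⟨hfin, hcard, fun P => ⟨hmax P, ?_⟩⟩
  haveI : Finite (PrimeSpectrum ((AlgebraicClosure P.asIdeal.ResidueField) ⊗[k]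
      PolLaw.image F.law)) :=
    (Groth.Agent.S13723.result F (AlgebraicClosure P.asIdeal.ResidueField)).1
  exact Groth.Agent.Lib.Helper15.EmbFinite.finite_emb (k := k) P.asIdeal

end Groth.Agent.S13707
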