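import Groth.Statements.S13708
import Mathlib
-- import your own Groth.Agent.* helpers here

set_option autoImplicit false
universe u
open CategoryTheory CategoryTheory.Limits AlgebraicGeometry
open ZeroCyc

namespace Groth.Agent.S13708

/-- Let X be a scheme over S such that every finite set of points of X over a common point of S lies in
some affine open subscheme of X (the condition (AF)). Then X is separated over S. (The published
condition (AF) asks for an open U with U → S quasi-affine rather than U affine; with U affine, as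
here, the same argument applies verbatim, and the two conditions agree over a quasi-separated base.) -/
theorem result {X S : Scheme.{u}} (f : X ⟶ S) (hX : SymProd.IsAF f) :
    IsSeparated f := by
  constructor
  apply IsClosedImmersion.of_isPreimmersion
  rw [← isOpen_compl_iff, isOpen_iff_forall_mem_open]
  intro z hz
  classical
  have hcond : f.base ((pullback.fst f f).base z) = f.base ((pullback.snd f f).base z) := by
    rw [← Scheme.Hom.comp_apply, ← Scheme.Hom.comp_apply, pullback.condition]
  obtain ⟨U, hU, hUT⟩ := hX (f.base ((pullback.fst f f).base z))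
    {(pullback.fst f f).base z, (pullback.snd f f).base z} (by
      intro x hx
      rcases Finset.mem_insert.mp hx with h | h
      · rw [h]
      · rw [Finset.mem_singleton.mp h, hcond])
  have h1 : (pullback.fst f f).base z ∈ U := hUT _ (by simp)
  have h2 : (pullback.snd f f).base z ∈ U := hUT _ (by simp)
  have : IsAffine U := hU
  have hsep : IsSeparated (U.ι ≫ f) := by
    have : IsSeparated ((U.ι ≫ f) ≫ terminal.from S) := inferInstance
    exact IsSeparated.of_comp (U.ι ≫ f) (terminal.from S)
  let j := pullback.map (U.ι ≫ f) (U.ι ≫ f) f f U.ι U.ι (𝟙 S) (by simp) (by simp)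
  have : IsOpenImmersion j := inferInstance
  have hjfst : j ≫ pullback.fst f f = pullback.fst (U.ι ≫ f) (U.ι ≫ f) ≫ U.ι := pullback.lift_fst _ _ _
  have hjsnd : j ≫ pullback.snd f f = pullback.snd (U.ι ≫ f) (U.ι ≫ f) ≫ U.ι := pullback.lift_snd _ _ _
  have hjΔ : pullback.diagonal (U.ι ≫ f) ≫ j = U.ι ≫ pullback.diagonal f := by
    apply pullback.hom_ext
    · rw [Category.assoc, hjfst, pullback.diagonal_fst_assoc, Category.assoc, pullback.diagonal_fst, Category.comp_id]
    · rw [Category.assoc, hjsnd, pullback.diagonal_snd_assoc, Category.assoc, pullback.diagonal_snd, Category.comp_id]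
  have key : ∀ u, j.base ((pullback.diagonal (U.ι ≫ f)).base u) =
      (pullback.diagonal f).base (U.ι.base u) := fun u => by
    rw [← Scheme.Hom.comp_apply, ← Scheme.Hom.comp_apply, hjΔ]
  have hclosed : IsClosed (Set.range (pullback.diagonal (U.ι ≫ f)).base) :=
    (pullback.diagonal (U.ι ≫ f)).isClosedEmbedding.isClosed_range
  have hrange : Set.range j.base =
      (pullback.fst f f).base ⁻¹' Set.range U.ι.base ∩ (pullback.snd f f).base ⁻¹' Set.range U.ι.base :=
    Scheme.Pullback.range_map _ _ _ _ _ _ _ _ _
  refine ⟨j.base '' (Set.range (pullback.diagonal (U.ι ≫ f)).base)ᶜ, ?_,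
    j.isOpenEmbedding.isOpenMap _ hclosed.isOpen_compl, ?_⟩
  · rintro _ ⟨w', hw', rfl⟩ ⟨x, hx⟩
    apply hw'
    have hxU : x ∈ U := by
      have e1 : (pullback.fst f f).base ((pullback.diagonal f).base x) = x := by
        rw [← Scheme.Hom.comp_apply, pullback.diagonal_fst]; rfl
      rw [← e1, hx]
      have e2 : (pullback.fst f f).base (j.base w') =
          U.ι.base ((pullback.fst (U.ι ≫ f) (U.ι ≫ f)).base w') := by
        rw [← Scheme.Hom.comp_apply, ← Scheme.Hom.comp_apply, hjfst]
      rw [e2]
      exact ((pullback.fst (U.ι ≫ f) (U.ι ≫ f)).base w').2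
    refine ⟨⟨x, hxU⟩, ?_⟩
    apply j.isOpenEmbedding.injective
    exact (key ⟨x, hxU⟩).trans hx
  · have hz' : z ∈ Set.range j.base := by
      rw [hrange]
      exact ⟨⟨⟨_, h1⟩, rfl⟩, ⟨⟨_, h2⟩, rfl⟩⟩
    obtain ⟨w, rfl⟩ := hz'
    refine ⟨w, fun ⟨u, hu⟩ => hz ⟨U.ι.base u, ?_⟩, rfl⟩
    rw [← hu, key]

end Groth.Agent.S13708
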