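import Groth.Statements.S1371
import Mathlib
import Groth.Agent.Lib.Helper9.GenFlatCoker

set_option autoImplicit false
universe u
open FlatMor

namespace Groth.Agent.S1371

open Groth.Agent.Lib.Helper9.GenFlatCoker


/-- Let R be a Noetherian domain, R → A → B ring maps of finite type, M a finite A-module, N a finite
B-module and u : M → N an A-linear map. Then there is a nonzero f in R such that the cokernel of u,
localized at f, is a flat module over R[1/f]. -/
theorem result {R A B : Type u} [CommRing R] [IsDomain R] [IsNoetherianRing R] [CommRing A] [CommRing B]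
    [Algebra R A] [Algebra A B] [Algebra R B] [IsScalarTower R A B] [Algebra.FiniteType R A] [Algebra.FiniteType A B]
    {M N : Type u} [AddCommGroup M] [Module A M] [Module R M] [IsScalarTower R A M] [Module.Finite A M]
    [AddCommGroup N] [Module B N] [Module A N] [Module R N] [IsScalarTower A B N] [IsScalarTower R A N] [Module.Finite B N]
    (u : M →ₗ[A] N) :
    ∃ f : R, f ≠ 0 ∧ Module.Flat (Localization.Away f)
      (LocalizedModule (Submonoid.powers f) (N ⧸ (LinearMap.range u).restrictScalars R)) := by
  classical
  have hRBN : IsScalarTower R B N := IsScalarTower.of_algebraMap_smul fun r n => by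
    rw [IsScalarTower.algebraMap_apply R A B, algebraMap_smul, algebraMap_smul]
  have hRB : Algebra.FiniteType R B := Algebra.FiniteType.trans (S := A) inferInstance inferInstance
  obtain ⟨s, hs⟩ := (inferInstance : Algebra.FiniteType R A).out
  obtain ⟨t, ht⟩ := (inferInstance : Algebra.FiniteType A B).out
  obtain ⟨Tm, hTm⟩ := (inferInstance : Module.Finite A M).fg_top
  let Z₀ : Finset B := s.image (algebraMap A B)
  let T : Finset N := Tm.image u
  have hZ₀ : ∀ c : B, c ∈ Algebra.adjoin R (↑Z₀ : Set B) ↔ ∃ a : A, algebraMap A B a = c := by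
    intro c
    have h1 : Algebra.adjoin R (↑Z₀ : Set B) = (IsScalarTower.toAlgHom R A B).range := by
      rw [Finset.coe_image, ← Algebra.map_top, ← hs, AlgHom.map_adjoin]
      rfl
    rw [h1, AlgHom.mem_range]
    rfl
  -- (1)
  have h1 : spanOver (R := R) (↑Z₀ : Set B) (↑T : Set N) =
      (LinearMap.range u).restrictScalars R := by
    apply le_antisymm
    · intro n hn
      rw [mem_spanOver] at hn
      rw [Submodule.restrictScalars_mem]
      induction hn using Submodule.span_induction with
      | mem x hx =>
        rw [Finset.coe_image] at hx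
        obtain ⟨m, _, rfl⟩ := hx
        exact ⟨m, rfl⟩
      | zero => exact Submodule.zero_mem _
      | add x y _ _ hx hy => exact Submodule.add_mem _ hx hy
      | smul c x _ hx =>
        obtain ⟨a, ha⟩ := (hZ₀ c.1).mp c.2
        obtain ⟨m, rfl⟩ := hx
        refine ⟨a • m, ?_⟩
        rw [map_smul, ← algebraMap_smul B a (u m), ha]
        rfl
    · rintro _ ⟨m, rfl⟩
      have hm : m ∈ Submodule.span A (↑Tm : Set M) := by rw [hTm]; trivial
      rw [mem_spanOver]
      induction hm using Submodule.span_induction with
      | mem x hx =>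
        exact Submodule.subset_span (by rw [Finset.coe_image]; exact ⟨x, hx, rfl⟩)
      | zero => rw [map_zero]; exact Submodule.zero_mem _
      | add x y _ _ hx hy => rw [map_add]; exact Submodule.add_mem _ hx hy
      | smul a x _ hx =>
        rw [map_smul, ← algebraMap_smul B a (u x)]
        exact smul_mem_spanOver ((hZ₀ _).mpr ⟨a, rfl⟩) hx
  -- (2)
  have htop : ∀ b : B, b ∈ Algebra.adjoin R ((↑Z₀ : Set B) ∪ ↑t) := by
    intro b
    have hb : b ∈ Algebra.adjoin A (↑t : Set B) := by rw [ht]; trivial
    induction hb using Algebra.adjoin_induction with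
    | mem x hx => exact Algebra.subset_adjoin (Or.inr hx)
    | algebraMap a =>
      exact Algebra.adjoin_mono Set.subset_union_left ((hZ₀ _).mpr ⟨a, rfl⟩)
    | add x y _ _ hx hy => exact Subalgebra.add_mem _ hx hy
    | mul x y _ _ hx hy => exact Subalgebra.mul_mem _ hx hy
  have h2 : spanOver (R := R) ((↑Z₀ : Set B) ∪ ↑t) (↑T : Set N) =
      (Submodule.span B (↑T : Set N)).restrictScalars R := by
    apply le_antisymm
    · intro n hn
      rw [mem_spanOver] at hn
      rw [Submodule.restrictScalars_mem]
      induction hn using Submodule.span_induction with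
      | mem x hx => exact Submodule.subset_span hx
      | zero => exact Submodule.zero_mem _
      | add x y _ _ hx hy => exact Submodule.add_mem _ hx hy
      | smul c x _ hx => exact Submodule.smul_mem _ (c : B) hx
    · intro n hn
      rw [Submodule.restrictScalars_mem] at hn
      rw [mem_spanOver]
      induction hn using Submodule.span_induction with
      | mem x hx => exact Submodule.subset_span hx
      | zero => exact Submodule.zero_mem _
      | add x y _ _ hx hy => exact Submodule.add_mem _ hx hy
      | smul b x _ hx => exact smul_mem_spanOver (htop b) hx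
  -- (3)
  obtain ⟨g', -, hg'2, hg'3⟩ := Groth.Agent.Lib.Helper25.GFMod.exists_GF R B
    (N ⧸ Submodule.span B (↑T : Set N)) 1 one_ne_zero
  have h3 : GFl R (N ⧸ (Submodule.span B (↑T : Set N)).restrictScalars R) g' :=
    GFl.of_equiv (Submodule.Quotient.restrictScalarsEquiv R (Submodule.span B (↑T : Set N))).symm
      (GFl.of_GF hg'3)
  -- (4)
  obtain ⟨g, hg1, hg2, hg3⟩ := exists_gfl_chain (R := R) Z₀ t T g' hg'2
  rw [h1, h2] at hg3
  have hXY : (LinearMap.range u).restrictScalars R ≤
      (Submodule.span B (↑T : Set N)).restrictScalars R := by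
    rw [← h1, ← h2]
    exact spanOver_mono Set.subset_union_left _
  have h4 : GFl R (N ⧸ (LinearMap.range u).restrictScalars R) g :=
    GFl.quot_of_subQ hXY hg3 (h3.mono hg1)
  exact ⟨g, hg2, h4 g dvd_rfl⟩

end Groth.Agent.S1371
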