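import Groth.Statements.S13712
import Groth.Agent.S0593
-- import your own Groth.Agent.* helpers here

set_option autoImplicit false
universe u
open CategoryTheory CategoryTheory.Limits AlgebraicGeometry
open ZeroCyc

namespace Groth.Agent.S13712

/-- Let f : X → Y and g : Y → S be morphisms of schemes with g separated, such that the composite X → S
is integral with topologically finite fibres (every fibre is a finite set). Then the
scheme-theoretic image Y' of f, with its closed immersion Y' → Y, is integral over S, and Y' → S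
again has topologically finite fibres. (The published statement is for algebraic spaces; this row is
the case of schemes.) -/
theorem result {X Y S : Scheme.{u}} (f : X ⟶ Y) (g : Y ⟶ S)
    [IsSeparated g] [IsIntegralHom (f ≫ g)] (hfin : ∀ s : S, Set.Finite ((f ≫ g).base ⁻¹' {s})) :
    IsIntegralHom (f.imageι ≫ g) ∧ ∀ s : S, Set.Finite ((f.imageι ≫ g).base ⁻¹' {s}) := by
  have hf : IsIntegralHom f :=
    MorphismProperty.of_postcomp (W := @IsIntegralHom) (W' := @IsSeparated) f g
      inferInstance inferInstance
  have hqc : QuasiCompact f := inferInstance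
  have htI : IsIntegralHom f.toImage := by
    have : IsIntegralHom (f.toImage ≫ f.imageι) := by rw [f.toImage_imageι]; exact hf
    exact MorphismProperty.of_postcomp (W := @IsIntegralHom) (W' := @IsSeparated) f.toImage
      f.imageι inferInstance inferInstance
  have htS : Surjective f.toImage := by
    constructor
    have hcl : IsClosed (Set.range f.toImage) := f.toImage.isClosedMap.isClosed_range
    have hd : DenseRange f.toImage := f.toImage.denseRange
    rw [← Set.range_eq_univ, ← hcl.closure_eq]
    exact hd.closure_range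
  have hcomp : f.toImage ≫ f.imageι ≫ g = f ≫ g := by
    rw [← Category.assoc, f.toImage_imageι]
  have hUC : UniversallyClosed (f.imageι ≫ g) := by
    have : UniversallyClosed (f.toImage ≫ f.imageι ≫ g) := by rw [hcomp]; infer_instance
    exact UniversallyClosed.of_comp_surjective f.toImage (f.imageι ≫ g)
  have hAff : IsAffineHom (f.imageι ≫ g) := by
    refine ⟨fun U hU => ?_⟩
    have hXU : IsAffineOpen ((f ≫ g) ⁻¹ᵁ U) := hU.preimage (f ≫ g)
    have hpre : f.toImage ⁻¹ᵁ ((f.imageι ≫ g) ⁻¹ᵁ U) = (f ≫ g) ⁻¹ᵁ U := by
      rw [← Scheme.Hom.comp_preimage, hcomp]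
    have h1 : IsAffine (f.toImage ⁻¹ᵁ ((f.imageι ≫ g) ⁻¹ᵁ U)).toScheme := by
      rw [hpre]; exact hXU
    have h2 : Surjective (f.toImage ∣_ ((f.imageι ≫ g) ⁻¹ᵁ U)) :=
      IsZariskiLocalAtTarget.restrict htS _
    have h3 : UniversallyClosed (f.toImage ∣_ ((f.imageι ≫ g) ⁻¹ᵁ U)) :=
      IsZariskiLocalAtTarget.restrict (inferInstance : UniversallyClosed f.toImage) _
    exact Groth.Agent.S0593.result _ _ (f.toImage ∣_ ((f.imageι ≫ g) ⁻¹ᵁ U))
  refine ⟨IsIntegralHom.iff_universallyClosed_and_isAffineHom.mpr ⟨hUC, hAff⟩, fun s => ?_⟩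
  refine ((hfin s).image f.toImage).subset ?_
  intro y hy
  obtain ⟨x, rfl⟩ := f.toImage.surjective y
  refine ⟨x, ?_, rfl⟩
  have : (f ≫ g) x = (f.imageι ≫ g) (f.toImage x) := by
    rw [← hcomp]; rfl
  change (f ≫ g) x = s
  rw [this]
  exact hy

end Groth.Agent.S13712
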