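import Groth.Statements.S13713
import Groth.Agent.S13717
import Groth.Agent.Lib.Helper15.TSPolyFT
import Groth.Agent.Lib.Helper15.TSFlat-- import your own Groth.Agent.* helpers here

set_option autoImplicit false
universe u
open scoped TensorProduct
open ZeroCyc

namespace Groth.Agent.S13713

/-- Let (C, γ) be the algebra of divided powers Γ^d_A(B) of a commutative A-algebra B with its universal
multiplicative law γ : B → C homogeneous of degree d (every multiplicative law B → C' homogeneous of
degree d factors uniquely through γ by an algebra map C → C'). If B is of finite type over A then so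
is C = Γ^d_A(B). -/
theorem result {A : Type u} [CommRing A] {B : Type u} [CommRing B] [Algebra A B] {C : Type u} [CommRing C] [Algebra A C]
    {d : ℕ} (γ : PolLaw.MulLaw A B C d) (hγ : PolLaw.IsGammaD γ) [Algebra.FiniteType A B] :
    Algebra.FiniteType A C := by
  classical
  obtain ⟨ι, hι, ψ, hψ⟩ := Algebra.FiniteType.iff_quotient_mvPolynomial'.mp
    (inferInstance : Algebra.FiniteType A B)
  letI : Fintype ι := hι
  have hτ : PolLaw.IsGammaD (Groth.Agent.Lib.Helper15.TSLaw.ts (A := A) (MvPolynomial ι A) d) :=
    Groth.Agent.Lib.Helper15.TSFlat.isGammaD_ts_of_flat d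
  obtain ⟨φ, hφ, -⟩ := hτ C (γ.precomp ψ)
  have hsurj : Function.Surjective φ :=
    Groth.Agent.S13717.result _ hτ γ hγ ψ hψ φ hφ
  have hfg : (SymTen.TS A (MvPolynomial ι A) d).FG :=
    Groth.Agent.Lib.Helper15.TSPolyFT.fg_TS A ι d
  haveI : Algebra.FiniteType A (SymTen.TS A (MvPolynomial ι A) d) :=
    ⟨(Subalgebra.fg_top _).mpr hfg⟩
  exact Algebra.FiniteType.of_surjective φ hsurj

end Groth.Agent.S13713
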