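import Groth.Statements.S13720
-- import your own Groth.Agent.* helpers here

set_option autoImplicit false
universe u
open scoped TensorProduct
open ZeroCyc

namespace Groth.Agent.S13720

/-- Let B be the filtered direct limit of a directed system (B_i, t_ij : B_i → B_j) of commutative
algebras over the commutative ring A, with structure maps φ_i : B_i → B (jointly surjective, and an
element of B_i vanishing in B already vanishes in some B_j), and let F : B → C be a multiplicative
polynomial law homogeneous of degree d, with restrictions F_i = F ∘ φ_i. Then an element b of B lies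
in the kernel of F if and only if it is the image of some x ∈ B_i whose images in B_j lie in the
kernel of F_j for every j ≥ i; that is, the kernel of F is the direct limit of the kernels of the
F_i. -/
theorem result {A : Type u} [CommRing A] {B : Type u} [CommRing B] [Algebra A B]
    {C : Type u} [CommRing C] [Algebra A C] {ι : Type u} [Preorder ι] [IsDirected ι (fun i j => i ≤ j)] [Nonempty ι]
    (Bi : ι → Type u) [∀ i, CommRing (Bi i)] [∀ i, Algebra A (Bi i)]
    (t : ∀ i j : ι, i ≤ j → (Bi i →ₐ[A] Bi j)) (φ : ∀ i : ι, Bi i →ₐ[A] B)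
    (hcomp : ∀ (i j : ι) (h : i ≤ j), (φ j).comp (t i j h) = φ i)
    (hsurj : ∀ b : B, ∃ (i : ι) (x : Bi i), φ i x = b)
    (hzero : ∀ (i : ι) (x : Bi i), φ i x = 0 → ∃ (j : ι) (h : i ≤ j), t i j h x = 0)
    {d : ℕ} (F : PolLaw.MulLaw A B C d) (b : B) :
    b ∈ PolLaw.ker F.law ↔ ∃ (i : ι) (x : Bi i), φ i x = b ∧
      ∀ (j : ι) (h : i ≤ j), t i j h x ∈ PolLaw.ker (F.precomp (φ j)).law := by
  classical
  -- unfolding the precomposed law
  have hpre : ∀ (j : ι) (S : Type u) [CommSemiring S] [Algebra A S] (z : S ⊗[A] Bi j),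
      (F.precomp (φ j)).law.toFun' S z =
        F.law.toFun' S (Algebra.TensorProduct.map (AlgHom.id S S) (φ j) z) := by
    intro j S _ _ z
    rw [← PolLaw.lTensor_algHom_apply]
    rfl
  -- transport along the transition maps
  have htr : ∀ (j j' : ι) (h : j ≤ j') (S : Type u) [CommSemiring S] [Algebra A S]
      (z : S ⊗[A] Bi j),
      Algebra.TensorProduct.map (AlgHom.id S S) (φ j')
        (Algebra.TensorProduct.map (AlgHom.id S S) (t j j' h) z) =
      Algebra.TensorProduct.map (AlgHom.id S S) (φ j) z := by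
    intro j j' h S _ _ z
    rw [← AlgHom.comp_apply, ← Algebra.TensorProduct.map_comp, hcomp, AlgHom.comp_id]
  constructor
  · intro hb
    obtain ⟨i, x, hx⟩ := hsurj b
    refine ⟨i, x, hx, fun j h => ?_⟩
    intro S _ _ z w
    rw [hpre, hpre, map_add, map_mul, Algebra.TensorProduct.map_tmul, AlgHom.id_apply]
    have : φ j (t i j h x) = b := by
      rw [← AlgHom.comp_apply, hcomp, hx]
    rw [this]
    exact hb S _ _
  · rintro ⟨i, x, hx, H⟩
    intro S _ _ z w
    -- lifting elements of `S ⊗ B` to a finite stage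
    have lift1 : ∀ (i₀ : ι) (z : S ⊗[A] B), ∃ j, i₀ ≤ j ∧ ∃ z' : S ⊗[A] Bi j,
        Algebra.TensorProduct.map (AlgHom.id S S) (φ j) z' = z := by
      intro i₀ z
      induction z using TensorProduct.induction_on with
      | zero => exact ⟨i₀, le_refl _, 0, map_zero _⟩
      | tmul s b' =>
        obtain ⟨k, y, hy⟩ := hsurj b'
        obtain ⟨j, hi₀j, hkj⟩ := directed_of (fun i j : ι => i ≤ j) i₀ k
        refine ⟨j, hi₀j, s ⊗ₜ[A] t k j hkj y, ?_⟩
        rw [Algebra.TensorProduct.map_tmul, AlgHom.id_apply, ← AlgHom.comp_apply, hcomp, hy]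
      | add z₁ z₂ h₁ h₂ =>
        obtain ⟨j₁, hj₁, z₁', hz₁⟩ := h₁
        obtain ⟨j₂, hj₂, z₂', hz₂⟩ := h₂
        obtain ⟨j, hj₁j, hj₂j⟩ := directed_of (fun i j : ι => i ≤ j) j₁ j₂
        refine ⟨j, hj₁.trans hj₁j,
          Algebra.TensorProduct.map (AlgHom.id S S) (t j₁ j hj₁j) z₁' +
            Algebra.TensorProduct.map (AlgHom.id S S) (t j₂ j hj₂j) z₂', ?_⟩
        rw [map_add, htr, htr, hz₁, hz₂]
    obtain ⟨j₁, hj₁, z', hz'⟩ := lift1 i z
    obtain ⟨j, hj, w', hw'⟩ := lift1 j₁ w
    have hij : i ≤ j := hj₁.trans hj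
    have h1 := H j hij S (Algebra.TensorProduct.map (AlgHom.id S S) (t j₁ j hj) z') w'
    rw [hpre, hpre, map_add, map_mul, Algebra.TensorProduct.map_tmul, AlgHom.id_apply, htr, hz',
      hw'] at h1
    have : φ j (t i j hij x) = b := by
      rw [← AlgHom.comp_apply, hcomp, hx]
    rw [this] at h1
    exact h1

end Groth.Agent.S13720
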