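import Groth.Statements.S13724
import Groth.Agent.Lib.Helper15.LawField
import Groth.Agent.S13723
-- import your own Groth.Agent.* helpers here

set_option autoImplicit false
universe u
open scoped TensorProduct
open ZeroCyc

namespace Groth.Agent.S13724

/-- Let A be a commutative ring with finitely many maximal ideals, B a commutative A-algebra and F : B →
A a multiplicative polynomial law homogeneous of degree d. Then B/ker F, the coordinate ring of the
image of the family of zero-cycles defined by F, has finitely many maximal ideals. -/
theorem result {A : Type u} [CommRing A] [Finite (MaximalSpectrum A)] {B : Type u} [CommRing B] [Algebra A B]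
    {d : ℕ} (F : PolLaw.MulLaw A B A d) :
    Finite (MaximalSpectrum (PolLaw.image F.law)) := by
  classical
  haveI := Groth.Agent.Lib.Helper15.LawField.isIntegral_image F
  have hfib : ∀ p : PrimeSpectrum A,
      (PrimeSpectrum.comap (algebraMap A (PolLaw.image F.law)) ⁻¹' {p}).Finite := by
    intro p
    haveI : Finite (PrimeSpectrum (p.asIdeal.ResidueField ⊗[A] PolLaw.image F.law)) :=
      (Groth.Agent.S13723.result F p.asIdeal.ResidueField).1
    exact Set.finite_coe_iff.mp (Finite.of_equiv _
      (PrimeSpectrum.preimageEquivFiber A (PolLaw.image F.law) p).symm)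
  have hU : (⋃ m : MaximalSpectrum A, PrimeSpectrum.comap (algebraMap A (PolLaw.image F.law)) ⁻¹'
      {m.toPrimeSpectrum}).Finite := Set.finite_iUnion (fun m => hfib _)
  have hsub : Set.range (MaximalSpectrum.toPrimeSpectrum :
      MaximalSpectrum (PolLaw.image F.law) → PrimeSpectrum (PolLaw.image F.law)) ⊆
      ⋃ m : MaximalSpectrum A, PrimeSpectrum.comap (algebraMap A (PolLaw.image F.law)) ⁻¹'
      {m.toPrimeSpectrum} := by
    rintro _ ⟨M, rfl⟩
    rw [Set.mem_iUnion]
    haveI := M.isMaximal
    have hmax : (M.asIdeal.comap (algebraMap A (PolLaw.image F.law))).IsMaximal :=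
      Ideal.isMaximal_comap_of_isIntegral_of_isMaximal _
    refine ⟨⟨_, hmax⟩, ?_⟩
    rw [Set.mem_preimage, Set.mem_singleton_iff]
    rfl
  haveI : Finite (Set.range (MaximalSpectrum.toPrimeSpectrum :
      MaximalSpectrum (PolLaw.image F.law) → PrimeSpectrum (PolLaw.image F.law))) :=
    (hU.subset hsub).to_subtype
  exact Finite.of_injective_finite_range MaximalSpectrum.toPrimeSpectrum_injective

end Groth.Agent.S13724
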