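import Groth.Statements.S13729
import Groth.Agent.Lib.Helper15.TSModFlat
import Groth.Agent.Lib.Helper15.TSFlat
import Groth.Agent.Lib.Helper15.GammaUnique
-- import your own Groth.Agent.* helpers here

set_option autoImplicit false
universe u
open scoped TensorProduct
open ZeroCyc

namespace Groth.Agent.S13729

/-- Let (C, γ) be the algebra of divided powers Γ^d_A(B) of a commutative A-algebra B with its universal
multiplicative law γ : B → C homogeneous of degree d (every multiplicative law B → C' homogeneous of
degree d factors uniquely through γ by an algebra map C → C'). If B is flat over A then C = Γ^d_A(B)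
is flat over A. (The published statement is that Γ^d(X/S) → S inherits flatness from X → S for any
separated algebraic space X over S; this row is the case X and S affine, where Γ^d(X/S) = Spec
Γ^d_A(B).) -/
theorem result {A : Type u} [CommRing A] {B : Type u} [CommRing B] [Algebra A B] {C : Type u} [CommRing C] [Algebra A C]
    {d : ℕ} (γ : PolLaw.MulLaw A B C d) (hγ : PolLaw.IsGammaD γ) [Module.Flat A B] :
    Module.Flat A C := by
  obtain ⟨φ, -⟩ := Groth.Agent.Lib.Helper15.GammaUnique.exists_algEquiv γ hγ
    (Groth.Agent.Lib.Helper15.TSLaw.ts B d) (Groth.Agent.Lib.Helper15.TSFlat.isGammaD_ts_of_flat d)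
  have hEq : Subalgebra.toSubmodule (SymTen.TS A B d) =
      Groth.Agent.Lib.Helper15.TSModFlat.TSm (A := A) B d := by
    ext t
    rw [Groth.Agent.Lib.Helper15.TSModFlat.mem_TSm]
    rfl
  haveI : Module.Flat A (Groth.Agent.Lib.Helper15.TSModFlat.TSm (A := A) B d) :=
    Groth.Agent.Lib.Helper15.TSModFlat.flat_TSm B d
  have e1 : (Groth.Agent.Lib.Helper15.TSModFlat.TSm (A := A) B d) ≃ₗ[A] SymTen.TS A B d :=
    (LinearEquiv.ofEq _ _ hEq).symm
  exact Module.Flat.of_linearEquiv (φ.toLinearEquiv.trans e1.symm)

end Groth.Agent.S13729
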