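import Groth.Statements.S13730
import Groth.Agent.Lib.Helper15.TSPure
import Groth.Agent.Lib.Helper15.TensorReduced
import Groth.Agent.Lib.Helper15.TSFlat
import Groth.Agent.Lib.Helper15.GammaUnique
-- import your own Groth.Agent.* helpers here

set_option autoImplicit false
universe u
open scoped TensorProduct
open ZeroCyc

namespace Groth.Agent.S13730

/-- Let (C, γ) be the algebra of divided powers Γ^d_A(B) of a commutative A-algebra B with its universal
multiplicative law γ : B → C homogeneous of degree d (every multiplicative law B → C' homogeneous of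
degree d factors uniquely through γ by an algebra map C → C'). If B is flat over A and K ⊗_A B is
reduced for every field K receiving a ring map from A (X = Spec B → S = Spec A is flat with
geometrically reduced fibres), then K ⊗_A C is reduced for every such K: Γ^d_A(B) again has
geometrically reduced fibres over A. (The published statement is for a flat morphism of algebraic
spaces X → S with geometrically reduced fibres and also records that Γ^d(X/S) → S is flat; this row
is the affine case and states only the reducedness of the fibres, flatness of Γ^d_A(B) for flat B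
being a separate statement.) -/
theorem result {A : Type u} [CommRing A] {B : Type u} [CommRing B] [Algebra A B] {C : Type u} [CommRing C] [Algebra A C]
    {d : ℕ} (γ : PolLaw.MulLaw A B C d) (hγ : PolLaw.IsGammaD γ) [Module.Flat A B]
    (hred : ∀ (K : Type u) [Field K] [Algebra A K], IsReduced (K ⊗[A] B)) :
    ∀ (K : Type u) [Field K] [Algebra A K], IsReduced (K ⊗[A] C) := by
  intro K _ _
  obtain ⟨φ, -⟩ := Groth.Agent.Lib.Helper15.GammaUnique.exists_algEquiv γ hγ
    (Groth.Agent.Lib.Helper15.TSLaw.ts B d) (Groth.Agent.Lib.Helper15.TSFlat.isGammaD_ts_of_flat d)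
  haveI := Groth.Agent.Lib.Helper15.TensorReduced.isReduced_tpow K B hred (Fin d)
  have hEq : Subalgebra.toSubmodule (SymTen.TS A B d) =
      Groth.Agent.Lib.Helper15.TSModFlat.TSm (A := A) B d := by
    ext t
    rw [Groth.Agent.Lib.Helper15.TSModFlat.mem_TSm]
    rfl
  let e1 : SymTen.TS A B d ≃ₗ[A] Groth.Agent.Lib.Helper15.TSModFlat.TSm (A := A) B d :=
    LinearEquiv.ofEq _ _ hEq
  let ι : C →ₐ[A] (⨂[A] _ : Fin d, B) := (SymTen.TS A B d).val.comp φ.toAlgHom
  have hι : ι.toLinearMap = (Groth.Agent.Lib.Helper15.TSModFlat.TSm (A := A) B d).subtype ∘ₗ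
      (φ.toLinearEquiv.trans e1).toLinearMap := by
    ext c
    rfl
  apply isReduced_of_injective (Algebra.TensorProduct.map (AlgHom.id K K) ι)
  have hfun : ∀ y : K ⊗[A] C, Algebra.TensorProduct.map (AlgHom.id K K) ι y =
      ι.toLinearMap.lTensor K y := fun y => (PolLaw.lTensor_algHom_apply ι K y).symm
  intro y y' hyy'
  rw [hfun, hfun, hι, LinearMap.lTensor_comp, LinearMap.comp_apply, LinearMap.comp_apply] at hyy'
  have h1 := Groth.Agent.Lib.Helper15.TSPure.lTensor_TSm_injective (A := A) B d K hyy'
  exact (LinearEquiv.lTensor K (φ.toLinearEquiv.trans e1)).injective h1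

end Groth.Agent.S13730
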