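import Groth.Statements.S13731
import Groth.Agent.S14770
import Groth.Agent.Lib.Helper24.FinSigma

set_option autoImplicit false
universe u
open HTop

namespace Groth.Agent.S13731

open CategoryTheory CategoryTheory.Limits AlgebraicGeometry in
/-- Let X be a separated Noetherian scheme and {p_i : U_i → X} a finite family of separated morphisms of
finite type whose induced morphism from the disjoint union of the U_i to X is universally submersive
(an h-covering). Then every point x of X is p_i(u) for some i and some point u of U_i admitting a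
generization ξ in U_i whose image p_i(ξ) is a generic point of an irreducible component of X.
Equivalently, the irreducible components of the U_i dominating an irreducible component of X jointly
cover X. -/
theorem result {X : Scheme.{u}} [IsNoetherian X] [X.IsSeparated] (E : PreZeroHypercover.{u} X) [Finite E.I₀] [∀ i, LocallyOfFiniteType (E.f i)] [∀ i, QuasiCompact (E.f i)] [∀ i, IsSeparated (E.f i)] (hE : SGA1.UnivSubmersive (Sigma.desc E.f)) (x : X) : ∃ (i : E.I₀) (ξ u : E.X i), ξ ⤳ u ∧ E.f i u = x ∧ closure {E.f i ξ} ∈ irreducibleComponents ↥X := by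
  haveI : QuasiCompact (Sigma.desc E.f) :=
    Groth.Agent.Lib.Helper24.FinSigma.quasiCompact_sigmaDesc E.f (fun i => inferInstance)
  have hS : Subtr.UnivSSubtrusive (Sigma.desc E.f) := (Groth.Agent.S14770.result _).mp hE
  have hpair : Subtr.IsSSubtrusive (Sigma.desc E.f) := MorphismProperty.universally_le _ _ hS
  -- the generic point of an irreducible component through x
  obtain ⟨η, hη⟩ := QuasiSober.sober (isIrreducible_irreducibleComponent (x := x))
    isClosed_irreducibleComponent
  have hηx : η ⤳ x := by
    rw [specializes_iff_mem_closure, hη.def]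
    exact mem_irreducibleComponent
  obtain ⟨u', ξ', hsp, hu', hξ'⟩ := hpair hηx
  obtain ⟨⟨i, u⟩, hu⟩ := (sigmaMk E.X).surjective u'
  rw [sigmaMk_mk] at hu
  have hξr : ξ' ∈ Set.range (Sigma.ι E.X i) :=
    hsp.mem_open (Sigma.ι E.X i).isOpenEmbedding.isOpen_range ⟨u, hu⟩
  obtain ⟨ξ, hξ⟩ := hξr
  refine ⟨i, ξ, u, ?_, ?_, ?_⟩
  · rw [← (Sigma.ι E.X i).isOpenEmbedding.isInducing.specializes_iff, hξ, hu]
    exact hsp
  · rw [← hu'] 
    rw [← hu, ← Scheme.Hom.comp_apply, Sigma.ι_desc]
  · have : E.f i ξ = η := by
      rw [← hξ', ← hξ, ← Scheme.Hom.comp_apply, Sigma.ι_desc]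
    rw [this, hη.def]
    exact irreducibleComponent_mem_irreducibleComponents x

end Groth.Agent.S13731
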