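import Groth.Statements.S1374
import Mathlib
import Groth.Agent.Lib.Helper6.ClPt5
-- import your own Groth.Agent.* helpers here

set_option autoImplicit false
universe u
open FlatMor

namespace Groth.Agent.S1374

open AlgebraicGeometry CategoryTheory Limits in
/-- Let f : X ⟶ S be locally of finite type and x ⤳ x' a specialization of points of X, with x' a closed
point of its fibre f⁻¹(f(x')) and f(x) ≠ f(x'). Then the points x₁ with f(x₁) = f(x) which are
closed in the fibre f⁻¹(f(x)) and satisfy x ⤳ x₁ ⤳ x' are dense in the closure of {x} intersected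
with the fibre f⁻¹(f(x)) (fibres taken as subspaces of X). (The published statement omits the
condition f(x) ≠ f(x'), but the claim fails without it; it is stated here with that condition.) -/
theorem result {X S : Scheme.{u}} (f : X ⟶ S) [LocallyOfFiniteType f] (x x' : X) (hsp : x ⤳ x') (hne : f x ≠ f x')
    (hcl : IsClosed (Subtype.val ⁻¹' {x'} : Set ↑(f ⁻¹' {f x'}))) :
    Dense (Subtype.val ⁻¹' {x₁ : ↑X | f x₁ = f x ∧ IsClosed (Subtype.val ⁻¹' {x₁} : Set ↑(f ⁻¹' {f x})) ∧ x ⤳ x₁ ∧ x₁ ⤳ x'} :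
      Set ↑(closure {x} ∩ f ⁻¹' {f x})) := by
  have hxcl : ∀ t : X, f t = f x' → x' ⤳ t → t = x' := by
    intro t hft hxt
    have h1 : (⟨x', rfl⟩ : ↑(f ⁻¹' {f x'})) ⤳ ⟨t, hft⟩ := (subtype_specializes_iff _ _).mpr hxt
    have h2 := h1.mem_closed hcl rfl
    exact h2
  have hrtd : Groth.Agent.Lib.Helper6.QFac.rtd f x' = 0 := by
    have := Groth.Agent.Lib.Helper21.EquiSub.trdeg_eq_zero_of_closed_in_fibre f x' hxcl
    rw [Nat.cast_zero] at this
    exact this
  rw [dense_iff_inter_open]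
  rintro U hU ⟨e, heU⟩
  obtain ⟨O, hO, rfl⟩ := isOpen_induced_iff.mp hU
  have hxe : x ⤳ e.1 := specializes_iff_mem_closure.mpr e.2.1
  have hxO : x ∈ O := hxe.mem_open hO heU
  obtain ⟨x₁, hx₁O, hfx₁, hxx₁, hx₁x', hx₁rtd⟩ :=
    Groth.Agent.Lib.Helper6.ClPt.core f x x' hsp hne hrtd ⟨O, hO⟩ hxO
  refine ⟨⟨x₁, hxx₁.mem_closure, hfx₁⟩, hx₁O, hfx₁, ?_, hxx₁, hx₁x'⟩
  have hset : (Subtype.val ⁻¹' {x₁} : Set ↑(f ⁻¹' {f x})) = {⟨x₁, hfx₁⟩} := by
    ext t
    simp [Subtype.ext_iff]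
  rw [hset, ← closure_subset_iff_isClosed]
  intro t ht
  have h1 : (⟨x₁, hfx₁⟩ : ↑(f ⁻¹' {f x})) ⤳ t := specializes_iff_mem_closure.mpr ht
  have h2 : x₁ ⤳ t.1 := (subtype_specializes_iff _ _).mp h1
  have h3 : f x₁ = f t.1 := hfx₁.trans t.2.symm
  by_contra hne'
  have hne'' : x₁ ≠ t.1 := fun h => hne' (by
    rw [Set.mem_singleton_iff]
    exact Subtype.ext h.symm)
  have hlt := Groth.Agent.Lib.Helper21.FibDim.trdeg_lt_of_specializes_of_ne f h2 hne'' h3
  change Groth.Agent.Lib.Helper6.QFac.rtd f t.1 < Groth.Agent.Lib.Helper6.QFac.rtd f x₁ at hlt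
  rw [hx₁rtd] at hlt
  exact not_lt_bot hlt

end Groth.Agent.S1374
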