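import Groth.Statements.S13757
import Mathlib

set_option autoImplicit false
universe u
open LabGraph

namespace Groth.Agent.S13757

/-- Let G be a finite connected multigraph (loops and multiple edges allowed) with vertex set V, edge
set E, endpoint map E → V × V and a labelling of the edges by positive integers l. A vertex
labelling φ : V → ℤ is Cartier when l(e) divides the difference of the values of φ at the two
endpoints of every edge e; its multidegree is the vertex labelling whose value at v is the sum, over
the edge-ends at v, of (value of φ at the other endpoint − φ(v)) / l(e). Then the Cartier vertex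
labellings of multidegree zero are exactly the constant ones: the kernel of the multidegree operator
on Cartier labellings is ℤ, embedded as the constants. -/
theorem result
    {V E : Type u} [Fintype V] [Fintype E] [DecidableEq V] [DecidableEq E]
    (ends : E → V × V) (l : E → ℕ) (hl : ∀ e, 0 < l e) (hconn : LabGraph.Connected ends)
    (φ : V → ℤ) (hφ : LabGraph.IsCartier ends l φ) :
    (∀ v : V, LabGraph.mdeg ends l φ v = 0) ↔ ∀ v w : V, φ v = φ w := by
  classical
  constructor
  · intro h
    obtain ⟨⟨v0⟩, hc⟩ := hconn
    obtain ⟨m, -, hm⟩ := Finset.exists_max_image (Finset.univ : Finset V) φ ⟨v0, Finset.mem_univ _⟩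
    have hmax : ∀ w, φ w ≤ φ m := fun w => hm w (Finset.mem_univ _)
    -- key: if φ v = φ m and Adj v w then φ w = φ m
    have key : ∀ v w, φ v = φ m → LabGraph.Adj ends v w → φ w = φ m := by
      intro v w hv hadj
      have hv0 := h v
      unfold LabGraph.mdeg at hv0
      have hnonpos : ∀ e ∈ (Finset.univ : Finset E),
          ((if (ends e).1 = v then (φ (ends e).2 - φ (ends e).1) / (l e : ℤ) else 0) +
          (if (ends e).2 = v then (φ (ends e).1 - φ (ends e).2) / (l e : ℤ) else 0)) ≤ 0 := by
        intro e _
        have hle : (0 : ℤ) < (l e : ℤ) := by exact_mod_cast hl e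
        apply add_nonpos
        · split_ifs with h1
          · refine Int.ediv_nonpos_of_nonpos_of_neg ?_ hle
            rw [h1, hv]; linarith [hmax (ends e).2]
          · exact le_refl _
        · split_ifs with h1
          · refine Int.ediv_nonpos_of_nonpos_of_neg ?_ hle
            rw [h1, hv]; linarith [hmax (ends e).1]
          · exact le_refl _
      have hall := (Finset.sum_eq_zero_iff_of_nonpos hnonpos).1 hv0
      have hnp1 : ∀ e, (if (ends e).1 = v then (φ (ends e).2 - φ (ends e).1) / (l e : ℤ) else 0) ≤ 0 := by
        intro e
        have hle : (0 : ℤ) < (l e : ℤ) := by exact_mod_cast hl e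
        split_ifs with h1
        · refine Int.ediv_nonpos_of_nonpos_of_neg ?_ hle
          rw [h1, hv]; linarith [hmax (ends e).2]
        · exact le_refl _
      have hnp2 : ∀ e, (if (ends e).2 = v then (φ (ends e).1 - φ (ends e).2) / (l e : ℤ) else 0) ≤ 0 := by
        intro e
        have hle : (0 : ℤ) < (l e : ℤ) := by exact_mod_cast hl e
        split_ifs with h1
        · refine Int.ediv_nonpos_of_nonpos_of_neg ?_ hle
          rw [h1, hv]; linarith [hmax (ends e).1]
        · exact le_refl _
      obtain ⟨e, he | he⟩ := hadj
      · have h0 := hall e (Finset.mem_univ _)
        have h1 : (if (ends e).1 = v then (φ (ends e).2 - φ (ends e).1) / (l e : ℤ) else 0) = 0 := by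
          linarith [hnp1 e, hnp2 e]
        rw [he] at h1
        simp only [if_true] at h1
        have hd : (l e : ℤ) ∣ φ w - φ v := by
          have := hφ e
          rw [he] at this
          simpa using (dvd_neg.2 this)
        have := Int.mul_ediv_cancel' hd
        rw [h1, mul_zero] at this
        linarith
      · have h0 := hall e (Finset.mem_univ _)
        have h2 : (if (ends e).2 = v then (φ (ends e).1 - φ (ends e).2) / (l e : ℤ) else 0) = 0 := by
          linarith [hnp1 e, hnp2 e]
        rw [he] at h2
        simp only [if_true] at h2
        have hd : (l e : ℤ) ∣ φ w - φ v := by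
          have := hφ e
          rw [he] at this
          simpa using this
        have := Int.mul_ediv_cancel' hd
        rw [h2, mul_zero] at this
        linarith
    have hall : ∀ w, φ w = φ m := by
      intro w
      have := hc m w
      induction this with
      | refl => rfl
      | tail _ hbc ih => exact key _ _ ih hbc
    intro v w
    rw [hall v, hall w]
  · intro h v
    unfold LabGraph.mdeg
    apply Finset.sum_eq_zero
    intro e _
    rw [h (ends e).2 (ends e).1]
    simp

end Groth.Agent.S13757
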