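import Groth.Statements.S1376
import Mathlib
import Groth.Agent.S1377
import Groth.Agent.Lib.Helper3.ZMTFinite
-- import your own Groth.Agent.* helpers here

set_option autoImplicit false
universe u
open FlatMor

namespace Groth.Agent.S1376

open AlgebraicGeometry CategoryTheory Limits in
/-- Let S be quasi-compact and quasi-separated, U a quasi-compact open of S and V → U a surjective
finite morphism. Then there is a surjective finite morphism V' → S whose base change to U is V (V is
the fibre product of V' and U over S). -/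
theorem result {S V : Scheme.{u}} [CompactSpace ↑S] [QuasiSeparatedSpace ↑S] (U : S.Opens) (hU : IsCompact (U : Set ↑S))
    (v : V ⟶ (U : Scheme.{u})) [IsFinite v] [Surjective v] :
    ∃ (V' : Scheme.{u}) (π : V' ⟶ S) (i : V ⟶ V'), Surjective π ∧ IsFinite π ∧ IsPullback i v π U.ι := by
  classical
  haveI : CompactSpace ↥(U : Scheme.{u}) := isCompact_iff_compactSpace.mp hU
  haveI : QuasiCompact U.ι := inferInstance
  obtain ⟨V', π, i, hπsurj, hπint, hpb⟩ := Groth.Agent.S1377.result U v
  haveI := hπint
  haveI := hπsurj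
  -- i is an open immersion
  haveI hi : IsOpenImmersion i :=
    MorphismProperty.of_isPullback (P := @IsOpenImmersion) hpb.flip (inferInstance : IsOpenImmersion U.ι)
  have hw : i ≫ π = v ≫ U.ι := hpb.w
  haveI : QuasiCompact (i ≫ π) := by rw [hw]; infer_instance
  haveI : LocallyOfFiniteType (i ≫ π) := by rw [hw]; infer_instance
  obtain ⟨T, h, π', hfin, hfac, hopen⟩ :=
    Groth.Agent.Lib.Helper3.exists_finite_factorization_of_openImmersion π i
  haveI := hfin
  haveI := hopen
  haveI : IsIntegralHom (h ≫ π') := by rw [hfac]; infer_instance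
  haveI : IsAffineHom (h ≫ π') := inferInstance
  haveI : IsAffineHom h := IsAffineHom.of_comp h π'
  haveI : QuasiCompact h := inferInstance
  -- scheme-theoretic image
  let T' := h.image
  let h' : V' ⟶ T' := h.toImage
  let ι' : T' ⟶ T := h.imageι
  have hh' : h' ≫ ι' = h := h.toImage_imageι
  let π'' : T' ⟶ S := ι' ≫ π'
  haveI : IsFinite π'' := inferInstance
  have hfac' : h' ≫ π'' = π := by
    change h' ≫ ι' ≫ π' = π
    rw [← Category.assoc, hh', hfac]
  haveI : IsIntegralHom (h' ≫ π'') := by rw [hfac']; infer_instance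
  haveI : IsIntegralHom h' := IsIntegralHom.of_comp h' π''
  haveI : IsDominant h' := inferInstance
  have hh'surj : Function.Surjective h'.base := by
    have hcl : IsClosedMap h'.base := h'.isClosedMap
    have hd : DenseRange h'.base := h'.denseRange
    intro t
    have : Set.range h'.base = Set.univ := by
      rw [← hcl.isClosed_range.closure_eq]
      exact hd.closure_range
    rw [Set.eq_univ_iff_forall] at this
    exact this t
  -- open immersion into the image
  have hpbm : IsPullback (𝟙 V) (i ≫ h') ((i ≫ h') ≫ ι') ι' :=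
    ⟨⟨by simp⟩, ⟨PullbackCone.IsLimit.mk _ (fun s => s.fst) (fun s => by simp)
      (fun s => by
        rw [← cancel_mono ι']
        simpa using s.condition)
      (fun s m h1 _ => by simpa using h1)⟩⟩
  haveI : IsOpenImmersion ((i ≫ h') ≫ ι') := by
    rw [Category.assoc, hh']; exact hopen
  haveI hi' : IsOpenImmersion (i ≫ h') :=
    MorphismProperty.of_isPullback (P := @IsOpenImmersion) hpbm inferInstance
  have hw' : (i ≫ h') ≫ π'' = v ≫ U.ι := by
    rw [Category.assoc, hfac', hw]
  refine ⟨T', π'', i ≫ h', ?_, inferInstance, ?_⟩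
  · refine ⟨fun s => ?_⟩
    obtain ⟨a, rfl⟩ := hπsurj.surj s
    refine ⟨h' a, ?_⟩
    rw [← hfac']
    rfl
  · refine (IsOpenImmersion.isPullback v (i ≫ h') U.ι π'' hw' ?_).flip
    ext t
    simp only [Scheme.Hom.coe_opensRange, Set.mem_range, Scheme.Hom.coe_preimage,
      Set.mem_preimage, SetLike.mem_coe, Scheme.Hom.mem_preimage]
    constructor
    · rintro ⟨u, hu⟩
      obtain ⟨a, rfl⟩ := hh'surj t
      have hπa : π a = U.ι u := by
        rw [← hfac']
        exact hu.symm
      obtain ⟨p, hp1, hp2⟩ := Scheme.Pullback.exists_preimage_pullback (f := π) (g := U.ι) a u hπa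
      refine ⟨(hpb.isoPullback.inv) p, ?_⟩
      have e1 : hpb.isoPullback.inv ≫ i = pullback.fst π U.ι := hpb.isoPullback_inv_fst
      change h' ((hpb.isoPullback.inv ≫ i) p) = h' a
      rw [e1, hp1]
    · rintro ⟨p, rfl⟩
      refine ⟨v p, ?_⟩
      change U.ι (v p) = ((i ≫ h') ≫ π'') p
      rw [hw']
      rfl

end Groth.Agent.S1376
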