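import Groth.Statements.S13771
import Mathlib

set_option autoImplicit false
universe u v w
open PLie

namespace Groth.Agent.S13771

theorem map_bracketWord {R : Type u} [CommRing R] {L : Type v} [LieRing L] [LieAlgebra R L]
    {L' : Type w} [LieRing L'] [LieAlgebra R L'] (F : L →ₗ⁅R⁆ L') {ι : Type} (x : ι → L) (x₁ : L)
    (l : List ι) :
    F (PLie.bracketWord x x₁ l) = PLie.bracketWord (fun i => F (x i)) (F x₁) l := by
  induction l with
  | nil => rfl
  | cons i l ih => simp only [PLie.bracketWord_cons, LieHom.map_lie, ih]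

theorem pair_map {L : Type v} {L' : Type w} (F : L → L') (x₀ x₁ : L) :
    (fun b => F (PLie.pair x₀ x₁ b)) = PLie.pair (F x₀) (F x₁) := by
  funext b
  cases b <;> simp [PLie.pair]

theorem map_jacobson {R : Type u} [CommRing R] (p : ℕ) [CharP R p]
    {L : Type v} [LieRing L] [LieAlgebra R L]
    {L' : Type w} [LieRing L'] [LieAlgebra R L'] (F : L →ₗ⁅R⁆ L') (x₀ x₁ : L) :
    F (PLie.jacobson R p x₀ x₁) = PLie.jacobson R p (F x₀) (F x₁) := by
  unfold PLie.jacobson
  rw [map_sum]
  refine Finset.sum_congr rfl fun t _ => ?_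
  rw [map_smul, map_bracketWord, pair_map]

theorem bracketWord_zero {L : Type v} [LieRing L] {ι : Type} (x : ι → L) (l : List ι) :
    PLie.bracketWord x 0 l = 0 := by
  induction l with
  | nil => rfl
  | cons i l ih => simp only [PLie.bracketWord_cons, ih, lie_zero]

theorem jacobson_zero_right {R : Type u} [CommRing R] (p : ℕ) [CharP R p]
    {L : Type v} [LieRing L] [LieAlgebra R L] (x₀ : L) :
    PLie.jacobson R p x₀ 0 = 0 := by
  unfold PLie.jacobson
  refine Finset.sum_eq_zero fun t _ => ?_
  rw [bracketWord_zero, smul_zero]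

theorem map_ad_pow {R : Type u} [CommRing R] {L : Type v} [LieRing L] [LieAlgebra R L]
    {L' : Type w} [LieRing L'] [LieAlgebra R L'] (F : L →ₗ⁅R⁆ L') (x : L) (n : ℕ) (y : L) :
    F ((LieAlgebra.ad R L x ^ n) y) = (LieAlgebra.ad R L' (F x) ^ n) (F y) := by
  induction n generalizing y with
  | zero => simp
  | succ n ih =>
    rw [pow_succ, pow_succ, Module.End.mul_apply, Module.End.mul_apply, ih]
    simp only [LieAlgebra.ad_apply, LieHom.map_lie]

theorem pmap_ext {R : Type u} [CommRing R] {p : ℕ} [CharP R p] {L : Type v} [LieRing L]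
    [LieAlgebra R L] (ψ ψ' : PLie.PMap R p L) (h : ∀ x, ψ x = ψ' x) : ψ = ψ' := by
  cases ψ; cases ψ'
  congr
  funext x
  exact h x

/-- Let R be a commutative ring of prime characteristic p, L₁ and L₂ Lie algebras over R, φ a p-mapping
on L₁ and f : L₁ → L₂ a morphism of Lie algebras whose kernel is stable under φ (a p-ideal). Then
the image f(L₁), a Lie subalgebra of L₂, carries exactly one p-mapping ψ for which the corestriction
of f to its image is a morphism of p-Lie algebras, i.e. ψ (f x) = f (φ x) for all x. -/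
theorem result (R : Type u) [CommRing R] (p : ℕ) [Fact p.Prime] [CharP R p]
    (L₁ : Type v) [LieRing L₁] [LieAlgebra R L₁] (L₂ : Type w) [LieRing L₂] [LieAlgebra R L₂]
    (φ : PLie.PMap R p L₁) (f : L₁ →ₗ⁅R⁆ L₂) (hker : ∀ x : L₁, f x = 0 → f (φ x) = 0) :
    ∃! ψ : PLie.PMap R p f.range, PLie.IsPHom φ ψ f.rangeRestrict := by
  classical
  set F := f.rangeRestrict with hF
  have hsurj : Function.Surjective F := f.surjective_rangeRestrict
  have hker' : ∀ z : L₁, F z = 0 → F (φ z) = 0 := by
    intro z hz
    have : f z = 0 := by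
      have := congrArg Subtype.val hz
      simpa [hF] using this
    apply Subtype.ext
    simpa [hF] using hker z this
  have hwd : ∀ x x' : L₁, F x = F x' → F (φ x) = F (φ x') := by
    intro x x' h
    have hz : F (x' - x) = 0 := by rw [map_sub, h, sub_self]
    have hx' : x' = x + (x' - x) := by abel
    have h1 := φ.map_add x (x' - x)
    change φ (x + (x' - x)) = _ at h1
    rw [← hx'] at h1
    rw [h1, map_sub, map_add, hker' _ hz, map_jacobson, hz, jacobson_zero_right]
    simp
  let ψf : f.range → f.range := fun y => F (φ (hsurj y).choose)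
  have hψf : ∀ x, ψf (F x) = F (φ x) := fun x => hwd _ _ (hsurj (F x)).choose_spec
  let ψ : PLie.PMap R p f.range :=
    { toFun := ψf
      map_smul := by
        intro c y
        obtain ⟨x, rfl⟩ := hsurj y
        rw [← map_smul, hψf, hψf]
        have h2 := φ.map_smul c x
        change φ (c • x) = _ at h2
        rw [h2, map_smul]
      ad_map := by
        intro y
        obtain ⟨x, rfl⟩ := hsurj y
        ext y'
        obtain ⟨x', rfl⟩ := hsurj y'
        rw [hψf, LieAlgebra.ad_apply, ← LieHom.map_lie, ← map_ad_pow, ← LieAlgebra.ad_apply (R := R),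
          φ.ad_map]
      map_add := by
        intro y y'
        obtain ⟨x, rfl⟩ := hsurj y
        obtain ⟨x', rfl⟩ := hsurj y'
        rw [← map_add, hψf, hψf, hψf, ← map_jacobson]
        have h2 := φ.map_add x x'
        change φ (x + x') = _ at h2
        rw [h2, map_sub, map_add] }
  refine ⟨ψ, fun x => (hψf x).symm, ?_⟩
  intro ψ' hψ'
  apply pmap_ext
  intro y
  obtain ⟨x, rfl⟩ := hsurj y
  change ψ' (F x) = ψf (F x)
  rw [hψf, ← hψ' x]

end Groth.Agent.S13771
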