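import Groth.Statements.S13775
import Mathlib

set_option autoImplicit false
universe u v
open PLie

namespace Groth.Agent.S13775

/-- Let R be a commutative ring of prime characteristic p and L a Lie algebra over R, free as a module
with basis x = bs 0, y = bs 1, z = bs 2 and brackets [x,y] = y, [x,z] = y + z, [y,z] = 0. Then L
carries no p-mapping. (The published statement is the corresponding entry of the classification
table of three-dimensional Lie algebras over an algebraically closed field of characteristic p; this
row states it over every commutative ring of characteristic p.) -/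
theorem result (R : Type u) [CommRing R] (p : ℕ) [Fact p.Prime] [CharP R p]
    (L : Type v) [LieRing L] [LieAlgebra R L] (bs : Module.Basis (Fin 3) R L)
    (hxy : ⁅bs 0, bs 1⁆ = bs 1) (hxz : ⁅bs 0, bs 2⁆ = bs 1 + bs 2) (hyz : ⁅bs 1, bs 2⁆ = 0) :
    IsEmpty (PLie.PMap R p L) := by
  refine ⟨fun φ => ?_⟩
  have hnt : Nontrivial R := CharP.nontrivial_of_char_ne_one (R := R) (v := p) (Fact.out : p.Prime).ne_one
  set x := bs 0 with hx
  set y := bs 1 with hy
  set z := bs 2 with hz
  have hpy : ∀ n : ℕ, (LieAlgebra.ad R L x ^ n) y = y := by
    intro n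
    induction n with
    | zero => simp
    | succ n ih => rw [pow_succ, Module.End.mul_apply, LieAlgebra.ad_apply, hxy, ih]
  have hpz : ∀ n : ℕ, (LieAlgebra.ad R L x ^ n) z = (n : R) • y + z := by
    intro n
    induction n with
    | zero => simp
    | succ n ih =>
      rw [pow_succ, Module.End.mul_apply, LieAlgebra.ad_apply, hxz, map_add, hpy, ih]
      push_cast
      rw [add_smul, one_smul]
      abel
  have h := φ.ad_map x
  have h2 : (LieAlgebra.ad R L (φ.toFun x)) z = (LieAlgebra.ad R L x ^ p) z := by rw [h]
  rw [hpz, CharP.cast_eq_zero, zero_smul, zero_add, LieAlgebra.ad_apply] at h2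
  have hw := bs.sum_repr (φ.toFun x)
  rw [Fin.sum_univ_three] at hw
  rw [← hw, add_lie, add_lie, smul_lie, smul_lie, smul_lie, ← hx, ← hy, ← hz, hxz, hyz, lie_self,
    smul_zero, smul_zero, add_zero, add_zero] at h2
  have e1 := congrArg (fun v => bs.repr v 1) h2
  have e2 := congrArg (fun v => bs.repr v 2) h2
  simp only [hy, hz, map_smul, map_add, Module.Basis.repr_self, Finsupp.smul_apply, Finsupp.add_apply,
    Finsupp.single_apply] at e1 e2
  simp at e1 e2
  rw [e1] at e2
  exact zero_ne_one e2

end Groth.Agent.S13775
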