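import Groth.Statements.S13776
import Mathlib
import Groth.Agent.Lib.Helper2.PLie.Jac4

set_option autoImplicit false
universe u v
open PLie

namespace Groth.Agent.S13776

/-- Let R be a commutative ring of prime characteristic p, t ∈ R, and L a Lie algebra over R, free as a
module with basis x = bs 0, y = bs 1, z = bs 2 and brackets [x,y] = y, [x,z] = t • z, [y,z] = 0.
Then L carries a p-mapping if and only if t ^ p = t. (The published statement is the corresponding
entry of the classification table over an algebraically closed field of characteristic p, where the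
condition reads: t lies in the prime field; this row states it over every commutative ring of
characteristic p.) -/
theorem result (R : Type u) [CommRing R] (p : ℕ) [Fact p.Prime] [CharP R p] (t : R)
    (L : Type v) [LieRing L] [LieAlgebra R L] (bs : Module.Basis (Fin 3) R L)
    (hxy : ⁅bs 0, bs 1⁆ = bs 1) (hxz : ⁅bs 0, bs 2⁆ = t • bs 2) (hyz : ⁅bs 1, bs 2⁆ = 0) :
    Nonempty (PLie.PMap R p L) ↔ t ^ p = t := by
  classical
  have hpp : p.Prime := Fact.out
  have hyx : ⁅bs 1, bs 0⁆ = -bs 1 := by rw [← lie_skew, hxy]
  have hzx : ⁅bs 2, bs 0⁆ = -(t • bs 2) := by rw [← lie_skew, hxz]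
  have hzy : ⁅bs 2, bs 1⁆ = 0 := by rw [← lie_skew, hyz, neg_zero]
  constructor
  · rintro ⟨φ⟩
    have had := φ.ad_map (bs 0)
    have hrepr := bs.sum_repr (φ.toFun (bs 0))
    rw [Fin.sum_univ_three] at hrepr
    set α := bs.repr (φ.toFun (bs 0)) 0 with hα
    set β := bs.repr (φ.toFun (bs 0)) 1 with hβ
    set γ := bs.repr (φ.toFun (bs 0)) 2 with hγ
    have hpowy : ∀ n : ℕ, (LieAlgebra.ad R L (bs 0) ^ n) (bs 1) = bs 1 := by
      intro n
      induction n with
      | zero => rfl
      | succ n ih => rw [pow_succ', Module.End.mul_apply, ih, LieAlgebra.ad_apply, hxy]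
    have hpowz : ∀ n : ℕ, (LieAlgebra.ad R L (bs 0) ^ n) (bs 2) = t ^ n • bs 2 := by
      intro n
      induction n with
      | zero => simp
      | succ n ih =>
        rw [pow_succ', Module.End.mul_apply, ih, map_smul, LieAlgebra.ad_apply, hxz, smul_smul,
          pow_succ]
    have h1 := congrArg (fun F : Module.End R L => F (bs 1)) had
    have h2 := congrArg (fun F : Module.End R L => F (bs 2)) had
    simp only [LieAlgebra.ad_apply] at h1 h2
    rw [hpowy] at h1
    rw [hpowz] at h2
    rw [← hrepr] at h1 h2
    simp only [add_lie, smul_lie, hxy, hxz, hyz, hzy, lie_self, smul_zero, add_zero] at h1 h2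
    have hα1 : α = 1 := by
      have := congrArg (fun v => bs.repr v 1) h1
      simpa using this
    have := congrArg (fun v => bs.repr v 2) h2
    simp [hα1] at this
    exact this.symm
  · intro ht
    let Mx : Matrix (Fin 3) (Fin 3) R := !![1, 0, 0; 0, t, 0; 0, 0, 0]
    let My : Matrix (Fin 3) (Fin 3) R := !![0, 0, 1; 0, 0, 0; 0, 0, 0]
    let Mz : Matrix (Fin 3) (Fin 3) R := !![0, 0, 0; 0, 0, 1; 0, 0, 0]
    let e : L →ₗ[R] Matrix (Fin 3) (Fin 3) R := bs.constr R ![Mx, My, Mz]
    have he0 : e (bs 0) = Mx := by simp [e, Module.Basis.constr_basis]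
    have he1 : e (bs 1) = My := by simp [e, Module.Basis.constr_basis]
    have he2 : e (bs 2) = Mz := by simp [e, Module.Basis.constr_basis]
    have hbr : ∀ x y : L, e ⁅x, y⁆ = e x * e y - e y * e x := by
      apply Groth.Agent.Lib.Helper2.PL.hbr_of_basis e bs
      intro i j
      fin_cases i <;> fin_cases j <;>
        simp only [Fin.zero_eta, Fin.mk_one, Fin.reduceFinMk, lie_self, map_zero, sub_self,
          hxy, hxz, hyz, hyx, hzx, hzy, map_neg, map_smul, he0, he1, he2, Mx, My, Mz] <;>
        (ext a b; fin_cases a <;> fin_cases b <;> simp [Matrix.mul_apply, Fin.sum_univ_three])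
    have hinj : Function.Injective e := by
      rw [injective_iff_map_eq_zero]
      intro u hu
      have hrepr := bs.sum_repr u
      rw [Fin.sum_univ_three] at hrepr
      rw [← hrepr, map_add, map_add, map_smul, map_smul, map_smul, he0, he1, he2] at hu
      have h00 := congrFun (congrFun hu 0) 0
      have h02 := congrFun (congrFun hu 0) 2
      have h12 := congrFun (congrFun hu 1) 2
      simp [Mx, My, Mz] at h00 h02 h12
      rw [← hrepr, h00, h02, h12]
      simp
    have hMxpow : ∀ n : ℕ, Mx ^ (n + 1) = !![1, 0, 0; 0, t ^ (n + 1), 0; 0, 0, 0] := by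
      intro n
      induction n with
      | zero => simp [Mx]
      | succ n ih =>
        rw [pow_succ, ih]
        ext a b; fin_cases a <;> fin_cases b <;>
          simp [Mx, Matrix.mul_apply, Fin.sum_univ_three, pow_succ]
    have hp2 : 2 ≤ p := hpp.two_le
    have hMxp : Mx ^ p = Mx := by
      have : p = (p - 1) + 1 := by omega
      rw [this, hMxpow, ← this, ht]
    have hMy2 : My * My = 0 := by
      ext a b; fin_cases a <;> fin_cases b <;> simp [My, Matrix.mul_apply, Fin.sum_univ_three]
    have hMz2 : Mz * Mz = 0 := by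
      ext a b; fin_cases a <;> fin_cases b <;> simp [Mz, Matrix.mul_apply, Fin.sum_univ_three]
    have hMyp : My ^ p = 0 := by
      have : p = 2 + (p - 2) := by omega
      rw [this, pow_add, pow_two, hMy2, zero_mul]
    have hMzp : Mz ^ p = 0 := by
      have : p = 2 + (p - 2) := by omega
      rw [this, pow_add, pow_two, hMz2, zero_mul]
    have hb : ∀ i, e (bs i) ^ p ∈ LinearMap.range e := by
      intro i
      fin_cases i
      · refine ⟨bs 0, ?_⟩
        simp only [Fin.zero_eta]
        rw [he0, hMxp]
      · refine ⟨0, ?_⟩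
        simp only [Fin.mk_one]
        rw [map_zero, he1, hMyp]
      · refine ⟨0, ?_⟩
        simp only [Fin.reduceFinMk]
        rw [map_zero, he2, hMzp]
    obtain ⟨φ, _⟩ := Groth.Agent.Lib.Helper2.PL.exists_pmap_of_embedding R p e hbr hinj bs hb
    exact ⟨φ⟩

end Groth.Agent.S13776
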