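import Groth.Statements.S13779
import Mathlib
import Groth.Agent.Lib.Helper2.PLie.Jac4

set_option autoImplicit false
universe u v
open PLie

namespace Groth.Agent.S13779

/-- Let p be an odd prime, R a commutative ring of characteristic p, t ∈ R, and L a Lie algebra over R,
free as a module with basis x = bs 0, y = bs 1, z = bs 2 and brackets [x,y] = z, [x,z] = t • y,
[y,z] = 0. Then L carries a p-mapping φ with φ x = t ^ ((p - 1) / 2) • x, φ y = 0 and φ z = 0. (The
published statement concerns the Lie algebra with these brackets over a field of Laurent series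
k((t)), k algebraically closed of odd characteristic, t the variable; this row states its
restrictability over every commutative ring of odd prime characteristic and every t.) -/
theorem result (R : Type u) [CommRing R] (p : ℕ) [Fact p.Prime] [CharP R p] (hp : p ≠ 2)
    (t : R) (L : Type v) [LieRing L] [LieAlgebra R L] (bs : Module.Basis (Fin 3) R L)
    (hxy : ⁅bs 0, bs 1⁆ = bs 2) (hxz : ⁅bs 0, bs 2⁆ = t • bs 1) (hyz : ⁅bs 1, bs 2⁆ = 0) :
    ∃ φ : PLie.PMap R p L, φ (bs 0) = t ^ ((p - 1) / 2) • bs 0 ∧ φ (bs 1) = 0 ∧ φ (bs 2) = 0 := by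
  classical
  have hpp : p.Prime := Fact.out
  let Mx : Matrix (Fin 3) (Fin 3) R := !![0, t, 0; 1, 0, 0; 0, 0, 0]
  let My : Matrix (Fin 3) (Fin 3) R := !![0, 0, 1; 0, 0, 0; 0, 0, 0]
  let Mz : Matrix (Fin 3) (Fin 3) R := !![0, 0, 0; 0, 0, 1; 0, 0, 0]
  let e : L →ₗ[R] Matrix (Fin 3) (Fin 3) R := bs.constr R ![Mx, My, Mz]
  have he0 : e (bs 0) = Mx := by simp [e, Module.Basis.constr_basis]
  have he1 : e (bs 1) = My := by simp [e, Module.Basis.constr_basis]
  have he2 : e (bs 2) = Mz := by simp [e, Module.Basis.constr_basis]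
  have hyx : ⁅bs 1, bs 0⁆ = -bs 2 := by rw [← lie_skew, hxy]
  have hzx : ⁅bs 2, bs 0⁆ = -(t • bs 1) := by rw [← lie_skew, hxz]
  have hzy : ⁅bs 2, bs 1⁆ = 0 := by rw [← lie_skew, hyz, neg_zero]
  have hbr : ∀ x y : L, e ⁅x, y⁆ = e x * e y - e y * e x := by
    apply Groth.Agent.Lib.Helper2.PL.hbr_of_basis e bs
    intro i j
    fin_cases i <;> fin_cases j <;>
      simp only [Fin.zero_eta, Fin.mk_one, Fin.reduceFinMk, lie_self, map_zero, sub_self,
        hxy, hxz, hyz, hyx, hzx, hzy, map_neg, map_smul, he0, he1, he2, Mx, My, Mz] <;>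
      (ext a b; fin_cases a <;> fin_cases b <;> simp [Matrix.mul_apply, Fin.sum_univ_three])
  have hinj : Function.Injective e := by
    rw [injective_iff_map_eq_zero]
    intro u hu
    have hrepr := bs.sum_repr u
    rw [Fin.sum_univ_three] at hrepr
    rw [← hrepr, map_add, map_add, map_smul, map_smul, map_smul, he0, he1, he2] at hu
    have h10 := congrFun (congrFun hu 1) 0
    have h02 := congrFun (congrFun hu 0) 2
    have h12 := congrFun (congrFun hu 1) 2
    simp [Mx, My, Mz] at h10 h02 h12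
    rw [← hrepr, h10, h02, h12]
    simp
  have hMx2 : Mx * Mx = t • !![1, 0, 0; 0, 1, 0; 0, 0, 0] := by
    ext a b; fin_cases a <;> fin_cases b <;> simp [Mx, Matrix.mul_apply, Fin.sum_univ_three]
  have hMxD : Mx * !![1, 0, 0; 0, 1, 0; 0, 0, 0] = Mx := by
    ext a b; fin_cases a <;> fin_cases b <;> simp [Mx, Matrix.mul_apply, Fin.sum_univ_three]
  have hMxodd : ∀ k : ℕ, Mx ^ (2 * k + 1) = t ^ k • Mx := by
    intro k
    induction k with
    | zero => simp
    | succ k ih =>
      have : 2 * (k + 1) + 1 = (2 * k + 1) + 2 := by ring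
      rw [this, pow_add, ih, pow_two, hMx2, smul_mul_assoc, mul_smul_comm, hMxD, smul_smul,
        pow_succ]
  have hMy2 : My * My = 0 := by
    ext a b; fin_cases a <;> fin_cases b <;> simp [My, Matrix.mul_apply, Fin.sum_univ_three]
  have hMz2 : Mz * Mz = 0 := by
    ext a b; fin_cases a <;> fin_cases b <;> simp [Mz, Matrix.mul_apply, Fin.sum_univ_three]
  have hp2 : 2 ≤ p := hpp.two_le
  have hpodd : p = 2 * ((p - 1) / 2) + 1 := by
    rcases hpp.eq_two_or_odd' with h | h
    · exact absurd h hp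
    · obtain ⟨m, hm⟩ := h
      omega
  have hMxp : Mx ^ p = t ^ ((p - 1) / 2) • Mx := by
    conv_lhs => rw [hpodd]
    exact hMxodd _
  have hMyp : My ^ p = 0 := by
    have : p = 2 + (p - 2) := by omega
    rw [this, pow_add, pow_two, hMy2, zero_mul]
  have hMzp : Mz ^ p = 0 := by
    have : p = 2 + (p - 2) := by omega
    rw [this, pow_add, pow_two, hMz2, zero_mul]
  have hb : ∀ i, e (bs i) ^ p ∈ LinearMap.range e := by
    intro i
    fin_cases i
    · refine ⟨t ^ ((p - 1) / 2) • bs 0, ?_⟩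
      simp only [Fin.zero_eta]
      rw [map_smul, he0, hMxp]
    · refine ⟨0, ?_⟩
      simp only [Fin.mk_one]
      rw [map_zero, he1, hMyp]
    · refine ⟨0, ?_⟩
      simp only [Fin.reduceFinMk]
      rw [map_zero, he2, hMzp]
  obtain ⟨φ, hφ⟩ := Groth.Agent.Lib.Helper2.PL.exists_pmap_of_embedding R p e hbr hinj bs hb
  refine ⟨φ, ?_, ?_, ?_⟩
  · apply hinj
    rw [hφ, map_smul, he0, hMxp]
  · apply hinj
    rw [hφ, map_zero, he1, hMyp]
  · apply hinj
    rw [hφ, map_zero, he2, hMzp]

end Groth.Agent.S13779
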