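import Groth.Statements.S13782
import Mathlib
import Groth.Agent.Lib.Helper9.JacobianPrincipal
import Groth.Agent.Lib.Helper9.SmoothField
import Groth.Agent.Lib.Helper25.RegularSmooth
import Groth.Agent.Lib.Helper21.RegularLocal

set_option autoImplicit false
universe u
open CAlg

namespace Groth.Agent.S13782
open Polynomial Groth.Agent.Lib.Helper9.JacobianPt Groth.Agent.Lib.Helper9.JacobianPrincipal

/-- In a Noetherian ring whose localizations at maximal ideals are domains, an irreducible element
is nonzero in every localization at a prime. -/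
theorem algebraMap_ne_zero_of_irreducible (A : Type u) [CommRing A] [IsNoetherianRing A]
    (hdom : ∀ (m : Ideal A) [m.IsMaximal], IsDomain (Localization.AtPrime m))
    (s : A) (hs : Irreducible s) (p : Ideal A) [p.IsPrime] :
    algebraMap A (Localization.AtPrime p) s ≠ 0 := by
  intro h0
  obtain ⟨⟨u, hu⟩, hus⟩ := (IsLocalization.map_eq_zero_iff p.primeCompl _ s).mp h0
  simp only at hus
  -- `J = Ann s`, `J' = Ann J`
  let J : Ideal A := (Ideal.span {s}).annihilator
  let J' : Ideal A := J.annihilator
  have hJ : ∀ x, x ∈ J ↔ x * s = 0 := by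
    intro x
    change x ∈ Submodule.annihilator _ ↔ _
    rw [Submodule.mem_annihilator_span_singleton, smul_eq_mul]
  have hJ' : ∀ x, x ∈ J' ↔ ∀ y ∈ J, x * y = 0 := by
    intro x
    change x ∈ Submodule.annihilator _ ↔ _
    rw [Submodule.mem_annihilator]
    rfl
  have htop : J ⊔ J' = ⊤ := by
    by_contra hne
    obtain ⟨m, hm, hle⟩ := Ideal.exists_le_maximal _ hne
    have := hdom m
    by_cases hsm : algebraMap A (Localization.AtPrime m) s = 0
    · obtain ⟨⟨v, hv⟩, hvs⟩ := (IsLocalization.map_eq_zero_iff m.primeCompl _ s).mp hsm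
      simp only at hvs
      exact hv (hle (Ideal.mem_sup_left ((hJ v).mpr hvs)))
    · -- every element of `J` dies in `A_m`
      have hx : ∀ x ∈ J, ∃ w ∈ m.primeCompl, w * x = 0 := by
        intro x hx
        have h1 : algebraMap A (Localization.AtPrime m) x * algebraMap A (Localization.AtPrime m) s = 0 := by
          rw [← map_mul, (hJ x).mp hx, map_zero]
        have h2 : algebraMap A (Localization.AtPrime m) x = 0 :=
          (mul_eq_zero.mp h1).resolve_right hsm
        obtain ⟨⟨w, hw⟩, hwx⟩ := (IsLocalization.map_eq_zero_iff m.primeCompl _ x).mp h2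
        exact ⟨w, hw, hwx⟩
      obtain ⟨t, ht⟩ := (IsNoetherian.noetherian J : J.FG)
      choose! w hw hwx using hx
      have htJ : ∀ x ∈ t, x ∈ J := fun x hx => ht ▸ Ideal.subset_span hx
      let W := ∏ x ∈ t, w x
      have hW : W ∈ m.primeCompl := Submonoid.prod_mem _ fun x hx => hw x (htJ x hx)
      have hWJ : W ∈ J' := by
        rw [hJ']
        intro y hy
        rw [← ht] at hy
        refine Submodule.span_induction ?_ ?_ ?_ ?_ hy
        · intro x hx
          classical
          change (∏ x ∈ t, w x) * x = 0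
          rw [← Finset.mul_prod_erase t w hx, mul_comm (w x), mul_assoc, hwx x (htJ x hx), mul_zero]
        · exact mul_zero _
        · intro a b _ _ ha hb
          rw [mul_add, ha, hb, add_zero]
        · intro a b _ hb
          rw [smul_eq_mul, mul_left_comm, hb, mul_zero]
      exact hW (hle (Ideal.mem_sup_right hWJ))
  obtain ⟨j, hj, j', hj', hjj⟩ := Submodule.mem_sup.mp (htop ▸ Submodule.mem_top : (1 : A) ∈ J ⊔ J')
  have h1 : j' * j = 0 := (hJ' j').mp hj' j hj
  have h2 : s = s * j' := by
    have : s * j = 0 := by rw [mul_comm]; exact (hJ j).mp hj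
    calc s = s * (j + j') := by rw [hjj, mul_one]
      _ = s * j' := by rw [mul_add, this, zero_add]
  have h3 : IsUnit j' := (hs.isUnit_or_isUnit h2).resolve_left hs.not_isUnit
  have h4 : j = 0 := by
    obtain ⟨v, hv⟩ := h3.exists_left_inv
    calc j = v * j' * j := by rw [hv, one_mul]
      _ = 0 := by rw [mul_assoc, h1, mul_zero]
  have h5 : j' = 1 := by rw [← hjj, h4, zero_add]
  have h6 : u = 0 := by
    have := (hJ' j').mp hj' u ((hJ u).mpr hus)
    rwa [h5, one_mul] at this
  exact hu (h6 ▸ zero_mem _)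

section ev
variable (k : Type u) {A : Type u} [Field k] [CommRing A] [Algebra k A]

/-- evaluation at `0` as a `k`-algebra map. -/
noncomputable def ev0 : A[X] →ₐ[k] A := (Polynomial.aeval (0 : A)).restrictScalars k

lemma ev0_apply (f : A[X]) : ev0 k f = f.eval 0 := by
  simp [ev0, Polynomial.aeval_def, Polynomial.eval₂_eq_eval_map]

lemma sub_C_ev0_mem (f : A[X]) (q : Ideal A[X]) (hX : (X : A[X]) ∈ q) : f - C (ev0 k f) ∈ q := by
  rw [ev0_apply]
  have h := Polynomial.X_dvd_sub_C (p := f)
  rw [Polynomial.coeff_zero_eq_eval_zero] at h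
  obtain ⟨c, hc⟩ := h
  rw [hc]
  exact Ideal.mul_mem_right _ _ hX

lemma ev0_C (a : A) : ev0 k (C a) = a := by rw [ev0_apply, eval_C]

/-- the derivation `f ↦ δ₀ (f(0))` of `A[X]`. -/
noncomputable def derEv0 (L : Type u) [Field L] [Algebra A L] [Algebra k L] [IsScalarTower k A L]
    (δ₀ : Derivation k A L) :
    letI : Algebra A[X] L := ((algebraMap A L).comp ((ev0 k : A[X] →ₐ[k] A) : A[X] →+* A)).toAlgebra
    Derivation k A[X] L :=
  letI : Algebra A[X] L := ((algebraMap A L).comp ((ev0 k : A[X] →ₐ[k] A) : A[X] →+* A)).toAlgebra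
  Derivation.mk' (δ₀.toLinearMap ∘ₗ (ev0 k).toLinearMap) (by
    intro a b
    simp only [LinearMap.coe_comp, Function.comp_apply, AlgHom.toLinearMap_apply,
      Derivation.coeFn_coe, map_mul, Derivation.leibniz]
    congr 1 <;> (rw [Algebra.smul_def, Algebra.smul_def]; rfl))

end ev

section main
variable (k A : Type u) [Field k] [CommRing A] [Algebra k A] [Algebra.Smooth k A]

instance smoothPoly : Algebra.Smooth k A[X] := by
  have : Algebra.Smooth A A[X] := ⟨inferInstance, inferInstance⟩
  exact Algebra.Smooth.comp k A A[X]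

include k in
theorem isDomain_localization (m : Ideal A) [m.IsMaximal] :
    IsDomain (Localization.AtPrime m) := by
  have : IsRegularLocalRing (Localization.AtPrime m) :=
    Groth.Agent.Lib.Helper25.RegularSmooth.isRegularLocalRing_of_smooth (⊥ : Ideal k) m
  exact Groth.Agent.Lib.Helper21.isDomain_of_isRegularLocalRing _

variable {A}

theorem smooth_adjoinRoot_of_smooth_quotient (s : A) (hs : Irreducible s) (e : ℕ) (he : 2 ≤ e)
    (hek : (e : k) ≠ 0) (h : Algebra.Smooth k (A ⧸ Ideal.span {s}))
    (g : A[X]) (hg : g = X ^ e - C s) :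
    Algebra.Smooth k (A[X] ⧸ Ideal.span {g}) := by
  have hNA : IsNoetherianRing A := Algebra.FiniteType.isNoetherianRing k A
  apply Groth.Agent.Lib.Helper9.SmoothField.smooth_of_forall_isSmoothAt
  intro Q hQ
  haveI hQp : Q.IsPrime := hQ.isPrime
  set q := qq (Ideal.span {g}) Q with hq
  haveI hqp : q.IsPrime := Ideal.comap_isPrime _ _
  have hgq : g ∈ q := le_qq _ Q (Ideal.subset_span rfl)
  by_cases hX : (X : A[X]) ∈ q
  · -- case X ∈ q
    have hCs : C s ∈ q := by
      have : C s = X ^ e - g := by rw [hg]; ring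
      rw [this]
      exact sub_mem (Ideal.pow_mem_of_mem _ hX e (by omega)) hgq
    -- the prime of `A ⧸ (s)`
    let p : Ideal A := q.comap (C : A →+* A[X])
    haveI hpp : p.IsPrime := Ideal.comap_isPrime _ _
    have hsp : s ∈ p := hCs
    have hle : Ideal.span {s} ≤ p := (Ideal.span_singleton_le_iff_mem _).mpr hsp
    let P' : Ideal (A ⧸ Ideal.span {s}) := p.map (Ideal.Quotient.mk _)
    have hP' : P'.IsPrime := Ideal.map_isPrime_of_surjective Ideal.Quotient.mk_surjective
      (by rwa [Ideal.mk_ker])
    have hcomap : qq (Ideal.span {s}) P' = p := by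
      change (p.map _).comap _ = p
      rw [Ideal.comap_map_of_surjective _ Ideal.Quotient.mk_surjective, ← RingHom.ker_eq_comap_bot,
        Ideal.mk_ker, sup_eq_left.mpr hle]
    have hsm : Algebra.IsSmoothAt k P' := inferInstance
    have hs0 := algebraMap_ne_zero_of_irreducible A (fun m _ => isDomain_localization k A m) s hs
      (qq (Ideal.span {s}) P')
    obtain ⟨δ₀, hδ₀⟩ := exists_derivation_of_isSmoothAt k A s P' hsm hs0
    set L := (qq (Ideal.span {s}) P').ResidueField with hL
    letI : Algebra A[X] L := ((algebraMap A L).comp ((ev0 k : A[X] →ₐ[k] A) : A[X] →+* A)).toAlgebra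
    haveI : IsScalarTower k A[X] L := IsScalarTower.of_algebraMap_eq (fun c => by
      change algebraMap k L c = algebraMap A L (ev0 k (algebraMap k A[X] c))
      rw [AlgHom.commutes, ← IsScalarTower.algebraMap_apply])
    have hker : RingHom.ker (algebraMap A[X] L) = qq (Ideal.span {g}) Q := by
      ext f
      rw [RingHom.mem_ker]
      change algebraMap A L (ev0 k f) = 0 ↔ f ∈ q
      rw [Ideal.algebraMap_residueField_eq_zero, hcomap]
      change C (ev0 k f) ∈ q ↔ f ∈ q
      have := sub_C_ev0_mem k f q hX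
      constructor
      · intro h1
        have h2 := add_mem this h1
        rwa [sub_add_cancel] at h2
      · intro h1
        have h2 := sub_mem h1 this
        rwa [sub_sub_cancel] at h2
    refine isSmoothAt_of_derivation k A[X] g Q L hker (derEv0 k L δ₀) ?_
    change δ₀ (ev0 k g) ≠ 0
    have : ev0 k g = -s := by
      rw [ev0_apply, hg, eval_sub, eval_pow, eval_X, eval_C, zero_pow (by omega), zero_sub]
    rw [this, map_neg, neg_ne_zero]
    exact hδ₀
  · -- case X ∉ q
    let δ : Derivation k A[X] q.ResidueField :=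
      (Algebra.linearMap A[X] q.ResidueField).compDer
        ((Polynomial.derivative' (R := A)).restrictScalars k)
    refine isSmoothAt_of_derivation k A[X] g Q q.ResidueField
      (Ideal.ker_algebraMap_residueField q) δ ?_
    change algebraMap A[X] q.ResidueField (derivative g) ≠ 0
    rw [Ne, Ideal.algebraMap_residueField_eq_zero]
    have hd : derivative g = algebraMap k A[X] (e : k) * X ^ (e - 1) := by
      rw [hg, derivative_sub, derivative_C, sub_zero, derivative_X_pow, map_natCast]
      simp
    rw [hd]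
    intro hmem
    have hu : IsUnit (algebraMap k A[X] (e : k)) := (IsUnit.mk0 _ hek).map _
    have h1 : X ^ (e - 1) ∈ q := by
      obtain ⟨v, hv⟩ := hu.exists_left_inv
      have := Ideal.mul_mem_left q v hmem
      rwa [← mul_assoc, hv, one_mul] at this
    exact hX (Ideal.IsPrime.mem_of_pow_mem inferInstance _ h1)

theorem smooth_quotient_of_smooth_adjoinRoot (s : A) (e : ℕ) (he : 2 ≤ e)
    (g : A[X]) (hg : g = X ^ e - C s) (h : Algebra.Smooth k (A[X] ⧸ Ideal.span {g})) :
    Algebra.Smooth k (A ⧸ Ideal.span {s}) := by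
  apply Groth.Agent.Lib.Helper9.SmoothField.smooth_of_forall_isSmoothAt
  intro P' hP'
  haveI hP'p : P'.IsPrime := hP'.isPrime
  set p' := qq (Ideal.span {s}) P' with hp'
  haveI hp'p : p'.IsPrime := Ideal.comap_isPrime _ _
  have hsp : s ∈ p' := le_qq _ P' (Ideal.subset_span rfl)
  let q : Ideal A[X] := p'.comap ((ev0 k : A[X] →ₐ[k] A) : A[X] →+* A)
  haveI hqp : q.IsPrime := Ideal.comap_isPrime _ _
  have hXq : (X : A[X]) ∈ q := by
    change ev0 k X ∈ p'
    rw [ev0_apply, eval_X]
    exact zero_mem _
  have hev : ev0 k g = -s := by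
    rw [ev0_apply, hg, eval_sub, eval_pow, eval_X, eval_C, zero_pow (by omega), zero_sub]
  have hgq : g ∈ q := by
    change ev0 k g ∈ p'
    rw [hev]
    exact neg_mem hsp
  have hle : Ideal.span {g} ≤ q := (Ideal.span_singleton_le_iff_mem _).mpr hgq
  let Q : Ideal (A[X] ⧸ Ideal.span {g}) := q.map (Ideal.Quotient.mk _)
  haveI hQ : Q.IsPrime := Ideal.map_isPrime_of_surjective Ideal.Quotient.mk_surjective
    (by rwa [Ideal.mk_ker])
  have hcomap : qq (Ideal.span {g}) Q = q := by
    change (q.map _).comap _ = q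
    rw [Ideal.comap_map_of_surjective _ Ideal.Quotient.mk_surjective, ← RingHom.ker_eq_comap_bot,
      Ideal.mk_ker, sup_eq_left.mpr hle]
  have hsmQ : Algebra.IsSmoothAt k Q := inferInstance
  have hmon : g.Monic := hg ▸ monic_X_pow_sub_C s (by omega)
  have hg0 : algebraMap A[X] (Localization.AtPrime (qq (Ideal.span {g}) Q)) g ≠ 0 := by
    intro h0
    obtain ⟨⟨u, hu⟩, hug⟩ :=
      (IsLocalization.map_eq_zero_iff (qq (Ideal.span {g}) Q).primeCompl _ g).mp h0
    have hu0 : u = 0 := (hmon.mul_left_eq_zero_iff).mp hug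
    exact hu (hu0 ▸ zero_mem _)
  obtain ⟨δ, hδ⟩ := exists_derivation_of_isSmoothAt k A[X] g Q hsmQ hg0
  set L := (qq (Ideal.span {g}) Q).ResidueField with hL
  let δ₀ : Derivation k A L := δ.compAlgebraMap A
  have hX0 : algebraMap A[X] L X = 0 :=
    (Ideal.algebraMap_residueField_eq_zero).mpr (hcomap ▸ hXq)
  have hδ₀ : δ₀ s ≠ 0 := by
    change δ (algebraMap A A[X] s) ≠ 0
    have hCs : algebraMap A A[X] s = X ^ e - g := by
      rw [hg, Polynomial.algebraMap_apply, Algebra.algebraMap_self_apply]; ring
    rw [hCs, map_sub, Derivation.leibniz_pow]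
    have : (X : A[X]) ^ (e - 1) • δ X = 0 := by
      rw [Algebra.smul_def, map_pow, hX0, zero_pow (by omega), zero_mul]
    rw [this, smul_zero, zero_sub, neg_ne_zero]
    exact hδ
  have hker : RingHom.ker (algebraMap A L) = qq (Ideal.span {s}) P' := by
    ext a
    rw [RingHom.mem_ker, IsScalarTower.algebraMap_apply A A[X] L,
      Ideal.algebraMap_residueField_eq_zero, hcomap]
    change ev0 k (algebraMap A A[X] a) ∈ p' ↔ a ∈ p'
    rw [Polynomial.algebraMap_apply, Algebra.algebraMap_self_apply, ev0_C]
  exact isSmoothAt_of_derivation k A s P' L hker δ₀ hδ₀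

end main

theorem main (k A : Type u) [Field k] [CommRing A] [Algebra k A]
    [Algebra.Smooth k A] (s : A) (hs : Irreducible s) (e : ℕ) (he : 2 ≤ e) (hek : (e : k) ≠ 0) :
    Algebra.Smooth k (AdjoinRoot (Polynomial.X ^ e - Polynomial.C s)) ↔
      Algebra.Smooth k (A ⧸ Ideal.span {s}) :=
  ⟨fun h => smooth_quotient_of_smooth_adjoinRoot k s e he _ rfl h,
   fun h => smooth_adjoinRoot_of_smooth_quotient k s hs e he hek h _ rfl⟩


/-- Let k be a field, A a smooth k-algebra, s an irreducible element of A and e an integer, at least 2,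
that is invertible in k. Then the k-algebra A[t]/(t^e - s) is smooth exactly when the quotient ring
A/(s) is a smooth k-algebra. (Smooth over k means formally smooth and of finite presentation over
k.) -/
theorem result (k A : Type u) [Field k] [CommRing A] [Algebra k A]
    [Algebra.Smooth k A] (s : A) (hs : Irreducible s) (e : ℕ) (he : 2 ≤ e) (hek : (e : k) ≠ 0) :
    Algebra.Smooth k (AdjoinRoot (Polynomial.X ^ e - Polynomial.C s)) ↔
      Algebra.Smooth k (A ⧸ Ideal.span {s}) := by
  exact main k A s hs e he hek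

end Groth.Agent.S13782
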