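import Groth.Statements.S13784
-- import your own Groth.Agent.* helpers here
import Mathlib.RingTheory.LocalRing.ResidueField.Basic
import Mathlib.RingTheory.IntegralDomain
import Mathlib.Algebra.Ring.GeomSum

set_option autoImplicit false
universe u
open CAlg

namespace Groth.Agent.S13784

/-- Let A be a commutative local ring and G a finite subgroup of Aˣ. If the order of G is invertible in
A, then G is cyclic. -/
theorem result {A : Type u} [CommRing A] [IsLocalRing A]
    (G : Subgroup Aˣ) [Finite G] (hG : IsUnit ((Nat.card G : ℕ) : A)) : IsCyclic G := by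
  let f : G →* IsLocalRing.ResidueField A :=
    ((IsLocalRing.residue A : A →* IsLocalRing.ResidueField A)).comp
      ((Units.coeHom A).comp G.subtype)
  apply isCyclic_of_injective_ringHom f
  rw [injective_iff_map_eq_one]
  intro g hg
  have hn : g ^ Nat.card G = 1 := pow_card_eq_one'
  have hx : (((g : Aˣ) : A)) ^ Nat.card G = 1 := by
    have h1 := congrArg (fun t : G => ((t : Aˣ) : A)) hn
    simp only [SubmonoidClass.coe_pow, Units.val_pow_eq_pow_val, OneMemClass.coe_one, Units.val_one] at h1
    exact h1
  have hres : IsLocalRing.residue A ((g : Aˣ) : A) = 1 := hg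
  have hsum : IsUnit (∑ i ∈ Finset.range (Nat.card G), (((g : Aˣ) : A)) ^ i) := by
    apply (isUnit_map_iff (IsLocalRing.residue A) _).mp
    rw [map_sum]
    simp only [map_pow, hres, one_pow, Finset.sum_const, Finset.card_range, nsmul_eq_mul, mul_one]
    have := hG.map (IsLocalRing.residue A)
    simpa using this
  have hmul : (((g : Aˣ) : A) - 1) * ∑ i ∈ Finset.range (Nat.card G), (((g : Aˣ) : A)) ^ i = 0 := by
    rw [mul_geom_sum, hx, sub_self]
  have h0 : ((g : Aˣ) : A) - 1 = 0 := (hsum.mul_left_eq_zero).mp hmul
  have h1 : ((g : Aˣ) : A) = 1 := sub_eq_zero.mp h0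
  apply Subtype.ext
  apply Units.ext
  simpa using h1

end Groth.Agent.S13784
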