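import Groth.Statements.S13785
-- import your own Groth.Agent.* helpers here
import Mathlib.LinearAlgebra.Matrix.Charpoly.Coeff

set_option autoImplicit false
universe u
open CAlg

namespace Groth.Agent.S13785


open Polynomial in
/-- The substitution `X ↦ X + T • 1` (valued in `R[T]`, `R = A[X_ij]`) sends `det` to a monic polynomial
and has a retraction `T ↦ 0`. -/
theorem det_mvPolynomialX_mul_eq_zero (A : Type u) [CommRing A] (n : ℕ)
    (g : MvPolynomial (Fin n × Fin n) A)
    (hg : g * (Matrix.mvPolynomialX (Fin n) (Fin n) A).det = 0) : g = 0 := by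
  set M := Matrix.mvPolynomialX (Fin n) (Fin n) A with hM
  let f : A →+* Polynomial (MvPolynomial (Fin n × Fin n) A) :=
    (Polynomial.C).comp (MvPolynomial.C)
  let φ : MvPolynomial (Fin n × Fin n) A →+* Polynomial (MvPolynomial (Fin n × Fin n) A) :=
    MvPolynomial.eval₂Hom f (fun p : Fin n × Fin n => Matrix.charmatrix (-M) p.1 p.2)
  let ψ : Polynomial (MvPolynomial (Fin n × Fin n) A) →+* MvPolynomial (Fin n × Fin n) A :=
    Polynomial.evalRingHom 0
  have hφM : φ.mapMatrix M = Matrix.charmatrix (-M) :=
    Matrix.mvPolynomialX_map_eval₂ f (Matrix.charmatrix (-M))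
  have hdet : φ M.det = (Matrix.charpoly (-M)) := by
    rw [RingHom.map_det, hφM]; rfl
  have hψφ : ψ.comp φ = RingHom.id _ := by
    apply MvPolynomial.ringHom_ext
    · intro a
      simp [φ, ψ, f]
    · rintro ⟨p1, p2⟩
      simp only [φ, ψ, RingHom.comp_apply, MvPolynomial.coe_eval₂Hom, MvPolynomial.eval₂_X,
        Matrix.charmatrix_apply, Polynomial.coe_evalRingHom, Polynomial.eval_sub,
        Polynomial.eval_C, RingHom.id_apply, Matrix.neg_apply, hM,
        Matrix.mvPolynomialX_apply]
      by_cases h : p1 = p2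
      · subst h; simp
      · simp [h]
  have h1 : φ g * Matrix.charpoly (-M) = 0 := by
    rw [← hdet, ← map_mul, hg, map_zero]
  have h2 : φ g = 0 := (Matrix.charpoly_monic (-M)).mul_left_eq_zero_iff.mp h1
  have h3 : ψ (φ g) = g := by
    have := congrArg (fun F => F g) hψφ
    simpa using this
  rw [← h3, h2, map_zero]

/-- For any commutative ring A, the determinant of the generic n × n matrix is a nonzerodivisor of the
polynomial ring over A in the n² matrix entries. -/
theorem result (A : Type u) [CommRing A] (n : ℕ) :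
    (Matrix.mvPolynomialX (Fin n) (Fin n) A).det ∈ nonZeroDivisors (MvPolynomial (Fin n × Fin n) A) := by
  rw [mem_nonZeroDivisors_iff]
  refine ⟨fun x hx => ?_, fun x hx => ?_⟩
  · rw [mul_comm] at hx
    exact det_mvPolynomialX_mul_eq_zero A n x hx
  · exact det_mvPolynomialX_mul_eq_zero A n x hx

end Groth.Agent.S13785
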