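import Groth.Statements.S13786
-- import your own Groth.Agent.* helpers here
import Mathlib.LinearAlgebra.Matrix.Charpoly.Coeff
import Mathlib.RingTheory.AdjoinRoot
import Mathlib.RingTheory.Flat.Stability

set_option autoImplicit false
universe u
open CAlg

namespace Groth.Agent.S13786


open Polynomial in
theorem flat_quotient_det (A : Type u) [CommRing A] (n : ℕ) :
    Module.Flat A (MvPolynomial (Fin n × Fin n) A ⧸
      Ideal.span {(Matrix.mvPolynomialX (Fin n) (Fin n) A).det}) := by
  set M := Matrix.mvPolynomialX (Fin n) (Fin n) A with hM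
  let g : Polynomial (MvPolynomial (Fin n × Fin n) A) := Matrix.charpoly (-M)
  have hg : g.Monic := Matrix.charpoly_monic _
  let φ : MvPolynomial (Fin n × Fin n) A →ₐ[A] Polynomial (MvPolynomial (Fin n × Fin n) A) :=
    MvPolynomial.aeval (fun p : Fin n × Fin n => Matrix.charmatrix (-M) p.1 p.2)
  let ψ : Polynomial (MvPolynomial (Fin n × Fin n) A) →ₐ[A] MvPolynomial (Fin n × Fin n) A :=
    (Polynomial.aeval (0 : MvPolynomial (Fin n × Fin n) A)).restrictScalars A
  have hφdet : φ M.det = g := by
    rw [AlgHom.map_det, Matrix.mvPolynomialX_mapMatrix_aeval]; rfl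
  have hψg : ψ g = M.det := by
    change Polynomial.aeval (0 : MvPolynomial (Fin n × Fin n) A) g = _
    rw [Polynomial.coe_aeval_eq_eval, Matrix.eval_charpoly]
    simp
  have hψφ : ψ.comp φ = AlgHom.id A _ := by
    apply MvPolynomial.algHom_ext
    rintro ⟨p1, p2⟩
    simp only [φ, ψ, AlgHom.comp_apply, MvPolynomial.aeval_X, AlgHom.restrictScalars_apply,
      Matrix.charmatrix_apply, Polynomial.coe_aeval_eq_eval, Polynomial.eval_sub,
      Polynomial.eval_C, AlgHom.id_apply, Matrix.neg_apply, hM, Matrix.mvPolynomialX_apply]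
    by_cases h : p1 = p2
    · subst h; simp
    · simp [h]
  have hfree : Module.Free (MvPolynomial (Fin n × Fin n) A)
      (Polynomial (MvPolynomial (Fin n × Fin n) A) ⧸ Ideal.span {g}) := hg.free_quotient
  have hflat' : Module.Flat A (Polynomial (MvPolynomial (Fin n × Fin n) A) ⧸ Ideal.span {g}) :=
    Module.Flat.trans A (MvPolynomial (Fin n × Fin n) A) _
  let ι : (MvPolynomial (Fin n × Fin n) A ⧸ Ideal.span {M.det}) →ₐ[A]
      (Polynomial (MvPolynomial (Fin n × Fin n) A) ⧸ Ideal.span {g}) :=
    Ideal.Quotient.liftₐ _ ((Ideal.Quotient.mkₐ A (Ideal.span {g})).comp φ) (by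
      intro a ha
      obtain ⟨c, rfl⟩ := Ideal.mem_span_singleton'.mp ha
      rw [AlgHom.comp_apply, map_mul, hφdet, Ideal.Quotient.mkₐ_eq_mk,
        Ideal.Quotient.eq_zero_iff_mem]
      exact Ideal.mul_mem_left _ _ (Ideal.mem_span_singleton_self g))
  let ρ : (Polynomial (MvPolynomial (Fin n × Fin n) A) ⧸ Ideal.span {g}) →ₐ[A]
      (MvPolynomial (Fin n × Fin n) A ⧸ Ideal.span {M.det}) :=
    Ideal.Quotient.liftₐ _ ((Ideal.Quotient.mkₐ A (Ideal.span {M.det})).comp ψ) (by
      intro a ha
      obtain ⟨c, rfl⟩ := Ideal.mem_span_singleton'.mp ha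
      rw [AlgHom.comp_apply, map_mul, hψg, Ideal.Quotient.mkₐ_eq_mk,
        Ideal.Quotient.eq_zero_iff_mem]
      exact Ideal.mul_mem_left _ _ (Ideal.mem_span_singleton_self M.det))
  have hρι : ρ.toLinearMap.comp ι.toLinearMap = LinearMap.id := by
    apply LinearMap.ext
    intro x
    obtain ⟨x, rfl⟩ := Ideal.Quotient.mk_surjective x
    have h1 : ψ (φ x) = x := by
      have := congrArg (fun F => F x) hψφ
      simpa using this
    have e1 : ι (Ideal.Quotient.mk _ x) = Ideal.Quotient.mk _ (φ x) := by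
      simp only [ι]
      rw [Ideal.Quotient.liftₐ_apply, Ideal.Quotient.lift_mk]; rfl
    have e2 : ∀ y, ρ (Ideal.Quotient.mk _ y) = Ideal.Quotient.mk _ (ψ y) := by
      intro y
      simp only [ρ]
      rw [Ideal.Quotient.liftₐ_apply, Ideal.Quotient.lift_mk]; rfl
    simp only [LinearMap.comp_apply, AlgHom.toLinearMap_apply, LinearMap.id_apply]
    rw [e1, e2, h1]
  exact Module.Flat.of_retract ι.toLinearMap ρ.toLinearMap hρι

theorem constantCoeff_det_mvPolynomialX (A : Type u) [CommRing A] (n : ℕ) (hn : 0 < n) :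
    MvPolynomial.constantCoeff (Matrix.mvPolynomialX (Fin n) (Fin n) A).det = 0 := by
  have : Nonempty (Fin n) := ⟨⟨0, hn⟩⟩
  rw [RingHom.map_det]
  have h0 : (MvPolynomial.constantCoeff (R := A) (σ := Fin n × Fin n)).mapMatrix
      (Matrix.mvPolynomialX (Fin n) (Fin n) A) = 0 := by
    ext i j
    simp [Matrix.mvPolynomialX_apply]
  rw [h0, Matrix.det_zero]

/-- For a commutative ring A and n ≥ 1, with det the determinant of the generic n × n matrix in the
polynomial ring A[X] in n² indeterminates, the A-algebra A[X]/(det) is faithfully flat over A. (For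
n = 0 the determinant is 1 and the quotient is the zero ring, so n ≥ 1 is required.) -/
theorem result (A : Type u) [CommRing A] (n : ℕ) (hn : 0 < n) :
    Module.FaithfullyFlat A
      (MvPolynomial (Fin n × Fin n) A ⧸ Ideal.span {(Matrix.mvPolynomialX (Fin n) (Fin n) A).det}) := by
  rw [Module.FaithfullyFlat.iff_flat_and_ideal_smul_eq_top]
  refine ⟨flat_quotient_det A n, ?_⟩
  intro I hI
  let ε : (MvPolynomial (Fin n × Fin n) A ⧸
      Ideal.span {(Matrix.mvPolynomialX (Fin n) (Fin n) A).det}) →+* A :=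
    Ideal.Quotient.lift _ MvPolynomial.constantCoeff (by
      intro a ha
      obtain ⟨c, rfl⟩ := Ideal.mem_span_singleton'.mp ha
      rw [map_mul, constantCoeff_det_mvPolynomialX A n hn, mul_zero])
  have hε : ∀ x ∈ I • (⊤ : Submodule A (MvPolynomial (Fin n × Fin n) A ⧸
      Ideal.span {(Matrix.mvPolynomialX (Fin n) (Fin n) A).det})), ε x ∈ I := by
    intro x hx
    refine Submodule.smul_induction_on hx ?_ ?_
    · intro a ha b _
      obtain ⟨b, rfl⟩ := Ideal.Quotient.mk_surjective b
      have e : a • (Ideal.Quotient.mk (Ideal.span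
          {(Matrix.mvPolynomialX (Fin n) (Fin n) A).det})) b =
          Ideal.Quotient.mk _ (a • b) := rfl
      rw [e]
      simp only [ε, Ideal.Quotient.lift_mk, MvPolynomial.smul_eq_C_mul, map_mul,
        MvPolynomial.constantCoeff_C]
      exact Ideal.mul_mem_right _ _ ha
    · intro x y hx hy
      rw [map_add]
      exact Ideal.add_mem _ hx hy
  have h1 : ε 1 ∈ I := hε 1 (by rw [hI]; exact Submodule.mem_top)
  rw [map_one] at h1
  exact (Ideal.eq_top_iff_one I).mpr h1

end Groth.Agent.S13786
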