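import Groth.Statements.S13787
-- import your own Groth.Agent.* helpers here
import Groth.Agent.S13785

set_option autoImplicit false
universe u
open CAlg

namespace Groth.Agent.S13787


theorem constantCoeff_det_mvPolynomialX (A : Type u) [CommRing A] (n : ℕ) (hn : 0 < n) :
    MvPolynomial.constantCoeff (Matrix.mvPolynomialX (Fin n) (Fin n) A).det = 0 := by
  have : Nonempty (Fin n) := ⟨⟨0, hn⟩⟩
  rw [RingHom.map_det]
  have h0 : (MvPolynomial.constantCoeff (R := A) (σ := Fin n × Fin n)).mapMatrix
      (Matrix.mvPolynomialX (Fin n) (Fin n) A) = 0 := by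
    ext i j
    simp [Matrix.mvPolynomialX_apply]
  rw [h0, Matrix.det_zero]

theorem key_aux (A : Type u) [CommRing A] [Nontrivial A] (n : ℕ) (hn : 0 < n) (a a' : Aˣ) (k : ℕ)
    (h : Units.map (algebraMap A (Localization.Away
          (Matrix.mvPolynomialX (Fin n) (Fin n) A).det)).toMonoidHom a *
        (IsLocalization.Away.algebraMap_isUnit
          (S := Localization.Away (Matrix.mvPolynomialX (Fin n) (Fin n) A).det)
          (Matrix.mvPolynomialX (Fin n) (Fin n) A).det).unit ^ (k : ℤ) =
      Units.map (algebraMap A (Localization.Away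
          (Matrix.mvPolynomialX (Fin n) (Fin n) A).det)).toMonoidHom a') :
    k = 0 ∧ a = a' := by
  set d := (Matrix.mvPolynomialX (Fin n) (Fin n) A).det with hd
  have hval := congrArg (fun x : (Localization.Away d)ˣ => (x : Localization.Away d)) h
  simp only [Units.val_mul, Units.coe_map, RingHom.toMonoidHom_eq_coe, MonoidHom.coe_coe,
    zpow_natCast, Units.val_pow_eq_pow_val, IsUnit.unit_spec] at hval
  rw [IsScalarTower.algebraMap_apply A (MvPolynomial (Fin n × Fin n) A) (Localization.Away d),
    IsScalarTower.algebraMap_apply A (MvPolynomial (Fin n × Fin n) A) (Localization.Away d) (a' : A),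
    ← map_pow, ← map_mul] at hval
  have hinj : Function.Injective (algebraMap (MvPolynomial (Fin n × Fin n) A)
      (Localization.Away d)) := by
    apply IsLocalization.injective (M := Submonoid.powers d)
    apply Submonoid.powers_le.mpr
    exact Groth.Agent.S13785.result A n
  have hpoly := hinj hval
  have hcc := congrArg MvPolynomial.constantCoeff hpoly
  simp only [map_mul, map_pow, MvPolynomial.algebraMap_eq, MvPolynomial.constantCoeff_C] at hcc
  rw [hd, constantCoeff_det_mvPolynomialX A n hn] at hcc
  have hk : k = 0 := by
    by_contra hk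
    rw [zero_pow hk, mul_zero] at hcc
    exact a'.ne_zero hcc.symm
  subst hk
  refine ⟨rfl, ?_⟩
  rw [pow_zero, mul_one] at hcc
  exact Units.ext hcc

/-- Let A be a nonzero commutative ring and n ≥ 1, let det be the determinant of the generic n × n
matrix in the polynomial ring A[X] in its n² entries, and let A[X, 1/det] be the localization at det
(the coordinate ring of GL_n over A). The homomorphism Aˣ × ℤ → (A[X, 1/det])ˣ sending (a, e) to a ·
det^e is injective. (The published statement takes the exponent in the group of locally constant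
ℤ-valued functions on Spec A, which also covers A = 0; with integer exponents as here, A must be
nonzero and n ≥ 1.) -/
theorem result (A : Type u) [CommRing A] [Nontrivial A] (n : ℕ) (hn : 0 < n) :
    Function.Injective (fun p : Aˣ × ℤ =>
        Units.map (algebraMap A (Localization.Away (Matrix.mvPolynomialX (Fin n) (Fin n) A).det)).toMonoidHom p.1 *
          (IsLocalization.Away.algebraMap_isUnit (S := Localization.Away (Matrix.mvPolynomialX (Fin n) (Fin n) A).det)
            (Matrix.mvPolynomialX (Fin n) (Fin n) A).det).unit ^ p.2) := by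
  have main : ∀ (a a' : Aˣ) (e e' : ℤ), e' ≤ e →
      Units.map (algebraMap A (Localization.Away
          (Matrix.mvPolynomialX (Fin n) (Fin n) A).det)).toMonoidHom a *
        (IsLocalization.Away.algebraMap_isUnit
          (S := Localization.Away (Matrix.mvPolynomialX (Fin n) (Fin n) A).det)
          (Matrix.mvPolynomialX (Fin n) (Fin n) A).det).unit ^ e =
      Units.map (algebraMap A (Localization.Away
          (Matrix.mvPolynomialX (Fin n) (Fin n) A).det)).toMonoidHom a' *
        (IsLocalization.Away.algebraMap_isUnit
          (S := Localization.Away (Matrix.mvPolynomialX (Fin n) (Fin n) A).det)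
          (Matrix.mvPolynomialX (Fin n) (Fin n) A).det).unit ^ e' → a = a' ∧ e = e' := by
    intro a a' e e' hle h
    obtain ⟨k, hk⟩ := Int.eq_ofNat_of_zero_le (sub_nonneg.mpr hle)
    have h' := key_aux A n hn a a' k (by
      rw [← hk, zpow_sub, ← mul_assoc, h, mul_assoc, mul_inv_cancel, mul_one])
    refine ⟨h'.2, ?_⟩
    have := h'.1
    subst this
    simp only [Int.ofNat_eq_natCast, Nat.cast_zero] at hk
    omega
  rintro ⟨a, e⟩ ⟨a', e'⟩ h
  simp only at h
  rcases le_total e' e with hle | hle
  · obtain ⟨h1, h2⟩ := main a a' e e' hle h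
    rw [h1, h2]
  · obtain ⟨h1, h2⟩ := main a' a e' e hle h.symm
    rw [h1, h2]

end Groth.Agent.S13787
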