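import Groth.Statements.S13788
import Groth.Agent.Lib.Helper15.GLUnits
import Groth.Agent.S13787
-- import your own Groth.Agent.* helpers here

set_option autoImplicit false
universe u
open CAlg

namespace Groth.Agent.S13788

/-- Units of GL_n: let A be a nonzero commutative ring whose only idempotents are 0 and 1, let n ≥ 1,
let det be the determinant of the generic n × n matrix in the polynomial ring A[X] in its n²
entries, and let A[X, 1/det] be the coordinate ring of GL_n over A. The homomorphism Aˣ × ℤ → (A[X,
1/det])ˣ, (a, e) ↦ a · det^e, is bijective if and only if A is reduced. (The published statement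
allows Spec A disconnected, with exponents locally constant ℤ-valued functions on Spec A; this row
is the connected case, to which the published proof reduces.) -/
theorem result (A : Type u) [CommRing A] [Nontrivial A]
    (hconn : ∀ e : A, IsIdempotentElem e → e = 0 ∨ e = 1) (n : ℕ) (hn : 0 < n) :
    Function.Bijective (fun p : Aˣ × ℤ =>
        Units.map (algebraMap A (Localization.Away (Matrix.mvPolynomialX (Fin n) (Fin n) A).det)).toMonoidHom p.1 *
          (IsLocalization.Away.algebraMap_isUnit (S := Localization.Away (Matrix.mvPolynomialX (Fin n) (Fin n) A).det)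
            (Matrix.mvPolynomialX (Fin n) (Fin n) A).det).unit ^ p.2) ↔ IsReduced A := by
  classical
  set D := (Matrix.mvPolynomialX (Fin n) (Fin n) A).det with hD
  have hinj : Function.Injective (algebraMap (MvPolynomial (Fin n × Fin n) A)
      (Localization.Away D)) := by
    apply IsLocalization.injective (M := Submonoid.powers D)
    apply Submonoid.powers_le.mpr
    exact Groth.Agent.S13785.result A n
  set δ := (IsLocalization.Away.algebraMap_isUnit (S := Localization.Away D) D).unit with hδ
  have hδval : (δ : Localization.Away D) = algebraMap _ _ D := IsUnit.unit_spec _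
  have hcc : MvPolynomial.constantCoeff D = 0 :=
    Groth.Agent.S13787.constantCoeff_det_mvPolynomialX A n hn
  have hAL : ∀ a : A, algebraMap A (Localization.Away D) a =
      algebraMap (MvPolynomial (Fin n × Fin n) A) (Localization.Away D) (MvPolynomial.C a) := by
    intro a
    rw [IsScalarTower.algebraMap_apply A (MvPolynomial (Fin n × Fin n) A) (Localization.Away D),
      MvPolynomial.algebraMap_eq]
  constructor
  · intro hbij
    by_contra hred
    rw [isReduced_iff_pow_one_lt 2 (by norm_num)] at hred
    push Not at hred
    obtain ⟨ε, hε2, hε0⟩ := hred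
    let i₀ : Fin n := ⟨0, hn⟩
    let u : MvPolynomial (Fin n × Fin n) A := 1 + MvPolynomial.C ε * MvPolynomial.X (i₀, i₀)
    let u' : MvPolynomial (Fin n × Fin n) A := 1 - MvPolynomial.C ε * MvPolynomial.X (i₀, i₀)
    have huu' : u * u' = 1 := by
      have : (MvPolynomial.C ε : MvPolynomial (Fin n × Fin n) A) * MvPolynomial.C ε = 0 := by
        rw [← map_mul, ← pow_two, hε2, map_zero]
      calc u * u' = 1 - (MvPolynomial.C ε * MvPolynomial.C ε) *
            (MvPolynomial.X (i₀, i₀) * MvPolynomial.X (i₀, i₀)) := by
              simp only [u, u']; ring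
        _ = 1 := by rw [this, zero_mul, sub_zero]
    let uU : (MvPolynomial (Fin n × Fin n) A)ˣ := ⟨u, u', huu', by rw [mul_comm]; exact huu'⟩
    let w : (Localization.Away D)ˣ :=
      Units.map (algebraMap (MvPolynomial (Fin n × Fin n) A) (Localization.Away D)).toMonoidHom uU
    obtain ⟨⟨a, e⟩, hae⟩ := hbij.2 w
    have hval := congrArg (fun x : (Localization.Away D)ˣ => (x : Localization.Away D)) hae
    simp only [Units.val_mul, Units.coe_map, RingHom.toMonoidHom_eq_coe, MonoidHom.coe_coe,
      w, uU] at hval
    have hcu : MvPolynomial.constantCoeff u = 1 := by simp [u]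
    obtain ⟨k, rfl | rfl⟩ := Int.eq_nat_or_neg e
    · rw [zpow_natCast, Units.val_pow_eq_pow_val, hδval, hAL, ← map_pow, ← map_mul] at hval
      have hpoly := hinj hval
      rcases Nat.eq_zero_or_pos k with hk | hk
      · subst hk
        rw [pow_zero, mul_one] at hpoly
        have h1 := congrArg (MvPolynomial.coeff (Finsupp.single (i₀, i₀) 1)) hpoly
        simp only [u] at h1
        rw [MvPolynomial.coeff_C, if_neg (by
          intro h
          have := congrArg (fun m : (Fin n × Fin n) →₀ ℕ => m (i₀, i₀)) h
          simp at this), MvPolynomial.coeff_add, MvPolynomial.coeff_C_mul,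
          MvPolynomial.coeff_X, MvPolynomial.coeff_one, if_neg (by
          intro h
          have := congrArg (fun m : (Fin n × Fin n) →₀ ℕ => m (i₀, i₀)) h
          simp at this), zero_add, if_pos rfl, mul_one] at h1
        exact hε0 h1.symm
      · have h1 := congrArg MvPolynomial.constantCoeff hpoly
        rw [map_mul, map_pow, hcc, zero_pow hk.ne', mul_zero, hcu] at h1
        exact zero_ne_one h1
    · rw [zpow_neg, zpow_natCast] at hval
      have hval' : algebraMap A (Localization.Away D) ↑a =
          algebraMap (MvPolynomial (Fin n × Fin n) A) (Localization.Away D) u *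
            ((δ ^ k : (Localization.Away D)ˣ) : Localization.Away D) := by
        rw [← hval, mul_assoc, Units.inv_mul, mul_one]
      rw [Units.val_pow_eq_pow_val, hδval, hAL, ← map_pow, ← map_mul] at hval'
      have hpoly := hinj hval'
      have h1 := congrArg MvPolynomial.constantCoeff hpoly
      rw [map_mul, map_pow, hcc, hcu, MvPolynomial.constantCoeff_C, one_mul] at h1
      rcases Nat.eq_zero_or_pos k with hk | hk
      · subst hk
        rw [pow_zero, mul_one] at hpoly
        have h2 := congrArg (MvPolynomial.coeff (Finsupp.single (i₀, i₀) 1)) hpoly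
        simp only [u] at h2
        rw [MvPolynomial.coeff_C, if_neg (by
          intro h
          have := congrArg (fun m : (Fin n × Fin n) →₀ ℕ => m (i₀, i₀)) h
          simp at this), MvPolynomial.coeff_add, MvPolynomial.coeff_C_mul,
          MvPolynomial.coeff_X, MvPolynomial.coeff_one, if_neg (by
          intro h
          have := congrArg (fun m : (Fin n × Fin n) →₀ ℕ => m (i₀, i₀)) h
          simp at this), zero_add, if_pos rfl, mul_one] at h2
        exact hε0 h2.symm
      · rw [zero_pow hk.ne'] at h1
        exact a.ne_zero h1
  · intro hred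
    refine ⟨Groth.Agent.S13787.result A n hn, ?_⟩
    intro w
    obtain ⟨⟨f, s⟩, hfs⟩ := IsLocalization.surj (Submonoid.powers D) (w : Localization.Away D)
    obtain ⟨⟨g, s'⟩, hgs⟩ := IsLocalization.surj (Submonoid.powers D)
      ((w⁻¹ : (Localization.Away D)ˣ) : Localization.Away D)
    obtain ⟨k, hk⟩ := s.2
    obtain ⟨l, hl⟩ := s'.2
    simp only at hfs hgs
    rw [← hk] at hfs
    rw [← hl] at hgs
    have hfg : f * g = D ^ (k + l) := by
      apply hinj
      rw [map_mul, ← hfs, ← hgs, pow_add, map_mul]
      calc (w : Localization.Away D) * algebraMap _ _ (D ^ k) *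
            (((w⁻¹ : (Localization.Away D)ˣ) : Localization.Away D) * algebraMap _ _ (D ^ l)) =
          ((w : Localization.Away D) * ((w⁻¹ : (Localization.Away D)ˣ) : Localization.Away D)) *
            (algebraMap _ _ (D ^ k) * algebraMap _ _ (D ^ l)) := by ring
        _ = _ := by rw [Units.mul_inv, one_mul]
    obtain ⟨a, e, ha, hfa⟩ := Groth.Agent.Lib.Helper15.GLUnits.key A hconn n hn f g (k + l) hfg
    refine ⟨(ha.unit, (e : ℤ) - (k : ℤ)), ?_⟩
    apply Units.ext
    simp only [Units.val_mul, Units.coe_map, RingHom.toMonoidHom_eq_coe, MonoidHom.coe_coe,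
      IsUnit.unit_spec]
    rw [zpow_sub, zpow_natCast, zpow_natCast, Units.val_mul, Units.val_pow_eq_pow_val, hδval, hAL,
      ← map_pow, ← mul_assoc, ← map_mul]
    have hfa' : MvPolynomial.C a * D ^ e = f := hfa.symm
    rw [hfa', ← hfs, map_pow, ← hδval, ← Units.val_pow_eq_pow_val, mul_assoc, Units.mul_inv,
      mul_one]


end Groth.Agent.S13788
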