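import Groth.Statements.S13789
import Mathlib

set_option autoImplicit false
universe u
open CAlg

namespace Groth.Agent.S13789

/-- Let A be a commutative ring with total ring of fractions Q and let B be a ring with A ⊆ B ⊆ Q. Then
the inclusion A ⊆ B carries nonzerodivisors of A to nonzerodivisors of B, and every nonzerodivisor
of B has the form r/u with r and u nonzerodivisors of A. -/
theorem result {A Q : Type u} [CommRing A] [CommRing Q] [Algebra A Q] [IsFractionRing A Q] (B : Subalgebra A Q) :
    (∀ a : A, a ∈ nonZeroDivisors A → algebraMap A B a ∈ nonZeroDivisors B) ∧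
    (∀ b : B, b ∈ nonZeroDivisors B → ∃ r u : A, r ∈ nonZeroDivisors A ∧ u ∈ nonZeroDivisors A ∧
      (b : Q) * algebraMap A Q u = algebraMap A Q r) := by
  constructor
  · intro a ha
    have hunit : IsUnit (algebraMap A Q a) := IsLocalization.map_units Q ⟨a, ha⟩
    rw [mem_nonZeroDivisors_iff_right]
    intro x hx
    have h1 : (x : Q) * algebraMap A Q a = 0 := by
      have := congrArg (Subtype.val) hx
      simpa using this
    have h2 := hunit.mul_left_eq_zero.mp h1
    exact Subtype.ext h2
  · intro b hb
    obtain ⟨⟨r, u⟩, hru⟩ := IsLocalization.surj (nonZeroDivisors A) (b : Q)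
    refine ⟨r, u, ?_, u.2, hru⟩
    rw [mem_nonZeroDivisors_iff_right]
    intro x hx
    -- b * (u * x) = 0 in B
    have h1 : (algebraMap A B ((u : A) * x)) * b = 0 := by
      apply Subtype.ext
      have : ((algebraMap A B ((u : A) * x) * b : B) : Q) =
          algebraMap A Q x * ((b : Q) * algebraMap A Q (u : A)) := by
        simp only [map_mul, Subalgebra.coe_mul, Subalgebra.coe_algebraMap]
        ring
      rw [this, hru, ← map_mul, hx, map_zero]
      rfl
    have h2 := (mem_nonZeroDivisors_iff_right.mp hb) _ h1
    have h3 : (u : A) * x = 0 := by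
      have : algebraMap A Q ((u : A) * x) = 0 := by
        have := congrArg (Subtype.val) h2
        simpa using this
      exact (IsFractionRing.injective A Q) (by rw [this, map_zero])
    have h4 := (mem_nonZeroDivisors_iff_right.mp u.2) x (by rw [mul_comm]; exact h3)
    exact h4

end Groth.Agent.S13789
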