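import Groth.Statements.S13792
import Mathlib

set_option autoImplicit false
universe u
open CategoryTheory AlgebraicGeometry
open Curves

namespace Groth.Agent.S13792

section helpers
open TopologicalSpace

/-- A Noetherian quasi-sober space with all points closed is finite. -/
theorem finite_of_noetherian_of_closed_points {α : Type*} [TopologicalSpace α] [NoetherianSpace α]
    [QuasiSober α] (h : ∀ x : α, IsClosed ({x} : Set α)) : Finite α := by
  have hfin : (irreducibleComponents α).Finite := NoetherianSpace.finite_irreducibleComponents
  have hU : ⋃₀ irreducibleComponents α = Set.univ := sUnion_irreducibleComponents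
  have : (Set.univ : Set α).Finite := by
    rw [← hU]
    refine hfin.sUnion fun Z hZ => ?_
    have hirr : IsIrreducible Z := hZ.1
    have hcl : IsClosed Z := isClosed_of_mem_irreducibleComponents Z hZ
    obtain ⟨x, hx⟩ := QuasiSober.sober hirr hcl
    have : Z = {x} := by rw [← hx.def, (h x).closure_eq]
    rw [this]
    exact Set.finite_singleton x
  exact Set.finite_univ_iff.mp this

end helpers


/-- Let k be a field and E an integral k-scheme of finite type whose underlying space has dimension 1,
and let ι : G → E be a closed immersion. Then either ι is an isomorphism or G is finite over k. (The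
published statement is about a closed subgroup scheme of an elliptic curve and its proof states this
fact for E geometrically integral; this row assumes only that E is integral.) -/
theorem result {k : Type u} [Field k]
    {E G : Scheme.{u}} (f : E ⟶ Spec (CommRingCat.of k)) [LocallyOfFiniteType f] [QuasiCompact f]
    [IsIntegral E] (hdim : topologicalKrullDim ↥E = 1) (ι : G ⟶ E) [IsClosedImmersion ι] :
    IsIso ι ∨ IsFinite (ι ≫ f) := by
  by_cases hsurj : Function.Surjective ι
  · left
    have : Surjective ι := ⟨hsurj⟩
    exact isIso_of_isClosedImmersion_of_surjective ι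
  right
  have hrange : Set.range ι ≠ Set.univ := fun h => hsurj (Set.range_eq_univ.mp h)
  have hdim' : Order.krullDim (TopologicalSpace.IrreducibleCloseds E) ≤ 1 := hdim.le
  rw [Order.krullDim_le_one_iff] at hdim'
  have hclosedE : ∀ z : G, IsClosed ({ι z} : Set E) := by
    intro z
    let T : TopologicalSpace.IrreducibleCloseds E := ⟨closure {ι z}, isIrreducible_singleton.closure, isClosed_closure⟩
    have hTle : (T : Set E) ⊆ Set.range ι :=
      closure_minimal (by rintro _ rfl; exact ⟨z, rfl⟩) ι.isClosedEmbedding.isClosed_range
    have hmin : IsMin T := by
      refine (hdim' T).resolve_right fun hmax => hrange ?_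
      let Top : TopologicalSpace.IrreducibleCloseds E := ⟨Set.univ, (IrreducibleSpace.isIrreducible_univ E), isClosed_univ⟩
      have h1 : T ≤ Top := fun x _ => Set.mem_univ x
      have h2 : Top ≤ T := hmax h1
      exact Set.eq_univ_of_univ_subset ((show (Set.univ : Set E) ⊆ T from h2).trans hTle)
    rw [← closure_eq_iff_isClosed]
    apply Set.Subset.antisymm _ subset_closure
    intro y hy
    let Ty : TopologicalSpace.IrreducibleCloseds E := ⟨closure {y}, isIrreducible_singleton.closure, isClosed_closure⟩
    have h1 : Ty ≤ T := closure_minimal (Set.singleton_subset_iff.mpr hy) isClosed_closure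
    have h2 : T ≤ Ty := hmin h1
    have h3 : closure ({ι z} : Set E) = closure {y} := Set.Subset.antisymm h2 h1
    have : Inseparable (ι z) y := inseparable_iff_closure_eq.mpr h3
    exact (this.eq).symm
  have hclosedG : ∀ z : G, IsClosed ({z} : Set G) := by
    intro z
    have := (hclosedE z).preimage ι.continuous
    rwa [← Set.image_singleton, Set.preimage_image_eq _ ι.isClosedEmbedding.injective] at this
  have h1 : IsLocallyNoetherian G := LocallyOfFiniteType.isLocallyNoetherian (ι ≫ f)
  have h2 : CompactSpace G := QuasiCompact.compactSpace_of_compactSpace (ι ≫ f)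
  have h3 : IsNoetherian G := {}
  have hfin : Finite G := finite_of_noetherian_of_closed_points hclosedG
  have : LocallyQuasiFinite (ι ≫ f) :=
    locallyQuasiFinite_iff_finite_preimage_singleton.mpr fun y => Set.toFinite _
  exact IsFinite.of_locallyQuasiFinite (ι ≫ f)

end Groth.Agent.S13792
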