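import Groth.Statements.S13794
import Mathlib

set_option autoImplicit false
universe u
open Polynomial
open Curves

namespace Groth.Agent.S13794

theorem coeff_cubic {k : Type u} [Field k] (a3 a2 a1 a0 : k) :
    (C a3 * X ^ 3 + C a2 * X ^ 2 + C a1 * X + C a0 : k[X]).coeff 3 = a3 ∧
    (C a3 * X ^ 3 + C a2 * X ^ 2 + C a1 * X + C a0 : k[X]).coeff 2 = a2 ∧
    (C a3 * X ^ 3 + C a2 * X ^ 2 + C a1 * X + C a0 : k[X]).coeff 1 = a1 ∧
    (C a3 * X ^ 3 + C a2 * X ^ 2 + C a1 * X + C a0 : k[X]).coeff 0 = a0 := by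
  refine ⟨?_, ?_, ?_, ?_⟩ <;>
  simp only [coeff_add, coeff_C_mul, coeff_X_pow, coeff_X, coeff_C] <;> norm_num


/-- Let k be a field of characteristic not 3 and β ∈ k. If a line ax + by + c = 0 with a³ ≠ b³ is the
tangent line at a flex point of the affine cubic x³ + y³ + β = 3xy, then β is a cube in k. Here the
line is normalised to b ≠ 0 (the roles of x and y are symmetric) and the flex-tangency is expressed
by the restriction of the cubic to the line being λ (x − x₀)³. -/
theorem result {k : Type u} [Field k] (h3 : (3 : k) ≠ 0)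
    (β a b c : k) (hb : b ≠ 0) (hab : a ^ 3 ≠ b ^ 3) (lam x₀ : k)
    (hflex : (X : k[X]) ^ 3 + (C (-a / b) * X + C (-c / b)) ^ 3 + C β - 3 * X * (C (-a / b) * X + C (-c / b)) =
      C lam * (X - C x₀) ^ 3) :
    ∃ γ : k, β = γ ^ 3 := by
  set m : k := -a / b with hm
  set n : k := -c / b with hn
  have hL : (X : k[X]) ^ 3 + (C m * X + C n) ^ 3 + C β - 3 * X * (C m * X + C n) =
      C (1 + m ^ 3) * X ^ 3 + C (3 * m ^ 2 * n - 3 * m) * X ^ 2 + C (3 * m * n ^ 2 - 3 * n) * X +
        C (n ^ 3 + β) := by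
    simp only [map_add, map_sub, map_mul, map_pow, map_one, map_ofNat]
    ring
  have hR : C lam * ((X : k[X]) - C x₀) ^ 3 =
      C lam * X ^ 3 + C (-3 * lam * x₀) * X ^ 2 + C (3 * lam * x₀ ^ 2) * X + C (-lam * x₀ ^ 3) := by
    simp only [map_neg, map_mul, map_pow, map_ofNat]
    ring
  rw [hL, hR] at hflex
  obtain ⟨l3, l2, l1, l0⟩ := coeff_cubic (1 + m ^ 3) (3 * m ^ 2 * n - 3 * m) (3 * m * n ^ 2 - 3 * n)
    (n ^ 3 + β)
  obtain ⟨r3, r2, r1, r0⟩ := coeff_cubic lam (-3 * lam * x₀) (3 * lam * x₀ ^ 2) (-lam * x₀ ^ 3)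
  have e3 : 1 + m ^ 3 = lam := by rw [← l3, ← r3, hflex]
  have e2 : 3 * m ^ 2 * n - 3 * m = -3 * lam * x₀ := by rw [← l2, ← r2, hflex]
  have e1 : 3 * m * n ^ 2 - 3 * n = 3 * lam * x₀ ^ 2 := by rw [← l1, ← r1, hflex]
  have e0 : n ^ 3 + β = -lam * x₀ ^ 3 := by rw [← l0, ← r0, hflex]
  have e2' : m ^ 2 * n - m = -lam * x₀ := by
    apply mul_left_cancel₀ h3; linear_combination e2
  have e1' : m * n ^ 2 - n = lam * x₀ ^ 2 := by
    apply mul_left_cancel₀ h3; linear_combination e1
  have hlam : lam ≠ 0 := by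
    rw [← e3, hm]
    intro h
    apply hab
    field_simp at h
    linear_combination -h
  by_cases ht : m * n - 1 = 0
  · -- x₀ = 0
    have hx : x₀ = 0 := by
      have : lam * x₀ = 0 := by linear_combination e2' - m * ht
      exact (mul_eq_zero.mp this).resolve_left hlam
    refine ⟨-n, ?_⟩
    rw [hx] at e0
    linear_combination e0
  · have hn' : n = -x₀ * m := by
      have : (n + x₀ * m) * (m * n - 1) = 0 := by linear_combination e1' + x₀ * e2'
      have := (mul_eq_zero.mp this).resolve_right ht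
      linear_combination this
    have hx : x₀ = m := by
      have h := e2'
      rw [← e3, hn'] at h
      linear_combination h
    refine ⟨-m, ?_⟩
    rw [← e3, hn', hx] at e0
    linear_combination e0

end Groth.Agent.S13794
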