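import Groth.Statements.S13795
import Groth.Agent.Lib.Helper15.MoritaEnd
-- import your own Groth.Agent.* helpers here

set_option autoImplicit false
universe u
open TensorProduct
open Brauer

namespace Groth.Agent.S13795

/-- In the case of an affine scheme — let A be a commutative ring, F and G finitely generated projective
A-modules of everywhere positive rank, and φ an A-algebra isomorphism from End_A(F) to End_A(G).
Then there are an invertible A-module L and an A-linear isomorphism ξ : F ⊗ L ≅ G which induces φ:
for every endomorphism f of F, φ(f) = ξ ∘ (f ⊗ 1) ∘ ξ⁻¹. (The published statement is for finite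
locally free modules of positive rank on any locally ringed site; this row is the case of the
Zariski site of Spec A, written in terms of modules.) -/
theorem result (A : Type u) [CommRing A]
    (F G : Type u) [AddCommGroup F] [Module A F] [Module.Finite A F] [Module.Projective A F] [Module.FaithfullyFlat A F]
    [AddCommGroup G] [Module A G] [Module.Finite A G] [Module.Projective A G] [Module.FaithfullyFlat A G]
    (φ : Module.End A F ≃ₐ[A] Module.End A G) :
    ∃ (L : Type u) (_ : AddCommGroup L) (_ : Module A L), Module.Invertible A L ∧
      ∃ ξ : F ⊗[A] L ≃ₗ[A] G, ∀ f : Module.End A F, φ f = ξ.conj (TensorProduct.map f LinearMap.id) := by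
  open Groth.Agent.Lib.Helper15.MoritaEnd in
  obtain ⟨e, he⟩ := exists_evEquiv φ
  refine ⟨Groth.Agent.Lib.Helper15.MoritaEnd.inter φ, inferInstance, inferInstance,
    Groth.Agent.Lib.Helper15.MoritaEnd.invertible_inter φ, e, fun f => ?_⟩
  have h : (φ f) ∘ₗ e.toLinearMap = e.toLinearMap ∘ₗ (TensorProduct.map f LinearMap.id) := by
    ext x ξ
    simp only [TensorProduct.AlgebraTensorModule.curry_apply, LinearMap.restrictScalars_self,
      TensorProduct.curry_apply, LinearMap.comp_apply, LinearEquiv.coe_coe, he,
      TensorProduct.map_tmul, LinearMap.id_apply]
    exact (Groth.Agent.Lib.Helper15.MoritaEnd.inter_apply φ ξ f x).symm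
  ext y
  rw [LinearEquiv.conj_apply_apply]
  have := LinearMap.congr_fun h (e.symm y)
  simp only [LinearMap.comp_apply, LinearEquiv.coe_coe, LinearEquiv.apply_symm_apply] at this
  exact this

end Groth.Agent.S13795
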