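import Groth.Statements.S13796
import Groth.Agent.Lib.Helper15.TPIdentities
import Groth.Agent.Lib.Helper15.GlobalSplit
-- import your own Groth.Agent.* helpers here

set_option autoImplicit false
universe u
open scoped TensorProduct
open Brauer

namespace Groth.Agent.S13796

/-- In the case of an affine scheme — let R be a commutative ring and A an Azumaya R-algebra of constant
rank n². Then there exist a finitely generated projective R-module E of constant rank n^n and an
R-algebra isomorphism from the n-fold tensor power A ⊗ ⋯ ⊗ A to End_R(E) (existence of an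
isomorphism only), so the Brauer class of A is n-torsion. For n = 0 the hypotheses force R = 0,
where the statement holds trivially. (The published statement is for Azumaya algebras of constant
rank n² on any locally ringed site; this row is the case of the étale site of Spec R, written in
terms of modules: an Azumaya algebra here is one in the usual, étale-local sense.) -/
theorem result (R : Type u) [CommRing R] (A : Type u) [Ring A] [Algebra R A]
    [IsAzumaya R A] (n : ℕ) (hrk : ∀ p : PrimeSpectrum R, Module.rankAtStalk (R := R) A p = n ^ 2) :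
    ∃ (E : Type u) (_ : AddCommGroup E) (_ : Module R E), Module.Finite R E ∧ Module.Projective R E ∧
      (∀ p : PrimeSpectrum R, Module.rankAtStalk (R := R) E p = n ^ n) ∧
      Nonempty ((⨂[R] _ : Fin n, A) ≃ₐ[R] Module.End R E) := by
  classical
  open Groth.Agent.Lib.Helper15.TPRing Groth.Agent.Lib.Helper15.TPDescent
    Groth.Agent.Lib.Helper15.TPIdentities Groth.Agent.Lib.Helper15.MoritaRankOne
    Groth.Agent.Lib.Helper15.GlobalSplit in
  rcases Nat.eq_zero_or_pos n with hn | hn
  · -- `n = 0`: take `E = R`
    subst hn
    have hbij : Function.Bijective (Algebra.lmul R R) := by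
      refine ⟨?_, ?_⟩
      · rw [injective_iff_map_eq_zero]
        intro a ha
        have := LinearMap.congr_fun ha 1
        simpa using this
      · intro ψ
        refine ⟨ψ 1, ?_⟩
        ext
        simp
    refine ⟨R, inferInstance, inferInstance, inferInstance, inferInstance, ?_,
      ⟨(tpZeroEquiv R A).trans (AlgEquiv.ofBijective _ hbij)⟩⟩
    intro p
    haveI : Nontrivial R := ⟨⟨0, 1, fun h => p.isPrime.ne_top
      ((Ideal.eq_top_iff_one _).mpr (h ▸ p.asIdeal.zero_mem))⟩⟩
    rw [Module.rankAtStalk_self]
    rfl
  · haveI : NeZero n := ⟨Nat.pos_iff_ne_zero.mp hn⟩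
    obtain ⟨R', _, _, _, γ, hγ⟩ := exists_ff_spanning R A n hrk
    obtain ⟨e, he⟩ := exists_alt R A R' n γ hγ
    obtain ⟨x, hx⟩ := exists_regular R A R' n γ hγ e he
    have ha := exists_scalar R A R' n γ hγ e he
    obtain ⟨J, _, y, z, hb⟩ := exists_full R A R' n γ hγ e he
    have hbij := lmulHom_bijective (R := R) e x hx ha y z hb
    haveI := isAzumaya_tpow R A n
    haveI : Module.Finite R (⨂[R] _ : Fin n, A) := IsAzumaya.toFinite
    haveI : Module.Projective R (⨂[R] _ : Fin n, A) := IsAzumaya.toProjective
    have hf : (x * e) * (x * e) = x * e := by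
      rw [mul_assoc, ← mul_assoc e x e, hx]
    haveI hEfin : Module.Finite R (leftIdeal R (x * e)) := finite_leftIdeal _
    haveI hEproj : Module.Projective R (leftIdeal R (x * e)) := projective_leftIdeal hf
    let Φ : (⨂[R] _ : Fin n, A) ≃ₐ[R] Module.End R (leftIdeal R (x * e)) :=
      AlgEquiv.ofBijective _ hbij
    refine ⟨leftIdeal R (x * e), inferInstance, inferInstance, hEfin, hEproj, ?_, ⟨Φ⟩⟩
    intro p
    have h1 : Module.rankAtStalk (R := R) (⨂[R] _ : Fin n, A) p = (n ^ 2) ^ n := by
      rw [rankAtStalk_tpow, hrk]
    have h2 : Module.rankAtStalk (R := R) (Module.End R (leftIdeal R (x * e))) p =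
        (Module.rankAtStalk (R := R) (leftIdeal R (x * e)) p) ^ 2 := rankAtStalk_end R _ p
    have h3 : Module.rankAtStalk (R := R) (⨂[R] _ : Fin n, A) p =
        Module.rankAtStalk (R := R) (Module.End R (leftIdeal R (x * e))) p := by
      exact congrFun (Module.rankAtStalk_eq_of_equiv (R := R) (M := ⨂[R] _ : Fin n, A)
        (N := Module.End R (leftIdeal R (x * e))) Φ.toLinearEquiv) p
    have h4 : (Module.rankAtStalk (R := R) (leftIdeal R (x * e)) p) ^ 2 = (n ^ n) ^ 2 := by
      rw [← h2, ← h3, h1, ← pow_mul, ← pow_mul, mul_comm]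
    exact Nat.pow_left_injective (by norm_num : 2 ≠ 0) h4

end Groth.Agent.S13796
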