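import Groth.Statements.S13797
import Groth.Agent.Lib.Helper15.AzumayaInner
-- import your own Groth.Agent.* helpers here

set_option autoImplicit false
universe u
open scoped TensorProduct
open Brauer

namespace Groth.Agent.S13797

open Groth.Agent.Lib.Helper15.Azumaya

variable {A : Type u} [CommRing A] {n : ℕ}

/-- the module of liftings -/
noncomputable abbrev Lk (α : Matrix (Fin n) (Fin n) A ≃ₐ[A] Matrix (Fin n) (Fin n) A) :
    Submodule A (Matrix (Fin n) (Fin n) A) :=
  LinearMap.ker (LinearMap.mul A (Matrix (Fin n) (Fin n) A) -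
    (LinearMap.lcomp A (Matrix (Fin n) (Fin n) A) α.toLinearMap).comp
      (LinearMap.mul A (Matrix (Fin n) (Fin n) A)).flip)

lemma mem_Lk (α : Matrix (Fin n) (Fin n) A ≃ₐ[A] Matrix (Fin n) (Fin n) A)
    (g : Matrix (Fin n) (Fin n) A) : g ∈ Lk α ↔ ∀ N, g * N = α N * g := by
  rw [LinearMap.mem_ker]
  constructor
  · intro h N
    have := LinearMap.congr_fun h N
    simpa [sub_eq_zero] using this
  · intro h
    ext1 N
    simp [sub_eq_zero, h N]

lemma central_of_mem (α : Matrix (Fin n) (Fin n) A ≃ₐ[A] Matrix (Fin n) (Fin n) A)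
    {g g' : Matrix (Fin n) (Fin n) A} (hg : g ∈ Lk α) (hg' : g' ∈ Lk α.symm) :
    ∃ c : A, g * g' = algebraMap A _ c := by
  rw [mem_Lk] at hg hg'
  have hcomm : ∀ N, (g * g') * N = N * (g * g') := by
    intro N
    rw [mul_assoc, hg' N, ← mul_assoc, hg, AlgEquiv.apply_symm_apply, mul_assoc]
  obtain ⟨c, hc⟩ := Matrix.mem_range_scalar_of_commute_single (M := g * g')
    (fun i j _ => (hcomm _).symm)
  exact ⟨c, by rw [← hc]; rfl⟩

/-- the key local input -/
lemma exists_pair (hn : 0 < n) (α : Matrix (Fin n) (Fin n) A ≃ₐ[A] Matrix (Fin n) (Fin n) A)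
    (p : Ideal A) [p.IsPrime] :
    ∃ g ∈ Lk α, ∃ g' ∈ Lk α.symm, ∃ c : A, c ∉ p ∧ g * g' = algebraMap A _ c := by
  haveI : Nonempty (Fin n) := ⟨⟨0, hn⟩⟩
  haveI : IsAzumaya A (Matrix (Fin n) (Fin n) A) := IsAzumaya.matrix A (Fin n)
  obtain ⟨g, hg, hgu⟩ := exists_intertwiner_fibre_unit A (Matrix (Fin n) (Fin n) A) α p
  obtain ⟨g', hg', hgu'⟩ := exists_intertwiner_fibre_unit A (Matrix (Fin n) (Fin n) A) α.symm p
  have hgL : g ∈ Lk α := (mem_Lk α g).mpr fun N => (hg N).symm
  have hgL' : g' ∈ Lk α.symm := (mem_Lk α.symm g').mpr fun N => (hg' N).symm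
  obtain ⟨c, hc⟩ := central_of_mem α hgL hgL'
  refine ⟨g, hgL, g', hgL', c, fun hcp => ?_, hc⟩
  have hAz : IsAzumaya p.ResidueField (p.ResidueField ⊗[A] Matrix (Fin n) (Fin n) A) :=
    isAzumaya_baseChange A p.ResidueField (Matrix (Fin n) (Fin n) A)
  have hs := isSimpleRing_of_isAzumaya p.ResidueField
    (p.ResidueField ⊗[A] Matrix (Fin n) (Fin n) A)
  have hnt : Nontrivial (p.ResidueField ⊗[A] Matrix (Fin n) (Fin n) A) := inferInstance
  have hu : IsUnit ((1 : p.ResidueField) ⊗ₜ[A] (g * g')) := by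
    have : (1 : p.ResidueField) ⊗ₜ[A] (g * g') = ((1 : p.ResidueField) ⊗ₜ[A] g) *
        ((1 : p.ResidueField) ⊗ₜ[A] g') := by
      rw [Algebra.TensorProduct.tmul_mul_tmul, mul_one]
    rw [this]
    exact hgu.mul hgu'
  have h0 : (1 : p.ResidueField) ⊗ₜ[A] (g * g') = 0 := by
    rw [hc, Algebra.algebraMap_eq_smul_one, ← TensorProduct.smul_tmul, Algebra.smul_def, mul_one]
    have : algebraMap A p.ResidueField c = 0 := by
      rw [Ideal.algebraMap_residueField_eq_zero]
      exact hcp
    rw [this, TensorProduct.zero_tmul]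
  rw [h0] at hu
  exact not_isUnit_zero hu

lemma mul_eq_one (hn : 0 < n) (α : Matrix (Fin n) (Fin n) A ≃ₐ[A] Matrix (Fin n) (Fin n) A) :
    Lk α * Lk α.symm = 1 := by
  apply le_antisymm
  · rw [Submodule.mul_le]
    intro g hg g' hg'
    obtain ⟨c, hc⟩ := central_of_mem α hg hg'
    rw [Submodule.mem_one]
    exact ⟨c, hc.symm⟩
  · rw [Submodule.one_le]
    let K : Ideal A := Submodule.comap (Algebra.linearMap A (Matrix (Fin n) (Fin n) A))
      (Lk α * Lk α.symm)
    have hK : K = ⊤ := by
      by_contra hK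
      obtain ⟨m, hm, hKm⟩ := Ideal.exists_le_maximal K hK
      obtain ⟨g, hg, g', hg', c, hc, hgg⟩ := exists_pair hn α m
      apply hc
      apply hKm
      change Algebra.linearMap A (Matrix (Fin n) (Fin n) A) c ∈ Lk α * Lk α.symm
      rw [Algebra.linearMap_apply, ← hgg]
      exact Submodule.mul_mem_mul hg hg'
    have h1 : (1 : A) ∈ K := by rw [hK]; trivial
    change Algebra.linearMap A (Matrix (Fin n) (Fin n) A) 1 ∈ Lk α * Lk α.symm at h1
    rwa [Algebra.linearMap_apply, map_one] at h1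

theorem invertible_Lk (hn : 0 < n) (α : Matrix (Fin n) (Fin n) A ≃ₐ[A] Matrix (Fin n) (Fin n) A) :
    Module.Invertible A (Lk α) := by
  haveI : Nonempty (Fin n) := ⟨⟨0, hn⟩⟩
  haveI : IsAzumaya A (Matrix (Fin n) (Fin n) A) := IsAzumaya.matrix A (Fin n)
  haveI : FaithfulSMul A (Matrix (Fin n) (Fin n) A) := IsAzumaya.toFaithfulSMul
  have h1 := mul_eq_one hn α
  have h2 := mul_eq_one hn α.symm
  rw [AlgEquiv.symm_symm] at h2
  have key : ∀ u : (Submodule A (Matrix (Fin n) (Fin n) A))ˣ,
      Module.Invertible A (u : Submodule A (Matrix (Fin n) (Fin n) A)) := fun u => inferInstance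
  exact key ⟨Lk α, Lk α.symm, h1, h2⟩

theorem invertible_piTensor (M : Type u) [AddCommGroup M] [Module A M] [Module.Invertible A M]
    (m : ℕ) : Module.Invertible A (⨂[A] _ : Fin m, M) := by
  induction m with
  | zero => exact Module.Invertible.congr (PiTensorProduct.isEmptyEquiv (R := A) (s := fun _ : Fin 0 => M) (Fin 0)).symm
  | succ m ih =>
    have e1 : (⨂[A] _ : Fin 1, M) ≃ₗ[A] M := PiTensorProduct.subsingletonEquiv (0 : Fin 1)
    haveI : Module.Invertible A (⨂[A] _ : Fin 1, M) := Module.Invertible.congr e1.symm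
    have e : (⨂[A] _ : Fin (m + 1), M) ≃ₗ[A] (⨂[A] _ : Fin m, M) ⊗[A] (⨂[A] _ : Fin 1, M) :=
      (PiTensorProduct.reindex A (fun _ : Fin (m + 1) => M) finSumFinEquiv.symm) ≪≫ₗ
        (PiTensorProduct.tmulEquiv A M).symm
    exact Module.Invertible.congr e.symm

/-- the `i`-th row -/
def rowMap (i : Fin n) : Matrix (Fin n) (Fin n) A →ₗ[A] (Fin n → A) where
  toFun M := M i
  map_add' _ _ := rfl
  map_smul' _ _ := rfl

/-- the mixed determinant -/
noncomputable def D (α : Matrix (Fin n) (Fin n) A ≃ₐ[A] Matrix (Fin n) (Fin n) A) :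
    MultilinearMap A (fun _ : Fin n => Lk α) A :=
  (Matrix.detRowAlternating (n := Fin n) (R := A)).toMultilinearMap.compLinearMap
    (fun i => (rowMap i).comp (Lk α).subtype)

lemma D_diag (α : Matrix (Fin n) (Fin n) A ≃ₐ[A] Matrix (Fin n) (Fin n) A) (g : Lk α) :
    D α (fun _ => g) = Matrix.det (g : Matrix (Fin n) (Fin n) A) := rfl

theorem surjective_lift_D (hn : 0 < n)
    (α : Matrix (Fin n) (Fin n) A ≃ₐ[A] Matrix (Fin n) (Fin n) A) :
    Function.Surjective (PiTensorProduct.lift (D α)) := by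
  rw [← LinearMap.range_eq_top]
  by_contra hK
  obtain ⟨m, hm, hKm⟩ := Ideal.exists_le_maximal (LinearMap.range (PiTensorProduct.lift (D α))) hK
  obtain ⟨g, hg, g', hg', c, hc, hgg⟩ := exists_pair hn α m
  have h1 : Matrix.det g ∈ m := by
    apply hKm
    refine ⟨PiTensorProduct.tprod A (fun _ => ⟨g, hg⟩), ?_⟩
    rw [PiTensorProduct.lift.tprod, D_diag]
  have h2 : Matrix.det g * Matrix.det g' = c ^ n := by
    rw [← Matrix.det_mul, hgg, Algebra.algebraMap_eq_smul_one, Matrix.det_smul, Matrix.det_one,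
      mul_one, Fintype.card_fin]
  have h3 : c ^ n ∈ m := by
    rw [← h2]
    exact Ideal.mul_mem_right _ _ h1
  exact hc (hm.isPrime.mem_of_pow_mem n h3)

/-- In the case of an affine scheme — let A be a commutative ring, n ≥ 1 and α an A-algebra automorphism
of the n × n matrix algebra over A. The A-module L of matrices M with M N = α(N) M for every matrix
N (the module of sections of the line bundle attached to the torsor of liftings of α to GL_n) is
invertible, and its class in the Picard group of A is n-torsion: the n-fold tensor power of L is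
isomorphic to A (existence of an isomorphism only). (The published statement is for an automorphism
of End(O^n) on any locally ringed site, in the form: the sheaf of liftings is a 𝔾_m-torsor whose
class in Pic is n-torsion; this row is the affine case.) -/
theorem result (A : Type u) [CommRing A] (n : ℕ) (hn : 0 < n)
    (α : Matrix (Fin n) (Fin n) A ≃ₐ[A] Matrix (Fin n) (Fin n) A) :
    Module.Invertible A
        (LinearMap.ker (LinearMap.mul A (Matrix (Fin n) (Fin n) A) -
          (LinearMap.lcomp A (Matrix (Fin n) (Fin n) A) α.toLinearMap).comp (LinearMap.mul A (Matrix (Fin n) (Fin n) A)).flip)) ∧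
      Nonempty ((⨂[A] _ : Fin n,
          LinearMap.ker (LinearMap.mul A (Matrix (Fin n) (Fin n) A) -
            (LinearMap.lcomp A (Matrix (Fin n) (Fin n) A) α.toLinearMap).comp (LinearMap.mul A (Matrix (Fin n) (Fin n) A)).flip)) ≃ₗ[A] A) := by
  haveI := invertible_Lk hn α
  haveI := invertible_piTensor (A := A) (Lk α) n
  exact ⟨invertible_Lk hn α, ⟨LinearEquiv.ofBijective (PiTensorProduct.lift (D α))
    (Module.Invertible.bijective_of_surjective (surjective_lift_D hn α))⟩⟩

end Groth.Agent.S13797
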