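import Groth.Statements.S13801
import Mathlib

set_option autoImplicit false
open ChowMon

namespace Groth.Agent.S13801

section helpers
open Finset

theorem padicValNat_prod' {ι : Type*} [DecidableEq ι] (p : ℕ) [Fact p.Prime] (s : Finset ι)
    (f : ι → ℕ) (hf : ∀ j ∈ s, f j ≠ 0) :
    padicValNat p (∏ j ∈ s, f j) = ∑ j ∈ s, padicValNat p (f j) := by
  induction s using Finset.induction_on with
  | empty => simp
  | insert a s ha ih =>
    rw [prod_insert ha, sum_insert ha, padicValNat.mul (hf a (mem_insert_self a s))
      (prod_ne_zero_iff.mpr fun j hj => hf j (mem_insert_of_mem hj)),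
      ih fun j hj => hf j (mem_insert_of_mem hj)]

theorem le_of_dvd' (p : ℕ) [Fact p.Prime] {a b : ℕ} (hb : b ≠ 0) (h : a ∣ b) :
    padicValNat p a ≤ padicValNat p b := by
  rw [← padicValNat_dvd_iff_le hb]
  exact pow_padicValNat_dvd.trans h

end helpers


/-- For a prime p and positive natural numbers a_1, ..., a_k with sum n one has v_p(a_1!) + ... +
v_p(a_k!) ≤ v_p(n!), and the inequality is strict whenever some a_i is not divisible by p^(v_p(n)). -/
theorem result {k : ℕ} (p : ℕ) [Fact p.Prime]
    (a : Fin k → ℕ) (ha : ∀ i, 0 < a i) :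
    (∑ i, padicValNat p (a i).factorial ≤ padicValNat p (∑ i, a i).factorial) ∧
      ((∃ i, ¬ p ^ padicValNat p (∑ j, a j) ∣ a i) →
        ∑ i, padicValNat p (a i).factorial < padicValNat p (∑ i, a i).factorial) := by
  have hD : ∀ s : Finset (Fin k), padicValNat p (∏ j ∈ s, (a j).factorial) =
      ∑ j ∈ s, padicValNat p (a j).factorial := fun s =>
    padicValNat_prod' p s _ fun j _ => Nat.factorial_ne_zero _
  constructor
  · rw [← hD]
    exact le_of_dvd' p (Nat.factorial_ne_zero _) (Nat.prod_factorial_dvd_factorial_sum _ _)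
  · rintro ⟨i, hi⟩
    set n := ∑ j, a j with hn
    set S := ∑ j ∈ Finset.univ.erase i, a j with hS
    set E := ∏ j ∈ Finset.univ.erase i, (a j).factorial with hE
    have hnS : n = a i + S := (Finset.add_sum_erase Finset.univ a (Finset.mem_univ i)).symm
    have hDE : ∏ j, (a j).factorial = (a i).factorial * E :=
      (Finset.mul_prod_erase Finset.univ (fun j => (a j).factorial) (Finset.mem_univ i)).symm
    obtain ⟨b, hb⟩ : ∃ b, a i = b + 1 := ⟨a i - 1, by have := ha i; omega⟩
    have hdvd : b.factorial * E ∣ (b + S).factorial :=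
      (mul_dvd_mul_left _ (Nat.prod_factorial_dvd_factorial_sum _ _)).trans
        (Nat.factorial_mul_factorial_dvd_factorial_add _ _)
    obtain ⟨M, hM⟩ := hdvd
    have hM0 : M ≠ 0 := by
      rintro rfl
      exact Nat.factorial_ne_zero _ (by simpa using hM)
    have hE0 : E ≠ 0 := Finset.prod_ne_zero_iff.mpr fun j _ => Nat.factorial_ne_zero _
    have hn0 : n ≠ 0 := by rw [hnS, hb]; omega
    -- n! * a_i = n * M * D
    have key : n.factorial * a i = n * M * ((a i).factorial * E) := by
      have h1 : n = (b + S) + 1 := by rw [hnS, hb]; ring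
      rw [h1, Nat.factorial_succ, hM, hb, Nat.factorial_succ]
      ring
    have hv := congrArg (padicValNat p) key
    rw [padicValNat.mul (Nat.factorial_ne_zero _) (ha i).ne',
      padicValNat.mul (mul_ne_zero hn0 hM0) (mul_ne_zero (Nat.factorial_ne_zero _) hE0),
      padicValNat.mul hn0 hM0, ← hDE, hD] at hv
    have hlt : padicValNat p (a i) < padicValNat p n := by
      by_contra hcon
      push Not at hcon
      exact hi ((padicValNat_dvd_iff_le (ha i).ne').mpr hcon)
    omega

end Groth.Agent.S13801
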