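import Groth.Statements.S13809
-- import your own Groth.Agent.* helpers here
import Groth.Agent.Lib.Helper12.Eta4

set_option autoImplicit false
universe u
open EtaPt

namespace Groth.Agent.S13809

/-- For an integrally closed domain A such that η is bijective at the fraction field of A, the map q_A :
A → M_η(A) is bijective. Here η is a natural transformation from the identity of the category of
fields to an endofunctor F with F(η_K) bijective and η_K purely inseparable for every field K,
N_η(A) is the product of the F(k(p)) over the primes p of A with diagonal map t_A, and M_η(A) ⊆
N_η(A) is the subring of elements sent into the range of t_R by every ring map from A to a valuation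
ring R at whose fraction field η is bijective; q_A : A → M_η(A) is the corestriction of t_A. -/
theorem result (η : EtaPt.FieldEndo.{u}) (A : Type u) [CommRing A] [IsDomain A] [IsIntegrallyClosed A]
    (hA : η.InV A) : Function.Bijective (η.q A) := by
  refine ⟨?_, ?_⟩
  · intro a b hab
    have h1 : η.t A a = η.t A b := congrArg Subtype.val hab
    have h2 := congrArg (Groth.Agent.Lib.Helper12.Eta.ev η (algebraMap A (FractionRing A))) h1
    rw [Groth.Agent.Lib.Helper12.Eta.ev_t, Groth.Agent.Lib.Helper12.Eta.ev_t] at h2
    exact IsFractionRing.injective A (FractionRing A) ((η.eta _).injective h2)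
  · rintro ⟨x, hx⟩
    obtain ⟨a, ha⟩ :=
      Groth.Agent.Lib.Helper12.Eta.exists_t_eq_of_mem_M_of_isIntegrallyClosed η hA hx
    exact ⟨a, Subtype.ext ha⟩

end Groth.Agent.S13809
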