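import Groth.Statements.S1382
import Mathlib
import Groth.Agent.Lib.Helper18.FlQ
import Groth.Agent.S1315

set_option autoImplicit false
universe u
open FlatMor

namespace Groth.Agent.S1382

open AlgebraicGeometry CategoryTheory Limits in
/-- Let S ⟶ S' be an arbitrary thickening, let X' ⟶ Y' be a morphism of schemes over S' with X' flat and
locally of finite presentation over S' and Y' locally of finite type over S', and let X ⟶ Y be its
base change to S. Then X ⟶ Y is an isomorphism if and only if X' ⟶ Y' is. -/
theorem result {X X' Y Y' S S' : Scheme.{u}} (iX : X ⟶ X') (iY : Y ⟶ Y') (iS : S ⟶ S')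
    (f : X ⟶ Y) (f' : X' ⟶ Y') (g : Y ⟶ S) (g' : Y' ⟶ S')
    (hS : MoreMor.IsThickening iS) (hcX : IsPullback iX (f ≫ g) (f' ≫ g') iS) (hcY : IsPullback iY g g' iS)
    (w : iX ≫ f' = f ≫ iY) [Flat (f' ≫ g')] [LocallyOfFinitePresentation (f' ≫ g')] [LocallyOfFiniteType g'] :
    IsIso f ↔ IsIso f' := by
  have hsq : IsPullback iX f f' iY := IsPullback.of_bot hcX w hcY
  haveI := hS.1
  have hY : MoreMor.IsThickening iY :=
    ⟨MorphismProperty.of_isPullback (P := @IsClosedImmersion) hcY.flip hS.1,
      MorphismProperty.of_isPullback (P := @Surjective) hcY.flip hS.2⟩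
  have hsurjX : Surjective iX := MorphismProperty.of_isPullback (P := @Surjective) hcX.flip hS.2
  haveI hlfp' : LocallyOfFinitePresentation f' :=
    Groth.Agent.Lib.Helper14.AS.locallyOfFinitePresentation_of_comp f' g' inferInstance
      inferInstance
  constructor
  · intro hf
    haveI : Flat f' :=
      Groth.Agent.Lib.Helper18.Fl.flat_of_flat_baseChange_thickening iX iY iS f f' g g' hS.2
        hcX hcY w inferInstance
    haveI : Mono f' := (Groth.Agent.S1315.result iX iY f f' hY hsq).mp inferInstance
    haveI : IsOpenImmersion f' := IsOpenImmersion.of_flat_of_mono f'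
    refine isIso_of_isOpenImmersion_of_opensRange_eq_top f' ?_
    rw [eq_top_iff]
    intro y' _
    obtain ⟨y, rfl⟩ := hY.2.surj y'
    obtain ⟨x, rfl⟩ : ∃ x, f x = y := ⟨(inv f) y, by
      rw [← Scheme.Hom.comp_apply, IsIso.inv_hom_id]; rfl⟩
    exact ⟨iX x, by rw [← Scheme.Hom.comp_apply, w, Scheme.Hom.comp_apply]⟩
  · intro hf'
    exact MorphismProperty.of_isPullback (P := MorphismProperty.isomorphisms Scheme) hsq hf'

end Groth.Agent.S1382
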