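import Groth.Statements.S13821
-- import your own Groth.Agent.* helpers here
import Groth.Agent.Lib.Helper12.Eta7

set_option autoImplicit false
universe u
open EtaPt

namespace Groth.Agent.S13821


open Groth.Agent.Lib.Helper12.Eta in
lemma qRel_bijective_iff (η : EtaPt.FieldEndo.{u}) {A B : Type u} [CommRing A] [CommRing B] (f : A →+* B) :
    Function.Bijective (η.qRel f) ↔ Function.Injective f ∧ ∀ b ∈ η.rel f, ∃ a, f a = b := by
  constructor
  · rintro ⟨h1, h2⟩
    refine ⟨fun a a' h => h1 (Subtype.ext h), fun b hb => ?_⟩
    obtain ⟨a, ha⟩ := h2 ⟨b, hb⟩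
    exact ⟨a, congrArg Subtype.val ha⟩
  · rintro ⟨h1, h2⟩
    refine ⟨fun a a' h => h1 (congrArg Subtype.val h), fun b => ?_⟩
    obtain ⟨a, ha⟩ := h2 b.1 b.2
    exact ⟨a, Subtype.ext ha⟩

/-- Let A and B have finitely many minimal prime ideals and let f : A → B, g : B → C be ring maps with
Spec(f) and Spec(g) surjective. If q_{B/A} and q_{C/B} are bijective then so is q_{C/A}; and if g is
injective and q_{C/A} is bijective then q_{B/A} is bijective. Here η is a natural transformation
from the identity of the category of fields to an endofunctor F with F(η_K) bijective and η_K purely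
inseparable for every field K, N_η(A) is the product of the F(k(p)) over the primes p of A with
diagonal map t_A, and M_η(A) ⊆ N_η(A) is the subring of elements sent into the range of t_R by every
ring map from A to a valuation ring R at whose fraction field η is bijective; q_A : A → M_η(A) is
the corestriction of t_A. For a ring map f : A → B, (B/A)_η ⊆ B denotes the subring of elements b
with t_B(b) in N_η(f)(M_η(A)) (the image in B of the fibre product of M_η(A) and B over M_η(B)), and
q_{B/A} : A → (B/A)_η the corestriction of f. (The published statement assumes finitely many minimal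
primes only for A; this row also assumes it for B, under which the relative ring of g is
introduced.) -/
theorem result (η : EtaPt.FieldEndo.{u}) {A B C : Type u} [CommRing A] [CommRing B] [CommRing C]
    (hA : (minimalPrimes A).Finite) (hB : (minimalPrimes B).Finite) (f : A →+* B) (g : B →+* C)
    (hf : Function.Surjective (PrimeSpectrum.comap f)) (hg : Function.Surjective (PrimeSpectrum.comap g)) :
    (Function.Bijective (η.qRel f) → Function.Bijective (η.qRel g) → Function.Bijective (η.qRel (g.comp f))) ∧
      (Function.Injective g → Function.Bijective (η.qRel (g.comp f)) → Function.Bijective (η.qRel f)) := by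
  have hNg := Groth.Agent.Lib.Helper12.Eta.Nmap_injective_of_comap_surjective η g hg
  constructor
  · intro h1 h2
    rw [qRel_bijective_iff] at h1 h2 ⊢
    refine ⟨h2.1.comp h1.1, fun c hc => ?_⟩
    obtain ⟨x, hx, hxc⟩ := hc
    rw [Groth.Agent.Lib.Helper12.Eta.Nmap_comp] at hxc
    obtain ⟨b, rfl⟩ := h2.2 c ⟨η.Nmap f x, Groth.Agent.Lib.Helper12.Eta.Nmap_mem_M η f hx, hxc⟩
    rw [← η.Nmap_t_apply] at hxc
    obtain ⟨a, rfl⟩ := h1.2 b ⟨x, hx, hNg hxc⟩
    exact ⟨a, rfl⟩
  · intro hginj h1
    rw [qRel_bijective_iff] at h1 ⊢
    refine ⟨Function.Injective.of_comp h1.1, fun b hb => ?_⟩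
    obtain ⟨x, hx, hxb⟩ := hb
    obtain ⟨a, ha⟩ := h1.2 (g b) ⟨x, hx, by
      rw [Groth.Agent.Lib.Helper12.Eta.Nmap_comp, hxb, η.Nmap_t_apply]⟩
    exact ⟨a, hginj ha⟩

end Groth.Agent.S13821
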