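import Groth.Statements.S13822
-- import your own Groth.Agent.* helpers here
import Groth.Agent.Lib.Helper12.Eta8

set_option autoImplicit false
universe u
open scoped TensorProduct
open EtaPt

namespace Groth.Agent.S13822

/-- Let A → A' be faithfully flat with A and A' having finitely many minimal prime ideals, and B an
A-algebra with Spec B → Spec A surjective; if q_{(A' ⊗ B)/A'} is bijective then q_{B/A} is
bijective. Here η is a natural transformation from the identity of the category of fields to an
endofunctor F with F(η_K) bijective and η_K purely inseparable for every field K, N_η(A) is the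
product of the F(k(p)) over the primes p of A with diagonal map t_A, and M_η(A) ⊆ N_η(A) is the
subring of elements sent into the range of t_R by every ring map from A to a valuation ring R at
whose fraction field η is bijective; q_A : A → M_η(A) is the corestriction of t_A. For a ring map f
: A → B, (B/A)_η ⊆ B denotes the subring of elements b with t_B(b) in N_η(f)(M_η(A)) (the image in B
of the fibre product of M_η(A) and B over M_η(B)), and q_{B/A} : A → (B/A)_η the corestriction of f. -/
theorem result (η : EtaPt.FieldEndo.{u}) (A A' B : Type u) [CommRing A] [CommRing A'] [CommRing B]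
    [Algebra A A'] [Algebra A B] [Module.FaithfullyFlat A A']
    (hA : (minimalPrimes A).Finite) (hA' : (minimalPrimes A').Finite)
    (hs : Function.Surjective (PrimeSpectrum.comap (algebraMap A B)))
    (h : Function.Bijective (η.qRel (Algebra.TensorProduct.includeLeftRingHom : A' →+* A' ⊗[A] B))) :
    Function.Bijective (η.qRel (algebraMap A B)) := by
  rw [Groth.Agent.Lib.Helper12.Eta.qRel_bijective_iff] at h ⊢
  have hcomm : (Algebra.TensorProduct.includeLeftRingHom : A' →+* A' ⊗[A] B).comp (algebraMap A A') =
      (Algebra.TensorProduct.includeRight : B →ₐ[A] A' ⊗[A] B).toRingHom.comp (algebraMap A B) := by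
    refine RingHom.ext fun a => ?_
    change (algebraMap A A' a) ⊗ₜ[A] (1 : B) = (1 : A') ⊗ₜ[A] (algebraMap A B a)
    rw [Algebra.algebraMap_eq_smul_one, Algebra.algebraMap_eq_smul_one, TensorProduct.smul_tmul]
  refine ⟨fun a a' haa' => ?_, fun b hb => ?_⟩
  · apply FaithfulSMul.algebraMap_injective A A'
    apply h.1
    have h1 := RingHom.congr_fun hcomm a
    have h2 := RingHom.congr_fun hcomm a'
    simp only [RingHom.comp_apply] at h1 h2
    rw [h1, h2, haa']
  · have hb' := Groth.Agent.Lib.Helper12.Eta.map_mem_rel_of_comm η (algebraMap A B)
      (Algebra.TensorProduct.includeLeftRingHom : A' →+* A' ⊗[A] B) (algebraMap A A')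
      (Algebra.TensorProduct.includeRight : B →ₐ[A] A' ⊗[A] B).toRingHom hcomm.symm hb
    obtain ⟨a', ha'⟩ := h.2 _ hb'
    exact Groth.Agent.Lib.Helper12.Eta.exists_algebraMap_eq_of_tmul_eq A A' B a' b ha'

end Groth.Agent.S13822
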