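import Groth.Statements.S13826
-- import your own Groth.Agent.* helpers here
import Groth.Agent.Lib.Helper12.Eta17

set_option autoImplicit false
universe u
open EtaPt

namespace Groth.Agent.S13826

/-- For the identity endofunctor and a commutative ring A with finitely many minimal prime ideals, q_A :
A → M(A) is a seminormalization of A: Spec(q_A) is a universal homeomorphism with trivial residue
field extensions, final among ring maps out of A with these properties. Here M(A) ⊆ ∏_p k(p) is the
subring of families whose image in ∏_q k(q), for every ring map from A to a valuation ring R, is the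
diagonal image of an element of R. -/
theorem result (A : Type u) [CommRing A] (hA : (minimalPrimes A).Finite) :
    HTop.IsRingSN (EtaPt.FieldEndo.ident.{u}.q A) := by
  have hq := Groth.Agent.Lib.Helper12.Eta.q_isIntegral EtaPt.FieldEndo.ident.{u} hA
  have hN := Groth.Agent.Lib.Helper12.Eta.Nmap_q_bijective EtaPt.FieldEndo.ident.{u} hA
  refine ⟨⟨Groth.Agent.Lib.Helper12.Eta.isUnivHomeo_SpecMap_of_Nmap_bijective _ _ hq hN,
    Groth.Agent.Lib.Helper12.Eta.residueFieldsIso_of_Nmap_ident_bijective _ hN⟩, ?_⟩
  intro C _ ψ h1 h2
  obtain ⟨hψ, hNψ⟩ := Groth.Agent.Lib.Helper12.Eta.Nmap_ident_bijective_of_isUnivHomeo ψ h1 h2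
  exact Groth.Agent.Lib.Helper12.Eta.existsUnique_factor EtaPt.FieldEndo.ident.{u} ψ hψ hNψ

end Groth.Agent.S13826
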