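import Groth.Statements.S13834
import Mathlib

set_option autoImplicit false
universe u
open AlgebraicGeometry
open EtaPt

namespace Groth.Agent.S13834

section helpers
open CategoryTheory TopologicalSpace

/-- flat finite type algebra over a ring with finitely many minimal primes has finitely many
minimal primes -/
theorem finite_minimalPrimes_of_flat {A B : Type*} [CommRing A] [CommRing B] [Algebra A B]
    [Module.Flat A B] [Algebra.FiniteType A B] (hA : (minimalPrimes A).Finite) :
    (minimalPrimes B).Finite := by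
  classical
  -- minimal primes of B lie over minimal primes of A
  have hover : ∀ q ∈ minimalPrimes B, q.under A ∈ minimalPrimes A := by
    intro q hq
    have hqp : q.IsPrime := hq.1.1
    refine ⟨⟨inferInstance, bot_le⟩, ?_⟩
    rintro p₀ ⟨hp₀, -⟩ hle
    obtain ⟨P, hPq, hP, hPo⟩ := Ideal.exists_ideal_le_liesOver_of_le (p := p₀) (q := q.under A) q hle
    have : q ≤ P := hq.2 ⟨hP, bot_le⟩ hPq
    have hPq' : P = q := le_antisymm hPq this
    rw [hPo.over, hPq']
  have hsub : minimalPrimes B ⊆ ⋃ p ∈ minimalPrimes A, {q ∈ minimalPrimes B | q.under A = p} := by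
    intro q hq
    simp only [Set.mem_iUnion, Set.mem_ofPred_eq, exists_prop]
    exact ⟨q.under A, hover q hq, hq, rfl⟩
  refine (Set.Finite.biUnion hA fun p hp => ?_).subset hsub
  have hpp : p.IsPrime := hp.1.1
  -- the fiber ring is Noetherian
  have : Algebra.FiniteType p.ResidueField (p.Fiber B) := by
    unfold Ideal.Fiber; infer_instance
  have hN : IsNoetherianRing (p.Fiber B) := Algebra.FiniteType.isNoetherianRing p.ResidueField _
  have hfin := minimalPrimes.finite_of_isNoetherianRing (p.Fiber B)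
  let e := PrimeSpectrum.primesOverOrderIsoFiber A B p
  -- map q ↦ e q
  have hq_mem : ∀ q ∈ {q ∈ minimalPrimes B | q.under A = p}, q ∈ p.primesOver B := by
    rintro q ⟨hq, rfl⟩
    exact ⟨hq.1.1, ⟨rfl⟩⟩
  refine Set.Finite.of_finite_image (f := fun q : Ideal B =>
    if h : q ∈ p.primesOver B then (e ⟨q, h⟩).asIdeal else ⊥) (hfin.subset ?_) ?_
  · rintro _ ⟨q, hq, rfl⟩
    have hmem := hq_mem q hq
    simp only [dif_pos hmem]
    refine ⟨⟨(e ⟨q, hmem⟩).2, bot_le⟩, ?_⟩
    rintro Q' ⟨hQ', -⟩ hle
    -- Q' corresponds to a prime of B over p below q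
    obtain ⟨⟨q', hq'⟩, hq'e⟩ := e.surjective ⟨Q', hQ'⟩
    have h1 : e ⟨q', hq'⟩ ≤ e ⟨q, hmem⟩ := by rw [hq'e]; exact hle
    have h2 : q' ≤ q := e.le_iff_le.mp h1
    have h3 : q ≤ q' := hq.1.2 ⟨hq'.1, bot_le⟩ h2
    have h4 : (⟨q, hmem⟩ : p.primesOver B) ≤ ⟨q', hq'⟩ := h3
    have := e.le_iff_le.mpr h4
    rw [hq'e] at this
    exact this
  · intro q hq q' hq' h
    have hmem := hq_mem q hq
    have hmem' := hq_mem q' hq'
    simp only [dif_pos hmem, dif_pos hmem'] at h
    have := e.injective (PrimeSpectrum.ext h)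
    exact congrArg Subtype.val this



theorem finite_irreducibleComponents_of_homeomorph {α β : Type*} [TopologicalSpace α]
    [TopologicalSpace β] (e : α ≃ₜ β) (h : (irreducibleComponents α).Finite) :
    (irreducibleComponents β).Finite := by
  refine Set.Finite.of_finite_image (f := fun t : Set β => e ⁻¹' t) (h.subset ?_) ?_
  · rintro _ ⟨t, ht, rfl⟩
    have hne : t.Nonempty := ht.1.1
    exact preimage_mem_irreducibleComponents ht e.isOpenEmbedding
      (by rw [e.surjective.range_eq, Set.inter_univ]; exact hne)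
  · intro t _ t' _ htt'
    exact Set.preimage_injective.mpr e.surjective htt'

theorem finite_irreducibleComponents_meeting' {X : Type*} [TopologicalSpace X] {U : Set X}
    (hU : IsOpen U) (hfin : (irreducibleComponents U).Finite) :
    {Z ∈ irreducibleComponents X | (Z ∩ U).Nonempty}.Finite := by
  have hne : ∀ Z : Set X, (Z ∩ U).Nonempty → ((↑) ⁻¹' Z : Set U).Nonempty := by
    rintro Z ⟨z, hz, hzU⟩
    exact ⟨⟨z, hzU⟩, hz⟩
  refine Set.Finite.of_finite_image (f := fun Z => ((↑) ⁻¹' Z : Set U)) (hfin.subset ?_) ?_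
  · rintro _ ⟨Z, ⟨hZ, hZU⟩, rfl⟩
    exact preimage_mem_irreducibleComponents hZ hU.isOpenEmbedding_subtypeVal (by simpa using hZU)
  · rintro Z ⟨hZ, hZU⟩ Z' ⟨hZ', hZU'⟩ h
    simp only at h
    rw [← closure_image_preimage_of_isPreirreducible (Subtype.val : U → X)
      hU.isOpenEmbedding_subtypeVal.isOpenMap Z (hne Z hZU) hZ.1.2
      (isClosed_of_mem_irreducibleComponents _ hZ), h,
      closure_image_preimage_of_isPreirreducible (Subtype.val : U → X)
      hU.isOpenEmbedding_subtypeVal.isOpenMap Z' (hne Z' hZU') hZ'.1.2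
      (isClosed_of_mem_irreducibleComponents _ hZ')]

theorem finite_irreducibleComponents_iff_of_isAffineOpen {Z : Scheme.{u}} {W : Z.Opens}
    (hW : IsAffineOpen W) :
    (irreducibleComponents (W : Type u)).Finite ↔ (minimalPrimes Γ(Z, W)).Finite := by
  let e : (W : Type u) ≃ₜ PrimeSpectrum Γ(Z, W) := Scheme.homeoOfIso hW.isoSpec
  have h1 : (irreducibleComponents (W : Type u)).Finite ↔
      (irreducibleComponents (PrimeSpectrum Γ(Z, W))).Finite :=
    ⟨finite_irreducibleComponents_of_homeomorph e, finite_irreducibleComponents_of_homeomorph e.symm⟩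
  rw [h1]
  have e2 := (minimalPrimes.equivIrreducibleComponents Γ(Z, W)).toEquiv
  constructor
  · intro h
    have : Finite (irreducibleComponents (PrimeSpectrum Γ(Z, W)))ᵒᵈ := h
    exact Set.finite_coe_iff.mp (Finite.of_equiv _ e2.symm)
  · intro h
    have : Finite (minimalPrimes Γ(Z, W)) := h
    have : Finite (irreducibleComponents (PrimeSpectrum Γ(Z, W)))ᵒᵈ := Finite.of_equiv _ e2
    exact Set.finite_coe_iff.mp this


theorem main {Y X : Scheme.{u}} (f : Y ⟶ X) [Flat f] [LocallyOfFinitePresentation f]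
    (hX : ∀ U : X.Opens, IsCompact (U : Set X) → (irreducibleComponents (U : Type u)).Finite)
    (V : Y.Opens) (hV : IsCompact (V : Set Y)) : (irreducibleComponents (V : Type u)).Finite := by
  let g : (V : Scheme) ⟶ X := V.ι ≫ f
  have hgflat : Flat g := inferInstance
  have hgfp : LocallyOfFinitePresentation g := inferInstance
  have hcpt : CompactSpace (V : Type u) := isCompact_iff_compactSpace.mp hV
  have hpt : ∀ y : (V : Type u), ∃ W : (V : Scheme).Opens, y ∈ W ∧ IsAffineOpen W ∧
      (irreducibleComponents (W : Type u)).Finite := by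
    intro y
    obtain ⟨_, ⟨U, hU, rfl⟩, hyU, -⟩ :=
      X.isBasis_affineOpens.exists_subset_of_mem_open (Set.mem_univ (g y)) isOpen_univ
    obtain ⟨_, ⟨W, hW, rfl⟩, hyW, hWU⟩ :=
      (V : Scheme).isBasis_affineOpens.exists_subset_of_mem_open
        (show y ∈ (g ⁻¹ᵁ U : Set _) from hyU) (g ⁻¹ᵁ U).2
    refine ⟨W, hyW, hW, ?_⟩
    rw [finite_irreducibleComponents_iff_of_isAffineOpen hW]
    have hA : (minimalPrimes Γ(X, U)).Finite :=
      (finite_irreducibleComponents_iff_of_isAffineOpen hU).mp (hX U (IsAffineOpen.isCompact hU))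
    have hflat : (g.appLE U W hWU).hom.Flat :=
      HasRingHomProperty.appLE @Flat g hgflat ⟨U, hU⟩ ⟨W, hW⟩ hWU
    have hfp : (g.appLE U W hWU).hom.FinitePresentation :=
      HasRingHomProperty.appLE @LocallyOfFinitePresentation g hgfp ⟨U, hU⟩ ⟨W, hW⟩ hWU
    algebraize [(g.appLE U W hWU).hom]
    exact finite_minimalPrimes_of_flat hA
  choose W hyW hW hWfin using hpt
  obtain ⟨t, ht⟩ := CompactSpace.elim_nhds_subcover (fun y => (W y : Set (V : Type u)))
    (fun y => (W y).2.mem_nhds (hyW y))
  refine (Set.Finite.biUnion t.finite_toSet fun y _ =>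
    finite_irreducibleComponents_meeting' (W y).2 (hWfin y)).subset ?_
  intro Z hZ
  obtain ⟨z, hz⟩ : Z.Nonempty := hZ.1.1
  have : z ∈ ⋃ y ∈ t, (W y : Set (V : Type u)) := ht ▸ Set.mem_univ z
  simp only [Set.mem_iUnion] at this ⊢
  obtain ⟨y, hy, hzy⟩ := this
  exact ⟨y, hy, hZ, z, hz, hzy⟩


end helpers

/-- If f : Y → X is faithfully flat and locally of finite presentation and each quasi-compact open
subset of X has only finitely many irreducible components, the same is true of each quasi-compact
open subset of Y. -/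
theorem result {Y X : Scheme.{u}} (f : Y ⟶ X) [Flat f] [LocallyOfFinitePresentation f] [Surjective f]
    (hX : ∀ U : X.Opens, IsCompact (U : Set X) → (irreducibleComponents (U : Type u)).Finite)
    (V : Y.Opens) (hV : IsCompact (V : Set Y)) : (irreducibleComponents (V : Type u)).Finite := main f hX V hV

end Groth.Agent.S13834
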