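import Groth.Statements.S13835
import Groth.Agent.Lib.Helper12.UnivHomeo
-- import your own Groth.Agent.* helpers here

set_option autoImplicit false
universe u
open AlgebraicGeometry CategoryTheory
open ChowMon

namespace Groth.Agent.S13835

/-- Let p : T' → T be a universal homeomorphism of separated schemes with T reduced and f' : T' → Y a
morphism (Y separated); if T has an open cover by affine opens U_i such that each restriction of f'
to p⁻¹(U_i) factors through p⁻¹(U_i) → U_i, then f' factors through p. -/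
theorem result {T' T Y : Scheme.{u}} (p : T' ⟶ T) (hp : FlatMor.IsUnivHomeo p) [IsReduced T]
    [T.IsSeparated] [T'.IsSeparated] [Y.IsSeparated] (f' : T' ⟶ Y)
    {ι : Type u} (U : ι → T.affineOpens) (hU : ⨆ i, (U i : T.Opens) = ⊤)
    (hloc : ∀ i, ∃ fi : ((U i : T.Opens) : Scheme.{u}) ⟶ Y, (p ⁻¹ᵁ (U i : T.Opens)).ι ≫ f' = (p ∣_ (U i : T.Opens)) ≫ fi) :
    ∃ f : T ⟶ Y, p ≫ f = f' := by
  classical
  choose fi hfi using hloc
  let 𝒰 : T.OpenCover := T.openCoverOfIsOpenCover (fun i => (U i : T.Opens)) hU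
  have hsepY : IsSeparated (Limits.terminal.from Y) := inferInstance
  -- compatibility on overlaps
  have hcompat : ∀ i j : ι, Limits.pullback.fst (𝒰.f i) (𝒰.f j) ≫ fi i =
      Limits.pullback.snd (𝒰.f i) (𝒰.f j) ≫ fi j := by
    intro i j
    change Limits.pullback.fst (U i : T.Opens).ι (U j : T.Opens).ι ≫ fi i =
      Limits.pullback.snd (U i : T.Opens).ι (U j : T.Opens).ι ≫ fi j
    let a := Limits.pullback.fst (U i : T.Opens).ι (U j : T.Opens).ι
    let b := Limits.pullback.snd (U i : T.Opens).ι (U j : T.Opens).ι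
    change a ≫ fi i = b ≫ fi j
    have hab : a ≫ (U i : T.Opens).ι = b ≫ (U j : T.Opens).ι := Limits.pullback.condition
    have hred : IsReduced (Limits.pullback (U i : T.Opens).ι (U j : T.Opens).ι) :=
      isReduced_of_isOpenImmersion (a ≫ (U i : T.Opens).ι)
    -- base change of p to the overlap
    let q := Limits.pullback.snd p (a ≫ (U i : T.Opens).ι)
    let r := Limits.pullback.fst p (a ≫ (U i : T.Opens).ι)
    have hrq : r ≫ p = q ≫ a ≫ (U i : T.Opens).ι := Limits.pullback.condition
    have hqUH : FlatMor.IsUnivHomeo q := MorphismProperty.pullback_snd _ _ hp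
    have hqs : Surjective q := Groth.Agent.Lib.Helper12.IsUnivHomeo.surjective hqUH
    -- generic computation
    have key : ∀ (k : ι) (c : Limits.pullback (U i : T.Opens).ι (U j : T.Opens).ι ⟶
        ((U k : T.Opens) : Scheme.{u})),
        r ≫ p = q ≫ c ≫ (U k : T.Opens).ι → q ≫ c ≫ fi k = r ≫ f' := by
      intro k c hc
      have hrange : Set.range r ⊆ Set.range (p ⁻¹ᵁ (U k : T.Opens)).ι := by
        rintro _ ⟨w, rfl⟩
        rw [Scheme.Opens.range_ι]
        change p (r w) ∈ (U k : T.Opens)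
        have h1 : p (r w) = (r ≫ p) w := rfl
        rw [h1, hc]
        exact ((q ≫ c) w).2
      let rk := IsOpenImmersion.lift (p ⁻¹ᵁ (U k : T.Opens)).ι r hrange
      have hrk : rk ≫ (p ⁻¹ᵁ (U k : T.Opens)).ι = r := IsOpenImmersion.lift_fac _ _ _
      have h2 : rk ≫ (p ∣_ (U k : T.Opens)) = q ≫ c := by
        rw [← cancel_mono (U k : T.Opens).ι, Category.assoc, morphismRestrict_ι, ← Category.assoc,
          hrk, hc, Category.assoc]
      rw [← Category.assoc, ← h2, Category.assoc, ← hfi k, ← Category.assoc, hrk]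
    have h3 : q ≫ (a ≫ fi i) = q ≫ (b ≫ fi j) := by
      rw [key i a hrq, key j b (hrq.trans (congrArg (q ≫ ·) hab))]
    exact ext_of_isDominant_of_isSeparated (Limits.terminal.from Y)
      (Limits.terminal.hom_ext _ _) q h3
  let f : T ⟶ Y := 𝒰.glueMorphisms fi hcompat
  have hf : ∀ i, (U i : T.Opens).ι ≫ f = fi i := fun i => 𝒰.ι_glueMorphisms fi hcompat i
  refine ⟨f, ?_⟩
  apply Scheme.hom_ext_of_forall
  intro x
  have hx : p x ∈ ⨆ i, (U i : T.Opens) := by rw [hU]; trivial
  rw [TopologicalSpace.Opens.mem_iSup] at hx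
  obtain ⟨i, hi⟩ := hx
  refine ⟨p ⁻¹ᵁ (U i : T.Opens), hi, ?_⟩
  rw [hfi i, ← hf i, morphismRestrict_ι_assoc]

end Groth.Agent.S13835
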