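import Groth.Statements.S13838
import Groth.Agent.Lib.Helper6.PIRes
-- import your own Groth.Agent.* helpers here

set_option autoImplicit false
universe u
open AlgebraicGeometry
open HTop

namespace Groth.Agent.S13838

/-- Let A ⊆ B be an integral ring extension where A and B have finitely many minimal prime ideals, such
that every prime p of A has a prime q of B above it for which k(p) is closed under extracting
p-power roots inside k(q) (the purely inseparable closure of k(p) in k(q) is k(p)); then the semi-
and weak normalizations of A in B coincide: every A-subalgebra C of B with Spec C → Spec A a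
universal homeomorphism already induces isomorphisms on residue fields. -/
theorem result (A B : Type u) [CommRing A] [CommRing B] [Algebra A B] (hinj : Function.Injective (algebraMap A B))
    [Algebra.IsIntegral A B] (hA : (minimalPrimes A).Finite) (hB : (minimalPrimes B).Finite)
    (hpi : ∀ p : PrimeSpectrum A, ∃ q : PrimeSpectrum B, ∃ hq : p.asIdeal = Ideal.comap (algebraMap A B) q.asIdeal,
      ∀ x : q.asIdeal.ResidueField,
        (∃ n : ℕ, x ^ ringExpChar p.asIdeal.ResidueField ^ n ∈
            Set.range (Ideal.ResidueField.map p.asIdeal q.asIdeal (algebraMap A B) hq)) →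
        x ∈ Set.range (Ideal.ResidueField.map p.asIdeal q.asIdeal (algebraMap A B) hq)) :
    ∀ C : Subalgebra A B, FlatMor.IsUnivHomeo (Spec.map (CommRingCat.ofHom (algebraMap A C))) →
      HTop.ResidueFieldsIso (Spec.map (CommRingCat.ofHom (algebraMap A C))) := by
  intro C hC y
  have hUH : Groth.Agent.Lib.Helper6.SqCube.UH (algebraMap A C) :=
    (Groth.Agent.Lib.Helper6.SqCube.uh_iff _).mp hC
  have hsurj : Function.Surjective
      ((Spec.map (CommRingCat.ofHom (algebraMap A C))).residueFieldMap y) := by
    rw [Groth.Agent.Lib.Helper6.UnivHomeoRing.residueFieldMap_surjective_iff]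
    intro c
    have hyP : (PrimeSpectrum.asIdeal (R := C) y).IsPrime := PrimeSpectrum.isPrime (R := C) y
    have hyP' : (Ideal.comap (algebraMap A C) (PrimeSpectrum.asIdeal (R := C) y)).IsPrime :=
      Ideal.comap_isPrime _ _
    obtain ⟨Q, hq, hcl⟩ := hpi ⟨y.asIdeal.comap (algebraMap A C), inferInstance⟩
    change Ideal.comap (algebraMap A C) y.asIdeal = Ideal.comap (algebraMap A B) Q.asIdeal at hq
    have hP' : y.asIdeal = Q.asIdeal.comap (algebraMap C B) := by
      have hinjc := Groth.Agent.Lib.Helper6.AWN.uh_comap_injective hUH
      have h1 : PrimeSpectrum.comap (algebraMap A C) y =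
          PrimeSpectrum.comap (algebraMap A C) ⟨Q.asIdeal.comap (algebraMap C B), inferInstance⟩ := by
        ext1
        change Ideal.comap (algebraMap A C) y.asIdeal =
          (Q.asIdeal.comap (algebraMap C B)).comap (algebraMap A C)
        rw [Ideal.comap_comap, ← IsScalarTower.algebraMap_eq]
        exact hq
      exact congrArg PrimeSpectrum.asIdeal (hinjc h1)
    -- the three residue field maps
    have hcomp : ∀ z, Ideal.ResidueField.map y.asIdeal Q.asIdeal (algebraMap C B) hP'
        (Ideal.ResidueField.map (y.asIdeal.comap (algebraMap A C)) y.asIdeal (algebraMap A C) rfl z) =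
        Ideal.ResidueField.map (y.asIdeal.comap (algebraMap A C)) Q.asIdeal (algebraMap A B) hq z := by
      intro z
      have := Groth.Agent.Lib.Helper6.PIRes.residueField_hom_ext (y.asIdeal.comap (algebraMap A C))
        ((Ideal.ResidueField.map y.asIdeal Q.asIdeal (algebraMap C B) hP').comp
          (Ideal.ResidueField.map (y.asIdeal.comap (algebraMap A C)) y.asIdeal (algebraMap A C) rfl))
        (Ideal.ResidueField.map (y.asIdeal.comap (algebraMap A C)) Q.asIdeal (algebraMap A B) hq)
        (by
          ext a
          simp only [RingHom.comp_apply, Ideal.ResidueField.map_algebraMap]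
          exact (IsScalarTower.algebraMap_apply A C Q.asIdeal.ResidueField a).symm.trans
            (IsScalarTower.algebraMap_apply A B Q.asIdeal.ResidueField a))
      exact congrArg (fun f => f z) this
    obtain ⟨n, y₁, hy₁⟩ := Groth.Agent.Lib.Helper6.PIRes.exists_pow_mem_range_residueField_of_uh
      (algebraMap A C) hUH (y.asIdeal.comap (algebraMap A C)) y.asIdeal rfl
      (algebraMap C y.asIdeal.ResidueField c)
    obtain ⟨y₂, hy₂⟩ := hcl (Ideal.ResidueField.map y.asIdeal Q.asIdeal (algebraMap C B) hP'
      (algebraMap C y.asIdeal.ResidueField c)) ⟨n, y₁, by rw [← hcomp, hy₁, map_pow]⟩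
    rw [← hcomp] at hy₂
    have hy₃ := (Ideal.ResidueField.map y.asIdeal Q.asIdeal (algebraMap C B) hP').injective hy₂
    obtain ⟨b, hb, a, hab⟩ := Groth.Agent.Lib.Helper6.exists_denominator
      (y.asIdeal.comap (algebraMap A C)) y₂
    refine ⟨b, a, hb, ?_⟩
    have h4 := congrArg (Ideal.ResidueField.map (y.asIdeal.comap (algebraMap A C)) y.asIdeal
      (algebraMap A C) rfl) hab
    rw [map_mul, hy₃, Ideal.ResidueField.map_algebraMap, Ideal.ResidueField.map_algebraMap,
      ← map_mul, ← sub_eq_zero, ← map_sub, Ideal.algebraMap_residueField_eq_zero] at h4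
    change algebraMap A C b * c - algebraMap A C a ∈ y.asIdeal
    rw [mul_comm]
    exact h4
  have hinj : Function.Injective ((Spec.map (CommRingCat.ofHom (algebraMap A C))).residueFieldMap y) :=
    ((Spec.map (CommRingCat.ofHom (algebraMap A C))).residueFieldMap y).hom.injective
  exact (CategoryTheory.ConcreteCategory.isIso_iff_bijective _).mpr ⟨hinj, hsurj⟩

end Groth.Agent.S13838
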