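import Groth.Statements.S13843
import Groth.Agent.Lib.Helper22.EtLoc.FieldTower

set_option autoImplicit false
universe u
open CategoryTheory CategoryTheory.Limits AlgebraicGeometry
open GalCoh

namespace Groth.Agent.S13843

open Groth.Agent.Lib.Helper22.EtLoc

lemma eq_zero_of_coprime_nsmul {A : Type*} [AddCommGroup A] (x : A) (a b : ℕ) (hab : Nat.Coprime a b)
    (ha : a • x = 0) (hb : b • x = 0) : x = 0 := by
  have h1 := addOrderOf_dvd_of_nsmul_eq_zero ha
  have h2 := addOrderOf_dvd_of_nsmul_eq_zero hb
  have h3 : addOrderOf x ∣ 1 := by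
    rw [← Nat.Coprime.gcd_eq_one hab]
    exact Nat.dvd_gcd h1 h2
  exact AddMonoid.addOrderOf_eq_one_iff.1 (Nat.dvd_one.1 h3)

lemma exists_sylow_subfield (K M : Type u) [Field K] [Field M] [Algebra K M]
    [FiniteDimensional K M] [IsGalois K M] (p : ℕ) [Fact p.Prime] :
    ∃ (L' : IntermediateField K M) (a : ℕ),
      Module.finrank L' M = p ^ a ∧ ¬ p ∣ Module.finrank K L' := by
  let P : Sylow p (M ≃ₐ[K] M) := default
  let L' : IntermediateField K M := IntermediateField.fixedField (P : Subgroup (M ≃ₐ[K] M))
  have h1 : Module.finrank L' M = Nat.card (P : Subgroup (M ≃ₐ[K] M)) :=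
    IntermediateField.finrank_fixedField_eq_card _
  obtain ⟨a, ha⟩ := P.isPGroup'.exists_card_eq
  refine ⟨L', a, h1.trans ha, ?_⟩
  have h2 : Module.finrank K L' * Module.finrank L' M = Module.finrank K M :=
    Module.finrank_mul_finrank K L' M
  have h3 : Nat.card (M ≃ₐ[K] M) = Module.finrank K M := IsGalois.card_aut_eq_finrank K M
  have h4 := (P : Subgroup (M ≃ₐ[K] M)).index_mul_card
  have h5 : Module.finrank K L' = (P : Subgroup (M ≃ₐ[K] M)).index := by
    have hpos : 0 < Nat.card (P : Subgroup (M ≃ₐ[K] M)) := Nat.card_pos
    apply Nat.eq_of_mul_eq_mul_right hpos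
    rw [h4, h3, ← h2, h1]
  rw [h5]
  exact P.not_dvd_index

lemma exists_galois_closure (K L : Type u) [Field K] [Field L] [Algebra K L] [FiniteDimensional K L]
    [Algebra.IsSeparable K L] :
    ∃ (M : Type u) (_ : Field M) (_ : Algebra K M) (_ : Algebra L M) (_ : IsScalarTower K L M)
      (_ : FiniteDimensional K M), IsGalois K M := by
  let φ : L →ₐ[K] SeparableClosure K := IsSepClosed.lift
  letI : Algebra L (SeparableClosure K) := φ.toRingHom.toAlgebra
  haveI : IsScalarTower K L (SeparableClosure K) :=
    IsScalarTower.of_algebraMap_eq (fun x => (φ.commutes x).symm)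
  exact ⟨↥(IntermediateField.normalClosure K L (SeparableClosure K)), inferInstance, inferInstance,
    inferInstance, inferInstance, inferInstance, inferInstance⟩


/-- Let K be a field, F an abelian sheaf on the small étale site of Spec K, i > 0 and α a class in
H^i(Spec K, F) which pulls back to zero over some finite separable field extension L of K. If p is a
prime not dividing the order of α, then there is a finite separable field extension L' of K whose
degree is not divisible by p and over which α pulls back to zero. Hence the period and the index of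
α have the same prime factors. (Exactness of pullback of abelian sheaves, which always holds, is
carried as an instance hypothesis, in the conclusion for every such instance.) -/
theorem result (K : Type u) [Field K] (F : EtCoh.Ab (Spec (CommRingCat.of K))) (i : ℕ)
    (hi : 0 < i) (α : EtCoh.H (Spec (CommRingCat.of K)) F i) (L : Type u) [Field L] [Algebra K L] [FiniteDimensional K L]
    [Algebra.IsSeparable K L] [PreservesFiniteLimits (EtCoh.pull (Spec.map (CommRingCat.ofHom (algebraMap K L))))]
    (hα : EtCore.Hpull (Spec.map (CommRingCat.ofHom (algebraMap K L))) F i α = 0) (p : ℕ) (hp : p.Prime) (hpα : ¬ p ∣ addOrderOf α) :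
    ∃ (L' : Type u) (_ : Field L') (_ : Algebra K L') (_ : FiniteDimensional K L') (_ : Algebra.IsSeparable K L'),
      ¬ p ∣ Module.finrank K L' ∧
        ∀ [PreservesFiniteLimits (EtCoh.pull (Spec.map (CommRingCat.ofHom (algebraMap K L'))))],
          EtCore.Hpull (Spec.map (CommRingCat.ofHom (algebraMap K L'))) F i α = 0 := by
  haveI : Fact p.Prime := ⟨hp⟩
  obtain ⟨M, _, _, _, _, _, _⟩ := exists_galois_closure K L
  obtain ⟨L', a, hM, hdeg⟩ := exists_sylow_subfield K M p
  haveI := Groth.Agent.S0101.result (specMapField L M)
  haveI : Algebra.IsSeparable K L' := Algebra.isSeparable_tower_bot_of_isSeparable K L' M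
  haveI : Algebra.IsSeparable L' M := Algebra.isSeparable_tower_top_of_isSeparable K L' M
  refine ⟨L', inferInstance, inferInstance, inferInstance, inferInstance, hdeg, ?_⟩
  intro _
  have h1 : EtCore.Hpull (specMapField K M) F i α = 0 :=
    Hpull_eq_zero_of_factor (specMapField L M) (specMapField K L) _ (specMapField_comp K L M)
      F i α hα
  have h2 := Hpull_Hpull_eq_zero (specMapField L' M) (specMapField K L') _
    (specMapField_comp K L' M) F i α h1
  have h3 := field_transfer L' M _ i _ h2
  rw [hM] at h3
  have h5 : addOrderOf α • EtCore.Hpull (specMapField K L') F i α = 0 := by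
    rw [← map_nsmul, addOrderOf_nsmul_eq_zero, map_zero]
  exact eq_zero_of_coprime_nsmul _ (p ^ a) (addOrderOf α)
    (Nat.Coprime.pow_left a ((Nat.Prime.coprime_iff_not_dvd hp).2 hpα)) h3 h5

end Groth.Agent.S13843
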