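import Groth.Statements.S13844
import Groth.Agent.Lib.Helper25.RegularSepSmooth
import Groth.Agent.Lib.Helper14.SchemeDim

set_option autoImplicit false
universe u
open CategoryTheory CategoryTheory.Limits AlgebraicGeometry
attribute [local instance] Curv2.resAlgebra
open Curves

namespace Groth.Agent.S13844

/-- Let K be a field and C a normal curve over K, namely an integral normal separated K-scheme of finite
type of dimension one, and let S be a set of closed points of C whose residue fields are separable
over K. If the structure morphism of C is smooth at every point outside S, then it is smooth. (The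
published statement takes S to be a closed subscheme finite étale over K, that is finitely many such
points; this row allows any set of closed points with separable residue fields.) -/
theorem result (K : Type u) [Field K] (C : Scheme.{u}) [C.Over (Spec (CommRingCat.of K))]
    [IsIntegral C] [IsSeparated (C ↘ (Spec (CommRingCat.of K)))] [LocallyOfFinitePresentation (C ↘ (Spec (CommRingCat.of K)))]
    [QuasiCompact (C ↘ (Spec (CommRingCat.of K)))] (hN : ∀ x : C, IsIntegrallyClosed (C.presheaf.stalk x))
    (hdim : topologicalKrullDim C = 1) (S : Set C)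
    (hS : ∀ x ∈ S, IsClosed ({x} : Set C) ∧ Algebra.IsSeparable K (C.residueField x))
    (hsm : ∀ x : C, x ∉ S → x ∈ (C ↘ (Spec (CommRingCat.of K))).smoothLocus) :
    AlgebraicGeometry.Smooth (C ↘ (Spec (CommRingCat.of K))) := by
  rw [← Scheme.Hom.smoothLocus_eq_top_iff, ← top_le_iff]
  rintro x -
  by_cases hx : x ∈ S
  swap
  · exact hsm x hx
  obtain ⟨-, hsep⟩ := hS x hx
  have : IsLocallyNoetherian C :=
    LocallyOfFiniteType.isLocallyNoetherian (C ↘ (Spec (CommRingCat.of K)))
  have hNoeth : IsNoetherianRing (C.presheaf.stalk x) := inferInstance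
  have hd : ringKrullDim (C.presheaf.stalk x) ≤ 1 := by
    rw [← hdim, Groth.Agent.Lib.Helper14.AS.topologicalKrullDim_eq_iSup_stalk]
    exact le_iSup (fun y : C => ringKrullDim (C.presheaf.stalk y)) x
  have hle : Ring.KrullDimLE 1 (C.presheaf.stalk x) := Ring.krullDimLE_iff.mpr hd
  have h3 : IsIntegrallyClosed (C.presheaf.stalk x) ∧
      ∀ P : Ideal (C.presheaf.stalk x), P ≠ ⊥ → P.IsPrime →
        P = IsLocalRing.maximalIdeal (C.presheaf.stalk x) :=
    ⟨hN x, fun P hP0 hP => IsLocalRing.eq_maximalIdeal
      (Ring.krullDimLE_one_iff_of_noZeroDivisors.mp hle P hP0 hP)⟩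
  have hpid : IsPrincipalIdealRing (C.presheaf.stalk x) :=
    ((tfae_of_isNoetherianRing_of_isLocalRing_of_isDomain (C.presheaf.stalk x)).out 0 3).mpr h3
  have reg : IsRegularLocalRing (C.presheaf.stalk x) := inferInstance
  let _ : Algebra K (C.presheaf.stalk x) := Curv2.stalkAlgebra K C x
  have halg : algebraMap K (C.presheaf.stalk x) =
      (Groth.Agent.Lib.Helper25.GrpTangent.τ ((C ↘ (Spec (CommRingCat.of K))) x) ≫
        (C ↘ (Spec (CommRingCat.of K))).stalkMap x).hom := by
    unfold Groth.Agent.Lib.Helper25.GrpTangent.τ
    rw [Category.assoc, Scheme.Hom.germ_stalkMap]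
    rfl
  have hgr : Algebra.IsGeometricallyReduced K (IsLocalRing.ResidueField (C.presheaf.stalk x)) := by
    have h1 := Groth.Agent.Lib.Helper25.RegularSepSmooth.isGeometricallyReduced_of_isSeparable K
      (C.residueField x)
    let g : IsLocalRing.ResidueField (C.presheaf.stalk x) →ₐ[K] C.residueField x :=
      { RingHom.id _ with commutes' := fun r => rfl }
    exact Algebra.IsGeometricallyReduced.of_injective g (fun a b h => h)
  exact Groth.Agent.Lib.Helper25.RegularSepSmooth.mem_smoothLocus_of_regular
    (C ↘ (Spec (CommRingCat.of K))) x halg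


end Groth.Agent.S13844
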