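import Groth.Statements.S1386
import Groth.Agent.Lib.Helper14.FPFib4
import Groth.Agent.Lib.Helper14.LfpOfComp
import Groth.Agent.Lib.Helper18.FlG

set_option autoImplicit false
universe u
open FlatMor

namespace Groth.Agent.S1386

open AlgebraicGeometry CategoryTheory Limits in
/-- Fibrewise flatness criterion (critère de platitude par fibres), for the structure sheaf: let f : X →
Y and g : Y → S be morphisms of schemes with X locally of finite presentation over S (via g ∘ f) and
Y locally of finite type over S. For a point x of X with images y = f(x) and s = g(y) the following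
are equivalent: (1) X → S is flat at x and the induced morphism of fibres X_s → Y_s is flat at x;
(2) Y → S is flat at y and f is flat at x. Moreover the set of points x at which (2) holds is open
in X. The published statement treats a finitely presented quasi-coherent O_X-module; here the module
is O_X. -/
theorem result {X Y S : Scheme.{u}} (f : X ⟶ Y) (g : Y ⟶ S) [LocallyOfFinitePresentation (f ≫ g)] [LocallyOfFiniteType g] :
    (∀ x : X, ((f ≫ g).stalkMap x).hom.Flat ∧ ((MoreMor.fiberMap f g (g (f x))).stalkMap ((f ≫ g).asFiber x)).hom.Flat ↔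
        (g.stalkMap (f x)).hom.Flat ∧ (f.stalkMap x).hom.Flat) ∧
      IsOpen {x : ↑X | (g.stalkMap (f x)).hom.Flat ∧ (f.stalkMap x).hom.Flat} := by
  classical
  have hlfp : LocallyOfFinitePresentation f :=
    Groth.Agent.Lib.Helper14.AS.locallyOfFinitePresentation_of_comp f g inferInstance inferInstance
  have hdesc : ∀ x : X, ((f ≫ g).stalkMap x).hom.Flat → (f.stalkMap x).hom.Flat →
      (g.stalkMap (f x)).hom.Flat := by
    intro x h1 h2
    rw [Scheme.Hom.stalkMap_comp] at h1
    exact Groth.Agent.Lib.Helper16.GorMor.flat_of_comp_of_flat_local _ _ h2 h1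
  have hcomp : ∀ x : X, (g.stalkMap (f x)).hom.Flat → (f.stalkMap x).hom.Flat →
      ((f ≫ g).stalkMap x).hom.Flat := by
    intro x h1 h2
    rw [Scheme.Hom.stalkMap_comp]
    exact RingHom.Flat.comp h1 h2
  refine ⟨fun x => ⟨fun ⟨h1, h2⟩ => ?_, fun ⟨h1, h2⟩ => ⟨hcomp x h1 h2, ?_⟩⟩, ?_⟩
  · have sqU := IsPullback.of_hasPullback (f ≫ g) (S.fromSpecResidueField (g (f x)))
    have sqV := IsPullback.of_hasPullback g (S.fromSpecResidueField (g (f x)))
    have e : (f ≫ g).fiberι (g (f x)) ((f ≫ g).asFiber x) = x := (f ≫ g).fiberι_asFiber x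
    have key := Groth.Agent.Lib.Helper14.AS.flat_of_fibre_flat_fp f g (g (f x))
      ((f ≫ g).fiberι (g (f x))) ((f ≫ g).fiberToSpecResidueField (g (f x)))
      (g.fiberι (g (f x))) (g.fiberToSpecResidueField (g (f x))) sqU sqV
      (MoreMor.fiberMap f g (g (f x))) (pullback.lift_fst _ _ _) (pullback.lift_snd _ _ _)
      ((f ≫ g).asFiber x)
      (Groth.Agent.Lib.Helper14.AS.flat_stalkMap_pt _ e.symm h1) h2
    exact ⟨Groth.Agent.Lib.Helper14.AS.flat_stalkMap_pt g (congrArg (fun y => f y) e) key.1,
      Groth.Agent.Lib.Helper14.AS.flat_stalkMap_pt f e key.2⟩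
  · have sqU := IsPullback.of_hasPullback (f ≫ g) (S.fromSpecResidueField (g (f x)))
    have sqV := IsPullback.of_hasPullback g (S.fromSpecResidueField (g (f x)))
    have e : (f ≫ g).fiberι (g (f x)) ((f ≫ g).asFiber x) = x := (f ≫ g).fiberι_asFiber x
    have hc : IsPullback ((f ≫ g).fiberι (g (f x))) (MoreMor.fiberMap f g (g (f x))) f
        (g.fiberι (g (f x))) := by
      refine IsPullback.of_bot ?_ (pullback.lift_fst _ _ _).symm sqV
      have : MoreMor.fiberMap f g (g (f x)) ≫ pullback.snd g (S.fromSpecResidueField (g (f x))) =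
          pullback.snd (f ≫ g) (S.fromSpecResidueField (g (f x))) := pullback.lift_snd _ _ _
      rw [this]
      exact sqU
    exact Groth.Agent.Lib.Helper14.AS.flat_stalkMap_baseChange hc ((f ≫ g).asFiber x)
      (Groth.Agent.Lib.Helper14.AS.flat_stalkMap_pt f e.symm h2)
  · have h1 : IsOpen {x : X | ((f ≫ g).stalkMap x).hom.Flat} :=
      Groth.Agent.Lib.Helper18.Fl.isOpen_flatLocus_scheme (f ≫ g)
    have h2 : IsOpen {x : X | (f.stalkMap x).hom.Flat} :=
      Groth.Agent.Lib.Helper18.Fl.isOpen_flatLocus_scheme f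
    have : {x : ↑X | (g.stalkMap (f x)).hom.Flat ∧ (f.stalkMap x).hom.Flat} =
        {x : X | ((f ≫ g).stalkMap x).hom.Flat} ∩ {x : X | (f.stalkMap x).hom.Flat} := by
      ext x
      exact ⟨fun ⟨a, b⟩ => ⟨hcomp x a b, b⟩, fun ⟨a, b⟩ => ⟨hdesc x a b, b⟩⟩
    rw [this]
    exact h1.inter h2

end Groth.Agent.S1386
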