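import Groth.Statements.S13860
import Mathlib

set_option autoImplicit false
universe u v w
open ModRep

namespace Groth.Agent.S13860

/-- For k a field of characteristic p > 0, G a finite group and P a Sylow p-subgroup of G, a short exact
sequence of k[G]-modules has a k[G]-linear splitting exactly when it has a k[P]-linear one. Stated
here for the surjection of the sequence: a G-equivariant k-linear map g : B → C between k-linear
representations of G admits a G-equivariant k-linear section if and only if it admits a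
P-equivariant k-linear section. -/
theorem result {k : Type u} [Field k] (p : ℕ) [Fact p.Prime]
    [CharP k p] {G : Type v} [Group G] [Finite G] (P : Sylow p G)
    {B C : Type w} [AddCommGroup B] [Module k B] [AddCommGroup C] [Module k C]
    (ρB : Representation k G B) (ρC : Representation k G C)
    (g : B →ₗ[k] C) (hg : ∀ x : G, g ∘ₗ ρB x = ρC x ∘ₗ g) :
    (∃ s : C →ₗ[k] B, g ∘ₗ s = LinearMap.id ∧ ∀ x : G, s ∘ₗ ρC x = ρB x ∘ₗ s) ↔
      (∃ s : C →ₗ[k] B, g ∘ₗ s = LinearMap.id ∧ ∀ x : G, x ∈ P → s ∘ₗ ρC x = ρB x ∘ₗ s) := by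
  constructor
  · rintro ⟨s, hs, hsx⟩
    exact ⟨s, hs, fun x _ => hsx x⟩
  rintro ⟨s, hs, hsP⟩
  classical
  let H : Subgroup G := (P : Subgroup G)
  have : Fintype (G ⧸ H) := Fintype.ofFinite _
  have hs' : ∀ c, g (s c) = c := fun c => LinearMap.congr_fun hs c
  have hg' : ∀ x b, g (ρB x b) = ρC x (g b) := fun x b => LinearMap.congr_fun (hg x) b
  have hsP' : ∀ x ∈ H, ∀ c, s (ρC x c) = ρB x (s c) := fun x hx c =>
    LinearMap.congr_fun (hsP x hx) c
  have hρB : ∀ (x y : G) b, ρB (x * y) b = ρB x (ρB y b) := fun x y b => by rw [map_mul]; rfl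
  have hρC : ∀ (x y : G) c, ρC (x * y) c = ρC x (ρC y c) := fun x y c => by rw [map_mul]; rfl
  have hρC1 : ∀ (x : G) c, ρC x (ρC x⁻¹ c) = c := fun x c => by
    rw [← hρC, mul_inv_cancel, map_one]; rfl
  let F : G → (C →ₗ[k] B) := fun t => ρB t ∘ₗ s ∘ₗ ρC t⁻¹
  have hFapp : ∀ t c, F t c = ρB t (s (ρC t⁻¹ c)) := fun t c => rfl
  have hF : ∀ t t' : G, (QuotientGroup.leftRel H) t t' → F t = F t' := by
    intro t t' htt'
    rw [QuotientGroup.leftRel_apply] at htt'
    obtain ⟨h, hh, rfl⟩ : ∃ h, h ∈ H ∧ t' = t * h := ⟨t⁻¹ * t', htt', by group⟩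
    ext c
    rw [hFapp, hFapp, mul_inv_rev, hρB, hρC, ← hsP' h hh, hρC1]
  let Fq : G ⧸ H → (C →ₗ[k] B) := Quotient.lift F hF
  have hFq : ∀ t : G, Fq (QuotientGroup.mk t) = F t := fun t => rfl
  have hgF : ∀ q, g ∘ₗ Fq q = LinearMap.id := by
    intro q
    induction q using QuotientGroup.induction_on with
    | H t =>
      rw [hFq]
      ext c
      rw [LinearMap.comp_apply, hFapp, hg', hs', hρC1, LinearMap.id_apply]
  have hxF : ∀ (x : G) q, ρB x ∘ₗ Fq q = Fq (x • q) ∘ₗ ρC x := by
    intro x q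
    induction q using QuotientGroup.induction_on with
    | H t =>
      have : x • (QuotientGroup.mk t : G ⧸ H) = QuotientGroup.mk (x * t) := rfl
      rw [this, hFq, hFq]
      ext c
      show ρB x (F t c) = F (x * t) (ρC x c)
      rw [hFapp, hFapp, hρB, ← hρC]
      congr 3
      group
  have hcard : ((Fintype.card (G ⧸ H) : ℕ) : k) ≠ 0 := by
    rw [Ne, CharP.cast_eq_zero_iff k p, ← Nat.card_eq_fintype_card, ← Subgroup.index_eq_card]
    exact P.not_dvd_index
  refine ⟨((Fintype.card (G ⧸ H) : ℕ) : k)⁻¹ • ∑ q, Fq q, ?_, ?_⟩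
  · ext c
    have h1 : ∀ q, g (Fq q c) = c := fun q => LinearMap.congr_fun (hgF q) c
    simp only [LinearMap.comp_apply, LinearMap.smul_apply, LinearMap.sum_apply, map_smul, map_sum,
      h1, Finset.sum_const, Finset.card_univ, LinearMap.id_apply]
    rw [← Nat.cast_smul_eq_nsmul k, smul_smul, inv_mul_cancel₀ hcard, one_smul]
  · intro x
    ext c
    have h1 : ∀ q, ρB x (Fq q c) = Fq (x • q) (ρC x c) := fun q => LinearMap.congr_fun (hxF x q) c
    simp only [LinearMap.comp_apply, LinearMap.smul_apply, LinearMap.sum_apply, map_smul, map_sum,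
      h1]
    congr 1
    exact (Fintype.sum_equiv (MulAction.toPerm x) _ _ (fun q => rfl)).symm

end Groth.Agent.S13860
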