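import Groth.Statements.S13874
import Groth.Agent.S13398
import Groth.Agent.Lib.Helper15.GammaTSHomeo
import Groth.Agent.Lib.Helper6.UnivHomeoRF
import Groth.Agent.Lib.Helper6.UnivHomeoMax-- import your own Groth.Agent.* helpers here

set_option autoImplicit false
universe u
open scoped TensorProduct
open AlgebraicGeometry
open ZeroCyc

namespace Groth.Agent.S13874

/-- Affine form. Let A be a commutative ring, B an A-algebra and d ≥ 1; let (C, γ) be the degree-d
divided power algebra Γ^d_A(B) with its universal multiplicative law γ : B → C of degree d (every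
multiplicative law of degree d out of B factors uniquely through γ), and let φ : Γ^d_A(B) →
TS^d_A(B) be the canonical homomorphism to the symmetric tensors, taken as data characterised by:
after any base change S, φ ∘ γ sends Σ_j s_j ⊗ b_j to Σ_{c : [d] → [n]} (∏_i s_{c(i)}) ⊗ (b_{c(1)} ⊗
⋯ ⊗ b_{c(d)}), i.e. φ corresponds to the law x ↦ x ⊗ ⋯ ⊗ x. Then the morphism Spec TS^d_A(B) → Spec
Γ^d_A(B) induced by φ (the comparison map from the d-th symmetric product of Spec B over Spec A to
the scheme of degree-d divided powers) is a universal homeomorphism inducing an isomorphism on every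
residue field. (The published statement is for a separated algebraic space X over an algebraic space
S; this row is its content for X = Spec B over S = Spec A. The second assertion of the published
statement, that the map is an isomorphism when B is flat over A or A contains the rationals, is not
part of this row.) -/
theorem result {A B C : Type u} [CommRing A] [CommRing B] [Algebra A B] [CommRing C] [Algebra A C] (d : ℕ) (hd : 0 < d)
    (γ : PolLaw.MulLaw A B C d) (hγ : PolLaw.IsGammaD γ) (φ : C →ₐ[A] SymTen.TS A B d)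
    (hφ : ∀ (S : Type u) [CommSemiring S] [Algebra A S] (n : ℕ) (s : Fin n → S) (b : Fin n → B),
      ((SymTen.TS A B d).val.comp φ).toLinearMap.lTensor S (γ.law.toFun' S (∑ j, s j ⊗ₜ[A] b j)) =
        ∑ c : Fin d → Fin n, (∏ i, s (c i)) ⊗ₜ[A] PiTensorProduct.tprod A (fun i => b (c i))) :
    FlatMor.IsUnivHomeo (Spec.map (CommRingCat.ofHom φ.toRingHom)) ∧
      ∀ x : ↥(Spec (CommRingCat.of (SymTen.TS A B d))),
        Function.Surjective ((Spec.map (CommRingCat.ofHom φ.toRingHom)).residueFieldMap x).hom := by
  obtain ⟨hnil, hpow0⟩ := Groth.Agent.S13398.result d γ hγ φ hφ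
  have hpow : ∀ y : SymTen.TS A B d, ∃ c : C, φ c = y ^ d.factorial := fun y => hpow0 y
  have hint : φ.toRingHom.IsIntegral := by
    intro y
    obtain ⟨c, hc⟩ := hpow y
    refine ⟨Polynomial.X ^ d.factorial - Polynomial.C c,
      Polynomial.monic_X_pow_sub_C c (Nat.factorial_ne_zero d), ?_⟩
    rw [Polynomial.eval₂_sub, Polynomial.eval₂_pow, Polynomial.eval₂_X, Polynomial.eval₂_C]
    show y ^ d.factorial - φ c = 0
    rw [hc, sub_self]
  have hker : RingHom.ker φ.toRingHom ≤ nilradical C := by
    intro x hx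
    exact ⟨d.factorial, hnil x hx⟩
  have hsurj : Function.Surjective (PrimeSpectrum.comap φ.toRingHom) :=
    Groth.Agent.Lib.Helper6.UnivHomeoRing.comap_surjective_of_isIntegral_of_ker_le _ hint hker
  have hle : ∀ q q' : PrimeSpectrum (SymTen.TS A B d),
      PrimeSpectrum.comap φ.toRingHom q = PrimeSpectrum.comap φ.toRingHom q' →
      q.asIdeal ≤ q'.asIdeal := by
    intro q q' h y hy
    obtain ⟨c, hc⟩ := hpow y
    have h1 : c ∈ (PrimeSpectrum.comap φ.toRingHom q).asIdeal := by
      show φ c ∈ q.asIdeal
      rw [hc]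
      exact Ideal.pow_mem_of_mem _ hy _ (Nat.factorial_pos d)
    rw [h] at h1
    have h2 : φ c ∈ q'.asIdeal := h1
    rw [hc] at h2
    exact q'.isPrime.mem_of_pow_mem _ h2
  have hinj : Function.Injective (PrimeSpectrum.comap φ.toRingHom) := by
    intro q q' h
    exact PrimeSpectrum.ext (le_antisymm (hle q q' h) (hle q' q h.symm))
  have hres : ∀ (x : PrimeSpectrum (SymTen.TS A B d)) (y : SymTen.TS A B d),
      ∃ s a : C, φ s ∉ x.asIdeal ∧ φ s * y - φ a ∈ x.asIdeal := by
    intro x y
    let p : PrimeSpectrum C := PrimeSpectrum.comap φ.toRingHom x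
    let k := p.asIdeal.ResidueField
    letI : Algebra A k := ((algebraMap C k).comp (algebraMap A C)).toAlgebra
    let χ : C →ₐ[A] k := { algebraMap C k with commutes' := fun a => rfl }
    obtain ⟨ξ, hξ⟩ := Groth.Agent.Lib.Helper15.GammaTSHomeo.exists_lift_field γ hγ φ hφ k χ
    have hξφ : ∀ c : C, ξ (φ c) = algebraMap C k c := fun c => DFunLike.congr_fun hξ c
    have hprime : (RingHom.ker ξ.toRingHom).IsPrime := RingHom.ker_isPrime _
    let x' : PrimeSpectrum (SymTen.TS A B d) := ⟨RingHom.ker ξ.toRingHom, hprime⟩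
    have hx' : PrimeSpectrum.comap φ.toRingHom x' = p := by
      apply PrimeSpectrum.ext
      ext c
      show ξ (φ c) = 0 ↔ c ∈ p.asIdeal
      rw [hξφ]
      exact Ideal.algebraMap_residueField_eq_zero
    have hxx : x' = x := hinj hx'
    obtain ⟨s, hs, a, hsa⟩ := Groth.Agent.Lib.Helper6.exists_denominator p.asIdeal (ξ y)
    refine ⟨s, a, hs, ?_⟩
    rw [← hxx]
    show ξ (φ s * y - φ a) = 0
    rw [map_sub, map_mul, hξφ, hξφ, mul_comm, hsa, sub_self]
  have hres' : ∀ x : ↥(Spec (CommRingCat.of (SymTen.TS A B d))),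
      Function.Surjective ((Spec.map (CommRingCat.ofHom φ.toRingHom)).residueFieldMap x).hom :=
    fun x => (Groth.Agent.Lib.Helper6.UnivHomeoRing.residueFieldMap_surjective_iff
      (CommRingCat.ofHom φ.toRingHom) x).mpr (hres x)
  refine ⟨?_, hres'⟩
  rw [Groth.Agent.Lib.Helper12.isUnivHomeo_iff]
  refine ⟨IsIntegralHom.SpecMap_iff.mpr hint, ?_, ?_⟩
  · have h := (tfae_universallyInjective (f := Spec.map (CommRingCat.ofHom φ.toRingHom))).out 0 2
    rw [h]
    refine ⟨hinj, fun x => ?_⟩
    have hs := hres' x
    set g := ((Spec.map (CommRingCat.ofHom φ.toRingHom)).residueFieldMap x).hom with hg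
    show g.IsPurelyInseparable
    unfold RingHom.IsPurelyInseparable
    letI : Algebra _ _ := g.toAlgebra
    rw [isPurelyInseparable_iff]
    intro z
    obtain ⟨w, rfl⟩ := hs z
    exact ⟨isIntegral_algebraMap, fun _ => ⟨w, rfl⟩⟩
  · rw [surjective_iff]
    exact hsurj

end Groth.Agent.S13874
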