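import Groth.Statements.S13875
import Groth.Agent.Lib.Helper15.DetNormal3
-- import your own Groth.Agent.* helpers here

set_option autoImplicit false
universe u
open scoped TensorProduct
open ZeroCyc

namespace Groth.Agent.S13875

/-- Affine form of the determinant law over a normal base. Let A be an integrally closed domain with
fraction field K, B a commutative A-algebra and M a B-module that is finitely generated as an
A-module (not necessarily flat over A), and let d be the generic rank of M, the dimension of the
K-vector space K ⊗_A M. Then there is exactly one multiplicative polynomial law N : B → A over A,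
homogeneous of degree d, such that for every n and every x ∈ A[t_1, …, t_n] ⊗_A B the value N(x) ∈
A[t_1, …, t_n], read in the fraction field L of A[t_1, …, t_n], is the determinant of x acting on
the finite-dimensional L-vector space L ⊗_A M. (Over a general test algebra the law is the unique
extension of these members; for M free of rank d over A it is the determinant law of M.) -/
theorem result {A B M : Type u} [CommRing A] [IsDomain A] [IsIntegrallyClosed A]
    [CommRing B] [Algebra A B] [AddCommGroup M] [Module A M] [Module B M] [IsScalarTower A B M] [Module.Finite A M]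
    (d : ℕ) (hd : Module.finrank (FractionRing A) (FractionRing A ⊗[A] M) = d) :
    ∃! N : PolLaw.MulLaw A B A d, ∀ (n : ℕ) (x : MvPolynomial (Fin n) A ⊗[A] B),
      algebraMap (MvPolynomial (Fin n) A) (FractionRing (MvPolynomial (Fin n) A))
          (TensorProduct.rid A (MvPolynomial (Fin n) A) (N.law.toFun' (MvPolynomial (Fin n) A) x)) =
        LinearMap.det (PolLaw.actEnd M (FractionRing (MvPolynomial (Fin n) A))
          (Algebra.TensorProduct.map
            (IsScalarTower.toAlgHom A (MvPolynomial (Fin n) A) (FractionRing (MvPolynomial (Fin n) A)))
            (AlgHom.id A B) x)) := by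
  classical
  have hcondN : ∀ (n : ℕ) (x : MvPolynomial (Fin n) A ⊗[A] B),
      algebraMap (MvPolynomial (Fin n) A) (FractionRing (MvPolynomial (Fin n) A))
          (TensorProduct.rid A (MvPolynomial (Fin n) A)
            ((Groth.Agent.Lib.Helper15.DetNormal3.N M (FractionRing A) d hd).law.toFun'
              (MvPolynomial (Fin n) A) x)) =
        LinearMap.det (PolLaw.actEnd M (FractionRing (MvPolynomial (Fin n) A))
          (Algebra.TensorProduct.map
            (IsScalarTower.toAlgHom A (MvPolynomial (Fin n) A) (FractionRing (MvPolynomial (Fin n) A)))
            (AlgHom.id A B) x)) := by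
    intro n x
    have hg : Function.Injective (Algebra.ofId A (FractionRing (MvPolynomial (Fin n) A))) := by
      have : ⇑(Algebra.ofId A (FractionRing (MvPolynomial (Fin n) A))) =
          (algebraMap (MvPolynomial (Fin n) A) (FractionRing (MvPolynomial (Fin n) A))) ∘
            (algebraMap A (MvPolynomial (Fin n) A)) := by
        funext a
        exact IsScalarTower.algebraMap_apply A (MvPolynomial (Fin n) A) _ a
      rw [this]
      exact (IsFractionRing.injective (MvPolynomial (Fin n) A) _).comp (MvPolynomial.C_injective _ _)
    let κ : FractionRing A →ₐ[A] FractionRing (MvPolynomial (Fin n) A) :=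
      IsFractionRing.liftAlgHom hg
    let ψ : FractionRing A ⊗[A] MvPolynomial (Fin n) A →ₐ[A]
        FractionRing (MvPolynomial (Fin n) A) :=
      Algebra.TensorProduct.lift κ
        (IsScalarTower.toAlgHom A (MvPolynomial (Fin n) A) (FractionRing (MvPolynomial (Fin n) A)))
        (fun _ _ => Commute.all _ _)
    have hkey := Groth.Agent.Lib.Helper15.DetNormal3.N_key M (FractionRing A) d hd
      (MvPolynomial (Fin n) A) x
    have h1 := congrArg ψ hkey
    haveI : Module.Free (FractionRing A ⊗[A] MvPolynomial (Fin n) A)
        ((FractionRing A ⊗[A] MvPolynomial (Fin n) A) ⊗[A] M) :=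
      Groth.Agent.Lib.Helper15.DetNormal1.free_of_field (A := A) M (FractionRing A) _
    rw [← Groth.Agent.Lib.Helper15.DetNormal1.detAct_map' M ψ] at h1
    have h2 : ∀ p : MvPolynomial (Fin n) A, ψ ((1 : FractionRing A) ⊗ₜ[A] p) =
        algebraMap (MvPolynomial (Fin n) A) (FractionRing (MvPolynomial (Fin n) A)) p := by
      intro p
      show ψ ((1 : FractionRing A) ⊗ₜ[A] p) = _
      rw [Algebra.TensorProduct.lift_tmul, map_one, one_mul]
      rfl
    have h3 : ∀ x' : MvPolynomial (Fin n) A ⊗[A] B, Algebra.TensorProduct.map ψ (AlgHom.id A B)
        (Groth.Agent.Lib.Helper15.DetNormal1.toR (A := A) (B := B) (FractionRing A)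
          (MvPolynomial (Fin n) A) x') =
        Algebra.TensorProduct.map
          (IsScalarTower.toAlgHom A (MvPolynomial (Fin n) A)
            (FractionRing (MvPolynomial (Fin n) A))) (AlgHom.id A B) x' := by
      intro x'
      induction x' using TensorProduct.induction_on with
      | zero => simp
      | tmul s b =>
        rw [Groth.Agent.Lib.Helper15.DetNormal1.toR_tmul, Algebra.TensorProduct.map_tmul,
          Algebra.TensorProduct.map_tmul, h2]
        rfl
      | add x y hx hy => rw [map_add, map_add, map_add, hx, hy]
    rw [h2, h3] at h1
    exact h1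
  refine ⟨Groth.Agent.Lib.Helper15.DetNormal3.N M (FractionRing A) d hd, hcondN, ?_⟩
  intro N' hN'
  apply PolLaw.MulLaw.ext
  ext S _ _ z
  obtain ⟨n, ψ', p, rfl⟩ := PolynomialLaw.exists_lift z
  rw [← PolynomialLaw.isCompat_apply', ← PolynomialLaw.isCompat_apply']
  congr 1
  apply (TensorProduct.rid A (MvPolynomial (Fin n) A)).injective
  apply IsFractionRing.injective (MvPolynomial (Fin n) A) (FractionRing (MvPolynomial (Fin n) A))
  rw [hN' n p, hcondN n p]

end Groth.Agent.S13875
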