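import Groth.Statements.S13877
import Mathlib
import Groth.Agent.Lib.Helper26.Crimp

set_option autoImplicit false
universe u v
open Crimp

namespace Groth.Agent.S13877

/-- Over R = k⟦t⟧ with k an algebraically closed field of characteristic zero, let S' be a commutative
R-algebra with an R-basis of size d whose discriminant generates the ideal (t ^ a) (a finite cover
of the formal disk of degree d, unramified over the punctured disk, with branch divisor (t ^ a)),
and let S be an R-subalgebra of S' with an R-basis of size d whose discriminant generates (t ^ b) (a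
crimp with branch divisor (t ^ b)). Then t ^ b annihilates S' / S and twice the R-length of S' / S
plus a equals b. (The published statement is for a family of such subalgebras over a k-scheme T and
also asserts T-flatness of the quotient; this row is its restriction to T a point.) -/
theorem result {k : Type u} [Field k] [IsAlgClosed k] [CharZero k]
    {St : Type v} [CommRing St] [Algebra (PowerSeries k) St] (d a b : ℕ)
    (bt : Module.Basis (Fin d) (PowerSeries k) St)
    (ha : Ideal.span {Algebra.discr (PowerSeries k) ⇑bt} = Ideal.span {(PowerSeries.X : PowerSeries k) ^ a})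
    (S : Subalgebra (PowerSeries k) St) (bS : Module.Basis (Fin d) (PowerSeries k) S)
    (hb : Ideal.span {Algebra.discr (PowerSeries k) ⇑bS} = Ideal.span {(PowerSeries.X : PowerSeries k) ^ b}) :
    (∀ q : St ⧸ Subalgebra.toSubmodule S, ((PowerSeries.X : PowerSeries k) ^ b) • q = 0) ∧
    2 * Module.length (PowerSeries k) (St ⧸ Subalgebra.toSubmodule S) + (a : ℕ∞) = (b : ℕ∞) := by
  classical
  obtain ⟨c, hc0, hkill, hlen, u, hdisc⟩ :=
    Groth.Agent.Lib.Helper26.Crimp.crimp_generic S bt bS
  have hX : (PowerSeries.X : PowerSeries k) ≠ 0 := PowerSeries.X_ne_zero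
  have hXnzd : (PowerSeries.X : PowerSeries k) ∈ nonZeroDivisors (PowerSeries k) :=
    mem_nonZeroDivisors_of_ne_zero hX
  have hordX : ∀ n : ℕ, Ring.ord (PowerSeries k) ((PowerSeries.X : PowerSeries k) ^ n) = n := by
    intro n
    rw [Ring.ord_pow hXnzd, Ring.ord_of_irreducible PowerSeries.X_prime.irreducible]
    simp
  have hA : Associated (Algebra.discr (PowerSeries k) ⇑bt) ((PowerSeries.X : PowerSeries k) ^ a) :=
    Ideal.span_singleton_eq_span_singleton.mp ha
  have hB : Associated (Algebra.discr (PowerSeries k) ⇑bS) ((PowerSeries.X : PowerSeries k) ^ b) :=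
    Ideal.span_singleton_eq_span_singleton.mp hb
  have hbt0 : Algebra.discr (PowerSeries k) ⇑bt ≠ 0 := by
    intro h
    rw [h] at hA
    exact pow_ne_zero a hX (associated_zero_iff_eq_zero _ |>.mp hA.symm)
  constructor
  · have hdvd : c ∣ (PowerSeries.X : PowerSeries k) ^ b := by
      refine Dvd.dvd.trans ?_ hB.dvd
      rw [hdisc]
      exact ⟨↑u * c * Algebra.discr (PowerSeries k) ⇑bt, by ring⟩
    obtain ⟨r, hr⟩ := hdvd
    intro q
    rw [hr, mul_comm, mul_smul, hkill q, smul_zero]
  · rw [hlen]
    have h1 := Ring.ord_eq_of_associated hB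
    rw [hordX b, hdisc, mul_assoc,
      Ring.ord_mul_of_isUnit_left u.isUnit,
      Ring.ord_mul (PowerSeries k) (mem_nonZeroDivisors_of_ne_zero hbt0),
      Ring.ord_pow (mem_nonZeroDivisors_of_ne_zero hc0),
      Ring.ord_eq_of_associated hA, hordX a] at h1
    rw [← h1]
    simp [two_mul]

end Groth.Agent.S13877
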