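import Groth.Statements.S13878
import Mathlib

set_option autoImplicit false
universe u
open Crimp

namespace Groth.Agent.S13878

set_option linter.style.haveILetI false
section Helpers
open PowerSeries

variable {k : Type u} [Field k]

/-- constant coefficient vector -/
noncomputable def cc (x : Fin 3 → PowerSeries k) : Fin 3 → k := fun i => constantCoeff (x i)

lemma cc_add (x y : Fin 3 → PowerSeries k) : cc (x + y) = cc x + cc y := by
  funext i; simp [cc]

lemma cc_smul (r : PowerSeries k) (x : Fin 3 → PowerSeries k) :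
    cc (r • x) = constantCoeff r • cc x := by
  funext i; simp [cc]

lemma cc_C_smul (a : k) (x : Fin 3 → PowerSeries k) : cc (C a • x) = a • cc x := by
  rw [cc_smul]; simp

lemma cc_sub (x y : Fin 3 → PowerSeries k) : cc (x - y) = cc x - cc y := by
  funext i; simp [cc]

lemma cc_zero : cc (0 : Fin 3 → PowerSeries k) = 0 := by
  funext i; simp [cc]

lemma exists_eq_X_smul {x : Fin 3 → PowerSeries k} (h : cc x = 0) :
    ∃ w : Fin 3 → PowerSeries k, x = (X : PowerSeries k) • w := by
  have h1 : ∀ i, (X : PowerSeries k) ∣ x i := fun i => by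
    rw [X_dvd_iff]; exact congrFun h i
  choose w hw using h1
  exact ⟨w, by funext i; rw [Pi.smul_apply, smul_eq_mul, hw i]⟩

lemma mem_of_cc_eq_zero {x : Fin 3 → PowerSeries k} (h : cc x = 0) :
    x ∈ Ideal.span {(X : PowerSeries k)} • (⊤ : Submodule (PowerSeries k) (Fin 3 → PowerSeries k)) := by
  obtain ⟨w, rfl⟩ := exists_eq_X_smul h
  exact Submodule.smul_mem_smul (Ideal.mem_span_singleton_self _) Submodule.mem_top

lemma cc_eq_zero_of_mem {x : Fin 3 → PowerSeries k}
    (h : x ∈ Ideal.span {(X : PowerSeries k)} •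
      (⊤ : Submodule (PowerSeries k) (Fin 3 → PowerSeries k))) : cc x = 0 := by
  refine Submodule.smul_induction_on h (fun r hr n _ => ?_) (fun x y hx hy => ?_)
  · rw [Ideal.mem_span_singleton] at hr
    rw [cc_smul, X_dvd_iff.mp hr, zero_smul]
  · rw [cc_add, hx, hy, add_zero]

/-- Nakayama: three vectors independent mod t generate. -/
lemma exists_repr (x : Fin 3 → (Fin 3 → PowerSeries k))
    (hx : LinearIndependent k (fun i => cc (x i))) (y : Fin 3 → PowerSeries k) :
    ∃ a b c : PowerSeries k, y = a • x 0 + b • x 1 + c • x 2 := by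
  have hspan : Submodule.span k (Set.range fun i => cc (x i)) = ⊤ :=
    hx.span_eq_top_of_card_eq_finrank (by simp)
  have key : (⊤ : Submodule (PowerSeries k) (Fin 3 → PowerSeries k)) ≤
      Submodule.span (PowerSeries k) (Set.range x) := by
    apply Submodule.le_of_le_smul_of_le_jacobson_bot (I := Ideal.span {(X : PowerSeries k)})
    · exact Module.Finite.fg_top
    · rw [IsLocalRing.jacobson_eq_maximalIdeal _ bot_ne_top]
      rw [← PowerSeries.maximalIdeal_eq_span_X]
    · intro z _
      have hz : cc z ∈ Submodule.span k (Set.range fun i => cc (x i)) := by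
        rw [hspan]; trivial
      obtain ⟨l, hl⟩ := (Submodule.mem_span_range_iff_exists_fun k).mp hz
      have h0 : cc (z - ∑ i, C (l i) • x i) = 0 := by
        rw [cc_sub, ← hl, sub_eq_zero]
        have : ∀ s : Finset (Fin 3), cc (∑ i ∈ s, C (l i) • x i) = ∑ i ∈ s, l i • cc (x i) := by
          intro s
          induction s using Finset.induction_on with
          | empty => simp [cc_zero]
          | insert a s ha ih => rw [Finset.sum_insert ha, Finset.sum_insert ha, cc_add, ih, cc_C_smul]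
        rw [this]
      have h1 := mem_of_cc_eq_zero h0
      have h2 : ∑ i, C (l i) • x i ∈ Submodule.span (PowerSeries k) (Set.range x) :=
        Submodule.sum_mem _ fun i _ => Submodule.smul_mem _ _ (Submodule.subset_span ⟨i, rfl⟩)
      have : z = ∑ i, C (l i) • x i + (z - ∑ i, C (l i) • x i) := by abel
      rw [this]
      exact Submodule.add_mem_sup h2 h1
  obtain ⟨l, hl⟩ := (Submodule.mem_span_range_iff_exists_fun _).mp (key (Submodule.mem_top (x := y)))
  refine ⟨l 0, l 1, l 2, ?_⟩
  rw [← hl, Fin.sum_univ_three]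


lemma cc_one : cc (1 : Fin 3 → PowerSeries k) = fun _ => 1 := by
  funext i; simp [cc]

lemma smul_one_eq_mk (j : ℕ) (r : PowerSeries k) :
    r • (1 : PowerSeries k ⧸ Ideal.span {(X : PowerSeries k) ^ j}) = Ideal.Quotient.mk _ r := by
  change r • Ideal.Quotient.mk _ 1 = _
  rw [← Ideal.Quotient.mk_eq_mk, ← Submodule.Quotient.mk_smul, smul_eq_mul, mul_one,
    Ideal.Quotient.mk_eq_mk]

section Main

variable (m n : ℕ) (S : Submodule (PowerSeries k) (Fin 3 → PowerSeries k))
  (h1 : (1 : (Fin 3 → PowerSeries k)) ∈ S)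
  (e : ((Fin 3 → PowerSeries k) ⧸ S) ≃ₗ[PowerSeries k]
      ((PowerSeries k ⧸ Ideal.span {(PowerSeries.X : PowerSeries k) ^ m}) ×
        (PowerSeries k ⧸ Ideal.span {(PowerSeries.X : PowerSeries k) ^ n})))

include h1 in
lemma pi_formula (x₂ x₃ : Fin 3 → PowerSeries k) (h2 : e (S.mkQ x₂) = (1, 0))
    (h3 : e (S.mkQ x₃) = (0, 1)) (a b c : PowerSeries k) :
    e (S.mkQ (a • 1 + b • x₂ + c • x₃)) = (Ideal.Quotient.mk _ b, Ideal.Quotient.mk _ c) := by
  have h0 : S.mkQ 1 = 0 := by
    rw [Submodule.mkQ_apply, Submodule.Quotient.mk_eq_zero]; exact h1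
  simp only [map_add, map_smul, h0, h2, h3, smul_zero, zero_add]
  ext
  · simp [smul_one_eq_mk]
  · simp [smul_one_eq_mk]

lemma pi_eq_zero (y : Fin 3 → PowerSeries k) : e (S.mkQ y) = 0 ↔ y ∈ S := by
  rw [e.map_eq_zero_iff, Submodule.mkQ_apply, Submodule.Quotient.mk_eq_zero]

include h1 in
lemma mem_iff (x₂ x₃ : Fin 3 → PowerSeries k) (h2 : e (S.mkQ x₂) = (1, 0))
    (h3 : e (S.mkQ x₃) = (0, 1)) (a b c : PowerSeries k) :
    a • 1 + b • x₂ + c • x₃ ∈ S ↔ (X : PowerSeries k) ^ m ∣ b ∧ (X : PowerSeries k) ^ n ∣ c := by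
  rw [← pi_eq_zero m n S e, pi_formula m n S h1 e x₂ x₃ h2 h3, Prod.mk_eq_zero,
    Ideal.Quotient.eq_zero_iff_mem, Ideal.Quotient.eq_zero_iff_mem, Ideal.mem_span_singleton,
    Ideal.mem_span_singleton]

include h1 in
lemma indep_aux (x₂ x₃ : Fin 3 → PowerSeries k) (h2 : e (S.mkQ x₂) = (1, 0))
    (h3 : e (S.mkQ x₃) = (0, 1)) (α β γ : k)
    (h : α • cc (1 : Fin 3 → PowerSeries k) + β • cc x₂ + γ • cc x₃ = 0) :
    (1 ≤ m → β = 0) ∧ (1 ≤ n → γ = 0) := by
  have hw : cc (C α • (1 : Fin 3 → PowerSeries k) + C β • x₂ + C γ • x₃) = 0 := by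
    rw [cc_add, cc_add, cc_C_smul, cc_C_smul, cc_C_smul, h]
  obtain ⟨w, hw⟩ := exists_eq_X_smul hw
  have h4 := pi_formula m n S h1 e x₂ x₃ h2 h3 (C α) (C β) (C γ)
  rw [hw, map_smul, map_smul] at h4
  have key : ∀ (j : ℕ) (β : k) (q : PowerSeries k ⧸ Ideal.span {(X : PowerSeries k) ^ j}),
      1 ≤ j → (X : PowerSeries k) • q = Ideal.Quotient.mk _ (C β) → β = 0 := by
    intro j β q hj hq
    obtain ⟨r, rfl⟩ := Ideal.Quotient.mk_surjective q
    rw [← Ideal.Quotient.mk_eq_mk, ← Submodule.Quotient.mk_smul, smul_eq_mul,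
      Ideal.Quotient.mk_eq_mk, Ideal.Quotient.eq, Ideal.mem_span_singleton] at hq
    have h5 : (X : PowerSeries k) ∣ X * r - C β := (dvd_pow_self X (by omega)).trans hq
    have h6 : (X : PowerSeries k) ∣ C β := by
      have := dvd_sub (Dvd.intro r rfl) h5
      simpa using this
    rw [X_dvd_iff] at h6
    simpa using h6
  exact ⟨fun hm => key m β _ hm (congrArg Prod.fst h4), fun hn => key n γ _ hn (congrArg Prod.snd h4)⟩

include h1 in
lemma main_of_exists (hmn : m ≤ n) (x₂ x₃ : Fin 3 → PowerSeries k) (h2 : e (S.mkQ x₂) = (1, 0))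
    (h3 : e (S.mkQ x₃) = (0, 1))
    (hind : LinearIndependent k ![cc (1 : Fin 3 → PowerSeries k), cc x₂, cc x₃]) :
    Ideal.span {(PowerSeries.X : PowerSeries k) ^ n} •
        (⊤ : Submodule (PowerSeries k) (Fin 3 → PowerSeries k)) ≤ S ∧
    ∃ f : (Fin 3 → PowerSeries k),
      f ∉ Submodule.span (PowerSeries k) {(1 : (Fin 3 → PowerSeries k))} ⊔
        Ideal.span {(PowerSeries.X : PowerSeries k)} •
          (⊤ : Submodule (PowerSeries k) (Fin 3 → PowerSeries k)) ∧
      S = Submodule.span (PowerSeries k)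
          {(1 : (Fin 3 → PowerSeries k)), ((PowerSeries.X : PowerSeries k) ^ m) • f} ⊔
        Ideal.span {(PowerSeries.X : PowerSeries k) ^ n} •
          (⊤ : Submodule (PowerSeries k) (Fin 3 → PowerSeries k)) := by
  have hS := mem_iff m n S h1 e x₂ x₃ h2 h3
  have hrepr : ∀ y : Fin 3 → PowerSeries k, ∃ a b c : PowerSeries k,
      y = a • 1 + b • x₂ + c • x₃ := by
    intro y
    have hx : LinearIndependent k
        (fun i => cc ((![1, x₂, x₃] : Fin 3 → (Fin 3 → PowerSeries k)) i)) := by
      convert hind using 1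
      funext i
      fin_cases i <;> rfl
    obtain ⟨a, b, c, h⟩ := exists_repr _ hx y
    exact ⟨a, b, c, h⟩
  have part1 : Ideal.span {(PowerSeries.X : PowerSeries k) ^ n} •
        (⊤ : Submodule (PowerSeries k) (Fin 3 → PowerSeries k)) ≤ S := by
    rw [Submodule.smul_le]
    intro r hr y _
    rw [Ideal.mem_span_singleton] at hr
    obtain ⟨a, b, c, rfl⟩ := hrepr y
    have : r • (a • 1 + b • x₂ + c • x₃) = (r * a) • 1 + (r * b) • x₂ + (r * c) • x₃ := by
      simp only [smul_add, mul_smul]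
    rw [this, hS]
    exact ⟨((pow_dvd_pow (X : PowerSeries k) hmn).trans hr).mul_right b, hr.mul_right c⟩
  refine ⟨part1, x₂, ?_, le_antisymm ?_ ?_⟩
  · intro h
    obtain ⟨y, hy, z, hz, hyz⟩ := Submodule.mem_sup.mp h
    obtain ⟨a, rfl⟩ := Submodule.mem_span_singleton.mp hy
    have h5 : cc x₂ = constantCoeff a • cc (1 : Fin 3 → PowerSeries k) := by
      rw [← hyz, cc_add, cc_smul, cc_eq_zero_of_mem hz, add_zero]
    have h6 := Fintype.linearIndependent_iff.mp hind ![constantCoeff a, -1, 0] (by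
      rw [Fin.sum_univ_three]
      simp [h5]) 1
    simp at h6
  · intro y hy
    obtain ⟨a, b, c, rfl⟩ := hrepr y
    obtain ⟨⟨b', rfl⟩, ⟨c', rfl⟩⟩ := (hS a b c).mp hy
    have : a • (1 : Fin 3 → PowerSeries k) + ((X : PowerSeries k) ^ m * b') • x₂ +
        ((X : PowerSeries k) ^ n * c') • x₃ =
        (a • 1 + b' • ((X : PowerSeries k) ^ m • x₂)) + (X : PowerSeries k) ^ n • (c' • x₃) := by
      simp only [mul_smul, smul_comm b' ((X : PowerSeries k) ^ m)]
    rw [this]
    refine Submodule.add_mem_sup ?_ ?_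
    · exact Submodule.add_mem _ (Submodule.smul_mem _ _ (Submodule.subset_span (by simp)))
        (Submodule.smul_mem _ _ (Submodule.subset_span (by simp)))
    · exact Submodule.smul_mem_smul (Ideal.mem_span_singleton_self _) Submodule.mem_top
  · refine sup_le ?_ part1
    rw [Submodule.span_le]
    intro y hy
    rcases hy with rfl | rfl
    · exact h1
    · have := (hS 0 (X ^ m) 0).mpr ⟨dvd_rfl, dvd_zero _⟩
      simpa using this

lemma subsingleton_quot_zero :
    Subsingleton (PowerSeries k ⧸ Ideal.span {(X : PowerSeries k) ^ 0}) := by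
  rw [Ideal.Quotient.subsingleton_iff, pow_zero, Ideal.span_singleton_one]

include h1 in
lemma exists_x (hmn : m ≤ n) : ∃ x₂ x₃ : Fin 3 → PowerSeries k,
    e (S.mkQ x₂) = (1, 0) ∧ e (S.mkQ x₃) = (0, 1) ∧
    LinearIndependent k ![cc (1 : Fin 3 → PowerSeries k), cc x₂, cc x₃] := by
  have hsurj : ∀ q, ∃ y, e (S.mkQ y) = q := fun q => by
    obtain ⟨y, hy⟩ := S.mkQ_surjective (e.symm q)
    exact ⟨y, by rw [hy, e.apply_symm_apply]⟩
  obtain ⟨u, hu⟩ := hsurj (1, 0)
  obtain ⟨v, hv⟩ := hsurj (0, 1)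
  have hone : ∀ a : k, a • cc (1 : Fin 3 → PowerSeries k) = 0 → a = 0 := by
    intro a ha
    have := congrFun ha 0
    simpa [cc_one] using this
  rcases Nat.eq_zero_or_pos n with hn | hn
  · -- everything trivial
    subst hn
    obtain rfl : m = 0 := by omega
    haveI := subsingleton_quot_zero (k := k)
    refine ⟨Pi.single 0 1, Pi.single 1 1, Subsingleton.elim _ _, Subsingleton.elim _ _, ?_⟩
    rw [Fintype.linearIndependent_iff]
    intro g hg
    rw [Fin.sum_univ_three] at hg
    have e0 := congrFun hg 0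
    have e1 := congrFun hg 1
    have e2 := congrFun hg 2
    simp [cc] at e0 e1 e2
    rw [e2, zero_add] at e0 e1
    intro i
    fin_cases i
    · exact e2
    · exact e0
    · exact e1
  rcases Nat.eq_zero_or_pos m with hm | hm
  · subst hm
    haveI := subsingleton_quot_zero (k := k)
    -- find f ∈ S independent of 1
    have hf : ∃ f ∈ S, ∀ a : k, cc f ≠ a • cc (1 : Fin 3 → PowerSeries k) := by
      by_contra hcon
      push Not at hcon
      have hspan : Submodule.span k (Set.range ![cc (1 : Fin 3 → PowerSeries k), cc v]) = ⊤ := by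
        rw [eq_top_iff]
        intro z _
        obtain ⟨r, hr⟩ := Ideal.Quotient.mk_surjective (e (S.mkQ (fun i => C (z i)))).2
        have hmem : (fun i => C (z i)) - r • v ∈ S := by
          rw [← pi_eq_zero 0 n S e, map_sub, map_sub, map_smul, map_smul, hv]
          ext
          · exact Subsingleton.elim _ _
          · change (e (S.mkQ (fun i => C (z i)))).2 - r • (1 : PowerSeries k ⧸ _) = 0
            rw [← hr, sub_eq_zero, smul_one_eq_mk]
        obtain ⟨a, ha⟩ := hcon _ hmem
        have hz : z = a • cc (1 : Fin 3 → PowerSeries k) + constantCoeff r • cc v := by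
          rw [← ha, ← cc_smul, ← cc_add, sub_add_cancel]
          funext i; simp [cc]
        rw [hz]
        exact Submodule.add_mem _
          (Submodule.smul_mem _ _ (Submodule.subset_span ⟨0, rfl⟩))
          (Submodule.smul_mem _ _ (Submodule.subset_span ⟨1, rfl⟩))
      have h3 := finrank_range_le_card (R := k) ![cc (1 : Fin 3 → PowerSeries k), cc v]
      rw [Set.finrank, hspan, finrank_top, Module.finrank_fin_fun] at h3
      simp at h3
    obtain ⟨f, hfS, hf⟩ := hf
    have hfπ : e (S.mkQ f) = (1, 0) := by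
      rw [(pi_eq_zero 0 n S e f).mpr hfS]
      ext
      · exact Subsingleton.elim _ _
      · rfl
    refine ⟨f, v, hfπ, hv, ?_⟩
    rw [Fintype.linearIndependent_iff]
    intro g hg
    rw [Fin.sum_univ_three] at hg
    simp only [Matrix.cons_val_zero, Matrix.cons_val_one, Matrix.cons_val_two] at hg
    have g2 : g 2 = 0 := (indep_aux 0 n S h1 e f v hfπ hv _ _ _ hg).2 hn
    rw [g2, zero_smul, add_zero] at hg
    have g1 : g 1 = 0 := by
      by_contra hne
      apply hf (-(g 1)⁻¹ * g 0)
      have : g 1 • cc f = -(g 0 • cc (1 : Fin 3 → PowerSeries k)) := by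
        rw [eq_neg_iff_add_eq_zero, add_comm]; exact hg
      calc cc f = (g 1)⁻¹ • (g 1 • cc f) := by rw [smul_smul, inv_mul_cancel₀ hne, one_smul]
        _ = _ := by rw [this, smul_neg, smul_smul, neg_mul, neg_smul]
    rw [g1, zero_smul, add_zero] at hg
    have g0 := hone _ hg
    intro i
    fin_cases i
    · exact g0
    · exact g1
    · exact g2
  · refine ⟨u, v, hu, hv, ?_⟩
    rw [Fintype.linearIndependent_iff]
    intro g hg
    rw [Fin.sum_univ_three] at hg
    simp only [Matrix.cons_val_zero, Matrix.cons_val_one, Matrix.cons_val_two] at hg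
    obtain ⟨h5, h6⟩ := indep_aux m n S h1 e u v hu hv _ _ _ hg
    have g1 := h5 hm
    have g2 := h6 hn
    rw [g1, g2, zero_smul, zero_smul, add_zero, add_zero] at hg
    have g0 := hone _ hg
    intro i
    fin_cases i
    · exact g0
    · exact g1
    · exact g2

end Main


end Helpers

/-- Over R = k⟦t⟧ with k an algebraically closed field of characteristic zero, let S' = R × R × R (the
unramified triple cover of the formal disk) and let S be an R-submodule of S' containing 1 such that
S' / S is isomorphic to R / (t ^ m) ⊕ R / (t ^ n) with m ≤ n. Then t ^ n S' is contained in S, and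
there is f in S', not lying in R·1 + t S', such that S = R·1 + R·(t ^ m f) + t ^ n S'. -/
theorem result {k : Type u} [Field k] [IsAlgClosed k] [CharZero k] (m n : ℕ) (hmn : m ≤ n)
    (S : Submodule (PowerSeries k) (Fin 3 → PowerSeries k))
    (h1 : (1 : (Fin 3 → PowerSeries k)) ∈ S)
    (e : ((Fin 3 → PowerSeries k) ⧸ S) ≃ₗ[PowerSeries k]
      ((PowerSeries k ⧸ Ideal.span {(PowerSeries.X : PowerSeries k) ^ m}) × (PowerSeries k ⧸ Ideal.span {(PowerSeries.X : PowerSeries k) ^ n}))) :
    Ideal.span {(PowerSeries.X : PowerSeries k) ^ n} • (⊤ : Submodule (PowerSeries k) (Fin 3 → PowerSeries k)) ≤ S ∧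
    ∃ f : (Fin 3 → PowerSeries k),
      f ∉ Submodule.span (PowerSeries k) {(1 : (Fin 3 → PowerSeries k))} ⊔ Ideal.span {(PowerSeries.X : PowerSeries k)} • (⊤ : Submodule (PowerSeries k) (Fin 3 → PowerSeries k)) ∧
      S = Submodule.span (PowerSeries k) {(1 : (Fin 3 → PowerSeries k)), ((PowerSeries.X : PowerSeries k) ^ m) • f} ⊔
        Ideal.span {(PowerSeries.X : PowerSeries k) ^ n} • (⊤ : Submodule (PowerSeries k) (Fin 3 → PowerSeries k)) := by
  obtain ⟨x₂, x₃, h2, h3, hind⟩ := exists_x m n S h1 e hmn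
  exact main_of_exists m n S h1 e hmn x₂ x₃ h2 h3 hind

end Groth.Agent.S13878
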