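import Groth.Statements.S13879
import Mathlib.Tactic
-- import your own Groth.Agent.* helpers here

set_option autoImplicit false
universe u
open Crimp

namespace Groth.Agent.S13879

/-- Over R = k⟦t⟧ with k an algebraically closed field of characteristic zero, let S' = R × R × R and
let S be the R-submodule R·1 + R·(t ^ m f) + t ^ n S' of S' for some f in S' and natural numbers m,
n. Then S is closed under multiplication (equivalently, is an R-subalgebra of S') if and only if t ^
(2m) f ^ 2 lies in S. (The published statement has m ≤ n and S' / S isomorphic to R / (t ^ m) ⊕ R /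
(t ^ n), under which S has this shape; this row states the criterion for every submodule of this
shape.) -/
theorem result {k : Type u} [Field k] [IsAlgClosed k] [CharZero k] (m n : ℕ) (f : (Fin 3 → PowerSeries k))
    (S : Submodule (PowerSeries k) (Fin 3 → PowerSeries k))
    (hS : S = Submodule.span (PowerSeries k) {(1 : (Fin 3 → PowerSeries k)), ((PowerSeries.X : PowerSeries k) ^ m) • f} ⊔
        Ideal.span {(PowerSeries.X : PowerSeries k) ^ n} • (⊤ : Submodule (PowerSeries k) (Fin 3 → PowerSeries k))) :
    (∀ x ∈ S, ∀ y ∈ S, x * y ∈ S) ↔ ((PowerSeries.X : PowerSeries k) ^ (2 * m)) • (f * f) ∈ S := by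
  set u : Fin 3 → PowerSeries k := ((PowerSeries.X : PowerSeries k) ^ m) • f with hu
  set N : Submodule (PowerSeries k) (Fin 3 → PowerSeries k) :=
    Ideal.span {(PowerSeries.X : PowerSeries k) ^ n} •
      (⊤ : Submodule (PowerSeries k) (Fin 3 → PowerSeries k)) with hN
  have huu : u * u = ((PowerSeries.X : PowerSeries k) ^ (2 * m)) • (f * f) := by
    rw [hu, smul_mul_smul_comm, ← pow_add, two_mul]
  have h1S : (1 : Fin 3 → PowerSeries k) ∈ S := by
    rw [hS]
    exact Submodule.mem_sup_left (Submodule.subset_span (by simp))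
  have huS : u ∈ S := by
    rw [hS]
    exact Submodule.mem_sup_left (Submodule.subset_span (by simp))
  have hNS : N ≤ S := by
    rw [hS]
    exact le_sup_right
  constructor
  · intro h
    rw [← huu]
    exact h u huS u huS
  · intro hsq
    rw [← huu] at hsq
    have hNmul : ∀ x ∈ N, ∀ y : Fin 3 → PowerSeries k, x * y ∈ N := by
      intro x hx y
      refine Submodule.smul_induction_on hx ?_ ?_
      · intro r hr z hz
        rw [smul_mul_assoc]
        exact Submodule.smul_mem_smul hr Submodule.mem_top
      · intro a b ha hb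
        rw [add_mul]
        exact N.add_mem ha hb
    intro x hx y hy
    rw [hS] at hx hy
    obtain ⟨a, ha, x', hx', rfl⟩ := Submodule.mem_sup.1 hx
    obtain ⟨b, hb, y', hy', rfl⟩ := Submodule.mem_sup.1 hy
    obtain ⟨α, β, rfl⟩ := Submodule.mem_span_pair.1 ha
    obtain ⟨γ, δ, rfl⟩ := Submodule.mem_span_pair.1 hb
    have e : (α • (1 : Fin 3 → PowerSeries k) + β • u + x') * (γ • 1 + δ • u + y') =
        (α * γ) • (1 : Fin 3 → PowerSeries k) + (α * δ + β * γ) • u + (β * δ) • (u * u) +
          (y' * (α • 1 + β • u) + x' * (γ • 1 + δ • u + y')) := by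
      simp only [Algebra.smul_def, map_mul, map_add]
      ring
    rw [e]
    refine S.add_mem (S.add_mem (S.add_mem (S.smul_mem _ h1S) (S.smul_mem _ huS))
      (S.smul_mem _ hsq)) (hNS (N.add_mem (hNmul _ hy' _) (hNmul _ hx' _)))

end Groth.Agent.S13879
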