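import Groth.Statements.S13882
import Mathlib.RingTheory.FiniteType
import Mathlib.RingTheory.Ideal.Quotient.Operations
import Mathlib.Algebra.MvPolynomial.Eval

set_option autoImplicit false
universe u
open FinCov

namespace Groth.Agent.S13882

/-- Index type of the generators: structure constants and coordinates of the unit. -/
abbrev Idx (d : ℕ) : Type := (Fin d × Fin d × Fin d) ⊕ Fin d

/-- The variable `c i j k`. -/
noncomputable abbrev cX (K : Type u) [CommRing K] (d : ℕ) (i j k : Fin d) : MvPolynomial (Idx d) K :=
  MvPolynomial.X (Sum.inl (i, j, k))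

/-- The variable `u i`. -/
noncomputable abbrev uX (K : Type u) [CommRing K] (d : ℕ) (i : Fin d) : MvPolynomial (Idx d) K :=
  MvPolynomial.X (Sum.inr i)

/-- The relations. -/
def rels (K : Type u) [CommRing K] (d : ℕ) : Set (MvPolynomial (Idx d) K) :=
  {p | (∃ i j k, p = cX K d i j k - cX K d j i k) ∨
    (∃ i j l m, p = (∑ k, cX K d i j k * cX K d k l m) - ∑ k, cX K d j l k * cX K d i k m) ∨
    (∃ j m, p = (∑ i, uX K d i * cX K d i j m) - if j = m then 1 else 0)}

/-- The representing algebra. -/
abbrev Rep (K : Type u) [CommRing K] (d : ℕ) : Type u :=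
  MvPolynomial (Idx d) K ⧸ Ideal.span (rels K d)

/-- The evaluation point attached to a based algebra structure. -/
def pt {d : ℕ} {A : Type u} [CommRing A] (s : W4c1hurwitzcpt.BasedAlg d A) : Idx d → A :=
  Sum.elim (fun t => s.c t.1 t.2.1 t.2.2) s.u

theorem aeval_rels (K : Type u) [CommRing K] (d : ℕ) (A : Type u) [CommRing A] [Algebra K A]
    (s : W4c1hurwitzcpt.BasedAlg d A) :
    ∀ p ∈ Ideal.span (rels K d), MvPolynomial.aeval (R := K) (pt s) p = 0 := by
  intro p hp
  have : Ideal.span (rels K d) ≤ RingHom.ker (MvPolynomial.aeval (R := K) (pt s)) := by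
    rw [Ideal.span_le]
    rintro p (⟨i, j, k, rfl⟩ | ⟨i, j, l, m, rfl⟩ | ⟨j, m, rfl⟩)
    · simp only [SetLike.mem_coe, RingHom.mem_ker, map_sub, MvPolynomial.aeval_X, pt, Sum.elim_inl]
      rw [s.comm i j k, sub_self]
    · simp only [SetLike.mem_coe, RingHom.mem_ker, map_sub, map_sum, map_mul, MvPolynomial.aeval_X,
        pt, Sum.elim_inl]
      rw [s.assoc i j l m, sub_self]
    · simp only [SetLike.mem_coe, RingHom.mem_ker, map_sub, map_sum, map_mul, MvPolynomial.aeval_X,
        pt, Sum.elim_inl, Sum.elim_inr]
      rw [s.unit j m]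
      split_ifs <;> simp
  exact this hp

/-- The structure attached to an algebra map out of the representing algebra. -/
noncomputable def toBased (K : Type u) [CommRing K] (d : ℕ) (A : Type u) [CommRing A] [Algebra K A]
    (g : Rep K d →ₐ[K] A) : W4c1hurwitzcpt.BasedAlg d A where
  c i j k := g (Ideal.Quotient.mk _ (cX K d i j k))
  u i := g (Ideal.Quotient.mk _ (uX K d i))
  comm i j k := by
    rw [← sub_eq_zero, ← map_sub, ← map_sub]
    have : Ideal.Quotient.mk (Ideal.span (rels K d)) (cX K d i j k - cX K d j i k) = 0 :=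
      Ideal.Quotient.eq_zero_iff_mem.2 (Ideal.subset_span (Or.inl ⟨i, j, k, rfl⟩))
    rw [this, map_zero]
  assoc i j l m := by
    rw [← sub_eq_zero]
    simp only [← map_mul, ← map_sum, ← map_sub]
    have : Ideal.Quotient.mk (Ideal.span (rels K d))
        ((∑ k, cX K d i j k * cX K d k l m) - ∑ k, cX K d j l k * cX K d i k m) = 0 :=
      Ideal.Quotient.eq_zero_iff_mem.2 (Ideal.subset_span (Or.inr (Or.inl ⟨i, j, l, m, rfl⟩)))
    rw [this, map_zero]
  unit j m := by
    have : Ideal.Quotient.mk (Ideal.span (rels K d))
        ((∑ i, uX K d i * cX K d i j m) - if j = m then 1 else 0) = 0 :=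
      Ideal.Quotient.eq_zero_iff_mem.2 (Ideal.subset_span (Or.inr (Or.inr ⟨j, m, rfl⟩)))
    have h2 := congrArg g this
    rw [map_zero, map_sub, map_sub, sub_eq_zero] at h2
    simp only [map_sum, map_mul] at h2
    rw [h2]
    split_ifs <;> simp

/-- The algebra map attached to a based algebra structure. -/
noncomputable def ofBased (K : Type u) [CommRing K] (d : ℕ) (A : Type u) [CommRing A] [Algebra K A]
    (s : W4c1hurwitzcpt.BasedAlg d A) : Rep K d →ₐ[K] A :=
  Ideal.Quotient.liftₐ _ (MvPolynomial.aeval (R := K) (pt s)) (aeval_rels K d A s)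

theorem ofBased_mk (K : Type u) [CommRing K] (d : ℕ) (A : Type u) [CommRing A] [Algebra K A]
    (s : W4c1hurwitzcpt.BasedAlg d A) (p : MvPolynomial (Idx d) K) :
    ofBased K d A s (Ideal.Quotient.mk _ p) = MvPolynomial.aeval (R := K) (pt s) p := rfl

/-- The bijection. -/
noncomputable def eta (K : Type u) [CommRing K] (d : ℕ) (A : Type u) [CommRing A] [Algebra K A] :
    (Rep K d →ₐ[K] A) ≃ W4c1hurwitzcpt.BasedAlg d A where
  toFun := toBased K d A
  invFun := ofBased K d A
  left_inv g := by
    apply Ideal.Quotient.algHom_ext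
    apply MvPolynomial.algHom_ext
    rintro (⟨i, j, k⟩ | i)
    · change ofBased K d A (toBased K d A g) (Ideal.Quotient.mk _ _) = g (Ideal.Quotient.mk _ _)
      rw [ofBased_mk, MvPolynomial.aeval_X]
      rfl
    · change ofBased K d A (toBased K d A g) (Ideal.Quotient.mk _ _) = g (Ideal.Quotient.mk _ _)
      rw [ofBased_mk, MvPolynomial.aeval_X]
      rfl
  right_inv s := by
    ext i j k
    · change ofBased K d A s (Ideal.Quotient.mk _ _) = _
      rw [ofBased_mk, MvPolynomial.aeval_X]
      rfl
    · change ofBased K d A s (Ideal.Quotient.mk _ _) = _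
      rw [ofBased_mk, MvPolynomial.aeval_X]
      rfl

/-- Over a field K of characteristic zero, the functor that sends a K-scheme S to the set of isomorphism
classes of pairs (A, τ) of an O_S-algebra A and an O_S-module isomorphism τ from A to the free
module of rank d, equivalently to the set of commutative unital algebra structures on the rank-d
free module with its standard basis, is represented by an affine K-scheme of finite type. Stated on
affine K-schemes in one universe: there is a finitely generated commutative K-algebra B with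
bijections between K-algebra maps B → A and based algebra structures of rank d over A, natural in
the commutative K-algebra A. -/
theorem result (K : Type u) [Field K] [CharZero K] (d : ℕ) :
    ∃ (B : Type u) (_ : CommRing B) (_ : Algebra K B) (_ : Algebra.FiniteType K B)
      (η : ∀ (A : Type u) [CommRing A] [Algebra K A], (B →ₐ[K] A) ≃ W4c1hurwitzcpt.BasedAlg d A),
      ∀ (A A' : Type u) [CommRing A] [Algebra K A] [CommRing A'] [Algebra K A']
        (f : A →ₐ[K] A') (g : B →ₐ[K] A),
        η A' (f.comp g) = (η A g).map f.toRingHom := by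
  refine ⟨Rep K d, inferInstance, inferInstance, inferInstance, fun A _ _ => eta K d A, ?_⟩
  intro A A' _ _ _ _ f g
  ext i j k
  · simp [eta, toBased, W4c1hurwitzcpt.BasedAlg.map]
  · simp [eta, toBased, W4c1hurwitzcpt.BasedAlg.map]

end Groth.Agent.S13882
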