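import Groth.Statements.S13884
import Mathlib
import Groth.Agent.Lib.Helper2.RootDiskRed

set_option autoImplicit false
universe u
open Crimp

namespace Groth.Agent.S13884
open W4c1hurwitzcpt Groth.Agent.Lib.Helper2.RootDisk

/-- Over R = k⟦t⟧ with k an algebraically closed field of characteristic zero, let S' = k⟦x⟧ regarded as
an R-algebra through t ↦ x ^ 3, that is S' = R[x] / (x ^ 3 - t), the smooth totally ramified triple
cover of the formal disk. If M is an R-submodule of S' which is free of rank 3, then M has an
R-basis consisting of three power series whose x-adic valuations are pairwise distinct modulo 3.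
(Items (2) and (3) of the published proposition, on the base change of M to R[s] / (s ^ 3 - t), are
not restated.) -/
theorem result {k : Type u} [Field k] [IsAlgClosed k] [CharZero k]
    (M : Submodule (PowerSeries k) (W4c1hurwitzcpt.RootDisk 3 k))
    (bM : Module.Basis (Fin 3) (PowerSeries k) M) :
    ∃ g : Module.Basis (Fin 3) (PowerSeries k) M, ∀ i j : Fin 3, i ≠ j →
      ¬ Nat.ModEq 3 (PowerSeries.order (W4c1hurwitzcpt.RootDisk.val (((g i : M) : (W4c1hurwitzcpt.RootDisk 3 k)) : W4c1hurwitzcpt.RootDisk 3 k))).toNat
        (PowerSeries.order (W4c1hurwitzcpt.RootDisk.val (((g j : M) : (W4c1hurwitzcpt.RootDisk 3 k)) : W4c1hurwitzcpt.RootDisk 3 k))).toNat := by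
  classical
  have hfr : Module.finrank (PowerSeries k) M = Module.finrank (PowerSeries k) (RootDisk 3 k) := by
    rw [Module.finrank_eq_card_basis bM, Module.finrank_eq_card_basis (basis 3 k)]
  obtain ⟨d, hd0, hd⟩ := exists_smul_mem_of_finrank_eq (basis 3 k) M hfr
  obtain ⟨N, hN⟩ := exists_X_pow_smul_mem M d hd0 hd
  obtain ⟨g, n, hgord, hnr, hli, hspan⟩ := exists_reduced_system M ⟨N, hN⟩
  have hgM : ∀ r, g r ∈ M := fun r => by
    rw [← hspan]; exact Submodule.subset_span ⟨r, rfl⟩
  set g' : Fin 3 → M := fun r => ⟨g r, hgM r⟩ with hg'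
  have hli' : LinearIndependent (PowerSeries k) g' :=
    LinearIndependent.of_comp M.subtype (by exact hli)
  have hmap : Submodule.map M.subtype (Submodule.span (PowerSeries k) (Set.range g')) =
      Submodule.span (PowerSeries k) (Set.range g) := by
    rw [Submodule.map_span, ← Set.range_comp]; rfl
  have hsp : ⊤ ≤ Submodule.span (PowerSeries k) (Set.range g') := by
    intro m _
    have hm : (m : RootDisk 3 k) ∈ Submodule.span (PowerSeries k) (Set.range g) := by
      rw [hspan]; exact m.2
    rw [← hmap] at hm
    obtain ⟨m', hm', hmm'⟩ := hm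
    have : m' = m := Subtype.ext hmm'
    rw [← this]; exact hm'
  refine ⟨Module.Basis.mk hli' hsp, ?_⟩
  intro i j hij hmod
  rw [Module.Basis.mk_apply, Module.Basis.mk_apply] at hmod
  simp only [hg', hgord, ENat.toNat_coe] at hmod
  apply hij
  apply Fin.ext
  have := hmod
  unfold Nat.ModEq at this
  rw [hnr i, hnr j] at this
  exact this

end Groth.Agent.S13884
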