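import Groth.Statements.S13885
import Mathlib
import Groth.Agent.Lib.Helper2.RootDiskRed

set_option autoImplicit false
universe u
open Crimp

namespace Groth.Agent.S13885
open W4c1hurwitzcpt Groth.Agent.Lib.Helper2.RootDisk

/-- Over R = k⟦t⟧ with k an algebraically closed field of characteristic zero, let S' = k⟦x⟧ × R, where
k⟦x⟧ is regarded as an R-algebra through t ↦ x ^ 2, that is S' = R[x] / (x ^ 2 - t) ⊕ R, the smooth
simply ramified triple cover of the formal disk, with R embedded diagonally. If M is an R-submodule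
of S' containing 1 which is free of rank 3, then M is spanned by 1, (f₁, 0) and (f₂, 0) for some
power series f₁, f₂ whose x-adic valuations are distinct modulo 2. (Items (2) and (3) of the
published proposition, on the base change of M to R[s] / (s ^ 2 - t), are not restated.) -/
theorem result {k : Type u} [Field k] [IsAlgClosed k] [CharZero k]
    (M : Submodule (PowerSeries k) (W4c1hurwitzcpt.RootDisk 2 k × PowerSeries k))
    (h1 : (1 : (W4c1hurwitzcpt.RootDisk 2 k × PowerSeries k)) ∈ M)
    (bM : Module.Basis (Fin 3) (PowerSeries k) M) :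
    ∃ f₁ f₂ : W4c1hurwitzcpt.RootDisk 2 k,
      ¬ Nat.ModEq 2 (PowerSeries.order (W4c1hurwitzcpt.RootDisk.val (f₁ : W4c1hurwitzcpt.RootDisk 2 k))).toNat (PowerSeries.order (W4c1hurwitzcpt.RootDisk.val (f₂ : W4c1hurwitzcpt.RootDisk 2 k))).toNat ∧
      M = Submodule.span (PowerSeries k) {(1 : (W4c1hurwitzcpt.RootDisk 2 k × PowerSeries k)), (f₁, 0), (f₂, 0)} := by
  classical
  set bT := (basis 2 k).prod (Module.Basis.singleton (Fin 1) (PowerSeries k)) with hbT
  have hfr : Module.finrank (PowerSeries k) M =
      Module.finrank (PowerSeries k) (RootDisk 2 k × PowerSeries k) := by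
    rw [Module.finrank_eq_card_basis bM, Module.finrank_eq_card_basis bT]
    simp
  obtain ⟨d, hd0, hd⟩ := exists_smul_mem_of_finrank_eq bT M hfr
  obtain ⟨N, hN⟩ := exists_X_pow_smul_mem M d hd0 hd
  set M₀ : Submodule (PowerSeries k) (RootDisk 2 k) :=
    Submodule.comap (LinearMap.inl (PowerSeries k) (RootDisk 2 k) (PowerSeries k)) M with hM₀
  have hfull : ∀ s : RootDisk 2 k, (PowerSeries.X ^ N : PowerSeries k) • s ∈ M₀ := by
    intro s
    rw [hM₀, Submodule.mem_comap, map_smul]
    exact hN _
  obtain ⟨g, n, hgord, hnr, hli, hspan⟩ := exists_reduced_system M₀ ⟨N, hfull⟩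
  have hgM : ∀ r, ((g r, 0) : RootDisk 2 k × PowerSeries k) ∈ M := fun r => by
    have : g r ∈ M₀ := by rw [← hspan]; exact Submodule.subset_span ⟨r, rfl⟩
    exact this
  refine ⟨g 0, g 1, ?_, ?_⟩
  · rw [hgord, hgord, ENat.toNat_coe, ENat.toNat_coe]
    unfold Nat.ModEq
    rw [hnr 0, hnr 1]
    decide
  · apply le_antisymm
    · rintro ⟨s, a⟩ hsa
      have h2 : ((s - a • (1 : RootDisk 2 k), 0) : RootDisk 2 k × PowerSeries k) ∈ M := by
        have : ((s - a • (1 : RootDisk 2 k), 0) : RootDisk 2 k × PowerSeries k) =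
            (s, a) - a • (1 : RootDisk 2 k × PowerSeries k) := by
          ext <;> simp
        rw [this]
        exact M.sub_mem hsa (M.smul_mem _ h1)
      have h3 : s - a • (1 : RootDisk 2 k) ∈ Submodule.span (PowerSeries k) (Set.range g) := by
        rw [hspan]; exact h2
      rw [Submodule.mem_span_range_iff_exists_fun] at h3
      obtain ⟨c, hc⟩ := h3
      rw [Fin.sum_univ_two] at hc
      rw [Submodule.mem_span_triple]
      refine ⟨a, c 0, c 1, ?_⟩
      ext
      · simp only [Prod.fst_add, Prod.smul_fst, Prod.fst_one]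
        rw [add_assoc, hc]; abel
      · simp
    · rw [Submodule.span_le]
      rintro w (rfl | rfl | rfl)
      · exact h1
      · exact hgM 0
      · exact hgM 1

end Groth.Agent.S13885
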