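import Groth.Statements.S13886
import Mathlib
import Groth.Agent.S13878
import Groth.Agent.S13879

set_option autoImplicit false
universe u
open Crimp

namespace Groth.Agent.S13886

section Helpers
open PowerSeries
open Groth.Agent.S13878

variable {k : Type u} [Field k]

lemma indep_two (f : Fin 3 → PowerSeries k)
    (hf : f ∉ Submodule.span (PowerSeries k) {(1 : (Fin 3 → PowerSeries k))} ⊔
      Ideal.span {(PowerSeries.X : PowerSeries k)} •
        (⊤ : Submodule (PowerSeries k) (Fin 3 → PowerSeries k))) :
    LinearIndependent k ![cc (1 : Fin 3 → PowerSeries k), cc f] := by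
  have h0 : cc (1 : Fin 3 → PowerSeries k) ≠ 0 := by
    intro h
    have := congrFun h 0
    simp [cc_one] at this
  rw [LinearIndependent.pair_iff' h0]
  intro a ha
  apply hf
  have h1 : cc (f - C a • (1 : Fin 3 → PowerSeries k)) = 0 := by
    rw [cc_sub, cc_C_smul, ha, sub_self]
  have h2 := mem_of_cc_eq_zero h1
  have : f = C a • (1 : Fin 3 → PowerSeries k) + (f - C a • (1 : Fin 3 → PowerSeries k)) := by abel
  rw [this]
  exact Submodule.add_mem_sup (Submodule.smul_mem _ _ (Submodule.subset_span rfl)) h2

lemma exists_third (f : Fin 3 → PowerSeries k)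
    (hf : LinearIndependent k ![cc (1 : Fin 3 → PowerSeries k), cc f]) :
    ∃ g : Fin 3 → PowerSeries k,
      LinearIndependent k ![cc g, cc (1 : Fin 3 → PowerSeries k), cc f] := by
  by_contra hcon
  push Not at hcon
  have hspan : Submodule.span k (Set.range ![cc (1 : Fin 3 → PowerSeries k), cc f]) = ⊤ := by
    rw [eq_top_iff]
    intro z _
    by_contra hz
    apply hcon (fun i => C (z i))
    have : cc (fun i => C (z i)) = z := by funext i; simp [cc]
    rw [this]
    exact linearIndependent_finCons.mpr ⟨hf, hz⟩
  have h3 := finrank_range_le_card (R := k) ![cc (1 : Fin 3 → PowerSeries k), cc f]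
  rw [Set.finrank, hspan, finrank_top, Module.finrank_fin_fun] at h3
  simp at h3


lemma quot_iso (m n : ℕ) (hmn : m ≤ n) (f : Fin 3 → PowerSeries k)
    (hf : f ∉ Submodule.span (PowerSeries k) {(1 : (Fin 3 → PowerSeries k))} ⊔
      Ideal.span {(PowerSeries.X : PowerSeries k)} •
        (⊤ : Submodule (PowerSeries k) (Fin 3 → PowerSeries k))) :
    Nonempty (((Fin 3 → PowerSeries k) ⧸
      (Submodule.span (PowerSeries k)
          {(1 : (Fin 3 → PowerSeries k)), ((PowerSeries.X : PowerSeries k) ^ m) • f} ⊔
        Ideal.span {(PowerSeries.X : PowerSeries k) ^ n} •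
          (⊤ : Submodule (PowerSeries k) (Fin 3 → PowerSeries k)))) ≃ₗ[PowerSeries k]
      ((PowerSeries k ⧸ Ideal.span {(PowerSeries.X : PowerSeries k) ^ m}) ×
        (PowerSeries k ⧸ Ideal.span {(PowerSeries.X : PowerSeries k) ^ n}))) := by
  obtain ⟨g, hg⟩ := exists_third f (indep_two f hf)
  set x : Fin 3 → (Fin 3 → PowerSeries k) := ![g, 1, f] with hx
  have hxi : LinearIndependent k (fun i => cc (x i)) := by
    convert hg using 1
    funext i
    fin_cases i <;> rfl
  have hspan : ⊤ ≤ Submodule.span (PowerSeries k) (Set.range x) := by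
    intro y _
    obtain ⟨a, b, c, rfl⟩ := exists_repr x hxi y
    exact Submodule.add_mem _ (Submodule.add_mem _
      (Submodule.smul_mem _ _ (Submodule.subset_span ⟨0, rfl⟩))
      (Submodule.smul_mem _ _ (Submodule.subset_span ⟨1, rfl⟩)))
      (Submodule.smul_mem _ _ (Submodule.subset_span ⟨2, rfl⟩))
  let B : Module.Basis (Fin 3) (PowerSeries k) (Fin 3 → PowerSeries k) :=
    basisOfTopLeSpanOfCardEqFinrank x hspan (by simp)
  have hB : ∀ i, B i = x i := fun i => by
    simp only [B, coe_basisOfTopLeSpanOfCardEqFinrank]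
  let φ : (Fin 3 → PowerSeries k) →ₗ[PowerSeries k]
      ((PowerSeries k ⧸ Ideal.span {(PowerSeries.X : PowerSeries k) ^ m}) ×
        (PowerSeries k ⧸ Ideal.span {(PowerSeries.X : PowerSeries k) ^ n})) :=
    LinearMap.prod ((Submodule.mkQ _) ∘ₗ B.coord 2) ((Submodule.mkQ _) ∘ₗ B.coord 0)
  have hφ : ∀ a b c : PowerSeries k, φ (a • g + b • 1 + c • f) =
      (Ideal.Quotient.mk _ c, Ideal.Quotient.mk _ a) := by
    intro a b c
    have h0 : g = B 0 := (hB 0).symm
    have h1 : (1 : Fin 3 → PowerSeries k) = B 1 := (hB 1).symm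
    have h2 : f = B 2 := (hB 2).symm
    rw [h0, h1, h2]
    simp [φ, Module.Basis.coord_apply]
  have hrep : ∀ y, ∃ a b c : PowerSeries k, y = a • g + b • 1 + c • f := fun y =>
    exists_repr x hxi y
  have hsurj : Function.Surjective φ := by
    rintro ⟨q1, q2⟩
    obtain ⟨c, rfl⟩ := Ideal.Quotient.mk_surjective q1
    obtain ⟨a, rfl⟩ := Ideal.Quotient.mk_surjective q2
    exact ⟨a • g + 0 • 1 + c • f, hφ a 0 c⟩
  have hker : LinearMap.ker φ = Submodule.span (PowerSeries k)
          {(1 : (Fin 3 → PowerSeries k)), ((PowerSeries.X : PowerSeries k) ^ m) • f} ⊔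
        Ideal.span {(PowerSeries.X : PowerSeries k) ^ n} •
          (⊤ : Submodule (PowerSeries k) (Fin 3 → PowerSeries k)) := by
    apply le_antisymm
    · intro y hy
      obtain ⟨a, b, c, rfl⟩ := hrep y
      rw [LinearMap.mem_ker, hφ, Prod.mk_eq_zero, Ideal.Quotient.eq_zero_iff_mem,
        Ideal.Quotient.eq_zero_iff_mem, Ideal.mem_span_singleton, Ideal.mem_span_singleton] at hy
      obtain ⟨⟨c', rfl⟩, ⟨a', rfl⟩⟩ := hy
      have : ((X : PowerSeries k) ^ n * a') • g + b • (1 : Fin 3 → PowerSeries k) +
          ((X : PowerSeries k) ^ m * c') • f =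
          (b • 1 + c' • ((X : PowerSeries k) ^ m • f)) + (X : PowerSeries k) ^ n • (a' • g) := by
        simp only [mul_smul, smul_comm c' ((X : PowerSeries k) ^ m)]
        abel
      rw [this]
      refine Submodule.add_mem_sup ?_ ?_
      · exact Submodule.add_mem _ (Submodule.smul_mem _ _ (Submodule.subset_span (by simp)))
          (Submodule.smul_mem _ _ (Submodule.subset_span (by simp)))
      · exact Submodule.smul_mem_smul (Ideal.mem_span_singleton_self _) Submodule.mem_top
    · refine sup_le ?_ ?_
      · rw [Submodule.span_le]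
        intro y hy
        rcases hy with rfl | rfl
        · have := hφ 0 1 0
          simp only [zero_smul, one_smul, zero_add, add_zero, map_zero] at this
          exact this
        · have := hφ 0 0 ((X : PowerSeries k) ^ m)
          simp only [zero_smul, zero_add, map_zero] at this
          rw [SetLike.mem_coe, LinearMap.mem_ker, this, Prod.mk_eq_zero]
          exact ⟨Ideal.Quotient.eq_zero_iff_mem.mpr (Ideal.mem_span_singleton_self _), rfl⟩
      · rw [Submodule.smul_le]
        intro r hr y _
        rw [Ideal.mem_span_singleton] at hr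
        obtain ⟨a, b, c, rfl⟩ := hrep y
        have : r • (a • g + b • (1 : Fin 3 → PowerSeries k) + c • f) =
            (r * a) • g + (r * b) • 1 + (r * c) • f := by
          simp only [smul_add, mul_smul]
        rw [LinearMap.mem_ker, this, hφ, Prod.mk_eq_zero, Ideal.Quotient.eq_zero_iff_mem,
          Ideal.Quotient.eq_zero_iff_mem, Ideal.mem_span_singleton, Ideal.mem_span_singleton]
        exact ⟨((pow_dvd_pow (X : PowerSeries k) hmn).trans hr).mul_right c, hr.mul_right a⟩
  exact ⟨(Submodule.quotEquivOfEq _ _ hker.symm).trans (φ.quotKerEquivOfSurjective hsurj)⟩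


end Helpers

/-- Over R = k⟦t⟧ with k an algebraically closed field of characteristic zero, let S' = R × R × R be the
unramified triple cover of the formal disk and let m ≤ n ≤ 2m be natural numbers. For every f in S'
not lying in R·1 + t S', the R-submodule S = R·1 + R·(t ^ m f) + t ^ n S' is closed under
multiplication, hence an R-subalgebra (a crimp), and S' / S is isomorphic to R / (t ^ m) ⊕ R / (t ^
n) (so the crimp has μ-invariant n - m and branch divisor (t ^ (2(m+n)))). Together with the
structure result for submodules with this quotient, this identifies the k-points of the space of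
crimps of splitting type (m, n), 2m ≥ n, with the submodules of this shape. (The published statement
moreover asserts that this stratum is an irreducible variety of dimension n - m; that part is not
restated.) -/
theorem result {k : Type u} [Field k] [IsAlgClosed k] [CharZero k]
    (m n : ℕ) (hmn : m ≤ n) (hn : n ≤ 2 * m)
    (f : (Fin 3 → PowerSeries k)) (hf : f ∉ Submodule.span (PowerSeries k) {(1 : (Fin 3 → PowerSeries k))} ⊔ Ideal.span {(PowerSeries.X : PowerSeries k)} • (⊤ : Submodule (PowerSeries k) (Fin 3 → PowerSeries k)))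
    (S : Submodule (PowerSeries k) (Fin 3 → PowerSeries k))
    (hS : S = Submodule.span (PowerSeries k) {(1 : (Fin 3 → PowerSeries k)), ((PowerSeries.X : PowerSeries k) ^ m) • f} ⊔
        Ideal.span {(PowerSeries.X : PowerSeries k) ^ n} • (⊤ : Submodule (PowerSeries k) (Fin 3 → PowerSeries k))) :
    (∀ x ∈ S, ∀ y ∈ S, x * y ∈ S) ∧
    Nonempty (((Fin 3 → PowerSeries k) ⧸ S) ≃ₗ[PowerSeries k]
      ((PowerSeries k ⧸ Ideal.span {(PowerSeries.X : PowerSeries k) ^ m}) × (PowerSeries k ⧸ Ideal.span {(PowerSeries.X : PowerSeries k) ^ n}))) := by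
  refine ⟨?_, ?_⟩
  · rw [Groth.Agent.S13879.result m n f S hS]
    have h2 : (PowerSeries.X : PowerSeries k) ^ (2 * m) • (f * f) =
        (PowerSeries.X : PowerSeries k) ^ n • ((PowerSeries.X : PowerSeries k) ^ (2 * m - n) • (f * f)) := by
      rw [smul_smul, ← pow_add]
      congr 2
      omega
    rw [h2, hS]
    exact Submodule.mem_sup_right
      (Submodule.smul_mem_smul (Ideal.mem_span_singleton_self _) Submodule.mem_top)
  · subst hS
    exact quot_iso m n hmn f hf

end Groth.Agent.S13886
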