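import Groth.Statements.S13888
import Mathlib.CategoryTheory.Yoneda

set_option autoImplicit false
universe u
open CategoryTheory CategoryTheory.Limits MonoidalCategory
attribute [local instance] HasDerivedCategory.standard
open DTen

namespace Groth.Agent.S13888

open CategoryTheory CategoryTheory.Limits MonoidalCategory in
attribute [local instance] HasDerivedCategory.standard in
/-- Naturality of the associator of `D(A)` in its first variable. -/
theorem associator_natural_left (A : Type u) [CommRing A] [DTen.HasLTen A] [DTen.HasLTen₃ A]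
    [DTen.IsSymMonoidal A] {T R : Dual.D A} (g : T ⟶ R) (K L : Dual.D A) :
    (DTen.LTen₂ A).map (Prod.mkHom ((DTen.LTen₂ A).map (Prod.mkHom g (𝟙 K))) (𝟙 L)) ≫
        (DTen.associator R K L).hom =
      (DTen.associator T K L).hom ≫
        (DTen.LTen₂ A).map (Prod.mkHom g (𝟙 ((DTen.LTen₂ A).obj (K, L)))) := by
  let f : ((T, (K, L)) : Dual.D A × (Dual.D A × Dual.D A)) ⟶ (R, (K, L)) :=
    Prod.mkHom g (Prod.mkHom (𝟙 K) (𝟙 L))
  have hL := (DTen.assocL A).naturality f
  have hR := (DTen.assocR A).naturality f
  have e1 : (DTen.LTenL A).map f =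
      (DTen.LTen₂ A).map (Prod.mkHom ((DTen.LTen₂ A).map (Prod.mkHom g (𝟙 K))) (𝟙 L)) := rfl
  have e2 : (DTen.LTenR A).map f =
      (DTen.LTen₂ A).map (Prod.mkHom g (𝟙 ((DTen.LTen₂ A).obj (K, L)))) := by
    change (DTen.LTen₂ A).map (Prod.mkHom g ((DTen.LTen₂ A).map (Prod.mkHom (𝟙 K) (𝟙 L)))) = _
    congr 2
    erw [← prod_id, CategoryTheory.Functor.map_id]
  rw [e1] at hL
  rw [e2] at hR
  have h3 : (DTen.associator R K L).hom ≫ (DTen.assocR A).app (R, (K, L)) =
      (DTen.assocL A).app (R, (K, L)) := DTen.associator_hom_assocR R K L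
  have h4 : (DTen.associator T K L).hom ≫ (DTen.assocR A).app (T, (K, L)) =
      (DTen.assocL A).app (T, (K, L)) := DTen.associator_hom_assocR T K L
  have hiso : IsIso ((DTen.assocR A).app (R, (K, L))) := inferInstance
  rw [← cancel_mono ((DTen.assocR A).app (R, (K, L)))]
  rw [Category.assoc, h3, Category.assoc, hR, ← Category.assoc, h4]
  exact hL

/-- For a commutative ring `A` (assuming the derived tensor product on `D(A)` with its triple version
exists, that its symmetry, unit and associativity maps are isomorphisms, and that every `- ⊗^L L`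
has a right adjoint `RHom(L, -)`) and objects `K`, `L`, `M` of `D(A)`, the canonical morphism
`RHom(K ⊗^L L, M) ⟶ RHom(K, RHom(L, M))`, namely the double adjunct of the associativity isomorphism
followed by evaluation at `K ⊗^L L`, is an isomorphism. (Functoriality in the three objects is built
into the construction; the identification on `H^0` with the hom bijection of the adjunction is not
part of this row.) -/
theorem result (A : Type u) [CommRing A] [DTen.HasLTen A] [DTen.HasLTen₃ A]
    [DTen.IsSymMonoidal A] [DTen.HasRHom A] (K L M : Dual.D A) :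
    IsIso (DTen.curryHom K L M) := by
  -- Yoneda: composition with `curryHom` is a bijection on `Hom(T, -)` for all `T`
  have key : ∀ (T : Dual.D A) (g : T ⟶ (DTen.RHomR A ((DTen.LTen₂ A).obj (K, L))).obj M),
      g ≫ DTen.curryHom K L M =
        DTen.rhomHomEquiv _ _ _ (DTen.rhomHomEquiv _ _ _
          ((DTen.associator T K L).hom ≫ (DTen.rhomHomEquiv T _ M).symm g)) := by
    intro T g
    unfold DTen.curryHom
    have h1 := (DTen.rhomAdj A K).homEquiv_naturality_left g
      (DTen.rhomHomEquiv _ _ _ (DTen.curryHomAux K L M))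
    have h2 := (DTen.rhomAdj A L).homEquiv_naturality_left ((DTen.tensorRightD A K).map g)
      (DTen.curryHomAux K L M)
    refine h1.symm.trans ?_
    refine congrArg _ (h2.symm.trans ?_)
    refine congrArg _ ?_
    unfold DTen.curryHomAux
    change (DTen.LTen₂ A).map (Prod.mkHom ((DTen.LTen₂ A).map (Prod.mkHom g (𝟙 K))) (𝟙 L)) ≫ _ = _
    rw [← Category.assoc, associator_natural_left, Category.assoc]
    congr 1
  have hbij : ∀ T : Dual.D A, Function.Bijective
      (fun g : T ⟶ (DTen.RHomR A ((DTen.LTen₂ A).obj (K, L))).obj M => g ≫ DTen.curryHom K L M) := by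
    intro T
    have : (fun g : T ⟶ (DTen.RHomR A ((DTen.LTen₂ A).obj (K, L))).obj M =>
        g ≫ DTen.curryHom K L M) =
        fun g => DTen.rhomHomEquiv _ _ _ (DTen.rhomHomEquiv _ _ _
          ((DTen.associator T K L).hom ≫ (DTen.rhomHomEquiv T _ M).symm g)) := by
      funext g
      exact key T g
    rw [this]
    refine (Equiv.bijective _).comp ((Equiv.bijective _).comp ?_)
    refine Function.Bijective.comp (g := fun h => (DTen.associator T K L).hom ≫ h) ?_
      (Equiv.bijective _)
    exact (Iso.homFromEquiv (DTen.associator T K L).symm).bijective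
  exact isIso_of_yoneda_map_bijective _ hbij

end Groth.Agent.S13888
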