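import Groth.Statements.S1389
-- import your own Groth.Agent.* helpers here

set_option autoImplicit false
universe u
open FlatMor

namespace Groth.Agent.S1389

open AlgebraicGeometry CategoryTheory Limits in
/-- Let (U, u) and (U', u') be étale neighbourhoods of a point s of S and h₁, h₂ two S-morphisms U → U'
sending u to u' which induce the same map of residue fields κ(u') → κ(u). Then there is an étale
neighbourhood (U'', u'') of s with an S-morphism h : U'' → U sending u'' to u and with h followed by
h₁ equal to h followed by h₂. -/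
theorem result {S U U' : Scheme.{u}} (s : S) (g : U ⟶ S) (g' : U' ⟶ S) [Etale g] [Etale g'] (u : U) (u' : U')
    (hu : g u = s) (hu' : g' u' = s) (h₁ h₂ : U ⟶ U') (w₁ : h₁ ≫ g' = g) (w₂ : h₂ ≫ g' = g) (e₁ : h₁ u = u') (e₂ : h₂ u = u')
    (hres : (U'.residueFieldCongr e₁).inv ≫ h₁.residueFieldMap u = (U'.residueFieldCongr e₂).inv ≫ h₂.residueFieldMap u) :
    ∃ (U'' : Scheme.{u}) (g'' : U'' ⟶ S) (u'' : U'') (h : U'' ⟶ U), Etale g'' ∧ g'' u'' = s ∧ h ≫ g = g'' ∧ h u'' = u ∧ h ≫ h₁ = h ≫ h₂ := by
  have w : h₁ ≫ g' = h₂ ≫ g' := w₁.trans w₂.symm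
  let k : U ⟶ pullback g' g' := pullback.lift h₁ h₂ w
  -- the two compositions `Spec κ(u) ⟶ U'` agree
  have key : U.fromSpecResidueField u ≫ h₁ = U.fromSpecResidueField u ≫ h₂ := by
    rw [← Scheme.Hom.SpecMap_residueFieldMap_fromSpecResidueField,
      ← Scheme.Hom.SpecMap_residueFieldMap_fromSpecResidueField,
      ← Scheme.residueFieldCongr_fromSpecResidueField e₁.symm,
      ← Scheme.residueFieldCongr_fromSpecResidueField (x := u') (y := h₂ u) e₂.symm,
      ← Spec.map_comp_assoc, ← Spec.map_comp_assoc]
    congr 2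
  let U'' := pullback k (pullback.diagonal g')
  let h : U'' ⟶ U := pullback.fst k (pullback.diagonal g')
  have hh : h ≫ h₁ = h ≫ h₂ := by
    have c := pullback.condition (f := k) (g := pullback.diagonal g')
    have c1 := congr($c ≫ pullback.fst g' g')
    have c2 := congr($c ≫ pullback.snd g' g')
    simp only [Category.assoc, pullback.diagonal_fst, pullback.diagonal_snd, k, pullback.lift_fst,
      pullback.lift_snd] at c1 c2
    exact c1.trans c2.symm
  let l : Spec (U.residueField u) ⟶ U'' :=
    pullback.lift (U.fromSpecResidueField u) (U.fromSpecResidueField u ≫ h₁) (by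
      ext
      · simp only [k, Category.assoc, pullback.lift_fst, pullback.diagonal_fst, Category.comp_id]
      · simp only [k, Category.assoc, pullback.lift_snd, pullback.diagonal_snd, Category.comp_id, key])
  let pt : Spec (U.residueField u) := default
  have hl : h (l pt) = u := by
    rw [← Scheme.Hom.comp_apply]
    simp only [h, l, pullback.lift_fst, Scheme.fromSpecResidueField_apply]
  refine ⟨U'', h ≫ g, l pt, h, inferInstance, ?_, rfl, hl, hh⟩
  rw [Scheme.Hom.comp_apply, hl, hu]

end Groth.Agent.S1389
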