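import Groth.Statements.S13891
import Groth.Agent.Lib.Helper13.DTenDev8


set_option autoImplicit false
universe u
open CategoryTheory CategoryTheory.Limits MonoidalCategory
attribute [local instance] HasDerivedCategory.standard
open DTen

namespace Groth.Agent.S13891

/-- For a commutative ring `A` (assuming the derived tensor product on `D(A)` with its triple version
exists, that its symmetry, unit and associativity maps are isomorphisms, and that every `- ⊗^L L`
has a right adjoint `RHom(L, -)`) and objects `K`, `L`, `M` of `D(A)` with `M` perfect, the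
canonical morphism `K ⊗^L RHom(M, L) ⟶ RHom(M, K ⊗^L L)` (the adjunct of the associativity
isomorphism followed by `K ⊗^L` the evaluation at `M`) is an isomorphism. -/
theorem result (A : Type u) [CommRing A] [DTen.HasLTen A] [DTen.HasLTen₃ A]
    [DTen.IsSymMonoidal A] [DTen.HasRHom A] (K L M : Dual.D A)
    (hM : DRing.IsPerfect A M) :
    IsIso (DTen.evalTen K L M) := by

  open Groth.Agent.Lib.Helper13.DV CategoryTheory.Pretriangulated Opposite in
  classical
  let S : (Dual.D A)ᵒᵖ ⥤ Dual.D A := (RHom A).flip.obj L ⋙ (LTen A).obj K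
  let T : (Dual.D A)ᵒᵖ ⥤ Dual.D A := (RHom A).flip.obj ((LTen₂ A).obj (K, L))
  let η : S ⟶ T :=
    { app := fun M => evalTen K L M.unop
      naturality := fun M M' f => evalTen_naturality_third K L f.unop }
  have hS : ∀ T₀ : Triangle (Dual.D A), T₀ ∈ distTriang (Dual.D A) →
      MidExact (S.map T₀.mor₂.op) (S.map T₀.mor₁.op) := by
    intro T₀ hT₀
    obtain ⟨T₁, hT₁, e₁, e₂, e₃, c₁, c₂⟩ := exists_distTriang_RHom T₀ hT₀ L
    refine (midExact_LTen₂_right T₁ hT₁ K).of_iso
      ((LTen₂ A).mapIso (Iso.prod (Iso.refl K) e₁)) ((LTen₂ A).mapIso (Iso.prod (Iso.refl K) e₂))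
      ((LTen₂ A).mapIso (Iso.prod (Iso.refl K) e₃)) ?_ ?_
    · change (LTen₂ A).map (Prod.mkHom (𝟙 K) T₁.mor₁) ≫ (LTen₂ A).map (Prod.mkHom (𝟙 K) e₂.hom) =
        (LTen₂ A).map (Prod.mkHom (𝟙 K) e₁.hom) ≫
          (LTen₂ A).map (Prod.mkHom (𝟙 K) (RHomMap T₀.mor₂ L))
      rw [LTen₂_map_comp, LTen₂_map_comp, c₁]
    · change (LTen₂ A).map (Prod.mkHom (𝟙 K) T₁.mor₂) ≫ (LTen₂ A).map (Prod.mkHom (𝟙 K) e₃.hom) =
        (LTen₂ A).map (Prod.mkHom (𝟙 K) e₂.hom) ≫
          (LTen₂ A).map (Prod.mkHom (𝟙 K) (RHomMap T₀.mor₁ L))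
      rw [LTen₂_map_comp, LTen₂_map_comp, c₂]
  have hT : ∀ T₀ : Triangle (Dual.D A), T₀ ∈ distTriang (Dual.D A) →
      MidExact (T.map T₀.mor₂.op) (T.map T₀.mor₁.op) :=
    fun T₀ hT₀ => midExact_RHomMap T₀ hT₀ _
  have hbase : ∀ n : ℤ, IsIso (η.app (op
      ((shiftFunctor (Dual.D A) n).obj
        ((DerivedCategory.singleFunctor (ModuleCat.{u} A) 0).obj (ModuleCat.of A A))))) := by
    intro n
    rw [NatTrans.isIso_app_iff_of_iso η (singleShiftIso (A := A) n).symm.op]
    have := isEquivalence_flip_of_isInvertible _ (isInvertible_shift_unit (A := A) n)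
    exact isIso_evalTen_of_isEquivalence_third K L _
  exact isIso_app_op_of_isPerfect η hS hT hbase M hM

end Groth.Agent.S13891
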