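import Groth.Statements.S13904
import Groth.Agent.Lib.Helper12.IntegralDim
import Mathlib.RingTheory.KrullDimension.Polynomial
import Mathlib.RingTheory.KrullDimension.Field
import Mathlib.RingTheory.KrullDimension.NonZeroDivisors
import Mathlib.RingTheory.RingHom.Integral
-- import your own Groth.Agent.* helpers here

set_option autoImplicit false
universe u
open CAlg

namespace Groth.Agent.S13904

/-- Let k be a field, A a commutative k-algebra and φ : k[x_1, …, x_r] → A a finite k-algebra map such
that A/p has Krull dimension r for every minimal prime p of A (an equidimensional affine scheme of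
dimension r, finite over affine r-space). Then for every minimal prime p of A and every prime q of
k[x_1, …, x_r] there is a prime P ⊇ p of A with φ⁻¹(P) = q: the finite map restricted to each
irreducible component of Spec A is surjective onto affine r-space. (The published statement is over
an algebraically closed field with φ a Noether normalisation; this row allows any field and any
finite k-algebra map φ.) -/
theorem result (k : Type u) [Field k] (r : ℕ)
    (A : Type u) [CommRing A] [Algebra k A] (φ : MvPolynomial (Fin r) k →ₐ[k] A)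
    (hφ : φ.toRingHom.Finite)
    (hdim : ∀ p ∈ minimalPrimes A, ringKrullDim (A ⧸ p) = r)
    (p : Ideal A) (hp : p ∈ minimalPrimes A)
    (q : Ideal (MvPolynomial (Fin r) k)) [q.IsPrime] :
    ∃ P : Ideal A, P.IsPrime ∧ p ≤ P ∧ P.comap φ.toRingHom = q := by
  classical
  set B := MvPolynomial (Fin r) k with hB
  let ψ : B →+* A ⧸ p := (Ideal.Quotient.mk p).comp φ.toRingHom
  have hpp : p.IsPrime := hp.1.1
  have hψfin : ψ.Finite :=
    RingHom.Finite.comp (RingHom.Finite.of_surjective _ Ideal.Quotient.mk_surjective) hφ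
  -- dimension of B
  have hdimB : ringKrullDim B = r := by
    change ringKrullDim (MvPolynomial (Fin r) k) = r
    rw [MvPolynomial.ringKrullDim_of_isNoetherianRing, ringKrullDim_eq_zero_of_field]
    simp
  -- the kernel of ψ is zero
  have hker : RingHom.ker ψ = ⊥ := by
    by_contra hne
    obtain ⟨b, hbI, hb0⟩ := Submodule.exists_mem_ne_zero_of_ne_bot hne
    have hbnz : b ∈ nonZeroDivisors B := mem_nonZeroDivisors_of_ne_zero hb0
    have h1 := ringKrullDim_quotient_succ_le_of_nonZeroDivisor hbnz
    have hle : Ideal.span {b} ≤ RingHom.ker ψ := (Ideal.span_singleton_le_iff_mem _).2 hbI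
    have h2 : ringKrullDim (B ⧸ RingHom.ker ψ) ≤ ringKrullDim (B ⧸ Ideal.span {b}) :=
      ringKrullDim_le_of_surjective (Ideal.Quotient.factor hle)
        (Ideal.Quotient.factor_surjective hle)
    -- B ⧸ ker ψ → A ⧸ p is injective and integral
    letI : Algebra (B ⧸ RingHom.ker ψ) (A ⧸ p) := (RingHom.kerLift ψ).toAlgebra
    have hfin2 : (RingHom.kerLift ψ).Finite := by
      apply RingHom.Finite.of_comp_finite (f := Ideal.Quotient.mk (RingHom.ker ψ))
      have : (RingHom.kerLift ψ).comp (Ideal.Quotient.mk (RingHom.ker ψ)) = ψ := by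
        ext x <;> simp [RingHom.kerLift_mk]
      rw [this]
      exact hψfin
    haveI : Algebra.IsIntegral (B ⧸ RingHom.ker ψ) (A ⧸ p) :=
      algebraMap_isIntegral_iff.mp hfin2.to_isIntegral
    have h3 := Groth.Agent.Lib.Helper12.ringKrullDim_eq_of_isIntegral_of_injective
      (B ⧸ RingHom.ker ψ) (A ⧸ p) (RingHom.kerLift_injective ψ)
    rw [hdim p hp] at h3
    rw [h3] at h2
    rw [hdimB] at h1
    have h4 : ((r : ℕ) : WithBot ℕ∞) + 1 ≤ r := (add_le_add_left h2 1).trans h1
    have h5 : ((r + 1 : ℕ) : WithBot ℕ∞) ≤ ((r : ℕ) : WithBot ℕ∞) := by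
      push_cast
      exact h4
    have h6 : r + 1 ≤ r := by exact_mod_cast h5
    omega
  letI : Algebra B (A ⧸ p) := ψ.toAlgebra
  haveI : Algebra.IsIntegral B (A ⧸ p) := algebraMap_isIntegral_iff.mp hψfin.to_isIntegral
  obtain ⟨Q, -, hQp, hQ⟩ := Ideal.exists_ideal_over_prime_of_isIntegral q (⊥ : Ideal (A ⧸ p)) (by
    rw [← RingHom.ker_eq_comap_bot]
    change RingHom.ker ψ ≤ q
    rw [hker]
    exact bot_le)
  refine ⟨Q.comap (Ideal.Quotient.mk p), Ideal.comap_isPrime _ _, ?_, ?_⟩
  · intro x hx
    rw [Ideal.mem_comap, Ideal.Quotient.eq_zero_iff_mem.2 hx]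
    exact Q.zero_mem
  · rw [Ideal.comap_comap]
    exact hQ

end Groth.Agent.S13904
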