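import Groth.Statements.S13905
import Mathlib.LinearAlgebra.FiniteDimensional.Lemmas
import Mathlib.LinearAlgebra.Dimension.Constructions
import Mathlib.LinearAlgebra.FiniteDimensional.Basic

set_option autoImplicit false
universe u
open ProjGeom

namespace Groth.Agent.S13905

/-- A hyperplane `H` (of dimension `n` in a space of dimension `n + 1`) not containing `W` cuts the
dimension of `W` by exactly one. -/
theorem finrank_inf_hyperplane (k V : Type u) [Field k] [AddCommGroup V] [Module k V] (n : ℕ)
    (hV : Module.finrank k V = n + 1) (H W : Submodule k V) (hH : Module.finrank k H = n)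
    (hW : ¬ W ≤ H) : Module.finrank k ↥(H ⊓ W) + 1 = Module.finrank k W := by
  have hfd : FiniteDimensional k V := Module.finite_of_finrank_pos (by omega)
  have h1 := Submodule.finrank_sup_add_finrank_inf_eq H W
  have h2 : H < H ⊔ W := by
    refine lt_of_le_of_ne le_sup_left ?_
    intro h
    apply hW
    rw [h]
    exact le_sup_right
  have h3 : Module.finrank k H < Module.finrank k ↥(H ⊔ W) := Submodule.finrank_lt_finrank_of_lt h2
  have h4 : Module.finrank k ↥(H ⊔ W) ≤ Module.finrank k V := Submodule.finrank_le _
  omega

open W4c1etcurveeff3b in
/-- Hyperplanes of projective n-space in general position, in linear-algebra form (V of dimension n + 1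
over a field k, hyperplanes as n-dimensional subspaces, points as nonzero vectors): if S is a finite
set of hyperplanes in general position with at least n members and H is a hyperplane containing none
of the lines cut out by n members of S, then S with H added is again in general position. (The
published statement is for hyperplanes of P^n_k and closed points; a closed point lying on n + 1
members is automatically one of the rational points cut out by n of them, so the condition on
nonzero vectors of V is the same condition.) -/
theorem result (k V : Type u) [Field k]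
    [AddCommGroup V] [Module k V] [DecidableEq (Submodule k V)] (n : ℕ) (S : Finset (Submodule k V))
    (hS : InGeneralPosition k V n S) (hn : n ≤ S.card) (H : Submodule k V)
    (hH : Module.finrank k H = n)
    (havoid : ∀ T ⊆ S, T.card = n → ¬ (T.inf id ≤ H)) :
    InGeneralPosition k V n (insert H S) := by
  classical
  obtain ⟨hV, hmem, hdim, hpt⟩ := hS
  by_cases hHS : H ∈ S
  · rw [Finset.insert_eq_of_mem hHS]
    exact ⟨hV, hmem, hdim, hpt⟩
  have hfd : FiniteDimensional k V := Module.finite_of_finrank_pos (by omega)
  -- any subset of `S` with fewer than `n` elements has intersection not inside `H`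
  have hnot : ∀ T' ⊆ S, T'.card ≤ n → ¬ (T'.inf id ≤ H) := by
    intro T' hT' hcard hle
    obtain ⟨T'', hT'T'', hT''S, hT''card⟩ := Finset.exists_subsuperset_card_eq hT' hcard hn
    exact havoid T'' hT''S hT''card ((Finset.inf_mono hT'T'').trans hle)
  -- decomposition of a subset of `insert H S` containing `H`
  have hdecomp : ∀ T ⊆ insert H S, H ∈ T →
      T.erase H ⊆ S ∧ T = insert H (T.erase H) ∧ T.card = (T.erase H).card + 1 := by
    intro T hT hHT
    refine ⟨?_, (Finset.insert_erase hHT).symm, ?_⟩
    · intro x hx
      rcases Finset.mem_insert.1 (hT (Finset.mem_of_mem_erase hx)) with h | h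
      · exact absurd h (Finset.ne_of_mem_erase hx)
      · exact h
    · rw [Finset.card_erase_of_mem hHT]
      have : 0 < T.card := Finset.card_pos.2 ⟨H, hHT⟩
      omega
  have hsub : ∀ T ⊆ insert H S, H ∉ T → T ⊆ S := by
    intro T hT hHT x hx
    rcases Finset.mem_insert.1 (hT hx) with h | h
    · exact absurd (h ▸ hx) hHT
    · exact h
  refine ⟨hV, ?_, ?_, ?_⟩
  · intro H' hH'
    rcases Finset.mem_insert.1 hH' with h | h
    · rw [h]; exact hH
    · exact hmem H' h
  · intro T hT hcard
    by_cases hHT : H ∈ T
    · obtain ⟨hT'S, hTeq, hTcard⟩ := hdecomp T hT hHT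
      have hc' : (T.erase H).card ≤ n := by omega
      have h1 := hdim (T.erase H) hT'S hc'
      have h2 := finrank_inf_hyperplane k V n hV H ((T.erase H).inf id) hH (hnot _ hT'S hc')
      have h3 : T.inf id = H ⊓ (T.erase H).inf id := by
        conv_lhs => rw [hTeq]
        rw [Finset.inf_insert]
        rfl
      rw [h3]
      omega
    · exact hdim T (hsub T hT hHT) hcard
  · intro v hv T hT hvT
    by_cases hHT : H ∈ T
    · obtain ⟨hT'S, hTeq, hTcard⟩ := hdecomp T hT hHT
      have hvT' : ∀ H' ∈ T.erase H, v ∈ H' := fun H' hH' => hvT H' (Finset.mem_of_mem_erase hH')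
      have hc' := hpt v hv (T.erase H) hT'S hvT'
      by_contra hcon
      have hc'' : (T.erase H).card = n := by omega
      have h1 := hdim (T.erase H) hT'S hc'
      rw [hc''] at h1
      have h1' : Module.finrank k ↥((T.erase H).inf id) = 1 := by omega
      have hvW : v ∈ (T.erase H).inf id := by
        rw [Submodule.mem_finsetInf]
        intro H' hH'
        exact hvT' H' hH'
      apply havoid (T.erase H) hT'S hc''
      intro w hw
      have hw' : w ∈ Submodule.span k {v} := by
        obtain ⟨c, hc⟩ := (finrank_eq_one_iff_of_nonzero' (⟨v, hvW⟩ : ↥((T.erase H).inf id))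
          (by simpa [Subtype.ext_iff] using hv)).1 h1' ⟨w, hw⟩
        rw [Submodule.mem_span_singleton]
        exact ⟨c, by simpa [Subtype.ext_iff] using hc⟩
      exact (Submodule.span_singleton_le_iff_mem v H).2 (hvT H hHT) hw'
    · exact hpt v hv T (hsub T hT hHT) hvT

end Groth.Agent.S13905
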