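import Groth.Statements.S13907
import Mathlib
import Groth.Agent.Helper19.ProjDim4
import Groth.Agent.Helper19.ProjDict2
-- import your own Groth.Agent.* helpers here

set_option autoImplicit false
universe u
open ProjGeom

namespace Groth.Agent.S13907

/-- Over an algebraically closed field k, let C be a nonempty irreducible closed subset of the
underlying space of projective n-space with homogeneous coordinates x_0, …, x_n, and for i ≤ n let
L_i be the linear subspace where x_1, …, x_i vanish. Then there is an index i ≤ n with C ∩ L_i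
nonempty and of topological Krull dimension zero. -/
theorem result (k : Type u) [Field k]
    [IsAlgClosed k] (n : ℕ) (C : Set (ProjectiveSpectrum (CohB1.polyGrading n k)))
    (hC : IsClosed C) (hirr : IsIrreducible C) :
    ∃ i : ℕ, i ≤ n ∧
      (C ∩ ProjectiveSpectrum.zeroLocus (CohB1.polyGrading n k)
          ((fun j : Fin (n + 1) => (MvPolynomial.X j : MvPolynomial (Fin (n + 1)) k)) ''
            {j : Fin (n + 1) | 1 ≤ j.val ∧ j.val ≤ i})).Nonempty ∧
      topologicalKrullDim ↥(C ∩ ProjectiveSpectrum.zeroLocus (CohB1.polyGrading n k)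
          ((fun j : Fin (n + 1) => (MvPolynomial.X j : MvPolynomial (Fin (n + 1)) k)) ''
            {j : Fin (n + 1) | 1 ≤ j.val ∧ j.val ≤ i})) = 0 := by
  classical
  -- membership in the linear subspaces
  have hmemL : ∀ (i : ℕ) (z : ProjectiveSpectrum (CohB1.polyGrading n k)),
      z ∈ ProjectiveSpectrum.zeroLocus (CohB1.polyGrading n k)
        ((fun j : Fin (n + 1) => (MvPolynomial.X j : MvPolynomial (Fin (n + 1)) k)) ''
          {j : Fin (n + 1) | 1 ≤ j.val ∧ j.val ≤ i}) ↔
      ∀ j : Fin (n + 1), 1 ≤ j.val → j.val ≤ i →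
        (MvPolynomial.X j : MvPolynomial (Fin (n + 1)) k) ∈ z.asHomogeneousIdeal.toIdeal := by
    intro i z
    rw [ProjectiveSpectrum.mem_zeroLocus]
    constructor
    · intro h j h1 h2
      exact h ⟨j, ⟨h1, h2⟩, rfl⟩
    · rintro h _ ⟨j, ⟨h1, h2⟩, rfl⟩
      exact h j h1 h2
  obtain ⟨c0, hc0⟩ := hirr.nonempty
  let Q : ℕ → Prop := fun i => (C ∩ ProjectiveSpectrum.zeroLocus (CohB1.polyGrading n k)
      ((fun j : Fin (n + 1) => (MvPolynomial.X j : MvPolynomial (Fin (n + 1)) k)) ''
        {j : Fin (n + 1) | 1 ≤ j.val ∧ j.val ≤ i})).Nonempty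
  have hQ0 : Q 0 := by
    refine ⟨c0, hc0, ?_⟩
    rw [hmemL]
    intro j h1 h2
    omega
  let i₀ := Nat.findGreatest Q n
  have hi₀n : i₀ ≤ n := Nat.findGreatest_le n
  have hQi₀ : Q i₀ := Nat.findGreatest_spec (Nat.zero_le n) hQ0
  refine ⟨i₀, hi₀n, hQi₀, ?_⟩
  have hWc : IsClosed (C ∩ ProjectiveSpectrum.zeroLocus (CohB1.polyGrading n k)
      ((fun j : Fin (n + 1) => (MvPolynomial.X j : MvPolynomial (Fin (n + 1)) k)) ''
        {j : Fin (n + 1) | 1 ≤ j.val ∧ j.val ≤ i₀})) :=
    hC.inter (ProjectiveSpectrum.isClosed_zeroLocus _ _)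
  apply Groth.Agent.Helper19.ProjDict.topologicalKrullDim_eq_zero_of_coheight _ _ hWc hQi₀
  intro y hy
  by_contra hne
  have h1 : 1 ≤ Order.coheight y := Order.one_le_iff_pos.mpr (pos_iff_ne_zero.mpr hne)
  have hyC : y ∈ C := hy.1
  have hyL := (hmemL i₀ y).mp hy.2
  have hXh : ∀ j : Fin (n + 1), (Ideal.span {(MvPolynomial.X j : MvPolynomial (Fin (n + 1)) k)}).IsHomogeneous
      (CohB1.polyGrading n k) := fun j =>
    Groth.Agent.Helper19.ProjDim.span_singleton_isHomogeneous k n _ 1 (MvPolynomial.isHomogeneous_X k j)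
  by_cases hlt : i₀ < n
  · let j : Fin (n + 1) := ⟨i₀ + 1, by omega⟩
    obtain ⟨y', hyy', hjy'⟩ := Groth.Agent.Helper19.ProjDim.exists_pt_section k n y h1
      (MvPolynomial.X j) (hXh j) (Groth.Agent.Helper19.ProjDim.X_mem_mplus k n j)
    have hy'C : y' ∈ C := Groth.Agent.Helper19.ProjDict.closure_singleton_subset_of_mem _ hC hyC
      ((Groth.Agent.Helper19.ProjDict.mem_closure_singleton_iff _ y y').mpr hyy')
    have hQ' : Q (i₀ + 1) := by
      refine ⟨y', hy'C, ?_⟩
      rw [hmemL]
      intro j' h1' h2'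
      by_cases h3 : j'.val ≤ i₀
      · exact (Groth.Agent.Helper19.ProjDim.le_iff_ideal_le k n y y').mp hyy' (hyL j' h1' h3)
      · have : j' = j := by
          apply Fin.ext
          show j'.val = i₀ + 1
          omega
        rw [this]
        exact hjy'
    exact Nat.findGreatest_is_greatest (Nat.lt_succ_self i₀) (by omega) hQ'
  · have hi₀ : i₀ = n := by omega
    obtain ⟨y', hyy', h0y'⟩ := Groth.Agent.Helper19.ProjDim.exists_pt_section k n y h1
      (MvPolynomial.X 0) (hXh 0) (Groth.Agent.Helper19.ProjDim.X_mem_mplus k n 0)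
    obtain ⟨j, hj⟩ := Groth.Agent.Helper19.ProjDim.exists_X_notMem k n y'
    apply hj
    by_cases hj0 : j.val = 0
    · have : j = 0 := Fin.ext hj0
      rw [this]
      exact h0y'
    · exact (Groth.Agent.Helper19.ProjDim.le_iff_ideal_le k n y y').mp hyy'
        (hyL j (by omega) (by rw [hi₀]; exact Nat.lt_succ_iff.mp j.isLt))

end Groth.Agent.S13907
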