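import Groth.Statements.S13913
import Mathlib.RingTheory.MvPolynomial.EulerIdentity
import Mathlib.LinearAlgebra.LinearIndependent.Lemmas
import Mathlib.Tactic
-- import your own Groth.Agent.* helpers here

set_option autoImplicit false
universe u
open PlaneCubic

namespace Groth.Agent.S13913


theorem lin {k : Type*} [Field k] (z : MvPolynomial (Fin 3) k) (hz : z.IsHomogeneous 1) :
    ∃ a : Fin 3 → k, (∀ i, MvPolynomial.pderiv i z = MvPolynomial.C (a i)) ∧
      z = ∑ i, MvPolynomial.C (a i) * MvPolynomial.X i := by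
  have h0 : ∀ i, MvPolynomial.pderiv i z =
      MvPolynomial.C (MvPolynomial.coeff 0 (MvPolynomial.pderiv i z)) := by
    intro i
    have h1 : (MvPolynomial.pderiv i z).IsHomogeneous 0 := hz.pderiv
    have h2 : (MvPolynomial.pderiv i z).totalDegree = 0 :=
      Nat.le_zero.1 h1.totalDegree_le
    exact MvPolynomial.totalDegree_eq_zero_iff_eq_C.1 h2
  refine ⟨fun i => MvPolynomial.coeff 0 (MvPolynomial.pderiv i z), h0, ?_⟩
  have h3 := hz.sum_X_mul_pderiv
  rw [one_smul] at h3
  conv_lhs => rw [← h3]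
  refine Finset.sum_congr rfl fun i _ => ?_
  rw [← h0 i, mul_comm]

/-- Over an algebraically closed field of characteristic zero, for linearly independent linear forms z₁,
z₂ and quadratic forms q₁, q₂ in three variables and a nonzero common zero p of z₁ and z₂, the point
p is a singular point of the plane cubic z₁q₂ − z₂q₁ = 0 (all three partial derivatives vanish at p)
if and only if q₁ and q₂ both vanish at p. -/
theorem result (k : Type u) [Field k] [IsAlgClosed k] [CharZero k]
    (z₁ z₂ q₁ q₂ : MvPolynomial (Fin 3) k) (hz₁ : z₁.IsHomogeneous 1) (hz₂ : z₂.IsHomogeneous 1)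
    (hq₁ : q₁.IsHomogeneous 2) (hq₂ : q₂.IsHomogeneous 2) (hind : LinearIndependent k ![z₁, z₂])
    (p : Fin 3 → k) (hp : p ≠ 0) (hp₁ : MvPolynomial.eval p z₁ = 0) (hp₂ : MvPolynomial.eval p z₂ = 0) :
    (∀ i : Fin 3, MvPolynomial.eval p (MvPolynomial.pderiv i (z₁ * q₂ - z₂ * q₁)) = 0) ↔
      (MvPolynomial.eval p q₁ = 0 ∧ MvPolynomial.eval p q₂ = 0) := by
  obtain ⟨a, ha, hza⟩ := lin z₁ hz₁
  obtain ⟨b, hb, hzb⟩ := lin z₂ hz₂
  have hder : ∀ i : Fin 3, MvPolynomial.eval p (MvPolynomial.pderiv i (z₁ * q₂ - z₂ * q₁)) =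
      a i * MvPolynomial.eval p q₂ - b i * MvPolynomial.eval p q₁ := by
    intro i
    rw [map_sub, Derivation.leibniz, Derivation.leibniz, ha, hb]
    simp only [smul_eq_mul, map_sub, map_add, map_mul, hp₁, hp₂, MvPolynomial.eval_C]
    ring
  constructor
  · intro h
    have h' : ∀ i, a i * MvPolynomial.eval p q₂ - b i * MvPolynomial.eval p q₁ = 0 :=
      fun i => (hder i).symm.trans (h i)
    have hcomb : MvPolynomial.eval p q₂ • z₁ + (-MvPolynomial.eval p q₁) • z₂ = 0 := by
      rw [hza, hzb, Finset.smul_sum, Finset.smul_sum, ← Finset.sum_add_distrib]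
      refine Finset.sum_eq_zero fun i _ => ?_
      rw [MvPolynomial.smul_eq_C_mul, MvPolynomial.smul_eq_C_mul, ← mul_assoc, ← mul_assoc,
        ← add_mul, ← map_mul, ← map_mul, ← map_add]
      have : MvPolynomial.eval p q₂ * a i + -MvPolynomial.eval p q₁ * b i = 0 := by
        linear_combination h' i
      rw [this, map_zero, zero_mul]
    have := (LinearIndependent.pair_iff.1 hind) _ _ hcomb
    exact ⟨neg_eq_zero.1 this.2, this.1⟩
  · rintro ⟨h1, h2⟩ i
    rw [hder, h1, h2]
    ring

end Groth.Agent.S13913
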