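import Groth.Statements.S13916
import Mathlib

set_option autoImplicit false
universe u
open PlaneConic

namespace Groth.Agent.S13916
section Aux
end Aux


/-- Over an algebraically closed field k of characteristic zero, with u_0, u_1, u_2 the coordinate
linear forms of k[X_0, X_1, X_2] and 2 × 2 matrices of linear forms compared up to M ↦ g M h with g,
h invertible scalar matrices: (1) the matrices with rows (u_1, 0), (u_0, u_2) and (u_2, 0), (u_0,
u_1) are not equivalent; (2) for α ≠ 0 the matrix with rows (u_1, 0), (αu_0 + βu_1 + γu_2, u_2) is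
equivalent to the one with rows (u_1, 0), (u_0, u_2). -/
theorem result (k : Type u) [Field k] [IsAlgClosed k] [CharZero k] :
    (¬ ∃ g h : GL (Fin 2) k,
      (MvPolynomial.C : k →+* MvPolynomial (Fin 3) k).mapMatrix g.val *
          !![MvPolynomial.X 1, 0; MvPolynomial.X 0, MvPolynomial.X 2] *
        (MvPolynomial.C : k →+* MvPolynomial (Fin 3) k).mapMatrix h.val =
      !![MvPolynomial.X 2, 0; MvPolynomial.X 0, MvPolynomial.X 1]) ∧
    (∀ α β γ : k, α ≠ 0 → ∃ g h : GL (Fin 2) k,
      (MvPolynomial.C : k →+* MvPolynomial (Fin 3) k).mapMatrix g.val *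
          !![MvPolynomial.X 1, 0;
             MvPolynomial.C α * MvPolynomial.X 0 + MvPolynomial.C β * MvPolynomial.X 1 + MvPolynomial.C γ * MvPolynomial.X 2,
             MvPolynomial.X 2] *
        (MvPolynomial.C : k →+* MvPolynomial (Fin 3) k).mapMatrix h.val =
      !![MvPolynomial.X 1, 0; MvPolynomial.X 0, MvPolynomial.X 2]) := by
  classical
  constructor
  · rintro ⟨g, h, H⟩
    -- evaluate at e0 and e1
    have key : ∀ v : Fin 3 → k,
        g.val * !![v 1, 0; v 0, v 2] * h.val = !![v 2, 0; v 0, v 1] := by
      intro v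
      have := congrArg (fun M => (MvPolynomial.eval v).mapMatrix M) H
      simp only [map_mul] at this
      have e1 : (MvPolynomial.eval v).mapMatrix
          ((MvPolynomial.C : k →+* MvPolynomial (Fin 3) k).mapMatrix g.val) = g.val := by
        ext i j; simp
      have e2 : (MvPolynomial.eval v).mapMatrix
          ((MvPolynomial.C : k →+* MvPolynomial (Fin 3) k).mapMatrix h.val) = h.val := by
        ext i j; simp
      have e3 : (MvPolynomial.eval v).mapMatrix
          (!![MvPolynomial.X 1, 0; MvPolynomial.X 0, MvPolynomial.X 2] :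
            Matrix (Fin 2) (Fin 2) (MvPolynomial (Fin 3) k)) = !![v 1, 0; v 0, v 2] := by
        ext i j; fin_cases i <;> fin_cases j <;> simp
      have e4 : (MvPolynomial.eval v).mapMatrix
          (!![MvPolynomial.X 2, 0; MvPolynomial.X 0, MvPolynomial.X 1] :
            Matrix (Fin 2) (Fin 2) (MvPolynomial (Fin 3) k)) = !![v 2, 0; v 0, v 1] := by
        ext i j; fin_cases i <;> fin_cases j <;> simp
      rw [e1, e2, e3, e4] at this
      exact this
    have k0 := key ![1, 0, 0]
    have k1 := key ![0, 1, 0]
    have a1 := congrFun (congrFun k0 1) 0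
    have a2 := congrFun (congrFun k0 1) 1
    have a3 := congrFun (congrFun k1 1) 1
    simp [Matrix.mul_apply, Fin.sum_univ_two] at a1 a2 a3
    rcases a2 with a2 | a2
    · rw [a2] at a1; simp at a1
    · rw [a2] at a3; simp at a3
  · intro α β γ hα
    refine ⟨Matrix.GeneralLinearGroup.mkOfDetNeZero !![1, 0; -β / α, 1 / α] ?_,
      Matrix.GeneralLinearGroup.mkOfDetNeZero !![1, 0; -γ, α] ?_, ?_⟩
    · simp [Matrix.det_fin_two, hα]
    · simp [Matrix.det_fin_two, hα]
    · have hC : (MvPolynomial.C (α⁻¹) : MvPolynomial (Fin 3) k) * MvPolynomial.C α = 1 := by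
        rw [← map_mul, inv_mul_cancel₀ hα, map_one]
      refine Matrix.ext fun i j => ?_
      fin_cases i <;> fin_cases j <;>
        simp [Matrix.mul_apply, Fin.sum_univ_two, Matrix.GeneralLinearGroup.mkOfDetNeZero,
          div_eq_mul_inv]
      · linear_combination (MvPolynomial.X 0) * hC
      · linear_combination (MvPolynomial.X 2) * hC

end Groth.Agent.S13916
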