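import Groth.Statements.S13918
import Mathlib
import Groth.Agent.Lib.Helper2.Ram.Exist

set_option autoImplicit false
universe u
open W4c1limliniiii

namespace Groth.Agent.S13918
open Polynomial Groth.Agent.Lib.Helper2.Ram

open Polynomial in
/-- Over an algebraically closed field of characteristic p (zero allowed), fix three distinct points of
the affine line, an integer d and ramification indices e_i with 2 ≤ e_i ≤ d, each e_i prime to p,
and ∑ (e_i − 1) = 2d − 2. Then there is at most one separable self-map of the projective line of
degree d, taken up to automorphisms of the target, with ramification index exactly e_i at the i-th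
point — such maps being encoded as base-point-free separable pencils of polynomials of degree at
most d — and there is none precisely when some two-dimensional space of polynomials of degree at
most d with identically vanishing Wronskian contains, for each i, a non-zero member vanishing to
order at least e_i at the i-th point (an inseparable pencil, base points allowed, with at least the
required ramification). (The three points are taken on the affine line, which is no restriction up
to a change of coordinate; the assertion that the solution, when it exists, is a reduced point of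
the parameter scheme is not restated.) -/
theorem result (k : Type u) [Field k] [IsAlgClosed k]
    (p : ℕ) [CharP k p] (d : ℕ) (P : Fin 3 → k) (hP : Function.Injective P)
    (e : Fin 3 → ℕ) (he : W4c1limliniiii.Admissible p d e) :
    (W4c1limliniiii.ramMaps d P e).Subsingleton ∧
      (W4c1limliniiii.ramMaps d P e = ∅ ↔
        ∃ V : Submodule k k[X], V ≤ Polynomial.degreeLE k d ∧ Module.finrank k V = 2 ∧
          ¬ W4c1limliniiii.IsSeparable V ∧
          ∀ i, ∃ s ∈ V, s ≠ 0 ∧ e i ≤ Polynomial.rootMultiplicity (P i) s) := by
  classical
  have hD := data_of_admissible hP he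
  have hrig : ∀ V ∈ ramMaps d P e, ∀ V₀ : Submodule k k[X], V₀ ≤ degreeLE k d →
      Module.finrank k V₀ = 2 → (∀ i, ∃ s ∈ V₀, s ≠ 0 ∧ e i ≤ rootMultiplicity (P i) s) →
      V₀ = V := by
    intro V hV V₀ h1 h2 h3
    exact rigid hD hV.1 h1 h2 (hV.2.2 0).1 (hV.2.2 1).1 (hV.2.2 2).1 (h3 0) (h3 1) (h3 2)
  refine ⟨?_, ?_, ?_⟩
  · intro V hV V' hV'
    exact (hrig V' hV' V hV.1.1 hV.1.2.1 (fun i => (hV.2.2 i).1))
  · intro hemp
    obtain ⟨x, y, z, hsum, hx0, hy0, hz0, hxd, hyd, hzd, hxa, hyb, hzc⟩ := exists_triple hD
    obtain ⟨hle, hfr, hsa, hsb, hsc⟩ := span_of_triple hD hsum hx0 hy0 hz0 hxd hyd hxa hyb hzc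
    refine ⟨Submodule.span k {x, y}, hle, hfr, ?_, ?_⟩
    · intro hsep
      have hW := isSeparable_span_iff.mp hsep
      obtain ⟨hpen, ha, hb, hc⟩ := pencil_of_triple hD hsum hx0 hy0 hz0 hxd hyd hxa hyb hzc hW
      have : Submodule.span k {x, y} ∈ ramMaps d P e := by
        refine ⟨hpen, hsep, ?_⟩
        intro i
        fin_cases i
        · exact ha
        · exact hb
        · exact hc
      rw [hemp] at this
      exact this
    · intro i
      fin_cases i
      · exact hsa
      · exact hsb
      · exact hsc
  · rintro ⟨V₀, h1, h2, hns, h3⟩
    rw [Set.eq_empty_iff_forall_notMem]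
    intro V hV
    have := hrig V hV V₀ h1 h2 h3
    rw [this] at hns
    exact hns hV.2.1

end Groth.Agent.S13918
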