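import Groth.Statements.S13919
import Mathlib
import Groth.Agent.Lib.Helper2.Ram.Exist

set_option autoImplicit false
universe u
open W4c1limliniiii

namespace Groth.Agent.S13919
open Polynomial Groth.Agent.Lib.Helper2.Ram
section Aux
variable {k : Type u} [Field k]

/-- The inseparable space `(aX+b)^p h`. -/
theorem insep_space {p : ℕ} [hp : Fact p.Prime] [CharP k p] {d : ℕ} {a b c : k} {ea eb ec : ℕ}
    (hab : a ≠ b) (hea : ea ≤ p) (heb : eb ≤ p) (hpd : p ≤ d) (hec : ec ≤ d) :
    ∃ V₀ : Submodule k k[X], V₀ ≤ degreeLE k d ∧ Module.finrank k V₀ = 2 ∧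
      ¬ W4c1limliniiii.IsSeparable V₀ ∧
      (∃ s ∈ V₀, s ≠ 0 ∧ ea ≤ rootMultiplicity a s) ∧
      (∃ s ∈ V₀, s ≠ 0 ∧ eb ≤ rootMultiplicity b s) ∧
      (∃ s ∈ V₀, s ≠ 0 ∧ ec ≤ rootMultiplicity c s) := by
  set h : k[X] := (X - C c) ^ (ec - p) with hh
  have hh0 : h ≠ 0 := pow_ne_zero _ (X_sub_C_ne_zero c)
  have hA0 : ∀ r : k, (X - C r) ^ p ≠ 0 := fun r => pow_ne_zero _ (X_sub_C_ne_zero r)
  have hdeg : ∀ r : k, ((X - C r) ^ p * h).natDegree ≤ d := by
    intro r
    refine natDegree_mul_le.trans ?_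
    have h1 := natDegree_pow_le (p := X - C r) (n := p)
    have h2 := natDegree_pow_le (p := X - C c) (n := ec - p)
    rw [natDegree_X_sub_C, mul_one] at h1 h2
    rw [hh]
    omega
  have hpow : ∀ r : k, (X - C r) ^ p = X ^ p - C (r ^ p) := by
    intro r
    rw [sub_pow_char, ← C_pow]
  have hder : ∀ r : k, derivative ((X - C r) ^ p) = 0 := by
    intro r
    rw [derivative_X_sub_C_pow, CharP.cast_eq_zero k p, map_zero, zero_mul]
  have habp : a ^ p - b ^ p ≠ 0 := by
    rw [← sub_pow_char]
    exact pow_ne_zero _ (sub_ne_zero.mpr hab)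
  have hli : ∀ α β : k, α • ((X - C a) ^ p * h) + β • ((X - C b) ^ p * h) = 0 → α = 0 ∧ β = 0 := by
    intro α β hαβ
    have h1 : (C α * (X - C a) ^ p + C β * (X - C b) ^ p) * h = 0 := by
      rw [← hαβ]; simp only [smul_eq_C_mul]; ring
    have h2 := (mul_eq_zero.mp h1).resolve_right hh0
    have e1 := congrArg (eval a) h2
    have e2 := congrArg (eval b) h2
    simp only [eval_add, eval_mul, eval_C, eval_pow, eval_sub, eval_X, sub_self, eval_zero] at e1 e2
    rw [zero_pow hp.out.ne_zero, mul_zero] at e1 e2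
    rw [zero_add] at e1
    rw [add_zero] at e2
    have hab' : (a - b) ^ p ≠ 0 := pow_ne_zero _ (sub_ne_zero.mpr hab)
    have hba' : (b - a) ^ p ≠ 0 := pow_ne_zero _ (sub_ne_zero.mpr hab.symm)
    exact ⟨(mul_eq_zero.mp e2).resolve_right hba', (mul_eq_zero.mp e1).resolve_right hab'⟩
  refine ⟨Submodule.span k {(X - C a) ^ p * h, (X - C b) ^ p * h}, ?_, finrank_span_pair hli, ?_,
    ?_, ?_, ?_⟩
  · rw [Submodule.span_le]
    rintro w (rfl | rfl)
    · exact mem_degreeLE.mpr (degree_le_of_natDegree_le (hdeg a))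
    · exact mem_degreeLE.mpr (degree_le_of_natDegree_le (hdeg b))
  · rw [isSeparable_span_iff, not_not, mul_comm _ h, mul_comm _ h, wronskian_mul_mul]
    simp only [wronskian, hder, mul_zero, zero_mul, sub_zero]
  · refine ⟨_, Submodule.subset_span (by simp), mul_ne_zero (hA0 a) hh0, ?_⟩
    rw [le_rootMultiplicity_iff (mul_ne_zero (hA0 a) hh0)]
    exact Dvd.dvd.mul_right (pow_dvd_pow _ hea) _
  · refine ⟨_, Submodule.subset_span (by simp), mul_ne_zero (hA0 b) hh0, ?_⟩
    rw [le_rootMultiplicity_iff (mul_ne_zero (hA0 b) hh0)]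
    exact Dvd.dvd.mul_right (pow_dvd_pow _ heb) _
  · refine ⟨(X - C c) ^ p * h, ?_, mul_ne_zero (hA0 c) hh0, ?_⟩
    · rw [Submodule.mem_span_pair]
      set α : k := (c ^ p - b ^ p) / (a ^ p - b ^ p) with hα
      set β : k := (a ^ p - c ^ p) / (a ^ p - b ^ p) with hβ
      have e1 : α + β = 1 := by
        rw [hα, hβ]; field_simp; ring
      have e2 : α * a ^ p + β * b ^ p = c ^ p := by
        rw [hα, hβ]; field_simp; ring
      refine ⟨α, β, ?_⟩
      rw [hpow a, hpow b, hpow c]
      have : C α * (X ^ p - C (a ^ p)) + C β * (X ^ p - C (b ^ p)) = X ^ p - C (c ^ p) := by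
        calc C α * (X ^ p - C (a ^ p)) + C β * (X ^ p - C (b ^ p))
            = C (α + β) * X ^ p - C (α * a ^ p + β * b ^ p) := by
              simp only [map_add, map_mul]; ring
          _ = X ^ p - C (c ^ p) := by rw [e1, e2, map_one, one_mul]
      rw [← this]
      simp only [smul_eq_C_mul]
      ring
    · rw [le_rootMultiplicity_iff (mul_ne_zero (hA0 c) hh0), hh, ← pow_add]
      exact pow_dvd_pow _ (by omega)

end Aux

open Polynomial in
/-- Over an algebraically closed field of characteristic p (zero allowed), fix three distinct points of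
the affine line and indices 2 ≤ e_i ≤ d prime to p with ∑ (e_i − 1) = 2d − 2, and encode self-maps
of the projective line up to automorphisms of the target as base-point-free separable pencils of
polynomials of degree at most d. If p is positive, the first two indices are less than p and p ≤ d,
then there is no separable degree-d self-map of the projective line with ramification index exactly
e_i at the i-th point; if p = 0 or d < p there is exactly one up to automorphisms of the target.
(The first clause includes the case d = p; with it, when all e_i are less than p, the three-point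
count is one map if p = 0 or p > d and none otherwise.) -/
theorem result (k : Type u) [Field k] [IsAlgClosed k]
    (p : ℕ) [CharP k p] (d : ℕ) (P : Fin 3 → k) (hP : Function.Injective P)
    (e : Fin 3 → ℕ) (he : W4c1limliniiii.Admissible p d e) :
    (p ≠ 0 → e 0 < p → e 1 < p → p ≤ d → W4c1limliniiii.ramMaps d P e = ∅) ∧
      (p = 0 ∨ d < p → ∃ V : Submodule k k[X], W4c1limliniiii.ramMaps d P e = {V}) := by
  classical
  have hD := data_of_admissible hP he
  refine ⟨?_, ?_⟩
  · intro hp0 h0 h1 hpd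
    have hprime : p.Prime := (CharP.char_is_prime_or_zero k p).resolve_right hp0
    haveI : Fact p.Prime := ⟨hprime⟩
    obtain ⟨V₀, hle, hfr, hns, ha, hb, hc⟩ := insep_space (k := k) (p := p) (d := d)
      (a := P 0) (b := P 1) (c := P 2) (ea := e 0) (eb := e 1) (ec := e 2) hD.hab h0.le h1.le hpd
      hD.hc
    rw [Set.eq_empty_iff_forall_notMem]
    intro V hV
    have := rigid hD hV.1 hle hfr (hV.2.2 0).1 (hV.2.2 1).1 (hV.2.2 2).1 ha hb hc
    rw [this] at hns
    exact hns hV.2.1
  · intro hp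
    obtain ⟨x, y, z, hsum, hx0, hy0, hz0, hxd, hyd, hzd, hxa, hyb, hzc⟩ := exists_triple hD
    have hsumD := hD.hsum
    have h3 := hD.hc
    have hW : wronskian x y ≠ 0 := wronskian_ne_zero_of_indep (p := p) hp hxd hyd
      (indep2 hD.hab (by omega : d < e 0 + e 1) hx0 hy0 hxd hxa hyb)
    obtain ⟨hpen, ha, hb, hc⟩ := pencil_of_triple hD hsum hx0 hy0 hz0 hxd hyd hxa hyb hzc hW
    refine ⟨Submodule.span k {x, y}, ?_⟩
    rw [Set.eq_singleton_iff_unique_mem]
    refine ⟨⟨hpen, isSeparable_span_iff.mpr hW, ?_⟩, ?_⟩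
    · intro i
      fin_cases i
      · exact ha
      · exact hb
      · exact hc
    · intro V' hV'
      exact rigid hD hpen hV'.1.1 hV'.1.2.1 ha.1 hb.1 hc.1 (hV'.2.2 0).1 (hV'.2.2 1).1
        (hV'.2.2 2).1

end Groth.Agent.S13919
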