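import Groth.Statements.S13920
import Mathlib
import Groth.Agent.S19560

set_option autoImplicit false
universe u
open W4c1limliniiii

namespace Groth.Agent.S13920
open Polynomial
section Aux
variable {k : Type u} [Field k]

theorem natDegree_comb {F H : k[X]} (α : k) (hα : α ≠ 0) (h : H.natDegree < F.natDegree) :
    (α • F + H).natDegree = F.natDegree := by
  rw [natDegree_add_eq_left_of_natDegree_lt]
  · exact natDegree_smul _ hα
  · rw [natDegree_smul _ hα]; exact h

theorem wronskian_comb (F G : k[X]) (α β γ δ : k) :
    wronskian (α • F + β • G) (γ • F + δ • G) = (α * δ - β * γ) • wronskian F G := by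
  simp only [wronskian, smul_eq_C_mul, derivative_add, derivative_mul, derivative_C, zero_mul,
    zero_add, map_sub, map_mul]
  ring

theorem wronskian_shift (p : ℕ) [CharP k p] (F G : k[X]) (c : k) :
    wronskian (F + C c * X ^ p * G) G = wronskian F G := by
  simp only [wronskian, derivative_add, derivative_mul, derivative_C, derivative_X_pow, zero_mul,
    zero_add, CharP.cast_eq_zero k p, map_zero]
  ring

theorem span_pair_props {d E : ℕ} {F G : k[X]} (hF : F.natDegree = d) (hG0 : G ≠ 0)
    (hG : G.natDegree + E = d) (hE : 1 ≤ E) :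
    Submodule.span k {F, G} ≤ degreeLE k d ∧ Module.finrank k (Submodule.span k {F, G}) = 2 ∧
      HasRamIdxInf d (Submodule.span k {F, G}) E := by
  have hlt : G.natDegree < F.natDegree := by omega
  refine ⟨?_, ?_, ?_⟩
  · rw [Submodule.span_le]
    rintro x (rfl | rfl)
    · exact mem_degreeLE.mpr (degree_le_of_natDegree_le hF.le)
    · exact mem_degreeLE.mpr (degree_le_of_natDegree_le (by omega))
  · have hli : LinearIndependent k ![F, G] := by
      rw [LinearIndependent.pair_iff]
      intro s t hst
      by_cases hs : s = 0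
      · subst hs
        rw [zero_smul, zero_add] at hst
        refine ⟨rfl, ?_⟩
        by_contra ht
        exact hG0 ((smul_eq_zero.mp hst).resolve_left ht)
      · exfalso
        have h1 := natDegree_comb (F := F) (H := t • G) s hs
          (lt_of_le_of_lt (natDegree_smul_le _ _) hlt)
        rw [hst, natDegree_zero] at h1
        omega
    have h2 : Set.range ![F, G] = {F, G} := by simp [Matrix.range_cons, Set.pair_comm]
    have := finrank_span_eq_card hli
    rw [h2] at this
    simpa using this
  · refine ⟨⟨G, Submodule.subset_span (by simp), hG0, hG.le⟩, ?_⟩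
    intro s hs hs0
    rw [Submodule.mem_span_pair] at hs
    obtain ⟨α, β, rfl⟩ := hs
    by_cases hα : α = 0
    · subst hα
      rw [zero_smul, zero_add] at hs0 ⊢
      have hβ : β ≠ 0 := by
        rintro rfl
        exact hs0 (zero_smul _ _)
      rw [natDegree_smul _ hβ]
      omega
    · rw [natDegree_comb α hα (lt_of_le_of_lt (natDegree_smul_le _ _) hlt)]
      omega

theorem rootMult_wronskian {F G : k[X]} (hW : wronskian F G ≠ 0) (a : k) (m : ℕ)
    (hbpf : ∃ s ∈ Submodule.span k {F, G}, s.eval a ≠ 0)
    (hram : HasRamIdx (Submodule.span k {F, G}) a m) (hm : 1 ≤ m) (hmk : (m : k) ≠ 0) :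
    rootMultiplicity a (wronskian F G) + 1 = m := by
  obtain ⟨⟨s1, hs1V, hs1ne, hs1m⟩, hmax⟩ := hram
  have hm1 : rootMultiplicity a s1 = m := le_antisymm (hmax s1 hs1V hs1ne) hs1m
  obtain ⟨s0, hs0V, hs0a⟩ := hbpf
  have hs1a : s1.eval a = 0 := by
    have : 0 < rootMultiplicity a s1 := by omega
    exact (rootMultiplicity_pos hs1ne).mp this
  rw [Submodule.mem_span_pair] at hs0V hs1V
  obtain ⟨α, β, hs0⟩ := hs0V
  obtain ⟨γ, δ, hs1⟩ := hs1V
  have hc : α * δ - β * γ ≠ 0 := by
    intro hc
    have h1 : δ • s0 - β • s1 = (α * δ - β * γ) • F := by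
      rw [← hs0, ← hs1]; module
    have h2 : γ • s0 - α • s1 = (β * γ - α * δ) • G := by
      rw [← hs0, ← hs1]; module
    have hc' : β * γ - α * δ = 0 := by linear_combination -hc
    rw [hc, zero_smul] at h1
    rw [hc', zero_smul] at h2
    have h1' := congrArg (eval a) h1
    have h2' := congrArg (eval a) h2
    simp only [eval_sub, eval_smul, hs1a, smul_eq_mul, mul_zero, sub_zero, eval_zero] at h1' h2'
    have hδ : δ = 0 := (mul_eq_zero.mp h1').resolve_right hs0a
    have hγ : γ = 0 := (mul_eq_zero.mp h2').resolve_right hs0a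
    apply hs1ne
    rw [← hs1, hδ, hγ, zero_smul, zero_smul, add_zero]
  have hWs : wronskian s0 s1 = C (α * δ - β * γ) * wronskian F G := by
    rw [← hs0, ← hs1, wronskian_comb, smul_eq_C_mul]
  have hWs0 : wronskian s0 s1 ≠ 0 := by
    rw [hWs]; exact mul_ne_zero (C_ne_zero.mpr hc) hW
  obtain ⟨hA, -⟩ := Groth.Agent.S19560.wronskian_order a s0 s1 hs0a hs1ne hWs0
  rw [hm1] at hA
  have := hA hmk
  rw [hWs, Groth.Agent.S19560.rootMultiplicity_C_mul' a _ hc] at this
  exact this

end Aux

open Polynomial in
/-- Over an algebraically closed field of prime characteristic p, fix n points of the affine line with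
ramification indices e_i < p, and at infinity an index E with p < E and E prime to p, the datum (E,
e_1, …, e_n) being admissible for degree d (each index between 2 and d, ∑ (index − 1) = 2d − 2). If
one separable degree-d self-map of the projective line (up to automorphisms of the target, encoded
as a base-point-free separable pencil of polynomials of degree at most d) has ramification index
exactly e_i at the i-th point and exactly E at infinity, then infinitely many do: the set of such
pencils is empty or infinite. (The consequence for general points, that no such map exists, is not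
restated.) -/
theorem result
    (k : Type u) [Field k] [IsAlgClosed k] (p : ℕ) [Fact p.Prime] [CharP k p]
    (d n : ℕ) (P : Fin n → k) (e : Fin n → ℕ) (E : ℕ)
    (he : W4c1limliniiii.Admissible p d (Fin.cons E e : Fin (n + 1) → ℕ))
    (hlt : ∀ i, e i < p) (hE : p < E) :
    {V : Submodule k k[X] | V ∈ W4c1limliniiii.ramMaps d P e ∧ W4c1limliniiii.HasRamIdxInf d V E} = ∅ ∨
      {V : Submodule k k[X] | V ∈ W4c1limliniiii.ramMaps d P e ∧
        W4c1limliniiii.HasRamIdxInf d V E}.Infinite := by
  classical
  by_cases hemp : {V : Submodule k k[X] | V ∈ W4c1limliniiii.ramMaps d P e ∧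
      W4c1limliniiii.HasRamIdxInf d V E} = ∅
  · exact Or.inl hemp
  right
  obtain ⟨V, hV⟩ := Set.nonempty_iff_ne_empty.mpr hemp
  obtain ⟨⟨hpen, hsep, hram⟩, hinf⟩ := hV
  obtain ⟨hle, hrank, ⟨F, hFV, hFd⟩, hbpf⟩ := hpen
  obtain ⟨⟨G, hGV, hG0, hGd⟩, hinf2⟩ := hinf
  have hGd' : G.natDegree + E = d := le_antisymm hGd (hinf2 G hGV hG0)
  have hp2 : 2 ≤ p := (Fact.out : p.Prime).two_le
  have hE1 : 1 ≤ E := by omega
  obtain ⟨-, hfr, -⟩ := span_pair_props hFd hG0 hGd' hE1
  have hVeq : Submodule.span k {F, G} = V := by
    have hle' : Submodule.span k {F, G} ≤ V := by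
      rw [Submodule.span_le]
      rintro x (rfl | rfl)
      · exact hFV
      · exact hGV
    have : FiniteDimensional k V := FiniteDimensional.of_finrank_pos (by rw [hrank]; norm_num)
    exact Submodule.eq_of_le_of_finrank_eq hle' (by rw [hfr, hrank])
  subst hVeq
  -- Wronskian nonzero
  have hW : wronskian F G ≠ 0 := by
    obtain ⟨A, hA, B, hB, hAB⟩ := hsep
    rw [Submodule.mem_span_pair] at hA hB
    obtain ⟨α, β, rfl⟩ := hA
    obtain ⟨γ, δ, rfl⟩ := hB
    rw [wronskian_comb] at hAB
    intro h
    rw [h, smul_zero] at hAB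
    exact hAB rfl
  have hbpf' : ∀ a : k, ¬ (F.eval a = 0 ∧ G.eval a = 0) := by
    rintro a ⟨h1, h2⟩
    obtain ⟨s, hs, hsa⟩ := hbpf a
    rw [Submodule.mem_span_pair] at hs
    obtain ⟨α, β, rfl⟩ := hs
    apply hsa
    simp [h1, h2]
  have hmult : ∀ i, rootMultiplicity (P i) (wronskian F G) + 1 = e i := by
    intro i
    have h2 : 2 ≤ e i := by
      have := (he.1 (Fin.succ i)).1
      simpa using this
    refine rootMult_wronskian hW (P i) (e i) (hbpf (P i)) (hram i) (by omega) ?_
    intro h0
    have := (CharP.cast_eq_zero_iff k p (e i)).mp h0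
    have := Nat.le_of_dvd (by omega) this
    have := hlt i
    omega
  set f : k → Submodule k k[X] := fun c => Submodule.span k {F + C c * X ^ p * G, G} with hf
  have hdegc : ∀ c : k, (C c * X ^ p * G).natDegree < d := by
    intro c
    calc (C c * X ^ p * G).natDegree ≤ (C c * X ^ p).natDegree + G.natDegree := natDegree_mul_le
      _ ≤ p + G.natDegree := Nat.add_le_add_right (natDegree_C_mul_X_pow_le _ _) _
      _ < d := by omega
  have hFc : ∀ c : k, (F + C c * X ^ p * G).natDegree = d := by
    intro c
    rw [natDegree_add_eq_left_of_natDegree_lt (by rw [hFd]; exact hdegc c), hFd]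
  have hmem : ∀ c, f c ∈ {V : Submodule k k[X] | V ∈ W4c1limliniiii.ramMaps d P e ∧
      W4c1limliniiii.HasRamIdxInf d V E} := by
    intro c
    obtain ⟨h1, h2, h3⟩ := span_pair_props (hFc c) hG0 hGd' hE1
    have hWc : wronskian (F + C c * X ^ p * G) G ≠ 0 := by
      rw [wronskian_shift p]; exact hW
    have hpen : IsPencil d (f c) := by
      refine ⟨h1, h2, ⟨_, Submodule.subset_span (by simp), hFc c⟩, ?_⟩
      intro a
      by_cases hGa : G.eval a = 0
      · refine ⟨_, Submodule.subset_span (Set.mem_insert _ _), ?_⟩
        intro h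
        apply hbpf' a
        refine ⟨?_, hGa⟩
        simpa [hGa] using h
      · exact ⟨G, Submodule.subset_span (by simp), hGa⟩
    refine ⟨⟨hpen, ⟨_, Submodule.subset_span (Set.mem_insert _ _), G,
      Submodule.subset_span (by simp), hWc⟩, ?_⟩, h3⟩
    intro i
    refine (Groth.Agent.S19560.result k p d _ G hpen hWc (P i) (e i) ?_ (Or.inr ?_)).1
    · rw [wronskian_shift p]; exact hmult i
    · have := hlt i; omega
  have hinj : Function.Injective f := by
    intro c c' hcc
    have hmemF : F + C c * X ^ p * G ∈ f c' := by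
      rw [← hcc]; exact Submodule.subset_span (Set.mem_insert _ _)
    rw [hf, Submodule.mem_span_pair] at hmemF
    obtain ⟨α, β, hαβ⟩ := hmemF
    have h2 : (1 - α) • F = (C (α * c' - c) * X ^ p + C β) * G := by
      simp only [smul_eq_C_mul, map_sub, map_mul, map_one] at hαβ ⊢
      linear_combination -hαβ
    have hα : α = 1 := by
      by_contra hα
      have hα' : 1 - α ≠ 0 := sub_ne_zero.mpr (Ne.symm hα)
      have hd1 : ((1 - α) • F).natDegree = d := by rw [natDegree_smul _ hα', hFd]
      have hd2 : ((C (α * c' - c) * X ^ p + C β) * G).natDegree < d := by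
        calc ((C (α * c' - c) * X ^ p + C β) * G).natDegree
            ≤ (C (α * c' - c) * X ^ p + C β).natDegree + G.natDegree := natDegree_mul_le
          _ ≤ p + G.natDegree := by
              refine Nat.add_le_add_right ?_ _
              refine (natDegree_add_le _ _).trans ?_
              rw [natDegree_C, max_le_iff]
              exact ⟨natDegree_C_mul_X_pow_le _ _, Nat.zero_le _⟩
          _ < d := by omega
      rw [h2] at hd1
      omega
    rw [hα, sub_self, zero_smul] at h2
    have h3 : C (1 * c' - c) * X ^ p + C β = 0 := by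
      rcases mul_eq_zero.mp h2.symm with h | h
      · exact h
      · exact absurd h hG0
    have h4 := congrArg (fun q => coeff q p) h3
    simp only [coeff_add, coeff_C_mul, coeff_X_pow, if_true, coeff_C, coeff_zero] at h4
    rw [if_neg (by omega)] at h4
    simp only [one_mul, mul_one, add_zero] at h4
    exact (sub_eq_zero.mp h4).symm
  exact Set.infinite_of_injective_forall_mem hinj hmem

end Groth.Agent.S13920
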