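import Groth.Statements.S13926
import Mathlib.LinearAlgebra.FiniteDimensional.Lemmas
import Mathlib.LinearAlgebra.FiniteDimensional.Basic
-- import your own Groth.Agent.* helpers here

set_option autoImplicit false
universe u v w
open W4c1limliniiii

namespace Groth.Agent.S13926


theorem between {k : Type*} [Field k] {E : Type*} [AddCommGroup E] [Module k E]
    [FiniteDimensional k E] (W2 : Submodule k E) :
    ∀ (j : ℕ) (W1 : Submodule k E), W1 ≤ W2 →
      Module.finrank k W1 + j ≤ Module.finrank k W2 →
      ∃ V : Submodule k E, W1 ≤ V ∧ V ≤ W2 ∧ Module.finrank k V = Module.finrank k W1 + j := by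
  intro j
  induction j with
  | zero => intro W1 h _; exact ⟨W1, le_rfl, h, rfl⟩
  | succ j ih =>
    intro W1 h hj
    have hne : W1 ≠ W2 := by
      rintro rfl
      omega
    obtain ⟨x, hx2, hx1⟩ := SetLike.exists_of_lt (lt_of_le_of_ne h hne)
    have hx0 : x ≠ 0 := by
      rintro rfl
      exact hx1 W1.zero_mem
    have hdisj : Disjoint W1 (Submodule.span k {x}) :=
      (Submodule.disjoint_span_singleton' hx0).2 hx1
    have hfr : Module.finrank k ↥(W1 ⊔ Submodule.span k {x}) = Module.finrank k W1 + 1 := by
      have := Submodule.finrank_sup_add_finrank_inf_eq W1 (Submodule.span k {x})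
      rw [hdisj.eq_bot, finrank_bot, finrank_span_singleton hx0] at this
      omega
    have hle : W1 ⊔ Submodule.span k {x} ≤ W2 :=
      sup_le h ((Submodule.span_singleton_le_iff_mem _ _).2 hx2)
    obtain ⟨V, hV1, hV2, hV3⟩ := ih (W1 ⊔ Submodule.span k {x}) hle (by omega)
    exact ⟨V, le_sup_left.trans hV1, hV2, by omega⟩

/-- Let k be a field, E₁ and E₂ finite-dimensional vector spaces over k of the same dimension, f : E₁ →
E₂ and g : E₂ → E₁ linear maps whose composite g ∘ f is multiplication by a scalar s, and V₁ a
subspace of E₁. Then there is a subspace V₂ of E₂ of the same dimension as V₁ with f(V₁) ≤ V₂ and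
g(V₂) ≤ V₁. (The published statement is the surjectivity of the truncation morphisms of a linked
Grassmannian, with a further assertion on lifting families; this row is the lifting step over a
field — over a point the chain of linked subspaces V_1, …, V_{n'} extends one index at a time — and
assumes only g ∘ f = s.) -/
theorem result (k : Type u) [Field k]
    (E₁ : Type v) (E₂ : Type w) [AddCommGroup E₁] [Module k E₁] [FiniteDimensional k E₁]
    [AddCommGroup E₂] [Module k E₂] [FiniteDimensional k E₂]
    (hdim : Module.finrank k E₁ = Module.finrank k E₂)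
    (f : E₁ →ₗ[k] E₂) (g : E₂ →ₗ[k] E₁) (s : k) (hgf : g.comp f = s • LinearMap.id)
    (V₁ : Submodule k E₁) :
    ∃ V₂ : Submodule k E₂, Module.finrank k V₂ = Module.finrank k V₁ ∧
      Submodule.map f V₁ ≤ V₂ ∧ Submodule.map g V₂ ≤ V₁ := by
  have h12 : Submodule.map f V₁ ≤ Submodule.comap g V₁ := by
    rintro _ ⟨v, hv, rfl⟩
    rw [Submodule.mem_comap]
    have : g (f v) = s • v := by
      have := LinearMap.congr_fun hgf v
      simpa using this
    rw [this]
    exact V₁.smul_mem s hv
  have hle1 : Module.finrank k (Submodule.map f V₁) ≤ Module.finrank k V₁ :=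
    Submodule.finrank_map_le f V₁
  have hle2 : Module.finrank k V₁ ≤ Module.finrank k (Submodule.comap g V₁) := by
    have hker : LinearMap.ker (V₁.mkQ.comp g) = Submodule.comap g V₁ := by
      rw [LinearMap.ker_comp, Submodule.ker_mkQ]
    have h1 := LinearMap.finrank_range_add_finrank_ker (V₁.mkQ.comp g)
    rw [hker] at h1
    have h2 : Module.finrank k (LinearMap.range (V₁.mkQ.comp g)) ≤ Module.finrank k (E₁ ⧸ V₁) :=
      Submodule.finrank_le _
    have h3 := Submodule.finrank_quotient_add_finrank V₁
    omega
  obtain ⟨V, hV1, hV2, hV3⟩ := between (Submodule.comap g V₁)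
    (Module.finrank k V₁ - Module.finrank k (Submodule.map f V₁)) (Submodule.map f V₁) h12
    (by omega)
  exact ⟨V, by omega, hV1, Submodule.map_le_iff_le_comap.2 hV2⟩

end Groth.Agent.S13926
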