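import Groth.Statements.S13934
import Groth.Agent.Lib.Helper2.DegAdd.RankTwo

set_option autoImplicit false
universe u
open CategoryTheory CategoryTheory.Limits AlgebraicGeometry
open W4c1limliniiii

namespace Groth.Agent.S13934

/-- On a smooth proper integral curve over an algebraically closed field (any characteristic), let 0 → L
→ E → M → 0 be a short exact sequence of O_X-modules with E finite locally free of rank 2 and degree
0, L and M invertible and deg L > 0 (so M is det E ⊗ L⁻¹). Then: every invertible sheaf N admitting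
a non-zero map N → E has deg N ≤ deg L, so L is the line bundle of maximal degree in E; every
invertible subsheaf N of E of positive degree with invertible quotient E/N coincides with L (some
isomorphism N ≅ L commutes with the inclusions); and E is not an extension of two invertible sheaves
of degree 0. Degrees are χ(−) minus rank times χ(O_X). (The published lemma is stated on a curve of
genus 2 in characteristic p; its argument uses neither, and this row assumes neither.) -/
theorem result (k : Type u) [Field k] [IsAlgClosed k] (X : Scheme.{u}) [X.Over (Spec (CommRingCat.of k))]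
    [IsIntegral X] [IsProper (X ↘ Spec (CommRingCat.of k))] [Smooth (X ↘ Spec (CommRingCat.of k))]
    (hdim : topologicalKrullDim X = 1)
    (S : ShortComplex X.Modules) (hS : S.ShortExact)
    (hE : FlatMod.IsFinLocFreeOfRank 2 S.X₂) (hE0 : Curv2.deg k X S.X₂ 2 = 0)
    (hL : PicF.IsInvertible S.X₁) (hM : PicF.IsInvertible S.X₃) (hpos : 0 < Curv2.deg k X S.X₁ 1) :
    (∀ (N : X.Modules), PicF.IsInvertible N → ∀ j : N ⟶ S.X₂, j ≠ 0 →
        Curv2.deg k X N 1 ≤ Curv2.deg k X S.X₁ 1) ∧
    (∀ (N : X.Modules), PicF.IsInvertible N → ∀ (j : N ⟶ S.X₂), Mono j →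
        PicF.IsInvertible (cokernel j) → 0 < Curv2.deg k X N 1 → ∃ φ : N ≅ S.X₁, φ.hom ≫ S.f = j) ∧
    (∀ (N N' : X.Modules), PicF.IsInvertible N → PicF.IsInvertible N' →
        Curv2.deg k X N 1 = 0 → Curv2.deg k X N' 1 = 0 →
        ∀ (a : N ⟶ S.X₂) (b : S.X₂ ⟶ N') (w : a ≫ b = 0), ¬ (ShortComplex.mk a b w).ShortExact) := by
  have hne : Nonempty X := inferInstance
  have hL1 := (Groth.Agent.Lib.Helper29.QCoh.isInvertible_iff_isFinLocFreeOfRank_one _).1 hL
  have hM1 := (Groth.Agent.Lib.Helper29.QCoh.isInvertible_iff_isFinLocFreeOfRank_one _).1 hM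
  have hmf := hS.mono_f
  have heg := hS.epi_g
  have hdE := Groth.Agent.S7643.result k X (le_of_eq hdim) S hS 1 2 1 hL1 hE hM1
  rw [hE0] at hdE
  have hMneg : Curv2.deg k X S.X₃ 1 < 0 := by linarith
  refine ⟨?_, ?_, ?_⟩
  · intro N hN j hj
    have hN1 := (Groth.Agent.Lib.Helper29.QCoh.isInvertible_iff_isFinLocFreeOfRank_one _).1 hN
    by_cases hg : j ≫ S.g = 0
    · have hφ : hS.exact.lift j hg ≫ S.f = j := hS.exact.lift_f j hg
      have hφ0 : hS.exact.lift j hg ≠ 0 := by
        intro h0
        apply hj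
        rw [← hφ, h0, CategoryTheory.Limits.zero_comp]
      have hm := Groth.Agent.Lib.Helper2.DegAdd.mono_of_ne_zero_rank_one k (le_of_eq hdim) hN1 hL1
        (hS.exact.lift j hg) hφ0
      exact Groth.Agent.Lib.Helper2.DegAdd.deg_le_of_mono_same_rank k (le_of_eq hdim)
        (hS.exact.lift j hg) 1 hN1 hL1
    · have hm := Groth.Agent.Lib.Helper2.DegAdd.mono_of_ne_zero_rank_one k (le_of_eq hdim) hN1 hM1
        (j ≫ S.g) hg
      have := Groth.Agent.Lib.Helper2.DegAdd.deg_le_of_mono_same_rank k (le_of_eq hdim)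
        (j ≫ S.g) 1 hN1 hM1
      linarith
  · intro N hN j hj hq hpos'
    have hN1 := (Groth.Agent.Lib.Helper29.QCoh.isInvertible_iff_isFinLocFreeOfRank_one _).1 hN
    have hq1 := (Groth.Agent.Lib.Helper29.QCoh.isInvertible_iff_isFinLocFreeOfRank_one _).1 hq
    rcases Groth.Agent.Lib.Helper2.DegAdd.sub_eq_or_mono k (le_of_eq hdim) S hS hL1 hM1 N hN1 j hq1
      with h | h
    · exact h
    · exfalso
      have := Groth.Agent.Lib.Helper2.DegAdd.deg_le_of_mono_same_rank k (le_of_eq hdim)
        (j ≫ S.g) 1 hN1 hM1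
      linarith
  · intro N N' hN hN' hd0 hd0' a b w hSE
    have hN1 := (Groth.Agent.Lib.Helper29.QCoh.isInvertible_iff_isFinLocFreeOfRank_one _).1 hN
    have hN'1 := (Groth.Agent.Lib.Helper29.QCoh.isInvertible_iff_isFinLocFreeOfRank_one _).1 hN'
    have hma : CategoryTheory.Mono a := hSE.mono_f
    by_cases hg : S.f ≫ b = 0
    · have hψ : hSE.exact.lift S.f hg ≫ a = S.f := hSE.exact.lift_f S.f hg
      have hψ0 : hSE.exact.lift S.f hg ≠ 0 := by
        intro h0
        have hf0 : S.f = 0 := by rw [← hψ, h0, CategoryTheory.Limits.zero_comp]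
        have hz : CategoryTheory.Limits.IsZero S.X₁ :=
          CategoryTheory.Limits.IsZero.of_mono_eq_zero S.f hf0
        have := Groth.Agent.Lib.Helper2.DegAdd.rank_eq_zero_of_isZero hL1 hz
        omega
      have hm := Groth.Agent.Lib.Helper2.DegAdd.mono_of_ne_zero_rank_one k (le_of_eq hdim) hL1 hN1
        (hSE.exact.lift S.f hg) hψ0
      have := Groth.Agent.Lib.Helper2.DegAdd.deg_le_of_mono_same_rank k (le_of_eq hdim)
        (hSE.exact.lift S.f hg) 1 hL1 hN1
      linarith
    · have hm := Groth.Agent.Lib.Helper2.DegAdd.mono_of_ne_zero_rank_one k (le_of_eq hdim) hL1 hN'1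
        (S.f ≫ b) hg
      have := Groth.Agent.Lib.Helper2.DegAdd.deg_le_of_mono_same_rank k (le_of_eq hdim)
        (S.f ≫ b) 1 hL1 hN'1
      linarith

end Groth.Agent.S13934
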