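import Groth.Statements.S13936
import Mathlib

set_option autoImplicit false
universe u
open W4c1limliniiii

namespace S13936aux
open scoped TensorProduct

variable {R SX : Type u} [CommRing R] [CommRing SX] [Algebra R SX] (σ : SX →ₐ[R] R)

/-- `ρ = σ ⊗ id`. -/
noncomputable def rho : SX ⊗[R] SX →ₐ[R] SX :=
  Algebra.TensorProduct.lift ((Algebra.ofId R SX).comp σ) (AlgHom.id R SX)
    (fun _ _ => Commute.all _ _)

@[simp] lemma rho_tmul (a b : SX) : rho σ (a ⊗ₜ b) = algebraMap R SX (σ a) * b := by
  simp [rho, Algebra.ofId_apply]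

/-- `δ b = 1 ⊗ b - b ⊗ 1`. -/
noncomputable def delta : SX →ₗ[R] SX ⊗[R] SX :=
  (Algebra.TensorProduct.includeRight (R := R) (A := SX) (B := SX)).toLinearMap -
    (Algebra.TensorProduct.includeLeft (R := R) (S := R) (A := SX) (B := SX)).toLinearMap

variable (R) in
@[simp] lemma delta_apply (b : SX) : delta (R := R) b = (1 : SX) ⊗ₜ[R] b - b ⊗ₜ[R] (1 : SX) := by
  simp [delta]

lemma delta_mem (b : SX) : delta (R := R) b ∈ KaehlerDifferential.ideal R SX := by
  rw [delta_apply]; exact KaehlerDifferential.one_smul_sub_smul_one_mem_ideal R b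

lemma sigma_sub (b : SX) : b - algebraMap R SX (σ b) ∈ RingHom.ker σ.toRingHom := by
  rw [RingHom.mem_ker]
  simp

lemma rho_delta (b : SX) : rho σ (delta (R := R) b) = b - algebraMap R SX (σ b) := by
  simp

lemma delta_algebraMap (r : R) : delta (R := R) (algebraMap R SX r) = 0 := by
  rw [delta_apply, Algebra.algebraMap_eq_smul_one, TensorProduct.tmul_smul, TensorProduct.smul_tmul',
    sub_self]

lemma rho_mem_ker : ∀ x ∈ KaehlerDifferential.ideal R SX, rho σ x ∈ RingHom.ker σ.toRingHom := by
  intro x hx
  have : KaehlerDifferential.ideal R SX ≤ (RingHom.ker σ.toRingHom).comap (rho σ).toRingHom := by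
    rw [← KaehlerDifferential.span_range_eq_ideal, Ideal.span_le]
    rintro _ ⟨b, rfl⟩
    simp only [SetLike.mem_coe, Ideal.mem_comap]
    have := sigma_sub σ b
    simpa using this
  exact this hx

lemma rho_mem_pow (e : ℕ) : ∀ x ∈ KaehlerDifferential.ideal R SX ^ e,
    rho σ x ∈ RingHom.ker σ.toRingHom ^ e := by
  intro x hx
  have h1 : (KaehlerDifferential.ideal R SX).map (rho σ).toRingHom ≤ RingHom.ker σ.toRingHom := by
    rw [Ideal.map_le_iff_le_comap]
    intro y hy
    exact rho_mem_ker σ y hy
  have h2 := Ideal.pow_right_mono h1 e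
  rw [← Ideal.map_pow] at h2
  exact h2 (Ideal.mem_map_of_mem _ hx)

/-- `I • J'` is stable under multiplication by `T`. -/
lemma mul_mem_smul (t : SX ⊗[R] SX) :
    ∀ m ∈ RingHom.ker σ.toRingHom • (KaehlerDifferential.ideal R SX).restrictScalars SX,
      t * m ∈ RingHom.ker σ.toRingHom • (KaehlerDifferential.ideal R SX).restrictScalars SX := by
  intro m hm
  refine Submodule.smul_induction_on hm ?_ ?_
  · intro i hi x hx
    rw [mul_smul_comm]
    exact Submodule.smul_mem_smul hi ((KaehlerDifferential.ideal R SX).mul_mem_left t hx)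
  · intro x y hx hy
    rw [mul_add]; exact add_mem hx hy

lemma smul_rho (a : SX) (x : SX ⊗[R] SX) : rho σ (a • x) = algebraMap R SX (σ a) * rho σ x := by
  rw [Algebra.smul_def, map_mul, Algebra.TensorProduct.algebraMap_apply]
  simp

/-- Lemma B -/
lemma sub_delta_rho_mem : ∀ x ∈ KaehlerDifferential.ideal R SX,
    x - delta (R := R) (rho σ x) ∈
      RingHom.ker σ.toRingHom • (KaehlerDifferential.ideal R SX).restrictScalars SX := by
  intro x hx
  have hx' : x ∈ (KaehlerDifferential.ideal R SX).restrictScalars SX := hx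
  rw [← KaehlerDifferential.submodule_span_range_eq_ideal] at hx'
  clear hx
  induction hx' using Submodule.span_induction with
  | mem x hx =>
    obtain ⟨b, rfl⟩ := hx
    have : (1 : SX) ⊗ₜ[R] b - b ⊗ₜ[R] (1 : SX) = delta (R := R) b := (delta_apply R b).symm
    beta_reduce
    rw [this, rho_delta, map_sub, delta_algebraMap, sub_zero, sub_self]
    exact zero_mem _
  | zero => simp
  | add x y _ _ hx hy =>
    have : x + y - delta (R := R) (rho σ (x + y)) =
      (x - delta (R := R) (rho σ x)) + (y - delta (R := R) (rho σ y)) := by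
      rw [map_add, map_add]; abel
    rw [this]
    exact add_mem hx hy
  | smul a x hx ih =>
    have h1 : rho σ (a • x) = σ a • rho σ x := by
      rw [smul_rho, Algebra.smul_def]
    have : a • x - delta (R := R) (rho σ (a • x)) =
        a • (x - delta (R := R) (rho σ x)) +
          (a - algebraMap R SX (σ a)) • delta (R := R) (rho σ x) := by
      rw [h1, map_smul, smul_sub, sub_smul, algebraMap_smul]
      abel
    rw [this]
    refine add_mem (Submodule.smul_mem _ _ ih) ?_
    exact Submodule.smul_mem_smul (sigma_sub σ a) (delta_mem _)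

lemma delta_mul (a b : SX) : delta (R := R) (a * b) =
    delta (R := R) a * delta (R := R) b + a • delta (R := R) b + b • delta (R := R) a := by
  simp only [delta_apply, Algebra.smul_def, Algebra.TensorProduct.algebraMap_apply,
    Algebra.algebraMap_self, RingHom.id_apply]
  simp only [mul_sub, sub_mul, Algebra.TensorProduct.tmul_mul_tmul, one_mul, mul_one]
  rw [mul_comm b a]
  abel

/-- Lemma C -/
lemma delta_mem_of_mem_pow (e : ℕ) (he : 1 ≤ e) : ∀ b ∈ RingHom.ker σ.toRingHom ^ e,
    delta (R := R) b ∈
      RingHom.ker σ.toRingHom • (KaehlerDifferential.ideal R SX).restrictScalars SX ⊔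
        (KaehlerDifferential.ideal R SX ^ e).restrictScalars SX := by
  induction e, he using Nat.le_induction with
  | base =>
    intro b _
    refine Submodule.mem_sup_right ?_
    rw [pow_one]
    exact delta_mem b
  | succ e he ih =>
    intro b hb
    rw [pow_succ'] at hb
    refine Submodule.mul_induction_on hb ?_ ?_
    · intro a ha b hb
      rw [delta_mul]
      have hbI : b ∈ RingHom.ker σ.toRingHom := Ideal.pow_le_self (by omega) hb
      refine add_mem (add_mem ?_ ?_) ?_
      · obtain ⟨m, hm, j, hj, hmj⟩ := Submodule.mem_sup.mp (ih b hb)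
        rw [← hmj, mul_add]
        refine add_mem (Submodule.mem_sup_left (mul_mem_smul σ _ m hm)) (Submodule.mem_sup_right ?_)
        change _ ∈ KaehlerDifferential.ideal R SX ^ (e + 1)
        rw [pow_succ']
        exact Ideal.mul_mem_mul (delta_mem a) hj
      · exact Submodule.mem_sup_left (Submodule.smul_mem_smul ha (delta_mem b))
      · exact Submodule.mem_sup_left (Submodule.smul_mem_smul hbI (delta_mem a))
    · intro x y hx hy
      rw [map_add]; exact add_mem hx hy

/-- ψ : P → SX / I^e -/
noncomputable def psi (n : ℕ) : PP16.P n R SX →+* SX ⧸ (RingHom.ker σ.toRingHom ^ (n + 1)) :=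
  Ideal.Quotient.lift _ ((Ideal.Quotient.mk _).comp (rho σ).toRingHom) (by
    intro x hx
    simp only [RingHom.comp_apply]
    rw [Ideal.Quotient.eq_zero_iff_mem]
    exact rho_mem_pow σ (n + 1) x hx)

lemma psi_mk (n : ℕ) (x : SX ⊗[R] SX) :
    psi σ n (Ideal.Quotient.mk _ x) = Ideal.Quotient.mk _ (rho σ x) := rfl

lemma psi_eq_zero (n : ℕ) :
    ∀ z ∈ RingHom.ker σ.toRingHom • (PP16.augIdeal n R SX).restrictScalars SX, psi σ n z = 0 := by
  intro z hz
  refine Submodule.smul_induction_on hz ?_ ?_
  · intro i hi x hx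
    obtain ⟨x', rfl⟩ := Ideal.Quotient.mk_surjective x
    have h1 : i • (Ideal.Quotient.mk (KaehlerDifferential.ideal R SX ^ (n + 1)) x') =
        Ideal.Quotient.mk _ (i • x') := rfl
    rw [h1, psi_mk, smul_rho]
    have h2 : σ i = 0 := hi
    rw [h2, map_zero, zero_mul, map_zero]
  · intro x y hx hy; rw [map_add, hx, hy, add_zero]

theorem main (R SY SX : Type u)
    [CommRing R] [CommRing SY] [CommRing SX] [Algebra R SY] [Algebra R SX] [Algebra SY SX]
    [IsScalarTower R SY SX] (σ : SX →ₐ[R] R) (n : ℕ) :
    (∀ y ∈ PP16.augIdeal n R SY,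
        PP16.map n R SY R SX y ∈
          RingHom.ker σ.toRingHom • (PP16.augIdeal n R SX).restrictScalars SX) ↔
      (∀ b : SY, algebraMap SY SX b ∈ RingHom.ker σ.toRingHom →
        algebraMap SY SX b ∈ RingHom.ker σ.toRingHom ^ (n + 1)) := by
  constructor
  · intro H b hb
    have hy : Ideal.Quotient.mk _ ((1 : SY) ⊗ₜ[R] b - b ⊗ₜ[R] (1 : SY)) ∈ PP16.augIdeal n R SY :=
      Ideal.mem_map_of_mem _ (KaehlerDifferential.one_smul_sub_smul_one_mem_ideal R b)
    have h1 := psi_eq_zero σ n _ (H _ hy)
    rw [PP16.map_mk, map_sub, PP16.tensorMap_tmul, PP16.tensorMap_tmul, map_one, psi_mk] at h1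
    rw [← delta_apply, rho_delta, Ideal.Quotient.eq_zero_iff_mem] at h1
    have h2 : σ (algebraMap SY SX b) = 0 := hb
    rwa [h2, map_zero, sub_zero] at h1
  · intro H y hy
    obtain ⟨y', hy', rfl⟩ := (Ideal.mem_map_iff_of_surjective _ Ideal.Quotient.mk_surjective).mp hy
    rw [PP16.map_mk]
    have hxJ : PP16.tensorMap R SY R SX y' ∈ KaehlerDifferential.ideal R SX :=
      PP16.ideal_map_tensorMap_le R SY R SX (Ideal.mem_map_of_mem _ hy')
    have hrho : rho σ (PP16.tensorMap R SY R SX y') ∈ RingHom.ker σ.toRingHom ^ (n + 1) := by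
      have : KaehlerDifferential.ideal R SY ≤
          (RingHom.ker σ.toRingHom ^ (n + 1)).comap
            ((rho σ).toRingHom.comp (PP16.tensorMap R SY R SX).toRingHom) := by
        rw [← KaehlerDifferential.span_range_eq_ideal, Ideal.span_le]
        rintro _ ⟨b, rfl⟩
        simp only [SetLike.mem_coe, Ideal.mem_comap, RingHom.comp_apply, AlgHom.toRingHom_eq_coe,
          RingHom.coe_coe]
        rw [map_sub, PP16.tensorMap_tmul, PP16.tensorMap_tmul, map_one, ← delta_apply, rho_delta]
        have h3 : algebraMap SY SX b - algebraMap R SX (σ (algebraMap SY SX b)) =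
            algebraMap SY SX (b - algebraMap R SY (σ (algebraMap SY SX b))) := by
          rw [map_sub, ← IsScalarTower.algebraMap_apply]
        rw [h3]
        apply H
        rw [← h3]
        exact sigma_sub σ _
      exact this hy'
    have h1 := sub_delta_rho_mem σ _ hxJ
    have h2 := delta_mem_of_mem_pow σ (n + 1) (by omega) _ hrho
    have h3 : PP16.tensorMap R SY R SX y' ∈
        RingHom.ker σ.toRingHom • (KaehlerDifferential.ideal R SX).restrictScalars SX ⊔
        (KaehlerDifferential.ideal R SX ^ (n + 1)).restrictScalars SX := by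
      have h4 : PP16.tensorMap R SY R SX y' =
          (PP16.tensorMap R SY R SX y' - delta (R := R) (rho σ (PP16.tensorMap R SY R SX y'))) +
            delta (R := R) (rho σ (PP16.tensorMap R SY R SX y')) := by abel
      rw [h4]; exact add_mem (Submodule.mem_sup_left h1) h2
    obtain ⟨m, hm, j, hj, hmj⟩ := Submodule.mem_sup.mp h3
    have hj' : Ideal.Quotient.mk (KaehlerDifferential.ideal R SX ^ (n + 1)) j = 0 :=
      Ideal.Quotient.eq_zero_iff_mem.mpr hj
    rw [← hmj, map_add, hj', add_zero]
    refine Submodule.smul_induction_on hm ?_ ?_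
    · intro i hi t ht
      have h5 : Ideal.Quotient.mk (KaehlerDifferential.ideal R SX ^ (n + 1)) t ∈
          (PP16.augIdeal n R SX).restrictScalars SX :=
        Ideal.mem_map_of_mem (Ideal.Quotient.mk (KaehlerDifferential.ideal R SX ^ (n + 1))) ht
      exact Submodule.smul_mem_smul hi h5
    · intro a b ha hb; rw [map_add]; exact add_mem ha hb

end S13936aux

namespace Groth.Agent.S13936

/-- Let R be a commutative ring, S_Y → S_X a homomorphism of R-algebras (an affine piece of a morphism f
: X → Y of schemes over Spec R) and σ : S_X → R an R-algebra retraction (a section of X over the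
base) with kernel I. For e ≥ 1 write T^{e−1} for the augmentation ideal of the ring of principal
parts of order e − 1 (the kernel of P^{e−1} → the algebra; for e = 2 this is the module of
differentials). Then the natural map T^{e−1}(S_Y/R) → T^{e−1}(S_X/R) takes values in I ·
T^{e−1}(S_X/R) — that is, the induced map f^*T^{e−1}_Y → T^{e−1}_X vanishes at the section σ — if
and only if every element of S_Y whose image in S_X lies in I has image in I^e, which says that the
fibre of f through σ contains the e-th order thickening of σ. (The published statement is for a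
morphism of separated schemes over a base and sections over an arbitrary base change; this row is
the affine computation it reduces to.) -/
theorem result (R SY SX : Type u)
    [CommRing R] [CommRing SY] [CommRing SX] [Algebra R SY] [Algebra R SX] [Algebra SY SX]
    [IsScalarTower R SY SX] (σ : SX →ₐ[R] R) (e : ℕ) (he : 1 ≤ e) :
    (∀ y ∈ PP16.augIdeal (e - 1) R SY,
        PP16.map (e - 1) R SY R SX y ∈
          RingHom.ker σ.toRingHom • (PP16.augIdeal (e - 1) R SX).restrictScalars SX) ↔
      (∀ b : SY, algebraMap SY SX b ∈ RingHom.ker σ.toRingHom →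
        algebraMap SY SX b ∈ RingHom.ker σ.toRingHom ^ e) := by
  obtain ⟨n, rfl⟩ : ∃ n, e = n + 1 := ⟨e - 1, by omega⟩
  rw [Nat.add_sub_cancel]
  exact S13936aux.main R SY SX σ n

end Groth.Agent.S13936
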