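import Groth.Statements.S13937
import Mathlib

set_option autoImplicit false
universe u
open W4c1limliniiii

namespace S13937aux
open Polynomial
set_option linter.unusedSectionVars false

variable {k : Type u} [Field k]

/-- polynomials of degree ≤ d divisible by `(X - a)^m`. -/
noncomputable def W (d : ℕ) (a : k) (m : ℕ) : Submodule k k[X] :=
  Polynomial.degreeLE k d ⊓ (Ideal.span {(X - C a) ^ m}).restrictScalars k

lemma mem_W {d : ℕ} {a : k} {m : ℕ} {s : k[X]} :
    s ∈ W d a m ↔ s ∈ Polynomial.degreeLE k d ∧ (X - C a) ^ m ∣ s := by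
  simp [W, Ideal.mem_span_singleton]

lemma disj {d : ℕ} {a b : k} (hab : a ≠ b) {m n : ℕ} (h : d < m + n) {s : k[X]}
    (h1 : s ∈ W d a m) (h2 : s ∈ W d b n) : s = 0 := by
  rw [mem_W] at h1 h2
  by_contra hs
  have hcop : IsCoprime ((X - C a) ^ m) ((X - C b) ^ n) :=
    (Polynomial.isCoprime_X_sub_C_of_isUnit_sub (sub_ne_zero.mpr hab).isUnit).pow
  have hdvd := hcop.mul_dvd h1.2 h2.2
  have hdeg := Polynomial.natDegree_le_of_dvd hdvd hs
  have : ((X - C a) ^ m * (X - C b) ^ n).natDegree = m + n := by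
    rw [Polynomial.natDegree_mul (pow_ne_zero _ (X_sub_C_ne_zero a)) (pow_ne_zero _ (X_sub_C_ne_zero b)),
      natDegree_pow, natDegree_pow, natDegree_X_sub_C, natDegree_X_sub_C, mul_one, mul_one]
  have h3 : s.natDegree ≤ d := by
    have := Polynomial.mem_degreeLE.mp h1.1
    exact Polynomial.natDegree_le_of_degree_le this
  omega

lemma mem_W_of_rootMult {d : ℕ} {a : k} {m : ℕ} {s : k[X]} (hs : s ≠ 0)
    (hd : s ∈ Polynomial.degreeLE k d) (h : m ≤ rootMultiplicity a s) : s ∈ W d a m :=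
  mem_W.mpr ⟨hd, (Polynomial.le_rootMultiplicity_iff hs).mp h⟩

lemma rootMult_of_mem_W {d : ℕ} {a : k} {m : ℕ} {s : k[X]} (hs : s ≠ 0)
    (h : s ∈ W d a m) : m ≤ rootMultiplicity a s :=
  (Polynomial.le_rootMultiplicity_iff hs).mpr (mem_W.mp h).2

/-- the linear space of pairs -/
noncomputable def L (d : ℕ) (P : Fin 3 → k) (e : Fin 3 → ℕ) : Submodule k (k[X] × k[X]) :=
  (W d (P 0) (e 0)).comap (LinearMap.fst k k[X] k[X]) ⊓
    (W d (P 1) (e 1)).comap (LinearMap.snd k k[X] k[X]) ⊓
    (W d (P 2) (e 2)).comap (LinearMap.fst k k[X] k[X] + LinearMap.snd k k[X] k[X])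

lemma mem_L {d : ℕ} {P : Fin 3 → k} {e : Fin 3 → ℕ} {v : k[X] × k[X]} :
    v ∈ L d P e ↔ v.1 ∈ W d (P 0) (e 0) ∧ v.2 ∈ W d (P 1) (e 1) ∧ v.1 + v.2 ∈ W d (P 2) (e 2) := by
  simp [L, and_assoc]

section
variable {d : ℕ} {P : Fin 3 → k} {e : Fin 3 → ℕ} (hP : Function.Injective P)
  (h01 : d < e 0 + e 1) (h02 : d < e 0 + e 2) (h12 : d < e 1 + e 2)
include hP h01 h02 h12

lemma P01 : P 0 ≠ P 1 := fun h => by have := hP h; simp at this
lemma P02 : P 0 ≠ P 2 := fun h => by have := hP h; simp at this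
lemma P12 : P 1 ≠ P 2 := fun h => by have := hP h; simp at this

lemma fst_ne_zero {v : k[X] × k[X]} (hv : v ∈ L d P e) (h0 : v ≠ 0) : v.1 ≠ 0 := by
  intro h
  rw [mem_L] at hv
  have : v.2 = 0 := by
    refine disj (P12 hP h01 h02 h12) h12 hv.2.1 ?_
    have := hv.2.2
    rwa [h, zero_add] at this
  exact h0 (Prod.ext h this)

lemma snd_ne_zero {v : k[X] × k[X]} (hv : v ∈ L d P e) (h0 : v ≠ 0) : v.2 ≠ 0 := by
  intro h
  rw [mem_L] at hv
  have : v.1 = 0 := by
    refine disj (P02 hP h01 h02 h12) h02 hv.1 ?_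
    have := hv.2.2
    rwa [h, add_zero] at this
  exact h0 (Prod.ext this h)

lemma linIndep {v : k[X] × k[X]} (hv : v ∈ L d P e) (h0 : v ≠ 0) :
    LinearIndependent k ![v.1, v.2] := by
  have h1 := fst_ne_zero hP h01 h02 h12 hv h0
  have h2 := snd_ne_zero hP h01 h02 h12 hv h0
  rw [mem_L] at hv
  rw [LinearIndependent.pair_iff]
  intro a b hab
  have h3 : a • v.1 = 0 := by
    refine disj (P01 hP h01 h02 h12) h01 (Submodule.smul_mem _ _ hv.1) ?_
    have : a • v.1 = (-b) • v.2 := by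
      rw [neg_smul]; exact eq_neg_of_add_eq_zero_left hab
    rw [this]
    exact Submodule.smul_mem _ _ hv.2.1
  have ha : a = 0 := (smul_eq_zero.mp h3).resolve_right h1
  rw [ha, zero_smul, zero_add] at hab
  exact ⟨ha, (smul_eq_zero.mp hab).resolve_right h2⟩

lemma sum_ne_zero {v : k[X] × k[X]} (hv : v ∈ L d P e) (h0 : v ≠ 0) : v.1 + v.2 ≠ 0 := by
  intro h
  have h1 := fst_ne_zero hP h01 h02 h12 hv h0
  rw [mem_L] at hv
  apply h1
  refine disj (P01 hP h01 h02 h12) h01 hv.1 ?_
  have : v.1 = - v.2 := eq_neg_of_add_eq_zero_left h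
  rw [this]
  exact neg_mem hv.2.1

lemma finrank_span {v : k[X] × k[X]} (hv : v ∈ L d P e) (h0 : v ≠ 0) :
    Module.finrank k (Submodule.span k {v.1, v.2}) = 2 := by
  have := finrank_span_eq_card (linIndep hP h01 h02 h12 hv h0)
  have hr : Set.range ![v.1, v.2] = {v.1, v.2} := by
    ext x
    simp only [Set.mem_range, Fin.exists_fin_two, Matrix.cons_val_zero, Matrix.cons_val_one,
      Set.mem_insert_iff, Set.mem_singleton_iff]
    tauto
  rw [hr] at this
  simpa using this

lemma span_le {v : k[X] × k[X]} (hv : v ∈ L d P e) :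
    Submodule.span k {v.1, v.2} ≤ Polynomial.degreeLE k d := by
  rw [mem_L] at hv
  rw [Submodule.span_le]
  rintro x (rfl | rfl)
  · exact (mem_W.mp hv.1).1
  · exact (mem_W.mp hv.2.1).1

lemma surj (V : Submodule k k[X]) (hV : V ≤ Polynomial.degreeLE k d)
    (hVr : Module.finrank k V = 2)
    (hVs : ∀ i, ∃ s ∈ V, s ≠ 0 ∧ e i ≤ Polynomial.rootMultiplicity (P i) s) :
    ∃ v ∈ L d P e, v ≠ 0 ∧ Submodule.span k {v.1, v.2} = V := by
  have : Module.Finite k V := Module.finite_of_finrank_pos (by omega)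
  obtain ⟨t0, ht0V, ht0, ht0e⟩ := hVs 0
  obtain ⟨t1, ht1V, ht1, ht1e⟩ := hVs 1
  obtain ⟨t2, ht2V, ht2, ht2e⟩ := hVs 2
  have hW0 := mem_W_of_rootMult ht0 (hV ht0V) ht0e
  have hW1 := mem_W_of_rootMult ht1 (hV ht1V) ht1e
  have hW2 := mem_W_of_rootMult ht2 (hV ht2V) ht2e
  -- (t0, t1 - ... ) : first show span {t0,t1} = V
  have hli : LinearIndependent k ![t0, t1] := by
    rw [LinearIndependent.pair_iff]
    intro a b hab
    have h3 : a • t0 = 0 := by
      refine disj (P01 hP h01 h02 h12) h01 (Submodule.smul_mem _ _ hW0) ?_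
      have : a • t0 = (-b) • t1 := by
        rw [neg_smul]; exact eq_neg_of_add_eq_zero_left hab
      rw [this]
      exact Submodule.smul_mem _ _ hW1
    have ha : a = 0 := (smul_eq_zero.mp h3).resolve_right ht0
    rw [ha, zero_smul, zero_add] at hab
    exact ⟨ha, (smul_eq_zero.mp hab).resolve_right ht1⟩
  have hr : Set.range ![t0, t1] = {t0, t1} := by
    ext x
    simp only [Set.mem_range, Fin.exists_fin_two, Matrix.cons_val_zero, Matrix.cons_val_one,
      Set.mem_insert_iff, Set.mem_singleton_iff]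
    tauto
  have hfr : Module.finrank k (Submodule.span k {t0, t1}) = 2 := by
    have := finrank_span_eq_card hli
    rw [hr] at this
    simpa using this
  have hle : Submodule.span k {t0, t1} ≤ V := by
    rw [Submodule.span_le]
    rintro x (rfl | rfl)
    · exact ht0V
    · exact ht1V
  have hspan : Submodule.span k {t0, t1} = V :=
    Submodule.eq_of_le_of_finrank_eq hle (hfr.trans hVr.symm)
  have ht2' : t2 ∈ Submodule.span k {t0, t1} := hspan ▸ ht2V
  obtain ⟨a, b, hab⟩ := Submodule.mem_span_pair.mp ht2'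
  have hvL : (a • t0, b • t1) ∈ L d P e := by
    rw [mem_L]
    refine ⟨Submodule.smul_mem _ _ hW0, Submodule.smul_mem _ _ hW1, ?_⟩
    rw [hab]; exact hW2
  have hv0 : (a • t0, b • t1) ≠ (0 : k[X] × k[X]) := by
    intro h
    have h1 : a • t0 = 0 := congrArg Prod.fst h
    have h2 : b • t1 = 0 := congrArg Prod.snd h
    rw [h1, h2, add_zero] at hab
    exact ht2 hab.symm
  refine ⟨(a • t0, b • t1), hvL, hv0, ?_⟩
  refine Submodule.eq_of_le_of_finrank_eq ?_ ((finrank_span hP h01 h02 h12 hvL hv0).trans hVr.symm)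
  rw [Submodule.span_le]
  rintro x (rfl | rfl)
  · exact Submodule.smul_mem _ _ ht0V
  · exact Submodule.smul_mem _ _ ht1V

lemma inj {v w : k[X] × k[X]} (hv : v ∈ L d P e) (hw : w ∈ L d P e) (hv0 : v ≠ 0) (hw0 : w ≠ 0)
    (h : Submodule.span k {v.1, v.2} = Submodule.span k {w.1, w.2}) : ∃ c : k, w = c • v := by
  have hv1 := fst_ne_zero hP h01 h02 h12 hv hv0
  have hv2 := snd_ne_zero hP h01 h02 h12 hv hv0
  have hvL := mem_L.mp hv
  have hwL := mem_L.mp hw
  have hw1 : w.1 ∈ Submodule.span k {v.1, v.2} := by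
    rw [h]; exact Submodule.subset_span (by simp)
  have hw2 : w.2 ∈ Submodule.span k {v.1, v.2} := by
    rw [h]; exact Submodule.subset_span (by simp)
  obtain ⟨a, b, hab⟩ := Submodule.mem_span_pair.mp hw1
  obtain ⟨a', b', hab'⟩ := Submodule.mem_span_pair.mp hw2
  have hb : b = 0 := by
    have h3 : b • v.2 = 0 := by
      refine disj (P01 hP h01 h02 h12) h01 ?_ (Submodule.smul_mem _ _ hvL.2.1)
      have : b • v.2 = w.1 - a • v.1 := by rw [← hab]; abel
      rw [this]
      exact sub_mem hwL.1 (Submodule.smul_mem _ _ hvL.1)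
    exact (smul_eq_zero.mp h3).resolve_right hv2
  have ha' : a' = 0 := by
    have h3 : a' • v.1 = 0 := by
      refine disj (P01 hP h01 h02 h12) h01 (Submodule.smul_mem _ _ hvL.1) ?_
      have : a' • v.1 = w.2 - b' • v.2 := by rw [← hab']; abel
      rw [this]
      exact sub_mem hwL.2.1 (Submodule.smul_mem _ _ hvL.2.1)
    exact (smul_eq_zero.mp h3).resolve_right hv1
  rw [hb, zero_smul, add_zero] at hab
  rw [ha', zero_smul, zero_add] at hab'
  have hba : b' = a := by
    have h3 : (b' - a) • v.2 = 0 := by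
      refine disj (P12 hP h01 h02 h12) h12 (Submodule.smul_mem _ _ hvL.2.1) ?_
      have : (b' - a) • v.2 = (w.1 + w.2) - a • (v.1 + v.2) := by
        rw [← hab, ← hab', sub_smul, smul_add]; abel
      rw [this]
      exact sub_mem hwL.2.2 (Submodule.smul_mem _ _ hvL.2.2)
    exact sub_eq_zero.mp ((smul_eq_zero.mp h3).resolve_right hv2)
  refine ⟨a, Prod.ext ?_ ?_⟩
  · simp [← hab]
  · simp [← hab', hba]

end

section nonbot

instance (n : ℕ) : Module.Finite k (Polynomial.degreeLT k n) :=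
  Module.Finite.equiv (Polynomial.degreeLTEquiv k n).symm

lemma finrank_degreeLT (n : ℕ) : Module.finrank k (Polynomial.degreeLT k n) = n := by
  rw [(Polynomial.degreeLTEquiv k n).finrank_eq, Module.finrank_fin_fun]

/-- multiplication by `(X - a)^m` from `degreeLT n` to `degreeLT (n + m)`. -/
noncomputable def mulPow (a : k) (m n N : ℕ) (h : n + m ≤ N) :
    Polynomial.degreeLT k n →ₗ[k] Polynomial.degreeLT k N :=
  LinearMap.codRestrict _ ((LinearMap.mulLeft k ((X - C a) ^ m)).comp (Polynomial.degreeLT k n).subtype)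
    (by
      intro q
      simp only [LinearMap.coe_comp, Submodule.coe_subtype, Function.comp_apply,
        LinearMap.mulLeft_apply]
      rw [Polynomial.mem_degreeLT]
      have hq := Polynomial.mem_degreeLT.mp q.2
      by_cases hq0 : (q : k[X]) = 0
      · rw [hq0, mul_zero, degree_zero]; exact WithBot.bot_lt_coe _
      · rw [degree_mul, degree_pow, degree_X_sub_C, nsmul_one]
        have h1 : (q : k[X]).degree = ((q : k[X]).natDegree : WithBot ℕ) :=
          Polynomial.degree_eq_natDegree hq0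
        rw [h1] at hq ⊢
        have h2 : (q : k[X]).natDegree < n := by exact_mod_cast hq
        have : m + (q : k[X]).natDegree < N := by omega
        exact_mod_cast this)

lemma mulPow_coe (a : k) (m n N : ℕ) (h : n + m ≤ N) (q : Polynomial.degreeLT k n) :
    (mulPow a m n N h q : k[X]) = (X - C a) ^ m * (q : k[X]) := rfl

lemma mulPow_mem_W (a : k) (m n d : ℕ) (h : n + m ≤ d + 1) (q : Polynomial.degreeLT k n) :
    (mulPow a m n (d + 1) h q : k[X]) ∈ W d a m := by
  rw [mem_W]
  refine ⟨?_, ?_⟩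
  · have := (mulPow a m n (d + 1) h q).2
    rw [Polynomial.mem_degreeLT] at this
    rw [Polynomial.mem_degreeLE]
    by_cases h0 : (mulPow a m n (d + 1) h q : k[X]) = 0
    · rw [h0, degree_zero]; exact bot_le
    · rw [Polynomial.degree_eq_natDegree h0] at this ⊢
      have h2 : (mulPow a m n (d + 1) h q : k[X]).natDegree < d + 1 := by exact_mod_cast this
      exact_mod_cast Nat.lt_succ_iff.mp h2
  · rw [mulPow_coe]; exact dvd_mul_right _ _

lemma L_ne_bot {d : ℕ} {P : Fin 3 → k} {e : Fin 3 → ℕ} (he : ∀ i, e i ≤ d)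
    (hsum : e 0 + e 1 + e 2 = 2 * d + 1) : L d P e ≠ ⊥ := by
  have h0 := he 0
  have h1 := he 1
  have h2 := he 2
  let Φ : (Polynomial.degreeLT k (d + 1 - e 0) × Polynomial.degreeLT k (d + 1 - e 1) ×
      Polynomial.degreeLT k (d + 1 - e 2)) →ₗ[k] Polynomial.degreeLT k (d + 1) :=
    (mulPow (P 0) (e 0) (d + 1 - e 0) (d + 1) (by omega)).comp (LinearMap.fst _ _ _) +
    (mulPow (P 1) (e 1) (d + 1 - e 1) (d + 1) (by omega)).comp
      ((LinearMap.fst _ _ _).comp (LinearMap.snd _ _ _)) +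
    (mulPow (P 2) (e 2) (d + 1 - e 2) (d + 1) (by omega)).comp
      ((LinearMap.snd _ _ _).comp (LinearMap.snd _ _ _))
  have hker : LinearMap.ker Φ ≠ ⊥ := by
    apply LinearMap.ker_ne_bot_of_finrank_lt
    rw [Module.finrank_prod, Module.finrank_prod, finrank_degreeLT, finrank_degreeLT,
      finrank_degreeLT, finrank_degreeLT]
    omega
  obtain ⟨x, hx, hx0⟩ := (Submodule.ne_bot_iff _).mp hker
  obtain ⟨q0, q1, q2⟩ := x
  rw [LinearMap.mem_ker] at hx
  have hΦ : ((X - C (P 0)) ^ e 0 * (q0 : k[X]) + (X - C (P 1)) ^ e 1 * (q1 : k[X])) +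
      (X - C (P 2)) ^ e 2 * (q2 : k[X]) = 0 := by
    have := congrArg (Subtype.val) hx
    simpa [Φ, mulPow_coe] using this
  intro hbot
  have hv : (((X - C (P 0)) ^ e 0 * (q0 : k[X])), ((X - C (P 1)) ^ e 1 * (q1 : k[X]))) ∈ L d P e := by
    rw [mem_L]
    refine ⟨?_, ?_, ?_⟩
    · exact mulPow_mem_W (P 0) (e 0) (d + 1 - e 0) d (by omega) q0
    · exact mulPow_mem_W (P 1) (e 1) (d + 1 - e 1) d (by omega) q1
    · have : (X - C (P 0)) ^ e 0 * (q0 : k[X]) + (X - C (P 1)) ^ e 1 * (q1 : k[X]) =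
          - ((X - C (P 2)) ^ e 2 * (q2 : k[X])) := eq_neg_of_add_eq_zero_left hΦ
      rw [this]
      exact neg_mem (mulPow_mem_W (P 2) (e 2) (d + 1 - e 2) d (by omega) q2)
  rw [hbot, Submodule.mem_bot, Prod.mk_eq_zero] at hv
  have hne : ∀ (a : k) (m : ℕ), (X - C a) ^ m ≠ 0 := fun a m => pow_ne_zero _ (X_sub_C_ne_zero a)
  have hq0 : (q0 : k[X]) = 0 := (mul_eq_zero.mp hv.1).resolve_left (hne _ _)
  have hq1 : (q1 : k[X]) = 0 := (mul_eq_zero.mp hv.2).resolve_left (hne _ _)
  rw [hq0, hq1, mul_zero, mul_zero, zero_add, zero_add] at hΦ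
  have hq2 : (q2 : k[X]) = 0 := (mul_eq_zero.mp hΦ).resolve_left (hne _ _)
  apply hx0
  ext <;> simp [hq0, hq1, hq2]

end nonbot

end S13937aux

namespace Groth.Agent.S13937

open Polynomial in
/-- Over an algebraically closed field of characteristic p (zero allowed), fix three distinct points
P_1, P_2, P_3 of the affine line and admissible indices (2 ≤ e_i ≤ d, e_i prime to p, ∑ (e_i − 1) =
2d − 2). The two-dimensional spaces V of polynomials of degree at most d that contain, for each i, a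
non-zero member vanishing to order at least e_i at P_i (the intersection of the three Schubert
cycles in the Grassmannian of pencils) form a projective space of some dimension m ≥ 0: there is a
non-zero linear space L of pairs of polynomials such that sending a non-zero pair (F, G) ∈ L to the
span of F and G is a surjection onto that set of spaces under which two non-zero pairs have the same
image exactly when they are proportional. -/
theorem result (k : Type u) [Field k]
    [IsAlgClosed k] (p : ℕ) [CharP k p] (d : ℕ) (P : Fin 3 → k) (hP : Function.Injective P)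
    (e : Fin 3 → ℕ) (he : W4c1limliniiii.Admissible p d e) :
    ∃ L : Submodule k (k[X] × k[X]), L ≠ ⊥ ∧
      (∀ v ∈ L, v ≠ 0 →
        Submodule.span k {v.1, v.2} ≤ Polynomial.degreeLE k d ∧
          Module.finrank k (Submodule.span k {v.1, v.2}) = 2 ∧
          ∀ i, ∃ s ∈ Submodule.span k {v.1, v.2}, s ≠ 0 ∧
            e i ≤ Polynomial.rootMultiplicity (P i) s) ∧
      (∀ V : Submodule k k[X], V ≤ Polynomial.degreeLE k d → Module.finrank k V = 2 →
        (∀ i, ∃ s ∈ V, s ≠ 0 ∧ e i ≤ Polynomial.rootMultiplicity (P i) s) →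
          ∃ v ∈ L, v ≠ 0 ∧ Submodule.span k {v.1, v.2} = V) ∧
      (∀ v ∈ L, ∀ w ∈ L, v ≠ 0 → w ≠ 0 →
        Submodule.span k {v.1, v.2} = Submodule.span k {w.1, w.2} → ∃ c : k, w = c • v) := by
  obtain ⟨he1, hsum⟩ := he
  have hsum2 : e 0 + e 1 + e 2 = 2 * d + 1 := by
    rw [Fin.sum_univ_three] at hsum; omega
  have h0 := (he1 0).2.1
  have h1 := (he1 1).2.1
  have h2 := (he1 2).2.1
  have h01 : d < e 0 + e 1 := by omega
  have h02 : d < e 0 + e 2 := by omega
  have h12 : d < e 1 + e 2 := by omega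
  refine ⟨S13937aux.L d P e, S13937aux.L_ne_bot (fun i => (he1 i).2.1) hsum2, ?_, ?_, ?_⟩
  · intro v hv hv0
    refine ⟨S13937aux.span_le hP h01 h02 h12 hv, S13937aux.finrank_span hP h01 h02 h12 hv hv0, ?_⟩
    have hf := S13937aux.fst_ne_zero hP h01 h02 h12 hv hv0
    have hs := S13937aux.snd_ne_zero hP h01 h02 h12 hv hv0
    have hfs := S13937aux.sum_ne_zero hP h01 h02 h12 hv hv0
    have hvL := S13937aux.mem_L.mp hv
    intro i
    fin_cases i
    · exact ⟨v.1, Submodule.subset_span (by simp), hf, S13937aux.rootMult_of_mem_W hf hvL.1⟩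
    · exact ⟨v.2, Submodule.subset_span (by simp), hs, S13937aux.rootMult_of_mem_W hs hvL.2.1⟩
    · exact ⟨v.1 + v.2, add_mem (Submodule.subset_span (by simp)) (Submodule.subset_span (by simp)),
        hfs, S13937aux.rootMult_of_mem_W hfs hvL.2.2⟩
  · intro V hV hVr hVs
    exact S13937aux.surj hP h01 h02 h12 V hV hVr hVs
  · intro v hv w hw hv0 hw0 h
    exact S13937aux.inj hP h01 h02 h12 hv hw hv0 hw0 h

end Groth.Agent.S13937
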