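import Groth.Statements.S1394
import Mathlib
import Groth.Agent.Lib.Helper23.QFPrime
-- import your own Groth.Agent.* helpers here

set_option autoImplicit false
universe u
open FlatMor

namespace Groth.Agent.S1394
open Groth.Agent.Lib.Helper23.QFPrime


/-- Let A → B be a local homomorphism of local rings with A Noetherian, B essentially of finite type
over A, and the residue field of B finite over that of A. Let V ⊆ Spec B be an open subset
containing some prime that does not lie over the maximal ideal of A. Then V contains a prime q, not
lying over the maximal ideal of A, such that B/q is quasi-finite over A in the sense that every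
fibre ring of A → B/q is finite over the corresponding residue field of A. (The published statement
is stronger: there B/q is moreover a localization of a quasi-finite A-algebra of finite type, which
implies this.) -/
theorem result {A B : Type u} [CommRing A] [CommRing B] [IsLocalRing A] [IsLocalRing B] [IsNoetherianRing A]
    [Algebra A B] [IsLocalHom (algebraMap A B)] [Algebra.EssFiniteType A B]
    [Module.Finite (IsLocalRing.ResidueField A) (IsLocalRing.ResidueField B)]
    (V : Set (PrimeSpectrum B)) (hV : IsOpen V) (hne : ∃ q ∈ V, q.asIdeal.comap (algebraMap A B) ≠ IsLocalRing.maximalIdeal A) :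
    ∃ q ∈ V, q.asIdeal.comap (algebraMap A B) ≠ IsLocalRing.maximalIdeal A ∧ Algebra.QuasiFinite A (B ⧸ q.asIdeal) := by
  haveI : IsNoetherianRing B := Algebra.EssFiniteType.isNoetherianRing A B
  let I : Ideal B := (IsLocalRing.maximalIdeal A).map (algebraMap A B)
  let W : Set (PrimeSpectrum B) := V ∩ (PrimeSpectrum.zeroLocus (I : Set B))ᶜ
  have hW : IsOpen W := hV.inter (PrimeSpectrum.isClosed_zeroLocus _).isOpen_compl
  have hWne : W.Nonempty := by
    obtain ⟨q0, hq0V, hq0⟩ := hne
    refine ⟨q0, hq0V, ?_⟩
    intro hmem
    apply hq0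
    have h1 : I ≤ q0.asIdeal := hmem
    have h2 : IsLocalRing.maximalIdeal A ≤ q0.asIdeal.comap (algebraMap A B) :=
      Ideal.map_le_iff_le_comap.mp h1
    exact le_antisymm (IsLocalRing.le_maximalIdeal (Ideal.IsPrime.ne_top inferInstance)) h2
  have hcl : IsLocalRing.closedPoint B ∉ W := by
    rintro ⟨_, h2⟩
    apply h2
    change I ≤ IsLocalRing.maximalIdeal B
    rw [Ideal.map_le_iff_le_comap]
    intro x hx
    exact (map_mem_nonunits_iff (algebraMap A B) x).mpr hx
  obtain ⟨q, hqW, hq1⟩ := exists_prime_dim_one W hW hWne hcl
  have hqI : ¬ (I ≤ q.asIdeal) := hqW.2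
  rw [Ideal.map_le_iff_le_comap] at hqI
  obtain ⟨a, ha, haq⟩ := SetLike.not_le_iff_exists.mp hqI
  refine ⟨q, hqW.1, ?_, ?_⟩
  · intro h
    exact haq (h ▸ ha)
  · exact quasiFinite_quotient q.asIdeal hq1 a ha haq

end Groth.Agent.S1394
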