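import Groth.Statements.S13953
-- import your own Groth.Agent.* helpers here

set_option autoImplicit false
universe u
open TateLoc

namespace Groth.Agent.S13953

/-- Let (R_i) be a family of local commutative rings and R = ∏ R_i. Any open cover of Spec R can be
refined by one coming from a finite partition of the index set: there is a map c from the index set
to a finite set such that, for each value m, the basic open subset of Spec R defined by the
idempotent which is 1 at the indices with c i = m and 0 elsewhere (this open is the spectrum of the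
product of the R_i over that class) is contained in some member of the cover. -/
theorem result {ι : Type u} (R : ι → Type u)
    [∀ i, CommRing (R i)] [∀ i, IsLocalRing (R i)] {J : Type u}
    (U : J → TopologicalSpace.Opens (PrimeSpectrum (∀ i, R i))) (hU : ⨆ j, U j = ⊤) :
    ∃ (n : ℕ) (c : ι → Fin n), ∀ m : Fin n, ∃ j : J,
      PrimeSpectrum.basicOpen (fun i => if c i = m then (1 : R i) else 0) ≤ U j := by
  classical
  let T : Set (∀ i, R i) := {f | ∃ j, PrimeSpectrum.basicOpen f ≤ U j}
  have hT : Ideal.span T = ⊤ := by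
    by_contra hne
    obtain ⟨M, hM, hTM⟩ := Ideal.exists_le_maximal _ hne
    let x : PrimeSpectrum (∀ i, R i) := ⟨M, hM.isPrime⟩
    have hx : x ∈ (⨆ j, U j : TopologicalSpace.Opens _) := by rw [hU]; trivial
    obtain ⟨j, hj⟩ := TopologicalSpace.Opens.mem_iSup.1 hx
    obtain ⟨_, ⟨f, rfl⟩, hxf, hfU⟩ :=
      PrimeSpectrum.isTopologicalBasis_basic_opens.exists_subset_of_mem_open hj (U j).2
    have hfT : f ∈ T := ⟨j, hfU⟩
    exact hxf (hTM (Ideal.subset_span hfT))
  obtain ⟨T', hT'T, hT'⟩ := (Ideal.span_eq_top_iff_finite T).1 hT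
  have h1 : (1 : ∀ i, R i) ∈ Ideal.span (T' : Set (∀ i, R i)) := by rw [hT']; trivial
  obtain ⟨g, hg⟩ := Submodule.mem_span_finset.1 h1
  have hunit : ∀ i, ∃ t ∈ T', IsUnit (t i) := by
    intro i
    by_contra hcon
    push Not at hcon
    have hsum : (∑ t ∈ T', g t i * t i) = 1 := by
      have := congrFun hg.2 i
      simpa [Finset.sum_apply] using this
    have hmem : (∑ t ∈ T', g t i * t i) ∈ IsLocalRing.maximalIdeal (R i) :=
      sum_mem fun t ht => Ideal.mul_mem_left _ _ (hcon t ht)
    rw [hsum] at hmem
    exact (IsLocalRing.maximalIdeal.isMaximal (R i)).ne_top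
      ((Ideal.eq_top_iff_one _).2 hmem)
  choose t ht hti using hunit
  refine ⟨T'.card, fun i => T'.equivFin ⟨t i, ht i⟩, fun m => ?_⟩
  let tm : (∀ i, R i) := (T'.equivFin.symm m).1
  have htm : tm ∈ T := hT'T (T'.equivFin.symm m).2
  obtain ⟨j, hj⟩ := htm
  refine ⟨j, le_trans ?_ hj⟩
  let h : ∀ i, R i := fun i => if T'.equivFin ⟨t i, ht i⟩ = m then Ring.inverse (tm i) else 0
  have heq : (fun i => if T'.equivFin ⟨t i, ht i⟩ = m then (1 : R i) else 0) = tm * h := by
    funext i
    simp only [Pi.mul_apply, h]
    split_ifs with hc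
    · have : tm i = t i i := by
        simp only [tm, ← hc, Equiv.symm_apply_apply]
      rw [Ring.mul_inverse_cancel _ (this ▸ hti i)]
    · simp
  rw [heq, PrimeSpectrum.basicOpen_mul]
  exact inf_le_left

end Groth.Agent.S13953
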