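import Groth.Statements.S13958
import Mathlib

set_option autoImplicit false
universe u
open TateLoc

namespace Groth.Agent.S13958
section Aux
/-- finitely generated commutative groups are residually finite -/
theorem residuallyFinite_of_fg (Q : Type u) [CommGroup Q] [Group.FG Q] : Group.ResiduallyFinite Q := by
  classical
  obtain ⟨ι, j, _, _, p, hp, e, ⟨E⟩⟩ := CommGroup.equiv_free_prod_prod_multiplicative_zmod Q
  haveI : ∀ i, NeZero (p i ^ e i) := fun i => ⟨pow_ne_zero _ (hp i).ne_zero⟩
  rw [Group.residuallyFinite_iff_exists_finiteIndex]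
  intro g hg
  suffices h : ∃ (H : Type) (_ : Group H) (_ : Finite H) (f : Q →* H), f g ≠ 1 by
    obtain ⟨_, _, _, f, hf⟩ := h
    exact ⟨f.ker, Subgroup.finiteIndex_ker f, by simpa using hf⟩
  have hEg : E g ≠ 1 := fun h => hg (by simpa using congrArg E.symm h)
  by_cases hw : (E g).2 = 1
  · have hu : (E g).1 ≠ 1 := fun h => hEg (Prod.ext h hw)
    obtain ⟨k, hk⟩ : ∃ k, (E g).1 k ≠ 1 := by
      by_contra hcon
      push Not at hcon
      exact hu (funext hcon)
    set z : ℤ := Multiplicative.toAdd ((E g).1 k) with hz
    have hz0 : z ≠ 0 := fun h => hk (by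
      have : (E g).1 k = Multiplicative.ofAdd z := rfl
      rw [this, h]; rfl)
    let m : ℕ := z.natAbs + 1
    haveI : NeZero m := ⟨Nat.succ_ne_zero _⟩
    refine ⟨Multiplicative (ZMod m), inferInstance, inferInstance,
      ((Int.castAddHom (ZMod m)).toMultiplicative.comp
        ((Pi.evalMonoidHom _ k).comp ((MonoidHom.fst _ _).comp E.toMonoidHom))), ?_⟩
    intro h
    have h' : ((z : ℤ) : ZMod m) = 0 := by
      have := congrArg Multiplicative.toAdd h
      simpa using this
    rw [ZMod.intCast_zmod_eq_zero_iff_dvd] at h'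
    have := Int.eq_zero_of_abs_lt_dvd h' (by
      rw [Int.abs_eq_natAbs]; push_cast [m]; omega)
    exact hz0 this
  · refine ⟨(i : ι) → Multiplicative (ZMod (p i ^ e i)), inferInstance, inferInstance,
      (MonoidHom.snd _ _).comp E.toMonoidHom, ?_⟩
    exact hw

theorem exists_fin_index (A' : Type u) [CommGroup A'] [Group.FG A'] (A : Subgroup A') (x : A')
    (hx : x ∉ A) : ∃ N : FiniteIndexNormalSubgroup A', A ≤ N.toSubgroup ∧ x ∉ N.toSubgroup := by
  haveI : Group.FG (A' ⧸ A) := Group.fg_of_surjective (QuotientGroup.mk'_surjective A)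
  haveI := residuallyFinite_of_fg (A' ⧸ A)
  have hx1 : (QuotientGroup.mk x : A' ⧸ A) ≠ 1 := fun h => hx ((QuotientGroup.eq_one_iff x).mp h)
  obtain ⟨H, hH⟩ := Group.exists_finiteIndexNormalSubgroup_notMem _ hx1
  refine ⟨H.comap (QuotientGroup.mk' A), ?_, ?_⟩
  · intro a ha
    show QuotientGroup.mk' A a ∈ H
    rw [QuotientGroup.mk'_apply, (QuotientGroup.eq_one_iff a).mpr ha]
    exact H.toSubgroup.one_mem
  · exact hH

end Aux


open CategoryTheory in
/-- Let A' be a finitely generated abelian group (written multiplicatively, discrete) and A a subgroup.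
If the image of x ∈ A' in the profinite completion of A' lies in the image of the profinite
completion of A under the map induced by the inclusion, then x ∈ A. (The published statement says
that the square formed by the two completion maps and the two inclusions is Cartesian; given the
injectivity of the induced map on completions, which holds here, that amounts to this membership
criterion.) -/
theorem result (A' : Type u) [CommGroup A'] [Group.FG A']
    (A : Subgroup A') (x : A')
    (hx : ProfiniteGrp.ProfiniteCompletion.etaFn (GrpCat.of A') x ∈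
      Set.range ⇑(ProfiniteGrp.profiniteCompletion.map (GrpCat.ofHom A.subtype)).hom) :
    x ∈ A := by
  by_contra hxA
  obtain ⟨N, hAN, hxN⟩ := exists_fin_index A' A x hxA
  obtain ⟨y, hy⟩ := hx
  let G' : GrpCat.{u} := GrpCat.of A'
  let G : GrpCat.{u} := GrpCat.of A
  let ι : G ⟶ G' := GrpCat.ofHom A.subtype
  let πN := (ProfiniteGrp.limitCone (ProfiniteGrp.ProfiniteCompletion.diagram G')).π.app N
  let ψ := ProfiniteGrp.profiniteCompletion.map ι ≫ πN
  have hπ : ∀ z : A', πN (ProfiniteGrp.ProfiniteCompletion.etaFn G' z) = QuotientGroup.mk z :=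
    fun z => rfl
  have hmap : ∀ a : A, (ProfiniteGrp.profiniteCompletion.map ι).hom
      (ProfiniteGrp.ProfiniteCompletion.etaFn G a) =
      ProfiniteGrp.ProfiniteCompletion.etaFn G' (a : A') := by
    intro a
    have := ConcreteCategory.congr_hom
      (ProfiniteGrp.ProfiniteCompletion.lift_eta (ι ≫ ProfiniteGrp.ProfiniteCompletion.eta G')) a
    exact this
  have hψ : ∀ y, ψ y = 1 := by
    intro y
    refine (ProfiniteGrp.ProfiniteCompletion.denseRange (G := G)).induction_on
      (p := fun y => ψ y = 1) y ?_ ?_
    · exact isClosed_eq ψ.hom.continuous_toFun continuous_const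
    · intro a
      show πN ((ProfiniteGrp.profiniteCompletion.map ι).hom _) = 1
      rw [hmap, hπ]
      exact (QuotientGroup.eq_one_iff _).mpr (hAN a.2)
  have h1 := hψ y
  have h2 : ψ y = πN (ProfiniteGrp.ProfiniteCompletion.etaFn G' x) := by
    show πN ((ProfiniteGrp.profiniteCompletion.map ι).hom y) = _
    rw [hy]
  rw [h1, hπ] at h2
  exact hxN ((QuotientGroup.eq_one_iff x).mp h2.symm)

end Groth.Agent.S13958
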