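import Groth.Statements.S1396
import Groth.Agent.Lib.Helper5.IndQuasiAffine

set_option autoImplicit false
universe u
open FlatMor

namespace Groth.Agent.S1396

open AlgebraicGeometry CategoryTheory Limits in
/-- (1) ⇔ (4): a morphism f : X → Y is ind-quasi-affine (the preimage of every affine open is a scheme
all of whose quasi-compact opens are quasi-affine) if and only if for every quasi-compact
quasi-separated open V of Y and every quasi-compact open U of the preimage of V, the induced
morphism U → V is quasi-affine (quasi-compact with quasi-affine preimages of affine opens). -/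
theorem result {X Y : Scheme.{u}} (f : X ⟶ Y) :
    MoreMor.IsIndQuasiAffineHom f ↔ ∀ (V : Y.Opens), IsCompact (V : Set ↑Y) → IsQuasiSeparated (V : Set ↑Y) →
      ∀ (U : X.Opens) (hUV : U ≤ f ⁻¹ᵁ V), IsCompact (U : Set ↑X) → MoreMor.IsQuasiAffineHom (f.resLE V U hUV) := by
  rw [Groth.Agent.Lib.Helper5.IndQuasiAffine.isIndQuasiAffineHom_iff]
  constructor
  · intro h V hVc hVqs U hUV hU
    have : CompactSpace ↑U := isCompact_iff_compactSpace.mp hU
    have : QuasiSeparatedSpace ↑V := (isQuasiSeparated_iff_quasiSeparatedSpace _ V.2).mp hVqs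
    have hqc : QuasiCompact (f.resLE V U hUV) := inferInstance
    refine ⟨hqc, fun V' hV' => ?_⟩
    rw [Groth.Agent.Lib.Helper5.IndQuasiAffine.isQuasiAffine_iff_image]
    refine h (V.ι ''ᵁ V') (hV'.image_of_isOpenImmersion V.ι) _ ?_ ?_
    · rintro _ ⟨z, hz, rfl⟩
      refine ⟨f.resLE V U hUV z, hz, ?_⟩
      have e := Scheme.Hom.resLE_comp_ι f hUV
      exact congr($e z)
    · exact ((f.resLE V U hUV).isCompact_preimage hV'.isCompact).image U.ι.continuous
  · intro h V hV U hUV hU
    obtain ⟨-, h2⟩ := h V hV.isCompact hV.isQuasiSeparated U hUV hU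
    have : IsAffine ↑V := hV
    have h3 := h2 ⊤ (isAffineOpen_top _)
    rw [Groth.Agent.Lib.Helper5.IndQuasiAffine.isQuasiAffine_iff_image] at h3
    refine Groth.Agent.Lib.Helper13.isQuasiAffine_of_eq ?_ h3
    rw [Scheme.Hom.preimage_top, Scheme.Hom.image_top_eq_opensRange, Scheme.Opens.opensRange_ι]

end Groth.Agent.S1396
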