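import Groth.Statements.S13963
import Mathlib.Topology.Algebra.Group.OpenMapping
import Mathlib.Topology.Algebra.Group.Pointwise
import Mathlib.Topology.Baire.LocallyCompactRegular
import Mathlib.Tactic
-- import your own Groth.Agent.* helpers here

set_option autoImplicit false
universe u
open TateLoc

namespace Groth.Agent.S13963


open Pointwise in
theorem aux (A' A A'' : Type u)
    [AddCommGroup A'] [TopologicalSpace A'] [IsTopologicalAddGroup A'] [T2Space A']
    [CompactSpace A']
    [AddCommGroup A] [TopologicalSpace A] [IsTopologicalAddGroup A] [LocallyCompactSpace A]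
    [SecondCountableTopology A] [T2Space A]
    [AddCommGroup A''] [TopologicalSpace A''] [IsTopologicalAddGroup A''] [T2Space A'']
    [CompactSpace A'']
    (f : A' →+ A) (g : A →+ A'') (hf : Continuous f) (hg : Continuous g)
    (hsurj : Function.Surjective g) (hex : g.ker = f.range) :
    CompactSpace A := by
  have hopen : IsOpenMap g := AddMonoidHom.isOpenMap_of_sigmaCompact g hsurj hg
  have hex' : ∀ a : A, ∃ K : Set A, IsCompact K ∧ K ∈ nhds a := fun a => exists_compact_mem_nhds a
  choose K hK hKn using hex'
  have hcov : (Set.univ : Set A'') ⊆ ⋃ a : A, g '' (interior (K a)) := by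
    intro y _
    obtain ⟨a, rfl⟩ := hsurj y
    exact Set.mem_iUnion.2 ⟨a, a, mem_interior_iff_mem_nhds.2 (hKn a), rfl⟩
  obtain ⟨t, ht⟩ := isCompact_univ.elim_finite_subcover (fun a => g '' interior (K a))
    (fun a => hopen _ isOpen_interior) hcov
  have hKK : IsCompact (⋃ a ∈ t, K a) := t.isCompact_biUnion (fun a _ => hK a)
  have hfA : IsCompact (Set.range f) := isCompact_range hf
  have hsub : (Set.univ : Set A) ⊆ (⋃ a ∈ t, K a) + Set.range f := by
    intro a _
    obtain ⟨b, hb, hb'⟩ := Set.mem_iUnion₂.1 (ht (Set.mem_univ (g a)))
    obtain ⟨k', hk', hgk⟩ := hb'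
    have hmem : a - k' ∈ g.ker := by
      rw [AddMonoidHom.mem_ker, map_sub, hgk, sub_self]
    rw [hex] at hmem
    obtain ⟨a', ha'⟩ := hmem
    refine Set.mem_add.2 ⟨k', Set.mem_biUnion hb (interior_subset hk'), f a', ⟨a', rfl⟩, ?_⟩
    rw [ha']
    abel
  rw [← isCompact_univ_iff, ← Set.eq_univ_of_univ_subset hsub]
  exact hKK.add hfA

/-- Let A' → A → A'' be continuous homomorphisms of locally compact, second-countable, Hausdorff abelian
topological groups which form a short exact sequence of abstract groups (the first injective, the
second surjective, image equal to kernel). If A' and A'' are compact, then A is compact. -/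
theorem result (A' A A'' : Type u)
    [AddCommGroup A'] [TopologicalSpace A'] [IsTopologicalAddGroup A'] [SecondCountableTopology A'] [T2Space A']
    [CompactSpace A']
    [AddCommGroup A] [TopologicalSpace A] [IsTopologicalAddGroup A] [LocallyCompactSpace A]
    [SecondCountableTopology A] [T2Space A]
    [AddCommGroup A''] [TopologicalSpace A''] [IsTopologicalAddGroup A''] [SecondCountableTopology A''] [T2Space A'']
    [CompactSpace A'']
    (f : A' →+ A) (g : A →+ A'') (hf : Continuous f) (hg : Continuous g)
    (hinj : Function.Injective f) (hsurj : Function.Surjective g) (hex : g.ker = f.range) :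
    CompactSpace A := by
  exact aux A' A A'' f g hf hg hsurj hex

end Groth.Agent.S13963
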