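import Groth.Statements.S1397
import Groth.Agent.Lib.Helper5.IndQuasiAffine

set_option autoImplicit false
universe u
open FlatMor

namespace Groth.Agent.S1397

open AlgebraicGeometry CategoryTheory Limits in
/-- Ind-quasi-affine morphisms are stable under composition. -/
theorem result {X Y Z : Scheme.{u}} (f : X ⟶ Y) (g : Y ⟶ Z) (hf : MoreMor.IsIndQuasiAffineHom f) (hg : MoreMor.IsIndQuasiAffineHom g) :
    MoreMor.IsIndQuasiAffineHom (f ≫ g) := by
  rw [Groth.Agent.Lib.Helper5.IndQuasiAffine.isIndQuasiAffineHom_iff] at hf hg ⊢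
  intro W hW U hUW hU
  -- a quasi-compact open `V` of `Y` between `f(U)` and `g⁻¹ W`
  obtain ⟨V0, hV0c, hV0o, hUV0, hV0W⟩ := PrespectralSpace.exists_isCompact_and_isOpen_between
    (hU.image f.continuous) (g ⁻¹ᵁ W).isOpen (by
      rintro _ ⟨x, hx, rfl⟩
      exact hUW hx)
  let V : Y.Opens := ⟨V0, hV0o⟩
  have hVqa : Scheme.IsQuasiAffine (V : Scheme.{u}) := hg W hW V hV0W hV0c
  have hUV : U ≤ f ⁻¹ᵁ V := fun x hx => hUV0 ⟨x, hx, rfl⟩
  refine Groth.Agent.Lib.Helper5.IndQuasiAffine.isQuasiAffine_of_cover_basicOpen U hU fun x hx => ?_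
  obtain ⟨r, hr, hxr⟩ := Groth.Agent.Lib.Helper5.IndQuasiAffine.exists_isAffineOpen_basicOpen V hVqa
    (f x) (hUV hx)
  refine ⟨f.appLE V U hUV r, ?_, ?_⟩
  · rw [Groth.Agent.Lib.Helper5.IndQuasiAffine.basicOpen_appLE]
    exact ⟨hx, hxr⟩
  · refine hf _ hr _ ?_ (isCompact_basicOpen X hU _)
    rw [Groth.Agent.Lib.Helper5.IndQuasiAffine.basicOpen_appLE]
    exact inf_le_right

end Groth.Agent.S1397
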