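import Groth.Statements.S13985
-- import your own Groth.Agent.* helpers here

set_option autoImplicit false
universe u
open CategoryTheory
open CohGab

namespace Groth.Agent.S13985

/-- For a ring A, the canonical map from the centre of A to the centre of the category of finitely
generated left A-modules (the endomorphism ring of its identity functor), sending a to
multiplication by a, is bijective: every natural endomorphism of the identity functor acts on each
finitely generated module as multiplication by a unique element of A, and that element is central.
(The published statement calls this map an isomorphism of commutative rings; this row states its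
bijectivity.) -/
theorem result (A : Type u) [Ring A]
    (φ : 𝟭 (FGModuleCat.{u} A) ⟶ 𝟭 (FGModuleCat.{u} A)) :
    ∃! a : A, a ∈ Subring.center A ∧
      ∀ (M : FGModuleCat.{u} A) (x : M), (φ.app M).hom.hom x = a • x := by
  let AA : FGModuleCat.{u} A := FGModuleCat.of A A
  let a : A := (φ.app AA).hom.hom (1 : A)
  have key : ∀ (M : FGModuleCat.{u} A) (x : M), (φ.app M).hom.hom x = a • x := by
    intro M x
    let g : AA ⟶ M := ConcreteCategory.ofHom (X := AA) (Y := M) (LinearMap.toSpanSingleton A M x)
    have h1 := φ.naturality g
    have h2 := congrArg (fun h => h.hom.hom (1 : A)) h1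
    have g1 : g.hom.hom (1 : A) = x := by
      change LinearMap.toSpanSingleton A M x 1 = x
      simp
    have ga : g.hom.hom a = a • x := by
      change LinearMap.toSpanSingleton A M x a = a • x
      simp
    simp only [Functor.id_map, FGModuleCat.hom_hom_comp, LinearMap.comp_apply] at h2
    rw [g1] at h2
    rw [h2]
    exact ga
  refine ⟨a, ⟨?_, key⟩, ?_⟩
  · rw [Subring.mem_center_iff]
    intro b
    have h1 : (φ.app AA).hom.hom (b : A) = a • (b : A) := key AA b
    have h2 : (φ.app AA).hom.hom (b • (1 : A)) = b • a := map_smul _ b (1 : A)
    rw [smul_eq_mul, mul_one] at h2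
    rw [h1] at h2
    exact h2.symm
  · rintro a' ⟨-, h'⟩
    have h1 : (φ.app AA).hom.hom (1 : A) = a' • (1 : A) := h' AA (1 : A)
    rw [smul_eq_mul, mul_one] at h1
    exact h1.symm

end Groth.Agent.S13985
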