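import Groth.Statements.S13988
import Groth.Agent.Lib.Helper2.CohCentre.Main

set_option autoImplicit false
universe u
open CategoryTheory AlgebraicGeometry
open CohGab

namespace Groth.Agent.S13988

/-- Let X be a Noetherian scheme. The canonical ring map from the global functions Γ(X, O_X) to the
centre of the category of coherent O_X-modules (the endomorphisms of its identity functor), sending
r to multiplication by r, is bijective: for every natural endomorphism φ of the identity functor of
Coh(X) there is a unique global function r such that, for every coherent module M, φ_M is
multiplication by r (compared as maps of the underlying abelian sheaves). (The published result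
builds a ringed space from Coh(X) — irreducible Serre subcategories of finite type, with the centres
of the categories Coh(U) as structure sheaf — and proves it isomorphic to X, for coherent sheaves
twisted by a class in the cohomological Brauer group and with X over a field, a hypothesis its proof
does not use; this row is the ring-theoretic content of that isomorphism on global sections, for the
trivial class; applied to the open subschemes of X it gives the statement on every open.) -/
theorem result (X : Scheme.{u}) [IsNoetherian X]
    (φ : 𝟭 (ObjectProperty.FullSubcategory (fun M : X.Modules => Coh.IsCoh M)) ⟶ 𝟭 (ObjectProperty.FullSubcategory (fun M : X.Modules => Coh.IsCoh M))) :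
    ∃! r : Coh.Γtop X, ∀ M : ObjectProperty.FullSubcategory (fun M : X.Modules => Coh.IsCoh M),
      (SheafOfModules.toSheaf X.ringCatSheaf).map (φ.app M).hom = Coh.smulAb M.obj r := by
  open Groth.Agent.Lib.Helper2.CohCentre Groth.Agent.Lib.Helper29.QCoh in
  refine ⟨rOf φ, fun M => ?_, fun r' hr' => ?_⟩
  · apply ObjectProperty.hom_ext
    ext U m
    rw [Coh.smulAb_app]
    exact app_eq_smul φ M U.unop m
  · have h := congrArg (fun k => k.hom.app (Opposite.op ⊤) (toUnit (1 : Γ(X, ⊤)))) (hr' (Oc X))
    have h1 : Coh.resTop X (Opposite.op ⊤) r' = r' := by
      change (X.ringCatSheaf.obj.map (𝟙 _)).hom r' = r'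
      rw [X.ringCatSheaf.obj.map_id]
      rfl
    have h2 : (Coh.smulAb (Oc X).obj r').hom.app (Opposite.op ⊤) (toUnit (1 : Γ(X, ⊤))) = r' := by
      rw [Coh.smulAb_app, h1]
      exact mul_one r'
    exact (h2.symm.trans h.symm)

end Groth.Agent.S13988
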