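import Groth.Statements.S1399
import Groth.Agent.Lib.Helper5.IndQuasiAffine

set_option autoImplicit false
universe u
open FlatMor

namespace Groth.Agent.S1399

open AlgebraicGeometry CategoryTheory Limits in
/-- If g ∘ f is ind-quasi-affine then so is f. -/
theorem result {X Y Z : Scheme.{u}} (f : X ⟶ Y) (g : Y ⟶ Z) (h : MoreMor.IsIndQuasiAffineHom (f ≫ g)) :
    MoreMor.IsIndQuasiAffineHom f := by
  rw [Groth.Agent.Lib.Helper5.IndQuasiAffine.isIndQuasiAffineHom_iff] at h ⊢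
  intro V hV U hUV hU
  refine Groth.Agent.Lib.Helper5.IndQuasiAffine.isQuasiAffine_of_cover_basicOpen U hU fun x hx => ?_
  have hfx : f x ∈ V := hUV hx
  -- affine neighbourhood of `g (f x)` in `Z`
  obtain ⟨W, hW, hgW⟩ : ∃ W : Z.Opens, IsAffineOpen W ∧ g (f x) ∈ W := by
    obtain ⟨_, ⟨W, hW : IsAffineOpen W, rfl⟩, hxW, -⟩ :=
      Z.isBasis_affineOpens.exists_subset_of_mem_open (Set.mem_univ (g (f x))) isOpen_univ
    exact ⟨W, hW, hxW⟩
  have hmem : f x ∈ V ⊓ g ⁻¹ᵁ W := ⟨hfx, hgW⟩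
  obtain ⟨r, hrle, hxr⟩ := hV.exists_basicOpen_le (V := V ⊓ g ⁻¹ᵁ W) ⟨f x, hmem⟩ hfx
  refine ⟨f.appLE V U hUV r, ?_, ?_⟩
  · rw [Groth.Agent.Lib.Helper5.IndQuasiAffine.basicOpen_appLE]
    exact ⟨hx, hxr⟩
  · refine h W hW _ ?_ (isCompact_basicOpen X hU _)
    rw [Groth.Agent.Lib.Helper5.IndQuasiAffine.basicOpen_appLE]
    intro z hz
    exact (hrle hz.2).2

end Groth.Agent.S1399
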