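import Groth.Statements.S13992
import Mathlib
import Groth.Agent.Lib.Helper11.Planar

set_option autoImplicit false
universe u
open CategoryTheory
open CAlg

namespace Groth.Agent.S13992

/-- Let S be a regular local ring of Krull dimension two, f a non-zero element of S and R the quotient
of S by f, assumed reduced (the local ring of a reduced planar curve singularity). Let M and N be
finitely generated R-modules, each admitting a non-zero-divisor in the maximal ideal of R,
annihilated by ideals I and J respectively, where I + J contains a power of the maximal ideal. Then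
Ext²_R(M, N) = 0. (The published statement is global: Ext²(F, F') = 0 for torsion-free coherent
sheaves F and F' on a reduced projective curve over a characteristic-zero algebraically closed
field, supported on subcurves with no common irreducible component that meet only at points with
planar singularities; this row is the vanishing on stalks to which it reduces, stated over an
arbitrary two-dimensional regular local ring.) -/
theorem result (S : Type u) [CommRing S] [IsRegularLocalRing S] (hS : ringKrullDim S = 2) (f : S) (hf : f ≠ 0) (R : Type u) [CommRing R] [IsLocalRing R] [IsReduced R] (π : S →+* R) (hπ : Function.Surjective π) (hker : RingHom.ker π = Ideal.span {f}) (I J : Ideal R) (n : ℕ) (hIJ : IsLocalRing.maximalIdeal R ^ n ≤ I ⊔ J) (M N : Type u) [AddCommGroup M] [Module R M] [Module.Finite R M] [AddCommGroup N] [Module R N] [Module.Finite R N] (hI : I ≤ Module.annihilator R M) (hJ : J ≤ Module.annihilator R N) (x : R) (hx : x ∈ IsLocalRing.maximalIdeal R) (hxM : IsSMulRegular M x) (y : R) (hy : y ∈ IsLocalRing.maximalIdeal R) (hyN : IsSMulRegular N y) : Subsingleton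 (Abelian.Ext (ModuleCat.of R M) (ModuleCat.of R N) 2) := by
  obtain ⟨a, b, ψ, G, hψ, hG, hH⟩ :=
    Groth.Agent.Lib.Helper11.Planar.exists_presentation_of_regular S hS R π hπ M x hx hxM
  -- the map onto the syzygy
  have hGmem : ∀ v, G v ∈ LinearMap.ker ψ := fun v => hG ▸ LinearMap.mem_range_self G v
  let g : (Fin a → R) →ₗ[R] LinearMap.ker ψ := LinearMap.codRestrict (LinearMap.ker ψ) G hGmem
  have hg : Function.Surjective g := by
    rintro ⟨ω, hω⟩
    rw [← hG] at hω
    obtain ⟨v, rfl⟩ := hω
    exact ⟨v, Subtype.ext rfl⟩
  -- the kernel of `g` is killed by `I`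
  have hkill : ∀ α ∈ I, ∀ m : LinearMap.ker g, α • m = 0 := by
    intro α hα m
    obtain ⟨H, hHG⟩ := hH α (hI hα)
    have hm : G (m : Fin a → R) = 0 := by
      have := m.2
      rw [LinearMap.mem_ker] at this
      exact congrArg Subtype.val this
    apply Subtype.ext
    have h1 : (H ∘ₗ G) (m : Fin a → R) = α • (m : Fin a → R) := by rw [hHG]; rfl
    rw [LinearMap.comp_apply, hm, map_zero] at h1
    exact h1.symm
  -- all maps from the kernel to `N` vanish
  have hyn : y ^ n ∈ I ⊔ J := hIJ (Ideal.pow_mem_pow hy n)
  obtain ⟨α, hα, β, hβ, hαβ⟩ := Submodule.mem_sup.1 hyn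
  have hhom : ∀ φ : LinearMap.ker g →ₗ[R] N, φ = 0 := by
    intro φ
    refine LinearMap.ext fun m => ?_
    apply (hyN.pow n)
    change y ^ n • φ m = y ^ n • (0 : LinearMap.ker g →ₗ[R] N) m
    rw [LinearMap.zero_apply, smul_zero, ← hαβ, add_smul, ← map_smul, hkill α hα m, map_zero,
      zero_add]
    exact Module.mem_annihilator.1 (hJ hβ) _
  have hS1 := LinearMap.shortExact_shortComplexKer hψ
  have hS2 := LinearMap.shortExact_shortComplexKer hg
  have hproj1 : Projective (ψ.shortComplexKer).X₂ := by
    rw [← IsProjective.iff_projective]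
    change Module.Projective R (Fin b → R)
    infer_instance
  have hproj2 : Projective (g.shortComplexKer).X₂ := by
    rw [← IsProjective.iff_projective]
    change Module.Projective R (Fin a → R)
    infer_instance
  have h0 : ∀ z : Abelian.Ext (g.shortComplexKer).X₁ (ModuleCat.of R N) 0, z = 0 := by
    intro z
    apply Abelian.Ext.addEquiv₀.injective
    rw [map_zero]
    apply ModuleCat.hom_ext
    exact hhom _
  have h1 : ∀ z : Abelian.Ext (ψ.shortComplexKer).X₁ (ModuleCat.of R N) 1, z = 0 := by
    intro z
    obtain ⟨w, rfl⟩ := Abelian.Ext.contravariant_sequence_exact₃ hS2 _ z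
      (Abelian.Ext.eq_zero_of_projective _) (add_comm 1 0)
    rw [h0 w, Abelian.Ext.comp_zero]
  refine ⟨fun z1 z2 => ?_⟩
  have h2 : ∀ z : Abelian.Ext (ψ.shortComplexKer).X₃ (ModuleCat.of R N) 2, z = 0 := by
    intro z
    obtain ⟨w, rfl⟩ := Abelian.Ext.contravariant_sequence_exact₃ hS1 _ z
      (Abelian.Ext.eq_zero_of_projective _) (add_comm 1 1)
    rw [h1 w, Abelian.Ext.comp_zero]
  exact (h2 z1).trans (h2 z2).symm

end Groth.Agent.S13992
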