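import Groth.Statements.S13994
import Mathlib
import Groth.Agent.Lib.Helper11.Planar2

set_option autoImplicit false
universe u
open CategoryTheory
open CAlg

namespace Groth.Agent.S13994

/-- Let S be a regular local ring of Krull dimension two, f a non-zero element of S and R the quotient
of S by f, assumed reduced. Let M and N be finitely generated R-modules, each admitting a
non-zero-divisor in the maximal ideal of R, annihilated by ideals I and J respectively, where I + J
contains a power of the maximal ideal. Then Tor₁^R(M, Hom_R(N, R)) = 0. (The published claim is made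
for the stalks at a common point of two subcurves without common component of a reduced projective
curve over a characteristic-zero algebraically closed field, the point being a planar singularity,
and the stalks of torsion-free sheaves supported on them; this row states it over an arbitrary
two-dimensional regular local ring. Tor is computed by resolving the second argument.) -/
theorem result (S : Type u) [CommRing S] [IsRegularLocalRing S] (hS : ringKrullDim S = 2) (f : S) (hf : f ≠ 0) (R : Type u) [CommRing R] [IsLocalRing R] [IsReduced R] (π : S →+* R) (hπ : Function.Surjective π) (hker : RingHom.ker π = Ideal.span {f}) (I J : Ideal R) (n : ℕ) (hIJ : IsLocalRing.maximalIdeal R ^ n ≤ I ⊔ J) (M N : Type u) [AddCommGroup M] [Module R M] [Module.Finite R M] [AddCommGroup N] [Module R N] [Module.Finite R N] (hI : I ≤ Module.annihilator R M) (hJ : J ≤ Module.annihilator R N) (x : R) (hx : x ∈ IsLocalRing.maximalIdeal R) (hxM : IsSMulRegular M x) (y : R) (hy : y ∈ IsLocalRing.maximalIdeal R) (hyN : IsSMulRegular N y) : Limits.IsZero (((Tor (ModuleCat.{u} R) 1).obj (ModuleCat.of R M)).obj (ModuleCat.of R (Module.Dual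 R N))) := by
  haveI : IsNoetherianRing R := isNoetherianRing_of_surjective S R π hπ
  by_cases hm : IsLocalRing.maximalIdeal R ∈ minimalPrimes R
  · -- degenerate case: `M = 0`
    have hm0 := Groth.Agent.Lib.Helper11.Planar.maximalIdeal_eq_bot_of_mem_minimalPrimes R hm
    have hx0 : x = 0 := by
      rw [hm0] at hx
      exact hx
    haveI : Subsingleton M := ⟨fun m1 m2 => hxM (by
      change x • m1 = x • m2
      rw [hx0, zero_smul, zero_smul])⟩
    haveI : Module.Flat R (ModuleCat.of R M) := (inferInstance : Module.Flat R M)
    exact Groth.Agent.Lib.Helper4.isZero_tor_of_flat _ _ 1 Nat.one_pos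
  · obtain ⟨z, hz, hzR⟩ := Groth.Agent.Lib.Helper11.Planar.exists_regular R hm
    obtain ⟨a, b, ψ, G, hψ, hG, hH⟩ :=
      Groth.Agent.Lib.Helper11.Planar.exists_presentation_of_regular S hS R π hπ M x hx hxM
    have hzn : z ^ n ∈ I ⊔ J := hIJ (Ideal.pow_mem_pow hz n)
    obtain ⟨α, hα, β, hβ, hαβ⟩ := Submodule.mem_sup.1 hzn
    apply Groth.Agent.Lib.Helper11.Planar.isZero_tor_one_of_injective ψ hψ
    apply Groth.Agent.Lib.Helper11.Planar.rTensor_injective ψ G hG (Module.Dual R N) z n
      (Groth.Agent.Lib.Helper11.Planar.isSMulRegular_dual N z hzR)
    refine ⟨α, β, hαβ.symm, ?_, hH α (hI hα)⟩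
    intro l
    refine LinearMap.ext fun m => ?_
    change β • l m = 0
    rw [← map_smul, Module.mem_annihilator.1 (hJ hβ) m, map_zero]

end Groth.Agent.S13994
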