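import Groth.Statements.S13995
import Mathlib

set_option autoImplicit false
universe u
open CAlg

namespace Groth.Agent.S13995

/-- A surjection from a one-dimensional space onto a nonzero space is injective. -/
theorem injective_of_surjective_of_finrank_eq_one {K V W : Type*} [CommRing K] (hK : IsField K)
    [AddCommGroup V] [Module K V] [AddCommGroup W] [Module K W] [Nontrivial W]
    (f : V →ₗ[K] W) (hf : Function.Surjective f) (h : Module.finrank K V = 1) :
    Function.Injective f := by
  let _ := hK.toField
  have : Module.Finite K V := Module.finite_of_finrank_pos (by omega)
  have h1 := LinearMap.finrank_range_add_finrank_ker f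
  rw [LinearMap.range_eq_top.mpr hf, finrank_top, h] at h1
  haveI : Module.Finite K W := Module.Finite.of_surjective f hf
  have h2 : 0 < Module.finrank K W := Module.finrank_pos
  have h3 : Module.finrank K (LinearMap.ker f) = 0 := by omega
  rw [← LinearMap.ker_eq_bot]
  exact Submodule.finrank_eq_zero.mp h3

/-- Let R be a reduced Noetherian ring, M a finitely generated R-module all of whose associated primes
are minimal primes of R and whose localization at each minimal prime p is one-dimensional over the
field R_p, and let g : M → Q be a surjection onto a finitely generated R-module Q all of whose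
associated primes are minimal primes of R. Then the kernel of g is the intersection, over the
minimal primes p of R lying in the support of Q, of the kernels of the localization maps M → M_p.
(The published statement is for a torsion-free coherent sheaf F of uniform rank one on a reduced
connected projective curve over a characteristic-zero algebraically closed field: its non-zero
torsion-free quotients are exactly the maximal torsion-free quotients F_D of the restrictions of F
to subcurves D; this row is the corresponding statement for modules over a reduced Noetherian ring,
a subcurve being a set of minimal primes, and identifies each torsion-free quotient with F_D for D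
the set of generic points of its support.) -/
theorem result (R : Type u) [CommRing R] [IsNoetherianRing R] [IsReduced R] (M : Type u) [AddCommGroup M] [Module R M] [Module.Finite R M] (hM : associatedPrimes R M ⊆ minimalPrimes R) (hrk : ∀ p : PrimeSpectrum R, p.asIdeal ∈ minimalPrimes R → Module.finrank (Localization.AtPrime p.asIdeal) (LocalizedModule p.asIdeal.primeCompl M) = 1) (Q : Type u) [AddCommGroup Q] [Module R Q] [Module.Finite R Q] (hQ : associatedPrimes R Q ⊆ minimalPrimes R) (g : M →ₗ[R] Q) (hg : Function.Surjective g) : LinearMap.ker g = ⨅ p ∈ {p : PrimeSpectrum R | p.asIdeal ∈ minimalPrimes R ∧ p ∈ Module.support R Q}, LinearMap.ker (LocalizedModule.mkLinearMap p.asIdeal.primeCompl M) := by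
  apply le_antisymm
  · refine le_iInf₂ fun p hp => ?_
    obtain ⟨hpmin, hpsupp⟩ := hp
    intro m hm
    have hK : IsField (Localization.AtPrime p.asIdeal) := by
      haveI := Ring.KrullDimLE.of_isLocalization p.asIdeal hpmin (Localization.AtPrime p.asIdeal)
      exact Ring.KrullDimLE.isField_of_isReduced
    haveI : Nontrivial (LocalizedModule p.asIdeal.primeCompl Q) :=
      Module.mem_support_iff.mp hpsupp
    have hsurj : Function.Surjective (LocalizedModule.map p.asIdeal.primeCompl g) :=
      LocalizedModule.map_surjective p.asIdeal.primeCompl g hg
    have hinj := injective_of_surjective_of_finrank_eq_one hK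
      (LocalizedModule.map p.asIdeal.primeCompl g) hsurj (hrk p hpmin)
    rw [LinearMap.mem_ker]
    apply hinj
    rw [map_zero, LocalizedModule.mkLinearMap_apply, LocalizedModule.map_mk,
      LinearMap.mem_ker.mp hm, LocalizedModule.zero_mk]
  · intro m hm
    by_contra hne
    rw [LinearMap.mem_ker] at hne
    obtain ⟨P, hP, hle⟩ := exists_le_isAssociatedPrime_of_isNoetherianRing R (g m) hne
    have hPmin : P ∈ minimalPrimes R := hQ hP
    have hPprime : P.IsPrime := hP.isPrime
    have hPsupp : (⟨P, hPprime⟩ : PrimeSpectrum R) ∈ Module.support R Q :=
      Module.mem_support_iff_of_finite.mpr (by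
        rw [← Submodule.annihilator_top]; exact hP.annihilator_le)
    have hmem : m ∈ LinearMap.ker (LocalizedModule.mkLinearMap P.primeCompl M) := by
      exact (Submodule.mem_iInf _).mp ((Submodule.mem_iInf _).mp hm ⟨P, hPprime⟩) ⟨hPmin, hPsupp⟩
    rw [LinearMap.mem_ker, LocalizedModule.mkLinearMap_apply, ← LocalizedModule.zero_mk 1,
      LocalizedModule.mk_eq] at hmem
    obtain ⟨s, hs⟩ := hmem
    have hsm : (s : R) • m = 0 := by simpa [Submonoid.smul_def] using hs
    have : (s : R) ∈ (⊥ : Submodule R Q).colon {g m} := by
      rw [Submodule.mem_colon_singleton, ← map_smul, hsm, map_zero]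
      exact zero_mem _
    exact s.2 (hle this)

end Groth.Agent.S13995
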