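import Groth.Statements.S13996
import Mathlib.RingTheory.Ideal.AssociatedPrime.Localization
import Mathlib.RingTheory.Ideal.AssociatedPrime.Finiteness
import Mathlib.RingTheory.Regular.IsSMulRegular
import Mathlib.RingTheory.KrullDimension.Field

set_option autoImplicit false
universe u
open CAlg

namespace Groth.Agent.S13996

open IsLocalRing

theorem result (R : Type u) [CommRing R] [IsLocalRing R] [IsNoetherianRing R] [IsReduced R] (hdim : ringKrullDim R = 1) (M : Type u) [AddCommGroup M] [Module R M] [Module.Finite R M] [Nontrivial M] : (∀ r : R, r ∈ IsLocalRing.maximalIdeal R → IsSMulRegular R r → IsSMulRegular M r) ↔ (∃ x : R, x ∈ IsLocalRing.maximalIdeal R ∧ IsSMulRegular M x) := by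
  have hK1 : Ring.KrullDimLE 1 R := Ring.krullDimLE_iff.mpr (by rw [hdim]; rfl)
  have hprime := Ring.krullDimLE_one_iff.mp hK1
  have hm_notAss : maximalIdeal R ∉ associatedPrimes R R := by
    intro h
    rw [AssociatedPrimes.mem_iff, isAssociatedPrime_iff] at h
    obtain ⟨-, x, hx⟩ := h
    by_cases hxm : x ∈ maximalIdeal R
    · have hxx : x * x = 0 := by
        have : x ∈ (⊥ : Submodule R R).colon {x} := hx ▸ hxm
        simpa [Submodule.mem_colon_singleton] using this
      have hx0 : x = 0 := by
        have : IsNilpotent x := ⟨2, by rw [pow_two]; exact hxx⟩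
        exact this.eq_zero
      subst hx0
      have : maximalIdeal R = ⊤ := by
        rw [hx]; ext r; simp [Submodule.mem_colon_singleton]
      exact (maximalIdeal.isMaximal R).ne_top this
    · have hxu : IsUnit x := by
        rwa [IsLocalRing.mem_maximalIdeal, mem_nonunits_iff, not_not] at hxm
      have hbot : maximalIdeal R = ⊥ := by
        rw [hx]; ext r
        simp [Submodule.mem_colon_singleton, hxu.mul_left_eq_zero]
      have hf : IsField R := IsLocalRing.isField_iff_maximalIdeal_eq.mpr hbot
      have h0 := ringKrullDim_eq_zero_of_isField hf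
      rw [hdim] at h0
      exact absurd h0 (by decide)
  constructor
  · intro H
    by_contra hcon
    push_neg at hcon
    have hsub : (maximalIdeal R : Set R) ⊆ ⋃ p ∈ associatedPrimes R R, (p : Set R) := by
      rw [biUnion_associatedPrimes_eq_compl_regular R R]
      intro x hx hreg
      exact hcon x hx (H x hx hreg)
    have hfin := associatedPrimes.finite R R
    obtain ⟨p, hp, hmp⟩ := (Ideal.subset_union_prime (s := hfin.toFinset) (f := id) ⊥ ⊥
      (fun i hi _ _ => ((Set.Finite.mem_toFinset hfin).mp hi).isPrime)).mp
      (by simpa using hsub)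
    have hp' : p ∈ associatedPrimes R R := by simpa using hp
    have := (maximalIdeal.isMaximal R).eq_of_le hp'.isPrime.ne_top hmp
    exact hm_notAss (this ▸ hp')
  · rintro ⟨x, hxm, hxreg⟩ r hrm hrreg
    by_contra hnot
    rw [isSMulRegular_iff_right_eq_zero_of_smul] at hnot
    push_neg at hnot
    obtain ⟨y, hry, hy0⟩ := hnot
    obtain ⟨P, hP, hyP⟩ := exists_le_isAssociatedPrime_of_isNoetherianRing R y hy0
    have hrP : r ∈ P := hyP (by simpa [Submodule.mem_colon_singleton] using hry)
    rcases hprime P hP.isPrime with hmin | hmax
    · have hPass : P ∈ associatedPrimes R R := by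
        apply Module.associatedPrimes.minimalPrimes_annihilator_subset_associatedPrimes R R
        have : Module.annihilator R R = ⊥ := by
          rw [eq_bot_iff]
          intro a ha
          have := Module.mem_annihilator.mp ha 1
          simpa using this
        rw [this]
        exact hmin
      have : r ∈ ⋃ p ∈ associatedPrimes R R, (p : Set R) := Set.mem_biUnion hPass hrP
      rw [biUnion_associatedPrimes_eq_compl_regular R R] at this
      exact this hrreg
    · have hPm : P = maximalIdeal R := IsLocalRing.eq_maximalIdeal hmax
      have : x ∈ ⋃ p ∈ associatedPrimes R M, (p : Set R) := Set.mem_biUnion hP (hPm ▸ hxm)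
      rw [biUnion_associatedPrimes_eq_compl_regular R M] at this
      exact this hxreg

end Groth.Agent.S13996
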