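import Groth.Statements.S13998
import Mathlib
import Groth.Agent.S1302
import Groth.Agent.Lib.Helper10.ProjBC

set_option autoImplicit false
universe u
open FlatMor

namespace Groth.Agent.S13998

namespace Groth.Agent.S13998.Aux

open AlgebraicGeometry CategoryTheory CategoryTheory.Limits TopologicalSpace

/-- Nakayama for nilpotent ideals: `N ⊔ I • ⊤ = ⊤` implies `N = ⊤`. -/
theorem eq_top_of_sup_smul_top {A M : Type*} [CommRing A] [AddCommGroup M] [Module A M]
    (I : Ideal A) (hI : IsNilpotent I) (N : Submodule A M) (h : ⊤ ≤ N ⊔ I • (⊤ : Submodule A M)) :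
    N = ⊤ := by
  have key : ∀ k : ℕ, ⊤ ≤ N ⊔ (I ^ k) • (⊤ : Submodule A M) := by
    intro k
    induction k with
    | zero => simp
    | succ k ih =>
      calc (⊤ : Submodule A M) ≤ N ⊔ I • (⊤ : Submodule A M) := h
        _ ≤ N ⊔ I • (N ⊔ (I ^ k) • (⊤ : Submodule A M)) :=
            sup_le_sup_left (Submodule.smul_mono le_rfl ih) N
        _ = N ⊔ (I • N ⊔ I • ((I ^ k) • (⊤ : Submodule A M))) := by rw [Submodule.smul_sup]
        _ ≤ N ⊔ (I ^ (k + 1)) • (⊤ : Submodule A M) := by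
            refine sup_le le_sup_left (sup_le ?_ ?_)
            · exact le_trans Submodule.smul_le_right le_sup_left
            · rw [← Submodule.mul_smul, ← pow_succ']
              exact le_sup_right
  obtain ⟨n, hn⟩ := hI
  have := key n
  rw [hn, Ideal.zero_eq_bot, Submodule.bot_smul, sup_bot_eq] at this
  exact top_le_iff.mp this

theorem finite_of_pushout_nilpotent {A A₀ B B₀ : Type u} [CommRing A] [CommRing A₀] [CommRing B]
    [CommRing B₀] (φ : A →+* A₀) (ψ : A →+* B) (α : A₀ →+* B₀) (β : B →+* B₀)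
    (hpo : IsPushout (CommRingCat.ofHom φ) (CommRingCat.ofHom ψ) (CommRingCat.ofHom α)
      (CommRingCat.ofHom β))
    (hφ : Function.Surjective φ) (hnil : IsNilpotent (RingHom.ker φ)) (hα : α.Finite) :
    ψ.Finite := by
  classical
  have hw : ∀ x, α (φ x) = β (ψ x) := fun x => congrArg (fun m => m.hom x) hpo.w
  -- the kernel of β is contained in the extension of ker φ
  let J : Ideal B := (RingHom.ker φ).map ψ
  let γ : A₀ →+* B ⧸ J := RingHom.liftOfSurjective φ hφ ⟨(Ideal.Quotient.mk J).comp ψ, fun x hx => by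
      rw [RingHom.mem_ker, RingHom.comp_apply, Ideal.Quotient.eq_zero_iff_mem]
      exact Ideal.mem_map_of_mem ψ hx⟩
  have hγ : ∀ x, γ (φ x) = Ideal.Quotient.mk J (ψ x) := fun x =>
    RingHom.liftOfSurjective_comp_apply φ hφ _ x
  have hcomm : CommRingCat.ofHom φ ≫ CommRingCat.ofHom γ =
      CommRingCat.ofHom ψ ≫ CommRingCat.ofHom (Ideal.Quotient.mk J) := by
    ext x
    exact hγ x
  let δ : CommRingCat.of B₀ ⟶ CommRingCat.of (B ⧸ J) := hpo.desc _ _ hcomm
  have hδβ : ∀ b, δ.hom (β b) = Ideal.Quotient.mk J b := fun b =>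
    congrArg (fun m => m.hom b) (hpo.inr_desc _ _ hcomm)
  have hker : ∀ b, β b = 0 → b ∈ J := by
    intro b hb
    rw [← Ideal.Quotient.eq_zero_iff_mem, ← hδβ, hb, map_zero]
  -- algebra structures
  letI : Algebra A B := ψ.toAlgebra
  letI : Algebra A₀ B₀ := α.toAlgebra
  haveI : Module.Finite A₀ B₀ := hα
  obtain ⟨S, hS⟩ := (Module.Finite.fg_top : (⊤ : Submodule A₀ B₀).FG)
  -- every element of B₀ is an A₀-combination of elements of β(B)
  have hgen : ∀ c : B₀, ∃ T : Finset B, c ∈ Submodule.span A₀ (β '' (T : Set B)) := by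
    intro c
    have hc := Groth.Agent.Lib.Helper10.ProjBC.mem_closure φ ψ α β hpo c
    induction hc using AddSubmonoid.closure_induction with
    | mem x hx =>
      obtain ⟨⟨a, b⟩, rfl⟩ := hx
      refine ⟨{b}, ?_⟩
      have : α a * β b = a • β b := by rw [Algebra.smul_def]; rfl
      simp only [this, Finset.coe_singleton, Set.image_singleton]
      exact Submodule.smul_mem _ _ (Submodule.mem_span_singleton_self _)
    | zero => exact ⟨∅, Submodule.zero_mem _⟩
    | add x y _ _ hx hy =>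
      obtain ⟨T1, h1⟩ := hx
      obtain ⟨T2, h2⟩ := hy
      refine ⟨T1 ∪ T2, Submodule.add_mem _ ?_ ?_⟩
      · exact Submodule.span_mono (Set.image_mono (by simp)) h1
      · exact Submodule.span_mono (Set.image_mono (by simp)) h2
  choose Tc hTc using hgen
  let T : Finset B := S.biUnion Tc
  have hT : Submodule.span A₀ (β '' (T : Set B)) = ⊤ := by
    rw [eq_top_iff, ← hS, Submodule.span_le]
    intro c hc
    refine Submodule.span_mono (Set.image_mono ?_) (hTc c)
    intro b hb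
    exact Finset.mem_biUnion.mpr ⟨c, hc, hb⟩
  -- N = A-span of T
  let N : Submodule A B := Submodule.span A (T : Set B)
  have hN : N = ⊤ := by
    apply eq_top_of_sup_smul_top (RingHom.ker φ) hnil
    intro b _
    -- β b is a combination
    have hb : β b ∈ Submodule.span A₀ (β '' (T : Set B)) := by rw [hT]; trivial
    -- show ∃ n ∈ N, β n = β b
    have hex : ∀ c ∈ Submodule.span A₀ (β '' (T : Set B)), ∃ n ∈ N, β n = c := by
      intro c hc
      induction hc using Submodule.span_induction with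
      | mem x hx =>
        obtain ⟨t, ht, rfl⟩ := hx
        exact ⟨t, Submodule.subset_span ht, rfl⟩
      | zero => exact ⟨0, Submodule.zero_mem _, map_zero _⟩
      | add x y _ _ hx hy =>
        obtain ⟨n1, h1, e1⟩ := hx
        obtain ⟨n2, h2, e2⟩ := hy
        exact ⟨n1 + n2, Submodule.add_mem _ h1 h2, by rw [map_add, e1, e2]⟩
      | smul a₀ x _ hx =>
        obtain ⟨n1, h1, e1⟩ := hx
        obtain ⟨a, rfl⟩ := hφ a₀
        refine ⟨a • n1, Submodule.smul_mem _ _ h1, ?_⟩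
        rw [Algebra.smul_def, map_mul, e1, Algebra.smul_def]
        change β (ψ a) * x = α (φ a) * x
        rw [hw]
    obtain ⟨n, hn, hnb⟩ := hex _ hb
    have hdiff : b - n ∈ J := hker _ (by rw [map_sub, hnb, sub_self])
    have hJ : b - n ∈ (RingHom.ker φ) • (⊤ : Submodule A B) := by
      rw [Ideal.smul_top_eq_map]
      exact hdiff
    have : b = n + (b - n) := by ring
    rw [this]
    exact Submodule.add_mem_sup hn hJ
  change Module.Finite A B
  exact ⟨⟨T, hN⟩⟩

end Groth.Agent.S13998.Aux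

open AlgebraicGeometry CategoryTheory in
/-- Consider a cartesian square of schemes F₀ ≫ j = i ≫ F (so Y₀ = Y ×_X X₀) in which i : Y₀ ⟶ Y and j :
X₀ ⟶ X are closed immersions surjective on points whose ideals are locally nilpotent (nilpotent on
every affine open), and suppose moreover that the ideal of j is of finite type (finitely generated
on every affine open of X). Then F : Y ⟶ X is finite if and only if F₀ : Y₀ ⟶ X₀ is finite. -/
theorem result {X X₀ Y Y₀ : Scheme.{u}}
    (F : Y ⟶ X) (F₀ : Y₀ ⟶ X₀) (i : Y₀ ⟶ Y) (j : X₀ ⟶ X)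
    (hi : MoreMor.IsThickening i) (hj : MoreMor.IsThickening j)
    (hinil : ∀ U : Y.affineOpens, IsNilpotent (i.ker.ideal U))
    (hjnil : ∀ U : X.affineOpens, IsNilpotent (j.ker.ideal U))
    (hfg : ∀ U : X.affineOpens, (j.ker.ideal U).FG)
    (hc : IsPullback F₀ i j F) :
    IsFinite F ↔ IsFinite F₀ := by
  constructor
  · intro hF
    exact MorphismProperty.of_isPullback (P := @IsFinite) hc.flip hF
  · intro hF₀
    haveI : IsClosedImmersion j := hj.1
    haveI : IsClosedImmersion i := hi.1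
    have haff : IsAffineHom F :=
      (Groth.Agent.S1302.result i j F₀ F hi hj hc.w.symm).mp inferInstance
    refine { toIsAffineHom := haff, finite_app := fun U hU => ?_ }
    have hUT : IsAffineOpen (F ⁻¹ᵁ U) := hU.preimage F
    have hUX : IsAffineOpen (j ⁻¹ᵁ U) := hU.preimage j
    have hUY : F₀ ⁻¹ᵁ (j ⁻¹ᵁ U) = F₀ ⁻¹ᵁ (j ⁻¹ᵁ U) ⊓ i ⁻¹ᵁ (F ⁻¹ᵁ U) := by
      have : i ⁻¹ᵁ (F ⁻¹ᵁ U) = F₀ ⁻¹ᵁ (j ⁻¹ᵁ U) := by
        rw [← Scheme.Hom.comp_preimage, ← Scheme.Hom.comp_preimage, hc.w]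
      rw [this, inf_idem]
    have hiUY : F₀ ⁻¹ᵁ (j ⁻¹ᵁ U) ≤ i ⁻¹ᵁ (F ⁻¹ᵁ U) := by
      rw [← Scheme.Hom.comp_preimage, ← Scheme.Hom.comp_preimage, hc.w]
    have hiso := isIso_pushoutSection_of_isAffineOpen hc (US := U) (UT := F ⁻¹ᵁ U)
      (UX := j ⁻¹ᵁ U) le_rfl le_rfl hUY hU hUT hUX
    have hpo := (isIso_pushoutSection_iff hc (US := U) (UT := F ⁻¹ᵁ U)
      (UX := j ⁻¹ᵁ U) le_rfl le_rfl hUY).mp hiso
    have hfin : (F₀.appLE (j ⁻¹ᵁ U) (F₀ ⁻¹ᵁ (j ⁻¹ᵁ U)) le_rfl).hom.Finite := by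
      rw [Scheme.Hom.appLE_eq_app]
      exact F₀.finite_app _ hUX
    have hsurj : Function.Surjective (j.appLE U (j ⁻¹ᵁ U) le_rfl).hom := by
      rw [Scheme.Hom.appLE_eq_app]
      exact j.app_surjective U hU
    have hnil : IsNilpotent (RingHom.ker (j.appLE U (j ⁻¹ᵁ U) le_rfl).hom) := by
      have := hjnil ⟨U, hU⟩
      rw [Scheme.Hom.ker_apply] at this
      rw [Scheme.Hom.appLE_eq_app]
      exact this
    have := Groth.Agent.S13998.Aux.finite_of_pushout_nilpotent
      (j.appLE U (j ⁻¹ᵁ U) le_rfl).hom (F.appLE U (F ⁻¹ᵁ U) le_rfl).hom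
      (F₀.appLE (j ⁻¹ᵁ U) (F₀ ⁻¹ᵁ (j ⁻¹ᵁ U)) le_rfl).hom
      (i.appLE (F ⁻¹ᵁ U) (F₀ ⁻¹ᵁ (j ⁻¹ᵁ U)) hiUY).hom hpo hsurj hnil hfin
    rw [Scheme.Hom.appLE_eq_app] at this
    exact this

end Groth.Agent.S13998
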