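import Groth.Statements.S14002
import Mathlib
import Groth.Agent.Lib.Helper21.CompleteFlat

set_option autoImplicit false
universe u
open CAlg

namespace Groth.Agent.S14002

open TensorProduct in
/-- Flatness of an adic morphism of locally Noetherian formal schemes is detected on the truncations.
Let B → A be a homomorphism of Noetherian rings and J an ideal of B such that A is adically
separated and complete with respect to the extended ideal JA. Then A is a flat B-module if and only
if for every n ≥ 1 the base change (B/Jⁿ) ⊗_B A = A/JⁿA is a flat (B/Jⁿ)-module. The ring B is not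
assumed separated or complete for the J-adic topology. (The published statement is about an adic
morphism of locally Noetherian formal schemes, so that both rings are adic there; the criterion
holds without that assumption on B.) -/
theorem result (B A : Type u) [CommRing B] [CommRing A]
    [IsNoetherianRing B] [IsNoetherianRing A] [Algebra B A] (J : Ideal B)
    [IsAdicComplete (J.map (algebraMap B A)) A] :
    Module.Flat B A ↔ ∀ n : ℕ, 0 < n → Module.Flat (B ⧸ J ^ n) ((B ⧸ J ^ n) ⊗[B] A) := by
  constructor
  · intro _ n _
    infer_instance
  · intro h
    haveI : IsAdicComplete J A := (IsAdicComplete.map_algebraMap_iff (S := A) J A).mp inferInstance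
    refine Groth.Agent.Lib.Helper21.flat_of_isAdicComplete_of_quotFlat J fun m => ?_
    rcases Nat.eq_zero_or_pos m with rfl | hm
    · intro ι _ g x _
      refine ⟨0, fun _ j => j.elim0, fun j => j.elim0, fun s => ?_, fun j => j.elim0⟩
      rw [pow_zero, Ideal.one_eq_top, Submodule.top_smul]
      exact Submodule.mem_top
    · haveI := h m hm
      let e : ((B ⧸ J ^ m) ⊗[B] A) ≃ₗ[B ⧸ J ^ m] A ⧸ ((J ^ m) • ⊤ : Submodule B A) :=
        (TensorProduct.quotTensorEquivQuotSMul A (J ^ m)).extendScalarsOfSurjective
          Ideal.Quotient.mk_surjective
      haveI : Module.Flat (B ⧸ J ^ m) (A ⧸ ((J ^ m) • ⊤ : Submodule B A)) :=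
        Module.Flat.of_linearEquiv e.symm
      exact Groth.Agent.Lib.Helper21.quotFlat_of_flat_quotient (J ^ m)

end Groth.Agent.S14002
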