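import Groth.Statements.S14005
import Mathlib

set_option autoImplicit false
universe u
open CategoryTheory AlgebraicGeometry
open CohTop

namespace Groth.Agent.S14005

open TopologicalSpace in
/-- In a Noetherian quasi-sober space, a closed set none of whose points other than `x`
specializes to `x` is contained in the closure of `x` near `x`. -/
theorem exists_open_support_subset_closure {Y : Type*} [TopologicalSpace Y] [NoetherianSpace Y]
    [QuasiSober Y] (x : Y) (S : Set Y) (hS : IsClosed S) (h : ∀ y ∈ S, y ⤳ x → y = x) :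
    ∃ W : Set Y, IsOpen W ∧ x ∈ W ∧ S ∩ W ⊆ closure {x} := by
  obtain ⟨T, hTf, hTc, hTi, rfl⟩ := NoetherianSpace.exists_finite_set_isClosed_irreducible hS
  refine ⟨(⋃₀ {Z ∈ T | x ∉ Z})ᶜ, ?_, ?_, ?_⟩
  · rw [isOpen_compl_iff, Set.sUnion_eq_biUnion]
    exact (hTf.subset (Set.sep_subset _ _)).isClosed_biUnion fun Z hZ => hTc Z hZ.1
  · rintro ⟨Z, ⟨-, hxZ⟩, hx⟩
    exact hxZ hx
  · rintro u ⟨⟨Z, hZT, huZ⟩, huW⟩
    have hxZ : x ∈ Z := by
      by_contra hxZ
      exact huW ⟨Z, ⟨hZT, hxZ⟩, huZ⟩
    obtain ⟨z, hz⟩ := QuasiSober.sober (hTi Z hZT) (hTc Z hZT)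
    have hzZ : z ∈ Z := hz.mem
    have hzx : z ⤳ x := by
      rw [specializes_iff_mem_closure, hz.def]
      exact hxZ
    have := h z ⟨Z, hZT, hzZ⟩ hzx
    subst this
    rw [hz.def]
    exact huZ

/-- Take a scheme X with a locally Noetherian underlying topological space, F a sheaf of abelian groups
on X, x a point of X and s an element of the stalk F_x. Then the following are equivalent: (i) s is
the germ of a section t over some open neighbourhood U of x whose support in U is contained in the
closure of {x} (that is, s belongs to the subgroup Γ_x(F) of F_x); (ii) for every generization y ≠ x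
of x the image of s under the cospecialisation map F_x → F_y is zero (that is, viewed as a global
section of the inverse image of F on Spec O_{X,x}, s is supported at the closed point). -/
theorem result {X : Scheme.{u}}
    (hX : ∀ x : X, ∃ U : X.Opens, x ∈ U ∧ TopologicalSpace.NoetherianSpace U)
    (F : TopCat.Sheaf AddCommGrpCat.{u} X.carrier) (x : X) (s : F.presheaf.stalk x) :
    (∃ (U : X.Opens) (hx : x ∈ U) (t : F.presheaf.obj (Opposite.op U)),
        F.presheaf.germ U x hx t = s ∧
          ∀ (u : X) (hu : u ∈ U), F.presheaf.germ U u hu t ≠ 0 → u ∈ closure ({x} : Set X)) ↔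
      ∀ (y : X) (h : y ⤳ x), y ≠ x → F.presheaf.stalkSpecializes h s = 0 := by
  constructor
  · rintro ⟨U, hx, t, rfl, hsupp⟩ y h hyx
    rw [TopCat.Presheaf.germ_stalkSpecializes_apply]
    by_contra hne
    have hy := hsupp y (h.mem_open U.isOpen hx) hne
    have h' : x ⤳ y := specializes_iff_mem_closure.mpr hy
    exact hyx (h.antisymm h').eq
  · intro H
    obtain ⟨V, hxV, hVnoeth⟩ := hX x
    obtain ⟨U, hUV, hxU, t, rfl⟩ := F.presheaf.exists_le_germ_eq s hxV
    haveI : TopologicalSpace.NoetherianSpace ((V : Set X)) := hVnoeth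
    haveI : TopologicalSpace.NoetherianSpace {u : X // u ∈ U} :=
      (TopologicalSpace.Opens.isOpenEmbedding_of_le hUV).isInducing.noetherianSpace
    haveI : QuasiSober {u : X // u ∈ U} := U.isOpenEmbedding'.quasiSober
    let S : Set {u : X // u ∈ U} := {u | F.presheaf.germ U u.1 u.2 t ≠ 0}
    have hS : IsClosed S := by
      rw [← isOpen_compl_iff, isOpen_iff_forall_mem_open]
      intro u hu
      have hu0 : F.presheaf.germ U u.1 u.2 t = F.presheaf.germ U u.1 u.2 0 := by
        rw [map_zero]
        simpa [S] using hu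
      obtain ⟨W, hW, iU, iV, he⟩ := F.presheaf.germ_eq u.1 u.2 u.2 t 0 hu0
      refine ⟨Subtype.val ⁻¹' (W : Set X), ?_, W.isOpen.preimage continuous_subtype_val, hW⟩
      intro u' hu'
      have hu'W : u'.1 ∈ W := hu'
      simp only [Set.mem_compl_iff, S, Set.mem_ofPred_eq, not_not]
      rw [← F.presheaf.germ_res_apply iU u'.1 hu'W t, he, map_zero, map_zero]
    obtain ⟨W, hWo, hxW, hSW⟩ :=
      exists_open_support_subset_closure (⟨x, hxU⟩ : {u : X // u ∈ U}) S hS (by
        intro y hy hyx
        by_contra hne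
        have h' : (y : X) ⤳ x := hyx.map continuous_subtype_val
        have := H y h' (fun e => hne (Subtype.ext e))
        rw [TopCat.Presheaf.germ_stalkSpecializes_apply] at this
        exact hy this)
    let W' : X.Opens := ⟨Subtype.val '' W, U.isOpen.isOpenMap_subtype_val _ hWo⟩
    have hW'U : W' ≤ U := by
      rintro _ ⟨u, -, rfl⟩
      exact u.2
    refine ⟨W', ⟨⟨x, hxU⟩, hxW, rfl⟩, F.presheaf.map (homOfLE hW'U).op t, ?_, ?_⟩
    · rw [TopCat.Presheaf.germ_res_apply]
    · rintro u ⟨u', hu'W, rfl⟩ hne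
      rw [TopCat.Presheaf.germ_res_apply] at hne
      have hcl : u' ∈ closure ({(⟨x, hxU⟩ : {u : X // u ∈ U})} : Set {u : X // u ∈ U}) := hSW ⟨hne, hu'W⟩
      have hsp : (⟨x, hxU⟩ : {u : X // u ∈ U}) ⤳ u' := specializes_iff_mem_closure.mpr hcl
      exact specializes_iff_mem_closure.mp (hsp.map continuous_subtype_val)

end Groth.Agent.S14005
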