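import Groth.Statements.S1401
import Groth.Agent.Lib.Helper25.QAff
import Groth.Agent.Lib.Helper5.IndQuasiAffine

set_option autoImplicit false
universe u
open FlatMor

namespace Groth.Agent.S1401

open AlgebraicGeometry CategoryTheory Limits in
/-- Let S' → S be flat, surjective and quasi-compact and let f' be the base change of f : X → S to S'.
If f' is ind-quasi-affine then so is f. -/
theorem result {X S X' S' : Scheme.{u}} (f : X ⟶ S) (f' : X' ⟶ S') (g' : X' ⟶ X) (g : S' ⟶ S)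
    [Flat g] [Surjective g] [QuasiCompact g] (hc : IsPullback g' f' f g) (hf' : MoreMor.IsIndQuasiAffineHom f') : MoreMor.IsIndQuasiAffineHom f := by
  rw [Groth.Agent.Lib.Helper5.IndQuasiAffine.isIndQuasiAffineHom_iff] at hf' ⊢
  intro V hV U hUV hU
  have hVaff : IsAffine V := hV
  have hUc : CompactSpace ↑U := isCompact_iff_compactSpace.mp hU
  -- the restricted pullback square
  have hUY : g' ⁻¹ᵁ U = g' ⁻¹ᵁ U ⊓ f' ⁻¹ᵁ (g ⁻¹ᵁ V) := by
    rw [left_eq_inf, ← Scheme.Hom.comp_preimage, ← hc.w, Scheme.Hom.comp_preimage]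
    exact g'.preimage_mono hUV
  have hsq := Scheme.Hom.isPullback_resLE hc (le_refl (g ⁻¹ᵁ V)) hUV hUY
  have hle2 : g' ⁻¹ᵁ U ≤ f' ⁻¹ᵁ (g ⁻¹ᵁ V) := by rw [hUY]; exact inf_le_right
  -- the bottom map is fpqc
  have hpb := isPullback_morphismRestrict g V
  have hQ : (@Surjective ⊓ @Flat ⊓ @QuasiCompact : MorphismProperty Scheme.{u})
      (g.resLE V (g ⁻¹ᵁ V) le_rfl) := by
    rw [Scheme.Hom.resLE_eq_morphismRestrict]
    exact ⟨⟨MorphismProperty.of_isPullback hpb.flip inferInstance,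
      MorphismProperty.of_isPullback hpb.flip inferInstance⟩,
      MorphismProperty.of_isPullback hpb.flip inferInstance⟩
  -- the base change is quasi-affine
  have hqc : QuasiCompact (f.resLE V U hUV) := (quasiCompact_iff_compactSpace _).mpr hUc
  have hqc' : QuasiCompact (f'.resLE (g ⁻¹ᵁ V) (g' ⁻¹ᵁ U) hle2) :=
    MorphismProperty.of_isPullback hsq inferInstance
  have hqa' : Mor2.IsQuasiAffine (f'.resLE (g ⁻¹ᵁ V) (g' ⁻¹ᵁ U) hle2) := by
    refine ⟨hqc', fun W hW => ?_⟩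
    rw [Groth.Agent.Lib.Helper5.IndQuasiAffine.isQuasiAffine_iff_image]
    refine hf' ((g ⁻¹ᵁ V).ι ''ᵁ W) (hW.image_of_isOpenImmersion _) _ ?_ ?_
    · rintro _ ⟨z, hz, rfl⟩
      refine ⟨(f'.resLE (g ⁻¹ᵁ V) (g' ⁻¹ᵁ U) hle2) z, hz, ?_⟩
      exact congrArg (fun k => k.base z) (Scheme.Hom.resLE_comp_ι f' hle2)
    · exact (hqc'.isCompact_preimage _ W.isOpen hW.isCompact).image (g' ⁻¹ᵁ U).ι.continuous
  have hdesc := Groth.Agent.Lib.Helper25.QAff.descendsAlong_isQuasiAffine.{u}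
  have hqa : Mor2.IsQuasiAffine (f.resLE V U hUV) :=
    MorphismProperty.of_isPullback_of_descendsAlong
      (P := Groth.Agent.Lib.Helper25.QAff.QA)
      (Q := (@Surjective ⊓ @Flat ⊓ @QuasiCompact : MorphismProperty Scheme.{u}))
      hsq.flip hQ hqa'
  exact (Groth.Agent.Lib.Helper25.QAff.isQuasiAffine_iff_of_isAffine _).mp hqa


end Groth.Agent.S1401
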