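import Groth.Statements.S14018
import Mathlib.CategoryTheory.Sites.LocallySurjective
import Mathlib.CategoryTheory.Limits.Types.Limits

set_option autoImplicit false
open CategoryTheory CategoryTheory.Limits Opposite
universe w v u
open CohSite

namespace Groth.Agent.S14018

section Aux

lemma map_eq_of_succ (G : ℕᵒᵖ ⥤ Type w) (b : ∀ m, G.obj (op m))
    (hb : ∀ m, G.map (homOfLE (Nat.le_succ m)).op (b (m + 1)) = b m) {m k : ℕ} (h : m ≤ k) :
    G.map (homOfLE h).op (b k) = b m := by
  induction k, h using Nat.le_induction with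
  | base =>
    have : (homOfLE (le_refl m)).op = 𝟙 (op m) := Subsingleton.elim _ _
    rw [this]
    exact G.map_id_apply _ _
  | succ k h ih =>
    have h2 : (homOfLE (h.trans (Nat.le_succ k))).op =
        (homOfLE (Nat.le_succ k)).op ≫ (homOfLE h).op := Subsingleton.elim _ _
    rw [h2, Functor.map_comp_apply, hb k, ih]

lemma exists_section_of_surjective (G : ℕᵒᵖ ⥤ Type w)
    (hG : ∀ n : ℕ, Function.Surjective (G.map (homOfLE (Nat.le_succ n)).op)) (n : ℕ)
    (s : G.obj (op n)) : ∃ t : G.sections, t.1 (op n) = s := by
  choose nxt hnxt using hG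
  let c : ∀ k : ℕ, G.obj (op (n + k)) := fun k => Nat.rec s (fun k x => nxt (n + k) x) k
  have hc : ∀ k, G.map (homOfLE (Nat.le_succ (n + k))).op (c (k + 1)) = c k := fun k =>
    hnxt (n + k) (c k)
  have hc0 : ∀ k, G.map (homOfLE (Nat.le_add_right n k)).op (c k) = s := by
    intro k
    induction k with
    | zero =>
      have : (homOfLE (Nat.le_add_right n 0)).op = 𝟙 (op n) := Subsingleton.elim _ _
      rw [this]
      exact G.map_id_apply _ _
    | succ k ih =>
      have h2 : (homOfLE (Nat.le_add_right n (k + 1))).op =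
          (homOfLE (Nat.le_succ (n + k))).op ≫ (homOfLE (Nat.le_add_right n k)).op :=
        Subsingleton.elim _ _
      rw [h2, Functor.map_comp_apply, hc k, ih]
  let b : ∀ m : ℕ, G.obj (op m) := fun m => G.map (homOfLE (Nat.le_add_left m n)).op (c m)
  have hb : ∀ m, G.map (homOfLE (Nat.le_succ m)).op (b (m + 1)) = b m := by
    intro m
    change G.map _ (G.map _ (c (m + 1))) = G.map _ (c m)
    rw [← Functor.map_comp_apply]
    have h2 : (homOfLE (Nat.le_add_left (m + 1) n)).op ≫ (homOfLE (Nat.le_succ m)).op =
        (homOfLE (Nat.le_succ (n + m))).op ≫ (homOfLE (Nat.le_add_left m n)).op :=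
      Subsingleton.elim _ _
    rw [h2, Functor.map_comp_apply, hc m]
  refine ⟨⟨fun j => b j.unop, ?_⟩, ?_⟩
  · intro j j' f
    exact map_eq_of_succ G b hb (leOfHom f.unop)
  · change G.map _ (c n) = s
    exact hc0 n

end Aux

/-- Let (C, J) be a site with enough weakly contractible objects — every object V has a covering sieve
all of whose arrows factor through some weakly contractible object, an object U being weakly
contractible when every epimorphism of sheaves of sets (valued in a fixed universe) is surjective on
sections over U. Then the topos of sheaves of sets is replete: if (F_n) is an inverse system of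
sheaves of sets indexed by ℕ with every transition map F_(n+1) ⟶ F_n an epimorphism, then each
projection lim_n F_n ⟶ F_n is an epimorphism; the limit is taken as any limit cone. (The small
pro-étale site of a scheme is such a site.) -/
theorem result
    {C : Type u} [Category.{v} C] (J : GrothendieckTopology C)
    (hwc : ∀ V : C, ∃ S : Sieve V, S ∈ J V ∧ ∀ ⦃W : C⦄ (f : W ⟶ V), S.arrows f →
      ∃ (U : C) (g : W ⟶ U) (h : U ⟶ V), (∀ (A B : Sheaf J (Type w)) (ψ : A ⟶ B), Epi ψ → Function.Surjective (ψ.hom.app (op U))) ∧ g ≫ h = f)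
    (F : ℕᵒᵖ ⥤ Sheaf J (Type w))
    (hF : ∀ n : ℕ, Epi (F.map (homOfLE (Nat.le_succ n)).op))
    (c : Cone F) (hc : IsLimit c) (n : ℕ) :
    Epi (c.π.app (op n)) := by
  have : Presheaf.IsLocallySurjective J (c.π.app (op n)).hom := by
    constructor
    intro V s
    obtain ⟨S, hS, hS'⟩ := hwc V
    refine J.superset_covering ?_ hS
    intro W f hf
    obtain ⟨U, g, h, hU, rfl⟩ := hS' f hf
    let E := sheafToPresheaf J (Type w) ⋙ (evaluation Cᵒᵖ (Type w)).obj (op U)
    let G : ℕᵒᵖ ⥤ Type w := F ⋙ E
    have hG : ∀ m, Function.Surjective (G.map (homOfLE (Nat.le_succ m)).op) :=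
      fun m => hU _ _ _ (hF m)
    obtain ⟨t, ht⟩ := exists_section_of_surjective G hG n ((F.obj (op n)).obj.map h.op s)
    have hlim : IsLimit (E.mapCone c) := isLimitOfPreserves E hc
    let x : c.pt.obj.obj (op U) := (Types.isLimitEquivSections hlim).symm t
    have hx : (c.π.app (op n)).hom.app (op U) x = (F.obj (op n)).obj.map h.op s := by
      have := Types.isLimitEquivSections_symm_apply hlim t (op n)
      exact this.trans ht
    refine ⟨c.pt.obj.map g.op x, ?_⟩
    have nat := NatTrans.naturality_apply (c.π.app (op n)).hom g.op x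
    refine nat.trans ?_
    rw [hx, ← Functor.map_comp_apply]
    rfl
  exact Sheaf.epi_of_isLocallySurjective' _

end Groth.Agent.S14018
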