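import Groth.Statements.S14020
import Mathlib.RingTheory.Artinian.Module
import Mathlib.Algebra.Module.Torsion.Basic
import Mathlib.RingTheory.Finiteness.Ideal

set_option autoImplicit false
universe u
open CAlg

namespace Groth.Agent.S14020

/-- A finite module killed by `I` is artinian when `R ⧸ I` is artinian. -/
theorem isArtinian_of_finite_of_torsion {R : Type u} [CommRing R] (I : Ideal R)
    [IsArtinianRing (R ⧸ I)] (M : Type u) [AddCommGroup M] [Module R M] [Module.Finite R M]
    (hM : Module.IsTorsionBySet R M I) : IsArtinian R M := by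
  let := hM.module
  have : IsScalarTower R (R ⧸ I) M := hM.isScalarTower
  have : Module.Finite (R ⧸ I) M := Module.Finite.of_restrictScalars_finite R (R ⧸ I) M
  exact isArtinian_of_surjective_algebraMap (S := R) (R := R ⧸ I) Ideal.Quotient.mk_surjective

theorem aux (R : Type u) [CommRing R] (I : Ideal R) (hI : I.FG) [IsArtinianRing (R ⧸ I)] (n : ℕ) :
    IsArtinian R (R ⧸ I ^ n) := by
  induction n with
  | zero =>
    have : Subsingleton (R ⧸ I ^ 0) := by
      rw [pow_zero, Ideal.one_eq_top]
      exact Ideal.Quotient.subsingleton_iff.mpr rfl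
    infer_instance
  | succ n ih =>
    let T : Submodule R (R ⧸ I ^ (n + 1)) := Submodule.map (Submodule.mkQ (I ^ (n + 1))) (I ^ n)
    rw [isArtinian_iff_submodule_quotient T]
    constructor
    · have : Module.Finite R T := Module.Finite.iff_fg.mpr (Submodule.FG.map _ (hI.pow (n := n)))
      apply isArtinian_of_finite_of_torsion I
      rintro ⟨_, x, hx, rfl⟩ ⟨r, hr⟩
      ext
      simp only [Submodule.mkQ_apply, SetLike.mk_smul_mk, ZeroMemClass.coe_zero]
      rw [← Submodule.Quotient.mk_smul, Submodule.Quotient.mk_eq_zero, smul_eq_mul, pow_succ']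
      exact Ideal.mul_mem_mul hr hx
    · exact isArtinian_of_linearEquiv (Submodule.quotientQuotientEquivQuotient (I ^ (n + 1)) (I ^ n)
        (Ideal.pow_le_pow_right n.le_succ)).symm

/-- Let R be a commutative ring and I a finitely generated ideal such that the quotient ring R/I is
artinian. Then R/I^n is artinian for every n. -/
theorem result
    (R : Type u) [CommRing R] (I : Ideal R) (hI : I.FG) [IsArtinianRing (R ⧸ I)] (n : ℕ) :
    IsArtinianRing (R ⧸ I ^ n) :=
  isArtinian_of_tower R (aux R I hI n)

end Groth.Agent.S14020
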