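import Groth.Statements.S1403
import Mathlib
import Groth.Agent.Lib.Helper23.FlatDimFormula
-- import your own Groth.Agent.* helpers here

set_option autoImplicit false
universe u
open FlatMor

namespace Groth.Agent.S1403

open IsLocalRing TensorProduct Algebra Groth.Agent.Lib.Helper18.FibBridge
  Groth.Agent.Lib.Helper21.FibDim Groth.Agent.Lib.Helper23.FlatDimFormula


/-- Let A → B be an injective local homomorphism of local domains with B essentially of finite type and
flat over A. Then dim(B / m_A B) + trdeg_{κ(A)} κ(B) = trdeg_A B; all three quantities are finite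
here, and the statement gives them as natural numbers d, e with d + e the transcendence degree of B
over A. -/
theorem result {A B : Type u} [CommRing A] [CommRing B] [IsDomain A] [IsDomain B] [IsLocalRing A] [IsLocalRing B]
    [Algebra A B] [IsLocalHom (algebraMap A B)] [FaithfulSMul A B] [Algebra.EssFiniteType A B] [Module.Flat A B] :
    ∃ d e : ℕ, ringKrullDim (B ⧸ Ideal.map (algebraMap A B) (IsLocalRing.maximalIdeal A)) = d ∧
      Algebra.trdeg (IsLocalRing.ResidueField A) (IsLocalRing.ResidueField B) = e ∧ Algebra.trdeg A B = (d + e : ℕ) := by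
  classical
  haveI hMloc : IsLocalization (EssFiniteType.submonoid A B) B := EssFiniteType.isLocalization A B
  have h0 : ((maximalIdeal B).comap (algebraMap (EssFiniteType.subalgebra A B) B)).comap
      (algebraMap A (EssFiniteType.subalgebra A B)) = maximalIdeal A := by
    rw [Ideal.comap_comap, ← IsScalarTower.algebraMap_eq]
    exact ((local_hom_TFAE (algebraMap A B)).out 0 4).mp ‹IsLocalHom (algebraMap A B)›
  obtain ⟨Q, hQprime, hQ⟩ := exists_prime_of_comap_eq (p := maximalIdeal A)
    ((maximalIdeal B).comap (algebraMap (EssFiniteType.subalgebra A B) B)) h0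
  have hMq : EssFiniteType.submonoid A B = (ctr (maximalIdeal A) Q).primeCompl := by
    ext x
    show IsUnit (algebraMap (EssFiniteType.subalgebra A B) B x) ↔ x ∉ ctr (maximalIdeal A) Q
    rw [hQ, Ideal.mem_comap, IsLocalRing.mem_maximalIdeal, mem_nonunits_iff, not_not]
  haveI : IsLocalization.AtPrime B (ctr (maximalIdeal A) Q) := by
    show IsLocalization _ B
    rw [← hMq]
    exact hMloc
  haveI : (ctr (maximalIdeal A) Q).LiesOver (maximalIdeal A) :=
    ⟨(ctr_comap (maximalIdeal A) Q).symm⟩
  have hQ' : (⟨Q, hQprime⟩ : PrimeSpectrum ((maximalIdeal A).Fiber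
      (EssFiniteType.subalgebra A B))).asIdeal.comap
      (Algebra.TensorProduct.includeRight.toRingHom) = ctr (maximalIdeal A) Q := rfl
  -- finiteness
  haveI : Algebra.FiniteType (maximalIdeal A).ResidueField
      ((maximalIdeal A).Fiber (EssFiniteType.subalgebra A B)) := inferInstance
  haveI : IsNoetherianRing ((maximalIdeal A).Fiber (EssFiniteType.subalgebra A B)) :=
    Algebra.FiniteType.isNoetherianRing (maximalIdeal A).ResidueField _
  obtain ⟨d', hd'⟩ := ENat.ne_top_iff_exists.mp (Ideal.height_ne_top hQprime.ne_top)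
  haveI : Algebra.FiniteType (maximalIdeal A).ResidueField
      ((maximalIdeal A).Fiber (EssFiniteType.subalgebra A B) ⧸ Q) :=
    Algebra.FiniteType.of_surjective (Ideal.Quotient.mkₐ _ Q) (Ideal.Quotient.mkₐ_surjective _ Q)
  obtain ⟨e', he1, he2⟩ := Groth.Agent.Lib.Helper9.DimTrdeg.exists_nat_dim_eq_trdeg
    (maximalIdeal A).ResidueField ((maximalIdeal A).Fiber (EssFiniteType.subalgebra A B) ⧸ Q)
  have hr : Algebra.trdeg (A ⧸ maximalIdeal A)
      (EssFiniteType.subalgebra A B ⧸ ctr (maximalIdeal A) Q) = e' := by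
    rw [← trdeg_fiber_quotient A (EssFiniteType.subalgebra A B) (maximalIdeal A) Q
      (ctr (maximalIdeal A) Q) rfl, he2]
  have hdim := Groth.Agent.Lib.Helper23.MiracleQF.localDim_primeSpectrum
    (maximalIdeal A).ResidueField ((maximalIdeal A).Fiber (EssFiniteType.subalgebra A B)) Q e' d'
    he1 hd'.symm
  -- Chevalley bound
  haveI : FaithfulSMul A (EssFiniteType.subalgebra A B) := by
    rw [faithfulSMul_iff_algebraMap_injective]
    intro x y hxy
    apply FaithfulSMul.algebraMap_injective A B
    rw [IsScalarTower.algebraMap_apply A (EssFiniteType.subalgebra A B) B, hxy,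
      ← IsScalarTower.algebraMap_apply]
  have h_le := trdeg_le_of_localDim A (EssFiniteType.subalgebra A B) (maximalIdeal A)
    (ctr (maximalIdeal A) Q) ⟨Q, hQprime⟩ hQ' (e' + d') e' hdim hr
  have h_eq : Algebra.trdeg A B = Algebra.trdeg A (EssFiniteType.subalgebra A B) := by
    haveI : Algebra.IsAlgebraic (EssFiniteType.subalgebra A B) B :=
      IsLocalization.isAlgebraic B (EssFiniteType.submonoid A B)
    have e1 := trdeg_add_eq A (EssFiniteType.subalgebra A B) (A := B)
    rw [trdeg_eq_zero (R := EssFiniteType.subalgebra A B) (A := B), add_zero] at e1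
    exact e1.symm
  -- flat bound
  obtain ⟨Q₀, hQ₀p, hQ₀le, hQ₀dim⟩ := exists_le_dim_quotient
    ((maximalIdeal A).Fiber (EssFiniteType.subalgebra A B)) Q e' d' he1 hd'.symm
  haveI : Algebra.FiniteType (maximalIdeal A).ResidueField
      ((maximalIdeal A).Fiber (EssFiniteType.subalgebra A B) ⧸ Q₀) :=
    Algebra.FiniteType.of_surjective (Ideal.Quotient.mkₐ _ Q₀) (Ideal.Quotient.mkₐ_surjective _ Q₀)
  obtain ⟨s, hs1, hs2⟩ := Groth.Agent.Lib.Helper9.DimTrdeg.exists_nat_dim_eq_trdeg
    (maximalIdeal A).ResidueField ((maximalIdeal A).Fiber (EssFiniteType.subalgebra A B) ⧸ Q₀)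
  have hsle : e' + d' ≤ s := by
    rw [hs1] at hQ₀dim
    exact_mod_cast hQ₀dim
  have hgen : Algebra.adjoin (maximalIdeal A).ResidueField
      (Set.range (Algebra.TensorProduct.includeRight :
        EssFiniteType.subalgebra A B →ₐ[A] (maximalIdeal A).Fiber (EssFiniteType.subalgebra A B))) =
      ⊤ := by
    rw [_root_.eq_top_iff]
    rintro y -
    induction y using TensorProduct.induction_on with
    | zero => exact Subalgebra.zero_mem _
    | tmul a c =>
      have : (a ⊗ₜ[A] c : (maximalIdeal A).Fiber (EssFiniteType.subalgebra A B)) =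
          a • ((1 : (maximalIdeal A).ResidueField) ⊗ₜ[A] c) := by
        rw [TensorProduct.smul_tmul', smul_eq_mul, mul_one]
      rw [this]
      exact Subalgebra.smul_mem _ (Algebra.subset_adjoin (Set.mem_range_self c)) a
    | add y z hy hz => exact Subalgebra.add_mem _ hy hz
  have h_ge := le_trdeg_of_flat' A (EssFiniteType.subalgebra A B) B (maximalIdeal A).ResidueField
    ((maximalIdeal A).Fiber (EssFiniteType.subalgebra A B))
    (fun a => Ideal.algebraMap_residueField_eq_zero) Algebra.TensorProduct.includeRight hgen Q₀ Q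
    hQ₀le s hs2
  -- conclude
  refine ⟨d', e', ?_, ?_, ?_⟩
  · rw [dim_closedFibre A (EssFiniteType.subalgebra A B) B (maximalIdeal A) Q, ← hd']
    rfl
  · rw [← trdeg_residueField_eq A (EssFiniteType.subalgebra A B) B (ctr (maximalIdeal A) Q), hr]
  · rw [h_eq] at h_ge
    have h1 : (s : Cardinal.{u}) ≤ ((e' + d' : ℕ) : Cardinal.{u}) := h_ge.trans h_le
    have h2 : s ≤ e' + d' := by exact_mod_cast h1
    have h3 : s = e' + d' := le_antisymm h2 hsle
    rw [h_eq]
    apply le_antisymm
    · rw [add_comm]; exact h_le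
    · rw [add_comm, ← h3]; exact h_ge

end Groth.Agent.S1403
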