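import Groth.Statements.S14032
import Mathlib

set_option autoImplicit false
universe u v
open W4c1frobunstiva

namespace Groth.Agent.S14032


open W4c1frobunstiva TensorProduct

section
variable {R : Type u} [CommRing R] {M : Type v} [AddCommGroup M] [Module R M]

/-- nilpotent Nakayama -/
theorem eq_top_of_sup_smul_eq_top (I : Ideal R) (hI : IsNilpotent I) (N : Submodule R M)
    (h : ⊤ ≤ N ⊔ I • (⊤ : Submodule R M)) : N = ⊤ := by
  obtain ⟨k, hk⟩ := hI
  have key : ∀ j : ℕ, ⊤ ≤ N ⊔ (I ^ j) • (⊤ : Submodule R M) := by
    intro j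
    induction j with
    | zero => simp
    | succ j ih =>
      have h1 : (I ^ j) • (⊤ : Submodule R M) ≤ N ⊔ (I ^ (j + 1)) • (⊤ : Submodule R M) := by
        calc (I ^ j) • (⊤ : Submodule R M) ≤ (I ^ j) • (N ⊔ I • (⊤ : Submodule R M)) :=
              Submodule.smul_mono le_rfl h
          _ = (I ^ j) • N ⊔ (I ^ j) • (I • (⊤ : Submodule R M)) := Submodule.smul_sup _ _ _
          _ ≤ N ⊔ (I ^ (j + 1)) • (⊤ : Submodule R M) := by
              refine sup_le_sup Submodule.smul_le_right ?_
              rw [← Submodule.mul_smul, pow_succ]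
      exact ih.trans (sup_le le_sup_left h1)
  have := key k
  rw [hk, Submodule.zero_eq_bot, Submodule.bot_smul, sup_bot_eq] at this
  exact top_le_iff.1 this

theorem e_one_tmul (x : M) :
    quotTensorEquivQuotSMul M (nilradical R) ((1 : R ⧸ nilradical R) ⊗ₜ[R] x) =
      Submodule.Quotient.mk x := by
  have := quotTensorEquivQuotSMul_mk_tmul (M := M) (nilradical R) 1 x
  rw [map_one, one_smul] at this
  exact this

theorem mk_tmul (a : R) (x : M) :
    (Ideal.Quotient.mk (nilradical R) a) ⊗ₜ[R] x = (1 : R ⧸ nilradical R) ⊗ₜ[R] (a • x) := by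
  rw [← TensorProduct.smul_tmul]
  congr 1
  rw [Algebra.smul_def, mul_one]
  rfl

theorem sum_eq {r : ℕ} (a : Fin r → R) (m : Fin r → M) :
    ∑ i, (Ideal.Quotient.mk (nilradical R) (a i)) • ((1 : R ⧸ nilradical R) ⊗ₜ[R] m i) =
      (1 : R ⧸ nilradical R) ⊗ₜ[R] (∑ i, a i • m i) := by
  rw [TensorProduct.tmul_sum]
  refine Finset.sum_congr rfl (fun i _ => ?_)
  rw [TensorProduct.smul_tmul', smul_eq_mul, mul_one, mk_tmul]

end

open TensorProduct in
/-- Let R be a commutative Noetherian ring with nilradical n, M an R-module and r a natural number. Then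
M is NR-free of rank r — generated by r elements such that every linear relation among them has
nilpotent coefficients — if and only if (R/n) ⊗_R M is free of rank r over R/n, in the sense of
admitting a basis indexed by r elements. (The published statement assumes M finitely generated and
also gives the converse when R is local; over a Noetherian ring the nilradical is nilpotent, the
case used here, and finite generation is not needed.) -/
theorem result (R : Type u) [CommRing R]
    [IsNoetherianRing R] (M : Type v) [AddCommGroup M] [Module R M] (r : ℕ) :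
    W4c1frobunstiva.IsNRFree R M r ↔
      Nonempty (Module.Basis (Fin r) (R ⧸ nilradical R) ((R ⧸ nilradical R) ⊗[R] M)) := by
  constructor
  · rintro ⟨m, hspan, hrel⟩
    let b : Fin r → (R ⧸ nilradical R) ⊗[R] M := fun i => (1 : R ⧸ nilradical R) ⊗ₜ[R] m i
    have hli : LinearIndependent (R ⧸ nilradical R) b := by
      rw [Fintype.linearIndependent_iff]
      intro c hc
      have hsurj : ∀ i, ∃ a : R, Ideal.Quotient.mk (nilradical R) a = c i :=
        fun i => Ideal.Quotient.mk_surjective (c i)
      choose a ha using hsurj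
      have h1 : ∑ i, c i • b i = (1 : R ⧸ nilradical R) ⊗ₜ[R] (∑ i, a i • m i) := by
        rw [← sum_eq a m]
        refine Finset.sum_congr rfl (fun i _ => ?_)
        rw [ha i]
      rw [h1] at hc
      have h2 := congrArg (quotTensorEquivQuotSMul M (nilradical R)) hc
      rw [e_one_tmul, map_zero, Submodule.Quotient.mk_eq_zero, ← hspan] at h2
      obtain ⟨ν, hν, hsum⟩ := (Submodule.mem_ideal_smul_span_iff_exists_sum _ m _).1 h2
      rw [Finsupp.sum_fintype _ _ (fun i => zero_smul R (m i))] at hsum
      have h3 : ∑ i, (a i - ν i) • m i = 0 := by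
        simp only [sub_smul, Finset.sum_sub_distrib]
        rw [hsum, sub_self]
      intro i
      have h4 := hrel (fun i => a i - ν i) h3 i
      have h5 : a i ∈ nilradical R := by
        have : a i = (a i - ν i) + ν i := by ring
        rw [this]
        exact Ideal.add_mem _ (mem_nilradical.2 h4) (hν i)
      rw [← ha i]
      exact Ideal.Quotient.eq_zero_iff_mem.2 h5
    have hsp : ⊤ ≤ Submodule.span (R ⧸ nilradical R) (Set.range b) := by
      intro z hz0
      clear hz0
      induction z using TensorProduct.induction_on with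
      | zero => exact Submodule.zero_mem _
      | tmul c x =>
        have hx : x ∈ Submodule.span R (Set.range m) := by rw [hspan]; trivial
        obtain ⟨a, rfl⟩ := (Submodule.mem_span_range_iff_exists_fun R).1 hx
        have : c ⊗ₜ[R] (∑ i, a i • m i) =
            c • ∑ i, (Ideal.Quotient.mk (nilradical R) (a i)) • b i := by
          rw [sum_eq a m, TensorProduct.smul_tmul', smul_eq_mul, mul_one]
        rw [this]
        refine Submodule.smul_mem _ _ (Submodule.sum_mem _ (fun i _ => ?_))
        exact Submodule.smul_mem _ _ (Submodule.subset_span ⟨i, rfl⟩)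
      | add z w hz hw => exact Submodule.add_mem _ hz hw
    exact ⟨Module.Basis.mk hli hsp⟩
  · rintro ⟨b⟩
    have hsurj : ∀ i, ∃ x : M, Submodule.Quotient.mk x =
        quotTensorEquivQuotSMul M (nilradical R) (b i) :=
      fun i => Submodule.Quotient.mk_surjective _ _
    choose m hm using hsurj
    have hb : ∀ i, b i = (1 : R ⧸ nilradical R) ⊗ₜ[R] m i := by
      intro i
      apply (quotTensorEquivQuotSMul M (nilradical R)).injective
      rw [e_one_tmul, hm i]
    refine ⟨m, ?_, ?_⟩
    · apply eq_top_of_sup_smul_eq_top (nilradical R) (IsNoetherianRing.isNilpotent_nilradical R)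
      intro x _
      have hsurj : ∀ i, ∃ a : R, Ideal.Quotient.mk (nilradical R) a =
          b.repr ((1 : R ⧸ nilradical R) ⊗ₜ[R] x) i :=
        fun i => Ideal.Quotient.mk_surjective _
      choose a ha using hsurj
      have h1 : (1 : R ⧸ nilradical R) ⊗ₜ[R] x = (1 : R ⧸ nilradical R) ⊗ₜ[R] (∑ i, a i • m i) := by
        rw [← sum_eq a m]
        conv_lhs => rw [← b.sum_repr ((1 : R ⧸ nilradical R) ⊗ₜ[R] x)]
        refine Finset.sum_congr rfl (fun i _ => ?_)
        rw [ha i, hb i]
      have h2 := congrArg (quotTensorEquivQuotSMul M (nilradical R)) h1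
      rw [e_one_tmul, e_one_tmul, Submodule.Quotient.eq] at h2
      have h3 : x = (∑ i, a i • m i) + (x - ∑ i, a i • m i) := by abel
      rw [h3]
      refine Submodule.add_mem_sup ?_ h2
      exact Submodule.sum_mem _ (fun i _ => Submodule.smul_mem _ _ (Submodule.subset_span ⟨i, rfl⟩))
    · intro a ha i
      have h1 : ∑ i, (Ideal.Quotient.mk (nilradical R) (a i)) • b i = 0 := by
        have := sum_eq a m
        rw [ha, TensorProduct.tmul_zero] at this
        rw [← this]
        refine Finset.sum_congr rfl (fun i _ => ?_)
        rw [hb i]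
      have h2 := (Fintype.linearIndependent_iff.1 b.linearIndependent) _ h1 i
      exact mem_nilradical.1 (Ideal.Quotient.eq_zero_iff_mem.1 h2)

end Groth.Agent.S14032
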