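import Groth.Statements.S14033
import Mathlib

set_option autoImplicit false
universe u v
open W4c1frobunstiva

namespace Groth.Agent.S14033

section helpers
open DualNumber Pointwise

variable {R : Type u} [CommRing R] {M : Type v}
    [AddCommGroup M] [Module R[ε] M] [Module R M] [IsScalarTower R R[ε] M]

theorem dual_smul (x : R[ε]) (m : M) : x • m = x.fst • m + x.snd • ((ε : R[ε]) • m) := by
  conv_lhs => rw [← TrivSqZeroExt.inl_fst_add_inr_snd_eq x]
  rw [add_smul, DualNumber.inr_eq_smul_eps, smul_assoc, ← TrivSqZeroExt.algebraMap_eq_inl,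
    algebraMap_smul]

omit [Module R M] [IsScalarTower R R[ε] M] in
theorem mem_eps_smul_top (m : M) :
    m ∈ ((ε : R[ε]) • (⊤ : Submodule R[ε] M)) ↔ ∃ m', m = (ε : R[ε]) • m' := by
  rw [Submodule.mem_smul_pointwise_iff_exists]
  simp [eq_comm]

omit [Module R M] [IsScalarTower R R[ε] M] in
theorem eps_smul_eps_smul (m : M) : (ε : R[ε]) • ((ε : R[ε]) • m) = 0 := by
  rw [smul_smul, DualNumber.eps_mul_eps, zero_smul]

theorem mkQ_smul (x : R[ε]) (m : M) :
    ((ε : R[ε]) • (⊤ : Submodule R[ε] M)).mkQ (x • m) =
      x.fst • ((ε : R[ε]) • (⊤ : Submodule R[ε] M)).mkQ m := by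
  rw [dual_smul, map_add]
  have h : ((ε : R[ε]) • (⊤ : Submodule R[ε] M)).mkQ (x.snd • ((ε : R[ε]) • m)) = 0 := by
    rw [Submodule.mkQ_apply, Submodule.Quotient.mk_eq_zero, mem_eps_smul_top]
    exact ⟨x.snd • m, by rw [smul_comm]⟩
  rw [h, add_zero]
  rfl

local notation "P" => ((ε : R[ε]) • (⊤ : Submodule R[ε] M))

theorem exists_basis_of_bases {r : ℕ}
    (c : Module.Basis (Fin r) R (M ⧸ ((ε : R[ε]) • (⊤ : Submodule R[ε] M))))
    (d : Module.Basis (Fin r) R (((ε : R[ε]) • (⊤ : Submodule R[ε] M)).restrictScalars R)) :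
    Nonempty (Module.Basis (Fin r) R[ε] M) := by
  -- multiplication by ε as a map M/εM → εM
  let f : M →ₗ[R[ε]] ↥P := LinearMap.codRestrict P (LinearMap.lsmul R[ε] M ε)
    (fun m => (mem_eps_smul_top _).mpr ⟨m, rfl⟩)
  have hf : P ≤ LinearMap.ker f := by
    intro m hm
    obtain ⟨m', rfl⟩ := (mem_eps_smul_top m).mp hm
    rw [LinearMap.mem_ker]
    ext
    simp [f, eps_smul_eps_smul]
  let μ' : (M ⧸ P) →ₗ[R[ε]] ↥P := (P).liftQ f hf
  let μ : (M ⧸ P) →ₗ[R] ↥((P).restrictScalars R) :=
    ((Submodule.restrictScalarsEquiv R R[ε] M P).symm.restrictScalars R).toLinearMap ∘ₗ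
      μ'.restrictScalars R
  have hμ : ∀ m : M, ((μ ((P).mkQ m) : ↥((P).restrictScalars R)) : M) = (ε : R[ε]) • m := by
    intro m
    rfl
  have hμsurj : Function.Surjective μ := by
    rintro ⟨y, hy⟩
    obtain ⟨m', rfl⟩ := (mem_eps_smul_top y).mp hy
    exact ⟨(P).mkQ m', Subtype.ext (hμ m')⟩
  haveI : Module.Finite R ((P).restrictScalars R) := Module.Finite.of_basis d
  have hμinj : Function.Injective μ :=
    OrzechProperty.injective_of_surjective_of_injective
      ((d.equivFun.symm.toLinearMap) ∘ₗ (c.equivFun.toLinearMap)) μ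
      (d.equivFun.symm.injective.comp c.equivFun.injective) hμsurj
  -- lifts
  choose m hm using fun i => (P).mkQ_surjective (c i)
  have hli : LinearIndependent R[ε] m := by
    rw [Fintype.linearIndependent_iff]
    intro g hg
    have h1 : ∑ i, (g i).fst • c i = 0 := by
      have := congrArg (P).mkQ hg
      rw [map_sum, map_zero] at this
      simpa only [mkQ_smul, hm] using this
    have h1' := Fintype.linearIndependent_iff.mp c.linearIndependent _ h1
    have h2 : ∑ i, (g i).snd • c i = 0 := by
      apply hμinj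
      rw [map_zero]
      apply Subtype.ext
      rw [map_sum]
      simp only [map_smul]
      rw [Submodule.coe_sum]
      simp only [Submodule.coe_smul, ← hm, hμ, Submodule.coe_zero]
      rw [← hg]
      refine Finset.sum_congr rfl fun i _ => ?_
      rw [dual_smul (g i) (m i), h1' i, zero_smul, zero_add]
    have h2' := Fintype.linearIndependent_iff.mp c.linearIndependent _ h2
    intro i
    exact TrivSqZeroExt.ext (h1' i) (h2' i)
  have hrepr : ∀ x : M, ∃ a : Fin r → R, x - ∑ i, a i • m i ∈ P := by
    intro x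
    refine ⟨fun i => c.repr ((P).mkQ x) i, ?_⟩
    rw [← Submodule.Quotient.mk_eq_zero, Submodule.Quotient.mk_sub, sub_eq_zero]
    change (P).mkQ x = (P).mkQ _
    rw [map_sum]
    conv_lhs => rw [← c.sum_repr ((P).mkQ x)]
    refine Finset.sum_congr rfl fun i _ => ?_
    rw [← hm i]
    exact (LinearMap.map_smul_of_tower (P).mkQ _ _).symm
  have hsp : ⊤ ≤ Submodule.span R[ε] (Set.range m) := by
    intro x _
    have hmem : ∀ (a : R) i, a • m i ∈ Submodule.span R[ε] (Set.range m) := by
      intro a i
      rw [← algebraMap_smul R[ε] a (m i)]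
      exact Submodule.smul_mem _ _ (Submodule.subset_span ⟨i, rfl⟩)
    obtain ⟨a, ha⟩ := hrepr x
    obtain ⟨x', hx'⟩ := (mem_eps_smul_top _).mp ha
    obtain ⟨b, hb⟩ := hrepr x'
    obtain ⟨x'', hx''⟩ := (mem_eps_smul_top _).mp hb
    have e1 : (ε : R[ε]) • x' = ∑ i, (ε : R[ε]) • (b i • m i) := by
      have : x' = ∑ i, b i • m i + (ε : R[ε]) • x'' := by rw [← hx'']; abel
      rw [this, smul_add, eps_smul_eps_smul, add_zero, Finset.smul_sum]
    have e2 : x = ∑ i, a i • m i + ∑ i, (ε : R[ε]) • (b i • m i) := by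
      rw [← e1, ← hx']; abel
    rw [e2]
    refine add_mem (sum_mem fun i _ => hmem _ _) (sum_mem fun i _ => ?_)
    exact Submodule.smul_mem _ _ (hmem _ _)
  exact ⟨Module.Basis.mk hli hsp⟩

theorem exists_bases_of_basis {r : ℕ} (b : Module.Basis (Fin r) R[ε] M) :
    Nonempty (Module.Basis (Fin r) R (M ⧸ P)) ∧
      Nonempty (Module.Basis (Fin r) R ↥((P).restrictScalars R)) := by
  constructor
  · have hli : LinearIndependent R (fun i => (P).mkQ (b i)) := by
      rw [Fintype.linearIndependent_iff]
      intro a ha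
      have h1 : (P).mkQ (∑ i, a i • b i) = 0 := by
        rw [map_sum, ← ha]
        refine Finset.sum_congr rfl fun i _ => ?_
        exact LinearMap.map_smul_of_tower _ _ _
      rw [Submodule.mkQ_apply, Submodule.Quotient.mk_eq_zero, mem_eps_smul_top] at h1
      obtain ⟨m', hm'⟩ := h1
      have h2 : ∑ i, (algebraMap R R[ε] (a i) - ε * b.repr m' i) • b i = 0 := by
        simp only [sub_smul, Finset.sum_sub_distrib, algebraMap_smul, mul_smul, ← Finset.smul_sum,
          b.sum_repr]
        rw [hm', sub_self]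
      have h3 := Fintype.linearIndependent_iff.mp b.linearIndependent _ h2
      intro i
      have := congrArg TrivSqZeroExt.fst (h3 i)
      simpa [TrivSqZeroExt.algebraMap_eq_inl] using this
    have hsp : ⊤ ≤ Submodule.span R (Set.range fun i => (P).mkQ (b i)) := by
      intro y _
      obtain ⟨x, rfl⟩ := (P).mkQ_surjective y
      rw [← b.sum_repr x, map_sum]
      refine sum_mem fun i _ => ?_
      rw [mkQ_smul]
      exact Submodule.smul_mem _ _ (Submodule.subset_span ⟨i, rfl⟩)
    exact ⟨Module.Basis.mk hli hsp⟩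
  · let v : Fin r → ↥((P).restrictScalars R) := fun i =>
      ⟨(ε : R[ε]) • b i, (mem_eps_smul_top _).mpr ⟨b i, rfl⟩⟩
    have hli : LinearIndependent R v := by
      rw [Fintype.linearIndependent_iff]
      intro a ha
      have h1 : ∑ i, (a i • (ε : R[ε])) • b i = 0 := by
        have := congrArg Subtype.val ha
        simpa [v, Submodule.coe_sum, smul_assoc] using this
      have h3 := Fintype.linearIndependent_iff.mp b.linearIndependent _ h1
      intro i
      have := congrArg TrivSqZeroExt.snd (h3 i)
      simpa using this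
    have hsp : ⊤ ≤ Submodule.span R (Set.range v) := by
      rintro ⟨y, hy⟩ _
      obtain ⟨x, rfl⟩ := (mem_eps_smul_top y).mp hy
      have : (⟨(ε : R[ε]) • x, hy⟩ : ↥((P).restrictScalars R)) =
          ∑ i, (b.repr x i).fst • v i := by
        apply Subtype.ext
        rw [Submodule.coe_sum]
        simp only [Submodule.coe_smul, v]
        conv_lhs => rw [← b.sum_repr x, Finset.smul_sum]
        refine Finset.sum_congr rfl fun i _ => ?_
        rw [smul_comm, dual_smul (b.repr x i), eps_smul_eps_smul, smul_zero, add_zero]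
      rw [this]
      exact sum_mem fun i _ => Submodule.smul_mem _ _ (Submodule.subset_span ⟨i, rfl⟩)
    exact ⟨Module.Basis.mk hli hsp⟩

end helpers

open DualNumber Pointwise in
/-- Let R be a commutative ring, R[ε] its ring of dual numbers (ε² = 0), M an R[ε]-module and r a
natural number. Then M is free of rank r over R[ε] (admits a basis of r elements) if and only if the
R-modules M/εM and εM are both free of rank r. (The published statement concerns a coherent sheaf on
the product of a scheme S with Spec ℤ[ε] and local freeness of rank r; that assertion is local, and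
this row is its form over one ring, with no finiteness assumption on M and no hypothesis on R.) -/
theorem result (R : Type u) [CommRing R] (M : Type v)
    [AddCommGroup M] [Module R[ε] M] [Module R M] [IsScalarTower R R[ε] M] (r : ℕ) :
    Nonempty (Module.Basis (Fin r) R[ε] M) ↔
      (Nonempty (Module.Basis (Fin r) R (M ⧸ ((ε : R[ε]) • (⊤ : Submodule R[ε] M)))) ∧
        Nonempty (Module.Basis (Fin r) R (((ε : R[ε]) • (⊤ : Submodule R[ε] M)).restrictScalars R))) := by
  constructor
  · rintro ⟨b⟩
    exact exists_bases_of_basis b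
  · rintro ⟨⟨c⟩, ⟨d⟩⟩
    exact exists_basis_of_bases c d

end Groth.Agent.S14033
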