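import Groth.Statements.S14035
import Mathlib

set_option autoImplicit false
universe u v
open W4c1frobunstiva

namespace Groth.Agent.S14035

open TensorProduct in
/-- If `1 ⊗ x = 0` in the fibre `κ(p) ⊗ B`, some `s ∉ p` has `s • x ∈ pB`. -/
theorem exists_smul_mem_map_of_one_tmul_eq_zero {A : Type u} {B : Type v} [CommRing A] [CommRing B]
    [Algebra A B] (p : Ideal A) [p.IsPrime] (x : B)
    (hx : (1 : p.ResidueField) ⊗ₜ[A] x = 0) :
    ∃ s ∉ p, s • x ∈ p.map (algebraMap A B) := by
  let _ : Algebra B (p.Fiber B) := Algebra.TensorProduct.rightAlgebra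
  let Sp := Localization (Algebra.algebraMapSubmonoid B p.primeCompl)
  let e := Ideal.Fiber.algEquivAux₁ (S := B) p
  have h1 : e (algebraMap B (p.Fiber B) x) = 0 := by
    have : algebraMap B (p.Fiber B) x = (1 : p.ResidueField) ⊗ₜ[A] x := rfl
    rw [this, hx, map_zero]
  rw [AlgEquiv.commutes] at h1
  have h2 : algebraMap B Sp x ∈ (p.map (algebraMap A B)).map (algebraMap B Sp) := by
    rw [IsScalarTower.algebraMap_apply B Sp (Sp ⧸ _), Ideal.Quotient.algebraMap_eq,
      Ideal.Quotient.eq_zero_iff_mem] at h1
    exact h1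
  rw [IsLocalization.mem_map_algebraMap_iff (Algebra.algebraMapSubmonoid B p.primeCompl)] at h2
  obtain ⟨⟨c, t⟩, hct⟩ := h2
  rw [← map_mul, IsLocalization.eq_iff_exists (Algebra.algebraMapSubmonoid B p.primeCompl)] at hct
  obtain ⟨u, hu⟩ := hct
  obtain ⟨s₁, hs₁, hs₁'⟩ := t.2
  obtain ⟨s₂, hs₂, hs₂'⟩ := u.2
  refine ⟨s₂ * s₁, p.primeCompl.mul_mem hs₂ hs₁, ?_⟩
  have : (s₂ * s₁) • x = (u : B) * (c : B) := by
    rw [← hu, Algebra.smul_def, map_mul, hs₁', hs₂']
    ring
  rw [this]
  exact Ideal.mul_mem_left _ _ c.2

open TensorProduct in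
/-- Let A → B be a ring homomorphism with B Noetherian. If B modulo its nilradical is flat over A and
every fibre ring κ(p) ⊗_A B, p a prime of A, is reduced, then B is reduced. (This is the affine form
of the statement for a morphism of schemes X → Y all of whose fibres are reduced and whose
restriction to the reduced closed subscheme X_red is flat. The published statement does not say X is
locally Noetherian, but its proof applies Nakayama's lemma to the nilradical as a finitely generated
ideal; without it the square-zero extension of a discrete valuation ring A by Frac(A)/A is a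
counterexample.) -/
theorem result (A : Type u) (B : Type v)
    [CommRing A] [CommRing B] [Algebra A B] [IsNoetherianRing B]
    [Module.Flat A (B ⧸ nilradical B)]
    (hfib : ∀ p : PrimeSpectrum A, IsReduced (p.asIdeal.ResidueField ⊗[A] B)) :
    IsReduced B := by
  set N := nilradical B with hN
  have hNfg : N.FG := IsNoetherian.noetherian N
  -- flatness consequence
  have hflat : ∀ p : Ideal A, N.restrictScalars A ⊓ p • (⊤ : Submodule A B) =
      p • N.restrictScalars A := by
    intro p
    have := LinearMap.ker_inf_smul_top_eq_smul_of_flat p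
      (Ideal.Quotient.mkₐ A N).toLinearMap (Ideal.Quotient.mkₐ_surjective A N)
    convert this using 2
    all_goals
      ext y
      simp [Ideal.Quotient.eq_zero_iff_mem]
  -- key claim
  have key : ∀ m : Ideal B, m.IsMaximal → N ≤ m • N := by
    intro m hm x hx
    let p : Ideal A := m.comap (algebraMap A B)
    have hp : p.IsPrime := Ideal.comap_isPrime _ _
    have hred := hfib ⟨p, hp⟩
    have hnil : IsNilpotent ((1 : p.ResidueField) ⊗ₜ[A] x) := by
      have hx' : IsNilpotent x := hx
      exact hx'.map (Algebra.TensorProduct.includeRight : B →ₐ[A] p.ResidueField ⊗[A] B)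
    have hzero : (1 : p.ResidueField) ⊗ₜ[A] x = 0 := hnil.eq_zero
    obtain ⟨s, hs, hsx⟩ := exists_smul_mem_map_of_one_tmul_eq_zero p x hzero
    have h1 : s • x ∈ N.restrictScalars A ⊓ p • (⊤ : Submodule A B) := by
      refine ⟨?_, ?_⟩
      · rw [Algebra.smul_def]
        exact Ideal.mul_mem_left _ _ hx
      · rw [Ideal.smul_top_eq_map]
        exact hsx
    rw [hflat p] at h1
    have h2 : p • N.restrictScalars A ≤ (m • N).restrictScalars A := by
      rw [Submodule.smul_le]
      intro a ha n hn
      change a • n ∈ m • N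
      have e : a • n = algebraMap A B a • n := by rw [Algebra.smul_def, smul_eq_mul]
      rw [e]
      exact Submodule.smul_mem_smul (show algebraMap A B a ∈ m from ha) hn
    have h3 : s • x ∈ m • N := h2 h1
    have hs' : algebraMap A B s ∉ m := hs
    obtain ⟨y, i, hi, hyi⟩ := hm.exists_inv hs'
    have : x = y * (s • x) + i * x := by
      rw [Algebra.smul_def, ← mul_assoc, ← add_mul, hyi, one_mul]
    rw [this]
    exact add_mem (Ideal.mul_mem_left _ _ h3) (Submodule.smul_mem_smul hi hx)
  -- conclude
  rw [← nilradical_eq_bot_iff, ← hN, ← Submodule.annihilator_eq_top_iff]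
  by_contra hne
  obtain ⟨m, hm, hle⟩ := Ideal.exists_le_maximal _ hne
  obtain ⟨r, hr1, hr2⟩ := Submodule.exists_sub_one_mem_and_smul_eq_zero_of_fg_of_le_smul m N hNfg
    (key m hm)
  have hr : r ∈ m := hle (Submodule.mem_annihilator.mpr hr2)
  have : (1 : B) ∈ m := by
    have := sub_mem hr hr1
    simpa using this
  exact hm.ne_top ((Ideal.eq_top_iff_one _).mpr this)

end Groth.Agent.S14035
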