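import Groth.Statements.S14043
import Mathlib

set_option autoImplicit false
universe u v
open W4c1frobunstiva

namespace Groth.Agent.S14043


open W4c1frobunstiva Matrix

variable {R : Type u} [CommRing R] {M : Type v} [AddCommGroup M] [Module R M] {r : ℕ}

/-- a square matrix congruent to `1` modulo nilpotents has unit determinant -/
theorem isUnit_det_of_sub_one_nilpotent (C : Matrix (Fin r) (Fin r) R)
    (h : ∀ i k, IsNilpotent (C i k - (1 : Matrix (Fin r) (Fin r) R) i k)) : IsUnit C.det := by
  have h1 : (Ideal.Quotient.mk (nilradical R)).mapMatrix C = 1 := by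
    ext i k
    simp only [RingHom.mapMatrix_apply, Matrix.map_apply]
    have := h i k
    rw [← mem_nilradical, ← Ideal.Quotient.eq] at this
    rw [this]
    by_cases hik : i = k
    · subst hik; simp
    · simp [Matrix.one_apply_ne hik]
  have h2 : Ideal.Quotient.mk (nilradical R) C.det = 1 := by
    rw [RingHom.map_det, h1, Matrix.det_one]
  have h3 : IsNilpotent (C.det - 1) := by
    rw [← mem_nilradical, ← Ideal.Quotient.eq, h2, map_one]
  have : C.det = (C.det - 1) + 1 := by ring
  rw [this]
  exact h3.isUnit_add_one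

/-- if `m` is an NR-basis and `m = C m` then `C ≡ 1` modulo nilpotents -/
theorem sub_one_nilpotent_of_eq (m : Fin r → M) (hm : IsNRBasis R M m)
    (C : Matrix (Fin r) (Fin r) R) (hC : ∀ i, m i = ∑ k, C i k • m k) (i k : Fin r) :
    IsNilpotent (C i k - (1 : Matrix (Fin r) (Fin r) R) i k) := by
  refine hm.2 (fun k => C i k - (1 : Matrix (Fin r) (Fin r) R) i k) ?_ k
  simp only [sub_smul, Finset.sum_sub_distrib]
  rw [← hC i]
  simp [Matrix.one_apply]

theorem exists_matrix (m m' : Fin r → M) (hm : Submodule.span R (Set.range m) = ⊤) :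
    ∃ T : Matrix (Fin r) (Fin r) R, ∀ j, m' j = ∑ i, T j i • m i := by
  have : ∀ j, ∃ c : Fin r → R, ∑ i, c i • m i = m' j := by
    intro j
    have hj : m' j ∈ Submodule.span R (Set.range m) := by rw [hm]; trivial
    exact (Submodule.mem_span_range_iff_exists_fun R).1 hj
  choose c hc using this
  exact ⟨Matrix.of c, fun j => (hc j).symm⟩

theorem comp_matrix (m m' m'' : Fin r → M) (S T : Matrix (Fin r) (Fin r) R)
    (hT : ∀ j, m' j = ∑ i, T j i • m i) (hS : ∀ j, m'' j = ∑ i, S j i • m' i) :
    ∀ j, m'' j = ∑ i, (S * T) j i • m i := by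
  intro j
  rw [hS j]
  simp only [Matrix.mul_apply, Finset.sum_smul]
  rw [Finset.sum_comm]
  refine Finset.sum_congr rfl (fun i _ => ?_)
  rw [hT i, Finset.smul_sum]
  refine Finset.sum_congr rfl (fun k _ => ?_)
  rw [mul_smul]

/-- any spanning family of size `r` in a module with an NR-basis of size `r` is an NR-basis -/
theorem isNRBasis_of_span (m₀ m : Fin r → M) (h₀ : IsNRBasis R M m₀)
    (hm : Submodule.span R (Set.range m) = ⊤) : IsNRBasis R M m := by
  refine ⟨hm, ?_⟩
  obtain ⟨A, hA⟩ := exists_matrix m m₀ hm      -- m₀ = A m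
  obtain ⟨B, hB⟩ := exists_matrix m₀ m h₀.1    -- m = B m₀
  have hAB := comp_matrix m₀ m m₀ A B hB hA    -- m₀ = (A*B) m₀
  have hdet : IsUnit (A * B).det :=
    isUnit_det_of_sub_one_nilpotent _ (sub_one_nilpotent_of_eq m₀ h₀ _ hAB)
  rw [Matrix.det_mul] at hdet
  have hBdet : IsUnit B.det := isUnit_of_mul_isUnit_right hdet
  intro a ha
  -- `a B` has nilpotent entries
  have h1 : ∀ k, IsNilpotent (∑ i, a i * B i k) := by
    refine h₀.2 (fun k => ∑ i, a i * B i k) ?_
    rw [← ha]
    simp only [Finset.sum_smul]
    rw [Finset.sum_comm]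
    refine Finset.sum_congr rfl (fun i _ => ?_)
    rw [hB i, Finset.smul_sum]
    refine Finset.sum_congr rfl (fun k _ => ?_)
    rw [mul_smul]
  -- hence `a = (a B) B⁻¹` has entries in the nilradical
  have hBinv : B * B⁻¹ = 1 := Matrix.mul_nonsing_inv B hBdet
  intro i
  have h2 : a i = ∑ k, (∑ j, a j * B j k) * B⁻¹ k i := by
    have : (Matrix.vecMul a (B * B⁻¹)) i = a i := by rw [hBinv, Matrix.vecMul_one]
    rw [← this, ← Matrix.vecMul_vecMul]
    simp [Matrix.vecMul, dotProduct]
  rw [h2, ← mem_nilradical]
  refine Ideal.sum_mem _ (fun k _ => ?_)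
  exact Ideal.mul_mem_right _ _ (mem_nilradical.2 (h1 k))

/-- Let R be a commutative Noetherian ring, M an R-module that is NR-free of rank r — generated by some
r elements all of whose linear relations have nilpotent coefficients — and m, m' two generating
families of M, each indexed by the same finite set of size r. Then some invertible r × r matrix T
over R expresses m' in terms of m, m'_j = Σ_i T_{ji} m_i; reducing modulo the nilradical n, such a T
induces the change-of-basis matrix between the bases of M/nM given by the images of m and m' (an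
r-element generating family of M is itself an NR-basis), so only the existence of an invertible T is
asserted here. (T is not unique.) -/
theorem result (R : Type u) [CommRing R]
    [IsNoetherianRing R] (M : Type v) [AddCommGroup M] [Module R M] (r : ℕ)
    (hM : W4c1frobunstiva.IsNRFree R M r) (m m' : Fin r → M)
    (hm : Submodule.span R (Set.range m) = ⊤) (hm' : Submodule.span R (Set.range m') = ⊤) :
    ∃ T : Matrix (Fin r) (Fin r) R, IsUnit T ∧ ∀ j, m' j = ∑ i, T j i • m i := by
  obtain ⟨m₀, h₀⟩ := hM
  have hmb := isNRBasis_of_span m₀ m h₀ hm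
  obtain ⟨T, hT⟩ := exists_matrix m m' hm
  obtain ⟨S, hS⟩ := exists_matrix m' m hm'
  have hST := comp_matrix m m' m S T hT hS
  have hdet : IsUnit (S * T).det :=
    isUnit_det_of_sub_one_nilpotent _ (sub_one_nilpotent_of_eq m hmb _ hST)
  rw [Matrix.det_mul] at hdet
  have hTdet : IsUnit T.det := isUnit_of_mul_isUnit_right hdet
  exact ⟨T, (Matrix.isUnit_iff_isUnit_det T).2 hTdet, hT⟩

end Groth.Agent.S14043
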