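import Groth.Statements.S14046
import Mathlib.RingTheory.Flat.Equalizer
import Mathlib.LinearAlgebra.TensorProduct.RightExactness

set_option autoImplicit false
universe u v w
open W4c1frobunstiva

namespace Groth.Agent.S14046

open TensorProduct in
/-- Let R → A be a homomorphism of commutative rings and I, J ideals of A with I ∩ J = 0 — so that A is
the fibre product of A/I and A/J over A/(I + J), i.e. Spec A is the union of the two closed
subschemes in the strong sense — and suppose A/(I + J) is flat over R. Then this persists under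
every base change: for every commutative R-algebra R', the ideals generated by I and J in R' ⊗_R A
again meet in 0. (This is the ideal-theoretic, affine form of the base-change step; the exact
sequence of unit sheaves deduced from it in the published statement — restriction of units to a
closed subscheme being surjective locally — is not restated. Without flatness of A/(I + J) the
conclusion fails: for A = k[x, y]/(xy) over R = k[u] with u ↦ x + y, I = (x) and J = (y), the base
change to R/(u) gives k[x]/(x²), in which both ideals become (x).) -/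
theorem result (R : Type u) (A : Type v)
    [CommRing R] [CommRing A] [Algebra R A] (I J : Ideal A) (hIJ : I ⊓ J = ⊥)
    [Module.Flat R (A ⧸ (I ⊔ J))] (R' : Type w) [CommRing R'] [Algebra R R'] :
    I.map (Algebra.TensorProduct.includeRight : A →ₐ[R] R' ⊗[R] A) ⊓
      J.map (Algebra.TensorProduct.includeRight : A →ₐ[R] R' ⊗[R] A) = ⊥ := by
  classical
  let g : ↥(I.restrictScalars R) →ₗ[R] (A ⧸ J) :=
    (Ideal.Quotient.mkₐ R J).toLinearMap ∘ₗ (I.restrictScalars R).subtype
  let f : (A ⧸ J) →ₗ[R] (A ⧸ (I ⊔ J)) :=
    (Ideal.Quotient.factorₐ R (le_sup_right : J ≤ I ⊔ J)).toLinearMap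
  have hf : Function.Surjective f := Ideal.Quotient.factor_surjective le_sup_right
  have hg : Function.Injective g := by
    rw [injective_iff_map_eq_zero]
    rintro ⟨i, hi⟩ h0
    have hiJ : i ∈ J := Ideal.Quotient.eq_zero_iff_mem.mp h0
    have : i ∈ I ⊓ J := ⟨hi, hiJ⟩
    rw [hIJ] at this
    exact Subtype.ext this
  have H : Function.Exact g f := by
    intro y
    constructor
    · intro hy
      obtain ⟨a, rfl⟩ := Ideal.Quotient.mk_surjective y
      have ha : a ∈ I ⊔ J := Ideal.Quotient.eq_zero_iff_mem.mp hy
      obtain ⟨i, hi, j, hj, rfl⟩ := Submodule.mem_sup.mp ha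
      refine ⟨⟨i, hi⟩, ?_⟩
      change Ideal.Quotient.mk J i = Ideal.Quotient.mk J (i + j)
      rw [map_add, Ideal.Quotient.eq_zero_iff_mem.mpr hj, add_zero]
    · rintro ⟨⟨i, hi⟩, rfl⟩
      change Ideal.Quotient.mk (I ⊔ J) i = 0
      exact Ideal.Quotient.eq_zero_iff_mem.mpr (Ideal.mem_sup_left hi)
  have hinj := LinearMap.lTensor_injective_of_exact_of_flat f hf g hg H R'
  rw [eq_bot_iff]
  rintro z ⟨hzI, hzJ⟩
  have hzI' : z ∈ (I.map (Algebra.TensorProduct.includeRight : A →ₐ[R] R' ⊗[R] A)).restrictScalars R :=
    hzI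
  have hzJ' : z ∈ (J.map (Algebra.TensorProduct.includeRight : A →ₐ[R] R' ⊗[R] A)).restrictScalars R :=
    hzJ
  rw [Ideal.map_includeRight_eq] at hzI' hzJ'
  obtain ⟨w, rfl⟩ := hzI'
  obtain ⟨w', hw'⟩ := hzJ'
  have h1 : (g.lTensor R') w = 0 := by
    have : (g.lTensor R') w = ((Ideal.Quotient.mkₐ R J).toLinearMap.lTensor R')
        (((I.restrictScalars R).subtype.lTensor R') w) := by
      rw [← LinearMap.comp_apply, ← LinearMap.lTensor_comp]
    rw [this, ← hw', ← LinearMap.comp_apply, ← LinearMap.lTensor_comp]
    have hz : (Ideal.Quotient.mkₐ R J).toLinearMap ∘ₗ (J.restrictScalars R).subtype = 0 := by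
      ext ⟨j, hj⟩
      exact Ideal.Quotient.eq_zero_iff_mem.mpr hj
    rw [hz, LinearMap.lTensor_zero, LinearMap.zero_apply]
  have hw0 : w = 0 := hinj (h1.trans (map_zero _).symm)
  rw [hw0, map_zero]
  exact Submodule.zero_mem _

end Groth.Agent.S14046
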