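import Groth.Statements.S14048
import Mathlib.RingTheory.Flat.TorsionFree
import Mathlib.RingTheory.Localization.Integral
import Mathlib.RingTheory.Localization.Away.Basic
import Mathlib.RingTheory.DedekindDomain.PID
import Mathlib.Data.Nat.Prime.Infinite
import Mathlib.Data.Nat.Prime.Int
import Mathlib.Algebra.CharP.Algebra

set_option autoImplicit false
universe u
open TensorProduct
open CAlg

namespace Groth.Agent.S14048

/-- Let A be an integral domain in which 2 is invertible and let t be an element of A, so that Spec A is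
a scheme over the affine line Spec ℤ[1/2][t]. Assume that (1) the ℚ-algebra map ℚ[X] → ℚ ⊗_ℤ A
sending X to 1 ⊗ t is bijective (the map Spec A → Spec ℤ[1/2][t] becomes an isomorphism after base
change to ℚ); (2) every prime number is invertible in A/(t) (the fibre over t = 0 is of pure
characteristic zero); and (3) there is a ring homomorphism s : A → ℤ[1/2] with s(t) = 1 (the fibre
over t = 1 admits a section). Then A is not Noetherian. -/
theorem result (A : Type u) [CommRing A]
    [IsDomain A] (h2 : IsUnit (2 : A)) (t : A)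
    (h1 : Function.Bijective (Polynomial.aeval (R := ℚ) ((1 : ℚ) ⊗ₜ[ℤ] t : ℚ ⊗[ℤ] A)))
    (h0 : ∀ p : ℕ, p.Prime → IsUnit ((p : ℕ) : A ⧸ Ideal.span ({t} : Set A)))
    (s : A →+* Localization.Away (2 : ℤ)) (hs : s t = 1) :
    ¬ IsNoetherianRing A := by
  classical
  intro hNoeth
  -- characteristic zero
  have hinjL : Function.Injective (algebraMap ℤ (Localization.Away (2 : ℤ))) :=
    IsLocalization.injective _ (M := Submonoid.powers (2 : ℤ))
      (powers_le_nonZeroDivisors_of_noZeroDivisors (by norm_num))
  have : CharZero (Localization.Away (2 : ℤ)) := charZero_of_injective_algebraMap hinjL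
  have : CharZero A := RingHom.charZero s
  have : Module.Flat ℤ A := inferInstance
  -- the embedding into `ℚ[X]`
  let E : Polynomial ℚ ≃ₐ[ℚ] ℚ ⊗[ℤ] A := AlgEquiv.ofBijective _ h1
  let inc : A →+* ℚ ⊗[ℤ] A := (Algebra.TensorProduct.includeRight : A →ₐ[ℤ] ℚ ⊗[ℤ] A).toRingHom
  have hinc : Function.Injective inc :=
    Algebra.TensorProduct.includeRight_injective (R := ℤ) (A := ℚ) (B := A)
      (by intro a b hab; exact Int.cast_injective hab)
  let φ : A →+* Polynomial ℚ := (E.symm : (ℚ ⊗[ℤ] A) →+* Polynomial ℚ).comp inc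
  have hφinj : Function.Injective φ := E.symm.injective.comp hinc
  have hφt : φ t = Polynomial.X := by
    change E.symm ((1 : ℚ) ⊗ₜ[ℤ] t) = Polynomial.X
    rw [AlgEquiv.symm_apply_eq]
    change _ = Polynomial.aeval _ Polynomial.X
    rw [Polynomial.aeval_X]
  have hφae : ∀ q : Polynomial ℤ, φ (Polynomial.aeval t q) = q.map (Int.castRingHom ℚ) := by
    intro q
    have : (φ.comp (Polynomial.aeval t : Polynomial ℤ →ₐ[ℤ] A).toRingHom) =
        Polynomial.mapRingHom (Int.castRingHom ℚ) := by
      apply Polynomial.ringHom_ext'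
      · exact Subsingleton.elim _ _
      · simp [hφt]
    exact RingHom.congr_fun this q
  have haeinj : Function.Injective (Polynomial.aeval t : Polynomial ℤ → A) := by
    intro q1 q2 h
    have := congrArg φ h
    rw [hφae, hφae] at this
    exact Polynomial.map_injective _ Int.cast_injective this
  have hsae : ∀ q : Polynomial ℤ, s (Polynomial.aeval t q) =
      algebraMap ℤ (Localization.Away (2 : ℤ)) (q.eval 1) := by
    intro q
    have : (s.comp (Polynomial.aeval t : Polynomial ℤ →ₐ[ℤ] A).toRingHom) =
        (algebraMap ℤ (Localization.Away (2 : ℤ))).comp (Polynomial.evalRingHom 1) := by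
      apply Polynomial.ringHom_ext'
      · exact Subsingleton.elim _ _
      · simp [hs]
    exact RingHom.congr_fun this q
  -- elements of the kernel of `s` are divisible by `t - 1` up to an integer
  have hker : ∀ x : A, s x = 0 → ∃ n : ℤ, n ≠ 0 ∧ ∃ y : A, (n : A) * x = (t - 1) * y := by
    intro x hx
    obtain ⟨b, hb⟩ := IsLocalization.integerNormalization_map_to_map (nonZeroDivisors ℤ) (φ x)
    set q := IsLocalization.integerNormalization (nonZeroDivisors ℤ) (φ x) with hq
    have hbne : (b : ℤ) ≠ 0 := nonZeroDivisors.coe_ne_zero b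
    have h1' : ((b : ℤ) : A) * x = Polynomial.aeval t q := by
      apply hφinj
      rw [hφae, map_mul, map_intCast]
      have : (algebraMap ℤ ℚ) = Int.castRingHom ℚ := Subsingleton.elim _ _
      rw [this] at hb
      rw [hb, zsmul_eq_mul]
    have h2' : q.eval 1 = 0 := by
      have := hsae q
      rw [← h1', map_mul, hx, mul_zero] at this
      exact hinjL (by rw [← this, map_zero])
    have h3' : (Polynomial.X - Polynomial.C (1 : ℤ)) ∣ q := Polynomial.dvd_iff_isRoot.mpr h2'
    obtain ⟨v, hv⟩ := h3'
    refine ⟨b, hbne, Polynomial.aeval t v, ?_⟩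
    rw [h1', hv, map_mul, map_sub, Polynomial.aeval_X, Polynomial.aeval_C, map_one]
  -- uniform denominator, from finite generation of the kernel
  have hfg : (RingHom.ker s).FG := (isNoetherianRing_iff_ideal_fg A).mp hNoeth _
  obtain ⟨W, hW⟩ := hfg
  have hunif : ∃ N : ℤ, N ≠ 0 ∧ ∀ x : A, s x = 0 → ∃ y : A, (N : A) * x = (t - 1) * y := by
    have hfin : ∀ W' : Finset A, (∀ w ∈ W', s w = 0) →
        ∃ N : ℤ, N ≠ 0 ∧ ∀ w ∈ W', ∃ y : A, (N : A) * w = (t - 1) * y := by
      intro W'
      induction W' using Finset.induction_on with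
      | empty => intro _; exact ⟨1, one_ne_zero, by simp⟩
      | insert w W' _ ih =>
        intro hw
        obtain ⟨N, hN0, hN⟩ := ih (fun w' hw' => hw w' (Finset.mem_insert_of_mem hw'))
        obtain ⟨n, hn0, y, hy⟩ := hker w (hw w (Finset.mem_insert_self _ _))
        refine ⟨n * N, mul_ne_zero hn0 hN0, ?_⟩
        intro w' hw'
        rcases Finset.mem_insert.mp hw' with rfl | hw'
        · refine ⟨(N : A) * y, ?_⟩
          push_cast
          calc (n : A) * N * w' = N * ((n : A) * w') := by ring
            _ = (t - 1) * ((N : A) * y) := by rw [hy]; ring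
        · obtain ⟨y', hy'⟩ := hN w' hw'
          refine ⟨(n : A) * y', ?_⟩
          push_cast
          calc (n : A) * N * w' = n * ((N : A) * w') := by ring
            _ = (t - 1) * ((n : A) * y') := by rw [hy']; ring
    obtain ⟨N, hN0, hN⟩ := hfin W (by
      intro w hw
      have : w ∈ RingHom.ker s := by rw [← hW]; exact Ideal.subset_span hw
      exact this)
    refine ⟨N, hN0, ?_⟩
    have hspan : ∀ x : A, x ∈ Ideal.span (W : Set A) → ∃ y : A, (N : A) * x = (t - 1) * y := by
      intro x hxW
      induction hxW using Submodule.span_induction with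
      | mem w hw => exact hN w hw
      | zero => exact ⟨0, by simp⟩
      | add x1 x2 _ _ h1' h2' =>
        obtain ⟨y1, hy1⟩ := h1'
        obtain ⟨y2, hy2⟩ := h2'
        exact ⟨y1 + y2, by rw [mul_add, hy1, hy2, mul_add]⟩
      | smul c x1 _ h1' =>
        obtain ⟨y1, hy1⟩ := h1'
        refine ⟨c * y1, ?_⟩
        rw [smul_eq_mul]
        calc (N : A) * (c * x1) = c * ((N : A) * x1) := by ring
          _ = (t - 1) * (c * y1) := by rw [hy1]; ring
    intro x hx
    exact hspan x (by rw [hW]; exact hx)
  obtain ⟨N, hN0, hN⟩ := hunif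
  -- a large prime
  obtain ⟨p, hpge, hp⟩ := Nat.exists_infinite_primes (max N.natAbs 2 + 1)
  have hpZ : Prime (p : ℤ) := Nat.prime_iff_prime_int.mp hp
  have hpN : ¬ (p : ℤ) ∣ N := by
    intro hdvd
    have h1' : p ∣ N.natAbs := Int.natCast_dvd.mp hdvd
    have h2' : p ≤ N.natAbs := Nat.le_of_dvd (Int.natAbs_pos.mpr hN0) h1'
    have : N.natAbs ≤ max N.natAbs 2 := le_max_left _ _
    omega
  have hp2 : ∀ k : ℕ, ¬ (p : ℤ) ∣ 2 ^ k := by
    intro k hdvd
    have h1' : (p : ℤ) ∣ 2 := hpZ.dvd_of_dvd_pow hdvd
    have h2' : p ∣ 2 := by exact_mod_cast h1'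
    have h3' : p ≤ 2 := Nat.le_of_dvd (by norm_num) h2'
    have : 2 ≤ max N.natAbs 2 := le_max_right _ _
    omega
  -- elements with `p`-integral coefficients
  let Good : A → Prop := fun a => ∃ n : ℤ, ¬ (p : ℤ) ∣ n ∧ ∃ q : Polynomial ℤ,
    (n : A) * a = Polynomial.aeval t q
  have hmain : ∀ a : A, ∃ y : A, (y = 0 ∨ (φ y).natDegree + 1 ≤ (φ a).natDegree) ∧
      (Good y → Good a) := by
    intro a
    obtain ⟨k, m, hkm⟩ := IsLocalization.Away.surj (2 : ℤ) (s a)
    have hx : s (a * 2 ^ k - (m : A)) = 0 := by
      rw [map_sub, map_mul, map_pow, map_intCast, map_ofNat]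
      have : algebraMap ℤ (Localization.Away (2 : ℤ)) 2 = 2 := by simp
      rw [this] at hkm
      rw [hkm]; simp
    obtain ⟨y, hy⟩ := hN _ hx
    refine ⟨y, ?_, ?_⟩
    · by_cases hy0 : y = 0
      · exact Or.inl hy0
      · right
        have hφy : φ y ≠ 0 := fun h => hy0 (hφinj (by rw [h, map_zero]))
        have h1' := congrArg φ hy
        rw [map_mul, map_mul, map_sub, map_sub, map_mul, map_pow, map_intCast, map_intCast,
          map_ofNat, map_one, hφt] at h1'
        have h2' : ((Polynomial.X : Polynomial ℚ) - 1) ≠ 0 := by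
          have := Polynomial.X_sub_C_ne_zero (1 : ℚ)
          rwa [Polynomial.C_1] at this
        have h3' : (((Polynomial.X : Polynomial ℚ) - 1) * φ y).natDegree = 1 + (φ y).natDegree := by
          rw [Polynomial.natDegree_mul h2' hφy]
          have : ((Polynomial.X : Polynomial ℚ) - 1).natDegree = 1 := by
            have := Polynomial.natDegree_X_sub_C (1 : ℚ)
            rwa [Polynomial.C_1] at this
          rw [this]
        have h4' : (((N : ℤ) : Polynomial ℚ) * (φ a * 2 ^ k - ((m : ℤ) : Polynomial ℚ))).natDegree ≤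
            (φ a).natDegree := by
          have e1 : ((N : ℤ) : Polynomial ℚ) = Polynomial.C (N : ℚ) := by simp
          have e2 : ((m : ℤ) : Polynomial ℚ) = Polynomial.C (m : ℚ) := by simp
          have e3 : (2 : Polynomial ℚ) ^ k = Polynomial.C ((2 : ℚ) ^ k) := by
            rw [Polynomial.C_pow]; rfl
          rw [e1, e2, e3]
          refine le_trans (Polynomial.natDegree_C_mul_le _ _) ?_
          refine le_trans (Polynomial.natDegree_sub_le _ _) ?_
          rw [Polynomial.natDegree_C, max_eq_left (Nat.zero_le _)]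
          exact Polynomial.natDegree_mul_C_le _ _
        rw [h1', h3'] at h4'
        omega
    · rintro ⟨n', hn', q', hq'⟩
      refine ⟨n' * N * 2 ^ k, ?_, (Polynomial.X - Polynomial.C 1) * q' + Polynomial.C (n' * N * m), ?_⟩
      · intro hdvd
        rcases hpZ.dvd_or_dvd hdvd with h | h
        · rcases hpZ.dvd_or_dvd h with h | h
          · exact hn' h
          · exact hpN h
        · exact hp2 k h
      · rw [map_add, map_mul, map_sub, Polynomial.aeval_X, Polynomial.aeval_C, Polynomial.aeval_C,
          ← hq', map_one]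
        push_cast
        calc (n' : A) * N * 2 ^ k * a = n' * ((N : A) * (a * 2 ^ k - m)) + n' * N * m := by ring
          _ = (t - 1) * ((n' : A) * y) + n' * N * m := by rw [hy]; ring
  have hgood0 : Good 0 := ⟨1, by
    intro h
    have := Int.isUnit_iff.mp (isUnit_of_dvd_one h)
    have hp1 := hp.one_lt
    omega, 0, by simp⟩
  have hall : ∀ d : ℕ, ∀ a : A, (φ a).natDegree ≤ d → Good a := by
    intro d
    induction d with
    | zero =>
      intro a ha
      obtain ⟨y, hy, hga⟩ := hmain a
      rcases hy with rfl | hy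
      · exact hga hgood0
      · omega
    | succ d ih =>
      intro a ha
      obtain ⟨y, hy, hga⟩ := hmain a
      rcases hy with rfl | hy
      · exact hga hgood0
      · exact hga (ih y (by omega))
  -- contradiction from invertibility of `p` modulo `t`
  obtain ⟨c, hc⟩ := (h0 p hp).exists_right_inv
  obtain ⟨g, rfl⟩ := Ideal.Quotient.mk_surjective c
  have h5 : (p : A) * g - 1 ∈ Ideal.span ({t} : Set A) := by
    rw [← Ideal.Quotient.eq_zero_iff_mem, map_sub, map_mul, map_natCast, map_one, hc, sub_self]
  obtain ⟨h, hh⟩ := Ideal.mem_span_singleton.mp h5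
  obtain ⟨n, hn, G, hG⟩ := hall _ g le_rfl
  obtain ⟨n', hn', H, hH⟩ := hall _ h le_rfl
  have h6 : Polynomial.aeval t (Polynomial.C ((p : ℤ) * n') * G) =
      Polynomial.aeval t (Polynomial.C (n * n') + Polynomial.X * Polynomial.C n * H) := by
    simp only [map_mul, map_add, Polynomial.aeval_X, Polynomial.aeval_C, eq_intCast,
      Int.cast_natCast, map_intCast, map_natCast]
    rw [← hG, ← hH]
    have hh' : (p : A) * g = 1 + t * h := by rw [← hh]; ring
    calc (p : A) * n' * ((n : A) * g) = n * n' * ((p : A) * g) := by ring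
      _ = n * n' + t * n * ((n' : A) * h) := by rw [hh']; ring
  have h7 := haeinj h6
  have h8 := congrArg (fun q => Polynomial.coeff q 0) h7
  simp only [Polynomial.coeff_C_mul, Polynomial.coeff_add, Polynomial.coeff_C_zero,
    mul_assoc, Polynomial.coeff_X_mul_zero, add_zero] at h8
  have h9 : (p : ℤ) ∣ n * n' := ⟨n' * G.coeff 0, by linarith [h8]⟩
  rcases hpZ.dvd_or_dvd h9 with h | h
  · exact hn h
  · exact hn' h

end Groth.Agent.S14048
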