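import Groth.Statements.S14049
import Mathlib
import Groth.Agent.S1302

set_option autoImplicit false
universe u
open CategoryTheory AlgebraicGeometry
open LocStr

namespace Groth.Agent.S14049

namespace Groth.Agent.S14049.Aux

/-- If `A → B → B / J²` is surjective and `J` is nilpotent, then `A → B` is surjective. -/
theorem surjective_of_forall_sub_mem_sq {A B : Type*} [CommRing A] [CommRing B] (φ : A →+* B)
    (J : Ideal B) (hJ : IsNilpotent J) (h : ∀ b, ∃ a, b - φ a ∈ J ^ 2) :
    Function.Surjective φ := by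
  have step : ∀ m : ℕ, ∀ x ∈ J ^ (m + 1), ∃ a, x - φ a ∈ J ^ (m + 2) := by
    intro m
    induction m with
    | zero =>
      intro x _
      exact h x
    | succ m ih =>
      intro x hx
      rw [pow_succ'] at hx
      refine Submodule.mul_induction_on hx ?_ ?_
      · intro j hj k hk
        obtain ⟨a₁, h₁⟩ := h j
        obtain ⟨a₂, h₂⟩ := ih k hk
        refine ⟨a₁ * a₂, ?_⟩
        have e : j * k - φ (a₁ * a₂) = (j - φ a₁) * k + φ a₁ * (k - φ a₂) := by
          rw [map_mul]; ring
        rw [e]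
        have hφa₁ : φ a₁ ∈ J := by
          have : φ a₁ = j - (j - φ a₁) := by ring
          rw [this]
          exact J.sub_mem hj (Ideal.pow_le_self (by norm_num) h₁)
        refine Ideal.add_mem _ ?_ ?_
        · have := Ideal.mul_mem_mul h₁ hk
          rw [← pow_add] at this
          have e2 : 2 + (m + 1) = m + 1 + 2 := by omega
          rw [e2] at this
          exact this
        · have := Ideal.mul_mem_mul hφa₁ h₂
          rw [← pow_succ'] at this
          exact this
      · rintro x y ⟨a, ha⟩ ⟨b, hb⟩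
        refine ⟨a + b, ?_⟩
        have e : x + y - φ (a + b) = (x - φ a) + (y - φ b) := by rw [map_add]; ring
        rw [e]
        exact Ideal.add_mem _ ha hb
  have key : ∀ m : ℕ, ∀ b, ∃ a, b - φ a ∈ J ^ (m + 2) := by
    intro m
    induction m with
    | zero => exact h
    | succ m ih =>
      intro b
      obtain ⟨a, ha⟩ := ih b
      obtain ⟨a', ha'⟩ := step (m + 1) _ ha
      exact ⟨a + a', by rw [map_add, ← sub_sub]; exact ha'⟩
  obtain ⟨n, hn⟩ := hJ
  intro b
  obtain ⟨a, ha⟩ := key n b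
  have h0 : J ^ (n + 2) = ⊥ := by rw [pow_add, hn, Ideal.zero_eq_bot, Ideal.bot_mul]
  rw [h0, Ideal.mem_bot, sub_eq_zero] at ha
  exact ⟨a, ha.symm⟩

end Groth.Agent.S14049.Aux

/-- For schemes. Let f : X → Y be a morphism of schemes and let I be a quasi-coherent sheaf of ideals on
X which is nilpotent (some power of I is zero). Let X₁ ⊆ X be the closed subscheme defined by I².
Then f is a closed immersion as soon as the composite X₁ → X → Y is one. (The published statement is
the same assertion for a morphism of algebraic stacks; it is stated here for schemes.) -/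
theorem result (X Y : Scheme.{u}) (f : X ⟶ Y)
    (I : X.IdealSheafData) (hI : IsNilpotent I)
    (h : IsClosedImmersion ((I ^ 2).subschemeι ≫ f)) :
    IsClosedImmersion f := by
  obtain ⟨n, hn⟩ := hI
  have h0 : I ^ (n + 1) = ⊥ := by
    rw [pow_succ, hn]
    exact zero_mul I
  haveI : Surjective (I ^ 2).subschemeι := by
    refine ⟨fun x => ?_⟩
    have hx : x ∈ Set.range (I ^ 2).subschemeι := by
      rw [Scheme.IdealSheafData.range_subschemeι,
        Scheme.IdealSheafData.support_pow _ 2 (by norm_num)]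
      have hs : I.support = ⊤ := by
        rw [← Scheme.IdealSheafData.support_pow_succ I n, h0, Scheme.IdealSheafData.support_bot]
      rw [hs]
      trivial
    exact hx
  have hX : MoreMor.IsThickening (I ^ 2).subschemeι := ⟨inferInstance, inferInstance⟩
  have hY : MoreMor.IsThickening (𝟙 Y) := ⟨inferInstance, inferInstance⟩
  haveI := h
  have haff : IsAffineHom f :=
    (Groth.Agent.S1302.result (I ^ 2).subschemeι (𝟙 Y) ((I ^ 2).subschemeι ≫ f) f hX hY
      (Category.comp_id _).symm).mp inferInstance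
  rw [isClosedImmersion_iff_isAffineHom]
  refine ⟨haff, fun U hU => ?_⟩
  have hV : IsAffineOpen (f ⁻¹ᵁ U) := hU.preimage f
  have hsurj : Function.Surjective (((I ^ 2).subschemeι ≫ f).app U) :=
    ((I ^ 2).subschemeι ≫ f).app_surjective U hU
  have hker := Scheme.IdealSheafData.ker_subschemeι_app (I := I ^ 2) ⟨f ⁻¹ᵁ U, hV⟩
  have hJ : IsNilpotent (I.ideal ⟨f ⁻¹ᵁ U, hV⟩) := by
    refine ⟨n, ?_⟩
    have h1 : (I ^ n).ideal ⟨f ⁻¹ᵁ U, hV⟩ = (0 : X.IdealSheafData).ideal ⟨f ⁻¹ᵁ U, hV⟩ := by
      rw [hn]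
    rw [Scheme.IdealSheafData.ideal_pow] at h1
    exact h1
  apply Groth.Agent.S14049.Aux.surjective_of_forall_sub_mem_sq (f.app U).hom
    (I.ideal ⟨f ⁻¹ᵁ U, hV⟩) hJ
  intro b
  obtain ⟨a, ha⟩ := hsurj ((I ^ 2).subschemeι.app (f ⁻¹ᵁ U) b)
  refine ⟨a, ?_⟩
  have h2 : (I ^ 2).ideal ⟨f ⁻¹ᵁ U, hV⟩ = (I.ideal ⟨f ⁻¹ᵁ U, hV⟩) ^ 2 := by
    rw [Scheme.IdealSheafData.ideal_pow]
    rfl
  rw [← h2, ← hker, RingHom.mem_ker, map_sub, sub_eq_zero, ← ha, Scheme.Hom.comp_app]
  rfl

end Groth.Agent.S14049
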