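import Groth.Statements.S14050
import Mathlib
import Groth.Agent.Lib.Helper20.FunApx
import Groth.Agent.Lib.Helper8.AA1
import Groth.Agent.Lib.Helper18.AdicHom

set_option autoImplicit false
universe u
open CategoryTheory CategoryTheory.Limits
open Hensel

namespace Groth.Agent.S14050


/-- Let A be a G-ring, that is a Noetherian ring whose local rings have regular completion maps (for
instance a quasi-excellent ring), let I be an ideal such that (A, I) is a henselian pair, and let Â
be the I-adic completion of A. Let F be a functor from A-algebras (commutative rings under A) to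
sets which preserves filtered colimits, let ξ ∈ F(Â) and n ≥ 0. Then there is η ∈ F(A) such that η
and ξ have the same image in F(A/I^(n+1)). Here π is the A-algebra map Â → A/I^(n+1), pinned by its
underlying ring map, and ρ is the structure map A → A/I^(n+1). (The published statement is for a
limit-preserving contravariant functor on all schemes over Spec A; only its values on affine schemes
enter, and those form a functor on A-algebras preserving filtered colimits, which is the form stated
here.) -/
theorem result (A : Type u) [CommRing A]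
    (I : Ideal A) [HenselianRing A I] (hG : CAlg.IsGRing A)
    (F : Under (CommRingCat.of A) ⥤ Type u)
    (hF : ∀ (J : Type u) [SmallCategory J] [IsFiltered J], PreservesColimitsOfShape J F)
    (n : ℕ)
    (π : Under.mk (CommRingCat.ofHom (algebraMap A (AdicCompletion I A))) ⟶
      Under.mk (CommRingCat.ofHom (algebraMap A (A ⧸ I ^ (n + 1)))))
    (hπ : π.right = CommRingCat.ofHom
      (AdicCompletion.evalₐ I (n + 1) : AdicCompletion I A →ₐ[A] A ⧸ I ^ (n + 1)).toRingHom)
    (ρ : Under.mk (𝟙 (CommRingCat.of A)) ⟶
      Under.mk (CommRingCat.ofHom (algebraMap A (A ⧸ I ^ (n + 1)))))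
    (ξ : F.obj (Under.mk (CommRingCat.ofHom (algebraMap A (AdicCompletion I A))))) :
    ∃ η : F.obj (Under.mk (𝟙 (CommRingCat.of A))), F.map ρ η = F.map π ξ := by

  have : IsNoetherianRing A := hG.1
  have hreg : CAlg.IsRegularHom A (AdicCompletion I A) :=
    Groth.Agent.Lib.Helper18.AdicHom.isRegularHom_adicCompletion A I (fun p _ => hG.2 p)
  obtain ⟨k, l, f, b, hb, hmain⟩ := Groth.Agent.Lib.Helper20.FunApx.exists_poly F hF _ ξ
  change Fin k → AdicCompletion I A at b
  have hb' : ∀ i, MvPolynomial.aeval b (f i) = 0 := hb
  obtain ⟨a, ha, hab⟩ := Groth.Agent.Lib.Helper8.AA1.approx A I hreg k l f b hb' (n + 1)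
  refine hmain (Under.mk (𝟙 (CommRingCat.of A))) _ a ?_ ρ π ?_
  · intro i
    exact ha i
  · intro j
    have hρ : ∀ x : A, ρ.right.hom x = Ideal.Quotient.mk (I ^ (n + 1)) x := fun x =>
      congrArg (fun t => t.hom x) (Under.w ρ)
    rw [hρ, hπ]
    change _ = AdicCompletion.evalₐ I (n + 1) (b j)
    -- `evalₐ` kills `I^(n+1) Â`
    have hker : ∀ x ∈ (I ^ (n + 1)).map (algebraMap A (AdicCompletion I A)),
        AdicCompletion.evalₐ I (n + 1) x = 0 := by
      intro x hx
      have hle : (I ^ (n + 1)).map (algebraMap A (AdicCompletion I A)) ≤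
          RingHom.ker (AdicCompletion.evalₐ I (n + 1)).toRingHom := by
        rw [Ideal.map_le_iff_le_comap]
        intro y hy
        rw [Ideal.mem_comap, RingHom.mem_ker]
        change AdicCompletion.evalₐ I (n + 1) (algebraMap A (AdicCompletion I A) y) = 0
        rw [AlgHom.commutes]
        exact Ideal.Quotient.eq_zero_iff_mem.mpr hy
      exact hle hx
    have h1 := hker _ (hab j)
    rw [map_sub, sub_eq_zero, AlgHom.commutes] at h1
    exact h1.symm

end Groth.Agent.S14050
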