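import Groth.Statements.S14051
-- import your own Groth.Agent.* helpers here

set_option autoImplicit false
universe u
open CAlg

namespace Groth.Agent.S14051

/-- Let A be a commutative ℕ-graded algebra over a base ring R which is generated by A_1 as an
A_0-algebra, written as A_{n+1} = A_1 · A_n for every n, and let M be a graded A-module: an A-module
with R-submodules M_n giving a direct-sum decomposition and A_i · M_j ⊆ M_{i+j}. If M is spanned
over A by a set of homogeneous elements all of degree at most n₀, then for every n ≥ n₀ and every k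
≥ 0 the degree-(n+k) part of M is A_k · M_n. -/
theorem result
    (R : Type u) [CommRing R] (A : Type u) [CommRing A] [Algebra R A]
    (𝒜 : ℕ → Submodule R A) [GradedAlgebra 𝒜]
    (hA : ∀ n : ℕ, 𝒜 (n + 1) = 𝒜 1 * 𝒜 n)
    (M : Type u) [AddCommGroup M] [Module R M] [Module A M] [IsScalarTower R A M]
    (ℳ : ℕ → Submodule R M) [DirectSum.Decomposition ℳ] [SetLike.GradedSMul 𝒜 ℳ]
    (s : Set M) (n₀ : ℕ) (hs : ∀ y ∈ s, ∃ d : ℕ, d ≤ n₀ ∧ y ∈ ℳ d)
    (hspan : Submodule.span A s = ⊤)
    (n k : ℕ) (hn : n₀ ≤ n) :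
    ℳ (n + k) = 𝒜 k • ℳ n := by
  classical
  -- graded smul as an inequality of submodules
  have hsm : ∀ i j : ℕ, 𝒜 i • ℳ j ≤ ℳ (i + j) := by
    intro i j
    rw [Submodule.smul_le]
    intro a ha x hx
    exact SetLike.GradedSMul.smul_mem ha hx
  have hmul : ∀ i j : ℕ, 𝒜 i * 𝒜 j ≤ 𝒜 (i + j) := by
    intro i j
    rw [Submodule.mul_le]
    intro a ha b hb
    exact SetLike.GradedMul.mul_mem ha hb
  -- the pieces
  let T : ℕ → Submodule R M := fun m => ⨆ (d : ℕ) (_ : d ≤ n₀) (_ : d ≤ m), 𝒜 (m - d) • ℳ d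
  have hT_le : ∀ m, T m ≤ ℳ m := by
    intro m
    refine iSup_le fun d => iSup_le fun _ => iSup_le fun hdm => ?_
    have := hsm (m - d) d
    rwa [Nat.sub_add_cancel hdm] at this
  have hT_smul : ∀ i m, 𝒜 i • T m ≤ T (i + m) := by
    intro i m
    simp only [T, Submodule.smul_iSup]
    refine iSup_le fun d => iSup_le fun hd0 => iSup_le fun hdm => ?_
    have hdm' : d ≤ i + m := le_trans hdm (Nat.le_add_left _ _)
    refine le_trans ?_ (le_iSup_of_le d (le_iSup_of_le hd0 (le_iSup_of_le hdm' le_rfl)))
    rw [← Submodule.smul_assoc]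
    have h1 : 𝒜 i • 𝒜 (m - d) ≤ 𝒜 (i + m - d) := by
      have := hmul i (m - d)
      rwa [← Nat.add_sub_assoc hdm] at this
    exact Submodule.smul_mono_left h1
  let Q : Submodule R M := ⨆ m, T m
  have hQ_smul : ∀ (a : A) (x : M), x ∈ Q → a • x ∈ Q := by
    intro a
    refine DirectSum.Decomposition.inductionOn 𝒜 ?_ ?_ ?_ a
    · intro x _
      rw [zero_smul]; exact Submodule.zero_mem _
    · intro i a x hx
      have h1 : (a : A) • x ∈ 𝒜 i • Q := Submodule.smul_mem_smul a.2 hx
      have h2 : 𝒜 i • Q ≤ Q := by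
        simp only [Q, Submodule.smul_iSup]
        exact iSup_le fun m => le_trans (hT_smul i m) (le_iSup T (i + m))
      exact h2 h1
    · intro a b ha hb x hx
      rw [add_smul]
      exact Submodule.add_mem _ (ha x hx) (hb x hx)
  have hQ_top : ∀ x : M, x ∈ Q := by
    intro x
    have hx : x ∈ Submodule.span A s := by rw [hspan]; trivial
    induction hx using Submodule.span_induction with
    | mem y hy =>
      obtain ⟨d, hd, hyd⟩ := hs y hy
      have h1 : (1 : A) • y ∈ 𝒜 (d - d) • ℳ d := by
        rw [Nat.sub_self]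
        exact Submodule.smul_mem_smul SetLike.GradedOne.one_mem hyd
      rw [one_smul] at h1
      have h2 : 𝒜 (d - d) • ℳ d ≤ T d :=
        le_iSup_of_le d (le_iSup_of_le hd (le_iSup_of_le le_rfl le_rfl))
      exact (le_iSup T d) (h2 h1)
    | zero => exact Submodule.zero_mem _
    | add x y _ _ hx hy => exact Submodule.add_mem _ hx hy
    | smul a x _ hx => exact hQ_smul a x hx
  have hdec : ∀ x : M, x ∈ Q → ∀ j : ℕ, (DirectSum.decompose ℳ x j : M) ∈ T j := by
    intro x hx
    refine Submodule.iSup_induction T (motive := fun x => ∀ j : ℕ,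
      (DirectSum.decompose ℳ x j : M) ∈ T j) hx ?_ ?_ ?_
    · intro m y hy j
      by_cases hjm : m = j
      · subst hjm
        rw [DirectSum.decompose_of_mem_same ℳ (hT_le m hy)]
        exact hy
      · rw [DirectSum.decompose_of_mem_ne ℳ (hT_le m hy) hjm]
        exact Submodule.zero_mem _
    · intro j
      rw [DirectSum.decompose_zero]
      simp
    · intro y z hy hz j
      rw [DirectSum.decompose_add, DirectSum.add_apply, Submodule.coe_add]
      exact Submodule.add_mem _ (hy j) (hz j)
  have hgrade : ∀ m : ℕ, ℳ m ≤ T m := by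
    intro m x hx
    have := hdec x (hQ_top x) m
    rwa [DirectSum.decompose_of_mem_same ℳ hx] at this
  -- the key step
  have hstep : ∀ m : ℕ, n₀ ≤ m → ℳ (m + 1) = 𝒜 1 • ℳ m := by
    intro m hm
    apply le_antisymm
    · refine le_trans (hgrade (m + 1)) ?_
      refine iSup_le fun d => iSup_le fun hd0 => iSup_le fun _ => ?_
      have hdm : d ≤ m := le_trans hd0 hm
      have e1 : m + 1 - d = (m - d) + 1 := by omega
      rw [e1, hA (m - d)]
      change (𝒜 1 • 𝒜 (m - d)) • ℳ d ≤ _
      rw [Submodule.smul_assoc]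
      refine Submodule.smul_mono le_rfl ?_
      have := hsm (m - d) d
      rwa [Nat.sub_add_cancel hdm] at this
    · have := hsm 1 m
      rwa [add_comm] at this
  induction k with
  | zero =>
    apply le_antisymm
    · intro x hx
      have : (1 : A) • x ∈ 𝒜 0 • ℳ n := Submodule.smul_mem_smul SetLike.GradedOne.one_mem hx
      rwa [one_smul] at this
    · have := hsm 0 n
      rwa [zero_add] at this
  | succ k ih =>
    rw [← add_assoc, hstep (n + k) (le_trans hn (Nat.le_add_right _ _)), ih, hA k]
    change _ = (𝒜 1 • 𝒜 k) • ℳ n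
    rw [Submodule.smul_assoc]

end Groth.Agent.S14051
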