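import Groth.Statements.S14053
import Groth.Agent.Lib.Helper22.GradedPieces
import Mathlib.LinearAlgebra.Dimension.Finite
import Mathlib.LinearAlgebra.InvariantBasisNumber

set_option autoImplicit false
universe u
open CAlg

namespace Groth.Agent.S14053

/-- Let k be a field and R a commutative ℕ-graded k-algebra with R_0 = k · 1 which is generated as a
k-algebra by R_1, R_2 and R_3, each a finite-dimensional k-vector space, of dimensions d_1, d_2,
d_3. Then for every natural number e ≥ 5 d_1 + 4 d_2 + 3 d_3 the (6e)-th Veronese subring of R is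
generated in degree one over k: R_{6em} = (R_{6e})^m for every m > 0. -/
theorem result
    (k : Type u) [Field k] (R : Type u) [CommRing R] [Algebra k R]
    (ℛ : ℕ → Submodule k R) [GradedAlgebra ℛ]
    (h0 : ℛ 0 = 1)
    (hgen : Algebra.adjoin k ((ℛ 1 : Set R) ∪ (ℛ 2 : Set R) ∪ (ℛ 3 : Set R)) = ⊤)
    [Module.Finite k (ℛ 1)] [Module.Finite k (ℛ 2)] [Module.Finite k (ℛ 3)]
    (e : ℕ) (he : 5 * Module.finrank k (ℛ 1) + 4 * Module.finrank k (ℛ 2) + 3 * Module.finrank k (ℛ 3) ≤ e)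
    (m : ℕ) (hm : 0 < m) :
    ℛ (m * (6 * e)) = ℛ (6 * e) ^ m := by
  classical
  have hmul : ∀ i j : ℕ, ℛ i * ℛ j ≤ ℛ (i + j) := by
    intro i j
    rw [Submodule.mul_le]
    intro a ha b hb
    exact SetLike.GradedMul.mul_mem ha hb
  have hpow : ∀ i n : ℕ, ℛ i ^ n ≤ ℛ (n * i) := by
    intro i n
    induction n with
    | zero => simp [h0]
    | succ n ih =>
      rw [pow_succ, Nat.succ_mul]
      exact le_trans (mul_le_mul' ih le_rfl) (hmul _ _)
  -- monomial pieces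
  let W : ℕ × ℕ × ℕ → Submodule k R := fun p => ℛ 1 ^ p.1 * ℛ 2 ^ p.2.1 * ℛ 3 ^ p.2.2
  let deg : ℕ × ℕ × ℕ → ℕ := fun p => p.1 + 2 * p.2.1 + 3 * p.2.2
  have hW : ∀ p, W p ≤ ℛ (deg p) := by
    rintro ⟨a, b, c⟩
    have h1 := hpow 1 a
    have h2 := hpow 2 b
    have h3 := hpow 3 c
    have e1 : a + 2 * b + 3 * c = a * 1 + b * 2 + c * 3 := by ring
    change ℛ 1 ^ a * ℛ 2 ^ b * ℛ 3 ^ c ≤ ℛ (a + 2 * b + 3 * c)
    rw [e1]
    exact le_trans (mul_le_mul' (le_trans (mul_le_mul' h1 h2) (hmul _ _)) h3)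
      (hmul _ _)
  have hWmul : ∀ p q, W p * W q = W (p + q) := by
    rintro ⟨a, b, c⟩ ⟨a', b', c'⟩
    change ℛ 1 ^ a * ℛ 2 ^ b * ℛ 3 ^ c * (ℛ 1 ^ a' * ℛ 2 ^ b' * ℛ 3 ^ c') =
      ℛ 1 ^ (a + a') * ℛ 2 ^ (b + b') * ℛ 3 ^ (c + c')
    rw [pow_add, pow_add, pow_add]
    ring
  let T : ℕ → Submodule k R := fun n => ⨆ (p : ℕ × ℕ × ℕ) (_ : deg p = n), W p
  have hT : ∀ n, T n ≤ ℛ n := by
    intro n
    refine iSup_le fun p => iSup_le fun hp => ?_
    rw [← hp]
    exact hW p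
  let Q : Submodule k R := ⨆ p, W p
  have hQQ : Q * Q ≤ Q := by
    simp only [Q, Submodule.iSup_mul, Submodule.mul_iSup]
    refine iSup_le fun p => iSup_le fun q => ?_
    rw [hWmul]
    exact le_iSup W (q + p)
  have hQtop : ∀ x : R, x ∈ Q := by
    intro x
    have hx : x ∈ Algebra.adjoin k ((ℛ 1 : Set R) ∪ (ℛ 2 : Set R) ∪ (ℛ 3 : Set R)) := by
      rw [hgen]; trivial
    induction hx using Algebra.adjoin_induction with
    | mem y hy =>
      rcases hy with (hy | hy) | hy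
      · have : W (1, 0, 0) = ℛ 1 := by simp [W]
        exact (le_iSup W (1, 0, 0)) (this ▸ hy)
      · have : W (0, 1, 0) = ℛ 2 := by simp [W]
        exact (le_iSup W (0, 1, 0)) (this ▸ hy)
      · have : W (0, 0, 1) = ℛ 3 := by simp [W]
        exact (le_iSup W (0, 0, 1)) (this ▸ hy)
    | algebraMap r =>
      have : W (0, 0, 0) = 1 := by simp [W]
      exact (le_iSup W (0, 0, 0)) (this ▸ Submodule.algebraMap_mem r)
    | add y z _ _ hy hz => exact Submodule.add_mem _ hy hz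
    | mul y z _ _ hy hz => exact hQQ (Submodule.mul_mem_mul hy hz)
  have hQT : Q ≤ ⨆ n, T n := by
    refine iSup_le fun p => ?_
    exact le_trans (le_iSup₂_of_le (f := fun (q : ℕ × ℕ × ℕ) (_ : deg q = deg p) => W q) p rfl le_rfl)
      (le_iSup T (deg p))
  have hgrade : ∀ n, ℛ n ≤ T n := by
    intro n x hx
    exact Groth.Agent.Lib.Helper22.mem_piece_of_mem_iSup ℛ T hT (hQT (hQtop x)) hx
  -- the key step
  have hstep : ∀ N : ℕ, 7 ≤ N → ℛ (N + 6) ≤ ℛ 6 * ℛ N := by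
    intro N hN
    refine le_trans (hgrade (N + 6)) ?_
    refine iSup_le fun p => iSup_le fun hp => ?_
    obtain ⟨a, b, c⟩ := p
    change a + 2 * b + 3 * c = N + 6 at hp
    change ℛ 1 ^ a * ℛ 2 ^ b * ℛ 3 ^ c ≤ ℛ 6 * ℛ N
    by_cases ha : 6 ≤ a
    · obtain ⟨a', rfl⟩ := Nat.exists_eq_add_of_le ha
      have h1 : ℛ 1 ^ (6 + a') * ℛ 2 ^ b * ℛ 3 ^ c = ℛ 1 ^ 6 * W (a', b, c) := by
        change _ = ℛ 1 ^ 6 * (ℛ 1 ^ a' * ℛ 2 ^ b * ℛ 3 ^ c)
        rw [pow_add]; ring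
      rw [h1]
      have h2 : deg (a', b, c) = N := by change a' + 2 * b + 3 * c = N; omega
      exact mul_le_mul' (hpow 1 6) (h2 ▸ hW (a', b, c))
    by_cases hb : 3 ≤ b
    · obtain ⟨b', rfl⟩ := Nat.exists_eq_add_of_le hb
      have h1 : ℛ 1 ^ a * ℛ 2 ^ (3 + b') * ℛ 3 ^ c = ℛ 2 ^ 3 * W (a, b', c) := by
        change _ = ℛ 2 ^ 3 * (ℛ 1 ^ a * ℛ 2 ^ b' * ℛ 3 ^ c)
        rw [pow_add]; ring
      rw [h1]
      have h2 : deg (a, b', c) = N := by change a + 2 * b' + 3 * c = N; omega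
      exact mul_le_mul' (hpow 2 3) (h2 ▸ hW (a, b', c))
    by_cases hc : 2 ≤ c
    · obtain ⟨c', rfl⟩ := Nat.exists_eq_add_of_le hc
      have h1 : ℛ 1 ^ a * ℛ 2 ^ b * ℛ 3 ^ (2 + c') = ℛ 3 ^ 2 * W (a, b, c') := by
        change _ = ℛ 3 ^ 2 * (ℛ 1 ^ a * ℛ 2 ^ b * ℛ 3 ^ c')
        rw [pow_add]; ring
      rw [h1]
      have h2 : deg (a, b, c') = N := by change a + 2 * b + 3 * c' = N; omega
      exact mul_le_mul' (hpow 3 2) (h2 ▸ hW (a, b, c'))
    exfalso; omega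
  have hstep2 : ∀ j N : ℕ, 7 ≤ N → ℛ (N + 6 * j) ≤ ℛ (6 * j) * ℛ N := by
    intro j
    induction j with
    | zero =>
      intro N _
      simp [h0]
    | succ j ih =>
      intro N hN
      have e1 : N + 6 * (j + 1) = (N + 6 * j) + 6 := by ring
      rw [e1]
      refine le_trans (hstep (N + 6 * j) (by omega)) ?_
      refine le_trans (mul_le_mul' le_rfl (ih N hN)) ?_
      rw [← mul_assoc]
      refine mul_le_mul' ?_ le_rfl
      have := hmul 6 (6 * j)
      have e2 : 6 + 6 * j = 6 * (j + 1) := by ring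
      rwa [e2] at this
  -- conclusion
  rcases Nat.eq_zero_or_pos e with he0 | hepos
  · subst he0
    simp [h0]
  by_cases he3 : 3 ≤ e
  · induction m, hm using Nat.le_induction with
    | base => simp
    | succ m hm ih =>
      apply le_antisymm
      · have e1 : (m + 1) * (6 * e) = m * (6 * e) + 6 * e := by ring
        rw [e1, pow_succ, ← ih, mul_comm (ℛ (m * (6 * e))) (ℛ (6 * e))]
        refine hstep2 e (m * (6 * e)) ?_
        have : 1 * (6 * e) ≤ m * (6 * e) := Nat.mul_le_mul_right _ hm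
        omega
      · exact hpow (6 * e) (m + 1)
  · -- all generators vanish
    have hd1 : Module.finrank k (ℛ 1) = 0 := by omega
    have hd2 : Module.finrank k (ℛ 2) = 0 := by omega
    have hd3 : Module.finrank k (ℛ 3) = 0 := by omega
    rw [Submodule.finrank_eq_zero] at hd1 hd2 hd3
    have hbot : ∀ n : ℕ, 1 ≤ n → ℛ n = ⊥ := by
      intro n hn
      rw [eq_bot_iff]
      refine le_trans (hgrade n) ?_
      refine iSup_le fun p => iSup_le fun hp => ?_
      obtain ⟨a, b, c⟩ := p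
      change a + 2 * b + 3 * c = n at hp
      change ℛ 1 ^ a * ℛ 2 ^ b * ℛ 3 ^ c ≤ ⊥
      rw [hd1, hd2, hd3, ← Submodule.zero_eq_bot]
      by_cases ha : a = 0
      · by_cases hb : b = 0
        · have hc : c ≠ 0 := by omega
          rw [zero_pow hc, mul_zero]
        · rw [zero_pow hb, mul_zero, zero_mul]
      · rw [zero_pow ha, zero_mul, zero_mul]
    have h6e : 1 ≤ 6 * e := by omega
    have hm6e : 1 ≤ m * (6 * e) := Nat.mul_pos hm h6e
    rw [hbot _ hm6e, hbot _ h6e, ← Submodule.zero_eq_bot, zero_pow (by omega)]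

end Groth.Agent.S14053
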