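import Groth.Statements.S14060
import Mathlib

set_option autoImplicit false
universe u
open CategoryTheory CategoryTheory.Limits TopologicalSpace
open CohTop

namespace Groth.Agent.S14060

open Abelian Opposite

section general
universe v w
variable {C : Type u} [Category.{v} C] [Abelian C]

/-- From an exact pair `q, p`, the short exact sequence `0 → ker q → A' → ker p → 0`. -/
lemma shortExact_kernel_lift {A' A B : C} (q : A' ⟶ A) (p : A ⟶ B) (w : q ≫ p = 0)
    (hex : (ShortComplex.mk q p w).Exact) :
    (ShortComplex.mk (kernel.ι q) (kernel.lift p q w)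
      (by rw [← cancel_mono (kernel.ι p)]; simp)).ShortExact := by
  have hepi : Epi (kernel.lift p q w) := (ShortComplex.exact_iff_epi_kernel_lift _).1 hex
  let S₁ : ShortComplex C := ShortComplex.mk (kernel.ι q) (kernel.lift p q w)
      (by rw [← cancel_mono (kernel.ι p)]; simp)
  let S₂ : ShortComplex C := ShortComplex.mk (kernel.ι q) q (kernel.condition q)
  let φ : S₁ ⟶ S₂ := { τ₁ := 𝟙 _, τ₂ := 𝟙 _, τ₃ := kernel.ι p }
  have h2 : S₂.Exact := ShortComplex.exact_of_f_is_kernel _ (kernelIsKernel q)
  have : Epi φ.τ₁ := by dsimp [φ]; infer_instance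
  have : IsIso φ.τ₂ := by dsimp [φ]; infer_instance
  have : Mono φ.τ₃ := by dsimp [φ]; infer_instance
  have h1 : S₁.Exact := (ShortComplex.exact_iff_of_epi_of_isIso_of_mono φ).2 h2
  exact { exact := h1, mono_f := by dsimp; infer_instance, epi_g := hepi }

/-- the short exact sequence `0 → ker p → A → B → 0` of an epi. -/
lemma shortExact_kernel {A B : C} (p : A ⟶ B) [Epi p] :
    (ShortComplex.mk (kernel.ι p) p (kernel.condition p)).ShortExact where
  exact := ShortComplex.exact_of_f_is_kernel _ (kernelIsKernel p)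
  mono_f := by dsimp; infer_instance
  epi_g := by dsimp; infer_instance

variable [HasExt.{w} C]

lemma subsingleton_ext_X₃ (P : C) {S : ShortComplex C} (hS : S.ShortExact) (n : ℕ)
    (h2 : Subsingleton (Ext P S.X₂ n)) (h1 : Subsingleton (Ext P S.X₁ (n + 1))) :
    Subsingleton (Ext P S.X₃ n) := by
  refine subsingleton_of_forall_eq 0 fun x₃ => ?_
  have h0 : x₃.comp hS.extClass rfl = 0 := Subsingleton.elim _ _
  obtain ⟨x₂, hx₂⟩ := Ext.covariant_sequence_exact₃ P hS x₃ rfl h0
  rw [← hx₂, Subsingleton.elim x₂ 0, Ext.zero_comp]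

end general

variable {X : TopCat.{u}} [HasExt.{u} (Sheaf (Opens.grothendieckTopology X) AddCommGrpCat.{u})]

lemma surjective_of_H1 {S : ShortComplex (Sheaf (Opens.grothendieckTopology X) AddCommGrpCat.{u})}
    (hS : S.ShortExact) (h1 : Subsingleton (Sheaf.H S.X₁ 1)) :
    Function.Surjective (S.g.hom.app (op ⊤)) := by
  intro s
  have hT : IsTerminal (⊤ : Opens X) := isTerminalTop
  obtain ⟨x₂, hx₂⟩ := Ext.covariant_sequence_exact₃ _ hS ((Sheaf.H.equiv₀ S.X₃ hT).symm s) rfl
    (Subsingleton.elim _ _)
  refine ⟨Sheaf.H.equiv₀ S.X₂ hT x₂, ?_⟩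
  rw [Sheaf.H.equiv₀_naturality, Sheaf.H.map_apply, hx₂]
  simp


/-- Let X be a topological space, r ≥ 1 an integer and 0 → F_r → ⋯ → F_2 → F_1 → F_0 → 0 an exact
sequence of sheaves of abelian groups on X, presented as a chain complex F of abelian sheaves
indexed by the natural numbers whose differential F_r → F_{r−1} is a monomorphism, whose
differential F_1 → F_0 is an epimorphism of sheaves, and which is exact at F_j for 1 ≤ j ≤ r − 1
(for r = 1 the single map F_1 → F_0 is mono and epi). Assume the sheaf cohomology groups H^{j−1}(X,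
F_j) vanish for 2 ≤ j ≤ r. Then the map on global sections F_1(X) → F_0(X) is surjective. (The
instance hypothesis that the category of abelian sheaves on X has Ext groups in the universe of X
holds for every X, abelian sheaves on a space forming a Grothendieck abelian category; it is the
setting in which sheaf cohomology is defined.) -/
theorem result (X : TopCat.{u})
    [HasExt.{u} (Sheaf (Opens.grothendieckTopology X) AddCommGrpCat.{u})]
    (r : ℕ) (hr : 1 ≤ r)
    (F : ChainComplex (Sheaf (Opens.grothendieckTopology X) AddCommGrpCat.{u}) ℕ)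
    (hmono : Mono (F.d r (r - 1))) (hepi : Epi (F.d 1 0))
    (hex : ∀ j : ℕ, 1 ≤ j → j < r → F.ExactAt j)
    (hvan : ∀ j : ℕ, 2 ≤ j → j ≤ r → Subsingleton (Sheaf.H (F.X j) (j - 1))) :
    Function.Surjective ((F.d 1 0).hom.app (Opposite.op ⊤)) := by
  obtain ⟨r', rfl⟩ : ∃ r', r = r' + 1 := ⟨r - 1, by omega⟩
  have hmono' : Mono (F.d (r' + 1) r') := hmono
  -- key claim
  have claim : ∀ k i : ℕ, i + k = r' → Subsingleton (Sheaf.H (kernel (F.d (i + 1) i)) (i + 1)) := by
    intro k
    induction k with
    | zero =>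
      intro i hi
      have hi' : i = r' := by omega
      subst hi'
      have hz : IsZero (kernel (F.d (i + 1) i)) := by
        rw [IsZero.iff_id_eq_zero, ← cancel_mono (kernel.ι (F.d (i + 1) i)),
          ← cancel_mono (F.d (i + 1) i)]
        simp
      exact Sheaf.subsingleton_H_of_isZero hz _
    | succ k ih =>
      intro i hi
      have hexi : F.ExactAt (i + 1) := hex (i + 1) (by omega) (by omega)
      rw [F.exactAt_iff' (i + 2) (i + 1) i (by simp) (by simp)] at hexi
      have hS := shortExact_kernel_lift (F.d (i + 2) (i + 1)) (F.d (i + 1) i) (F.d_comp_d _ _ _) hexi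
      have hv : Subsingleton (Sheaf.H (F.X (i + 2)) (i + 1)) := hvan (i + 2) (by omega) (by omega)
      exact subsingleton_ext_X₃ _ hS (i + 1) hv (ih (i + 1) (by omega))
  have h1 := claim r' 0 (by omega)
  have hS0 := shortExact_kernel (F.d 1 0)
  exact surjective_of_H1 hS0 h1

end Groth.Agent.S14060
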