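import Groth.Statements.S14064
import Mathlib
import Groth.Agent.Lib.Helper29.IntegInv
import Groth.Agent.Lib.Helper29.Twist6
import Groth.Agent.Lib.Helper29.TensorInv
import Groth.Agent.Lib.Helper29.TensorIso
import Groth.Agent.Lib.Helper29.Ample

set_option autoImplicit false
universe u
open CategoryTheory CategoryTheory.Limits AlgebraicGeometry TopologicalSpace
open Surf

namespace Groth.Agent.S14064

/-- Fix a field k, an integral proper k-scheme X, and an invertible O_X-module L with tensor inverse M.
Suppose that L^{⊗j} has a nonzero global section for every j ≥ 4 and that no tensor power L^{⊗j}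
with j ≥ 1 is isomorphic to O_X. Then H⁰(X, M^{⊗i}) = 0 for every i ≥ 1: the negative powers of L
have no nonzero global sections. (The published statement is for the canonical module of a minimal
surface of general type over an algebraically closed field, where the fourth and higher powers are
globally generated by a deep result quoted without proof, and non-triviality of the positive powers
comes from bigness; the published deduction of this part uses exactly the two hypotheses carried
here, on an integral proper X.) -/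
theorem result (k : Type u) [Field k]
    (X : Scheme.{u}) [X.Over (Spec (CommRingCat.of k))] [IsProper (X ↘ (Spec (CommRingCat.of k)))] [IsIntegral X]
    (L M : X.Modules) (hL : PicF.IsInvertible L) (hM : ClSub.IsInverseOf M L)
    (hsec : ∀ j : ℕ, 4 ≤ j → Nontrivial (Coh.HH X (CohB1.tensorPow L j) 0))
    (hnt : ∀ j : ℕ, 1 ≤ j → IsEmpty (CohB1.tensorPow L j ≅ Coh.structureModule X))
    (i : ℕ) (hi : 1 ≤ i) :
    Subsingleton (Coh.HH X (CohB1.tensorPow M i) 0) := by
  open Groth.Agent.Lib.Helper29.QCoh in
  classical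
  by_contra hns
  rw [not_subsingleton_iff_nontrivial] at hns
  obtain ⟨eM⟩ := hM
  have hMinv : PicF.IsInvertible M := isInvertible_of_tensor_iso M L eM
  have hne : ∀ (E : X.Modules) (m : Γ(E, ⊤)), m ≠ 0 → homOfSection E m ≠ 0 := by
    intro E m hm h0
    apply hm
    have h3 := sval_homOfSection E m ⊤
    rw [h0, res_self] at h3
    rw [← h3]
    rfl
  obtain ⟨v, hv⟩ := exists_ne (0 : Coh.HH X (CohB1.tensorPow M i) 0)
  have := hsec (i * 4) (by omega)
  obtain ⟨w, hw⟩ := exists_ne (0 : Coh.HH X (CohB1.tensorPow L (i * 4)) 0)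
  have hs : hh0 _ w ≠ 0 := (map_ne_zero_iff _ (hh0 _).injective).mpr hw
  have ht : hh0 _ v ≠ 0 := (map_ne_zero_iff _ (hh0 _).injective).mpr hv
  let s : unitM X ⟶ CohB1.tensorPow L (i * 4) := homOfSection _ (hh0 _ w)
  let t : unitM X ⟶ CohB1.tensorPow M i := homOfSection _ (hh0 _ v)
  have hfield : IsField Γ(X, ⊤) := isField_of_universallyClosed k (X ↘ Spec (CommRingCat.of k))
  have hMi : PicF.IsInvertible (CohB1.tensorPow M i) := isInvertible_tensorPow hMinv i
  have ht4 : SecTwist.powHom t 4 ≠ 0 := powHom_ne_zero hMi t (hne _ _ ht) 4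
  let t4 : unitM X ⟶ CohB1.tensorPow M (i * 4) := SecTwist.powHom t 4 ≫ (tensorPowMul M i 4).hom
  have ht4' : t4 ≠ 0 := fun h0 => ht4 (by
    rw [← cancel_mono (tensorPowMul M i 4).hom, zero_comp]; exact h0)
  have e2 : CohB1.tensorMod (CohB1.tensorPow L (i * 4)) (CohB1.tensorPow M (i * 4)) ≅ unitM X :=
    (tensorPowTensor L M (i * 4)).symm ≪≫ tensorPowCongr (tensorBraid L M ≪≫ eM) (i * 4) ≪≫
      tensorPowUnit X (i * 4)
  obtain ⟨φ⟩ := nonempty_iso_unit_of_inverse_sections hfield (isInvertible_tensorPow hL _)
    (isInvertible_tensorPow hMinv _) ⟨e2⟩ s (hne _ _ hs) t4 ht4'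
  exact (hnt (i * 4) (by omega)).false φ

end Groth.Agent.S14064
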