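import Groth.Statements.S14070
import Mathlib
import Groth.Agent.Lib.Helper6.PUO11
-- import your own Groth.Agent.* helpers here

set_option autoImplicit false
open CategoryTheory AlgebraicGeometry
universe u
open FamCyc

namespace Groth.Agent.S14070

/-- Let S be a scheme all of whose local rings are geometrically unibranch and which has only finitely
many irreducible components, and let f : X ⟶ S be a morphism locally of finite type such that every
point x of X lies on an irreducible component W of X (given its reduced subscheme structure) with W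
⟶ S equidimensional at x. Then f is universally open. (No Noetherian hypothesis on S: finiteness of
its set of irreducible components is what is used, and the statement fails without it.) -/
theorem result {X S : Scheme.{u}}
    (hS : ∀ s : S, CAlg2.IsGeomUnibranch (S.presheaf.stalk s))
    (hfin : (irreducibleComponents (S : Type u)).Finite)
    (f : X ⟶ S) [LocallyOfFiniteType f]
    (hT : ∀ x : X, ∃ W : TopologicalSpace.Closeds X, (W : Set X) ∈ irreducibleComponents (X : Type u) ∧
      ∃ w : ↥((Scheme.IdealSheafData.vanishingIdeal W).subscheme),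
        (Scheme.IdealSheafData.vanishingIdeal W).subschemeι.base w = x ∧
        EGA43.IsEquidimAt ((Scheme.IdealSheafData.vanishingIdeal W).subschemeι ≫ f) w) :
    UniversallyOpen f := by
  refine Groth.Agent.Lib.Helper6.QFac.universallyOpen_of_forall_isUnivOpenAt f fun x => ?_
  obtain ⟨W, hW, w, hw, hEq⟩ := hT x
  haveI : IrreducibleSpace (Scheme.IdealSheafData.vanishingIdeal W).subscheme :=
    Groth.Agent.Lib.Helper6.PUO.irreducibleSpace_subscheme_vanishingIdeal W hW.1
  have huniq : ∀ t : S, ∀ Y₁ ∈ irreducibleComponents (S : Type u),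
      ∀ Y₂ ∈ irreducibleComponents (S : Type u), t ∈ Y₁ → t ∈ Y₂ → Y₁ = Y₂ :=
    fun t Y₁ h₁ Y₂ h₂ ht₁ ht₂ =>
      Groth.Agent.Lib.Helper6.PUO.eq_of_mem_irreducibleComponents' t
        (Groth.Agent.Lib.Helper6.PUO.nilradical_isPrime_of_isGeomUnibranch _ (hS t)) Y₁ Y₂ h₁ h₂
        ht₁ ht₂
  have hY₀ : irreducibleComponent (f.base x) ∈ irreducibleComponents (S : Type u) :=
    irreducibleComponent_mem_irreducibleComponents _
  have hopen := Groth.Agent.Lib.Helper6.PUO.isOpen_of_mem_irreducibleComponents hfin huniq _ hY₀
  let V : S.Opens := ⟨irreducibleComponent (f.base x), hopen⟩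
  have hfw : ((Scheme.IdealSheafData.vanishingIdeal W).subschemeι ≫ f).base w = f.base x := by
    rw [Groth.Agent.Lib.Helper14.UOA.comp_base_eq, Function.comp_apply, hw]
  have h1 := Groth.Agent.Lib.Helper6.PUO.isUnivOpenAt_of_isEquidimAt_of_irreducible'
    ((Scheme.IdealSheafData.vanishingIdeal W).subschemeι ≫ f) w hEq (hS _) V
    (by
      change ((Scheme.IdealSheafData.vanishingIdeal W).subschemeι ≫ f).base w ∈
        irreducibleComponent (f.base x)
      rw [hfw]
      exact mem_irreducibleComponent) hY₀.1
  have h2 := Groth.Agent.Lib.Helper6.QFac.isUnivOpenAt_of_comp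
    (Scheme.IdealSheafData.vanishingIdeal W).subschemeι f w h1
  rwa [hw] at h2

end Groth.Agent.S14070
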