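import Groth.Statements.S14078
import Mathlib
import Groth.Agent.S1353
import Groth.Agent.Lib.Helper6.QSec5
-- import your own Groth.Agent.* helpers here

set_option autoImplicit false
open CategoryTheory CategoryTheory.Limits AlgebraicGeometry
universe u
open FamCyc

namespace Groth.Agent.S14078

/-- Let f : X ⟶ S be a morphism of schemes locally of finite type, i : Z ⟶ X an immersion such that Z ⟶
S is locally quasi-finite, and z a point of Z. Then there are an étale morphism g : T ⟶ S and an
open subscheme U of X ×_S T such that the preimage U ×_X Z of Z in U is finite over T and contains a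
point u over z whose residue field extension κ(z) → κ(u) is an isomorphism, u being moreover the
only point of U ×_X Z in its fibre over T. (The published statement covers algebraic spaces X, with
U ⟶ X ×_S T étale in general and an open subspace when X is a scheme; this row is the scheme case.) -/
theorem result {Z X S : Scheme.{u}} (f : X ⟶ S)
    [LocallyOfFiniteType f] (i : Z ⟶ X) [IsImmersion i] [LocallyQuasiFinite (i ≫ f)] (z : Z) :
    ∃ (T : Scheme.{u}) (g : T ⟶ S) (U : (pullback f g).Opens)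
      (u : ↥(pullback (U.ι ≫ pullback.fst f g) i)),
      Etale g ∧
      IsFinite (pullback.fst (U.ι ≫ pullback.fst f g) i ≫ U.ι ≫ pullback.snd f g) ∧
      (pullback.snd (U.ι ≫ pullback.fst f g) i).base u = z ∧
      IsIso ((pullback.snd (U.ι ≫ pullback.fst f g) i).residueFieldMap u) ∧
      ∀ u' : ↥(pullback (U.ι ≫ pullback.fst f g) i),
        (pullback.fst (U.ι ≫ pullback.fst f g) i ≫ U.ι ≫ pullback.snd f g).base u' =
          (pullback.fst (U.ι ≫ pullback.fst f g) i ≫ U.ι ≫ pullback.snd f g).base u → u' = u := by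

  classical
  haveI : LocallyOfFiniteType (i ≫ f) := inferInstance
  obtain ⟨T, g, t, ⟨hget, hgt, hgres⟩, V, v, hvV, hfin, hsnd, huniq, hfst, hres⟩ :=
    Groth.Agent.S1353.result (i ≫ f) z ((i ≫ f).quasiFiniteAt z)
  -- the immersion Z_T ⟶ X_T
  let j : pullback (i ≫ f) g ⟶ pullback f g :=
    pullback.lift (pullback.fst (i ≫ f) g ≫ i) (pullback.snd (i ≫ f) g)
      (by simp [pullback.condition])
  have hj1 : j ≫ pullback.fst f g = pullback.fst (i ≫ f) g ≫ i := pullback.lift_fst _ _ _
  have hj2 : j ≫ pullback.snd f g = pullback.snd (i ≫ f) g := pullback.lift_snd _ _ _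
  have hsq : IsPullback j (pullback.fst (i ≫ f) g) (pullback.fst f g) i := by
    refine IsPullback.of_right ?_ hj1 (IsPullback.of_hasPullback f g).flip
    rw [hj2]
    exact (IsPullback.of_hasPullback (i ≫ f) g).flip
  haveI : IsImmersion j :=
    MorphismProperty.of_isPullback (P := @IsImmersion) hsq.flip inferInstance
  obtain ⟨U₀, hU₀o, hU₀⟩ := j.isEmbedding.isOpen_iff.mp V.2
  let U : (pullback f g).Opens := ⟨U₀, hU₀o⟩
  have hUV : j ⁻¹ᵁ U = V := TopologicalSpace.Opens.ext hU₀
  subst hUV
  have hP : IsPullback (j ∣_ U) ((j ⁻¹ᵁ U).ι ≫ pullback.fst (i ≫ f) g)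
      (U.ι ≫ pullback.fst f g) i :=
    (isPullback_morphismRestrict j U).paste_vert hsq
  let e := hP.isoPullback
  have he1 : e.hom ≫ pullback.fst (U.ι ≫ pullback.fst f g) i = j ∣_ U := hP.isoPullback_hom_fst
  have he2 : e.hom ≫ pullback.snd (U.ι ≫ pullback.fst f g) i =
      (j ⁻¹ᵁ U).ι ≫ pullback.fst (i ≫ f) g := hP.isoPullback_hom_snd
  have he3 : e.hom ≫ (pullback.fst (U.ι ≫ pullback.fst f g) i ≫ U.ι ≫ pullback.snd f g) =
      (j ⁻¹ᵁ U).ι ≫ pullback.snd (i ≫ f) g := by
    rw [← Category.assoc, he1, ← Category.assoc, morphismRestrict_ι, Category.assoc, hj2]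
  have he3' : pullback.fst (U.ι ≫ pullback.fst f g) i ≫ U.ι ≫ pullback.snd f g =
      e.inv ≫ (j ⁻¹ᵁ U).ι ≫ pullback.snd (i ≫ f) g := by
    rw [← he3, Iso.inv_hom_id_assoc]
  refine ⟨T, g, U, e.hom ⟨v, hvV⟩, hget, ?_, ?_, ?_, ?_⟩
  · rw [he3']
    infer_instance
  · have : (pullback.snd (U.ι ≫ pullback.fst f g) i).base (e.hom.base ⟨v, hvV⟩) =
        (e.hom ≫ pullback.snd (U.ι ≫ pullback.fst f g) i).base ⟨v, hvV⟩ := rfl
    rw [this, he2]
    exact hfst
  · have h1 : IsIso ((e.hom ≫ pullback.snd (U.ι ≫ pullback.fst f g) i).residueFieldMap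
        ⟨v, hvV⟩) := by
      rw [he2]
      refine Groth.Agent.Lib.Helper6.QSec.isIso_residueFieldMap_comp _ _ _
        (Groth.Agent.Lib.Helper6.QSec.isIso_residueFieldMap_of_surjectiveOnStalks _ _) ?_
      exact Groth.Agent.Lib.Helper6.QSec.isIso_residueFieldMap_of_bijective _ _ hres
    rw [Scheme.residueFieldMap_comp] at h1
    haveI : IsIso (e.hom.residueFieldMap ⟨v, hvV⟩) :=
      Groth.Agent.Lib.Helper6.QSec.isIso_residueFieldMap_of_surjectiveOnStalks _ _
    exact @IsIso.of_isIso_comp_right _ _ _ _ _ _ (e.hom.residueFieldMap ⟨v, hvV⟩) this h1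
  · intro u' hu'
    have hw : e.hom.base (e.inv.base u') = u' := by
      have : (e.inv ≫ e.hom).base u' = u' := by rw [Iso.inv_hom_id]; rfl
      exact this
    have hA : ∀ w : (j ⁻¹ᵁ U).toScheme,
        (pullback.fst (U.ι ≫ pullback.fst f g) i ≫ U.ι ≫ pullback.snd f g).base (e.hom.base w) =
          (pullback.snd (i ≫ f) g).base w.1 := by
      intro w
      have : (pullback.fst (U.ι ≫ pullback.fst f g) i ≫ U.ι ≫ pullback.snd f g).base
          (e.hom.base w) = (e.hom ≫ (pullback.fst (U.ι ≫ pullback.fst f g) i ≫ U.ι ≫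
            pullback.snd f g)).base w := rfl
      rw [this, he3]
      rfl
    rw [← hw, hA, hA] at hu'
    have hv' : (pullback.snd (i ≫ f) g).base (e.inv.base u').1 = t := hu'.trans hsnd
    have := huniq _ (e.inv.base u').2 hv'
    rw [← hw]
    congr 1
    exact Subtype.ext this

end Groth.Agent.S14078
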