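import Groth.Statements.S14080
import Mathlib

set_option autoImplicit false
universe u
open ArSing

namespace Groth.Agent.S14080
section Aux
open PowerSeries

variable {k : Type u} [Field k]

lemma alg_C (α : PowerSeries k →ₐ[k] PowerSeries k) (a : k) : α (C a) = C a := by
  have := α.commutes a
  simpa [PowerSeries.algebraMap_apply] using this

lemma dvd_sub_of_dvd (α : PowerSeries k →ₐ[k] PowerSeries k) (hα : X ∣ α X) (N : ℕ)
    (f f' : PowerSeries k) (h : X ^ N ∣ f - f') : X ^ N ∣ α f - α f' := by
  obtain ⟨g, hg⟩ := h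
  obtain ⟨w, hw⟩ := hα
  rw [← map_sub, hg, map_mul, map_pow, hw, mul_pow, mul_assoc]
  exact Dvd.intro _ rfl

lemma algHom_poly (α β : PowerSeries k →ₐ[k] PowerSeries k) (h : α X = β X) (P : Polynomial k) :
    α (P : PowerSeries k) = β (P : PowerSeries k) := by
  induction P using Polynomial.induction_on' with
  | add p q hp hq => rw [Polynomial.coe_add, map_add, map_add, hp, hq]
  | monomial n a =>
    rw [Polynomial.coe_monomial, PowerSeries.monomial_eq_mk, ← PowerSeries.monomial_eq_mk]
    have : PowerSeries.monomial n a = C a * X ^ n := by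
      ext m
      simp [PowerSeries.coeff_monomial, PowerSeries.coeff_X_pow, eq_comm]
    rw [this, map_mul, map_mul, map_pow, map_pow, alg_C, alg_C, h]

lemma algHom_ext' (α β : PowerSeries k →ₐ[k] PowerSeries k) (hα : X ∣ α X) (h : α X = β X) :
    α = β := by
  apply AlgHom.ext
  intro f
  ext n
  have h1 : X ^ (n + 1) ∣ f - ((trunc (n + 1) f : Polynomial k) : PowerSeries k) := by
    rw [X_pow_dvd_iff]
    intro m hm
    rw [map_sub, Polynomial.coeff_coe, coeff_trunc, if_pos hm, sub_self]
  have d1 := dvd_sub_of_dvd α hα (n + 1) _ _ h1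
  have d2 := dvd_sub_of_dvd β (h ▸ hα) (n + 1) _ _ h1
  rw [algHom_poly α β h] at d1
  have d3 : X ^ (n + 1) ∣ α f - β f := by
    have : α f - β f = (α f - β ↑(trunc (n + 1) f)) - (β f - β ↑(trunc (n + 1) f)) := by ring
    rw [this]; exact dvd_sub d1 d2
  rw [X_pow_dvd_iff] at d3
  have := d3 n (Nat.lt_succ_self n)
  rw [map_sub, sub_eq_zero] at this
  exact this

lemma constCoeff_algEquiv_X (σ : PowerSeries k ≃ₐ[k] PowerSeries k) :
    constantCoeff (σ X) = 0 := by
  by_contra h
  have h1 : IsUnit (σ (X : PowerSeries k)) :=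
    isUnit_iff_constantCoeff.2 (isUnit_iff_ne_zero.2 h)
  have h2 : IsUnit (X : PowerSeries k) := (isUnit_map_iff σ _).1 h1
  rw [isUnit_iff_constantCoeff, constantCoeff_X] at h2
  exact not_isUnit_zero h2

lemma constCoeff_algHom (α : PowerSeries k →ₐ[k] PowerSeries k) (hα : X ∣ α X)
    (f : PowerSeries k) : constantCoeff (α f) = constantCoeff f := by
  have h1 : X ^ 1 ∣ f - C (constantCoeff f) := by
    rw [pow_one, X_dvd_iff]; simp
  have h2 := dvd_sub_of_dvd α hα 1 _ _ h1
  rw [pow_one, X_dvd_iff, alg_C, map_sub, constantCoeff_C, sub_eq_zero] at h2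
  exact h2

lemma bijective_of (α : PowerSeries k →ₐ[k] PowerSeries k) (h0 : constantCoeff (α X) = 0)
    (h1 : coeff 1 (α X) = 1) : Function.Bijective α := by
  have hα : X ∣ α X := X_dvd_iff.2 h0
  obtain ⟨u, hu⟩ := hα
  have hu0 : constantCoeff u = 1 := by
    have := h1
    rw [hu, ← pow_one (X : PowerSeries k), coeff_X_pow_mul', if_pos le_rfl] at this
    simpa using this
  have hpow : ∀ N : ℕ, X ^ (N + 1) ∣ (α X) ^ N - X ^ N := by
    intro N
    have : (α X) ^ N - X ^ N = X ^ N * (u ^ N - 1) := by rw [hu]; ring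
    rw [this, pow_succ]
    apply mul_dvd_mul_left
    rw [X_dvd_iff, map_sub, map_pow, hu0, one_pow, map_one, sub_self]
  have hαX : α X ≠ 0 := by
    intro h
    rw [h] at h1
    simp at h1
  constructor
  · rw [injective_iff_map_eq_zero]
    intro f hf
    by_contra hne
    obtain ⟨g, hg⟩ := X_pow_order_dvd (φ := f)
    have hc := coeff_order hne
    generalize f.order.toNat = n at hg hc
    have hg0 : constantCoeff g ≠ 0 := by
      rw [hg, coeff_X_pow_mul', if_pos le_rfl, Nat.sub_self] at hc
      simpa using hc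
    have hαg : α g ≠ 0 := by
      intro h
      have := constCoeff_algHom α (X_dvd_iff.2 h0) g
      rw [h, map_zero] at this
      exact hg0 this.symm
    rw [hg, map_mul, map_pow] at hf
    rcases mul_eq_zero.1 hf with h | h
    · exact pow_ne_zero _ hαX h
    · exact hαg h
  · intro g
    -- successive approximation
    let P : ℕ → PowerSeries k := fun N => Nat.rec (0 : PowerSeries k)
      (fun N PN => PN + C (coeff N (g - α PN)) * X ^ N) N
    have P0 : P 0 = 0 := rfl
    have PS : ∀ N, P (N + 1) = P N + C (coeff N (g - α (P N))) * X ^ N := fun N => rfl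
    have claimA : ∀ N, X ^ N ∣ g - α (P N) := by
      intro N
      induction N with
      | zero => simp
      | succ N ih =>
        rw [PS, map_add, map_mul, map_pow, alg_C]
        set c := coeff N (g - α (P N)) with hc
        have e : g - (α (P N) + C c * (α X) ^ N) =
            ((g - α (P N)) - C c * X ^ N) - C c * ((α X) ^ N - X ^ N) := by ring
        rw [e]
        apply dvd_sub
        · rw [X_pow_dvd_iff]
          intro m hm
          rw [map_sub (coeff m), coeff_C_mul, coeff_X_pow]
          rcases Nat.lt_succ_iff_lt_or_eq.1 hm with h | h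
          · rw [if_neg (Nat.ne_of_lt h), mul_zero, sub_zero]
            exact (X_pow_dvd_iff.1 ih) m h
          · rw [h, if_pos rfl, mul_one, hc, sub_self]
        · exact Dvd.dvd.mul_left (hpow N) _
    have stab : ∀ m N, m + 1 ≤ N → coeff m (P N) = coeff m (P (m + 1)) := by
      intro m N hN
      induction N, hN using Nat.le_induction with
      | base => rfl
      | succ N hN ih =>
        rw [PS, map_add, coeff_C_mul, coeff_X_pow, if_neg (by omega), mul_zero, add_zero, ih]
    refine ⟨PowerSeries.mk (fun n => coeff n (P (n + 1))), ?_⟩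
    have claimB : ∀ N, X ^ N ∣ PowerSeries.mk (fun n => coeff n (P (n + 1))) - P N := by
      intro N
      rw [X_pow_dvd_iff]
      intro m hm
      rw [map_sub, coeff_mk, stab m N hm, sub_self]
    ext n
    have hA := claimA (n + 1)
    have hB := dvd_sub_of_dvd α (X_dvd_iff.2 h0) (n + 1) _ _ (claimB (n + 1))
    have hC : X ^ (n + 1) ∣ g - α (PowerSeries.mk (fun n => coeff n (P (n + 1)))) := by
      have e : g - α (PowerSeries.mk (fun n => coeff n (P (n + 1)))) =
          (g - α (P (n + 1))) - (α (PowerSeries.mk (fun n => coeff n (P (n + 1)))) - α (P (n + 1))) := by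
        ring
      rw [e]
      exact dvd_sub hA hB
    have := (X_pow_dvd_iff.1 hC) n (Nat.lt_succ_self n)
    rw [map_sub, sub_eq_zero] at this
    exact this.symm

end Aux

open PowerSeries

/-- Let k be a field in which 2 is invertible and σ an involutive k-algebra automorphism of the power
series ring k[[t]], with ξ the coefficient of t in σ(t). Then ξ^2 = 1, the k-algebra endomorphism φ
with φ(t) = (t + ξ σ(t))/2 is an automorphism, and φ⁻¹ σ φ is the automorphism t ↦ ξ t. (The
published statement is over an algebraically closed field of characteristic prime to 2; only the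
invertibility of 2 is used, so any field with 2 ≠ 0 is allowed here.) -/
theorem result (k : Type u) [Field k] (h2 : (2 : k) ≠ 0)
    (σ : PowerSeries k ≃ₐ[k] PowerSeries k) (hσ : ∀ f, σ (σ f) = f) :
    (PowerSeries.coeff 1 (σ PowerSeries.X)) ^ 2 = 1 ∧
    ∃ φ : PowerSeries k ≃ₐ[k] PowerSeries k,
      φ PowerSeries.X = PowerSeries.C (2⁻¹ : k) *
        (PowerSeries.X + PowerSeries.C (PowerSeries.coeff 1 (σ PowerSeries.X)) * σ PowerSeries.X) ∧
      ∀ f, φ.symm (σ (φ f)) = PowerSeries.rescale (PowerSeries.coeff 1 (σ PowerSeries.X)) f := by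
  classical
  set ξ : k := coeff 1 (σ X) with hξ
  have hs0 : constantCoeff (σ (X : PowerSeries k)) = 0 := constCoeff_algEquiv_X σ
  have hXσ : (X : PowerSeries k) ∣ σ X := X_dvd_iff.2 hs0
  -- ξ^2 = 1
  have hξ2 : ξ ^ 2 = 1 := by
    have hd : (X : PowerSeries k) ^ 2 ∣ σ X - C ξ * X := by
      rw [X_pow_dvd_iff]
      intro m hm
      interval_cases m
      · rw [map_sub, coeff_zero_eq_constantCoeff_apply, coeff_zero_eq_constantCoeff_apply, hs0]
        simp
      · rw [map_sub, coeff_C_mul, coeff_one_X, mul_one, hξ, sub_self]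
    obtain ⟨h, hh⟩ := hd
    have e1 : σ X = C ξ * X + X ^ 2 * h := by rw [← hh]; ring
    have e2 : (X : PowerSeries k) = C ξ * σ X + (σ X) ^ 2 * σ h := by
      have := congrArg σ e1
      rw [hσ, map_add, map_mul, map_mul, map_pow] at this
      have hC : σ (C ξ) = C ξ := alg_C (σ : PowerSeries k →ₐ[k] PowerSeries k) ξ
      rw [hC] at this
      exact this
    obtain ⟨w, hw⟩ := hXσ
    have e3 := congrArg (coeff 1) e2
    rw [coeff_one_X, map_add, coeff_C_mul, ← hξ] at e3
    have e4 : coeff 1 ((σ X) ^ 2 * σ h) = 0 := by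
      rw [hw, mul_pow, mul_assoc, coeff_X_pow_mul', if_neg (by norm_num)]
    rw [e4, add_zero] at e3
    rw [pow_two]; exact e3.symm
  refine ⟨hξ2, ?_⟩
  set s : PowerSeries k := C (2⁻¹ : k) * (X + C ξ * σ X) with hs
  have hs_c : constantCoeff s = 0 := by
    rw [hs, map_mul, map_add, map_mul, hs0, constantCoeff_X]
    simp
  have hs_1 : coeff 1 s = 1 := by
    rw [hs, coeff_C_mul, map_add, coeff_C_mul, coeff_one_X, ← hξ, ← pow_two, hξ2]
    rw [show (1 : k) + 1 = 2 by norm_num]
    exact inv_mul_cancel₀ h2
  set φ₀ : PowerSeries k →ₐ[k] PowerSeries k :=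
    PowerSeries.substAlgHom (HasSubst.of_constantCoeff_zero' hs_c) with hφ₀
  have hφX : φ₀ X = s := PowerSeries.substAlgHom_X _
  have hbij : Function.Bijective φ₀ := bijective_of φ₀ (by rw [hφX]; exact hs_c)
    (by rw [hφX]; exact hs_1)
  refine ⟨AlgEquiv.ofBijective φ₀ hbij, ?_, ?_⟩
  · rw [AlgEquiv.ofBijective_apply]; exact hφX
  · intro f
    rw [AlgEquiv.symm_apply_eq, AlgEquiv.ofBijective_apply, AlgEquiv.ofBijective_apply]
    have key : ((σ : PowerSeries k →ₐ[k] PowerSeries k).comp φ₀) =
        φ₀.comp (PowerSeries.rescaleAlgHom ξ) := by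
      have hX1 : ((σ : PowerSeries k →ₐ[k] PowerSeries k).comp φ₀) X =
          C (2⁻¹ : k) * (σ X + C ξ * X) := by
        rw [AlgHom.comp_apply, hφX, hs]
        show σ _ = _
        rw [map_mul, map_add, map_mul, hσ]
        congr 1
        · exact alg_C (σ : PowerSeries k →ₐ[k] PowerSeries k) _
        · congr 2
          exact alg_C (σ : PowerSeries k →ₐ[k] PowerSeries k) _
      apply algHom_ext'
      · rw [hX1]
        apply Dvd.dvd.mul_left
        exact dvd_add hXσ (Dvd.intro_left _ rfl)
      · rw [hX1, AlgHom.comp_apply]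
        have : (PowerSeries.rescaleAlgHom ξ) (X : PowerSeries k) = C ξ * X := by
          have := RingHom.congr_fun (PowerSeries.coe_rescaleAlgHom ξ) (X : PowerSeries k)
          rw [rescale_X] at this
          exact this
        rw [this, map_mul, alg_C, hφX, hs]
        have hCC : (C ξ : PowerSeries k) * C ξ = 1 := by
          rw [← map_mul, ← pow_two, hξ2, map_one]
        calc C (2⁻¹ : k) * (σ X + C ξ * X)
            = C (2⁻¹ : k) * ((C ξ * C ξ) * σ X + C ξ * X) := by rw [hCC, one_mul]
          _ = C ξ * (C (2⁻¹ : k) * (X + C ξ * σ X)) := by ring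
    have := DFunLike.congr_fun key f
    rw [AlgHom.comp_apply, AlgHom.comp_apply] at this
    have h3 : (PowerSeries.rescaleAlgHom ξ) f = rescale ξ f :=
      RingHom.congr_fun (PowerSeries.coe_rescaleAlgHom ξ) f
    rw [h3] at this
    exact this

end Groth.Agent.S14080
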