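import Groth.Statements.S14085
import Groth.Agent.Lib.Helper22.FlatKer
import Mathlib.RingTheory.Flat.Stability

set_option autoImplicit false
universe u
open FlatMor

namespace Groth.Agent.S14085

/-- Let R be a ring, A and B flat R-algebras, I an ideal of A and B → A/I an injective finite flat map
of R-algebras. Then the fibre product ring B ×_{A/I} A, realised as the subalgebra of B × A of pairs
with equal image in A/I, is flat over R. (This is the affine statement behind flatness over the base
of the pushout of a closed immersion along a finite flat morphism.) -/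
theorem result (R A B : Type u) [CommRing R] [CommRing A] [CommRing B]
    [Algebra R A] [Algebra R B] [Module.Flat R A] [Module.Flat R B] (I : Ideal A)
    [Algebra B (A ⧸ I)] [IsScalarTower R B (A ⧸ I)] [Module.Finite B (A ⧸ I)] [Module.Flat B (A ⧸ I)]
    (hinj : Function.Injective (algebraMap B (A ⧸ I))) :
    Module.Flat R ↥(AlgHom.equalizer ((IsScalarTower.toAlgHom R B (A ⧸ I)).comp (AlgHom.fst R B A))
          ((Ideal.Quotient.mkₐ R I).comp (AlgHom.snd R B A))) := by
  classical
  have : Module.Flat R (A ⧸ I) := Module.Flat.trans R B (A ⧸ I)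
  have : Module.Flat R (B × A) := Groth.Agent.Lib.Helper22.flat_prod R B A
  set φ : B × A →ₐ[R] A ⧸ I := (IsScalarTower.toAlgHom R B (A ⧸ I)).comp (AlgHom.fst R B A) with hφ
  set ψ : B × A →ₐ[R] A ⧸ I := (Ideal.Quotient.mkₐ R I).comp (AlgHom.snd R B A) with hψ
  let g : ↥(AlgHom.equalizer φ ψ) →ₗ[R] B × A := (AlgHom.equalizer φ ψ).val.toLinearMap
  let f : B × A →ₗ[R] A ⧸ I := φ.toLinearMap - ψ.toLinearMap
  have hg : Function.Injective g := Subtype.val_injective
  have hf : Function.Surjective f := by
    intro c
    obtain ⟨a, rfl⟩ := Ideal.Quotient.mk_surjective c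
    refine ⟨(0, -a), ?_⟩
    simp [f, hφ, hψ]
  have H : Function.Exact g f := by
    intro x
    constructor
    · intro hx
      have hx' : φ x = ψ x := by
        have : φ x - ψ x = 0 := hx
        exact sub_eq_zero.mp this
      exact ⟨⟨x, hx'⟩, rfl⟩
    · rintro ⟨⟨y, hy⟩, rfl⟩
      have hy' : φ y = ψ y := hy
      change φ y - ψ y = 0
      rw [hy', sub_self]
  exact Groth.Agent.Lib.Helper22.flat_of_exact_of_flat g f hg hf H

end Groth.Agent.S14085
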