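import Groth.Statements.S14086
import Groth.Agent.Lib.Helper22.FlatKer
import Groth.Agent.Lib.Helper22.PureFF
import Mathlib.RingTheory.Flat.Stability

set_option autoImplicit false
universe u
open FlatMor

namespace Groth.Agent.S14086

open TensorProduct in
theorem map_id_eq_lTensor {R R' X Y : Type*} [CommRing R] [CommRing R'] [Algebra R R']
    [CommRing X] [CommRing Y] [Algebra R X] [Algebra R Y] (u : X →ₐ[R] Y) (x : R' ⊗[R] X) :
    Algebra.TensorProduct.map (AlgHom.id R' R') u x = u.toLinearMap.lTensor R' x := by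
  induction x using TensorProduct.induction_on with
  | zero => simp
  | tmul r x => simp
  | add x y hx hy => rw [map_add, map_add, hx, hy]

/-- Let R be a ring, A and B flat R-algebras, I an ideal of A, B → A/I an injective finite flat map of
R-algebras and P = B ×_{A/I} A the fibre product ring (pairs in B × A with equal image in A/I). For
any R-algebra R' the base change R' ⊗_R P maps injectively to R' ⊗_R A, and any b' in R' ⊗_R B and
a' in R' ⊗_R A with the same image in R' ⊗_R (A/I) are the two components of some element of R' ⊗_R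
P; that is, R' ⊗_R P is the fibre product of R' ⊗_R B and R' ⊗_R A over R' ⊗_R (A/I). -/
theorem result (R A B R' : Type u) [CommRing R] [CommRing A]
    [CommRing B] [CommRing R'] [Algebra R A] [Algebra R B] [Algebra R R'] [Module.Flat R A] [Module.Flat R B]
    (I : Ideal A) [Algebra B (A ⧸ I)] [IsScalarTower R B (A ⧸ I)] [Module.Finite B (A ⧸ I)] [Module.Flat B (A ⧸ I)]
    (hinj : Function.Injective (algebraMap B (A ⧸ I))) :
    Function.Injective (Algebra.TensorProduct.map (AlgHom.id R' R')
        ((AlgHom.snd R B A).comp (AlgHom.equalizer ((IsScalarTower.toAlgHom R B (A ⧸ I)).comp (AlgHom.fst R B A))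
          ((Ideal.Quotient.mkₐ R I).comp (AlgHom.snd R B A))).val)) ∧
    ∀ (b : TensorProduct R R' B) (a : TensorProduct R R' A),
      Algebra.TensorProduct.map (AlgHom.id R' R') (IsScalarTower.toAlgHom R B (A ⧸ I)) b =
        Algebra.TensorProduct.map (AlgHom.id R' R') (Ideal.Quotient.mkₐ R I) a →
      ∃ x : TensorProduct R R' ↥(AlgHom.equalizer ((IsScalarTower.toAlgHom R B (A ⧸ I)).comp (AlgHom.fst R B A))
          ((Ideal.Quotient.mkₐ R I).comp (AlgHom.snd R B A))),
        Algebra.TensorProduct.map (AlgHom.id R' R') ((AlgHom.fst R B A).comp (AlgHom.equalizer ((IsScalarTower.toAlgHom R B (A ⧸ I)).comp (AlgHom.fst R B A))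
          ((Ideal.Quotient.mkₐ R I).comp (AlgHom.snd R B A))).val) x = b ∧
        Algebra.TensorProduct.map (AlgHom.id R' R') ((AlgHom.snd R B A).comp (AlgHom.equalizer ((IsScalarTower.toAlgHom R B (A ⧸ I)).comp (AlgHom.fst R B A))
          ((Ideal.Quotient.mkₐ R I).comp (AlgHom.snd R B A))).val) x = a := by
  classical
  have : Module.Flat R (A ⧸ I) := Module.Flat.trans R B (A ⧸ I)
  have : Algebra.IsIntegral B (A ⧸ I) := Algebra.IsIntegral.of_finite B (A ⧸ I)
  have : Module.FaithfullyFlat B (A ⧸ I) :=
    Groth.Agent.Lib.Helper22.faithfullyFlat_of_isIntegral_of_injective B (A ⧸ I) hinj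
  set β : B →ₐ[R] A ⧸ I := IsScalarTower.toAlgHom R B (A ⧸ I) with hβ
  set π : A →ₐ[R] A ⧸ I := Ideal.Quotient.mkₐ R I with hπ
  set φ : B × A →ₐ[R] A ⧸ I := β.comp (AlgHom.fst R B A) with hφ
  set ψ : B × A →ₐ[R] A ⧸ I := π.comp (AlgHom.snd R B A) with hψ
  let g : ↥(AlgHom.equalizer φ ψ) →ₗ[R] B × A := (AlgHom.equalizer φ ψ).val.toLinearMap
  let f : B × A →ₗ[R] A ⧸ I := φ.toLinearMap - ψ.toLinearMap
  have hg : Function.Injective g := Subtype.val_injective
  have hf : Function.Surjective f := by
    intro c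
    obtain ⟨a, rfl⟩ := Ideal.Quotient.mk_surjective c
    refine ⟨(0, -a), ?_⟩
    simp [f, hφ, hψ, hπ]
  have H : Function.Exact g f := by
    intro x
    constructor
    · intro hx
      have hx' : φ x = ψ x := by
        have : φ x - ψ x = 0 := hx
        exact sub_eq_zero.mp this
      exact ⟨⟨x, hx'⟩, rfl⟩
    · rintro ⟨⟨y, hy⟩, rfl⟩
      have hy' : φ y = ψ y := hy
      change φ y - ψ y = 0
      rw [hy', sub_self]
  have hex : Function.Exact (g.lTensor R') (f.lTensor R') := lTensor_exact R' H hf
  have hginj : Function.Injective (g.lTensor R') :=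
    LinearMap.lTensor_injective_of_exact_of_flat f hf g hg H R'
  have hβinj : Function.Injective (β.toLinearMap.lTensor R') :=
    Groth.Agent.Lib.Helper22.lTensor_injective_of_faithfullyFlat R B (A ⧸ I) R'
  -- linear algebra of the product
  have c1 : f ∘ₗ LinearMap.inl R B A = β.toLinearMap := by
    ext b; simp [f, hφ, hψ]
  have c2 : f ∘ₗ LinearMap.inr R B A = -π.toLinearMap := by
    ext a; simp [f, hφ, hψ]
  have c3 : ((AlgHom.fst R B A).comp (AlgHom.equalizer φ ψ).val).toLinearMap =
      LinearMap.fst R B A ∘ₗ g := rfl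
  have c4 : ((AlgHom.snd R B A).comp (AlgHom.equalizer φ ψ).val).toLinearMap =
      LinearMap.snd R B A ∘ₗ g := rfl
  have c5 : LinearMap.inl R B A ∘ₗ LinearMap.fst R B A + LinearMap.inr R B A ∘ₗ LinearMap.snd R B A =
      LinearMap.id := by
    ext x <;> simp
  constructor
  · rw [injective_iff_map_eq_zero]
    intro x hx0
    rw [map_id_eq_lTensor, c4, LinearMap.lTensor_comp_apply] at hx0
    set z := g.lTensor R' x with hz
    have hz1 : z = (LinearMap.inl R B A).lTensor R' ((LinearMap.fst R B A).lTensor R' z) := by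
      have : z = (LinearMap.id : B × A →ₗ[R] B × A).lTensor R' z := by
        rw [LinearMap.lTensor_id]; rfl
      rw [← c5, LinearMap.lTensor_add, LinearMap.add_apply, LinearMap.lTensor_comp_apply,
        LinearMap.lTensor_comp_apply, hx0, map_zero, add_zero] at this
      exact this
    have hz2 : f.lTensor R' z = 0 := hex.apply_apply_eq_zero x
    rw [hz1, ← LinearMap.lTensor_comp_apply, c1] at hz2
    have hb : (LinearMap.fst R B A).lTensor R' z = 0 := hβinj (by rw [hz2, map_zero])
    rw [hb, map_zero] at hz1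
    exact hginj (by rw [← hz, hz1, map_zero])
  · intro b a hba
    rw [map_id_eq_lTensor, map_id_eq_lTensor] at hba
    set z := (LinearMap.inl R B A).lTensor R' b + (LinearMap.inr R B A).lTensor R' a with hz
    have hz0 : f.lTensor R' z = 0 := by
      rw [hz, map_add, ← LinearMap.lTensor_comp_apply, ← LinearMap.lTensor_comp_apply, c1, c2,
        LinearMap.lTensor_neg, LinearMap.neg_apply, hba, add_neg_cancel]
    obtain ⟨x, hx⟩ := (hex z).mp hz0
    refine ⟨x, ?_, ?_⟩
    · rw [map_id_eq_lTensor, c3, LinearMap.lTensor_comp_apply, hx, hz, map_add,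
        ← LinearMap.lTensor_comp_apply, ← LinearMap.lTensor_comp_apply]
      have e1 : LinearMap.fst R B A ∘ₗ LinearMap.inl R B A = LinearMap.id := by ext; simp
      have e2 : LinearMap.fst R B A ∘ₗ LinearMap.inr R B A = 0 := by ext; simp
      rw [e1, e2, LinearMap.lTensor_id, LinearMap.lTensor_zero]
      simp
    · rw [map_id_eq_lTensor, c4, LinearMap.lTensor_comp_apply, hx, hz, map_add,
        ← LinearMap.lTensor_comp_apply, ← LinearMap.lTensor_comp_apply]
      have e1 : LinearMap.snd R B A ∘ₗ LinearMap.inl R B A = 0 := by ext; simp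
      have e2 : LinearMap.snd R B A ∘ₗ LinearMap.inr R B A = LinearMap.id := by ext; simp
      rw [e1, e2, LinearMap.lTensor_id, LinearMap.lTensor_zero]
      simp

end Groth.Agent.S14086
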