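import Groth.Statements.S14091
import Mathlib.RingTheory.Artinian.Ring
import Mathlib.RingTheory.Artinian.Algebra
import Mathlib.RingTheory.AdjoinRoot
import Mathlib.RingTheory.FiniteType
import Mathlib.RingTheory.Polynomial.Basic

set_option autoImplicit false
universe u
open ArSing

namespace Groth.Agent.S14091

open Polynomial in
/-- Over an algebraically closed field k, a finite local k-algebra B whose cotangent space m/m^2 has
dimension at most one over the residue field is isomorphic, as a k-algebra, to k[t]/(t^n) with n =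
dim_k B (curvilinear pointed algebras of degree n have a single isomorphism class). -/
theorem result (k B : Type u) [Field k] [IsAlgClosed k]
    [CommRing B] [IsLocalRing B] [Algebra k B] [Module.Finite k B]
    (hcurv : Module.finrank (IsLocalRing.ResidueField B) (IsLocalRing.CotangentSpace B) ≤ 1) :
    Nonempty (B ≃ₐ[k] (Polynomial k ⧸ Ideal.span {(X : Polynomial k) ^ Module.finrank k B})) := by
  open IsLocalRing in
  have hNoeth : IsNoetherianRing B := Algebra.FiniteType.isNoetherianRing k B
  have hArt : IsArtinianRing B := IsArtinianRing.of_finite k B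
  -- the maximal ideal is principal
  obtain ⟨t, ht⟩ := (finrank_cotangentSpace_le_one_iff.mp hcurv).principal
  -- t nilpotent
  obtain ⟨N, hN⟩ : ∃ N : ℕ, t ^ N = 0 := by
    obtain ⟨N, hN⟩ := IsArtinianRing.isNilpotent_jacobson_bot (R := B)
    refine ⟨N, ?_⟩
    rw [IsLocalRing.jacobson_eq_maximalIdeal ⊥ bot_ne_top] at hN
    have : t ^ N ∈ maximalIdeal B ^ N := Ideal.pow_mem_pow (by rw [ht]; exact Submodule.mem_span_singleton_self t) N
    rw [hN] at this
    simpa using this
  -- residue field is k
  have hres : ∀ b : B, ∃ c : k, b - algebraMap k B c ∈ maximalIdeal B := by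
    intro b
    have : Algebra.IsIntegral k (ResidueField B) := inferInstance
    obtain ⟨c, hc⟩ := (IsAlgClosed.algebraMap_bijective_of_isIntegral (k := k) (K := ResidueField B)).2 (residue B b)
    refine ⟨c, ?_⟩
    rw [← Ideal.Quotient.eq_zero_iff_mem, map_sub, sub_eq_zero]
    have h1 : algebraMap k (ResidueField B) c = residue B (algebraMap k B c) :=
      IsScalarTower.algebraMap_apply k B (ResidueField B) c
    rw [h1] at hc
    exact hc.symm
  let φ : k[X] →ₐ[k] B := aeval t
  have hsurj : Function.Surjective φ := by
    have key : ∀ j : ℕ, ∀ b : B, ∃ p : k[X], ∃ b' : B, b = φ p + t ^ j * b' := by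
      intro j
      induction j with
      | zero => intro b; exact ⟨0, b, by simp⟩
      | succ j ih =>
        intro b
        obtain ⟨p, b', hb⟩ := ih b
        obtain ⟨c, hc⟩ := hres b'
        rw [ht] at hc
        change b' - algebraMap k B c ∈ Ideal.span {t} at hc
        rw [Ideal.mem_span_singleton'] at hc
        obtain ⟨b'', hb''⟩ := hc
        refine ⟨p + C c * X ^ j, b'', ?_⟩
        have : b' = algebraMap k B c + b'' * t := by rw [hb'']; ring
        rw [hb, this]
        simp only [φ, map_add, map_mul, aeval_C, map_pow, aeval_X]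
        ring
    intro b
    obtain ⟨p, b', hb⟩ := key N b
    exact ⟨p, by rw [hb, hN, zero_mul, add_zero]⟩
  have hXN : X ^ N ∈ RingHom.ker φ := by
    rw [RingHom.mem_ker]
    simp only [φ, map_pow, aeval_X, hN]
  obtain ⟨g, hg⟩ : ∃ g, RingHom.ker φ = Ideal.span {g} :=
    (IsPrincipalIdealRing.principal (RingHom.ker φ)).principal
  have hgdvd : g ∣ X ^ N := by rw [← Ideal.mem_span_singleton, ← hg]; exact hXN
  obtain ⟨n, hn, hassoc⟩ := (dvd_prime_pow Polynomial.prime_X N).mp hgdvd
  have hker : RingHom.ker φ = Ideal.span {X ^ n} := by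
    rw [hg]; exact Ideal.span_singleton_eq_span_singleton.mpr hassoc
  let e : (k[X] ⧸ Ideal.span {(X : k[X]) ^ n}) ≃ₐ[k] B :=
    (Ideal.quotientEquivAlgOfEq k hker.symm).trans (Ideal.quotientKerAlgEquivOfSurjective hsurj)
  have hfin : Module.finrank k B = n := by
    rw [← LinearEquiv.finrank_eq e.toLinearEquiv, finrank_quotient_span_eq_natDegree,
      natDegree_X_pow]
  rw [hfin]
  exact ⟨e.symm⟩

end Groth.Agent.S14091
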