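import Groth.Statements.S14087
import Mathlib
import Groth.Agent.S14091

set_option autoImplicit false
universe u
open ArSing

namespace Groth.Agent.S14087


open Polynomial

open Polynomial in
/-- Over an algebraically closed field k, if B = k[t]/(t^n) with n ≥ 1 is flat over a k-subalgebra A ⊆ B
(a finite flat extension of pointed finite algebras with curvilinear top), then A is curvilinear
too: A is isomorphic as a k-algebra to k[t]/(t^m) for some m. -/
theorem result (k : Type u) [Field k] [IsAlgClosed k]
    (n : ℕ) (hn : 0 < n)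
    (A : Subalgebra k (Polynomial k ⧸ Ideal.span {(X : Polynomial k) ^ n}))
    [Module.Flat A (Polynomial k ⧸ Ideal.span {(X : Polynomial k) ^ n})] :
    ∃ m : ℕ, Nonempty (A ≃ₐ[k] (Polynomial k ⧸ Ideal.span {(X : Polynomial k) ^ m})) := by
  classical
  -- notation
  have hmonic : ((X : Polynomial k) ^ n).Monic := monic_X_pow n
  haveI : Module.Finite k (Polynomial k ⧸ Ideal.span {(X : Polynomial k) ^ n}) :=
    hmonic.finite_quotient
  set B := Polynomial k ⧸ Ideal.span {(X : Polynomial k) ^ n} with hB
  let t : B := Ideal.Quotient.mk _ X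
  have htn : t ^ n = 0 := by
    change Ideal.Quotient.mk _ X ^ n = 0
    rw [← map_pow]
    exact Ideal.Quotient.eq_zero_iff_mem.mpr (Ideal.subset_span rfl)
  -- the augmentation
  let ε : B →ₐ[k] k := Ideal.Quotient.liftₐ (Ideal.span {(X : Polynomial k) ^ n})
    (aeval (0 : k)) (by
      intro p hp
      rw [Ideal.mem_span_singleton] at hp
      obtain ⟨q, rfl⟩ := hp
      rw [map_mul, map_pow, aeval_X, zero_pow hn.ne', zero_mul])
  have hεmk : ∀ p : Polynomial k, ε (Ideal.Quotient.mk _ p) = p.eval 0 := by
    intro p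
    change aeval (0 : k) p = p.eval 0
    rw [coe_aeval_eq_eval]
  haveI : Nontrivial B := ε.toRingHom.domain_nontrivial
  -- elements of the augmentation ideal are multiples of t
  have hker : ∀ b : B, ε b = 0 → ∃ b' : B, b = t * b' := by
    intro b hb
    obtain ⟨p, rfl⟩ := Ideal.Quotient.mk_surjective b
    rw [hεmk] at hb
    have : X ∣ p := by
      rw [X_dvd_iff, coeff_zero_eq_eval_zero]
      exact hb
    obtain ⟨q, rfl⟩ := this
    exact ⟨Ideal.Quotient.mk _ q, by rw [map_mul]⟩
  have hnil : ∀ b : B, ε b = 0 → IsNilpotent b := by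
    intro b hb
    obtain ⟨b', rfl⟩ := hker b hb
    exact ⟨n, by rw [mul_pow, htn, zero_mul]⟩
  have hunitB : ∀ b : B, ε b ≠ 0 → IsUnit b := by
    intro b hb
    have h1 : IsNilpotent (algebraMap k B (ε b)⁻¹ * b - 1) := by
      apply hnil
      rw [map_sub, map_mul, map_one, AlgHom.commutes, Algebra.algebraMap_self_apply,
        inv_mul_cancel₀ hb, sub_self]
    have h2 : IsUnit (algebraMap k B (ε b)⁻¹ * b) := by
      have := h1.isUnit_add_one
      rwa [sub_add_cancel] at this
    exact isUnit_of_mul_isUnit_right h2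
  -- units of A
  have hAinj : Function.Injective (algebraMap A B) := Subtype.val_injective
  have hnilA : ∀ a : A, ε (a : B) = 0 → IsNilpotent a := by
    intro a ha
    obtain ⟨N, hN⟩ := hnil (a : B) ha
    exact ⟨N, Subtype.ext (by rw [SubmonoidClass.coe_pow, hN]; rfl)⟩
  have hunitA : ∀ a : A, ε (a : B) ≠ 0 → IsUnit a := by
    intro a ha
    have h1 : IsNilpotent (algebraMap k A (ε (a : B))⁻¹ * a - 1) := by
      apply hnilA
      change ε ((algebraMap k B (ε (a : B))⁻¹) * (a : B) - 1) = 0
      rw [map_sub, map_mul, map_one, AlgHom.commutes, Algebra.algebraMap_self_apply,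
        inv_mul_cancel₀ ha, sub_self]
    have h2 : IsUnit (algebraMap k A (ε (a : B))⁻¹ * a) := by
      have := h1.isUnit_add_one
      rwa [sub_add_cancel] at this
    exact isUnit_of_mul_isUnit_right h2
  haveI : Nontrivial A := (algebraMap A B).domain_nontrivial
  haveI : IsLocalRing A := by
    refine IsLocalRing.of_isUnit_or_isUnit_one_sub_self (fun a => ?_)
    by_cases ha : ε (a : B) = 0
    · right
      apply hunitA
      change ε ((1 : B) - (a : B)) ≠ 0
      rw [map_sub, map_one, ha, sub_zero]
      exact one_ne_zero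
    · exact Or.inl (hunitA a ha)
  have hmax : ∀ a : A, a ∈ IsLocalRing.maximalIdeal A ↔ ε (a : B) = 0 := by
    intro a
    rw [IsLocalRing.mem_maximalIdeal, mem_nonunits_iff]
    constructor
    · intro h
      by_contra h'
      exact h (hunitA a h')
    · intro h hu
      exact (hnilA a h).not_isUnit hu
  haveI : Module.Finite k A := inferInstance
  haveI : IsNoetherianRing A := Algebra.FiniteType.isNoetherianRing k A
  haveI : Module.Finite A B := Module.Finite.of_restrictScalars_finite k A B
  haveI : Module.Free A B := Module.free_of_flat_of_isLocalRing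
  let bas := Module.Free.chooseBasis A B
  haveI : Nonempty (Module.Free.ChooseBasisIndex A B) := bas.index_nonempty
  let i₀ : Module.Free.ChooseBasisIndex A B := Classical.arbitrary _
  -- a generator of the extended maximal ideal lying in m_A
  have hx : ∃ x : A, x ∈ IsLocalRing.maximalIdeal A ∧
      ∀ y ∈ IsLocalRing.maximalIdeal A, ((y : A) : B) ∈ Ideal.span {((x : A) : B)} := by
    by_cases h0 : ∀ y ∈ IsLocalRing.maximalIdeal A, y = 0
    · exact ⟨0, Ideal.zero_mem _, fun y hy => by rw [h0 y hy]; exact Ideal.zero_mem _⟩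
    push_neg at h0
    have hex : ∃ j : ℕ, ∃ y ∈ IsLocalRing.maximalIdeal A, y ≠ 0 ∧
        ((y : A) : B) ∉ Ideal.span {t ^ j} := by
      obtain ⟨y, hy, hy0⟩ := h0
      refine ⟨n, y, hy, hy0, ?_⟩
      rw [htn, Ideal.span_singleton_zero, Ideal.mem_bot]
      intro h
      exact hy0 (Subtype.ext h)
    obtain ⟨x, hxm, hx0, hxj⟩ := Nat.find_spec hex
    have hmin : ∀ j < Nat.find hex, ∀ y ∈ IsLocalRing.maximalIdeal A, y ≠ 0 →
        ((y : A) : B) ∈ Ideal.span {t ^ j} := by
      intro j hj y hy hy0
      by_contra hcon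
      exact Nat.find_min hex hj ⟨y, hy, hy0, hcon⟩
    have hj1 : 1 ≤ Nat.find hex := by
      by_contra hlt
      have h0' : Nat.find hex = 0 := by omega
      rw [h0', pow_zero, Ideal.span_singleton_one] at hxj
      exact hxj trivial
    obtain ⟨j, hj⟩ : ∃ j, Nat.find hex = j + 1 := ⟨Nat.find hex - 1, by omega⟩
    rw [hj] at hxj
    have hxmem := hmin j (by omega) x hxm hx0
    rw [Ideal.mem_span_singleton'] at hxmem
    obtain ⟨c, hc⟩ := hxmem
    have hcunit : IsUnit c := by
      apply hunitB
      intro hc0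
      obtain ⟨c', rfl⟩ := hker c hc0
      apply hxj
      rw [Ideal.mem_span_singleton']
      exact ⟨c', by rw [← hc, pow_succ]; ring⟩
    obtain ⟨c', hc'⟩ := hcunit.exists_right_inv
    refine ⟨x, hxm, fun y hy => ?_⟩
    by_cases hy0 : y = 0
    · rw [hy0]; exact Ideal.zero_mem _
    have hymem := hmin j (by omega) y hy hy0
    rw [Ideal.mem_span_singleton'] at hymem ⊢
    obtain ⟨d, hd⟩ := hymem
    refine ⟨d * c', ?_⟩
    rw [← hd, ← hc]
    linear_combination (d * t ^ j) * hc'
  obtain ⟨x, hxm, hxgen⟩ := hx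
  have hprinc : IsLocalRing.maximalIdeal A = Ideal.span {x} := by
    apply le_antisymm
    · intro y hy
      have h1 := hxgen y hy
      rw [Ideal.mem_span_singleton'] at h1
      obtain ⟨β, hβ⟩ := h1
      have h2 : y • bas i₀ = x • (β * bas i₀) := by
        change (y : B) * bas i₀ = (x : B) * (β * bas i₀)
        rw [← hβ]; ring
      have h3 := congrArg (fun z => bas.repr z i₀) h2
      simp only [map_smul, Finsupp.smul_apply, smul_eq_mul, Module.Basis.repr_self,
        Finsupp.single_eq_same, mul_one] at h3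
      rw [Ideal.mem_span_singleton']
      exact ⟨bas.repr (β * bas i₀) i₀, by rw [h3]; ring⟩
    · rw [Ideal.span_le]
      rintro z rfl
      exact hxm
  have hcurv : Module.finrank (IsLocalRing.ResidueField A) (IsLocalRing.CotangentSpace A) ≤ 1 :=
    IsLocalRing.finrank_cotangentSpace_le_one_iff.mpr ⟨⟨x, hprinc⟩⟩
  exact ⟨Module.finrank k A, Groth.Agent.S14091.result k A hcurv⟩

end Groth.Agent.S14087
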