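import Groth.Statements.S14088
import Mathlib.Tactic.Ring
import Mathlib.Tactic.Linarith
import Mathlib.Data.Nat.Choose.Basic
import Mathlib.Data.Nat.Choose.Cast
import Mathlib.Algebra.BigOperators.Intervals
import Mathlib.Algebra.BigOperators.Ring.Finset

set_option autoImplicit false
universe u
open ArSing

namespace Groth.Agent.S14088

/-- `C(m,k) * (m - k) = (k+1) * C(m,k+1)` in any commutative ring (true subtraction). -/
theorem choose_mul_sub (A : Type u) [CommRing A] (m k : ℕ) :
    (Nat.choose m k : A) * ((m : A) - k) = ((k : A) + 1) * (Nat.choose m (k + 1) : A) := by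
  by_cases hk : k ≤ m
  · have h := Nat.choose_succ_right_eq m k
    have h' : ((Nat.choose m (k + 1) * (k + 1) : ℕ) : A) = ((Nat.choose m k * (m - k) : ℕ) : A) := by
      rw [h]
    rw [Nat.cast_mul, Nat.cast_mul, Nat.cast_sub hk] at h'
    push_cast at h'
    rw [← h']; ring
  · have h1 : Nat.choose m k = 0 := Nat.choose_eq_zero_of_lt (by omega)
    have h2 : Nat.choose m (k + 1) = 0 := Nat.choose_eq_zero_of_lt (by omega)
    rw [h1, h2]; simp

/-- The product formula for the rising products `P j = ∏_{i<j} (h + i τ)`. -/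
theorem key (A : Type u) [CommRing A] (h τ : A) (m : ℕ) : ∀ n : ℕ,
    (∏ i ∈ Finset.range n, (h + (i : A) * τ)) * ∏ i ∈ Finset.range m, (h + (i : A) * τ) =
      ∑ s ∈ Finset.range (n + 1), (-1 : A) ^ s * (Nat.factorial s : A) * (Nat.choose n s : A) *
        (Nat.choose m s : A) * τ ^ s * ∏ i ∈ Finset.range (m + n - s), (h + (i : A) * τ) := by
  intro n
  induction n with
  | zero => simp
  | succ n ih =>
    set P : ℕ → A := fun j => ∏ i ∈ Finset.range j, (h + (i : A) * τ) with hP
    have hPs : ∀ j, P (j + 1) = P j * (h + (j : A) * τ) := fun j => Finset.prod_range_succ _ j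
    have hx : ∀ j : ℕ, (h + (n : A) * τ) * P j = P (j + 1) + ((n : A) - j) * τ * P j := by
      intro j; rw [hPs]; ring
    change P (n + 1) * P m = ∑ s ∈ Finset.range (n + 1 + 1), (-1 : A) ^ s * (Nat.factorial s : A) *
      (Nat.choose (n + 1) s : A) * (Nat.choose m s : A) * τ ^ s * P (m + (n + 1) - s)
    change P n * P m = ∑ s ∈ Finset.range (n + 1), (-1 : A) ^ s * (Nat.factorial s : A) *
      (Nat.choose n s : A) * (Nat.choose m s : A) * τ ^ s * P (m + n - s) at ih
    have step1 : P (n + 1) * P m = ∑ s ∈ Finset.range (n + 1), ((-1 : A) ^ s * (Nat.factorial s : A) *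
        (Nat.choose n s : A) * (Nat.choose m s : A) * τ ^ s * P (m + n - s + 1) +
        (-1 : A) ^ s * (Nat.factorial s : A) * (Nat.choose n s : A) * (Nat.choose m s : A) *
          ((s : A) - m) * τ ^ (s + 1) * P (m + n - s)) := by
      have : P (n + 1) * P m = (h + (n : A) * τ) * (P n * P m) := by rw [hPs]; ring
      rw [this, ih, Finset.mul_sum]
      apply Finset.sum_congr rfl
      intro s hs
      have hsn : s ≤ n := Nat.lt_succ_iff.mp (Finset.mem_range.mp hs)
      have e : (h + (n : A) * τ) * ((-1 : A) ^ s * (Nat.factorial s : A) * (Nat.choose n s : A) *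
          (Nat.choose m s : A) * τ ^ s * P (m + n - s)) = (-1 : A) ^ s * (Nat.factorial s : A) *
          (Nat.choose n s : A) * (Nat.choose m s : A) * τ ^ s * ((h + (n : A) * τ) * P (m + n - s)) := by
        ring
      rw [e, hx, Nat.cast_sub (by omega : s ≤ m + n)]
      push_cast
      ring
    rw [step1, Finset.sum_add_distrib]
    -- first sum: peel off `s = 0` and extend by the zero term `s = n + 1`
    rw [Finset.sum_range_succ' (fun s => (-1 : A) ^ s * (Nat.factorial s : A) *
        (Nat.choose n s : A) * (Nat.choose m s : A) * τ ^ s * P (m + n - s + 1)) n]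
    have hext : ∑ k ∈ Finset.range n, (-1 : A) ^ (k + 1) * (Nat.factorial (k + 1) : A) *
        (Nat.choose n (k + 1) : A) * (Nat.choose m (k + 1) : A) * τ ^ (k + 1) * P (m + n - (k + 1) + 1) =
        ∑ k ∈ Finset.range (n + 1), (-1 : A) ^ (k + 1) * (Nat.factorial (k + 1) : A) *
        (Nat.choose n (k + 1) : A) * (Nat.choose m (k + 1) : A) * τ ^ (k + 1) * P (m + n - k) := by
      rw [Finset.sum_range_succ _ n, Nat.choose_succ_self]
      simp only [Nat.cast_zero, mul_zero, zero_mul, add_zero]
      apply Finset.sum_congr rfl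
      intro k hk
      have hkn : k < n := Finset.mem_range.mp hk
      have e1 : m + n - (k + 1) + 1 = m + n - k := by omega
      rw [e1]
    rw [hext]
    rw [Finset.sum_range_succ' (fun s => (-1 : A) ^ s * (Nat.factorial s : A) *
      (Nat.choose (n + 1) s : A) * (Nat.choose m s : A) * τ ^ s * P (m + (n + 1) - s)) (n + 1)]
    rw [add_right_comm, ← Finset.sum_add_distrib]
    congr 1
    · apply Finset.sum_congr rfl
      intro k hk
      have hkn : k ≤ n := Nat.lt_succ_iff.mp (Finset.mem_range.mp hk)
      have e2 : m + (n + 1) - (k + 1) = m + n - k := by omega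
      rw [e2]
      have hc := choose_mul_sub A m k
      have hch : (Nat.choose (n + 1) (k + 1) : A) = (Nat.choose n k : A) + (Nat.choose n (k + 1) : A) := by
        rw [Nat.choose_succ_succ]; push_cast; ring
      have hf : (Nat.factorial (k + 1) : A) = ((k : A) + 1) * (Nat.factorial k : A) := by
        rw [Nat.factorial_succ]; push_cast; ring
      rw [hch, hf]
      have hc' : (Nat.choose m k : A) * ((k : A) - m) = -(((k : A) + 1) * (Nat.choose m (k + 1) : A)) := by
        rw [← hc]; ring
      calc (-1 : A) ^ (k + 1) * (((k : A) + 1) * (Nat.factorial k : A)) * (Nat.choose n (k + 1) : A) *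
            (Nat.choose m (k + 1) : A) * τ ^ (k + 1) * P (m + n - k) +
          (-1 : A) ^ k * (Nat.factorial k : A) * (Nat.choose n k : A) * (Nat.choose m k : A) *
            ((k : A) - m) * τ ^ (k + 1) * P (m + n - k)
          = (-1 : A) ^ (k + 1) * (((k : A) + 1) * (Nat.factorial k : A)) * (Nat.choose n (k + 1) : A) *
            (Nat.choose m (k + 1) : A) * τ ^ (k + 1) * P (m + n - k) +
          (-1 : A) ^ k * (Nat.factorial k : A) * (Nat.choose n k : A) * ((Nat.choose m k : A) *
            ((k : A) - m)) * τ ^ (k + 1) * P (m + n - k) := by ring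
        _ = _ := by rw [hc']; ring
    · simp [add_assoc]

/-- The identity behind the torus-equivariant classes h_i = h_0 + i τ of the coordinate hyperplanes of a
projective space of binary forms, stated in an arbitrary commutative ring: for n ≤ m, (h_0 ⋯
h_(n-1))^2 · h_n ⋯ h_(m-1) equals the sum over s = 0, …, n of (-1)^s s! (n choose s) (m choose s)
τ^s h_0 ⋯ h_(m+n-s-1), where h_i = h + i τ. (The published statement is in the equivariant Chow ring
of that projective space; only the relations h_i = h_j + (j - i) τ are used, so it holds in any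
commutative ring.) -/
theorem result (A : Type u) [CommRing A] (h τ : A) (n m : ℕ) (hnm : n ≤ m) :
    (∏ i ∈ Finset.range n, (h + (i : A) * τ) ^ 2) * ∏ i ∈ Finset.Ico n m, (h + (i : A) * τ) =
      ∑ s ∈ Finset.range (n + 1), (-1 : A) ^ s * (Nat.factorial s : A) * (Nat.choose n s : A) *
        (Nat.choose m s : A) * τ ^ s * ∏ i ∈ Finset.range (m + n - s), (h + (i : A) * τ) := by
  rw [← key A h τ m n, Finset.prod_pow, sq, mul_assoc, Finset.prod_range_mul_prod_Ico _ hnm]

end Groth.Agent.S14088
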