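import Groth.Statements.S14097
import Mathlib.RingTheory.MvPolynomial.Symmetric.Defs
import Mathlib.Tactic.LinearCombination
import Mathlib.Tactic.Ring

set_option autoImplicit false
universe u
open ArSing

namespace Groth.Agent.S14097

section Aux

variable {A : Type u} [CommRing A]

lemma esymm_cons (a : A) (s : Multiset A) (n : ℕ) :
    (a ::ₘ s).esymm (n + 1) = s.esymm (n + 1) + a * s.esymm n := by
  simp only [Multiset.esymm, Multiset.powersetCard_cons, Multiset.map_add, Multiset.sum_add,
    Multiset.map_map, Function.comp_def, Multiset.prod_cons, Multiset.sum_map_mul_left]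

/-- `E h k j = e_j(h_0, …, h_{k-1})`. -/
noncomputable def E (h : ℕ → A) (k j : ℕ) : A := ((Finset.range k).val.map h).esymm j

lemma E_zero (h : ℕ → A) (k : ℕ) : E h k 0 = 1 := by
  simp [E, Multiset.esymm]

lemma E_succ (h : ℕ → A) (k j : ℕ) : E h (k + 1) (j + 1) = E h k (j + 1) + h k * E h k j := by
  simp only [E, Finset.range_val, Multiset.range_succ, Multiset.map_cons, esymm_cons]

lemma E_self (h : ℕ → A) (k : ℕ) : E h k k = ∏ i ∈ Finset.range k, h i := by
  induction k with
  | zero => simp [E_zero]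
  | succ k ih =>
    rw [E_succ, ih, Finset.prod_range_succ]
    have : E h k (k + 1) = 0 := by
      simp only [E, Multiset.esymm]
      rw [Multiset.powersetCard_eq_empty]
      · simp
      · simp
    rw [this, zero_add, mul_comm]

lemma aux_R (τ : A) (h : ℕ → A) (n : ℕ) (hrel : ∀ i, i < n + 1 → h i ^ 2 + τ * h i = 0) :
    h n * ∏ i ∈ Finset.range n, (h i + h (i + 1) + τ) = ∏ i ∈ Finset.range (n + 1), h i := by
  induction n with
  | zero => simp
  | succ n ih =>
    have ih' := ih (fun i hi => hrel i (Nat.lt_succ_of_lt hi))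
    rw [Finset.prod_range_succ, Finset.prod_range_succ _ (n + 1), ← ih']
    have h1 := hrel (n + 1) (Nat.lt_succ_self _)
    have : h (n + 1) * (h n + h (n + 1) + τ) = h (n + 1) * h n := by
      have : h (n + 1) * (h n + h (n + 1) + τ) = h (n + 1) * h n + (h (n + 1) ^ 2 + τ * h (n + 1)) := by
        ring
      rw [this, h1, add_zero]
    calc h (n + 1) * ((∏ x ∈ Finset.range n, (h x + h (x + 1) + τ)) * (h n + h (n + 1) + τ))
        = (h (n + 1) * (h n + h (n + 1) + τ)) * ∏ x ∈ Finset.range n, (h x + h (x + 1) + τ) := by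
          ring
      _ = _ := by rw [this]; ring

lemma aux_Q (τ : A) (h : ℕ → A) (n : ℕ) (hrel : ∀ i, i < n + 1 → h i ^ 2 + τ * h i = 0) :
    ∏ i ∈ Finset.range n, (h i + h (i + 1) + τ) =
      ∑ j ∈ Finset.range (n + 1), τ ^ (n - j) * E h (n + 1) j := by
  induction n with
  | zero => simp [E_zero]
  | succ n ih =>
    have hrel' : ∀ i, i < n + 1 → h i ^ 2 + τ * h i = 0 := fun i hi => hrel i (Nat.lt_succ_of_lt hi)
    have ih' := ih hrel'
    have hR := aux_R τ h n hrel'
    set L := ∏ i ∈ Finset.range n, (h i + h (i + 1) + τ) with hL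
    -- RHS_{n+1} = (τ + h_{n+1}) * RHS_n + ∏ h
    have key : ∑ j ∈ Finset.range (n + 2), τ ^ (n + 1 - j) * E h (n + 2) j =
        (τ + h (n + 1)) * (∑ j ∈ Finset.range (n + 1), τ ^ (n - j) * E h (n + 1) j) +
          E h (n + 1) (n + 1) := by
      rw [Finset.sum_range_succ' _ (n + 1)]
      simp only [Nat.add_sub_add_right, E_succ h (n + 1), Nat.sub_zero, E_zero, mul_one]
      rw [Finset.sum_congr rfl (g := fun j => τ ^ (n - j) * E h (n + 1) (j + 1) +
        h (n + 1) * (τ ^ (n - j) * E h (n + 1) j)) (fun j _ => by ring), Finset.sum_add_distrib,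
        ← Finset.mul_sum]
      -- remaining: Σ_{j<n+1} τ^(n-j) E (n+1) (j+1) + τ^(n+1) = τ * Σ_{j<n+1} τ^(n-j) E (n+1) j + E (n+1) (n+1)
      have h2 : ∑ j ∈ Finset.range (n + 1), τ ^ (n - j) * E h (n + 1) (j + 1) + τ ^ (n + 1) =
          τ * (∑ j ∈ Finset.range (n + 1), τ ^ (n - j) * E h (n + 1) j) + E h (n + 1) (n + 1) := by
        rw [Finset.sum_range_succ, Finset.sum_range_succ' (fun j => τ ^ (n - j) * E h (n + 1) j)]
        simp only [Nat.sub_self, pow_zero, one_mul, Nat.sub_zero, E_zero, mul_one]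
        rw [mul_add, Finset.mul_sum]
        have h3 : ∀ j ∈ Finset.range n, τ * (τ ^ (n - (j + 1)) * E h (n + 1) (j + 1)) =
            τ ^ (n - j) * E h (n + 1) (j + 1) := by
          intro j hj
          have hj' : j < n := Finset.mem_range.1 hj
          have : n - j = (n - (j + 1)) + 1 := by omega
          rw [this, pow_succ]
          ring
        rw [Finset.sum_congr rfl h3]
        ring
      linear_combination h2
    rw [Finset.prod_range_succ, ← hL, key, ← ih', E_self, ← hR]
    ring

end Aux

/-- In any commutative ring, if h_0, …, h_(k-1) (k ≥ 2) and τ satisfy h_i^2 + τ h_i = 0, then ∏_(i ≤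
k-2) (h_i + h_(i+1) + τ) = Σ_(j ≤ k-1) τ^(k-1-j) e_j(h), e_j the elementary symmetric functions.
(The published statement is the resulting formula for the class of the small diagonal in the Chow
ring of (P^1)^k, where the h_i are the hyperplane classes of the factors and satisfy these
relations; only the ring identity is asserted here.) -/
theorem result (A : Type u) [CommRing A] (k : ℕ) (hk : 2 ≤ k) (τ : A)
    (h : ℕ → A) (hrel : ∀ i, i < k → h i ^ 2 + τ * h i = 0) :
    ∏ i ∈ Finset.range (k - 1), (h i + h (i + 1) + τ) =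
      ∑ j ∈ Finset.range k, τ ^ (k - 1 - j) * (((Finset.range k).val.map h).esymm j) := by
  obtain ⟨n, rfl⟩ : ∃ n, k = n + 1 := ⟨k - 1, by omega⟩
  have := aux_Q τ h n hrel
  simpa [E] using this

end Groth.Agent.S14097
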