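import Groth.Statements.S14100
import Mathlib.Algebra.Homology.DerivedCategory.FullyFaithful
import Mathlib.CategoryTheory.Triangulated.TStructure.TruncLTGE

set_option autoImplicit false
universe w v u
open DCoh

namespace Groth.Agent.S14100

section

open CategoryTheory Category Pretriangulated Triangulated Limits

namespace Aux

variable {C : Type u} [Category.{v} C] [Abelian C] [HasDerivedCategory.{w} C]

open DerivedCategory DerivedCategory.TStructure

/-- `H^q` of the truncation map `τ_{<b} X ⟶ X` is a monomorphism. -/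
lemma mono_homology_truncLTι (X : DerivedCategory C) (b q : ℤ) :
    Mono ((homologyFunctor C q).map ((t.truncLTι b).app X)) := by
  have hT := t.triangleLTGE_distinguished b X
  have := (HomologySequence.mono_homologyMap_mor₁_iff _ hT (q - 1) q (by lia)).2 (by
    by_cases h : q ≤ b
    · apply IsZero.eq_of_src
      exact isZero_of_isGE ((t.truncGE b).obj X) b (q - 1) (by lia)
    · apply IsZero.eq_of_tgt
      exact isZero_of_isLE ((t.truncLT b).obj X) (b - 1) q (by lia))
  exact this

/-- `H^b` of the truncation map `X ⟶ τ_{≥b} X` is an epimorphism. -/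
lemma epi_homology_truncGEπ (X : DerivedCategory C) (b q : ℤ) :
    Epi ((homologyFunctor C q).map ((t.truncGEπ b).app X)) := by
  have hT := t.triangleLTGE_distinguished b X
  have := (HomologySequence.epi_homologyMap_mor₂_iff _ hT q (q + 1) rfl).2 (by
    by_cases h : q < b
    · apply IsZero.eq_of_src
      exact isZero_of_isGE ((t.truncGE b).obj X) b q h
    · apply IsZero.eq_of_tgt
      exact isZero_of_isLE ((t.truncLT b).obj X) (b - 1) (q + 1) (by lia))
  exact this

/-- if `f` is zero on `H^q`, so is `τ_{<b} f`. -/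
lemma homology_truncLT_map_eq_zero {X Y : DerivedCategory C} (f : X ⟶ Y) (b q : ℤ)
    (hf : (homologyFunctor C q).map f = 0) :
    (homologyFunctor C q).map ((t.truncLT b).map f) = 0 := by
  have := mono_homology_truncLTι Y b q
  rw [← cancel_mono ((homologyFunctor C q).map ((t.truncLTι b).app Y)), zero_comp,
    ← Functor.map_comp]
  have h := (t.truncLTι b).naturality f
  dsimp at h
  rw [h, Functor.map_comp, hf, comp_zero]

/-- a morphism between objects concentrated in degree `b` which is zero on `H^b` is zero. -/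
lemma eq_zero_of_homology_of_heart {X Y : DerivedCategory C} (b : ℤ) [X.IsLE b] [X.IsGE b]
    [Y.IsLE b] [Y.IsGE b] (g : X ⟶ Y) (hg : (homologyFunctor C b).map g = 0) : g = 0 := by
  obtain ⟨A, ⟨e⟩⟩ := exists_iso_singleFunctor_obj_of_isGE_of_isLE X b
  obtain ⟨B, ⟨e'⟩⟩ := exists_iso_singleFunctor_obj_of_isGE_of_isLE Y b
  obtain ⟨φ, hφ⟩ := (singleFunctor C b).map_surjective (e.inv ≫ g ≫ e'.hom)
  have h1 : (homologyFunctor C b).map ((singleFunctor C b).map φ) = 0 := by
    rw [hφ, Functor.map_comp, Functor.map_comp, hg, zero_comp, comp_zero]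
  have h2 : φ = 0 := by
    have := NatIso.naturality_1 (singleFunctorCompHomologyFunctorIso C b) φ
    dsimp at this
    rw [← this, h1, zero_comp, comp_zero]
  have h3 : e.inv ≫ g ≫ e'.hom = 0 := by rw [← hφ, h2, Functor.map_zero]
  rw [← cancel_epi e.inv, ← cancel_mono e'.hom, assoc, h3, comp_zero, zero_comp]

/-- Lemma A: a morphism from `D^{≤b}` to `D^{≥b}` which is zero on `H^b` is zero. -/
lemma eq_zero_of_homology {X Y : DerivedCategory C} (b : ℤ) [X.IsLE b] [Y.IsGE b] (g : X ⟶ Y)
    (hg : (homologyFunctor C b).map g = 0) : g = 0 := by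
  set g' := t.descTruncGE g b with hg'
  have h1 : (t.truncGEπ b).app X ≫ g' = g := t.π_descTruncGE g b
  set g'' := t.liftTruncLT g' b (b + 1) rfl with hg''
  have h2 : g'' ≫ (t.truncLTι (b + 1)).app Y = g' := t.liftTruncLT_ι g' b (b + 1) rfl
  have h3 : (homologyFunctor C b).map g'' = 0 := by
    have := mono_homology_truncLTι Y (b + 1) b
    have := epi_homology_truncGEπ X b b
    rw [← cancel_mono ((homologyFunctor C b).map ((t.truncLTι (b + 1)).app Y)),
      ← cancel_epi ((homologyFunctor C b).map ((t.truncGEπ b).app X)), zero_comp, comp_zero,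
      ← Functor.map_comp, ← Functor.map_comp, h2, h1, hg]
  have h4 : g'' = 0 := eq_zero_of_homology_of_heart b g'' h3
  rw [← h1, ← h2, h4, zero_comp, comp_zero]

/-- the functor `i ↦ i + 1` on `ℕ`. -/
def succFunctor : ℕ ⥤ ℕ := Monotone.functor (f := fun i : ℕ => i + 1) (fun _ _ h => Nat.succ_le_succ h)

set_option backward.defeqAttrib.useBackward true in
theorem main (n : ℕ) : ∀ (a : ℤ) (K : ℕ ⥤ DerivedCategory C)
    (_ : ∀ i : ℕ, i ≤ n + 1 → (K.obj i).IsGE a)
    (_ : ∀ i : ℕ, i ≤ n + 1 → (K.obj i).IsLE (a + n))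
    (_ : ∀ i : ℕ, i ≤ n → ∀ q : ℤ,
      (DerivedCategory.homologyFunctor C q).map (K.map (homOfLE (Nat.le_succ i))) = 0),
    K.map (homOfLE (Nat.zero_le (n + 1))) = 0 := by
  induction n with
  | zero =>
    intro a K hGE hLE hzero
    have h0 : (K.obj 0).IsLE a := by simpa using hLE 0 (by lia)
    have h1 : (K.obj (0 + 1)).IsGE a := hGE 1 le_rfl
    exact eq_zero_of_homology a _ (hzero 0 le_rfl a)
  | succ n ih =>
    intro a K hGE hLE hzero
    set b : ℤ := a + (n + 1 : ℕ) with hb
    -- first map
    set f₀ := K.map (homOfLE (Nat.le_succ 0)) with hf₀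
    have hK0 : (K.obj 0).IsLE b := hLE 0 (by lia)
    have h1 : f₀ ≫ (t.truncGEπ b).app (K.obj (Nat.succ 0)) = 0 := by
      apply eq_zero_of_homology b
      rw [Functor.map_comp, hzero 0 (by lia) b, zero_comp]
    obtain ⟨f₀', hf₀'⟩ : ∃ f₀' : K.obj 0 ⟶ (t.truncLT b).obj (K.obj 1),
        f₀ = f₀' ≫ (t.truncLTι b).app (K.obj 1) :=
      Triangle.coyoneda_exact₂ _ (t.triangleLTGE_distinguished b (K.obj 1)) f₀ h1
    -- truncated shifted chain
    let K' : ℕ ⥤ DerivedCategory C := succFunctor ⋙ K ⋙ t.truncLT b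
    have hK' : K'.map (homOfLE (Nat.zero_le (n + 1))) = 0 := by
      apply ih a K'
      · intro i hi
        have := hGE (i + 1) (by lia)
        show ((t.truncLT b).obj (K.obj (i + 1))).IsGE a
        infer_instance
      · intro i hi
        show ((t.truncLT b).obj (K.obj (i + 1))).IsLE (a + n)
        exact t.isLE_truncLT_obj _ b (a + n) (by rw [hb]; push_cast; lia)
      · intro i hi q
        exact homology_truncLT_map_eq_zero _ b q (hzero (i + 1) (by lia) q)
    have hcomp : K.map (homOfLE (Nat.zero_le (n + 1 + 1))) =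
        f₀ ≫ K.map (homOfLE (show 1 ≤ n + 1 + 1 by lia)) := by
      rw [hf₀, ← Functor.map_comp]
      rfl
    rw [hcomp, hf₀', assoc]
    have hnat := (t.truncLTι b).naturality (K.map (homOfLE (show 1 ≤ n + 1 + 1 by lia)))
    dsimp at hnat
    rw [← hnat]
    have : (t.truncLT b).map (K.map (homOfLE (show 1 ≤ n + 1 + 1 by lia))) = 0 := hK'
    rw [this, zero_comp, comp_zero]

end Aux

end

open CategoryTheory in
/-- Let C be an abelian category, a an integer and n a natural number, and let K_0 → K_1 → ⋯ → K_{n+1}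
be composable morphisms in the derived category of C such that each K_i has cohomology concentrated
in degrees a, …, a+n and each map K_i → K_{i+1} induces zero on every cohomology object. Then the
composite K_0 → K_{n+1} is zero. (The chain is given as a functor from the ordered set of natural
numbers; only its values on 0, …, n+1 matter.) -/
theorem result
    (C : Type u) [Category.{v} C] [Abelian C] [HasDerivedCategory.{w} C]
    (a : ℤ) (n : ℕ) (K : ℕ ⥤ DerivedCategory C)
    (hGE : ∀ i : ℕ, i ≤ n + 1 → (K.obj i).IsGE a)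
    (hLE : ∀ i : ℕ, i ≤ n + 1 → (K.obj i).IsLE (a + n))
    (hzero : ∀ i : ℕ, i ≤ n → ∀ q : ℤ,
      (DerivedCategory.homologyFunctor C q).map (K.map (homOfLE (Nat.le_succ i))) = 0) :
    K.map (homOfLE (Nat.zero_le (n + 1))) = 0 := by
  exact Aux.main n a K hGE hLE hzero

end Groth.Agent.S14100
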