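import Groth.Statements.S14102
import Mathlib
import Groth.Agent.S14100
import Groth.Agent.Lib.Helper10.ArtinReesCoh

set_option autoImplicit false
universe w u
open DCoh

namespace Groth.Agent.S14102

section aux
open CategoryTheory CategoryTheory.Limits MonoidalCategory Groth.Agent.Lib.Helper10.ArtinReesCoh

theorem isZero_tK_X {A : Type u} [CommRing A] (K : CochainComplex (ModuleCat.{u} A) ℤ)
    (I : Ideal A) (q : ℤ) (h : IsZero (K.X q)) : IsZero ((tK K I).X q) :=
  show IsZero (((curriedTensor (ModuleCat.{u} A)).obj (ModuleCat.of A ↥I)).obj (K.X q)) from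
    Functor.map_isZero _ h

theorem aux (A : Type u) [CommRing A] [IsNoetherianRing A] [HasDerivedCategory.{w} (ModuleCat.{u} A)]
    (K : CochainComplex (ModuleCat.{u} A) ℤ) (a b : ℤ)
    (hK : ∀ q : ℤ, q < a ∨ b < q → Limits.IsZero (K.X q))
    (hfin : ∀ q : ℤ, Module.Finite A (K.X q)) (hproj : ∀ q : ℤ, Module.Projective A (K.X q))
    (J : Ideal A) (hJ : ∀ q : ℤ, ∀ x ∈ J, ∀ c : ↑(K.homology q), x • c = 0) :
    ∃ n : ℕ, ∀ m : ℕ, 0 < m →
      DerivedCategory.Q.{w}.map (φ K J (Nat.le_add_left m n)) = 0 := by
  classical
  haveI : ∀ q, Module.Flat A (K.X q) := fun q => by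
    haveI := hproj q
    infer_instance
  haveI := hfin
  choose c hc using fun q : ℤ => exists_homologyMap_eq_zero K J q (hJ q)
  let n₀ : ℕ := (Finset.Icc a b).sup c + 1
  have hstep : ∀ (e₁ e₂ : ℕ) (h : e₂ ≤ e₁), e₁ = n₀ + e₂ → ∀ q : ℤ,
      HomologicalComplex.homologyMap (φ K J h) q = 0 := by
    intro e₁ e₂ h heq q
    subst heq
    by_cases hq : q ∈ Finset.Icc a b
    · exact hc q n₀ e₂ (Nat.lt_succ_of_le (Finset.le_sup hq))
    · have hq' : q < a ∨ b < q := by
        rw [Finset.mem_Icc] at hq
        lia
      have hz : IsZero ((tK K (J ^ (n₀ + e₂))).X q) := isZero_tK_X K _ q (hK q hq')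
      have hex : (tK K (J ^ (n₀ + e₂))).ExactAt q := ShortComplex.exact_of_isZero_X₂ _ hz
      exact hex.isZero_homology.eq_of_src _ _
  let n' : ℕ := (b - a).toNat
  let N : ℕ := n' + 1
  refine ⟨N * n₀, fun m hm => ?_⟩
  let e : ℕ → ℕ := fun i => (N - i) * n₀ + m
  have he : ∀ i, e (i + 1) ≤ e i := fun i => by
    have : N - (i + 1) ≤ N - i := by lia
    exact Nat.add_le_add_right (Nat.mul_le_mul_right n₀ this) m
  let f : ∀ i : ℕ, DerivedCategory.Q.{w}.obj (tK K (J ^ e i)) ⟶
      DerivedCategory.Q.{w}.obj (tK K (J ^ e (i + 1))) :=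
    fun i => DerivedCategory.Q.{w}.map (φ K J (he i))
  let E : ℕ ⥤ DerivedCategory.{w} (ModuleCat.{u} A) := Functor.ofSequence f
  have he0 : ∀ k, e k ≤ e 0 := fun k => by
    have : N - k ≤ N - 0 := by lia
    exact Nat.add_le_add_right (Nat.mul_le_mul_right n₀ this) m
  have hE : ∀ k : ℕ, E.map (homOfLE (Nat.zero_le k)) = DerivedCategory.Q.{w}.map (φ K J (he0 k)) := by
    intro k
    induction k with
    | zero =>
      have h1 : homOfLE (Nat.zero_le 0) = 𝟙 (0 : ℕ) := Subsingleton.elim _ _
      rw [h1, E.map_id, φ_refl, DerivedCategory.Q.{w}.map_id]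
      rfl
    | succ k ih =>
      have h1 : homOfLE (Nat.zero_le (k + 1)) =
          homOfLE (Nat.zero_le k) ≫ homOfLE (Nat.le_add_right k 1) := Subsingleton.elim _ _
      rw [h1, E.map_comp, ih, Functor.ofSequence_map_homOfLE_succ]
      change DerivedCategory.Q.{w}.map (φ K J (he0 k)) ≫ DerivedCategory.Q.{w}.map (φ K J (he k)) = _
      rw [← Functor.map_comp, φ_comp]
  have hzero : E.map (homOfLE (Nat.zero_le (n' + 1))) = 0 := by
    apply Groth.Agent.S14100.result (ModuleCat.{u} A) a n' E
    · intro i _
      change (DerivedCategory.Q.{w}.obj (tK K (J ^ e i))).IsGE a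
      rw [DerivedCategory.isGE_Q_obj_iff, CochainComplex.isGE_iff]
      intro q hq
      exact ShortComplex.exact_of_isZero_X₂ _ (isZero_tK_X K _ q (hK q (Or.inl hq)))
    · intro i _
      change (DerivedCategory.Q.{w}.obj (tK K (J ^ e i))).IsLE (a + n')
      rw [DerivedCategory.isLE_Q_obj_iff, CochainComplex.isLE_iff]
      intro q hq
      have hq' : b < q := by
        have : b - a ≤ (n' : ℤ) := Int.self_le_toNat _
        lia
      exact ShortComplex.exact_of_isZero_X₂ _ (isZero_tK_X K _ q (hK q (Or.inr hq')))
    · intro i hi q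
      have h1 : E.map (homOfLE (Nat.le_succ i)) = f i :=
        Functor.ofSequence_map_homOfLE_succ f i
      rw [h1]
      change (DerivedCategory.homologyFunctor.{w} (ModuleCat.{u} A) q).map
        (DerivedCategory.Q.{w}.map (φ K J (he i))) = 0
      have h2 := DerivedCategory.homologyFunctorFactors_hom_naturality (φ K J (he i)) q
      have h3 : HomologicalComplex.homologyMap (φ K J (he i)) q = 0 := by
        apply hstep
        change (N - i) * n₀ + m = n₀ + ((N - (i + 1)) * n₀ + m)
        have : N - i = (N - (i + 1)) + 1 := by lia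
        rw [this]
        ring
      have h5 : (DerivedCategory.homologyFunctor.{w} (ModuleCat.{u} A) q).map
          (DerivedCategory.Q.{w}.map (φ K J (he i))) ≫
          (DerivedCategory.homologyFunctorFactors.{w} (ModuleCat.{u} A) q).hom.app
            (tK K (J ^ e (i + 1))) = 0 :=
        h2.trans (by rw [h3]; exact comp_zero)
      have h8 : (DerivedCategory.homologyFunctor.{w} (ModuleCat.{u} A) q).map
          (DerivedCategory.Q.{w}.map (φ K J (he i))) =
          ((DerivedCategory.homologyFunctor.{w} (ModuleCat.{u} A) q).map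
          (DerivedCategory.Q.{w}.map (φ K J (he i))) ≫
          (DerivedCategory.homologyFunctorFactors.{w} (ModuleCat.{u} A) q).hom.app
            (tK K (J ^ e (i + 1)))) ≫
          (DerivedCategory.homologyFunctorFactors.{w} (ModuleCat.{u} A) q).inv.app
            (tK K (J ^ e (i + 1))) := by
        rw [Category.assoc, Iso.hom_inv_id_app]
        exact (Category.comp_id _).symm
      rw [h8, h5, Limits.zero_comp]
  have h6 : DerivedCategory.Q.{w}.map (φ K J (he0 N)) = 0 := (hE N).symm.trans hzero
  have hfac := φ_comp K J (he0 N) (show m ≤ e N from Nat.le_add_left m _)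
  have h7 : DerivedCategory.Q.{w}.map (φ K J (he0 N) ≫
      φ K J (show m ≤ e N from Nat.le_add_left m _)) = 0 := by
    rw [Functor.map_comp, h6]
    exact Limits.zero_comp
  rw [hfac] at h7
  exact h7

end aux

open CategoryTheory MonoidalCategory in
/-- Affine form — let A be a Noetherian commutative ring, K a bounded cochain complex of finitely
generated projective A-modules and J an ideal of A that annihilates every cohomology module of K.
Then for some natural number n and every positive integer m, the map J^(n+m) ⊗_A K → J^m ⊗_A K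
induced by the inclusion of ideals is zero in the derived category of A-modules. (The published
statement is for a perfect complex on a noetherian scheme or formal scheme with the derived tensor
product; over an affine scheme a perfect complex is represented by a bounded complex of finitely
generated projective modules, for which the derived tensor product with J^m is the termwise tensor
product used here.) -/
theorem result
    (A : Type u) [CommRing A] [IsNoetherianRing A] [HasDerivedCategory.{w} (ModuleCat.{u} A)]
    (K : CochainComplex (ModuleCat.{u} A) ℤ) (a b : ℤ)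
    (hK : ∀ q : ℤ, q < a ∨ b < q → Limits.IsZero (K.X q))
    (hfin : ∀ q : ℤ, Module.Finite A (K.X q)) (hproj : ∀ q : ℤ, Module.Projective A (K.X q))
    (J : Ideal A) (hJ : ∀ q : ℤ, ∀ x ∈ J, ∀ c : ↑(K.homology q), x • c = 0) :
    ∃ n : ℕ, ∀ m : ℕ, 0 < m →
      DerivedCategory.Q.map
        ((NatTrans.mapHomologicalComplex
          ((curriedTensor (ModuleCat.{u} A)).map
            (ModuleCat.ofHom (Submodule.inclusion (p := J ^ (n + m)) (p' := J ^ m)
              (Ideal.pow_le_pow_right (Nat.le_add_left m n)))))
          (ComplexShape.up ℤ)).app K) = 0 := by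
  exact aux A K a b hK hfin hproj J hJ

end Groth.Agent.S14102
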