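import Groth.Statements.S14109
import Groth.Agent.Lib.Helper21.FibStalkComp2
-- import your own Groth.Agent.* helpers here

set_option autoImplicit false
universe u
open CategoryTheory CategoryTheory.Limits AlgebraicGeometry Opposite TopologicalSpace
open CInt

namespace Groth.Agent.S14109

/-- Let f : X → S and g : X' → X be morphisms of locally Noetherian schemes with g surjective, Y a
closed subset of X and Y' its preimage under g. Then the codimension of Y' relative to the composite
X' → S (the infimum over y' ∈ Y' of the Krull dimension of the local ring at y' of the fibre of that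
composite through y') is at most the codimension of Y relative to f (the same infimum over y ∈ Y for
the fibres of f). -/
theorem result {X X' S : Scheme.{u}} [IsLocallyNoetherian X]
    [IsLocallyNoetherian X'] [IsLocallyNoetherian S] (f : X ⟶ S) (g : X' ⟶ X) [Surjective g]
    (Y : Set ↥X) (hY : IsClosed Y) :
    (⨅ y' : (fun x' => g x') ⁻¹' Y, ringKrullDim ↑(CInt.fiberStalk (g ≫ f) y'.1)) ≤
      ⨅ y : Y, ringKrullDim ↑(CInt.fiberStalk f y.1) := by
  refine le_iInf fun y => ?_
  obtain ⟨y'₀, hy'₀⟩ := (inferInstance : Surjective g).surj y.1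
  obtain ⟨y', hgy', hdim⟩ := Groth.Agent.Lib.Helper21.FibStalkComp.exists_fiberStalk_dim_zero g y'₀
  have hy' : g y' = y.1 := hgy'.trans hy'₀
  have hmem : y' ∈ (fun x' => g x') ⁻¹' Y := by
    change g y' ∈ Y
    rw [hy']
    exact y.2
  refine (iInf_le _ (⟨y', hmem⟩ : ↥((fun x' => g x') ⁻¹' Y))).trans ?_
  have h1 := Groth.Agent.Lib.Helper21.FibStalkComp.ringKrullDim_fiberStalk_comp_le f g y'
  rw [hdim, add_zero] at h1
  exact h1.trans (congrArg (fun t => ringKrullDim ↑(CInt.fiberStalk f t)) hy').le

end Groth.Agent.S14109
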