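import Groth.Statements.S1411
import Mathlib
import Groth.Agent.Lib.Helper23.QFPrime
import Groth.Agent.Lib.Helper23.IsolFib
-- import your own Groth.Agent.* helpers here

set_option autoImplicit false
universe u
open FlatMor

namespace Groth.Agent.S1411

open AlgebraicGeometry CategoryTheory TopologicalSpace

open Groth.Agent.Lib.Helper23.QFPrime Groth.Agent.Lib.Helper23.IsolFib


open AlgebraicGeometry CategoryTheory Limits in
/-- Let f : X → S be locally of finite type with S locally Noetherian, x a point closed in its fibre,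
and U an open of X containing a point x' specializing to x with f x' ≠ f x. Then there is a closed
subscheme Z of X passing through x such that Z → S is quasi-finite at x and Z contains a point z ∈ U
with z ⤳ x and f z ≠ f x. -/
theorem result {X S : Scheme.{u}} (f : X ⟶ S) [LocallyOfFiniteType f] [IsLocallyNoetherian S] (x : X)
    (hcl : IsClosed (Subtype.val ⁻¹' {x} : Set ↑(f ⁻¹' {f x}))) (U : X.Opens) (hx' : ∃ x' : X, x' ∈ U ∧ x' ⤳ x ∧ f x' ≠ f x) :
    ∃ (I : X.IdealSheafData) (z₀ x₀ : ↑I.subscheme), I.subschemeι x₀ = x ∧ (I.subschemeι ≫ f).QuasiFiniteAt x₀ ∧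
      I.subschemeι z₀ ∈ U ∧ I.subschemeι z₀ ⤳ x ∧ f (I.subschemeι z₀) ≠ f x := by
  -- `x` has no proper specialization in its fibre
  have hsp : ∀ y : X, f y = f x → x ⤳ y → y = x := by
    intro y hy hxy
    let y' : ↑(f ⁻¹' {f x}) := ⟨y, hy⟩
    let x'' : ↑(f ⁻¹' {f x}) := ⟨x, rfl⟩
    have h1 : x'' ⤳ y' := (subtype_specializes_iff x'' y').mpr hxy
    have h2 : y' ∈ (Subtype.val ⁻¹' {x} : Set ↑(f ⁻¹' {f x})) := h1.mem_closed hcl rfl
    exact h2
  haveI : IsLocallyNoetherian X := LocallyOfFiniteType.isLocallyNoetherian f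
  let B := X.presheaf.stalk x
  let A := S.presheaf.stalk (f x)
  let φ : A ⟶ B := f.stalkMap x
  let j : Spec B ⟶ X := X.fromSpecStalk x
  let i : Spec A ⟶ S := S.fromSpecStalk (f x)
  have hsq : Spec.map φ ≫ i = j ≫ f := Scheme.SpecMap_stalkMap_fromSpecStalk f
  have hsq' : ∀ Q : Spec B, i (Spec.map φ Q) = f (j Q) := by
    intro Q
    rw [← Scheme.Hom.comp_apply, ← Scheme.Hom.comp_apply, hsq]
  have hicl : i (IsLocalRing.closedPoint A) = f x := Scheme.fromSpecStalk_closedPoint
  have hjcl : j (IsLocalRing.closedPoint B) = x := Scheme.fromSpecStalk_closedPoint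
  have hiinj : Function.Injective i := i.isEmbedding.injective
  have hjind : Topology.IsInducing j := j.isEmbedding.isInducing
  have hrange : Set.range j = {y | y ⤳ x} := Scheme.range_fromSpecStalk
  let W : Set (PrimeSpectrum B) :=
    (j ⁻¹' (U : Set X)) ∩ ((Spec.map φ) ⁻¹' {IsLocalRing.closedPoint A})ᶜ
  have hW : IsOpen W := by
    refine (U.2.preimage j.continuous).inter ?_
    exact ((IsLocalRing.isClosed_singleton_closedPoint A).preimage
      (Spec.map φ).continuous).isOpen_compl
  have hWne : W.Nonempty := by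
    obtain ⟨x', hx'U, hx'x, hfx'⟩ := hx'
    have : x' ∈ Set.range j := by rw [hrange]; exact hx'x
    obtain ⟨Q', rfl⟩ := this
    refine ⟨Q', hx'U, ?_⟩
    intro h
    have h' : Spec.map φ Q' = IsLocalRing.closedPoint A := h
    apply hfx'
    rw [← hsq', h', hicl]
  have hWcl : IsLocalRing.closedPoint B ∉ W := by
    rintro ⟨_, h2⟩
    apply h2
    change PrimeSpectrum.comap φ.hom (IsLocalRing.closedPoint B) = IsLocalRing.closedPoint A
    exact IsLocalRing.comap_closedPoint φ.hom
  obtain ⟨q, hqW, hq1⟩ := exists_prime_dim_one W hW hWne hWcl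
  let z : X := j q
  have hzU : z ∈ U := hqW.1
  have hzx : z ⤳ x := by
    have : z ∈ Set.range j := ⟨q, rfl⟩
    rw [hrange] at this
    exact this
  have hfz : f z ≠ f x := by
    intro h
    apply hqW.2
    change Spec.map φ q = IsLocalRing.closedPoint A
    apply hiinj
    rw [hsq', hicl]
    exact h
  let I : X.IdealSheafData := Scheme.IdealSheafData.vanishingIdeal ⟨closure {z}, isClosed_closure⟩
  have hsupp : (I.support : Set X) = closure {z} :=
    Scheme.IdealSheafData.coe_support_vanishingIdeal _
  have hrangeι : Set.range I.subschemeι = closure {z} := by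
    rw [Scheme.IdealSheafData.range_subschemeι, hsupp]
  have hιinj : Function.Injective I.subschemeι := I.subschemeι.isEmbedding.injective
  obtain ⟨x₀, hx₀⟩ : x ∈ Set.range I.subschemeι := by
    rw [hrangeι]
    exact specializes_iff_mem_closure.mp hzx
  obtain ⟨z₀, hz₀⟩ : z ∈ Set.range I.subschemeι := by
    rw [hrangeι]
    exact subset_closure rfl
  refine ⟨I, z₀, x₀, hx₀, ?_, ?_, ?_, ?_⟩
  · refine quasiFiniteAt_of_forall_specializes _ x₀ ?_ ?_
    · intro y hy hx₀y
      have hy' : f (I.subschemeι y) = f x := by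
        have := hy
        simp only [Scheme.Hom.comp_apply] at this
        rw [this, hx₀]
      have h1 : x ⤳ I.subschemeι y := hx₀ ▸ hx₀y.map I.subschemeι.continuous
      exact hιinj ((hsp _ hy' h1).trans hx₀.symm)
    · intro y hy hyx₀
      have hy' : f (I.subschemeι y) = f x := by
        have := hy
        simp only [Scheme.Hom.comp_apply] at this
        rw [this, hx₀]
      have h1 : I.subschemeι y ⤳ x := hx₀ ▸ hyx₀.map I.subschemeι.continuous
      have : I.subschemeι y ∈ Set.range j := by rw [hrange]; exact h1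
      obtain ⟨Q, hQ⟩ := this
      have h2 : z ⤳ I.subschemeι y := by
        rw [specializes_iff_mem_closure, ← hrangeι]
        exact ⟨y, rfl⟩
      have h3 : q ⤳ Q := by
        have h3' : j q ⤳ j Q := by rw [hQ]; exact h2
        exact hjind.specializes_iff.mp h3'
      have h4 : q.asIdeal ≤ Q.asIdeal := (PrimeSpectrum.le_iff_specializes q Q).mpr h3
      rcases eq_or_lt_of_le h4 with h5 | h5
      · exfalso
        have : Q = q := PrimeSpectrum.ext h5.symm
        rw [this] at hQ
        apply hfz
        change f (j q) = f x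
        rw [hQ]
        exact hy'
      · have h6 := hq1 Q.asIdeal Q.isPrime h5
        have : Q = IsLocalRing.closedPoint B := PrimeSpectrum.ext h6
        rw [this, hjcl] at hQ
        exact hιinj (hQ.symm.trans hx₀.symm)
  · rw [hz₀]; exact hzU
  · rw [hz₀]; exact hzx
  · rw [hz₀]; exact hfz

end Groth.Agent.S1411
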