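import Groth.Statements.S14113
import Mathlib
import Groth.Agent.Lib.Helper17.KProjAff
import Groth.Agent.Lib.Helper17.KInjFib
import Groth.Agent.Lib.Helper17.KInjW

set_option autoImplicit false
universe u
open CategoryTheory CategoryTheory.Limits AlgebraicGeometry Opposite TopologicalSpace
attribute [local instance] HasDerivedCategory.standard
open DCoh

namespace Groth.Agent.S14113

/-- Let X be an affine scheme and E a bounded above cochain complex of finite locally free O_X-modules
(a strictly pseudo-coherent complex). Then E is acyclic if and only if the identity of E is null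
homotopic. -/
theorem result {X : Scheme.{u}} [IsAffine X]
    (E : CochainComplex X.Modules ℤ) (b : ℤ) (hEb : ∀ i : ℤ, b < i → IsZero (E.X i))
    (hE : ∀ i : ℤ, FlatMod.IsFinLocFree (E.X i)) :
    E.Acyclic ↔ Nonempty (Homotopy (𝟙 E) 0) := by
  constructor
  · intro hac
    have hEq : ∀ i : ℤ, (E.X i).IsQuasicoherent := fun i =>
      Groth.Agent.Lib.Helper29.QCoh.isQuasicoherent_of_isFinLocFree (hE i)
    have hb := Groth.Agent.Lib.Helper17.KProjAff.qhBij_affine E E b hEb hE hEq
    haveI : QuasiIso (0 : E ⟶ E) := Groth.Agent.Lib.Helper17.KInjW.quasiIso_of_acyclic _ hac hac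
    haveI : IsIso (DerivedCategory.Q.map (0 : E ⟶ E)) := by
      rw [DerivedCategory.isIso_Q_map_iff_quasiIso]
      infer_instance
    have hz : IsZero (DerivedCategory.Q.obj E) := by
      rw [IsZero.iff_id_eq_zero]
      have h := IsIso.hom_inv_id (DerivedCategory.Q.map (0 : E ⟶ E))
      have h0 : DerivedCategory.Q.map (0 : E ⟶ E) = 0 := Functor.map_zero _ _ _
      have h' : DerivedCategory.Q.map (0 : E ⟶ E) ≫ inv (DerivedCategory.Q.map (0 : E ⟶ E)) = 0 := by
        conv_lhs => arg 1; rw [h0]
        exact zero_comp
      exact h.symm.trans h'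
    have h3 : (HomotopyCategory.quotient X.Modules (ComplexShape.up ℤ)).map (𝟙 E) =
        (HomotopyCategory.quotient X.Modules (ComplexShape.up ℤ)).map 0 := by
      apply hb.1
      exact hz.eq_of_src _ _
    exact ⟨HomotopyCategory.homotopyOfEq _ _ h3⟩
  · rintro ⟨H⟩
    exact Groth.Agent.Lib.Helper17.KInjFib.acyclic_of_homotopy_id_zero E H

end Groth.Agent.S14113
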