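import Groth.Statements.S14115
import Mathlib.Algebra.Algebra.Basic
import Mathlib.Algebra.BigOperators.Fin
import Mathlib.Data.List.OfFn
import Mathlib.Tactic.Abel

set_option autoImplicit false
universe u v
open SuperComm

namespace Groth.Agent.S14115

theorem aux {R : Type u} {S : Type v} [CommRing R] [Ring S] [Algebra R S] (x : S) :
    ∀ (n : ℕ) (y : Fin (n + 1) → S) (r : Fin (n + 1) → R),
      (∀ i : Fin (n + 1), x * y i + y i * x = algebraMap R S (r i)) →
      x * (List.ofFn y).prod + (-1 : S) ^ n * ((List.ofFn y).prod * x) =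
        ∑ p : Fin (n + 1), (-1 : S) ^ (p : ℕ) *
          (r p • (List.ofFn (fun q : Fin n => y (p.succAbove q))).prod)
  | 0, y, r, h => by
    simp [h 0, Algebra.algebraMap_eq_smul_one]
  | n + 1, y, r, h => by
    have ih := aux x n (fun i => y i.succ) (fun i => r i.succ) (fun i => h i.succ)
    have h0 := h 0
    rw [List.ofFn_succ, List.prod_cons, Fin.sum_univ_succ]
    set Y' := (List.ofFn fun i : Fin (n + 1) => y i.succ).prod with hY'
    have hsucc : ∀ p : Fin (n + 1),
        (List.ofFn (fun q : Fin (n + 1) => y (p.succ.succAbove q))).prod =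
          y 0 * (List.ofFn (fun q : Fin n => y (p.succAbove q).succ)).prod := by
      intro p
      rw [List.ofFn_succ, List.prod_cons]
      simp only [Fin.succ_succAbove_zero, Fin.succ_succAbove_succ]
    simp only [hsucc, Fin.succAbove_zero, Fin.val_zero, pow_zero, one_mul, Fin.val_succ]
    have hx : x * y 0 = algebraMap R S (r 0) - y 0 * x := by
      rw [← h0]; abel
    have hcomm : ∀ (m : ℕ) (a b : S), (-1 : S) ^ m * (a * b) = a * ((-1 : S) ^ m * b) := by
      intro m a b
      rw [← mul_assoc, ((Commute.neg_one_left a).pow_left m).eq, mul_assoc]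
    have e1 : x * (y 0 * Y') + (-1 : S) ^ (n + 1) * (y 0 * Y' * x) =
        r 0 • Y' - y 0 * (x * Y' + (-1 : S) ^ n * (Y' * x)) := by
      have a1 : x * (y 0 * Y') = r 0 • Y' - y 0 * (x * Y') := by
        rw [← mul_assoc x, hx, sub_mul, Algebra.algebraMap_eq_smul_one, smul_mul_assoc, one_mul,
          mul_assoc]
      have a2 : (-1 : S) ^ (n + 1) * (y 0 * Y' * x) = -(y 0 * ((-1 : S) ^ n * (Y' * x))) := by
        rw [pow_succ, mul_assoc ((-1 : S) ^ n), neg_one_mul, mul_neg, mul_assoc (y 0), hcomm]
      rw [a1, a2, mul_add]
      abel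
    rw [e1, ih, Finset.mul_sum, sub_eq_add_neg, ← Finset.sum_neg_distrib]
    congr 1
    refine Finset.sum_congr rfl fun p _ => ?_
    rw [pow_succ, mul_assoc ((-1 : S) ^ (p : ℕ)), neg_one_mul, mul_neg, ← mul_smul_comm, hcomm]

/-- Let S be an associative unital algebra over a commutative ring R, x an element and y_0, …, y_n
elements such that the anticommutator x y_i + y_i x equals r_i · 1 for scalars r_i ∈ R. Then the
graded commutator of x with the ordered product y_0 ⋯ y_n, namely x (y_0 ⋯ y_n) + (-1)^n (y_0 ⋯ y_n)
x, equals the sum over p of (-1)^p r_p times the ordered product of the y_q with q ≠ p. (The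
published statement takes x homogeneous of degree 1 and the y_i homogeneous of degree -1 in a graded
algebra with unit in degree 0, the signs being those of the supercommutator; this row states the
identity for arbitrary elements satisfying the anticommutation relations, which is what the
computation proves.) -/
theorem result {R : Type u} {S : Type v} [CommRing R] [Ring S]
    [Algebra R S] (n : ℕ) (x : S) (y : Fin (n + 1) → S) (r : Fin (n + 1) → R)
    (h : ∀ i : Fin (n + 1), x * y i + y i * x = algebraMap R S (r i)) :
    x * (List.ofFn y).prod + (-1 : S) ^ n * ((List.ofFn y).prod * x) =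
      ∑ p : Fin (n + 1), (-1 : S) ^ (p : ℕ) * (r p • (List.ofFn (fun q : Fin n => y (p.succAbove q))).prod) := by
  exact aux x n y r h

end Groth.Agent.S14115
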