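import Groth.Statements.S14116
import Groth.Agent.Lib.Helper5.HZDepth
import Groth.Agent.Lib.Helper5.HZshCorner
import Groth.Agent.Lib.Helper5.DepthFlat
import Groth.Agent.Lib.Helper29.QCohLocFree

set_option autoImplicit false
universe u
open CategoryTheory CategoryTheory.Limits AlgebraicGeometry Opposite TopologicalSpace
open LocCohZ

namespace Groth.Agent.S14116

/-- Let X be a locally Noetherian scheme, U ⊆ X open with closed complement Y, d a natural number such
that the depth of O_X along Y is at least d (every local ring O_{X,y}, y ∈ Y, has depth at least d),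
and M a finite locally free O_X-module. Then Γ(X, ℋ^d_Y(M)) is isomorphic to H^d_Y(X, M), where
ℋ^d_Y is the d-th right derived functor of the sheaf of sections with support in Y (applied to the
underlying abelian sheaf of M) and H^d_Y(X, M) is cohomology with support in Y. Existence of an
additive isomorphism only; the published statement asserts a canonical functorial isomorphism that
is linear over the global functions Γ(X, O_X) (obtained in its proof as the edge map of the
local-to-global spectral sequence), and adds that U ↦ H^d_{Y∩U}(U, M), U ⊆ X open, is a sheaf; none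
of this is part of this row. (The published statement assumes a flat morphism X → S with
Cohen–Macaulay fibres and relative codimension of Y at least d; these enter only through the depth
bound, which is the hypothesis of this row.) -/
theorem result (X : Scheme.{u}) [IsLocallyNoetherian X]
    (U : X.Opens) (d : ℕ)
    (hdepth : ∀ x : ↥X, x ∉ (U : Set ↥X) → (d : ℕ∞) ≤ LocCoh.depth ↑(X.presheaf.stalk x) ↑(X.presheaf.stalk x))
    (M : X.Modules) (hM : FlatMod.IsFinLocFree M) :
    Nonempty (↑(((LocCohZ.HZsh (X := X.carrier) U d).obj (Coh.toAb M)).obj.obj (op ⊤)) ≃+ LocCohZ.HZM X M d U) := by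
  haveI hq : M.IsQuasicoherent := Groth.Agent.Lib.Helper29.QCoh.isQuasicoherent_of_isFinLocFree hM
  haveI hfp : M.IsFinitePresentation :=
    Groth.Agent.Lib.Helper29.QCoh.isFinitePresentation_of_isFinLocFree hM
  haveI : M.IsFiniteType := inferInstance
  have hvan : ∀ i : ℕ, i < d → IsZero ((LocCohZ.HZsh (X := X.carrier) U i).obj (Coh.toAb M)) := by
    apply (Groth.Agent.Lib.Helper5.HZDepth.isZero_HZsh_lt_iff_depth M U d).2
    intro x hx
    haveI := Groth.Agent.Lib.Helper29.QCoh.free_stalk_of_isFinLocFree hM x
    exact (hdepth x hx).trans (Groth.Agent.Lib.Helper5.DepthFlat.depth_le_of_flat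
      (R := X.presheaf.stalk x) (M.presheaf.stalk x))
  exact Groth.Agent.Lib.Helper5.HZshCorner.nonempty_sections_HZsh_addEquiv_HZc
    (X := X.carrier) (Coh.toAb M) U d hvan

end Groth.Agent.S14116
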