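import Groth.Statements.S14118
import Groth.Agent.Lib.Helper10.TracePi
import Mathlib.Tactic.Linarith
import Mathlib.Tactic.Ring
import Mathlib.Algebra.Ring.Int.Parity

set_option autoImplicit false
universe u v w
open SuperComm

namespace Groth.Agent.S14118

section Aux

variable {R : Type u} [CommRing R]

/-- The sign `(-1)^|z|`. -/
def sgn (z : ℤ) : R := (-1 : R) ^ z.natAbs

lemma sgn_even {z : ℤ} (h : Even z) : (sgn z : R) = 1 :=
  Even.neg_one_pow (Int.natAbs_even.2 h)

lemma sgn_odd {z : ℤ} (h : Odd z) : (sgn z : R) = -1 :=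
  Odd.neg_one_pow (Int.natAbs_odd.2 h)

lemma sgn_add (x y : ℤ) : (sgn (x + y) : R) = sgn x * sgn y := by
  rcases Int.even_or_odd x with hx | hx <;> rcases Int.even_or_odd y with hy | hy
  · rw [sgn_even hx, sgn_even hy, sgn_even (hx.add hy), mul_one]
  · rw [sgn_even hx, sgn_odd hy, sgn_odd (hx.add_odd hy), one_mul]
  · rw [sgn_odd hx, sgn_even hy, sgn_odd (hx.add_even hy), mul_one]
  · rw [sgn_odd hx, sgn_odd hy, sgn_even (hx.add_odd hy)]
    ring

lemma sgn_neg_mul_self (b : ℤ) : (sgn (-b * b) : R) = sgn b := by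
  rcases Int.even_or_odd b with hb | hb
  · rw [sgn_even hb, sgn_even (hb.neg.mul_right b)]
  · rw [sgn_odd hb, sgn_odd (hb.neg.mul hb)]

lemma sgn_mul_self_eq_one (x : ℤ) : (sgn x : R) * sgn x = 1 := by
  rcases Int.even_or_odd x with hx | hx
  · rw [sgn_even hx, mul_one]
  · rw [sgn_odd hx]
    ring

variable {ι : Type v} [Fintype ι] [DecidableEq ι]
  (deg : ι → ℤ) (M : ι → Type w) [∀ i, AddCommGroup (M i)] [∀ i, Module R (M i)]
  [∀ i, Module.Free R (M i)] [∀ i, Module.Finite R (M i)]

/-- The grading involution. -/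
noncomputable def eps : (Π k, M k) →ₗ[R] (Π k, M k) :=
  ∑ i : ι, (LinearMap.single R M i) ∘ₗ ((sgn (deg i) : R) •
    (LinearMap.proj i : (Π k, M k) →ₗ[R] M i))

omit [∀ i, Module.Free R (M i)] [∀ i, Module.Finite R (M i)] in
lemma proj_comp_eps (i : ι) :
    (LinearMap.proj i : (Π k, M k) →ₗ[R] M i) ∘ₗ eps deg M =
      (sgn (deg i) : R) • (LinearMap.proj i : (Π k, M k) →ₗ[R] M i) := by
  refine LinearMap.ext fun x => ?_
  simp only [eps, LinearMap.comp_apply, LinearMap.sum_apply, LinearMap.smul_apply,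
    LinearMap.proj_apply, LinearMap.single_apply, Finset.sum_apply]
  rw [Finset.sum_eq_single i]
  · simp
  · intro j _ hj
    simp [hj.symm]
  · intro h
    exact absurd (Finset.mem_univ i) h

/-- Supertrace as a signed sum of traces of diagonal blocks. -/
lemma str_eq (f : (Π k, M k) →ₗ[R] (Π k, M k)) :
    LinearMap.trace R (Π k, M k) (eps deg M ∘ₗ f) =
      ∑ i : ι, (sgn (deg i) : R) *
        LinearMap.trace R (M i) ((LinearMap.proj i) ∘ₗ f ∘ₗ (LinearMap.single R M i)) := by
  rw [Groth.Agent.Lib.Helper10.trace_pi]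
  refine Finset.sum_congr rfl fun i _ => ?_
  rw [← LinearMap.comp_assoc, ← LinearMap.comp_assoc, proj_comp_eps, LinearMap.smul_comp,
    LinearMap.smul_comp, LinearMap.comp_assoc, map_smul, smul_eq_mul]

omit [∀ i, Module.Free R (M i)] [∀ i, Module.Finite R (M i)] in
/-- Block decomposition of a composite. -/
lemma block_comp (f g : (Π k, M k) →ₗ[R] (Π k, M k)) (i : ι) :
    (LinearMap.proj i) ∘ₗ (f ∘ₗ g) ∘ₗ (LinearMap.single R M i) =
      ∑ k : ι, ((LinearMap.proj i) ∘ₗ f ∘ₗ (LinearMap.single R M k)) ∘ₗ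
        ((LinearMap.proj k) ∘ₗ g ∘ₗ (LinearMap.single R M i)) := by
  refine LinearMap.ext fun x => ?_
  simp only [LinearMap.comp_apply, LinearMap.sum_apply, LinearMap.proj_apply,
    LinearMap.single_apply]
  rw [← Finset.sum_apply, ← map_sum, Finset.univ_sum_single]

end Aux

/-- Let R be a commutative ring and M a finitely ℤ-graded R-module with finitely many nonzero graded
pieces, each finite free, presented as a finite family of finite free R-modules M_i with integer
degrees deg i (the piece of degree n being the product of the M_i with deg i = n); an endomorphism φ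
of the total module Π_i M_i has degree a when its (i, j) block vanishes unless deg j = deg i + a;
the supertrace of an endomorphism is the trace of its composite with the grading involution ε = Σ_i
(-1)^{deg i} pr_i. If φ and ψ have degrees a and b, the supertrace of the supercommutator φψ -
(-1)^{ab} ψφ vanishes. (The published statement allows the graded pieces to be finitely generated
projective; this row takes them finite free, where the trace is the ordinary trace of a free
module.) -/
theorem result {R : Type u} [CommRing R] {ι : Type v} [Fintype ι] [DecidableEq ι]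
    (deg : ι → ℤ) (M : ι → Type w) [∀ i, AddCommGroup (M i)] [∀ i, Module R (M i)]
    [∀ i, Module.Free R (M i)] [∀ i, Module.Finite R (M i)]
    (a b : ℤ) (φ ψ : (Π k, M k) →ₗ[R] (Π k, M k))
    (hφ : ∀ i j : ι, deg j ≠ deg i + a → (LinearMap.proj j) ∘ₗ φ ∘ₗ (LinearMap.single R M i) = 0)
    (hψ : ∀ i j : ι, deg j ≠ deg i + b → (LinearMap.proj j) ∘ₗ ψ ∘ₗ (LinearMap.single R M i) = 0) :
    LinearMap.trace R (Π k, M k)
      ((∑ i : ι, (LinearMap.single R M i) ∘ₗ (((-1 : R) ^ (deg i).natAbs) • (LinearMap.proj i : (Π k, M k) →ₗ[R] M i))) ∘ₗ (φ ∘ₗ ψ - ((-1 : R) ^ (a * b).natAbs) • (ψ ∘ₗ φ))) = 0 := by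
  have hε : (∑ i : ι, (LinearMap.single R M i) ∘ₗ (((-1 : R) ^ (deg i).natAbs) •
      (LinearMap.proj i : (Π k, M k) →ₗ[R] M i))) = eps deg M := rfl
  have hc : ((-1 : R) ^ (a * b).natAbs) = sgn (a * b) := rfl
  rw [hε, hc, LinearMap.comp_sub, LinearMap.comp_smul, map_sub, map_smul, str_eq, str_eq]
  simp only [block_comp, map_sum]
  -- name the block traces
  set T : ι → ι → R := fun i k => LinearMap.trace R (M i)
    (((LinearMap.proj i) ∘ₗ φ ∘ₗ (LinearMap.single R M k)) ∘ₗ
      ((LinearMap.proj k) ∘ₗ ψ ∘ₗ (LinearMap.single R M i))) with hT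
  have h2 : ∀ i k : ι, LinearMap.trace R (M i)
      (((LinearMap.proj i) ∘ₗ ψ ∘ₗ (LinearMap.single R M k)) ∘ₗ
        ((LinearMap.proj k) ∘ₗ φ ∘ₗ (LinearMap.single R M i))) = T k i := by
    intro i k
    rw [hT]
    exact LinearMap.trace_comp_comm' _ _
  simp only [h2]
  change ∑ i, sgn (deg i) * ∑ k, T i k - sgn (a * b) • ∑ i, sgn (deg i) * ∑ k, T k i = 0
  have key : ∀ i k : ι, (sgn (deg i) : R) * T i k = sgn (a * b) * (sgn (deg k) * T i k) := by
    intro i k
    by_cases h1 : deg i = deg k + a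
    · by_cases h3 : deg k = deg i + b
      · have hab : a = -b := by linarith
        rw [hab, sgn_neg_mul_self, h3, sgn_add, ← mul_assoc, ← mul_assoc]
        rw [mul_comm (sgn b : R) (sgn (deg i)), mul_assoc (sgn (deg i) : R), sgn_mul_self_eq_one,
          mul_one]
      · have : (LinearMap.proj k) ∘ₗ ψ ∘ₗ (LinearMap.single R M i) = 0 := hψ i k h3
        simp only [hT, this, LinearMap.comp_zero, map_zero, mul_zero]
    · have : (LinearMap.proj i) ∘ₗ φ ∘ₗ (LinearMap.single R M k) = 0 := hφ k i h1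
      simp only [hT, this, LinearMap.zero_comp, map_zero, mul_zero]
  rw [sub_eq_zero, smul_eq_mul]
  simp only [Finset.mul_sum]
  rw [Finset.sum_comm (f := fun i k => sgn (a * b) * (sgn (deg i) * T k i))]
  refine Finset.sum_congr rfl fun i _ => Finset.sum_congr rfl fun k _ => ?_
  exact key i k

end Groth.Agent.S14118
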