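import Groth.Statements.S14122
import Mathlib.Algebra.Module.Lattice
import Mathlib.LinearAlgebra.Matrix.GeneralLinearGroup.Defs
import Mathlib.LinearAlgebra.Matrix.Basis
import Mathlib.RingTheory.DiscreteValuationRing.Basic
import Mathlib.GroupTheory.OrderOfElement

set_option autoImplicit false
universe u
open ValCrit

namespace Groth.Agent.S14122

/-- The core statement: a finite-order element of `GL_N(K)` is conjugate into `GL_N(R)`. -/
theorem core (R : Type u) [CommRing R] [IsDomain R] [IsDiscreteValuationRing R]
    (K : Type u) [Field K] [Algebra R K] [IsFractionRing R K]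
    (N : ℕ) (g : GL (Fin N) K) (hg : IsOfFinOrder g) :
    ∃ (h : GL (Fin N) K) (g' : GL (Fin N) R),
      h * g * h⁻¹ = Matrix.GeneralLinearGroup.map (algebraMap R K) g' := by
  classical
  obtain ⟨n, hn0, hn⟩ := hg.exists_pow_eq_one
  let V := Fin N → K
  let φ : V →ₗ[K] V := Matrix.toLin' (g : Matrix (Fin N) (Fin N) K)
  have hφpow : ∀ i : ℕ, φ ^ i = Matrix.toLin' ((g ^ i : GL (Fin N) K) : Matrix (Fin N) (Fin N) K) := by
    intro i
    induction i with
    | zero => simp [Module.End.one_eq_id]
    | succ i ih =>
      rw [pow_succ, ih, pow_succ, Units.val_mul, Matrix.toLin'_mul]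
      rfl
  have hφn : φ ^ n = 1 := by
    rw [hφpow, hn]
    simp [Module.End.one_eq_id]
  let φR : V →ₗ[R] V := φ.restrictScalars R
  have hφRpow : ∀ i : ℕ, ∀ v : V, (φR ^ i) v = (φ ^ i) v := by
    intro i
    induction i with
    | zero => intro v; rfl
    | succ i ih =>
      intro v
      rw [pow_succ, pow_succ, Module.End.mul_apply, Module.End.mul_apply, ih]
      rfl
  let L₀ : Submodule R V := Submodule.span R (Set.range (Pi.basisFun K (Fin N)))
  let L : Submodule R V := ⨆ i ∈ Finset.range n, L₀.map (φR ^ i)
  have hL₀fg : L₀.FG := Submodule.fg_span (Set.finite_range _)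
  have hLfg : L.FG := Submodule.fg_biSup _ _ (fun i _ => hL₀fg.map _)
  have hmap1 : L₀.map (1 : Module.End R V) = L₀ := Submodule.map_id L₀
  have hL₀L : L₀ ≤ L := by
    have : L₀.map (φR ^ 0) ≤ L :=
      le_biSup (fun i => L₀.map (φR ^ i)) (Finset.mem_range.2 hn0)
    rwa [pow_zero, hmap1] at this
  have hspan : Submodule.span K (L : Set V) = ⊤ := by
    rw [eq_top_iff, ← (Pi.basisFun K (Fin N)).span_eq]
    refine Submodule.span_mono ?_
    exact fun v hv => hL₀L (Submodule.subset_span hv)
  have hlat : Submodule.IsLattice K L := ⟨hLfg, hspan⟩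
  have hφRn : φR ^ n = 1 := LinearMap.ext fun v => by
    rw [hφRpow, hφn]
    rfl
  have hstab : ∀ x ∈ L, φR x ∈ L := by
    have : L.map φR ≤ L := by
      simp only [L, Submodule.map_iSup]
      refine iSup₂_le fun i hi => ?_
      rw [← Submodule.map_comp]
      have h1 : φR ∘ₗ (φR ^ i) = φR ^ (i + 1) := by
        rw [pow_succ']
        rfl
      rw [h1]
      by_cases h : i + 1 < n
      · exact le_biSup (fun i => L₀.map (φR ^ i)) (Finset.mem_range.2 h)
      · have h2 : i + 1 = n := by
          have := Finset.mem_range.1 hi
          omega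
        rw [h2, hφRn, hmap1]
        exact hL₀L
    exact fun x hx => this ⟨x, hx, rfl⟩
  have hstabpow : ∀ i : ℕ, ∀ x ∈ L, (φR ^ i) x ∈ L := by
    intro i
    induction i with
    | zero => intro x hx; simpa using hx
    | succ i ih =>
      intro x hx
      rw [pow_succ', Module.End.mul_apply]
      exact hstab _ (ih x hx)
  let φL : L →ₗ[R] L := φR.restrict hstab
  let ψL : L →ₗ[R] L := (φR ^ (n - 1)).restrict (hstabpow (n - 1))
  have hφψ : φL ∘ₗ ψL = LinearMap.id := by
    refine LinearMap.ext fun x => Subtype.ext ?_
    change φR ((φR ^ (n - 1)) x.1) = x.1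
    rw [← Module.End.mul_apply, ← pow_succ', Nat.sub_add_cancel hn0, hφRn]
    rfl
  have hψφ : ψL ∘ₗ φL = LinearMap.id := by
    refine LinearMap.ext fun x => Subtype.ext ?_
    change (φR ^ (n - 1)) (φR x.1) = x.1
    rw [← Module.End.mul_apply, ← pow_succ, Nat.sub_add_cancel hn0, hφRn]
    rfl
  -- bases
  have hfree : Module.Free R L := inferInstance
  let b₀ := Module.Free.chooseBasis R L
  have hcard : Fintype.card (Module.Free.ChooseBasisIndex R L) = N := by
    rw [← Module.finrank_eq_card_chooseBasisIndex R L, Submodule.IsLattice.finrank_of_pi K L]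
    simp
  let e := Fintype.equivFinOfCardEq hcard
  let b : Module.Basis (Fin N) R L := b₀.reindex e
  let bK : Module.Basis (Fin N) K V := b.extendOfIsLattice K
  have hbK : ∀ j, bK j = (b j).1 := fun j => Module.Basis.extendOfIsLattice_apply K b j
  -- coordinates
  have hrepr : ∀ (y : L) (i : Fin N), bK.repr y.1 i = algebraMap R K (b.repr y i) := by
    intro y i
    have hy : y.1 = ∑ j, (algebraMap R K (b.repr y j)) • bK j := by
      conv_lhs => rw [← b.sum_repr y]
      rw [Submodule.coe_sum]
      refine Finset.sum_congr rfl fun j _ => ?_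
      rw [Submodule.coe_smul, hbK, algebraMap_smul]
    rw [hy, map_sum, Finset.sum_apply', Finset.sum_eq_single i]
    · rw [map_smul, Module.Basis.repr_self, Finsupp.smul_apply, Finsupp.single_eq_same,
        smul_eq_mul, mul_one]
    · intro j _ hj
      rw [map_smul, Module.Basis.repr_self, Finsupp.smul_apply, Finsupp.single_eq_of_ne hj.symm,
        smul_zero]
    · intro hi
      exact absurd (Finset.mem_univ i) hi
  let AR : Matrix (Fin N) (Fin N) R := LinearMap.toMatrix b b φL
  let AR' : Matrix (Fin N) (Fin N) R := LinearMap.toMatrix b b ψL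
  have hAA' : AR * AR' = 1 := by
    rw [← LinearMap.toMatrix_comp, hφψ, LinearMap.toMatrix_id]
  have hA'A : AR' * AR = 1 := by
    rw [← LinearMap.toMatrix_comp, hψφ, LinearMap.toMatrix_id]
  let g' : GL (Fin N) R := ⟨AR, AR', hAA', hA'A⟩
  have hmat : AR.map (algebraMap R K) = LinearMap.toMatrix bK bK φ := by
    ext i j
    change algebraMap R K (LinearMap.toMatrix b b φL i j) = LinearMap.toMatrix bK bK φ i j
    rw [LinearMap.toMatrix_apply, LinearMap.toMatrix_apply, hbK]
    exact (hrepr (φL (b j)) i).symm
  let std := Pi.basisFun K (Fin N)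
  let h : GL (Fin N) K := ⟨bK.toMatrix std, std.toMatrix bK, Module.Basis.toMatrix_mul_toMatrix_flip _ _,
    Module.Basis.toMatrix_mul_toMatrix_flip _ _⟩
  refine ⟨h, g', Units.ext ?_⟩
  change bK.toMatrix std * (g : Matrix (Fin N) (Fin N) K) * std.toMatrix bK =
    AR.map (algebraMap R K)
  have key := basis_toMatrix_mul_linearMap_toMatrix_mul_basis_toMatrix bK std bK std φ
  have hstd : LinearMap.toMatrix std std φ = (g : Matrix (Fin N) (Fin N) K) := by
    rw [LinearMap.toMatrix_eq_toMatrix', LinearMap.toMatrix'_toLin']
  rw [hmat, ← key, hstd]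

/-- Let `R` be a discrete valuation ring with fraction field `K` and `g ∈ GL_N(K)` an element of finite
order. Then after passing to a finite extension `K'` of `K` and a discrete valuation ring `R'` of
`K'` dominating `R`, the element `g` becomes conjugate in `GL_N(K')` to an element of `GL_N(R')`.
(The published statement is that the classifying stack of `GL_N` over the integers satisfies a
valuative condition, for discrete valuation rings essentially of finite type over the integers, on
extending finite-order generic automorphisms along nearby modifications; since vector bundles over a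
discrete valuation ring are trivial, that condition is this conjugacy statement for such rings, and
this row states it for every discrete valuation ring, as the printed argument gives.) -/
theorem result
    (R : Type u) [CommRing R] [IsDomain R] [IsDiscreteValuationRing R]
    (K : Type u) [Field K] [Algebra R K] [IsFractionRing R K]
    (N : ℕ) (g : GL (Fin N) K) (hg : IsOfFinOrder g) :
    ∃ (R' : Type u) (_ : CommRing R') (_ : IsDomain R') (_ : IsDiscreteValuationRing R')
      (K' : Type u) (_ : Field K') (_ : Algebra R' K') (_ : IsFractionRing R' K')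
      (_ : Algebra R R') (_ : Algebra K K') (_ : Algebra R K')
      (_ : IsScalarTower R R' K') (_ : IsScalarTower R K K')
      (_ : Module.Finite K K') (_ : IsLocalHom (algebraMap R R'))
      (h : GL (Fin N) K') (g' : GL (Fin N) R'),
      h * Matrix.GeneralLinearGroup.map (algebraMap K K') g * h⁻¹ =
        Matrix.GeneralLinearGroup.map (algebraMap R' K') g' := by
  obtain ⟨h, g', hh⟩ := core R K N g hg
  refine ⟨R, inferInstance, inferInstance, inferInstance, K, inferInstance, inferInstance,
    inferInstance, Algebra.id R, Algebra.id K, inferInstance, inferInstance, inferInstance,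
    inferInstance, ?_, h, g', ?_⟩
  · change IsLocalHom (RingHom.id R)
    infer_instance
  · rw [← hh]
    congr 2

end Groth.Agent.S14122
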