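import Groth.Statements.S14136
import Groth.Agent.Lib.Helper2.DegAdd.KerIm
import Groth.Agent.Lib.Helper2.DegAdd.GeomConn

set_option autoImplicit false
universe u
open CategoryTheory CategoryTheory.Limits AlgebraicGeometry
open VBCurve

namespace Groth.Agent.S14136

/-- Let C be a smooth proper geometrically connected curve over a field k (proper, smooth and
geometrically connected over k, of dimension one), and E, F finite locally free O_C-modules of ranks
r ≥ 1 and s ≥ 1 which are semistable: for every finite locally free submodule G of E of rank r' ≥ 1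
one has deg G · r ≤ deg E · r', and similarly for F; here the degree of a rank-n locally free module
is χ(G) − n·χ(O_C), and semistability is tested on submodules, which is equivalent to the definition
through quotient bundles. If μ(E) > μ(F), that is deg E · s > deg F · r, then every homomorphism E →
F is zero. -/
theorem result (k : Type u) [Field k] (X : Scheme.{u}) [X.Over (Spec (CommRingCat.of k))]
    [IsProper (X ↘ Spec (CommRingCat.of k))] [Smooth (X ↘ Spec (CommRingCat.of k))]
    [GeometricallyConnected (X ↘ Spec (CommRingCat.of k))] (hdim : topologicalKrullDim ↥X = 1)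
    (r s : ℕ) (hr : 0 < r) (hs : 0 < s) (E F : X.Modules)
    (hE : FlatMod.IsFinLocFreeOfRank r E) (hF : FlatMod.IsFinLocFreeOfRank s F)
    (hEss : (∀ (G : X.Modules) (r' : ℕ) (i : G ⟶ E), Mono i → 0 < r' → FlatMod.IsFinLocFreeOfRank r' G →
      Curv2.deg k X G r' * (r : ℤ) ≤ Curv2.deg k X E r * (r' : ℤ)))
    (hFss : (∀ (G : X.Modules) (r' : ℕ) (i : G ⟶ F), Mono i → 0 < r' → FlatMod.IsFinLocFreeOfRank r' G →
      Curv2.deg k X G r' * (s : ℤ) ≤ Curv2.deg k X F s * (r' : ℤ)))
    (hslope : Curv2.deg k X F s * (r : ℤ) < Curv2.deg k X E r * (s : ℤ)) (f : E ⟶ F) : f = 0 := by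
  have hint : IsIntegral X :=
    Groth.Agent.Lib.Helper2.DegAdd.isIntegral_of_geometricallyConnected k X hdim
  have hne : Nonempty X := inferInstance
  by_contra hf
  obtain ⟨a, b, ha, hb, hrab, hd⟩ :=
    Groth.Agent.Lib.Helper2.DegAdd.exists_ker_im_decomp k (le_of_eq hdim) r s hE hF f
  have hb0 : 0 < b := by
    by_contra hb0
    have hb' : b = 0 := by omega
    subst hb'
    have hz := Groth.Agent.Lib.Helper2.DegAdd.isZero_of_rank_zero hb
    apply hf
    rw [← CategoryTheory.Abelian.image.fac f, hz.eq_of_src (CategoryTheory.Abelian.image.ι f) 0,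
      CategoryTheory.Limits.comp_zero]
  have hIF := hFss (CategoryTheory.Abelian.image f) b (CategoryTheory.Abelian.image.ι f)
    inferInstance hb0 hb
  have hrab' : (r : ℤ) = (a : ℤ) + (b : ℤ) := by exact_mod_cast hrab
  have hr' : (0 : ℤ) < (r : ℤ) := by exact_mod_cast hr
  have hs' : (0 : ℤ) < (s : ℤ) := by exact_mod_cast hs
  have hb' : (0 : ℤ) < (b : ℤ) := by exact_mod_cast hb0
  rcases Nat.eq_zero_or_pos a with ha0 | ha0
  · subst ha0
    have hK := Groth.Agent.Lib.Helper2.DegAdd.deg_eq_zero_of_isZero k
      (Groth.Agent.Lib.Helper2.DegAdd.isZero_of_rank_zero ha)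
    rw [hK, zero_add] at hd
    have hrb : r = b := by omega
    subst hrb
    rw [← hd] at hIF
    exact absurd hIF (not_le.mpr hslope)
  · have hK := hEss (CategoryTheory.Limits.kernel f) a (CategoryTheory.Limits.kernel.ι f)
      inferInstance ha0 ha
    generalize Curv2.deg k X E r = dE at *
    generalize Curv2.deg k X F s = dF at *
    generalize Curv2.deg k X (CategoryTheory.Limits.kernel f) a = dK at *
    generalize Curv2.deg k X (CategoryTheory.Abelian.image f) b = dI at *
    have star : dE * (b : ℤ) ≤ dI * (r : ℤ) := by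
      rw [hd, hrab'] at hK ⊢
      nlinarith
    have h1 := mul_le_mul_of_nonneg_right star hs'.le
    have h2 := mul_le_mul_of_nonneg_right hIF hr'.le
    have h3 := mul_lt_mul_of_pos_right hslope hb'
    nlinarith

end Groth.Agent.S14136
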