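import Groth.Statements.S14137
import Groth.Agent.Lib.Helper2.DegAdd.GenIso
import Groth.Agent.Lib.Helper2.DegAdd.GeomConn

set_option autoImplicit false
universe u
open CategoryTheory CategoryTheory.Limits AlgebraicGeometry
open VBCurve

namespace Groth.Agent.S14137

/-- Let C be a smooth proper geometrically connected curve over a field k (proper, smooth and
geometrically connected over k, of dimension one), and E a finite locally free O_C-module of rank r
≥ 1 which is stable: for every finite locally free submodule G of E of rank r' ≥ 1 whose inclusion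
is not an isomorphism one has deg G · r < deg E · r', the degree of a rank-n locally free module
being χ(G) − n·χ(O_C) (stability tested on proper submodules, equivalent to the definition through
quotient bundles). Then every nonzero endomorphism of E is an isomorphism, i.e. End(E) is a division
ring. (Over an algebraically closed field it follows that End(E) = k; that consequence is not
restated.) -/
theorem result (k : Type u) [Field k] (X : Scheme.{u}) [X.Over (Spec (CommRingCat.of k))]
    [IsProper (X ↘ Spec (CommRingCat.of k))] [Smooth (X ↘ Spec (CommRingCat.of k))]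
    [GeometricallyConnected (X ↘ Spec (CommRingCat.of k))] (hdim : topologicalKrullDim ↥X = 1)
    (r : ℕ) (hr : 0 < r) (E : X.Modules) (hE : FlatMod.IsFinLocFreeOfRank r E)
    (hEst : (∀ (G : X.Modules) (r' : ℕ) (i : G ⟶ E), Mono i → 0 < r' → FlatMod.IsFinLocFreeOfRank r' G → (¬ IsIso i) →
      Curv2.deg k X G r' * (r : ℤ) < Curv2.deg k X E r * (r' : ℤ)))
    (f : E ⟶ E) (hf : f ≠ 0) : IsIso f := by
  have hint : IsIntegral X :=
    Groth.Agent.Lib.Helper2.DegAdd.isIntegral_of_geometricallyConnected k X hdim
  have hne : Nonempty X := inferInstance
  obtain ⟨a, b, ha, hb, hrab, hd⟩ :=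
    Groth.Agent.Lib.Helper2.DegAdd.exists_ker_im_decomp k (le_of_eq hdim) r r hE hE f
  have hb0 : 0 < b := by
    by_contra hb0
    have hb' : b = 0 := by omega
    subst hb'
    have hz := Groth.Agent.Lib.Helper2.DegAdd.isZero_of_rank_zero hb
    apply hf
    rw [← CategoryTheory.Abelian.image.fac f, hz.eq_of_src (CategoryTheory.Abelian.image.ι f) 0,
      CategoryTheory.Limits.comp_zero]
  have hrab' : (r : ℤ) = (a : ℤ) + (b : ℤ) := by exact_mod_cast hrab
  have ha0 : a = 0 := by
    by_contra ha0
    have ha1 : 0 < a := Nat.pos_of_ne_zero ha0
    have hKni : ¬ CategoryTheory.IsIso (CategoryTheory.Limits.kernel.ι f) := by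
      intro hiso
      apply hf
      have h0 := CategoryTheory.Limits.kernel.condition f
      rw [← CategoryTheory.cancel_epi (CategoryTheory.Limits.kernel.ι f), h0,
        CategoryTheory.Limits.comp_zero]
    have hK := hEst (CategoryTheory.Limits.kernel f) a (CategoryTheory.Limits.kernel.ι f)
      inferInstance ha1 ha hKni
    have hIni : ¬ CategoryTheory.IsIso (CategoryTheory.Abelian.image.ι f) := by
      intro hiso
      have hle : r ≤ b := Groth.Agent.Lib.Helper2.DegAdd.rank_le_of_mono
        (CategoryTheory.inv (CategoryTheory.Abelian.image.ι f)) r b hE hb (Classical.arbitrary X)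
      omega
    have hI := hEst (CategoryTheory.Abelian.image f) b (CategoryTheory.Abelian.image.ι f)
      inferInstance hb0 hb hIni
    generalize Curv2.deg k X E r = dE at *
    generalize Curv2.deg k X (CategoryTheory.Limits.kernel f) a = dK at *
    generalize Curv2.deg k X (CategoryTheory.Abelian.image f) b = dI at *
    rw [hd, hrab'] at hK hI
    nlinarith
  subst ha0
  have hKz := Groth.Agent.Lib.Helper2.DegAdd.isZero_of_rank_zero ha
  have hmono : CategoryTheory.Mono f :=
    CategoryTheory.Preadditive.mono_of_isZero_kernel f hKz
  exact Groth.Agent.Lib.Helper2.DegAdd.isIso_of_mono_of_deg_eq k (le_of_eq hdim) f r hE hE rfl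

end Groth.Agent.S14137
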