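import Groth.Statements.S14141
import Mathlib
import Groth.Agent.Lib.Helper26.RigE

set_option autoImplicit false
universe u
open CategoryTheory CategoryTheory.Limits AlgebraicGeometry
open AbSch

namespace Groth.Agent.S14141

/-- Let S be a connected Noetherian scheme, f : X → S a proper flat morphism such that for every point s
of S the natural map κ(s) → H^0(X_s, O_{X_s}) on global sections of the fibre is bijective, g : Y →
S a separated morphism and π : X → Y a morphism over S. If for some point s of S the restriction of
π to the fibre X_s is constant, i.e. factors through the projection X_s → Spec κ(s), then π is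
constant over all of S: it factors as f followed by a section S → Y of g. (The published statement
is for arbitrary Noetherian S with the conclusion over the connected component of s; this row
assumes S connected, the reduction made in the first line of the printed proof.) -/
theorem result {X Y S : Scheme.{u}} [IsNoetherian S] [ConnectedSpace ↥S]
    (f : X ⟶ S) [IsProper f] [Flat f]
    (hfib : ∀ s : ↥S, Function.Bijective (algebraMap (S.residueField s) Γ(f.fiber s, ⊤)))
    (g : Y ⟶ S) [IsSeparated g] (π : X ⟶ Y) (hπ : π ≫ g = f) (s : ↥S)
    (hs : ∃ y : Spec (S.residueField s) ⟶ Y, f.fiberι s ≫ π = f.fiberToSpecResidueField s ≫ y) :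
    ∃ σ : S ⟶ Y, σ ≫ g = 𝟙 S ∧ π = f ≫ σ := by
  have HF : Groth.Agent.Lib.Helper26.RigD.HFib f :=
    Groth.Agent.Lib.Helper26.RigE.hfib_of_residue f (fun t => by
      have h2 : Function.Bijective ((f.fiberToSpecResidueField t).appTop.hom ∘
          (Scheme.ΓSpecIso (S.residueField t)).inv.hom) := hfib t
      have h3 : Function.Bijective (Scheme.ΓSpecIso (S.residueField t)).hom.hom :=
        ConcreteCategory.bijective_of_isIso (Scheme.ΓSpecIso (S.residueField t)).hom
      have h4 := h2.comp h3
      have h5 : ((f.fiberToSpecResidueField t).appTop.hom ∘
          (Scheme.ΓSpecIso (S.residueField t)).inv.hom) ∘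
          (Scheme.ΓSpecIso (S.residueField t)).hom.hom =
          (pullback.snd f (S.fromSpecResidueField t)).appTop.hom := by
        funext x
        change (f.fiberToSpecResidueField t).appTop.hom
          (((Scheme.ΓSpecIso (S.residueField t)).hom ≫
            (Scheme.ΓSpecIso (S.residueField t)).inv).hom x) = _
        rw [Iso.hom_inv_id]
        rfl
      rw [h5] at h4
      exact h4)
  have hgood : Groth.Agent.Lib.Helper26.RigD.Good f π s :=
    Groth.Agent.Lib.Helper26.RigE.good_of_const f π s hs
  obtain ⟨σ, h1, h2⟩ := Groth.Agent.Lib.Helper26.RigD.main f HF π g (𝟙 S)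
    (by rw [hπ, Category.comp_id]) s hgood
  exact ⟨σ, h2, h1.symm⟩

end Groth.Agent.S14141
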