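import Groth.Statements.S1415
import Mathlib
import Groth.Agent.Lib.Helper6.BddFibQF
-- import your own Groth.Agent.* helpers here

set_option autoImplicit false
universe u
open FlatMor

namespace Groth.Agent.S1415

open AlgebraicGeometry CategoryTheory Limits in
/-- Let f : X → Y be locally quasi-finite. Then (1) for every y the number of irreducible components and
the number of connected components of the geometric fibre over y agree, and (2) if X is
quasi-compact these numbers are bounded by some natural number. -/
theorem result {X Y : Scheme.{u}} (f : X ⟶ Y) [LocallyQuasiFinite f] [LocallyOfFiniteType f] :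
    (∀ y : Y, MoreMor.nGeomIrredComp f y = MoreMor.nGeomConnComp f y) ∧
      (CompactSpace ↑X → ∃ d : ℕ, ∀ y : Y, MoreMor.nGeomConnComp f y ≤ d) := by
  classical
  -- general facts on discrete spaces
  have hdisc : ∀ (Z : Type u) [TopologicalSpace Z] [DiscreteTopology Z],
      (irreducibleComponents Z).encard = ENat.card Z ∧
        ENat.card (_root_.ConnectedComponents Z) = ENat.card Z := by
    intro Z _ _
    constructor
    · have h1 : irreducibleComponents Z = Set.range (fun z : Z => ({z} : Set Z)) := by
        ext s
        constructor
        · intro hs
          obtain ⟨x, rfl⟩ := isIrreducible_iff_singleton.mp hs.1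
          exact ⟨x, rfl⟩
        · rintro ⟨x, rfl⟩
          refine ⟨isIrreducible_singleton, fun t ht hxt => ?_⟩
          obtain ⟨y, rfl⟩ := isIrreducible_iff_singleton.mp ht
          have hxy : x = y := hxt rfl
          subst hxy
          exact le_refl _
      rw [h1, ← Set.image_univ, Function.Injective.encard_image Set.singleton_injective,
        Set.encard_univ]
    · have hbij : Function.Bijective
          (_root_.ConnectedComponents.mk : Z → _root_.ConnectedComponents Z) := by
        refine ⟨fun a b hab => ?_, ConnectedComponents.surjective_coe⟩
        have := ConnectedComponents.coe_eq_coe'.mp hab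
        rw [connectedComponent_eq_singleton] at this
        exact this
      exact (ENat.card_congr (Equiv.ofBijective _ hbij)).symm
  -- the geometric fibres are discrete
  have hgeom : ∀ y : Y, DiscreteTopology ↥(MoreMor.geomFiber f y) := by
    intro y
    let q := AlgebraicGeometry.Spec.map (CommRingCat.ofHom
      (algebraMap (Y.residueField y) (SeparableClosure (Y.residueField y))))
    let p := CategoryTheory.Limits.pullback.snd (f.fiberToSpecResidueField y) q
    haveI : AlgebraicGeometry.LocallyQuasiFinite (f.fiberToSpecResidueField y) :=
      CategoryTheory.MorphismProperty.pullback_snd _ _ inferInstance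
    haveI : AlgebraicGeometry.LocallyQuasiFinite p := inferInstance
    have hd := p.isDiscrete_preimage_singleton (default : ↥(AlgebraicGeometry.Spec
      (CommRingCat.of (SeparableClosure (Y.residueField y)))))
    have huniv : (⇑p ⁻¹' {default}) = Set.univ := by
      ext z
      simp only [Set.mem_preimage, Set.mem_singleton_iff, Set.mem_univ, iff_true]
      exact Subsingleton.elim _ _
    rw [huniv] at hd
    exact isDiscrete_univ_iff.mp hd
  refine ⟨fun y => ?_, fun hX => ?_⟩
  · haveI := hgeom y
    unfold MoreMor.nGeomIrredComp MoreMor.nGeomConnComp
    rw [(hdisc _).1, (hdisc _).2]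
  · haveI := hX
    obtain ⟨n, hn⟩ := Groth.Agent.Lib.Helper6.BddFibLib.univBounded_of_locallyQuasiFinite f
    refine ⟨n, fun y => ?_⟩
    haveI := hgeom y
    unfold MoreMor.nGeomConnComp
    rw [(hdisc _).2]
    let q := AlgebraicGeometry.Spec.map (CommRingCat.ofHom
      (algebraMap (Y.residueField y) (SeparableClosure (Y.residueField y))))
    have hpb : CategoryTheory.IsPullback
        (CategoryTheory.Limits.pullback.snd (f.fiberToSpecResidueField y) q)
        (CategoryTheory.Limits.pullback.fst (f.fiberToSpecResidueField y) q) q
        (f.fiberToSpecResidueField y) :=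
      (CategoryTheory.IsPullback.of_hasPullback (f.fiberToSpecResidueField y) q).flip
    have h1 := (Groth.Agent.Lib.Helper6.BddFibLib.finiteOfDegLE_baseChange_iff
      (K := Y.residueField y) (K' := CommRingCat.of (SeparableClosure (Y.residueField y)))
      (Field.toIsField _) (Field.toIsField _) (f.fiberToSpecResidueField y) q _ _ hpb n).mp (hn y)
    obtain ⟨h2, h3⟩ := Groth.Agent.Lib.Helper6.BddFibLib.finite_and_card_le_of_finiteOfDegLE
      (Field.toIsField _) _ n h1
    haveI : Finite ↥(MoreMor.geomFiber f y) := h2
    have h3' : Nat.card ↥(MoreMor.geomFiber f y) ≤ n := h3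
    have h4 : ENat.card ↥(MoreMor.geomFiber f y) = (Nat.card ↥(MoreMor.geomFiber f y) : ℕ∞) :=
      (ENat.card_eq_coe_natCard _)
    rw [h4]
    exact_mod_cast h3'

end Groth.Agent.S1415
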