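import Groth.Statements.S1417
import Mathlib
import Groth.Agent.Lib.Helper18.SmExt3
import Groth.Agent.S1488

set_option autoImplicit false
universe u
open FlatMor

namespace Groth.Agent.S1417

open AlgebraicGeometry CategoryTheory Limits in
/-- Let S be locally Noetherian and f : X → S locally of finite type. Then f is smooth if and only if
for every small extension B' → B of Artinian local rings (a surjection whose kernel is generated by
one element annihilated by the maximal ideal), every morphism Spec B → X and every morphism Spec B'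
→ S locally of finite type making the square commute, there is a lift Spec B' → X. -/
theorem result {X S : Scheme.{u}} (f : X ⟶ S) [IsLocallyNoetherian S] [LocallyOfFiniteType f] :
    Smooth f ↔ ∀ (B B' : Type u) [CommRing B] [CommRing B'] [IsArtinianRing B] [IsArtinianRing B'] [IsLocalRing B] [IsLocalRing B']
      (φ : B' →+* B) (ε : B'), Function.Surjective φ → RingHom.ker φ = Ideal.span {ε} → (∀ m ∈ IsLocalRing.maximalIdeal B', ε * m = 0) →
      ∀ (α : Spec (CommRingCat.of B) ⟶ X) (β : Spec (CommRingCat.of B') ⟶ S), LocallyOfFiniteType β →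
        Spec.map (CommRingCat.ofHom φ) ≫ β = α ≫ f →
        ∃ γ : Spec (CommRingCat.of B') ⟶ X, Spec.map (CommRingCat.ofHom φ) ≫ γ = α ∧ γ ≫ f = β := by
  constructor
  · -- smooth ⇒ lifting
    intro hsm B B' _ _ _ _ _ _ φ ε hφ hker hε α β _ hcomm
    have hfs : MoreMor.IsFormallySmoothHom f := ((Groth.Agent.S1488.result f).1 hsm).2
    have hεm : ε ∈ IsLocalRing.maximalIdeal B' := by
      rw [IsLocalRing.mem_maximalIdeal, mem_nonunits_iff]
      intro hu
      have h1 : ε ∈ RingHom.ker φ := by rw [hker]; exact Ideal.subset_span rfl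
      have h2 : φ ε = 0 := h1
      have h3 : IsUnit (φ ε) := hu.map φ
      rw [h2] at h3
      exact not_isUnit_zero h3
    have hI : RingHom.ker φ ^ 2 = ⊥ := by
      rw [hker, Ideal.span_singleton_pow, pow_two, hε ε hεm]
      simp
    let e : (B' ⧸ RingHom.ker φ) ≃+* B := RingHom.quotientKerEquivOfSurjective hφ
    have he : ∀ x : B', e (Ideal.Quotient.mk _ x) = φ x := fun x => rfl
    have h1 : CommRingCat.ofHom φ ≫ CommRingCat.ofHom (e.symm : B →+* B' ⧸ RingHom.ker φ) =
        CommRingCat.ofHom (Ideal.Quotient.mk (RingHom.ker φ)) := by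
      ext x
      simp only [CommRingCat.hom_comp, CommRingCat.hom_ofHom, RingHom.coe_comp,
        Function.comp_apply, RingHom.coe_coe]
      rw [← he x, RingEquiv.symm_apply_apply]
    have h2 : CommRingCat.ofHom (Ideal.Quotient.mk (RingHom.ker φ)) ≫
        CommRingCat.ofHom (e : B' ⧸ RingHom.ker φ →+* B) = CommRingCat.ofHom φ := by
      ext x
      rfl
    have h3 : CommRingCat.ofHom (e.symm : B →+* B' ⧸ RingHom.ker φ) ≫
        CommRingCat.ofHom (e : B' ⧸ RingHom.ker φ →+* B) = 𝟙 _ := by
      ext x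
      simp
    obtain ⟨l, hl1, hl2⟩ := hfs B' (RingHom.ker φ) hI
      (Spec.map (CommRingCat.ofHom (e.symm : B →+* B' ⧸ RingHom.ker φ)) ≫ α) β (by
        rw [Category.assoc, ← hcomm, ← Spec.map_comp_assoc, h1])
    refine ⟨l, ?_, hl2⟩
    rw [← h2, Spec.map_comp, Category.assoc, hl1, ← Spec.map_comp_assoc, h3, Spec.map_id,
      Category.id_comp]
  · -- lifting ⇒ smooth
    intro H
    rw [HasRingHomProperty.iff_appLE (P := @Smooth)]
    intro U V e
    have hft : RingHom.FiniteType (f.appLE U.1 V.1 e).hom :=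
      (HasRingHomProperty.iff_appLE (P := @LocallyOfFiniteType)).1 inferInstance U V e
    haveI : IsNoetherianRing Γ(S, U.1) := IsLocallyNoetherian.component_noetherian U
    algebraize [(f.appLE U.1 V.1 e).hom]
    have hU : IsAffineOpen U.1 := U.2
    have hV : IsAffineOpen V.1 := V.2
    suffices hsm : Algebra.Smooth Γ(S, U.1) Γ(X, V.1) from hsm
    apply Groth.Agent.Lib.Helper18.SmExt.smooth_of_lift_small_extensions_finiteType
    intro B' B _ _ _ _ _ _ _ _ π hπ ⟨t, hker, ht⟩ hftB' g
    -- the two maps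
    let α : Spec (CommRingCat.of B) ⟶ X := Spec.map (CommRingCat.ofHom (g : Γ(X, V.1) →+* B)) ≫ hV.fromSpec
    let β : Spec (CommRingCat.of B') ⟶ S :=
      Spec.map (CommRingCat.ofHom (algebraMap Γ(S, U.1) B')) ≫ hU.fromSpec
    have hβ : LocallyOfFiniteType β := by
      have : LocallyOfFiniteType (Spec.map (CommRingCat.ofHom (algebraMap Γ(S, U.1) B'))) := by
        rw [HasRingHomProperty.Spec_iff (P := @LocallyOfFiniteType)]
        exact RingHom.finiteType_algebraMap.2 hftB'
      infer_instance
    have hcomm : Spec.map (CommRingCat.ofHom (π : B' →+* B)) ≫ β = α ≫ f := by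
      simp only [α, β, Category.assoc]
      rw [← hU.SpecMap_appLE_fromSpec f hV e, ← Spec.map_comp_assoc, ← Spec.map_comp_assoc]
      congr 2
      ext x
      simp only [CommRingCat.hom_comp, CommRingCat.hom_ofHom, RingHom.coe_comp,
        Function.comp_apply, RingHom.coe_coe]
      rw [π.commutes]
      exact (g.commutes x).symm
    obtain ⟨γ, hγ1, hγ2⟩ := H B B' (π : B' →+* B) t hπ hker
      (fun m hm => by rw [mul_comm]; exact ht m hm) α β hβ hcomm
    -- γ factors through V
    haveI : IsLocalHom (π : B' →+* B) := IsLocalHom.of_surjective _ hπ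
    have hrange : Set.range γ ⊆ Set.range hV.fromSpec := by
      rw [hV.range_fromSpec]
      have hcl : (IsLocalRing.closedPoint B' : Spec (CommRingCat.of B')) ∈ γ ⁻¹ᵁ V.1 := by
        have h1 : (IsLocalRing.closedPoint B' : Spec (CommRingCat.of B')) =
            (Spec.map (CommRingCat.ofHom (π : B' →+* B))) (IsLocalRing.closedPoint B) :=
          (IsLocalRing.comap_closedPoint (π : B' →+* B)).symm
        show γ (IsLocalRing.closedPoint B') ∈ (V.1 : Set X)
        rw [h1, ← Scheme.Hom.comp_apply, hγ1, ← hV.range_fromSpec]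
        exact ⟨_, rfl⟩
      have htop : γ ⁻¹ᵁ V.1 = ⊤ := (IsLocalRing.closedPoint_mem_iff _).mp hcl
      rintro _ ⟨y, rfl⟩
      have : y ∈ γ ⁻¹ᵁ V.1 := by rw [htop]; trivial
      exact this
    let ℓ : Spec (CommRingCat.of B') ⟶ Spec Γ(X, V.1) := IsOpenImmersion.lift hV.fromSpec γ hrange
    have hℓ : ℓ ≫ hV.fromSpec = γ := IsOpenImmersion.lift_fac _ _ _
    have e1 : Spec.preimage ℓ ≫ CommRingCat.ofHom (π : B' →+* B) =
        CommRingCat.ofHom (g : Γ(X, V.1) →+* B) := by
      apply Spec.map_injective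
      rw [Spec.map_comp, Spec.map_preimage, ← cancel_mono hV.fromSpec, Category.assoc, hℓ, hγ1]
    have e2 : f.appLE U.1 V.1 e ≫ Spec.preimage ℓ =
        CommRingCat.ofHom (algebraMap Γ(S, U.1) B') := by
      apply Spec.map_injective
      rw [Spec.map_comp, Spec.map_preimage, ← cancel_mono hU.fromSpec, Category.assoc,
        hU.SpecMap_appLE_fromSpec f hV e, ← Category.assoc, hℓ, hγ2]
    let g' : Γ(X, V.1) →ₐ[Γ(S, U.1)] B' :=
      { toRingHom := (Spec.preimage ℓ).hom
        commutes' := fun r => congrArg (fun k : Γ(S, U.1) ⟶ CommRingCat.of B' => k.hom r) e2 }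
    refine ⟨g', ?_⟩
    ext x
    exact congrArg (fun k : Γ(X, V.1) ⟶ CommRingCat.of B => k.hom x) e1

end Groth.Agent.S1417
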