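import Groth.Statements.S14173
import Groth.Agent.Lib.Lead.Pn.TwistSeq

set_option autoImplicit false
universe u
open CategoryTheory CategoryTheory.Limits AlgebraicGeometry
open Variety

namespace Groth.Agent.S14173

/-- Let k be an algebraically closed field of characteristic zero (the published statement is over the
complex numbers; this row allows any algebraically closed field of characteristic zero) and 0 → F₁ →
F₂ → F₃ → 0 a short exact sequence of coherent modules on P^n_k. If F₁ and F₃ are m-regular then so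
is F₂; equivalently reg F₂ ≤ max(reg F₁, reg F₃). -/
theorem result (k : Type u) [Field k] [IsAlgClosed k] [CharZero k]
    (n : ℕ) (S : ShortComplex (CohB1.ProjSpace n k).Modules) (hS : S.ShortExact)
    (h₁ : Coh.IsCoh S.X₁) (h₂ : Coh.IsCoh S.X₂) (h₃ : Coh.IsCoh S.X₃) (m : ℤ)
    (hreg₁ : Curv2.IsMRegular k n S.X₁ m) (hreg₃ : Curv2.IsMRegular k n S.X₃ m) :
    Curv2.IsMRegular k n S.X₂ m := by
  intro i hi1 hin
  have hS' := Groth.Agent.Lib.Lead.Pn.shortExact_map_tw n k S hS (m - i)
  have h1 := hreg₁ i hi1 hin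
  have h3 := hreg₃ i hi1 hin
  set T := S.map (Groth.Agent.Lib.Lead.TwistExact.tensorRight (Twist.twistProjSpace n k (m - i))) with hT
  change Subsingleton (Coh.HH _ T.X₂ i)
  refine subsingleton_of_forall_eq 0 fun x₂ => ?_
  have h0 : (Abelian.Ext.comp x₂ (Abelian.Ext.mk₀ (Groth.Agent.Lib.Lead.LinLES.abMap T.g)) (add_zero i) :
      Coh.HH _ T.X₃ i) = 0 := @Subsingleton.elim _ h3 _ _
  obtain ⟨x₁, hx₁⟩ := Abelian.Ext.covariant_sequence_exact₂ _
    (Groth.Agent.Lib.Lead.LinLES.abS_shortExact T hS') x₂ h0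
  have hx1 : (show Coh.HH _ T.X₁ i from x₁) = 0 := @Subsingleton.elim _ h1 _ _
  have hx1' : x₁ = 0 := hx1
  rw [← hx₁, hx1', Abelian.Ext.zero_comp]
  rfl

end Groth.Agent.S14173
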