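import Groth.Statements.S14175
import Mathlib.RepresentationTheory.Coinvariants
import Mathlib.GroupTheory.SpecificGroups.Cyclic.Basic
import Mathlib.Algebra.Ring.GeomSum
import Mathlib.Tactic.Abel

set_option autoImplicit false
universe u v w
open GalCoh

namespace Groth.Agent.S14175

/-- Let G be a finite cyclic group generated by t, let m be a natural number dividing the order of G,
and let ρ be a linear representation of G on a module V over a commutative ring k such that m·V = 0
and every element of G whose m-th power is the identity acts trivially on V. Then evaluating a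
crossed homomorphism at t induces a bijection from the first cohomology of G with values in V
(crossed homomorphisms f, i.e. f(gh) = ρ(g)f(h) + f(g), modulo the principal ones g ↦ ρ(g)x − x)
onto the coinvariants V_G (the quotient of V by the span of all ρ(g)v − v): the class of f(t) in V_G
vanishes exactly when f is principal, and every class of V_G is the class of f(t) for some crossed
homomorphism f. The bijection depends on the choice of the generator t. -/
theorem result
    {k : Type u} {G : Type v} {V : Type w} [CommRing k] [Group G] [Finite G]
    [AddCommGroup V] [Module k V] (ρ : Representation k G V)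
    (t : G) (ht : ∀ g : G, g ∈ Subgroup.zpowers t)
    (m : ℕ) (hm : m ∣ Nat.card G) (htors : ∀ v : V, m • v = 0)
    (htriv : ∀ g : G, g ^ m = 1 → ∀ v : V, ρ g v = v) :
    (∀ f : G → V, (∀ g h : G, f (g * h) = ρ g (f h) + f g) →
        (Representation.Coinvariants.mk ρ (f t) = 0 ↔ ∃ x : V, ∀ g : G, f g = ρ g x - x)) ∧
    (∀ v : V, ∃ f : G → V, (∀ g h : G, f (g * h) = ρ g (f h) + f g) ∧
        Representation.Coinvariants.mk ρ (f t) = Representation.Coinvariants.mk ρ v) := by
  classical
  set N := orderOf t with hN
  have hNcard : N = Nat.card G := orderOf_eq_card_of_forall_mem_zpowers ht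
  have hpow : ∀ g : G, ∃ n : ℕ, t ^ n = g := fun g => by
    have := ht g
    rw [← mem_powers_iff_mem_zpowers] at this
    exact this
  set x : Module.End k V := ρ t with hx
  have hρpow : ∀ n : ℕ, ρ (t ^ n) = x ^ n := fun n => map_pow ρ t n
  let S : ℕ → Module.End k V := fun n => ∑ j ∈ Finset.range n, x ^ j
  have hSadd : ∀ a b, S (a + b) = S a + x ^ a * S b := by
    intro a b
    simp only [S]
    rw [Finset.sum_range_add, Finset.mul_sum]
    simp [pow_add]
  have hgeom : ∀ n, (x - 1) * S n = x ^ n - 1 := fun n => mul_geom_sum x n
  constructor
  · intro f hf
    constructor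
    · intro h0
      rw [Representation.Coinvariants.mk_eq_zero] at h0
      -- the kernel is contained in the range of x - 1
      have hle : Representation.Coinvariants.ker ρ ≤ LinearMap.range (x - 1) := by
        rw [Representation.Coinvariants.ker, Submodule.span_le]
        rintro _ ⟨⟨g, v⟩, rfl⟩
        obtain ⟨n, rfl⟩ := hpow g
        refine ⟨S n v, ?_⟩
        have := LinearMap.congr_fun (hgeom n) v
        simp only [Module.End.mul_apply, LinearMap.sub_apply, Module.End.one_apply] at this
        change (x - 1) (S n v) = ρ (t ^ n) v - v
        rw [hρpow]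
        simpa using this
      obtain ⟨y, hy⟩ := hle h0
      refine ⟨y, ?_⟩
      -- f' g := f g - (ρ g y - y) is a crossed hom vanishing at t
      have h1 : f 1 = 0 := by
        have := hf 1 1
        simp only [mul_one, map_one, Module.End.one_apply] at this
        have h2 : f 1 + f 1 = f 1 + 0 := by rw [add_zero]; exact this.symm
        exact add_left_cancel h2
      have hft : f t = ρ t y - y := by
        rw [← hy]
        simp [hx]
      have key : ∀ n : ℕ, f (t ^ n) = ρ (t ^ n) y - y := by
        intro n
        induction n with
        | zero => simp [h1]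
        | succ n ih =>
          rw [pow_succ', hf, ih, hft, map_mul]
          simp only [Module.End.mul_apply, map_sub]
          abel
      intro g
      obtain ⟨n, rfl⟩ := hpow g
      exact key n
    · rintro ⟨y, hy⟩
      rw [Representation.Coinvariants.mk_eq_zero, hy t]
      exact Representation.Coinvariants.sub_mem_ker t y
  · intro v
    have hxN : x ^ N = 1 := by rw [← hρpow, pow_orderOf_eq_one, map_one]
    obtain ⟨d, hd⟩ := hm
    have hNd : N = m * d := hNcard.trans hd
    have hxd : x ^ d = 1 := by
      have h1 : (t ^ d) ^ m = 1 := by
        rw [← pow_mul, mul_comm, ← hNd]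
        exact pow_orderOf_eq_one t
      have : ρ (t ^ d) = 1 := LinearMap.ext fun w => htriv _ h1 w
      rw [← hρpow, this]
    have hSqd : ∀ q : ℕ, S (q * d) = q • S d := by
      intro q
      induction q with
      | zero => simp [S]
      | succ q ih =>
        rw [Nat.succ_mul, hSadd, ih, pow_mul', hxd, one_pow, one_mul, succ_nsmul]
    have hSN : S N = 0 := by
      rw [hNd, hSqd]
      refine LinearMap.ext fun w => ?_
      rw [LinearMap.smul_apply, LinearMap.zero_apply]
      exact htors _
    have hper : ∀ a q, S (a + q * N) = S a := by
      intro a q
      induction q with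
      | zero => simp
      | succ q ih => rw [Nat.succ_mul, ← add_assoc, hSadd, hSN, mul_zero, add_zero, ih]
    have hmod : ∀ a b, a ≡ b [MOD N] → S a = S b := by
      intro a b hab
      have h1 : ∀ c, S c = S (c % N) := fun c => by
        conv_lhs => rw [← Nat.mod_add_div c N, mul_comm]
        exact hper _ _
      rw [h1 a, h1 b, hab]
    choose e he using hpow
    refine ⟨fun g => S (e g) v, ?_, ?_⟩
    · intro g h
      have hmodeq : e (g * h) ≡ e g + e h [MOD N] := by
        rw [← pow_eq_pow_iff_modEq, he, pow_add, he, he]
      change S (e (g * h)) v = ρ g (S (e h) v) + S (e g) v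
      rw [hmod _ _ hmodeq, hSadd, LinearMap.add_apply, Module.End.mul_apply, ← hρpow, he]
      abel
    · have hmodeq : e t ≡ 1 [MOD N] := by
        rw [← pow_eq_pow_iff_modEq, he, pow_one]
      change Representation.Coinvariants.mk ρ (S (e t) v) = _
      rw [hmod _ _ hmodeq]
      simp [S]

end Groth.Agent.S14175
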