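import Groth.Statements.S14176
import Groth.Agent.Lib.Helper25.ZnDual

set_option autoImplicit false
universe u
open Pi1

namespace Groth.Agent.S14176

open W4c1etcurveeff2 Groth.Agent.Lib.Helper25.ZnDual Groth.Agent.Lib.Helper25.ZnDualTop
open W4c1etcurveeff2 in
/-- Let G be a topological group in which some finite subset generates a dense subgroup, let n ≥ 1, and
let S be the closure of the subgroup generated by all n-th powers and all commutators. Write D for
the group of continuous homomorphisms from G to the discrete cyclic group ℤ/n, that is,
homomorphisms with open kernel (the first cohomology of G with coefficients in the trivial module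
ℤ/n), and D^∨ for its ℤ/n-dual, the group of homomorphisms D → ℤ/n. Then: S is carried onto itself
by every group automorphism of G that is a homeomorphism; an element g of G lies in S exactly when
every element of D kills g, and every element of D^∨ is evaluation at some element of G, so that
evaluation identifies G/S with D^∨; and S is the only closed normal subgroup H of G with G/H
isomorphic to D^∨. (The published statement is for a topologically finitely generated group, calls S
characteristic and does not restrict the competing subgroups H; this row asks the automorphisms to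
be homeomorphisms and H to be closed, which is what the argument uses: for the integers with the
p-adic topology times a cyclic group of prime order q ≠ p, the subgroup qℤ × ℤ/q is normal, not
closed, and has quotient isomorphic to D^∨ ≅ ℤ/q, while S = ℤ × 0.) -/
theorem result
    {G : Type u} [Group G] [TopologicalSpace G] [IsTopologicalGroup G]
    (s : Finset G) (hs : Dense ((Subgroup.closure (s : Set G) : Subgroup G) : Set G))
    (n : ℕ) [NeZero n] (S : Subgroup G) (hS : S = powCommClosure G n) :
    (∀ φ : G ≃* G, Continuous φ → Continuous φ.symm → S.map φ.toMonoidHom = S) ∧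
    (∀ g : G, g ∈ S ↔
        ∀ χ : G →* Multiplicative (ZMod n), IsOpen ((χ.ker : Subgroup G) : Set G) → χ g = 1) ∧
    (∀ F : ContChar G n →* Multiplicative (ZMod n), ∃ g : G,
        ∀ χ : ContChar G n, F χ = (χ.1 : G →* Multiplicative (ZMod n)) g) ∧
    (∀ (H : Subgroup G) [H.Normal], IsClosed (H : Set G) →
        Nonempty (G ⧸ H ≃* (ContChar G n →* Multiplicative (ZMod n))) → H = S) := by
  subst hS
  -- abbreviations
  have hScl : IsClosed (powCommClosure G n : Set G) := isClosed_powCommClosure n
  have hSn : (powCommClosure G n).Normal := normal_powCommClosure n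
  have hfin : Finite (G ⧸ powCommClosure G n) :=
    finite_quotient s hs n _ hScl (pow_mem_powCommClosure n) (commutator_le_powCommClosure n)
  have hfi : (powCommClosure G n).FiniteIndex := Subgroup.finiteIndex_of_finite_quotient
  have hSopen : IsOpen (powCommClosure G n : Set G) :=
    Subgroup.isOpen_of_isClosed_of_finiteIndex _ hScl
  have hcomm : IsMulCommutative (G ⧸ powCommClosure G n) :=
    Subgroup.Normal.quotient_commutative_iff_commutator_le.mpr (commutator_le_powCommClosure n)
  let _ : CommGroup (G ⧸ powCommClosure G n) :=
    { (inferInstance : Group (G ⧸ powCommClosure G n)) with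
      mul_comm := fun a b => hcomm.is_comm.comm a b }
  have hexp : ∀ q : G ⧸ powCommClosure G n, q ^ n = 1 := by
    intro q
    obtain ⟨g, rfl⟩ := QuotientGroup.mk'_surjective _ q
    rw [← map_pow]
    exact (QuotientGroup.eq_one_iff _).mpr (pow_mem_powCommClosure n g)
  -- every continuous character kills S
  have hkill : ∀ χ : G →* Multiplicative (ZMod n), IsOpen ((χ.ker : Subgroup G) : Set G) →
      powCommClosure G n ≤ χ.ker := by
    intro χ hχ
    refine powCommClosure_le n _ ?_ ?_ (Subgroup.isClosed_of_isOpen _ hχ)
    · intro g
      rw [MonoidHom.mem_ker, map_pow]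
      exact DFunLike.congr_fun (pow_eq_one_monoidHom n (MonoidHom.id _)) (χ g)
    · rw [commutator_def, Subgroup.commutator_le]
      intro a _ b _
      rw [MonoidHom.mem_ker, map_commutatorElement]
      exact commutatorElement_eq_one_iff_mul_comm.mpr (mul_comm _ _)
  -- characters of the quotient give continuous characters
  have hopen : ∀ φ : (G ⧸ powCommClosure G n) →* Multiplicative (ZMod n),
      IsOpen (((φ.comp (QuotientGroup.mk' _)).ker : Subgroup G) : Set G) := by
    intro φ
    refine Subgroup.isOpen_mono (H₁ := powCommClosure G n) ?_ hSopen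
    intro g hg
    rw [MonoidHom.mem_ker, MonoidHom.comp_apply]
    have h1 : QuotientGroup.mk' (powCommClosure G n) g = 1 := (QuotientGroup.eq_one_iff g).mpr hg
    rw [h1, map_one]
  let e : ((G ⧸ powCommClosure G n) →* Multiplicative (ZMod n)) →* ContChar G n :=
    { toFun := fun φ => ⟨φ.comp (QuotientGroup.mk' _), hopen φ⟩
      map_one' := rfl
      map_mul' := fun _ _ => rfl }
  have he_surj : ∀ χ : ContChar G n,
      e (QuotientGroup.lift _ χ.1 (fun x hx => hkill χ.1 χ.2 hx)) = χ := by
    intro χ
    apply Subtype.ext
    ext x
    rfl
  have he_inj : Function.Injective e := by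
    intro φ φ' h
    refine MonoidHom.ext fun q => ?_
    obtain ⟨g, rfl⟩ := QuotientGroup.mk'_surjective _ q
    exact DFunLike.congr_fun (congrArg Subtype.val h) g
  have hstab : ∀ ψ : G ≃* G, Continuous ψ →
      powCommClosure G n ≤ (powCommClosure G n).comap ψ.toMonoidHom := by
    intro ψ hψ
    refine powCommClosure_le n _ ?_ ?_ (hScl.preimage hψ)
    · intro g
      rw [Subgroup.mem_comap, map_pow]
      exact pow_mem_powCommClosure n _
    · rw [commutator_def, Subgroup.commutator_le]
      intro a _ b _
      rw [Subgroup.mem_comap, map_commutatorElement]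
      exact commutator_le_powCommClosure n
        (Subgroup.commutator_mem_commutator (Subgroup.mem_top _) (Subgroup.mem_top _))
  refine ⟨?_, ?_, ?_, ?_⟩
  · intro φ hφ hφ'
    apply le_antisymm
    · exact Subgroup.map_le_iff_le_comap.mpr (hstab φ hφ)
    · intro x hx
      refine ⟨φ.symm x, hstab φ.symm hφ' hx, ?_⟩
      simp
  · intro g
    refine ⟨fun hg χ hχ => hkill χ hχ hg, fun h => ?_⟩
    by_contra hg
    have hne : (QuotientGroup.mk' (powCommClosure G n) g) ≠ 1 := fun h1 =>
      hg ((QuotientGroup.eq_one_iff g).mp h1)
    obtain ⟨φ, hφ⟩ := exists_apply_ne_one (G ⧸ powCommClosure G n) n hexp hne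
    exact hφ (h _ (hopen φ))
  · intro F
    obtain ⟨q, hq⟩ := exists_eval (G ⧸ powCommClosure G n) n hexp (F.comp e)
    obtain ⟨g, rfl⟩ := QuotientGroup.mk'_surjective _ q
    refine ⟨g, fun χ => ?_⟩
    rw [← he_surj χ]
    exact hq _
  · intro H _ hH ⟨ε⟩
    have hHc : commutator G ≤ H := by
      refine Subgroup.Normal.quotient_commutative_iff_commutator_le.mp ⟨⟨fun a b => ?_⟩⟩
      apply ε.injective
      rw [map_mul, map_mul, mul_comm]
    have hHp : ∀ g : G, g ^ n ∈ H := by
      intro g
      rw [← QuotientGroup.eq_one_iff, QuotientGroup.mk_pow]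
      apply ε.injective
      rw [map_pow, map_one]
      exact pow_eq_one_monoidHom n _
    have hSH : powCommClosure G n ≤ H := powCommClosure_le n H hHp hHc hH
    refine le_antisymm ?_ hSH
    let E : ((G ⧸ powCommClosure G n) →* Multiplicative (ZMod n)) ≃* ContChar G n :=
      MulEquiv.ofBijective e ⟨he_inj, fun χ => ⟨_, he_surj χ⟩⟩
    have hfin2 := finite_monoidHom (G ⧸ powCommClosure G n) n
    have hcard : Nat.card (G ⧸ powCommClosure G n) = Nat.card (G ⧸ H) := by
      rw [Nat.card_congr ε.toEquiv, ← Nat.card_congr (MulEquiv.monoidHomCongrLeft E).toEquiv,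
        card_monoidHom _ n (fun f => pow_eq_one_monoidHom n f), card_monoidHom _ n hexp]
    let p : (G ⧸ powCommClosure G n) →* (G ⧸ H) :=
      QuotientGroup.map _ H (MonoidHom.id G) hSH
    have hp_surj : Function.Surjective p := by
      intro q
      obtain ⟨g, rfl⟩ := QuotientGroup.mk'_surjective _ q
      exact ⟨QuotientGroup.mk' _ g, rfl⟩
    have hp_bij : Function.Bijective p :=
      (Nat.bijective_iff_surjective_and_card p).mpr ⟨hp_surj, hcard⟩
    intro h hh
    rw [← QuotientGroup.eq_one_iff]
    apply hp_bij.1
    rw [map_one]
    exact (QuotientGroup.eq_one_iff h).mpr hh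


end Groth.Agent.S14176
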