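import Groth.Statements.S14177
import Mathlib.RingTheory.DedekindDomain.Different
import Mathlib.RingTheory.Smooth.Fiber
import Mathlib.RingTheory.Flat.TorsionFree
import Mathlib.RingTheory.Unramified.Locus
import Mathlib.FieldTheory.SeparableClosure

set_option autoImplicit false
universe u v w
open scoped nonZeroDivisors
open EtAlg

namespace Groth.Agent.S14177

open Polynomial IntermediateField Module

attribute [local instance] FractionRing.liftAlgebra FractionRing.isScalarTower_liftAlgebra

section scaling

variable {A : Type*} {K : Type*} [CommRing A] [IsDedekindDomain A] [Field K] [Algebra A K]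
  [IsFractionRing A K]

/-- For a prime `p` of the Dedekind domain `A` and `(f) = I ^ n`, one can rescale `f` by an
`n`-th power `t ^ n` so that `t ^ n * f` is an element of `A` not in `p`. -/
lemma exists_scaling (n : ℕ) (hn : n ≠ 0) (f : K) (hf : f ≠ 0) (I : FractionalIdeal A⁰ K)
    (hI : FractionalIdeal.spanSingleton A⁰ f = I ^ n) (p : Ideal A) [hp : p.IsPrime] :
    ∃ t : K, t ≠ 0 ∧ ∃ a : A, a ∉ p ∧ algebraMap A K a = t ^ n * f := by
  have hI0 : I ≠ 0 := by
    rintro rfl
    rw [zero_pow hn, FractionalIdeal.spanSingleton_eq_zero_iff] at hI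
    exact hf hI
  set P : FractionalIdeal A⁰ K := (p : FractionalIdeal A⁰ K) with hP
  have hP1 : P ≤ 1 := FractionalIdeal.coeIdeal_le_one
  have hne : ¬ (I⁻¹ ≤ P * I⁻¹) := by
    intro hle
    have h1 : P * I⁻¹ = I⁻¹ := le_antisymm (by simpa using mul_le_mul_left hP1 I⁻¹) hle
    have h2 : P = 1 := by
      have := congrArg (· * I) h1
      simpa [mul_assoc, inv_mul_cancel₀ hI0] using this
    rw [hP, FractionalIdeal.coeIdeal_eq_one] at h2
    exact hp.ne_top (by simpa using h2)
  obtain ⟨t, htI, htP⟩ := SetLike.not_le_iff_exists.mp hne
  have ht0 : t ≠ 0 := by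
    rintro rfl
    exact htP (FractionalIdeal.zero_mem _)
  refine ⟨t, ht0, ?_⟩
  have hmem : t ^ n * f ∈ (1 : FractionalIdeal A⁰ K) := by
    have h1 : t ^ n ∈ (I⁻¹) ^ n := by
      rw [← FractionalIdeal.mem_coe, FractionalIdeal.coe_pow]
      exact Submodule.pow_mem_pow _ htI n
    have h2 : f ∈ I ^ n := by
      rw [← hI]; exact FractionalIdeal.mem_spanSingleton_self _ _
    have := FractionalIdeal.mul_mem_mul h1 h2
    rwa [← mul_pow, inv_mul_cancel₀ hI0, one_pow] at this
  obtain ⟨a, ha⟩ := (FractionalIdeal.mem_one_iff _).1 hmem
  refine ⟨a, ?_, ha⟩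
  intro hap
  apply htP
  have hJ1 : FractionalIdeal.spanSingleton A⁰ t * I ≤ 1 := by
    calc FractionalIdeal.spanSingleton A⁰ t * I ≤ I⁻¹ * I :=
          mul_le_mul_left (FractionalIdeal.spanSingleton_le_iff_mem.mpr htI) I
      _ = 1 := inv_mul_cancel₀ hI0
  obtain ⟨J₀, hJ₀⟩ := FractionalIdeal.le_one_iff_exists_coeIdeal.mp hJ1
  have hJn : J₀ ^ n = Ideal.span {a} := by
    apply FractionalIdeal.coeIdeal_injective (K := K)
    simp only
    rw [FractionalIdeal.coeIdeal_pow, hJ₀, mul_pow, ← hI, FractionalIdeal.spanSingleton_pow,
      FractionalIdeal.spanSingleton_mul_spanSingleton, FractionalIdeal.coeIdeal_span_singleton, ha]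
  have hJp : J₀ ≤ p := by
    apply hp.le_of_pow_le (n := n)
    rw [hJn, Ideal.span_singleton_le_iff_mem]
    exact hap
  have : FractionalIdeal.spanSingleton A⁰ t ≤ P * I⁻¹ := by
    calc FractionalIdeal.spanSingleton A⁰ t = FractionalIdeal.spanSingleton A⁰ t * I * I⁻¹ := by
          rw [mul_assoc, mul_inv_cancel₀ hI0, mul_one]
      _ = (J₀ : FractionalIdeal A⁰ K) * I⁻¹ := by rw [hJ₀]
      _ ≤ P * I⁻¹ := mul_le_mul_left ((FractionalIdeal.coeIdeal_le_coeIdeal K).mpr hJp) _
  exact FractionalIdeal.spanSingleton_le_iff_mem.mp this

end scaling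

/-- Let A be a Dedekind domain with fraction field K, let n be a natural number invertible in A, let f
be a nonzero element of K whose principal fractional ideal is the n-th power of a fractional ideal I
(the divisor of f is n times a divisor), and let L = K(α) be a field extension of K generated by a
single element α with α^n = f. Then the integral closure of A in L is finite and étale over A. (The
published statement is for the normalisation of an integral smooth curve over a perfect field in
such an extension of its function field; this row states the same for any Dedekind domain, the case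
the local argument covers.) -/
theorem result
    {A : Type u} {K : Type v} {L : Type w} [CommRing A] [IsDedekindDomain A]
    [Field K] [Algebra A K] [IsFractionRing A K]
    [Field L] [Algebra K L] [Algebra A L] [IsScalarTower A K L]
    (n : ℕ) (hn : IsUnit (n : A)) (f : K) (hf : f ≠ 0)
    (I : FractionalIdeal A⁰ K) (hI : FractionalIdeal.spanSingleton A⁰ f = I ^ n)
    (α : L) (hα : α ^ n = algebraMap K L f) (hgen : IntermediateField.adjoin K {α} = ⊤) :
    Algebra.Etale A (integralClosure A L) ∧ Module.Finite A (integralClosure A L) := by
  classical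
  have hn0 : n ≠ 0 := by
    rintro rfl
    simp at hn
  have hnK : (n : K) ≠ 0 := by
    have := hn.map (algebraMap A K)
    simpa using this.ne_zero
  have hroot : aeval α (X ^ n - C f : K[X]) = 0 := by simp [hα]
  have hint : IsIntegral K α := ⟨X ^ n - C f, monic_X_pow_sub_C f hn0, hroot⟩
  have hsepα : IsSeparable K α := (separable_X_pow_sub_C f hnK hf).of_dvd (minpoly.dvd K α hroot)
  have : FiniteDimensional K L := by
    have : FiniteDimensional K K⟮α⟯ := IntermediateField.adjoin.finiteDimensional hint
    rw [hgen] at this
    exact Module.Finite.equiv (IntermediateField.topEquiv (F := K) (E := L)).toLinearEquiv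
  have : Algebra.IsSeparable K L := by
    have h1 : Algebra.IsSeparable K K⟮α⟯ :=
      (IntermediateField.isSeparable_adjoin_simple_iff_isSeparable K L).mpr hsepα
    rw [hgen] at h1
    exact Algebra.IsSeparable.of_algHom K (⊤ : IntermediateField K L)
      (IntermediateField.topEquiv (F := K) (E := L)).symm.toAlgHom
  have : IsIntegralClosure (integralClosure A L) A L := integralClosure.isIntegralClosure A L
  have : IsDedekindDomain (integralClosure A L) := integralClosure.isDedekindDomain A K L
  have : IsFractionRing (integralClosure A L) L := integralClosure.isFractionRing_of_finite_extension K L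
  have : Module.Finite A (integralClosure A L) := IsIntegralClosure.finite A K L (integralClosure A L)
  have : Module.IsTorsionFree A L := .trans_faithfulSMul A K L
  have : Module.IsTorsionFree A (integralClosure A L) := IsIntegralClosure.isTorsionFree A L
  have : Module.Flat A (integralClosure A L) := inferInstance
  have : Algebra.FinitePresentation A (integralClosure A L) := Algebra.FinitePresentation.of_finiteType.mp inferInstance
  have hsepFr : Algebra.IsSeparable (FractionRing A) (FractionRing (integralClosure A L)) := by
    have H : RingHom.comp (algebraMap (FractionRing A) (FractionRing (integralClosure A L)))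
        ↑(FractionRing.algEquiv A K).symm.toRingEquiv =
          RingHom.comp ↑(FractionRing.algEquiv (integralClosure A L) L).symm.toRingEquiv
            (algebraMap K L) := by
      apply IsLocalization.ringHom_ext A⁰
      ext
      simp only [RingHom.coe_comp, RingHom.coe_coe,
        AlgEquiv.coe_ringEquiv, Function.comp_apply, AlgEquiv.commutes,
        ← IsScalarTower.algebraMap_apply]
      rw [IsScalarTower.algebraMap_apply A (integralClosure A L) L, AlgEquiv.commutes,
        ← IsScalarTower.algebraMap_apply]
    exact Algebra.IsSeparable.of_equiv_equiv _ _ H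
  have : Algebra.FormallyUnramified A (integralClosure A L) := by
    rw [Algebra.formallyUnramified_iff_forall]
    intro q
    obtain ⟨t, ht0, a, hap, ha⟩ := exists_scaling n hn0 f hf I hI (q.asIdeal.under A)
    set β : L := algebraMap K L t * α with hβ
    have hβn : β ^ n = algebraMap A L a := by
      rw [hβ, mul_pow, hα, ← map_pow, ← map_mul, ← ha, ← IsScalarTower.algebraMap_apply]
    have hβint : IsIntegral A β := ⟨X ^ n - C a, monic_X_pow_sub_C a hn0, by simp [hβn]⟩
    set β' : integralClosure A L := ⟨β, hβint⟩ with hβ'
    have hadj : Algebra.adjoin K {algebraMap (integralClosure A L) L β'} = ⊤ := by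
      have h1 : Algebra.adjoin K {α} = ⊤ := by
        rw [← IntermediateField.adjoin_simple_toSubalgebra_of_isAlgebraic hint.isAlgebraic, hgen,
          IntermediateField.top_toSubalgebra]
      rw [eq_top_iff, ← h1]
      apply Algebra.adjoin_le
      intro x hx
      rw [Set.mem_singleton_iff] at hx
      rw [hx]
      have : α = algebraMap K L t⁻¹ * β := by
        rw [hβ, ← mul_assoc, ← map_mul, inv_mul_cancel₀ ht0, map_one, one_mul]
      rw [this]
      exact Subalgebra.mul_mem _ (Subalgebra.algebraMap_mem _ _) (Algebra.subset_adjoin rfl)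
    have hmem := aeval_derivative_mem_differentIdeal A K L β' hadj
    have hβ'int : IsIntegral A β' := IsIntegralClosure.isIntegral A L β'
    have hβ'n : β' ^ n = algebraMap A (integralClosure A L) a := Subtype.ext (by simpa using hβn)
    obtain ⟨h, hh⟩ := minpoly.isIntegrallyClosed_dvd hβ'int (p := X ^ n - C a) (by simp [hβ'n])
    have hder := congrArg (fun p => aeval β' (derivative p)) hh
    simp only [derivative_sub, derivative_X_pow, derivative_C, sub_zero, derivative_mul, map_add,
      map_mul, minpoly.aeval, zero_mul, add_zero, aeval_X_pow, map_natCast] at hder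
    apply not_dvd_differentIdeal_iff.mp
    rw [Ideal.dvd_iff_le]
    intro hle
    have hq := hle hmem
    have h2 : (n : integralClosure A L) * β' ^ (n - 1) ∈ q.asIdeal := by
      rw [hder]
      exact Ideal.mul_mem_right _ _ hq
    have hnB : IsUnit (n : integralClosure A L) := by
      simpa using hn.map (algebraMap A (integralClosure A L))
    have h3 : β' ^ (n - 1) ∈ q.asIdeal := by
      obtain ⟨u, hu⟩ := hnB
      have := Ideal.mul_mem_left q.asIdeal (↑u⁻¹ : integralClosure A L) h2
      rwa [← hu, ← mul_assoc, Units.inv_mul, one_mul] at this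
    have h4 : β' ∈ q.asIdeal := by
      by_cases hn1 : n - 1 = 0
      · rw [hn1, pow_zero] at h3
        exact absurd ((Ideal.eq_top_iff_one _).mpr h3) q.isPrime.ne_top
      · exact q.isPrime.mem_of_pow_mem _ h3
    apply hap
    rw [Ideal.under_def, Ideal.mem_comap, ← hβ'n]
    exact Ideal.pow_mem_of_mem _ h4 n (Nat.pos_of_ne_zero hn0)
  exact ⟨Algebra.Etale.of_formallyUnramified_of_flat, inferInstance⟩

end Groth.Agent.S14177
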