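import Groth.Statements.S14178
import Mathlib.FieldTheory.KummerExtension
import Mathlib.RingTheory.Norm.Basic
import Mathlib.RingTheory.IntegralClosure.IntegrallyClosed

set_option autoImplicit false
universe u v w
open scoped nonZeroDivisors
open EtAlg

namespace Groth.Agent.S14178

open Polynomial IntermediateField Module

section torsion

variable {A : Type*} {K : Type*} [CommRing A] [IsIntegrallyClosed A] [Field K]
  [Algebra A K] [IsFractionRing A K]

/-- in an integrally closed domain, a fractional ideal with `J ^ n = 1` is contained in `1`. -/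
lemma le_one_of_pow_eq_one (J : FractionalIdeal A⁰ K) {n : ℕ} (hn : 0 < n) (h : J ^ n = 1) :
    J ≤ 1 := by
  intro x hx
  have hxn : x ^ n ∈ J ^ n := by
    rw [← FractionalIdeal.mem_coe, FractionalIdeal.coe_pow]
    exact Submodule.pow_mem_pow _ hx n
  rw [h, FractionalIdeal.mem_one_iff] at hxn
  obtain ⟨a, ha⟩ := hxn
  have hint : IsIntegral A x :=
    ⟨X ^ n - C a, monic_X_pow_sub_C a hn.ne', by simp [ha]⟩
  obtain ⟨y, rfl⟩ := IsIntegrallyClosed.isIntegral_iff.mp hint
  exact (FractionalIdeal.mem_one_iff _).2 ⟨y, rfl⟩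

/-- the group of invertible fractional ideals of an integrally closed domain is torsion free. -/
lemma eq_one_of_pow_eq_one (J : (FractionalIdeal A⁰ K)ˣ) {n : ℕ} (hn : 0 < n) (h : J ^ n = 1) :
    J = 1 := by
  have h1 : (J : FractionalIdeal A⁰ K) ≤ 1 :=
    le_one_of_pow_eq_one _ hn (by rw [← Units.val_pow_eq_pow_val, h, Units.val_one])
  have h2 : ((J⁻¹ : (FractionalIdeal A⁰ K)ˣ) : FractionalIdeal A⁰ K) ≤ 1 :=
    le_one_of_pow_eq_one _ hn (by rw [← Units.val_pow_eq_pow_val, inv_pow, h, inv_one, Units.val_one])
  apply Units.ext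
  refine le_antisymm h1 ?_
  calc (1 : FractionalIdeal A⁰ K) = J * (J⁻¹ : (FractionalIdeal A⁰ K)ˣ) := by
        rw [← Units.val_mul, mul_inv_cancel, Units.val_one]
    _ ≤ J * 1 := mul_le_mul_right h2 _
    _ = J := mul_one _

end torsion

section field

variable {K : Type*} {L : Type*} [Field K] [Field L] [Algebra K L]

/-- Key lemma: if `α ^ n = f ∈ K`, `K` contains a primitive `n`-th root of unity and `L/K` is
finite, then `α ^ [L : K] ∈ K`. -/
lemma pow_finrank_mem_range [FiniteDimensional K L] {n : ℕ} (hn : 0 < n) {ζ : K}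
    (hζ : IsPrimitiveRoot ζ n) {f : K} (hf : f ≠ 0) {α : L} (hα : α ^ n = algebraMap K L f) :
    ∃ b : K, algebraMap K L b = α ^ (finrank K L) := by
  set d := finrank K L
  set N := Algebra.norm K α
  have hN : N ^ n = f ^ d := by
    rw [← map_pow, hα, Algebra.norm_algebraMap]
  have hN0 : N ≠ 0 := by
    intro h
    rw [h, zero_pow hn.ne'] at hN
    exact pow_ne_zero d hf hN.symm
  have hζ' : IsPrimitiveRoot (algebraMap K L ζ) n :=
    hζ.map_of_injective (algebraMap K L).injective
  have h1 : (α ^ d / algebraMap K L N) ^ n = 1 := by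
    rw [div_pow, ← pow_mul, mul_comm, pow_mul, hα, ← map_pow, ← map_pow, hN, div_self]
    simpa using pow_ne_zero d hf
  have : NeZero n := ⟨hn.ne'⟩
  obtain ⟨j, _, hj⟩ := hζ'.eq_pow_of_pow_eq_one h1
  refine ⟨ζ ^ j * N, ?_⟩
  rw [map_mul, map_pow, hj, div_mul_cancel₀]
  simpa using hN0

end field

/-- Let A be a Dedekind domain with fraction field K, let n be a natural number invertible in A such
that K contains a primitive n-th root of unity, let f be a nonzero element of K and I an invertible
fractional ideal of A with (f) = I^n whose class in the ideal class group of A has order exactly n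
(the divisor of f is n times a divisor whose class has order n), and let L = K(α) be a field
extension of K generated by a single element α with α^n = f. Then L is Galois over K of degree n
with cyclic Galois group. (The published statement is for an integral smooth curve over a perfect
field containing a primitive n-th root of unity, with the Picard group of the curve in place of the
class group; this row states it for any Dedekind domain.) -/
theorem result
    {A : Type u} {K : Type v} {L : Type w} [CommRing A] [IsDedekindDomain A]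
    [Field K] [Algebra A K] [IsFractionRing A K]
    [Field L] [Algebra K L]
    (n : ℕ) (hn : IsUnit (n : A)) (ζ : K) (hζ : IsPrimitiveRoot ζ n) (f : K) (hf : f ≠ 0)
    (I : (FractionalIdeal A⁰ K)ˣ) (hI : FractionalIdeal.spanSingleton A⁰ f = (I : FractionalIdeal A⁰ K) ^ n)
    (hord : orderOf (ClassGroup.mk K I) = n)
    (α : L) (hα : α ^ n = algebraMap K L f) (hgen : IntermediateField.adjoin K {α} = ⊤) :
    IsGalois K L ∧ IsCyclic (L ≃ₐ[K] L) ∧ Module.finrank K L = n := by
  classical
  have hn0 : n ≠ 0 := by
    rintro rfl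
    simp at hn
  have hnpos : 0 < n := Nat.pos_of_ne_zero hn0
  have hroot : aeval α (X ^ n - C f : K[X]) = 0 := by simp [hα]
  have hne : (X ^ n - C f : K[X]) ≠ 0 := X_pow_sub_C_ne_zero hnpos f
  have hint : IsIntegral K α := ⟨X ^ n - C f, monic_X_pow_sub_C f hn0, hroot⟩
  have : FiniteDimensional K L := by
    have : FiniteDimensional K K⟮α⟯ := IntermediateField.adjoin.finiteDimensional hint
    rw [hgen] at this
    exact Module.Finite.equiv (IntermediateField.topEquiv (F := K) (E := L)).toLinearEquiv
  set d := finrank K L with hd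
  have hdle : d ≤ n := by
    have : d = (minpoly K α).natDegree := by
      rw [← IntermediateField.adjoin.finrank hint, hgen, IntermediateField.finrank_top']
    rw [this]
    calc (minpoly K α).natDegree ≤ (X ^ n - C f : K[X]).natDegree :=
          natDegree_le_of_dvd (minpoly.dvd K α hroot) hne
      _ = n := natDegree_X_pow_sub_C
  have hdpos : 0 < d := finrank_pos
  obtain ⟨b, hb⟩ := pow_finrank_mem_range hnpos hζ hf hα
  have hfb : f ^ d = b ^ n := by
    apply (algebraMap K L).injective
    rw [map_pow, map_pow, hb, ← hα, ← pow_mul, ← pow_mul, mul_comm]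
  have hb0 : b ≠ 0 := by
    rintro rfl
    rw [zero_pow hn0] at hfb
    exact pow_ne_zero d hf hfb
  let B : (FractionalIdeal A⁰ K)ˣ :=
    Units.mk0 (FractionalIdeal.spanSingleton A⁰ b)
      (FractionalIdeal.spanSingleton_ne_zero_iff.mpr hb0)
  have hIB : (I ^ d * B⁻¹) ^ n = 1 := by
    rw [mul_pow, inv_pow, mul_inv_eq_one]
    apply Units.ext
    rw [Units.val_pow_eq_pow_val, Units.val_pow_eq_pow_val, Units.val_pow_eq_pow_val]
    show ((I : FractionalIdeal A⁰ K) ^ d) ^ n = (FractionalIdeal.spanSingleton A⁰ b) ^ n
    rw [FractionalIdeal.spanSingleton_pow, ← hfb, ← FractionalIdeal.spanSingleton_pow, hI,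
      ← pow_mul, ← pow_mul, mul_comm]
  have hId : I ^ d = B := by
    have := eq_one_of_pow_eq_one _ hnpos hIB
    rwa [mul_inv_eq_one] at this
  have hnd : n ∣ d := by
    rw [← hord, orderOf_dvd_iff_pow_eq_one, ← map_pow, hId, ClassGroup.mk_eq_one_iff]
    exact ⟨⟨b, by simp [B, FractionalIdeal.coe_spanSingleton]⟩⟩
  have hdn : d = n := le_antisymm hdle (Nat.le_of_dvd hdpos hnd)
  have hK : (primitiveRoots (finrank K L) K).Nonempty :=
    ⟨ζ, by rw [mem_primitiveRoots finrank_pos, ← hd, hdn]; exact hζ⟩
  have hα' : α ^ finrank K L = algebraMap K L f := by rw [← hd, hdn]; exact hα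
  have H := irreducible_X_pow_sub_C_of_root_adjoin_eq_top hα' hgen
  have S := isSplittingField_X_pow_sub_C_of_root_adjoin_eq_top hK hα' hgen
  have : NeZero (finrank K L) := ⟨finrank_pos.ne'⟩
  exact ⟨isGalois_of_isSplittingField_X_pow_sub_C hK H L,
    isCyclic_of_isSplittingField_X_pow_sub_C hK H L, hdn⟩

end Groth.Agent.S14178
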