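import Groth.Statements.S14181
import Mathlib.RepresentationTheory.Homological.GroupCohomology.Functoriality
import Mathlib.RepresentationTheory.Invariants
import Mathlib.Tactic.Group
import Mathlib.Tactic.Abel

set_option autoImplicit false
universe u
open CategoryTheory
open GalCoh

namespace Groth.Agent.S14181

section Aux

open groupCohomology

variable {k G : Type u} [CommRing k] [Group G] (A : Rep.{u} k G) (P : Subgroup G) [P.Normal]
  [Finite P]

attribute [local instance] Fintype.ofFinite

/-- the sum of a cochain over `P`. -/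
noncomputable def sumP (f : G → A) : A :=
  ∑ p : P, f p.1

omit [P.Normal] in
lemma sumP_add (f₁ f₂ : G → A) : sumP A P (f₁ + f₂) = sumP A P f₁ + sumP A P f₂ := by
  simp [sumP, Finset.sum_add_distrib]

omit [P.Normal] in
lemma sumP_smul (c : k) (f : G → A) : sumP A P (c • f) = c • sumP A P f := by
  simp [sumP, Finset.smul_sum]

omit [P.Normal] in
/-- Key identity: `|P| • f q = s - ρ q s` for `q ∈ P`, where `s = Σ_{p ∈ P} f p`. -/
lemma card_smul_eq (f : cocycles₁ A) (q : P) :
    (Nat.card P : k) • f q.1 = sumP A P f - A.ρ q.1 (sumP A P f) := by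
  have h1 : ∑ p : P, f (q.1 * p.1) = ∑ p : P, f p.1 := by
    refine Fintype.sum_equiv (Equiv.mulLeft q) _ _ (fun p => rfl)
  have h2 : ∀ p : P, f (q.1 * p.1) = A.ρ q.1 (f p.1) + f q.1 := fun p =>
    (mem_cocycles₁_iff f).1 f.2 q.1 p.1
  simp only [h2, Finset.sum_add_distrib, Finset.sum_const, Finset.card_univ] at h1
  have h3 : (Nat.card P : k) • f q.1 = (Fintype.card P) • f q.1 := by
    rw [Nat.card_eq_fintype_card, Nat.cast_smul_eq_nsmul]
  rw [h3, sumP, map_sum]
  rw [← h1]
  abel

variable {A P}
variable (hP : Function.Bijective fun a : A => (Nat.card P : k) • a)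

/-- multiplication by `|P|` as a linear equivalence. -/
noncomputable def mulP : A.V ≃ₗ[k] A.V :=
  LinearEquiv.ofBijective (LinearMap.lsmul k A.V (Nat.card P : k)) hP

omit [P.Normal] [Finite P] in
lemma mulP_apply (a : A) : mulP hP a = (Nat.card P : k) • a := rfl

omit [P.Normal] [Finite P] in
lemma mulP_symm_comm (φ : A.V →ₗ[k] A.V) (a : A) :
    (mulP hP).symm (φ a) = φ ((mulP hP).symm a) := by
  apply (mulP hP).injective
  rw [LinearEquiv.apply_symm_apply, mulP_apply, ← map_smul, ← mulP_apply hP,
    LinearEquiv.apply_symm_apply]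

/-- the correcting element `x_f`. -/
noncomputable def xf (f : G → A) : A := -(mulP hP).symm (sumP A P f)

/-- the corrected cochain. -/
noncomputable def ftil (f : G → A) (g : G) : A := f g - (A.ρ g (xf hP f) - xf hP f)

omit [P.Normal] in
lemma ftil_cocycle (f : cocycles₁ A) (g h : G) :
    ftil hP f (g * h) = A.ρ g (ftil hP f h) + ftil hP f g := by
  simp only [ftil, (mem_cocycles₁_iff f).1 f.2 g h, map_mul, Module.End.mul_apply, map_sub]
  abel

omit [P.Normal] in
lemma ftil_P (f : cocycles₁ A) (q : P) : ftil hP f q.1 = 0 := by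
  have h1 := card_smul_eq A P f q
  have h2 : f q.1 = (mulP hP).symm (sumP A P f) - A.ρ q.1 ((mulP hP).symm (sumP A P f)) := by
    apply (mulP hP).injective
    rw [mulP_apply, h1, map_sub, LinearEquiv.apply_symm_apply, ← mulP_symm_comm,
      LinearEquiv.apply_symm_apply]
  simp only [ftil, xf, h2, map_neg]
  abel

omit [P.Normal] in
lemma ftil_mul_P (f : cocycles₁ A) (g : G) (q : P) : ftil hP f (g * q.1) = ftil hP f g := by
  rw [ftil_cocycle, ftil_P, map_zero, zero_add]

omit [P.Normal] in
lemma ftil_P_mul (f : cocycles₁ A) (g : G) (q : P) :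
    ftil hP f (q.1 * g) = A.ρ q.1 (ftil hP f g) := by
  rw [ftil_cocycle, ftil_P, add_zero]

lemma ftil_mem (f : cocycles₁ A) (g : G) :
    ftil hP f g ∈ Representation.invariants (A.ρ.comp P.subtype) := by
  intro q
  change A.ρ q.1 (ftil hP f g) = ftil hP f g
  rw [← ftil_P_mul]
  have : q.1 * g = g * (g⁻¹ * q.1 * g) := by group
  rw [this]
  exact ftil_mul_P hP f g ⟨g⁻¹ * q.1 * g, Subgroup.Normal.conj_mem' inferInstance q.1 q.2 g⟩

/-- The retraction on functions. -/
noncomputable def rfun (f : cocycles₁ A) (x : G ⧸ P) : A.quotientToInvariants P :=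
  Quotient.liftOn' x (fun g => (⟨ftil hP f g, ftil_mem hP f g⟩ :
    Representation.invariants (A.ρ.comp P.subtype))) (fun a b hab => by
      rw [QuotientGroup.leftRel_apply] at hab
      refine Subtype.ext ?_
      change ftil hP f a = ftil hP f b
      have : b = a * (a⁻¹ * b) := by group
      rw [this]
      exact (ftil_mul_P hP f a ⟨a⁻¹ * b, hab⟩).symm)

lemma rfun_mk (f : cocycles₁ A) (g : G) :
    (rfun hP f (g : G ⧸ P)).1 = ftil hP f g := rfl

lemma rfun_mem (f : cocycles₁ A) : rfun hP f ∈ cocycles₁ (A.quotientToInvariants P) := by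
  rw [mem_cocycles₁_iff]
  intro x y
  induction x using QuotientGroup.induction_on with
  | H g =>
    induction y using QuotientGroup.induction_on with
    | H h =>
      refine Subtype.ext ?_
      rw [← QuotientGroup.mk_mul, rfun_mk]
      change _ = A.ρ g (rfun hP f (h : G ⧸ P)).1 + (rfun hP f (g : G ⧸ P)).1
      rw [rfun_mk, rfun_mk, ftil_cocycle]

omit [P.Normal] in
lemma xf_add (f₁ f₂ : G → A) : xf hP (f₁ + f₂) = xf hP f₁ + xf hP f₂ := by
  simp only [xf, sumP_add, map_add, neg_add]

omit [P.Normal] in
lemma xf_smul (c : k) (f : G → A) : xf hP (c • f) = c • xf hP f := by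
  simp only [xf, sumP_smul, map_smul, smul_neg]

/-- The retraction as a linear map. -/
noncomputable def r : cocycles₁ A →ₗ[k] cocycles₁ (A.quotientToInvariants P) where
  toFun f := ⟨rfun hP f, rfun_mem hP f⟩
  map_add' f₁ f₂ := by
    refine Subtype.ext (funext fun x => ?_)
    induction x using QuotientGroup.induction_on with
    | H g =>
      refine Subtype.ext ?_
      change ftil hP (f₁ + f₂ : cocycles₁ A) g = ftil hP f₁ g + ftil hP f₂ g
      have : ((f₁ + f₂ : cocycles₁ A) : G → A) = (f₁ : G → A) + (f₂ : G → A) := rfl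
      simp only [ftil, this, xf_add, Pi.add_apply, map_add]
      abel
  map_smul' c f := by
    refine Subtype.ext (funext fun x => ?_)
    induction x using QuotientGroup.induction_on with
    | H g =>
      refine Subtype.ext ?_
      change ftil hP (c • f : cocycles₁ A) g = c • ftil hP f g
      have : ((c • f : cocycles₁ A) : G → A) = c • (f : G → A) := rfl
      simp only [ftil, this, xf_smul, Pi.smul_apply, map_smul, smul_sub]

end Aux

/-- Let G be a group with a finite normal subgroup P, k a commutative ring and A a k-linear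
representation of G such that multiplication by the order of P is a bijection of A. Then the
inflation map on 1-cocycles (crossed homomorphisms) Z¹(G/P, A^P) → Z¹(G, A) has a k-linear left
inverse. (The published statement is for the inertia group of a Galois cover of smooth curves at a
point, its normal Sylow p-subgroup P and a module of n-torsion with n prime to p; the argument uses
only that the order of P acts invertibly, which is the hypothesis taken here.) -/
theorem result
    {k G : Type u} [CommRing k] [Group G] (A : Rep.{u} k G) (P : Subgroup G) [P.Normal] [Finite P]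
    (hP : Function.Bijective fun a : A => (Nat.card P : k) • a) :
    ∃ r : ModuleCat.of k (groupCohomology.cocycles₁ A) ⟶
        ModuleCat.of k (groupCohomology.cocycles₁ (A.quotientToInvariants P)),
      (groupCohomology.mapCocycles₁ (QuotientGroup.mk' P) (Rep.ofHom (A.ρ.quotientToInvariants_lift P)) :
          ModuleCat.of k (groupCohomology.cocycles₁ (A.quotientToInvariants P)) ⟶
            ModuleCat.of k (groupCohomology.cocycles₁ A)) ≫ r = 𝟙 _ := by
  refine ⟨ModuleCat.ofHom (Groth.Agent.S14181.r hP), ?_⟩
  ext ψ x
  induction x using QuotientGroup.induction_on with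
  | H g =>
    -- the inflated cocycle
    set φ := (groupCohomology.mapCocycles₁ (QuotientGroup.mk' P)
      (Rep.ofHom (A.ρ.quotientToInvariants_lift P)) :
          ModuleCat.of k (groupCohomology.cocycles₁ (A.quotientToInvariants P)) ⟶
            ModuleCat.of k (groupCohomology.cocycles₁ A)) ψ with hφ
    have hφg : ∀ g' : G, (φ : G → A) g' = (ψ (g' : G ⧸ P)).1 := fun g' => rfl
    have hsum : sumP A P φ = 0 := by
      unfold sumP
      refine Finset.sum_eq_zero fun p _ => ?_
      rw [hφg]
      have : ((p.1 : G) : G ⧸ P) = 1 := (QuotientGroup.eq_one_iff _).2 p.2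
      rw [this, groupCohomology.cocycles₁_map_one]
      rfl
    have hx : xf hP φ = 0 := by
      rw [xf, hsum, map_zero, neg_zero]
    change ftil hP φ g = (ψ (g : G ⧸ P)).1
    rw [ftil, hx, map_zero, sub_zero, sub_zero, hφg]

end Groth.Agent.S14181
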