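import Groth.Statements.S14188
import Mathlib

set_option autoImplicit false
universe u
open CategoryTheory CategoryTheory.Limits AlgebraicGeometry
open FlatMor

namespace Groth.Agent.S14188

/-- Let T be an integral scheme with generic point η, let Y and Z be schemes flat over T with Z
separated over T, and let ψ : Y_η → Z be a T-morphism from the generic fibre Y_η = Y ×_T Spec
O_{T,η} (equivalently, an η-morphism Y_η → Z_η). Let gr : Y_η → Y ×_T Z be the graph of ψ, the
morphism whose components are the projection Y_η → Y and ψ, and let Γ ⊆ Y ×_T Z be the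
scheme-theoretic image of gr (the schematic closure of the graph). Then ψ extends to a T-morphism φ
: Y → Z, meaning that the composite Y_η → Y → Z is ψ, if and only if the composite of the inclusion
Γ → Y ×_T Z with the first projection is an isomorphism Γ ≅ Y. -/
theorem result (T Y Z : Scheme.{u}) [IsIntegral T]
    (pY : Y ⟶ T) (pZ : Z ⟶ T) [Flat pY] [Flat pZ] [IsSeparated pZ]
    (ψ : pullback pY (T.fromSpecStalk (genericPoint T)) ⟶ Z)
    (hψ : ψ ≫ pZ = pullback.fst pY (T.fromSpecStalk (genericPoint T)) ≫ pY)
    (gr : pullback pY (T.fromSpecStalk (genericPoint T)) ⟶ pullback pY pZ)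
    (hgr₁ : gr ≫ pullback.fst pY pZ = pullback.fst pY (T.fromSpecStalk (genericPoint T)))
    (hgr₂ : gr ≫ pullback.snd pY pZ = ψ) :
    (∃ φ : Y ⟶ Z, φ ≫ pZ = pY ∧ pullback.fst pY (T.fromSpecStalk (genericPoint T)) ≫ φ = ψ) ↔
      IsIso (gr.imageι ≫ pullback.fst pY pZ) := by
  constructor
  · rintro ⟨φ, hφ, hφψ⟩
    subst hφ
    -- the generic point inclusion is quasi-compact and schematically dominant
    have hfield : IsField (T.presheaf.stalk (genericPoint T)) :=
      (inferInstance : Field T.functionField).toIsField
    let _ : Field (T.presheaf.stalk (genericPoint T)) := hfield.toField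
    have hsub : Subsingleton (Spec (T.presheaf.stalk (genericPoint T))) :=
      inferInstanceAs (Subsingleton (PrimeSpectrum (T.presheaf.stalk (genericPoint T))))
    have hqc : QuasiCompact (T.fromSpecStalk (genericPoint T)) :=
      ⟨fun U _ _ => (Set.subsingleton_of_subsingleton).isCompact⟩
    have hdom : IsDominant (T.fromSpecStalk (genericPoint T)) := by
      rw [isDominant_iff, DenseRange, dense_iff_closure_eq, Scheme.range_fromSpecStalk]
      rw [← Set.univ_subset_iff, ← (genericPoint_spec T).def]
      apply closure_mono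
      intro x hx
      rw [Set.mem_singleton_iff] at hx
      subst hx
      exact specializes_rfl
    have hsd : IsSchemeTheoreticallyDominant (T.fromSpecStalk (genericPoint T)) :=
      .of_isDominant _
    have hj : IsSchemeTheoreticallyDominant
        (pullback.fst (φ ≫ pZ) (T.fromSpecStalk (genericPoint T))) := inferInstance
    have hcl : IsClosedImmersion (pullback.lift (𝟙 _) φ (Category.id_comp (φ ≫ pZ))) :=
      inferInstance
    have hgr : gr = pullback.fst (φ ≫ pZ) (T.fromSpecStalk (genericPoint T)) ≫
        pullback.lift (𝟙 _) φ (Category.id_comp (φ ≫ pZ)) := by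
      apply pullback.hom_ext
      · rw [Category.assoc, pullback.lift_fst, Category.comp_id, hgr₁]
      · rw [Category.assoc, pullback.lift_snd, hgr₂, hφψ]
    have hker : gr.ker = (pullback.lift (𝟙 _) φ (Category.id_comp (φ ≫ pZ))).ker := by
      rw [hgr, Scheme.Hom.ker_comp, Scheme.Hom.ker_eq_bot, Scheme.IdealSheafData.map_bot]
    have key : ∀ (I J : (pullback (φ ≫ pZ) pZ).IdealSheafData), I = J →
        IsIso (I.subschemeι ≫ pullback.fst (φ ≫ pZ) pZ) →
        IsIso (J.subschemeι ≫ pullback.fst (φ ≫ pZ) pZ) := by
      rintro I J rfl h; exact h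
    refine key _ _ hker.symm ?_
    change IsIso ((pullback.lift (𝟙 _) φ (Category.id_comp (φ ≫ pZ))).imageι ≫ _)
    have h1 : (pullback.lift (𝟙 _) φ (Category.id_comp (φ ≫ pZ))).imageι ≫
        pullback.fst (φ ≫ pZ) pZ =
        inv (pullback.lift (𝟙 _) φ (Category.id_comp (φ ≫ pZ))).toImage := by
      apply (cancel_epi (pullback.lift (𝟙 _) φ (Category.id_comp (φ ≫ pZ))).toImage).mp
      rw [IsIso.hom_inv_id, ← Category.assoc, Scheme.Hom.toImage_imageι, pullback.lift_fst]
    rw [h1]
    infer_instance
  · intro h
    refine ⟨inv (gr.imageι ≫ pullback.fst pY pZ) ≫ gr.imageι ≫ pullback.snd pY pZ, ?_, ?_⟩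
    · rw [Category.assoc, Category.assoc, ← pullback.condition, ← Category.assoc gr.imageι,
        IsIso.inv_hom_id_assoc]
    · have : pullback.fst pY (T.fromSpecStalk (genericPoint T)) =
          gr.toImage ≫ (gr.imageι ≫ pullback.fst pY pZ) := by
        rw [← Category.assoc, Scheme.Hom.toImage_imageι, hgr₁]
      rw [this, Category.assoc, IsIso.hom_inv_id_assoc, ← Category.assoc,
        Scheme.Hom.toImage_imageι, hgr₂]


end Groth.Agent.S14188
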