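import Groth.Statements.S14195
import Groth.Agent.Lib.Helper25.FrobCocycle

set_option autoImplicit false
universe u v
open StackCount

namespace Groth.Agent.S14195

open Groth.Agent.Lib.Helper25.FrobDense
/-- Let k be a finite field, k̄ an algebraic closure, Γ = Aut(k̄/k) with the Krull topology and π ∈ Γ
the Frobenius x ↦ x^(#k). Let A be a group on which Γ acts by group automorphisms, with open
stabilisers, such that every element of A lies in a finite Γ-stable subgroup. Then z ↦ z(π) is a
bijection from the locally constant 1-cocycles Γ → A (the continuous cocycles for discrete A) onto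
A, and two such cocycles z, z' are cohomologous if and only if z'(π) = g · z(π) · (π g)^(-1) for
some g in A; hence it induces a bijection of the continuous first cohomology set with the quotient
of A by the twisted conjugation g · x = g x (π g)^(-1). (The published statement takes A to be the
group of k̄-points of a smooth algebraic group over k with its Galois action; this row assumes only
the two properties of that action which the proof uses.) -/
theorem result (k : Type u) [Field k] [Finite k]
    (π : AlgebraicClosure k ≃ₐ[k] AlgebraicClosure k)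
    (hπ : ∀ x : AlgebraicClosure k, π x = x ^ Nat.card k)
    (A : Type v) [Group A] [MulDistribMulAction (AlgebraicClosure k ≃ₐ[k] AlgebraicClosure k) A]
    (hcont : ∀ a : A, IsOpen {σ : AlgebraicClosure k ≃ₐ[k] AlgebraicClosure k | σ • a = a})
    (hfin : ∀ a : A, ∃ H : Subgroup A, (H : Set A).Finite ∧ a ∈ H ∧
      ∀ (σ : AlgebraicClosure k ≃ₐ[k] AlgebraicClosure k) (x : A), x ∈ H → σ • x ∈ H) :
    Function.Bijective
        (fun z : GpH1.OneCocycleLC (AlgebraicClosure k ≃ₐ[k] AlgebraicClosure k) A => z.1 π) ∧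
      ∀ z z' : GpH1.OneCocycleLC (AlgebraicClosure k ≃ₐ[k] AlgebraicClosure k) A,
        z.cl = z'.cl ↔ ∃ g : A, z'.1 π = g * z.1 π * (π • g)⁻¹ := by
  -- approximation by powers of Frobenius
  have happrox : ∀ (σ : AlgebraicClosure k ≃ₐ[k] AlgebraicClosure k)
      (U : Set (AlgebraicClosure k ≃ₐ[k] AlgebraicClosure k)), IsOpen U → σ ∈ U →
      ∃ j : ℕ, π ^ j ∈ U := by
    intro σ U hU hσ
    have h1 : (fun τ => σ * τ) ⁻¹' U ∈ nhds (1 : AlgebraicClosure k ≃ₐ[k] AlgebraicClosure k) :=
      (continuous_const_mul σ).continuousAt.preimage_mem_nhds (by simpa using hU.mem_nhds hσ)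
    obtain ⟨E, hE, hEU⟩ := (krullTopology_mem_nhds_one_iff k (AlgebraicClosure k) _).mp h1
    obtain ⟨j, hj⟩ := exists_pow_eq_on k π hπ σ E
    refine ⟨j, ?_⟩
    have h2 : σ⁻¹ * π ^ j ∈ E.fixingSubgroup := by
      rw [IntermediateField.mem_fixingSubgroup_iff]
      intro x hx
      rw [AlgEquiv.mul_apply, ← hj x hx]
      exact σ.symm_apply_apply x
    have h3 := hEU h2
    simpa using h3
  -- cocycles agree on powers of π
  have hpow : ∀ (z z' : GpH1.OneCocycle (AlgebraicClosure k ≃ₐ[k] AlgebraicClosure k) A),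
      z π = z' π → ∀ j : ℕ, z (π ^ j) = z' (π ^ j) := by
    intro z z' h j
    have h1 : ∀ w : GpH1.OneCocycle (AlgebraicClosure k ≃ₐ[k] AlgebraicClosure k) A, w 1 = 1 := by
      intro w
      have := w.2 1 1
      rw [one_smul, mul_one] at this
      exact (mul_eq_left.mp this.symm)
    induction j with
    | zero => rw [pow_zero, h1, h1]
    | succ j ih => rw [pow_succ, z.2, z'.2, ih, h]
  have hinj : ∀ (z z' : GpH1.OneCocycleLC (AlgebraicClosure k ≃ₐ[k] AlgebraicClosure k) A),
      z.1 π = z'.1 π → z = z' := by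
    intro z z' h
    apply Subtype.ext
    apply GpH1.OneCocycle.ext
    intro σ
    obtain ⟨j, hj⟩ := happrox σ ({τ | z.1 τ = z.1 σ} ∩ {τ | z'.1 τ = z'.1 σ})
      ((z.2.isOpen_fiber _).inter (z'.2.isOpen_fiber _)) ⟨rfl, rfl⟩
    rw [← hj.1, ← hj.2]
    exact hpow z.1 z'.1 h j
  refine ⟨⟨fun z z' h => hinj z z' h, fun a => exists_cocycle k π hπ A hcont hfin a⟩, ?_⟩
  intro z z'
  rw [GpH1.OneCocycleLC.cl_eq_cl_iff]
  constructor
  · rintro ⟨c, hc⟩
    refine ⟨c, ?_⟩
    rw [hc π]
    group
  · rintro ⟨g, hg⟩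
    have hlc : IsLocallyConstant
        (fun σ : AlgebraicClosure k ≃ₐ[k] AlgebraicClosure k => σ • g) := by
      rw [IsLocallyConstant.iff_exists_open]
      intro σ
      refine ⟨(fun τ => σ⁻¹ * τ) ⁻¹' {τ | τ • g = g},
        (hcont g).preimage (continuous_const_mul σ⁻¹), ?_, ?_⟩
      · simp
      · intro τ hτ
        have h1 : (σ⁻¹ * τ) • g = g := hτ
        rw [mul_smul] at h1
        show τ • g = σ • g
        rw [← h1, smul_inv_smul, h1]
    let w : GpH1.OneCocycleLC (AlgebraicClosure k ≃ₐ[k] AlgebraicClosure k) A :=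
      ⟨⟨fun σ => g⁻¹ * z'.1 σ * σ • g, by
        intro σ τ
        show g⁻¹ * z'.1 (σ * τ) * (σ * τ) • g = g⁻¹ * z'.1 σ * σ • g * σ • (g⁻¹ * z'.1 τ * τ • g)
        rw [z'.1.2 σ τ, smul_mul', smul_mul', smul_inv', mul_smul]
        group⟩,
        IsLocallyConstant.comp₂ z'.2 hlc (fun x y => g⁻¹ * x * y)⟩
    have hw : w = z := by
      apply hinj
      show g⁻¹ * z'.1 π * π • g = z.1 π
      rw [hg]
      group
    refine ⟨g, fun σ => ?_⟩
    rw [← hw]


end Groth.Agent.S14195
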