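import Groth.Statements.S14211
import Groth.Agent.Lib.Helper15.Quaternion
import Groth.Agent.Lib.Helper15.IndexLemmas
import Groth.Agent.Lib.Helper15.WedderburnUnique
-- import your own Groth.Agent.* helpers here

set_option autoImplicit false
universe u v
open scoped TensorProduct
open Brauer

namespace Groth.Agent.S14211

/-- Let k be a field in which 2 ≠ 0 and A a finite-dimensional central simple k-algebra. Then A has
period 2 and index 2 (its Severi–Brauer variety has type (2, 2, 2m)) if and only if A is isomorphic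
over k to a matrix algebra M_m(Q), m ≥ 1, over a quaternion algebra Q = (a, b)_k (the k-algebra with
basis 1, i, j, ij, i² = a, j² = b, ij = −ji) which is a division ring; moreover such a quaternion
algebra is unique up to k-isomorphism. -/
theorem result (k : Type u) [Field k] (h2 : (2 : k) ≠ 0)
    (A : Type v) [Ring A] [Algebra k A] [Algebra.IsCentral k A] [IsSimpleRing A]
    [FiniteDimensional k A] :
    ((CSAGal.IsPeriod k A 2 ∧ CSAGal.IsIndex k A 2) ↔
      ∃ (a b : k) (m : ℕ), 0 < m ∧ (∀ x : QuaternionAlgebra k a 0 b, x ≠ 0 → IsUnit x) ∧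
        Nonempty (A ≃ₐ[k] Matrix (Fin m) (Fin m) (QuaternionAlgebra k a 0 b))) ∧
    (∀ (a b a' b' : k) (m m' : ℕ),
      (∀ x : QuaternionAlgebra k a 0 b, x ≠ 0 → IsUnit x) →
      (∀ x : QuaternionAlgebra k a' 0 b', x ≠ 0 → IsUnit x) →
      Nonempty (A ≃ₐ[k] Matrix (Fin m) (Fin m) (QuaternionAlgebra k a 0 b)) →
      Nonempty (A ≃ₐ[k] Matrix (Fin m') (Fin m') (QuaternionAlgebra k a' 0 b')) →
      Nonempty (QuaternionAlgebra k a 0 b ≃ₐ[k] QuaternionAlgebra k a' 0 b')) := by
  classical
  -- general facts used several times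
  have key : ∀ (a b : k) (m : ℕ), (∀ x : QuaternionAlgebra k a 0 b, x ≠ 0 → IsUnit x) →
      Nonempty (A ≃ₐ[k] Matrix (Fin m) (Fin m) (QuaternionAlgebra k a 0 b)) →
      ∀ (n : ℕ) (D : Type v) (_ : DivisionRing D) (_ : Algebra k D) (_ : Algebra.IsCentral k D)
        (_ : FiniteDimensional k D), 0 < n → Nonempty (A ≃ₐ[k] Matrix (Fin n) (Fin n) D) →
        Nonempty (QuaternionAlgebra k a 0 b ≃ₐ[k] D) := by
    intro a b m hdiv ⟨e⟩ n D _ _ _ _ hn ⟨e'⟩
    letI : DivisionRing (QuaternionAlgebra k a 0 b) :=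
      DivisionRing.ofIsUnitOrEqZero (fun x => by
        by_cases hx : x = 0
        · exact Or.inr hx
        · exact Or.inl (hdiv x hx))
    have hm : m ≠ 0 := by
      rintro rfl
      have : Subsingleton A := e.injective.subsingleton
      exact not_subsingleton A this
    haveI : NeZero m := ⟨hm⟩
    haveI : NeZero n := ⟨hn.ne'⟩
    exact (Groth.Agent.Lib.Helper15.CSA.matrix_division_unique k (QuaternionAlgebra k a 0 b) D m n
      (e.symm.trans e')).2
  refine ⟨⟨?_, ?_⟩, ?_⟩
  · rintro ⟨hper, hidx⟩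
    obtain ⟨m, D, _, _, hDc, hDf, hm, hdim, ⟨iso⟩⟩ :=
      Groth.Agent.Lib.Helper15.CSA.isIndex_exists_central hidx
    obtain ⟨a, b, ⟨eq⟩⟩ := Groth.Agent.Lib.Helper15.CSA.exists_algEquiv_quaternion k h2 D
      (by rw [hdim]; norm_num)
    refine ⟨a, b, m, hm, ?_, ⟨iso.trans (AlgEquiv.mapMatrix eq)⟩⟩
    intro x hx
    have hx' : eq.symm x ≠ 0 := by
      intro h
      apply hx
      have := congrArg eq h
      simpa using this
    have := (isUnit_iff_ne_zero.mpr hx').map eq
    simpa using this
  · rintro ⟨a, b, m, hm, hdiv, he⟩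
    obtain ⟨n, hn, D, _, _, hDc, hDf, ⟨iso⟩⟩ :=
      Groth.Agent.Lib.Helper15.CSA.exists_algEquiv_matrix_central_division k A
    have hn' : 0 < n := Nat.pos_of_ne_zero (NeZero.ne n)
    obtain ⟨eq⟩ := key a b m hdiv he n D _ _ hDc hDf hn' ⟨iso⟩
    have hdim : Module.finrank k D = 2 ^ 2 := by
      rw [← eq.toLinearEquiv.finrank_eq, QuaternionAlgebra.finrank_eq_four]; norm_num
    have hidx : CSAGal.IsIndex k A 2 :=
      ⟨by norm_num, n, D, inferInstance, inferInstance, hn', hdim, ⟨iso⟩⟩
    refine ⟨⟨by norm_num, ?_, ?_⟩, hidx⟩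
    · exact Groth.Agent.Lib.Helper15.CSA.splits_self_iff.mpr
        (Groth.Agent.Lib.Helper15.CSA.isIndex_isSplit_tpow hidx)
    · intro e' he'0 he'2 hsp
      have he'1 : e' = 1 := by omega
      subst he'1
      have hsplit : Groth.Agent.Lib.Helper15.CSA.IsSplit k A :=
        (Groth.Agent.Lib.Helper15.CSA.splits_self_iff.mp hsp).of_algEquiv
          (Groth.Agent.Lib.Helper15.CSA.tpowOneEquiv (k := k) (A := A))
      obtain ⟨r, hr, ⟨er⟩⟩ := hsplit
      haveI : NeZero r := ⟨hr⟩
      obtain ⟨-, ⟨ek⟩⟩ := Groth.Agent.Lib.Helper15.CSA.matrix_division_unique k k D r n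
        (er.symm.trans iso)
      have := ek.toLinearEquiv.finrank_eq
      rw [hdim, Module.finrank_self] at this
      norm_num at this
  · intro a b a' b' m m' hdiv hdiv' he ⟨e'⟩
    letI : DivisionRing (QuaternionAlgebra k a' 0 b') :=
      DivisionRing.ofIsUnitOrEqZero (fun x => by
        by_cases hx : x = 0
        · exact Or.inr hx
        · exact Or.inl (hdiv' x hx))
    have hm' : m' ≠ 0 := by
      rintro rfl
      have : Subsingleton A := e'.injective.subsingleton
      exact not_subsingleton A this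
    haveI : NeZero m' := ⟨hm'⟩
    haveI : Algebra.IsCentral k (Matrix (Fin m') (Fin m') (QuaternionAlgebra k a' 0 b')) :=
      Groth.Agent.Lib.Helper15.CSA.IsCSA.central
        ((Groth.Agent.Lib.Helper15.CSA.IsCSA.mk' A).of_algEquiv e')
    haveI : Algebra.IsCentral k (QuaternionAlgebra k a' 0 b') :=
      Groth.Agent.Lib.Helper15.CSA.isCentral_of_matrix k _ m'
    obtain ⟨e⟩ := he
    letI : DivisionRing (QuaternionAlgebra k a 0 b) :=
      DivisionRing.ofIsUnitOrEqZero (fun x => by
        by_cases hx : x = 0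
        · exact Or.inr hx
        · exact Or.inl (hdiv x hx))
    have hm : m ≠ 0 := by
      rintro rfl
      have : Subsingleton A := e.injective.subsingleton
      exact not_subsingleton A this
    haveI : NeZero m := ⟨hm⟩
    exact (Groth.Agent.Lib.Helper15.CSA.matrix_division_unique k (QuaternionAlgebra k a 0 b)
      (QuaternionAlgebra k a' 0 b') m m' (e.symm.trans e')).2

end Groth.Agent.S14211
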