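import Groth.Statements.S1422
import Mathlib
import Groth.Agent.Lib.Helper6.Wt14
-- import your own Groth.Agent.* helpers here

set_option autoImplicit false
universe u
open FlatMor

namespace Groth.Agent.S1422

open AlgebraicGeometry CategoryTheory Limits in
/-- Let f : X → Y and g : Y → Z be locally quasi-finite with weightings w_f and w_g. Then x ↦ w_f(x) ·
w_g(f x) is a weighting of f ≫ g. -/
theorem result {X Y Z : Scheme.{u}} (f : X ⟶ Y) (g : Y ⟶ Z) [LocallyQuasiFinite f] [LocallyOfFiniteType f] [LocallyQuasiFinite g] [LocallyOfFiniteType g]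
    (wf : ↑X → ℤ) (wg : ↑Y → ℤ) (hf : MoreMor.IsWeighting f wf) (hg : MoreMor.IsWeighting g wg) :
    MoreMor.IsWeighting (f ≫ g) (fun x => wf x * wg (f x)) := by
  classical
  refine Groth.Agent.Lib.Helper6.Wt.isWeighting_of_isPullback (f ≫ g)
    (fun x => wf x * wg (f x)) ?_
  intro V a _
  let S : Groth.Agent.Lib.Helper6.Wt.Sit f g :=
    { T := V
      YT := CategoryTheory.Limits.pullback g a
      XT := CategoryTheory.Limits.pullback f (CategoryTheory.Limits.pullback.fst g a)
      a := a
      qY := CategoryTheory.Limits.pullback.fst g a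
      pY := CategoryTheory.Limits.pullback.snd g a
      qX := CategoryTheory.Limits.pullback.fst f (CategoryTheory.Limits.pullback.fst g a)
      fT := CategoryTheory.Limits.pullback.snd f (CategoryTheory.Limits.pullback.fst g a)
      h := CategoryTheory.Limits.pullback.snd f (CategoryTheory.Limits.pullback.fst g a) ≫
        CategoryTheory.Limits.pullback.snd g a
      hh := rfl
      hY := CategoryTheory.IsPullback.of_hasPullback g a
      hX := CategoryTheory.IsPullback.of_hasPullback f _ }
  refine ⟨S.XT, S.qX, S.h, S.hX.paste_vert S.hY, ?_⟩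
  intro D hD
  haveI : AlgebraicGeometry.IsFinite (D.ι ≫ S.h) := hD
  have h0 := S.isLocallyConstant_ptSum wf wg hf hg D
  have h1 : S.ω wf wg = (fun x => wf x * wg (f x)) ∘ ⇑S.qX := by
    funext x
    simp only [Groth.Agent.Lib.Helper6.Wt.Sit.ω, Function.comp_apply]
    congr 2
    exact (congrArg (fun φ : S.XT ⟶ Y => φ x) S.hX.w).symm
  rw [h1] at h0
  exact h0

end Groth.Agent.S1422
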