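import Groth.Statements.S14229
import Groth.Agent.Helper19.RootFacet
-- import your own Groth.Agent.* helpers here

set_option autoImplicit false
universe u v w x
open RootCh RootCh.Facet

namespace Groth.Agent.S14229

/-- For a finite reduced crystallographic root system over a linearly ordered field and a facet F, the
linear subspace spanned by the vectors of F (its affine support, F being a cone) is the span of the
corners of F. -/
theorem result {ι : Type u} {R : Type v} {M : Type w} {N : Type x}
    [Field R] [LinearOrder R] [IsStrictOrderedRing R]
    [AddCommGroup M] [Module R M] [AddCommGroup N] [Module R N] [Finite ι]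
    (P : RootPairing ι R M N) [P.IsRootSystem] [P.IsCrystallographic] [P.IsReduced] (F : RootCh.Facet P) :
    Submodule.span R F.carrier = Submodule.span R F.corners := by
  obtain ⟨b, hb⟩ := Groth.Agent.Helper19.RootCham.exists_cham P F
  apply le_antisymm
  · rw [Submodule.span_le]
    intro ξ hξ
    apply Groth.Agent.Helper19.RootCham.mem_span_corners P F b hb
    intro k _ hk
    have : SignType.sign (P.coroot' k ξ) = F.sgn k := congrFun hξ k
    rw [hk, sign_eq_zero_iff] at this
    exact this
  · rw [Submodule.span_le]
    intro m hm
    obtain ⟨ξ, hξ⟩ := F.exists_sgnVec_eq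
    have h1 : ξ ∈ F.carrier := hξ
    have h2 := Groth.Agent.Helper19.RootFacet.add_mem_carrier P F ξ m h1 hm.2
    have : m = (ξ + m) - ξ := by abel
    rw [this]
    exact Submodule.sub_mem _ (Submodule.subset_span h2) (Submodule.subset_span h1)

end Groth.Agent.S14229
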