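import Groth.Statements.S14230
import Groth.Agent.Helper19.RootFacet
-- import your own Groth.Agent.* helpers here

set_option autoImplicit false
universe u v w x
open RootCh RootCh.Facet

namespace Groth.Agent.S14230

/-- For a finite reduced crystallographic root system over a linearly ordered field and a facet F, the
vectors of F are exactly the linear combinations of the corners of F in which every corner of F
occurs with a strictly positive coefficient (written with a finitely supported coefficient function
supported inside the set of corners). -/
theorem result {ι : Type u} {R : Type v} {M : Type w} {N : Type x}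
    [Field R] [LinearOrder R] [IsStrictOrderedRing R]
    [AddCommGroup M] [Module R M] [AddCommGroup N] [Module R N] [Finite ι]
    (P : RootPairing ι R M N) [P.IsRootSystem] [P.IsCrystallographic] [P.IsReduced] (F : RootCh.Facet P) :
    F.carrier = {ξ : M | ∃ c : M →₀ R, (c.support : Set M) ⊆ F.corners ∧
      (∀ m ∈ F.corners, 0 < c m) ∧ c.sum (fun m r => r • m) = ξ} := by
  classical
  ext ξ
  constructor
  · intro hξ
    obtain ⟨b, hb⟩ := Groth.Agent.Helper19.RootCham.exists_cham P F
    have hs : ∀ i, F.sgn i = SignType.sign (P.coroot' i ξ) := fun i => (congrFun hξ i).symm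
    have hinj := Groth.Agent.Helper19.RootGallery.fundWeight_injective P b
    obtain ⟨g, hg⟩ : ∃ g : b.support →₀ R, ∀ j, g j = P.coroot' j ξ :=
      ⟨Finsupp.equivFunOnFinite.symm (fun j => P.coroot' j ξ), fun j => rfl⟩
    refine ⟨Finsupp.mapDomain (fundWeight b) g, ?_, ?_, ?_⟩
    · intro m hm
      have := Finsupp.mapDomain_support hm
      rw [Finset.mem_image] at this
      obtain ⟨j, hj, rfl⟩ := this
      rw [Finsupp.mem_support_iff, hg] at hj
      apply Groth.Agent.Helper19.RootCham.fundWeight_mem_corners P F b hb j
      rcases Groth.Agent.Helper19.RootCham.sgn_nonneg_of_cham P F b hb j j.2 with h | h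
      · rw [hs, sign_eq_zero_iff] at h; exact absurd h hj
      · exact h
    · intro m hm
      rw [Groth.Agent.Helper19.RootFacet.corners_eq_image P F b hb] at hm
      obtain ⟨j, hj, rfl⟩ := hm
      rw [Finsupp.mapDomain_apply hinj, hg]
      have : F.sgn j = 1 := hj
      rw [hs, sign_eq_one_iff] at this
      exact this
    · rw [Finsupp.sum_mapDomain_index (fun m => zero_smul R m) (fun m r s => add_smul r s m),
        Finsupp.sum_fintype g (fun a m => m • fundWeight b a) (fun j => zero_smul R _)]
      simp_rw [hg]
      exact (Groth.Agent.S14249.expand b ξ).symm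
  · rintro ⟨c, hsupp, hpos, rfl⟩
    apply Groth.Agent.Helper19.RootFacet.pos_comb_mem_carrier P F c.support c
    · intro m hm; exact hpos m (hsupp hm)
    · intro m hm; exact (hsupp hm).2
    · intro i hi
      obtain ⟨m, hm, hne⟩ := Groth.Agent.Helper19.RootFacet.exists_corner_ne_zero P F i hi
      exact ⟨m, Finsupp.mem_support_iff.mpr (hpos m hm).ne', hne⟩

end Groth.Agent.S14230
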