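import Groth.Statements.S14236
import Groth.Agent.S14237
import Mathlib.LinearAlgebra.RootSystem.Chain
import Mathlib.LinearAlgebra.RootSystem.Finite.CanonicalBilinear
-- import your own Groth.Agent.* helpers here

set_option autoImplicit false
universe u v w x
open RootCh

namespace Groth.Agent.S14236

open RootCh RootCh.Facet


section helpers

variable {ι : Type u} {R : Type v} {M : Type w} {N : Type x}
    [Field R] [LinearOrder R] [IsStrictOrderedRing R]
    [AddCommGroup M] [Module R M] [AddCommGroup N] [Module R N] [Finite ι]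
    (P : RootPairing ι R M N) [P.IsRootSystem] [P.IsCrystallographic] [P.IsReduced]

theorem root_ng (i : ι) : P.root (P.reflectionPerm i i) = - P.root i := by
  rw [P.root_reflectionPerm, P.reflection_apply_self]

theorem coroot'_ng (i : ι) (ξ : M) : P.coroot' (P.reflectionPerm i i) ξ = - P.coroot' i ξ := by
  rw [Groth.Agent.S14237.coroot'_refl, P.pairing_same]; ring

theorem ng_ng (i : ι) : P.reflectionPerm (P.reflectionPerm i i) (P.reflectionPerm i i) = i :=
  Groth.Agent.S14237.neg_neg' P i

theorem pairing_ng_right (i j : ι) : P.pairing i (P.reflectionPerm j j) = - P.pairing i j :=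
  P.pairing_reflectionPerm_self_right i j

theorem pairing_ng_left (i j : ι) : P.pairing (P.reflectionPerm i i) j = - P.pairing i j :=
  P.pairing_reflectionPerm_self_left i j

theorem reflectionPerm_ng (j i : ι) :
    P.reflectionPerm (P.reflectionPerm j j) i = P.reflectionPerm j i := by
  apply P.root.injective
  rw [P.root_reflectionPerm, P.root_reflectionPerm, P.reflection_apply_root,
    P.reflection_apply_root, pairing_ng_right, root_ng]
  simp

theorem ng_reflectionPerm (j a : ι) :
    P.reflectionPerm (P.reflectionPerm j a) (P.reflectionPerm j a) =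
      P.reflectionPerm j (P.reflectionPerm a a) := by
  apply P.root.injective
  rw [root_ng, P.root_reflectionPerm, P.root_reflectionPerm, root_ng, map_neg]

/-- Lemma A : chain closure. -/
theorem chain_mem (S : Set ι) (hS : IsParabolicSubset P S) {i j : ι} (hi : i ∈ S) (hj : j ∈ S)
    (hp : P.pairing i j ≤ 0) : P.reflectionPerm j i ∈ S := by
  by_cases h : LinearIndependent R ![P.root j, P.root i]
  · have hZ : P.pairingIn ℤ i j ≤ 0 := by
      have e1 : ((P.pairingIn ℤ i j : ℤ) : R) = P.pairing i j := P.algebraMap_pairingIn ℤ i j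
      rw [← e1] at hp
      exact_mod_cast hp
    obtain ⟨n, hn⟩ : ∃ n : ℕ, (n : ℤ) = - P.pairingIn ℤ i j := ⟨(- P.pairingIn ℤ i j).toNat, by
      rw [Int.toNat_of_nonneg]; omega⟩
    have htop : n ≤ P.chainTopCoeff j i := by
      have := P.chainTopCoeff_sub_chainBotCoeff h
      omega
    have key : ∀ k : ℕ, k ≤ n → ∃ m ∈ S, P.root m = P.root i + k • P.root j := by
      intro k
      induction k with
      | zero => intro _; exact ⟨i, hi, by simp⟩
      | succ k ih =>
        intro hk
        obtain ⟨m, hm, hmr⟩ := ih (by omega)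
        obtain ⟨m', hm'⟩ := (P.root_add_nsmul_mem_range_iff_le_chainTopCoeff h).mpr
          (show k + 1 ≤ P.chainTopCoeff j i by omega)
        refine ⟨m', hS.1 m j m' hm hj ?_, hm'⟩
        rw [hm', hmr, succ_nsmul, add_assoc]
    obtain ⟨m, hm, hmr⟩ := key n le_rfl
    have : m = P.reflectionPerm j i := by
      apply P.root.injective
      rw [hmr, P.root_reflectionPerm, P.reflection_apply_root]
      have e1 : ((P.pairingIn ℤ i j : ℤ) : R) = P.pairing i j := P.algebraMap_pairingIn ℤ i j
      have e2 : P.pairing i j = - (n : R) := by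
        rw [← e1]
        have : (P.pairingIn ℤ i j : ℤ) = - (n : ℤ) := by omega
        rw [this]; push_cast; rfl
      rw [e2, neg_smul, sub_neg_eq_add, Nat.cast_smul_eq_nsmul]
    rw [← this]; exact hm
  · have h' : ¬ LinearIndependent R ![P.root i, P.root j] := by
      intro h2; exact h (by
        rw [LinearIndependent.pair_iff] at h2 ⊢
        intro s t hst
        have := h2 t s (by rw [add_comm]; exact hst)
        exact ⟨this.2, this.1⟩)
    rcases RootPairing.IsReduced.eq_or_eq_neg (P := P) i j h' with h1 | h1
    · have : i = j := P.root.injective h1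
      subst this
      rw [P.pairing_same] at hp
      exact absurd hp (by norm_num)
    · have : i = P.reflectionPerm j j := by
        apply P.root.injective
        rw [h1, root_ng]
      rw [this, P.reflectionPerm_self]
      exact hj

/-- Lemma B' -/
theorem refl_mem_of_levi (S : Set ι) (hS : IsParabolicSubset P S) {i j : ι} (hi : i ∈ S)
    (hj : j ∈ S) (hj' : P.reflectionPerm j j ∈ S) : P.reflectionPerm j i ∈ S := by
  rcases le_or_gt (P.pairing i j) 0 with hp | hp
  · exact chain_mem P S hS hi hj hp
  · rw [← reflectionPerm_ng]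
    apply chain_mem P S hS hi hj'
    rw [pairing_ng_right]
    linarith

open scoped Classical in
theorem sum_levi [Fintype ι] (S : Set ι) (hS : IsParabolicSubset P S) {j : ι}
    (hj : j ∈ S) (hj' : P.reflectionPerm j j ∈ S) :
    ∑ i ∈ Finset.univ.filter (fun i => i ∈ S ∧ P.reflectionPerm i i ∉ S), P.pairing i j = 0 := by
  apply Groth.Agent.S14237.sum_eq_zero_of_invol _ (P.reflectionPerm j)
    (fun a => P.reflectionPerm_self j a)
  · intro a ha
    simp only [Finset.mem_filter, Finset.mem_univ, true_and] at ha ⊢
    refine ⟨refl_mem_of_levi P S hS ha.1 hj hj', fun h => ha.2 ?_⟩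
    rw [ng_reflectionPerm] at h
    have := refl_mem_of_levi P S hS h hj hj'
    rwa [P.reflectionPerm_self] at this
  · intro a _
    exact Groth.Agent.S14237.pairing_refl P a j

open scoped Classical in
theorem sum_unip [Fintype ι] (S : Set ι) (hS : IsParabolicSubset P S) {j : ι}
    (hj : j ∈ S) (hj' : P.reflectionPerm j j ∉ S) :
    0 < ∑ i ∈ Finset.univ.filter (fun i => i ∈ S ∧ P.reflectionPerm i i ∉ S), P.pairing i j := by
  rw [← Finset.sum_filter_add_sum_filter_not _
    (fun i => P.reflectionPerm j i ∈ S ∧
      P.reflectionPerm (P.reflectionPerm j i) (P.reflectionPerm j i) ∉ S)]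
  have h1 : ∑ i ∈ (Finset.univ.filter (fun i => i ∈ S ∧ P.reflectionPerm i i ∉ S)).filter
      (fun i => P.reflectionPerm j i ∈ S ∧
        P.reflectionPerm (P.reflectionPerm j i) (P.reflectionPerm j i) ∉ S), P.pairing i j = 0 := by
    apply Groth.Agent.S14237.sum_eq_zero_of_invol _ (P.reflectionPerm j)
      (fun a => P.reflectionPerm_self j a)
    · intro a ha
      simp only [Finset.mem_filter, Finset.mem_univ, true_and] at ha ⊢
      refine ⟨ha.2, ?_⟩
      rw [P.reflectionPerm_self]
      exact ha.1
    · intro a _
      exact Groth.Agent.S14237.pairing_refl P a j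
  rw [h1, zero_add]
  apply Finset.sum_pos
  · intro i hi
    simp only [Finset.mem_filter, Finset.mem_univ, true_and] at hi
    by_contra hneg
    rw [not_lt] at hneg
    apply hi.2
    refine ⟨chain_mem P S hS hi.1.1 hj hneg, fun h => hi.1.2 ?_⟩
    rw [ng_reflectionPerm] at h
    have h2 := chain_mem P S hS h hj (by
      rw [Groth.Agent.S14237.pairing_refl, pairing_ng_left]; linarith)
    rwa [P.reflectionPerm_self] at h2
  · refine ⟨j, ?_⟩
    simp only [Finset.mem_filter, Finset.mem_univ, true_and]
    refine ⟨⟨hj, hj'⟩, fun h => hj' h.1⟩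

theorem le_iff_parab (F G : RootCh.Facet P) : F ≤ G ↔ F.parab ⊆ G.parab := by
  constructor
  · intro h i hi hG
    rcases h i with h0 | h0
    · rw [hG] at h0; exact absurd h0 (by decide)
    · exact hi (h0 ▸ hG)
  · intro h i
    have key : ∀ k, G.sgn k = -1 → F.sgn k = -1 := by
      intro k hk
      by_contra hF
      exact h hF hk
    rcases hG : G.sgn i with _ | _ | _
    · left; rfl
    · right
      exact (key i hG).symm
    · right
      have h1 : G.sgn (P.reflectionPerm i i) = -1 := by
        rw [Groth.Agent.S14237.sgn_neg, hG]; rfl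
      have h2 := key _ h1
      rw [Groth.Agent.S14237.sgn_neg] at h2
      have : F.sgn i = 1 := by
        rw [← neg_neg (F.sgn i), h2]; rfl
      exact this.symm

theorem rootForm_coroot' [Fintype ι] (k : ι) (ξ : M) :
    P.RootForm (P.root k) (P.root k) * P.coroot' k ξ = 2 * P.RootForm (P.root k) ξ := by
  have h := congrArg (P.toLinearMap ξ) (P.rootForm_self_smul_coroot k)
  rw [map_smul, map_nsmul, P.toLinearMap_apply_apply_Polarization, smul_eq_mul, nsmul_eq_mul] at h
  exact_mod_cast h

theorem rootForm_root_pos [Fintype ι] (k : ι) : 0 < P.RootForm (P.root k) (P.root k) := by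
  rw [P.rootForm_root_self]
  apply Finset.sum_pos'
  · intro i _; exact mul_self_nonneg _
  · exact ⟨k, Finset.mem_univ _, by rw [P.pairing_same]; norm_num⟩

theorem coroot'_nonneg_iff [Fintype ι] (k : ι) (ξ : M) :
    0 ≤ P.coroot' k ξ ↔ 0 ≤ P.RootForm (P.root k) ξ := by
  have h1 := rootForm_coroot' P k ξ
  have h2 := rootForm_root_pos P k
  constructor
  · intro h
    have : 0 ≤ P.RootForm (P.root k) (P.root k) * P.coroot' k ξ := mul_nonneg h2.le h
    linarith
  · intro h
    by_contra hneg
    rw [not_le] at hneg
    have : P.RootForm (P.root k) (P.root k) * P.coroot' k ξ < 0 := mul_neg_of_pos_of_neg h2 hneg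
    linarith

theorem mem_parab_iff (F : RootCh.Facet P) (ξ : M) (hξ : sgnVec P ξ = F.sgn) (i : ι) :
    i ∈ F.parab ↔ 0 ≤ P.coroot' i ξ := by
  show F.sgn i ≠ -1 ↔ _
  rw [← hξ]
  show SignType.sign (P.coroot' i ξ) ≠ -1 ↔ _
  rw [Ne, sign_eq_neg_one_iff, not_lt]

theorem parab_isParabolic (F : RootCh.Facet P) : IsParabolicSubset P F.parab := by
  classical
  haveI := Fintype.ofFinite ι
  obtain ⟨ξ, hξ⟩ := F.exists_sgnVec_eq
  constructor
  · intro i j k hi hj hk
    rw [mem_parab_iff P F ξ hξ, coroot'_nonneg_iff] at hi hj ⊢
    rw [hk, map_add, LinearMap.add_apply]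
    exact add_nonneg hi hj
  · intro i
    rw [mem_parab_iff P F ξ hξ, mem_parab_iff P F ξ hξ, coroot'_ng]
    rcases le_total 0 (P.coroot' i ξ) with h | h
    · left; exact h
    · right; linarith

theorem exists_facet (S : Set ι) (hS : IsParabolicSubset P S) :
    ∃ F : RootCh.Facet P, F.parab = S := by
  classical
  haveI := Fintype.ofFinite ι
  obtain ⟨ξ, hξ⟩ : ∃ ξ : M, ξ = ∑ i ∈ Finset.univ.filter
      (fun i => i ∈ S ∧ P.reflectionPerm i i ∉ S), P.root i := ⟨_, rfl⟩
  have hpair : ∀ j, P.coroot' j ξ = ∑ i ∈ Finset.univ.filter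
      (fun i => i ∈ S ∧ P.reflectionPerm i i ∉ S), P.pairing i j := by
    intro j
    rw [hξ, map_sum]
    simp_rw [P.root_coroot'_eq_pairing]
  refine ⟨Facet.ofVec P ξ, ?_⟩
  ext i
  rw [mem_parab_iff P (Facet.ofVec P ξ) ξ rfl]
  constructor
  · intro h
    by_contra hi
    have h1 : P.reflectionPerm i i ∈ S := (hS.2 i).resolve_left hi
    have h2 : P.reflectionPerm (P.reflectionPerm i i) (P.reflectionPerm i i) ∉ S := by
      rw [ng_ng]; exact hi
    have h3 := sum_unip P S hS h1 h2
    rw [← hpair, coroot'_ng] at h3
    linarith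
  · intro hi
    by_cases hi' : P.reflectionPerm i i ∈ S
    · rw [hpair, sum_levi P S hS hi hi']
    · rw [hpair]; exact (sum_unip P S hS hi hi').le

end helpers

/-- For a finite reduced crystallographic root system over a linearly ordered field, the map sending a
facet F to its parabolic set of roots R(F) (the roots whose sign on F is not negative) is a
bijection from the set of facets onto the set of parabolic sets of roots: a set of roots S is
parabolic if and only if S = R(F) for exactly one facet F. Moreover the bijection is order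
preserving: for facets F and G, G lies in the closure of F if and only if R(F) ⊆ R(G). (Here a
parabolic set of roots is a set of roots closed under addition of roots and containing each root or
its negative; the published recall of the notion prints only the second condition, under which, in
type A₂, the set of all roots but the highest would qualify without being the parabolic set of any
facet, and the published proof uses that the set contains the positive roots of some chamber.) -/
theorem result {ι : Type u} {R : Type v} {M : Type w} {N : Type x}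
    [Field R] [LinearOrder R] [IsStrictOrderedRing R]
    [AddCommGroup M] [Module R M] [AddCommGroup N] [Module R N] [Finite ι]
    (P : RootPairing ι R M N) [P.IsRootSystem] [P.IsCrystallographic] [P.IsReduced] :
    (∀ S : Set ι, RootCh.IsParabolicSubset P S ↔ ∃! F : RootCh.Facet P, F.parab = S) ∧
      ∀ F G : RootCh.Facet P, F ≤ G ↔ F.parab ⊆ G.parab := by
  refine ⟨fun S => ⟨fun hS => ?_, fun h => ?_⟩, le_iff_parab P⟩
  · obtain ⟨F, hF⟩ := exists_facet P S hS
    refine ⟨F, hF, fun G hG => ?_⟩
    apply le_antisymm
    · rw [le_iff_parab, hG, hF]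
    · rw [le_iff_parab, hG, hF]
  · obtain ⟨F, hF, _⟩ := h
    rw [← hF]; exact parab_isParabolic P F

end Groth.Agent.S14236
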