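import Groth.Statements.S14241
import Groth.Agent.Helper19.RootGallery
import Groth.Agent.Helper19.Gordan
-- import your own Groth.Agent.* helpers here

set_option autoImplicit false
universe u v w x
open RootCh

namespace Groth.Agent.S14241

open RootCh RootCh.Facet

/-- (iii) ⇔ (iv): for a finite reduced crystallographic root system over a linearly ordered field with a
complementary convex solid d (a vector d(b) of N for every Weyl chamber b, subject to (B1): a common
corner of two chambers pairs equally with their d-values, and (B2): across a wall, the root that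
changes sign from positive to negative does not pair more with d on the positive side): ⟨m, d(b)⟩ ≤
0 for every Weyl chamber b and every corner m of b (fundamental weight in the closed chamber of b)
if and only if (Φ, d) is semi-stable, i.e. 0 lies in the convex hull of the d(b). -/
theorem result {ι : Type u} {R : Type v} {M : Type w} {N : Type x}
    [Field R] [LinearOrder R] [IsStrictOrderedRing R]
    [AddCommGroup M] [Module R M] [AddCommGroup N] [Module R N] [Finite ι]
    (P : RootPairing ι R M N) [P.IsRootSystem] [P.IsCrystallographic] [P.IsReduced] (d : P.Base → N) (hd : RootCh.IsCCS d) :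
    (∀ (b : P.Base), ∀ m ∈ RootCh.baseCorners b, P.toLinearMap m (d b) ≤ 0) ↔ RootCh.IsSemistable d := by
  classical
  constructor
  · intro h
    by_contra hss
    haveI := Groth.Agent.Helper19.RootGallery.finite_base P
    haveI := Fintype.ofFinite P.Base
    have h0 : (0 : N) ∉ convexHull R (d '' ((Finset.univ : Finset P.Base) : Set P.Base)) := by
      rw [Finset.coe_univ, Set.image_univ]; exact hss
    obtain ⟨f, hf⟩ := Groth.Agent.Helper19.Gordan.exists_dual_pos (R := R) Finset.univ d h0
    obtain ⟨ξ, hξ⟩ : ∃ ξ : M, P.toPerfPair ξ = f := ⟨P.toPerfPair.symm f, by simp⟩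
    obtain ⟨b, hb⟩ := Groth.Agent.Helper19.RootGallery.exists_closedChamber P ξ
    have h1 : P.toLinearMap ξ (d b) = f (d b) := by rw [← hξ]; rfl
    have h2 := hf b (Finset.mem_univ _)
    rw [← h1, Groth.Agent.Helper19.RootGallery.pairing_expand P b ξ (d b)] at h2
    have h3 : ∑ k : b.support, P.coroot' k ξ * P.toLinearMap (fundWeight b k) (d b) ≤ 0 := by
      refine Finset.sum_nonpos (fun k _ => ?_)
      exact mul_nonpos_of_nonneg_of_nonpos (hb k k.2)
        (h b _ (Groth.Agent.S14249.fundWeight_mem_baseCorners b k))
    linarith
  · intro hss b m hm
    have hconv : Convex R {y : N | P.toLinearMap m (d b) ≤ P.toLinearMap m y} :=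
      convex_halfSpace_ge (P.toLinearMap m).isLinear _
    have hsub : Set.range d ⊆ {y : N | P.toLinearMap m (d b) ≤ P.toLinearMap m y} := by
      rintro _ ⟨b', rfl⟩
      exact Groth.Agent.Helper19.RootGallery.pairing_le P d hd b m hm b'
    have := convexHull_min hsub hconv hss
    simpa using this

end Groth.Agent.S14241
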