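import Groth.Statements.S14239
import Groth.Agent.Helper19.RootGallery
import Groth.Agent.S14241
-- import your own Groth.Agent.* helpers here

set_option autoImplicit false
universe u v w x
open RootCh

namespace Groth.Agent.S14239

open RootCh RootCh.Facet


section helpers

variable {ι : Type u} {R : Type v} {M : Type w} {N : Type x}
    [Field R] [LinearOrder R] [IsStrictOrderedRing R]
    [AddCommGroup M] [Module R M] [AddCommGroup N] [Module R N] [Finite ι]
    (P : RootPairing ι R M N) [P.IsRootSystem] [P.IsCrystallographic] [P.IsReduced]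

open Groth.Agent.Helper19.RootCham Groth.Agent.Helper19.RootGallery Groth.Agent.S14236

theorem deg_eq (d : P.Base → N) (F : RootCh.Facet P) (b : P.Base) :
    F.deg d b = P.toLinearMap (∑ i ∈ (Set.toFinite F.parab).toFinset, P.root i) (d b) := by
  show (∑ i ∈ (Set.toFinite F.parab).toFinset, P.root' i (d b)) = _
  rw [map_sum, LinearMap.sum_apply]

/-- if all corners pair non-positively then all degrees are non-positive -/
theorem deg_nonpos (d : P.Base → N)
    (h : ∀ (b : P.Base), ∀ m ∈ RootCh.baseCorners b, P.toLinearMap m (d b) ≤ 0)
    (F : RootCh.Facet P) (b : P.Base) (hb : b ∈ F.cham) : F.deg d b ≤ 0 := by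
  rw [deg_eq, pairing_expand P b]
  have hmem := hb (Groth.Agent.S14237.result P F)
  refine Finset.sum_nonpos (fun k _ => ?_)
  exact mul_nonpos_of_nonneg_of_nonpos (hmem k k.2)
    (h b _ (Groth.Agent.S14249.fundWeight_mem_baseCorners b k))

/-- the facet of a fundamental weight: adjacency, dimension and degree -/
theorem corner_facet (d : P.Base → N) (b : P.Base) (k : b.support) :
    b ∈ (Facet.ofVec P (fundWeight b k)).cham ∧ (Facet.ofVec P (fundWeight b k)).dim = 1 ∧
    ∃ c : R, 0 < c ∧ (Facet.ofVec P (fundWeight b k)).deg d b =
      c * P.toLinearMap (fundWeight b k) (d b) := by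
  classical
  obtain ⟨F, hF⟩ : ∃ F : RootCh.Facet P, F = Facet.ofVec P (fundWeight b k) := ⟨_, rfl⟩
  rw [← hF]
  have hsgn : ∀ ζ ∈ F.carrier, ∀ j, SignType.sign (P.coroot' j ζ) =
      SignType.sign (P.coroot' j (fundWeight b k)) := by
    intro ζ hζ j
    have := congrFun hζ j
    rw [hF] at this
    exact this
  have hzero : ∀ ζ ∈ F.carrier, ∀ j : b.support, j ≠ k → P.coroot' j ζ = 0 := by
    intro ζ hζ j hj
    have := hsgn ζ hζ j
    rw [coroot'_fundWeight_of_ne b k j hj, sign_zero, sign_eq_zero_iff] at this
    exact this
  have hpos : ∀ ζ ∈ F.carrier, 0 < P.coroot' k ζ := by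
    intro ζ hζ
    have := hsgn ζ hζ k
    rw [coroot'_fundWeight_self b k, sign_one, sign_eq_one_iff] at this
    exact this
  have hcham : b ∈ F.cham := by
    intro ζ hζ j hj
    by_cases hjk : (⟨j, hj⟩ : b.support) = k
    · have := hpos ζ hζ
      rw [← hjk] at this
      exact this.le
    · exact (hzero ζ hζ ⟨j, hj⟩ hjk).ge
  have hexp : ∀ ζ ∈ F.carrier, ζ = P.coroot' k ζ • fundWeight b k := by
    intro ζ hζ
    conv_lhs => rw [Groth.Agent.S14249.expand b ζ]
    rw [Finset.sum_eq_single k (fun j _ hj => by rw [hzero ζ hζ j hj, zero_smul])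
      (fun h => absurd (Finset.mem_univ _) h)]
  refine ⟨hcham, ?_, ?_⟩
  · have hm : fundWeight b k ∈ F.carrier := by rw [hF]; rfl
    have hne : fundWeight b k ≠ 0 := by
      intro h0
      have := coroot'_fundWeight_self b k
      rw [h0, map_zero] at this
      exact zero_ne_one this
    have hspan : Submodule.span R F.carrier = Submodule.span R {fundWeight b k} := by
      apply le_antisymm
      · rw [Submodule.span_le]
        intro ζ hζ
        rw [hexp ζ hζ]
        exact Submodule.smul_mem _ _ (Submodule.subset_span rfl)
      · exact Submodule.span_mono (Set.singleton_subset_iff.mpr hm)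
    show Module.finrank R (Submodule.span R F.carrier) = 1
    rw [hspan]
    exact finrank_span_singleton hne
  · have hσ := Groth.Agent.S14237.result P F
    refine ⟨_, hpos _ hσ, ?_⟩
    rw [deg_eq]
    conv_lhs => rw [hexp _ hσ]
    rw [map_smul, LinearMap.smul_apply, smul_eq_mul]

/-- if the one-dimensional facets have non-positive degree then all corners pair
non-positively -/
theorem corner_nonpos (d : P.Base → N)
    (h : ∀ (F : RootCh.Facet P) (b : P.Base), F.dim = 1 → b ∈ F.cham → F.deg d b ≤ 0)
    (b : P.Base) (m : M) (hm : m ∈ RootCh.baseCorners b) : P.toLinearMap m (d b) ≤ 0 := by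
  obtain ⟨k, rfl⟩ := eq_fundWeight_of_mem_baseCorners P b m hm
  obtain ⟨h1, h2, c, hc, h3⟩ := corner_facet P d b k
  have := h _ b h2 h1
  rw [h3] at this
  by_contra hneg
  rw [not_le] at hneg
  have : 0 < c * P.toLinearMap (fundWeight b k) (d b) := mul_pos hc hneg
  linarith

end helpers

/-- (i) ⇔ (iv): for a finite reduced crystallographic root system over a linearly ordered field with a
complementary convex solid d (a vector d(b) of N for every Weyl chamber b, subject to (B1): a common
corner of two chambers pairs equally with their d-values, and (B2): across a wall, the root that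
changes sign from positive to negative does not pair more with d on the positive side): every facet
F has degree at most zero, where the degree of F computed at a chamber b adjacent to F is the sum of
⟨α, d(b)⟩ over the roots α whose sign on F is not negative, if and only if (Φ, d) is semi-stable,
i.e. 0 lies in the convex hull of the d(b). -/
theorem result {ι : Type u} {R : Type v} {M : Type w} {N : Type x}
    [Field R] [LinearOrder R] [IsStrictOrderedRing R]
    [AddCommGroup M] [Module R M] [AddCommGroup N] [Module R N] [Finite ι]
    (P : RootPairing ι R M N) [P.IsRootSystem] [P.IsCrystallographic] [P.IsReduced] (d : P.Base → N) (hd : RootCh.IsCCS d) :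
    (∀ (F : RootCh.Facet P) (b : P.Base), b ∈ F.cham → F.deg d b ≤ 0) ↔ RootCh.IsSemistable d := by
  rw [← Groth.Agent.S14241.result P d hd]
  constructor
  · intro h b m hm
    exact corner_nonpos P d (fun F b _ hb => h F b hb) b m hm
  · intro h F b hb
    exact deg_nonpos P d h F b hb

end Groth.Agent.S14239
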