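import Groth.Statements.S14243
import Groth.Agent.Helper19.RootSpecial2
-- import your own Groth.Agent.* helpers here

set_option autoImplicit false
universe u v w x
open RootCh

namespace Groth.Agent.S14243

open RootCh RootCh.Facet


section helpers

variable {ι : Type u} {R : Type v} {M : Type w} {N : Type x}
    [Field R] [LinearOrder R] [IsStrictOrderedRing R]
    [AddCommGroup M] [Module R M] [AddCommGroup N] [Module R N] [Finite ι]
    (P : RootPairing ι R M N) [P.IsRootSystem] [P.IsCrystallographic] [P.IsReduced]

open Groth.Agent.Helper19.RootCham Groth.Agent.Helper19.RootGallery Groth.Agent.S14236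
  Groth.Agent.Helper19.RootFacet Groth.Agent.Helper19.RootSpecial

/-- a vector of `N` orthogonal to the Levi roots and pairing positively with the simple roots
positive on the facet lies in the dual facet -/
theorem mem_dualCarrier_of_pos (F : RootCh.Facet P) (b : P.Base) (hb : b ∈ F.cham) (y : N)
    (h0 : ∀ l : ι, F.sgn l = 0 → P.root' l y = 0)
    (hpos : ∀ k : b.support, F.sgn k = 1 → 0 < P.root' k y) : y ∈ F.dualCarrier := by
  classical
  have key : ∀ i, F.sgn i = 1 → 0 < P.root' i y := by
    intro i hi
    rw [root'_expand P b i y]
    obtain ⟨m, hm, hne⟩ := exists_corner_ne_zero P F i (by rw [hi]; decide)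
    have hmc := hm
    rw [corners_eq_image P F b hb] at hm
    obtain ⟨j0, hj0, rfl⟩ := hm
    have hnn : ∀ j : b.support, F.sgn j = 1 → 0 ≤ P.root' i (fundCoweight b j) := by
      intro j hj
      rw [corr_root'_nonneg_iff P (fundWeight b j) _ ⟨b, j, rfl, rfl⟩ i]
      have hcl := (fundWeight_mem_corners P F b hb j hj).2 i
      rcases hcl with h | h
      · exact (sign_eq_zero_iff.mp h).ge
      · rw [hi] at h; exact (sign_eq_one_iff.mp h).le
    refine Finset.sum_pos' (fun j _ => ?_) ⟨j0, Finset.mem_univ _, ?_⟩
    · rcases sgn_nonneg_of_cham P F b hb j j.2 with h | h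
      · rw [h0 j h, zero_mul]
      · exact mul_nonneg (hpos j h).le (hnn j h)
    · refine mul_pos (hpos j0 hj0) (lt_of_le_of_ne (hnn j0 hj0) ?_)
      intro h
      apply hne
      rw [← corr_root'_eq_zero_iff P (fundWeight b j0) _ ⟨b, j0, rfl, rfl⟩ i]
      exact h.symm
  funext i
  show SignType.sign (P.root' i y) = F.sgn i
  rcases hs' : F.sgn i with _ | _ | _
  · have hs : F.sgn i = 0 := hs'
    show SignType.sign _ = (0 : SignType)
    rw [h0 i hs, sign_zero]
  · have hs : F.sgn i = -1 := hs'
    show SignType.sign _ = (-1 : SignType)
    have h1 : F.sgn (P.reflectionPerm i i) = 1 := by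
      rw [Groth.Agent.S14237.sgn_neg, hs]; decide
    have h2 := key _ h1
    rw [root'_ng] at h2
    rw [sign_eq_neg_one_iff]; linarith
  · have hs : F.sgn i = 1 := hs'
    show SignType.sign _ = (1 : SignType)
    rw [sign_eq_one_iff]; exact key i hs

end helpers

/-- For a finite reduced crystallographic root system over a linearly ordered field with a complementary
convex solid d (a vector d(b) of N for every Weyl chamber b, subject to (B1): a common corner of two
chambers pairs equally with their d-values, and (B2): across a wall, the root that changes sign from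
positive to negative does not pair more with d on the positive side) and a facet F with dual facet
F̌ in N and dual solid F(F), the convex hull of the d(b) over the chambers b adjacent to F: the two
conditions (S1) for every corner m of F the numerical invariant n(F, m), the sum of ⟨α, d(b)⟩ over
the elementary set of roots Ψ(F, m) for b adjacent to F, is positive, and (S2) F(F) meets the linear
span of F̌ (equivalently, the reduced root system with convex solid attached to F is semi-stable),
hold together if and only if F̌ itself meets F(F). (The published text takes (S1) and (S2), the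
latter through the reduced system, as the definition of a special facet; this row states their
equivalence with the condition F̌ ∩ F(F) ≠ ∅, the form in which specialness is expressed in the
companion results.) -/
theorem result {ι : Type u} {R : Type v} {M : Type w} {N : Type x}
    [Field R] [LinearOrder R] [IsStrictOrderedRing R]
    [AddCommGroup M] [Module R M] [AddCommGroup N] [Module R N] [Finite ι]
    (P : RootPairing ι R M N) [P.IsRootSystem] [P.IsCrystallographic] [P.IsReduced] (d : P.Base → N) (hd : RootCh.IsCCS d) (F : RootCh.Facet P) :
    ((∀ m ∈ F.corners, ∀ b ∈ F.cham, 0 < F.numInv d m b) ∧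
        (RootCh.dualSolid d F ∩ (Submodule.span R F.dualCarrier : Set N)).Nonempty) ↔
      RootCh.IsSpecial d F := by
  constructor
  · rintro ⟨hS1, y, hy1, hy2⟩
    refine ⟨y, ?_, hy1⟩
    obtain ⟨b, hb⟩ := Groth.Agent.Helper19.RootCham.exists_cham P F
    have h0 : ∀ l : ι, F.sgn l = 0 → P.root' l y = 0 := fun l hl =>
      Groth.Agent.S14251.root'_eq_zero_of_mem_span P F l hl y hy2
    apply mem_dualCarrier_of_pos P F b hb y h0
    intro k hk
    have hm := Groth.Agent.Helper19.RootCham.fundWeight_mem_corners P F b hb k hk
    have h1 := hS1 _ hm b hb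
    rw [Groth.Agent.Helper19.RootSpecial.numInv_eq P d F b hb k hk y (fun l hl => h0 l hl)
      (Groth.Agent.Helper19.RootSpecial.dualSolid_pair P d hd F b hb y hy1)] at h1
    exact (mul_pos_iff_of_pos_left
      (Groth.Agent.Helper19.RootSpecial.card_Psi_pos P F b hb k hk)).mp h1
  · rintro ⟨y, hy1, hy2⟩
    refine ⟨fun m hm b hb => ?_, ⟨y, hy2, Submodule.subset_span hy1⟩⟩
    rw [Groth.Agent.Helper19.RootFacet.corners_eq_image P F b hb] at hm
    obtain ⟨k, hk, rfl⟩ := hm
    have hsgn : ∀ i, SignType.sign (P.root' i y) = F.sgn i := congrFun hy1
    rw [Groth.Agent.Helper19.RootSpecial.numInv_eq P d F b hb k hk y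
      (fun l hl => by have := hsgn l; rw [hl, sign_eq_zero_iff] at this; exact this)
      (Groth.Agent.Helper19.RootSpecial.dualSolid_pair P d hd F b hb y hy2)]
    refine mul_pos (Groth.Agent.Helper19.RootSpecial.card_Psi_pos P F b hb k hk) ?_
    have := hsgn k
    have hk' : F.sgn k = 1 := hk
    rw [hk', sign_eq_one_iff] at this
    exact this

end Groth.Agent.S14243
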