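import Groth.Statements.S14244
import Groth.Agent.Helper19.RootMetric
-- import your own Groth.Agent.* helpers here

set_option autoImplicit false
universe u v w x
open RootCh

namespace Groth.Agent.S14244

open RootCh RootCh.Facet

/-- For a finite reduced crystallographic root system over a linearly ordered field with a complementary
convex solid d (a vector d(b) of N for every Weyl chamber b, subject to (B1): a common corner of two
chambers pairs equally with their d-values, and (B2): across a wall, the root that changes sign from
positive to negative does not pair more with d on the positive side). Let B be a scalar product on N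
compatible with the Weyl group: a symmetric bilinear form with B(y, y) > 0 for y ≠ 0 that is
invariant under every coreflection. If the facet F is special, then the intersection of the
hyperplanes H_m = {y | ⟨m, y⟩ = ⟨m, d(b)⟩, b any chamber with corner m} over the corners m of F with
the span of the dual facet of F is a single point y(F), this point lies in the solid (the convex
hull of all the d(b)), and every other point y of the solid has B(y, y) > B(y(F), y(F)). Here a
facet is special when its dual facet (the corresponding facet of the dual root system, in N) meets
its dual solid, the convex hull of the values of d at the chambers adjacent to it. (The published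
definition of a special facet asks instead that all its numerical invariants be positive and that
the reduced root system with convex solid attached to the facet be semi-stable; it is proved there
to be equivalent to the condition used in this row.) -/
theorem result {ι : Type u} {R : Type v} {M : Type w} {N : Type x}
    [Field R] [LinearOrder R] [IsStrictOrderedRing R]
    [AddCommGroup M] [Module R M] [AddCommGroup N] [Module R N] [Finite ι]
    (P : RootPairing ι R M N) [P.IsRootSystem] [P.IsCrystallographic] [P.IsReduced] (d : P.Base → N) (hd : RootCh.IsCCS d)
    (B : LinearMap.BilinForm R N) (hBs : ∀ y z : N, B y z = B z y) (hBp : ∀ y : N, y ≠ 0 → 0 < B y y)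
    (hBi : ∀ (i : ι) (y z : N), B (P.coreflection i y) (P.coreflection i z) = B y z)
    (F : RootCh.Facet P) (hF : RootCh.IsSpecial d F) :
    ∃ y₀ : N, RootCh.yLocus d F = {y₀} ∧ y₀ ∈ RootCh.solid d ∧
      ∀ y ∈ RootCh.solid d, y ≠ y₀ → B y₀ y₀ < B y y := by
  obtain ⟨y₀, h1, h2⟩ := Groth.Agent.S14251.result P d hd F hF
  have hmem : y₀ ∈ F.dualCarrier ∩ RootCh.dualSolid d F := by rw [h2]; rfl
  refine ⟨y₀, h1, Groth.Agent.Helper19.RootSpecial.dualSolid_subset_solid P d F hmem.2, ?_⟩
  intro y hy hne
  obtain ⟨b, hb⟩ := Groth.Agent.Helper19.RootCham.exists_cham P F
  obtain ⟨ξ, hξ, hξB⟩ := Groth.Agent.Helper19.RootMetric.exists_xi P B hBp hBi F y₀ hmem.1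
  have hle := Groth.Agent.Helper19.RootMetric.pair_le_of_mem_solid P d hd F b hb ξ hξ y₀ y
    (Groth.Agent.Helper19.RootSpecial.dualSolid_pair P d hd F b hb y₀ hmem.2) hy
  rw [hξB, hξB] at hle
  have hpos : 0 < B (y - y₀) (y - y₀) := hBp _ (sub_ne_zero.mpr hne)
  have hexp : B (y - y₀) (y - y₀) = B y y - 2 * B y₀ y + B y₀ y₀ := by
    simp only [map_sub, LinearMap.sub_apply]
    rw [hBs y y₀]; ring
  linarith

end Groth.Agent.S14244
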