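import Groth.Statements.S14245
import Groth.Agent.Helper19.RootMetric
-- import your own Groth.Agent.* helpers here

set_option autoImplicit false
universe u v w x
open RootCh

namespace Groth.Agent.S14245

open RootCh RootCh.Facet


section helpers

variable {R : Type v} {N : Type x} [Field R] [LinearOrder R] [IsStrictOrderedRing R]
    [AddCommGroup N] [Module R N]

/-- first order condition at a minimum of a positive definite quadratic form on a convex set -/
theorem first_order (B : LinearMap.BilinForm R N) (hBs : ∀ y z : N, B y z = B z y)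
    (hBp : ∀ y : N, y ≠ 0 → 0 < B y y) (S : Set N) (hS : Convex R S) (y₀ : N) (hy₀ : y₀ ∈ S)
    (hmin : ∀ y ∈ S, B y₀ y₀ ≤ B y y) (y : N) (hy : y ∈ S) : 0 ≤ B y₀ (y - y₀) := by
  by_contra hneg
  rw [not_le] at hneg
  have hv : y - y₀ ≠ 0 := by
    intro h; rw [h, map_zero] at hneg; exact lt_irrefl _ hneg
  have hq : 0 < B (y - y₀) (y - y₀) := hBp _ hv
  obtain ⟨ε, hε⟩ : ∃ ε : R, ε = min 1 (- B y₀ (y - y₀) / B (y - y₀) (y - y₀)) := ⟨_, rfl⟩
  have hε0 : 0 < ε := by
    rw [hε]; exact lt_min one_pos (div_pos (by linarith) hq)
  have hε1 : ε ≤ 1 := by rw [hε]; exact min_le_left _ _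
  have hε2 : ε * B (y - y₀) (y - y₀) ≤ - B y₀ (y - y₀) := by
    have : ε ≤ - B y₀ (y - y₀) / B (y - y₀) (y - y₀) := by rw [hε]; exact min_le_right _ _
    rwa [le_div_iff₀ hq] at this
  have hmem : y₀ + ε • (y - y₀) ∈ S := hS.add_smul_sub_mem hy₀ hy ⟨hε0.le, hε1⟩
  have h1 := hmin _ hmem
  have hexp : B (y₀ + ε • (y - y₀)) (y₀ + ε • (y - y₀)) =
      B y₀ y₀ + 2 * ε * B y₀ (y - y₀) + ε * ε * B (y - y₀) (y - y₀) := by
    simp only [map_add, map_smul, LinearMap.add_apply, LinearMap.smul_apply, smul_eq_mul]
    rw [hBs (y - y₀) y₀]; ring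
  rw [hexp] at h1
  nlinarith

end helpers

/-- For a finite reduced crystallographic root system over a linearly ordered field with a complementary
convex solid d (a vector d(b) of N for every Weyl chamber b, subject to (B1): a common corner of two
chambers pairs equally with their d-values, and (B2): across a wall, the root that changes sign from
positive to negative does not pair more with d on the positive side). Let B be a scalar product on N
compatible with the Weyl group: a symmetric bilinear form with B(y, y) > 0 for y ≠ 0 that is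
invariant under every coreflection. If y₀ is a point of the solid (the convex hull of all the d(b))
with B(y₀, y₀) ≤ B(y, y) for every point y of the solid, and F is the facet whose dual facet
contains y₀, then F is special and the intersection of the hyperplanes H_m over the corners m of F
with the span of the dual facet of F is exactly {y₀}. Here a facet is special when its dual facet
(the corresponding facet of the dual root system, in N) meets its dual solid, the convex hull of the
values of d at the chambers adjacent to it. (The published definition of a special facet asks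
instead that all its numerical invariants be positive and that the reduced root system with convex
solid attached to the facet be semi-stable; it is proved there to be equivalent to the condition
used in this row.) -/
theorem result {ι : Type u} {R : Type v} {M : Type w} {N : Type x}
    [Field R] [LinearOrder R] [IsStrictOrderedRing R]
    [AddCommGroup M] [Module R M] [AddCommGroup N] [Module R N] [Finite ι]
    (P : RootPairing ι R M N) [P.IsRootSystem] [P.IsCrystallographic] [P.IsReduced] (d : P.Base → N) (hd : RootCh.IsCCS d)
    (B : LinearMap.BilinForm R N) (hBs : ∀ y z : N, B y z = B z y) (hBp : ∀ y : N, y ≠ 0 → 0 < B y y)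
    (hBi : ∀ (i : ι) (y z : N), B (P.coreflection i y) (P.coreflection i z) = B y z)
    (y₀ : N) (hy₀ : y₀ ∈ RootCh.solid d) (hmin : ∀ y ∈ RootCh.solid d, B y₀ y₀ ≤ B y y)
    (F : RootCh.Facet P) (hF : y₀ ∈ F.dualCarrier) :
    RootCh.IsSpecial d F ∧ RootCh.yLocus d F = {y₀} := by
  classical
  obtain ⟨b, hb⟩ := Groth.Agent.Helper19.RootCham.exists_cham P F
  obtain ⟨ξ, hξ, hξB⟩ := Groth.Agent.Helper19.RootMetric.exists_xi P B hBp hBi F y₀ hF
  -- first order condition at d b
  have hdb : d b ∈ RootCh.solid d := subset_convexHull R _ (Set.mem_range_self b)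
  have h1 := first_order B hBs hBp (RootCh.solid d) (convex_convexHull R _) y₀ hy₀ hmin (d b) hdb
  rw [map_sub, ← hξB, ← hξB, Groth.Agent.Helper19.RootGallery.pairing_expand P b ξ (d b),
    Groth.Agent.Helper19.RootGallery.pairing_expand P b ξ y₀, ← Finset.sum_sub_distrib] at h1
  have hterm : ∀ k ∈ (Finset.univ : Finset b.support),
      P.coroot' k ξ * P.toLinearMap (fundWeight b k) (d b) -
        P.coroot' k ξ * P.toLinearMap (fundWeight b k) y₀ ≤ 0 := by
    intro k _
    have hc : 0 ≤ P.coroot' k ξ := hb hξ k k.2
    have := Groth.Agent.Helper19.RootSpecial.solid_le P d hd b _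
      (Groth.Agent.S14249.fundWeight_mem_baseCorners b k) y₀ hy₀
    nlinarith
  have hzero : ∀ k ∈ (Finset.univ : Finset b.support),
      P.coroot' k ξ * P.toLinearMap (fundWeight b k) (d b) -
        P.coroot' k ξ * P.toLinearMap (fundWeight b k) y₀ = 0 := by
    have hsum : ∑ k : b.support, (P.coroot' k ξ * P.toLinearMap (fundWeight b k) (d b) -
        P.coroot' k ξ * P.toLinearMap (fundWeight b k) y₀) = 0 :=
      le_antisymm (Finset.sum_nonpos hterm) h1
    exact (Finset.sum_eq_zero_iff_of_nonpos hterm).mp hsum
  have hcorner : ∀ w ∈ F.corners, P.toLinearMap w y₀ = P.toLinearMap w (d b) := by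
    intro w hw
    rw [Groth.Agent.Helper19.RootFacet.corners_eq_image P F b hb] at hw
    obtain ⟨k, hk, rfl⟩ := hw
    have hs : F.sgn k = SignType.sign (P.coroot' k ξ) := (congrFun hξ k).symm
    have hk' : F.sgn k = 1 := hk
    rw [hs, sign_eq_one_iff] at hk'
    have := hzero k (Finset.mem_univ _)
    rw [← mul_sub] at this
    rcases mul_eq_zero.mp this with h | h
    · exact absurd h hk'.ne'
    · linarith
  have hmem : y₀ ∈ RootCh.dualSolid d F := by
    rw [Groth.Agent.S14238.result P d hd F]
    refine ⟨?_, ?_⟩
    · simp only [Set.mem_iInter]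
      intro m hm b' hb'
      rw [hcorner m hm]
      exact hd.corner_eq b b' m
        ⟨hm.1, Groth.Agent.Helper19.RootCham.closure_subset_closedChamber P F b hb hm.2⟩ hb'
    · simp only [Set.mem_iInter]
      intro m _ b' hb'
      exact Groth.Agent.Helper19.RootSpecial.solid_le P d hd b' m hb' y₀ hy₀
  have hsp : RootCh.IsSpecial d F := ⟨y₀, hF, hmem⟩
  refine ⟨hsp, ?_⟩
  obtain ⟨y₁, e1, e2⟩ := Groth.Agent.S14251.result P d hd F hsp
  have : y₀ ∈ ({y₁} : Set N) := by rw [← e2]; exact ⟨hF, hmem⟩
  rw [Set.mem_singleton_iff] at this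
  rw [e1, this]

end Groth.Agent.S14245
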