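import Groth.Statements.S14247
import Groth.Agent.Helper19.RootSpecial3
import Groth.Agent.S14243
-- import your own Groth.Agent.* helpers here

set_option autoImplicit false
universe u v w x
open RootCh

namespace Groth.Agent.S14247

open RootCh RootCh.Facet


section helpers

variable {ι : Type u} {R : Type v} {M : Type w} {N : Type x}
    [Field R] [LinearOrder R] [IsStrictOrderedRing R]
    [AddCommGroup M] [Module R M] [AddCommGroup N] [Module R N] [Finite ι]
    (P : RootPairing ι R M N) [P.IsRootSystem] [P.IsCrystallographic] [P.IsReduced]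

open Groth.Agent.Helper19.RootCham Groth.Agent.Helper19.RootGallery Groth.Agent.S14236
  Groth.Agent.Helper19.RootFacet Groth.Agent.Helper19.RootSpecial

/-- a facet with fewer corners is a face -/
theorem le_of_corners_subset (F G : RootCh.Facet P) (h : G.corners ⊆ F.corners) : F ≤ G := by
  rw [le_iff_parab, Groth.Agent.S14235.parab_eq_of_corners, Groth.Agent.S14235.parab_eq_of_corners]
  intro i hi m hm
  exact hi m (h hm)

/-- the simple roots of an adjacent base positive on the facet, read off from the corners -/
theorem sgn_eq_one_iff_of_corners (G : RootCh.Facet P) (b : P.Base) (hb : b ∈ G.cham)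
    (J : Set b.support) (hG : G.corners = fundWeight b '' J) (l : b.support) :
    G.sgn l = 1 ↔ l ∈ J := by
  have h := corners_eq_image P G b hb
  rw [hG] at h
  have := (fundWeight_injective P b).image_injective h
  rw [this]; rfl

/-- step (S1): positivity of the coordinates of `y(F)` along the simple roots positive on `F` -/
theorem coord_pos (d : P.Base → N)
    (F : RootCh.Facet P) (b : P.Base) (hb : b ∈ F.cham)
    (hmax : ∀ (G : RootCh.Facet P) (c : P.Base), c ∈ G.cham → G.deg d c ≤ F.deg d b)
    (hmaxl : ∀ (G : RootCh.Facet P) (c : P.Base), c ∈ G.cham → G.deg d c = F.deg d b →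
      F ≤ G → G = F)
    (y : N) (h0 : ∀ l : ι, F.sgn l = 0 → P.root' l y = 0)
    (hy2 : ∀ w ∈ F.corners, P.toLinearMap w y = P.toLinearMap w (d b))
    (k : b.support) (hk : F.sgn k = 1) : 0 < P.root' k y := by
  classical
  obtain ⟨G, hbG, hG⟩ := exists_facet_of_subset P b ({j : b.support | F.sgn j = 1} \ {k})
  have hFc := corners_eq_image P F b hb
  have hsub : G.corners ⊆ F.corners := by
    rw [hG, hFc]; exact Set.image_mono Set.sdiff_subset
  have hle : F ≤ G := le_of_corners_subset P F G hsub
  have hne : G ≠ F := by
    intro h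
    have hmem : fundWeight b k ∈ F.corners := fundWeight_mem_corners P F b hb k hk
    rw [← h, hG] at hmem
    obtain ⟨j, hj, hjk⟩ := hmem
    exact hj.2 (fundWeight_injective P b hjk)
  have hlt : G.deg d b < F.deg d b := by
    rcases (hmax G b hbG).eq_or_lt with h | h
    · exact absurd (hmaxl G b hbG h hle) hne
    · exact h
  rw [deg_via P d F b hb y hy2, deg_via P d G b hbG y (fun w hw => hy2 w (hsub hw))] at hlt
  have hpsub : (Set.toFinite F.parab).toFinset ⊆ (Set.toFinite G.parab).toFinset := by
    intro i hi
    rw [Set.Finite.mem_toFinset] at hi ⊢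
    exact (le_iff_parab P F G).mp hle hi
  rw [← Finset.sum_sdiff hpsub] at hlt
  have hneg : ∑ i ∈ (Set.toFinite G.parab).toFinset \ (Set.toFinite F.parab).toFinset,
      P.root' i y < 0 := by linarith
  -- each term is a non-positive multiple of root' k y
  have hterm : ∀ i ∈ (Set.toFinite G.parab).toFinset \ (Set.toFinite F.parab).toFinset,
      ∃ n : R, 0 ≤ n ∧ P.root' i y = - (P.root' k y * n) := by
    intro i hi
    rw [Finset.mem_sdiff, Set.Finite.mem_toFinset, Set.Finite.mem_toFinset] at hi
    have hFi : F.sgn i = -1 := by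
      by_contra h; exact hi.2 h
    have hGi : G.sgn i = 0 := by
      rcases hle i with h | h
      · exact h
      · rw [hFi] at h; exact absurd h hi.1
    have hFi' : F.sgn (P.reflectionPerm i i) = 1 := by
      rw [Groth.Agent.S14237.sgn_neg, hFi]; decide
    have hGi' : G.sgn (P.reflectionPerm i i) = 0 := by
      rw [Groth.Agent.S14237.sgn_neg, hGi]; decide
    refine ⟨P.root' (P.reflectionPerm i i) (fundCoweight b k), ?_, ?_⟩
    · rw [corr_root'_nonneg_iff P (fundWeight b k) _ ⟨b, k, rfl, rfl⟩]
      rcases (fundWeight_mem_corners P F b hb k hk).2 (P.reflectionPerm i i) with h | h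
      · exact (sign_eq_zero_iff.mp h).ge
      · rw [hFi'] at h; exact (sign_eq_one_iff.mp h).le
    · have e1 : P.root' i y = - P.root' (P.reflectionPerm i i) y := by
        rw [root'_ng, neg_neg]
      rw [e1, root'_expand P b (P.reflectionPerm i i) y, Finset.sum_eq_single k]
      · intro j _ hjk
        rcases sgn_nonneg_of_cham P F b hb j j.2 with h | h
        · rw [h0 j h, zero_mul]
        · have hjG : fundWeight b j ∈ G.corners := by
            rw [hG]; exact ⟨j, ⟨h, hjk⟩, rfl⟩
          have hz : P.coroot' (P.reflectionPerm i i) (fundWeight b j) = 0 := by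
            have := hjG.2 (P.reflectionPerm i i)
            rw [hGi', or_self] at this
            exact sign_eq_zero_iff.mp this
          rw [(corr_root'_eq_zero_iff P (fundWeight b j) _ ⟨b, j, rfl, rfl⟩ _).mpr hz, mul_zero]
      · intro h; exact absurd (Finset.mem_univ _) h
  choose! n hn0 hn using hterm
  rw [Finset.sum_congr rfl hn, Finset.sum_neg_distrib, ← Finset.mul_sum] at hneg
  have hS : 0 ≤ ∑ i ∈ (Set.toFinite G.parab).toFinset \ (Set.toFinite F.parab).toFinset, n i :=
    Finset.sum_nonneg hn0
  by_contra hcon
  rw [not_lt] at hcon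
  have := mul_nonpos_of_nonpos_of_nonneg hcon hS
  linarith

/-- step (S2): `y(F)` lies in the closed half-spaces of the corners of the adjacent chambers -/
theorem yF_ge (d : P.Base → N) (hd : RootCh.IsCCS d)
    (F : RootCh.Facet P) (b : P.Base) (hb : b ∈ F.cham)
    (hmax : ∀ (G : RootCh.Facet P) (c : P.Base), c ∈ G.cham → G.deg d c ≤ F.deg d b)
    (y : N) (h0 : ∀ l : ι, F.sgn l = 0 → P.root' l y = 0)
    (hy2 : ∀ w ∈ F.corners, P.toLinearMap w y = P.toLinearMap w (d b))
    (b₁ : P.Base) (hb₁ : b₁ ∈ F.cham) (i : b₁.support) :
    P.toLinearMap (fundWeight b₁ i) (d b₁) ≤ P.toLinearMap (fundWeight b₁ i) y := by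
  classical
  have hy2' : ∀ w ∈ F.corners, P.toLinearMap w y = P.toLinearMap w (d b₁) := by
    intro w hw
    rw [hy2 w hw]
    exact hd.corner_eq b b₁ w ⟨hw.1, closure_subset_closedChamber P F b hb hw.2⟩
      ⟨hw.1, closure_subset_closedChamber P F b₁ hb₁ hw.2⟩
  rcases sgn_nonneg_of_cham P F b₁ hb₁ i i.2 with hi0 | hi1
  swap
  · exact (hy2' _ (fundWeight_mem_corners P F b₁ hb₁ i hi1)).ge
  obtain ⟨G, hbG, hG⟩ := exists_facet_of_subset P b₁ (insert i {j : b₁.support | F.sgn j = 1})
  have hFc := corners_eq_image P F b₁ hb₁
  have hsub : F.corners ⊆ G.corners := by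
    rw [hG, hFc]; exact Set.image_mono (Set.subset_insert _ _)
  have hle : G ≤ F := le_of_corners_subset P G F hsub
  have hdeg : G.deg d b₁ ≤ F.deg d b₁ := by
    rw [← Groth.Agent.S14249.result P d hd F b b₁ hb hb₁]
    exact hmax G b₁ hbG
  obtain ⟨σF, hσF⟩ : ∃ σ : M, σ = ∑ i ∈ (Set.toFinite F.parab).toFinset, P.root i := ⟨_, rfl⟩
  obtain ⟨σG, hσG⟩ : ∃ σ : M, σ = ∑ i ∈ (Set.toFinite G.parab).toFinset, P.root i := ⟨_, rfl⟩
  have hσFm : σF ∈ F.carrier := by rw [hσF]; exact Groth.Agent.S14237.result P F
  have hσGm : σG ∈ G.carrier := by rw [hσG]; exact Groth.Agent.S14237.result P G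
  rw [deg_eq, deg_eq, ← hσF, ← hσG] at hdeg
  -- pairing with y
  have hpy : P.toLinearMap σF y = P.toLinearMap σG y := by
    rw [hσF, hσG, map_sum, map_sum, LinearMap.sum_apply, LinearMap.sum_apply]
    have hpsub : (Set.toFinite G.parab).toFinset ⊆ (Set.toFinite F.parab).toFinset := by
      intro i' hi'
      rw [Set.Finite.mem_toFinset] at hi' ⊢
      exact (le_iff_parab P G F).mp hle hi'
    rw [← Finset.sum_sdiff hpsub]
    have : ∑ x ∈ (Set.toFinite F.parab).toFinset \ (Set.toFinite G.parab).toFinset,
        P.toLinearMap (P.root x) y = 0 := by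
      refine Finset.sum_eq_zero (fun i' hi' => ?_)
      rw [Finset.mem_sdiff, Set.Finite.mem_toFinset, Set.Finite.mem_toFinset] at hi'
      have hGi : G.sgn i' = -1 := by
        by_contra h; exact hi'.2 h
      have hFi : F.sgn i' = 0 := by
        rcases hle i' with h | h
        · exact h
        · rw [hGi] at h; exact absurd h hi'.1
      exact h0 i' hFi
    rw [this, zero_add]
  -- expansions
  have hE : ∑ l : b₁.support, (P.coroot' l σF - P.coroot' l σG) *
      (P.toLinearMap (fundWeight b₁ l) y - P.toLinearMap (fundWeight b₁ l) (d b₁)) ≤ 0 := by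
    have e1 := pairing_expand P b₁ σF y
    have e2 := pairing_expand P b₁ σG y
    have e3 := pairing_expand P b₁ σF (d b₁)
    have e4 := pairing_expand P b₁ σG (d b₁)
    have : ∑ l : b₁.support, (P.coroot' l σF - P.coroot' l σG) *
        (P.toLinearMap (fundWeight b₁ l) y - P.toLinearMap (fundWeight b₁ l) (d b₁)) =
        (P.toLinearMap σF y - P.toLinearMap σG y) -
          (P.toLinearMap σF (d b₁) - P.toLinearMap σG (d b₁)) := by
      rw [e1, e2, e3, e4, ← Finset.sum_sub_distrib, ← Finset.sum_sub_distrib,
        ← Finset.sum_sub_distrib]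
      refine Finset.sum_congr rfl (fun l _ => ?_)
      ring
    rw [this, hpy]
    linarith
  have hGi : G.sgn i = 1 :=
    (sgn_eq_one_iff_of_corners P G b₁ hbG _ hG i).mpr (Set.mem_insert _ _)
  have hcG : 0 < P.coroot' i σG := by
    have := congrFun hσGm i
    rw [hGi] at this
    exact sign_eq_one_iff.mp this
  have hcF : P.coroot' i σF = 0 := by
    have := congrFun hσFm i
    rw [hi0] at this
    exact sign_eq_zero_iff.mp this
  rw [Finset.sum_eq_single i] at hE
  · rw [hcF, zero_sub] at hE
    by_contra hcon
    rw [not_le] at hcon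
    have : 0 < - P.coroot' i σG *
        (P.toLinearMap (fundWeight b₁ i) y - P.toLinearMap (fundWeight b₁ i) (d b₁)) := by
      apply mul_pos_of_neg_of_neg <;> linarith
    linarith
  · intro l _ hli
    rcases sgn_nonneg_of_cham P F b₁ hb₁ l l.2 with hl0 | hl1
    · have hGl : G.sgn l = 0 := by
        rcases sgn_nonneg_of_cham P G b₁ hbG l l.2 with h | h
        · exact h
        · have := (sgn_eq_one_iff_of_corners P G b₁ hbG _ hG l).mp h
          rcases this with h' | h'
          · exact absurd h' hli
          · have h'' : F.sgn l = 1 := h'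
            rw [hl0] at h''; exact absurd h'' (by decide)
      have c1 : P.coroot' l σF = 0 := by
        have := congrFun hσFm l
        rw [hl0] at this
        exact sign_eq_zero_iff.mp this
      have c2 : P.coroot' l σG = 0 := by
        have := congrFun hσGm l
        rw [hGl] at this
        exact sign_eq_zero_iff.mp this
      rw [c1, c2, sub_zero, zero_mul]
    · rw [hy2' _ (fundWeight_mem_corners P F b₁ hb₁ l hl1), sub_self, mul_zero]
  · intro h; exact absurd (Finset.mem_univ _) h

end helpers

/-- For a finite reduced crystallographic root system over a linearly ordered field with a complementary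
convex solid d (a vector d(b) of N for every Weyl chamber b, subject to (B1): a common corner of two
chambers pairs equally with their d-values, and (B2): across a wall, the root that changes sign from
positive to negative does not pair more with d on the positive side), let F be a facet and b a
chamber adjacent to F such that the degree of F (the sum of ⟨α, d(b)⟩ over the roots α whose sign on
F is not negative) is at least the degree of every facet (computed at an adjacent chamber), and such
that no facet of the same degree other than F lies in the closure of F. Then F is special. Here a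
facet is special when its dual facet (the corresponding facet of the dual root system, in N) meets
its dual solid, the convex hull of the values of d at the chambers adjacent to it. (The published
definition of a special facet asks instead that all its numerical invariants be positive and that
the reduced root system with convex solid attached to the facet be semi-stable; it is proved there
to be equivalent to the condition used in this row.) -/
theorem result {ι : Type u} {R : Type v} {M : Type w} {N : Type x}
    [Field R] [LinearOrder R] [IsStrictOrderedRing R]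
    [AddCommGroup M] [Module R M] [AddCommGroup N] [Module R N] [Finite ι]
    (P : RootPairing ι R M N) [P.IsRootSystem] [P.IsCrystallographic] [P.IsReduced] (d : P.Base → N) (hd : RootCh.IsCCS d)
    (F : RootCh.Facet P) (b : P.Base) (hb : b ∈ F.cham)
    (hmax : ∀ (G : RootCh.Facet P) (c : P.Base), c ∈ G.cham → G.deg d c ≤ F.deg d b)
    (hmaxl : ∀ (G : RootCh.Facet P) (c : P.Base), c ∈ G.cham → G.deg d c = F.deg d b → F ≤ G → G = F) :
    RootCh.IsSpecial d F := by
  obtain ⟨y, hy1, hy2⟩ := Groth.Agent.Helper19.RootSpecial.exists_yF P F b hb (d b)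
  have h0 : ∀ l : ι, F.sgn l = 0 → P.root' l y = 0 := fun l hl =>
    Groth.Agent.S14251.root'_eq_zero_of_mem_span P F l hl y hy1
  rw [← Groth.Agent.S14243.result P d hd F]
  refine ⟨?_, ⟨y, ?_, hy1⟩⟩
  · intro m hm b' hb'
    rw [Groth.Agent.S14250.result P d hd F m hm b' b hb' hb]
    rw [Groth.Agent.Helper19.RootFacet.corners_eq_image P F b hb] at hm
    obtain ⟨k, hk, rfl⟩ := hm
    rw [Groth.Agent.Helper19.RootSpecial.numInv_eq P d F b hb k hk y (fun l hl => h0 l hl) hy2]
    exact mul_pos (Groth.Agent.Helper19.RootSpecial.card_Psi_pos P F b hb k hk)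
      (coord_pos P d F b hb hmax hmaxl y h0 hy2 k hk)
  · rw [Groth.Agent.S14238.result P d hd F]
    refine ⟨?_, ?_⟩
    · simp only [Set.mem_iInter]
      intro m hm b' hb'
      rw [hy2 m hm]
      exact hd.corner_eq b b' m
        ⟨hm.1, Groth.Agent.Helper19.RootCham.closure_subset_closedChamber P F b hb hm.2⟩ hb'
    · simp only [Set.mem_iInter]
      intro m hm b' hb'
      simp only [Facet.corners', Set.mem_iUnion] at hm
      obtain ⟨b₁, hb₁, hmb₁⟩ := hm
      obtain ⟨i, rfl⟩ :=
        Groth.Agent.Helper19.RootGallery.eq_fundWeight_of_mem_baseCorners P b₁ m hmb₁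
      rw [hd.corner_eq b' b₁ _ hb' hmb₁]
      exact yF_ge P d hd F b hb hmax y h0 hy2 b₁ hb₁ i

end Groth.Agent.S14247
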