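import Groth.Statements.S14248
import Groth.Agent.Helper19.RootSpecial
-- import your own Groth.Agent.* helpers here

set_option autoImplicit false
universe u v w x
open RootCh

namespace Groth.Agent.S14248

open RootCh RootCh.Facet

/-- For a finite reduced crystallographic root system over a linearly ordered field with a complementary
convex solid d (a vector d(b) of N for every Weyl chamber b, subject to (B1): a common corner of two
chambers pairs equally with their d-values, and (B2): across a wall, the root that changes sign from
positive to negative does not pair more with d on the positive side), let F be a special facet and b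
a chamber adjacent to F. Then the degree of F (the sum of ⟨α, d(b)⟩ over the roots α whose sign on F
is not negative) is at least the degree of every facet computed at an adjacent chamber, and F lies
in the closure of every facet attaining that degree: the special facet is the largest element of the
set of facets of maximal degree. Here a facet is special when its dual facet (the corresponding
facet of the dual root system, in N) meets its dual solid, the convex hull of the values of d at the
chambers adjacent to it. (The published definition of a special facet asks instead that all its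
numerical invariants be positive and that the reduced root system with convex solid attached to the
facet be semi-stable; it is proved there to be equivalent to the condition used in this row.) -/
theorem result {ι : Type u} {R : Type v} {M : Type w} {N : Type x}
    [Field R] [LinearOrder R] [IsStrictOrderedRing R]
    [AddCommGroup M] [Module R M] [AddCommGroup N] [Module R N] [Finite ι]
    (P : RootPairing ι R M N) [P.IsRootSystem] [P.IsCrystallographic] [P.IsReduced] (d : P.Base → N) (hd : RootCh.IsCCS d)
    (F : RootCh.Facet P) (b : P.Base) (hb : b ∈ F.cham) (hF : RootCh.IsSpecial d F) :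
    (∀ (G : RootCh.Facet P) (c : P.Base), c ∈ G.cham → G.deg d c ≤ F.deg d b) ∧
      ∀ (G : RootCh.Facet P) (c : P.Base), c ∈ G.cham → G.deg d c = F.deg d b → G ≤ F := by
  classical
  haveI := Fintype.ofFinite ι
  obtain ⟨y₀, hy1, hy2⟩ := hF
  obtain ⟨f, hf⟩ : ∃ f : ι → R, f = fun i => P.root' i y₀ := ⟨_, rfl⟩
  have hfng : ∀ i, f (P.reflectionPerm i i) = - f i := by
    intro i; rw [hf]; exact Groth.Agent.Helper19.RootSpecial.root'_ng P i y₀
  have hfs : ∀ i, SignType.sign (f i) = F.sgn i := by
    intro i; rw [hf]; exact congrFun hy1 i
  have hpair : ∀ G : RootCh.Facet P,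
      P.toLinearMap (∑ i ∈ (Set.toFinite G.parab).toFinset, P.root i) y₀ =
        ∑ i ∈ Finset.univ.filter (fun i => G.sgn i = 1), f i := by
    intro G
    rw [map_sum, LinearMap.sum_apply, ← Groth.Agent.Helper19.RootSpecial.sum_parab_eq P G f hfng, hf]
  -- degree of F
  have hσF : (∑ i ∈ (Set.toFinite F.parab).toFinset, P.root i) ∈ Submodule.span R F.corners := by
    apply Groth.Agent.Helper19.RootCham.mem_span_corners P F b hb
    intro k _ hk
    have := congrFun (Groth.Agent.S14237.result P F) k
    rw [hk] at this
    exact sign_eq_zero_iff.mp this
  have hdegF : F.deg d b = ∑ i ∈ Finset.univ.filter (fun i => F.sgn i = 1), f i := by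
    rw [Groth.Agent.Helper19.RootSpecial.deg_eq,
      ← Groth.Agent.Helper19.RootSpecial.pair_eq_of_mem_span P d F b y₀
        (Groth.Agent.Helper19.RootSpecial.dualSolid_pair P d hd F b hb y₀ hy2) _ hσF, hpair]
  -- degree of G
  have hdegG : ∀ (G : RootCh.Facet P) (c : P.Base), c ∈ G.cham →
      G.deg d c ≤ ∑ i ∈ Finset.univ.filter (fun i => G.sgn i = 1), f i := by
    intro G c hc
    rw [Groth.Agent.Helper19.RootSpecial.deg_eq, ← hpair,
      Groth.Agent.Helper19.RootGallery.pairing_expand P c _ (d c),
      Groth.Agent.Helper19.RootGallery.pairing_expand P c _ y₀]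
    apply Finset.sum_le_sum
    intro k _
    exact mul_le_mul_of_nonneg_left
      (Groth.Agent.Helper19.RootSpecial.solid_le P d hd c _
        (Groth.Agent.S14249.fundWeight_mem_baseCorners c k) y₀
        (Groth.Agent.Helper19.RootSpecial.dualSolid_subset_solid P d F hy2))
      (hc (Groth.Agent.S14237.result P G) k k.2)
  have hfpos : ∀ i, F.sgn i = 1 → 0 < f i := fun i hi => by
    rw [← hfs, sign_eq_one_iff] at hi; exact hi
  have hfnonpos : ∀ i, F.sgn i ≠ 1 → f i ≤ 0 := fun i hi => by
    by_contra hneg
    rw [not_le] at hneg
    exact hi ((hfs i).symm.trans (sign_eq_one_iff.mpr hneg))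
  have hcmp1 : ∀ G : RootCh.Facet P, ∑ i ∈ Finset.univ.filter (fun i => G.sgn i = 1), f i ≤
      ∑ i ∈ (Finset.univ.filter (fun i => G.sgn i = 1)).filter (fun i => F.sgn i = 1), f i := by
    intro G
    rw [← Finset.sum_filter_add_sum_filter_not (Finset.univ.filter (fun i => G.sgn i = 1))
      (fun i => F.sgn i = 1)]
    have : ∑ i ∈ (Finset.univ.filter (fun i => G.sgn i = 1)).filter (fun i => ¬ F.sgn i = 1),
        f i ≤ 0 := by
      refine Finset.sum_nonpos (fun i hi => ?_)
      exact hfnonpos i (Finset.mem_filter.mp hi).2
    linarith
  have hsub : ∀ G : RootCh.Facet P,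
      (Finset.univ.filter (fun i => G.sgn i = 1)).filter (fun i => F.sgn i = 1) ⊆
        Finset.univ.filter (fun i => F.sgn i = 1) := by
    intro G i hi
    simp only [Finset.mem_filter, Finset.mem_univ, true_and] at hi ⊢
    exact hi.2
  have hcmp2 : ∀ G : RootCh.Facet P,
      ∑ i ∈ (Finset.univ.filter (fun i => G.sgn i = 1)).filter (fun i => F.sgn i = 1), f i ≤
        ∑ i ∈ Finset.univ.filter (fun i => F.sgn i = 1), f i := by
    intro G
    apply Finset.sum_le_sum_of_subset_of_nonneg (hsub G)
    intro i hi _
    exact (hfpos i (Finset.mem_filter.mp hi).2).le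
  refine ⟨fun G c hc => ?_, fun G c hc heq => ?_⟩
  · rw [hdegF]
    exact (hdegG G c hc).trans ((hcmp1 G).trans (hcmp2 G))
  · have hUF : ∀ i, F.sgn i = 1 → G.sgn i = 1 := by
      intro i hi
      by_contra hG
      have hlt : ∑ i ∈ (Finset.univ.filter (fun i => G.sgn i = 1)).filter
          (fun i => F.sgn i = 1), f i < ∑ i ∈ Finset.univ.filter (fun i => F.sgn i = 1), f i := by
        apply Finset.sum_lt_sum_of_subset (hsub G) (i := i)
        · simp only [Finset.mem_filter, Finset.mem_univ, true_and]; exact hi
        · simp only [Finset.mem_filter, Finset.mem_univ, true_and, not_and]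
          intro h; exact absurd h hG
        · exact hfpos i hi
        · intro j hj _
          exact (hfpos j (Finset.mem_filter.mp hj).2).le
      have := (hdegG G c hc).trans (hcmp1 G)
      rw [heq, hdegF] at this
      linarith
    intro i
    rcases hs : F.sgn i with _ | _ | _
    · left; rfl
    · right
      have h1 : F.sgn (P.reflectionPerm i i) = 1 := by
        rw [Groth.Agent.S14237.sgn_neg, hs]; decide
      have h2 := hUF _ h1
      rw [Groth.Agent.S14237.sgn_neg] at h2
      have : G.sgn i = -1 := by rw [← neg_neg (G.sgn i), h2]
      exact this.symm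
    · right
      exact (hUF i hs).symm

end Groth.Agent.S14248
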