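import Groth.Statements.S14246
import Groth.Agent.S14247
import Groth.Agent.S14248
import Mathlib.Order.Preorder.Finite
import Mathlib.Data.Fintype.Lattice
-- import your own Groth.Agent.* helpers here

set_option autoImplicit false
universe u v w x
open RootCh

namespace Groth.Agent.S14246

open RootCh RootCh.Facet


section helpers

variable {ι : Type u} {R : Type v} {M : Type w} {N : Type x}
    [Field R] [LinearOrder R] [IsStrictOrderedRing R]
    [AddCommGroup M] [Module R M] [AddCommGroup N] [Module R N] [Finite ι]
    (P : RootPairing ι R M N)

theorem finite_facet : Finite (RootCh.Facet P) := by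
  apply Finite.of_injective (fun F : RootCh.Facet P => F.sgn)
  intro F G h
  exact RootCh.Facet.ext h

end helpers

/-- A finite reduced crystallographic root system over a linearly ordered field endowed with a
complementary convex solid d (a vector d(b) of N for every Weyl chamber b, subject to (B1): a common
corner of two chambers pairs equally with their d-values, and (B2): across a wall, the root that
changes sign from positive to negative does not pair more with d on the positive side) has exactly
one special facet. Here a facet is special when its dual facet (the corresponding facet of the dual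
root system, in N) meets its dual solid, the convex hull of the values of d at the chambers adjacent
to it. (The published definition of a special facet asks instead that all its numerical invariants
be positive and that the reduced root system with convex solid attached to the facet be semi-stable;
it is proved there to be equivalent to the condition used in this row.) -/
theorem result {ι : Type u} {R : Type v} {M : Type w} {N : Type x}
    [Field R] [LinearOrder R] [IsStrictOrderedRing R]
    [AddCommGroup M] [Module R M] [AddCommGroup N] [Module R N] [Finite ι]
    (P : RootPairing ι R M N) [P.IsRootSystem] [P.IsCrystallographic] [P.IsReduced] (d : P.Base → N) (hd : RootCh.IsCCS d) :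
    ∃! F : RootCh.Facet P, RootCh.IsSpecial d F := by
  classical
  haveI := finite_facet P
  haveI : Nonempty (RootCh.Facet P) := ⟨Facet.origin P⟩
  have hch : ∀ G : RootCh.Facet P, ∃ c : P.Base, c ∈ G.cham :=
    Groth.Agent.Helper19.RootCham.exists_cham P
  choose ch hchm using hch
  obtain ⟨D, hD⟩ : ∃ D : RootCh.Facet P → R, D = fun G => G.deg d (ch G) := ⟨_, rfl⟩
  have hDeq : ∀ (G : RootCh.Facet P) (c : P.Base), c ∈ G.cham → G.deg d c = D G := by
    intro G c hc
    rw [hD]
    exact Groth.Agent.S14249.result P d hd G c (ch G) hc (hchm G)
  obtain ⟨F₀, hF₀⟩ := Finite.exists_max D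
  obtain ⟨F, hFmax⟩ := (Set.toFinite {G : RootCh.Facet P | D G = D F₀}).exists_maximal
    ⟨F₀, rfl⟩
  have hFS : D F = D F₀ := hFmax.1
  have hsp : RootCh.IsSpecial d F := by
    apply Groth.Agent.S14247.result P d hd F (ch F) (hchm F)
    · intro G c hc
      rw [hDeq G c hc, hDeq F (ch F) (hchm F), hFS]
      exact hF₀ G
    · intro G c hc heq hle
      rw [hDeq G c hc, hDeq F (ch F) (hchm F)] at heq
      have hGS : D G = D F₀ := heq.trans hFS
      exact le_antisymm (hFmax.2 hGS hle) hle
  refine ⟨F, hsp, ?_⟩
  intro F' hsp'
  have h1 := Groth.Agent.S14248.result P d hd F (ch F) (hchm F) hsp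
  have h2 := Groth.Agent.S14248.result P d hd F' (ch F') (hchm F') hsp'
  have heq : F'.deg d (ch F') = F.deg d (ch F) :=
    le_antisymm (h1.1 F' (ch F') (hchm F')) (h2.1 F (ch F) (hchm F))
  exact le_antisymm (h1.2 F' (ch F') (hchm F') heq) (h2.2 F (ch F) (hchm F) heq.symm)

end Groth.Agent.S14246
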