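import Groth.Statements.S14253
import Groth.Agent.Lib.Helper6.PerfAWN
-- import your own Groth.Agent.* helpers here

set_option autoImplicit false
universe u
open CategoryTheory AlgebraicGeometry
open PerfSch

namespace Groth.Agent.S14253

/-- A universal homeomorphism f : X ⟶ Y between perfect schemes of prime characteristic p (on every open
of X and of Y, p = 0 in the ring of sections and the p-th power map is bijective) is an isomorphism. -/
theorem result (p : ℕ) [Fact p.Prime] {X Y : Scheme.{u}} (f : X ⟶ Y)
    (hX : PerfSch.IsPerfect p X) (hY : PerfSch.IsPerfect p Y) (hf : FlatMor.IsUnivHomeo f) : IsIso f := by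
  have hYawn := Groth.Agent.Lib.Helper6.Perf.isAWN_of_perfSch p hY
  have hXawn := Groth.Agent.Lib.Helper6.Perf.isAWN_of_perfSch p hX
  have := Groth.Agent.Lib.Helper6.AWNSch.isReduced_of_isAWN hXawn
  exact Groth.Agent.Lib.Helper6.AWNSch.isIso_of_isAWN_of_isReduced hYawn f hf

end Groth.Agent.S14253
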