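import Groth.Statements.S14254
import Groth.Agent.Lib.Helper6.PerfClosureAWN
-- import your own Groth.Agent.* helpers here

set_option autoImplicit false
universe u
open CategoryTheory AlgebraicGeometry
open FrobAlg

namespace Groth.Agent.S14254

/-- Let p be a prime, φ : A → B a map of commutative rings of characteristic p, i : A → A' and j : B →
B' perfect closures (A' and B' are perfect rings of characteristic p, every element of A' resp. B'
has a p^n-th power in the image of i resp. j, and the kernels of i and j consist of nilpotent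
elements), and φ' : A' → B' the induced map, φ' ∘ i = j ∘ φ. Then Spec φ : Spec B ⟶ Spec A is a
universal homeomorphism if and only if φ' is bijective. (The published statement is for an arbitrary
morphism of schemes over the prime field and its perfection; this row is the case of affine schemes,
the perfection of Spec A being Spec of the perfect closure of A.) -/
theorem result (p : ℕ) [Fact p.Prime]
    {A B A' B' : Type u} [CommRing A] [CommRing B] [CommRing A'] [CommRing B']
    [CharP A p] [CharP B p] [CharP A' p] [CharP B' p] [PerfectRing A' p] [PerfectRing B' p]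
    (φ : A →+* B) (i : A →+* A') (j : B →+* B') [IsPerfectClosure i p] [IsPerfectClosure j p]
    (φ' : A' →+* B') (hφ : φ'.comp i = j.comp φ) :
    FlatMor.IsUnivHomeo (Spec.map (CommRingCat.ofHom φ)) ↔ Function.Bijective φ' := by
  have hpp : p.Prime := Fact.out
  have hpA' : (p : A') = 0 := CharP.cast_eq_zero A' p
  have hpB' : (p : B') = 0 := CharP.cast_eq_zero B' p
  have hi : Groth.Agent.Lib.Helper6.SqCube.UH i :=
    Groth.Agent.Lib.Helper6.CharPUH.uh_of_isPRadical p hpp hpA' i
  have hj : Groth.Agent.Lib.Helper6.SqCube.UH j :=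
    Groth.Agent.Lib.Helper6.CharPUH.uh_of_isPRadical p hpp hpB' j
  constructor
  · intro hU
    have hφ' : Groth.Agent.Lib.Helper6.SqCube.UH φ := (Groth.Agent.Lib.Helper6.SqCube.uh_iff φ).mp hU
    have hk : Groth.Agent.Lib.Helper6.SqCube.UH (j.comp φ) := hφ'.comp hj
    have hrad : IsPRadical (j.comp φ) p := by
      refine ⟨fun x => ?_, ?_⟩
      · obtain ⟨n, y, hy⟩ :=
          Groth.Agent.Lib.Helper6.CharPUH.exists_pow_mem_range_of_uh p hpp hpB' (j.comp φ) hk x
        exact ⟨n, y, hy⟩
      · rw [pNilradical_prime hpp]
        exact Groth.Agent.Lib.Helper6.AWN.uh_ker_le_nilradical hk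
    have e1 : φ' = PerfectRing.lift i (j.comp φ) p := by
      rw [← hφ]
      exact (PerfectRing.comp_lift i φ' p).symm
    have e2 : φ' = (IsPerfectClosure.equiv i (j.comp φ) p).toRingHom := by
      rw [e1]; rfl
    rw [e2]
    exact (IsPerfectClosure.equiv i (j.comp φ) p).bijective
  · intro hbij
    have h1 : Groth.Agent.Lib.Helper6.SqCube.UH (φ'.comp i) :=
      hi.comp (Groth.Agent.Lib.Helper6.SqCube.UH.of_bijective hbij)
    rw [hφ] at h1
    have h2 : FlatMor.IsUnivHomeo (Spec.map (CommRingCat.ofHom j) ≫ Spec.map (CommRingCat.ofHom φ)) := by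
      rw [← Spec.map_comp]
      exact (Groth.Agent.Lib.Helper6.SqCube.uh_iff (j.comp φ)).mpr h1
    exact Groth.Agent.Lib.Helper12.IsUnivHomeo.of_comp_right h2
      ((Groth.Agent.Lib.Helper6.SqCube.uh_iff j).mpr hj)

end Groth.Agent.S14254
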