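import Groth.Statements.S14256
import Groth.Agent.Lib.Helper17.PerfClosure

set_option autoImplicit false
universe u
open FrobAlg

namespace Groth.Agent.S14256

/-- Let p be a prime, φ : A → B a map of commutative rings of characteristic p, i : A → A' and j : B →
B' perfect closures (A', B' perfect rings of characteristic p, every element of A' resp. B' has a
p^n-th power in the image of i resp. j, the kernels of i and j consist of nilpotent elements), and
φ' : A' → B' the induced map, φ' ∘ i = j ∘ φ. Then φ is integral if and only if φ' is integral. (The
published statement is that a morphism of schemes over the prime field is integral exactly when its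
perfection is; this row is its affine case, to which the published proof reduces.) -/
theorem result (p : ℕ) [Fact p.Prime]
    {A B A' B' : Type u} [CommRing A] [CommRing B] [CommRing A'] [CommRing B']
    [CharP A p] [CharP B p] [CharP A' p] [CharP B' p] [PerfectRing A' p] [PerfectRing B' p]
    (φ : A →+* B) (i : A →+* A') (j : B →+* B') [IsPerfectClosure i p] [IsPerfectClosure j p]
    (φ' : A' →+* B') (hφ : φ'.comp i = j.comp φ) : φ.IsIntegral ↔ φ'.IsIntegral := by
  have hp : p.Prime := Fact.out
  have hi : i.IsIntegral :=
    Groth.Agent.Lib.Helper17.PerfClosure.isIntegral_of_isPRadical i p hp.pos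
  have hj : j.IsIntegral :=
    Groth.Agent.Lib.Helper17.PerfClosure.isIntegral_of_isPRadical j p hp.pos
  constructor
  · intro h
    have h1 : (j.comp φ).IsIntegral := RingHom.IsIntegral.trans φ j h hj
    rw [← hφ] at h1
    exact RingHom.IsIntegral.tower_top i φ' h1
  · intro h b
    have h1 : (φ'.comp i).IsIntegral := RingHom.IsIntegral.trans i φ' hi h
    rw [hφ] at h1
    obtain ⟨P, hP, hev⟩ := h1 (j b)
    have h2 : j (Polynomial.eval₂ φ b P) = 0 := by
      rw [Polynomial.hom_eval₂]; exact hev
    have h3 : Polynomial.eval₂ φ b P ∈ nilradical B :=
      pNilradical_le_nilradical (IsPRadical.ker_le j p h2)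
    obtain ⟨M, hM⟩ := h3
    refine ⟨P ^ M, hP.pow M, ?_⟩
    rw [Polynomial.eval₂_pow, hM]

end Groth.Agent.S14256
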