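import Groth.Statements.S14262
import Mathlib.RingTheory.Flat.EquationalCriterion
import Mathlib.Tactic.Ring
import Mathlib.RingTheory.Nilpotent.Basic

set_option autoImplicit false
universe u
open FrobAlg

namespace Groth.Agent.S14262

/-- Let p be a prime, A a perfect ring of characteristic p and f ∈ A. The radical of the principal ideal
(f) — equivalently the ideal generated by all p^n-th roots of f, n ≥ 0 — is a flat A-module. -/
theorem result (p : ℕ) [Fact p.Prime] (A : Type u) [CommRing A]
    [CharP A p] [PerfectRing A p] (f : A) :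
    Module.Flat A ((Ideal.span {f}).radical) := by
  classical
  have hp : p.Prime := Fact.out
  have : ExpChar A p := ExpChar.prime hp
  apply Module.Flat.of_forall_isTrivialRelation
  intro l a x hax
  have h1 : ∀ i, ∃ m : ℕ, ((x i : A)) ^ m ∈ Ideal.span {f} := fun i => (x i).2
  choose m hm using h1
  obtain ⟨n, hn⟩ : ∃ n : ℕ, ∀ i, m i ≤ p ^ n := by
    refine ⟨Finset.univ.sup m, fun i => ?_⟩
    calc m i ≤ Finset.univ.sup m := Finset.le_sup (Finset.mem_univ i)
      _ ≤ p ^ (Finset.univ.sup m) := (Nat.lt_pow_self hp.one_lt).le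
  have h2 : ∀ i, ∃ c : A, c * f = (x i : A) ^ (p ^ n) := by
    intro i
    have : (x i : A) ^ (p ^ n) ∈ Ideal.span {f} := (Ideal.span {f}).pow_mem_of_pow_mem (hm i) (hn i)
    exact Ideal.mem_span_singleton'.mp this
  choose c hc using h2
  let φ := iterateFrobeniusEquiv A p n
  let g := φ.symm f
  let b := fun i => φ.symm (c i)
  have hφ : ∀ y : A, φ y = y ^ p ^ n := fun y => iterateFrobeniusEquiv_def A p n y
  have hxg : ∀ i, (x i : A) = b i * g := by
    intro i
    apply φ.injective
    rw [map_mul, φ.apply_symm_apply, φ.apply_symm_apply, hφ, hc]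
  let h := (frobeniusEquiv A p).symm g
  have hh : h ^ p = g := frobeniusEquiv_symm_pow_p A p g
  have hgf : g ^ p ^ n = f := by rw [← hφ]; exact φ.apply_symm_apply f
  have hhI : h ∈ (Ideal.span {f}).radical := by
    refine ⟨p ^ (n + 1), ?_⟩
    have : h ^ p ^ (n + 1) = f := by
      rw [pow_succ', pow_mul, hh, hgf]
    rw [this]; exact Ideal.mem_span_singleton_self f
  have hsum : (∑ i, a i * b i) * h = 0 := by
    have h0 : (∑ i, a i * b i) * g = 0 := by
      have := congrArg Subtype.val hax
      simp only [Submodule.coe_sum, Submodule.coe_smul, smul_eq_mul, ZeroMemClass.coe_zero] at this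
      rw [Finset.sum_mul, ← this]
      refine Finset.sum_congr rfl fun i _ => ?_
      rw [hxg i]; ring
    have h3 : ((∑ i, a i * b i) * h) ^ p = 0 := by
      obtain ⟨q, hq⟩ : ∃ q, p = q + 1 := ⟨p - 1, (Nat.sub_add_cancel hp.one_le).symm⟩
      rw [mul_pow, hh]
      rw [hq, pow_succ, mul_assoc, h0, mul_zero]
    apply injective_frobenius A p
    rw [frobenius_def, h3, map_zero]
  obtain ⟨q, hq⟩ : ∃ q, p = q + 2 := ⟨p - 2, (Nat.sub_add_cancel hp.two_le).symm⟩
  refine ⟨1, fun i _ => b i * h ^ (q + 1), fun _ => ⟨h, hhI⟩, ?_, ?_⟩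
  · intro i
    ext
    simp only [Finset.univ_unique, Finset.sum_singleton, Submodule.coe_smul, smul_eq_mul]
    rw [hxg i, ← hh, hq]; ring
  · intro j
    have : ∑ i, a i * (b i * h ^ (q + 1)) = (∑ i, a i * b i) * h * h ^ q := by
      rw [Finset.sum_mul, Finset.sum_mul]
      refine Finset.sum_congr rfl fun i _ => ?_
      ring
    rw [this, hsum, zero_mul]

end Groth.Agent.S14262
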