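import Groth.Statements.S14274
import Groth.Agent.Lib.Helper10.TorsHart2
import Groth.Agent.Lib.Helper10.TorsNorm5
import Groth.Agent.Lib.Helper6.TorsorProps

set_option autoImplicit false
universe u
open scoped CategoryTheory.Obj
open NonAbH1

namespace Groth.Agent.S14274

open AlgebraicGeometry CategoryTheory CategoryTheory.Limits MonoidalCategory in
/-- Let X be a scheme, G a finite locally free X-group scheme (finite, flat and locally of finite
presentation over X, not necessarily commutative), and U an open subscheme of X whose inclusion is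
quasi-compact, such that for every point z of X outside U the local ring of X at z is regular of
Krull dimension at least 2. Let Q₁ and Q₂ be fppf G-torsors over X. Then every U-morphism between
their base changes to U that is equivariant for the base-changed group is the base change of a
unique G-equivariant X-morphism Q₁ -> Q₂. (With the essential-surjectivity row this is the statement
that pullback is an equivalence from G-torsors over X to torsors over U under the base change of G.) -/
theorem result {X : Scheme.{u}} (G : Over X) [GrpObj G]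
    [IsFinite G.hom] [Flat G.hom] [LocallyOfFinitePresentation G.hom]
    (U : X.Opens) [QuasiCompact U.ι]
    (hZ : ∀ z : X, z ∉ U → IsRegularLocalRing (X.presheaf.stalk z) ∧ (2 : WithBot ℕ∞) ≤ ringKrullDim (X.presheaf.stalk z))
    (Q₁ Q₂ : Over X) (a₁ : AlgGrp.Action G Q₁) (a₂ : AlgGrp.Action G Q₂)
    (h₁ : NonAbH1.IsTorsorFor Scheme.fppfPrecoverage a₁) (h₂ : NonAbH1.IsTorsorFor Scheme.fppfPrecoverage a₂)
    (h' : (Over.pullback U.ι).obj Q₁ ⟶ (Over.pullback U.ι).obj Q₂)
    (hh' : (Functor.LaxMonoidal.μ (Over.pullback U.ι) G Q₁ ≫ (Over.pullback U.ι).map a₁.act) ≫ h' =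
      ((Over.pullback U.ι).obj G ◁ h') ≫ (Functor.LaxMonoidal.μ (Over.pullback U.ι) G Q₂ ≫ (Over.pullback U.ι).map a₂.act)) :
    ∃! h : Q₁ ⟶ Q₂, a₁.act ≫ h = (G ◁ h) ≫ a₂.act ∧ (Over.pullback U.ι).map h = h' := by
  classical
  have hd2 : ∀ z : X, z ∉ U → ∃ a b : X.presheaf.stalk z,
      a ∈ IsLocalRing.maximalIdeal (X.presheaf.stalk z) ∧
      b ∈ IsLocalRing.maximalIdeal (X.presheaf.stalk z) ∧
      RingTheory.Sequence.IsWeaklyRegular (X.presheaf.stalk z) [a, b] := fun z hz => by
    obtain ⟨hreg, hdim⟩ := hZ z hz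
    exact Groth.Agent.Lib.Helper10.TorsHart.exists_weaklyRegular_pair _ hdim
  have hd1 : ∀ z : X, z ∉ U → ∃ a ∈ IsLocalRing.maximalIdeal (X.presheaf.stalk z),
      IsSMulRegular (X.presheaf.stalk z) a := fun z hz => by
    obtain ⟨a, b, ha, hb, hab⟩ := hd2 z hz
    exact ⟨a, ha, ((RingTheory.Sequence.isWeaklyRegular_cons_iff _ a [b]).mp hab).1⟩
  have hq1 := Groth.Agent.Lib.Helper10.TorsNorm.isTorsorFor_fpqc_of_fppf h₁
  have hq2 := Groth.Agent.Lib.Helper10.TorsNorm.isTorsorFor_fpqc_of_fppf h₂
  haveI : IsAffineHom G.hom := inferInstance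
  haveI : Flat Q₁.hom := Groth.Agent.Lib.Helper6.Torsor.flat_of_isTorsorFor_fpqc a₁ hq1
  haveI : IsAffineHom Q₂.hom := Groth.Agent.Lib.Helper6.Torsor.isAffineHom_of_isTorsorFor_fpqc a₂ hq2
  haveI : LocallyOfFinitePresentation Q₂.hom :=
    Groth.Agent.Lib.Helper6.Torsor.locallyOfFinitePresentation_of_isTorsorFor_fpqc a₂ hq2
  haveI : IsSeparated Q₂.hom := inferInstance
  haveI : Flat (G ⊗ Q₁).hom := by
    change Flat (pullback.fst G.hom Q₁.hom ≫ G.hom)
    infer_instance
  obtain ⟨h, hh⟩ := Groth.Agent.Lib.Helper10.TorsHart.exists_over_hom_of_restrict U hd2 h'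
  refine ⟨h, ⟨?_, hh⟩, ?_⟩
  · apply Groth.Agent.Lib.Helper10.TorsHart.over_hom_ext_of_restrict U hd1
    subst hh
    rw [← cancel_epi (Functor.LaxMonoidal.μ (Over.pullback U.ι) G Q₁)]
    rw [Functor.map_comp, Functor.map_comp, ← Category.assoc, hh', 
      ← Functor.LaxMonoidal.μ_natural_right_assoc]
  · rintro h₂ ⟨-, hh₂⟩
    apply Groth.Agent.Lib.Helper10.TorsHart.over_hom_ext_of_restrict U hd1
    rw [hh₂, hh]

end Groth.Agent.S14274
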