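import Groth.Statements.S14276
import Mathlib
import Groth.Agent.Lib.Helper10.TorsorLoc2
import Groth.Agent.S0412

set_option autoImplicit false
universe u
open CategoryTheory AlgebraicGeometry
open NonAbH1

namespace Groth.Agent.S14276

/-- Let X be a scheme and G a group scheme over X which is smooth over X. Then every G-torsor for the
fppf topology is locally trivial for the étale topology on X. Here a torsor is an X-scheme with an
action of G which is a pseudo-torsor and acquires sections on the members of some fppf covering
family of X, and the conclusion says that it acquires sections on the members of some étale covering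
family of X. (The published statement is about torsors in the sense of fppf sheaves; this row states
it for torsors that are schemes.) -/
theorem result {X : Scheme.{u}}
    (G : Over X) [GrpObj G] [Smooth G.hom] (P : Over X) (a : AlgGrp.Action G P)
    (h : NonAbH1.IsTorsorFor Scheme.fppfPrecoverage a) :
    NonAbH1.IsLocallyTrivialFor Scheme.etalePrecoverage P := by
  have hK : Scheme.fppfPrecoverage ≤ Scheme.fpqcPrecoverage := Scheme.fppfPrecoverage_le_fpqcPrecoverage
  have hsm : Smooth P.hom :=
    Groth.Agent.Lib.Helper10.TorsorLoc.prop_of_isTorsorFor a @Smooth _ hK h inferInstance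
  have hsurjG : Surjective G.hom := by
    refine ⟨fun z => ⟨(MonObj.one : MonoidalCategoryStruct.tensorUnit (Over X) ⟶ G).left z, ?_⟩⟩
    rw [← Scheme.Hom.comp_apply, Over.w]
    rfl
  have hsurj : Surjective P.hom :=
    Groth.Agent.Lib.Helper10.TorsorLoc.prop_of_isTorsorFor a @Surjective _ hK h hsurjG
  choose S' g s' hget hgs t ht using fun x : ↥X => Groth.Agent.S0412.result P.hom x (hsurj.surj x)
  refine ⟨Presieve.ofArrows S' g, ?_, ?_⟩
  · show _ ∈ Scheme.precoverage @Etale X
    rw [Scheme.ofArrows_mem_precoverage_iff]
    exact ⟨fun x => ⟨x, s' x, hgs x⟩, hget⟩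
  · rintro _ _ ⟨x⟩
    exact ⟨t x, ht x⟩

end Groth.Agent.S14276
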