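import Groth.Statements.S14295
import Mathlib.Tactic.Ring
import Mathlib.Tactic.Linarith
import Mathlib.Tactic.Abel
import Mathlib.Tactic.Module
import Mathlib.Tactic.LinearCombination
import Mathlib.Algebra.Module.Basic
import Mathlib.Algebra.Group.Int.Even

set_option autoImplicit false
universe u v
open PtDeg

namespace Groth.Agent.S14295


lemma two_mul_tri (n : ℤ) : 2 * (n * (n + 1) / 2) = n * (n + 1) :=
  Int.two_mul_ediv_two_of_even (Int.even_mul_succ_self n)

lemma two_mul_tri' (n : ℤ) : 2 * (n * (n - 1) / 2) = n * (n - 1) := by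
  have h : Even (n * (n - 1)) := by
    have := Int.even_mul_succ_self (n - 1)
    rw [sub_add_cancel] at this
    rwa [mul_comm]
  exact Int.two_mul_ediv_two_of_even h

/-- Let A and G be abelian groups, written additively, and f : A → G a map which is pointed of degree 2,
that is f(x+y+z) + f(x) + f(y) + f(z) = f(x+y) + f(x+z) + f(y+z) for all x, y, z in A. Then for
every integer n and every x in A one has f(n·x) = (n(n+1)/2)·f(x) + (n(n−1)/2)·f(−x) (the two
coefficients are the integers n(n+1)/2 and n(n−1)/2). -/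
theorem result {A : Type u} {G : Type v} [AddCommGroup A] [AddCommGroup G]
    (f : A → G) (hf : ∀ x y z : A, f (x + y + z) + f x + f y + f z = f (x + y) + f (x + z) + f (y + z))
    (n : ℤ) (x : A) :
    f (n • x) = (n * (n + 1) / 2) • f x + (n * (n - 1) / 2) • f (-x) := by
  have hf0 : f 0 = 0 := by
    have := hf 0 0 0
    simp only [add_zero] at this
    have h2 : f 0 + f 0 + f 0 + f 0 = (f 0 + f 0 + f 0) + f 0 := by abel
    rw [h2] at this
    exact add_eq_left.mp this
  -- recurrence
  have hrec : ∀ m : ℤ, f ((m + 1) • x) + f ((m - 1) • x) = f (m • x) + f (m • x) + f x + f (-x) := by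
    intro m
    have := hf (m • x) x (-x)
    have e1 : m • x + x + -x = m • x := by abel
    have e2 : m • x + x = (m + 1) • x := by rw [add_smul, one_smul]
    have e3 : m • x + -x = (m - 1) • x := by rw [sub_smul, one_smul, sub_eq_add_neg]
    have e4 : x + -x = 0 := by abel
    rw [e1, e2, e3, e4, hf0, add_zero] at this
    rw [← this]
  -- the coefficient recurrences
  have hT : ∀ m : ℤ, (m + 1) * (m + 1 + 1) / 2 = 2 * (m * (m + 1) / 2) - (m - 1) * (m - 1 + 1) / 2 + 1 := by
    intro m
    have h1 := two_mul_tri (m + 1)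
    have h2 := two_mul_tri m
    have h3 := two_mul_tri (m - 1)
    nlinarith [h1, h2, h3]
  have hS : ∀ m : ℤ, (m + 1) * (m + 1 - 1) / 2 = 2 * (m * (m - 1) / 2) - (m - 1) * (m - 1 - 1) / 2 + 1 := by
    intro m
    have h1 := two_mul_tri' (m + 1)
    have h2 := two_mul_tri' m
    have h3 := two_mul_tri' (m - 1)
    nlinarith [h1, h2, h3]
  have key : ∀ m : ℤ, (f (m • x) = (m * (m + 1) / 2) • f x + (m * (m - 1) / 2) • f (-x)) ∧
      (f ((m + 1) • x) = ((m + 1) * (m + 1 + 1) / 2) • f x + ((m + 1) * (m + 1 - 1) / 2) • f (-x)) := by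
    intro m
    induction m using Int.induction_on with
    | zero =>
      refine ⟨by simp [hf0], ?_⟩
      norm_num
    | succ k ih =>
      obtain ⟨h0, h1⟩ := ih
      refine ⟨h1, ?_⟩
      have hr := hrec ((k : ℤ) + 1)
      rw [add_sub_cancel_right] at hr
      have : f (((k : ℤ) + 1 + 1) • x) =
          f (((k : ℤ) + 1) • x) + f (((k : ℤ) + 1) • x) + f x + f (-x) - f ((k : ℤ) • x) := by
        rw [← hr]; abel
      rw [this, h1, h0, hT ((k : ℤ) + 1), hS ((k : ℤ) + 1)]
      simp only [add_sub_cancel_right]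
      module
    | pred k ih =>
      obtain ⟨h0, h1⟩ := ih
      have e : (-(k : ℤ) - 1 + 1) = -(k : ℤ) := by ring
      refine ⟨?_, by rw [e]; exact h0⟩
      have hr := hrec (-(k : ℤ))
      have : f ((-(k : ℤ) - 1) • x) =
          f ((-(k : ℤ)) • x) + f ((-(k : ℤ)) • x) + f x + f (-x) - f ((-(k : ℤ) + 1) • x) := by
        rw [← hr]; abel
      rw [this, h0, h1]
      have hT' := hT (-(k : ℤ))
      have hS' := hS (-(k : ℤ))
      have a1 : (-(k : ℤ) - 1) * (-(k : ℤ) - 1 + 1) / 2 =
          2 * (-(k : ℤ) * (-(k : ℤ) + 1) / 2) - (-(k : ℤ) + 1) * (-(k : ℤ) + 1 + 1) / 2 + 1 := by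
        linarith
      have a2 : (-(k : ℤ) - 1) * (-(k : ℤ) - 1 - 1) / 2 =
          2 * (-(k : ℤ) * (-(k : ℤ) - 1) / 2) - (-(k : ℤ) + 1) * (-(k : ℤ) + 1 - 1) / 2 + 1 := by
        linarith
      rw [a1, a2]
      module
  exact (key n).1

end Groth.Agent.S14295
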