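import Groth.Statements.S14294
import Groth.Agent.S14295

set_option autoImplicit false
universe u v
open PtDeg

namespace Groth.Agent.S14294

/-- Let A and G be abelian groups, written additively, and f : A → G a map which is pointed of degree 2,
that is f(x+y+z) + f(x) + f(y) + f(z) = f(x+y) + f(x+z) + f(y+z) for all x, y, z in A. If an integer
n satisfies n·x = 0 for every x in A, then 2n·f(x) = 0 for every x in A, and if moreover n is odd
then n·f(x) = 0 for every x in A. -/
theorem result {A : Type u} {G : Type v} [AddCommGroup A] [AddCommGroup G]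
    (f : A → G) (hf : ∀ x y z : A, f (x + y + z) + f x + f y + f z = f (x + y) + f (x + z) + f (y + z))
    (n : ℤ) (hn : ∀ x : A, n • x = 0) :
    (∀ x : A, (2 * n) • f x = 0) ∧ (Odd n → ∀ x : A, n • f x = 0) := by
  have hf0 : f 0 = 0 := by
    have := Groth.Agent.S14295.result f hf 0 0
    simpa using this
  have key : ∀ x : A, (n • f x + n • f (-x) = 0) ∧
      ((n * (n + 1) / 2) • f x + (n * (n - 1) / 2) • f (-x) = 0) := by
    intro x
    have h_i := Groth.Agent.S14295.result f hf n x
    rw [hn x, hf0] at h_i
    have h_ii := Groth.Agent.S14295.result f hf (n + 1) x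
    have e1 : (n + 1) • x = x := by rw [add_smul, hn x, one_smul, zero_add]
    rw [e1] at h_ii
    have hT2 := Groth.Agent.S14295.two_mul_tri n
    have hS2 := Groth.Agent.S14295.two_mul_tri' n
    have hT2' := Groth.Agent.S14295.two_mul_tri (n + 1)
    have hS2' := Groth.Agent.S14295.two_mul_tri' (n + 1)
    have hT' : (n + 1) * (n + 1 + 1) / 2 = n * (n + 1) / 2 + n + 1 := by nlinarith
    have hS' : (n + 1) * (n + 1 - 1) / 2 = n * (n - 1) / 2 + n := by nlinarith
    rw [hT', hS'] at h_ii
    refine ⟨?_, h_i.symm⟩
    linear_combination (norm := module) h_i - h_ii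
  constructor
  · intro x
    obtain ⟨h3, h_i⟩ := key x
    have hT2 := Groth.Agent.S14295.two_mul_tri n
    have hS2 := Groth.Agent.S14295.two_mul_tri' n
    have h5 : (2 * (n * (n + 1) / 2)) • f x + (2 * (n * (n - 1) / 2)) • f (-x) = 0 := by
      linear_combination (norm := module) (2 : ℤ) • h_i
    rw [hT2, hS2] at h5
    linear_combination (norm := module) h5 - (n - 1) • h3
  · rintro ⟨k, hk⟩ x
    obtain ⟨h3, h_i⟩ := key x
    have hT2 := Groth.Agent.S14295.two_mul_tri n
    have hS2 := Groth.Agent.S14295.two_mul_tri' n
    have hT : n * (n + 1) / 2 = (k + 1) * n := by subst hk; nlinarith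
    have hS : n * (n - 1) / 2 = k * n := by subst hk; nlinarith
    rw [hT, hS] at h_i
    linear_combination (norm := module) h_i - k • h3

end Groth.Agent.S14294
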