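import Groth.Statements.S14305
import Mathlib
-- import your own Groth.Agent.* helpers here

set_option autoImplicit false
universe u v
open PtDeg

namespace Groth.Agent.S14305

section
variable {ι : Type*} [DecidableEq ι] {A : Type u} {G : Type v} [AddCommGroup A] [AddCommGroup G]

/-- alternating sum over the powerset -/
def S (g : A → G) (t : Finset ι) (x : ι → A) : G :=
  ∑ I ∈ t.powerset, ((-1 : ℤ) ^ I.card) • g (∑ i ∈ I, x i)

lemma S_insert (g : A → G) (t : Finset ι) (x : ι → A) {j : ι} (hj : j ∉ t) :
    S g (insert j t) x = S g t x - S (fun a => g (a + x j)) t x := by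
  unfold S
  rw [Finset.sum_powerset_insert hj, sub_eq_add_neg, ← Finset.sum_neg_distrib]
  congr 1
  apply Finset.sum_congr rfl
  intro I hI
  have hjI : j ∉ I := fun h => hj (Finset.mem_powerset.mp hI h)
  rw [Finset.card_insert_of_notMem hjI, Finset.sum_insert hjI, pow_succ, mul_neg_one, neg_smul,
    add_comm (x j)]

lemma S_update (g : A → G) (t : Finset ι) (x : ι → A) {j : ι} (hj : j ∉ t) (c : A) :
    S g t (Function.update x j c) = S g t x := by
  unfold S
  apply Finset.sum_congr rfl
  intro I hI
  have hjI : j ∉ I := fun h => hj (Finset.mem_powerset.mp hI h)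
  congr 2
  apply Finset.sum_congr rfl
  intro i hi
  rw [Function.update_of_ne]
  rintro rfl
  exact hjI hi

lemma S_key (f : A → G) (s : Finset ι) (x : ι → A) {j k : ι} (hj : j ∈ s) (hk : k ∉ s) :
    S f (insert k s) x =
      S f s x + S f s (Function.update x j (x k)) - S f s (Function.update x j (x j + x k)) := by
  have hjk : j ≠ k := by rintro rfl; exact hk hj
  obtain ⟨t, hjt, rfl⟩ : ∃ t, j ∉ t ∧ s = insert j t :=
    ⟨s.erase j, Finset.notMem_erase j s, (Finset.insert_erase hj).symm⟩
  rw [S_insert f _ x hk]
  simp only [S_insert _ t _ hjt, S_update _ t x hjt, Function.update_self, add_assoc]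
  abel

omit [DecidableEq ι] in
lemma S_image {κ : Type*} [DecidableEq κ] (g : A → G) (s : Finset ι) (e : ι → κ)
    (he : Function.Injective e) (x : κ → A) :
    S g (s.image e) x = S g s (x ∘ e) := by
  unfold S
  rw [Finset.powerset_image, Finset.sum_image]
  · apply Finset.sum_congr rfl
    intro I _
    rw [Finset.card_image_of_injective _ he, Finset.sum_image (fun a _ b _ h => he h)]
    rfl
  · intro I _ J _ h
    exact Finset.image_injective he h

end

section
variable {A : Type u} {G : Type v} [AddCommGroup A] [AddCommGroup G]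

lemma dev_eq (f : A → G) (n : ℕ) (y : Fin n → A) :
    ∑ I ∈ ((Finset.univ : Finset (Fin n)).powerset.erase ∅),
        ((-1 : ℤ) ^ (n + I.card)) • f (∑ i ∈ I, y i)
      = ((-1 : ℤ) ^ n) • (S f Finset.univ y - f 0) := by
  rw [Finset.sum_erase_eq_sub (Finset.empty_mem_powerset _)]
  simp only [Finset.card_empty, Finset.sum_empty, add_zero]
  rw [smul_sub, S, Finset.smul_sum]
  congr 1
  apply Finset.sum_congr rfl
  intro I _
  rw [smul_smul, pow_add]

lemma S_fin_succ (f : A → G) (n : ℕ) (x : Fin (n + 1) → A) (j : Fin n) :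
    S f Finset.univ x = S f Finset.univ (x ∘ Fin.castSucc) +
      S f Finset.univ (Function.update (x ∘ Fin.castSucc) j (x (Fin.last n))) -
      S f Finset.univ (Function.update (x ∘ Fin.castSucc) j (x j.castSucc + x (Fin.last n))) := by
  have huniv : (Finset.univ : Finset (Fin (n + 1))) =
      insert (Fin.last n) (Finset.univ.image Fin.castSucc) := by
    ext i
    simp only [Finset.mem_univ, Finset.mem_insert, Finset.mem_image, true_and, true_iff]
    rcases Fin.eq_castSucc_or_eq_last i with ⟨i', rfl⟩ | rfl
    · exact Or.inr ⟨i', rfl⟩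
    · exact Or.inl rfl
  have hj : j.castSucc ∈ (Finset.univ.image Fin.castSucc : Finset (Fin (n + 1))) :=
    Finset.mem_image_of_mem _ (Finset.mem_univ _)
  have hk : Fin.last n ∉ (Finset.univ.image Fin.castSucc : Finset (Fin (n + 1))) := by
    simp only [Finset.mem_image, Finset.mem_univ, true_and, not_exists]
    intro i
    exact Fin.castSucc_ne_last i
  rw [huniv, S_key f _ x hj hk, S_image _ _ _ (Fin.castSucc_injective n),
    S_image _ _ _ (Fin.castSucc_injective n), S_image _ _ _ (Fin.castSucc_injective n),
    Function.update_comp_eq_of_injective _ (Fin.castSucc_injective n),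
    Function.update_comp_eq_of_injective _ (Fin.castSucc_injective n)]

lemma neg_one_pow_smul_cancel (n : ℕ) {u v : G} (h : ((-1 : ℤ) ^ n) • u = ((-1 : ℤ) ^ n) • v) :
    u = v := by
  have := congrArg (fun z => ((-1 : ℤ) ^ n) • z) h
  simpa [smul_smul, ← mul_pow] using this

end


/-- Let A and G be abelian groups, written additively, f : A → G a map and n ≥ 1. For k ≥ 0 the k-th
deviation of f is the map A^k → G, (y_1, …, y_k) ↦ Σ_{∅ ≠ I ⊆ {1,…,k}} (−1)^{k+|I|} f(Σ_{i ∈ I}
y_i). Then f is pointed of degree n, meaning that its (n+1)-st deviation vanishes identically, if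
and only if its n-th deviation is additive in each variable separately (with the other variables
fixed). -/
theorem result {A : Type u} {G : Type v} [AddCommGroup A] [AddCommGroup G]
    (f : A → G) (n : ℕ) (hn : 1 ≤ n) :
    (∀ x : Fin (n + 1) → A, ∑ I ∈ ((Finset.univ : Finset (Fin (n + 1))).powerset.erase ∅), ((-1 : ℤ) ^ (n + 1 + I.card)) • f (∑ i ∈ I, x i) = 0) ↔
      (∀ (j : Fin n) (y : Fin n → A) (a b : A),
        ∑ I ∈ ((Finset.univ : Finset (Fin n)).powerset.erase ∅), ((-1 : ℤ) ^ (n + I.card)) • f (∑ i ∈ I, (Function.update y j (a + b)) i) =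
          ∑ I ∈ ((Finset.univ : Finset (Fin n)).powerset.erase ∅), ((-1 : ℤ) ^ (n + I.card)) • f (∑ i ∈ I, (Function.update y j a) i) + ∑ I ∈ ((Finset.univ : Finset (Fin n)).powerset.erase ∅), ((-1 : ℤ) ^ (n + I.card)) • f (∑ i ∈ I, (Function.update y j b) i)) := by
  constructor
  · intro H j y a b
    rw [dev_eq, dev_eq, dev_eq, ← smul_add]
    congr 1
    have hx := H (Fin.snoc (Function.update y j a) b)
    rw [dev_eq] at hx
    have hx' : S f Finset.univ (Fin.snoc (Function.update y j a) b : Fin (n + 1) → A) - f 0 = 0 := by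
      apply neg_one_pow_smul_cancel (n + 1)
      rw [hx, smul_zero]
    rw [S_fin_succ f n _ j] at hx'
    have hcomp : ((Fin.snoc (Function.update y j a) b : Fin (n + 1) → A) ∘ Fin.castSucc) =
        Function.update y j a := by
      funext i; simp only [Function.comp_apply, Fin.snoc_castSucc]
    rw [hcomp] at hx'
    simp only [Fin.snoc_last, Fin.snoc_castSucc, Function.update_self, Function.update_idem] at hx'
    have e1 : S f Finset.univ (Function.update y j (a + b)) =
        S f Finset.univ (Function.update y j a) + S f Finset.univ (Function.update y j b) - f 0 := by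
      have := sub_eq_zero.mp hx'
      rw [← this]; abel
    rw [e1]; abel
  · intro H x
    rw [dev_eq]
    let j : Fin n := ⟨0, hn⟩
    have h1 := H j (x ∘ Fin.castSucc) (x j.castSucc) (x (Fin.last n))
    rw [dev_eq, dev_eq, dev_eq, ← smul_add] at h1
    have h2 := neg_one_pow_smul_cancel n h1
    have hupd : Function.update (x ∘ Fin.castSucc) j (x j.castSucc) = x ∘ Fin.castSucc := by
      apply Function.update_eq_self_iff.mpr; rfl
    rw [hupd] at h2
    rw [S_fin_succ f n x j]
    have : S f Finset.univ (x ∘ Fin.castSucc) +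
        S f Finset.univ (Function.update (x ∘ Fin.castSucc) j (x (Fin.last n))) -
        S f Finset.univ (Function.update (x ∘ Fin.castSucc) j (x j.castSucc + x (Fin.last n))) -
        f 0 = 0 := by
      have e2 : S f Finset.univ (Function.update (x ∘ Fin.castSucc) j (x j.castSucc + x (Fin.last n))) =
          S f Finset.univ (x ∘ Fin.castSucc) - f 0 +
          (S f Finset.univ (Function.update (x ∘ Fin.castSucc) j (x (Fin.last n))) - f 0) + f 0 := by
        rw [← h2]; abel
      rw [e2]; abel
    rw [this, smul_zero]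

end Groth.Agent.S14305
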