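import Groth.Statements.S14309
import Mathlib
-- import your own Groth.Agent.* helpers here

set_option autoImplicit false
universe u v w x y
open CAlg

namespace Groth.Agent.S14309

lemma exists_decomp {R : Type*} [CommRing R] {σ : Type*} (P : MvPolynomial (Option σ) R) :
    ∃ (P0 : MvPolynomial σ R) (P1 : MvPolynomial (Option σ) R),
      P = MvPolynomial.rename (Option.some : σ → Option σ) P0 + MvPolynomial.X none * P1 := by
  induction P using MvPolynomial.induction_on with
  | C r => exact ⟨MvPolynomial.C r, 0, by simp⟩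
  | add P Q hP hQ =>
    obtain ⟨P0, P1, hP⟩ := hP
    obtain ⟨Q0, Q1, hQ⟩ := hQ
    refine ⟨P0 + Q0, P1 + Q1, ?_⟩
    rw [hP, hQ, map_add]; ring
  | mul_X P n hP =>
    obtain ⟨P0, P1, hP⟩ := hP
    cases n with
    | none => exact ⟨0, P, by rw [map_zero, zero_add, mul_comm]⟩
    | some s =>
      refine ⟨P0 * MvPolynomial.X s, P1 * MvPolynomial.X (some s), ?_⟩
      rw [hP, map_mul, MvPolynomial.rename_X]; ring

lemma mul_mem_of_mem_span {S : Type*} [CommRing S] (T : Set S) (z : S) (I : Ideal S)
    (h : ∀ s ∈ T, z * s ∈ I) : ∀ x ∈ Ideal.span T, z * x ∈ I := by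
  intro x hx
  induction hx using Submodule.span_induction with
  | mem x hx => exact h x hx
  | zero => simp
  | add x y _ _ hx hy => rw [mul_add]; exact I.add_mem hx hy
  | smul r x _ hx =>
    rw [smul_eq_mul, mul_left_comm]
    exact I.mul_mem_left _ hx

/-- Let R be a commutative ring; A, B, C commutative R-algebras; i : A → B and j : A → C jointly
injective R-algebra maps; c a non-zero-divisor of B; u : C → B/(c) a ring map with u ∘ j equal to i
followed by reduction modulo c; ζ in A with i ζ = c and j ζ = 0; η : R[X_σ, Z] → A an R-algebra map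
with η(Z) = ζ; a : R[Y_τ] → B a surjective R-algebra map; η_Z : R[X_σ, Z] → R[Y_τ] a surjective
R-algebra map with a ∘ η_Z = i ∘ η. Fix c̃ in R[Y_τ] with a(c̃) = c, a family (p_h) generating the
kernel of the composite R[X_σ] → R[X_σ, Z] → A → C, a family (q'_h) generating the kernel of a
together with lifts q_h along η_Z, a family (v_h) generating the kernel of η_Z, and elements g'_h of
R[Y_τ] with η_Z(p_h) + g'_h c̃ in the ideal (q'_h), together with lifts g_h along η_Z. Then the
kernel of η is the ideal generated by the elements Z q_h, Z v_h and p_h + Z g_h. (The published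
statement is for the rings of cycle classes, with coefficients ℤ[1/6], of a smooth quotient stack, a
smooth closed substack whose normal bundle has top Chern class c a non-zero-divisor, and the open
complement; this row states the ring-theoretic content for any such square of commutative rings in
which A embeds in B × C.) -/
theorem result
    {R : Type u} [CommRing R] {A : Type v} {B : Type w} {C : Type x}
    [CommRing A] [CommRing B] [CommRing C] [Algebra R A] [Algebra R B] [Algebra R C]
    (i : A →ₐ[R] B) (j : A →ₐ[R] C)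
    (hinj : ∀ t : A, i t = 0 → j t = 0 → t = 0)
    (c : B) (hc : c ∈ nonZeroDivisors B) (u : C →+* B ⧸ Ideal.span ({c} : Set B))
    (hu : ∀ t : A, u (j t) = Ideal.Quotient.mk (Ideal.span ({c} : Set B)) (i t))
    (ζ : A) (hiζ : i ζ = c) (hjζ : j ζ = 0)
    {σ τ ιp ιq ιv : Type y}
    (η : MvPolynomial (Option σ) R →ₐ[R] A) (hη : η (MvPolynomial.X none) = ζ)
    (a : MvPolynomial τ R →ₐ[R] B) (ha : Function.Surjective a)
    (ηZ : MvPolynomial (Option σ) R →ₐ[R] MvPolynomial τ R)
    (hcomm : ∀ t, a (ηZ t) = i (η t)) (hηZ : Function.Surjective ηZ)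
    (cZ : MvPolynomial τ R) (hcZ : a cZ = c)
    (p : ιp → MvPolynomial σ R)
    (hp : Ideal.span (Set.range p) =
      RingHom.ker ((j.comp η).comp (MvPolynomial.rename (Option.some : σ → Option σ))))
    (q' : ιq → MvPolynomial τ R) (hq' : Ideal.span (Set.range q') = RingHom.ker a)
    (q : ιq → MvPolynomial (Option σ) R) (hq : ∀ h, ηZ (q h) = q' h)
    (v : ιv → MvPolynomial (Option σ) R) (hv : Ideal.span (Set.range v) = RingHom.ker ηZ)
    (g' : ιp → MvPolynomial τ R)
    (hg' : ∀ h, ηZ (MvPolynomial.rename (Option.some : σ → Option σ) (p h)) + g' h * cZ ∈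
      Ideal.span (Set.range q'))
    (g : ιp → MvPolynomial (Option σ) R) (hg : ∀ h, ηZ (g h) = g' h) :
    RingHom.ker η = Ideal.span
      (Set.range (fun h : ιq => MvPolynomial.X none * q h) ∪
        Set.range (fun h : ιv => MvPolynomial.X none * v h) ∪
        Set.range (fun h : ιp =>
          MvPolynomial.rename (Option.some : σ → Option σ) (p h) + MvPolynomial.X none * g h)) := by
  set I : Ideal (MvPolynomial (Option σ) R) := Ideal.span
      (Set.range (fun h : ιq => MvPolynomial.X none * q h) ∪
        Set.range (fun h : ιv => MvPolynomial.X none * v h) ∪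
        Set.range (fun h : ιp =>
          MvPolynomial.rename (Option.some : σ → Option σ) (p h) + MvPolynomial.X none * g h))
    with hI
  -- `η (Z * Q) = 0` as soon as `a (ηZ Q) = 0`
  have hZ : ∀ Q, a (ηZ Q) = 0 → η (MvPolynomial.X none * Q) = 0 := by
    intro Q hQ
    apply hinj
    · rw [map_mul, hη, map_mul, hiζ, ← hcomm, hQ, mul_zero]
    · rw [map_mul, hη, map_mul, hjζ, zero_mul]
  have hle : I ≤ RingHom.ker η := by
    rw [hI, Ideal.span_le]
    rintro _ ((⟨h, rfl⟩ | ⟨h, rfl⟩) | ⟨h, rfl⟩)
    · rw [SetLike.mem_coe, RingHom.mem_ker]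
      apply hZ
      rw [hq]
      have : q' h ∈ RingHom.ker a := hq' ▸ Ideal.subset_span ⟨h, rfl⟩
      exact this
    · rw [SetLike.mem_coe, RingHom.mem_ker]
      apply hZ
      have : v h ∈ RingHom.ker ηZ := hv ▸ Ideal.subset_span ⟨h, rfl⟩
      rw [RingHom.mem_ker] at this
      rw [this, map_zero]
    · rw [SetLike.mem_coe, RingHom.mem_ker]
      apply hinj
      · rw [← hcomm, map_add, map_add, map_mul, map_mul, hg, hcomm (MvPolynomial.X none), hη, hiζ,
          ← hcZ, ← map_mul, ← map_add, mul_comm cZ]
        have : ηZ (MvPolynomial.rename (Option.some : σ → Option σ) (p h)) + g' h * cZ ∈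
            RingHom.ker a := hq' ▸ hg' h
        exact this
      · rw [map_add, map_add, map_mul, map_mul, hη, hjζ, zero_mul, add_zero]
        have : p h ∈ RingHom.ker ((j.comp η).comp
            (MvPolynomial.rename (Option.some : σ → Option σ))) :=
          hp ▸ Ideal.subset_span ⟨h, rfl⟩
        exact this
  refine le_antisymm ?_ hle
  intro P hP
  rw [RingHom.mem_ker] at hP
  obtain ⟨P0, P1, rfl⟩ := exists_decomp P
  -- P0 is in the span of the p's
  have hP0 : P0 ∈ Ideal.span (Set.range p) := by
    rw [hp, RingHom.mem_ker]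
    have := congrArg j hP
    rw [map_add, map_add, map_mul, map_mul, hη, hjζ, zero_mul, add_zero, map_zero] at this
    exact this
  have hG : ∀ P0 ∈ Ideal.span (Set.range p), ∃ G : MvPolynomial (Option σ) R,
      MvPolynomial.rename (Option.some : σ → Option σ) P0 + MvPolynomial.X none * G ∈ I := by
    intro P0 hP0
    induction hP0 using Submodule.span_induction with
    | mem x hx =>
      obtain ⟨h, rfl⟩ := hx
      exact ⟨g h, Ideal.subset_span (Or.inr ⟨h, rfl⟩)⟩
    | zero => exact ⟨0, by simp⟩
    | add x y _ _ hx hy =>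
      obtain ⟨G1, h1⟩ := hx
      obtain ⟨G2, h2⟩ := hy
      refine ⟨G1 + G2, ?_⟩
      have := I.add_mem h1 h2
      rw [map_add]
      convert this using 1
      ring
    | smul r x _ hx =>
      obtain ⟨G1, h1⟩ := hx
      refine ⟨MvPolynomial.rename (Option.some : σ → Option σ) r * G1, ?_⟩
      have := I.mul_mem_left (MvPolynomial.rename (Option.some : σ → Option σ) r) h1
      rw [smul_eq_mul, map_mul]
      convert this using 1
      ring
  obtain ⟨G, hGI⟩ := hG P0 hP0
  -- remaining part `Z * (P1 - G)`
  have hQ : η (MvPolynomial.X none * (P1 - G)) = 0 := by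
    have h1 : η (MvPolynomial.rename (Option.some : σ → Option σ) P0 + MvPolynomial.X none * G) = 0 :=
      hle hGI
    have : MvPolynomial.X none * (P1 - G) =
        (MvPolynomial.rename (Option.some : σ → Option σ) P0 + MvPolynomial.X none * P1) -
        (MvPolynomial.rename (Option.some : σ → Option σ) P0 + MvPolynomial.X none * G) := by ring
    rw [this, map_sub, hP, h1, sub_zero]
  have haQ : a (ηZ (P1 - G)) = 0 := by
    have := congrArg i hQ
    rw [map_mul, hη, map_mul, hiζ, map_zero, ← hcomm] at this
    exact (mul_right_mem_nonZeroDivisors_eq_zero_iff hc).mp (by rwa [mul_comm] at this)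
  have hmem : ηZ (P1 - G) ∈ Ideal.map ηZ (Ideal.span (Set.range q)) := by
    rw [Ideal.map_span]
    have : (ηZ : MvPolynomial (Option σ) R → MvPolynomial τ R) '' Set.range q = Set.range q' := by
      rw [← Set.range_comp]
      congr 1
      funext h
      exact hq h
    have h2 : ηZ (P1 - G) ∈ RingHom.ker a := haQ
    rw [← hq'] at h2
    convert h2 using 2
  rw [Ideal.mem_map_iff_of_surjective _ hηZ] at hmem
  obtain ⟨Q', hQ'mem, hQ'⟩ := hmem
  have hker : (P1 - G) - Q' ∈ Ideal.span (Set.range v) := by
    rw [hv, RingHom.mem_ker, map_sub]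
    have : (ηZ : MvPolynomial (Option σ) R →+* MvPolynomial τ R) Q' = ηZ (P1 - G) := hQ'
    rw [sub_eq_zero]
    exact this.symm
  have h3 : MvPolynomial.X none * Q' ∈ I :=
    mul_mem_of_mem_span _ _ I (fun s hs => by
      obtain ⟨h, rfl⟩ := hs
      exact Ideal.subset_span (Or.inl (Or.inl ⟨h, rfl⟩))) Q' hQ'mem
  have h4 : MvPolynomial.X none * ((P1 - G) - Q') ∈ I :=
    mul_mem_of_mem_span _ _ I (fun s hs => by
      obtain ⟨h, rfl⟩ := hs
      exact Ideal.subset_span (Or.inl (Or.inr ⟨h, rfl⟩))) _ hker
  have : MvPolynomial.rename (Option.some : σ → Option σ) P0 + MvPolynomial.X none * P1 =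
      (MvPolynomial.rename (Option.some : σ → Option σ) P0 + MvPolynomial.X none * G) +
      MvPolynomial.X none * Q' + MvPolynomial.X none * ((P1 - G) - Q') := by ring
  rw [this]
  exact I.add_mem (I.add_mem hGI h3) h4

end Groth.Agent.S14309
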