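import Groth.Statements.S1432
-- import your own Groth.Agent.* helpers here

set_option autoImplicit false
universe u
open FlatMor

namespace Groth.Agent.S1432

open AlgebraicGeometry CategoryTheory Limits in
theorem lift_of_isClosedImmersion {X Y : Scheme.{u}} (f : X ⟶ Y) [IsClosedImmersion f]
    (A B : Type u) [CommRing A] [CommRing B] (φ : A →+* B) (hφ : Function.Injective φ)
    (a : Spec (CommRingCat.of B) ⟶ X) (b : Spec (CommRingCat.of A) ⟶ Y)
    (w : Spec.map (CommRingCat.ofHom φ) ≫ b = a ≫ f) :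
    ∃ l : Spec (CommRingCat.of A) ⟶ X, Spec.map (CommRingCat.ofHom φ) ≫ l = a ∧ l ≫ f = b := by
  let k : Spec (CommRingCat.of B) ⟶ pullback f b := pullback.lift a (Spec.map (CommRingCat.ofHom φ)) w.symm
  have hk : k ≫ pullback.snd f b = Spec.map (CommRingCat.ofHom φ) := pullback.lift_snd _ _ _
  have hinj : Function.Injective (Spec.map (CommRingCat.ofHom φ)).appTop := by
    have h1 := Scheme.ΓSpecIso_naturality (CommRingCat.ofHom φ)
    have h2 : (Spec.map (CommRingCat.ofHom φ)).appTop =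
        (Scheme.ΓSpecIso _).hom ≫ CommRingCat.ofHom φ ≫ (Scheme.ΓSpecIso _).inv := by
      rw [← Category.assoc, ← h1, Category.assoc, Iso.hom_inv_id, Category.comp_id]
    rw [h2]
    simp only [CommRingCat.hom_comp, RingHom.coe_comp]
    exact (ConcreteCategory.bijective_of_isIso (Scheme.ΓSpecIso _).inv).1.comp
      (hφ.comp (ConcreteCategory.bijective_of_isIso (Scheme.ΓSpecIso _).hom).1)
  have : IsIso (pullback.snd f b) := by
    apply IsClosedImmersion.isIso_of_injective_of_isAffine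
    rw [← hk, Scheme.Hom.comp_appTop] at hinj
    exact Function.Injective.of_comp hinj
  refine ⟨inv (pullback.snd f b) ≫ pullback.fst f b, ?_, ?_⟩
  · rw [← hk, Category.assoc, IsIso.hom_inv_id_assoc]
    exact pullback.lift_fst _ _ _
  · rw [Category.assoc, pullback.condition, IsIso.inv_hom_id_assoc]

open AlgebraicGeometry CategoryTheory Limits in
theorem isClosedImmersion_of_lift_of_affine_aux {X : Scheme.{u}} {R : CommRingCat.{u}}
    (f : X ⟶ Spec R) (𝒰 : Scheme.OpenCover.{u} X) [Finite 𝒰.I₀] [∀ i, IsAffine (𝒰.X i)]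
    (H : ∀ (A B : Type u) [CommRing A] [CommRing B] (φ : A →+* B), Function.Injective φ →
      ∀ (a : Spec (CommRingCat.of B) ⟶ X) (b : Spec (CommRingCat.of A) ⟶ Spec R),
        Spec.map (CommRingCat.ofHom φ) ≫ b = a ≫ f →
        ∃ l : Spec (CommRingCat.of A) ⟶ X, Spec.map (CommRingCat.ofHom φ) ≫ l = a ∧ l ≫ f = b) :
    IsClosedImmersion f := by
  let Bi : 𝒰.I₀ → CommRingCat.{u} := fun i => Γ(𝒰.X i, ⊤)
  let B : CommRingCat.{u} := .of (Π i, Bi i)
  -- the canonical map `Spec B ⟶ X`
  let a : Spec B ⟶ X := inv (sigmaSpec Bi) ≫ Sigma.desc (fun i => (𝒰.X i).isoSpec.inv ≫ 𝒰.f i)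
  have ha : ∀ i, Spec.map (CommRingCat.ofHom (Pi.evalRingHom (fun i => Bi i) i)) ≫ a =
      (𝒰.X i).isoSpec.inv ≫ 𝒰.f i := by
    intro i
    rw [← ι_sigmaSpec, Category.assoc, IsIso.hom_inv_id_assoc, Sigma.ι_desc]
  have ha' : ∀ i, (𝒰.f i) = (𝒰.X i).isoSpec.hom ≫
        Spec.map (CommRingCat.ofHom (Pi.evalRingHom (fun i => Bi i) i)) ≫ a := by
    intro i
    rw [ha i, Iso.hom_inv_id_assoc]
  -- global sections of `X` inject into `B`
  have hainj : Function.Injective a.appTop := by
    rw [injective_iff_map_eq_zero]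
    intro s hs
    apply Scheme.zero_of_zero_cover s 𝒰
    intro i
    change (𝒰.f i).appTop s = 0
    rw [ha' i, Scheme.Hom.comp_appTop, Scheme.Hom.comp_appTop]
    simp only [CommRingCat.comp_apply]
    rw [hs, map_zero, map_zero]
  let θ : R ⟶ Γ(X, ⊤) := (Scheme.ΓSpecIso R).inv ≫ f.appTop
  have hθ : X.toSpecΓ ≫ Spec.map θ = f := by
    rw [Spec.map_comp, ← Scheme.toSpecΓ_naturality_assoc, toSpecΓ_SpecMap_ΓSpecIso_inv,
      Category.comp_id]
  let ψ : R ⟶ B := θ ≫ a.appTop ≫ (Scheme.ΓSpecIso B).hom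
  have hψ : Spec.map ψ = a ≫ f := by
    rw [Spec.map_comp, Spec.map_comp, SpecMap_ΓSpecIso_hom, ← Scheme.toSpecΓ_naturality,
      Category.assoc, hθ]
  let I : Ideal R := RingHom.ker ψ.hom
  let φ : R ⧸ I →+* B := RingHom.kerLift ψ.hom
  have hφ : Function.Injective φ := RingHom.kerLift_injective ψ.hom
  let b : Spec (CommRingCat.of (R ⧸ I)) ⟶ Spec R := Spec.map (CommRingCat.ofHom (Ideal.Quotient.mk I))
  have hb : Spec.map (CommRingCat.ofHom φ) ≫ b = a ≫ f := by
    rw [← hψ, ← Spec.map_comp]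
    congr 1
  obtain ⟨l, hl1, hl2⟩ := H _ _ φ hφ a b hb
  have hI : ∀ r ∈ I, θ.hom r = 0 := by
    intro r hr
    apply hainj
    rw [map_zero]
    have h0 : (Scheme.ΓSpecIso B).hom (a.appTop (θ r)) = 0 := hr
    exact (ConcreteCategory.bijective_of_isIso (Scheme.ΓSpecIso B).hom).1 (h0.trans (map_zero _).symm)
  let θ' : CommRingCat.of (R ⧸ I) ⟶ Γ(X, ⊤) := CommRingCat.ofHom (Ideal.Quotient.lift I θ.hom hI)
  let f' : X ⟶ Spec (.of (R ⧸ I)) := X.toSpecΓ ≫ Spec.map θ'
  have hf' : f' ≫ b = f := by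
    rw [Category.assoc, ← Spec.map_comp, ← hθ]
    congr 2
  have : Mono b := inferInstance
  have h1 : l ≫ f' = 𝟙 _ := by
    rw [← cancel_mono b, Category.assoc, hf', hl2, Category.id_comp]
  have h2 : a ≫ f' = Spec.map (CommRingCat.ofHom φ) := by
    rw [← cancel_mono b, Category.assoc, hf', hb]
  have h3 : f' ≫ l = 𝟙 X := by
    apply 𝒰.hom_ext
    intro i
    rw [ha' i]
    simp only [Category.assoc]
    rw [reassoc_of% h2, hl1, Category.comp_id]
  have : IsIso f' := ⟨l, h3, h1⟩
  rw [← hf']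
  infer_instance

open AlgebraicGeometry CategoryTheory Limits in
theorem isClosedImmersion_snd_of_lift {X Y : Scheme.{u}} (f : X ⟶ Y) [QuasiCompact f]
    {R : CommRingCat.{u}} (j : Spec R ⟶ Y)
    (H : ∀ (A B : Type u) [CommRing A] [CommRing B] (φ : A →+* B), Function.Injective φ →
      ∀ (a : Spec (CommRingCat.of B) ⟶ X) (b : Spec (CommRingCat.of A) ⟶ Y),
        Spec.map (CommRingCat.ofHom φ) ≫ b = a ≫ f →
        ∃ l : Spec (CommRingCat.of A) ⟶ X, Spec.map (CommRingCat.ofHom φ) ≫ l = a ∧ l ≫ f = b) :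
    IsClosedImmersion (pullback.snd f j) := by
  have : CompactSpace ↥(pullback f j) :=
    QuasiCompact.compactSpace_of_compactSpace (pullback.snd f j)
  have hA : ∀ k, IsAffine ((pullback f j).affineCover.finiteSubcover.X k) :=
    fun k => inferInstanceAs (IsAffine ((pullback f j).affineCover.X _))
  refine isClosedImmersion_of_lift_of_affine_aux (pullback.snd f j)
    (pullback f j).affineCover.finiteSubcover ?_
  intro A B _ _ φ hφ a b w
  obtain ⟨l, hl1, hl2⟩ := H A B φ hφ (a ≫ pullback.fst _ _) (b ≫ j) (by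
    rw [Category.assoc, pullback.condition, reassoc_of% w])
  refine ⟨pullback.lift l b hl2, ?_, pullback.lift_snd _ _ _⟩
  apply pullback.hom_ext
  · rw [Category.assoc, pullback.lift_fst, hl1]
  · rw [Category.assoc, pullback.lift_snd, w]

open AlgebraicGeometry CategoryTheory Limits in
/-- For a quasi-compact morphism f : X → Y, being a closed immersion is equivalent to the following
lifting property: for each injective ring map A → B and each commutative square with Spec B → X on
top and Spec A → Y at the bottom there is a lift Spec A → X making both triangles commute. -/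
theorem result {X Y : Scheme.{u}} (f : X ⟶ Y) [QuasiCompact f] :
    IsClosedImmersion f ↔ ∀ (A B : Type u) [CommRing A] [CommRing B] (φ : A →+* B), Function.Injective φ →
      ∀ (a : Spec (CommRingCat.of B) ⟶ X) (b : Spec (CommRingCat.of A) ⟶ Y), Spec.map (CommRingCat.ofHom φ) ≫ b = a ≫ f →
        ∃ l : Spec (CommRingCat.of A) ⟶ X, Spec.map (CommRingCat.ofHom φ) ≫ l = a ∧ l ≫ f = b := by
  constructor
  · intro h A B _ _ φ hφ a b w
    exact lift_of_isClosedImmersion f A B φ hφ a b w
  · intro H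
    rw [IsZariskiLocalAtTarget.iff_of_openCover (P := @IsClosedImmersion) Y.affineCover]
    intro i
    exact isClosedImmersion_snd_of_lift f (Y.affineCover.f i) H

end Groth.Agent.S1432
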