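import Groth.Statements.S14330
import Groth.Agent.Lib.Helper10.ExtendAffine
import Groth.Agent.Lib.Helper10.Hartogs
import Groth.Agent.Lib.Helper29.QCohLocFree
import Groth.Agent.Lib.Helper29.SerreA
import Groth.Agent.Lib.Helper17.ZClosLib
import Groth.Agent.S3844

set_option autoImplicit false
universe u
open CategoryTheory CategoryTheory.Limits AlgebraicGeometry Opposite
open GrpSch

namespace Groth.Agent.S14330

section aux
open Groth.Agent.Lib.Helper29.QCoh TopologicalSpace

/-- Depth of a flat module over a local ring is at least the depth of the ring. -/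
theorem depth_le_depth_of_flat_module {R : Type u} [CommRing R] [IsLocalRing R] (M : Type u)
    [AddCommGroup M] [Module R M] [Module.Flat R M] :
    LocCoh.depth R R ≤ LocCoh.depth R M := by
  unfold LocCoh.depth
  rw [← ENat.forall_natCast_le_iff_le]
  intro n hn
  rw [Groth.Agent.Lib.Helper16.Depth.le_idealDepth_iff] at hn ⊢
  rcases hn with h | ⟨rs, hl, hr, hm⟩
  · exfalso
    rw [smul_eq_mul, Ideal.mul_top] at h
    exact (IsLocalRing.maximalIdeal.isMaximal R).ne_top h
  · exact Or.inr ⟨rs, hl, ((TensorProduct.lid R M).isWeaklyRegular_congr rs).mp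
      (hr.isWeaklyRegular_rTensor (M₂ := M)), hm⟩

/-- Affine free case. -/
theorem eq_zero_of_res_eq_zero_of_free {A : Scheme.{u}} (L : A.Modules) [L.IsQuasicoherent]
    (U : A.Opens) (hU : CInt.IsSchematicallyDense U) {T : A.Opens} (hT : IsAffineOpen T)
    [hfree : Module.Free Γ(A, T) Γ(L, T)] (m : Γ(L, T))
    (hm' : res L (inf_le_left : T ⊓ U ≤ T) m = 0) : m = 0 := by
  let b := Module.Free.chooseBasis Γ(A, T) Γ(L, T)
  have hcoord : ∀ i, b.repr m i = 0 := by
    intro i
    apply hU T
    rw [map_zero]
    refine A.sheaf.eq_of_locally_eq'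
      (fun c : {c : Γ(A, T) // A.basicOpen c ≤ T ⊓ U} => A.basicOpen c.1) (T ⊓ U)
      (fun c => homOfLE c.2) ?_ _ 0 ?_
    · intro x hx
      obtain ⟨c, hcT, hxc⟩ := hT.exists_basicOpen_le (V := T ⊓ U) ⟨x, hx⟩ hx.1
      exact Opens.mem_iSup.mpr ⟨⟨c, hcT⟩, hxc⟩
    · rintro ⟨c, hc⟩
      refine Eq.trans ?_ (map_zero _).symm
      have h0 : res L (A.basicOpen_le c) m = 0 := by
        rw [← res_res L (inf_le_left : T ⊓ U ≤ T) hc, hm', map_zero]
      obtain ⟨k, hk⟩ := exists_pow_smul_eq_zero L hT c m h0
      have h1 : c ^ k * b.repr m i = 0 := by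
        have := congrArg (fun v => b.repr v i) hk
        simp only [map_smul, Finsupp.smul_apply, smul_eq_mul, map_zero, Finsupp.zero_apply] at this
        exact this
      have hs : IsUnit (A.presheaf.map (homOfLE (A.basicOpen_le c)).op c) :=
        RingedSpace.isUnit_res_basicOpen _ c
      have h2 := congrArg (A.presheaf.map (homOfLE (A.basicOpen_le c)).op) h1
      rw [map_mul, map_pow, map_zero] at h2
      have h3 : A.presheaf.map (homOfLE (A.basicOpen_le c)).op (b.repr m i) = 0 :=
        ((hs.pow k).mul_right_eq_zero).mp h2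
      exact (map_map_apply A (inf_le_left : T ⊓ U ≤ T) hc (b.repr m i)).trans h3
  have : b.repr m = 0 := by
    ext i
    exact hcoord i
  exact (b.repr.map_eq_zero_iff).mp this

/-- Injectivity of restriction for a finite locally free module along a schematically dense open. -/
theorem injective_res_of_isFinLocFree {A : Scheme.{u}} (L : A.Modules)
    (hflf : FlatMod.IsFinLocFree L) (U : A.Opens) (hU : CInt.IsSchematicallyDense U)
    (O : A.Opens) :
    Function.Injective (res L (inf_le_left : O ⊓ U ≤ O)) := by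
  have hq : L.IsQuasicoherent := isQuasicoherent_of_isFinLocFree hflf
  have hfp : L.IsFinitePresentation := isFinitePresentation_of_isFinLocFree hflf
  let B : Set A.Opens := {T | IsAffineOpen T ∧ Module.Free Γ(A, T) Γ(L, T)}
  have hB : ∀ (O : A.Opens) (x : A), x ∈ O → ∃ T ∈ B, x ∈ T ∧ T ≤ O := by
    intro O x hx
    obtain ⟨V', hV', hxV', hV'O⟩ := exists_isAffineOpen_mem_and_subset (x := x) (U := O) hx
    have := free_stalk_of_isFinLocFree hflf x
    obtain ⟨r, hxr, hfree, -⟩ := exists_basicOpen_free_sections L hV' x hxV'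
    exact ⟨A.basicOpen r, ⟨hV'.basicOpen r, hfree⟩, hxr, (A.basicOpen_le r).trans hV'O⟩
  refine Groth.Agent.Lib.Helper17.SheafBasis.injective_of_basis
    (Groth.Agent.Lib.Helper17.ZClosLib.abSheaf L) B U hB ?_ O
  rintro T ⟨hT, hfree⟩
  rw [injective_iff_map_eq_zero]
  intro m hm
  exact eq_zero_of_res_eq_zero_of_free L U hU hT m hm

end aux

/-- Let S be a locally Noetherian scheme, f : A → S a smooth morphism, L an invertible O_A-module and V
an open subscheme of S; for an open W of S consider the restriction of sections of L from f⁻¹(W) to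
f⁻¹(W) ∩ f⁻¹(V), that is the component over W of the natural map f_*L → j_*j^*(f_*L), j : V → S the
inclusion. If V is schematically dense in S, all these restrictions are injective. If V is a big
open of S, meaning that the local ring of S at every point outside V has depth at least 2, all these
restrictions are bijective. (The published statement is for a semi-stable group scheme A; its proof
uses only the smoothness of A over S and the local freeness of L, which are the hypotheses kept
here.) -/
theorem result {S A : Scheme.{u}} [IsLocallyNoetherian S]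
    (f : A ⟶ S) [Smooth f] (L : A.Modules) (hL : PicF.IsInvertible L) (V : S.Opens) :
    (CInt.IsSchematicallyDense V →
      ∀ W : S.Opens, Function.Injective (L.val.map (homOfLE (inf_le_left : f ⁻¹ᵁ W ⊓ f ⁻¹ᵁ V ≤ f ⁻¹ᵁ W)).op)) ∧
    ((∀ x : S, x ∉ V → 2 ≤ LocCoh.depth (S.presheaf.stalk x) (S.presheaf.stalk x)) →
      ∀ W : S.Opens, Function.Bijective (L.val.map (homOfLE (inf_le_left : f ⁻¹ᵁ W ⊓ f ⁻¹ᵁ V ≤ f ⁻¹ᵁ W)).op)) := by
  have hLN : AlgebraicGeometry.IsLocallyNoetherian A :=
    AlgebraicGeometry.LocallyOfFiniteType.isLocallyNoetherian f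
  have hflf : FlatMod.IsFinLocFree L :=
    Groth.Agent.Lib.Helper29.QCoh.isFinLocFree_of_isFinLocFreeOfRank
      ((Groth.Agent.Lib.Helper29.QCoh.isInvertible_iff_isFinLocFreeOfRank_one L).mp hL)
  have hq : L.IsQuasicoherent := Groth.Agent.Lib.Helper29.QCoh.isQuasicoherent_of_isFinLocFree hflf
  have hfp : L.IsFinitePresentation :=
    Groth.Agent.Lib.Helper29.QCoh.isFinitePresentation_of_isFinLocFree hflf
  have hft : L.IsFiniteType := Groth.Agent.Lib.Helper29.QCoh.isFiniteType_of_isInvertible hL
  constructor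
  · intro hV W
    exact injective_res_of_isFinLocFree L hflf (f ⁻¹ᵁ V) (Groth.Agent.S3844.result f V hV) (f ⁻¹ᵁ W)
  · intro hdepth W
    have hd : ∀ a : A, a ∉ (f ⁻¹ᵁ V) →
        (2 : ℕ∞) ≤ LocCoh.depth (A.presheaf.stalk a) (L.presheaf.stalk a) := by
      intro a ha
      have hfree := Groth.Agent.Lib.Helper29.QCoh.free_stalk_of_isFinLocFree hflf a
      have h1 : (2 : ℕ∞) ≤ LocCoh.depth (S.presheaf.stalk (f a)) (S.presheaf.stalk (f a)) :=
        hdepth (f a) ha
      have h2 := Groth.Agent.Lib.Helper10.ExtendAffine.depth_stalk_le_of_flat f a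
      have h3 := depth_le_depth_of_flat_module (R := A.presheaf.stalk a) (L.presheaf.stalk a)
      exact h1.trans (h2.trans h3)
    exact Groth.Agent.Lib.Helper10.Hartogs.res_bijective L (f ⁻¹ᵁ V)
      (Groth.Agent.Lib.Helper10.Hartogs.locDepthTwo_of_stalk_depth L _ hd) (f ⁻¹ᵁ W)

end Groth.Agent.S14330
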