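import Groth.Statements.S14336
import Mathlib
import Groth.Agent.Lib.Helper9.FibreDim

set_option autoImplicit false
universe u
open CAlg

namespace Groth.Agent.S14336

open Groth.Agent.Lib.Helper9.FibreDim


/-- Let B be a Noetherian ring, K and K' finitely generated flat B-modules and φ : K → K' a B-linear
map; for a prime y of B write κ(y) for its residue field and φ_y for the base change κ(y) ⊗ K → κ(y)
⊗ K'. Then the function y ↦ dim_{κ(y)} Im(φ_y) on Spec B is lower semicontinuous. -/
theorem result (B : Type u) [CommRing B] [IsNoetherianRing B] (K K' : Type u) [AddCommGroup K] [Module B K] [Module.Finite B K] [Module.Flat B K] [AddCommGroup K'] [Module B K'] [Module.Finite B K'] [Module.Flat B K'] (φ : K →ₗ[B] K') : LowerSemicontinuous (fun y : PrimeSpectrum B => Module.finrank y.asIdeal.ResidueField ↥(LinearMap.range (φ.baseChange y.asIdeal.ResidueField))) := by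
  intro x y hxy
  have hK := fibreDim_eventually_eq (A := B) K' x
  have hC := fibreDim_eventually_le (A := B) (K' ⧸ LinearMap.range φ) x
  filter_upwards [hK, hC] with x' h1 h2
  have e1 := finrank_range_baseChange_add x.asIdeal.ResidueField φ
  have e2 := finrank_range_baseChange_add x'.asIdeal.ResidueField φ
  unfold fibreDim at h1 h2
  simp only at hxy ⊢
  omega

end Groth.Agent.S14336
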