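import Groth.Statements.S14338
import Mathlib
import Groth.Agent.Lib.Helper9.FibreDim

set_option autoImplicit false
universe u
open CAlg

namespace Groth.Agent.S14338

open Groth.Agent.Lib.Helper9.FibreDim


/-- Let B be a Noetherian ring, K and K' finitely generated flat B-modules and φ : K → K' a B-linear
map; for a prime y of B write κ(y) for its residue field and φ_y for the base change κ(y) ⊗ K → κ(y)
⊗ K'. Assume B is reduced and the number dim_{κ(y)} Im(φ_y) is the same for all primes y of B. Then
the cokernel K'/Im φ and the image Im φ are projective (locally free) B-modules. -/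
theorem result (B : Type u) [CommRing B] [IsNoetherianRing B] (K K' : Type u) [AddCommGroup K] [Module B K] [Module.Finite B K] [Module.Flat B K] [AddCommGroup K'] [Module B K'] [Module.Finite B K'] [Module.Flat B K'] (φ : K →ₗ[B] K') [IsReduced B] (hconst : ∃ c : ℕ, ∀ y : PrimeSpectrum B, Module.finrank y.asIdeal.ResidueField ↥(LinearMap.range (φ.baseChange y.asIdeal.ResidueField)) = c) : Module.Projective B (K' ⧸ LinearMap.range φ) ∧ Module.Projective B ↥(LinearMap.range φ) := by
  obtain ⟨c, hc⟩ := hconst
  have hfp : Module.FinitePresentation B (K' ⧸ LinearMap.range φ) :=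
    Module.finitePresentation_of_finite B _
  have hloc : ∀ x : PrimeSpectrum B, ∀ᶠ x' in nhds x,
      fibreDim (K' ⧸ LinearMap.range φ) x' = fibreDim (K' ⧸ LinearMap.range φ) x := by
    intro x
    filter_upwards [fibreDim_eventually_eq (A := B) K' x] with x' h1
    have e1 := finrank_range_baseChange_add x.asIdeal.ResidueField φ
    have e2 := finrank_range_baseChange_add x'.asIdeal.ResidueField φ
    rw [hc] at e1 e2
    unfold fibreDim at h1 ⊢
    omega
  have hC : Module.Projective B (K' ⧸ LinearMap.range φ) :=
    projective_of_fibreDim_locallyConstant _ hloc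
  refine ⟨hC, ?_⟩
  have hfpK : Module.FinitePresentation B K' := Module.finitePresentation_of_finite B K'
  have hK' : Module.Projective B K' := Module.Flat.projective_of_finitePresentation
  obtain ⟨σ, hσ⟩ := Module.projective_lifting_property (LinearMap.range φ).mkQ LinearMap.id
    (Submodule.mkQ_surjective _)
  let r0 : K' →ₗ[B] K' := LinearMap.id - σ.comp (LinearMap.range φ).mkQ
  have hr0 : ∀ k, r0 k ∈ LinearMap.range φ := by
    intro k
    rw [← Submodule.Quotient.mk_eq_zero, ← Submodule.mkQ_apply]
    change (LinearMap.range φ).mkQ (k - σ ((LinearMap.range φ).mkQ k)) = 0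
    rw [map_sub, ← LinearMap.comp_apply, hσ, LinearMap.id_apply, sub_self]
  let r : K' →ₗ[B] ↥(LinearMap.range φ) := LinearMap.codRestrict _ r0 hr0
  refine Module.Projective.of_split (LinearMap.range φ).subtype r ?_
  ext x
  change ((x : K') - σ ((LinearMap.range φ).mkQ (x : K'))) = x
  rw [Submodule.mkQ_apply, (Submodule.Quotient.mk_eq_zero _).mpr x.2, map_zero, sub_zero]

end Groth.Agent.S14338
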