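import Groth.Statements.S14345
import Groth.Agent.Helper19.FittLib5
-- import your own Groth.Agent.* helpers here

set_option autoImplicit false
universe u v
open TensorProduct
open QuotLF

namespace Groth.Agent.S14345

open Groth.Agent.Helper19.FittLib

section helpers

variable {A : Type u} [CommRing A]

lemma eq_bot_of_localized_atPrime (J : Ideal A)
    (h : ∀ (p : Ideal A) [p.IsPrime], J.map (algebraMap A (Localization.AtPrime p)) = ⊥) :
    J = ⊥ := by
  rw [eq_bot_iff]
  intro b hb
  rw [Ideal.mem_bot]
  by_contra hb0
  have hann : (Ideal.span {b}).annihilator ≠ ⊤ := by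
    intro htop
    apply hb0
    have : (1 : A) ∈ (Ideal.span {b}).annihilator := by rw [htop]; trivial
    rw [Submodule.mem_annihilator_span_singleton] at this
    simpa using this
  obtain ⟨p, hpmax, hp⟩ := Ideal.exists_le_maximal _ hann
  have := hpmax.isPrime
  have h0 : algebraMap A (Localization.AtPrime p) b = 0 := by
    have : algebraMap A (Localization.AtPrime p) b ∈
        J.map (algebraMap A (Localization.AtPrime p)) := Ideal.mem_map_of_mem _ hb
    rwa [h p, Ideal.mem_bot] at this
  rw [IsLocalization.map_eq_zero_iff p.primeCompl] at h0
  obtain ⟨⟨u, hu⟩, hub⟩ := h0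
  apply hu
  apply hp
  rw [Submodule.mem_annihilator_span_singleton]
  exact hub

/-- Fitting ideals below the rank vanish for finite projective modules of constant rank. -/
lemma ideal_eq_bot_of_rankAtStalk {Q : Type v} [AddCommGroup Q] [Module A Q] [Module.Finite A Q]
    [Module.Projective A Q] (k : ℕ) (hrk : ∀ p, Module.rankAtStalk (R := A) Q p = k)
    (j : ℕ) (hj : j < k) : Fitt.ideal A Q j = ⊥ := by
  apply eq_bot_of_localized_atPrime
  intro p _
  rw [← ideal_localized p.primeCompl j]
  have : Module.Free (Localization.AtPrime p) (LocalizedModule p.primeCompl Q) :=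
    Module.free_of_flat_of_isLocalRing
  have hb := ideal_of_basis
    (Module.finBasis (Localization.AtPrime p) (LocalizedModule p.primeCompl Q)) j
  have hk : Module.finrank (Localization.AtPrime p) (LocalizedModule p.primeCompl Q) = k :=
    hrk ⟨p, inferInstance⟩
  rw [hk, if_neg (by omega)] at hb
  exact hb

end helpers

/-- Let R be a commutative ring, M a finitely generated R-module and k ≥ 0. If for an R-algebra A the
module A ⊗_R M admits a quotient that is finite projective of constant rank k (an A-valued point of
the Quot scheme of rank-k locally free quotients of M), then every Fitting ideal Fit_j(M) with j < k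
extends to the zero ideal of A; that is, the structure map of the Quot scheme of rank-k locally free
quotients factors through the closed subscheme cut out by Fit_{k-1}(M). -/
theorem result (R : Type u) [CommRing R]
    (M : Type v) [AddCommGroup M] [Module R M] [Module.Finite R M] (k : ℕ)
    (A : Type u) [CommRing A] [Algebra R A] (N : Module.Grassmannian A (A ⊗[R] M) k)
    (j : ℕ) (hj : j < k) :
    (Fitt.ideal R M j).map (algebraMap R A) = ⊥ := by
  rw [← ideal_baseChange A j, eq_bot_iff,
    ← ideal_eq_bot_of_rankAtStalk (Q := (A ⊗[R] M) ⧸ N.toSubmodule) k N.rankAtStalk_eq j hj]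
  exact ideal_le_of_surjective' (Submodule.mkQ N.toSubmodule) (Submodule.mkQ_surjective _) j

end Groth.Agent.S14345
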