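import Groth.Statements.S14346
import Mathlib
-- import your own Groth.Agent.* helpers here

set_option autoImplicit false
universe u v
open TensorProduct
open QuotLF

namespace Groth.Agent.S14346

/-- Let R be a commutative ring, M an R-module, k ≥ 0, and A an R-algebra for which A ⊗_R M is finite
projective of constant rank k, i.e. Spec A → Spec R factors through the locally closed stratum where
M is locally free of rank k. Then A ⊗_R M has exactly one rank-k locally free quotient: the zero
submodule has finite projective quotient of constant rank k, and every submodule with such a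
quotient is zero. In other words the Quot scheme of rank-k locally free quotients of M restricted to
that stratum maps isomorphically onto it. -/
theorem result (R : Type u) [CommRing R]
    (M : Type v) [AddCommGroup M] [Module R M] (k : ℕ)
    (A : Type u) [CommRing A] [Algebra R A] [Module.Finite A (A ⊗[R] M)] [Module.Projective A (A ⊗[R] M)]
    (hk : ∀ p : PrimeSpectrum A, Module.rankAtStalk (R := A) (A ⊗[R] M) p = k) :
    (∃ N : Module.Grassmannian A (A ⊗[R] M) k, N.toSubmodule = ⊥) ∧
      ∀ N : Module.Grassmannian A (A ⊗[R] M) k, N.toSubmodule = ⊥ := by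
  constructor
  · let e : ((A ⊗[R] M) ⧸ (⊥ : Submodule A (A ⊗[R] M))) ≃ₗ[A] (A ⊗[R] M) :=
      Submodule.quotEquivOfEqBot ⊥ rfl
    refine ⟨⟨⊥, Module.Finite.equiv e.symm, Module.Projective.of_equiv e.symm, ?_⟩, rfl⟩
    intro p
    rw [Module.rankAtStalk_eq_of_equiv e]
    exact hk p
  · intro N
    obtain ⟨s, hs⟩ := Module.projective_lifting_property N.toSubmodule.mkQ LinearMap.id
      (Submodule.mkQ_surjective _)
    have hs' : ∀ q, N.toSubmodule.mkQ (s q) = q := fun q => by
      simpa using congrArg (fun g => g q) hs
    let φ : (N.toSubmodule × ((A ⊗[R] M) ⧸ N.toSubmodule)) →ₗ[A] (A ⊗[R] M) :=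
      N.toSubmodule.subtype.coprod s
    have hφ : Function.Bijective φ := by
      constructor
      · rw [injective_iff_map_eq_zero]
        rintro ⟨n, q⟩ h
        have h' : (n : A ⊗[R] M) + s q = 0 := by simpa [φ] using h
        have hq : q = 0 := by
          have := congrArg N.toSubmodule.mkQ h'
          rw [map_add, hs', map_zero] at this
          have hn : N.toSubmodule.mkQ (n : A ⊗[R] M) = 0 := by
            simp
          rwa [hn, zero_add] at this
        subst hq
        have hn : (n : A ⊗[R] M) = 0 := by simpa using h'
        ext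
        · simpa using hn
        · rfl
      · intro x
        have hx : x - s (N.toSubmodule.mkQ x) ∈ N.toSubmodule := by
          rw [← Submodule.Quotient.mk_eq_zero, ← Submodule.mkQ_apply, map_sub, hs', sub_self]
        refine ⟨(⟨_, hx⟩, N.toSubmodule.mkQ x), ?_⟩
        simp [φ]
    let e : (N.toSubmodule × ((A ⊗[R] M) ⧸ N.toSubmodule)) ≃ₗ[A] (A ⊗[R] M) :=
      LinearEquiv.ofBijective φ hφ
    have : Module.Finite A (N.toSubmodule × ((A ⊗[R] M) ⧸ N.toSubmodule)) :=
      Module.Finite.equiv e.symm
    have : Module.Projective A (N.toSubmodule × ((A ⊗[R] M) ⧸ N.toSubmodule)) :=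
      Module.Projective.of_equiv e.symm
    have : Module.Finite A N.toSubmodule :=
      Module.Finite.of_surjective
        (LinearMap.fst A N.toSubmodule ((A ⊗[R] M) ⧸ N.toSubmodule)) LinearMap.fst_surjective
    have : Module.Projective A N.toSubmodule :=
      Module.Projective.of_split
        (LinearMap.inl A N.toSubmodule ((A ⊗[R] M) ⧸ N.toSubmodule))
        (LinearMap.fst A N.toSubmodule ((A ⊗[R] M) ⧸ N.toSubmodule)) (by ext; simp)
    have hrank : Module.rankAtStalk (R := A) N.toSubmodule = 0 := by
      ext p
      have h0 : Module.rankAtStalk (R := A) (N.toSubmodule × ((A ⊗[R] M) ⧸ N.toSubmodule)) =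
          Module.rankAtStalk (R := A) (A ⊗[R] M) := Module.rankAtStalk_eq_of_equiv e
      have h1 := congrArg (fun g => g p) h0
      have h2 := congrArg (fun g => g p)
        (Module.rankAtStalk_prod (R := A) N.toSubmodule ((A ⊗[R] M) ⧸ N.toSubmodule))
      simp only [Pi.add_apply] at h1 h2
      rw [h2, hk p, N.rankAtStalk_eq p] at h1
      simpa using h1
    have hsub : Subsingleton N.toSubmodule := Module.rankAtStalk_eq_zero_iff_subsingleton.mp hrank
    exact Submodule.subsingleton_iff_eq_bot.mp hsub

end Groth.Agent.S14346
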