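import Groth.Statements.S14347
import Groth.Agent.Helper19.FittLib6
-- import your own Groth.Agent.* helpers here

set_option autoImplicit false
universe u
open QuotLF

namespace Groth.Agent.S14347

open Groth.Agent.Helper19.FittLib

/-- Let R be a commutative ring and σ : R^m → R^n an injective linear map with cokernel M, so that M has
a length-one resolution by finite free modules and rank δ = n − m; let K be the cokernel of the dual
map (R^n)^∨ → (R^m)^∨, which is the module Ext¹_R(M, R). Then the Fitting ideals satisfy Fit_{δ +
j}(M) = Fit_j(K) for all j ≥ 0, and Fit_i(M) = 0 for i < δ (the degeneracy loci of M and of K agree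
after the shift by δ). -/
theorem result (R : Type u) [CommRing R] (m n : ℕ)
    (σ : (Fin m → R) →ₗ[R] (Fin n → R)) (hσ : Function.Injective σ) :
    (∀ j : ℕ, Fitt.ideal R ((Fin n → R) ⧸ LinearMap.range σ) (n - m + j) =
        Fitt.ideal R (Module.Dual R (Fin m → R) ⧸ LinearMap.range σ.dualMap) j) ∧
      ∀ i : ℕ, i < n - m → Fitt.ideal R ((Fin n → R) ⧸ LinearMap.range σ) i = ⊥ := by
  constructor
  · intro j
    rcases subsingleton_or_nontrivial R with hR | hR
    · refine Ideal.ext fun a => ?_
      rw [Subsingleton.elim a 0]
      simp
    · have hmn : m ≤ n := le_of_fin_injective R σ hσ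
      rw [ideal_coker, ideal_dualCoker, show n - (n - m + j) = m - j by omega]
  · intro i hi
    rw [ideal_coker]
    exact detIdeal_eq_bot_of_card_lt_right _ (by rw [Fintype.card_fin]; omega)

end Groth.Agent.S14347
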