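import Groth.Statements.S14351
import Mathlib
-- import your own Groth.Agent.* helpers here

set_option autoImplicit false
universe u
open CAlg

namespace Groth.Agent.S14351

/-- For ring maps A → B → C with C faithfully flat over B and C faithfully flat over A, the ring B is
faithfully flat over A. -/
theorem result (A B C : Type u) [CommRing A] [CommRing B]
    [CommRing C] [Algebra A B] [Algebra B C] [Algebra A C] [IsScalarTower A B C]
    [Module.FaithfullyFlat B C] [Module.FaithfullyFlat A C] : Module.FaithfullyFlat A B := by
  have hflat : Module.Flat A B := by
    rw [Module.Flat.iff_lTensor_preserves_injective_linearMap]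
    intro N P _ _ _ _ f hf
    have h1 : Function.Injective (f.baseChange B) := by
      rw [← Module.FaithfullyFlat.lTensor_injective_iff_injective B C]
      have hC : Function.Injective (f.baseChange C) :=
        Module.Flat.lTensor_preserves_injective_linearMap (M := C) f hf
      have key : ∀ z, (TensorProduct.AlgebraTensorModule.cancelBaseChange A B C C P)
            (LinearMap.lTensor C (f.baseChange B) z) =
          (f.baseChange C) ((TensorProduct.AlgebraTensorModule.cancelBaseChange A B C C N) z) := by
        intro z
        induction z using TensorProduct.induction_on with
        | zero => simp
        | add x y hx hy => simp only [map_add, hx, hy]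
        | tmul c w =>
          induction w using TensorProduct.induction_on with
          | zero => simp
          | add x y hx hy => simp only [TensorProduct.tmul_add, map_add, hx, hy]
          | tmul b n => simp
      intro z w hzw
      apply (TensorProduct.AlgebraTensorModule.cancelBaseChange A B C C N).injective
      apply hC
      rw [← key, ← key, hzw]
    exact h1
  apply Module.FaithfullyFlat.of_comap_surjective
  intro p
  obtain ⟨q, hq⟩ := PrimeSpectrum.comap_surjective_of_faithfullyFlat (A := A) (B := C) p
  refine ⟨PrimeSpectrum.comap (algebraMap B C) q, ?_⟩
  rw [← hq]
  ext x
  simp [PrimeSpectrum.comap_asIdeal, Ideal.mem_comap, IsScalarTower.algebraMap_apply A B C]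

end Groth.Agent.S14351
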