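import Groth.Statements.S14354
-- import your own Groth.Agent.* helpers here
import Mathlib
import Groth.Agent.Lib.Helper17.LM4
import Groth.Agent.Lib.Helper12.LT5

set_option autoImplicit false
universe u
open CategoryTheory CategoryTheory.Limits AlgebraicGeometry Opposite
open Coh

namespace Groth.Agent.S14354

/-- Let X be a locally Noetherian scheme and (G_e)_{e ∈ ℕ} an inverse system of coherent O_X-modules
satisfying the Mittag-Leffler condition, in the sense that for every e the image subobject of G_d ⟶
G_e is the same for all sufficiently large d. Then for every e the support of the image of the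
canonical map lim_d G_d ⟶ G_e is closed in X. (The published statement is the case where G_e is the
i-th cohomology sheaf of the Fourier–Mukai transform of the e-th member of a Mittag-Leffler inverse
system of coherent modules on an abelian variety; the argument uses only the coherence of the G_e
and their Mittag-Leffler condition, which is the form stated here.) -/
theorem result (X : Scheme.{u}) [IsLocallyNoetherian X]
    (G : ℕᵒᵖ ⥤ X.Modules) (hG : ∀ n : ℕᵒᵖ, Coh.IsCoh (G.obj n))
    (hML : ∀ e : ℕ, ∃ (d : ℕ) (hd : e ≤ d), ∀ (d' : ℕ) (hd' : d ≤ d'),
      imageSubobject (G.map (homOfLE (hd.trans hd')).op) = imageSubobject (G.map (homOfLE hd).op))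
    (e : ℕ) : IsClosed (CohB1.support (image (limit.π G (op e)))) := by
  obtain ⟨Fn, tn, rfl⟩ : ∃ (Fn : ℕ → X.Modules) (tn : ∀ n, Fn (n + 1) ⟶ Fn n),
      G = Functor.ofOpSequence tn := ⟨_, _, Groth.Agent.Lib.Helper17.LM4.eq_ofOpSequence G⟩
  choose dd hdd hst using hML
  exact Groth.Agent.Lib.Helper12.H12LT.isClosed_support_image_prG tn (fun n => (hG (op n)).1) dd hdd
    (fun e d' hd' => hst e d' hd') (fun n => (hG (op n)).2) e

end Groth.Agent.S14354
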