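import Groth.Statements.S14355
import Mathlib

set_option autoImplicit false
universe v u
open CategoryTheory CategoryTheory.Limits
open SpSeqMor

namespace Groth.Agent.S14355
section Aux

variable {C : Type u} [Category.{v} C] [Abelian C] {r₀ : ℤ}

lemma isZero_page_succ (E : CohomologicalSpectralSequence C r₀) (pq : ℤ × ℤ) (r : ℤ) (hr : r₀ ≤ r)
    (h : IsZero ((E.page r hr).X pq)) : IsZero ((E.page (r + 1) (by lia)).X pq) := by
  have h1 : IsZero ((E.page r hr).homology pq) :=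
    (HomologicalComplex.ExactAt.of_isZero h).isZero_homology
  exact h1.of_iso (E.iso r (r + 1) pq rfl hr).symm

lemma isZero_page_of_le (E : CohomologicalSpectralSequence C r₀) (pq : ℤ × ℤ) (r : ℤ) (hr : r₀ ≤ r)
    (h : IsZero ((E.page r hr).X pq)) (r' : ℤ) (hr' : r ≤ r') :
    IsZero ((E.page r' (hr.trans hr')).X pq) := by
  induction r', hr' using Int.le_induction with
  | base => exact h
  | succ n hn ih => exact isZero_page_succ E pq n (hr.trans hn) ih

lemma homologyMap_eq_zero_of_f_eq_zero {ι : Type*} {c : ComplexShape ι}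
    {K L : HomologicalComplex C c} (ψ : K ⟶ L) (i : ι) (h : ψ.f i = 0) :
    HomologicalComplex.homologyMap ψ i = 0 := by
  have h1 : HomologicalComplex.cyclesMap ψ i = 0 := by
    rw [← cancel_mono (L.iCycles i), HomologicalComplex.cyclesMap_i, h, comp_zero, zero_comp]
  rw [← cancel_epi (K.homologyπ i), HomologicalComplex.homologyπ_naturality, h1, zero_comp,
    comp_zero]

lemma hom_f_eq_zero_succ {E E' : CohomologicalSpectralSequence C r₀} (φ : E ⟶ E') (pq : ℤ × ℤ)
    (r : ℤ) (hr : r₀ ≤ r) (h : (φ.hom r hr).f pq = 0) :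
    (φ.hom (r + 1) (by lia)).f pq = 0 := by
  have h1 := φ.comm r (r + 1) pq rfl hr
  rw [homologyMap_eq_zero_of_f_eq_zero _ _ h, zero_comp] at h1
  rw [← cancel_epi (E.iso r (r + 1) pq rfl hr).hom, ← h1, comp_zero]

lemma hom_f_eq_zero_of_le {E E' : CohomologicalSpectralSequence C r₀} (φ : E ⟶ E') (pq : ℤ × ℤ)
    (r : ℤ) (hr : r₀ ≤ r) (h : (φ.hom r hr).f pq = 0) (r' : ℤ) (hr' : r ≤ r') :
    (φ.hom r' (hr.trans hr')).f pq = 0 := by
  induction r', hr' using Int.le_induction with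
  | base => exact h
  | succ n hn ih => exact hom_f_eq_zero_succ φ pq n (hr.trans hn) ih

lemma eq_of_isZero_grPiece {X : C} (F : ℤ → Subobject X) (hF : Antitone F) (p : ℤ)
    (h : IsZero (SpSeq.grPiece F hF p)) : F (p + 1) = F p := by
  apply le_antisymm (hF (Int.le_add_one le_rfl))
  have hepi : Epi ((F (p + 1)).ofLE (F p) (hF (Int.le_add_one le_rfl))) :=
    Preadditive.epi_of_isZero_cokernel _ h
  have : IsIso ((F (p + 1)).ofLE (F p) (hF (Int.le_add_one le_rfl))) :=
    isIso_of_mono_of_epi _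
  refine Subobject.le_of_comm (inv ((F (p + 1)).ofLE (F p) (hF (Int.le_add_one le_rfl)))) ?_
  rw [IsIso.inv_comp_eq, Subobject.ofLE_arrow]

lemma fil_eq_of_le {X : C} (F : ℤ → Subobject X) (hF : Antitone F) (a₀ : ℤ)
    (h : ∀ i, i < a₀ → IsZero (SpSeq.grPiece F hF i)) (n : ℕ) : F (a₀ - n) = F a₀ := by
  induction n with
  | zero => simp
  | succ n ih =>
    have := eq_of_isZero_grPiece F hF (a₀ - (n + 1 : ℕ)) (h _ (by push_cast; lia))
    rw [← ih, ← this]
    congr 1
    push_cast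
    ring

lemma fil_eq_of_ge {X : C} (F : ℤ → Subobject X) (hF : Antitone F) (a₀ : ℤ)
    (h : ∀ i, a₀ ≤ i → IsZero (SpSeq.grPiece F hF i)) (n : ℕ) : F (a₀ + n) = F a₀ := by
  induction n with
  | zero => simp
  | succ n ih =>
    have := eq_of_isZero_grPiece F hF (a₀ + n) (h _ (by lia))
    rw [← ih, ← this]
    congr 1
    push_cast
    ring

lemma fil_eq_top {X : C} (F : ℤ → Subobject X) (hF : Antitone F) (a₀ : ℤ)
    (h : ∀ i, i < a₀ → IsZero (SpSeq.grPiece F hF i)) (hfin : ∃ a, F a = ⊤) : F a₀ = ⊤ := by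
  obtain ⟨a, ha⟩ := hfin
  rcases le_total a a₀ with h1 | h1
  · obtain ⟨n, hn⟩ := Int.le.dest h1
    have := fil_eq_of_le F hF a₀ h n
    rw [← this, show a₀ - (n : ℤ) = a by lia, ha]
  · exact top_le_iff.mp (ha ▸ hF h1)

lemma fil_eq_bot {X : C} (F : ℤ → Subobject X) (hF : Antitone F) (a₀ : ℤ)
    (h : ∀ i, a₀ ≤ i → IsZero (SpSeq.grPiece F hF i)) (hfin : ∃ b, F b = ⊥) : F a₀ = ⊥ := by
  obtain ⟨b, hb⟩ := hfin
  rcases le_total a₀ b with h1 | h1
  · obtain ⟨n, hn⟩ := Int.le.dest h1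
    have := fil_eq_of_ge F hF a₀ h n
    rw [← this, hn, hb]
  · exact le_bot_iff.mp (hb ▸ hF h1)

lemma isZero_grPiece {E : CohomologicalSpectralSequence C r₀} {H : ℤ → C}
    (a : SpSeq.Abutment E H) (pq : ℤ × ℤ) (n : ℤ) (hn : pq.1 + pq.2 = n)
    (h : IsZero ((E.page r₀ le_rfl).X pq)) :
    IsZero (SpSeq.grPiece (a.fil n) (a.anti n) pq.1) := by
  subst hn
  exact (isZero_page_of_le E pq r₀ le_rfl h (a.rk pq) (a.stat pq).1).of_iso (a.β pq).symm

lemma gr_eq_zero {E E' : CohomologicalSpectralSequence C r₀} {H H' : ℤ → C} (φ : E ⟶ E')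
    (a : SpSeq.Abutment E H) (a' : SpSeq.Abutment E' H') (f : SpSeqMor.AbutHom φ a a')
    (pq : ℤ × ℤ) (n : ℤ) (hn : pq.1 + pq.2 = n)
    (h : (φ.hom r₀ le_rfl).f pq = 0) : (f.fil n).gr pq.1 = 0 := by
  subst hn
  obtain ⟨k, hk⟩ := Int.le.dest (le_max_left (a.rk pq) (a'.rk pq))
  obtain ⟨k', hk'⟩ := Int.le.dest (le_max_right (a.rk pq) (a'.rk pq))
  have hc := f.comm pq k k' (hk.trans hk'.symm)
  rw [hom_f_eq_zero_of_le φ pq r₀ le_rfl h _ (page_le (a'.stat pq).1 k')] at hc
  simp only [zero_comp, comp_zero] at hc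
  exact (Iso.cancel_iso_hom_left (a.β pq) _ _).mp (hc.trans comp_zero.symm)

lemma filLift_hom_eq_zero {K L : SpSeq.FilObj C} (f : FilLift K L) (p : ℤ) (htop : K.fil p = ⊤)
    (hbot : L.fil (p + 1) = ⊥) (hgr : f.gr p = 0) : f.hom = 0 := by
  have hz : IsZero (L.step (p + 1)) := by
    change IsZero ((L.fil (p + 1) : C))
    rw [hbot]
    exact (isZero_zero C).of_iso Subobject.botCoeIsoZero
  have hπ : Mono (cokernel.π (L.stepLE (Int.le_add_one (le_refl p)))) :=
    (ShortComplex.exact_cokernel (L.stepLE (Int.le_add_one (le_refl p)))).mono_g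
      (hz.eq_of_src _ _)
  have h1 : cokernel.π (K.stepLE (Int.le_add_one (le_refl p))) ≫ f.gr p =
      f.lift p ≫ cokernel.π (L.stepLE (Int.le_add_one (le_refl p))) := by
    unfold FilLift.gr
    exact cokernel.π_desc _ _ _
  have hlift : f.lift p = 0 := by
    rw [← cancel_mono (cokernel.π (L.stepLE (Int.le_add_one (le_refl p)))), ← h1, zero_comp, hgr]
    exact comp_zero
  have h2 := f.lift_arrow p
  rw [hlift, zero_comp] at h2
  have hiso : IsIso (K.fil p).arrow := by
    rw [htop]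
    infer_instance
  rw [← cancel_epi (K.fil p).arrow, ← h2, comp_zero]

end Aux


/-- Let φ : E ⟶ E' be a morphism of E_2-cohomological spectral sequences in an abelian category, with
abutments H and H' whose filtrations are finite in each degree, and f a morphism of abutment data
over φ. Fix integers l and a₀. If E_2^{i, l-i} = 0 for i < a₀, E'_2^{i, l-i} = 0 for i > a₀ and
φ_2^{a₀, l-a₀} = 0, then f^l : H^l ⟶ H'^l is zero. (The published statement prints the two vanishing
hypotheses at positions (i, l); the argument works on the line of total degree l, at positions (i, l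
- i), which is the form stated here.) -/
theorem result (C : Type u) [Category.{v} C] [Abelian C]
    (E E' : E₂CohomologicalSpectralSequence C) (φ : E ⟶ E') (H H' : ℤ → C)
    (a : SpSeq.Abutment E H) (a' : SpSeq.Abutment E' H')
    (ha : ∀ n : ℤ, a.IsFinite n) (ha' : ∀ n : ℤ, a'.IsFinite n)
    (f : SpSeqMor.AbutHom φ a a') (l a₀ : ℤ)
    (hE : ∀ i : ℤ, i < a₀ → IsZero ((E.page 2 le_rfl).X (i, l - i)))
    (hE' : ∀ i : ℤ, a₀ < i → IsZero ((E'.page 2 le_rfl).X (i, l - i)))
    (hφ : (φ.hom 2 le_rfl).f (a₀, l - a₀) = 0) :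
    f.hom l = 0 := by
  classical
  have htop : a.fil l a₀ = ⊤ := by
    apply fil_eq_top (a.fil l) (a.anti l) a₀ _ (ha l).1
    intro i hi
    exact isZero_grPiece a (i, l - i) l (by simp) (hE i hi)
  have hbot : a'.fil l (a₀ + 1) = ⊥ := by
    apply fil_eq_bot (a'.fil l) (a'.anti l) (a₀ + 1) _ (ha' l).2
    intro i hi
    exact isZero_grPiece a' (i, l - i) l (by simp) (hE' i (by lia))
  have hgr : (f.fil l).gr a₀ = 0 := gr_eq_zero φ a a' f (a₀, l - a₀) l (by simp) hφ
  exact filLift_hom_eq_zero (f.fil l) a₀ htop hbot hgr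

end Groth.Agent.S14355
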