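import Groth.Statements.S14363
import Mathlib
-- import your own Groth.Agent.* helpers here

set_option autoImplicit false
universe u
open CAlg

namespace Groth.Agent.S14363

/-- Let A be a Noetherian ring and 0 → M' → M → M'' → 0 a short exact sequence of A-modules. If a prime
p of A is an associated prime of M'' and is not in the support of M', then p is an associated prime
of M. -/
theorem result (A : Type u) [CommRing A] [IsNoetherianRing A]
    (M' M M'' : Type u) [AddCommGroup M'] [Module A M'] [AddCommGroup M] [Module A M]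
    [AddCommGroup M''] [Module A M'']
    (f : M' →ₗ[A] M) (g : M →ₗ[A] M'') (hf : Function.Injective f) (hg : Function.Surjective g)
    (hfg : Function.Exact f g)
    (p : PrimeSpectrum A) (hp : p.asIdeal ∈ associatedPrimes A M'') (hsupp : p ∉ Module.support A M') :
    p.asIdeal ∈ associatedPrimes A M := by
  classical
  rw [AssociatedPrimes.mem_iff, isAssociatedPrime_iff] at hp ⊢
  obtain ⟨hprime, m'', hm''⟩ := hp
  obtain ⟨m, rfl⟩ := hg m''
  rw [Module.notMem_support_iff'] at hsupp
  -- each element of `p` kills `m` up to an element outside `p`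
  have h1 : ∀ a ∈ p.asIdeal, ∃ r ∉ p.asIdeal, (r * a) • m = 0 := by
    intro a ha
    have ha' : a • g m = 0 := by
      rw [hm'', Submodule.mem_colon_singleton, Submodule.mem_bot] at ha
      exact ha
    rw [← map_smul] at ha'
    obtain ⟨m', hm'⟩ := (hfg (a • m)).mp ha'
    obtain ⟨r, hr, hrm⟩ := hsupp m'
    refine ⟨r, hr, ?_⟩
    rw [mul_smul, ← hm', ← map_smul, hrm, map_zero]
  obtain ⟨S, hS⟩ := (isNoetherianRing_iff_ideal_fg A).mp inferInstance p.asIdeal
  have h2 : ∀ T : Finset A, (∀ a ∈ T, a ∈ p.asIdeal) →
      ∃ s ∉ p.asIdeal, ∀ a ∈ T, (s * a) • m = 0 := by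
    intro T
    induction T using Finset.induction_on with
    | empty => exact fun _ => ⟨1, p.asIdeal.one_notMem, by simp⟩
    | insert b T hb ih =>
      intro hT
      obtain ⟨s, hs, hsT⟩ := ih (fun a ha => hT a (Finset.mem_insert_of_mem ha))
      obtain ⟨r, hr, hrb⟩ := h1 b (hT b (Finset.mem_insert_self _ _))
      refine ⟨s * r, fun h => (hprime.mem_or_mem h).elim hs hr, ?_⟩
      intro a ha
      rcases Finset.mem_insert.mp ha with rfl | ha
      · rw [mul_assoc, mul_smul, hrb, smul_zero]
      · rw [mul_comm s r, mul_assoc, mul_smul, hsT a ha, smul_zero]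
  obtain ⟨s, hs, hsS⟩ := h2 S (fun a ha => hS ▸ Ideal.subset_span ha)
  refine ⟨hprime, s • m, le_antisymm ?_ ?_⟩
  · rw [← hS, Ideal.span_le]
    intro a ha
    simp only [SetLike.mem_coe, Submodule.mem_colon_singleton, Submodule.mem_bot]
    rw [smul_smul, mul_comm]
    exact hsS a ha
  · intro b hb
    rw [Submodule.mem_colon_singleton, Submodule.mem_bot] at hb
    have : (b * s) • g m = 0 := by
      rw [← map_smul, mul_smul, hb, map_zero]
    have hbs : b * s ∈ p.asIdeal := by
      rw [hm'', Submodule.mem_colon_singleton, Submodule.mem_bot]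
      exact this
    exact (hprime.mem_or_mem hbs).resolve_right hs

end Groth.Agent.S14363
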