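import Groth.Statements.S14378
import Groth.Agent.Lib.Helper21.IrrFib3
import Groth.Agent.Lib.Helper21.FibDim8
-- import your own Groth.Agent.* helpers here

set_option autoImplicit false
universe u
open CategoryTheory CategoryTheory.Limits AlgebraicGeometry
open Variety

namespace Groth.Agent.S14378

/-- Let k be an algebraically closed field, X and Y schemes of finite type over k with Y irreducible,
and f : X → Y a k-morphism such that for some natural number d the fibre of f over every closed
point of Y (the subspace of points mapping to it) is irreducible of dimension d. Then (i) exactly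
one irreducible component of X has dense image in Y, and (ii) each irreducible component Z of X is
made up of whole fibres — if Z meets the fibre over a closed point then it contains it — and dim Z =
d + dim f(Z)‾, the dimension of the closure of its image. (The published assertions are for
varieties, i.e. reduced separated schemes; this row assumes neither.) -/
theorem result (k : Type u) [Field k] [IsAlgClosed k]
    {X Y : Scheme.{u}} (qX : X ⟶ Spec (CommRingCat.of k)) (qY : Y ⟶ Spec (CommRingCat.of k))
    [LocallyOfFiniteType qX] [QuasiCompact qX] [LocallyOfFiniteType qY] [QuasiCompact qY]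
    (f : X ⟶ Y) (hf : f ≫ qY = qX) [IrreducibleSpace ↥Y] (d : ℕ)
    (hirr : ∀ y : ↥Y, IsClosed ({y} : Set ↥Y) → IsIrreducible (f.base ⁻¹' {y}))
    (hdim : ∀ y : ↥Y, IsClosed ({y} : Set ↥Y) → topologicalKrullDim ↥(f.base ⁻¹' {y}) = d) :
    (∃! Z : Set ↥X, Z ∈ irreducibleComponents ↥X ∧ Dense (f.base '' Z)) ∧
      ∀ Z ∈ irreducibleComponents ↥X,
        (∀ y : ↥Y, IsClosed ({y} : Set ↥Y) → (f.base ⁻¹' {y} ∩ Z).Nonempty → f.base ⁻¹' {y} ⊆ Z) ∧
        topologicalKrullDim ↥Z = d + topologicalKrullDim ↥(closure (f.base '' Z)) := by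
  let _ : X.Over (Spec (CommRingCat.of k)) := ⟨qX⟩
  let _ : Y.Over (Spec (CommRingCat.of k)) := ⟨qY⟩
  have hlX : LocallyOfFiniteType (X ↘ Spec (CommRingCat.of k)) := ‹LocallyOfFiniteType qX›
  have hlY : LocallyOfFiniteType (Y ↘ Spec (CommRingCat.of k)) := ‹LocallyOfFiniteType qY›
  have hf' : f ≫ (Y ↘ Spec (CommRingCat.of k)) = X ↘ Spec (CommRingCat.of k) := hf
  have hft : LocallyOfFiniteType f := by
    have h0 : LocallyOfFiniteType (f ≫ qY) := by rw [hf]; infer_instance
    exact locallyOfFiniteType_of_comp f qY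
  have : CompactSpace X := QuasiCompact.compactSpace_of_compactSpace qX
  have : IsLocallyNoetherian X := LocallyOfFiniteType.isLocallyNoetherian qX
  have : IsNoetherian X := {}
  have : CompactSpace Y := QuasiCompact.compactSpace_of_compactSpace qY
  have : IsLocallyNoetherian Y := LocallyOfFiniteType.isLocallyNoetherian qY
  have : IsNoetherian Y := {}
  have : JacobsonSpace Y := LocallyOfFiniteType.jacobsonSpace qY
  -- generic points of components
  have hgen : ∀ Z ∈ irreducibleComponents ↥X, ∃ ξ : X, (∀ ξ' : X, ξ' ⤳ ξ → ξ' = ξ) ∧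
      closure ({ξ} : Set X) = Z := by
    intro Z hZ
    obtain ⟨ξ, hξ⟩ :=
      Groth.Agent.Lib.Helper21.FibDim.exists_isGenericPoint_of_mem_irreducibleComponents Z hZ
    exact ⟨ξ, fun ξ' h =>
      Groth.Agent.Lib.Helper21.FibDim.eq_of_specializes_isGenericPoint Z hZ ξ ξ' hξ h, hξ.def⟩
  refine ⟨?_, ?_⟩
  · obtain ⟨ξ₀, hmax₀, hξ₀⟩ :=
      Groth.Agent.Lib.Helper21.IrrFib.exists_maximal_over_generic f hirr
    refine ⟨closure {ξ₀}, ⟨?_, ?_⟩, ?_⟩
    · exact Groth.Agent.Lib.Helper21.FibDim.closure_mem_irreducibleComponents_of_maximal ξ₀ hmax₀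
    · rw [dense_iff_closure_eq, ← Set.univ_subset_iff, ← (genericPoint_spec Y).def, ← hξ₀]
      exact closure_mono (Set.singleton_subset_iff.mpr ⟨ξ₀, subset_closure rfl, rfl⟩)
    · rintro Z ⟨hZ, hZd⟩
      obtain ⟨ξ, hmax, rfl⟩ := hgen Z hZ
      have hξ : f ξ = genericPoint Y := by
        have h1 : closure (f.base '' closure ({ξ} : Set X)) = closure ({f ξ} : Set Y) := by
          apply subset_antisymm
          · refine closure_minimal ?_ isClosed_closure
            refine (image_closure_subset_closure_image f.continuous).trans ?_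
            rw [Set.image_singleton]
          · exact closure_mono (Set.singleton_subset_iff.mpr ⟨ξ, subset_closure rfl, rfl⟩)
        have h2 : IsGenericPoint (f ξ) (Set.univ : Set Y) := by
          rw [isGenericPoint_def, ← h1]
          exact hZd.closure_eq
        exact h2.eq (genericPoint_spec Y)
      rw [Groth.Agent.Lib.Helper21.IrrFib.eq_of_maximal_over_generic f d hirr hdim ξ ξ₀ hmax hmax₀
        hξ hξ₀]
  · intro Z hZ
    obtain ⟨ξ, hmax, rfl⟩ := hgen Z hZ
    refine ⟨?_, ?_⟩
    · rintro y hy ⟨x, hxy, hxZ⟩ x' hx'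
      have hxy' : f x = y := hxy
      have hx'y : f x' = y := hx'
      rw [← specializes_iff_mem_closure]
      exact Groth.Agent.Lib.Helper21.IrrFib.specializes_of_maximal f d hirr hdim ξ hmax x
        (by rw [hxy']; exact hy) (specializes_iff_mem_closure.mpr hxZ) x' (hx'y.trans hxy'.symm)
    · exact Groth.Agent.Lib.Helper21.IrrFib.topologicalKrullDim_closure_eq_add k X Y f hf' ξ d
        (Groth.Agent.Lib.Helper21.IrrFib.trdeg_eq_of_maximal f d hirr hdim ξ hmax)

end Groth.Agent.S14378
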