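import Groth.Statements.S14369
import Groth.Agent.S14378
-- import your own Groth.Agent.* helpers here

set_option autoImplicit false
universe u
open CategoryTheory CategoryTheory.Limits AlgebraicGeometry
open Variety

namespace Groth.Agent.S14369

/-- Let k be an algebraically closed field, X and Y schemes of finite type over k with Y irreducible,
and f : X → Y a k-morphism whose underlying continuous map is closed. Suppose that for some natural
number d the fibre of f over every closed point y of Y (the subspace of points mapping to y) is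
irreducible of dimension d. Then X is irreducible and dim X = d + dim Y. (The published statement is
for varieties, i.e. reduced separated schemes; this row assumes neither.) -/
theorem result (k : Type u) [Field k] [IsAlgClosed k]
    {X Y : Scheme.{u}} (qX : X ⟶ Spec (CommRingCat.of k)) (qY : Y ⟶ Spec (CommRingCat.of k))
    [LocallyOfFiniteType qX] [QuasiCompact qX] [LocallyOfFiniteType qY] [QuasiCompact qY]
    (f : X ⟶ Y) (hf : f ≫ qY = qX) [IrreducibleSpace ↥Y] (hcl : IsClosedMap f.base) (d : ℕ)
    (hirr : ∀ y : ↥Y, IsClosed ({y} : Set ↥Y) → IsIrreducible (f.base ⁻¹' {y}))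
    (hdim : ∀ y : ↥Y, IsClosed ({y} : Set ↥Y) → topologicalKrullDim ↥(f.base ⁻¹' {y}) = d) :
    IrreducibleSpace ↥X ∧ topologicalKrullDim ↥X = d + topologicalKrullDim ↥Y := by
  have hft : LocallyOfFiniteType f := by
    have h0 : LocallyOfFiniteType (f ≫ qY) := by rw [hf]; infer_instance
    exact locallyOfFiniteType_of_comp f qY
  have : JacobsonSpace Y := LocallyOfFiniteType.jacobsonSpace qY
  have : JacobsonSpace X := LocallyOfFiniteType.jacobsonSpace qX
  obtain ⟨⟨Z₀, ⟨hZ₀, hZ₀d⟩, -⟩, hall⟩ := Groth.Agent.S14378.result k qX qY f hf d hirr hdim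
  have hZ₀cl : IsClosed Z₀ := isClosed_of_mem_irreducibleComponents Z₀ hZ₀
  have himg : f.base '' Z₀ = Set.univ := by
    rw [← (hcl Z₀ hZ₀cl).closure_eq]
    exact hZ₀d.closure_eq
  obtain ⟨hwhole, hdimZ₀⟩ := hall Z₀ hZ₀
  have hZ₀univ : Z₀ = Set.univ := by
    rw [← Set.univ_subset_iff, ← closure_closedPoints]
    refine closure_minimal ?_ hZ₀cl
    intro x hx
    have hy : IsClosed ({f x} : Set Y) := f.closePoints_subset_preimage_closedPoints hx
    have hmem : f x ∈ f.base '' Z₀ := by rw [himg]; exact Set.mem_univ _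
    obtain ⟨x', hx'Z, hx'⟩ := hmem
    exact hwhole (f x) hy ⟨x', hx', hx'Z⟩ rfl
  refine ⟨?_, ?_⟩
  · rw [irreducibleSpace_def]
    have := hZ₀.1
    rwa [hZ₀univ] at this
  · rw [himg, closure_univ] at hdimZ₀
    have h1 : topologicalKrullDim ↥Z₀ = topologicalKrullDim ↥X := by
      rw [hZ₀univ]
      exact (Homeomorph.Set.univ X).isHomeomorph.topologicalKrullDim_eq
    have h2 : topologicalKrullDim ↥(Set.univ : Set Y) = topologicalKrullDim ↥Y :=
      (Homeomorph.Set.univ Y).isHomeomorph.topologicalKrullDim_eq
    rw [← h1, hdimZ₀, h2]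

end Groth.Agent.S14369
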