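import Groth.Statements.S14370
import Groth.Agent.S14378
import Groth.Agent.Lib.Helper21.FibDim7
-- import your own Groth.Agent.* helpers here

set_option autoImplicit false
universe u
open CategoryTheory CategoryTheory.Limits AlgebraicGeometry
open Variety

namespace Groth.Agent.S14370

/-- Let k be an algebraically closed field, X and Y schemes of finite type over k with Y irreducible,
and f : X → Y a k-morphism. Suppose that X is pure-dimensional (every irreducible component of X has
dimension dim X) and that for some natural number d the fibre of f over every closed point y of Y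
(the subspace of points mapping to y) is irreducible of dimension d. Then X is irreducible and dim X
= d + dim Y. (The published statement is for varieties, i.e. reduced separated schemes; this row
assumes neither.) -/
theorem result (k : Type u) [Field k] [IsAlgClosed k]
    {X Y : Scheme.{u}} (qX : X ⟶ Spec (CommRingCat.of k)) (qY : Y ⟶ Spec (CommRingCat.of k))
    [LocallyOfFiniteType qX] [QuasiCompact qX] [LocallyOfFiniteType qY] [QuasiCompact qY]
    (f : X ⟶ Y) (hf : f ≫ qY = qX) [IrreducibleSpace ↥Y]
    (hpure : ∀ Z ∈ irreducibleComponents (↥X), topologicalKrullDim ↥Z = topologicalKrullDim ↥X) (d : ℕ)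
    (hirr : ∀ y : ↥Y, IsClosed ({y} : Set ↥Y) → IsIrreducible (f.base ⁻¹' {y}))
    (hdim : ∀ y : ↥Y, IsClosed ({y} : Set ↥Y) → topologicalKrullDim ↥(f.base ⁻¹' {y}) = d) :
    IrreducibleSpace ↥X ∧ topologicalKrullDim ↥X = d + topologicalKrullDim ↥Y := by
  let _ : X.Over (Spec (CommRingCat.of k)) := ⟨qX⟩
  let _ : Y.Over (Spec (CommRingCat.of k)) := ⟨qY⟩
  have hlX : LocallyOfFiniteType (X ↘ Spec (CommRingCat.of k)) := ‹LocallyOfFiniteType qX›
  have hlY : LocallyOfFiniteType (Y ↘ Spec (CommRingCat.of k)) := ‹LocallyOfFiniteType qY›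
  have hft : LocallyOfFiniteType f := by
    have h0 : LocallyOfFiniteType (f ≫ qY) := by rw [hf]; infer_instance
    exact locallyOfFiniteType_of_comp f qY
  have : IsLocallyNoetherian Y := LocallyOfFiniteType.isLocallyNoetherian qY
  have : IsLocallyNoetherian X := LocallyOfFiniteType.isLocallyNoetherian qX
  obtain ⟨⟨Z₀, ⟨hZ₀, hZ₀d⟩, huniq⟩, hall⟩ := Groth.Agent.S14378.result k qX qY f hf d hirr hdim
  have hZ₀cl : IsClosed Z₀ := isClosed_of_mem_irreducibleComponents Z₀ hZ₀
  obtain ⟨-, hdimZ₀⟩ := hall Z₀ hZ₀
  rw [hZ₀d.closure_eq] at hdimZ₀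
  have h2 : topologicalKrullDim ↥(Set.univ : Set Y) = topologicalKrullDim ↥Y :=
    (Homeomorph.Set.univ Y).isHomeomorph.topologicalKrullDim_eq
  rw [h2] at hdimZ₀
  -- the dimension of `Y`
  obtain ⟨b, hb⟩ := Groth.Agent.Lib.Helper21.FibDim.exists_nat_trdeg k Y (genericPoint Y)
  have hdY := Groth.Agent.Lib.Helper21.FibDim.topologicalKrullDim_closure_singleton k Y
    (genericPoint Y) b hb
  rw [(genericPoint_spec Y).def, h2] at hdY
  -- every component dominates
  have hdom : ∀ Z ∈ irreducibleComponents ↥X, Z = Z₀ := by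
    intro Z hZ
    refine huniq Z ⟨hZ, ?_⟩
    obtain ⟨-, hdimZ⟩ := hall Z hZ
    obtain ⟨ξ, hξ⟩ :=
      Groth.Agent.Lib.Helper21.FibDim.exists_isGenericPoint_of_mem_irreducibleComponents Z hZ
    have h1 : closure (f.base '' Z) = closure ({f ξ} : Set Y) := by
      rw [← hξ.def]
      apply subset_antisymm
      · refine closure_minimal ?_ isClosed_closure
        refine (image_closure_subset_closure_image f.continuous).trans ?_
        rw [Set.image_singleton]
      · exact closure_mono (Set.singleton_subset_iff.mpr ⟨ξ, subset_closure rfl, rfl⟩)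
    obtain ⟨b', hb'⟩ := Groth.Agent.Lib.Helper21.FibDim.exists_nat_trdeg k Y (f ξ)
    have hdY' := Groth.Agent.Lib.Helper21.FibDim.topologicalKrullDim_closure_singleton k Y
      (f ξ) b' hb'
    rw [h1, hdY', hpure Z hZ, ← hpure Z₀ hZ₀, hdimZ₀, hdY] at hdimZ
    have hbb : b = b' := by
      have : ((d + b : ℕ) : WithBot ℕ∞) = ((d + b' : ℕ) : WithBot ℕ∞) := by
        push_cast; exact hdimZ
      have : d + b = d + b' := by exact_mod_cast this
      omega
    have hfξ : f ξ = genericPoint Y := by
      by_contra hne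
      have := Groth.Agent.Lib.Helper21.FibDim.trdeg_lt_of_specializes k Y (genericPoint Y) (f ξ)
        (genericPoint_specializes _) (Ne.symm hne) b b' hb hb'
      omega
    rw [dense_iff_closure_eq, h1, hfξ]
    exact (genericPoint_spec Y).def
  have hZ₀univ : Z₀ = Set.univ := by
    rw [← Set.univ_subset_iff]
    intro x _
    rw [← hdom _ (irreducibleComponent_mem_irreducibleComponents x)]
    exact mem_irreducibleComponent
  refine ⟨?_, ?_⟩
  · rw [irreducibleSpace_def]
    have := hZ₀.1
    rwa [hZ₀univ] at this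
  · have h1 : topologicalKrullDim ↥Z₀ = topologicalKrullDim ↥X := by
      rw [hZ₀univ]
      exact (Homeomorph.Set.univ X).isHomeomorph.topologicalKrullDim_eq
    rw [← h1, hdimZ₀]

end Groth.Agent.S14370
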