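import Groth.Statements.S14371
import Groth.Agent.Lib.Helper21.RegularQuotient
import Groth.Agent.Lib.Helper21.RegularLocal

set_option autoImplicit false
universe u
open CAlg

namespace Groth.Agent.S14371

open IsLocalRing

lemma spanFinrank_span_range_le {R M : Type*} [Semiring R] [AddCommMonoid M] [Module R M]
    {ι : Type*} [Fintype ι] (f : ι → M) :
    (Submodule.span R (Set.range f)).spanFinrank ≤ Fintype.card ι := by
  classical
  refine le_trans (Submodule.spanFinrank_span_le_ncard_of_finite (Set.finite_range f)) ?_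
  rw [← Set.image_univ, ← Finset.coe_univ, ← Finset.coe_image, Set.ncard_coe_finset,
    ← Finset.card_univ]
  exact Finset.card_image_le

lemma dim_le_sub {R : Type u} [CommRing R] [IsLocalRing R] [IsNoetherianRing R] (n c : ℕ)
    (hc : c ≤ n) (x : Fin n → R) (hx : Ideal.span (Set.range x) = maximalIdeal R) (I : Ideal R)
    (hI : I = Ideal.span (Set.range (fun i : Fin c => x (Fin.castLE hc i))))
    [IsLocalRing (R ⧸ I)] : ringKrullDim (R ⧸ I) ≤ ((n - c : ℕ) : WithBot ℕ∞) := by
  let y : Fin (n - c) → R ⧸ I := fun i => Ideal.Quotient.mk I (x ⟨c + i, by omega⟩)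
  have hmax : maximalIdeal (R ⧸ I) = Ideal.span (Set.range y) := by
    rw [Groth.Agent.Lib.Helper21.maximalIdeal_quotient_eq_map, ← hx, Ideal.map_span]
    apply le_antisymm
    · rw [Ideal.span_le]
      rintro _ ⟨_, ⟨i, rfl⟩, rfl⟩
      by_cases hi : i.val < c
      · have : x i ∈ I := by
          rw [hI]
          exact Ideal.subset_span ⟨⟨i, hi⟩, rfl⟩
        rw [Ideal.Quotient.eq_zero_iff_mem.mpr this]
        exact zero_mem _
      · refine Ideal.subset_span ⟨⟨i - c, by omega⟩, ?_⟩
        simp only [y]
        congr 2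
        apply Fin.ext
        simp only
        omega
    · apply Ideal.span_mono
      rintro _ ⟨i, rfl⟩
      exact ⟨_, ⟨_, rfl⟩, rfl⟩
  calc ringKrullDim (R ⧸ I) ≤ (maximalIdeal (R ⧸ I)).spanFinrank :=
        ringKrullDim_le_spanFinrank_maximalIdeal _
    _ ≤ ((n - c : ℕ) : WithBot ℕ∞) := by
        rw [hmax]
        have h := spanFinrank_span_range_le (R := R ⧸ I) y
        rw [Fintype.card_fin] at h
        have h' : (Ideal.span (Set.range y)).spanFinrank ≤ n - c := h
        exact_mod_cast h'

/-- Let R be a regular local ring of dimension n with maximal ideal m and residue field κ, and I, J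
ideals of R such that R/I and R/J are regular local rings of dimensions a and b (two subvarieties
smooth at the point). Suppose the quotient R/(I + J) is local with cotangent space m/(m² + I + J) of
dimension a + b − n over κ (the tangent spaces of the two subvarieties meet in the expected
dimension, i.e. they intersect transversally at the point). Then R/(I + J) is a regular local ring
of dimension a + b − n; in particular I + J is a prime ideal. (The published statement is about the
local rings of a smooth variety over an algebraically closed field at a point where two smooth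
closed subvarieties meet transversally, and also states the resulting equalities of tangent spaces
and of ideals; this row is the local-ring form, for an arbitrary regular local ring.) -/
theorem result {R : Type u} [CommRing R] [IsRegularLocalRing R]
    (I J : Ideal R) [IsRegularLocalRing (R ⧸ I)] [IsRegularLocalRing (R ⧸ J)] [IsLocalRing (R ⧸ (I ⊔ J))]
    (n a b : ℕ) (hn : ringKrullDim R = n) (ha : ringKrullDim (R ⧸ I) = a) (hb : ringKrullDim (R ⧸ J) = b)
    (ht : Module.finrank (IsLocalRing.ResidueField (R ⧸ (I ⊔ J))) (IsLocalRing.CotangentSpace (R ⧸ (I ⊔ J))) + n = a + b) :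
    IsRegularLocalRing (R ⧸ (I ⊔ J)) ∧ ringKrullDim (R ⧸ (I ⊔ J)) = ((a + b - n : ℕ) : WithBot ℕ∞) := by
  obtain ⟨x, c, hc, hx, hI⟩ :=
    Groth.Agent.Lib.Helper21.exists_generators_of_regular_quotient R n hn I
  obtain ⟨y, c', hc', hy, hJ⟩ :=
    Groth.Agent.Lib.Helper21.exists_generators_of_regular_quotient R n hn J
  have h1 := dim_le_sub n c hc x hx I hI
  rw [ha] at h1
  have h1' : a + c ≤ n := by
    have : a ≤ n - c := by exact_mod_cast h1
    omega
  have h2 := dim_le_sub n c' hc' y hy J hJ
  rw [hb] at h2
  have h2' : b + c' ≤ n := by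
    have : b ≤ n - c' := by exact_mod_cast h2
    omega
  have hIJ : I ⊔ J = Ideal.span (Set.range (Sum.elim (fun i : Fin c => x (Fin.castLE hc i))
      (fun i : Fin c' => y (Fin.castLE hc' i)))) := by
    rw [Set.Sum.elim_range, Ideal.span_union, ← hI, ← hJ]
  have hsf : (I ⊔ J).spanFinrank ≤ c + c' := by
    rw [hIJ]
    exact (spanFinrank_span_range_le _).trans (by simp)
  have hne : I ⊔ J ≠ ⊤ := by
    intro h
    have : Subsingleton (R ⧸ (I ⊔ J)) := Ideal.Quotient.subsingleton_iff.mpr h
    exact not_subsingleton _ this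
  have hjac : I ⊔ J ≤ Ring.jacobson R := by
    rw [IsLocalRing.ringJacobson_eq_maximalIdeal]
    exact le_maximalIdeal hne
  have h3 := ringKrullDim_le_ringKrullDim_quotient_add_spanFinrank (I ⊔ J) hjac
  obtain ⟨δ, hδ⟩ := Groth.Agent.Lib.Helper21.exists_nat_eq_ringKrullDim (R := R ⧸ (I ⊔ J))
  rw [hn, hδ] at h3
  have h3' : n ≤ δ + (I ⊔ J).spanFinrank := by exact_mod_cast h3
  have h4 := ringKrullDim_le_spanFinrank_maximalIdeal (R ⧸ (I ⊔ J))
  rw [spanFinrank_maximalIdeal_eq_finrank_cotangentSpace, hδ] at h4
  have h4' : δ ≤ Module.finrank (IsLocalRing.ResidueField (R ⧸ (I ⊔ J)))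
      (IsLocalRing.CotangentSpace (R ⧸ (I ⊔ J))) := by exact_mod_cast h4
  have hδe : δ = a + b - n := by omega
  refine ⟨IsRegularLocalRing.of_spanFinrank_maximalIdeal_le _ ?_, ?_⟩
  · rw [spanFinrank_maximalIdeal_eq_finrank_cotangentSpace, hδ]
    have : Module.finrank (IsLocalRing.ResidueField (R ⧸ (I ⊔ J)))
      (IsLocalRing.CotangentSpace (R ⧸ (I ⊔ J))) ≤ δ := by omega
    exact_mod_cast this
  · rw [hδ, hδe]

end Groth.Agent.S14371
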