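import Groth.Statements.S14372
import Groth.Agent.Lib.Helper5.ProjDimThm

set_option autoImplicit false
universe u
open Fano

namespace Groth.Agent.S14372

open MvPolynomial

/-- constant and linear Taylor coefficients of `f(u + T v)`. -/
theorem taylor_coeff {k σ : Type*} [CommRing k] [Fintype σ] (u v : σ → k)
    (f : MvPolynomial σ k) :
    (aeval (fun i => Polynomial.C (u i) + Polynomial.C (v i) * Polynomial.X) f :
        Polynomial k).coeff 0 = eval u f ∧
    (aeval (fun i => Polynomial.C (u i) + Polynomial.C (v i) * Polynomial.X) f :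
        Polynomial k).coeff 1 = ∑ i, v i * eval u (pderiv i f) := by
  classical
  induction f using MvPolynomial.induction_on with
  | C a => simp [Polynomial.coeff_C]
  | add p q hp hq =>
    simp only [map_add, Polynomial.coeff_add, hp.1, hq.1, hp.2, hq.2, mul_add,
      Finset.sum_add_distrib, and_self]
  | mul_X p i hp =>
    obtain ⟨h0, h1⟩ := hp
    constructor
    · rw [map_mul, aeval_X, Polynomial.mul_coeff_zero, h0]
      simp
    · rw [map_mul, aeval_X, mul_add, Polynomial.coeff_add, Polynomial.coeff_mul_C, ← mul_assoc,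
        Polynomial.coeff_mul_X, Polynomial.coeff_mul_C, h0, h1]
      simp only [Derivation.leibniz, pderiv_X, smul_eq_mul, map_add, map_mul, eval_X, mul_add,
        Finset.sum_add_distrib]
      have e1 : ∑ x, v x * ((eval u) p * (eval u) (Pi.single (M := fun _ => MvPolynomial σ k) x 1 i))
          = eval u p * v i := by
        rw [Finset.sum_eq_single i]
        · simp [mul_comm]
        · intro j _ hj
          simp [hj]
        · intro h; exact absurd (Finset.mem_univ i) h
      rw [e1, Finset.sum_mul]
      have e2 : ∀ x, v x * (u i * eval u (pderiv x p)) = v x * eval u (pderiv x p) * u i := by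
        intro x; ring
      simp only [e2]
      ring

theorem dir_deriv_zero {k σ : Type*} [Field k] [Infinite k] [Fintype σ]
    (f : MvPolynomial σ k) (u v : σ → k) (h : ∀ c : k, eval (u + c • v) f = 0) :
    ∑ i, v i * eval u (pderiv i f) = 0 := by
  rw [← (taylor_coeff u v f).2]
  have : (aeval (fun i => Polynomial.C (u i) + Polynomial.C (v i) * Polynomial.X) f :
      Polynomial k) = 0 := by
    apply Polynomial.funext
    intro c
    have e : ∀ q : MvPolynomial σ k, Polynomial.eval c
        (aeval (fun i => Polynomial.C (u i) + Polynomial.C (v i) * Polynomial.X) q) =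
        eval (u + c • v) q := by
      intro q
      induction q using MvPolynomial.induction_on with
      | C a => simp
      | add p q hp hq => simp [hp, hq]
      | mul_X p i hp =>
        simp only [map_mul, aeval_X, Polynomial.eval_mul, hp, eval_X, Polynomial.eval_add,
          Polynomial.eval_C, Polynomial.eval_X, Pi.add_apply, Pi.smul_apply, smul_eq_mul]
        ring
    rw [e, Polynomial.eval_zero, h c]
  rw [this, Polynomial.coeff_zero]

/-- Over an algebraically closed field k of arbitrary characteristic, let f be a homogeneous form of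
degree d ≥ 2 in n + 1 variables and U a linear subspace of k^(n+1) on which f vanishes, such that at
every nonzero vector of U some partial derivative of f does not vanish (the hypersurface f = 0 in
P^n contains the r-plane P(U), r + 1 = dim U, and is smooth at every point of it). Then 2 · dim U ≤
n + 1, i.e. r ≤ (n − 1)/2. (The published statement assumes the hypersurface smooth everywhere; this
row assumes smoothness only along P(U).) -/
theorem result (k : Type u) [Field k] [IsAlgClosed k]
    (n d : ℕ) (hd : 2 ≤ d) (f : MvPolynomial (Fin (n + 1)) k) (hf : f.IsHomogeneous d)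
    (U : Submodule k (Fin (n + 1) → k)) (hU : ∀ u ∈ U, MvPolynomial.eval u f = 0)
    (hsm : ∀ u ∈ U, u ≠ 0 → ∃ i : Fin (n + 1), MvPolynomial.eval u (MvPolynomial.pderiv i f) ≠ 0) :
    2 * Module.finrank k ↥U ≤ n + 1 := by
  classical
  by_contra hlt
  push Not at hlt
  obtain ⟨W, hW⟩ := Submodule.exists_isCompl U
  have hdim : Module.finrank k U + Module.finrank k W = n + 1 := by
    have := Submodule.finrank_add_eq_of_isCompl hW
    simpa using this
  have hr : Module.finrank k W < Module.finrank k U := by omega
  let b := Module.finBasis k U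
  let w := Module.finBasis k W
  let D : Fin (Module.finrank k W) → MvPolynomial (Fin (n + 1)) k :=
    fun j => ∑ i, C ((w j : Fin (n + 1) → k) i) * pderiv i f
  let φ : Fin (n + 1) → MvPolynomial (Fin (Module.finrank k U)) k :=
    fun i => ∑ a, C ((b a : Fin (n + 1) → k) i) * X a
  let g : Fin (Module.finrank k W) → MvPolynomial (Fin (Module.finrank k U)) k :=
    fun j => aeval φ (D j)
  have hDhom : ∀ j, (D j).IsHomogeneous (d - 1) :=
    fun j => IsHomogeneous.sum _ _ _ (fun i _ => (hf.pderiv).C_mul _)
  have hφhom : ∀ i, (φ i).IsHomogeneous 1 :=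
    fun i => IsHomogeneous.sum _ _ _ (fun a _ => (isHomogeneous_X _ a).C_mul _)
  have hghom : ∀ j, (g j).IsHomogeneous (1 * (d - 1)) := fun j => (hDhom j).aeval φ hφhom
  obtain ⟨t, ht0, ht⟩ := Groth.Agent.Lib.Helper5.exists_ne_zero_forall_eval_eq_zero k
    (ι := Fin (Module.finrank k W)) (by simpa using hr) g (fun _ => 1 * (d - 1))
    (fun _ => by omega) hghom
  let u : U := ∑ a, t a • b a
  have hu0 : (u : Fin (n + 1) → k) ≠ 0 := by
    intro h0
    have h1 : u = 0 := Subtype.ext h0
    have h2 : b.repr u = 0 := by rw [h1, map_zero]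
    apply ht0
    ext a
    have h3 := DFunLike.congr_fun h2 a
    simpa [u, Finsupp.single_apply] using h3
  have hucoe : ∀ i, (u : Fin (n + 1) → k) i = ∑ a, (b a : Fin (n + 1) → k) i * t a := by
    intro i
    simp [u, mul_comm]
  have hevalg : ∀ j, eval t (g j) = eval (u : Fin (n + 1) → k) (D j) := by
    intro j
    have e := DFunLike.congr_fun (MvPolynomial.comp_aeval φ
      (MvPolynomial.aeval t : MvPolynomial (Fin (Module.finrank k U)) k →ₐ[k] k)) (D j)
    simp only [AlgHom.comp_apply] at e
    rw [aeval_eq_eval, aeval_eq_eval] at e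
    simp only [g]
    rw [e]
    congr 2
    ext i
    simp [φ, hucoe]
  let L : (Fin (n + 1) → k) →ₗ[k] k :=
    ∑ i, (eval (u : Fin (n + 1) → k) (pderiv i f)) • LinearMap.proj i
  have hL : ∀ x, L x = ∑ i, x i * eval (u : Fin (n + 1) → k) (pderiv i f) := by
    intro x
    simp [L, mul_comm]
  have hLU : ∀ x ∈ U, L x = 0 := by
    intro x hx
    rw [hL]
    exact dir_deriv_zero f u x (fun c => hU _ (U.add_mem u.2 (U.smul_mem c hx)))
  have hLw : ∀ j, L (w j : Fin (n + 1) → k) = 0 := by
    intro j
    rw [hL]
    have := ht j
    rw [hevalg j] at this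
    simpa [D] using this
  have hLW : ∀ x ∈ W, L x = 0 := by
    intro x hx
    have : (⟨x, hx⟩ : W) ∈ Submodule.span k (Set.range w) := by
      rw [w.span_eq]; trivial
    have hx' : x = W.subtype ⟨x, hx⟩ := rfl
    rw [hx']
    refine Submodule.span_induction (p := fun y _ => L (W.subtype y) = 0) ?_ ?_ ?_ ?_ this
    · rintro _ ⟨j, rfl⟩; exact hLw j
    · simp
    · intro y z _ _ hy hz; simp only [map_add, hy, hz, add_zero]
    · intro c y _ hy; simp only [map_smul, hy, smul_zero]
  have hLall : ∀ x, L x = 0 := by
    intro x
    have hx : x ∈ U ⊔ W := by rw [hW.sup_eq_top]; trivial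
    obtain ⟨y, hy, z, hz, rfl⟩ := Submodule.mem_sup.mp hx
    rw [map_add, hLU y hy, hLW z hz, add_zero]
  obtain ⟨i, hi⟩ := hsm u u.2 hu0
  apply hi
  have := hLall (Pi.single i 1)
  rw [hL] at this
  simpa [Pi.single_apply] using this

end Groth.Agent.S14372
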