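import Groth.Statements.S1438
import Mathlib
-- import your own Groth.Agent.* helpers here

set_option autoImplicit false
universe u
open FlatMor

namespace Groth.Agent.S1438

open AlgebraicGeometry CategoryTheory Limits in
/-- A separated scheme with an open covering by n + 1 affine opens has affine stratification number at
most n: it admits an affine stratification with index set {0, …, n}. -/
theorem result (X : Scheme.{u}) [X.IsSeparated] (n : ℕ) (U : Fin (n + 1) → X.Opens)
    (hU : ∀ i, IsAffineOpen (U i)) (hcov : ⨆ i, U i = ⊤) :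
    MoreMor.HasAffineStratification X n := by
  classical
  have hex : ∀ x : X, ∃ i, x ∈ U i := by
    intro x
    have hx : x ∈ (⨆ i, U i : X.Opens) := by rw [hcov]; trivial
    simpa [TopologicalSpace.Opens.mem_iSup] using hx
  let S : X → Finset (Fin (n + 1)) := fun x => Finset.univ.filter (fun i => x ∈ U i)
  have hS : ∀ x, (S x).Nonempty := by
    intro x
    obtain ⟨i, hi⟩ := hex x
    exact ⟨i, by simp [S, hi]⟩
  let s : X → Fin (n + 1) := fun x => (S x).max' (hS x)
  have hs_mem : ∀ x, x ∈ U (s x) := by
    intro x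
    have := Finset.max'_mem (S x) (hS x)
    simpa [S] using this
  have hs_le : ∀ x i, x ∈ U i → i ≤ s x := by
    intro x i hi
    exact Finset.le_max' (S x) i (by simp [S, hi])
  have hsub : ∀ i, {x | s x ≤ i} = ⋂ j ∈ {j : Fin (n + 1) | i < j}, ((U j : Set X))ᶜ := by
    intro i
    ext x
    simp only [Set.mem_setOf_eq, Set.mem_iInter, Set.mem_compl_iff, SetLike.mem_coe]
    constructor
    · intro h j hj hxj
      exact absurd ((hs_le x j hxj).trans h) (not_le.mpr hj)
    · intro h
      by_contra hlt
      exact h (s x) (not_le.mp hlt) (hs_mem x)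
  have hclosed : ∀ i, IsClosed {x | s x ≤ i} := by
    intro i
    rw [hsub]
    exact isClosed_biInter (fun j _ => (U j).2.isClosed_compl)
  refine ⟨s, hclosed, fun i => ?_⟩
  let F : TopologicalSpace.Closeds X := ⟨{x | s x ≤ i}, hclosed i⟩
  let I := AlgebraicGeometry.Scheme.IdealSheafData.vanishingIdeal F
  haveI haff : IsAffine (I.subschemeι ⁻¹ᵁ U i).toScheme := (hU i).preimage I.subschemeι
  refine ⟨(I.subschemeι ⁻¹ᵁ U i).toScheme, (I.subschemeι ⁻¹ᵁ U i).ι ≫ I.subschemeι,
    inferInstance, haff, ?_, ?_⟩
  · haveI : IsAffineHom (((I.subschemeι ⁻¹ᵁ U i).ι ≫ I.subschemeι) ≫ terminal.from X) :=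
      inferInstance
    exact IsAffineHom.of_comp ((I.subschemeι ⁻¹ᵁ U i).ι ≫ I.subschemeι) (terminal.from X)
  · rw [AlgebraicGeometry.Scheme.Hom.comp_base, TopCat.coe_comp, Set.range_comp,
      AlgebraicGeometry.Scheme.Opens.range_ι]
    change I.subschemeι '' (I.subschemeι ⁻¹' (U i : Set X)) = _
    rw [Set.image_preimage_eq_inter_range,
      AlgebraicGeometry.Scheme.IdealSheafData.range_subschemeι,
      AlgebraicGeometry.Scheme.IdealSheafData.coe_support_vanishingIdeal]
    ext x
    simp only [Set.mem_inter_iff, SetLike.mem_coe, Set.mem_setOf_eq]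
    constructor
    · rintro ⟨hxU, hx⟩
      exact le_antisymm hx (hs_le x i hxU)
    · intro h
      exact ⟨h ▸ hs_mem x, le_of_eq h⟩

end Groth.Agent.S1438
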