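import Groth.Statements.S14383
import Groth.Agent.Lib.Helper25.EtaEtale1
import Groth.Agent.Lib.Helper25.EtaEtale2
import Groth.Agent.Lib.Helper25.SmoothRelDimRank

set_option autoImplicit false
open scoped TensorProduct
open AlgebraicGeometry
universe u
open CAlg

namespace Groth.Agent.S14383

/-- Let V be a discrete valuation ring of characteristic zero with uniformizer ϖ, whose residue field k
is perfect of characteristic p > 0, and let A → R be a homomorphism of V-algebras of finite type,
viewed as a morphism f : Spec R → Spec A of schemes of finite type over Spec V. Say f is η-étale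
when there is an open neighbourhood of the closed fibre of Spec R on whose generic fibre f is étale;
for affine Spec R this means: some a ∈ R with (a) + (ϖ) = R has R[1/(aϖ)] étale over A. First: if f
is η-étale then for some n ≥ 0 the submodule p^n Ω_{R/A} of the module of differentials is contained
in ϖ p^n Ω_{R/A} (that is, p^n Ω_{R/A} vanishes along the closed fibre). Conversely: if the generic
fibres Spec(K ⊗_V A) and Spec(K ⊗_V R) are both smooth over K of the same relative dimension d, K
the fraction field of V, then such an n forces f to be η-étale. (The published statement is for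
arbitrary schemes X → Y of finite type over V and also lists an intermediate equivalent condition,
that the restriction of p^n Ω_{X/Y} to the closed fibre as an abelian sheaf vanishes for some n;
this row is the case of affine schemes and states the other two conditions.) -/
theorem result (V : Type u) [CommRing V] [IsDomain V] [IsDiscreteValuationRing V] [CharZero V]
    (ϖ : V) (hϖ : Irreducible ϖ) (p : ℕ) [Fact p.Prime] [CharP (IsLocalRing.ResidueField V) p]
    [PerfectField (IsLocalRing.ResidueField V)]
    (A : Type u) [CommRing A] [Algebra V A] [Algebra.FiniteType V A]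
    (R : Type u) [CommRing R] [Algebra V R] [Algebra.FiniteType V R] [Algebra A R] [IsScalarTower V A R] :
    ((∃ a : R, Ideal.span {a} ⊔ Ideal.span {algebraMap V R ϖ} = ⊤ ∧
        ((algebraMap R (Localization.Away (a * algebraMap V R ϖ))).comp (algebraMap A R)).Etale) →
      ∃ n : ℕ, Ideal.span {((p : R)) ^ n} • (⊤ : Submodule R (Ω[R⁄A])) ≤
        Ideal.span {algebraMap V R ϖ * (p : R) ^ n} • (⊤ : Submodule R (Ω[R⁄A]))) ∧
    (∀ d : ℕ, SmoothOfRelativeDimension d
        (Spec.map (CommRingCat.ofHom (algebraMap (FractionRing V) (FractionRing V ⊗[V] A)))) →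
      SmoothOfRelativeDimension d
        (Spec.map (CommRingCat.ofHom (algebraMap (FractionRing V) (FractionRing V ⊗[V] R)))) →
      (∃ n : ℕ, Ideal.span {((p : R)) ^ n} • (⊤ : Submodule R (Ω[R⁄A])) ≤
        Ideal.span {algebraMap V R ϖ * (p : R) ^ n} • (⊤ : Submodule R (Ω[R⁄A]))) →
      ∃ a : R, Ideal.span {a} ⊔ Ideal.span {algebraMap V R ϖ} = ⊤ ∧
        ((algebraMap R (Localization.Away (a * algebraMap V R ϖ))).comp (algebraMap A R)).Etale) := by
  have hpV : (p : V) ≠ 0 := Nat.cast_ne_zero.mpr (Fact.out : p.Prime).ne_zero
  have hdvdV : ϖ ∣ (p : V) := by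
    have h1 : (p : V) ∈ IsLocalRing.maximalIdeal V := by
      rw [← IsLocalRing.residue_eq_zero_iff, map_natCast]
      exact CharP.cast_eq_zero _ p
    rw [hϖ.maximalIdeal_eq, Ideal.mem_span_singleton] at h1
    exact h1
  have hcast : (p : R) = algebraMap V R (p : V) := (map_natCast _ p).symm
  haveI : Algebra.FiniteType A R := Algebra.FiniteType.of_restrictScalars_finiteType V A R
  constructor
  · rintro ⟨a, hcop, het⟩
    rw [← IsScalarTower.algebraMap_eq A R (Localization.Away (a * algebraMap V R ϖ)),
      RingHom.etale_algebraMap] at het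
    have hunr : Subsingleton Ω[Localization.Away (a * algebraMap V R ϖ)⁄A] := inferInstance
    have hdvd : algebraMap V R ϖ ∣ (p : R) := by
      rw [hcast]; exact map_dvd (algebraMap V R) hdvdV
    exact Groth.Agent.Lib.Helper25.EtaEtale.exists_pow_smul_le a (algebraMap V R ϖ) (p : R)
      hcop hdvd hunr
  · rintro d hdA hdR ⟨n, hn⟩
    have hsA : Smooth (Spec.map (CommRingCat.ofHom
        (algebraMap (FractionRing V) (FractionRing V ⊗[V] A)))) :=
      SmoothOfRelativeDimension.smooth d _
    have hsR : Smooth (Spec.map (CommRingCat.ofHom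
        (algebraMap (FractionRing V) (FractionRing V ⊗[V] R)))) :=
      SmoothOfRelativeDimension.smooth d _
    rw [HasRingHomProperty.Spec_iff (P := @SmoothOfRelativeDimension d)] at hdA hdR
    rw [HasRingHomProperty.Spec_iff (P := @Smooth)] at hsA hsR
    simp only [CommRingCat.hom_ofHom] at hdA hdR hsA hsR
    rw [RingHom.smooth_algebraMap] at hsA hsR
    haveI := hsA
    haveI := hsR
    have hA := Groth.Agent.Lib.Helper25.SmoothRelDimRank.rankAtStalk_of_locally_isStandardSmoothOfRelativeDimension
      (A := FractionRing V) (B := FractionRing V ⊗[V] A) d hdA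
    have hR := Groth.Agent.Lib.Helper25.SmoothRelDimRank.rankAtStalk_of_locally_isStandardSmoothOfRelativeDimension
      (A := FractionRing V) (B := FractionRing V ⊗[V] R) d hdR
    rw [hcast] at hn
    obtain ⟨a, hcop, het⟩ := Groth.Agent.Lib.Helper25.EtaEtale.exists_etale_of_pow_smul_le V A R ϖ hϖ
      (p : V) hpV d hA hR n hn
    refine ⟨a, hcop, ?_⟩
    rw [← IsScalarTower.algebraMap_eq A R (Localization.Away (a * algebraMap V R ϖ)),
      RingHom.etale_algebraMap]
    exact het


end Groth.Agent.S14383
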