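import Groth.Statements.S14389
import Groth.Agent.Lib.Helper22.EtLoc.HofPush
import Groth.Agent.Lib.Helper22.EtLoc.HpullComp

set_option autoImplicit false
open CategoryTheory CategoryTheory.Limits AlgebraicGeometry Opposite
universe u
open EtLim

namespace Groth.Agent.S14389
open Groth.Agent.Lib.Helper22.EtLoc Abelian

lemma pullbackCongr_rfl {X Y : Scheme.{u}} (h : X ⟶ Y) :
    (MorphismProperty.Over.pullbackCongr (P := EtCoh.etaleMP) (Q := ⊤) (rfl : h = h)) =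
      Iso.refl (EtCoh.bc h) := by
  ext W : 3
  apply MorphismProperty.Over.Hom.ext
  simp [MorphismProperty.Over.pullbackCongr]
  rfl

lemma pushCongr_rfl_hom_app {X Y : Scheme.{u}} (h : X ⟶ Y) (G : EtCoh.Ab X) :
    (EtCoh.pushCongr (rfl : h = h)).hom.app G = 𝟙 _ := by
  apply Sheaf.hom_ext
  ext W : 2
  have h1 : ((EtCoh.pushCongr (rfl : h = h)).hom.app G).hom.app W =
    G.obj.map ((MorphismProperty.Over.pullbackCongr (P := EtCoh.etaleMP) (Q := ⊤)
      (rfl : h = h)).inv.app W.unop).op := rfl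
  rw [h1, pullbackCongr_rfl]
  simp only [Iso.refl_inv, NatTrans.id_app]
  exact G.obj.map_id _

/-- `pullCongr` and `pushCongr` are conjugate. -/
lemma homEquiv_pullCongr {X Y : Scheme.{u}} {h₁ h₂ : X ⟶ Y} (e : h₁ = h₂) (A : EtCoh.Ab Y)
    (G : EtCoh.Ab X) (ψ : (EtCoh.pull h₁).obj A ⟶ G) :
    (EtCoh.pullPushAdj h₂).homEquiv A G ((EtCore.pullCongr e).inv.app A ≫ ψ) =
      (EtCoh.pullPushAdj h₁).homEquiv A G ψ ≫ (EtCoh.pushCongr e).hom.app G := by
  subst e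
  rw [pushCongr_rfl_hom_app, Category.comp_id]
  congr 1

lemma homEquiv_leftAdjointUniq_comp {C D : Type*} [Category C] [Category D] {F F' : C ⥤ D}
    {G : D ⥤ C} (adj1 : F ⊣ G) (adj2 : F' ⊣ G) (x : C) (y : D) (φ : F'.obj x ⟶ y) :
    adj1.homEquiv x y ((Adjunction.leftAdjointUniq adj1 adj2).hom.app x ≫ φ) =
      adj2.homEquiv x y φ := by
  rw [Adjunction.homEquiv_naturality_right, Adjunction.homEquiv_leftAdjointUniq_hom_app,
    Adjunction.homEquiv_unit]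

lemma homEquiv_counit_eq {C D : Type*} [Category C] [Category D] {F : C ⥤ D}
    {G : D ⥤ C} (adj : F ⊣ G) (y : D) :
    adj.homEquiv (G.obj y) y (adj.counit.app y) = 𝟙 (G.obj y) := by
  have h := Adjunction.homEquiv_symm_id adj y
  exact (congrArg (adj.homEquiv (G.obj y) y) h).symm.trans (Equiv.apply_symm_apply _ _)

/-- Transposing a map out of `(f ≫ g)⁻¹ A` through `pullComp`. -/
lemma homEquiv_pullComp {X Y Z : Scheme.{u}} (f : X ⟶ Y) (g : Y ⟶ Z) (A : EtCoh.Ab Z)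
    (G : EtCoh.Ab X) (φ : (EtCoh.pull f).obj ((EtCoh.pull g).obj A) ⟶ G) :
    (EtCoh.pullPushAdj (f ≫ g)).homEquiv A G ((EtCore.pullComp f g).hom.app A ≫ φ) =
      (EtCoh.pullPushAdj g).homEquiv A _ ((EtCoh.pullPushAdj f).homEquiv _ G φ) ≫
        (EtCoh.pushComp g f).hom.app G := by
  refine (homEquiv_leftAdjointUniq_comp (EtCoh.pullPushAdj (f ≫ g))
    (((EtCoh.pullPushAdj g).comp (EtCoh.pullPushAdj f)).ofNatIsoRight (EtCoh.pushComp g f))
    A G φ).trans ?_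
  rw [Adjunction.homEquiv_ofNatIsoRight_apply, Adjunction.comp_homEquiv]
  rfl

section Abstract

variable {𝒳 𝒴 𝒳' : Type*} [Category 𝒳] [Category 𝒴] [Category 𝒳']
  {Lf : 𝒴 ⥤ 𝒳} {Rf : 𝒳 ⥤ 𝒴} (af : Lf ⊣ Rf)
  {Lg' : 𝒳 ⥤ 𝒳'} {Rg' : 𝒳' ⥤ 𝒳} (ag' : Lg' ⊣ Rg')

lemma abs1 (F : 𝒳) :
    af.homEquiv (Rf.obj F) (Rg'.obj (Lg'.obj F))
      (ag'.homEquiv (Lf.obj (Rf.obj F)) (Lg'.obj F) (Lg'.map (af.counit.app F))) =
      Rf.map (ag'.unit.app F) := by
  have hL : ag'.homEquiv (Lf.obj (Rf.obj F)) (Lg'.obj F) (Lg'.map (af.counit.app F)) =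
      af.counit.app F ≫ ag'.unit.app F := by
    rw [Adjunction.homEquiv_unit]
    exact (ag'.unit.naturality (af.counit.app F)).symm
  rw [hL, Adjunction.homEquiv_naturality_right]
  exact (congrArg (· ≫ Rf.map (ag'.unit.app F)) (homEquiv_counit_eq af F)).trans
    (Category.id_comp _)

lemma abs2 {A : 𝒴} {Z : 𝒳} (bc : A ⟶ Rf.obj Z) :
    af.homEquiv A Z (Lf.map bc ≫ af.counit.app Z) = bc := by
  rw [Adjunction.homEquiv_naturality_left]
  exact (congrArg (bc ≫ ·) (homEquiv_counit_eq af Z)).trans (Category.comp_id _)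

end Abstract

lemma final_aux {𝒞 : Type*} [Category 𝒞] {A B C D E : 𝒞} (a : A ⟶ B) (c₁ : B ⟶ C) (κ : C ⟶ D)
    (c₂ : E ⟶ D) (c₂' : D ⟶ E) (h : c₂' ≫ c₂ = 𝟙 D) :
    (a ≫ c₁) ≫ κ = (a ≫ c₁ ≫ κ ≫ c₂') ≫ c₂ := by
  simp only [Category.assoc, h, Category.comp_id]

/-- The mates identity behind the statement. -/
lemma mates {X Y X' Y' : Scheme.{u}} (f : X ⟶ Y)
    (g : Y' ⟶ Y) (f' : X' ⟶ Y') (g' : X' ⟶ X) (w : g' ≫ f = f' ≫ g) (F : EtCoh.Ab X) :
    (EtCore.pullCongr w).inv.app ((EtCoh.push f).obj F) ≫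
        (EtCore.pullComp g' f).hom.app ((EtCoh.push f).obj F) ≫
          (EtCoh.pull g').map ((EtCoh.pullPushAdj f).counit.app F) =
      (EtCore.pullComp f' g).hom.app ((EtCoh.push f).obj F) ≫
        (EtCoh.pull f').map (EtCoh.baseChange0 f g f' g' w F) ≫
          (EtCoh.pullPushAdj f').counit.app ((EtCoh.pull g').obj F) := by
  apply ((EtCoh.pullPushAdj (f' ≫ g)).homEquiv _ _).injective
  refine (homEquiv_pullCongr w _ _ _).trans ?_
  refine (congrArg (· ≫ (EtCoh.pushCongr w).hom.app _) (homEquiv_pullComp g' f _ _ _)).trans ?_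
  refine Eq.trans ?_ (homEquiv_pullComp f' g _ _ _).symm
  have h6 : (EtCoh.pullPushAdj g).homEquiv _ _ (EtCoh.baseChange0 f g f' g' w F) =
      (EtCoh.push f).map ((EtCoh.pullPushAdj g').unit.app F) ≫ (EtCoh.pushComp f g').hom.app _ ≫
        (EtCoh.pushCongr w).hom.app _ ≫ (EtCoh.pushComp g f').inv.app _ :=
    Equiv.apply_symm_apply _ _
  have e1 := abs1 (EtCoh.pullPushAdj f) (EtCoh.pullPushAdj g') F
  have e2 := abs2 (EtCoh.pullPushAdj f') (EtCoh.baseChange0 f g f' g' w F)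
  refine (congrArg (fun z => (z ≫ (EtCoh.pushComp f g').hom.app _) ≫
    (EtCoh.pushCongr w).hom.app _) e1).trans ?_
  refine Eq.trans ?_ (congrArg (fun z => (EtCoh.pullPushAdj g).homEquiv _ _ z ≫
    (EtCoh.pushComp g f').hom.app _) e2).symm
  refine Eq.trans ?_ (congrArg (fun z => z ≫ (EtCoh.pushComp g f').hom.app _) h6).symm
  exact final_aux _ _ _ _ _ (Iso.inv_hom_id_app _ _)

lemma ext_comp_mk₀_congr {𝒜 : Type*} [Category 𝒜] [Abelian 𝒜] [HasExt.{u + 1} 𝒜] {Z A B : 𝒜}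
    {p : ℕ} (x : Ext Z A p) {a b : A ⟶ B} (h : a = b) :
    x.comp (Ext.mk₀ a) (add_zero p) = x.comp (Ext.mk₀ b) (add_zero p) := by rw [h]

lemma ext_eq_comp_inv {𝒜 : Type*} [Category 𝒜] [Abelian 𝒜] [HasExt.{u + 1} 𝒜] {Z P Q : 𝒜}
    {p : ℕ} (y : Ext Z P p) (e : P ≅ Q) (z : Ext Z Q p)
    (h : y.comp (Ext.mk₀ e.hom) (add_zero p) = z) :
    y = z.comp (Ext.mk₀ e.inv) (add_zero p) := by
  rw [← h, Ext.comp_assoc_of_third_deg_zero, Ext.mk₀_comp_mk₀, Iso.hom_inv_id, Ext.comp_mk₀_id]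

lemma ext_comp_comp {𝒜 : Type*} [Category 𝒜] [Abelian 𝒜] [HasExt.{u + 1} 𝒜] {Z P Q R : 𝒜}
    {p : ℕ} (z : Ext Z P p) (a : P ⟶ Q) (b : Q ⟶ R) :
    (z.comp (Ext.mk₀ a) (add_zero p)).comp (Ext.mk₀ b) (add_zero p) =
      z.comp (Ext.mk₀ (a ≫ b)) (add_zero p) := by
  rw [Ext.comp_assoc_of_third_deg_zero, Ext.mk₀_comp_mk₀]

lemma HF_map_apply {X : Scheme.{u}} {A B : EtCoh.Ab X} (φ : A ⟶ B) (q : ℕ) (x : EtCoh.H X A q) :
    ((EtCoh.HF X q).map φ).hom x = x.comp (Ext.mk₀ φ) (add_zero q) := rfl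

lemma εIso_inv_app {X Y Y' : Scheme.{u}} (f : Y' ⟶ Y) (t : Y ⟶ X) (f₀ : Y' ⟶ X) (w : f ≫ t = f₀)
    (A : EtCoh.Ab X) :
    ((εIso f t f₀ w).app A).inv =
      (EtCore.pullCongr w).inv.app A ≫ (EtCore.pullComp f t).hom.app A := rfl

lemma εIso_inv_app_rfl {X Y Y' : Scheme.{u}} (f : Y' ⟶ Y) (t : Y ⟶ X)
    (A : EtCoh.Ab X) :
    ((εIso f t (f ≫ t) rfl).app A).inv = (EtCore.pullComp f t).hom.app A := by
  rw [εIso_inv_app]
  exact Category.id_comp _


/-- For small étale sites of schemes: let g' ≫ f = f' ≫ g be a commutative square of schemes with f : X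
→ Y, g : Y' → Y, f' : X' → Y', g' : X' → X, and let F be an abelian sheaf on the small étale site of
X. For every q and every class ζ in H^q(Y_ét, f_*F), the pullback along g' of the image of ζ under
the canonical map H^q(Y, f_*F) → H^q(X, F) (pull back along f, then apply the counit f⁻¹f_*F → F)
equals the image of g^*ζ ∈ H^q(Y', g⁻¹f_*F) under the map induced by the base-change morphism
g⁻¹f_*F → f'_*g'⁻¹F followed by the canonical map H^q(Y', f'_*g'⁻¹F) → H^q(X', g'⁻¹F). (The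
published statement is for a commutative square of topoi with a chosen isomorphism f_*g'_* ≅
g_*f'_*; this row is the square of étale topoi of schemes. Exactness of pullback of abelian sheaves,
which always holds, is carried as instance hypotheses.) -/
theorem result {X Y X' Y' : Scheme.{u}} (f : X ⟶ Y)
    (g : Y' ⟶ Y) (f' : X' ⟶ Y') (g' : X' ⟶ X) (w : g' ≫ f = f' ≫ g) (F : EtCoh.Ab X) (q : ℕ)
    [PreservesFiniteLimits (EtCoh.pull f)] [PreservesFiniteLimits (EtCoh.pull g)]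
    [PreservesFiniteLimits (EtCoh.pull f')] [PreservesFiniteLimits (EtCoh.pull g')]
    (ζ : EtCoh.H Y ((EtCoh.push f).obj F) q) :
    EtCore.Hpull g' F q (EtLim.HofPush f F q ζ) =
      EtLim.HofPush f' ((EtCoh.pull g').obj F) q
        (((EtCoh.HF Y' q).map (EtCoh.baseChange0 f g f' g' w F)).hom
          (EtCore.Hpull g ((EtCoh.push f).obj F) q ζ)) := by
  have : PreservesFiniteLimits (EtCoh.pull (f' ≫ g)) :=
    preservesFiniteLimits_of_natIso (EtCore.pullComp f' g).symm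
  have hA := HpullVia_Hpull g' f (f' ≫ g) w ((EtCoh.push f).obj F) q ζ
  have hB := HpullVia_Hpull f' g (f' ≫ g) rfl ((EtCoh.push f).obj F) q ζ
  rw [HpullVia_apply] at hA hB
  have hA' := ext_eq_comp_inv _ ((εIso g' f (f' ≫ g) w).app ((EtCoh.push f).obj F)) _ hA
  have hB' := ext_eq_comp_inv _ ((εIso f' g (f' ≫ g) rfl).app ((EtCoh.push f).obj F)) _ hB
  -- left side
  have hL : EtCore.Hpull g' F q (EtLim.HofPush f F q ζ) =
      (EtCore.Hpull (f' ≫ g) ((EtCoh.push f).obj F) q ζ).comp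
        (Ext.mk₀ (((εIso g' f (f' ≫ g) w).app ((EtCoh.push f).obj F)).inv ≫
          (EtCoh.pull g').map ((EtCoh.pullPushAdj f).counit.app F))) (add_zero q) := by
    rw [HofPush_apply, Hpull_naturality, hA', ext_comp_comp]
  -- right side
  have hR : EtLim.HofPush f' ((EtCoh.pull g').obj F) q
        (((EtCoh.HF Y' q).map (EtCoh.baseChange0 f g f' g' w F)).hom
          (EtCore.Hpull g ((EtCoh.push f).obj F) q ζ)) =
      (EtCore.Hpull (f' ≫ g) ((EtCoh.push f).obj F) q ζ).comp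
        (Ext.mk₀ (((εIso f' g (f' ≫ g) rfl).app ((EtCoh.push f).obj F)).inv ≫
          (EtCoh.pull f').map (EtCoh.baseChange0 f g f' g' w F) ≫
            (EtCoh.pullPushAdj f').counit.app ((EtCoh.pull g').obj F))) (add_zero q) := by
    rw [HF_map_apply, HofPush_apply, Hpull_naturality, hB', ext_comp_comp, ext_comp_comp]
  rw [hL, hR]
  apply ext_comp_mk₀_congr
  have hm := mates f g f' g' w F
  rw [εIso_inv_app, εIso_inv_app_rfl, Category.assoc]
  exact hm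

end Groth.Agent.S14389
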