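import Groth.Statements.S1439
import Groth.Agent.Lib.Helper21.MaxLoc4
-- import your own Groth.Agent.* helpers here

set_option autoImplicit false
universe u
open FlatMor

namespace Groth.Agent.S1439

open AlgebraicGeometry CategoryTheory Limits in
/-- Let f : X → Y be surjective and quasi-finite with X affine and Y separated and nonempty, and let w
be a positive weighting of f. If the fibre integral of w along f takes exactly k distinct values,
then Y has an affine stratification with index set {0, …, k − 1} (its affine stratification number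
is at most k − 1). -/
theorem result {X Y : Scheme.{u}} (f : X ⟶ Y) [Surjective f] [LocallyQuasiFinite f] [LocallyOfFiniteType f] [QuasiCompact f]
    [IsAffine X] [Y.IsSeparated] [Nonempty ↑Y] (w : ↑X → ℤ) (hw : MoreMor.IsWeighting f w) (hpos : ∀ x, 0 < w x)
    (k : ℕ) (hk : (Set.range (MoreMor.fibreIntegral f w)).ncard = k) (hkfin : (Set.range (MoreMor.fibreIntegral f w)).Finite) :
    MoreMor.HasAffineStratification Y (k - 1) := by
  classical
  have hfaff : IsAffineHom f := Groth.Agent.Lib.Helper21.MaxLoc.isAffineHom_of_isAffine_of_isSeparated f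
  have hfin : ∀ y : Y, (f ⁻¹' {y}).Finite := fun y => f.finite_preimage_singleton y
  have hlsc := Groth.Agent.Lib.Helper6.Wt.lowerSemicontinuous_fibreIntegral f hfin w hw hpos
  obtain ⟨R, hR⟩ : ∃ R : Finset ℤ, R = hkfin.toFinset := ⟨_, rfl⟩
  have hmemR : ∀ y : Y, MoreMor.fibreIntegral f w y ∈ R := fun y => by
    rw [hR, Set.Finite.mem_toFinset]; exact ⟨y, rfl⟩
  have hRmem : ∀ v ∈ R, ∃ y : Y, MoreMor.fibreIntegral f w y = v := fun v hv => by
    rw [hR, Set.Finite.mem_toFinset] at hv; exact hv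
  have hcard : R.card = k := by
    rw [hR, ← Set.ncard_eq_toFinset_card _ hkfin]; exact hk
  have hkpos : 0 < k := by
    rw [← hcard, Finset.card_pos]
    obtain ⟨y⟩ := (inferInstance : Nonempty ↑Y)
    exact ⟨_, hmemR y⟩
  have hcard' : R.card = k - 1 + 1 := by omega
  obtain ⟨oiso, -⟩ : ∃ o : Fin (k - 1 + 1) ≃o R, o = R.orderIsoOfFin hcard' := ⟨_, rfl⟩
  have hclosed : ∀ v : ℤ, IsClosed {y : Y | MoreMor.fibreIntegral f w y ≤ v} := fun v => by
    have h1 : {y : Y | MoreMor.fibreIntegral f w y ≤ v} =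
        ((MoreMor.fibreIntegral f w) ⁻¹' Set.Ioi v)ᶜ := by
      ext y
      simp only [Set.mem_setOf_eq, Set.mem_compl_iff, Set.mem_preimage, Set.mem_Ioi, not_lt]
    rw [h1]
    exact (hlsc.isOpen_preimage v).isClosed_compl
  refine ⟨fun y => oiso.symm ⟨MoreMor.fibreIntegral f w y, hmemR y⟩, fun i => ?_, fun i => ?_⟩
  · have h1 : {y : Y | oiso.symm ⟨MoreMor.fibreIntegral f w y, hmemR y⟩ ≤ i} =
        {y : Y | MoreMor.fibreIntegral f w y ≤ (oiso i).1} := by
      ext y
      simp only [Set.mem_setOf_eq]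
      rw [OrderIso.symm_apply_le]
      exact Iff.rfl
    rw [h1]
    exact hclosed _
  · obtain ⟨v, hv⟩ : ∃ v : ℤ, v = (oiso i).1 := ⟨_, rfl⟩
    have hvR : v ∈ R := hv ▸ (oiso i).2
    obtain ⟨y₀, hy₀⟩ := hRmem v hvR
    have hvnn : 0 ≤ v := by
      rw [← hy₀]
      exact Groth.Agent.Lib.Helper21.MaxLoc.fibreIntegral_nonneg f w hpos y₀
    obtain ⟨n, rfl⟩ := Int.eq_ofNat_of_zero_le hvnn
    obtain ⟨Z, ι, h1, h2, h3, h4⟩ := Groth.Agent.Lib.Helper21.MaxLoc.exists_stratum f w hw hpos
      ⟨{y : Y | MoreMor.fibreIntegral f w y ≤ (n : ℤ)}, hclosed _⟩ n (fun y hy => hy)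
    refine ⟨Z, ι, h1, h2, h3, ?_⟩
    rw [h4]
    ext y
    simp only [Set.mem_setOf_eq]
    constructor
    · rintro ⟨-, hy⟩
      rw [OrderIso.symm_apply_eq]
      apply Subtype.ext
      rw [← hv]
      exact hy
    · intro hy
      rw [OrderIso.symm_apply_eq] at hy
      have hy' : MoreMor.fibreIntegral f w y = (n : ℤ) := by
        rw [hv, ← hy]
      exact ⟨hy'.le, hy'⟩

end Groth.Agent.S1439
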