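import Groth.Statements.S14397
import Mathlib

set_option autoImplicit false
universe u
open DualGr

namespace Groth.Agent.S14397
section Aux
end Aux


/-- Let (V, E) with endpoint map E → V × V be a finite multigraph (loops and parallel edges allowed; the
order of the two endpoints is an auxiliary orientation), and let D_1, …, D_n be finite sets of edges
such that every edge lies outside at least one D_i. For each i let Γ_i be the multigraph obtained by
contracting the edges of D_i, and let H₁(Γ, ℤ) → H₁(Γ_i, ℤ) be the map of cycle lattices (integer
edge vectors with zero boundary) given by restriction to the surviving edges. Then the map H₁(Γ, ℤ)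
→ ⊕_i H₁(Γ_i, ℤ) has torsion-free cokernel. (The published statement is about the connected labelled
dual graph of the closed fibre of a nodal curve, smooth outside a normal crossing divisor with
components D_1, …, D_n, over a Noetherian regular strictly local base; Γ_i is the dual graph of the
fibre over the generic point of D_i, the lattices are identified with the character groups of the
toric parts of the Picard schemes of these fibres, and the map is the generization map of character
groups; this row states the assertion about cycle lattices, for any finite multigraph, which is what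
the argument establishes.) -/
theorem result
    {V E : Type u} [Fintype V] [Fintype E] [DecidableEq V] [DecidableEq E]
    (ends : E → V × V) {n : ℕ} (D : Fin n → Finset E) (hcover : ∀ e : E, ∃ i : Fin n, e ∉ D i) :
    IsAddTorsionFree (((i : Fin n) → ↥(DualGr.cycleLattice (DualGr.ctrEnds ends (D i)))) ⧸
      LinearMap.range (LinearMap.pi fun i : Fin n => DualGr.genMap ends (D i))) := by
  classical
  refine ⟨fun m hm q₁ q₂ h => ?_⟩
  obtain ⟨y₁, rfl⟩ := Submodule.Quotient.mk_surjective _ q₁
  obtain ⟨y₂, rfl⟩ := Submodule.Quotient.mk_surjective _ q₂
  simp only at h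
  rw [← Submodule.Quotient.mk_smul, ← Submodule.Quotient.mk_smul, Submodule.Quotient.eq] at h
  rw [Submodule.Quotient.eq]
  set y := y₁ - y₂ with hy
  have h' : m • y ∈ (LinearMap.pi fun i => DualGr.genMap ends (D i)).range := by
    have : m • y = m • y₁ - m • y₂ := by rw [hy]; exact smul_sub m y₁ y₂
    rw [this]; exact h
  obtain ⟨x, hx⟩ := h'
  -- coordinates
  have hxe : ∀ (i : Fin n) (e : E) (he : e ∉ D i), x.1 e = (m : ℤ) * (y i).1 ⟨e, he⟩ := by
    intro i e he
    have := congrArg (fun z => (z i).1 ⟨e, he⟩) hx
    simpa [DualGr.genMap, DualGr.resE] using this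
  have hdiv : ∀ e : E, (m : ℤ) ∣ x.1 e := by
    intro e
    obtain ⟨i, hi⟩ := hcover e
    exact ⟨_, hxe i e hi⟩
  have hm' : (m : ℤ) ≠ 0 := by exact_mod_cast hm
  let x' : E → ℤ := fun e => x.1 e / m
  have hx' : (m : ℤ) • x' = x.1 := by
    funext e
    simp only [Pi.smul_apply, smul_eq_mul, x']
    exact Int.mul_ediv_cancel' (hdiv e)
  have hmem : x' ∈ DualGr.cycleLattice ends := by
    show DualGr.boundaryHom ends x' = 0
    have h1 : (m : ℤ) • DualGr.boundaryHom ends x' = 0 := by
      rw [← map_smul, hx']
      exact x.2
    funext v
    have := congrFun h1 v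
    simpa [hm] using this
  refine ⟨⟨x', hmem⟩, ?_⟩
  funext i
  apply Subtype.ext
  funext e
  have h2 := hxe i e.1 e.2
  have h3 : x.1 e.1 = (m : ℤ) * x' e.1 := by
    rw [← hx']; rfl
  rw [h3] at h2
  have := mul_left_cancel₀ hm' h2
  simpa [DualGr.genMap, DualGr.resE] using this

end Groth.Agent.S14397
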