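import Groth.Statements.S14401
import Groth.Agent.S2279
import Groth.Agent.Lib.Helper16.LocNoeth
import Mathlib.AlgebraicGeometry.Noetherian

set_option autoImplicit false
universe u
open CategoryTheory AlgebraicGeometry
open Props

namespace Groth.Agent.S14401

/-- Let X be a Noetherian scheme all of whose local rings are integral domains. Then each irreducible
component of X is an open subset of X, and each point of X lies on exactly one irreducible component
(so the irreducible components of X are pairwise disjoint, open and closed, and coincide with the
connected components). (The published statement assumes X regular and Noetherian; its argument uses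
only that the local rings of X are domains, which is the hypothesis taken here.) -/
theorem result (X : Scheme.{u}) [AlgebraicGeometry.IsNoetherian X]
    (hX : ∀ x : X, IsDomain (X.presheaf.stalk x)) :
    (∀ Z ∈ irreducibleComponents (X : Type u), IsOpen Z) ∧
      ∀ x : X, ∃! Z, Z ∈ irreducibleComponents (X : Type u) ∧ x ∈ Z := by
  have hd : (irreducibleComponents (X : Type u)).PairwiseDisjoint id := by
    rw [Groth.Agent.S2279.result]
    intro x
    have := hX x
    rw [nilradical_eq_zero]
    exact Ideal.isPrime_bot
  have hN : ∀ x : X, ∃ U ∈ nhds x, TopologicalSpace.NoetherianSpace U := fun x =>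
    ⟨Set.univ, Filter.univ_mem, inferInstance⟩
  refine ⟨Groth.Agent.Lib.Helper16.isOpen_of_mem_irreducibleComponents_of_pairwiseDisjoint
    X hN hd, fun x => ?_⟩
  refine ⟨irreducibleComponent x, ⟨irreducibleComponent_mem_irreducibleComponents x,
    mem_irreducibleComponent⟩, ?_⟩
  rintro Z ⟨hZ, hxZ⟩
  by_contra hne
  exact Set.disjoint_left.mp (hd hZ (irreducibleComponent_mem_irreducibleComponents x) hne) hxZ
    mem_irreducibleComponent

end Groth.Agent.S14401
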