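import Groth.Statements.S14403
import Groth.Agent.Lib.Helper21.FibDim8
-- import your own Groth.Agent.* helpers here

set_option autoImplicit false
universe u
open CategoryTheory AlgebraicGeometry
open FlatMor

namespace Groth.Agent.S14403

/-- Let k be a field, X and Y schemes of finite type over k, f : X ⟶ Y a flat k-morphism, and d, n
natural numbers such that every irreducible component of Y has dimension d (Y equidimensional of
dimension d). Then every irreducible component of X has dimension d + n if and only if for every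
point y of Y, closed or not, every irreducible component of the scheme-theoretic fibre of f over y
has dimension n (empty fibres impose no condition). -/
theorem result (k : Type u) [Field k]
    {X Y : Scheme.{u}} (qX : X ⟶ Spec (CommRingCat.of k)) (qY : Y ⟶ Spec (CommRingCat.of k))
    [LocallyOfFiniteType qX] [QuasiCompact qX] [LocallyOfFiniteType qY] [QuasiCompact qY]
    (f : X ⟶ Y) (hf : f ≫ qY = qX) [Flat f] (d n : ℕ)
    (hY : ∀ Z ∈ irreducibleComponents (Y : Type u), topologicalKrullDim Z = (d : WithBot ℕ∞)) :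
    (∀ Z ∈ irreducibleComponents (X : Type u), topologicalKrullDim Z = ((d + n : ℕ) : WithBot ℕ∞)) ↔
      ∀ (y : Y), ∀ Z ∈ irreducibleComponents (f.fiber y : Type u),
        topologicalKrullDim Z = (n : WithBot ℕ∞) := by
  let _ : X.Over (Spec (CommRingCat.of k)) := ⟨qX⟩
  let _ : Y.Over (Spec (CommRingCat.of k)) := ⟨qY⟩
  have hlX : LocallyOfFiniteType (X ↘ Spec (CommRingCat.of k)) := ‹LocallyOfFiniteType qX›
  have hlY : LocallyOfFiniteType (Y ↘ Spec (CommRingCat.of k)) := ‹LocallyOfFiniteType qY›
  have hf' : f ≫ (Y ↘ Spec (CommRingCat.of k)) = X ↘ Spec (CommRingCat.of k) := hf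
  have hft : LocallyOfFiniteType f := by
    have h0 : LocallyOfFiniteType (f ≫ qY) := by rw [hf]; infer_instance
    exact locallyOfFiniteType_of_comp f qY
  have : IsLocallyNoetherian Y := LocallyOfFiniteType.isLocallyNoetherian qY
  -- key dimension formula for components of `X`
  have key : ∀ ξ : X, closure {ξ} ∈ irreducibleComponents X → ∃ e : ℕ,
      fibreDimAt f ξ = e ∧
      topologicalKrullDim (closure ({ξ} : Set X)) = ((d + e : ℕ) : WithBot ℕ∞) := by
    intro ξ hξ
    obtain ⟨b, e, hc, hb, he, hdim⟩ :=
      Groth.Agent.Lib.Helper21.FibDim.exists_dim_eq_add_of_flat k X Y f hf' ξ hξ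
    have hbd : b = d := by
      have h1 := hY _ hc
      rw [hb] at h1
      exact_mod_cast h1
    subst hbd
    exact ⟨e, he, hdim⟩
  constructor
  · intro h y Z hZ
    obtain ⟨z, hz, hdimZ, hmax⟩ :=
      Groth.Agent.Lib.Helper21.FibDim.exists_isGenericPoint_fiber f y Z hZ
    obtain ⟨ξ, m, hcomp, hsp, hn1, -, hn3, -⟩ :=
      Groth.Agent.Lib.Helper21.FibDim.exists_generic_trdeg_eq_of_flat f (f.fiberι y z) hmax
    obtain ⟨e, he, hdim⟩ := key ξ hcomp
    have h1 := h _ hcomp
    rw [hdim] at h1
    have hen : e = n := by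
      have h3 : d + e = d + n := by exact_mod_cast h1
      omega
    have hem : e = m := by
      rw [he] at hn3
      exact_mod_cast hn3
    rw [hdimZ, hn1, ← hem, hen]
  · intro h Z hZ
    obtain ⟨ξ, hξ⟩ :=
      Groth.Agent.Lib.Helper21.FibDim.exists_isGenericPoint_of_mem_irreducibleComponents Z hZ
    have hZ' : Z = closure {ξ} := hξ.def.symm
    subst hZ'
    obtain ⟨e, he, hdim⟩ := key ξ hZ
    have hmax : ∀ x' : X, x' ⤳ ξ → x' = ξ :=
      Groth.Agent.Lib.Helper21.FibDim.eq_of_specializes_of_closure_mem ξ hZ
    have he' := Groth.Agent.Lib.Helper21.FibDim.fibreDimAt_eq_of_components f ξ hmax n (h (f ξ))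
    have hen : e = n := by
      rw [he] at he'
      exact_mod_cast he'
    rw [hdim, hen]

end Groth.Agent.S14403
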