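import Groth.Statements.S14404
import Groth.Agent.Lib.Helper21.FibDim7
import Groth.Agent.Lib.Helper21.ChartPt7
-- import your own Groth.Agent.* helpers here

set_option autoImplicit false
universe u
open CategoryTheory AlgebraicGeometry
open FlatMor

namespace Groth.Agent.S14404

/-- Let k be a field, X and Y irreducible schemes of finite type over k and f : X ⟶ Y a flat k-morphism.
Then dim Y ≤ dim X, and for every point y of Y every irreducible component Z of the scheme-theoretic
fibre of f over y has dim Z + dim Y = dim X; that is, every non-empty fibre has all its irreducible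
components of dimension dim X − dim Y. -/
theorem result (k : Type u) [Field k]
    {X Y : Scheme.{u}} (qX : X ⟶ Spec (CommRingCat.of k)) (qY : Y ⟶ Spec (CommRingCat.of k))
    [LocallyOfFiniteType qX] [QuasiCompact qX] [LocallyOfFiniteType qY] [QuasiCompact qY]
    [IrreducibleSpace X] [IrreducibleSpace Y] (f : X ⟶ Y) (hf : f ≫ qY = qX) [Flat f] :
    topologicalKrullDim Y ≤ topologicalKrullDim X ∧
      ∀ (y : Y), ∀ Z ∈ irreducibleComponents (f.fiber y : Type u),
        topologicalKrullDim Z + topologicalKrullDim Y = topologicalKrullDim X := by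
  let _ : X.Over (Spec (CommRingCat.of k)) := ⟨qX⟩
  let _ : Y.Over (Spec (CommRingCat.of k)) := ⟨qY⟩
  have hlX : LocallyOfFiniteType (X ↘ Spec (CommRingCat.of k)) := ‹LocallyOfFiniteType qX›
  have hlY : LocallyOfFiniteType (Y ↘ Spec (CommRingCat.of k)) := ‹LocallyOfFiniteType qY›
  have hf' : f ≫ (Y ↘ Spec (CommRingCat.of k)) = X ↘ Spec (CommRingCat.of k) := hf
  have hft : LocallyOfFiniteType f := by
    have h0 : LocallyOfFiniteType (f ≫ qY) := by rw [hf]; infer_instance
    exact locallyOfFiniteType_of_comp f qY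
  have : IsLocallyNoetherian Y := LocallyOfFiniteType.isLocallyNoetherian qY
  -- generic points
  have hη : f (genericPoint X) = genericPoint Y :=
    Groth.Agent.Lib.Helper21.FibDim.map_genericPoint_of_flat f
  obtain ⟨b, hb⟩ := Groth.Agent.Lib.Helper21.FibDim.exists_nat_trdeg k Y (f (genericPoint X))
  obtain ⟨e, he1, he2⟩ := Groth.Agent.Lib.Helper21.FibDim.fibreDimAt_eq_trdeg_of_maximal' f
    (genericPoint X) (fun x' hx' => (hx'.antisymm (genericPoint_specializes x')).eq)
  have ha := Groth.Agent.Lib.Helper21.FibDim.trdeg_add_of_comp k X Y f hf' (genericPoint X) b e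
    hb he2
  have hdimX : topologicalKrullDim X = ((b + e : ℕ) : WithBot ℕ∞) :=
    Groth.Agent.Lib.Helper21.ChartPt.topologicalKrullDim_eq_of_irreducible k X (b + e) ha
  have hdimY : topologicalKrullDim Y = (b : WithBot ℕ∞) := by
    refine Groth.Agent.Lib.Helper21.ChartPt.topologicalKrullDim_eq_of_irreducible k Y b ?_
    rw [← hη]
    exact hb
  refine ⟨?_, ?_⟩
  · rw [hdimX, hdimY]
    exact_mod_cast Nat.le_add_right b e
  · intro y Z hZ
    obtain ⟨z, hz, hdimZ, hmax⟩ :=
      Groth.Agent.Lib.Helper21.FibDim.exists_isGenericPoint_fiber f y Z hZ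
    obtain ⟨ξ, n, hcomp, hsp, hn1, -, hn3, -⟩ :=
      Groth.Agent.Lib.Helper21.FibDim.exists_generic_trdeg_eq_of_flat f (f.fiberι y z) hmax
    have hξ : ξ = genericPoint X := by
      have h1 : genericPoint X ⤳ ξ := genericPoint_specializes ξ
      exact (Groth.Agent.Lib.Helper21.FibDim.eq_of_specializes_of_closure_mem ξ hcomp _ h1).symm
    subst hξ
    have hen : e = n := by
      rw [he1] at hn3
      exact_mod_cast hn3
    subst hen
    rw [hdimZ, hn1, hdimX, hdimY]
    push_cast
    exact add_comm _ _

end Groth.Agent.S14404
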