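import Groth.Statements.S14405
import Mathlib.Algebra.Polynomial.Degree.Lemmas
import Mathlib.Algebra.Polynomial.Eval.Degree
import Mathlib.Algebra.Polynomial.Coeff
import Mathlib.RingTheory.Polynomial.Basic
import Mathlib.Tactic

set_option autoImplicit false
open Polynomial
open HilbNum

namespace Groth.Agent.S14405

open Polynomial in
theorem const_of_diff_zero (ψ : ℤ → ℚ) (h : ∀ m : ℤ, ψ m - ψ (m - 1) = 0) : ∀ m, ψ m = ψ 0 := by
  intro m
  induction m using Int.induction_on with
  | zero => rfl
  | succ n ih =>
    have := h (n + 1)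
    rw [add_sub_cancel_right] at this
    linarith
  | pred n ih =>
    have := h (-n)
    linarith

open Polynomial in
theorem aux : ∀ (d : ℕ) (φ : ℤ → ℚ) (Q : ℚ[X]), Q ≠ 0 → Q.natDegree = d →
    (∀ m : ℤ, φ m - φ (m - 1) = Q.eval (m : ℚ)) →
    ∃ P : ℚ[X], P.natDegree = d + 1 ∧ ∀ m : ℤ, φ m = P.eval (m : ℚ) := by
  intro d
  induction d using Nat.strong_induction_on with
  | _ d ih =>
    intro φ Q hQ hd h
    set a : ℚ := Q.leadingCoeff with ha
    have ha0 : a ≠ 0 := leadingCoeff_ne_zero.mpr hQ
    have hd1 : ((d : ℚ) + 1) ≠ 0 := by positivity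
    set c : ℚ := a / (d + 1) with hc
    have hc0 : c ≠ 0 := div_ne_zero ha0 hd1
    -- the difference polynomial of X^(d+1)
    set D : ℚ[X] := X ^ (d + 1) - (X + C (-1 : ℚ)) ^ (d + 1) with hD
    have hDcoeff : ∀ k, d < k → D.coeff k = 0 := by
      intro k hk
      rw [hD, coeff_sub, coeff_X_pow, coeff_X_add_C_pow]
      rcases Nat.lt_or_ge (d + 1) k with h1 | h1
      · rw [if_neg (by omega), Nat.choose_eq_zero_of_lt h1]; simp
      · have : k = d + 1 := by omega
        subst this
        simp
    have hDd : D.coeff d = d + 1 := by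
      rw [hD, coeff_sub, coeff_X_pow, coeff_X_add_C_pow, if_neg (by omega)]
      have : d + 1 - d = 1 := by omega
      rw [this, Nat.choose_succ_self_right]
      push_cast
      ring
    set Q' : ℚ[X] := Q - C c * D with hQ'
    have hQ'coeff : ∀ k, d ≤ k → Q'.coeff k = 0 := by
      intro k hk
      rw [hQ', coeff_sub, coeff_C_mul]
      rcases hk.lt_or_eq with h1 | h1
      · rw [hDcoeff k h1, coeff_eq_zero_of_natDegree_lt (by omega)]; simp
      · subst h1
        rw [hDd, hc, ← hd, coeff_natDegree, ← ha]
        field_simp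
        ring
    -- φ' := φ - c m^(d+1)
    set φ' : ℤ → ℚ := fun m => φ m - c * (m : ℚ) ^ (d + 1) with hφ'
    have hφ'diff : ∀ m : ℤ, φ' m - φ' (m - 1) = Q'.eval (m : ℚ) := by
      intro m
      simp only [hφ', hQ', hD, eval_sub, eval_mul, eval_C, eval_pow, eval_X, eval_add]
      have := h m
      have e : ((m : ℚ) + -1) = ((m - 1 : ℤ) : ℚ) := by push_cast; ring
      rw [e]
      linarith
    have hPtop : (C c * X ^ (d + 1) : ℚ[X]).natDegree = d + 1 := by
      rw [natDegree_C_mul_X_pow _ _ hc0]
    by_cases hQ'0 : Q' = 0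
    · have hconst := const_of_diff_zero φ' (fun m => by rw [hφ'diff, hQ'0, eval_zero])
      refine ⟨C c * X ^ (d + 1) + C (φ' 0), ?_, fun m => ?_⟩
      · rw [natDegree_add_C, hPtop]
      · have := hconst m
        simp only [eval_add, eval_mul, eval_C, eval_pow, eval_X]
        simp only [hφ'] at this ⊢
        linarith
    · have hlt : Q'.natDegree < d := by
        by_contra hge
        push Not at hge
        have := hQ'coeff Q'.natDegree hge
        rw [coeff_natDegree] at this
        exact hQ'0 (leadingCoeff_eq_zero.mp this)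
      obtain ⟨P', hP'deg, hP'⟩ := ih Q'.natDegree hlt φ' Q' hQ'0 rfl hφ'diff
      refine ⟨C c * X ^ (d + 1) + P', ?_, fun m => ?_⟩
      · rw [natDegree_add_eq_left_of_natDegree_lt (by rw [hPtop, hP'deg]; omega), hPtop]
      · have := hP' m
        simp only [eval_add, eval_mul, eval_C, eval_pow, eval_X]
        simp only [hφ'] at this
        linarith

/-- Let φ be a function from the integers to the rationals and Q a nonzero polynomial with rational
coefficients of degree d such that φ(m) - φ(m-1) = Q(m) for every integer m. Then there is a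
polynomial P with rational coefficients, of degree d + 1, such that φ(m) = P(m) for every integer m.
(The explicit form of P in the binomial basis is not part of this statement.) -/
theorem result (φ : ℤ → ℚ) (d : ℕ) (Q : ℚ[X]) (hQ : Q ≠ 0)
    (hd : Q.natDegree = d) (h : ∀ m : ℤ, φ m - φ (m - 1) = Q.eval (m : ℚ)) :
    ∃ P : ℚ[X], P.natDegree = d + 1 ∧ ∀ m : ℤ, φ m = P.eval (m : ℚ) := by
  exact aux d φ Q hQ hd h

end Groth.Agent.S14405
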