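import Groth.Statements.S14410
import Mathlib.Topology.Sheaves.Flasque

set_option autoImplicit false
universe u
open CategoryTheory TopologicalSpace
open CohTop

namespace Groth.Agent.S14410

/-- Let X be a topological space and 0 → F₁ → F₂ → F₃ → 0 a short exact sequence of sheaves of abelian
groups on X. If F₁ and F₃ are flasque (every restriction map is surjective), then F₂ is flasque.
(The published statement is for O_X-modules on a ringed space and is an equivalence; this row states
the implication from the outer terms to the middle term, for the underlying abelian sheaves.) -/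
theorem result (X : TopCat.{u})
    (S : ShortComplex (TopCat.Sheaf AddCommGrpCat.{u} X)) (hS : S.ShortExact)
    [S.X₁.IsFlasque] [S.X₃.IsFlasque] : S.X₂.IsFlasque := by
  refine ⟨fun {U V} i => ?_⟩
  refine (AddCommGrpCat.epi_iff_surjective _).mpr (fun s => ?_)
  -- g surjective on sections
  have hgU : Function.Surjective (S.g.hom.app U) :=
    (AddCommGrpCat.epi_iff_surjective _).mp (TopCat.Sheaf.IsFlasque.epi_of_shortExact (U := U.unop) hS)
  have h3 : Function.Surjective (S.X₃.obj.map i) :=
    (AddCommGrpCat.epi_iff_surjective _).mp inferInstance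
  have h1 : Function.Surjective (S.X₁.obj.map i) :=
    (AddCommGrpCat.epi_iff_surjective _).mp inferInstance
  obtain ⟨u₃, hu₃⟩ := h3 (S.g.hom.app V s)
  obtain ⟨t', ht'⟩ := hgU u₃
  have hnat : ∀ x, S.g.hom.app V (S.X₂.obj.map i x) = S.X₃.obj.map i (S.g.hom.app U x) := by
    intro x
    have := S.g.hom.naturality i
    exact congr($this x)
  have hnatf : ∀ x, S.f.hom.app V (S.X₁.obj.map i x) = S.X₂.obj.map i (S.f.hom.app U x) := by
    intro x
    have := S.f.hom.naturality i
    exact congr($this x)
  have hz : S.g.hom.app V (S.X₂.obj.map i t' - s) = 0 := by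
    rw [map_sub, hnat, ht', hu₃, sub_self]
  obtain ⟨a, ha⟩ := TopCat.Sheaf.sections_exact_of_left_exact (U := V.unop) hS.1 hS.2 _ hz
  obtain ⟨b, hb⟩ := h1 a
  refine ⟨t' - S.f.hom.app U b, ?_⟩
  rw [map_sub, ← hnatf, hb]
  have ha' : S.f.hom.app V a = S.X₂.obj.map i t' - s := ha
  rw [ha']
  abel

end Groth.Agent.S14410
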