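import Groth.Statements.S14413
import Groth.Agent.Lib.Helper10.Resolution
import Mathlib.CategoryTheory.Abelian.Projective.Ext
import Mathlib.Algebra.Category.ModuleCat.Projective
import Mathlib.Algebra.Category.ModuleCat.Ext.HasExt

set_option autoImplicit false
universe u
open CategoryTheory CategoryTheory.Limits
open CAlg

namespace Groth.Agent.S14413

open Groth.Agent.Lib.Helper10 in
theorem exists_res {C : Type*} [Category C] [Abelian C] [EnoughProjectives C] (d : ℕ) :
    ∀ (M : C), HasProjectiveDimensionLE M d →
      ∃ P : ProjectiveResolution M, ∀ i : ℕ, d < i → IsZero (P.complex.X i) := by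
  induction d with
  | zero =>
    intro M hM
    have : Projective M := (projective_iff_hasProjectiveDimensionLE_zero M).mpr hM
    refine ⟨ProjectiveResolution.self M, fun i hi => ?_⟩
    apply HomologicalComplex.isZero_single_obj_X
    omega
  | succ d ih =>
    intro M hM
    let S : ShortComplex C := ShortComplex.mk (kernel.ι (Projective.π M)) (Projective.π M)
      (kernel.condition _)
    have hS : S.ShortExact :=
      { exact := ShortComplex.exact_kernel _
        mono_f := by dsimp [S]; infer_instance
        epi_g := by dsimp [S]; infer_instance }
    have hK : HasProjectiveDimensionLT S.X₁ (d + 1) :=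
      hS.hasProjectiveDimensionLT_X₁ (d + 1) (by dsimp [S]; infer_instance) hM
    obtain ⟨Q, hQ⟩ := ih S.X₁ hK
    refine ⟨spliceResolution (Z := M) (inferInstance : Projective (Projective.over M))
      (kernel.ι (Projective.π M)) (Projective.π M) (kernel.condition _) hS Q, fun i hi => ?_⟩
    rw [spliceResolution_complex]
    obtain ⟨j, rfl⟩ : ∃ j, i = j + 1 := ⟨i - 1, by omega⟩
    exact hQ j (by omega)

/-- Let R be a commutative ring, M an R-module and d ≥ 0. Then M has projective dimension at most d in
the sense that Ext^i_R(M, N) = 0 for every i > d and every R-module N (Mathlib's Ext-vanishing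
definition) if and only if M has a projective resolution of length at most d, i.e. a projective
resolution P whose terms P_i are zero for all i > d (the definition of pd_R(M) ≤ d by resolutions). -/
theorem result (R : Type u) [CommRing R]
    (M : ModuleCat.{u} R) (d : ℕ) :
    HasProjectiveDimensionLE M d ↔
      ∃ P : ProjectiveResolution M, ∀ i : ℕ, d < i → IsZero (P.complex.X i) := by
  constructor
  · exact exists_res d M
  · rintro ⟨P, hP⟩
    refine HasProjectiveDimensionLT.mk (fun i hi Y e => ?_)
    obtain ⟨f, hf, rfl⟩ := P.extMk_surjective e (i + 1) rfl
    have : f = 0 := (hP i (by omega)).eq_of_src _ _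
    subst this
    exact P.extMk_zero _ _

end Groth.Agent.S14413
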