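import Groth.Statements.S14416
import Mathlib.RingTheory.Finiteness.Nakayama
import Mathlib.LinearAlgebra.TensorProduct.Quotient
import Mathlib.LinearAlgebra.FiniteDimensional.Basic
import Mathlib.RingTheory.TensorProduct.Finite
import Mathlib.Tactic
-- import your own Groth.Agent.* helpers here

set_option autoImplicit false
universe u
open scoped TensorProduct
open CAlg

namespace Groth.Agent.S14416


/-- If `1 ⊗ x = 0` in `κ(m) ⊗ A` for a maximal ideal `m`, then `x ∈ m A`. -/
theorem mem_smul_top_of_tmul_eq_zero {B A : Type u} [CommRing B] [CommRing A] [Algebra B A]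
    (m : Ideal B) [m.IsMaximal] (x : A)
    (hx : (1 : m.ResidueField) ⊗ₜ[B] x = 0) : x ∈ m • (⊤ : Submodule B A) := by
  let e1 : (B ⧸ m) ≃ₗ[B] m.ResidueField :=
    LinearEquiv.ofBijective ((Algebra.linearMap (B ⧸ m) m.ResidueField).restrictScalars B)
      m.bijective_algebraMap_quotient_residueField
  let E : (B ⧸ m) ⊗[B] A ≃ₗ[B] m.ResidueField ⊗[B] A :=
    TensorProduct.congr e1 (LinearEquiv.refl B A)
  have h1 : E ((1 : B ⧸ m) ⊗ₜ[B] x) = (1 : m.ResidueField) ⊗ₜ[B] x := by
    simp [E, e1]
  have h2 : ((1 : B ⧸ m) ⊗ₜ[B] x) = 0 := by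
    apply E.injective
    rw [h1, hx, map_zero]
  have h3 := congrArg (TensorProduct.quotTensorEquivQuotSMul A m) h2
  rw [TensorProduct.quotTensorEquivQuotSMul_mk_one_tmul, map_zero] at h3
  exact (Submodule.Quotient.mk_eq_zero _).1 h3

/-- Let B → A be a ring map with A a finitely generated B-module such that for every prime ideal p of B
the fibre κ(p) ⊗_B A has dimension at most one over the residue field κ(p). Then B → A is
surjective. In scheme language: a finite morphism whose degree at every point of the target is 0 or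
1 is a closed immersion. (The published statement assumes the two schemes Noetherian; that
hypothesis plays no role and is dropped here.) -/
theorem result
    (B A : Type u) [CommRing B] [CommRing A] [Algebra B A] [Module.Finite B A]
    (h : ∀ p : PrimeSpectrum B,
      Module.finrank p.asIdeal.ResidueField (p.asIdeal.ResidueField ⊗[B] A) ≤ 1) :
    Function.Surjective (algebraMap B A) := by
  classical
  set N : Submodule B A := LinearMap.range (Algebra.linearMap B A) with hNdef
  suffices hN : N = ⊤ by
    intro a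
    have : a ∈ N := by rw [hN]; trivial
    obtain ⟨b, hb⟩ := this
    exact ⟨b, hb⟩
  by_contra hne
  -- the quotient C = A ⧸ N is a nonzero finite module
  have hann : Module.annihilator B (A ⧸ N) ≠ ⊤ := by
    intro htop
    apply hne
    rw [eq_top_iff]
    intro a _
    have h1 : (1 : B) ∈ Module.annihilator B (A ⧸ N) := by rw [htop]; trivial
    have h2 := Module.mem_annihilator.1 h1 (Submodule.Quotient.mk a)
    rw [one_smul] at h2
    exact (Submodule.Quotient.mk_eq_zero _).1 h2
  obtain ⟨m, hm, hle⟩ := Ideal.exists_le_maximal _ hann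
  have hsup : N ⊔ m • (⊤ : Submodule B A) ≠ ⊤ := by
    intro htop
    have h1 : (⊤ : Submodule B (A ⧸ N)) ≤ m • (⊤ : Submodule B (A ⧸ N)) := by
      have h2 := congrArg (Submodule.map N.mkQ) htop
      rw [Submodule.map_sup, Submodule.map_smul'', Submodule.map_top, Submodule.range_mkQ,
        Submodule.mkQ_map_self, bot_sup_eq] at h2
      exact h2.ge
    obtain ⟨r, hr1, hr2⟩ := Submodule.exists_sub_one_mem_and_smul_eq_zero_of_fg_of_le_smul m
      (⊤ : Submodule B (A ⧸ N)) Module.Finite.fg_top h1
    have hr : r ∈ Module.annihilator B (A ⧸ N) :=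
      Module.mem_annihilator.2 fun c => hr2 c trivial
    have h3 : (1 : B) ∈ m := by
      have := m.sub_mem (hle hr) hr1
      simpa using this
    exact hm.ne_top ((Ideal.eq_top_iff_one _).2 h3)
  apply hsup
  rw [eq_top_iff]
  intro a _
  -- use the fibre at m
  have hfr := h ⟨m, hm.isPrime⟩
  change Module.finrank m.ResidueField (m.ResidueField ⊗[B] A) ≤ 1 at hfr
  have hc : ∃ c : m.ResidueField, c • ((1 : m.ResidueField) ⊗ₜ[B] (1 : A)) =
      (1 : m.ResidueField) ⊗ₜ[B] a := by
    by_cases h0 : ((1 : m.ResidueField) ⊗ₜ[B] (1 : A)) = 0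
    · refine ⟨0, ?_⟩
      rw [zero_smul]
      have : (1 : m.ResidueField) ⊗ₜ[B] a =
          ((1 : m.ResidueField) ⊗ₜ[B] a) * ((1 : m.ResidueField) ⊗ₜ[B] (1 : A)) := by
        rw [Algebra.TensorProduct.tmul_mul_tmul, mul_one, mul_one]
      rw [this, h0, mul_zero]
    · have hpos : 0 < Module.finrank m.ResidueField (m.ResidueField ⊗[B] A) :=
        Module.finrank_pos_iff_exists_ne_zero.2 ⟨_, h0⟩
      have h1 : Module.finrank m.ResidueField (m.ResidueField ⊗[B] A) = 1 := by omega
      exact exists_smul_eq_of_finrank_eq_one h1 h0 _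
  obtain ⟨c, hc⟩ := hc
  obtain ⟨b, rfl⟩ := m.algebraMap_residueField_surjective c
  have hx : (1 : m.ResidueField) ⊗ₜ[B] (a - b • (1 : A)) = 0 := by
    rw [TensorProduct.tmul_sub, ← hc, TensorProduct.smul_tmul', ← TensorProduct.smul_tmul,
      smul_eq_mul, mul_one, Algebra.smul_def, mul_one, sub_self]
  have hmem := mem_smul_top_of_tmul_eq_zero m _ hx
  have ha : a = b • (1 : A) + (a - b • (1 : A)) := by abel
  rw [ha]
  refine Submodule.add_mem_sup ⟨b, ?_⟩ hmem
  rw [Algebra.linearMap_apply, Algebra.smul_def, mul_one]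

end Groth.Agent.S14416
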