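import Groth.Statements.S14417
import Groth.Agent.Lib.Helper25.GenSmooth
import Groth.Agent.Lib.Helper25.FibreDimRank
import Groth.Agent.Lib.Helper21.FibDim7
import Groth.Agent.Lib.Helper18.DimFormula3
import Groth.Agent.Lib.Helper6.EtaleSq

set_option autoImplicit false
universe u
open CategoryTheory AlgebraicGeometry
open Variety

namespace Groth.Agent.S14417

open Groth.Agent.Lib.Helper25.GenSmooth Groth.Agent.Lib.Helper25.DomSepOmega Groth.Agent.Lib.Helper25.FibreDimRank
/-- Generic smoothness on the source: let π : X → Y be a dominant morphism of finite type between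
integral Noetherian schemes, sending the generic point of X to that of Y, such that the function
field K(Y) (equivalently K(X)) has characteristic zero, and let n be the transcendence degree of
K(X) over K(Y). Then there is a nonempty (equivalently dense) open subscheme U of X on which π
restricts to a smooth morphism U → Y of relative dimension n. -/
theorem result
    (X Y : Scheme.{u}) [IsIntegral X] [IsIntegral Y] [IsNoetherian X] [IsNoetherian Y]
    (π : X ⟶ Y) [LocallyOfFiniteType π] [QuasiCompact π]
    (hdom : π.base (genericPoint X) = genericPoint Y) [CharZero Y.functionField]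
    (n : ℕ) (hn : @Algebra.trdeg (Y.presheaf.stalk (π.base (genericPoint X))) X.functionField _ _
      (π.stalkMap (genericPoint X)).hom.toAlgebra = n) :
    ∃ U : X.Opens, (U : Set X).Nonempty ∧ SmoothOfRelativeDimension n (U.ι ≫ π) := by
  haveI : LocallyOfFinitePresentation π :=
    LocallyOfFinitePresentation.iff_locallyOfFiniteType.mpr inferInstance
  have hdr : DenseRange π.base := by
    intro y
    have h1 : y ∈ closure {genericPoint Y} := by
      rw [(genericPoint_spec Y).def]; trivial
    exact closure_mono (s := {genericPoint Y}) (t := Set.range π.base)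
      (Set.singleton_subset_iff.mpr ⟨genericPoint X, hdom⟩) h1
  -- characteristic zero residue field
  have key : ∀ y : Y, y = genericPoint Y → CharZero (Y.residueField y) := by
    rintro y rfl
    exact charZero_of_injective_ringHom (f := (Y.residue (genericPoint Y)).hom)
      (RingHom.injective _)
  haveI := key _ hdom
  have hfs : (π.residueFieldMap (genericPoint X)).hom.FormallySmooth := by
    have hess : (π.residueFieldMap (genericPoint X)).hom.EssFiniteType :=
      RingHom.EssFiniteType.residueFieldMap (LocallyOfFiniteType.stalkMap π (genericPoint X))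
    algebraize [(π.residueFieldMap (genericPoint X)).hom]
    exact Algebra.FormallySmooth.of_perfectField
  have hξ := genericPoint_mem_smoothLocus_of_formallySmooth π hdr hfs
  -- restrict to the smooth locus
  set W : X.Opens := π.smoothLocus with hW
  haveI : Smooth (W.ι ≫ π) := by
    rw [← Scheme.Hom.smoothLocus_eq_top_iff, ← Scheme.Hom.preimage_smoothLocus_eq]
    ext x
    simp only [Scheme.Hom.mem_preimage, TopologicalSpace.Opens.coe_top, Set.mem_univ, iff_true]
    exact x.2
  obtain ⟨m, V, hξV, hsm⟩ := exists_opens_smoothOfRelativeDimension (W.ι ≫ π) ⟨genericPoint X, hξ⟩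
  have hU : SmoothOfRelativeDimension m ((W.ι ''ᵁ V).ι ≫ π) := by
    have e : (W.ι ''ᵁ V).ι ≫ π = (W.ι.isoImage V).inv ≫ V.ι ≫ W.ι ≫ π := by
      rw [← W.ι.isoImage_inv_ι V, Category.assoc, Category.assoc]
    rw [e]
    exact (MorphismProperty.cancel_left_of_respectsIso
      (@SmoothOfRelativeDimension m) (W.ι.isoImage V).inv _).mpr hsm
  have hξU : genericPoint X ∈ W.ι ''ᵁ V := ⟨⟨genericPoint X, hξ⟩, hξV, rfl⟩
  -- identify the relative dimension
  have h1 : FlatMor.fibreDimAt ((W.ι ''ᵁ V).ι ≫ π) ⟨genericPoint X, hξU⟩ = (m : WithBot ℕ∞) :=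
    fibreDimAt_eq_of_smoothOfRelativeDimension m _ _
  have h2 := Groth.Agent.Lib.Helper6.EtaleSq.fibreDimAt_etale_square π ((W.ι ''ᵁ V).ι ≫ π)
    (W.ι ''ᵁ V).ι (𝟙 Y) (by rw [Category.comp_id]) ⟨genericPoint X, hξU⟩
  obtain ⟨e, he1, he2⟩ := Groth.Agent.Lib.Helper21.FibDim.fibreDimAt_eq_trdeg_of_maximal' π
    (genericPoint X) (fun x' h => (h.antisymm (genericPoint_specializes x')).eq)
  have hme : m = e := by
    have h3 : FlatMor.fibreDimAt π (genericPoint X) = (m : WithBot ℕ∞) := by
      rw [← h1, ← h2]; rfl
    rw [he1] at h3
    exact_mod_cast h3.symm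
  have hY := residue_bijective_of_isGenericPoint _ (isGenericPoint_map_genericPoint π hdr)
  have hX := residue_bijective_of_isGenericPoint _ (genericPoint_spec X)
  have h4 := @Groth.Agent.Lib.Helper18.DimFormula.trdeg_eq_of_ringEquiv
    (Y.presheaf.stalk (π.base (genericPoint X))) (Y.residueField (π.base (genericPoint X)))
    (X.presheaf.stalk (genericPoint X)) (X.residueField (genericPoint X)) _ _ _ _
    (π.stalkMap (genericPoint X)).hom.toAlgebra (π.residueFieldMap (genericPoint X)).hom.toAlgebra
    (RingEquiv.ofBijective _ hY) (RingEquiv.ofBijective _ hX) (by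
      have e := congrArg CommRingCat.Hom.hom (Scheme.residue_residueFieldMap π (genericPoint X))
      rw [CommRingCat.hom_comp, CommRingCat.hom_comp] at e
      exact e)
  have hnm : n = m := by
    have : (n : Cardinal) = (e : Cardinal) := by
      rw [← hn, ← he2]
      exact h4
    rw [hme]
    exact_mod_cast this
  subst hnm
  exact ⟨W.ι ''ᵁ V, ⟨genericPoint X, hξU⟩, hU⟩


end Groth.Agent.S14417
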