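import Groth.Statements.S14421
-- import your own Groth.Agent.* helpers here

set_option autoImplicit false
universe u v
open CategoryTheory
open HomAlg

namespace Groth.Agent.S14421

/-- Let φ : K → J be a morphism of cochain complexes of modules over a ring which is surjective in
degree p − 1. Then the map induced on cohomology in degree p is surjective if and only if the map
induced on cocycles in degree p is surjective. (Stated for cochain complexes indexed by the
integers; the published statement is for three-term complexes in degrees p − 1, p, p + 1, which
embed as such complexes.) -/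
theorem result {R : Type u} [Ring R]
    (K J : CochainComplex (ModuleCat.{v} R) ℤ) (φ : K ⟶ J) (p : ℤ) [Epi (φ.f (p - 1))] :
    Epi (HomologicalComplex.homologyMap φ p) ↔ Epi (HomologicalComplex.cyclesMap φ p) := by
  have hprev : (ComplexShape.up ℤ).prev p = p - 1 := by simp
  have nat : K.toCycles (p - 1) p ≫ HomologicalComplex.cyclesMap φ p =
      φ.f (p - 1) ≫ J.toCycles (p - 1) p := by
    rw [← cancel_mono (J.iCycles p)]
    simp
  constructor
  · intro hH
    apply Preadditive.epi_of_cancel_zero
    intro T g hg
    have h1 : J.toCycles (p - 1) p ≫ g = 0 := by
      rw [← cancel_epi (φ.f (p - 1)), ← Category.assoc, ← nat, Category.assoc, hg, Limits.comp_zero,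
        Limits.comp_zero]
    obtain ⟨gbar, hgbar⟩ : ∃ gbar, J.homologyπ p ≫ gbar = g :=
      ⟨(J.homologyIsCokernel (p - 1) p hprev).desc (Limits.CokernelCofork.ofπ g h1),
        (J.homologyIsCokernel (p - 1) p hprev).fac _ Limits.WalkingParallelPair.one⟩
    have h2 : HomologicalComplex.homologyMap φ p ≫ gbar = 0 := by
      rw [← cancel_epi (K.homologyπ p), HomologicalComplex.homologyπ_naturality_assoc, hgbar, hg,
        Limits.comp_zero]
    have h3 : gbar = 0 := by
      rw [← cancel_epi (HomologicalComplex.homologyMap φ p), h2, Limits.comp_zero]
    rw [← hgbar, h3, Limits.comp_zero]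
  · intro hZ
    have : Epi (K.homologyπ p ≫ HomologicalComplex.homologyMap φ p) := by
      rw [HomologicalComplex.homologyπ_naturality]
      infer_instance
    exact epi_of_epi (K.homologyπ p) _

end Groth.Agent.S14421
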