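import Groth.Statements.S14423
import Mathlib
import Groth.Agent.Lib.Helper21.TorBridge

set_option autoImplicit false
universe u
open CategoryTheory
open CAlg

namespace Groth.Agent.S14423



section GrFree

open MvPolynomial

variable {k : Type u} [Field k] {σ : Type} {M : Type u} [AddCommGroup M]
  [Module (MvPolynomial σ k) M] (ℳ : ℕ → AddSubgroup M)
  [SetLike.GradedSMul (MvPolynomial.homogeneousSubmodule σ k) ℳ] [DirectSum.Decomposition ℳ]

/-- the degree `e` component, as an additive map -/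
noncomputable def pe (e : ℕ) : M →+ M :=
  (ℳ e).subtype.comp ((DFinsupp.evalAddMonoidHom e).comp
    (DirectSum.decomposeAddEquiv ℳ).toAddMonoidHom)

theorem pe_apply (e : ℕ) (z : M) : pe ℳ e z = ((DirectSum.decompose ℳ z e : ℳ e) : M) := rfl

theorem pe_of_mem {c e : ℕ} {x : M} (hx : x ∈ ℳ c) : pe ℳ e x = if c = e then x else 0 := by
  rw [pe_apply]
  split_ifs with h
  · subst h
    exact DirectSum.decompose_of_mem_same ℳ hx
  · exact DirectSum.decompose_of_mem_ne ℳ hx h

theorem smul_mem_graded' {a d : ℕ} {s : MvPolynomial σ k}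
    (hs : s ∈ MvPolynomial.homogeneousSubmodule σ k a) {b : M} (hb : b ∈ ℳ d) :
    s • b ∈ ℳ (a + d) := by
  have h := SetLike.GradedSMul.smul_mem (A := MvPolynomial.homogeneousSubmodule σ k) (B := ℳ) hs hb
  simpa [vadd_eq_add] using h

theorem smul_eq_sum' (s : MvPolynomial σ k) (b : M) :
    s • b = ∑ a ∈ Finset.range (s.totalDegree + 1), MvPolynomial.homogeneousComponent a s • b := by
  rw [← Finset.sum_smul, MvPolynomial.sum_homogeneousComponent]

theorem pe_smul_mem_span (e d : ℕ) (s : MvPolynomial σ k) {b : M} (hb : b ∈ ℳ d) :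
    pe ℳ e (s • b) ∈ Submodule.span (MvPolynomial σ k) {b} := by
  rw [smul_eq_sum', map_sum]
  refine Submodule.sum_mem _ (fun a _ => ?_)
  rw [pe_of_mem ℳ (smul_mem_graded' ℳ (MvPolynomial.homogeneousComponent_mem a s) hb)]
  split_ifs
  · exact Submodule.smul_mem _ _ (Submodule.mem_span_singleton_self b)
  · exact zero_mem _

theorem pe_smul_eq_zero (d : ℕ) {t : MvPolynomial σ k} (ht : MvPolynomial.constantCoeff t = 0)
    {b : M} (hb : b ∈ ℳ d) : pe ℳ d (t • b) = 0 := by
  rw [smul_eq_sum', map_sum]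
  refine Finset.sum_eq_zero (fun a _ => ?_)
  rcases Nat.eq_zero_or_pos a with rfl | ha
  · have h0 : MvPolynomial.coeff 0 t = 0 := by
      rw [← MvPolynomial.constantCoeff_eq]; exact ht
    rw [MvPolynomial.homogeneousComponent_zero, h0, map_zero, zero_smul, map_zero]
  · rw [pe_of_mem ℳ (smul_mem_graded' ℳ (MvPolynomial.homogeneousComponent_mem a t) hb),
      if_neg (by omega)]

theorem pe_C_smul (d : ℕ) (c : k) {b : M} (hb : b ∈ ℳ d) :
    pe ℳ d ((MvPolynomial.C c : MvPolynomial σ k) • b) = (MvPolynomial.C c : MvPolynomial σ k) • b := by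
  have hC : (MvPolynomial.C c : MvPolynomial σ k) ∈ MvPolynomial.homogeneousSubmodule σ k 0 :=
    MvPolynomial.isHomogeneous_C σ c
  rw [pe_of_mem ℳ (smul_mem_graded' ℳ hC hb), if_pos (Nat.zero_add d)]

end GrFree

set_option maxHeartbeats 1600000 in
open CategoryTheory in
theorem exists_homog_basis (k : Type u) [Field k] (n : ℕ)
    (M : Type u) [AddCommGroup M] [Module (MvPolynomial (Fin (n + 1)) k) M]
    [Module.Finite (MvPolynomial (Fin (n + 1)) k) M]
    (ℳ : ℕ → AddSubgroup M)
    [SetLike.GradedSMul (MvPolynomial.homogeneousSubmodule (Fin (n + 1)) k) ℳ]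
    [DirectSum.Decomposition ℳ]
    (h : Limits.IsZero (((Tor (ModuleCat.{u} (MvPolynomial (Fin (n + 1)) k)) 1).obj
      (ModuleCat.of (MvPolynomial (Fin (n + 1)) k) M)).obj
      (ModuleCat.of (MvPolynomial (Fin (n + 1)) k)
        (MvPolynomial (Fin (n + 1)) k ⧸
          RingHom.ker (MvPolynomial.constantCoeff : MvPolynomial (Fin (n + 1)) k →+* k))))) :
    ∃ (ι : Type u) (b : Module.Basis ι (MvPolynomial (Fin (n + 1)) k) M),
      ∀ i, SetLike.IsHomogeneousElem ℳ (b i) := by
  classical
  -- Step 1: a homogeneous generating set of minimal cardinality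
  have hex : ∃ c : ℕ, ∃ B : Finset M, B.card = c ∧ (∀ x ∈ B, SetLike.IsHomogeneousElem ℳ x) ∧
      Submodule.span (MvPolynomial (Fin (n + 1)) k) (B : Set M) = ⊤ := by
    obtain ⟨G, hG⟩ := (Module.finite_def.1
      (inferInstance : Module.Finite (MvPolynomial (Fin (n + 1)) k) M))
    refine ⟨_, G.biUnion (fun g => (DirectSum.decompose ℳ g).support.image
      (fun e => ((DirectSum.decompose ℳ g e : ℳ e) : M))), rfl, ?_, ?_⟩
    · intro x hx
      obtain ⟨g, -, hx⟩ := Finset.mem_biUnion.1 hx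
      obtain ⟨e, -, rfl⟩ := Finset.mem_image.1 hx
      exact ⟨e, (DirectSum.decompose ℳ g e).2⟩
    · rw [eq_top_iff, ← hG, Submodule.span_le]
      intro g hg
      rw [SetLike.mem_coe, ← DirectSum.sum_support_decompose ℳ g]
      refine Submodule.sum_mem _ (fun e he => Submodule.subset_span ?_)
      exact Finset.mem_coe.2 (Finset.mem_biUnion.2 ⟨g, hg, Finset.mem_image.2 ⟨e, he, rfl⟩⟩)
  obtain ⟨B, hBc, hBh, hBs⟩ := Nat.find_spec hex
  have hmin : ∀ B' : Finset M, (∀ x ∈ B', SetLike.IsHomogeneousElem ℳ x) →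
      Submodule.span (MvPolynomial (Fin (n + 1)) k) (B' : Set M) = ⊤ → B.card ≤ B'.card := by
    intro B' h1 h2
    rw [hBc]
    exact Nat.find_min' hex ⟨B', rfl, h1, h2⟩
  -- Step 2: the presentation
  obtain ⟨φ, hφdef⟩ : ∃ φ : (B →₀ MvPolynomial (Fin (n + 1)) k) →ₗ[MvPolynomial (Fin (n + 1)) k] M,
      φ = Finsupp.linearCombination (MvPolynomial (Fin (n + 1)) k) (Subtype.val : B → M) :=
    ⟨_, rfl⟩
  have hφapp : ∀ z : B →₀ MvPolynomial (Fin (n + 1)) k,
      φ z = ∑ i ∈ z.support, z i • (i : M) := by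
    intro z
    rw [hφdef, Finsupp.linearCombination_apply, Finsupp.sum]
  have hφs : Function.Surjective φ := by
    rw [← LinearMap.range_eq_top, hφdef, Finsupp.range_linearCombination]
    rw [eq_top_iff, ← hBs]
    refine Submodule.span_mono ?_
    intro x hx
    exact ⟨⟨x, Finset.mem_coe.1 hx⟩, rfl⟩
  -- Step 3: relations have coefficients without constant term
  have hcoef : ∀ z : B →₀ MvPolynomial (Fin (n + 1)) k, φ z = 0 →
      ∀ i, MvPolynomial.constantCoeff (z i) = 0 := by
    intro z hz i0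
    by_contra hc
    obtain ⟨d, hd⟩ := hBh i0.1 i0.2
    obtain ⟨c, hcdef⟩ : ∃ c : k, c = MvPolynomial.constantCoeff (z i0) := ⟨_, rfl⟩
    rw [← hcdef] at hc
    have hrel : ∑ i ∈ z.support, z i • (i : M) = 0 := by rw [← hφapp, hz]
    have hsplit : z i0 • (i0 : M) + ∑ i ∈ z.support.erase i0, z i • (i : M) = 0 := by
      by_cases hi0 : i0 ∈ z.support
      · rw [Finset.add_sum_erase z.support (fun i => z i • (i : M)) hi0]
        exact hrel
      · exfalso
        apply hc
        rw [hcdef, Finsupp.notMem_support_iff.1 hi0, map_zero]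
    have hpe := congrArg (pe ℳ d) hsplit
    rw [map_add, map_zero, map_sum] at hpe
    obtain ⟨t, ht⟩ : ∃ t : MvPolynomial (Fin (n + 1)) k, t = z i0 - MvPolynomial.C c := ⟨_, rfl⟩
    have ht0 : MvPolynomial.constantCoeff t = 0 := by
      rw [ht, map_sub, MvPolynomial.constantCoeff_C, hcdef, sub_self]
    have hz0 : z i0 = MvPolynomial.C c + t := by rw [ht]; ring
    have h1 : pe ℳ d (z i0 • (i0 : M)) = (MvPolynomial.C c : MvPolynomial (Fin (n + 1)) k) • (i0 : M) := by
      rw [hz0, add_smul, map_add, pe_smul_eq_zero ℳ d ht0 hd, add_zero, pe_C_smul ℳ d c hd]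
    have hmem : (MvPolynomial.C c : MvPolynomial (Fin (n + 1)) k) • (i0 : M) ∈
        Submodule.span (MvPolynomial (Fin (n + 1)) k) ((B.erase i0.1 : Finset M) : Set M) := by
      have e1 : (MvPolynomial.C c : MvPolynomial (Fin (n + 1)) k) • (i0 : M) =
          - ∑ i ∈ z.support.erase i0, pe ℳ d (z i • (i : M)) := by
        rw [← h1]
        exact eq_neg_of_add_eq_zero_left hpe
      rw [e1]
      refine neg_mem (Submodule.sum_mem _ (fun i hi => ?_))
      obtain ⟨di, hdi⟩ := hBh i.1 i.2
      refine Submodule.span_mono ?_ (pe_smul_mem_span ℳ d di (z i) hdi)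
      rw [Set.singleton_subset_iff, Finset.mem_coe, Finset.mem_erase]
      exact ⟨fun hh => (Finset.mem_erase.1 hi).1 (Subtype.ext hh), i.2⟩
    have hb0 : (i0 : M) ∈
        Submodule.span (MvPolynomial (Fin (n + 1)) k) ((B.erase i0.1 : Finset M) : Set M) := by
      have e2 : (i0 : M) = (MvPolynomial.C c⁻¹ : MvPolynomial (Fin (n + 1)) k) •
          ((MvPolynomial.C c : MvPolynomial (Fin (n + 1)) k) • (i0 : M)) := by
        rw [smul_smul, ← MvPolynomial.C_mul, inv_mul_cancel₀ hc, MvPolynomial.C_1, one_smul]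
      have hm2 := Submodule.smul_mem _ (MvPolynomial.C c⁻¹ : MvPolynomial (Fin (n + 1)) k) hmem
      rwa [← e2] at hm2
    have hspan : Submodule.span (MvPolynomial (Fin (n + 1)) k)
        ((B.erase i0.1 : Finset M) : Set M) = ⊤ := by
      rw [eq_top_iff, ← hBs, Submodule.span_le]
      intro x hx
      by_cases hx0 : x = i0.1
      · rw [hx0]; exact hb0
      · exact Submodule.subset_span (Finset.mem_coe.2 (Finset.mem_erase.2 ⟨hx0, hx⟩))
    have hle := hmin (B.erase i0.1) (fun x hx => hBh x (Finset.mem_of_mem_erase hx)) hspan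
    rw [Finset.card_erase_of_mem i0.2] at hle
    have hpos : 0 < B.card := Finset.card_pos.2 ⟨i0.1, i0.2⟩
    omega
  -- Step 4: Tor
  obtain ⟨I, hI⟩ : ∃ I : Ideal (MvPolynomial (Fin (n + 1)) k), I =
      RingHom.ker (MvPolynomial.constantCoeff : MvPolynomial (Fin (n + 1)) k →+* k) := ⟨_, rfl⟩
  rw [← hI] at h
  have hKmem : ∀ z : LinearMap.ker φ, φ (z : B →₀ MvPolynomial (Fin (n + 1)) k) = 0 :=
    fun z => z.2
  let i₂ : ModuleCat.of (MvPolynomial (Fin (n + 1)) k) (LinearMap.ker φ) ⟶
      ModuleCat.of (MvPolynomial (Fin (n + 1)) k) (B →₀ MvPolynomial (Fin (n + 1)) k) :=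
    ModuleCat.ofHom (LinearMap.ker φ).subtype
  let p₂ : ModuleCat.of (MvPolynomial (Fin (n + 1)) k) (B →₀ MvPolynomial (Fin (n + 1)) k) ⟶
      ModuleCat.of (MvPolynomial (Fin (n + 1)) k) M := ModuleCat.ofHom φ
  have w₂ : i₂ ≫ p₂ = 0 := by
    ext x
    simp only [i₂, p₂, ModuleCat.hom_comp, ModuleCat.hom_ofHom, LinearMap.comp_apply,
      ModuleCat.hom_zero, LinearMap.zero_apply, Submodule.subtype_apply]
    exact hKmem x
  have hS₂ : (ShortComplex.mk i₂ p₂ w₂).ShortExact := by
    exact ModuleCat.shortComplex_shortExact _ (LinearMap.exact_subtype_ker_map φ)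
      (Submodule.injective_subtype _) hφs
  have hinj : Function.Injective ((LinearMap.ker φ).subtype.rTensor (MvPolynomial (Fin (n + 1)) k ⧸ I)) :=
    Groth.Agent.Lib.Helper21.injective_rTensor_of_isZero_tor_one (ShortComplex.mk i₂ p₂ w₂)
      (ModuleCat.of (MvPolynomial (Fin (n + 1)) k) (MvPolynomial (Fin (n + 1)) k ⧸ I)) hS₂ h
  -- Step 5: `K = I K`
  have hKI : (⊤ : Submodule (MvPolynomial (Fin (n + 1)) k) (LinearMap.ker φ)) ≤ I • ⊤ := by
    intro x _
    have hx0 : ((LinearMap.ker φ).subtype.rTensor (MvPolynomial (Fin (n + 1)) k ⧸ I))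
        (x ⊗ₜ[MvPolynomial (Fin (n + 1)) k] (1 : MvPolynomial (Fin (n + 1)) k ⧸ I)) = 0 := by
      rw [LinearMap.rTensor_tmul, Submodule.subtype_apply]
      have hx : (x : B →₀ MvPolynomial (Fin (n + 1)) k) =
          ∑ i ∈ (x : B →₀ MvPolynomial (Fin (n + 1)) k).support,
            (x : B →₀ MvPolynomial (Fin (n + 1)) k) i •
              Finsupp.single i (1 : MvPolynomial (Fin (n + 1)) k) := by
        conv_lhs => rw [← Finsupp.sum_single (x : B →₀ MvPolynomial (Fin (n + 1)) k)]
        rw [Finsupp.sum]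
        refine Finset.sum_congr rfl (fun i _ => ?_)
        rw [Finsupp.smul_single, smul_eq_mul, mul_one]
      rw [hx, TensorProduct.sum_tmul]
      refine Finset.sum_eq_zero (fun i _ => ?_)
      rw [TensorProduct.smul_tmul]
      have e3 : ((x : B →₀ MvPolynomial (Fin (n + 1)) k) i) •
          (1 : MvPolynomial (Fin (n + 1)) k ⧸ I) = 0 := by
        have e5 : ((x : B →₀ MvPolynomial (Fin (n + 1)) k) i) •
            (1 : MvPolynomial (Fin (n + 1)) k ⧸ I) =
            Ideal.Quotient.mk I ((x : B →₀ MvPolynomial (Fin (n + 1)) k) i) := by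
          rw [← map_one (Ideal.Quotient.mk I)]
          refine (Submodule.Quotient.mk_smul I _ _).symm.trans ?_
          rw [smul_eq_mul, mul_one]
          rfl
        rw [e5]
        refine Ideal.Quotient.eq_zero_iff_mem.2 ?_
        rw [hI, RingHom.mem_ker]
        exact hcoef _ (hKmem x) i
      rw [e3, TensorProduct.tmul_zero]
    have hx1 : x ⊗ₜ[MvPolynomial (Fin (n + 1)) k] (1 : MvPolynomial (Fin (n + 1)) k ⧸ I) = 0 :=
      hinj (by rw [hx0, map_zero])
    have h2 := TensorProduct.tensorQuotEquivQuotSMul_tmul_mk I x (1 : MvPolynomial (Fin (n + 1)) k)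
    rw [map_one, one_smul, hx1, map_zero] at h2
    exact (Submodule.Quotient.mk_eq_zero _).1 h2.symm
  -- Step 6: Nakayama
  have hKfg : (⊤ : Submodule (MvPolynomial (Fin (n + 1)) k) (LinearMap.ker φ)).FG :=
    Module.finite_def.1 inferInstance
  have hN := Submodule.exists_sub_one_mem_and_smul_eq_zero_of_fg_of_le_smul
    (R := MvPolynomial (Fin (n + 1)) k) (M := ↥(LinearMap.ker φ)) I ⊤ hKfg hKI
  obtain ⟨r, hr1, hr⟩ := hN
  have hr0 : r ≠ 0 := by
    rintro rfl
    rw [hI, RingHom.mem_ker] at hr1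
    simp at hr1
  have hφi : Function.Injective φ := by
    rw [← LinearMap.ker_eq_bot, eq_bot_iff]
    intro z hz
    have h0 := hr ⟨z, hz⟩ trivial
    have h1 : r • z = 0 := congrArg Subtype.val h0
    rw [Submodule.mem_bot]
    ext i : 1
    have h3 := DFunLike.congr_fun h1 i
    rw [Finsupp.smul_apply, smul_eq_mul, Finsupp.zero_apply] at h3
    rw [Finsupp.zero_apply]
    exact (mul_eq_zero.1 h3).resolve_left hr0
  -- Step 7: the basis
  refine ⟨B, Module.Basis.ofRepr (LinearEquiv.ofBijective φ ⟨hφi, hφs⟩).symm, fun i => ?_⟩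
  have e4 : Module.Basis.ofRepr (LinearEquiv.ofBijective φ ⟨hφi, hφs⟩).symm i = (i : M) := by
    rw [← Module.Basis.repr_symm_single_one]
    show (LinearEquiv.ofBijective φ ⟨hφi, hφs⟩).symm.symm (Finsupp.single i 1) = _
    rw [LinearEquiv.symm_symm]
    show φ (Finsupp.single i 1) = _
    rw [hφdef, Finsupp.linearCombination_single, one_smul]
  rw [e4]
  exact hBh i.1 i.2

/-- Graded freeness criterion: let k be a field, S = k[x_0, …, x_n] with its standard grading by degree,
and M a finitely generated graded S-module. If Tor_1^S(M, k) = 0, where k = S/S_+ (S modulo the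
ideal of polynomials with zero constant term) and Tor_1^S(M, ·) is the first left derived functor of
M ⊗_S ·, then M is free with a basis of homogeneous elements, i.e. M is isomorphic as a graded
module to a finite direct sum of shifted copies S(−d_i). (Here the module is graded in non-negative
degrees; the published statement allows any integer degrees.) -/
theorem result (k : Type u) [Field k] (n : ℕ)
    (M : Type u) [AddCommGroup M] [Module (MvPolynomial (Fin (n + 1)) k) M]
    [Module.Finite (MvPolynomial (Fin (n + 1)) k) M]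
    (ℳ : ℕ → AddSubgroup M)
    [SetLike.GradedSMul (MvPolynomial.homogeneousSubmodule (Fin (n + 1)) k) ℳ]
    [DirectSum.Decomposition ℳ]
    (h : Limits.IsZero (((Tor (ModuleCat.{u} (MvPolynomial (Fin (n + 1)) k)) 1).obj
      (ModuleCat.of (MvPolynomial (Fin (n + 1)) k) M)).obj
      (ModuleCat.of (MvPolynomial (Fin (n + 1)) k)
        (MvPolynomial (Fin (n + 1)) k ⧸
          RingHom.ker (MvPolynomial.constantCoeff : MvPolynomial (Fin (n + 1)) k →+* k))))) :
    ∃ (ι : Type u) (b : Module.Basis ι (MvPolynomial (Fin (n + 1)) k) M),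
      ∀ i, SetLike.IsHomogeneousElem ℳ (b i) := by

  exact exists_homog_basis k n M ℳ h

end Groth.Agent.S14423
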