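import Groth.Statements.S14424
import Mathlib
import Groth.Agent.Lib.Helper18.CMRing

set_option autoImplicit false
universe u
open LocCoh

namespace Groth.Agent.S14424

/-- Let R be a Noetherian ring. Then R is Cohen–Macaulay (every localization at a prime ideal is a
Cohen–Macaulay local ring) if and only if for every proper ideal a of R the a-depth of R equals the
height (codimension) of a. (The published statement defines a Cohen–Macaulay ring by its
localizations at maximal ideals; this row uses all prime ideals, an equivalent definition because
Cohen–Macaulayness passes to localizations.) -/
theorem result (R : Type u) [CommRing R] [IsNoetherianRing R] :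
    LocCoh.IsCohenMacaulayRing R ↔ ∀ a : Ideal R, a ≠ ⊤ → LocCoh.idealDepth a R = a.height := by
  constructor
  · intro hR a ha
    exact le_antisymm (Groth.Agent.Lib.Helper18.CM.idealDepth_le_height a ha)
      (Groth.Agent.Lib.Helper18.CM.height_le_idealDepth_of_isCohenMacaulayRing a ha)
  · intro h
    exact
      { isCohenMacaulayLocalRing_localization := fun P _ =>
          Groth.Agent.Lib.Helper18.CM.isCohenMacaulayLocalRing_localization_of_idealDepth_eq_height
            h P }

end Groth.Agent.S14424
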