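import Groth.Statements.S14426
import Groth.Agent.Lib.Helper28.KoszulDepth

set_option autoImplicit false
universe u
open Koszul3

namespace Groth.Agent.S14426

open CategoryTheory CategoryTheory.Limits in
/-- Let (R, m) be a Noetherian local ring, M a nonzero finitely generated R-module and x_1, …, x_n
elements of m generating the ideal a. Then depth(a, M) ≤ n; the Koszul cohomology H^p(x; M) vanishes
for every p < depth(a, M); and H^r(x; M) is nonzero for r = depth(a, M). (Cohomological indexing
with H^n(x; M) = M/(x)M; in homological indexing this reads H_i = 0 for i > n − r and H_{n−r} ≠ 0.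
Koszul complex realised by iterated mapping cones, as in the prelude.) -/
theorem result {R : Type u} [CommRing R] [IsNoetherianRing R] [IsLocalRing R]
    (M : Type u) [AddCommGroup M] [Module R M] [Module.Finite R M] [Nontrivial M]
    (xs : List R) (hxs : ∀ x ∈ xs, x ∈ IsLocalRing.maximalIdeal R) :
    LocCoh.idealDepth (Ideal.span {x | x ∈ xs}) M ≤ xs.length ∧
      (∀ p : ℕ, (p : ℕ∞) < LocCoh.idealDepth (Ideal.span {x | x ∈ xs}) M → IsZero (CohIII.koszulH xs (ModuleCat.of R M) p)) ∧
      (∀ r : ℕ, LocCoh.idealDepth (Ideal.span {x | x ∈ xs}) M = r → ¬ IsZero (CohIII.koszulH xs (ModuleCat.of R M) r)) := by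
  have hle : Ideal.span {x | x ∈ xs} ≤ IsLocalRing.maximalIdeal R := by
    rw [Ideal.span_le]; exact fun x hx => hxs x hx
  have hIM : Ideal.span {x | x ∈ xs} • (⊤ : Submodule R M) ≠ ⊤ :=
    Groth.Agent.Lib.Helper28.Koszul.smul_top_ne_top M _ hle
  have h1 : LocCoh.idealDepth (Ideal.span {x | x ∈ xs}) M ≤ xs.length := by
    by_contra hcon
    rw [not_le] at hcon
    have h2 : ((xs.length + 1 : ℕ) : ℕ∞) ≤ LocCoh.idealDepth (Ideal.span {x | x ∈ xs}) M := by
      push_cast
      exact Order.add_one_le_of_lt hcon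
    rw [Groth.Agent.Lib.Helper16.Depth.le_idealDepth_iff] at h2
    rcases h2 with h | ⟨rs, hlen, hwr, hmem⟩
    · exact hIM h
    · have hz := Groth.Agent.Lib.Helper28.Koszul.isZero_homology_of_isWeaklyRegular xs rs M hwr hmem 0
        (by rw [hlen]; push_cast; omega)
      obtain ⟨e⟩ := Groth.Agent.Lib.Helper28.Koszul.nonempty_homologyZero_equiv M xs
      have hs : Subsingleton ((CohIII.koszulCx (ModuleCat.of R M) xs).homology 0) :=
        ModuleCat.subsingleton_of_isZero hz
      have hs' : Subsingleton (M ⧸ (Ideal.ofList xs • (⊤ : Submodule R M))) := e.symm.subsingleton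
      rw [Submodule.Quotient.subsingleton_iff] at hs'
      exact hIM hs'
  refine ⟨h1, ?_, ?_⟩
  · intro p hp
    have h2 : ((p + 1 : ℕ) : ℕ∞) ≤ LocCoh.idealDepth (Ideal.span {x | x ∈ xs}) M := by
      push_cast
      exact Order.add_one_le_of_lt hp
    rw [Groth.Agent.Lib.Helper16.Depth.le_idealDepth_iff] at h2
    rcases h2 with h | ⟨rs, hlen, hwr, hmem⟩
    · exact absurd h hIM
    · exact Groth.Agent.Lib.Helper28.Koszul.isZero_homology_of_isWeaklyRegular xs rs M hwr hmem _
        (by rw [hlen]; push_cast; omega)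
  · intro r hr
    have h2 : Groth.Agent.Lib.Helper16.Depth.HasRegSeq (Ideal.span {x | x ∈ xs}) M r := by
      have : ((r : ℕ) : ℕ∞) ≤ LocCoh.idealDepth (Ideal.span {x | x ∈ xs}) M := by rw [hr]
      rw [Groth.Agent.Lib.Helper16.Depth.le_idealDepth_iff] at this
      rcases this with h | h
      · exact absurd h hIM
      · exact h
    have h3 : ¬ Groth.Agent.Lib.Helper16.Depth.HasRegSeq (Ideal.span {x | x ∈ xs}) M (r + 1) := by
      intro h
      have : ((r + 1 : ℕ) : ℕ∞) ≤ LocCoh.idealDepth (Ideal.span {x | x ∈ xs}) M := by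
        rw [Groth.Agent.Lib.Helper16.Depth.le_idealDepth_iff]
        exact Or.inr h
      rw [hr] at this
      have : (r + 1 : ℕ) ≤ r := by exact_mod_cast this
      omega
    exact Groth.Agent.Lib.Helper28.Koszul.not_isZero_homology_of_maximal xs hxs r M h2 h3

end Groth.Agent.S14426
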