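import Groth.Statements.S14427
import Mathlib.Algebra.Order.Antidiag.FinsuppEquiv
import Mathlib.LinearAlgebra.Dimension.Constructions
import Mathlib.LinearAlgebra.FiniteDimensional.Lemmas
import Mathlib.LinearAlgebra.LinearIndependent.Lemmas
import Mathlib.Tactic
-- import your own Groth.Agent.* helpers here

set_option autoImplicit false
universe u
open CAlgX

namespace Groth.Agent.S14427


theorem finrank_homog (k : Type*) [Field k] (m : ℕ) :
    Module.finrank k (MvPolynomial.homogeneousSubmodule (Fin 3) k m) = (m + 2).choose 2 := by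
  classical
  rw [MvPolynomial.homogeneousSubmodule_eq_finsupp_supported]
  have hs : {d : Fin 3 →₀ ℕ | d.degree = m} =
      ↑((Finset.univ : Finset (Fin 3)).finsuppAntidiag m) := by
    ext d
    simp [Finset.mem_finsuppAntidiag, Finsupp.degree_eq_sum]
  have key : ∀ (s : Set (Fin 3 →₀ ℕ)) (t : Finset (Fin 3 →₀ ℕ)), s = ↑t →
      Module.finrank k (AddMonoidAlgebra.supported k k s) = t.card := by
    rintro s t rfl
    rw [(AddMonoidAlgebra.supportedEquivFinsupp (R := k) (S := k)
      (↑t : Set (Fin 3 →₀ ℕ))).finrank_eq, Module.finrank_finsupp_self]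
    simp
  rw [key _ _ hs, Finset.card_finsuppAntidiag_nat_eq_choose]
  simp only [Finset.card_univ, Fintype.card_fin]
  have : 3 + m - 1 = m + 2 := by omega
  rw [this, Nat.choose_symm_add]

theorem exists_form (k : Type*) [Field k] (v w : Fin 3 → k) (h : LinearIndependent k ![v, w]) :
    ∃ ℓ : MvPolynomial (Fin 3) k, ℓ.IsHomogeneous 1 ∧ MvPolynomial.eval w ℓ = 0 ∧
      MvPolynomial.eval v ℓ ≠ 0 := by
  have hex : ∃ i j, v i * w j - v j * w i ≠ 0 := by
    by_contra hcon
    push Not at hcon
    rw [LinearIndependent.pair_iff] at h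
    have hj : ∀ j, w j = 0 ∧ -(v j) = 0 := fun j => h (w j) (-(v j)) (by
      ext i
      simp only [Pi.add_apply, Pi.smul_apply, smul_eq_mul, Pi.zero_apply]
      have := hcon i j
      linear_combination this)
    have hv : v = 0 := funext fun j => by simpa using (hj j).2
    have := h 1 0 (by simp [hv])
    exact one_ne_zero this.1
  obtain ⟨i, j, hij⟩ := hex
  refine ⟨MvPolynomial.C (w j) * MvPolynomial.X i - MvPolynomial.C (w i) * MvPolynomial.X j,
    ?_, ?_, ?_⟩
  · exact (MvPolynomial.isHomogeneous_C_mul_X _ _).sub (MvPolynomial.isHomogeneous_C_mul_X _ _)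
  · simp only [map_sub, map_mul, MvPolynomial.eval_C, MvPolynomial.eval_X]
    ring
  · simp only [map_sub, map_mul, MvPolynomial.eval_C, MvPolynomial.eval_X]
    intro h'
    apply hij
    linear_combination h'

/-- Let k be a field and Λ a set of n ≥ 3 nonzero vectors of k^3 which are pairwise linearly
independent, i.e. n distinct k-rational points of the projective plane. Then the space of
homogeneous forms of degree n − 1 in k[x_0, x_1, x_2] vanishing at every point of Λ — the global
sections of I_Λ(n − 1) — has dimension C(n+1, 2) − n over k, the same for all such Λ. (The published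
statement is over an algebraically closed field; this row allows any field and k-rational points,
which is all its argument uses.) -/
theorem result (k : Type u) [Field k] (n : ℕ) (hn : 3 ≤ n)
    (Λ : Finset (Fin 3 → k)) (hcard : Λ.card = n) (h0 : ∀ v ∈ Λ, v ≠ 0)
    (hdist : ∀ v ∈ Λ, ∀ w ∈ Λ, v ≠ w → LinearIndependent k ![v, w]) :
    Module.finrank k ↥(MvPolynomial.homogeneousSubmodule (Fin 3) k (n - 1) ⊓ ⨅ v ∈ Λ, LinearMap.ker (MvPolynomial.aeval v).toLinearMap) = Nat.choose (n + 1) 2 - n := by
  classical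
  set m := n - 1 with hm
  set V := MvPolynomial.homogeneousSubmodule (Fin 3) k m with hV
  let ev' : MvPolynomial (Fin 3) k →ₗ[k] (Λ → k) :=
    LinearMap.pi fun v : Λ => (MvPolynomial.aeval (v : Fin 3 → k)).toLinearMap
  have hker : (⨅ v ∈ Λ, LinearMap.ker (MvPolynomial.aeval (R := k) (S₁ := k) v).toLinearMap) =
      LinearMap.ker ev' := by
    rw [LinearMap.ker_pi, iInf_subtype']
  let ev := ev'.domRestrict V
  -- separating forms
  have hL : ∀ v w : Fin 3 → k, ∃ ℓ : MvPolynomial (Fin 3) k, v ∈ Λ → w ∈ Λ → v ≠ w →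
      (ℓ.IsHomogeneous 1 ∧ MvPolynomial.eval w ℓ = 0 ∧ MvPolynomial.eval v ℓ ≠ 0) := by
    intro v w
    by_cases hc : v ∈ Λ ∧ w ∈ Λ ∧ v ≠ w
    · obtain ⟨ℓ, hℓ⟩ := exists_form k v w (hdist v hc.1 w hc.2.1 hc.2.2)
      exact ⟨ℓ, fun _ _ _ => hℓ⟩
    · exact ⟨0, fun h1 h2 h3 => absurd ⟨h1, h2, h3⟩ hc⟩
  choose L hL using hL
  let P : (Fin 3 → k) → MvPolynomial (Fin 3) k := fun v => ∏ w ∈ Λ.erase v, L v w
  have hPhom : ∀ v ∈ Λ, (P v).IsHomogeneous m := by
    intro v hv
    have h1 : (P v).IsHomogeneous (∑ w ∈ Λ.erase v, 1) :=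
      MvPolynomial.IsHomogeneous.prod _ _ _ fun w hw =>
        (hL v w hv (Finset.mem_of_mem_erase hw) (Finset.ne_of_mem_erase hw).symm).1
    have h2 : (∑ w ∈ Λ.erase v, 1) = m := by
      rw [Finset.sum_const, smul_eq_mul, mul_one, Finset.card_erase_of_mem hv, hcard]
    rwa [h2] at h1
  have hPself : ∀ v ∈ Λ, MvPolynomial.eval v (P v) ≠ 0 := by
    intro v hv
    simp only [P, map_prod]
    exact Finset.prod_ne_zero_iff.2 fun w hw =>
      (hL v w hv (Finset.mem_of_mem_erase hw) (Finset.ne_of_mem_erase hw).symm).2.2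
  have hPother : ∀ v ∈ Λ, ∀ u ∈ Λ, u ≠ v → MvPolynomial.eval u (P v) = 0 := by
    intro v hv u hu huv
    simp only [P, map_prod]
    exact Finset.prod_eq_zero (Finset.mem_erase.2 ⟨huv, hu⟩) (hL v u hv hu huv.symm).2.1
  have hsurj : Function.Surjective ev := by
    intro g
    let q : MvPolynomial (Fin 3) k :=
      ∑ v ∈ Λ.attach, (g v / MvPolynomial.eval (v : Fin 3 → k) (P v)) • P v
    have hq : q ∈ V := Submodule.sum_mem _ fun v _ => Submodule.smul_mem _ _ (hPhom v v.2)
    refine ⟨⟨q, hq⟩, ?_⟩
    funext u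
    change MvPolynomial.eval (u : Fin 3 → k) q = g u
    simp only [q, map_sum, smul_eq_mul, MvPolynomial.smul_eval]
    rw [Finset.sum_eq_single u]
    · exact div_mul_cancel₀ _ (hPself u u.2)
    · intro v _ hvu
      rw [hPother v v.2 u u.2 (fun h => hvu (Subtype.ext h.symm)), mul_zero]
    · intro h
      exact absurd (Finset.mem_attach _ _) h
  haveI : Module.Finite k V := Module.Finite.iff_fg.2 (MvPolynomial.homogeneousSubmodule_fg _ _ m)
  have h1 := LinearMap.finrank_range_add_finrank_ker ev
  have h4 : Module.finrank k V = (m + 2).choose 2 := finrank_homog k m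
  rw [LinearMap.range_eq_top.2 hsurj, finrank_top, Module.finrank_fintype_fun_eq_card,
    Fintype.card_coe, hcard, h4] at h1
  have h2 : Module.finrank k (LinearMap.ker ev) =
      Module.finrank k ↥(V ⊓ LinearMap.ker ev') := by
    have : LinearMap.ker ev = Submodule.comap V.subtype (V ⊓ LinearMap.ker ev') := by
      rw [Submodule.comap_inf, Submodule.comap_subtype_self, top_inf_eq]
      exact LinearMap.ker_domRestrict V ev'
    rw [this]
    exact (Submodule.comapSubtypeEquivOfLe inf_le_left).finrank_eq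
  rw [hker, ← h2]
  have h3 : m + 2 = n + 1 := by omega
  rw [h3] at h1
  omega

end Groth.Agent.S14427
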