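import Groth.Statements.S14428
import Groth.Agent.S14427
import Mathlib.LinearAlgebra.CrossProduct
-- import your own Groth.Agent.* helpers here

set_option autoImplicit false
universe u
open CAlgX

namespace Groth.Agent.S14428


open Matrix in
theorem sep (k : Type*) [Field k] (n : ℕ) (hn : 3 ≤ n)
    (Λ' : Finset (Fin 3 → k)) (hcard' : Λ'.card = n)
    (h0' : ∀ v ∈ Λ', v ≠ 0)
    (hline' : ¬ ∃ ℓ : (Fin 3 → k) →ₗ[k] k, ℓ ≠ 0 ∧ ∀ v ∈ Λ', ℓ v = 0)
    (v : Fin 3 → k) (hv0 : v ≠ 0) (hv : ∀ w ∈ Λ', ∀ c : k, v ≠ c • w) :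
    ∃ p : MvPolynomial (Fin 3) k, p.IsHomogeneous (n - 1) ∧
      (∀ w ∈ Λ', MvPolynomial.eval w p = 0) ∧ MvPolynomial.eval v p ≠ 0 := by
  classical
  -- v is independent of each w
  have hind : ∀ w ∈ Λ', LinearIndependent k ![v, w] := by
    intro w hw
    rw [LinearIndependent.pair_iff]
    intro s t hst
    have hs : s = 0 := by
      by_contra hs
      apply hv w hw (-t / s)
      have : s • v = -(t • w) := eq_neg_of_add_eq_zero_left hst
      have h2 : v = s⁻¹ • (s • v) := by rw [smul_smul, inv_mul_cancel₀ hs, one_smul]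
      rw [h2, this, smul_neg, ← neg_smul, smul_smul]
      congr 1
      field_simp
    subst hs
    rw [zero_smul, zero_add] at hst
    exact ⟨rfl, (smul_eq_zero.1 hst).resolve_right (h0' w hw)⟩
  -- linear forms
  let lf : (Fin 3 → k) → MvPolynomial (Fin 3) k := fun a => ∑ i, MvPolynomial.C (a i) * MvPolynomial.X i
  have hlf_hom : ∀ a, (lf a).IsHomogeneous 1 := fun a =>
    MvPolynomial.IsHomogeneous.sum _ _ _ fun i _ => MvPolynomial.isHomogeneous_C_mul_X _ _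
  have hlf_eval : ∀ a x, MvPolynomial.eval x (lf a) = a ⬝ᵥ x := by
    intro a x
    simp [lf, dotProduct]
  -- a line through two points of Λ' missing v
  have hpair : ∃ w1 ∈ Λ', ∃ w2 ∈ Λ', w1 ≠ w2 ∧ v ⬝ᵥ (w1 ⨯₃ w2) ≠ 0 := by
    by_contra hcon
    push Not at hcon
    have hne : Λ'.Nonempty := by
      rw [← Finset.card_pos]; omega
    obtain ⟨w1, hw1⟩ := hne
    have hc : v ⨯₃ w1 ≠ 0 := crossProduct_ne_zero_iff_linearIndependent.2 (hind w1 hw1)
    apply hline'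
    let ℓ : (Fin 3 → k) →ₗ[k] k :=
      { toFun := fun x => x ⬝ᵥ (v ⨯₃ w1)
        map_add' := fun x y => add_dotProduct x y _
        map_smul' := fun c x => smul_dotProduct c x _ }
    refine ⟨ℓ, ?_, ?_⟩
    · intro hℓ
      apply hc
      funext i
      have := LinearMap.congr_fun hℓ (Pi.single i 1)
      simpa [ℓ] using this
    · intro w hw
      change w ⬝ᵥ (v ⨯₃ w1) = 0
      rw [triple_product_permutation]
      by_cases h : w1 = w
      · subst h
        rw [cross_self, dotProduct_zero]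
      · exact hcon w1 hw1 w hw h
  obtain ⟨w1, hw1, w2, hw2, hne12, hdet⟩ := hpair
  have hL : ∀ w : Fin 3 → k, ∃ ℓ : MvPolynomial (Fin 3) k, w ∈ Λ' →
      (ℓ.IsHomogeneous 1 ∧ MvPolynomial.eval w ℓ = 0 ∧ MvPolynomial.eval v ℓ ≠ 0) := by
    intro w
    by_cases hw : w ∈ Λ'
    · obtain ⟨ℓ, hℓ⟩ := Groth.Agent.S14427.exists_form k v w (hind w hw)
      exact ⟨ℓ, fun _ => hℓ⟩
    · exact ⟨0, fun h => absurd h hw⟩
  choose L hL using hL
  refine ⟨lf (w1 ⨯₃ w2) * ∏ w ∈ (Λ'.erase w1).erase w2, L w, ?_, ?_, ?_⟩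
  · have h1 : (∏ w ∈ (Λ'.erase w1).erase w2, L w).IsHomogeneous
        (∑ w ∈ (Λ'.erase w1).erase w2, 1) :=
      MvPolynomial.IsHomogeneous.prod _ _ _ fun w hw =>
        (hL w (Finset.mem_of_mem_erase (Finset.mem_of_mem_erase hw))).1
    have h2 : (∑ w ∈ (Λ'.erase w1).erase w2, 1) = n - 2 := by
      rw [Finset.sum_const, smul_eq_mul, mul_one, Finset.card_erase_of_mem
        (Finset.mem_erase.2 ⟨hne12.symm, hw2⟩), Finset.card_erase_of_mem hw1, hcard']
      omega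
    rw [h2] at h1
    have h3 := (hlf_hom (w1 ⨯₃ w2)).mul h1
    have h4 : 1 + (n - 2) = n - 1 := by omega
    rwa [h4] at h3
  · intro w hw
    rw [map_mul, hlf_eval]
    by_cases h1 : w = w1
    · subst h1
      rw [dotProduct_comm, dot_self_cross, zero_mul]
    by_cases h2 : w = w2
    · subst h2
      rw [dotProduct_comm, dot_cross_self, zero_mul]
    · rw [map_prod, Finset.prod_eq_zero
        (Finset.mem_erase.2 ⟨h2, Finset.mem_erase.2 ⟨h1, hw⟩⟩) (hL w hw).2.1, mul_zero]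
  · rw [map_mul, hlf_eval, map_prod, dotProduct_comm]
    refine mul_ne_zero hdet (Finset.prod_ne_zero_iff.2 fun w hw => ?_)
    exact (hL w (Finset.mem_of_mem_erase (Finset.mem_of_mem_erase hw))).2.2

theorem half (k : Type*) [Field k] (n : ℕ) (hn : 3 ≤ n)
    (Λ Λ' : Finset (Fin 3 → k)) (hcard' : Λ'.card = n)
    (h0 : ∀ v ∈ Λ, v ≠ 0) (h0' : ∀ v ∈ Λ', v ≠ 0)
    (hline' : ¬ ∃ ℓ : (Fin 3 → k) →ₗ[k] k, ℓ ≠ 0 ∧ ∀ v ∈ Λ', ℓ v = 0)
    (hle : (MvPolynomial.homogeneousSubmodule (Fin 3) k (n - 1) ⊓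
        ⨅ v ∈ Λ', LinearMap.ker (MvPolynomial.aeval (R := k) (S₁ := k) v).toLinearMap) ≤
      (MvPolynomial.homogeneousSubmodule (Fin 3) k (n - 1) ⊓
        ⨅ v ∈ Λ, LinearMap.ker (MvPolynomial.aeval (R := k) (S₁ := k) v).toLinearMap)) :
    ∀ v ∈ Λ, ∃ w ∈ Λ', ∃ c : k, v = c • w := by
  intro v hv
  by_contra hcon
  push Not at hcon
  obtain ⟨p, hp1, hp2, hp3⟩ := sep k n hn Λ' hcard' h0' hline' v (h0 v hv) hcon
  have hmem : p ∈ (MvPolynomial.homogeneousSubmodule (Fin 3) k (n - 1) ⊓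
        ⨅ v ∈ Λ', LinearMap.ker (MvPolynomial.aeval (R := k) (S₁ := k) v).toLinearMap) := by
    refine Submodule.mem_inf.2 ⟨hp1, ?_⟩
    simp only [Submodule.mem_iInf, LinearMap.mem_ker]
    intro w hw
    exact hp2 w hw
  have hmem2 := hle hmem
  have h2 := (Submodule.mem_inf.1 hmem2).2
  simp only [Submodule.mem_iInf, LinearMap.mem_ker] at h2
  exact hp3 (h2 v hv)

/-- Let k be a field, n ≥ 3, and let Λ and Λ' be two sets of n nonzero, pairwise linearly independent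
vectors of k^3 (n distinct k-rational points of the projective plane each), neither lying on a line
(no nonzero linear form vanishes on all of Λ, resp. Λ'). If the spaces of homogeneous forms of
degree n − 1 vanishing on Λ and on Λ' coincide, then Λ and Λ' define the same set of points of the
plane: the assignment Λ ↦ H^0(P^2, I_Λ(n − 1)), with values in a Grassmannian, is injective on
non-collinear sets. (The published statement is over an algebraically closed field; this row allows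
any field and k-rational points, which is all its argument uses.) -/
theorem result (k : Type u) [Field k] (n : ℕ) (hn : 3 ≤ n)
    (Λ Λ' : Finset (Fin 3 → k)) (hcard : Λ.card = n) (hcard' : Λ'.card = n)
    (h0 : ∀ v ∈ Λ, v ≠ 0) (h0' : ∀ v ∈ Λ', v ≠ 0)
    (hdist : ∀ v ∈ Λ, ∀ w ∈ Λ, v ≠ w → LinearIndependent k ![v, w])
    (hdist' : ∀ v ∈ Λ', ∀ w ∈ Λ', v ≠ w → LinearIndependent k ![v, w])
    (hline : ¬ ∃ ℓ : (Fin 3 → k) →ₗ[k] k, ℓ ≠ 0 ∧ ∀ v ∈ Λ, ℓ v = 0)
    (hline' : ¬ ∃ ℓ : (Fin 3 → k) →ₗ[k] k, ℓ ≠ 0 ∧ ∀ v ∈ Λ', ℓ v = 0)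
    (heq : (MvPolynomial.homogeneousSubmodule (Fin 3) k (n - 1) ⊓ ⨅ v ∈ Λ, LinearMap.ker (MvPolynomial.aeval v).toLinearMap) = (MvPolynomial.homogeneousSubmodule (Fin 3) k (n - 1) ⊓ ⨅ v ∈ Λ', LinearMap.ker (MvPolynomial.aeval v).toLinearMap)) :
    (∀ v ∈ Λ, ∃ w ∈ Λ', ∃ c : k, v = c • w) ∧ (∀ w ∈ Λ', ∃ v ∈ Λ, ∃ c : k, w = c • v) := by
  exact ⟨half k n hn Λ Λ' hcard' h0 h0' hline' heq.ge,
    half k n hn Λ' Λ hcard h0' h0 hline heq.le⟩

end Groth.Agent.S14428
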