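import Groth.Statements.S14434
import Mathlib
import Groth.Agent.Lib.Helper9.TorSymm

set_option autoImplicit false
universe u
open CAlg

namespace Groth.Agent.S14434

open CategoryTheory Limits Groth.Agent.Lib.Helper4 Groth.Agent.Lib.Helper21 Groth.Agent.Lib.Helper2.TorBalance Groth.Agent.Lib.Helper9.TorSymm


/-- Let R be a commutative ring, M an R-module and x ∈ R a non-zero-divisor on R and on M. Then
Tor_i^R(M, R/(x)) = 0 for all i ≥ 1 (Tor computed as the left derived functors of the tensor product
on R-modules). -/
theorem result {R : Type u} [CommRing R] (M : Type u) [AddCommGroup M] [Module R M]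
    (x : R) (hxR : IsSMulRegular R x) (hxM : IsSMulRegular M x) (i : ℕ) (hi : 1 ≤ i) :
    Subsingleton (DRing.Tor R i M (R ⧸ Ideal.span {x})) := by
  let μ : R →ₗ[R] R := x • LinearMap.id
  let f : ModuleCat.of R R ⟶ ModuleCat.of R R := ModuleCat.ofHom μ
  let g : ModuleCat.of R R ⟶ ModuleCat.of R (R ⧸ Ideal.span {x}) :=
    ModuleCat.ofHom (Ideal.span {x}).mkQ
  have hex : Function.Exact μ (Ideal.span {x}).mkQ := by
    intro y
    rw [Submodule.mkQ_apply, Submodule.Quotient.mk_eq_zero, Ideal.mem_span_singleton']
    constructor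
    · rintro ⟨a, rfl⟩
      exact ⟨a, by simp [μ, mul_comm]⟩
    · rintro ⟨a, rfl⟩
      exact ⟨a, by simp [μ, mul_comm]⟩
  have w : f ≫ g = 0 := by
    ext
    simp only [f, g, ModuleCat.hom_comp, ModuleCat.hom_ofHom, LinearMap.comp_apply,
      ModuleCat.hom_zero, LinearMap.zero_apply]
    exact hex.apply_apply_eq_zero _
  have hinjμ : Function.Injective μ := by
    intro a b hab
    exact hxR (by simpa [μ] using hab)
  have hT : (ShortComplex.mk f g w).ShortExact :=
    ModuleCat.shortComplex_shortExact _ hex hinjμ (Submodule.mkQ_surjective _)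
  set T := ShortComplex.mk f g w with hTdef
  let N : ModuleCat.{u} R := ModuleCat.of R M
  have hflat : Module.Flat R (ModuleCat.of R R) := inferInstanceAs (Module.Flat R R)
  have hR : ∀ j, 0 < j → IsZero (((Tor (ModuleCat.{u} R) j).obj (ModuleCat.of R R)).obj N) :=
    fun j hj => isZero_tor_of_flat (ModuleCat.of R R) N j hj
  have hinj : Function.Injective (T.f.hom.rTensor N) := by
    change Function.Injective (μ.rTensor M)
    simp only [μ, LinearMap.rTensor_smul, LinearMap.rTensor_id]
    intro a b hab
    simp only [LinearMap.smul_apply, LinearMap.id_coe, id_eq] at hab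
    have h2 : x • (TensorProduct.lid R M a) = x • (TensorProduct.lid R M b) := by
      rw [← map_smul, ← map_smul, hab]
    exact (TensorProduct.lid R M).injective (hxM h2)
  have key : IsZero (((Tor (ModuleCat.{u} R) i).obj (ModuleCat.of R (R ⧸ Ideal.span {x}))).obj N) := by
    obtain ⟨n, rfl⟩ : ∃ n, i = n + 1 := ⟨i - 1, by omega⟩
    cases n with
    | zero => exact isZero_tor_one_of_injective_rTensor T N hT (hR 1 one_pos) hinj
    | succ n =>
      obtain ⟨e⟩ := tor_succ_iso T N hT (n + 1) (hR _ (by omega)) (hR _ (by omega))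
      exact (hR (n + 1) (by omega)).of_iso e
  exact ModuleCat.subsingleton_of_isZero (isZero_tor_swap key)

end Groth.Agent.S14434
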