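import Groth.Statements.S14435
import Groth.Agent.Lib.Helper18.CM1
import Groth.Agent.S0320

set_option autoImplicit false
universe u
open LocCoh

namespace Groth.Agent.S14435

open RingTheory.Sequence Groth.Agent.Lib.Helper16.Depth Groth.Agent.Lib.Helper18.CM
open scoped Pointwise

section
variable {A B : Type u} [CommRing A] [CommRing B] [Algebra A B]

/-- `aM = M` over `A` iff `(aB)M = M` over `B`. -/
lemma smul_top_eq_top_iff (a : Ideal A) (M : Type u) [AddCommGroup M] [Module B M] [Module A M]
    [IsScalarTower A B M] :
    a • (⊤ : Submodule A M) = ⊤ ↔ (a.map (algebraMap A B)) • (⊤ : Submodule B M) = ⊤ := by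
  have h := Ideal.smul_restrictScalars a (⊤ : Submodule B M)
  rw [Submodule.restrictScalars_top] at h
  rw [← h, Submodule.restrictScalars_eq_top_iff]

lemma isSMulRegular_algebraMap_iff (M : Type u) [AddCommGroup M] [Module B M] [Module A M]
    [IsScalarTower A B M] (x : A) :
    IsSMulRegular M (algebraMap A B x) ↔ IsSMulRegular M x := by
  unfold IsSMulRegular
  have : (fun m : M => algebraMap A B x • m) = fun m : M => x • m :=
    funext fun m => algebraMap_smul B x m
  rw [this]

/-- Elements of `aB` kill whatever `a` kills. -/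
lemma map_smul_eq_zero (a : Ideal A) (M : Type u) [AddCommGroup M] [Module B M] [Module A M]
    [IsScalarTower A B M] (m : M) (hm : ∀ x ∈ a, x • m = 0) (y : B)
    (hy : y ∈ a.map (algebraMap A B)) : y • m = 0 := by
  unfold Ideal.map at hy
  induction hy using Submodule.span_induction with
  | mem y hy =>
    obtain ⟨x, hx, rfl⟩ := hy
    rw [algebraMap_smul]
    exact hm x hx
  | zero => simp
  | add y z _ _ hy hz => rw [add_smul, hy, hz, add_zero]
  | smul b y _ hy => rw [smul_eq_mul, mul_smul, hy, smul_zero]

lemma hasRegSeq_map (a : Ideal A) (M : Type u) [AddCommGroup M] [Module B M] [Module A M]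
    [IsScalarTower A B M] (n : ℕ) (h : HasRegSeq a M n) :
    HasRegSeq (a.map (algebraMap A B)) M n := by
  obtain ⟨rs, hlen, hreg, hmem⟩ := h
  refine ⟨rs.map (algebraMap A B), by simp [hlen],
    (isWeaklyRegular_map_algebraMap_iff (S := B) (M := M) rs).2 hreg, ?_⟩
  intro r hr
  obtain ⟨x, hx, rfl⟩ := List.mem_map.1 hr
  exact Ideal.mem_map_of_mem _ (hmem x hx)

lemma hasRegSeq_congr {R : Type u} [CommRing R] (I : Ideal R) {M M' : Type u} [AddCommGroup M]
    [Module R M] [AddCommGroup M'] [Module R M'] (e : M ≃ₗ[R] M') (n : ℕ) (h : HasRegSeq I M n) :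
    HasRegSeq I M' n := by
  obtain ⟨rs, hlen, hreg, hmem⟩ := h
  exact ⟨rs, hlen, (e.isWeaklyRegular_congr rs).1 hreg, hmem⟩

end

section
variable {A B : Type u} [CommRing A] [IsNoetherianRing A] [CommRing B] [Algebra A B]
  [Module.Finite A B]

/-- The `A`-linear identification `M/(f x)M ≃ M/xM`. -/
noncomputable def quotEquiv (M : Type u) [AddCommGroup M] [Module B M] [Module A M]
    [IsScalarTower A B M] (x : A) :
    QuotSMulTop (algebraMap A B x) M ≃ₗ[A] QuotSMulTop x M :=
  (Submodule.Quotient.restrictScalarsEquiv A
    (algebraMap A B x • (⊤ : Submodule B M))).symm ≪≫ₗ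
    Submodule.quotEquivOfEq _ _ (by
      rw [element_smul_restrictScalars, Submodule.restrictScalars_top])

lemma hasRegSeq_of_map (a : Ideal A) (n : ℕ) :
    ∀ (M : Type u) [AddCommGroup M] [Module B M] [Module A M] [IsScalarTower A B M]
      [Module.Finite B M],
      (a.map (algebraMap A B)) • (⊤ : Submodule B M) ≠ ⊤ →
      HasRegSeq (a.map (algebraMap A B)) M n → HasRegSeq a M n := by
  have hB : IsNoetherianRing B := IsNoetherianRing.of_finite A B
  induction n with
  | zero => intro M _ _ _ _ _ _ _; exact HasRegSeq.zero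
  | succ n ih =>
    intro M _ _ _ _ _ hne h
    have hfin : Module.Finite A M := Module.Finite.trans B M
    -- (i) a regular element in `a`
    have hx : ∃ x ∈ a, IsSMulRegular M x := by
      rw [exists_regular_iff a M]
      intro p hp hle
      obtain ⟨hpprime, m₀, hm₀⟩ := (isAssociatedPrime_iff (I := p) (M := M)).1 hp
      have hkill : ∀ x ∈ a, x • m₀ = 0 := by
        intro x hx
        have : x ∈ p := hle hx
        rw [hm₀, Submodule.mem_colon_singleton, Submodule.mem_bot] at this
        exact this
      obtain ⟨rs, hlen, hreg, hmem⟩ := h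
      match rs, hlen with
      | y :: rs', _ =>
        have hyreg : IsSMulRegular M y := ((isWeaklyRegular_cons_iff M y rs').mp hreg).1
        have hy0 : y • m₀ = 0 :=
          map_smul_eq_zero a M m₀ hkill y (hmem y (by simp))
        have hm0 : m₀ = 0 := hyreg (by simpa using hy0)
        apply hpprime.ne_top
        rw [hm₀, hm0]
        ext r
        simp [Submodule.mem_colon_singleton]
    obtain ⟨x, hxa, hxreg⟩ := hx
    have hfx : algebraMap A B x ∈ a.map (algebraMap A B) := Ideal.mem_map_of_mem _ hxa
    have hfxreg : IsSMulRegular M (algebraMap A B x) :=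
      (isSMulRegular_algebraMap_iff M x).2 hxreg
    -- (iii) Rees over `B`
    have hdepth := Groth.Agent.S0320.result_aux B (a.map (algebraMap A B)) M hne
      (algebraMap A B x) hfx hfxreg
    have hle : ((n + 1 : ℕ) : ℕ∞) ≤ LocCoh.idealDepth (a.map (algebraMap A B)) M :=
      (le_idealDepth_iff _ M (n + 1)).2 (Or.inr h)
    have hQne : (a.map (algebraMap A B)) •
        (⊤ : Submodule B (QuotSMulTop (algebraMap A B x) M)) ≠ ⊤ :=
      smul_top_quotSMulTop_ne_top hfx hne
    have hle' : (n : ℕ∞) ≤ LocCoh.idealDepth (a.map (algebraMap A B))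
        (QuotSMulTop (algebraMap A B x) M) := by
      rw [← hdepth] at hle
      push_cast at hle
      exact (ENat.add_le_add_iff_right (by simp)).mp hle
    have hQ : HasRegSeq (a.map (algebraMap A B)) (QuotSMulTop (algebraMap A B x) M) n := by
      rcases (le_idealDepth_iff _ _ n).1 hle' with h1 | h1
      · exact absurd h1 hQne
      · exact h1
    have hQA : HasRegSeq a (QuotSMulTop (algebraMap A B x) M) n :=
      ih (QuotSMulTop (algebraMap A B x) M) hQne hQ
    exact HasRegSeq.cons hxa hxreg (hasRegSeq_congr a (quotEquiv M x) n hQA)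

theorem main (a : Ideal A)
    (M : Type u) [AddCommGroup M] [Module B M] [Module A M] [IsScalarTower A B M]
    [Module.Finite B M] :
    LocCoh.idealDepth a M = LocCoh.idealDepth (a.map (algebraMap A B)) M := by
  by_cases htop : a • (⊤ : Submodule A M) = ⊤
  · rw [idealDepth_eq_top_of_smul_top_eq_top a M htop,
      idealDepth_eq_top_of_smul_top_eq_top _ M ((smul_top_eq_top_iff a M).1 htop)]
  · have htop' : (a.map (algebraMap A B)) • (⊤ : Submodule B M) ≠ ⊤ :=
      fun h => htop ((smul_top_eq_top_iff a M).2 h)
    apply le_antisymm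
    · rw [← ENat.forall_natCast_le_iff_le]
      intro n hn
      rcases (le_idealDepth_iff a M n).1 hn with h | h
      · exact absurd h htop
      · exact (le_idealDepth_iff _ M n).2 (Or.inr (hasRegSeq_map a M n h))
    · rw [← ENat.forall_natCast_le_iff_le]
      intro n hn
      rcases (le_idealDepth_iff _ M n).1 hn with h | h
      · exact absurd h htop'
      · exact (le_idealDepth_iff a M n).2 (Or.inr (hasRegSeq_of_map a n M htop' h))

end


/-- Let (A, m) be a Noetherian local ring, φ : A → B a finite homomorphism of commutative rings, a ⊆ m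
an ideal and M a finitely generated B-module. Then depth(a, M), computed over A, equals depth(aB,
M), computed over B (depths by regular sequences, ⊤ when aM = M). -/
theorem result {A B : Type u} [CommRing A] [IsNoetherianRing A] [IsLocalRing A]
    [CommRing B] [Algebra A B] [Module.Finite A B] (a : Ideal A) (ha : a ≤ IsLocalRing.maximalIdeal A)
    (M : Type u) [AddCommGroup M] [Module B M] [Module A M] [IsScalarTower A B M] [Module.Finite B M] :
    LocCoh.idealDepth a M = LocCoh.idealDepth (a.map (algebraMap A B)) M :=
  main a M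

end Groth.Agent.S14435
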