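import Groth.Statements.S14436
import Mathlib.RingTheory.AlgebraicIndependent.Adjoin
import Mathlib.RingTheory.Etale.Field
import Mathlib.RingTheory.Etale.Kaehler
import Mathlib.RingTheory.Kaehler.Polynomial
import Mathlib.LinearAlgebra.Dimension.Constructions
-- import your own Groth.Agent.* helpers here

set_option autoImplicit false
universe u
open CAlg

namespace Groth.Agent.S14436

/-- Let L/K be a finitely generated field extension which is separable in the sense that it has a
transcendence basis a_1, …, a_n over which L is a (finite) separable extension of K(a_1, …, a_n).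
Then dim_L Ω_{L/K} = n, the transcendence degree of L over K. -/
theorem result (K L : Type u) [Field K] [Field L] [Algebra K L]
    (hfg : ∃ s : Finset L, IntermediateField.adjoin K (s : Set L) = ⊤)
    (n : ℕ) (a : Fin n → L) (ha : IsTranscendenceBasis K a)
    (hsep : Algebra.IsSeparable ↥(IntermediateField.adjoin K (Set.range a)) L) :
    Module.finrank L (Ω[L⁄K]) = n := by
  classical
  have hind : AlgebraicIndependent K a := ha.1
  let P := MvPolynomial (Fin n) K
  let Q := FractionRing P
  let F := IntermediateField.adjoin K (Set.range a)
  let e : Q ≃ₐ[K] F := hind.aevalEquivField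
  -- L as a Q-algebra
  letI algQL : Algebra Q L := ((IntermediateField.val F).comp e.toAlgHom).toRingHom.toAlgebra
  letI algPL : Algebra P L := ((algebraMap Q L).comp (algebraMap P Q)).toAlgebra
  haveI tPQL : IsScalarTower P Q L := IsScalarTower.of_algebraMap_eq fun _ => rfl
  haveI tKQL : IsScalarTower K Q L := IsScalarTower.of_algebraMap_eq fun c => by
    change algebraMap K L c = ((IntermediateField.val F).comp e.toAlgHom) (algebraMap K Q c)
    rw [AlgHom.commutes]
  haveI tKPL : IsScalarTower K P L := IsScalarTower.of_algebraMap_eq fun c => by
    change algebraMap K L c = algebraMap Q L (algebraMap P Q (algebraMap K P c))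
    rw [← IsScalarTower.algebraMap_apply K P Q, ← IsScalarTower.algebraMap_apply K Q L]
  -- separability of L over Q
  haveI : Algebra.IsSeparable Q L := by
    refine Algebra.IsSeparable.of_equiv_equiv (A₁ := F) (B₁ := L) e.symm.toRingEquiv
      (RingEquiv.refl L) ?_
    ext x
    change algebraMap Q L (e.symm x) = algebraMap F L x
    change (IntermediateField.val F) (e (e.symm x)) = algebraMap F L x
    rw [AlgEquiv.apply_symm_apply]
    rfl
  haveI : Algebra.FormallyEtale Q L := Algebra.FormallyEtale.of_isSeparable Q L
  haveI : Algebra.FormallyEtale P Q := Algebra.FormallyEtale.of_isLocalization (nonZeroDivisors P)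
  haveI : Algebra.FormallyEtale P L := Algebra.FormallyEtale.comp P Q L
  have h1 := (KaehlerDifferential.tensorKaehlerEquivOfFormallyEtale K P L).finrank_eq
  rw [← h1, Module.finrank_baseChange,
    Module.finrank_eq_card_basis (KaehlerDifferential.mvPolynomialBasis K (Fin n))]
  simp

end Groth.Agent.S14436
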