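import Groth.Statements.S14440
import Mathlib
import Groth.Agent.Lib.Helper20.HilbCI

set_option autoImplicit false
universe u
open ProjDeg

namespace Groth.Agent.S14440


/-- Let k be an algebraically closed field and H_1, …, H_n hypersurfaces in P^n given by homogeneous
polynomials f_1, …, f_n of degrees d_1, …, d_n ≥ 1 in S = k[x_0, …, x_n], meeting in finitely many
points, i.e. S/(f_1, …, f_n) has Krull dimension one. Then the intersection multiplicities of the
H_i at the points of H_1 ∩ ⋯ ∩ H_n add up to d_1 ⋯ d_n; stated here in the form established in the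
proof: the Hilbert function of S/(f_1, …, f_n) is eventually the constant Π d_i, i.e. for all large
m, dim_k S_m − dim_k ((f_1, …, f_n) ∩ S_m) = Π d_i (this constant is the degree of O_{H_1} ⊗ ⋯ ⊗
O_{H_n}, the sum of the lengths of its stalks). -/
theorem result (k : Type u) [Field k] [IsAlgClosed k] (n : ℕ)
    (f : Fin n → MvPolynomial (Fin (n + 1)) k) (d : Fin n → ℕ) (hd : ∀ i, 1 ≤ d i)
    (hf : ∀ i, (f i).IsHomogeneous (d i))
    (hdim : ringKrullDim (MvPolynomial (Fin (n + 1)) k ⧸ Ideal.span (Set.range f)) = 1) :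
    ∃ m₀ : ℕ, ∀ m : ℕ, m₀ ≤ m →
      Module.finrank k ↥(MvPolynomial.homogeneousSubmodule (Fin (n + 1)) k m) -
        Module.finrank k ↥((Ideal.span (Set.range f)).restrictScalars k ⊓ MvPolynomial.homogeneousSubmodule (Fin (n + 1)) k m) =
      ∏ i : Fin n, d i := by
  classical
  let f' : ℕ → MvPolynomial (Fin (n + 1)) k := fun i => if h : i < n then f ⟨i, h⟩ else 0
  let d' : ℕ → ℕ := fun i => if h : i < n then d ⟨i, h⟩ else 1
  have hd' : ∀ i, 1 ≤ d' i := by
    intro i
    by_cases h : i < n
    · simp only [d', dif_pos h]; exact hd _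
    · simp only [d', dif_neg h]; exact le_rfl
  have hf' : ∀ i, (f' i).IsHomogeneous (d' i) := by
    intro i
    by_cases h : i < n
    · simp only [f', d', dif_pos h]; exact hf _
    · simp only [f', dif_neg h]; exact MvPolynomial.isHomogeneous_zero _ _ _
  have hrange : f' '' Set.Iio n = Set.range f := by
    ext x
    simp only [Set.mem_image, Set.mem_Iio, Set.mem_range]
    constructor
    · rintro ⟨i, hi, rfl⟩
      exact ⟨⟨i, hi⟩, by simp only [f', dif_pos hi]⟩
    · rintro ⟨i, rfl⟩
      exact ⟨i.1, i.2, by simp only [f', dif_pos i.2]⟩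
  have hdim' : ringKrullDim (MvPolynomial (Fin (n + 1)) k ⧸ Ideal.span (f' '' Set.Iio n)) ≤ 1 := by
    rw [hrange, hdim]
  obtain ⟨m₀, hm₀⟩ := Groth.Agent.Lib.Helper20.HilbCI.coeff_prod_eq n d'
  refine ⟨m₀, fun m hm => ?_⟩
  have h1 := Groth.Agent.Lib.Helper20.HilbCI.hilbert_coeff n f' d' hd' hf' hdim' n le_rfl m
  rw [hm₀ m hm, hrange] at h1
  have hle : Module.finrank k ↥((Ideal.span (Set.range f)).restrictScalars k ⊓
      MvPolynomial.homogeneousSubmodule (Fin (n + 1)) k m) ≤
      Module.finrank k ↥(MvPolynomial.homogeneousSubmodule (Fin (n + 1)) k m) := by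
    haveI : Module.Finite k ↥(MvPolynomial.homogeneousSubmodule (Fin (n + 1)) k m) :=
      Groth.Agent.Helper19.HilbPlane.finite_homogeneousSubmodule m
    exact Submodule.finrank_mono inf_le_right
  have h2 : ∏ i ∈ Finset.range n, (d' i : ℤ) = ((∏ i : Fin n, d i : ℕ) : ℤ) := by
    rw [Finset.prod_range, Nat.cast_prod]
    apply Finset.prod_congr rfl
    intro i _
    simp only [d', dif_pos i.2]
  rw [h2, ← Nat.cast_sub hle] at h1
  exact_mod_cast h1

end Groth.Agent.S14440
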