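import Groth.Statements.S14442
-- import your own Groth.Agent.* helpers here

set_option autoImplicit false
universe u
open GrNak

namespace Groth.Agent.S14442

/-- Let R be a commutative ℕ-graded ring with irrelevant ideal R_+ = ⊕_{i>0} R_i, M an ℕ-graded R-module
and N a graded submodule of M (closed under taking homogeneous components). If M = R_+ M + N then N
= M. (The published statement is for finitely generated ℤ-graded modules over a graded quotient of a
polynomial ring, whose degrees are then bounded below; stated here for non-negatively graded modules
over any ℕ-graded commutative ring, where the same lowest-degree argument applies without finite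
generation.) -/
theorem result {R : Type u} [CommRing R] {σ : Type u} [SetLike σ R] [AddSubmonoidClass σ R]
    (𝒜 : ℕ → σ) [GradedRing 𝒜]
    {M : Type u} [AddCommGroup M] [Module R M] {τ : Type u} [SetLike τ M] [AddSubmonoidClass τ M]
    (ℳ : ℕ → τ) [DirectSum.Decomposition ℳ] [SetLike.GradedSMul 𝒜 ℳ]
    (N : Submodule R M) (hN : ∀ x ∈ N, ∀ i : ℕ, (DirectSum.decompose ℳ x i : M) ∈ N)
    (h : (HomogeneousIdeal.irrelevant 𝒜).toIdeal • (⊤ : Submodule R M) ⊔ N = ⊤) :
    N = ⊤ := by
  classical
  -- every homogeneous element lies in N, by strong induction on the degree
  have hhom : ∀ d : ℕ, ∀ x ∈ ℳ d, x ∈ N := by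
    intro d
    induction d using Nat.strong_induction_on with
    | _ d ih =>
      intro x hx
      -- the degree-d component of an element of R₊ • ⊤ lies in N
      have hcomp : ∀ y ∈ (HomogeneousIdeal.irrelevant 𝒜).toIdeal • (⊤ : Submodule R M),
          (DirectSum.decompose ℳ y d : M) ∈ N := by
        intro y hy
        refine Submodule.smul_induction_on hy ?_ ?_
        · intro r hr m _
          have hr0 : (DirectSum.decompose 𝒜 r 0 : R) = 0 := by
            have := (HomogeneousIdeal.mem_irrelevant_iff 𝒜 r).1 hr
            simpa [GradedRing.proj_apply] using this
          have hrsum := DirectSum.sum_support_decompose 𝒜 r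
          have hmsum := DirectSum.sum_support_decompose ℳ m
          have hrm : r • m = ∑ a ∈ (DirectSum.decompose 𝒜 r).support,
              ∑ b ∈ (DirectSum.decompose ℳ m).support,
                (DirectSum.decompose 𝒜 r a : R) • (DirectSum.decompose ℳ m b : M) := by
            conv_lhs => rw [← hrsum, ← hmsum]
            rw [Finset.sum_smul]
            refine Finset.sum_congr rfl fun a _ => ?_
            rw [Finset.smul_sum]
          rw [hrm]
          refine Finset.sum_induction _ (fun y => (DirectSum.decompose ℳ y d : M) ∈ N) ?_ ?_ ?_
          · intro y y' hy hy'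
            rw [DirectSum.decompose_add, DirectSum.add_apply, AddMemClass.coe_add]
            exact N.add_mem hy hy'
          · rw [DirectSum.decompose_zero, DirectSum.zero_apply, ZeroMemClass.coe_zero]
            exact N.zero_mem
          intro a _
          refine Finset.sum_induction _ (fun y => (DirectSum.decompose ℳ y d : M) ∈ N) ?_ ?_ ?_
          · intro y y' hy hy'
            rw [DirectSum.decompose_add, DirectSum.add_apply, AddMemClass.coe_add]
            exact N.add_mem hy hy'
          · rw [DirectSum.decompose_zero, DirectSum.zero_apply, ZeroMemClass.coe_zero]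
            exact N.zero_mem
          intro b _
          have hmem : (DirectSum.decompose 𝒜 r a : R) • (DirectSum.decompose ℳ m b : M) ∈
              ℳ (a + b) :=
            SetLike.GradedSMul.smul_mem (DirectSum.decompose 𝒜 r a).2 (DirectSum.decompose ℳ m b).2
          by_cases hab : a + b = d
          · rw [hab] at hmem
            rw [DirectSum.decompose_of_mem_same ℳ hmem]
            by_cases ha : a = 0
            · subst ha
              rw [hr0, zero_smul]
              exact N.zero_mem
            · exact N.smul_mem _ (ih b (by omega) _ (DirectSum.decompose ℳ m b).2)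
          · rw [DirectSum.decompose_of_mem_ne ℳ hmem hab]
            exact N.zero_mem
        · intro y y' hy hy'
          rw [DirectSum.decompose_add, DirectSum.add_apply, AddMemClass.coe_add]
          exact N.add_mem hy hy'
      have hxtop : x ∈ (HomogeneousIdeal.irrelevant 𝒜).toIdeal • (⊤ : Submodule R M) ⊔ N := by
        rw [h]; trivial
      obtain ⟨y, hy, n, hn, rfl⟩ := Submodule.mem_sup.1 hxtop
      have hx' := DirectSum.decompose_of_mem_same ℳ hx
      rw [← hx', DirectSum.decompose_add, DirectSum.add_apply, AddMemClass.coe_add]
      exact N.add_mem (hcomp y hy) (hN n hn d)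
  rw [eq_top_iff]
  intro x _
  rw [← DirectSum.sum_support_decompose ℳ x]
  exact N.sum_mem fun i _ => hhom i _ (DirectSum.decompose ℳ x i).2

end Groth.Agent.S14442
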