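import Groth.Statements.S1445
import Groth.Agent.Lib.Helper1.ZMTFin3
import Groth.Agent.Lib.Helper1.UFO5

set_option autoImplicit false
universe u
open FlatMor

namespace Groth.Agent.S1445

open AlgebraicGeometry CategoryTheory Limits in
/-- Let f : X → Y be quasi-finite and of finite presentation with X and Y affine. Then there are a
morphism Y_u → Y of finite presentation and an open U_u of Y_u ×_Y X finite over Y_u such that for
every morphism Y' → Y with Y' affine and every open U' of Y' ×_Y X finite over Y', some morphism Y'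
→ Y_u over Y pulls U_u back to U'. -/
theorem result {X Y : Scheme.{u}} (f : X ⟶ Y) [IsAffine X] [IsAffine Y] [LocallyQuasiFinite f] [LocallyOfFinitePresentation f] :
    ∃ (Yu : Scheme.{u}) (a : Yu ⟶ Y) (Uu : (pullback f a).Opens), LocallyOfFinitePresentation a ∧ QuasiCompact a ∧ QuasiSeparated a ∧
      IsFinite (Uu.ι ≫ pullback.snd f a) ∧
      ∀ (Y' : Scheme.{u}) (b : Y' ⟶ Y) (U' : (pullback f b).Opens), IsAffine Y' → IsFinite (U'.ι ≫ pullback.snd f b) →
        ∃ (c : Y' ⟶ Yu) (hc : c ≫ a = b),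
          (pullback.map f b f a (𝟙 X) c (𝟙 Y) ((Category.comp_id f).trans (Category.id_comp f).symm) ((Category.comp_id b).trans hc.symm)) ⁻¹ᵁ Uu = U' := by
  classical
  obtain ⟨T, j, π, hj, hjqc, hπfin, hπfp, hjπ⟩ := Groth.Agent.Lib.Helper1.ZMTFin.zmt_finite_fp f
  haveI := hj
  haveI := hπfin
  haveI := hπfp
  let W : T.Opens := j.opensRange
  have hW : IsCompact (W : Set T) := isCompact_range j.continuous
  obtain ⟨Yu, a, Zu, hYu, hafp, hZucl, hZule, huniv⟩ :=
    Groth.Agent.Lib.Helper1.UFO.exists_universal_clopen π W hW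
  haveI := hYu
  have e1 : f ≫ 𝟙 Y = j ≫ π := by rw [Category.comp_id, hjπ]
  let ja : pullback f a ⟶ pullback π a := pullback.map f a π a j (𝟙 Yu) (𝟙 Y) e1
    ((Category.comp_id a).trans (Category.id_comp a).symm)
  haveI : IsOpenImmersion ja := inferInstance
  have hjarange : Set.range ja = (pullback.fst π a) ⁻¹' (W : Set T) := by
    rw [Scheme.Pullback.range_map]
    simp [W]
  let Uu : (pullback f a).Opens := ja ⁻¹ᵁ Zu
  refine ⟨Yu, a, Uu, hafp, inferInstance, inferInstance, ?_, ?_⟩
  · -- finiteness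
    have hcomp : Uu.ι ≫ pullback.snd f a = (Uu.ι ≫ ja) ≫ pullback.snd π a := by
      rw [Category.assoc, pullback.lift_snd, Category.comp_id]
    have hrange : Set.range (Uu.ι ≫ ja) = (Zu : Set ↥(pullback π a)) := by
      rw [Scheme.Hom.comp_base, TopCat.coe_comp, Set.range_comp, Scheme.Opens.range_ι]
      change ja '' (ja ⁻¹' (Zu : Set ↥(pullback π a))) = _
      rw [Set.image_preimage_eq_inter_range, hjarange]
      exact Set.inter_eq_left.mpr hZule
    haveI : IsClosedImmersion (Uu.ι ≫ ja) :=
      IsClosedImmersion.of_isPreimmersion _ (hrange ▸ hZucl)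
    rw [hcomp]
    infer_instance
  · intro Y' b U' hY' hfin
    haveI := hY'
    haveI := hfin
    let jb : pullback f b ⟶ pullback π b := pullback.map f b π b j (𝟙 Y') (𝟙 Y) e1
      ((Category.comp_id b).trans (Category.id_comp b).symm)
    haveI : IsOpenImmersion jb := inferInstance
    have hjbrange : Set.range jb = (pullback.fst π b) ⁻¹' (W : Set T) := by
      rw [Scheme.Pullback.range_map]
      simp [W]
    let Z' : (pullback π b).Opens := jb ''ᵁ U'
    have hcomp : U'.ι ≫ pullback.snd f b = (U'.ι ≫ jb) ≫ pullback.snd π b := by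
      rw [Category.assoc, pullback.lift_snd, Category.comp_id]
    haveI : IsProper ((U'.ι ≫ jb) ≫ pullback.snd π b) := by
      rw [← hcomp]
      infer_instance
    haveI : IsProper (U'.ι ≫ jb) := IsProper.of_comp (U'.ι ≫ jb) (pullback.snd π b)
    have hrange : Set.range (U'.ι ≫ jb) = (Z' : Set ↥(pullback π b)) := by
      rw [Scheme.Hom.comp_base, TopCat.coe_comp, Set.range_comp, Scheme.Opens.range_ι]
      rfl
    have hZ'cl : IsClosed (Z' : Set ↥(pullback π b)) := by
      rw [← hrange]
      exact (U'.ι ≫ jb).isClosedMap.isClosed_range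
    have hZ'le : Z' ≤ (pullback.fst π b) ⁻¹ᵁ W := by
      intro z hz
      have hz' : z ∈ Set.range jb := by
        obtain ⟨x, -, rfl⟩ := hz
        exact ⟨x, rfl⟩
      rw [hjbrange] at hz'
      exact hz'
    obtain ⟨c, hc, hN⟩ := huniv Y' b Z' hY' hZ'cl hZ'le
    refine ⟨c, hc, ?_⟩
    let M : pullback f b ⟶ pullback f a := pullback.map f b f a (𝟙 X) c (𝟙 Y)
        ((Category.comp_id f).trans (Category.id_comp f).symm)
        ((Category.comp_id b).trans hc.symm)
    let N : pullback π b ⟶ pullback π a := pullback.map π b π a (𝟙 T) c (𝟙 Y)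
          ((Category.comp_id π).trans (Category.id_comp π).symm)
          ((Category.comp_id b).trans hc.symm)
    have hM1 : M ≫ pullback.fst f a = pullback.fst f b ≫ 𝟙 X := pullback.lift_fst _ _ _
    have hM2 : M ≫ pullback.snd f a = pullback.snd f b ≫ c := pullback.lift_snd _ _ _
    have hN1 : N ≫ pullback.fst π a = pullback.fst π b ≫ 𝟙 T := pullback.lift_fst _ _ _
    have hN2 : N ≫ pullback.snd π a = pullback.snd π b ≫ c := pullback.lift_snd _ _ _
    have hja1 : ja ≫ pullback.fst π a = pullback.fst f a ≫ j := pullback.lift_fst _ _ _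
    have hja2 : ja ≫ pullback.snd π a = pullback.snd f a ≫ 𝟙 Yu := pullback.lift_snd _ _ _
    have hjb1 : jb ≫ pullback.fst π b = pullback.fst f b ≫ j := pullback.lift_fst _ _ _
    have hjb2 : jb ≫ pullback.snd π b = pullback.snd f b ≫ 𝟙 Y' := pullback.lift_snd _ _ _
    have hsq : M ≫ ja = jb ≫ N := by
      apply pullback.hom_ext
      · rw [Category.assoc, hja1, reassoc_of% hM1, Category.assoc, hN1, reassoc_of% hjb1]
        simp
      · rw [Category.assoc, hja2, reassoc_of% hM2, Category.assoc, hN2, reassoc_of% hjb2]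
        simp
    change M ⁻¹ᵁ (ja ⁻¹ᵁ Zu) = U'
    rw [← Scheme.Hom.comp_preimage, hsq, Scheme.Hom.comp_preimage]
    change jb ⁻¹ᵁ (pullback.map π b π a (𝟙 T) c (𝟙 Y) _ _ ⁻¹ᵁ Zu) = U'
    rw [hN]
    exact jb.preimage_image_eq U'

end Groth.Agent.S1445
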