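import Groth.Statements.S14456
import Groth.Agent.Lib.Helper9.FlatCrit
import Groth.Agent.Lib.Helper9.FlatFibre

set_option autoImplicit false
universe u
open CAlg

namespace Groth.Agent.S14456

open TensorProduct


/-- Take a local homomorphism A → B between Noetherian local rings, M a finitely generated B-module and
f an element of the maximal ideal of B. If M/f^(n+1)M is flat over A for every n ≥ 0, then M is flat
over A. -/
theorem result {A B : Type u} [CommRing A] [CommRing B]
    [IsNoetherianRing A] [IsNoetherianRing B] [IsLocalRing A] [IsLocalRing B] [Algebra A B]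
    [IsLocalHom (algebraMap A B)] (M : Type u) [AddCommGroup M] [Module B M] [Module A M]
    [IsScalarTower A B M] [Module.Finite B M] (f : B) (hf : f ∈ IsLocalRing.maximalIdeal B)
    (hflat : ∀ n : ℕ, Module.Flat A (M ⧸ (Ideal.span {f ^ (n + 1)} • (⊤ : Submodule B M)))) :
    Module.Flat A M := by
  let 𝔪 := IsLocalRing.maximalIdeal A
  have hfin : Module.Finite B (M ⊗[A] 𝔪) :=
    Groth.Agent.Lib.Helper9.finite_tensorProduct_of_finite (R := A) (S := B) (M := M) 𝔪
  have h𝔪B : 𝔪.map (algebraMap A B) ≤ Ideal.jacobson ⊥ := by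
    rw [IsLocalRing.jacobson_eq_maximalIdeal ⊥ bot_ne_top]
    rw [Ideal.map_le_iff_le_comap]
    intro a ha
    rw [Ideal.mem_comap, IsLocalRing.mem_maximalIdeal, map_mem_nonunits_iff]
    exact (IsLocalRing.mem_maximalIdeal a).mp ha
  have hfJ : Ideal.span {f} ≤ Ideal.jacobson (⊥ : Ideal B) := by
    rw [IsLocalRing.jacobson_eq_maximalIdeal ⊥ bot_ne_top, Ideal.span_singleton_le_iff_mem]
    exact hf
  have hI : Function.Injective (𝔪.subtype.rTensor M) := by
    rw [← LinearMap.lTensor_inj_iff_rTensor_inj]
    rw [injective_iff_map_eq_zero]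
    intro x hx
    have key : ∀ n : ℕ, x ∈ (Ideal.span {f} ^ n) • (⊤ : Submodule B (M ⊗[A] 𝔪)) := by
      intro n
      cases n with
      | zero => simp
      | succ n =>
        rw [Ideal.span_singleton_pow,
          Groth.Agent.Lib.Helper9.FlatFibre.mem_span_singleton_smul_top_iff]
        let N : Submodule B M := Ideal.span {f ^ (n + 1)} • (⊤ : Submodule B M)
        let NA : Submodule A M := N.restrictScalars A
        let q : M →ₗ[A] (M ⧸ N) := N.mkQ.restrictScalars A
        have hq : Function.Surjective q := N.mkQ_surjective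
        have hex : Function.Exact NA.subtype q := by
          intro m
          change N.mkQ m = 0 ↔ m ∈ Set.range NA.subtype
          rw [Submodule.mkQ_apply, Submodule.Quotient.mk_eq_zero]
          simp [NA]
        have h1 : q.rTensor 𝔪 x = 0 := by
          have := hflat n
          apply Module.Flat.lTensor_preserves_injective_linearMap (M := M ⧸ N) 𝔪.subtype
            Subtype.val_injective
          rw [map_zero, ← LinearMap.comp_apply, LinearMap.lTensor_comp_rTensor,
            ← LinearMap.rTensor_comp_lTensor, LinearMap.comp_apply, hx, map_zero]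
        obtain ⟨z, rfl⟩ := (rTensor_exact 𝔪 hex hq x).mp h1
        have hz : ∀ z : NA ⊗[A] 𝔪, ∃ y : M ⊗[A] 𝔪, f ^ (n + 1) • y = NA.subtype.rTensor 𝔪 z := by
          intro z
          induction z using TensorProduct.induction_on with
          | zero => exact ⟨0, by simp⟩
          | tmul c a =>
            have hc : (c : M) ∈ N := c.2
            rw [Groth.Agent.Lib.Helper9.FlatFibre.mem_span_singleton_smul_top_iff] at hc
            obtain ⟨y, hy⟩ := hc
            refine ⟨y ⊗ₜ[A] a, ?_⟩
            rw [LinearMap.rTensor_tmul, Submodule.subtype_apply, ← hy]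
            rfl
          | add z₁ z₂ h₁ h₂ =>
            obtain ⟨y₁, hy₁⟩ := h₁
            obtain ⟨y₂, hy₂⟩ := h₂
            exact ⟨y₁ + y₂, by rw [smul_add, hy₁, hy₂, map_add]⟩
        exact hz z
    have hmem : x ∈ (⨅ i : ℕ, Ideal.span {f} ^ i • ⊤ : Submodule B (M ⊗[A] 𝔪)) := by
      rw [Submodule.mem_iInf]
      exact key
    rw [Ideal.iInf_pow_smul_eq_bot_of_le_jacobson (Ideal.span {f}) hfJ] at hmem
    exact hmem
  have : Module.Flat (A ⧸ 𝔪) ((A ⧸ 𝔪) ⊗[A] M) := by
    let _ : Field (A ⧸ IsLocalRing.maximalIdeal A) := Ideal.Quotient.field _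
    change Module.Flat (A ⧸ IsLocalRing.maximalIdeal A) ((A ⧸ IsLocalRing.maximalIdeal A) ⊗[A] M)
    infer_instance
  exact Groth.Agent.Lib.Helper9.flat_of_rTensor_injective_of_le_jacobson (S := B) 𝔪 h𝔪B hI

end Groth.Agent.S14456
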