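import Groth.Statements.S14458
import Mathlib
-- import your own Groth.Agent.* helpers here

set_option autoImplicit false
universe u
open CAlg

namespace Groth.Agent.S14458

open TensorProduct in
/-- Let R be an Artinian local ring with residue field k and M an R-module, not necessarily finitely
generated. If M ⊗_R k = 0 then M = 0. -/
theorem result {R : Type u} [CommRing R]
    [IsArtinianRing R] [IsLocalRing R] (M : Type u) [AddCommGroup M] [Module R M]
    (h : Subsingleton ((IsLocalRing.ResidueField R) ⊗[R] M)) : Subsingleton M := by
  -- `M = m M`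
  have e := TensorProduct.quotTensorEquivQuotSMul M (IsLocalRing.maximalIdeal R)
  have hsub : Subsingleton (M ⧸ (IsLocalRing.maximalIdeal R • (⊤ : Submodule R M))) := by
    have h' : Subsingleton ((R ⧸ IsLocalRing.maximalIdeal R) ⊗[R] M) := h
    exact e.symm.injective.subsingleton
  have htop : IsLocalRing.maximalIdeal R • (⊤ : Submodule R M) = ⊤ :=
    Submodule.Quotient.subsingleton_iff.mp hsub
  -- the maximal ideal is nilpotent
  have hnil : IsNilpotent (IsLocalRing.maximalIdeal R) := by
    have := IsArtinianRing.isNilpotent_jacobson_bot (R := R)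
    rwa [IsLocalRing.jacobson_eq_maximalIdeal _ bot_ne_top] at this
  obtain ⟨n, hn⟩ := hnil
  have hpow : ∀ k : ℕ, (IsLocalRing.maximalIdeal R) ^ k • (⊤ : Submodule R M) = ⊤ := by
    intro k
    induction k with
    | zero => simp
    | succ k ih => rw [pow_succ, mul_smul, htop, ih]
  have h0 := hpow n
  rw [hn] at h0
  have h1 : (⊥ : Submodule R M) = ⊤ := by
    rw [← h0]
    exact (Submodule.bot_smul _).symm
  exact (Submodule.subsingleton_iff R).mp ⟨fun a b => by
    have : a = ⊥ := by
      apply le_antisymm _ bot_le
      rw [h1]; exact le_top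
    have hb : b = ⊥ := by
      apply le_antisymm _ bot_le
      rw [h1]; exact le_top
    rw [this, hb]⟩

end Groth.Agent.S14458
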