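import Groth.Statements.S14461
import Groth.Agent.Lib.Helper10.FEtGraph
import Groth.Agent.Lib.Helper10.FEtRank
import Groth.Agent.Lib.Helper10.NormalExt

set_option autoImplicit false
universe u
open CategoryTheory CategoryTheory.Limits AlgebraicGeometry
open Pi1

namespace Groth.Agent.S14461

/-- Let X be a Noetherian scheme and X₀ → X a closed immersion such that, for every finite étale Y → X,
the projection Y ×_X X₀ → Y induces a bijection on connected components. Then restriction of finite
étale covers from X to X₀ is full and faithful. -/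
theorem result {X X₀ : Scheme.{u}} [IsNoetherian X]
    (i : X₀ ⟶ X) [IsClosedImmersion i]
    (h : ∀ Y : FEt.Cat X, Function.Bijective (pullback.fst Y.hom i).continuous.connectedComponentsMap) :
    (FEt.restrict i).Full ∧ (FEt.restrict i).Faithful := by
  have hmeets : ∀ Y : FEt.Cat X, Groth.Agent.Lib.Helper10.FEtRank.ClopenMeets
      (CategoryTheory.Limits.pullback.fst Y.hom i) := fun Y =>
    Groth.Agent.Lib.Helper10.FEtRank.clopenMeets_of_connectedComponentsMap_surjective _
      (CategoryTheory.Limits.pullback.fst Y.hom i).continuous (h Y).2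
  refine ⟨?_, Groth.Agent.Lib.Helper10.FEtRank.faithful_of_clopenMeets i hmeets⟩
  apply Groth.Agent.Lib.Helper10.NormalExt.full_of_extend
  intro Y₁ Y₂ ψ hψ
  haveI : AlgebraicGeometry.Etale Y₂.hom := Y₂.prop.2
  haveI : AlgebraicGeometry.IsFinite Y₂.hom := Y₂.prop.1
  haveI : AlgebraicGeometry.IsFinite Y₁.hom := Y₁.prop.1
  haveI : AlgebraicGeometry.Etale Y₁.hom := Y₁.prop.2
  let γ : CategoryTheory.Limits.pullback Y₁.hom i ⟶ CategoryTheory.Limits.pullback Y₁.hom Y₂.hom :=
    CategoryTheory.Limits.pullback.lift (CategoryTheory.Limits.pullback.fst Y₁.hom i)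
      (ψ ≫ CategoryTheory.Limits.pullback.fst Y₂.hom i) (by
        rw [CategoryTheory.Category.assoc,
          CategoryTheory.Limits.pullback.condition (f := Y₂.hom) (g := i),
          ← CategoryTheory.Category.assoc, hψ, CategoryTheory.Limits.pullback.condition])
  have hγ : γ ≫ CategoryTheory.Limits.pullback.fst Y₁.hom Y₂.hom =
      CategoryTheory.Limits.pullback.fst Y₁.hom i := CategoryTheory.Limits.pullback.lift_fst _ _ _
  have hγ2 : γ ≫ CategoryTheory.Limits.pullback.snd Y₁.hom Y₂.hom =
      ψ ≫ CategoryTheory.Limits.pullback.fst Y₂.hom i := CategoryTheory.Limits.pullback.lift_snd _ _ _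
  have hs' : (CategoryTheory.Limits.pullback.lift γ (CategoryTheory.CategoryStruct.id _)
      (by rw [hγ, CategoryTheory.Category.id_comp]) :
      CategoryTheory.Limits.pullback Y₁.hom i ⟶ CategoryTheory.Limits.pullback
        (CategoryTheory.Limits.pullback.fst Y₁.hom Y₂.hom)
        (CategoryTheory.Limits.pullback.fst Y₁.hom i)) ≫
      CategoryTheory.Limits.pullback.snd _ _ = CategoryTheory.CategoryStruct.id _ :=
    CategoryTheory.Limits.pullback.lift_snd _ _ _
  haveI hoi := Groth.Agent.Lib.Helper10.FEtGraph.isOpenImmersion_of_section _ _ hs'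
  haveI hci : AlgebraicGeometry.IsClosedImmersion (CategoryTheory.Limits.pullback.lift γ
      (CategoryTheory.CategoryStruct.id _) (by rw [hγ, CategoryTheory.Category.id_comp]) :
      CategoryTheory.Limits.pullback Y₁.hom i ⟶ CategoryTheory.Limits.pullback
        (CategoryTheory.Limits.pullback.fst Y₁.hom Y₂.hom)
        (CategoryTheory.Limits.pullback.fst Y₁.hom i)) := by
    haveI : AlgebraicGeometry.IsClosedImmersion ((CategoryTheory.Limits.pullback.lift γ
      (CategoryTheory.CategoryStruct.id _) (by rw [hγ, CategoryTheory.Category.id_comp]) :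
      CategoryTheory.Limits.pullback Y₁.hom i ⟶ CategoryTheory.Limits.pullback
        (CategoryTheory.Limits.pullback.fst Y₁.hom Y₂.hom)
        (CategoryTheory.Limits.pullback.fst Y₁.hom i)) ≫ CategoryTheory.Limits.pullback.snd _ _) := by
      rw [hs']; infer_instance
    exact AlgebraicGeometry.IsClosedImmersion.of_comp _ (CategoryTheory.Limits.pullback.snd _ _)
  have hclopen : IsClopen (Set.range
      (CategoryTheory.Limits.pullback.lift γ (CategoryTheory.CategoryStruct.id _)
        (by rw [hγ, CategoryTheory.Category.id_comp]) :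
      CategoryTheory.Limits.pullback Y₁.hom i ⟶ CategoryTheory.Limits.pullback
        (CategoryTheory.Limits.pullback.fst Y₁.hom Y₂.hom)
        (CategoryTheory.Limits.pullback.fst Y₁.hom i))) :=
    ⟨(AlgebraicGeometry.Scheme.Hom.isClosedEmbedding _).isClosed_range,
      (AlgebraicGeometry.Scheme.Hom.isOpenEmbedding _).isOpen_range⟩
  -- `W = Y₁ ×_X Y₂` as a finite étale cover of `X`
  let WW : FEt.Cat X := CategoryTheory.MorphismProperty.Over.mk ⊤
    (CategoryTheory.Limits.pullback.fst Y₁.hom Y₂.hom ≫ Y₁.hom) ⟨inferInstance, inferInstance⟩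
  let e := CategoryTheory.Limits.pullbackRightPullbackFstIso Y₁.hom i
    (CategoryTheory.Limits.pullback.fst Y₁.hom Y₂.hom)
  have he : e.hom ≫ CategoryTheory.Limits.pullback.fst WW.hom i =
      CategoryTheory.Limits.pullback.fst (CategoryTheory.Limits.pullback.fst Y₁.hom Y₂.hom)
        (CategoryTheory.Limits.pullback.fst Y₁.hom i) :=
    CategoryTheory.Limits.pullbackRightPullbackFstIso_hom_fst _ _ _
  haveI : AlgebraicGeometry.IsNoetherian (CategoryTheory.Limits.pullback Y₁.hom Y₂.hom) :=
    { toIsLocallyNoetherian := AlgebraicGeometry.LocallyOfFiniteType.isLocallyNoetherian (Y := X)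
        (CategoryTheory.Limits.pullback.fst Y₁.hom Y₂.hom ≫ Y₁.hom)
      toCompactSpace := AlgebraicGeometry.QuasiCompact.compactSpace_of_compactSpace (Y := X)
        (CategoryTheory.Limits.pullback.fst Y₁.hom Y₂.hom ≫ Y₁.hom) }
  haveI hfin : Finite (_root_.ConnectedComponents ↥((CategoryTheory.Functor.id Scheme).obj WW.left)) :=
    Groth.Agent.Lib.Helper10.FEtRank.finite_connectedComponents_of_noetherianSpace
      ↥(CategoryTheory.Limits.pullback Y₁.hom Y₂.hom)
  have hinj : Function.Injective e.hom := by
    apply Function.LeftInverse.injective (g := e.inv)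
    intro x
    rw [← AlgebraicGeometry.Scheme.Hom.comp_apply, e.hom_inv_id]
    rfl
  have hclopen' : IsClopen (e.hom '' Set.range
      (CategoryTheory.Limits.pullback.lift γ (CategoryTheory.CategoryStruct.id _)
        (by rw [hγ, CategoryTheory.Category.id_comp]) :
      CategoryTheory.Limits.pullback Y₁.hom i ⟶ CategoryTheory.Limits.pullback
        (CategoryTheory.Limits.pullback.fst Y₁.hom Y₂.hom)
        (CategoryTheory.Limits.pullback.fst Y₁.hom i))) :=
    ⟨(e.hom.homeomorph.isClosed_image).mpr hclopen.1, (e.hom.homeomorph.isOpen_image).mpr hclopen.2⟩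
  obtain ⟨T, hTclopen, hT⟩ :=
    Groth.Agent.Lib.Helper10.FEtRank.exists_clopen_of_connectedComponentsMap_injective
      (CategoryTheory.Limits.pullback.fst WW.hom i)
      (CategoryTheory.Limits.pullback.fst WW.hom i).continuous (h WW).1 _ hclopen'
  obtain ⟨σ, hσ1, hσ2⟩ := Groth.Agent.Lib.Helper10.FEtRank.exists_section_of_clopen Y₁.hom Y₂.hom
    (CategoryTheory.Limits.pullback.fst Y₁.hom i) (hmeets Y₁) γ hγ ⟨T, hTclopen.2⟩ hTclopen.1
    (by
      ext x
      change (CategoryTheory.Limits.pullback.fst (CategoryTheory.Limits.pullback.fst Y₁.hom Y₂.hom)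
        (CategoryTheory.Limits.pullback.fst Y₁.hom i)) x ∈ T ↔ _
      have h3 : (CategoryTheory.Limits.pullback.fst
          (CategoryTheory.Limits.pullback.fst Y₁.hom Y₂.hom)
          (CategoryTheory.Limits.pullback.fst Y₁.hom i)) x =
          (CategoryTheory.Limits.pullback.fst WW.hom i) (e.hom x) := by
        rw [← he]; rfl
      rw [h3]
      have hT' : ∀ z, (CategoryTheory.Limits.pullback.fst WW.hom i) z ∈ T ↔ z ∈ e.hom '' Set.range
          (CategoryTheory.Limits.pullback.lift γ (CategoryTheory.CategoryStruct.id _)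
            (by rw [hγ, CategoryTheory.Category.id_comp]) :
          CategoryTheory.Limits.pullback Y₁.hom i ⟶ CategoryTheory.Limits.pullback
            (CategoryTheory.Limits.pullback.fst Y₁.hom Y₂.hom)
            (CategoryTheory.Limits.pullback.fst Y₁.hom i)) := fun z => by
        rw [← hT]; rfl
      exact (hT' _).trans hinj.mem_set_image)
  refine ⟨σ ≫ CategoryTheory.Limits.pullback.snd Y₁.hom Y₂.hom, ?_, ?_⟩
  · rw [CategoryTheory.Category.assoc, ← CategoryTheory.Limits.pullback.condition,
      ← CategoryTheory.Category.assoc, hσ1]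
    exact CategoryTheory.Category.id_comp _
  · rw [← CategoryTheory.Category.assoc, hσ2, hγ2]

end Groth.Agent.S14461
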