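import Groth.Statements.S14478
import Mathlib

set_option autoImplicit false
universe u
open CharCyc

namespace Groth.Agent.S14478

open Module

section cc
variable {k V : Type u} [Field k] [AddCommGroup V] [Module k V] [FiniteDimensional k V]

theorem exists_notMem_two {p q : Submodule k V} (hp : p ≠ ⊤) (hq : q ≠ ⊤) :
    ∃ v : V, v ∉ p ∧ v ∉ q := by
  obtain ⟨a, ha⟩ : ∃ a, a ∉ p := by
    by_contra h
    push Not at h
    exact hp (eq_top_iff.mpr fun x _ => h x)
  obtain ⟨b, hb⟩ : ∃ b, b ∉ q := by
    by_contra h
    push Not at h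
    exact hq (eq_top_iff.mpr fun x _ => h x)
  by_cases haq : a ∈ q
  · by_cases hbp : b ∈ p
    · refine ⟨a + b, fun h => ha ?_, fun h => hb ?_⟩
      · have := p.sub_mem h hbp
        rwa [add_sub_cancel_right] at this
      · have := q.sub_mem h haq
        rwa [add_sub_cancel_left] at this
    · exact ⟨b, hbp, hb⟩
  · exact ⟨a, ha, haq⟩

theorem finrank_sup_span_singleton {p : Submodule k V} {v : V} (hv : v ∉ p) :
    finrank k ↥(p ⊔ Submodule.span k {v}) = finrank k p + 1 := by
  have hv0 : v ≠ 0 := fun h => hv (h ▸ p.zero_mem)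
  have h := Submodule.finrank_sup_add_finrank_inf_eq p (Submodule.span k {v})
  rw [((Submodule.disjoint_span_singleton' hv0).mpr hv).eq_bot, finrank_bot,
    finrank_span_singleton hv0, add_zero] at h
  exact h

theorem disjoint_sup_span {p r' : Submodule k V} {v : V} (hv : v ∉ p)
    (h : Disjoint (p ⊔ Submodule.span k {v}) r') : Disjoint p (r' ⊔ Submodule.span k {v}) := by
  rw [Submodule.disjoint_def]
  intro x hxp hxr
  obtain ⟨y, hy, z, hz, rfl⟩ := Submodule.mem_sup.mp hxr
  obtain ⟨a, rfl⟩ := Submodule.mem_span_singleton.mp hz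
  have hy0 : y = 0 := by
    apply (Submodule.disjoint_def.mp h) y _ hy
    have : y = (y + a • v) - a • v := by abel
    rw [this]
    exact Submodule.sub_mem _ (Submodule.mem_sup_left hxp)
      (Submodule.mem_sup_right (Submodule.smul_mem _ a (Submodule.mem_span_singleton_self v)))
  rw [hy0, zero_add] at hxp ⊢
  by_cases ha : a = 0
  · rw [ha, zero_smul]
  · exfalso
    apply hv
    have := p.smul_mem a⁻¹ hxp
    rwa [smul_smul, inv_mul_cancel₀ ha, one_smul] at this

theorem exists_common_compl_aux : ∀ (c : ℕ) (p q : Submodule k V),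
    finrank k p = finrank k q → finrank k p + c = finrank k V →
    ∃ r : Submodule k V, finrank k r = c ∧ Disjoint p r ∧ Disjoint q r := by
  intro c
  induction c with
  | zero =>
    intro p q _ _
    exact ⟨⊥, finrank_bot k V, disjoint_bot_right, disjoint_bot_right⟩
  | succ c ih =>
    intro p q hpq hc
    have hp : p ≠ ⊤ := by
      rintro rfl
      rw [finrank_top] at hc
      omega
    have hq : q ≠ ⊤ := by
      rintro rfl
      rw [hpq, finrank_top] at hc
      omega
    obtain ⟨v, hvp, hvq⟩ := exists_notMem_two hp hq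
    obtain ⟨r', hr', hpr', hqr'⟩ := ih (p ⊔ Submodule.span k {v}) (q ⊔ Submodule.span k {v})
      (by rw [finrank_sup_span_singleton hvp, finrank_sup_span_singleton hvq, hpq])
      (by rw [finrank_sup_span_singleton hvp]; omega)
    refine ⟨r' ⊔ Submodule.span k {v}, ?_, disjoint_sup_span hvp hpr', disjoint_sup_span hvq hqr'⟩
    have hvr' : v ∉ r' := by
      intro hv
      have hv0 : v ≠ 0 := fun h => hvp (h ▸ p.zero_mem)
      exact hv0 ((Submodule.disjoint_def.mp hpr') v
        (Submodule.mem_sup_right (Submodule.mem_span_singleton_self v)) hv)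
    rw [finrank_sup_span_singleton hvr', hr']

theorem exists_common_compl (p q : Submodule k V) (h : finrank k p = finrank k q) :
    ∃ r : Submodule k V, IsCompl p r ∧ IsCompl q r := by
  have hle : finrank k p ≤ finrank k V := Submodule.finrank_le p
  obtain ⟨r, hr, hpr, hqr⟩ := exists_common_compl_aux (finrank k V - finrank k p) p q h (by omega)
  refine ⟨r, (Submodule.isCompl_iff_disjoint p r (by omega)).mpr hpr,
    (Submodule.isCompl_iff_disjoint q r (by omega)).mpr hqr⟩

end cc

section main
variable {k V : Type u} [Field k] [AddCommGroup V] [Module k V] [FiniteDimensional k V]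

theorem finrank_map_snd_add' {W : Type u} [AddCommGroup W] [Module k W] [FiniteDimensional k W]
    (T : Submodule k (V × W)) :
    finrank k ↥(T.map (LinearMap.snd k V W)) +
      finrank k ↥(T.comap (LinearMap.inl k V W)) = finrank k T := by
  have h1 := LinearMap.finrank_range_add_finrank_ker ((LinearMap.snd k V W).domRestrict T)
  rw [LinearMap.range_domRestrict, LinearMap.ker_domRestrict] at h1
  rw [← h1]
  congr 1
  rw [← Submodule.finrank_map_subtype_eq T, Submodule.map_comap_subtype, LinearMap.ker_snd]
  have h2 := (Submodule.equivMapOfInjective (LinearMap.inl k V W)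
    LinearMap.inl_injective (T.comap (LinearMap.inl k V W))).finrank_eq
  rw [h2, Submodule.map_comap_eq, inf_comm]

theorem finrank_map_snd_add (T : Submodule k (V × Module.Dual k V)) :
    finrank k ↥(T.map (LinearMap.snd k V (Module.Dual k V))) +
      finrank k ↥(T.comap (LinearMap.inl k V (Module.Dual k V))) = finrank k T :=
  finrank_map_snd_add' T

end main


/-- Let V be a finite-dimensional vector space over a field k, let W = V × V^∨ with V^∨ the dual space,
and let T ⊆ W be a subspace with dim T = dim V; put V₁ = V ∩ T, where V sits in W as V × 0. Then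
there is a complement V₂ of V₁ in V with the following property: for every injective linear map A₁ :
V₁ → V₁^∨, the map A : V → V^∨ extending A₁ by zero along the decompositions V = V₁ ⊕ V₂ and V^∨ =
V₁^∨ ⊕ V₂^∨ (so A v = A₁(p v) ∘ p, with p : V → V₁ the projection along V₂) has graph Γ ⊆ W with Γ ∩
T = 0. -/
theorem result (k V : Type u) [Field k] [AddCommGroup V] [Module k V]
    [FiniteDimensional k V] (T : Submodule k (V × Module.Dual k V))
    (hT : Module.finrank k T = Module.finrank k V) :
    ∃ (V₂ : Submodule k V) (h : IsCompl (T.comap (LinearMap.inl k V (Module.Dual k V))) V₂),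
      ∀ A₁ : T.comap (LinearMap.inl k V (Module.Dual k V)) →ₗ[k]
          Module.Dual k (T.comap (LinearMap.inl k V (Module.Dual k V))),
        Function.Injective A₁ →
          LinearMap.graph ((Submodule.projectionOnto _ V₂ h).dualMap ∘ₗ A₁ ∘ₗ
              Submodule.projectionOnto _ V₂ h) ⊓ T = ⊥ := by
  have hfr : finrank k ↥(T.comap (LinearMap.inl k V (Module.Dual k V))) =
      finrank k ↥((T.map (LinearMap.snd k V (Module.Dual k V))).dualCoannihilator) := by
    have h1 := finrank_map_snd_add T
    have h2 := Subspace.finrank_add_finrank_dualCoannihilator_eq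
      (T.map (LinearMap.snd k V (Module.Dual k V)))
    omega
  obtain ⟨V₂, hV₁, hU'⟩ := exists_common_compl _ _ hfr
  refine ⟨V₂, hV₁, ?_⟩
  intro A₁ hA₁
  rw [Submodule.eq_bot_iff]
  rintro ⟨v, φ⟩ ⟨hgr, hT⟩
  rw [SetLike.mem_coe, LinearMap.mem_graph_iff] at hgr
  change φ = _ at hgr
  -- φ vanishes on V₂
  have hφ₂ : ∀ y ∈ V₂, φ y = 0 := by
    intro y hy
    rw [hgr]
    simp only [LinearMap.comp_apply, LinearMap.dualMap_apply]
    rw [Submodule.projectionOnto_apply_right hV₁ ⟨y, hy⟩, map_zero]
  -- φ vanishes on U'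
  have hφU : ∀ y ∈ (T.map (LinearMap.snd k V (Module.Dual k V))).dualCoannihilator, φ y = 0 := by
    intro y hy
    rw [Submodule.mem_dualCoannihilator] at hy
    exact hy φ ⟨(v, φ), hT, rfl⟩
  have hφ0 : φ = 0 := by
    ext y
    have hy : y ∈ (T.map (LinearMap.snd k V (Module.Dual k V))).dualCoannihilator ⊔ V₂ := by
      rw [hU'.sup_eq_top]
      trivial
    obtain ⟨y₁, hy₁, y₂, hy₂, rfl⟩ := Submodule.mem_sup.mp hy
    rw [map_add, hφU y₁ hy₁, hφ₂ y₂ hy₂, add_zero, LinearMap.zero_apply]
  -- hence p v = 0
  have hpv : Submodule.projectionOnto _ V₂ hV₁ v = 0 := by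
    apply hA₁
    rw [map_zero]
    ext z
    have h3 := LinearMap.congr_fun hgr (z : V)
    rw [hφ0, LinearMap.zero_apply] at h3
    simp only [LinearMap.comp_apply, LinearMap.dualMap_apply] at h3
    rw [Submodule.projectionOnto_apply_left hV₁ z] at h3
    rw [LinearMap.zero_apply]
    exact h3.symm
  have hv₂ : v ∈ V₂ := (Submodule.projectionOnto_apply_eq_zero_iff hV₁).mp hpv
  have hv₁ : v ∈ T.comap (LinearMap.inl k V (Module.Dual k V)) := by
    rw [Submodule.mem_comap]
    rw [hφ0] at hT
    exact hT
  have hv0 : v = 0 := (Submodule.disjoint_def.mp hV₁.disjoint) v hv₁ hv₂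
  rw [hv0, hφ0]
  rfl

end Groth.Agent.S14478
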