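import Groth.Statements.S14479
import Mathlib
-- import your own Groth.Agent.* helpers here

set_option autoImplicit false
universe u
open CharCyc

namespace Groth.Agent.S14479

/-- Let V be a finite-dimensional vector space over a field k. If dim V is even or the characteristic of
k is different from 2, there is a bilinear form B on V such that the bilinear form (v, w) ↦ B(v, w)
+ B(w, v) (B plus its transpose, as a map V → V^∨) is nondegenerate. -/
theorem result (k V : Type u) [Field k] [AddCommGroup V] [Module k V]
    [FiniteDimensional k V] (h : Even (Module.finrank k V) ∨ ringChar k ≠ 2) :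
    ∃ B : LinearMap.BilinForm k V, (B + B.flip).Nondegenerate := by
  classical
  -- general construction from a matrix
  have gen : ∀ (ι : Type) [Fintype ι] [DecidableEq ι] (b : Module.Basis ι k V) (M : Matrix ι ι k),
      (M + M.transpose).det ≠ 0 → ∃ B : LinearMap.BilinForm k V, (B + B.flip).Nondegenerate := by
    intro ι _ _ b M hM
    refine ⟨Matrix.toBilin b M, ?_⟩
    refine LinearMap.BilinForm.nondegenerate_of_det_ne_zero _ b ?_
    have hbasis : ∀ i j, Matrix.toBilin b M (b i) (b j) = M i j := by
      intro i j
      have := congrFun (congrFun (LinearMap.BilinForm.toMatrix_toBilin b M) i) j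
      rwa [LinearMap.BilinForm.toMatrix_apply] at this
    have : LinearMap.BilinForm.toMatrix b (Matrix.toBilin b M + (Matrix.toBilin b M).flip) =
        M + M.transpose := by
      ext i j
      rw [LinearMap.BilinForm.toMatrix_apply, LinearMap.add_apply, LinearMap.add_apply,
        LinearMap.BilinForm.flip_apply, hbasis, hbasis,
        Matrix.add_apply, Matrix.transpose_apply]
    rw [this]
    exact hM
  rcases h with h | h
  · -- even dimension
    obtain ⟨m, hm⟩ := h
    let e : Fin (Module.finrank k V) ≃ Fin m ⊕ Fin m :=
      (finCongr hm).trans finSumFinEquiv.symm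
    let b := (Module.finBasis k V).reindex e
    let J : Matrix (Fin m ⊕ Fin m) (Fin m ⊕ Fin m) k := Matrix.fromBlocks 0 1 1 0
    have hJ : (Matrix.fromBlocks (0 : Matrix (Fin m) (Fin m) k) 1 0 0) +
        (Matrix.fromBlocks (0 : Matrix (Fin m) (Fin m) k) 1 0 0).transpose = J := by
      rw [Matrix.fromBlocks_transpose, Matrix.fromBlocks_add]
      simp [J]
    have hJJ : J * J = 1 := by
      simp [J, Matrix.fromBlocks_multiply, Matrix.fromBlocks_one]
    apply gen (Fin m ⊕ Fin m) b (Matrix.fromBlocks 0 1 0 0)
    rw [hJ]
    intro h0
    have := congrArg Matrix.det hJJ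
    rw [Matrix.det_mul, h0, mul_zero, Matrix.det_one] at this
    exact zero_ne_one this
  · -- characteristic different from two
    have h2 : (2 : k) ≠ 0 := Ring.two_ne_zero h
    apply gen (Fin (Module.finrank k V)) (Module.finBasis k V) 1
    rw [Matrix.transpose_one, ← two_smul k (1 : Matrix _ _ k), Matrix.det_smul, Matrix.det_one,
      mul_one]
    exact pow_ne_zero _ h2

end Groth.Agent.S14479
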