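import Groth.Statements.S14482
import Groth.Agent.Lib.Helper21.CharCyc1
import Groth.Agent.Lib.Helper18.TopDim
import Groth.Agent.Lib.Helper21.FibDim9
-- import your own Groth.Agent.* helpers here

set_option autoImplicit false
universe u
open CategoryTheory AlgebraicGeometry
open CharCyc

namespace Groth.Agent.S14482

/-- Second assertion: let k be a field, let π : C → X be a morphism between k-schemes of finite type
such that every irreducible component of C has dimension n, let ι : W → X be a regular immersion of
codimension c, and for j ≥ 0 let B_j ⊆ X be the set of points whose fibre under π has dimension at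
least j. Assume that every B_j is closed in X. Then dim B_j + j ≤ n for every j, and the condition
dim π⁻¹(ι(W)) + c ≤ n (that is, dim C ×_X W ≤ n − c) holds if and only if dim ι⁻¹(B_j) + c + j ≤ n
for every j (that is, ι meets the sequence (B_j) n-semi-properly). Dimensions are topological Krull
dimensions of subspaces, the empty space having dimension ⊥. (Stated for each of the four kinds of
regular immersion of codimension c — regular, Koszul-regular, H₁-regular, quasi-regular; the
published statement does not distinguish kinds.) -/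
theorem result (k : Type u) [Field k] (C X W : Scheme.{u})
    (q : X ⟶ Spec (CommRingCat.of k)) (π : C ⟶ X) (ι : W ⟶ X)
    [LocallyOfFiniteType q] [CompactSpace X] [LocallyOfFiniteType π] [CompactSpace C]
    (κ : RegImm.Kind) (n c : ℕ) (hι : RegImm.IsRegularImmersionOfCodim κ c ι)
    (hC : ∀ P ∈ irreducibleComponents (C : Type u), topologicalKrullDim P = n)
    (hB : ∀ j : ℕ, IsClosed {x : X | (j : WithBot ℕ∞) ≤ topologicalKrullDim (π.fiber x)}) :
    (∀ j : ℕ, topologicalKrullDim {x : X | (j : WithBot ℕ∞) ≤ topologicalKrullDim (π.fiber x)} + (j : WithBot ℕ∞) ≤ n) ∧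
      (topologicalKrullDim (π ⁻¹' Set.range ι : Set C) + (c : WithBot ℕ∞) ≤ n ↔
        ∀ j : ℕ, topologicalKrullDim (ι ⁻¹' {x : X | (j : WithBot ℕ∞) ≤ topologicalKrullDim (π.fiber x)} : Set W) + (c : WithBot ℕ∞) + (j : WithBot ℕ∞) ≤ n) := by
  have himm : IsImmersion ι := hι.1
  -- arithmetic helpers
  have harith : ∀ (a : WithBot ℕ∞) (c m : ℕ),
      (a + (c : WithBot ℕ∞) ≤ ((m + c : ℕ) : WithBot ℕ∞) ↔ a ≤ (m : WithBot ℕ∞)) := by
    intro a c m
    have : ((m + c : ℕ) : WithBot ℕ∞) = (m : WithBot ℕ∞) + (c : WithBot ℕ∞) := by push_cast; rfl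
    rw [this]
    exact ⟨Groth.Agent.Lib.Helper21.FibDim.le_of_add_nat_le_add_nat a m c,
      fun h => add_le_add h le_rfl⟩
  have hbot : ∀ (a : WithBot ℕ∞) (c n : ℕ), n < c →
      (a + (c : WithBot ℕ∞) ≤ (n : WithBot ℕ∞) ↔ a = ⊥) := by
    intro a c n hcn
    induction a using WithBot.recBotCoe with
    | bot => simp
    | coe a =>
      simp only [WithBot.coe_ne_bot, iff_false, not_le]
      induction a using ENat.recTopCoe with
      | top =>
        have : ((⊤ : ℕ∞) : WithBot ℕ∞) + ((c : ℕ∞) : WithBot ℕ∞) = ((⊤ : ℕ∞) : WithBot ℕ∞) := by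
          rw [← WithBot.coe_add, top_add]
        change ((n : ℕ∞) : WithBot ℕ∞) < ((⊤ : ℕ∞) : WithBot ℕ∞) + ((c : ℕ∞) : WithBot ℕ∞)
        rw [this, WithBot.coe_lt_coe]
        exact ENat.natCast_lt_top n
      | coe a =>
        have : n < a + c := by omega
        exact_mod_cast this
  have hempty : ∀ {T : Type u} [TopologicalSpace T], topologicalKrullDim T = ⊥ ↔ IsEmpty T := by
    intro T _
    constructor
    · intro h
      by_contra hne
      rw [not_isEmpty_iff] at hne
      have := Groth.Agent.Lib.Helper18.TopDim.zero_le_topologicalKrullDim (X := T)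
      rw [h] at this
      exact absurd this (by simp)
    · intro h
      exact Groth.Agent.Lib.Helper21.Img.topologicalKrullDim_eq_bot_of_isEmpty
  -- nonemptiness of fibres
  have hfib : ∀ x : X, (0 : WithBot ℕ∞) ≤ topologicalKrullDim (π.fiber x) ↔ ∃ c' : C, π c' = x := by
    intro x
    constructor
    · intro h
      have hne : Nonempty ↥(π.fiber x) := by
        by_contra hne
        rw [not_nonempty_iff] at hne
        rw [Groth.Agent.Lib.Helper21.Img.topologicalKrullDim_eq_bot_of_isEmpty] at h
        exact absurd h (by simp)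
      obtain ⟨z⟩ := hne
      exact ⟨π.fiberι x z, (π.fiberHomeo x z).2⟩
    · rintro ⟨c', rfl⟩
      have : Nonempty ↥(π.fiber (π c')) := ⟨π.asFiber c'⟩
      exact Groth.Agent.Lib.Helper18.TopDim.zero_le_topologicalKrullDim
  refine ⟨?_, ?_⟩
  · -- first assertion
    have hCle : topologicalKrullDim ↥C ≤ (n : WithBot ℕ∞) := by
      unfold topologicalKrullDim Order.krullDim
      refine iSup_le fun p => ?_
      obtain ⟨P, hP, hpP⟩ := exists_mem_irreducibleComponents_subset_of_isIrreducible
        (p.last : Set C) p.last.isIrreducible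
      have := Groth.Agent.Lib.Helper18.TopDim.length_le_topologicalKrullDim_of_subset p P hpP
      rw [hC P hP] at this
      exact this
    have := (Groth.Agent.Lib.Helper21.Img.topologicalKrullDim_le_iff_closure_fibreDimGE π k q n).mp hCle
    intro j
    have hj := this j
    rwa [(hB j).closure_eq] at hj
  · rcases le_or_gt c n with hcn | hcn
    · obtain ⟨m, rfl⟩ := Nat.exists_eq_add_of_le' hcn
      rw [harith _ c m,
        Groth.Agent.Lib.Helper21.CharCyc.dim_preimage_le_iff k C X W q π ι m hB]
      refine forall_congr' fun j => ?_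
      rw [add_right_comm, harith _ c m]
    · rw [hbot _ c n hcn, hempty]
      constructor
      · intro he j
        have : IsEmpty ↥(ι ⁻¹' {x : X | (j : WithBot ℕ∞) ≤ topologicalKrullDim (π.fiber x)}) := by
          refine ⟨fun w => ?_⟩
          have hw : (j : WithBot ℕ∞) ≤ topologicalKrullDim (π.fiber (ι w.1)) := w.2
          have h0 : (0 : WithBot ℕ∞) ≤ topologicalKrullDim (π.fiber (ι w.1)) :=
            le_trans (by exact_mod_cast Nat.zero_le j) hw
          obtain ⟨c', hc'⟩ := (hfib _).mp h0
          exact he.false ⟨c', ⟨w.1, hc'.symm⟩⟩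
        rw [hempty.mpr this, WithBot.bot_add, WithBot.bot_add]
        exact bot_le
      · intro h
        have h0 := h 0
        rw [add_right_comm, hbot _ c n hcn] at h0
        have h0' : topologicalKrullDim
            ↥(ι ⁻¹' {x : X | ((0 : ℕ) : WithBot ℕ∞) ≤ topologicalKrullDim (π.fiber x)}) = ⊥ := by
          rw [WithBot.add_eq_bot] at h0
          rcases h0 with h0 | h0
          · exact h0
          · exact absurd h0 (by simp)
        rw [hempty] at h0'
        refine ⟨fun c' => ?_⟩
        obtain ⟨w, hw⟩ := c'.2
        refine h0'.false ⟨w, ?_⟩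
        change ((0 : ℕ) : WithBot ℕ∞) ≤ topologicalKrullDim (π.fiber (ι w))
        rw [Nat.cast_zero, hfib]
        exact ⟨c'.1, hw.symm⟩

end Groth.Agent.S14482
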