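import Groth.Statements.S1449
import Mathlib
import Groth.Agent.Lib.Helper6.FD10
-- import your own Groth.Agent.* helpers here

set_option autoImplicit false
universe u
open FlatMor

namespace Groth.Agent.S1449

open AlgebraicGeometry CategoryTheory Limits in
/-- Consider a separated, flat, locally quasi-finite morphism f : X → S which is locally of finite
presentation. Then there are opens S = U_0 ⊇ U_1 ⊇ U_2 ⊇ ... of S with the property that a morphism
from the spectrum of a field to S lands in U_d exactly when the base change of X to that field has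
rank (of its ring of global functions over the field) at least d. -/
theorem result {X S : Scheme.{u}} (f : X ⟶ S) [Flat f] [LocallyOfFinitePresentation f] [IsSeparated f] [LocallyQuasiFinite f] :
    ∃ U : ℕ → S.Opens, Antitone U ∧ U 0 = ⊤ ∧ ∀ (K : Type u) [Field K] (g : Spec (CommRingCat.of K) ⟶ S) (d : ℕ),
      Set.range ⇑g ⊆ (U d : Set ↑S) ↔ (d : Cardinal.{u}) ≤ (letI := ((Scheme.ΓSpecIso (CommRingCat.of K)).inv ≫ (pullback.snd f g).appTop).hom.toAlgebra
        Module.rank K (Γ(pullback f g, ⊤) : Type u)) := by
  refine ⟨fun d => ⟨Groth.Agent.Lib.Helper6.FD.Udeg f d,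
    Groth.Agent.Lib.Helper6.FD.isOpen_Udeg f d⟩, ?_, ?_, ?_⟩
  · intro d d' hdd' s hs
    obtain ⟨X', hfin', hd⟩ := hs
    exact ⟨X', hfin', hdd'.trans hd⟩
  · ext s
    simp only [TopologicalSpace.Opens.coe_mk, TopologicalSpace.Opens.coe_top, Set.mem_univ,
      iff_true]
    refine ⟨⊥, fun s' => ?_, Nat.zero_le _⟩
    haveI : IsEmpty ((⊥ : X.Opens) : Type u) := ⟨fun x => by
      obtain ⟨x, hx⟩ := x
      exact (Set.mem_empty_iff_false x).mp hx⟩
    exact Set.toFinite _
  · intro K _ g d
    rw [← Groth.Agent.Lib.Helper6.FD.mem_Udeg_iff f g d (IsLocalRing.closedPoint K)]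
    constructor
    · intro h
      exact h ⟨_, rfl⟩
    · rintro h _ ⟨x, rfl⟩
      have : x = IsLocalRing.closedPoint K := Subsingleton.elim _ _
      rw [this]
      exact h

end Groth.Agent.S1449
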