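import Groth.Statements.S14491
import Mathlib
-- import your own Groth.Agent.* helpers here

set_option autoImplicit false
universe w v u
open DerTri

namespace Groth.Agent.S14491

open CategoryTheory Pretriangulated in
/-- In the derived category D(C) of an abelian category C, let E ⟶ F ⟶ G be two morphisms with E
concentrated in non-positive degrees and G concentrated in non-negative degrees for the canonical
t-structure. If two morphisms G ⟶ E⟦1⟧ both complete E ⟶ F ⟶ G to a distinguished triangle, then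
they are equal. (The published statement is phrased with the morphism G⟦-1⟧ ⟶ E of the triangle
G⟦-1⟧ ⟶ E ⟶ F ⟶ G; this row uses the equivalent connecting morphism G ⟶ E⟦1⟧ of the rotated
triangle.) -/
theorem result {C : Type u} [Category.{v} C] [Abelian C]
    [HasDerivedCategory.{w} C] {E F G : DerivedCategory C} (u : E ⟶ F) (v : F ⟶ G)
    [E.IsLE 0] [G.IsGE 0] (w w' : G ⟶ E⟦(1 : ℤ)⟧)
    (hw : Triangle.mk u v w ∈ distTriang (DerivedCategory C))
    (hw' : Triangle.mk u v w' ∈ distTriang (DerivedCategory C)) :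
    w = w' := by
  obtain ⟨(φ : G ⟶ G), hφ1, hφ2⟩ := complete_distinguished_triangle_morphism _ _ hw hw' (𝟙 E) (𝟙 F)
    (by show u ≫ 𝟙 F = 𝟙 E ≫ u; rw [Category.comp_id, Category.id_comp])
  have hφ1' : v ≫ φ = v := by
    have : v ≫ φ = 𝟙 F ≫ v := hφ1
    rw [this, Category.id_comp]
  have hφ2' : w = φ ≫ w' := by
    have : w ≫ (𝟙 E)⟦(1 : ℤ)⟧' = φ ≫ w' := hφ2
    rw [← this, CategoryTheory.Functor.map_id, Category.comp_id]
  have h1 : v ≫ (φ - 𝟙 G) = 0 := by
    rw [Preadditive.comp_sub, hφ1', Category.comp_id, sub_self]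
  obtain ⟨(ψ : E⟦(1 : ℤ)⟧ ⟶ G), hψ⟩ := Triangle.yoneda_exact₃ _ hw (φ - 𝟙 G) h1
  have hψ' : φ - 𝟙 G = w ≫ ψ := hψ
  have hLE : DerivedCategory.TStructure.t.IsLE (E⟦(1 : ℤ)⟧) (-1) :=
    DerivedCategory.TStructure.t.isLE_shift E 0 1 (-1) (by norm_num)
  have hψ0 : ψ = 0 :=
    DerivedCategory.TStructure.t.zero_of_isLE_of_isGE ψ (-1) 0 (by norm_num) hLE
      (inferInstanceAs (G.IsGE 0))
  have hφ : φ = 𝟙 G := by
    rw [hψ0, Limits.comp_zero] at hψ'
    exact sub_eq_zero.mp hψ'
  rw [hφ2', hφ, Category.id_comp]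

end Groth.Agent.S14491
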