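import Groth.Statements.S14497
import Groth.Agent.Lib.Helper2.IndCof.Div

set_option autoImplicit false
universe v u
open IndCof

namespace Groth.Agent.S14497
section Aux
open CategoryTheory CategoryTheory.Limits Groth.Agent.Lib.Helper2.IndCof

variable {V : Type u} [Category.{v} V] [Abelian V] {B : V}

lemma L1 (B' : Subobject B) (M : ℕ) (hM : M • 𝟙 (cokernel B'.arrow) = 0) :
    imageSubobject (M • 𝟙 B) ≤ B' := by
  apply le_of_forall_factors
  intro T x hx
  rw [image_factors_iff] at hx
  obtain ⟨T₁, π₁, _, y, hy⟩ := hx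
  apply factors_of_epi_comp _ π₁
  rw [hy]
  apply factors_of_comp_cokernel_eq_zero
  have : (M • 𝟙 B) ≫ cokernel.π B'.arrow = cokernel.π B'.arrow ≫ (M • 𝟙 (cokernel B'.arrow)) := by
    simp [Preadditive.comp_nsmul, Preadditive.nsmul_comp]
  rw [Category.assoc, this, hM, comp_zero, comp_zero]

lemma L2 (B' : Subobject B) (M : ℕ) (h : imageSubobject (M • 𝟙 B) ≤ B') :
    M • 𝟙 (cokernel B'.arrow) = 0 := by
  rw [← cancel_epi (cokernel.π B'.arrow), comp_zero]
  have : cokernel.π B'.arrow ≫ (M • 𝟙 (cokernel B'.arrow)) = (M • 𝟙 B) ≫ cokernel.π B'.arrow := by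
    simp [Preadditive.comp_nsmul, Preadditive.nsmul_comp]
  rw [this]
  apply comp_cokernel_eq_zero_of_factors
  apply Subobject.factors_of_le _ h
  have := imageSubobject_factors_comp_self (M • 𝟙 B) (𝟙 _)
  rwa [Category.id_comp] at this

lemma L3 (B' : Subobject B) (hdiv : ∀ k : ℕ, 0 < k → Epi (k • 𝟙 (B' : V))) (k : ℕ) (hk : 0 < k) :
    B' ≤ imageSubobject (k • 𝟙 B) :=
  le_image_of_epi B' k (hdiv k hk)

lemma L4 (M t : ℕ) : imageSubobject ((M * t) • 𝟙 B) ≤ imageSubobject (M • 𝟙 B) := by
  have : (M * t) • 𝟙 B = (t • 𝟙 B) ≫ (M • 𝟙 B) := by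
    rw [comp_nsmul_id, ← mul_smul]
  rw [this]
  exact imageSubobject_comp_le _ _

end Aux

open CategoryTheory CategoryTheory.Limits Groth.Agent.Lib.Helper2.IndCof in

open CategoryTheory CategoryTheory.Limits in
/-- Let B be an object of an abelian category and consider the inverse system, indexed by the positive
integers ordered by divisibility, with every term equal to B and transition map from the m-th to the
n-th term (n ∣ m) given by multiplication by m/n. This system is Mittag-Leffler, i.e. for every n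
the images in the n-th term of the transition maps are eventually constant, if and only if B has a
divisible sub-object B' (multiplication by every positive integer is an epimorphism of B') with B/B'
killed by some positive integer. Moreover such a B' is the largest divisible sub-object of B. -/
theorem result
    {V : Type u} [Category.{v} V] [Abelian V] (B : V) :
    ((∀ n : ℕ, 0 < n → ∃ m : ℕ, 0 < m ∧ n ∣ m ∧ ∀ m' : ℕ, 0 < m' → m ∣ m' →
        imageSubobject ((m' / n) • 𝟙 B) = imageSubobject ((m / n) • 𝟙 B)) ↔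
      ∃ B' : Subobject B, (∀ k : ℕ, 0 < k → Epi (k • 𝟙 (B' : V))) ∧
        ∃ M : ℕ, 0 < M ∧ M • 𝟙 (cokernel B'.arrow) = 0) ∧
    (∀ B' : Subobject B, (∀ k : ℕ, 0 < k → Epi (k • 𝟙 (B' : V))) →
      (∃ M : ℕ, 0 < M ∧ M • 𝟙 (cokernel B'.arrow) = 0) →
      ∀ D : Subobject B, (∀ k : ℕ, 0 < k → Epi (k • 𝟙 (D : V))) → D ≤ B') := by
  classical
  refine ⟨⟨?_, ?_⟩, ?_⟩
  · intro h
    obtain ⟨m, hm0, -, hm⟩ := h 1 Nat.one_pos
    refine ⟨imageSubobject (m • 𝟙 B), ?_, m, hm0, L2 _ _ le_rfl⟩
    intro k hk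
    apply epi_nsmul_image
    have := hm (m * k) (Nat.mul_pos hm0 hk) (Dvd.intro _ rfl)
    simpa using this
  · rintro ⟨B', hdiv, M, hM0, hM⟩ n hn
    refine ⟨n * M, Nat.mul_pos hn hM0, Dvd.intro _ rfl, ?_⟩
    rintro m' hm'0 ⟨t, rfl⟩
    have ht : 0 < t := by
      rcases Nat.eq_zero_or_pos t with h | h
      · subst h; simp at hm'0
      · exact h
    have e1 : n * M * t / n = M * t := by
      rw [mul_assoc]; exact Nat.mul_div_cancel_left _ hn
    have e2 : n * M / n = M := Nat.mul_div_cancel_left _ hn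
    rw [e1, e2]
    apply le_antisymm (L4 M t)
    exact (L1 B' M hM).trans (L3 B' hdiv _ (Nat.mul_pos hM0 ht))
  · rintro B' - ⟨M, hM0, hM⟩ D hD
    exact (L3 D hD M hM0).trans (L1 B' M hM)

end Groth.Agent.S14497
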