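import Groth.Statements.S14504
import Mathlib

set_option autoImplicit false
universe u
open IntTh

namespace Groth.Agent.S14504
section Aux
variable {K : Type u} [Field K] {n d : ℕ}

theorem fwd (A : Matrix (Fin d) (Fin n) K)
    (Vj : Submodule K (Fin n → K)) (D : ℕ)
    (hVj : ∀ v : Fin n → K, v ∈ Vj ↔ ∀ l : Fin n, D ≤ (l : ℕ) → v l = 0)
    (J : Fin d → Fin n) (hJ : StrictMono J) (i : Fin d) (hi : D ≤ (J i : ℕ))
    (hdet : (A.submatrix id J).det ≠ 0) :
    Module.finrank K ↥(Submodule.span K (Set.range fun r : Fin d => A r) ⊓ Vj) ≤ (i : ℕ) := by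
  classical
  let ρ : ↥(Submodule.span K (Set.range fun r : Fin d => A r) ⊓ Vj) →ₗ[K] (Fin i.val → K) :=
    { toFun := fun w t => w.1 (J ⟨t.val, t.2.trans i.2⟩)
      map_add' := fun x y => rfl
      map_smul' := fun r x => rfl }
  have hinj : Function.Injective ρ := by
    rw [injective_iff_map_eq_zero]
    rintro ⟨w, hwW, hwV⟩ hw
    obtain ⟨cf, hc⟩ := (Submodule.mem_span_range_iff_exists_fun K).1 hwW
    have hz : ∀ t : Fin d, w (J t) = 0 := by
      intro t
      by_cases ht : t.val < i.val
      · exact congrFun hw ⟨t.val, ht⟩
      · refine (hVj w).1 hwV _ ?_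
        have h1 : J i ≤ J t := hJ.monotone (Fin.le_def.2 (by omega))
        exact hi.trans (Fin.le_def.1 h1)
    have hc0 : Matrix.vecMul cf (A.submatrix id J) = 0 := by
      funext t
      have := hz t
      rw [← hc] at this
      simpa [Matrix.vecMul, dotProduct, Finset.sum_apply] using this
    have h0 := Matrix.eq_zero_of_vecMul_eq_zero hdet hc0
    apply Subtype.ext
    show w = 0
    rw [← hc, h0]; simp
  have := LinearMap.finrank_le_finrank_of_injective hinj
  simpa using this

theorem bwd (A : Matrix (Fin d) (Fin n) K)
    (hA : LinearIndependent K (fun i : Fin d => A i))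
    (Vj : Submodule K (Fin n → K)) (D : ℕ)
    (hVj : ∀ v : Fin n → K, v ∈ Vj ↔ ∀ l : Fin n, D ≤ (l : ℕ) → v l = 0) (i : Fin d)
    (hfr : Module.finrank K ↥(Submodule.span K (Set.range fun r : Fin d => A r) ⊓ Vj) ≤ (i : ℕ)) :
    ∃ J : Fin d → Fin n, StrictMono J ∧ D ≤ (J i : ℕ) ∧ (A.submatrix id J).det ≠ 0 := by
  classical
  let col : Fin n → (Fin d → K) := fun l r => A r l
  have hspan : Submodule.span K (Set.range col) = ⊤ := by
    have h1 : A.rank = d := by
      have := LinearIndependent.rank_matrix (M := A) hA
      simpa using this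
    have h2 := A.rank_eq_finrank_span_cols
    apply Submodule.eq_top_of_finrank_eq
    rw [Module.finrank_fintype_fun_eq_card, Fintype.card_fin]
    exact h2.symm.trans h1
  let T : Set (Fin n) := {l | D ≤ l.val}
  obtain ⟨S, hST, -, hTS, hSli⟩ := exists_linearIndepOn_extension (K := K) (v := col)
    (s := ∅) (t := T) (linearIndepOn_empty K col) (Set.empty_subset _)
  obtain ⟨b, -, hSb, hbspan, hbli⟩ := exists_linearIndepOn_extension hSli (Set.subset_univ S)
  -- card b = d
  have hbtop : Submodule.span K (col '' b) = ⊤ := by
    rw [eq_top_iff, ← hspan, Submodule.span_le, ← Set.image_univ]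
    exact hbspan
  have hbcard : b.toFinset.card = d := by
    have h1 := linearIndependent_iff_card_eq_finrank_span.1 hbli
    rw [Set.toFinset_card, h1, Set.finrank]
    have : Set.range (fun x : b => col x) = col '' b := by
      ext x; simp
    rw [this, hbtop, finrank_top, Module.finrank_fintype_fun_eq_card, Fintype.card_fin]
  -- lower bound for card S
  have hScard : d ≤ S.toFinset.card + i.val := by
    let ψ : (Fin d → K) →ₗ[K] (S → K) :=
      { toFun := fun cf l => ∑ r, cf r * A r l.1
        map_add' := fun x y => by funext l; simp [add_mul, Finset.sum_add_distrib]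
        map_smul' := fun r x => by funext l; simp [Finset.mul_sum, mul_assoc] }
    have h1 := LinearMap.finrank_range_add_finrank_ker ψ
    rw [Module.finrank_fintype_fun_eq_card, Fintype.card_fin] at h1
    have h2 : Module.finrank K (LinearMap.range ψ) ≤ S.toFinset.card := by
      have := Submodule.finrank_le (LinearMap.range ψ)
      rwa [Module.finrank_fintype_fun_eq_card, ← Set.toFinset_card] at this
    have hAinj : Function.Injective (Matrix.vecMulLinear A) := by
      rw [Matrix.coe_vecMulLinear]
      exact Matrix.vecMul_injective_iff.2 hA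
    have h3 : Module.finrank K (LinearMap.ker ψ) ≤ i.val := by
      refine le_trans ?_ hfr
      rw [(Submodule.equivMapOfInjective _ hAinj (LinearMap.ker ψ)).finrank_eq]
      apply Submodule.finrank_mono
      rintro _ ⟨cf, hcf, rfl⟩
      have hcf' : ∀ l ∈ S, ∑ r, cf r * A r l = 0 := fun l hl => congrFun hcf ⟨l, hl⟩
      refine ⟨?_, ?_⟩
      · show Matrix.vecMulLinear A cf ∈ Submodule.span K (Set.range fun r => A r)
        rw [Submodule.mem_span_range_iff_exists_fun]
        refine ⟨cf, ?_⟩
        funext l
        simp [Matrix.vecMul, dotProduct, Finset.sum_apply]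
      · show Matrix.vecMulLinear A cf ∈ Vj
        rw [hVj]
        intro l hl
        show Matrix.vecMul cf A l = 0
        let P : Submodule K (Fin d → K) :=
          { carrier := {p | ∑ r, cf r * p r = 0}
            add_mem' := by
              intro x y hx hy
              simp only [Set.mem_setOf_eq] at hx hy ⊢
              simp [mul_add, Finset.sum_add_distrib, hx, hy]
            zero_mem' := by simp
            smul_mem' := by
              intro r x hx
              simp only [Set.mem_setOf_eq] at hx ⊢
              have : ∑ r_1, cf r_1 * (r • x) r_1 = r * ∑ r_1, cf r_1 * x r_1 := by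
                rw [Finset.mul_sum]
                refine Finset.sum_congr rfl fun _ _ => ?_
                simp; ring
              rw [this, hx, mul_zero] }
        have hP : Submodule.span K (col '' S) ≤ P := by
          rw [Submodule.span_le]
          rintro _ ⟨s, hs, rfl⟩
          exact hcf' s hs
        have hcl : col l ∈ P := hP (hTS ⟨l, hl, rfl⟩)
        have hcl' : ∑ r, cf r * col l r = 0 := hcl
        simpa [Matrix.vecMul, dotProduct] using hcl'
    omega
  -- the order embedding
  let J : Fin d ↪o Fin n := b.toFinset.orderEmbOfFin hbcard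
  refine ⟨J, J.strictMono, ?_, ?_⟩
  · by_contra hlt
    push Not at hlt
    have hsub : S.toFinset ⊆ (Finset.univ.filter fun t : Fin d => i < t).image J := by
      intro l hl
      rw [Set.mem_toFinset] at hl
      have hlb : l ∈ b.toFinset := Set.mem_toFinset.2 (hSb hl)
      have : l ∈ Set.range (b.toFinset.orderEmbOfFin hbcard) := by
        rw [Finset.range_orderEmbOfFin]; exact hlb
      obtain ⟨t, rfl⟩ := this
      refine Finset.mem_image.2 ⟨t, ?_, rfl⟩
      simp only [Finset.mem_filter, Finset.mem_univ, true_and]
      by_contra hti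
      push Not at hti
      have h1 : J t ≤ J i := J.monotone hti
      have h2 : D ≤ (J t).val := hST hl
      have := Fin.le_def.1 h1
      omega
    have h1 := (Finset.card_le_card hsub).trans Finset.card_image_le
    have h2 : (Finset.univ.filter fun t : Fin d => i < t).card = d - 1 - i.val := by
      have := Fin.card_Ioi i
      rw [← this]
      congr 1
      ext t; simp
    have := i.2
    omega
  · have hli : LinearIndependent K (A.submatrix id J).col := by
      have h1 : LinearIndependent K (fun x : b => col x) := hbli
      have h2 := h1.comp (fun t : Fin d => (⟨J t, by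
        have := Finset.orderEmbOfFin_mem b.toFinset hbcard t
        exact Set.mem_toFinset.1 this⟩ : b)) (by
          intro t1 t2 h
          have h' := congrArg (fun x : b => (x : Fin n)) h
          exact J.injective h')
      exact h2
    have := Matrix.linearIndependent_cols_iff_isUnit.1 hli
    exact ((Matrix.isUnit_iff_isUnit_det _).1 this).ne_zero

end Aux



/-- Let K be a field, d ≤ n, λ = (λ₁ ≥ ⋯ ≥ λ_d) a non-increasing sequence of natural numbers, d_i = n −
d + i − λ_i, and V_j ⊆ K^n the span of the first j standard basis vectors. For a d × n matrix A over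
K with linearly independent rows spanning the subspace W: one has dim(W ∩ V_{d_i}) ≥ i for every i =
1, …, d if and only if every d × d minor of A taken on strictly increasing columns j₁ < ⋯ < j_d
(1-indexed) with j_i > d_i for some i vanishes. (Indices are 0-based in the formal statement: row i
: Fin d stands for i + 1 and column l : Fin n for l + 1.) -/
theorem result (K : Type u) [Field K] (n d : ℕ)
    (hdn : d ≤ n) (V : ℕ → Submodule K (Fin n → K))
    (hV : ∀ (j : ℕ) (v : Fin n → K), v ∈ V j ↔ ∀ l : Fin n, j ≤ (l : ℕ) → v l = 0)
    (lam : Fin d → ℕ) (hlam : Antitone lam) (A : Matrix (Fin d) (Fin n) K)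
    (hA : LinearIndependent K (fun i : Fin d => A i)) :
    (∀ i : Fin d, (i : ℕ) + 1 ≤
        Module.finrank K ↥(Submodule.span K (Set.range fun i : Fin d => A i) ⊓
          V (n - d + ((i : ℕ) + 1) - lam i))) ↔
      ∀ J : Fin d → Fin n, StrictMono J →
        (∃ i : Fin d, n - d + ((i : ℕ) + 1) - lam i < (J i : ℕ) + 1) →
          (A.submatrix id J).det = 0 := by
  classical
  constructor
  · intro h J hJ ⟨i, hi⟩
    by_contra hdet
    have := fwd A (V (n - d + ((i : ℕ) + 1) - lam i)) _ (hV _) J hJ i (by omega) hdet
    have := h i
    omega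
  · intro h i
    by_contra hlt
    push Not at hlt
    obtain ⟨J, hJ, hJi, hdet⟩ := bwd A hA (V (n - d + ((i : ℕ) + 1) - lam i)) _ (hV _) i (by omega)
    exact hdet (h J hJ ⟨i, by omega⟩)

end Groth.Agent.S14504
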