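import Groth.Statements.S14505
import Mathlib

set_option autoImplicit false
universe u
open IntTh

namespace Groth.Agent.S14505
section Aux
open PowerSeries

variable {R : Type u} [CommRing R]

def Deg (φ : R⟦X⟧) (n : ℕ) : Prop := ∀ m, n < m → coeff m φ = 0

lemma Deg.mul {φ ψ : R⟦X⟧} {a b : ℕ} (h1 : Deg φ a) (h2 : Deg ψ b) : Deg (φ * ψ) (a + b) := by
  intro m hm
  rw [coeff_mul]
  apply Finset.sum_eq_zero
  rintro ⟨p, q⟩ hpq
  have hpq := Finset.HasAntidiagonal.mem_antidiagonal.mp hpq
  simp only at hpq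
  by_cases hp : a < p
  · rw [h1 p hp, zero_mul]
  · have hq : b < q := by omega
    rw [h2 q hq, mul_zero]

lemma deg_one : Deg (1 : R⟦X⟧) 0 := by
  intro m hm
  rw [coeff_one, if_neg (by omega)]

lemma deg_lin (a : R) : Deg (1 + C a * X : R⟦X⟧) 1 := by
  intro m hm
  obtain ⟨k, rfl⟩ : ∃ k, m = k + 1 := ⟨m - 1, by omega⟩
  rw [map_add, coeff_one, if_neg (by omega), zero_add, mul_comm, coeff_succ_X_mul, coeff_C,
    if_neg (by omega)]

lemma deg_prod {ι : Type*} (s : Finset ι) (a : ι → R) :
    Deg (∏ l ∈ s, (1 + C (a l) * X : R⟦X⟧)) s.card := by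
  classical
  induction s using Finset.induction_on with
  | empty => simpa using deg_one
  | insert x s hx ih =>
    rw [Finset.prod_insert hx, Finset.card_insert_of_notMem hx, Nat.add_comm s.card 1]
    exact (deg_lin (a x)).mul ih

lemma constantCoeff_prod_lin {ι : Type*} (s : Finset ι) (f : ι → R⟦X⟧)
    (hf : ∀ l ∈ s, constantCoeff (f l) = 1) : constantCoeff (∏ l ∈ s, f l) = 1 := by
  rw [map_prod]
  exact Finset.prod_eq_one hf

lemma lin_mul_geom (a : R) : (1 + C a * X : R⟦X⟧) * mk (fun m => (-a) ^ m) = 1 := by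
  ext n
  cases n with
  | zero => simp
  | succ n =>
    rw [add_mul, one_mul, mul_assoc, map_add, coeff_mk, coeff_C_mul, coeff_succ_X_mul, coeff_mk,
      coeff_one, if_neg (by omega)]
    ring

lemma coeff_top {ι : Type*} (s : Finset ι) (β : ι → R) (a : R) :
    coeff s.card ((∏ l ∈ s, (1 + C (β l) * X : R⟦X⟧)) * mk (fun m => (-a) ^ m)) =
      ∏ l ∈ s, (β l - a) := by
  classical
  induction s using Finset.induction_on with
  | empty => simp
  | insert x s hx ih =>
    rw [Finset.prod_insert hx, Finset.prod_insert hx, Finset.card_insert_of_notMem hx]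
    set q := (∏ l ∈ s, (1 + C (β l) * X : R⟦X⟧)) with hq
    set G : R⟦X⟧ := mk (fun m => (-a) ^ m) with hG
    have h1 : coeff (s.card + 1) (q * G) = -a * coeff s.card (q * G) := by
      have h2 : (1 + C a * X : R⟦X⟧) * (q * G) = q := by
        rw [mul_left_comm, lin_mul_geom, mul_one]
      have h3 := congrArg (coeff (s.card + 1)) h2
      rw [add_mul, one_mul, mul_assoc, map_add, coeff_C_mul, coeff_succ_X_mul,
        deg_prod s β (s.card + 1) (by omega)] at h3
      linear_combination h3
    rw [mul_assoc, add_mul, one_mul, mul_assoc, map_add, coeff_C_mul, coeff_succ_X_mul, h1, ih]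
    ring

lemma window (Φ h : R⟦X⟧) (d e : ℕ) (j : Fin d) (hh : Deg h j) :
    ∑ j' : Fin d, coeff (e + (j' : ℕ)) Φ * (if j' ≤ j then coeff ((j : ℕ) - (j' : ℕ)) h else 0) =
      coeff (e + (j : ℕ)) (Φ * h) := by
  have h1 : ∑ j' : Fin d, coeff (e + (j' : ℕ)) Φ *
      (if j' ≤ j then coeff ((j : ℕ) - (j' : ℕ)) h else 0) =
      ∑ k ∈ Finset.range d, coeff (e + k) Φ * (if k ≤ (j : ℕ) then coeff ((j : ℕ) - k) h else 0) := by
    rw [← Fin.sum_univ_eq_sum_range (fun k => coeff (e + k) Φ *
      (if k ≤ (j : ℕ) then coeff ((j : ℕ) - k) h else 0)) d]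
    refine Finset.sum_congr rfl fun j' _ => ?_
    simp only [Fin.le_def]
  rw [h1]
  have h2 : ∑ k ∈ Finset.range d, coeff (e + k) Φ *
      (if k ≤ (j : ℕ) then coeff ((j : ℕ) - k) h else 0) =
      ∑ k ∈ Finset.range ((j : ℕ) + 1), coeff (e + k) Φ * coeff ((j : ℕ) - k) h := by
    have hsub : Finset.range ((j : ℕ) + 1) ⊆ Finset.range d := by
      intro k hk
      rw [Finset.mem_range] at hk ⊢
      have := j.2
      omega
    rw [← Finset.sum_subset hsub]
    · refine Finset.sum_congr rfl fun k hk => ?_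
      rw [Finset.mem_range] at hk
      rw [if_pos (by omega)]
    · intro k _ hk
      rw [Finset.mem_range] at hk
      rw [if_neg (by omega), mul_zero]
  rw [h2, coeff_mul, Finset.Nat.sum_antidiagonal_eq_sum_range_succ_mk,
    ← Finset.sum_range_add_sum_Ico _ (show e ≤ e + (j : ℕ) + 1 by omega)]
  have h3 : ∑ k ∈ Finset.range e, coeff k Φ * coeff (e + (j : ℕ) - k) h = 0 := by
    apply Finset.sum_eq_zero
    intro k hk
    rw [Finset.mem_range] at hk
    rw [hh _ (by omega), mul_zero]
  rw [h3, zero_add, Finset.sum_Ico_eq_sum_range]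
  have : e + (j : ℕ) + 1 - e = (j : ℕ) + 1 := by omega
  rw [this]
  refine Finset.sum_congr rfl fun k hk => ?_
  rw [Finset.mem_range] at hk
  rw [show e + (j : ℕ) - (e + k) = (j : ℕ) - k by omega]

end Aux

open PowerSeries in

/-- Let R be a commutative ring, α₁, …, α_d, β₁, …, β_e ∈ R, b(t) = ∏ (1 + β_j t), and for k = 1, …, d
let P_k(t) = b(t)/∏_{i ≤ k} (1 + α_i t) ∈ R⟦t⟧, each factor 1 + α_i t being inverted by its
geometric series; write (P_k)_m for the coefficient of t^m, with (P_k)_m = 0 for m < 0. Then ∏_{i,j}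
(β_j − α_i) = det((P_i)_{e+j−i})_{1 ≤ i,j ≤ d}, the d × d determinant whose i-th row is built from
the coefficients of the i-th partial quotient. (Rows and columns are 0-based in the formal
statement, which does not change j − i; the row of index i inverts the factors of index at most i.
The companion form with every row built from the full quotient b/a is stated separately.) -/
theorem result (R : Type u) [CommRing R] (d e : ℕ)
    (α : Fin d → R) (β : Fin e → R) :
    ∏ i : Fin d, ∏ j : Fin e, (β j - α i) =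
      (Matrix.of fun i j : Fin d =>
        if (i : ℕ) ≤ e + (j : ℕ) then
          PowerSeries.coeff (e + (j : ℕ) - (i : ℕ))
            ((∏ j : Fin e, (1 + PowerSeries.C (β j) * PowerSeries.X)) *
              ∏ l : Fin d, if l ≤ i then PowerSeries.mk (fun m => (-α l) ^ m) else 1)
        else 0).det := by
  classical
  set b : R⟦X⟧ := ∏ j : Fin e, (1 + C (β j) * X) with hb
  set Q : Fin d → R⟦X⟧ := fun i => ∏ l : Fin d, if l ≤ i then mk (fun m => (-α l) ^ m) else 1 with hQ
  set h : Fin d → R⟦X⟧ := fun j => ∏ l : Fin d, if l < j then (1 + C (α l) * X) else 1 with hh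
  set M : Matrix (Fin d) (Fin d) R := Matrix.of fun i j : Fin d =>
        if (i : ℕ) ≤ e + (j : ℕ) then coeff (e + (j : ℕ) - (i : ℕ)) (b * Q i) else 0 with hMdef
  set U : Matrix (Fin d) (Fin d) R := Matrix.of fun j' j : Fin d =>
        if j' ≤ j then coeff ((j : ℕ) - (j' : ℕ)) (h j) else 0 with hU
  change _ = M.det
  have hM : ∀ i j, M i j = coeff (e + (j : ℕ)) (X ^ (i : ℕ) * (b * Q i)) := by
    intro i j
    rw [coeff_X_pow_mul']
    rfl
  have hhfilter : ∀ j, h j = ∏ l ∈ Finset.Iio j, (1 + C (α l) * X : R⟦X⟧) := by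
    intro j
    rw [hh]
    simp only
    rw [← Finset.prod_filter]
    congr 1
    ext l
    simp
  have hDegh : ∀ j : Fin d, Deg (h j) j := by
    intro j
    rw [hhfilter]
    have := deg_prod (Finset.Iio j) α
    rwa [Fin.card_Iio] at this
  have hDegb : Deg b e := by
    have := deg_prod (Finset.univ : Finset (Fin e)) β
    rwa [Finset.card_univ, Fintype.card_fin] at this
  have hMU : ∀ i j, (M * U) i j = coeff (e + (j : ℕ)) (X ^ (i : ℕ) * (b * (Q i * h j))) := by
    intro i j
    rw [Matrix.mul_apply]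
    simp only [hM]
    have := window (X ^ (i : ℕ) * (b * Q i)) (h j) d e j (hDegh j)
    rw [show X ^ (i : ℕ) * (b * (Q i * h j)) = X ^ (i : ℕ) * (b * Q i) * h j by ring, ← this]
    rfl
  have hG : ∀ a : R, mk (fun m => (-a) ^ m) * (1 + C a * X : R⟦X⟧) = 1 := by
    intro a
    rw [mul_comm, lin_mul_geom]
  have hQh_lt : ∀ i j : Fin d, i < j →
      Q i * h j = ∏ l ∈ Finset.Ioo i j, (1 + C (α l) * X : R⟦X⟧) := by
    intro i j hij
    rw [hQ, hh]
    simp only
    rw [← Finset.prod_mul_distrib]
    rw [← Finset.univ_inter (Finset.Ioo i j), ← Finset.prod_ite_mem]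
    refine Finset.prod_congr rfl fun l _ => ?_
    by_cases h1 : l ≤ i
    · have h2 : l < j := lt_of_le_of_lt h1 hij
      have h3 : l ∉ Finset.Ioo i j := by
        rw [Finset.mem_Ioo]
        intro hc
        exact absurd hc.1 (not_lt.mpr h1)
      rw [if_pos h1, if_pos h2, if_neg h3, hG]
    · by_cases h2 : l < j
      · have h3 : l ∈ Finset.Ioo i j := Finset.mem_Ioo.mpr ⟨not_le.mp h1, h2⟩
        rw [if_neg h1, if_pos h2, if_pos h3, one_mul]
      · have h3 : l ∉ Finset.Ioo i j := by
          rw [Finset.mem_Ioo]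
          intro hc
          exact h2 hc.2
        rw [if_neg h1, if_neg h2, if_neg h3, one_mul]
  have hQh_eq : ∀ i : Fin d, Q i * h i = mk (fun m => (-α i) ^ m) := by
    intro i
    rw [hQ, hh]
    simp only
    rw [← Finset.prod_mul_distrib, Finset.prod_eq_single i]
    · rw [if_pos le_rfl, if_neg (lt_irrefl i), mul_one]
    · intro l _ hl
      rcases lt_or_gt_of_ne hl with h1 | h1
      · rw [if_pos h1.le, if_pos h1, hG]
      · rw [if_neg (not_le.mpr h1), if_neg (not_lt.mpr h1.le), one_mul]
    · intro hi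
      exact absurd (Finset.mem_univ i) hi
  have hupper : ∀ i j : Fin d, i < j → (M * U) i j = 0 := by
    intro i j hij
    rw [hMU, coeff_X_pow_mul', hQh_lt i j hij]
    split_ifs with h1
    · have hd := hDegb.mul (deg_prod (Finset.Ioo i j) α)
      rw [Fin.card_Ioo] at hd
      apply hd
      have : (i : ℕ) < (j : ℕ) := hij
      omega
    · rfl
  have hdiag : ∀ i : Fin d, (M * U) i i = ∏ j : Fin e, (β j - α i) := by
    intro i
    rw [hMU, coeff_X_pow_mul, hQh_eq]
    have := coeff_top (Finset.univ : Finset (Fin e)) β (α i)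
    rwa [Finset.card_univ, Fintype.card_fin] at this
  have hdetU : U.det = 1 := by
    rw [Matrix.det_of_isUpperTriangular]
    · apply Finset.prod_eq_one
      intro j _
      rw [hU]
      simp only [Matrix.of_apply, le_refl, if_true, Nat.sub_self, coeff_zero_eq_constantCoeff_apply]
      rw [hhfilter]
      apply constantCoeff_prod_lin
      intro l _
      simp
    · intro j' j hjj'
      rw [hU]
      simp only [Matrix.of_apply]
      have hjj'' : j < j' := hjj'
      rw [if_neg (not_le.mpr hjj'')]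
  have hdetMU : (M * U).det = ∏ i : Fin d, ∏ j : Fin e, (β j - α i) := by
    rw [Matrix.det_of_isLowerTriangular]
    · exact Finset.prod_congr rfl fun i _ => hdiag i
    · intro i j hij
      exact hupper i j hij
  rw [← hdetMU, Matrix.det_mul, hdetU, mul_one]

end Groth.Agent.S14505
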