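import Groth.Statements.S14506
import Mathlib
import Groth.Agent.Lib.Helper2.Todd

set_option autoImplicit false
open IntTh

namespace Groth.Agent.S14506
section Aux
open Groth.Agent.Lib.Helper2.Todd PowerSeries

lemma exists_todd : ∃ T : ℚ⟦X⟧, T * (exp ℚ - 1) = X * exp ℚ := by
  let u : ℚ⟦X⟧ := PowerSeries.mk (fun k => ((k + 1).factorial : ℚ)⁻¹)
  have hu : X * u = exp ℚ - 1 := by
    ext n
    cases n with
    | zero => simp [coeff_exp]
    | succ n => rw [coeff_succ_X_mul, coeff_mk, map_sub, coeff_exp]; simp
  have hu0 : constantCoeff u ≠ 0 := by simp [u]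
  refine ⟨exp ℚ * u⁻¹, ?_⟩
  rw [← hu]
  calc exp ℚ * u⁻¹ * (X * u) = X * exp ℚ * (u * u⁻¹) := by ring
    _ = _ := by rw [PowerSeries.mul_inv_cancel _ hu0, mul_one]

lemma unique (f g : ℚ⟦X⟧) (hf : ∀ n, coeff n (f ^ (n + 1)) = 1)
    (hg : ∀ n, coeff n (g ^ (n + 1)) = 1) : f = g := by
  have hf0 : constantCoeff f = 1 := by simpa using hf 0
  have hg0 : constantCoeff g = 1 := by simpa using hg 0
  ext n
  induction n using Nat.strong_induction_on with
  | _ n ih =>
    have hdvd : X ^ n ∣ f - g := by
      rw [X_pow_dvd_iff]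
      intro m hm
      rw [map_sub, ih m hm, sub_self]
    obtain ⟨h, hh⟩ := hdvd
    have hS := geom_sum₂_mul f g (n + 1)
    have h1 := congrArg (coeff n) hS
    rw [map_sub, hf n, hg n, sub_self, hh] at h1
    rw [show (∑ i ∈ Finset.range (n + 1), f ^ i * g ^ (n + 1 - 1 - i)) * (X ^ n * h) =
      X ^ n * ((∑ i ∈ Finset.range (n + 1), f ^ i * g ^ (n + 1 - 1 - i)) * h) by ring,
      coeff_X_pow_mul', if_pos le_rfl, Nat.sub_self, coeff_zero_eq_constantCoeff_apply, map_mul,
      map_sum] at h1
    simp only [map_mul, map_pow, hf0, hg0, one_pow, mul_one, Finset.sum_const, Finset.card_range,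
      nsmul_eq_mul] at h1
    have h2 : coeff n (f - g) = constantCoeff h := by
      rw [hh, coeff_X_pow_mul', if_pos le_rfl, Nat.sub_self, coeff_zero_eq_constantCoeff_apply]
    have h3 : constantCoeff h = 0 := by
      rcases mul_eq_zero.mp h1 with h4 | h4
      · exfalso
        have : ((n : ℚ) + 1) ≠ 0 := by positivity
        exact this (by exact_mod_cast h4)
      · exact h4
    rw [h3, map_sub, sub_eq_zero] at h2
    exact h2

end Aux

open PowerSeries Groth.Agent.Lib.Helper2.Todd in

/-- A formal power series f(t) ∈ ℚ⟦t⟧ satisfies, for every n ≥ 0, that the coefficient of t^n in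
f(t)^(n+1) is 1, if and only if f(t)·(e^t − 1) = t·e^t, that is f(t) = t/(1 − e^(−t)) = 1 + t/2 +
t²/12 − ⋯. (The published statement is the existence and uniqueness of the Todd class of vector
bundles normalised by multiplicativity, td(O) = 1 and the Riemann–Roch identity for the structure
sheaf of every projective space; this row is the power-series fact its proof establishes: the
normalisation forces exactly these coefficient conditions on the one-variable series.) -/
theorem result (f : PowerSeries ℚ) :
    (∀ n : ℕ, PowerSeries.coeff n (f ^ (n + 1)) = 1) ↔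
      f * (PowerSeries.exp ℚ - 1) = PowerSeries.X * PowerSeries.exp ℚ := by
  classical
  have key : ∀ g : ℚ⟦X⟧, g * (exp ℚ - 1) = X * exp ℚ → ∀ n : ℕ, coeff n (g ^ (n + 1)) = 1 := by
    intro g hg n
    have h := todd_coeff g hg 0 n
    rw [rescale_zero_apply, constantCoeff_exp, map_one, one_mul, zero_add,
      ascPochhammer_eval_one] at h
    have hn : (n.factorial : ℚ) ≠ 0 := by positivity
    exact mul_left_cancel₀ hn (by rw [h, mul_one])
  constructor
  · intro hf
    obtain ⟨T, hT⟩ := exists_todd
    rw [unique f T hf (key T hT)]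
    exact hT
  · intro hf
    exact key f hf

end Groth.Agent.S14506
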