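import Groth.Statements.S1451
import Mathlib
import Groth.Agent.Lib.Helper6.UB4
-- import your own Groth.Agent.* helpers here

set_option autoImplicit false
universe u
open FlatMor

namespace Groth.Agent.S1451

open AlgebraicGeometry CategoryTheory Limits in
/-- Let Y be integral and f : X → Y locally of finite type; let x be a point such that the local ring of
Y at f x is geometrically unibranch, f is unramified on an open neighbourhood of x, and some
generization of x maps to the generic point of Y. Then f is étale on an open neighbourhood of x. -/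
theorem result {X Y : Scheme.{u}} (f : X ⟶ Y) [IsIntegral Y] [LocallyOfFiniteType f] (x : X)
    (hY : CAlg2.IsGeomUnibranch (Y.presheaf.stalk (f x))) (hsp : ∃ x' : X, x' ⤳ x ∧ f x' = genericPoint ↑Y)
    (hunr : ∃ U : X.Opens, x ∈ U ∧ FormallyUnramified (U.ι ≫ f)) :
    ∃ U : X.Opens, x ∈ U ∧ Etale (U.ι ≫ f) := by
  obtain ⟨x', hx'x, hx'η⟩ := hsp
  obtain ⟨U, hxU, hunr⟩ := hunr
  have hdom : IsDomain (Y.presheaf.stalk (f x)) := inferInstance
  -- the prime of the local ring at `x` corresponding to `x'`
  have hmem : x' ∈ Set.range (X.fromSpecStalk x) := by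
    rw [AlgebraicGeometry.Scheme.range_fromSpecStalk]; exact hx'x
  obtain ⟨z, hz⟩ := hmem
  haveI : z.asIdeal.IsPrime := z.2
  have hcomm : (Spec.map (f.stalkMap x) ≫ Y.fromSpecStalk (f x)) z = f x' := by
    rw [AlgebraicGeometry.Scheme.SpecMap_stalkMap_fromSpecStalk, Scheme.Hom.comp_apply, hz]
  -- the zero ideal of the local ring of `Y`
  let b : Spec (Y.presheaf.stalk (f x)) := ⟨⊥, Ideal.isPrime_bot⟩
  let n : Spec (Y.presheaf.stalk (f x)) := Spec.map (f.stalkMap x) z
  have hbn : b ⤳ n :=
    (PrimeSpectrum.le_iff_specializes (R := Y.presheaf.stalk (f x)) b n).mp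
      (bot_le (a := n.asIdeal))
  have h1 : Y.fromSpecStalk (f x) b ⤳ Y.fromSpecStalk (f x) n :=
    hbn.map (Y.fromSpecStalk (f x)).continuous
  have h2 : Y.fromSpecStalk (f x) n = genericPoint ↑Y := by
    rw [← hx'η, ← hcomm, Scheme.Hom.comp_apply]
  have h3 : Y.fromSpecStalk (f x) b = Y.fromSpecStalk (f x) n := by
    rw [h2] at h1 ⊢
    exact (h1.antisymm (genericPoint_specializes _)).eq
  have h4 : b = n := (Y.fromSpecStalk (f x)).isEmbedding.injective h3
  have hrq : z.asIdeal.comap (f.stalkMap x).hom = ⊥ := by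
    have : n.asIdeal = ⊥ := by rw [← h4]
    exact this
  have hlft : LocallyOfFiniteType (U.ι ≫ f) := inferInstance
  exact Groth.Agent.Lib.Helper6.UB.exists_opens_etale f x hdom hY U hxU hlft hunr z.asIdeal hrq
    (Or.inl inferInstance)

end Groth.Agent.S1451
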