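import Groth.Statements.S14511
-- import your own Groth.Agent.* helpers here

set_option autoImplicit false
universe u
open CAlgX

namespace Groth.Agent.S14511

lemma key {R : Type u} [CommRing R] (r : ℕ) (d : Fin r →₀ ℕ) (hd : (d.sum fun _ e => e) ≤ r) :
    ∑ J : Finset (Fin r), (-1 : R) ^ J.card * ∏ i, (if i ∈ J then (-1 : R) else 0) ^ d i =
      if d = ∑ i : Fin r, Finsupp.single i 1 then 1 else 0 := by
  classical
  have h1 : ∀ J : Finset (Fin r), (-1 : R) ^ J.card * ∏ i, (if i ∈ J then (-1 : R) else 0) ^ d i =
      (∏ i ∈ J, ((-1 : R) * (-1) ^ d i)) * ∏ i ∈ Finset.univ \ J, (0 : R) ^ d i := by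
    intro J
    rw [Finset.prod_mul_distrib, Finset.prod_const]
    rw [← Finset.prod_sdiff (Finset.subset_univ J), mul_comm (∏ i ∈ Finset.univ \ J, _)]
    rw [mul_assoc]
    congr 1
    congr 1
    · apply Finset.prod_congr rfl
      intro i hi
      rw [if_pos hi]
    · apply Finset.prod_congr rfl
      intro i hi
      rw [if_neg (Finset.mem_sdiff.mp hi).2]
  rw [Finset.sum_congr rfl (fun J _ => h1 J)]
  have h2 := (Finset.prod_add (fun i : Fin r => (-1 : R) * (-1) ^ d i) (fun i => (0 : R) ^ d i)
    Finset.univ).symm
  rw [Finset.powerset_univ] at h2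
  rw [h2]
  split_ifs with h
  · subst h
    apply Finset.prod_eq_one
    intro i _
    have : (∑ j : Fin r, Finsupp.single j 1 : Fin r →₀ ℕ) i = 1 := by
      simp [Finsupp.finsetSum_apply, Finsupp.single_apply]
    rw [this]
    simp
  · -- some d i = 0 or ...
    by_cases h0 : ∃ i, d i = 0
    · obtain ⟨i, hi⟩ := h0
      apply Finset.prod_eq_zero (Finset.mem_univ i)
      rw [hi]
      simp
    · exfalso
      push Not at h0
      apply h
      have hge : ∀ i, 1 ≤ d i := fun i => Nat.one_le_iff_ne_zero.mpr (h0 i)
      have hsum : ∑ i : Fin r, d i ≤ r := by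
        have : (d.sum fun _ e => e) = ∑ i : Fin r, d i := by
          rw [Finsupp.sum_fintype]; simp
        rw [← this]; exact hd
      have hall : ∀ i, d i = 1 := by
        by_contra hne
        push Not at hne
        obtain ⟨j, hj⟩ := hne
        have hj2 : 2 ≤ d j := by have := hge j; omega
        have : ∑ i : Fin r, 1 < ∑ i : Fin r, d i :=
          Finset.sum_lt_sum (fun i _ => hge i) ⟨j, Finset.mem_univ j, by omega⟩
        simp at this
        omega
      ext i
      simp [Finsupp.finsetSum_apply, Finsupp.single_apply, hall i]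

/-- Let R be a commutative ring and P ∈ R[x_1, …, x_r] a polynomial of total degree at most r. Then the
coefficient of the monomial x_1 ⋯ x_r in P equals Σ_J (−1)^{|J|} P(δ_J), the sum over all subsets J
⊆ {1, …, r} (the empty one included), where δ_J is the point with coordinate −1 at the indices in J
and 0 at the others. -/
theorem result (R : Type u) [CommRing R] (r : ℕ)
    (P : MvPolynomial (Fin r) R) (hP : P.totalDegree ≤ r) :
    MvPolynomial.coeff (∑ i : Fin r, Finsupp.single i 1) P =
      ∑ J : Finset (Fin r), (-1 : R) ^ J.card * MvPolynomial.eval (fun j => if j ∈ J then (-1 : R) else 0) P := by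
  classical
  simp_rw [MvPolynomial.eval_eq', Finset.mul_sum]
  rw [Finset.sum_comm]
  have : ∀ d ∈ P.support, ∑ J : Finset (Fin r), (-1 : R) ^ J.card *
      (MvPolynomial.coeff d P * ∏ i, (if i ∈ J then (-1 : R) else 0) ^ d i) =
      MvPolynomial.coeff d P * if d = ∑ i : Fin r, Finsupp.single i 1 then 1 else 0 := by
    intro d hd
    rw [← key (R := R) r d ((MvPolynomial.le_totalDegree hd).trans hP), Finset.mul_sum]
    apply Finset.sum_congr rfl
    intro J _
    ring
  rw [Finset.sum_congr rfl this]
  simp only [mul_ite, mul_one, mul_zero]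
  rw [Finset.sum_ite_eq']
  split_ifs with h
  · rfl
  · exact MvPolynomial.notMem_support_iff.mp h

end Groth.Agent.S14511
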