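import Groth.Statements.S14514
import Groth.Agent.Lib.Helper21.Img1
import Groth.Agent.Lib.Helper21.FibDim9
-- import your own Groth.Agent.* helpers here

set_option autoImplicit false
universe u
open CategoryTheory CategoryTheory.Limits AlgebraicGeometry
open Variety

namespace Groth.Agent.S14514

/-- Let k be an algebraically closed field and f : X → Y a morphism of algebraic varieties over k (X, Y
reduced, separated and of finite type over k) such that Y is irreducible and the image f(X) is dense
in Y. Then X contains an irreducible closed subset Z with dim Z = dim Y such that f(Z) is dense in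
Y. -/
theorem result (k : Type u) [Field k] [IsAlgClosed k]
    (X Y : Scheme.{u}) [X.Over (Spec (CommRingCat.of k))] [Y.Over (Spec (CommRingCat.of k))]
    [IsReduced X] [IsSeparated (X ↘ (Spec (CommRingCat.of k)))] [LocallyOfFiniteType (X ↘ (Spec (CommRingCat.of k)))] [QuasiCompact (X ↘ (Spec (CommRingCat.of k)))]
    [IsReduced Y] [IsSeparated (Y ↘ (Spec (CommRingCat.of k)))] [LocallyOfFiniteType (Y ↘ (Spec (CommRingCat.of k)))] [QuasiCompact (Y ↘ (Spec (CommRingCat.of k)))] [IrreducibleSpace Y]
    (f : X ⟶ Y) (hf : f ≫ (Y ↘ (Spec (CommRingCat.of k))) = (X ↘ (Spec (CommRingCat.of k)))) [IsDominant f] :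
    ∃ Z : Set X, IsClosed Z ∧ IsIrreducible Z ∧ topologicalKrullDim ↥Z = topologicalKrullDim Y ∧
      Dense (f '' Z) := by
  have : LocallyOfFiniteType (f ≫ (Y ↘ (Spec (CommRingCat.of k)))) := by rw [hf]; infer_instance
  have : LocallyOfFiniteType f := locallyOfFiniteType_of_comp f (Y ↘ (Spec (CommRingCat.of k)))
  have : CompactSpace X :=
    QuasiCompact.compactSpace_of_compactSpace (X ↘ Spec (CommRingCat.of k))
  have : IsLocallyNoetherian X :=
    LocallyOfFiniteType.isLocallyNoetherian (X ↘ Spec (CommRingCat.of k))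
  have : IsNoetherian X := {}
  -- a point over the generic point
  have hη : genericPoint Y ∈ closure (f '' (Set.univ : Set X)) := by
    rw [Set.image_univ, f.denseRange.closure_range]
    exact Set.mem_univ _
  obtain ⟨x₀, -, hx₀⟩ := Groth.Agent.Lib.Helper21.Img.exists_specializes_of_mem_closure_image
    f f.continuous Set.univ isClosed_univ (genericPoint Y) hη
  have hx₀η : f x₀ = genericPoint Y := (hx₀.antisymm (genericPoint_specializes _)).eq
  obtain ⟨x, -, hfx, hx0⟩ :=
    Groth.Agent.Lib.Helper21.FibDim.exists_specializes_fiber_trdeg_eq_zero f x₀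
  have hfxη : f x = genericPoint Y := hfx.trans hx₀η
  obtain ⟨b, hb⟩ := Groth.Agent.Lib.Helper21.FibDim.exists_nat_trdeg k Y (f x)
  have hbc := Groth.Agent.Lib.Helper21.FibDim.trdeg_add_of_comp k X Y f hf x b 0 hb
    (by rw [hx0]; rfl)
  have hdX := Groth.Agent.Lib.Helper21.FibDim.topologicalKrullDim_closure_singleton k X x (b + 0) hbc
  have hdY := Groth.Agent.Lib.Helper21.FibDim.topologicalKrullDim_closure_singleton k Y (f x) b hb
  have hcl : closure ({f x} : Set Y) = Set.univ := by
    rw [hfxη]
    exact (genericPoint_spec Y).def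
  refine ⟨closure {x}, isClosed_closure, isIrreducible_singleton.closure, ?_, ?_⟩
  · rw [hdX, ← (Homeomorph.Set.univ Y).isHomeomorph.topologicalKrullDim_eq, ← hcl, hdY]
    rfl
  · rw [dense_iff_closure_eq, ← Set.univ_subset_iff, ← hcl]
    refine closure_mono ?_
    rw [Set.singleton_subset_iff]
    exact ⟨x, subset_closure rfl, rfl⟩

end Groth.Agent.S14514
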