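import Groth.Statements.S1452
import Mathlib
import Groth.Agent.Lib.Helper6.UB5
import Groth.Agent.Lib.Helper14.EtSrcLocal
-- import your own Groth.Agent.* helpers here

set_option autoImplicit false
universe u
open FlatMor

namespace Groth.Agent.S1452

open AlgebraicGeometry CategoryTheory Limits in
/-- Let f : X → Y and g : Y → Z with Y integral and the local ring of Y at y = f x geometrically
unibranch; assume g ∘ f is étale on an open neighbourhood of x and some generization of x maps to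
the generic point of Y. Then f is étale on an open neighbourhood of x and g is étale on an open
neighbourhood of y. -/
theorem result {X Y Z : Scheme.{u}} (f : X ⟶ Y) (g : Y ⟶ Z) [IsIntegral Y] (x : X)
    (hY : CAlg2.IsGeomUnibranch (Y.presheaf.stalk (f x))) (het : ∃ U : X.Opens, x ∈ U ∧ Etale (U.ι ≫ f ≫ g))
    (hsp : ∃ x' : X, x' ⤳ x ∧ f x' = genericPoint ↑Y) :
    (∃ U : X.Opens, x ∈ U ∧ Etale (U.ι ≫ f)) ∧ ∃ V : Y.Opens, f x ∈ V ∧ Etale (V.ι ≫ g) := by
  obtain ⟨U, hxU, hU⟩ := het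
  obtain ⟨x', hx'x, hx'η⟩ := hsp
  have hUc : Etale ((U.ι ≫ f) ≫ g) := by rw [Category.assoc]; exact hU
  have hunr : FormallyUnramified (U.ι ≫ f) := FormallyUnramified.of_comp (U.ι ≫ f) g
  have hlft : LocallyOfFiniteType (U.ι ≫ f) := locallyOfFiniteType_of_comp (U.ι ≫ f) g
  obtain ⟨W, hxW, hW⟩ := Groth.Agent.Lib.Helper6.UB.exists_opens_etale_of_specializes f x hY x'
    hx'x hx'η U hxU hlft hunr
  refine ⟨⟨W, hxW, hW⟩, ?_⟩
  -- the common open
  let W₂ : X.Opens := W ⊓ U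
  have hxW₂ : x ∈ W₂ := ⟨hxW, hxU⟩
  have e1 : W₂.ι = X.homOfLE (inf_le_left : W₂ ≤ W) ≫ W.ι := (X.homOfLE_ι _).symm
  have e2 : W₂.ι = X.homOfLE (inf_le_right : W₂ ≤ U) ≫ U.ι := (X.homOfLE_ι _).symm
  have hW₂f : Etale (W₂.ι ≫ f) := by
    rw [e1, Category.assoc]; infer_instance
  have hW₂fg : Etale (W₂.ι ≫ f ≫ g) := by
    rw [e2, Category.assoc]; infer_instance
  -- the open image
  let V : Y.Opens := ⟨Set.range (W₂.ι ≫ f), (W₂.ι ≫ f).isOpenMap.isOpen_range⟩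
  have hfxV : f x ∈ V := ⟨⟨x, hxW₂⟩, rfl⟩
  have hV : Set.range V.ι = Set.range (W₂.ι ≫ f) := by
    rw [Scheme.Opens.range_ι]; rfl
  let p : W₂.toScheme ⟶ V := IsOpenImmersion.lift V.ι (W₂.ι ≫ f) (by rw [hV])
  have hp : p ≫ V.ι = W₂.ι ≫ f := IsOpenImmersion.lift_fac _ _ _
  have hpet : Etale p := by
    have : Etale (p ≫ V.ι) := by rw [hp]; exact hW₂f
    exact Etale.of_comp p V.ι
  have hpsurj : Surjective p := by
    refine ⟨fun v => ?_⟩
    obtain ⟨w, hw⟩ : (V.ι v) ∈ Set.range (W₂.ι ≫ f) := by rw [← hV]; exact ⟨v, rfl⟩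
    refine ⟨w, V.ι.injective ?_⟩
    rw [← Scheme.Hom.comp_apply, hp, hw]
  refine ⟨V, hfxV, ?_⟩
  refine Groth.Agent.Lib.Helper14.ESL.srcLocal_etale p (V.ι ≫ g) hpet hpsurj ?_
  rw [← Category.assoc, hp, Category.assoc]
  exact hW₂fg

end Groth.Agent.S1452
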