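import Groth.Statements.S14523
import Groth.Agent.S11555

set_option autoImplicit false
universe u
open CategoryTheory CategoryTheory.Limits AlgebraicGeometry
open Variety

namespace Groth.Agent.S14523

/-- Let k be an algebraically closed field and f : X → Y a proper, birational morphism over k of
irreducible varieties (X, Y integral, separated and of finite type over k; f restricts to an
isomorphism over some nonempty open subset of Y), with Y normal (all local rings integrally closed).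
Let U ⊆ Y be the largest open subset over which f is an isomorphism (the domain of f^{-1}). Then
codim_Y(Y ∖ U) ≥ 2: for every point y of Y whose local ring has Krull dimension at most one, f
restricts to an isomorphism over some open neighbourhood of y. -/
theorem result (k : Type u) [Field k] [IsAlgClosed k]
    (X Y : Scheme.{u}) [X.Over (Spec (CommRingCat.of k))] [Y.Over (Spec (CommRingCat.of k))]
    [IsIntegral X] [IsSeparated (X ↘ (Spec (CommRingCat.of k)))] [LocallyOfFiniteType (X ↘ (Spec (CommRingCat.of k)))] [QuasiCompact (X ↘ (Spec (CommRingCat.of k)))]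
    [IsIntegral Y] [IsSeparated (Y ↘ (Spec (CommRingCat.of k)))] [LocallyOfFiniteType (Y ↘ (Spec (CommRingCat.of k)))] [QuasiCompact (Y ↘ (Spec (CommRingCat.of k)))] (hY : ∀ y : Y, IsIntegrallyClosed (Y.presheaf.stalk y))
    (f : X ⟶ Y) (hf : f ≫ (Y ↘ (Spec (CommRingCat.of k))) = (X ↘ (Spec (CommRingCat.of k)))) [IsProper f]
    (hbir : ∃ V : Y.Opens, (V : Set Y).Nonempty ∧ IsIso (f ∣_ V))
    (y : Y) (hy : ringKrullDim (Y.presheaf.stalk y) ≤ 1) :
    ∃ V : Y.Opens, y ∈ V ∧ IsIso (f ∣_ V) := by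
  have hYN : IsLocallyNoetherian Y :=
    LocallyOfFiniteType.isLocallyNoetherian (Y ↘ (Spec (CommRingCat.of k)))
  have hnorm : Pi1.IsNormalScheme Y := fun y => ⟨inferInstance, hY y⟩
  obtain ⟨V, hVne, hV⟩ := hbir
  have hVne' : Nonempty ↥V := hVne.to_subtype
  have hWne : Nonempty ↥(f ⁻¹ᵁ V) := by
    obtain ⟨v⟩ := hVne'
    exact ⟨(inv (f ∣_ V)) v⟩
  have hVne'' : Nonempty ↥V.toScheme := hVne'
  have hWne'' : Nonempty ↥(f ⁻¹ᵁ V).toScheme := hWne
  have hVint : IsIntegral V.toScheme := isIntegral_of_isOpenImmersion V.ι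
  have hWint : IsIntegral (f ⁻¹ᵁ V).toScheme := isIntegral_of_isOpenImmersion (f ⁻¹ᵁ V).ι
  -- generic points
  have h1 : (f ⁻¹ᵁ V).ι (genericPoint ↥(f ⁻¹ᵁ V).toScheme) = genericPoint ↥X :=
    genericPoint_eq_of_isOpenImmersion (f ⁻¹ᵁ V).ι
  have h2 : V.ι (genericPoint ↥V.toScheme) = genericPoint ↥Y :=
    genericPoint_eq_of_isOpenImmersion V.ι
  have h3 : (f ∣_ V) (genericPoint ↥(f ⁻¹ᵁ V).toScheme) = genericPoint ↥V.toScheme :=
    genericPoint_eq_of_isOpenImmersion (f ∣_ V)
  have hξ : f (genericPoint ↥X) = genericPoint ↥Y := by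
    rw [← h1, ← Scheme.Hom.comp_apply, ← morphismRestrict_ι, Scheme.Hom.comp_apply, h3, h2]
  -- stalk maps over `V` are isomorphisms
  have hstalk : ∀ x : X, x ∈ f ⁻¹ᵁ V → IsIso (f.stalkMap x) := by
    intro x hx
    have hopen : IsOpenImmersion ((f ⁻¹ᵁ V).ι ≫ f) := by
      rw [← morphismRestrict_ι]; infer_instance
    have hiso : IsIso (((f ⁻¹ᵁ V).ι ≫ f).stalkMap ⟨x, hx⟩) := inferInstance
    rw [Scheme.Hom.stalkMap_comp] at hiso
    exact @IsIso.of_isIso_comp_right _ _ _ _ _ (f.stalkMap ((f ⁻¹ᵁ V).ι ⟨x, hx⟩))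
      ((f ⁻¹ᵁ V).ι.stalkMap ⟨x, hx⟩) inferInstance hiso
  have hbij : Function.Bijective (f.stalkMap (genericPoint ↥X)) := by
    have hmem : genericPoint ↥X ∈ f ⁻¹ᵁ V := by
      rw [← h1]; exact (genericPoint ↥(f ⁻¹ᵁ V).toScheme).2
    have := hstalk _ hmem
    exact (ConcreteCategory.isIso_iff_bijective _).mp this
  obtain ⟨V₀, hV₀, -, hdim⟩ := Groth.Agent.S11555.result f hnorm hξ hbij
  refine ⟨V₀, ?_, hV₀⟩
  by_contra hyV
  have h2le := hdim y hyV
  have : (2 : WithBot ℕ∞) ≤ 1 := h2le.trans hy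
  exact absurd this (by decide)


end Groth.Agent.S14523
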