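import Groth.Statements.S14536
import Groth.Agent.Lib.Helper7.GH1
import Groth.Agent.Lib.Helper7.GH2


set_option autoImplicit false
universe u
open CategoryTheory MonoidalCategory CartesianMonoidalCategory MonObj GrpObj AlgebraicGeometry
open PrincBund

namespace Groth.Agent.S14536

open Groth.Agent.Lib.Helper7.GH Groth.Agent.Lib.Helper7.GModComod


/-- Let k be an algebraically closed field and h : G → G' a homomorphism of affine group schemes over k
(not necessarily of finite type) which is surjective on underlying spaces. Then h is surjective on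
k-points: every k-point of G' is the image of a k-point of G. -/
theorem result (k : Type u) [Field k] [IsAlgClosed k]
    (G G' : Over (Spec (CommRingCat.of k))) [GrpObj G] [GrpObj G'] [IsAffine G.left] [IsAffine G'.left]
    (h : G ⟶ G') [IsMonHom h] (hs : Surjective h.left) (x : 𝟙_ (Over (Spec (CommRingCat.of k))) ⟶ G') :
    ∃ g : 𝟙_ (Over (Spec (CommRingCat.of k))) ⟶ G, g ≫ h = x := by
  obtain ⟨M⟩ := nonempty_model G
  obtain ⟨M'⟩ := nonempty_model G'
  let f : (Spec (CommRingCat.of M.A)).asOver (Spec (CommRingCat.of k)) ⟶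
      (Spec (CommRingCat.of M'.A)).asOver (Spec (CommRingCat.of k)) := M.e.inv ≫ h ≫ M'.e.hom
  haveI : IsMonHom f := inferInstanceAs (IsMonHom (M.e.inv ≫ h ≫ M'.e.hom))
  obtain ⟨φ, hφ⟩ := exists_bialgHom f
  have hsurj : Function.Surjective (PrimeSpectrum.comap (φ : M'.A →+* M.A)) := by
    haveI : Surjective h.left := hs
    have h1 : Surjective f.left := by
      haveI : IsIso M.e.inv.left :=
        inferInstanceAs (IsIso ((Over.forget (Spec (CommRingCat.of k))).map M.e.inv))
      haveI : IsIso M'.e.hom.left :=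
        inferInstanceAs (IsIso ((Over.forget (Spec (CommRingCat.of k))).map M'.e.hom))
      change Surjective (M.e.inv.left ≫ h.left ≫ M'.e.hom.left)
      infer_instance
    rw [hφ, pg_left] at h1
    exact h1.surj
  obtain ⟨ζ, hζ⟩ := exists_algHom_comp_eq_of_comap_surjective φ hsurj (algOf (x ≫ M'.e.hom))
  refine ⟨ptOf ζ ≫ M.e.inv, ?_⟩
  rw [← cancel_mono M'.e.hom]
  have h2 : ptOf ζ ≫ f = x ≫ M'.e.hom := by
    rw [hφ, ptOf_comp_pg, hζ, ptOf_algOf]
  rw [← h2]
  simp only [f, Category.assoc]

end Groth.Agent.S14536
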