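import Groth.Statements.S14537
import Groth.Agent.Lib.Helper7.GH1
import Groth.Agent.Lib.Helper7.GH2


set_option autoImplicit false
universe u
open CategoryTheory MonoidalCategory CartesianMonoidalCategory MonObj GrpObj AlgebraicGeometry
open PrincBund

namespace Groth.Agent.S14537

open Groth.Agent.Lib.Helper7.GH Groth.Agent.Lib.Helper7.GModComod


/-- Let k be an algebraically closed field and G an affine group scheme over k, not necessarily of
finite type. Then the set of k-rational points of G is dense in the underlying space of G. -/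
theorem result (k : Type u) [Field k] [IsAlgClosed k]
    (G : Over (Spec (CommRingCat.of k))) [GrpObj G] [IsAffine G.left] :
    Dense {x : ↥G.left | ∃ g : 𝟙_ (Over (Spec (CommRingCat.of k))) ⟶ G, g.left.base (IsLocalRing.closedPoint k) = x} := by
  obtain ⟨M⟩ := nonempty_model G
  rw [dense_iff_inter_open]
  intro U hU hne
  let V : Set (PrimeSpectrum M.A) := {p | M.e.inv.left.base p ∈ U}
  have hV : IsOpen V := hU.preimage M.e.inv.left.continuous
  have hVne : V.Nonempty := by
    obtain ⟨y, hy⟩ := hne
    refine ⟨M.e.hom.left.base y, ?_⟩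
    change M.e.inv.left.base (M.e.hom.left.base y) ∈ U
    have h1 : M.e.hom.left ≫ M.e.inv.left = 𝟙 G.left := by
      rw [← Over.comp_left, Iso.hom_inv_id]
      rfl
    have h2 : M.e.inv.left.base (M.e.hom.left.base y) = (M.e.hom.left ≫ M.e.inv.left).base y := rfl
    rw [h2, h1]
    exact hy
  obtain ⟨p, hp⟩ := hVne
  obtain ⟨_, ⟨a, rfl⟩, hpa, haV⟩ :=
    PrimeSpectrum.isTopologicalBasis_basic_opens.exists_subset_of_mem_open hp hV
  have ha : ¬ IsNilpotent a := by
    intro hn
    apply hpa
    exact nilpotent_iff_mem_prime.1 hn p.asIdeal p.isPrime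
  obtain ⟨g, hg⟩ := exists_algHom_ne_zero (k := k) a ha
  let q : PrimeSpectrum M.A := PrimeSpectrum.comap (g : M.A →+* k) (IsLocalRing.closedPoint k)
  have hq : q ∈ (PrimeSpectrum.basicOpen a : Set (PrimeSpectrum M.A)) := by
    change a ∉ q.asIdeal
    intro haq
    have h3 : g a ∈ IsLocalRing.maximalIdeal k := haq
    rw [IsLocalRing.mem_maximalIdeal, mem_nonunits_iff] at h3
    exact h3 (isUnit_iff_ne_zero.2 hg)
  refine ⟨M.e.inv.left.base q, ⟨haV hq, ptOf g ≫ M.e.inv, ?_⟩⟩
  change M.e.inv.left.base ((ptOf g).left.base (IsLocalRing.closedPoint k)) = M.e.inv.left.base q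
  rw [ptOf_base]

end Groth.Agent.S14537
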