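import Groth.Statements.S1458
import Mathlib.RingTheory.Finiteness.ModuleFinitePresentation
import Mathlib.LinearAlgebra.TensorProduct.RightExactness
import Mathlib.LinearAlgebra.TensorProduct.Pi
import Mathlib.RingTheory.FinitePresentation
-- import your own Groth.Agent.* helpers here

set_option autoImplicit false
universe u
open FlatMor

namespace Groth.Agent.S1458

section helpers

open TensorProduct

variable {A B : Type u} [CommRing A] [CommRing B] [Algebra A B]
variable {n m : ℕ}

/-- `ee A b A' x = ∑ i, b i ⊗ x i`. -/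
noncomputable def ee (A : Type u) [CommRing A] [Algebra A B] (b : Fin n → B) (A' : Type u) [CommRing A'] [Algebra A A']
    (x : Fin n → A') : B ⊗[A] A' :=
  ∑ i, b i ⊗ₜ[A] x i

/-- The identification `(Fin n → A) ⊗ A' ≃ (Fin n → A')`. -/
noncomputable def Φ (A : Type u) [CommRing A] (n : ℕ) (A' : Type u) [CommRing A'] [Algebra A A'] :
    (Fin n → A) ⊗[A] A' ≃ₗ[A] (Fin n → A') :=
  TensorProduct.comm A (Fin n → A) A' ≪≫ₗ TensorProduct.piScalarRight A A A' (Fin n)

lemma Φ_tmul (A' : Type u) [CommRing A'] [Algebra A A'] (v : Fin n → A) (a : A') (i : Fin n) :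
    Φ A n A' (v ⊗ₜ a) i = v i • a := by
  simp [Φ]

variable (f : (Fin n → A) →ₗ[A] B) (g : (Fin m → A) →ₗ[A] (Fin n → A))

lemma f_eq (v : Fin n → A) : f v = ∑ i, v i • f (Pi.single i 1) := by
  conv_lhs => rw [← Finset.univ_sum_single v]
  rw [map_sum]
  refine Finset.sum_congr rfl fun i _ => ?_
  rw [← map_smul]
  congr 1
  ext j
  simp [Pi.single_apply]

lemma rTensor_f (A' : Type u) [CommRing A'] [Algebra A A'] (t : (Fin n → A) ⊗[A] A') :
    f.rTensor A' t = ee A (fun i => f (Pi.single i 1)) A' (Φ A n A' t) := by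
  induction t using TensorProduct.induction_on with
  | zero => simp [ee]
  | tmul v a =>
    simp only [LinearMap.rTensor_tmul, ee, Φ_tmul]
    rw [f_eq f v, TensorProduct.sum_tmul]
    refine Finset.sum_congr rfl fun i _ => ?_
    rw [TensorProduct.smul_tmul]
  | add t₁ t₂ h₁ h₂ =>
    simp only [map_add, h₁, h₂, ee, Pi.add_apply, TensorProduct.tmul_add, Finset.sum_add_distrib]

lemma Φ_rTensor_g (A' : Type u) [CommRing A'] [Algebra A A'] (z : (Fin m → A) ⊗[A] A')
    (k : Fin n) :
    Φ A n A' (g.rTensor A' z) k = ∑ l, g (Pi.single l 1) k • Φ A m A' z l := by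
  induction z using TensorProduct.induction_on with
  | zero => simp
  | tmul u a =>
    simp only [LinearMap.rTensor_tmul, Φ_tmul]
    rw [f_eq g u]
    simp only [Finset.sum_apply, Pi.smul_apply, smul_eq_mul, Finset.sum_smul]
    refine Finset.sum_congr rfl fun l _ => ?_
    rw [mul_comm, mul_smul]
  | add t₁ t₂ h₁ h₂ =>
    simp only [map_add, Pi.add_apply, h₁, h₂, smul_add, Finset.sum_add_distrib]

/-- (D) every element of `B ⊗ A'` is of the form `ee A b A' x`. -/
lemma ee_surjective (hf : Function.Surjective f) (A' : Type u) [CommRing A'] [Algebra A A']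
    (e : B ⊗[A] A') : ∃ x, ee A (fun i => f (Pi.single i 1)) A' x = e := by
  obtain ⟨t, rfl⟩ := LinearMap.rTensor_surjective A' hf e
  exact ⟨Φ A n A' t, (rTensor_f f A' t).symm⟩

/-- (C) -/
lemma ee_eq_zero (hf : Function.Surjective f) (hfg : Function.Exact g f)
    (A' : Type u) [CommRing A'] [Algebra A A'] (w : Fin n → A')
    (hw : ee A (fun i => f (Pi.single i 1)) A' w = 0) :
    ∃ y : Fin m → A', ∀ k, w k = ∑ l, g (Pi.single l 1) k • y l := by
  have h1 : f.rTensor A' ((Φ A n A').symm w) = 0 := by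
    rw [rTensor_f, LinearEquiv.apply_symm_apply, hw]
  obtain ⟨z, hz⟩ := (rTensor_exact A' hfg hf _).mp h1
  refine ⟨Φ A m A' z, fun k => ?_⟩
  rw [← Φ_rTensor_g, hz, LinearEquiv.apply_symm_apply]

/-- (B) -/
lemma ee_relations (hfg : Function.Exact g f)
    (A' : Type u) [CommRing A'] [Algebra A A'] (y : Fin m → A') :
    ee A (fun i => f (Pi.single i 1)) A' (fun k => ∑ l, g (Pi.single l 1) k • y l) = 0 := by
  have h0 : ∀ l, f (g (Pi.single l 1)) = 0 := fun l => hfg.apply_apply_eq_zero _
  simp only [ee, TensorProduct.tmul_sum]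
  rw [Finset.sum_comm]
  refine Finset.sum_eq_zero fun l _ => ?_
  simp only [← TensorProduct.smul_tmul, ← TensorProduct.sum_tmul]
  rw [← f_eq f, h0, TensorProduct.zero_tmul]

/-- (A) -/
lemma ee_mul_self (b : Fin n → B) (c : Fin n → Fin n → Fin n → A)
    (hc : ∀ i j, b i * b j = ∑ k, c i j k • b k)
    (A' : Type u) [CommRing A'] [Algebra A A'] (x : Fin n → A') :
    ee A b A' x * ee A b A' x - ee A b A' x
      = ee A b A' (fun k => (∑ i, ∑ j, c i j k • (x i * x j)) - x k) := by
  simp only [ee, TensorProduct.tmul_sub, Finset.sum_sub_distrib]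
  congr 1
  rw [Finset.sum_mul_sum]
  simp only [Algebra.TensorProduct.tmul_mul_tmul, hc, TensorProduct.sum_tmul,
    TensorProduct.tmul_sum, TensorProduct.smul_tmul]
  symm
  rw [Finset.sum_comm]
  refine Finset.sum_congr rfl fun i _ => ?_
  rw [Finset.sum_comm]

end helpers

open TensorProduct in
/-- Let A → B be a finite ring map of finite presentation. Then there are a finitely presented A-algebra
A_u and an idempotent e_u of B ⊗_A A_u such that for every A-algebra A' and every idempotent e of B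
⊗_A A' there is an A-algebra map A_u → A' whose induced map B ⊗ A_u → B ⊗ A' sends e_u to e. -/
theorem result {A B : Type u} [CommRing A] [CommRing B] [Algebra A B] [Module.Finite A B] [Algebra.FinitePresentation A B] :
    ∃ (Au : Type u) (_ : CommRing Au) (_ : Algebra A Au) (eu : B ⊗[A] Au), Algebra.FinitePresentation A Au ∧ IsIdempotentElem eu ∧
      ∀ (A' : Type u) [CommRing A'] [Algebra A A'] (e : B ⊗[A] A'), IsIdempotentElem e →
        ∃ φ : Au →ₐ[A] A', Algebra.TensorProduct.map (AlgHom.id A B) φ eu = e := by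
  classical
  have : Module.FinitePresentation A B :=
    Module.FinitePresentation.of_finite_of_finitePresentation A B
  obtain ⟨n, m, f, g, hf, hfg⟩ := Module.FinitePresentation.exists_fin' A B
  have hc' : ∀ i j : Fin n, ∃ c : Fin n → A,
      f (Pi.single i 1) * f (Pi.single j 1) = ∑ k, c k • f (Pi.single k 1) := by
    intro i j
    obtain ⟨v, hv⟩ := hf (f (Pi.single i 1) * f (Pi.single j 1))
    exact ⟨v, by rw [← hv, f_eq f v]⟩
  choose c hc using hc'
  let P := MvPolynomial (Fin n ⊕ Fin m) A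
  let rel : Fin n → P := fun k =>
    (∑ i, ∑ j, c i j k • (MvPolynomial.X (Sum.inl i) * MvPolynomial.X (Sum.inl j)))
      - MvPolynomial.X (Sum.inl k)
      - ∑ l, g (Pi.single l 1) k • MvPolynomial.X (Sum.inr l)
  let I : Ideal P := Ideal.span (Set.range rel)
  let q : P →ₐ[A] P ⧸ I := Ideal.Quotient.mkₐ A I
  let xu : Fin n → P ⧸ I := fun i => q (MvPolynomial.X (Sum.inl i))
  let yu : Fin m → P ⧸ I := fun l => q (MvPolynomial.X (Sum.inr l))
  refine ⟨P ⧸ I, inferInstance, inferInstance, ee A (fun i => f (Pi.single i 1)) (P ⧸ I) xu,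
    ?_, ?_, ?_⟩
  · exact Algebra.FinitePresentation.quotient (Submodule.fg_span (Set.finite_range rel))
  · have hrel : ∀ k, (∑ i, ∑ j, c i j k • (xu i * xu j)) - xu k
        = ∑ l, g (Pi.single l 1) k • yu l := by
      intro k
      have h0 : q (rel k) = 0 :=
        Ideal.Quotient.eq_zero_iff_mem.mpr (Ideal.subset_span ⟨k, rfl⟩)
      simp only [rel, map_sub, map_sum, map_mul, map_smul] at h0
      rw [sub_eq_zero] at h0
      exact h0
    have h := ee_mul_self (A := A) (fun i => f (Pi.single i 1)) c hc (P ⧸ I) xu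
    have h2 : ee A (fun i => f (Pi.single i 1)) (P ⧸ I)
        (fun k => (∑ i, ∑ j, c i j k • (xu i * xu j)) - xu k) = 0 := by
      simp only [hrel]
      exact ee_relations f g hfg (P ⧸ I) yu
    rw [h2, sub_eq_zero] at h
    exact h
  · intro A' _ _ e he
    obtain ⟨x, rfl⟩ := ee_surjective f hf A' e
    have h := ee_mul_self (A := A) (fun i => f (Pi.single i 1)) c hc A' x
    rw [he.eq, sub_self] at h
    obtain ⟨y, hy⟩ := ee_eq_zero f g hf hfg A' _ h.symm
    let ψ : P →ₐ[A] A' := MvPolynomial.aeval (Sum.elim x y)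
    have hψx : ∀ i, ψ (MvPolynomial.X (Sum.inl i)) = x i := fun i =>
      MvPolynomial.aeval_X (Sum.elim x y) (Sum.inl i)
    have hψy : ∀ l, ψ (MvPolynomial.X (Sum.inr l)) = y l := fun l =>
      MvPolynomial.aeval_X (Sum.elim x y) (Sum.inr l)
    have hle : I ≤ RingHom.ker ψ.toRingHom := by
      rw [Ideal.span_le]
      rintro _ ⟨k, rfl⟩
      have : ψ (rel k) = 0 := by
        simp only [rel, map_sub, map_sum, map_mul, map_smul, hψx, hψy]
        rw [hy k, sub_self]
      exact this
    have hψ : ∀ a ∈ I, ψ a = 0 := fun a ha => hle ha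
    refine ⟨Ideal.Quotient.liftₐ I ψ hψ, ?_⟩
    simp only [ee, map_sum, Algebra.TensorProduct.map_tmul, AlgHom.coe_id, id_eq]
    refine Finset.sum_congr rfl fun i _ => ?_
    congr 1
    exact hψx i

end Groth.Agent.S1458
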