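import Groth.Statements.S14580
import Mathlib
import Groth.Agent.Lib.Helper10.ClopenIdem
import Groth.Agent.Lib.Helper16.LocNoeth

set_option autoImplicit false
universe u
open CategoryTheory MonoidalCategory CartesianMonoidalCategory MonObj GrpObj AlgebraicGeometry CategoryTheory.Limits
open AlgGrp

namespace Groth.Agent.S14580

open CategoryTheory.Limits in
theorem toSpecΓ_eq_iff {X : Scheme.{u}} (x y : X) :
    X.toSpecΓ x = X.toSpecΓ y ↔ ∀ f : Γ(X, ⊤), x ∈ X.basicOpen f ↔ y ∈ X.basicOpen f := by
  have key : ∀ (z : X) (f : Γ(X, ⊤)), z ∈ X.basicOpen f ↔ f ∉ (X.toSpecΓ z).asIdeal := by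
    intro z f
    rw [← X.toSpecΓ_preimage_basicOpen f]
    rfl
  constructor
  · intro h f
    rw [key, key, h]
  · intro h
    apply PrimeSpectrum.ext
    ext f
    have := h f
    rw [key, key] at this
    exact not_iff_not.mp this

/-- basic opens of functions which are algebraic over a field are closed. -/
theorem isClosed_basicOpen_of_isIntegral {X : Scheme.{u}} {k : Type u} [Field k]
    (φ : k →+* Γ(X, ⊤)) (f : Γ(X, ⊤)) (hf : φ.IsIntegralElem f) :
    IsClosed ((X.basicOpen f : X.Opens) : Set X) := by
  obtain ⟨p, hp, hpf⟩ := hf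
  have hp0 : p ≠ 0 := hp.ne_zero
  obtain ⟨q, hq, hq'⟩ := Polynomial.exists_eq_pow_rootMultiplicity_mul_and_not_dvd p hp0 0
  set a := p.rootMultiplicity 0 with ha
  rw [map_zero, sub_zero] at hq hq'
  have hq0 : q.coeff 0 ≠ 0 := fun h => hq' (Polynomial.X_dvd_iff.mpr h)
  set g : Γ(X, ⊤) := Polynomial.eval₂ φ f q with hg
  set r : Γ(X, ⊤) := Polynomial.eval₂ φ f q.divX with hr
  have hgr : g = r * f + φ (q.coeff 0) := by
    have := congrArg (Polynomial.eval₂ φ f) (Polynomial.divX_mul_X_add q)
    rw [Polynomial.eval₂_add, Polynomial.eval₂_mul, Polynomial.eval₂_X, Polynomial.eval₂_C] at this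
    rw [hg, hr, this]
  have hfg : f ^ a * g = 0 := by
    have := congrArg (Polynomial.eval₂ φ f) hq
    rw [hpf, Polynomial.eval₂_mul, Polynomial.eval₂_pow, Polynomial.eval₂_X] at this
    exact this.symm
  have hunit : IsUnit (φ (q.coeff 0)) := (IsUnit.mk0 _ hq0).map φ
  have hcompl : ((X.basicOpen f : X.Opens) : Set X)ᶜ = ((X.basicOpen g : X.Opens) : Set X) := by
    ext x
    constructor
    · intro hx
      by_contra hxg
      have h1 : x ∈ X.basicOpen (φ (q.coeff 0)) := by
        rw [X.basicOpen_of_isUnit hunit]; trivial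
      have hx : x ∉ X.basicOpen f := hx
      have hxg : x ∉ X.basicOpen g := hxg
      have h2 : φ (q.coeff 0) = g + (-r) * f := by rw [hgr]; ring
      rw [h2] at h1
      rcases X.basicOpen_add_le _ _ h1 with h | h
      · exact hxg h
      · rw [Scheme.basicOpen_mul] at h
        exact hx h.2
    · intro hxg hxf
      have hxg : x ∈ X.basicOpen g := hxg
      have hxf : x ∈ X.basicOpen f := hxf
      have h1 : x ∈ X.basicOpen (f ^ a) := by
        rw [Scheme.mem_basicOpen _ _ x (by trivial)] at hxf ⊢
        rw [map_pow]
        exact hxf.pow a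
      have h2 : x ∈ X.basicOpen (f ^ a * g) := by
        rw [Scheme.basicOpen_mul]; exact ⟨h1, hxg⟩
      rw [hfg, Scheme.basicOpen_zero] at h2
      exact h2
  rw [← isOpen_compl_iff, hcompl]
  exact (X.basicOpen g).isOpen

/-- Let k be a field, G a proper k-group scheme of finite type and N ⊆ G the kernel of the affinization
morphism G → Spec O(G), i.e. the fibre over the image of the unit section (the largest anti-affine
subgroup scheme of G). Then the image of N in G is the connected component of the identity: as N is
smooth, N is the reduced neutral component G⁰_red, which is therefore a smooth connected algebraic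
group. -/
theorem result (k : Type u) [Field k]
    (G : Over (Spec (CommRingCat.of k))) [GrpObj G] [IsProper G.hom] (t : ↥((𝟙_ (Over (Spec (CommRingCat.of k)))).left)) :
    Set.range ⇑(pullback.fst G.left.toSpecΓ (η[G].left ≫ G.left.toSpecΓ)).base = connectedComponent ((η[G]).left.base t) := by
  classical
  set X := G.left with hX
  set e₀ : X := (η[G]).left.base t with he₀
  -- the fibre
  have hrange : Set.range ⇑(pullback.fst X.toSpecΓ (η[G].left ≫ X.toSpecΓ)).base =
      {x : X | X.toSpecΓ x = X.toSpecΓ e₀} := by
    rw [Scheme.Pullback.range_fst]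
    ext x
    simp only [Set.mem_preimage, Set.mem_range, Set.mem_setOf_eq]
    constructor
    · rintro ⟨s, hs⟩
      haveI : Subsingleton ↥(𝟙_ (Over (Spec (CommRingCat.of k)))).left :=
        inferInstanceAs (Subsingleton (PrimeSpectrum k))
      have : s = t := Subsingleton.elim _ _
      rw [← hs, this]
      rfl
    · intro h
      exact ⟨t, h.symm⟩
  rw [hrange]
  -- integrality of global functions
  haveI : UniversallyClosed G.hom := inferInstance
  have hint : G.hom.appTop.hom.IsIntegral := isIntegral_appTop_of_universallyClosed G.hom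
  let φ : k →+* Γ(X, ⊤) := G.hom.appTop.hom.comp (Scheme.ΓSpecIso (CommRingCat.of k)).inv.hom
  have hφ : ∀ f : Γ(X, ⊤), φ.IsIntegralElem f := by
    intro f
    obtain ⟨p, hp, hpf⟩ := hint f
    refine ⟨p.map (Scheme.ΓSpecIso (CommRingCat.of k)).hom.hom, hp.map _, ?_⟩
    rw [Polynomial.eval₂_map]
    have : φ.comp (Scheme.ΓSpecIso (CommRingCat.of k)).hom.hom = G.hom.appTop.hom := by
      ext z
      simp [φ]
    rw [this]
    exact hpf
  have hclopen : ∀ f : Γ(X, ⊤), IsClopen ((X.basicOpen f : X.Opens) : Set X) := fun f =>
    ⟨isClosed_basicOpen_of_isIntegral φ f (hφ f), (X.basicOpen f).isOpen⟩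
  -- the connected component is open
  haveI : IsLocallyNoetherian (Spec (CommRingCat.of k)) := inferInstance
  haveI : LocallyOfFiniteType G.hom := inferInstance
  haveI : IsLocallyNoetherian X := LocallyOfFiniteType.isLocallyNoetherian G.hom
  haveI : CompactSpace X := by
    haveI : QuasiCompact G.hom := inferInstance
    exact (quasiCompact_iff_compactSpace G.hom).mp inferInstance
  haveI : IsNoetherian X := {}
  haveI : TopologicalSpace.NoetherianSpace X := inferInstance
  have hCopen : IsOpen (connectedComponent e₀) :=
    Groth.Agent.Lib.Helper16.isOpen_connectedComponent_of_noetherian e₀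
  ext x
  simp only [Set.mem_setOf_eq]
  rw [toSpecΓ_eq_iff]
  constructor
  · intro h
    let C : X.Opens := ⟨connectedComponent e₀, hCopen⟩
    obtain ⟨e, -, he⟩ := Groth.Agent.Lib.Helper10.ClopenIdem.exists_idempotent_of_isClopen_in
      (⊤ : X.Opens) C le_top (by
        have : ((⊤ : X.Opens) : Set X) \ (C : Set X) = (connectedComponent e₀)ᶜ := by
          ext y; simp [C]
        rw [this]
        exact isClosed_connectedComponent.isOpen_compl)
    have h1 : e₀ ∈ X.basicOpen e := by
      rw [he]; exact mem_connectedComponent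
    have h2 : x ∈ X.basicOpen e := (h e).mpr h1
    rw [he] at h2
    exact h2
  · intro hx f
    constructor
    · intro hxf
      by_contra hef
      have hsub := (hclopen f).compl.connectedComponent_subset (x := e₀) hef
      exact hsub hx hxf
    · intro hef
      exact (hclopen f).connectedComponent_subset hef hx

end Groth.Agent.S14580
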