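import Groth.Statements.S14588
import Groth.Agent.Lib.Helper25.ReducedNhd
import Groth.Agent.Lib.Helper25.GrpSmoothNonempty

set_option autoImplicit false
universe u
open CategoryTheory MonoidalCategory CartesianMonoidalCategory MonObj GrpObj AlgebraicGeometry CategoryTheory.Limits
open AlgGrp

namespace Groth.Agent.S14588

/-- Let k be a field with algebraic closure K and G a k-group scheme locally of finite type. If the
local ring of G_K at its unit point is reduced, then G is smooth over k. -/
theorem result (k : Type u) [Field k]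
    (G : Over (Spec (CommRingCat.of k))) [GrpObj G] [LocallyOfFiniteType G.hom]
    (t : ↥((𝟙_ (Over (Spec (CommRingCat.of (AlgebraicClosure k))))).left))
    (h : _root_.IsReduced ↑((Red.bc (Spec.map (CommRingCat.ofHom (algebraMap k (AlgebraicClosure k)))) G).left.presheaf.stalk ((η[Red.bc (Spec.map (CommRingCat.ofHom (algebraMap k (AlgebraicClosure k)))) G]).left.base t))) :
    Smooth G.hom := by
  apply Groth.Agent.Lib.Helper25.GrpSmoothNonempty.smooth_of_nonempty_smoothLocus_pullback
  let g := Groth.Agent.Lib.Helper25.GrpSmoothNonempty.gbar k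
  let f := Limits.pullback.snd G.hom g
  let y : ↥(Limits.pullback G.hom g) := (η[Red.bc g G]).left.base t
  have h' : _root_.IsReduced ((Limits.pullback G.hom g).presheaf.stalk y) := h
  have : IsLocallyNoetherian (Limits.pullback G.hom g) :=
    LocallyOfFiniteType.isLocallyNoetherian f
  obtain ⟨U, hyU, hUred⟩ := Groth.Agent.Lib.Helper25.ReducedNhd.exists_isReduced_nhd y
  have : Nonempty U := ⟨⟨y, hyU⟩⟩
  have hd := Scheme.Hom.dense_smoothLocus_of_perfectField (U.ι ≫ f)
  obtain ⟨u, hu⟩ := hd.nonempty
  refine ⟨U.ι u, ?_⟩
  rw [← Scheme.Hom.preimage_smoothLocus_eq] at hu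
  exact hu


end Groth.Agent.S14588
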