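import Groth.Statements.S14608
import Mathlib
import Groth.Agent.Lib.Helper9.FibreLoc

set_option autoImplicit false
universe u v
open CAlg

namespace Groth.Agent.S14608

open Groth.Agent.Lib.Helper9.FibreLoc

/-- a short exact sequence with projective cokernel has a retraction -/
lemma exists_retraction_of_exact {R : Type*} [CommRing R] {X Y Z : Type*} [AddCommGroup X]
    [Module R X] [AddCommGroup Y] [Module R Y] [AddCommGroup Z] [Module R Z]
    (f : X →ₗ[R] Y) (g : Y →ₗ[R] Z) (hf : Function.Injective f) (hex : Function.Exact f g)
    (hg : Function.Surjective g) [Module.Projective R Z] :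
    ∃ r : Y →ₗ[R] X, r.comp f = LinearMap.id := by
  have := (Function.Exact.split_tfae hex hf hg).out 0 1
  exact this.mp (Module.projective_lifting_property _ _ hg)

lemma exact_ker_rangeRestrict {R : Type*} [CommRing R] {X Y : Type*} [AddCommGroup X]
    [Module R X] [AddCommGroup Y] [Module R Y] (δ : X →ₗ[R] Y) :
    Function.Exact (LinearMap.ker δ).subtype δ.rangeRestrict := by
  intro m
  rw [← LinearMap.mem_ker, LinearMap.ker_rangeRestrict]
  constructor
  · intro hm; exact ⟨⟨m, hm⟩, rfl⟩
  · rintro ⟨k, rfl⟩; exact k.2

open TensorProduct in
/-- (a) iff `κ ⊗ range δ → κ ⊗ F` injective -/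
lemma exact_iff_injective {R : Type*} [CommRing R] {X Y : Type*} [AddCommGroup X]
    [Module R X] [AddCommGroup Y] [Module R Y] (κ : Type*) [AddCommGroup κ] [Module R κ]
    (δ : X →ₗ[R] Y) :
    Function.Exact (LinearMap.lTensor κ (LinearMap.ker δ).subtype) (LinearMap.lTensor κ δ) ↔
      Function.Injective (LinearMap.lTensor κ (LinearMap.range δ).subtype) := by
  have hfac : δ = (LinearMap.range δ).subtype.comp δ.rangeRestrict := rfl
  have hex' := lTensor_exact κ (exact_ker_rangeRestrict δ) δ.surjective_rangeRestrict
  have hsurj : Function.Surjective (LinearMap.lTensor κ δ.rangeRestrict) :=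
    LinearMap.lTensor_surjective κ δ.surjective_rangeRestrict
  constructor
  · intro h
    rw [injective_iff_map_eq_zero]
    intro y hy
    obtain ⟨m, rfl⟩ := hsurj y
    rw [← LinearMap.comp_apply, ← LinearMap.lTensor_comp, ← hfac] at hy
    exact (hex' m).mpr ((h m).mp hy)
  · intro hι z
    rw [← hex' z]
    conv_lhs => rw [hfac, LinearMap.lTensor_comp, LinearMap.comp_apply]
    constructor
    · intro hz
      exact hι (by rw [hz, map_zero])
    · intro hz
      rw [hz, map_zero]


open TensorProduct in
/-- Let A be a Noetherian ring, M a finitely generated A-module, F a finitely generated free A-module, δ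
: M → F an A-linear map and p a prime of A with residue field κ(p). The following are equivalent:
(a) the natural map (ker δ) ⊗ κ(p) → ker(δ ⊗ κ(p)) is surjective (its image is the whole kernel);
(b) that map is bijective; (c) (F / im δ) localized at p is a free module over the local ring A_p.
Moreover, if these hold then (im δ) localized at p is free over A_p. (The published statement takes
M to be the cokernel of a map of finitely generated free modules; over a Noetherian ring this is
every finitely generated M, which is what this row takes.) -/
theorem result (A : Type u) [CommRing A] [IsNoetherianRing A]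
    (M : Type v) (F : Type v) [AddCommGroup M] [Module A M] [Module.Finite A M]
    [AddCommGroup F] [Module A F] [Module.Finite A F] [Module.Free A F]
    (δ : M →ₗ[A] F) (p : Ideal A) [p.IsPrime] :
    [ Function.Exact (LinearMap.lTensor p.ResidueField (LinearMap.ker δ).subtype)
        (LinearMap.lTensor p.ResidueField δ),
      Function.Exact (LinearMap.lTensor p.ResidueField (LinearMap.ker δ).subtype)
        (LinearMap.lTensor p.ResidueField δ) ∧
        Function.Injective (LinearMap.lTensor p.ResidueField (LinearMap.ker δ).subtype),
      Module.Free (Localization.AtPrime p)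
        (LocalizedModule p.primeCompl (F ⧸ LinearMap.range δ)) ].TFAE ∧
    (Function.Exact (LinearMap.lTensor p.ResidueField (LinearMap.ker δ).subtype)
        (LinearMap.lTensor p.ResidueField δ) →
      Module.Free (Localization.AtPrime p)
        (LocalizedModule p.primeCompl (LinearMap.range δ))) := by
  set S := p.primeCompl with hS
  set ι := (LinearMap.range δ).subtype with hι
  set π := (LinearMap.range δ).mkQ with hπ
  have hFfree : Module.Free (Localization.AtPrime p) (LocalizedModule S F) :=
    Module.Free.of_basis ((Module.Free.chooseBasis A F).ofIsLocalizedModule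
      (Localization.AtPrime p) S (LocalizedModule.mkLinearMap S F))
  have hιp : Function.Injective (LocalizedModule.map S ι) :=
    LocalizedModule.map_injective S ι Subtype.val_injective
  have hπp : Function.Surjective (LocalizedModule.map S π) :=
    LocalizedModule.map_surjective S π (Submodule.mkQ_surjective _)
  have hexp : Function.Exact (LocalizedModule.map S ι) (LocalizedModule.map S π) :=
    LocalizedModule.map_exact S ι π (LinearMap.exact_subtype_mkQ _)
  -- (a) ⟹ (c)
  have h13 : Function.Exact (LinearMap.lTensor p.ResidueField (LinearMap.ker δ).subtype)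
      (LinearMap.lTensor p.ResidueField δ) → Module.Free (Localization.AtPrime p)
        (LocalizedModule S (F ⧸ LinearMap.range δ)) := by
    intro h
    rw [exact_iff_injective, lTensor_residueField_injective_iff] at h
    exact Module.free_of_lTensor_residueField_injective _ _ hπp hexp h
  -- (c) ⟹ retractions
  have h3 : Module.Free (Localization.AtPrime p) (LocalizedModule S (F ⧸ LinearMap.range δ)) →
      Module.Free (Localization.AtPrime p) (LocalizedModule S (LinearMap.range δ)) ∧
      Function.Injective (LinearMap.lTensor p.ResidueField ι) ∧
      Function.Injective (LinearMap.lTensor p.ResidueField (LinearMap.ker δ).subtype) := by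
    intro hfree
    obtain ⟨ρ, hρ⟩ := exists_retraction_of_exact _ _ hιp hexp hπp
    have hIproj : Module.Projective (Localization.AtPrime p)
        (LocalizedModule S (LinearMap.range δ)) := Module.Projective.of_split _ ρ hρ
    have hIfree : Module.Free (Localization.AtPrime p)
        (LocalizedModule S (LinearMap.range δ)) := Module.free_of_flat_of_isLocalRing
    obtain ⟨r, hr⟩ := exists_retraction_of_exact (LocalizedModule.map S (LinearMap.ker δ).subtype)
      (LocalizedModule.map S δ.rangeRestrict)
      (LocalizedModule.map_injective S _ Subtype.val_injective)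
      (LocalizedModule.map_exact S _ _ (exact_ker_rangeRestrict δ))
      (LocalizedModule.map_surjective S _ δ.surjective_rangeRestrict)
    refine ⟨hIfree, ?_, ?_⟩
    · rw [lTensor_residueField_injective_iff]
      apply Function.LeftInverse.injective (g := LinearMap.lTensor _ ρ)
      intro z
      rw [← LinearMap.comp_apply, ← LinearMap.lTensor_comp, hρ, LinearMap.lTensor_id,
        LinearMap.id_apply]
    · rw [lTensor_residueField_injective_iff]
      apply Function.LeftInverse.injective (g := LinearMap.lTensor _ r)
      intro z
      rw [← LinearMap.comp_apply, ← LinearMap.lTensor_comp, hr, LinearMap.lTensor_id,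
        LinearMap.id_apply]
  refine ⟨?_, fun h => (h3 (h13 h)).1⟩
  tfae_have 1 → 3 := h13
  tfae_have 3 → 2 := fun h => ⟨(exact_iff_injective _ δ).mpr (h3 h).2.1, (h3 h).2.2⟩
  tfae_have 2 → 1 := fun h => h.1
  tfae_finish

end Groth.Agent.S14608
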