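import Groth.Statements.S14609
import Mathlib
import Groth.Agent.Lib.Helper9.FibreDim

set_option autoImplicit false
universe u v
open CAlg

namespace Groth.Agent.S14609

open Groth.Agent.Lib.Helper9.FibreDim


open TensorProduct in
/-- Let A be a Noetherian ring, M a finitely generated A-module, F a finitely generated free A-module
and δ : M → F an A-linear map. Then the function on Spec A sending a prime p with residue field κ(p)
to the κ(p)-dimension of the kernel of δ ⊗ κ(p) : M ⊗ κ(p) → F ⊗ κ(p) is upper semicontinuous. -/
theorem result (A : Type u) [CommRing A]
    [IsNoetherianRing A] (M : Type v) (F : Type v) [AddCommGroup M] [Module A M] [Module.Finite A M]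
    [AddCommGroup F] [Module A F] [Module.Finite A F] [Module.Free A F] (δ : M →ₗ[A] F) :
    UpperSemicontinuous (fun x : PrimeSpectrum A =>
      Module.finrank x.asIdeal.ResidueField
        (LinearMap.ker (δ.baseChange x.asIdeal.ResidueField))) := by
  intro x y hxy
  have hM := fibreDim_eventually_le (A := A) M x
  have hC := fibreDim_eventually_le (A := A) (F ⧸ LinearMap.range δ) x
  have hF : ∀ z : PrimeSpectrum A, Module.finrank z.asIdeal.ResidueField
      (z.asIdeal.ResidueField ⊗[A] F) = Module.finrank A F := by
    intro z
    have : Nontrivial A := (algebraMap A z.asIdeal.ResidueField).domain_nontrivial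
    exact Module.finrank_baseChange
  filter_upwards [hM, hC] with x' h1 h2
  have e1 := finrank_ker_baseChange_add x.asIdeal.ResidueField δ
  have e2 := finrank_ker_baseChange_add x'.asIdeal.ResidueField δ
  rw [hF] at e1 e2
  unfold fibreDim at h1 h2
  simp only at hxy ⊢
  omega

end Groth.Agent.S14609
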