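import Groth.Statements.S14610
import Mathlib
import Groth.Agent.Lib.Helper9.FibreDim

set_option autoImplicit false
universe u v
open CAlg

namespace Groth.Agent.S14610

open Groth.Agent.Lib.Helper9.FibreDim

/-- retraction onto the range when the cokernel is projective -/
lemma exists_retraction_range {A : Type*} [CommRing A] {M F : Type*} [AddCommGroup M] [Module A M]
    [AddCommGroup F] [Module A F] (δ : M →ₗ[A] F) [Module.Projective A (F ⧸ LinearMap.range δ)] :
    ∃ ρ : F →ₗ[A] ↥(LinearMap.range δ), ρ.comp (LinearMap.range δ).subtype = LinearMap.id := by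
  obtain ⟨σ, hσ⟩ := Module.projective_lifting_property (LinearMap.range δ).mkQ LinearMap.id
    (Submodule.mkQ_surjective _)
  let r0 : F →ₗ[A] F := LinearMap.id - σ.comp (LinearMap.range δ).mkQ
  have hr0 : ∀ k, r0 k ∈ LinearMap.range δ := by
    intro k
    rw [← Submodule.Quotient.mk_eq_zero, ← Submodule.mkQ_apply]
    change (LinearMap.range δ).mkQ (k - σ ((LinearMap.range δ).mkQ k)) = 0
    rw [map_sub, ← LinearMap.comp_apply, hσ, LinearMap.id_apply, sub_self]
  refine ⟨LinearMap.codRestrict _ r0 hr0, ?_⟩
  ext x
  change ((x : F) - σ ((LinearMap.range δ).mkQ (x : F))) = x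
  rw [Submodule.mkQ_apply, (Submodule.Quotient.mk_eq_zero _).mpr x.2, map_zero, sub_zero]

/-- retraction onto the kernel when the range is projective -/
lemma exists_retraction_ker {A : Type*} [CommRing A] {M F : Type*} [AddCommGroup M] [Module A M]
    [AddCommGroup F] [Module A F] (δ : M →ₗ[A] F) [Module.Projective A ↥(LinearMap.range δ)] :
    ∃ r : M →ₗ[A] ↥(LinearMap.ker δ), r.comp (LinearMap.ker δ).subtype = LinearMap.id := by
  obtain ⟨σ, hσ⟩ := Module.projective_lifting_property δ.rangeRestrict LinearMap.id
    δ.surjective_rangeRestrict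
  let r0 : M →ₗ[A] M := LinearMap.id - σ.comp δ.rangeRestrict
  have hr0 : ∀ k, r0 k ∈ LinearMap.ker δ := by
    intro k
    rw [← LinearMap.ker_rangeRestrict, LinearMap.mem_ker]
    change δ.rangeRestrict (k - σ (δ.rangeRestrict k)) = 0
    rw [map_sub, ← LinearMap.comp_apply, hσ, LinearMap.id_apply, sub_self]
  refine ⟨LinearMap.codRestrict _ r0 hr0, ?_⟩
  ext x
  change ((x : M) - σ (δ.rangeRestrict (x : M))) = x
  have : δ.rangeRestrict (x : M) = 0 := by
    rw [← LinearMap.mem_ker, LinearMap.ker_rangeRestrict]; exact x.2
  rw [this, map_zero, sub_zero]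


open TensorProduct in
/-- Let A be a reduced Noetherian ring, M a finitely generated A-module, F a finitely generated free
A-module and δ : M → F an A-linear map such that the function p ↦ dim_{κ(p)} ker(δ ⊗ κ(p)) is
locally constant on Spec A. Then M, ker δ and coker δ = F / im δ are projective A-modules, and for
every A-module N the natural map (ker δ) ⊗ N → M ⊗ N is injective with image equal to the kernel of
δ ⊗ N. -/
theorem result (A : Type u) [CommRing A]
    [IsNoetherianRing A] [IsReduced A] (M : Type v) (F : Type v) [AddCommGroup M] [Module A M]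
    [Module.Finite A M] [AddCommGroup F] [Module A F] [Module.Finite A F] [Module.Free A F]
    (δ : M →ₗ[A] F)
    (h : IsLocallyConstant (fun x : PrimeSpectrum A =>
      Module.finrank x.asIdeal.ResidueField
        (LinearMap.ker (δ.baseChange x.asIdeal.ResidueField)))) :
    Module.Projective A M ∧ Module.Projective A (LinearMap.ker δ) ∧
      Module.Projective A (F ⧸ LinearMap.range δ) ∧
      ∀ (N : Type v) [AddCommGroup N] [Module A N],
        Function.Injective (LinearMap.rTensor N (LinearMap.ker δ).subtype) ∧
        Function.Exact (LinearMap.rTensor N (LinearMap.ker δ).subtype) (LinearMap.rTensor N δ) := by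
  have hfpM : Module.FinitePresentation A M := Module.finitePresentation_of_finite A M
  have hfpC : Module.FinitePresentation A (F ⧸ LinearMap.range δ) :=
    Module.finitePresentation_of_finite A _
  have hF : ∀ z : PrimeSpectrum A, Module.finrank z.asIdeal.ResidueField
      (z.asIdeal.ResidueField ⊗[A] F) = Module.finrank A F := by
    intro z
    have : Nontrivial A := (algebraMap A z.asIdeal.ResidueField).domain_nontrivial
    exact Module.finrank_baseChange
  have hboth : ∀ x : PrimeSpectrum A, ∀ᶠ x' in nhds x,
      fibreDim M x' = fibreDim M x ∧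
        fibreDim (F ⧸ LinearMap.range δ) x' = fibreDim (F ⧸ LinearMap.range δ) x := by
    intro x
    filter_upwards [fibreDim_eventually_le (A := A) M x,
      fibreDim_eventually_le (A := A) (F ⧸ LinearMap.range δ) x, h.eventually_eq x]
      with x' h1 h2 h3
    have e1 := finrank_ker_baseChange_add x.asIdeal.ResidueField δ
    have e2 := finrank_ker_baseChange_add x'.asIdeal.ResidueField δ
    rw [hF] at e1 e2
    unfold fibreDim at h1 h2 ⊢
    omega
  have hM : Module.Projective A M :=
    projective_of_fibreDim_locallyConstant M fun x => (hboth x).mono fun _ hx => hx.1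
  have hC : Module.Projective A (F ⧸ LinearMap.range δ) :=
    projective_of_fibreDim_locallyConstant _ fun x => (hboth x).mono fun _ hx => hx.2
  obtain ⟨ρ, hρ⟩ := exists_retraction_range δ
  have hI : Module.Projective A ↥(LinearMap.range δ) :=
    Module.Projective.of_split (LinearMap.range δ).subtype ρ hρ
  obtain ⟨r, hr⟩ := exists_retraction_ker δ
  have hK : Module.Projective A ↥(LinearMap.ker δ) :=
    Module.Projective.of_split (LinearMap.ker δ).subtype r hr
  refine ⟨hM, hK, hC, fun N _ _ => ⟨?_, ?_⟩⟩
  · apply Function.LeftInverse.injective (g := LinearMap.rTensor N r)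
    intro z
    rw [← LinearMap.comp_apply, ← LinearMap.rTensor_comp, hr, LinearMap.rTensor_id,
      LinearMap.id_apply]
  · have hιinj : Function.Injective (LinearMap.rTensor N (LinearMap.range δ).subtype) := by
      apply Function.LeftInverse.injective (g := LinearMap.rTensor N ρ)
      intro z
      rw [← LinearMap.comp_apply, ← LinearMap.rTensor_comp, hρ, LinearMap.rTensor_id,
        LinearMap.id_apply]
    have hfac : δ = (LinearMap.range δ).subtype.comp δ.rangeRestrict := rfl
    have hex : Function.Exact (LinearMap.ker δ).subtype δ.rangeRestrict := by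
      intro m
      rw [← LinearMap.mem_ker, LinearMap.ker_rangeRestrict]
      constructor
      · intro hm; exact ⟨⟨m, hm⟩, rfl⟩
      · rintro ⟨k, rfl⟩; exact k.2
    have hex' := rTensor_exact N hex δ.surjective_rangeRestrict
    intro z
    rw [← hex' z]
    conv_lhs => rw [hfac, LinearMap.rTensor_comp, LinearMap.comp_apply]
    constructor
    · intro hz
      exact hιinj (by rw [hz, map_zero])
    · intro hz
      rw [hz, map_zero]

end Groth.Agent.S14610
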