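import Groth.Statements.S14611
import Mathlib
import Groth.Agent.Lib.Helper28.CokerProj

set_option autoImplicit false
universe u
open FlatCx

namespace Groth.Agent.S14611
section Aux

open CategoryTheory CategoryTheory.Limits MonoidalCategory
open scoped TensorProduct

variable {A : Type u} [CommRing A]

section LinAlg

variable {M₁ M₂ M₃ κ : Type u} [AddCommGroup M₁] [Module A M₁] [AddCommGroup M₂] [Module A M₂]
  [AddCommGroup M₃] [Module A M₃] [AddCommGroup κ] [Module A κ]

lemma comm_lTensor (f : M₁ →ₗ[A] M₂) (y : κ ⊗[A] M₁) :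
    TensorProduct.comm A κ M₂ (f.lTensor κ y) = f.rTensor κ (TensorProduct.comm A κ M₁ y) := by
  induction y using TensorProduct.induction_on with
  | zero => simp
  | tmul a b => simp
  | add a b ha hb => simp [ha, hb]

/-- the key diagram chase -/
lemma injective_lTensor_range (d' : M₁ →ₗ[A] M₂) (d : M₂ →ₗ[A] M₃) (hdd : d ∘ₗ d' = 0)
    (hex : ∀ y : M₂ ⊗[A] κ, d.rTensor κ y = 0 → ∃ z, d'.rTensor κ z = y) :
    Function.Injective ((LinearMap.range d).subtype.lTensor κ) := by
  rw [injective_iff_map_eq_zero]
  intro x hx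
  obtain ⟨y, rfl⟩ := LinearMap.lTensor_surjective κ
    (g := d.rangeRestrict) (LinearMap.surjective_rangeRestrict d) x
  have hc : (LinearMap.range d).subtype ∘ₗ d.rangeRestrict = d := LinearMap.ext fun _ => rfl
  rw [← LinearMap.comp_apply, ← LinearMap.lTensor_comp, hc] at hx
  have h1 : d.rTensor κ (TensorProduct.comm A κ M₂ y) = 0 := by
    rw [← comm_lTensor, hx, map_zero]
  obtain ⟨z, hz⟩ := hex _ h1
  have h2 : y = d'.lTensor κ ((TensorProduct.comm A κ M₁).symm z) := by
    apply (TensorProduct.comm A κ M₂).injective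
    rw [comm_lTensor, LinearEquiv.apply_symm_apply, hz]
  rw [h2, ← LinearMap.comp_apply, ← LinearMap.lTensor_comp]
  have h3 : d.rangeRestrict ∘ₗ d' = 0 := by
    ext v
    exact LinearMap.congr_fun hdd v
  rw [h3, LinearMap.lTensor_zero, LinearMap.zero_apply]

end LinAlg

/-- exactness of `Q ⊗ κ` at `p` in elementwise `rTensor` form -/
lemma exact_rTensor_of_isZero (Q : CochainComplex (ModuleCat.{u} A) ℤ) (N : ModuleCat.{u} A)
    (i p k : ℤ) (hi : i + 1 = p) (hk : p + 1 = k)
    (h : IsZero ((CohIII.tensorObj Q N).homology p)) :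
    ∀ y : (Q.X p) ⊗[A] N, (Q.d p k).hom.rTensor N y = 0 →
      ∃ z, (Q.d i p).hom.rTensor N z = y := by
  have hex : (CohIII.tensorObj Q N).ExactAt p := by
    rw [HomologicalComplex.exactAt_iff_isZero_homology]
    exact h
  rw [HomologicalComplex.exactAt_iff' _ i p k (by simp [← hi]) (by simp [← hk]),
    ShortComplex.moduleCat_exact_iff] at hex
  intro y hy
  exact hex y hy

end Aux


open CategoryTheory CategoryTheory.Limits in
/-- Let A be a Noetherian ring, Q a cochain complex whose terms are finitely generated projective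
A-modules, and d an integer such that H^p(Q) = 0 for every p < d and H^p(Q ⊗_A A/m) = 0 for every p
< d and every maximal ideal m of A. Then Q^d / im(Q^{d-1} → Q^d), the degree-d term of the
truncation τ_{≥ d} Q, is a projective A-module, so that τ_{≥ d} Q is again a complex of projective
modules. (The published statement also asserts that Q → τ_{≥ d} Q is a quasi-isomorphism when H^p(Q)
= 0 for p < d; this row omits that clause.) -/
theorem result (A : Type u) [CommRing A] [IsNoetherianRing A]
    (Q : CochainComplex (ModuleCat.{u} A) ℤ)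
    (hQ : ∀ i, Module.Finite A (Q.X i) ∧ Module.Projective A (Q.X i)) (d : ℤ)
    (h1 : ∀ p < d, IsZero (Q.homology p))
    (h2 : ∀ (m : Ideal A) [m.IsMaximal], ∀ p < d,
      IsZero ((CohIII.tensorObj Q (ModuleCat.of A (A ⧸ m))).homology p)) :
    Module.Projective A (Q.opcycles d) := by
  classical
  have hfin1 : Module.Finite A (Q.X (d - 1)) := (hQ (d - 1)).1
  have hfin2 : Module.Finite A (Q.X d) := (hQ d).1
  have hproj2 : Module.Projective A (Q.X d) := (hQ d).2
  let δ : Q.X (d - 1) →ₗ[A] Q.X d := (Q.d (d - 1) d).hom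
  -- reduce to the cokernel
  have e : Q.opcycles d ≅ ModuleCat.of A (Q.X d ⧸ LinearMap.range δ) :=
    Q.opcyclesIsoSc' (d - 1) d (d + 1) (by simp) (by simp) ≪≫
      (Q.sc' (d - 1) d (d + 1)).moduleCatOpcyclesIso
  suffices hW : Module.Projective A (Q.X d ⧸ LinearMap.range δ) from
    Module.Projective.of_equiv e.toLinearEquiv.symm
  have hfp : Module.FinitePresentation A (Q.X d ⧸ LinearMap.range δ) :=
    Groth.Agent.Lib.Helper28.CokerProj.finitePresentation_coker δ
  apply Module.projective_of_localization_maximal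
  intro m hm
  have hfree : (⟨m, hm.isPrime⟩ : PrimeSpectrum A) ∈
      Module.freeLocus A (Q.X d ⧸ LinearMap.range δ) := by
    rw [Groth.Agent.Lib.Helper28.CokerProj.mem_freeLocus_iff]
    -- transfer the vanishing from `A/m` to the residue field
    let κ := m.ResidueField
    let eκ : (A ⧸ m) ≃ₗ[A] κ :=
      LinearEquiv.ofBijective (IsScalarTower.toAlgHom A (A ⧸ m) κ).toLinearMap
        (Ideal.bijective_algebraMap_quotient_residueField m)
    have hz : IsZero ((CohIII.tensorObj Q (ModuleCat.of A κ)).homology (d - 1)) :=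
      (h2 m (d - 1) (by lia)).of_iso ((CohIII.TFun Q (d - 1)).mapIso eκ.toModuleIso).symm
    have hex := exact_rTensor_of_isZero Q (ModuleCat.of A κ) (d - 1 - 1) (d - 1) d (by ring)
      (by ring) hz
    have hdd : δ ∘ₗ (Q.d (d - 1 - 1) (d - 1)).hom = 0 := by
      ext v
      have := Q.d_comp_d (d - 1 - 1) (d - 1) d
      exact congrArg (fun f => f.hom v) this
    exact injective_lTensor_range (κ := κ) (Q.d (d - 1 - 1) (d - 1)).hom δ hdd hex
  rw [Module.mem_freeLocus] at hfree
  exact Module.Projective.of_free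

end Groth.Agent.S14611
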