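import Groth.Statements.S14615
import Mathlib

set_option autoImplicit false
universe u
open Formal2

namespace Groth.Agent.S14615

/-- The shift operator on the product. -/
def shiftOp (G : ℕ → Type u) [∀ n, AddCommGroup (G n)] (t : ∀ n, G (n + 1) →+ G n)
    (x : ∀ n, G n) : ∀ n, G n := fun n => t n (x (n + 1))

lemma shift_iter_succ (G : ℕ → Type u) [∀ n, AddCommGroup (G n)] (t : ∀ n, G (n + 1) →+ G n)
    (k : ℕ) (y : ∀ n, G n) (n : ℕ) :
    ((shiftOp G t)^[k + 1] y) n = t n (((shiftOp G t)^[k] y) (n + 1)) := by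
  rw [Function.iterate_succ_apply']
  rfl

lemma shift_vanish (G : ℕ → Type u) [∀ n, AddCommGroup (G n)] (t : ∀ n, G (n + 1) →+ G n)
    (h : ∀ i : ℕ, ∃ j : ℕ, i ≤ j ∧
      ∀ x : ∀ n, G n, (∀ n, i ≤ n → n < j → x n = t n (x (n + 1))) → x i = 0) (n : ℕ) :
    ∃ K : ℕ, ∀ k, K ≤ k → ∀ y : ∀ n, G n, ((shiftOp G t)^[k] y) n = 0 := by
  obtain ⟨j, hij, hj⟩ := h n
  refine ⟨j - n, fun k hk y => ?_⟩
  have := hj (fun m => ((shiftOp G t)^[n + k - m] y) m) (fun m hnm hmj => by
    have e : n + k - m = (n + k - (m + 1)) + 1 := by omega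
    change ((shiftOp G t)^[n + k - m] y) m = t m (((shiftOp G t)^[n + k - (m + 1)] y) (m + 1))
    rw [e, shift_iter_succ])
  simpa using this

/-- Let … → G_2 → G_1 → G_0 be an inverse system of abelian groups with transition maps t_n : G_{n+1} →
G_n, and suppose that for every i there is j ≥ i such that the composite transition map G_j → G_i is
zero; this is expressed by asking that every sequence (x_n) ∈ ∏ G_n satisfying x_n = t_n(x_{n+1})
for i ≤ n < j has x_i = 0. Then both lim G_n and lim¹ G_n vanish: the map (x_n) ↦ (x_n −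
t_n(x_{n+1})) on ∏ G_n, whose kernel is lim and whose cokernel is lim¹, is injective and surjective. -/
theorem result (G : ℕ → Type u)
    [∀ n, AddCommGroup (G n)] (t : ∀ n, G (n + 1) →+ G n)
    (h : ∀ i : ℕ, ∃ j : ℕ, i ≤ j ∧
      ∀ x : ∀ n, G n, (∀ n, i ≤ n → n < j → x n = t n (x (n + 1))) → x i = 0) :
    Formal2.limZero G t = ⊥ ∧ Function.Surjective (Formal2.towerDiff G t) := by
  refine ⟨?_, ?_⟩
  · rw [eq_bot_iff]
    intro x hx
    rw [AddSubgroup.mem_bot]
    have hx' : ∀ n, x n = t n (x (n + 1)) := by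
      intro n
      have := congrFun (AddMonoidHom.mem_ker.1 hx) n
      exact sub_eq_zero.1 this
    funext i
    obtain ⟨j, -, hj⟩ := h i
    exact hj x (fun n _ _ => hx' n)
  · intro y
    choose K hK using shift_vanish G t h
    -- tail-independence of the truncated sums
    have htail : ∀ n N, K n ≤ N →
        ∑ k ∈ Finset.range N, ((shiftOp G t)^[k] y) n =
          ∑ k ∈ Finset.range (K n), ((shiftOp G t)^[k] y) n := by
      intro n N hN
      rw [← Finset.sum_range_add_sum_Ico _ hN]
      rw [Finset.sum_eq_zero (s := Finset.Ico (K n) N), add_zero]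
      intro k hk
      exact hK n k (Finset.mem_Ico.1 hk).1 y
    refine ⟨fun n => ∑ k ∈ Finset.range (K n), ((shiftOp G t)^[k] y) n, ?_⟩
    funext n
    change (∑ k ∈ Finset.range (K n), ((shiftOp G t)^[k] y) n) -
      t n (∑ k ∈ Finset.range (K (n + 1)), ((shiftOp G t)^[k] y) (n + 1)) = y n
    set N := max (K n) (K (n + 1)) with hN
    rw [← htail n (N + 1) (le_trans (le_max_left _ _) (Nat.le_succ _)),
      ← htail (n + 1) N (le_max_right _ _), Finset.sum_range_succ', map_sum]
    simp only [shift_iter_succ, Function.iterate_zero, id_eq]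
    abel

end Groth.Agent.S14615
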