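import Groth.Statements.S14616
import Mathlib

set_option autoImplicit false
universe u
open Formal2

namespace Groth.Agent.S14616

/-- The shift operator on the product. -/
def shiftOp (G : ℕ → Type u) [∀ n, AddCommGroup (G n)] (t : ∀ n, G (n + 1) →+ G n)
    (x : ∀ n, G n) : ∀ n, G n := fun n => t n (x (n + 1))

lemma shift_iter_succ (G : ℕ → Type u) [∀ n, AddCommGroup (G n)] (t : ∀ n, G (n + 1) →+ G n)
    (k : ℕ) (y : ∀ n, G n) (n : ℕ) :
    ((shiftOp G t)^[k + 1] y) n = t n (((shiftOp G t)^[k] y) (n + 1)) := by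
  rw [Function.iterate_succ_apply']
  rfl

/-- Solving `w = d w'` inside a subtower with surjective transitions. -/
lemma exists_towerDiff_eq_of_surj (G : ℕ → Type u) [∀ n, AddCommGroup (G n)]
    (t : ∀ n, G (n + 1) →+ G n) (G' : ∀ n, AddSubgroup (G n))
    (hsurj : ∀ n, ∀ y ∈ G' n, ∃ x ∈ G' (n + 1), t n x = y)
    (w : ∀ n, G n) (hw : ∀ n, w n ∈ G' n) :
    ∃ w' : ∀ n, G n, Formal2.towerDiff G t w' = w := by
  choose! σ hσ1 hσ2 using hsurj
  let W : ∀ n, {g : G n // g ∈ G' n} := fun n =>
    Nat.rec (motive := fun n => {g : G n // g ∈ G' n}) ⟨0, (G' 0).zero_mem⟩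
      (fun n p => ⟨σ n (p.1 - w n), hσ1 n _ ((G' n).sub_mem p.2 (hw n))⟩) n
  refine ⟨fun n => (W n).1, ?_⟩
  funext n
  change (W n).1 - t n (W (n + 1)).1 = w n
  have : (W (n + 1)).1 = σ n ((W n).1 - w n) := rfl
  rw [this, hσ2 n _ ((G' n).sub_mem (W n).2 (hw n))]
  abel

lemma towerDiff_surjective_of_stable (G : ℕ → Type u) [∀ n, AddCommGroup (G n)]
    (t : ∀ n, G (n + 1) →+ G n) (G' : ∀ n, AddSubgroup (G n))
    (hmaps : ∀ n x, x ∈ G' (n + 1) → t n x ∈ G' n)
    (hsurj : ∀ n, ∀ y ∈ G' n, ∃ x ∈ G' (n + 1), t n x = y)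
    (hvan : ∀ n, ∃ K : ℕ, ∀ k, K ≤ k → ∀ y : ∀ n, G n, ((shiftOp G t)^[k] y) n ∈ G' n) :
    Function.Surjective (Formal2.towerDiff G t) := by
  intro y
  choose K hK using hvan
  let X : ∀ n, G n := fun n => ∑ k ∈ Finset.range (K n), ((shiftOp G t)^[k] y) n
  -- the defect lies in the subtower
  have htail : ∀ n N, K n ≤ N →
      ∑ k ∈ Finset.range N, ((shiftOp G t)^[k] y) n - X n ∈ G' n := by
    intro n N hN
    change _ - ∑ k ∈ Finset.range (K n), ((shiftOp G t)^[k] y) n ∈ G' n
    rw [← Finset.sum_range_add_sum_Ico _ hN, add_sub_cancel_left]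
    exact (G' n).sum_mem fun k hk => hK n k (Finset.mem_Ico.1 hk).1 y
  have hdef : ∀ n, Formal2.towerDiff G t X n - y n ∈ G' n := by
    intro n
    change X n - t n (X (n + 1)) - y n ∈ G' n
    set N := max (K n) (K (n + 1)) with hN
    have h1 := htail n (N + 1) (le_trans (le_max_left _ _) (Nat.le_succ _))
    have h2 := hmaps n _ (htail (n + 1) N (le_max_right _ _))
    rw [Finset.sum_range_succ'] at h1
    rw [map_sub, map_sum] at h2
    simp only [shift_iter_succ, Function.iterate_zero, id_eq] at h1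
    have := (G' n).sub_mem h2 h1
    convert this using 1
    abel
  obtain ⟨w', hw'⟩ := exists_towerDiff_eq_of_surj G t G' hsurj
    (fun n => Formal2.towerDiff G t X n - y n) hdef
  refine ⟨X - w', ?_⟩
  rw [map_sub, hw']
  funext n
  simp

open CategoryTheory in
/-- Let … → G_2 → G_1 → G_0 be an inverse system of abelian groups with transition maps t_n : G_{n+1} →
G_n which satisfies the Mittag-Leffler condition: for every i there is j ≥ i such that for all k ≥ j
the images of G_k → G_i and G_j → G_i coincide. Then lim¹ G_n = 0, i.e. the map (x_n) ↦ (x_n −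
t_n(x_{n+1})) on ∏ G_n is surjective. -/
theorem result (G : ℕ → Type u) [∀ n, AddCommGroup (G n)]
    (t : ∀ n, G (n + 1) →+ G n)
    (h : (Functor.ofOpSequence (X := fun n => AddCommGrpCat.of (G n))
      (fun n => AddCommGrpCat.ofHom (t n)) ⋙ forget AddCommGrpCat).IsMittagLeffler) :
    Function.Surjective (Formal2.towerDiff G t) := by
  set Φ : ℕᵒᵖ ⥤ AddCommGrpCat.{u} := Functor.ofOpSequence (X := fun n => AddCommGrpCat.of (G n))
    (fun n => AddCommGrpCat.ofHom (t n)) with hΦ
  set F : ℕᵒᵖ ⥤ Type u := Φ ⋙ forget AddCommGrpCat with hF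
  -- `F.map f` is the function of an additive map
  have hmapF : ∀ {i j : ℕᵒᵖ} (f : i ⟶ j) (x : F.obj i), F.map f x = (Φ.map f).hom x := fun f x => rfl
  have ha : ∀ n (x : G (n + 1)),
      F.map (homOfLE (Nat.le_add_right n 1)).op x = t n x := by
    intro n x
    have e := Functor.ofOpSequence_map_homOfLE_succ (X := fun n => AddCommGrpCat.of (G n))
      (fun n => AddCommGrpCat.ofHom (t n)) n
    exact congrArg (fun φ => (AddCommGrpCat.Hom.hom φ) x) e
  -- the stable subtower
  have hcof : IsCofilteredOrEmpty ℕᵒᵖ := inferInstance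
  let G' : ∀ n, AddSubgroup (G n) := fun n =>
    { carrier := F.eventualRange (Opposite.op n)
      zero_mem' := by
        refine (Functor.mem_eventualRange_iff F (j := Opposite.op n)).2 ?_
        intro k f
        exact ⟨(0 : (Φ.obj k)), (hmapF f _).trans (map_zero (Φ.map f).hom)⟩
      add_mem' := by
        intro x y hx hy
        have hx' := (Functor.mem_eventualRange_iff F (j := Opposite.op n)).1 hx
        have hy' := (Functor.mem_eventualRange_iff F (j := Opposite.op n)).1 hy
        refine (Functor.mem_eventualRange_iff F (j := Opposite.op n)).2 ?_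
        intro k f
        obtain ⟨a, ha'⟩ := hx' f
        obtain ⟨b, hb'⟩ := hy' f
        refine ⟨((a : (Φ.obj k)) + (b : (Φ.obj k)) : (Φ.obj k)), ?_⟩
        refine (hmapF f _).trans ((map_add (Φ.map f).hom _ _).trans ?_)
        exact congrArg₂ (· + ·) ((hmapF f a).symm.trans ha') ((hmapF f b).symm.trans hb')
      neg_mem' := by
        intro x hx
        have hx' := (Functor.mem_eventualRange_iff F (j := Opposite.op n)).1 hx
        refine (Functor.mem_eventualRange_iff F (j := Opposite.op n)).2 ?_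
        intro k f
        obtain ⟨a, ha'⟩ := hx' f
        refine ⟨(-(a : (Φ.obj k)) : (Φ.obj k)), ?_⟩
        refine (hmapF f _).trans ((map_neg (Φ.map f).hom _).trans ?_)
        exact congrArg (- ·) ((hmapF f a).symm.trans ha') }
  apply towerDiff_surjective_of_stable G t G'
  · intro n x hx
    rw [← ha]
    exact F.eventualRange_mapsTo (homOfLE (Nat.le_add_right n 1)).op hx
  · intro n y hy
    have := h.eq_image_eventualRange F (homOfLE (Nat.le_add_right n 1)).op
    have hy' : y ∈ F.map (homOfLE (Nat.le_add_right n 1)).op '' F.eventualRange (Opposite.op (n + 1)) := by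
      rw [← this]; exact hy
    obtain ⟨x, hx, rfl⟩ := hy'
    exact ⟨x, hx, (ha n x).symm⟩
  · intro n
    -- iterated shifts land in the ranges of the transition maps
    have hA : ∀ (k n M : ℕ) (hM : M = n + k) (c : (Opposite.op M : ℕᵒᵖ) ⟶ Opposite.op n)
        (y : ∀ n, G n), ((shiftOp G t)^[k] y) n ∈ Set.range (F.map c) := by
      intro k
      induction k with
      | zero =>
        intro n M hM c y
        obtain rfl : M = n := by omega
        obtain rfl : c = 𝟙 _ := Subsingleton.elim _ _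
        exact ⟨y _, by rw [F.map_id]; rfl⟩
      | succ k ih =>
        intro n M hM c y
        let c' : (Opposite.op M : ℕᵒᵖ) ⟶ Opposite.op (n + 1) := (homOfLE (by omega)).op
        obtain ⟨z, hz⟩ := ih (n + 1) M (by omega) c' y
        refine ⟨z, ?_⟩
        have hc : c = c' ≫ (homOfLE (Nat.le_add_right n 1)).op := Subsingleton.elim _ _
        rw [hc, F.map_comp, shift_iter_succ, ← hz, ← ha]
        rfl
    obtain ⟨i, f, hf⟩ := (Functor.isMittagLeffler_iff_eventualRange F).1 h (Opposite.op n)
    have hle : n ≤ i.unop := leOfHom f.unop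
    refine ⟨i.unop - n, fun k hk y => ?_⟩
    change ((shiftOp G t)^[k] y) n ∈ F.eventualRange (Opposite.op n)
    rw [hf]
    let c'' : (Opposite.op (n + k) : ℕᵒᵖ) ⟶ i := (homOfLE (by omega : i.unop ≤ n + k)).op
    obtain ⟨z, hz⟩ := hA k n (n + k) rfl (c'' ≫ f) y
    exact ⟨F.map c'' z, by rw [← hz, F.map_comp]; rfl⟩

end Groth.Agent.S14616
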