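import Groth.Statements.S14617
import Mathlib

set_option autoImplicit false
universe u
open Formal2

namespace Groth.Agent.S14617

open Formal2

section SixTerm

variable {G' G G'' : ℕ → Type u}
  [∀ n, AddCommGroup (G' n)] [∀ n, AddCommGroup (G n)] [∀ n, AddCommGroup (G'' n)]

/-- The levelwise map on products. -/
def lvl {H K : ℕ → Type u} [∀ n, AddCommGroup (H n)] [∀ n, AddCommGroup (K n)]
    (u : ∀ n, H n →+ K n) : (∀ n, H n) →+ (∀ n, K n) where
  toFun x := fun n => u n (x n)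
  map_zero' := by funext n; simp
  map_add' x y := by funext n; simp

@[simp] lemma lvl_apply {H K : ℕ → Type u} [∀ n, AddCommGroup (H n)] [∀ n, AddCommGroup (K n)]
    (u : ∀ n, H n →+ K n) (x : ∀ n, H n) (n : ℕ) : lvl u x n = u n (x n) := rfl

lemma towerDiff_lvl {H K : ℕ → Type u} [∀ n, AddCommGroup (H n)] [∀ n, AddCommGroup (K n)]
    (s : ∀ n, H (n + 1) →+ H n) (t : ∀ n, K (n + 1) →+ K n) (u : ∀ n, H n →+ K n)
    (hu : ∀ n x, t n (u (n + 1) x) = u n (s n x)) (x : ∀ n, H n) :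
    towerDiff K t (lvl u x) = lvl u (towerDiff H s x) := by
  funext n
  change u n (x n) - t n (u (n + 1) (x (n + 1))) = u n (x n - s n (x (n + 1)))
  rw [hu, map_sub]

lemma lvl_injective {H K : ℕ → Type u} [∀ n, AddCommGroup (H n)] [∀ n, AddCommGroup (K n)]
    (u : ∀ n, H n →+ K n) (h : ∀ n, Function.Injective (u n)) : Function.Injective (lvl u) := by
  intro x y hxy
  funext n
  exact h n (congrFun hxy n)

lemma lvl_surjective {H K : ℕ → Type u} [∀ n, AddCommGroup (H n)] [∀ n, AddCommGroup (K n)]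
    (u : ∀ n, H n →+ K n) (h : ∀ n, Function.Surjective (u n)) : Function.Surjective (lvl u) := by
  intro y
  choose x hx using fun n => h n (y n)
  exact ⟨x, funext hx⟩

lemma lvl_ker_eq_range (u : ∀ n, G' n →+ G n) (v : ∀ n, G n →+ G'' n)
    (hex : ∀ n, (v n).ker = (u n).range) : (lvl v).ker = (lvl u).range := by
  ext y
  constructor
  · intro hy
    have : ∀ n, y n ∈ (u n).range := fun n => by
      rw [← hex n]; exact congrFun (AddMonoidHom.mem_ker.1 hy) n
    choose x hx using this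
    exact ⟨x, funext hx⟩
  · rintro ⟨x, rfl⟩
    rw [AddMonoidHom.mem_ker]
    funext n
    have : u n (x n) ∈ (v n).ker := by rw [hex n]; exact ⟨_, rfl⟩
    exact this

end SixTerm

section Snake

variable {A' A A'' : Type u} [AddCommGroup A'] [AddCommGroup A] [AddCommGroup A'']

theorem snake_abstract (U : A' →+ A) (V : A →+ A'') (d' : A' →+ A') (d : A →+ A) (d'' : A'' →+ A'')
    (hU : ∀ x, d (U x) = U (d' x)) (hV : ∀ x, d'' (V x) = V (d x))
    (hinj : Function.Injective U) (hsurj : Function.Surjective V) (hex : V.ker = U.range) :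
    ∃ (α : d'.ker →+ d.ker) (β : d.ker →+ d''.ker) (δ : d''.ker →+ A' ⧸ d'.range)
      (ε : A' ⧸ d'.range →+ A ⧸ d.range) (ζ : A ⧸ d.range →+ A'' ⧸ d''.range),
      (∀ x : d'.ker, (α x : A) = U x) ∧ (∀ x : d.ker, (β x : A'') = V x) ∧
      (∀ (z : d''.ker) (y : A) (w : A'), V y = z → U w = d y →
        δ z = (QuotientAddGroup.mk w : A' ⧸ d'.range)) ∧
      (∀ y : A', ε (QuotientAddGroup.mk y) = (QuotientAddGroup.mk (U y) : A ⧸ d.range)) ∧
      (∀ y : A, ζ (QuotientAddGroup.mk y) = (QuotientAddGroup.mk (V y) : A'' ⧸ d''.range)) ∧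
      Function.Injective α ∧ α.range = β.ker ∧ β.range = δ.ker ∧ δ.range = ε.ker ∧
      ε.range = ζ.ker ∧ Function.Surjective ζ := by
  have hVU : ∀ x, V (U x) = 0 := fun x => by
    have : U x ∈ V.ker := by rw [hex]; exact ⟨x, rfl⟩
    exact this
  have hkerV : ∀ y, V y = 0 → ∃ x, U x = y := fun y hy => by
    have : y ∈ U.range := by rw [← hex]; exact hy
    exact this
  -- α and β
  let α : d'.ker →+ d.ker := (U.comp d'.ker.subtype).codRestrict d.ker (fun x => by
    change d (U x) = 0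
    rw [hU, AddMonoidHom.mem_ker.1 x.2, map_zero])
  let β : d.ker →+ d''.ker := (V.comp d.ker.subtype).codRestrict d''.ker (fun x => by
    change d'' (V x) = 0
    rw [hV, AddMonoidHom.mem_ker.1 x.2, map_zero])
  -- ε and ζ
  let ε : A' ⧸ d'.range →+ A ⧸ d.range := QuotientAddGroup.map _ _ U (by
    rintro _ ⟨x, rfl⟩
    exact ⟨U x, hU x⟩)
  let ζ : A ⧸ d.range →+ A'' ⧸ d''.range := QuotientAddGroup.map _ _ V (by
    rintro _ ⟨x, rfl⟩
    exact ⟨V x, hV x⟩)
  -- δ
  have hpair : ∀ z : d''.ker, ∃ p : A × A', V p.1 = z ∧ U p.2 = d p.1 := by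
    intro z
    obtain ⟨y, hy⟩ := hsurj z
    obtain ⟨w, hw⟩ := hkerV (d y) (by rw [← hV, hy]; exact z.2)
    exact ⟨(y, w), hy, hw⟩
  choose pr hpr1 hpr2 using hpair
  have hwd : ∀ (z : A'') (y y₂ : A) (w w₂ : A'), V y = z → U w = d y → V y₂ = z → U w₂ = d y₂ →
      (QuotientAddGroup.mk w : A' ⧸ d'.range) = QuotientAddGroup.mk w₂ := by
    intro z y y₂ w w₂ h1 h2 h3 h4
    obtain ⟨a, ha⟩ := hkerV (y - y₂) (by rw [map_sub, h1, h3, sub_self])
    rw [QuotientAddGroup.eq]
    refine ⟨-a, hinj ?_⟩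
    rw [← hU, map_neg U, ha, map_add, map_neg U w, h2, h4]
    simp only [map_neg, map_sub]
    abel
  let δ : d''.ker →+ A' ⧸ d'.range := AddMonoidHom.mk'
    (fun z => (QuotientAddGroup.mk (pr z).2 : A' ⧸ d'.range)) (fun z₁ z₂ => by
      have := hwd ((z₁ + z₂ : d''.ker) : A'') (pr (z₁ + z₂)).1 ((pr z₁).1 + (pr z₂).1)
        (pr (z₁ + z₂)).2 ((pr z₁).2 + (pr z₂).2) (hpr1 _) (hpr2 _)
        (by rw [map_add, hpr1, hpr1]; rfl) (by rw [map_add, map_add, hpr2, hpr2])
      rw [this]; rfl)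
  have hδ : ∀ (z : d''.ker) (y : A) (w : A'), V y = z → U w = d y →
      δ z = (QuotientAddGroup.mk w : A' ⧸ d'.range) := fun z y w h1 h2 =>
    hwd z _ y _ w (hpr1 z) (hpr2 z) h1 h2
  refine ⟨α, β, δ, ε, ζ, fun x => rfl, fun x => rfl, hδ, fun y => rfl, fun y => rfl, ?_, ?_, ?_, ?_,
    ?_, ?_⟩
  · -- α injective
    intro x y hxy
    apply Subtype.ext
    apply hinj
    exact congrArg (fun t : d.ker => (t : A)) hxy
  · -- α.range = β.ker
    ext x
    constructor
    · rintro ⟨w, rfl⟩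
      rw [AddMonoidHom.mem_ker]
      apply Subtype.ext
      exact hVU w
    · intro hx
      have hx' : V x = 0 := congrArg (fun t : d''.ker => (t : A'')) (AddMonoidHom.mem_ker.1 hx)
      obtain ⟨w, hw⟩ := hkerV x hx'
      have hw' : d' w = 0 := hinj (by rw [← hU, hw, map_zero]; exact x.2)
      exact ⟨⟨w, hw'⟩, Subtype.ext hw⟩
  · -- β.range = δ.ker
    ext z
    constructor
    · rintro ⟨x, rfl⟩
      rw [AddMonoidHom.mem_ker, hδ (β x) x 0 rfl (by rw [map_zero]; exact x.2.symm)]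
      rfl
    · intro hz
      obtain ⟨y, hy⟩ := hsurj z
      obtain ⟨w, hw⟩ := hkerV (d y) (by rw [← hV, hy]; exact z.2)
      have h0 : (QuotientAddGroup.mk w : A' ⧸ d'.range) = 0 := by
        rw [← hδ z y w hy hw]; exact hz
      rw [QuotientAddGroup.eq_zero_iff] at h0
      obtain ⟨w0, rfl⟩ := h0
      have hk : d (y - U w0) = 0 := by rw [map_sub, hU, hw, sub_self]
      refine ⟨⟨y - U w0, hk⟩, Subtype.ext ?_⟩
      change V (y - U w0) = z
      rw [map_sub, hVU, sub_zero, hy]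
  · -- δ.range = ε.ker
    ext c
    constructor
    · rintro ⟨z, rfl⟩
      obtain ⟨y, hy⟩ := hsurj z
      obtain ⟨w, hw⟩ := hkerV (d y) (by rw [← hV, hy]; exact z.2)
      rw [AddMonoidHom.mem_ker, hδ z y w hy hw]
      change (QuotientAddGroup.mk (U w) : A ⧸ d.range) = 0
      rw [QuotientAddGroup.eq_zero_iff, hw]
      exact ⟨y, rfl⟩
    · intro hc
      obtain ⟨w, rfl⟩ := QuotientAddGroup.mk_surjective c
      have h0 : (QuotientAddGroup.mk (U w) : A ⧸ d.range) = 0 := hc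
      rw [QuotientAddGroup.eq_zero_iff] at h0
      obtain ⟨y, hy⟩ := h0
      have hz : d'' (V y) = 0 := by rw [hV, hy, hVU]
      exact ⟨⟨V y, hz⟩, hδ ⟨V y, hz⟩ y w rfl hy.symm⟩
  · -- ε.range = ζ.ker
    ext c
    constructor
    · rintro ⟨b, rfl⟩
      obtain ⟨w, rfl⟩ := QuotientAddGroup.mk_surjective b
      rw [AddMonoidHom.mem_ker]
      change (QuotientAddGroup.mk (V (U w)) : A'' ⧸ d''.range) = 0
      rw [hVU]; rfl
    · intro hc
      obtain ⟨y, rfl⟩ := QuotientAddGroup.mk_surjective c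
      have h0 : (QuotientAddGroup.mk (V y) : A'' ⧸ d''.range) = 0 := hc
      rw [QuotientAddGroup.eq_zero_iff] at h0
      obtain ⟨z'', hz''⟩ := h0
      obtain ⟨y0, rfl⟩ := hsurj z''
      obtain ⟨w, hw⟩ := hkerV (y - d y0) (by rw [map_sub, ← hV, hz'', sub_self])
      refine ⟨QuotientAddGroup.mk w, ?_⟩
      change (QuotientAddGroup.mk (U w) : A ⧸ d.range) = QuotientAddGroup.mk y
      rw [hw, QuotientAddGroup.eq]
      exact ⟨y0, by abel⟩
  · -- ζ surjective
    intro c
    obtain ⟨z, rfl⟩ := QuotientAddGroup.mk_surjective c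
    obtain ⟨y, rfl⟩ := hsurj z
    exact ⟨QuotientAddGroup.mk y, rfl⟩

end Snake

/-- Let 0 → (G'_n) → (G_n) → (G''_n) → 0 be a short exact sequence of inverse systems of abelian groups
indexed by ℕ: maps u_n : G'_n → G_n and v_n : G_n → G''_n commuting with the transition maps, with
u_n injective, v_n surjective and ker v_n = im u_n for every n. Writing lim and lim¹ for the kernel
and cokernel of (x_n) ↦ (x_n − t_n(x_{n+1})) on the product, there is an exact sequence 0 → lim G' →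
lim G → lim G'' → lim¹ G' → lim¹ G → lim¹ G'' → 0 in which the four outer maps are the ones induced
by u and v on products and the connecting map δ sends a compatible sequence (z_n) to the class of
the unique (w_n) with u_n(w_n) = y_n − t_n(y_{n+1}), for any levelwise lift (y_n) of (z_n). -/
theorem result (G' G G'' : ℕ → Type u)
    [∀ n, AddCommGroup (G' n)] [∀ n, AddCommGroup (G n)] [∀ n, AddCommGroup (G'' n)]
    (t' : ∀ n, G' (n + 1) →+ G' n) (t : ∀ n, G (n + 1) →+ G n) (t'' : ∀ n, G'' (n + 1) →+ G'' n)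
    (u : ∀ n, G' n →+ G n) (v : ∀ n, G n →+ G'' n)
    (hu : ∀ n x, t n (u (n + 1) x) = u n (t' n x)) (hv : ∀ n x, t'' n (v (n + 1) x) = v n (t n x))
    (hinj : ∀ n, Function.Injective (u n)) (hsurj : ∀ n, Function.Surjective (v n))
    (hex : ∀ n, (v n).ker = (u n).range) :
    ∃ (α : Formal2.limZero G' t' →+ Formal2.limZero G t) (β : Formal2.limZero G t →+ Formal2.limZero G'' t'')
      (δ : Formal2.limZero G'' t'' →+ Formal2.limOne G' t')
      (ε : Formal2.limOne G' t' →+ Formal2.limOne G t) (ζ : Formal2.limOne G t →+ Formal2.limOne G'' t''),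
      (∀ (x : Formal2.limZero G' t') (n : ℕ), (α x : ∀ n, G n) n = u n ((x : ∀ n, G' n) n)) ∧
      (∀ (x : Formal2.limZero G t) (n : ℕ), (β x : ∀ n, G'' n) n = v n ((x : ∀ n, G n) n)) ∧
      (∀ (z : Formal2.limZero G'' t'') (y : ∀ n, G n) (w : ∀ n, G' n),
          (∀ n, v n (y n) = (z : ∀ n, G'' n) n) → (∀ n, u n (w n) = Formal2.towerDiff G t y n) →
            δ z = (QuotientAddGroup.mk w : Formal2.limOne G' t')) ∧
      (∀ y : ∀ n, G' n, ε (QuotientAddGroup.mk y : Formal2.limOne G' t') =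
          (QuotientAddGroup.mk (fun n => u n (y n)) : Formal2.limOne G t)) ∧
      (∀ y : ∀ n, G n, ζ (QuotientAddGroup.mk y : Formal2.limOne G t) =
          (QuotientAddGroup.mk (fun n => v n (y n)) : Formal2.limOne G'' t'')) ∧
      Function.Injective α ∧ α.range = β.ker ∧ β.range = δ.ker ∧ δ.range = ε.ker ∧ ε.range = ζ.ker ∧
      Function.Surjective ζ := by
  obtain ⟨α, β, δ, ε, ζ, hα, hβ, hδ, hε, hζ, h1, h2, h3, h4, h5, h6⟩ :=
    snake_abstract (lvl u) (lvl v) (towerDiff G' t') (towerDiff G t) (towerDiff G'' t'')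
      (towerDiff_lvl t' t u hu) (towerDiff_lvl t t'' v hv)
      (lvl_injective u hinj) (lvl_surjective v hsurj) (lvl_ker_eq_range u v hex)
  refine ⟨α, β, δ, ε, ζ, ?_, ?_, ?_, ?_, ?_, h1, h2, h3, h4, h5, h6⟩
  · intro x n; rw [hα]; rfl
  · intro x n; rw [hβ]; rfl
  · intro z y w hy hw; exact hδ z y w (funext hy) (funext hw)
  · intro y; exact hε y
  · intro y; exact hζ y

end Groth.Agent.S14617
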