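import Groth.Statements.S14619
import Groth.Agent.Lib.Helper22.EGA7.Bridge5
import Groth.Agent.Lib.Helper22.EGA7.AmpAlg
import Groth.Agent.Lib.Helper22.EGA7.FR5

set_option autoImplicit false
universe u
open Coherent

namespace Groth.Agent.S14619

open CategoryTheory CategoryTheory.Limits AlgebraicGeometry

open Groth.Agent.Lib.Helper22.EGA7 in
/-- `B` as an `A`-module, in its two guises. -/
noncomputable def ofIsoBA (A B : Type u) [CommRing A] [CommRing B] [Algebra A B] :
    ModuleCat.of A B ≅ BA A B :=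
  let e : B ≃ₗ[A] ↑(BA A B) :=
    { toFun := fun x => x
      invFun := fun x => x
      left_inv := fun _ => rfl
      right_inv := fun _ => rfl
      map_add' := fun _ _ => rfl
      map_smul' := fun a x => by
        change a • x = algebraMap A B a * x
        exact Algebra.smul_def a x }
  e.toModuleIso

open Groth.Agent.Lib.Helper22.EGA7 in
/-- cohomology of the base change to `B` is computed by `T(Q, B)`. -/
theorem T_addEquiv_HH (A B : Type u) [CommRing A] [CommRing B] [Algebra A B]
    (X : Scheme.{u}) [X.Over (Spec (CommRingCat.of A))] [CompactSpace X] [X.IsSeparated]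
    (F : X.Modules) [F.IsQuasicoherent] (Q : ChainComplex (ModuleCat.{u} A) ℤ) (j : ℤ) (p : ℕ)
    (e : CohIII.TFun Q j ⋙ forget₂ (ModuleCat.{u} A) AddCommGrpCat.{u} ≅
      CohIII.tensorAFunctor A F ⋙ CohIII.HAb X p) :
    Nonempty (CohIII.T Q j (ModuleCat.of A B) ≃+
      Coh.HH (pullback (X ↘ Spec (CommRingCat.of A))
          (Spec.map (CommRingCat.ofHom (algebraMap A B))))
        ((Scheme.Modules.pullback (pullback.fst (X ↘ Spec (CommRingCat.of A))
          (Spec.map (CommRingCat.ofHom (algebraMap A B))))).obj F) p) := by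
  letI ov : (pullback (X ↘ Spec (CommRingCat.of A))
      (Spec.map (CommRingCat.ofHom (algebraMap A B)))).Over (Spec (CommRingCat.of B)) :=
    ⟨pullback.snd _ _⟩
  have H : IsPullback (pullback.fst (X ↘ Spec (CommRingCat.of A))
        (Spec.map (CommRingCat.ofHom (algebraMap A B))))
      ((pullback (X ↘ Spec (CommRingCat.of A))
        (Spec.map (CommRingCat.ofHom (algebraMap A B)))) ↘ Spec (CommRingCat.of B))
      (X ↘ Spec (CommRingCat.of A)) (Spec.map (CommRingCat.ofHom (algebraMap A B))) :=
    IsPullback.of_hasPullback _ _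
  obtain ⟨L⟩ := fibre_linearEquiv A B X _ _ H F Q j p e
  let t1 : CohIII.T Q j (ModuleCat.of A B) ≃+ (CohIII.TFun Q j).obj (BA A B) :=
    ((CohIII.TFun Q j).mapIso (ofIsoBA A B)).toLinearEquiv.toAddEquiv
  let t2 : (CohIII.TFun Q j).obj (BA A B) ≃+ (CohIII.bcCx (algebraMap A B) Q).homology j :=
    (θiso B Q j).toLinearEquiv.toAddEquiv
  exact ⟨t1.trans (t2.trans L.toAddEquiv)⟩

lemma rel_down' (j : ℤ) : (ComplexShape.down ℤ).Rel j (j - 1) := by simp


open CategoryTheory CategoryTheory.Limits AlgebraicGeometry in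
/-- Let A be a Noetherian ring, X a proper scheme over Spec A and F a coherent O_X-module flat over Spec
A. Suppose H^p(X, F) = 0 for all p > d and H^p(X_y, F|X_y) = 0 for every point y of Spec A and every
p < d'. Then there is a cochain complex L of finitely generated projective A-modules, with L^i = 0
unless d' ≤ i ≤ d and with L = 0 when all H^p(X, F) vanish, such that for every A-algebra B and
every p the cohomology H^p(X ×_A Spec B, ξ^*F) of the pulled-back module is isomorphic to H^p(L ⊗_A
B). Only the existence of these isomorphisms of abelian groups is asserted (no naturality in B). -/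
theorem result (A : Type u) [CommRing A] [IsNoetherianRing A] (X : Scheme.{u}) [X.Over (Spec (CommRingCat.of A))]
    [IsProper (X ↘ Spec (CommRingCat.of A))] (F : X.Modules) (hF : Coh.IsCoh F)
    (hfl : FlatMod.IsFlatOver (X ↘ Spec (CommRingCat.of A)) F) (d' d : ℕ)
    (hd : ∀ p : ℕ, d < p → Subsingleton (Coh.HH X F p))
    (hd' : ∀ (y : ↑(Spec (CommRingCat.of A))) (p : ℕ), p < d' →
      Subsingleton (CohIII.fiberH (X ↘ Spec (CommRingCat.of A)) F y p)) :
    ∃ L : CochainComplex (ModuleCat.{u} A) ℤ,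
      (∀ i, Module.Finite A (L.X i) ∧ Module.Projective A (L.X i)) ∧
      (∀ i : ℤ, i < (d' : ℤ) ∨ (d : ℤ) < i → IsZero (L.X i)) ∧
      ((∀ p : ℕ, Subsingleton (Coh.HH X F p)) → ∀ i, IsZero (L.X i)) ∧
      ∀ (B : Type u) [CommRing B] [Algebra A B] (p : ℕ),
        Nonempty (Coh.HH (pullback (X ↘ Spec (CommRingCat.of A)) (Spec.map (CommRingCat.ofHom (algebraMap A B))))
            ((Scheme.Modules.pullback (pullback.fst (X ↘ Spec (CommRingCat.of A))
              (Spec.map (CommRingCat.ofHom (algebraMap A B))))).obj F) p ≃+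
          CohIII.T L (p : ℤ) (ModuleCat.of A B)) := by
  open Groth.Agent.Lib.Helper22.EGA7 ZeroObject in
  haveI : X.IsSeparated := isSeparated_of_over (X ↘ Spec (CommRingCat.of A))
  haveI : CompactSpace X :=
    QuasiCompact.compactSpace_of_compactSpace (X ↘ Spec (CommRingCat.of A))
  haveI : F.IsQuasicoherent := hF.1
  by_cases hall : ∀ p : ℕ, Subsingleton (Coh.HH X F p)
  · obtain ⟨Q, hQ, hlow, hpos, hiso⟩ := bridge3 A X F hF hfl 0 (fun p _ => hall p)
    have hQf : ∀ i, Module.Flat A (Q.X i) := fun i => by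
      have := (hQ i).2
      infer_instance
    have hTz : ∀ (j : ℤ) (M : ModuleCat.{u} A), IsZero (CohIII.T Q j M) := by
      intro j M
      by_cases hj0 : 0 < j
      · exact hpos j hj0 M
      · obtain ⟨p, rfl⟩ : ∃ p : ℕ, j = -(p : ℤ) := ⟨(-j).toNat, by omega⟩
        cases p with
        | zero =>
          obtain ⟨e⟩ := hiso 0
          have hz : IsZero (Q.homology (-((0 : ℕ) : ℤ))) := by
            haveI := hall 0
            haveI : Subsingleton (Q.homology (-((0 : ℕ) : ℤ))) :=
              (homologyEquivHH A X F Q (-((0 : ℕ) : ℤ)) 0 e).toEquiv.subsingleton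
            exact ModuleCat.isZero_of_subsingleton _
          have hz1 : IsZero (Q.X (-((0 : ℕ) : ℤ) - 1)) := hlow _ (by simp)
          haveI := hQf (-((0 : ℕ) : ℤ) - 1)
          haveI : Subsingleton (Q.opcycles (-((0 : ℕ) : ℤ) - 1)) :=
            ModuleCat.subsingleton_of_isZero (IsZero.of_epi (Q.pOpcycles _) hz1)
          haveI : Module.Flat A (Q.opcycles (-((0 : ℕ) : ℤ) - 1)) := inferInstance
          exact isZero_T_of_flat_opcycles Q (-((0 : ℕ) : ℤ)) (-((0 : ℕ) : ℤ) - 1) (rel_down' _) hz M
        | succ p =>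
          exact ShortComplex.isZero_homology_of_isZero_X₂ _
            (Functor.map_isZero (MonoidalCategory.tensorRight M)
              (hlow _ (by push_cast; omega)))
    have hz0 : ∀ i : ℤ, IsZero ((0 : CochainComplex (ModuleCat.{u} A) ℤ).X i) := fun i =>
      (HomologicalComplex.eval _ _ i).map_isZero (isZero_zero _)
    refine ⟨0, fun i => ?_, fun i _ => hz0 i, fun _ i => hz0 i, ?_⟩
    · haveI : Subsingleton ((0 : CochainComplex (ModuleCat.{u} A) ℤ).X i) :=
        ModuleCat.subsingleton_of_isZero (hz0 i)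
      exact ⟨inferInstance, inferInstance⟩
    · intro B _ _ p
      obtain ⟨e⟩ := hiso p
      obtain ⟨e2⟩ := T_addEquiv_HH A B X F Q (-(p : ℤ)) p e
      have h0 : IsZero (CohIII.T (0 : CochainComplex (ModuleCat.{u} A) ℤ) (p : ℤ)
          (ModuleCat.of A B)) :=
        ShortComplex.isZero_homology_of_isZero_X₂ _
          (Functor.map_isZero (MonoidalCategory.tensorRight _) (hz0 _))
      exact ⟨e2.symm.trans (addEquivOfIsZero (hTz _ _) h0)⟩
  · obtain ⟨Q, hQ, hlow, hpos, hiso⟩ := bridge3 A X F hF hfl d hd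
    have hQ' : ∀ i, Module.Finite A (Q.X i) ∧ Module.Flat A (Q.X i) := fun i => by
      have := (hQ i).2
      exact ⟨(hQ i).1, inferInstance⟩
    have hT : ∀ j : ℤ, -(d' : ℤ) < j → ∀ M : ModuleCat.{u} A, IsZero (CohIII.T Q j M) := by
      intro j hj M
      by_cases hj0 : 0 < j
      · exact hpos j hj0 M
      · obtain ⟨p, rfl⟩ : ∃ p : ℕ, j = -(p : ℤ) := ⟨(-j).toNat, by omega⟩
        have hp : p < d' := by omega
        obtain ⟨e⟩ := hiso p
        refine isZero_T_of_dRank_eq_zero Q hQ' (-(p : ℤ)) (-(p : ℤ) - 1) (rel_down' _)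
          (fun y => ?_) M
        rw [← fiberRank_eq_dRank A X F Q (-(p : ℤ)) p e y]
        haveI := hd' y p hp
        exact Module.finrank_zero_of_subsingleton
    obtain ⟨L, hL1, hL2, hL3⟩ := exists_truncation Q
      (fun i => by
        have := (hQ i).2
        exact ⟨(hQ i).1, inferInstance⟩) d' d hlow hT
    refine ⟨L, hL1, hL2, fun h => absurd h hall, ?_⟩
    intro B _ _ p
    obtain ⟨e⟩ := hiso p
    obtain ⟨e1⟩ := hL3 (ModuleCat.of A B) p
    obtain ⟨e2⟩ := T_addEquiv_HH A B X F Q (-(p : ℤ)) p e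
    exact ⟨e2.symm.trans e1.symm⟩

end Groth.Agent.S14619
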