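import Groth.Statements.S14622
import Groth.Agent.Lib.Helper22.EtStalk.Pull
import Groth.Agent.Lib.Helper22.EtStalk.SetsFamily
import Groth.Agent.Lib.Helper22.PointComap.Unit

set_option autoImplicit false
open CategoryTheory CategoryTheory.Limits AlgebraicGeometry Opposite
universe u

namespace Groth.Agent.S14622

open Groth.Agent.Lib.Helper22.EtStalk Groth.Agent.Lib.Helper22.CechU.Etale
  Groth.Agent.Lib.Helper22.PointComap

lemma bc_map_fst {X Y : Scheme.{u}} (f : X ⟶ Y) {V' V₀ : Y.Etale} (k : V' ⟶ V₀) :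
    ((EtCoh.bc f).map k).left ≫ (pullback.fst V₀.hom f : ((EtCoh.bc f).obj V₀).left ⟶ V₀.left) =
      (pullback.fst V'.hom f : ((EtCoh.bc f).obj V').left ⟶ V'.left) ≫ k.left := by
  dsimp [EtCoh.bc]
  exact pullback.lift_fst _ _ _

/-- A section killed by the unit vanishes étale-locally around every point in the image. -/
lemma locally_zero {Y Y' : Scheme.{u}} (g : Y' ⟶ Y) (F : EtCoh.Ab Y) (V : Y.Etale)
    (s : F.obj.obj (op V))
    (hs : ((EtCoh.pullPushAdj g).unit.app F).hom.app (op V) s = 0)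
    (p' : ((EtCoh.bc g).obj V).left) :
    ∃ (W : Y.Etale) (k : W ⟶ V),
      (pullback.fst V.hom g : ((EtCoh.bc g).obj V).left ⟶ V.left) p' ∈ Set.range k.left ∧
      F.obj.map k.op s = F.obj.map k.op 0 := by
  obtain ⟨Ω, i1, i2, τ, hτ⟩ := Sets.exists_geomPoint_scheme ((EtCoh.bc g).obj V).left p'
  let τ' : Spec (CommRingCat.of Ω) ⟶ Y' :=
    τ ≫ (pullback.snd V.hom g : ((EtCoh.bc g).obj V).left ⟶ Y')
  let Φ : GrothendieckTopology.Point.{u} Y'.smallEtaleTopology := Scheme.pointSmallEtale τ'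
  let Φ' := Φ.comap (EtCoh.bc g) (EtCoh.coverPreserving_bc g)
  let u : Φ.fiber.obj ((EtCoh.bc g).obj V) := Over.homMk τ rfl
  have key := toPresheafFiber_sheafFiberComapIso_hom Φ (EtCoh.bc g) (EtCoh.coverPreserving_bc g)
    (A := AddCommGrpCat.{u + 1}) F V u
  have hinj : Function.Injective ((Φ.sheafFiberComapIso (EtCoh.bc g) (EtCoh.coverPreserving_bc g)
      AddCommGrpCat.{u + 1}).hom.app F) :=
    ((ConcreteCategory.isIso_iff_bijective _).1 inferInstance).1
  have k1 : ((Φ.sheafFiberComapIso (EtCoh.bc g) (EtCoh.coverPreserving_bc g)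
      AddCommGrpCat.{u + 1}).hom.app F) (Φ'.toPresheafFiber V u F.obj s) =
      (Φ.toPresheafFiber ((EtCoh.bc g).obj V) u ((EtCoh.pull g).obj F).obj)
        (((EtCoh.pullPushAdj g).unit.app F).hom.app (op V) s) :=
    congrArg (fun φ => (ConcreteCategory.hom φ) s) key
  have hg : Φ'.toPresheafFiber V u F.obj s = Φ'.toPresheafFiber V u F.obj 0 := by
    apply hinj
    rw [k1, hs, map_zero]
    exact (map_zero _).trans (map_zero _).symm
  obtain ⟨W, k, w, hw, hf⟩ := (Φ'.toPresheafFiber_eq_iff' V u s 0).1 hg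
  refine ⟨W, k, ?_, hf⟩
  let wl : Spec (CommRingCat.of Ω) ⟶ ((EtCoh.bc g).obj W).left := w.left
  have hwl : wl ≫ ((EtCoh.bc g).map k).left = τ := congrArg (fun φ => φ.left) hw
  let q : ((EtCoh.bc g).obj W).left := wl (default : Spec (CommRingCat.of Ω))
  have hq : ((EtCoh.bc g).map k).left q = p' :=
    (Scheme.Hom.comp_apply wl ((EtCoh.bc g).map k).left
      (default : Spec (CommRingCat.of Ω))).symm.trans
      ((congrArg (fun h : Spec (CommRingCat.of Ω) ⟶ ((EtCoh.bc g).obj V).left =>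
        h (default : Spec (CommRingCat.of Ω))) hwl).trans hτ)
  refine ⟨(pullback.fst W.hom g : ((EtCoh.bc g).obj W).left ⟶ W.left) q, ?_⟩
  have e := bc_map_fst g k
  have e' : k.left ((pullback.fst W.hom g : ((EtCoh.bc g).obj W).left ⟶ W.left) q) =
      (pullback.fst V.hom g : ((EtCoh.bc g).obj V).left ⟶ V.left) (((EtCoh.bc g).map k).left q) :=
    (Scheme.Hom.comp_apply (pullback.fst W.hom g : ((EtCoh.bc g).obj W).left ⟶ W.left)
      k.left q).symm.trans
      ((congrArg (fun φ : ((EtCoh.bc g).obj W).left ⟶ V.left => φ q) e).symm.trans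
        (Scheme.Hom.comp_apply ((EtCoh.bc g).map k).left
          (pullback.fst V.hom g : ((EtCoh.bc g).obj V).left ⟶ V.left) q))
  exact e'.trans (congrArg _ hq)

/-- Let g : Y' → Y be a morphism of schemes which is surjective on points. Then for every abelian sheaf
F on the small étale site of Y the unit F → g_* g⁻¹ F of the adjunction between inverse image and
direct image is a monomorphism. -/
theorem result {Y Y' : Scheme.{u}} (g : Y' ⟶ Y) [Surjective g]
    (F : EtCoh.Ab Y) : Mono ((EtCoh.pullPushAdj g).unit.app F) := by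
  have : Mono ((EtCoh.pullPushAdj g).unit.app F).hom := by
    refine @NatTrans.mono_of_mono_app _ _ _ _ _ _ _ (fun V => ?_)
    rw [AddCommGrpCat.mono_iff_injective]
    refine (injective_iff_map_eq_zero _).2 fun s hs => ?_
    refine eq_of_locally_eq s 0 ?_
    intro y
    obtain ⟨x', hx'⟩ := ‹Surjective g›.surj ((V.unop.hom : V.unop.left ⟶ Y) y)
    obtain ⟨p', hp1, -⟩ := Scheme.Pullback.exists_preimage_pullback
      (f := (V.unop.hom : V.unop.left ⟶ Y)) (g := g) y x' hx'.symm
    obtain ⟨W, k, hk, hf⟩ := locally_zero g F V.unop s hs p'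
    refine ⟨W, k, ?_, hf⟩
    rw [← hp1]
    exact hk
  exact Sheaf.Hom.mono_of_presheaf_mono _ _ _

end Groth.Agent.S14622
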