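import Groth.Statements.S14625
import Groth.Agent.S13507

set_option autoImplicit false
open CategoryTheory AlgebraicGeometry
universe u
open EtBase

namespace Groth.Agent.S14625

/-- A strictly henselian local ring in which `n ≥ 1` is invertible contains a root of the `n`-th
cyclotomic polynomial. -/
lemma exists_cyclotomic_root (A : Type u) [CommRing A] [HenselianLocalRing A]
    [IsSepClosed (IsLocalRing.ResidueField A)] (n : ℕ) (hn : 1 ≤ n) (hu : IsUnit (n : A)) :
    ∃ a : A, Polynomial.aeval a (Polynomial.cyclotomic n ℤ) = 0 := by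
  let k := IsLocalRing.ResidueField A
  let r : A →+* k := IsLocalRing.residue A
  have hnk : ((n : ℕ) : k) ≠ 0 := by
    have := hu.map r
    rw [map_natCast] at this
    exact this.ne_zero
  have : NeZero ((n : ℕ) : k) := ⟨hnk⟩
  have hsep : (Polynomial.cyclotomic n k).Separable := Polynomial.separable_cyclotomic n k
  have hdeg : (Polynomial.cyclotomic n k).degree ≠ 0 := by
    rw [Polynomial.degree_cyclotomic]
    have := Nat.totient_pos.2 (show 0 < n by omega)
    exact_mod_cast this.ne'
  obtain ⟨x, hx⟩ := IsSepClosed.exists_root (Polynomial.cyclotomic n k) hdeg hsep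
  obtain ⟨a₀, rfl⟩ := IsLocalRing.residue_surjective x
  have hmap : (Polynomial.cyclotomic n A).map r = Polynomial.cyclotomic n k :=
    Polynomial.map_cyclotomic n r
  have h1 : (Polynomial.cyclotomic n A).eval a₀ ∈ IsLocalRing.maximalIdeal A := by
    rw [← IsLocalRing.residue_eq_zero_iff]
    change r _ = 0
    rw [← Polynomial.eval₂_hom, ← Polynomial.eval_map, hmap]
    exact hx
  have h2 : IsUnit ((Polynomial.cyclotomic n A).derivative.eval a₀) := by
    rw [← IsLocalRing.residue_ne_zero_iff_isUnit]
    change r _ ≠ 0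
    rw [← Polynomial.eval₂_hom, ← Polynomial.eval_map, ← Polynomial.derivative_map, hmap]
    have := hsep.eval₂_derivative_ne_zero (RingHom.id k) (x := r a₀) (by
      rw [Polynomial.eval₂_id]; exact hx)
    rwa [Polynomial.eval₂_id] at this
  obtain ⟨a, ha, -⟩ := HenselianLocalRing.is_henselian (Polynomial.cyclotomic n A)
    (Polynomial.cyclotomic.monic n A) a₀ h1 h2
  refine ⟨a, ?_⟩
  rw [Polynomial.aeval_def, algebraMap_int_eq, ← Polynomial.eval_map, Polynomial.map_cyclotomic_int]
  exact ha


/-- Let A be a strictly henselian local ring, n ≥ 1 an integer invertible in A, and X a scheme over Spec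
A. Then the étale sheaf μ_n of n-th roots of unity on X is isomorphic to the constant sheaf with
value ℤ/n. Only the existence of an isomorphism is asserted; it depends on the choice of a primitive
n-th root of unity in A. -/
theorem result (A : Type u) [CommRing A]
    (hA : EtCoh.IsStrictlyHenselianLocalRing A) (n : ℕ) (hn : 1 ≤ n) (hu : IsUnit (n : A))
    (X : Scheme.{u}) (f : X ⟶ Spec (CommRingCat.of A)) :
    Nonempty (EtCoh.mu X n ≅ EtCoh.const X (ZMod n)) := by
  obtain ⟨hH, hS⟩ := hA
  obtain ⟨a, ha⟩ := exists_cyclotomic_root A n hn hu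
  let ρ : A →+* Γ(X, ⊤) := ((Scheme.ΓSpecIso (CommRingCat.of A)).inv ≫ f.appTop).hom
  refine Groth.Agent.S13507.result X n hn ?_ (ρ a)
    (Groth.Agent.S13507.aeval_map_cyclotomic ρ n a ha)
  have := hu.map ρ
  rwa [map_natCast] at this

end Groth.Agent.S14625
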