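import Groth.Statements.S14629
import Groth.Agent.Lib.Helper22.SqZ.Thick

set_option autoImplicit false
open CategoryTheory CategoryTheory.Limits AlgebraicGeometry
universe u
open PicF

namespace Groth.Agent.S14629


/-- Let X be a scheme and I a quasi-coherent ideal sheaf of square zero defining the closed subscheme i
: X₀ → X, and suppose H¹(X, I) = 0 for the ideal regarded as an O_X-module (Zariski cohomology).
Then two invertible O_X-modules with isomorphic pullbacks to X₀ are isomorphic: restriction of
Picard groups along i is injective. (The published statement allows a nilpotent ideal with the same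
hypothesis on I alone; its proof treats the square-zero case, which is what is stated.) -/
theorem result (X : Scheme.{u}) (I : X.IdealSheafData)
    (hI : I * I = ⊥) (h1 : Subsingleton (Coh.HH X (ClSub.idealMod I) 1))
    (c d : PicF.Cl X) (hc : PicF.IsInvertibleCl c) (hd : PicF.IsInvertibleCl d)
    (h : PicF.pullCl I.subschemeι c = PicF.pullCl I.subschemeι d) : c = d := by
  obtain ⟨L, rfl, hL⟩ := hc
  obtain ⟨L', rfl, hL'⟩ := hd
  have hiL := PicLoc.isInvertible_pullback I.subschemeι hL
  have hiL' := PicLoc.isInvertible_pullback I.subschemeι hL'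
  have h' : PicGrp.cls _ hiL = PicGrp.cls _ hiL' := Subtype.ext h
  obtain ⟨φ⟩ := (PicGrp.cls_eq_cls_iff hiL hiL').1 h'
  obtain ⟨ψ⟩ := Groth.Agent.Lib.Helper22.SqZ.nonempty_iso_of_pull_iso I hI h1 hL hL' φ
  exact Quot.sound ⟨ψ⟩

end Groth.Agent.S14629
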