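import Groth.Statements.S1463
import Groth.Agent.Lib.Helper21.GIS13
import Groth.Agent.Lib.Helper12.FlexApprox
-- import your own Groth.Agent.* helpers here

set_option autoImplicit false
universe u
open FlatMor

namespace Groth.Agent.S1463

open AlgebraicGeometry CategoryTheory Limits in
/-- Let f : X → S be a morphism of finite presentation between affine schemes whose fibres are
geometrically connected. Then f is the base change of a morphism of finite type f₀ : X₀ → S₀ between
affine schemes with S₀ of finite type over ℤ, where f₀ can be chosen with the same property. -/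
theorem result {X S : Scheme.{u}} (f : X ⟶ S) [IsAffine X] [IsAffine S] [LocallyOfFinitePresentation f] [GeometricallyConnected f] :
    ∃ (X₀ S₀ : Scheme.{u}) (f₀ : X₀ ⟶ S₀) (g : S ⟶ S₀) (g' : X ⟶ X₀), IsAffine X₀ ∧ IsAffine S₀ ∧ IsPullback g' f f₀ g ∧
      Algebra.FiniteType ℤ Γ(S₀, ⊤) ∧ LocallyOfFiniteType f₀ ∧ GeometricallyConnected f₀ := by
  obtain ⟨X₀, S₀, f₀, g, g', h1, h2, h3, h4, h5, h6⟩ :=
    Groth.Agent.Lib.Helper12.H12FlexApprox.approx f
    (fun {X S} (f : X ⟶ S) => Groth.Agent.Lib.Helper21.GIS.Econn f)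
    (by
      intro X' S' X S f' f g' g hpb hlft
      exact Groth.Agent.Lib.Helper21.GIS.Econn_of_isPullback hpb)
    (by
      intro X₀ S₀ f₀ hX₀ hS₀ hft hlft
      have : IsNoetherianRing Γ(S₀, ⊤) := Algebra.FiniteType.isNoetherianRing ℤ _
      have : TopologicalSpace.NoetherianSpace S₀ := noetherianSpace_of_isAffine
      have : QuasiCompact f₀ := inferInstance
      exact Groth.Agent.Lib.Helper21.GIS.isConstructible_Econn_of_noetherianSpace f₀)
    ((Groth.Agent.Lib.Helper21.GIS.geometricallyConnected_iff_Econn f).mp inferInstance)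
  exact ⟨X₀, S₀, f₀, g, g', h1, h2, h3, h4, h5,
    (Groth.Agent.Lib.Helper21.GIS.geometricallyConnected_iff_Econn f₀).mpr h6⟩

end Groth.Agent.S1463
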