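import Groth.Statements.S14630
import Groth.Agent.Lib.Helper22.ColimCohU.Etale
import Groth.Agent.Lib.Helper22.AbHomology

set_option autoImplicit false
open CategoryTheory CategoryTheory.Limits AlgebraicGeometry
universe u
open EtBase

namespace Groth.Agent.S14630

open Groth.Agent.Lib.Helper22.ColimCohU Groth.Agent.Lib.Helper22.ColimCohU.Etale
  Groth.Agent.Lib.Helper22.CechU Groth.Agent.Lib.Helper22.CechU.Site
  Groth.Agent.Lib.Helper22.CechU.Etale Groth.Agent.Lib.Helper22.AbHomology Opposite

section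

variable {X : Scheme.{u}} [CompactSpace ↥X] [QuasiSeparatedSpace ↥X] {U : X.Etale}
  {ι : Type (u + 1)} [Finite ι] (Y : ι → Over U) (hB : ∀ (p : ℕ) (a : Fin (p + 1) → ι),
    (Uσ Y a).left ∈ Bq X)
  {I : Type (u + 1)} [SmallCategory I] [IsFiltered I] {F : I ⥤ EtCoh.Ab X} (c : Cocone F)
  (hc : IsColimit c)

include hB hc in
lemma cochain_rep' (n : ℕ) (a : (CK Y (rP c.pt.obj)).X n) :
    ∃ (i : I) (b : (CK Y (rP (F.obj i).obj)).X n), cm Y (inc c i) n b = a :=
  cochain_rep Y c n a (fun σ =>
    sec_rep (fun Q => isSheaf_forget Q) h1q h2q hfinq c hc _ (hB n σ) _)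

include hB hc in
lemma cochain_zero' (n : ℕ) (i : I) (b : (CK Y (rP (F.obj i).obj)).X n)
    (hb : cm Y (inc c i) n b = 0) : ∃ (j : I) (g : i ⟶ j), cm Y (F.map g) n b = 0 :=
  cochain_zero Y n i b (fun σ => by
    apply sec_zero (fun Q => isSheaf_forget Q) h1q h2q hfinq c hc _ (hB n σ) i
    have := congrArg (proj Y (rP c.pt.obj) n σ) hb
    rw [proj_cm, map_zero] at this
    exact this)

/-- The map of Čech complexes induced by a morphism of sheaves. -/
noncomputable abbrev CM {G G' : EtCoh.Ab X} (φ : G ⟶ G') :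
    CK Y (rP G.obj) ⟶ CK Y (rP G'.obj) :=
  (cechComplexFunctor Y).map (rMap (U := U) φ.hom)

lemma cls_congr (K : CochainComplex AddCommGrpCat.{u + 1} ℕ) (q : ℕ) {z z' : K.X q}
    (h : z = z') (hz : K.d q (q + 1) z = 0) (hz' : K.d q (q + 1) z' = 0) :
    cls K q z hz = cls K q z' hz' := by
  subst h
  rfl

include hB hc in
lemma H_rep (q : ℕ) (x : (CK Y (rP c.pt.obj)).homology q) :
    ∃ (i : I) (y : (CK Y (rP (F.obj i).obj)).homology q),
      HomologicalComplex.homologyMap (CM Y (inc c i)) q y = x := by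
  obtain ⟨z, hz, rfl⟩ := exists_cls _ q x
  obtain ⟨i, b, hb⟩ := cochain_rep' Y hB c hc q z
  have hdb : cm Y (inc c i) (q + 1) ((CK Y (rP (F.obj i).obj)).d q (q + 1) b) = 0 := by
    rw [cm_d, hb, hz]
  obtain ⟨j, g, hg⟩ := cochain_zero' Y hB c hc (q + 1) i _ hdb
  have hcoc : (CK Y (rP (F.obj j).obj)).d q (q + 1) (cm Y (F.map g) q b) = 0 := by
    rw [← cm_d]
    exact hg
  refine ⟨j, cls _ q (cm Y (F.map g) q b) hcoc, ?_⟩
  rw [map_cls]
  apply cls_congr
  change cm Y (inc c j) q (cm Y (F.map g) q b) = z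
  rw [← cm_comp, inc_w c g, hb]

include hB hc in
lemma H_zero (q : ℕ) (i : I) (y : (CK Y (rP (F.obj i).obj)).homology q)
    (hy : HomologicalComplex.homologyMap (CM Y (inc c i)) q y = 0) :
    ∃ (j : I) (g : i ⟶ j), HomologicalComplex.homologyMap (CM Y (F.map g)) q y = 0 := by
  obtain ⟨b, hb, rfl⟩ := exists_cls _ q y
  rw [map_cls] at hy
  cases q with
  | zero =>
    rw [cls_eq_zero_zero_iff] at hy
    obtain ⟨j, g, hg⟩ := cochain_zero' Y hB c hc 0 i b hy
    refine ⟨j, g, ?_⟩
    rw [map_cls, cls_eq_zero_zero_iff]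
    exact hg
  | succ q =>
    rw [cls_eq_zero_succ_iff] at hy
    obtain ⟨w, hw⟩ := hy
    obtain ⟨i₁, w₁, hw₁⟩ := cochain_rep' Y hB c hc q w
    let k := IsFiltered.max i i₁
    let a : i ⟶ k := IsFiltered.leftToMax i i₁
    let a₁ : i₁ ⟶ k := IsFiltered.rightToMax i i₁
    let bk := cm Y (F.map a) (q + 1) b
    let wk := cm Y (F.map a₁) q w₁
    have h0 : cm Y (inc c k) (q + 1) (bk - (CK Y (rP (F.obj k).obj)).d q (q + 1) wk) = 0 := by
      rw [map_sub, cm_d, ← cm_comp, inc_w c a, ← cm_comp, inc_w c a₁, hw₁, hw]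
      exact sub_self _
    obtain ⟨j, g, hg⟩ := cochain_zero' Y hB c hc (q + 1) k _ h0
    refine ⟨j, a ≫ g, ?_⟩
    rw [map_cls, cls_eq_zero_succ_iff]
    refine ⟨cm Y (F.map g) q wk, ?_⟩
    rw [map_sub, sub_eq_zero] at hg
    rw [← cm_d, ← hg]
    change cm Y (F.map g) (q + 1) (cm Y (F.map a) (q + 1) b) = cm Y (F.map (a ≫ g)) (q + 1) b
    rw [← cm_comp, F.map_comp]

end


/-- On the small étale site of a quasi-compact quasi-separated scheme, let X be a quasi-compact
quasi-separated scheme, U an étale X-scheme quasi-compact and quasi-separated over X, and (U_i → U)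
a finite family of étale U-schemes each quasi-compact and quasi-separated over X. Then for every q
and every small filtered category I, the functor F ↦ Ȟ^q((U_i → U), F) on abelian étale sheaves on X
preserves colimits of shape I. The finite products of the over category (the fibre products entering
the Čech complex) are carried as an instance hypothesis. (The published statement is for an
arbitrary covering family, reduced to a finite one without argument; this row takes a finite family,
which need not cover U.) -/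
theorem result (X : Scheme.{u}) [CompactSpace ↥X]
    [QuasiSeparatedSpace ↥X] (U : X.Etale) [QuasiCompact U.hom] [QuasiSeparated U.hom]
    [HasFiniteProducts (Over U)] (ι : Type (u + 1)) [Finite ι] (Uf : ι → Over U)
    [∀ i, QuasiCompact (Uf i).left.hom] [∀ i, QuasiSeparated (Uf i).left.hom]
    (q : ℕ) (I : Type (u + 1)) [SmallCategory I] [IsFiltered I] :
    PreservesColimitsOfShape I
      (sheafToPresheaf X.smallEtaleTopology AddCommGrpCat.{u + 1} ⋙ EtCech.cechHFunctor Uf q) := by
  have hU : U ∈ Bq X := by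
    let uh : U.left ⟶ X := U.hom
    have h1 : QuasiCompact uh := ‹QuasiCompact U.hom›
    have h2 : QuasiSeparated uh := ‹QuasiSeparated U.hom›
    exact ⟨QuasiCompact.compactSpace_of_compactSpace uh, quasiSeparatedSpace_of_quasiSeparated uh⟩
  have hY : ∀ i, (Uf i).left ∈ Bq X := fun i => by
    let uh : (Uf i).left.left ⟶ X := (Uf i).left.hom
    have h1 : QuasiCompact uh := inferInstanceAs (QuasiCompact (Uf i).left.hom)
    have h2 : QuasiSeparated uh := inferInstanceAs (QuasiSeparated (Uf i).left.hom)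
    exact ⟨QuasiCompact.compactSpace_of_compactSpace uh, quasiSeparatedSpace_of_quasiSeparated uh⟩
  have hB : ∀ (p : ℕ) (a : Fin (p + 1) → ι), (Uσ Uf a).left ∈ Bq X :=
    fun p a => Bq_prod hU Uf hY a
  constructor
  intro F
  have : ReflectsColimit (F ⋙ (sheafToPresheaf X.smallEtaleTopology AddCommGrpCat.{u + 1} ⋙
      EtCech.cechHFunctor Uf q)) (forget AddCommGrpCat.{u + 1}) :=
    reflectsColimit_of_reflectsIsomorphisms _ _
  apply preservesColimit_of_preserves_colimit_cocone (colimit.isColimit F)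
  apply isColimitOfReflects (forget AddCommGrpCat.{u + 1})
  apply Types.FilteredColimit.isColimitOf'
  · intro x
    obtain ⟨i, y, hy⟩ := H_rep Uf hB (colimit.cocone F) (colimit.isColimit F) q x
    exact ⟨i, y, hy.symm⟩
  · intro i x y hxy
    let x' : (CK Uf (rP (F.obj i).obj)).homology q := x
    let y' : (CK Uf (rP (F.obj i).obj)).homology q := y
    have h0 : HomologicalComplex.homologyMap (CM Uf (inc (colimit.cocone F) i)) q (x' - y') = 0 := by
      rw [map_sub, sub_eq_zero]
      exact hxy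
    obtain ⟨j, g, hg⟩ := H_zero Uf hB (colimit.cocone F) (colimit.isColimit F) q i (x' - y') h0
    refine ⟨j, g, ?_⟩
    rw [map_sub, sub_eq_zero] at hg
    exact hg

end Groth.Agent.S14630
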