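import Groth.Statements.S14643
import Mathlib
import Groth.Prelude.Def_AlgGrp
import Groth.Agent.Lib.Helper10.ActDesc1

set_option autoImplicit false
universe u
open CategoryTheory MonoidalCategory CartesianMonoidalCategory MonObj GrpObj AlgebraicGeometry CategoryTheory.Limits
open AlgGrp

namespace Groth.Agent.S14643

/-- Over a field k, let G be a smooth k-group scheme of finite type acting on a variety X (a separated,
geometrically integral k-scheme of finite type). Let n : N → G be the kernel of the action: a closed
subgroup scheme such that, for every k-scheme T, a T-point of G factors through N exactly when it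
acts as the identity on all points of X over T-schemes. Let π : G → Q be a homomorphism onto a
k-group scheme of finite type which is flat and surjective with kernel N (the quotient G/N). Then
there is a unique action of Q on X inducing the given one along π; this action of Q is faithful (a
T-point of Q acting as the identity on all points of X over T-schemes is the unit); and X is
homogeneous under G (surjective graph morphism (g, x) ↦ (x, g·x)) if and only if it is homogeneous
under Q, and almost homogeneous under G (dominant graph morphism) if and only if it is almost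
homogeneous under Q. -/
theorem result (k : Type u) [Field k]
    (G N Q X : Over (Spec (CommRingCat.of k))) [GrpObj G] [Smooth G.hom] [QuasiCompact G.hom]
    [IsSeparated X.hom] [LocallyOfFiniteType X.hom] [QuasiCompact X.hom] [GeometricallyIntegral X.hom] (a : AlgGrp.Action G X)
    [GrpObj N] (n : N ⟶ G) [IsMonHom n] [IsClosedImmersion n.left]
    (hN : ∀ (T : Over (Spec (CommRingCat.of k))) (g : T ⟶ G),
      (∃ m : T ⟶ N, m ≫ n = g) ↔
        ∀ (T' : Over (Spec (CommRingCat.of k))) (s : T' ⟶ T) (x : T' ⟶ X), CartesianMonoidalCategory.lift (s ≫ g) x ≫ a.act = x)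
    [GrpObj Q] [LocallyOfFiniteType Q.hom] [QuasiCompact Q.hom] (π : G ⟶ Q) [IsMonHom π] [Flat π.left] [Surjective π.left]
    (hker : AlgGrp.IsKernel n π) :
    (∃! b : AlgGrp.Action Q X, (π ▷ X) ≫ b.act = a.act) ∧
    ∀ b : AlgGrp.Action Q X, (π ▷ X) ≫ b.act = a.act →
      (∀ (T : Over (Spec (CommRingCat.of k))) (q : T ⟶ Q),
        (∀ (T' : Over (Spec (CommRingCat.of k))) (s : T' ⟶ T) (x : T' ⟶ X), CartesianMonoidalCategory.lift (s ≫ q) x ≫ b.act = x) → q = 1) ∧
      (Surjective (CartesianMonoidalCategory.lift (CartesianMonoidalCategory.snd G X) a.act).left ↔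
        Surjective (CartesianMonoidalCategory.lift (CartesianMonoidalCategory.snd Q X) b.act).left) ∧
      (IsDominant (CartesianMonoidalCategory.lift (CartesianMonoidalCategory.snd G X) a.act).left ↔
        IsDominant (CartesianMonoidalCategory.lift (CartesianMonoidalCategory.snd Q X) b.act).left) := by
  classical
  haveI : LocallyOfFiniteType G.hom := inferInstance
  have hπ : Groth.Agent.Lib.Helper10.FppfQuot.Fppf π.left :=
    Groth.Agent.Lib.Helper10.QuotTower.fppf_of_field π inferInstance inferInstance
  have hπX := Groth.Agent.Lib.Helper10.FppfQuot.fppf_whiskerRight π X hπ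
  haveI hepi : Epi (π ▷ X) := Groth.Agent.Lib.Helper10.FppfQuot.epi_of_fppf _ hπX
  have htriv : ∀ (T : Over (Spec (CommRingCat.of k))) (m : T ⟶ N) (x : T ⟶ X),
      CartesianMonoidalCategory.lift (m ≫ n) x ≫ a.act = x := by
    intro T m x
    have := (hN T (m ≫ n)).mp ⟨m, rfl⟩ T (𝟙 T) x
    rwa [Category.id_comp] at this
  obtain ⟨d, hd⟩ := Groth.Agent.Lib.Helper10.ActDesc.exists_desc a n π hπ hker htriv
  obtain ⟨b₀, hb₀⟩ := Groth.Agent.Lib.Helper10.ActDesc.exists_action_of_desc hπ hd
  refine ⟨⟨b₀, by show (π ▷ X) ≫ b₀.act = a.act; rw [hb₀]; exact hd, ?_⟩, ?_⟩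
  · intro b' hb'
    apply Groth.Agent.Lib.Helper10.ActDesc.action_ext
    have hb'' : (π ▷ X) ≫ b'.act = a.act := hb'
    rw [← cancel_epi (π ▷ X), hb'', hb₀, hd]
  · intro b hb
    have hfac : CartesianMonoidalCategory.lift (CartesianMonoidalCategory.snd G X) a.act =
        (π ▷ X) ≫ CartesianMonoidalCategory.lift (CartesianMonoidalCategory.snd Q X) b.act := by
      apply CartesianMonoidalCategory.hom_ext
      · simp
      · simp [hb]
    haveI hsX : Surjective (π ▷ X).left := hπX.1
    refine ⟨?_, ?_, ?_⟩
    · intro T q hq
      exact Groth.Agent.Lib.Helper10.ActDesc.eq_one_of_trivial (n := n) hπ hker hb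
        (fun T g hg => (hN T g).mpr hg) q hq
    · rw [hfac, Over.comp_left]
      constructor
      · intro h
        exact Surjective.of_comp (π ▷ X).left _
      · intro h
        infer_instance
    · rw [hfac, Over.comp_left]
      constructor
      · intro h
        exact IsDominant.of_comp (π ▷ X).left _
      · intro h
        infer_instance

end Groth.Agent.S14643
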