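import Groth.Statements.S14645
import Groth.Agent.Lib.Helper14.GeomSurj3

set_option autoImplicit false
universe u
open CategoryTheory MonoidalCategory CartesianMonoidalCategory MonObj GrpObj AlgebraicGeometry CategoryTheory.Limits
open AlgGrp

namespace Groth.Agent.S14645

/-- Over a field k with algebraic closure K, let G be a smooth k-group scheme of finite type acting on a
variety X (a separated, geometrically integral k-scheme of finite type). Then X is homogeneous under
G, i.e. the graph morphism G × X → X × X, (g, x) ↦ (x, g·x), is surjective, if and only if the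
abstract group G(K) of K-points over k acts transitively on the set X(K): for all K-points x, y of X
there is a K-point g of G with g · x = y. -/
theorem result (k : Type u) [Field k]
    (G X : Over (Spec (CommRingCat.of k))) [GrpObj G] [Smooth G.hom] [QuasiCompact G.hom]
    [IsSeparated X.hom] [LocallyOfFiniteType X.hom] [QuasiCompact X.hom] [GeometricallyIntegral X.hom] (a : AlgGrp.Action G X)
    (K : Type u) [Field K] [Algebra k K] [IsAlgClosure k K] :
    Surjective (CartesianMonoidalCategory.lift (CartesianMonoidalCategory.snd G X) a.act).left ↔
      ∀ x y : Over.mk (Spec.map (CommRingCat.ofHom (algebraMap k K))) ⟶ X, ∃ g : Over.mk (Spec.map (CommRingCat.ofHom (algebraMap k K))) ⟶ G, CartesianMonoidalCategory.lift g x ≫ a.act = y := by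
  have hGX : LocallyOfFiniteType (G ⊗ X).hom := by
    rw [Over.tensorObj_hom]
    infer_instance
  have hGXq : QuasiCompact (G ⊗ X).hom := by
    rw [Over.tensorObj_hom]
    infer_instance
  have hXX : LocallyOfFiniteType (X ⊗ X).hom := by
    rw [Over.tensorObj_hom]
    infer_instance
  have hXXq : QuasiCompact (X ⊗ X).hom := by
    rw [Over.tensorObj_hom]
    infer_instance
  rw [Groth.Agent.Lib.Helper14.GeomSurj.surjective_iff_forall_geomPoint K
    (CartesianMonoidalCategory.lift (CartesianMonoidalCategory.snd G X) a.act)]
  constructor
  · intro h x y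
    obtain ⟨p, hp⟩ := h (CartesianMonoidalCategory.lift x y)
    rw [CartesianMonoidalCategory.comp_lift] at hp
    have h1 := congrArg (fun m => m ≫ CartesianMonoidalCategory.fst X X) hp
    have h2 := congrArg (fun m => m ≫ CartesianMonoidalCategory.snd X X) hp
    simp only [CartesianMonoidalCategory.lift_fst, CartesianMonoidalCategory.lift_snd] at h1 h2
    refine ⟨p ≫ CartesianMonoidalCategory.fst G X, ?_⟩
    have h3 : CartesianMonoidalCategory.lift (p ≫ CartesianMonoidalCategory.fst G X) x = p := by
      apply CartesianMonoidalCategory.hom_ext
      · rw [CartesianMonoidalCategory.lift_fst]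
      · rw [CartesianMonoidalCategory.lift_snd, h1]
    rw [h3, h2]
  · intro h q
    obtain ⟨g, hg⟩ := h (q ≫ CartesianMonoidalCategory.fst X X) (q ≫ CartesianMonoidalCategory.snd X X)
    refine ⟨CartesianMonoidalCategory.lift g (q ≫ CartesianMonoidalCategory.fst X X), ?_⟩
    rw [CartesianMonoidalCategory.comp_lift, CartesianMonoidalCategory.lift_snd, hg]
    apply CartesianMonoidalCategory.hom_ext
    · rw [CartesianMonoidalCategory.lift_fst]
    · rw [CartesianMonoidalCategory.lift_snd]

end Groth.Agent.S14645
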