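import Groth.Statements.S1465
import Groth.Agent.Lib.Helper1.FQ2
import Groth.Agent.Lib.Helper1.FQ3

set_option autoImplicit false
universe u
open FlatMor

namespace Groth.Agent.S1465

open AlgebraicGeometry CategoryTheory Limits in
/-- Let i : Z → X be a closed immersion and j : Z → Y an integral morphism such that each fibre of j
lies in the preimage of an affine open of X. Let i' : Z' → X', j' : Z' → Y' and f : X' → X, g : Y' →
Y, h : Z' → Z form cartesian squares over i and j, with f, g, h separated and locally quasi-finite.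
Then the pushouts W of (i, j) and W' of (i', j') exist in the category of schemes, the induced W' →
W is separated and locally quasi-finite, and the squares comparing Y' → W', X' → W' with Y → W, X →
W are cartesian. -/
theorem result {X Y Z X' Y' Z' : Scheme.{u}}
    (i : Z ⟶ X) [IsClosedImmersion i] (j : Z ⟶ Y) [IsIntegralHom j]
    (h3 : ∀ y : Y, ∃ U : X.Opens, IsAffineOpen U ∧ j ⁻¹' {y} ⊆ (i ⁻¹ᵁ U : Set ↑Z))
    (i' : Z' ⟶ X') (j' : Z' ⟶ Y') (f : X' ⟶ X) (g : Y' ⟶ Y) (h : Z' ⟶ Z)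
    (hX : IsPullback h i' i f) (hY : IsPullback h j' j g)
    [IsSeparated f] [LocallyQuasiFinite f] [LocallyOfFiniteType f] [IsSeparated g] [LocallyQuasiFinite g] [LocallyOfFiniteType g]
    [IsSeparated h] [LocallyQuasiFinite h] [LocallyOfFiniteType h] :
    ∃ (W W' : Scheme.{u}) (a : Y ⟶ W) (b : X ⟶ W) (a' : Y' ⟶ W') (b' : X' ⟶ W') (k : W' ⟶ W),
      IsPushout j i a b ∧ IsPushout j' i' a' b' ∧ a' ≫ k = g ≫ a ∧ b' ≫ k = f ≫ b ∧
      IsSeparated k ∧ LocallyQuasiFinite k ∧ LocallyOfFiniteType k ∧ IsPullback g a' a k ∧ IsPullback f b' b k := by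
  haveI hi' : IsClosedImmersion i' :=
    MorphismProperty.of_isPullback (P := @IsClosedImmersion) hX inferInstance
  haveI hj' : IsIntegralHom j' :=
    MorphismProperty.of_isPullback (P := @IsIntegralHom) hY inferInstance
  have hc : Groth.Agent.Lib.Helper1.FP.Covering i j :=
    Groth.Agent.Lib.Helper1.FP.covering_of_integral i j h3
  have hc' : Groth.Agent.Lib.Helper1.FP.Covering i' j' :=
    Groth.Agent.Lib.Helper1.FQ.covering_baseChange hX.flip hY.flip hc
  refine ⟨Groth.Agent.Lib.Helper1.FP.P i j, Groth.Agent.Lib.Helper1.FP.P i' j',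
    Groth.Agent.Lib.Helper1.FP.toP₂ hc, Groth.Agent.Lib.Helper1.FP.toP₁ hc,
    Groth.Agent.Lib.Helper1.FP.toP₂ hc', Groth.Agent.Lib.Helper1.FP.toP₁ hc',
    Groth.Agent.Lib.Helper1.FP.BCh.k hX.flip hY.flip hc, ?_, ?_, ?_, ?_, ?_, ?_, ?_, ?_, ?_⟩
  · exact (Groth.Agent.Lib.Helper1.FP.isPushout_toP hc).flip
  · exact (Groth.Agent.Lib.Helper1.FP.isPushout_toP hc').flip
  · exact Groth.Agent.Lib.Helper1.FP.BCh.toP₂_k hX.flip hY.flip hc hc'
  · exact Groth.Agent.Lib.Helper1.FP.BCh.toP₁_k hX.flip hY.flip hc hc'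
  · exact Groth.Agent.Lib.Helper1.FP.BCh.isSeparated_k hX.flip hY.flip hc hc'
  · exact Groth.Agent.Lib.Helper1.FP.BCh.locallyQuasiFinite_k hX.flip hY.flip hc hc'
  · exact Groth.Agent.Lib.Helper1.FP.BCh.locallyOfFiniteType_k hX.flip hY.flip hc hc'
  · exact (Groth.Agent.Lib.Helper1.FP.BCh.isPullback_toP₂_k hX.flip hY.flip hc hc').flip
  · exact (Groth.Agent.Lib.Helper1.FP.BCh.isPullback_toP₁_k hX.flip hY.flip hc hc').flip

end Groth.Agent.S1465
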