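import Groth.Statements.S14652
import Mathlib.RingTheory.Polynomial.GaussNorm
import Mathlib.RingTheory.Polynomial.IsIntegral
import Mathlib.RingTheory.Valuation.Basic
import Mathlib.RingTheory.IntegralClosure.IntegrallyClosed
import Mathlib.RingTheory.Localization.FractionRing
import Mathlib.Analysis.SpecialFunctions.Pow.Real

set_option autoImplicit false
universe u
open FiltBl

namespace Groth.Agent.S14652

open Polynomial

/-- the exponential `n ↦ 2 ^ (-n)` on `ℤ ∪ {∞}` -/
noncomputable def ee : WithTop ℤ → ℝ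
  | ⊤ => 0
  | (n : ℤ) => (2:ℝ) ^ (-n)

lemma ee_top : ee ⊤ = 0 := rfl
lemma ee_coe (n : ℤ) : ee (n : WithTop ℤ) = (2:ℝ)^(-n) := rfl

lemma ee_nonneg (a : WithTop ℤ) : 0 ≤ ee a := by
  induction a using WithTop.recTopCoe with
  | top => simp [ee_top]
  | coe n => rw [ee_coe]; positivity

lemma ee_add (a b : WithTop ℤ) : ee (a + b) = ee a * ee b := by
  induction a using WithTop.recTopCoe with
  | top => simp [ee_top]
  | coe m =>
    induction b using WithTop.recTopCoe with
    | top => simp [ee_top]
    | coe n =>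
      rw [← WithTop.coe_add, ee_coe, ee_coe, ee_coe, neg_add, zpow_add₀ (by norm_num)]

lemma ee_eq_zero {a : WithTop ℤ} : ee a = 0 ↔ a = ⊤ := by
  induction a using WithTop.recTopCoe with
  | top => simp [ee_top]
  | coe n =>
    rw [ee_coe]
    simp only [WithTop.coe_ne_top, iff_false]
    positivity

lemma ee_anti {a b : WithTop ℤ} (h : a ≤ b) : ee b ≤ ee a := by
  induction b using WithTop.recTopCoe with
  | top => rw [ee_top]; exact ee_nonneg a
  | coe n =>
    induction a using WithTop.recTopCoe with
    | top => simp at h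
    | coe m =>
      rw [ee_coe, ee_coe]
      have : m ≤ n := by exact_mod_cast h
      exact zpow_le_zpow_right₀ (by norm_num) (by omega)

/-- the absolute value `x ↦ 2 ^ (- q v(x))` -/
noncomputable def absv {K : Type*} [Field K] (v : AddValuation K (WithTop ℤ)) (q : ℕ)
    (hq : 0 < q) : AbsoluteValue K ℝ where
  toFun x := ee (v x) ^ q
  map_mul' x y := by rw [AddValuation.map_mul, ee_add, mul_pow]
  nonneg' x := pow_nonneg (ee_nonneg _) _
  eq_zero' x := by
    rw [pow_eq_zero_iff hq.ne', ee_eq_zero, AddValuation.top_iff]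
  add_le' x y := by
    have h1 : ee (v (x + y)) ≤ max (ee (v x)) (ee (v y)) := by
      rcases min_cases (v x) (v y) with h | h
      · exact le_max_of_le_left (ee_anti (h.1 ▸ AddValuation.map_add v x y))
      · exact le_max_of_le_right (ee_anti (h.1 ▸ AddValuation.map_add v x y))
    rcases le_max_iff.mp h1 with h | h
    · calc ee (v (x + y)) ^ q ≤ ee (v x) ^ q := pow_le_pow_left₀ (ee_nonneg _) h q
        _ ≤ _ := le_add_of_nonneg_right (pow_nonneg (ee_nonneg _) _)
    · calc ee (v (x + y)) ^ q ≤ ee (v y) ^ q := pow_le_pow_left₀ (ee_nonneg _) h q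
        _ ≤ _ := le_add_of_nonneg_left (pow_nonneg (ee_nonneg _) _)

lemma absv_apply {K : Type*} [Field K] (v : AddValuation K (WithTop ℤ)) (q : ℕ)
    (hq : 0 < q) (x : K) : absv v q hq x = ee (v x) ^ q := rfl

lemma absv_nonarch {K : Type*} [Field K] (v : AddValuation K (WithTop ℤ)) (q : ℕ)
    (hq : 0 < q) : IsNonarchimedean (absv v q hq) := by
  intro x y
  rw [absv_apply, absv_apply, absv_apply]
  rcases min_cases (v x) (v y) with h | h
  · exact le_max_of_le_left (pow_le_pow_left₀ (ee_nonneg _)
      (ee_anti (h.1 ▸ AddValuation.map_add v x y)) q)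
  · exact le_max_of_le_right (pow_le_pow_left₀ (ee_nonneg _)
      (ee_anti (h.1 ▸ AddValuation.map_add v x y)) q)

/-- key numeric equivalence -/
lemma absv_mul_pow_le_one {K : Type*} [Field K] (v : AddValuation K (WithTop ℤ)) (p q : ℕ)
    (hq : 0 < q) (x : K) (n : ℕ) :
    absv v q hq x * ((2:ℝ) ^ p) ^ n ≤ 1 ↔
      ((n * p : ℕ) : WithTop ℤ) ≤ (q : WithTop ℤ) * v x := by
  rw [absv_apply]
  generalize v x = a
  induction a using WithTop.recTopCoe with
  | top =>
    rw [ee_top, zero_pow hq.ne', zero_mul, WithTop.mul_top (by exact_mod_cast hq.ne')]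
    simp
  | coe m =>
    rw [ee_coe]
    have e1 : ((n * p : ℕ) : WithTop ℤ) = (((n * p : ℕ) : ℤ) : WithTop ℤ) := by norm_cast
    have e2 : (q : WithTop ℤ) * (m : WithTop ℤ) = (((q : ℤ) * m : ℤ) : WithTop ℤ) := by
      norm_cast
    rw [e1, e2, WithTop.coe_le_coe]
    have e3 : ((2:ℝ) ^ (-m)) ^ q * ((2:ℝ) ^ p) ^ n = (2:ℝ) ^ (-(q:ℤ) * m + ((n * p : ℕ) : ℤ)) := by
      rw [zpow_add₀ (by norm_num), ← zpow_natCast ((2:ℝ) ^ (-m)) q, ← zpow_mul, ← pow_mul,
        ← zpow_natCast (2:ℝ) (p * n)]
      congr 2
      · ring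
      · push_cast; ring
    rw [e3]
    rw [zpow_le_one_iff_right₀ (by norm_num : (1:ℝ) < 2)]
    constructor <;> intro h <;> linarith

/-- gauss norm `≤ 1` iff every term is `≤ 1`. -/
lemma gaussNorm_le_one_iff {R : Type*} [Ring R] (v : AbsoluteValue R ℝ) (c : ℝ) (hc : 0 ≤ c)
    (f : R[X]) : f.gaussNorm v c ≤ 1 ↔ ∀ n, v (f.coeff n) * c ^ n ≤ 1 := by
  constructor
  · intro h n
    exact (le_gaussNorm v f hc n).trans h
  · intro h
    unfold gaussNorm
    split_ifs with hs
    · exact Finset.sup'_le _ _ (fun n _ => h n)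
    · exact zero_le_one

/-- integral elements over a subring of the unit ball of a nonarchimedean multiplicative norm
are in the unit ball -/
lemma norm_le_one_of_isIntegral {S : Type*} [CommRing S] (N : S → ℝ)
    (hN0 : N 0 = 0) (hNmul : ∀ x y, N (x * y) = N x * N y)
    (hNadd : ∀ x y, N (x + y) ≤ max (N x) (N y)) (hNneg : ∀ x, N (-x) = N x)
    (hNnn : ∀ x, 0 ≤ N x)
    (R : Subring S) (hR : ∀ r ∈ R, N r ≤ 1) (f : S) (hf : IsIntegral R f) : N f ≤ 1 := by
  by_contra hlt
  push Not at hlt
  obtain ⟨P, hP, hPf⟩ := hf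
  have hNpow : ∀ k : ℕ, 0 < k → N (f ^ k) = N f ^ k := by
    intro k hk
    induction k with
    | zero => omega
    | succ k ih =>
      rcases Nat.eq_zero_or_pos k with rfl | hk'
      · simp
      · rw [pow_succ, hNmul, ih hk', pow_succ]
  -- sums
  have hsum : ∀ (s : Finset ℕ) (g : ℕ → S) (B : ℝ), 0 ≤ B → (∀ j ∈ s, N (g j) ≤ B) →
      N (∑ j ∈ s, g j) ≤ B := by
    intro s g B hB
    induction s using Finset.induction_on with
    | empty => intro _; simpa [hN0] using hB
    | insert a s ha ih =>
      intro h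
      rw [Finset.sum_insert ha]
      refine (hNadd _ _).trans (max_le (h a (Finset.mem_insert_self a s)) (ih ?_))
      intro j hj
      exact h j (Finset.mem_insert_of_mem hj)
  set m := P.natDegree with hm
  have hm0 : 0 < m := by
    by_contra h0
    have h0' : m = 0 := by omega
    have : P = 1 := by
      have := Polynomial.eq_C_of_natDegree_eq_zero h0'
      rw [this, ← h0', ← Polynomial.leadingCoeff, hP.leadingCoeff, map_one]
    rw [this, eval₂_one] at hPf
    have h1 : N (1:S) = 0 := by rw [hPf, hN0]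
    have : N f = N f * N 1 := by rw [← hNmul, mul_one]
    rw [h1, mul_zero] at this
    linarith
  rw [eval₂_eq_sum_range, Finset.sum_range_succ, ← hm, ← Polynomial.leadingCoeff,
    hP.leadingCoeff, map_one, one_mul] at hPf
  have hfm : f ^ m = - ∑ j ∈ Finset.range m, (algebraMap R S) (P.coeff j) * f ^ j :=
    eq_neg_of_add_eq_zero_right hPf
  have h1 : N (f ^ m) ≤ N f ^ (m - 1) := by
    rw [hfm, hNneg]
    refine hsum _ _ _ (pow_nonneg (hNnn _) _) ?_
    intro j hj
    rw [hNmul]
    have hj' : j ≤ m - 1 := by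
      have := Finset.mem_range.mp hj
      omega
    have h2 : N ((algebraMap R S) (P.coeff j)) ≤ 1 := hR _ (P.coeff j).2
    have h3 : N (f ^ j) ≤ N f ^ (m - 1) := by
      rcases Nat.eq_zero_or_pos j with rfl | hj0
      · rw [pow_zero]
        have : N (1:S) ≤ 1 := hR 1 R.one_mem
        exact this.trans (one_le_pow₀ hlt.le)
      · rw [hNpow j hj0]
        exact pow_le_pow_right₀ hlt.le hj'
    calc N ((algebraMap R S) (P.coeff j)) * N (f ^ j) ≤ 1 * N f ^ (m - 1) :=
          mul_le_mul h2 h3 (hNnn _) zero_le_one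
      _ = _ := one_mul _
  rw [hNpow m hm0] at h1
  have h4 : N f ^ (m - 1) < N f ^ m := pow_lt_pow_right₀ hlt (by omega)
  linarith

/-- a subalgebra of an integrally closed domain that is integrally closed in it is
integrally closed. -/
lemma isIntegrallyClosed_of_subalgebra {A S : Type*} [CommRing A] [CommRing S] [IsDomain S]
    [Algebra A S] [IsIntegrallyClosed S] (R : Subalgebra A S)
    (h : ∀ s : S, IsIntegral R s → s ∈ R) : IsIntegrallyClosed R := by
  rw [isIntegrallyClosed_iff (FractionRing R)]
  intro x hx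
  let g : R →+* FractionRing S := (algebraMap S (FractionRing S)).comp R.val.toRingHom
  have hg : Function.Injective g :=
    (IsFractionRing.injective S (FractionRing S)).comp Subtype.val_injective
  let φ : FractionRing R →+* FractionRing S := IsFractionRing.lift hg
  have hφ : ∀ r : R, φ (algebraMap R (FractionRing R) r) = algebraMap S (FractionRing S) (r : S) :=
    fun r => IsFractionRing.lift_algebraMap hg r
  -- `φ x` is integral over `S`
  have h1 : IsIntegral S (φ x) := by
    obtain ⟨P, hP, hPx⟩ := hx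
    refine ⟨P.map R.val.toRingHom, hP.map _, ?_⟩
    rw [Polynomial.eval₂_map]
    have : (algebraMap S (FractionRing S)).comp R.val.toRingHom
        = φ.comp (algebraMap R (FractionRing R)) := by
      ext r
      exact (hφ r).symm
    rw [this, ← Polynomial.hom_eval₂, hPx, map_zero]
  obtain ⟨s, hs⟩ := (isIntegrallyClosed_iff (FractionRing S)).mp inferInstance h1
  -- `s` is integral over `R`
  have h2 : IsIntegral R s := by
    obtain ⟨P, hP, hPx⟩ := hx
    refine ⟨P, hP, ?_⟩
    apply IsFractionRing.injective S (FractionRing S)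
    rw [map_zero, Polynomial.hom_eval₂, hs]
    have : (algebraMap S (FractionRing S)).comp (algebraMap R S)
        = φ.comp (algebraMap R (FractionRing R)) := by
      ext r
      exact (hφ r).symm
    rw [this, ← Polynomial.hom_eval₂, hPx, map_zero]
  refine ⟨⟨s, h s h2⟩, ?_⟩
  apply φ.injective
  rw [hφ, hs]

/-- Let A be a Noetherian integrally closed domain with fraction field K, let v_1, …, v_s be finitely
many valuations on K with values in ℤ ∪ {∞} (written additively) that are non-negative on A, and let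
r_i = p_i / q_i be positive rationals (p_i, q_i positive integers). Let F be the filtration of
ideals of A given by F^k = {x ∈ A | q_i · v_i(x) ≥ k · p_i for every i}. Then the Rees algebra ⊕_{k
≥ 0} F^k X^k ⊆ A[X] is an integrally closed domain (it need not be Noetherian). -/
theorem result (A K : Type u) [CommRing A] [IsDomain A]
    [IsNoetherianRing A] [IsIntegrallyClosed A] [Field K] [Algebra A K] [IsFractionRing A K]
    (ι : Type) [Finite ι] (v : ι → AddValuation K (WithTop ℤ))
    (hv : ∀ (i : ι) (x : A), 0 ≤ v i (algebraMap A K x)) (p q : ι → ℕ) (hp : ∀ i, 0 < p i)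
    (hq : ∀ i, 0 < q i) (𝓕 : FiltBl.IdealFiltration A)
    (hF : ∀ (k : ℕ) (x : A), x ∈ 𝓕.F k ↔
      ∀ i, ((k * p i : ℕ) : WithTop ℤ) ≤ (q i : WithTop ℤ) * v i (algebraMap A K x)) :
    IsIntegrallyClosed 𝓕.rees := by
  classical
  apply isIntegrallyClosed_of_subalgebra
  intro f hf n
  rw [hF]
  intro i
  set a := absv (v i) (q i) (hq i) with ha
  set c : ℝ := 2 ^ (p i) with hcdef
  have hc : 0 < c := by positivity
  have hna : IsNonarchimedean a := absv_nonarch _ _ _
  let N : A[X] → ℝ := fun g => (g.map (algebraMap A K)).gaussNorm a c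
  have hN : N f ≤ 1 := by
    refine norm_le_one_of_isIntegral N ?_ ?_ ?_ ?_ ?_ 𝓕.rees.toSubring ?_ f ?_
    · simp [N]
    · intro x y
      simp only [N, Polynomial.map_mul]
      exact gaussNorm_mul hna hc _ _
    · intro x y
      simp only [N, Polynomial.map_add]
      exact isNonarchimedean_gaussNorm a hna hc.le _ _
    · intro x
      simp only [N, Polynomial.map_neg]
      have := gaussNorm_isAbsoluteValue (c := c) hna hc
      exact IsAbsoluteValue.abv_neg _ _
    · intro x
      exact gaussNorm_nonneg _ _ hc.le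
    · intro r hr
      simp only [N]
      rw [gaussNorm_le_one_iff _ _ hc.le]
      intro n
      rw [coeff_map, ha, hcdef, absv_mul_pow_le_one]
      exact (hF n _).mp (hr n) i
    · exact hf
  simp only [N] at hN
  rw [gaussNorm_le_one_iff _ _ hc.le] at hN
  have := hN n
  rw [coeff_map, ha, hcdef, absv_mul_pow_le_one] at this
  exact this

end Groth.Agent.S14652
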