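import Groth.Statements.S14654
import Mathlib

set_option autoImplicit false
universe u
open FiltBl

namespace Groth.Agent.S14654

section Aux
open AlgebraicGeometry HomogeneousLocalization

theorem isIntegrallyClosed_of_sub {R S : Type*} [CommRing R] [IsDomain R] [CommRing S] [IsDomain S]
    [IsIntegrallyClosed S] (φ : R →+* S) (hφ : Function.Injective φ)
    (H : ∀ u v : R, v ≠ 0 → ∀ w : S, φ u = φ v * w → ∃ w' : R, u = v * w') :
    IsIntegrallyClosed R := by
  let K := FractionRing R
  let L := FractionRing S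
  have hg : Function.Injective ((algebraMap S L).comp φ) :=
    (IsFractionRing.injective S L).comp hφ
  let ψ : K →+* L := IsFractionRing.lift hg
  have hψ : ∀ r : R, ψ (algebraMap R K r) = algebraMap S L (φ r) := fun r =>
    IsFractionRing.lift_algebraMap hg r
  refine (isIntegrallyClosed_iff K).mpr fun {ξ} hξ => ?_
  obtain ⟨u, v, hv, rfl⟩ := IsFractionRing.div_surjective (A := R) ξ
  have hv0 : v ≠ 0 := nonZeroDivisors.ne_zero hv
  have hvK : algebraMap R K v ≠ 0 := by
    intro h0
    exact hv0 ((IsFractionRing.injective R K) (by rw [h0, map_zero]))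
  have hint : IsIntegral S (ψ (algebraMap R K u / algebraMap R K v)) :=
    IsIntegral.map_of_comp_eq φ ψ (by ext r; exact (hψ r).symm) hξ
  obtain ⟨w, hw⟩ := IsIntegrallyClosed.isIntegral_iff.mp hint
  have h1 : φ u = φ v * w := by
    apply IsFractionRing.injective S L
    rw [map_mul, hw, ← hψ, ← hψ, ← map_mul, mul_div_cancel₀ _ hvK]
  obtain ⟨w', hw'⟩ := H u v hv0 w h1
  refine ⟨w', ?_⟩
  rw [hw', map_mul, mul_div_cancel_left₀ _ hvK]

section
variable {A : Type u} [CommRing A] (𝒜 : ℕ → AddSubgroup A) [GradedRing 𝒜]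

theorem atPrime_isDomain_isIntegrallyClosed (p : HomogeneousIdeal 𝒜) [hp : p.toIdeal.IsPrime]
    [IsDomain (Localization.AtPrime p.toIdeal)] [IsIntegrallyClosed (Localization.AtPrime p.toIdeal)] :
    IsDomain (AtPrime 𝒜 p.toIdeal) ∧ IsIntegrallyClosed (AtPrime 𝒜 p.toIdeal) := by
  classical
  let φ : AtPrime 𝒜 p.toIdeal →+* Localization.AtPrime p.toIdeal :=
    algebraMap (AtPrime 𝒜 p.toIdeal) (Localization.AtPrime p.toIdeal)
  have hφ : Function.Injective φ := HomogeneousLocalization.val_injective _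
  have hdom : IsDomain (AtPrime 𝒜 p.toIdeal) := hφ.isDomain φ
  refine ⟨hdom, isIntegrallyClosed_of_sub φ hφ ?_⟩
  intro u v hv w huvw
  obtain ⟨zu, rfl⟩ := mk_surjective u
  obtain ⟨zv, rfl⟩ := mk_surjective v
  induction w using Localization.induction_on with | H cs =>
  obtain ⟨c, s⟩ := cs
  change (mk zu : AtPrime 𝒜 p.toIdeal).val = (mk zv : AtPrime 𝒜 p.toIdeal).val * _ at huvw
  rw [val_mk, val_mk, Localization.mk_mul, Localization.mk_eq_mk_iff, Localization.r_iff_exists] at huvw
  obtain ⟨e, he⟩ := huvw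
  -- E * (zv.den * zu.num) = G * (zu.den * zv.num), E ∉ p
  set E : A := (e : A) * (s : A) with hE
  set G : A := (e : A) * c with hG
  have hEG : E * (zv.den.1 * zu.num.1) = G * (zu.den.1 * zv.num.1) := by
    have := he
    simp only [Submonoid.coe_mul] at this
    rw [hE, hG]
    linear_combination this
  have hEp : E ∉ p.toIdeal := fun h => by
    rcases hp.mem_or_mem h with h | h
    · exact e.2 h
    · exact s.2 h
  obtain ⟨i, hi⟩ : ∃ i, (DirectSum.decompose 𝒜 E i : A) ∉ p.toIdeal := by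
    by_contra hcon
    push Not at hcon
    exact hEp ((p.isHomogeneous.mem_iff _).mpr hcon)
  have hdeg1 : zv.den.1 * zu.num.1 ∈ 𝒜 (zv.deg + zu.deg) :=
    SetLike.mul_mem_graded zv.den.2 zu.num.2
  have hdeg2 : zu.den.1 * zv.num.1 ∈ 𝒜 (zv.deg + zu.deg) := by
    rw [add_comm]
    exact SetLike.mul_mem_graded zu.den.2 zv.num.2
  have hcomp : (DirectSum.decompose 𝒜 E i : A) * (zv.den.1 * zu.num.1) =
      (DirectSum.decompose 𝒜 G i : A) * (zu.den.1 * zv.num.1) := by
    rw [← DirectSum.coe_decompose_mul_add_of_right_mem 𝒜 hdeg1,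
      ← DirectSum.coe_decompose_mul_add_of_right_mem 𝒜 hdeg2, hEG]
  refine ⟨mk ⟨i, ⟨_, (DirectSum.decompose 𝒜 G i).2⟩, ⟨_, (DirectSum.decompose 𝒜 E i).2⟩, hi⟩, ?_⟩
  apply HomogeneousLocalization.val_injective
  rw [val_mul, val_mk, val_mk, val_mk, Localization.mk_mul, Localization.mk_eq_mk_iff,
    Localization.r_iff_exists]
  refine ⟨1, ?_⟩
  simp only [Submonoid.coe_mul, OneMemClass.coe_one, one_mul]
  linear_combination hcomp
end

end Aux

open AlgebraicGeometry in
/-- Let A be a Noetherian ℕ-graded commutative ring which is normal, i.e. every localization of A at a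
prime ideal is an integrally closed domain. Then the scheme Proj A is normal: every local ring of
Proj A is an integrally closed domain. -/
theorem result (A : Type u) [CommRing A] [IsNoetherianRing A]
    (𝒜 : ℕ → AddSubgroup A) [GradedRing 𝒜]
    (hA : ∀ (p : Ideal A) [p.IsPrime], IsDomain (Localization.AtPrime p) ∧
      IsIntegrallyClosed (Localization.AtPrime p))
    (x : Proj 𝒜) :
    IsDomain ((Proj 𝒜).presheaf.stalk x) ∧ IsIntegrallyClosed ((Proj 𝒜).presheaf.stalk x) := by
  let x' : ProjectiveSpectrum 𝒜 := x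
  have hprime : x'.asHomogeneousIdeal.toIdeal.IsPrime := x'.isPrime
  obtain ⟨h1, h2⟩ := hA x'.asHomogeneousIdeal.toIdeal
  obtain ⟨h3, h4⟩ := atPrime_isDomain_isIntegrallyClosed 𝒜 x'.asHomogeneousIdeal
  let e : (Proj 𝒜).presheaf.stalk x ≃+*
      HomogeneousLocalization.AtPrime 𝒜 x'.asHomogeneousIdeal.toIdeal := Proj.stalkIso' 𝒜 x'
  exact ⟨e.toMulEquiv.isDomain _, IsIntegrallyClosed.of_equiv e.symm⟩

end Groth.Agent.S14654
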