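import Groth.Statements.S14655
import Mathlib
import Groth.Agent.Lib.Helper11.ProjCME
import Groth.Agent.Lib.Helper18.FibQuot

set_option autoImplicit false
universe u
open FiltBl

namespace Groth.Agent.S14655

open AlgebraicGeometry in
/-- Let A be a Noetherian ℕ-graded commutative ring which is a Cohen–Macaulay ring. Then the scheme Proj
A is Cohen–Macaulay: every local ring of Proj A is a Cohen–Macaulay local ring. -/
theorem result (A : Type u) [CommRing A]
    (𝒜 : ℕ → AddSubgroup A) [GradedRing 𝒜] [LocCoh.IsCohenMacaulayRing A] (x : Proj 𝒜) :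
    LocCoh.IsCohenMacaulayLocalRing ((Proj 𝒜).presheaf.stalk x) := by
  classical
  let x' : ProjectiveSpectrum 𝒜 := x
  obtain ⟨f, m, f_deg, hm, hx⟩ : ∃ (f : A) (m : ℕ) (_ : f ∈ 𝒜 m) (_ : 0 < m), f ∉ x'.1 := by
    by_contra! this
    refine x'.not_irrelevant_le fun z hz ↦ ?_
    rw [← DirectSum.sum_support_decompose 𝒜 z]
    exact x'.1.toIdeal.sum_mem fun k hk ↦ this _ k (SetLike.coe_mem _) <| by_contra <| by aesop
  haveI : LocCoh.IsCohenMacaulayLocalRing
      (Localization.AtPrime x'.asHomogeneousIdeal.toIdeal) :=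
    LocCoh.IsCohenMacaulayRing.isCohenMacaulayLocalRing_localization _
  haveI hO : LocCoh.IsCohenMacaulayLocalRing
      (HomogeneousLocalization.AtPrime 𝒜 x'.asHomogeneousIdeal.toIdeal) :=
    Groth.Agent.Lib.Helper11.ProjCM.cm_atPrime x'.asHomogeneousIdeal.isHomogeneous f_deg hm hx
  let e : (Proj 𝒜).presheaf.stalk x ≃+*
      HomogeneousLocalization.AtPrime 𝒜 x'.asHomogeneousIdeal.toIdeal :=
    Proj.stalkIso' 𝒜 x'
  exact Groth.Agent.Lib.Helper18.FibQuot.isCohenMacaulayLocalRing_of_ringEquiv e.symm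

end Groth.Agent.S14655
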