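import Groth.Statements.S14656
import Mathlib
import Groth.Agent.Lib.Helper18.NorOpen
import Groth.Agent.Lib.Helper17.GradedNoeth

set_option autoImplicit false
universe u
open FiltBl

namespace Groth.Agent.S14656

open AlgebraicGeometry HomogeneousLocalization
open AlgebraicGeometry.ProjIsoSpecTopComponent
open Groth.Agent.Lib.Helper18.Serre Groth.Agent.Lib.Helper18.NorOpen

theorem hasS1_iff {R : Type u} [CommRing R] [IsNoetherianRing R] :
    LocCoh.HasSk 1 R R ↔ ∀ p ∈ associatedPrimes R R, p ∈ minimalPrimes R := by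
  rw [hasSk_self_iff]
  constructor
  · intro h p hp
    have hpp : p.IsPrime := hp.isPrime
    have h1 := h p
    rw [(depth_localization_eq_zero_iff p).2 hp] at h1
    rw [← Ideal.height_eq_zero_iff]
    by_contra hne
    have h2 : (1 : ℕ∞) ≤ p.height := Order.one_le_iff_pos.mpr (pos_iff_ne_zero.mpr hne)
    have h3 : min ((1 : ℕ) : WithBot ℕ∞) (p.height : WithBot ℕ∞) = ((1 : ℕ∞) : WithBot ℕ∞) := by
      rw [min_eq_left]
      · rfl
      · have : ((1 : ℕ) : WithBot ℕ∞) = ((1 : ℕ∞) : WithBot ℕ∞) := rfl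
        rw [this]
        exact_mod_cast h2
    rw [h3] at h1
    have h4 : (1 : ℕ∞) ≤ 0 := by exact_mod_cast h1
    simp at h4
  · intro h p hp
    by_cases hmin : p ∈ minimalPrimes R
    · have h0 : p.height = 0 := Ideal.height_eq_zero_iff.mpr hmin
      rw [h0]
      refine (min_le_right _ _).trans ?_
      exact_mod_cast (zero_le : (0 : ℕ∞) ≤ _)
    · have hnass : p ∉ associatedPrimes R R := fun hass => hmin (h p hass)
      have hd : LocCoh.depth (Localization.AtPrime p) (Localization.AtPrime p) ≠ 0 :=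
        fun h0 => hnass ((depth_localization_eq_zero_iff p).1 h0)
      have h1 : (1 : ℕ∞) ≤ LocCoh.depth (Localization.AtPrime p) (Localization.AtPrime p) :=
        Order.one_le_iff_pos.mpr (pos_iff_ne_zero.mpr hd)
      refine (min_le_left _ _).trans ?_
      have : ((1 : ℕ) : WithBot ℕ∞) = ((1 : ℕ∞) : WithBot ℕ∞) := rfl
      rw [this]
      exact_mod_cast h1

theorem assMin_of_isLocalization {R L : Type u} [CommRing R] [CommRing L] [IsNoetherianRing R]
    [Algebra R L] (S : Submonoid R) [IsLocalization S L]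
    (h : ∀ p ∈ associatedPrimes R R, p ∈ minimalPrimes R) :
    ∀ Q ∈ associatedPrimes L L, Q ∈ minimalPrimes L := by
  intro Q hQ
  have h1 := Module.associatedPrimes.preimage_comap_associatedPrimes_eq_associatedPrimes_of_isLocalizedModule
    S (R' := L) (Algebra.linearMap R L)
  rw [← h1, Set.mem_preimage] at hQ
  have h2 := h _ hQ
  have h3 := IsLocalization.minimalPrimes_map S L (⊥ : Ideal R)
  rw [Ideal.map_bot] at h3
  change Q ∈ (⊥ : Ideal L).minimalPrimes
  rw [h3]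
  exact h2

section PartC
variable {A : Type u} [CommRing A] (𝒜 : ℕ → AddSubgroup A) [GradedRing 𝒜]
variable {f : A} {m : ℕ}

/-- vanishing of a product in the degree zero localization -/
lemma pow_mul_mk_eq_zero_iff (z z₀ : NumDenSameDeg 𝒜 (.powers f)) (k : ℕ) :
    (mk z : Away 𝒜 f) ^ k * mk z₀ = 0 ↔ ∃ N : ℕ, f ^ N * (z.num.1 ^ k * z₀.num.1) = 0 := by
  rw [HomogeneousLocalization.ext_iff_val, val_mul, val_pow, val_mk, val_mk, val_zero,
    Localization.mk_pow, Localization.mk_mul, Localization.mk_eq_mk', IsLocalization.mk'_eq_zero_iff]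
  constructor
  · rintro ⟨⟨_, N, rfl⟩, h⟩
    exact ⟨N, h⟩
  · rintro ⟨N, h⟩
    exact ⟨⟨_, N, rfl⟩, h⟩

theorem assMin_away [IsNoetherianRing A] (f_deg : f ∈ 𝒜 m) (hm : 0 < m)
    (hA : ∀ p ∈ associatedPrimes A A, p ∈ minimalPrimes A) :
    ∀ P ∈ associatedPrimes (Away 𝒜 f) (Away 𝒜 f), P ∈ minimalPrimes (Away 𝒜 f) := by
  intro P hP
  have hPprime : P.IsPrime := hP.isPrime
  obtain ⟨ξ, hξ⟩ := hP.2
  obtain ⟨z₀, rfl⟩ := mk_surjective ξ
  set a : A := z₀.num.1 with ha
  let Pt : PrimeSpectrum (Away 𝒜 f) := ⟨P, hPprime⟩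
  -- membership in P
  have hmemP : ∀ z : NumDenSameDeg 𝒜 (.powers f),
      (mk z : Away 𝒜 f) ∈ P ↔ ∃ k N : ℕ, f ^ N * (z.num.1 ^ k * a) = 0 := by
    intro z
    rw [hξ, Ideal.mem_radical_iff]
    constructor
    · rintro ⟨k, hk⟩
      rw [Submodule.mem_colon_singleton, Submodule.mem_bot, smul_eq_mul,
        pow_mul_mk_eq_zero_iff] at hk
      exact ⟨k, hk⟩
    · rintro ⟨k, hk⟩
      refine ⟨k, ?_⟩
      rw [Submodule.mem_colon_singleton, Submodule.mem_bot, smul_eq_mul, pow_mul_mk_eq_zero_iff]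
      exact hk
  -- the ascending chain of annihilators
  let chain : ℕ →o Ideal A :=
    ⟨fun N => (⊥ : Submodule A A).colon {f ^ N * a}, by
      intro N N' hNN' b hb
      rw [Submodule.mem_colon_singleton, Submodule.mem_bot, smul_eq_mul] at hb ⊢
      obtain ⟨d, rfl⟩ := Nat.exists_eq_add_of_le hNN'
      rw [pow_add]
      calc b * (f ^ N * f ^ d * a) = f ^ d * (b * (f ^ N * a)) := by ring
        _ = 0 := by rw [hb, mul_zero]⟩
  obtain ⟨N₀, hN₀⟩ := monotone_stabilizes_iff_noetherian.mpr (inferInstance : IsNoetherian A A) chain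
  set a' : A := f ^ N₀ * a with ha'
  have ha'deg : a' ∈ 𝒜 (N₀ • m + z₀.deg) :=
    SetLike.mul_mem_graded (SetLike.pow_mem_graded N₀ f_deg) z₀.num.2
  let I : Ideal A := (⊥ : Submodule A A).colon {a'}
  have hmemI : ∀ b : A, b ∈ I ↔ b * a' = 0 := by
    intro b
    change b ∈ (⊥ : Submodule A A).colon {a'} ↔ _
    rw [Submodule.mem_colon_singleton, Submodule.mem_bot, smul_eq_mul]
  have hmemI' : ∀ (b : A) (N : ℕ), b * (f ^ N * a) = 0 → b ∈ I := by
    intro b N hb
    have h1 : b ∈ chain N := by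
      change b ∈ (⊥ : Submodule A A).colon {f ^ N * a}
      rw [Submodule.mem_colon_singleton, Submodule.mem_bot, smul_eq_mul]
      exact hb
    have h2 : b ∈ chain (max N N₀) := chain.monotone (le_max_left _ _) h1
    rw [← hN₀ (max N N₀) (le_max_right _ _)] at h2
    exact h2
  -- the homogeneous prime corresponding to P
  let q : Ideal A := FromSpec.carrier.asIdeal f_deg hm Pt
  have hqprime : q.IsPrime := FromSpec.carrier.asIdeal.prime f_deg hm Pt
  have hq_hom : ∀ {i : ℕ} (b : A), b ∈ 𝒜 i →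
      (b ∈ q ↔ ∃ k N : ℕ, f ^ N * ((b ^ m) ^ k * a) = 0) := by
    intro i b hb
    change b ∈ FromSpec.carrier f_deg Pt ↔ _
    rw [FromSpec.mem_carrier_iff_of_mem f_deg hm Pt b hb]
    exact hmemP _
  have hIq : I ≤ q := by
    intro c hc
    rw [hmemI] at hc
    change c ∈ FromSpec.carrier f_deg Pt
    rw [FromSpec.mem_carrier_iff]
    intro i
    change _ ∈ P
    rw [hmemP]
    refine ⟨1, N₀, ?_⟩
    have h1 : (DirectSum.decompose 𝒜 c i : A) * a' = 0 := by
      rw [← DirectSum.coe_decompose_mul_add_of_right_mem 𝒜 ha'deg, hc]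
      simp
    have h2 : GradedRing.proj 𝒜 i c = (DirectSum.decompose 𝒜 c i : A) := rfl
    obtain ⟨m', rfl⟩ : ∃ m', m = m' + 1 := Nat.exists_eq_succ_of_ne_zero hm.ne'
    change f ^ N₀ * ((GradedRing.proj 𝒜 i c ^ (m' + 1)) ^ 1 * a) = 0
    rw [h2, pow_one, pow_succ]
    calc f ^ N₀ * ((DirectSum.decompose 𝒜 c i : A) ^ m' * (DirectSum.decompose 𝒜 c i : A) * a)
        = (DirectSum.decompose 𝒜 c i : A) ^ m' * ((DirectSum.decompose 𝒜 c i : A) * a') := by
          rw [ha']; ring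
      _ = 0 := by rw [h1, mul_zero]
  have hqI : q ≤ I.radical := by
    classical
    intro b hb
    rw [← DirectSum.sum_support_decompose 𝒜 b]
    refine Ideal.sum_mem _ fun i _ => ?_
    have hbi : (DirectSum.decompose 𝒜 b i : A) ∈ q :=
      FromSpec.carrier.asIdeal.homogeneous f_deg hm Pt i hb
    obtain ⟨k, N, hkN⟩ := (hq_hom _ (DirectSum.decompose 𝒜 b i).2).mp hbi
    refine ⟨m * k, hmemI' _ N ?_⟩
    rw [pow_mul]
    calc ((DirectSum.decompose 𝒜 b i : A) ^ m) ^ k * (f ^ N * a)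
        = f ^ N * (((DirectSum.decompose 𝒜 b i : A) ^ m) ^ k * a) := by ring
      _ = 0 := hkN
  have hq_eq : q = I.radical := le_antisymm hqI (hqprime.radical_le_iff.mpr hIq)
  have hqass : q ∈ associatedPrimes A A := ⟨hqprime, ⟨a', hq_eq⟩⟩
  have hqmin := hA q hqass
  refine ⟨⟨hPprime, bot_le⟩, fun P' hP' hle => ?_⟩
  have hP'prime : P'.IsPrime := hP'.1
  let Pt' : PrimeSpectrum (Away 𝒜 f) := ⟨P', hP'prime⟩
  let q' : Ideal A := FromSpec.carrier.asIdeal f_deg hm Pt'
  have hq'prime : q'.IsPrime := FromSpec.carrier.asIdeal.prime f_deg hm Pt'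
  have hq'q : q' ≤ q := fun b hb i => hle (hb i)
  have hqq' : q ≤ q' := hqmin.2 ⟨hq'prime, bot_le⟩ hq'q
  intro r hr
  obtain ⟨z, rfl⟩ := mk_surjective r
  have h1 : z.num.1 ∈ FromSpec.carrier f_deg Pt := (FromSpec.num_mem_carrier_iff f_deg hm Pt z).mpr hr
  have h2 : z.num.1 ∈ FromSpec.carrier f_deg Pt' := hqq' h1
  exact (FromSpec.num_mem_carrier_iff f_deg hm Pt' z).mp h2
end PartC

theorem away_noeth {A : Type u} [CommRing A] (𝒜 : ℕ → AddSubgroup A) [GradedRing 𝒜]
    {f : A} {m : ℕ} [IsNoetherianRing A] (f_deg : f ∈ 𝒜 m) :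
    IsNoetherianRing (Away 𝒜 f) := by
  have h1 : Algebra.FiniteType (𝒜 0) A :=
    Groth.Agent.Lib.Helper17.finiteType_of_isNoetherianRing_graded 𝒜
  have h2 : Algebra.FiniteType (𝒜 0) (HomogeneousLocalization.Away 𝒜 f) :=
    HomogeneousLocalization.Away.finiteType f m f_deg
  exact Algebra.FiniteType.isNoetherianRing (𝒜 0) _

open AlgebraicGeometry in
/-- Let A be a Noetherian ℕ-graded commutative ring satisfying Serre's condition (S_1) (every
localization A_p has depth at least min(1, dim A_p)). Then every local ring of the scheme Proj A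
satisfies (S_1). -/
theorem result (A : Type u) [CommRing A] [IsNoetherianRing A]
    (𝒜 : ℕ → AddSubgroup A) [GradedRing 𝒜] (hA : LocCoh.HasSk 1 A A) (x : Proj 𝒜) :
    LocCoh.HasSk 1 ((Proj 𝒜).presheaf.stalk x) ((Proj 𝒜).presheaf.stalk x) := by
  classical
  let x' : ProjectiveSpectrum 𝒜 := x
  obtain ⟨f, m, f_deg, hm, hx⟩ : ∃ (f : A) (m : ℕ) (_ : f ∈ 𝒜 m) (_ : 0 < m), f ∉ x'.1 := by
    by_contra! this
    refine x'.not_irrelevant_le fun z hz ↦ ?_
    rw [← DirectSum.sum_support_decompose 𝒜 z]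
    exact x'.1.toIdeal.sum_mem fun k hk ↦ this _ k (SetLike.coe_mem _) <| by_contra <| by aesop
  have hR : IsNoetherianRing (Away 𝒜 f) := away_noeth 𝒜 f_deg
  have hRass := assMin_away 𝒜 f_deg hm (hasS1_iff.mp hA)
  let xf : ProjectiveSpectrum.basicOpen 𝒜 f := ⟨x', hx⟩
  let alg : Algebra (Away 𝒜 f) (AtPrime 𝒜 x'.asHomogeneousIdeal.toIdeal) :=
    (mapId 𝒜 (Submonoid.powers_le.mpr xf.2)).toAlgebra
  have hloc := ProjectiveSpectrum.Proj.isLocalization_atPrime 𝒜 f xf f_deg hm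
  let e : (Proj 𝒜).presheaf.stalk x ≃+* AtPrime 𝒜 x'.asHomogeneousIdeal.toIdeal :=
    Proj.stalkIso' 𝒜 x'
  let algL : Algebra (Away 𝒜 f) ((Proj 𝒜).presheaf.stalk x) :=
    (e.symm.toRingHom.comp (algebraMap (Away 𝒜 f) (AtPrime 𝒜 x'.asHomogeneousIdeal.toIdeal))).toAlgebra
  let eA : AtPrime 𝒜 x'.asHomogeneousIdeal.toIdeal ≃ₐ[Away 𝒜 f] (Proj 𝒜).presheaf.stalk x :=
    AlgEquiv.ofRingEquiv (f := e.symm) (fun _ => rfl)
  set S : Submonoid (Away 𝒜 f) :=
    ((ProjectiveSpectrum.Proj.toSpec 𝒜 f).base xf).asIdeal.primeCompl with hS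
  have hlocL : IsLocalization S ((Proj 𝒜).presheaf.stalk x) :=
    IsLocalization.isLocalization_of_algEquiv S eA
  have hLnoeth : IsNoetherianRing ((Proj 𝒜).presheaf.stalk x) :=
    IsLocalization.isNoetherianRing S _ hR
  exact hasS1_iff.mpr (assMin_of_isLocalization S hRass)

end Groth.Agent.S14656
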