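import Groth.Statements.S14658
import Mathlib
import Groth.Agent.Lib.Helper11.GrUnitD

set_option autoImplicit false
universe u
open FiltBl

namespace Groth.Agent.S14658

/-- Let R be a Noetherian ℤ-graded commutative ring which is regular (every localization at a prime is a
regular local ring) and whose degree-0 subring R_0 is a local ring with maximal ideal m. Let t ∈ R_N
be a homogeneous unit of R of positive degree N such that R_i · R_j ⊆ m · t for all positive i, j
with i + j = N (every product a b with a ∈ R_i, b ∈ R_j is c t for some c ∈ m). Then the ring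
R[U]/(U^N − t), U an indeterminate, is again regular: all its localizations at prime ideals are
regular local rings. -/
theorem result (R : Type u) [CommRing R]
    [IsNoetherianRing R] (𝒜 : ℤ → AddSubgroup R) [GradedRing 𝒜]
    (hreg : ∀ (p : Ideal R) [p.IsPrime], IsRegularLocalRing (Localization.AtPrime p))
    [IsLocalRing (GrLC.deg0 𝒜)] (N : ℕ) (hN : 0 < N) (t : R) (ht : t ∈ 𝒜 (N : ℤ))
    (htu : IsUnit t)
    (hm : ∀ (i j : ℤ), 0 < i → 0 < j → i + j = (N : ℤ) → ∀ a ∈ 𝒜 i, ∀ b ∈ 𝒜 j,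
      ∃ c : GrLC.deg0 𝒜, c ∈ IsLocalRing.maximalIdeal (GrLC.deg0 𝒜) ∧ a * b = (c : R) * t)
    (q : Ideal (AdjoinRoot (Polynomial.X ^ N - Polynomial.C t))) [q.IsPrime] :
    IsRegularLocalRing (Localization.AtPrime q) := by
  obtain ⟨τ, hτ⟩ := htu
  have hmin : ∀ (n : ℤ), 0 < n → n < (N : ℤ) → ∀ s ∈ 𝒜 n, ¬ IsUnit s := by
    intro n hn0 hnN s hs hsu
    obtain ⟨σ, hσ⟩ := hsu
    have hσmem : (σ : R) ∈ 𝒜 n := by rw [hσ]; exact hs
    have hb : ((σ⁻¹ : Rˣ) : R) * t ∈ 𝒜 (-n + (N : ℤ)) :=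
      SetLike.mul_mem_graded (Groth.Agent.Lib.Helper11.GrUnit.inv_mem_of_isUnit 𝒜 σ hσmem) ht
    obtain ⟨c, hc, hcb⟩ := hm n (-n + (N : ℤ)) hn0 (by omega) (by ring) s hs _ hb
    have h1 : s * (((σ⁻¹ : Rˣ) : R) * t) = t := by
      rw [← mul_assoc, ← hσ, Units.mul_inv, one_mul]
    rw [h1] at hcb
    have h2 : (c : R) = 1 := by
      have h3 : (c : R) * (τ : R) = 1 * (τ : R) := by rw [one_mul, hτ]; exact hcb.symm
      exact τ.isUnit.mul_left_injective h3
    have h4 : c = 1 := Subtype.ext h2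
    rw [h4] at hc
    exact (IsLocalRing.maximalIdeal.isMaximal _).ne_top ((Ideal.eq_top_iff_one _).mpr hc)
  have D : Groth.Agent.Lib.Helper11.GrUnit.Data 𝒜 N t := ⟨hN, ht, ⟨τ, hτ⟩, hmin⟩
  haveI hC : IsRegularLocalRing (R ⧸ Ideal.span {t - 1}) := D.isRegularLocalRing_quot hreg
  haveI : IsRegularRing (R ⧸ Ideal.span {t - 1}) :=
    Groth.Agent.Lib.Helper25.RegularSmooth.isRegularRing_of_isRegularLocalRing _
  haveI : IsRegularRing (LaurentPolynomial (R ⧸ Ideal.span {t - 1})) :=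
    Groth.Agent.Lib.Helper11.GrUnit.isRegularRing_laurent _
  haveI : IsRegularRing (AdjoinRoot (Polynomial.X ^ N - Polynomial.C t)) :=
    IsRegularRing.of_ringEquiv
      (Groth.Agent.Lib.Helper11.GrUnit.adjoinRootEquiv 𝒜 hN τ hτ ht).symm
  exact IsRegularRing.isRegularLocalRing_localization q

end Groth.Agent.S14658
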