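import Groth.Statements.S14667
import Mathlib
import Groth.Agent.Lib.Helper26.RigH

set_option autoImplicit false
universe u
open CategoryTheory CategoryTheory.Limits AlgebraicGeometry
open AbSch

namespace Groth.Agent.S14667

/-- Let S be a locally Noetherian scheme, ξ : X ⟶ S a proper flat morphism all of whose geometric fibres
are integral, v : Y ⟶ S a separated morphism and f : X ⟶ Y a morphism over S. Then the set U of
points s of S such that f sends every point of the fibre ξ⁻¹(s) to one and the same point of Y is
closed and open in S. (Under flatness the condition that O_S ⟶ ξ_*O_X be an isomorphism, assumed for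
openness in the non-flat case, holds automatically.) -/
theorem result {X Y S : Scheme.{u}} [IsLocallyNoetherian S]
    (ξ : X ⟶ S) [IsProper ξ] [Flat ξ] [GeometricallyIntegral ξ]
    (v : Y ⟶ S) [IsSeparated v] (f : X ⟶ Y) (hf : f ≫ v = ξ) :
    IsClosed {s : ↥S | ∃ y : ↥Y, ∀ x : ↥X, ξ.base x = s → f.base x = y} ∧ IsOpen {s : ↥S | ∃ y : ↥Y, ∀ x : ↥X, ξ.base x = s → f.base x = y} := by
  -- the fibre hypothesis
  have HF : Groth.Agent.Lib.Helper26.RigD.HFib ξ := by
    apply Groth.Agent.Lib.Helper26.RigE.hfib_of_residue
    intro s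
    let fs : pullback ξ (S.fromSpecResidueField s) ⟶ Spec (S.residueField s) :=
      pullback.snd ξ (S.fromSpecResidueField s)
    haveI : GeometricallyIntegral fs := inferInstance
    haveI : GeometricallyReduced fs := inferInstance
    haveI : GeometricallyIrreducible fs := inferInstance
    haveI : GeometricallyConnected fs :=
      Groth.Agent.Lib.Helper26.RigH.geometricallyConnected_of_geometricallyIrreducible fs
    haveI : IsProper fs := inferInstance
    have hb := Groth.Agent.Lib.Helper21.PropH0.bijective_toGlobal_of_proper (S.residueField s) _ fs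
    have h3 : Function.Bijective (Scheme.ΓSpecIso (S.residueField s)).hom.hom :=
      ConcreteCategory.bijective_of_isIso (Scheme.ΓSpecIso (S.residueField s)).hom
    have h4 := hb.comp h3
    have h5 : ((Scheme.ΓSpecIso (CommRingCat.of (S.residueField s))).inv ≫ fs.appTop).hom ∘
        (Scheme.ΓSpecIso (S.residueField s)).hom.hom = fs.appTop.hom := by
      funext x
      change fs.appTop.hom (((Scheme.ΓSpecIso (S.residueField s)).hom ≫
        (Scheme.ΓSpecIso (S.residueField s)).inv).hom x) = _
      rw [Iso.hom_inv_id]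
      rfl
    rw [h5] at h4
    exact h4
  have hset : {s : ↥S | ∃ y : ↥Y, ∀ x : ↥X, ξ.base x = s → f.base x = y} =
      {t | Groth.Agent.Lib.Helper26.RigD.Good ξ f t} := by
    ext s
    constructor
    · rintro ⟨y, hy⟩ x₁ x₂ h₁ h₂
      rw [hy x₁ h₁, hy x₂ h₂]
    · intro hg
      obtain ⟨x₀, hx₀⟩ := Groth.Agent.Lib.Helper26.RigD.surjective_of_HFib ξ HF s
      exact ⟨f.base x₀, fun x hx => hg x x₀ hx hx₀⟩
  rw [hset]
  have hc := Groth.Agent.Lib.Helper26.RigF.isClopen_good ξ HF f v (𝟙 S)
    (by rw [hf, Category.comp_id])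
  exact ⟨hc.1, hc.2⟩

end Groth.Agent.S14667
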