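import Groth.Statements.S1467
import Mathlib
import Groth.Agent.Lib.Helper4.StrictWE
import Groth.Agent.S1412

set_option autoImplicit false
universe u
open FlatMor

namespace Groth.Agent.S1467

open AlgebraicGeometry CategoryTheory Limits in

open Groth.Agent.Lib.Helper4 in
/-- A morphism f : X → Y is weakly étale if and only if, for every point x of X, strict henselizations
of the local rings at f x and at x coincide under the stalk map: every strict henselization of O_{X,
x} is, through the composite map O_{Y, f x} → O_{X, x} → (strict henselization), a strict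
henselization of O_{Y, f x}. -/
theorem result {X Y : Scheme.{u}} (f : X ⟶ Y) :
    WeaklyEtale f ↔ ∀ (x : X) (R : Type u) [CommRing R] [IsLocalRing R] [Algebra ↑(X.presheaf.stalk x) R]
      [IsLocalHom (algebraMap ↑(X.presheaf.stalk x) R)] [Hensel.IsStrictHenselization ↑(X.presheaf.stalk x) R],
      letI : Algebra ↑(Y.presheaf.stalk (f x)) R := ((algebraMap ↑(X.presheaf.stalk x) R).comp (f.stalkMap x).hom).toAlgebra
      ∃ _ : IsLocalHom (algebraMap ↑(Y.presheaf.stalk (f x)) R), Hensel.IsStrictHenselization ↑(Y.presheaf.stalk (f x)) R := by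
  constructor
  · intro hf x R _ _ _ _ _
    have h1 := (Groth.Agent.S1412.result f).mp hf x
    letI algAB : Algebra (Y.presheaf.stalk (f x)) (X.presheaf.stalk x) :=
      (f.stalkMap x).hom.toAlgebra
    haveI hfl : Module.Flat (Y.presheaf.stalk (f x)) (X.presheaf.stalk x) := h1.1
    haveI hwe : Algebra.WeaklyEtale (Y.presheaf.stalk (f x)) (X.presheaf.stalk x) :=
      ⟨hfl, h1.2⟩
    haveI hlocAB : IsLocalHom (algebraMap (Y.presheaf.stalk (f x)) (X.presheaf.stalk x)) :=
      (inferInstance : IsLocalHom (f.stalkMap x).hom)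
    letI algAR : Algebra ↑(Y.presheaf.stalk (f x)) R :=
      ((algebraMap ↑(X.presheaf.stalk x) R).comp (f.stalkMap x).hom).toAlgebra
    haveI tower := IsScalarTower.of_algebraMap_eq (R := ↑(Y.presheaf.stalk (f x)))
      (S := ↑(X.presheaf.stalk x)) (A := R) (fun _ => rfl)
    exact Groth.Agent.Lib.Helper4.StrictWE.strict_of_weaklyEtale
      (Y.presheaf.stalk (f x)) (X.presheaf.stalk x) R
  · intro H
    refine (Groth.Agent.S1412.result f).mpr ?_
    intro x
    letI algAB : Algebra (Y.presheaf.stalk (f x)) (X.presheaf.stalk x) :=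
      (f.stalkMap x).hom.toAlgebra
    obtain ⟨hloc, hstrict⟩ := H x (Groth.Agent.Lib.Helper4.Hzs.Hs (X.presheaf.stalk x))
    letI algAR : Algebra ↑(Y.presheaf.stalk (f x))
        (Groth.Agent.Lib.Helper4.Hzs.Hs (X.presheaf.stalk x)) :=
      ((algebraMap ↑(X.presheaf.stalk x)
        (Groth.Agent.Lib.Helper4.Hzs.Hs (X.presheaf.stalk x))).comp (f.stalkMap x).hom).toAlgebra
    haveI tower := IsScalarTower.of_algebraMap_eq (R := ↑(Y.presheaf.stalk (f x)))
      (S := ↑(X.presheaf.stalk x)) (A := Groth.Agent.Lib.Helper4.Hzs.Hs (X.presheaf.stalk x))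
      (fun _ => rfl)
    haveI := hloc
    haveI := hstrict
    haveI w1 : Algebra.WeaklyEtale ↑(Y.presheaf.stalk (f x))
        (Groth.Agent.Lib.Helper4.Hzs.Hs (X.presheaf.stalk x)) :=
      Groth.Agent.Lib.Helper4.IndEt.weaklyEtale_of_isStrictHenselization _ _
    haveI ff : Module.FaithfullyFlat ↑(X.presheaf.stalk x)
        (Groth.Agent.Lib.Helper4.Hzs.Hs (X.presheaf.stalk x)) :=
      Groth.Agent.Lib.Helper4.Hzs.faithfullyFlat_of_isStrictHenselization _ _
    have hwe : Algebra.WeaklyEtale (Y.presheaf.stalk (f x)) (X.presheaf.stalk x) :=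
      Groth.Agent.S1996.result _ _ (Groth.Agent.Lib.Helper4.Hzs.Hs (X.presheaf.stalk x))
    exact ⟨hwe.flat, hwe.flat_lmul'⟩

end Groth.Agent.S1467
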