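import Groth.Statements.S14670
import Mathlib
import Groth.Agent.Lib.Helper18.Miracle
import Groth.Agent.Lib.Helper10.RegularNormal

set_option autoImplicit false
universe u
open CAlg

namespace Groth.Agent.S14670

/-- Let R be a regular local ring and S an integral domain containing R as a subring over which it is a
finitely generated module, such that the localization of S at each of its maximal ideals is a
Cohen–Macaulay local ring. Then S is a flat R-module. (The published statement does not require S to
be a domain; in that generality it fails — for a discrete valuation ring R with residue field κ the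
ring R × κ contains R diagonally, is finite over R with Cohen–Macaulay localizations, and is not
flat — and the printed argument needs every maximal ideal of S to have height dim R, which holds
when S is a domain by going down.) -/
theorem result (R S : Type u) [CommRing R] [CommRing S]
    [IsRegularLocalRing R] [IsDomain S] [Algebra R S] [Module.Finite R S]
    (hinj : Function.Injective (algebraMap R S))
    (hCM : ∀ (q : Ideal S) [q.IsMaximal], LocCoh.IsCohenMacaulayLocalRing (Localization.AtPrime q)) :
    Module.Flat R S := by
  classical
  have hdomR : IsDomain R := Groth.Agent.Lib.Helper21.isDomain_of_isRegularLocalRing R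
  have hic : IsIntegrallyClosed R := Groth.Agent.Lib.Helper10.RegularNormal.isIntegrallyClosed_of_isRegularLocalRing R
  have hfs : FaithfulSMul R S := (faithfulSMul_iff_algebraMap_injective R S).2 hinj
  have hint : Algebra.IsIntegral R S := inferInstance
  have hgd : Algebra.HasGoingDown R S := inferInstance
  have hnoeth : IsNoetherianRing S := IsNoetherianRing.of_finite R S
  -- primes of `S` between `𝔪 S` and a maximal ideal `q` are equal to `q`
  have key : ∀ (q : Ideal S) [q.IsMaximal] (P : Ideal S) [P.IsPrime],
      (IsLocalRing.maximalIdeal R).map (algebraMap R S) ≤ P → P ≤ q → P = q := by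
    intro q hq P hP hmP hPq
    have h1 : IsLocalRing.maximalIdeal R ≤ P.comap (algebraMap R S) := Ideal.map_le_iff_le_comap.1 hmP
    have h2 : (P.comap (algebraMap R S)).IsPrime := Ideal.comap_isPrime _ _
    have h3 : P.comap (algebraMap R S) = IsLocalRing.maximalIdeal R :=
      ((IsLocalRing.maximalIdeal.isMaximal R).eq_of_le h2.ne_top h1).symm
    have h4 : P.IsMaximal :=
      Ideal.isMaximal_of_isIntegral_of_isMaximal_comap (R := R) P
        (h3 ▸ IsLocalRing.maximalIdeal.isMaximal R)
    exact h4.eq_of_le hq.ne_top hPq
  refine Module.flat_of_isLocalized_maximal S S (fun P _ => Localization.AtPrime P)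
    (fun P _ => Algebra.linearMap S (Localization.AtPrime P)) ?_
  intro q hq
  have hqprime : q.IsPrime := hq.isPrime
  have hcomap : q.comap (algebraMap R S) = IsLocalRing.maximalIdeal R :=
    IsLocalRing.eq_maximalIdeal (Ideal.isMaximal_comap_of_isIntegral_of_isMaximal q)
  have hlies : q.LiesOver (IsLocalRing.maximalIdeal R) := ⟨hcomap.symm⟩
  have hCMq := hCM q
  have hmq : (IsLocalRing.maximalIdeal R).map (algebraMap R S) ≤ q :=
    Ideal.map_le_iff_le_comap.2 hcomap.ge
  -- the structure map to the localization is local
  have hloc : IsLocalHom (algebraMap R (Localization.AtPrime q)) := by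
    constructor
    intro r hr
    rw [IsScalarTower.algebraMap_apply R S (Localization.AtPrime q),
      IsLocalization.AtPrime.isUnit_to_map_iff (Localization.AtPrime q) q] at hr
    by_contra hnu
    have : r ∈ IsLocalRing.maximalIdeal R := (IsLocalRing.mem_maximalIdeal r).2 hnu
    rw [← hcomap] at this
    exact hr this
  -- the dimension formula
  have hht := Ideal.height_eq_height_add_of_liesOver_of_hasGoingDown (IsLocalRing.maximalIdeal R) q
  have hzero : (q.map (Ideal.Quotient.mk ((IsLocalRing.maximalIdeal R).map (algebraMap R S)))).height
      = 0 := by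
    have hprime : (q.map (Ideal.Quotient.mk
        ((IsLocalRing.maximalIdeal R).map (algebraMap R S)))).IsPrime :=
      Ideal.map_isPrime_of_surjective Ideal.Quotient.mk_surjective (by rwa [Ideal.mk_ker])
    rw [Ideal.height_eq_zero_iff]
    refine ⟨⟨hprime, bot_le⟩, ?_⟩
    rintro P' ⟨hP'prime, -⟩ hP'le
    have hP : (P'.comap (Ideal.Quotient.mk
        ((IsLocalRing.maximalIdeal R).map (algebraMap R S)))).IsPrime := Ideal.comap_isPrime _ _
    have h1 : (IsLocalRing.maximalIdeal R).map (algebraMap R S) ≤ P'.comap (Ideal.Quotient.mk
        ((IsLocalRing.maximalIdeal R).map (algebraMap R S))) := by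
      intro x hx
      rw [Ideal.mem_comap, Ideal.Quotient.eq_zero_iff_mem.2 hx]
      exact P'.zero_mem
    have h2 : P'.comap (Ideal.Quotient.mk
        ((IsLocalRing.maximalIdeal R).map (algebraMap R S))) ≤ q := by
      have := Ideal.comap_mono (f := Ideal.Quotient.mk
        ((IsLocalRing.maximalIdeal R).map (algebraMap R S))) hP'le
      rwa [Ideal.comap_map_of_surjective _ Ideal.Quotient.mk_surjective, ← RingHom.ker_eq_comap_bot,
        Ideal.mk_ker, sup_eq_left.2 hmq] at this
    have h3 := key q _ h1 h2
    rw [← h3, Ideal.map_comap_of_surjective _ Ideal.Quotient.mk_surjective]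
  have hTzero : ringKrullDim (Localization.AtPrime q ⧸
      (IsLocalRing.maximalIdeal R).map (algebraMap R (Localization.AtPrime q))) = 0 := by
    have hIle : (IsLocalRing.maximalIdeal R).map (algebraMap R (Localization.AtPrime q)) ≤
        IsLocalRing.maximalIdeal (Localization.AtPrime q) :=
      IsLocalRing.map_maximalIdeal_le (algebraMap R (Localization.AtPrime q))
    have hnt : Nontrivial (Localization.AtPrime q ⧸
        (IsLocalRing.maximalIdeal R).map (algebraMap R (Localization.AtPrime q))) :=
      Ideal.Quotient.nontrivial_iff.2 (fun h => (IsLocalRing.maximalIdeal.isMaximal _).ne_top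
        (top_le_iff.1 (h ▸ hIle)))
    refine le_antisymm ?_ ringKrullDim_nonneg_of_nontrivial
    have hK0 : Ring.KrullDimLE 0 (Localization.AtPrime q ⧸
        (IsLocalRing.maximalIdeal R).map (algebraMap R (Localization.AtPrime q))) := ?_
    · exact_mod_cast Ring.krullDimLE_iff.1 hK0
    rw [Ring.krullDimLE_zero_iff]
    intro P' hP'
    -- pull back to `S`
    have hP'' : (P'.comap (Ideal.Quotient.mk ((IsLocalRing.maximalIdeal R).map (algebraMap R (Localization.AtPrime q))))).IsPrime := Ideal.comap_isPrime _ _
    have hP : ((P'.comap (Ideal.Quotient.mk ((IsLocalRing.maximalIdeal R).map (algebraMap R (Localization.AtPrime q))))).comap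
        (algebraMap S (Localization.AtPrime q))).IsPrime := Ideal.comap_isPrime _ _
    have h1 : (IsLocalRing.maximalIdeal R).map (algebraMap R S) ≤
        (P'.comap (Ideal.Quotient.mk ((IsLocalRing.maximalIdeal R).map (algebraMap R (Localization.AtPrime q))))).comap (algebraMap S (Localization.AtPrime q)) := by
      rw [Ideal.map_le_iff_le_comap]
      intro r hr
      rw [Ideal.mem_comap, Ideal.mem_comap, Ideal.mem_comap,
        ← IsScalarTower.algebraMap_apply R S (Localization.AtPrime q),
        Ideal.Quotient.eq_zero_iff_mem.2 (Ideal.mem_map_of_mem _ hr)]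
      exact P'.zero_mem
    have hunder : (IsLocalRing.maximalIdeal (Localization.AtPrime q)).comap
        (algebraMap S (Localization.AtPrime q)) = q :=
      IsLocalization.AtPrime.under_maximalIdeal (Localization.AtPrime q) q
    have h2 : (P'.comap (Ideal.Quotient.mk ((IsLocalRing.maximalIdeal R).map (algebraMap R (Localization.AtPrime q))))).comap (algebraMap S (Localization.AtPrime q)) ≤ q := by
      have hle : P'.comap (Ideal.Quotient.mk ((IsLocalRing.maximalIdeal R).map (algebraMap R (Localization.AtPrime q)))) ≤ IsLocalRing.maximalIdeal (Localization.AtPrime q) :=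
        IsLocalRing.le_maximalIdeal hP''.ne_top
      have := Ideal.comap_mono (f := algebraMap S (Localization.AtPrime q)) hle
      rwa [hunder] at this
    have h3 := key q _ h1 h2
    -- hence `P'` is the maximal ideal
    have h4 : P'.comap (Ideal.Quotient.mk ((IsLocalRing.maximalIdeal R).map (algebraMap R (Localization.AtPrime q)))) = IsLocalRing.maximalIdeal (Localization.AtPrime q) := by
      have hm := IsLocalization.map_under q.primeCompl (Localization.AtPrime q)
        (P'.comap (Ideal.Quotient.mk ((IsLocalRing.maximalIdeal R).map (algebraMap R (Localization.AtPrime q)))))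
      rw [Ideal.under_def, h3] at hm
      rw [← hm, IsLocalization.AtPrime.map_eq_maximalIdeal]
    have h5 : P' = (IsLocalRing.maximalIdeal (Localization.AtPrime q)).map (Ideal.Quotient.mk ((IsLocalRing.maximalIdeal R).map (algebraMap R (Localization.AtPrime q)))) := by
      rw [← h4, Ideal.map_comap_of_surjective _ Ideal.Quotient.mk_surjective]
    rw [h5]
    exact Ideal.IsMaximal.map_of_surjective_of_ker_le Ideal.Quotient.mk_surjective
      (by rw [Ideal.mk_ker]; exact hIle)
  apply Groth.Agent.Lib.Helper18.CM.miracle_flatness
  rw [hTzero, add_zero, IsLocalization.AtPrime.ringKrullDim_eq_height q (Localization.AtPrime q),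
    hht, hzero, add_zero, ← IsLocalRing.maximalIdeal_height_eq_ringKrullDim]

end Groth.Agent.S14670
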