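import Groth.Statements.S14672
import Groth.Agent.Lib.Helper15.SymLift
-- import your own Groth.Agent.* helpers here

set_option autoImplicit false
universe u
open scoped TensorProduct
open SymTen

namespace Groth.Agent.S14672

/-- Let R be a commutative ring, f : M → N a surjective R-linear map whose target N is flat over R, and
n ≥ 0. Then the induced map on symmetric tensors of degree n is surjective: every element of the
n-fold tensor power of N over R which is fixed by every permutation of the factors is the image,
under the n-fold tensor power of f, of an element of the n-fold tensor power of M fixed by every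
permutation of the factors. -/
theorem result (R : Type u) [CommRing R] (M N : Type u) [AddCommGroup M] [Module R M]
    [AddCommGroup N] [Module R N] [Module.Flat R N] (f : M →ₗ[R] N) (hf : Function.Surjective f) (n : ℕ)
    (t : ⨂[R] _ : Fin n, N) (ht : ∀ σ : Equiv.Perm (Fin n), PiTensorProduct.reindex R (fun _ : Fin n => N) σ t = t) :
    ∃ s : ⨂[R] _ : Fin n, M, (∀ σ : Equiv.Perm (Fin n), PiTensorProduct.reindex R (fun _ : Fin n => M) σ s = s) ∧
      PiTensorProduct.map (fun _ : Fin n => f) s = t := by
  classical
  obtain ⟨I, y, w, hw, hyw⟩ := Groth.Agent.Lib.Helper15.SymLift.exists_sym_lift (A := R) n t ht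
  choose g₀ hg₀ using fun i : I => hf (y (Finsupp.single i 1))
  let g : (I →₀ R) →ₗ[R] M := Finsupp.linearCombination R g₀
  have hfg : f ∘ₗ g = y := by
    apply Finsupp.lhom_ext'
    intro i
    apply LinearMap.ext_ring
    simp only [LinearMap.comp_apply, Finsupp.lsingle_apply, g, Finsupp.linearCombination_single,
      one_smul]
    exact hg₀ i
  refine ⟨PiTensorProduct.map (fun _ => g) w, ?_, ?_⟩
  · intro σ
    have h := PiTensorProduct.map_reindex (R := R) (fun _ : Fin n => g) σ w
    rw [← h, hw σ]
  · rw [Groth.Agent.Lib.Helper15.FlatKill.map_map_apply, hfg, hyw]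

end Groth.Agent.S14672
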