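import Groth.Statements.S14677
import Mathlib

set_option autoImplicit false
universe u
open CAlg

namespace Groth.Agent.S14677

/-- Let A be a Noetherian commutative ring, I and J ideals of A and M a finitely generated A-module.
Then the map of I-adic completions induced by the inclusion of the submodule JM into M is injective
with image exactly J·M̂, where M̂ is the I-adic completion of M; that is, the completion of JM is J
times the completion of M. (The published statement does not say that A is Noetherian; its proof
uses exactness of completion on finitely generated modules, which needs it, so this row assumes A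
Noetherian.) -/
theorem result (A : Type u) [CommRing A] [IsNoetherianRing A] (I J : Ideal A)
    (M : Type u) [AddCommGroup M] [Module A M] [Module.Finite A M] :
    Function.Injective (AdicCompletion.map I (J • (⊤ : Submodule A M)).subtype) ∧
      LinearMap.range (AdicCompletion.map I (J • (⊤ : Submodule A M)).subtype) =
        (J.map (algebraMap A (AdicCompletion I A))) • (⊤ : Submodule (AdicCompletion I A) (AdicCompletion I M)) := by
  classical
  set N : Submodule A M := J • (⊤ : Submodule A M) with hN
  haveI : Module.Finite A N := Module.Finite.of_fg (IsNoetherian.noetherian N)
  refine ⟨AdicCompletion.map_injective I N.injective_subtype, ?_⟩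
  -- key computation
  have key : ∀ (r : AdicCompletion I A) (j : A) (m : M),
      r • AdicCompletion.of I M (j • m) =
        (algebraMap A (AdicCompletion I A) j) • (r • AdicCompletion.of I M m) := by
    intro r j m
    rw [map_smul, smul_comm, algebraMap_smul]
  apply le_antisymm
  · -- range ⊆ J M̂
    rintro _ ⟨x, rfl⟩
    obtain ⟨y, rfl⟩ := AdicCompletion.ofTensorProduct_surjective_of_finite I N x
    have hnat := LinearMap.congr_fun (AdicCompletion.ofTensorProduct_naturality I N.subtype) y
    simp only [LinearMap.comp_apply] at hnat
    rw [hnat]
    clear hnat
    induction y using TensorProduct.induction_on with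
    | zero => simp
    | tmul r n =>
      obtain ⟨n, hn⟩ := n
      simp only [TensorProduct.AlgebraTensorModule.map_tmul, LinearMap.id_apply,
        Submodule.subtype_apply, AdicCompletion.ofTensorProduct_tmul]
      refine Submodule.smul_induction_on (p := fun n => r • AdicCompletion.of I M n ∈
        (J.map (algebraMap A (AdicCompletion I A))) •
          (⊤ : Submodule (AdicCompletion I A) (AdicCompletion I M))) hn ?_ ?_
      · intro j hj m _
        rw [key]
        exact Submodule.smul_mem_smul (Ideal.mem_map_of_mem _ hj) Submodule.mem_top
      · intro a b ha hb
        rw [map_add, smul_add]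
        exact Submodule.add_mem _ ha hb
    | add a b ha hb =>
      rw [map_add, map_add]
      exact Submodule.add_mem _ ha hb
  · -- J M̂ ⊆ range
    rw [Submodule.smul_le]
    intro r hr x _
    -- reduce to generators of J'
    refine Submodule.span_induction (p := fun r _ => ∀ x : AdicCompletion I M,
      r • x ∈ LinearMap.range (AdicCompletion.map I N.subtype)) ?_ ?_ ?_ ?_ hr x
    · rintro _ ⟨j, hj, rfl⟩ x
      obtain ⟨y, rfl⟩ := AdicCompletion.ofTensorProduct_surjective_of_finite I M x
      induction y using TensorProduct.induction_on with
      | zero => simp
      | tmul r m =>
        rw [AdicCompletion.ofTensorProduct_tmul]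
        change (algebraMap A (AdicCompletion I A) j) • (r • AdicCompletion.of I M m) ∈ _
        rw [← key]
        refine ⟨AdicCompletion.ofTensorProduct I N (r ⊗ₜ ⟨j • m,
          Submodule.smul_mem_smul hj Submodule.mem_top⟩), ?_⟩
        have hnat := LinearMap.congr_fun (AdicCompletion.ofTensorProduct_naturality I N.subtype)
          (r ⊗ₜ ⟨j • m, Submodule.smul_mem_smul hj Submodule.mem_top⟩)
        simp only [LinearMap.comp_apply] at hnat
        rw [hnat]
        simp only [TensorProduct.AlgebraTensorModule.map_tmul, LinearMap.id_apply,
          Submodule.subtype_apply, AdicCompletion.ofTensorProduct_tmul]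
      | add a b ha hb =>
        rw [map_add, smul_add]
        exact Submodule.add_mem _ ha hb
    · intro x; simp
    · intro a b _ _ ha hb x
      rw [add_smul]
      exact Submodule.add_mem _ (ha x) (hb x)
    · intro a b _ hb x
      rw [smul_eq_mul, mul_smul]
      exact Submodule.smul_mem _ a (hb x)

end Groth.Agent.S14677
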