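import Groth.Statements.S14679
import Mathlib

set_option autoImplicit false
universe u
open CategoryTheory CategoryTheory.Limits AlgebraicGeometry
open EtBase

namespace Groth.Agent.S14679

theorem residueFieldMap_bijective_of_eq {X Y : Scheme.{u}} (f : X ⟶ Y) (x : ↥X)
    (hx : Function.Bijective (f.residueFieldMap x).hom) (x' : ↥X) (h : x' = x) :
    Function.Bijective (f.residueFieldMap x').hom := by
  subst h
  exact hx

theorem subsingleton_Spec_tensor {X Y Z : Scheme.{u}} (f : X ⟶ Y) (g : Z ⟶ Y)
    (T : Scheme.Pullback.Triplet f g) (hT : Function.Bijective (f.residueFieldMap T.x).hom) :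
    Subsingleton ↥(Spec T.tensor) := by
  haveI : IsIso (f.residueFieldMap T.x) :=
    (ConcreteCategory.isIso_iff_bijective _).mpr hT
  have h1 : IsIso ((Y.residueFieldCongr T.hx).inv ≫ f.residueFieldMap T.x) := inferInstance
  have h2 : IsIso (pushout.inr ((Y.residueFieldCongr T.hx).inv ≫ f.residueFieldMap T.x)
      ((Y.residueFieldCongr T.hy).inv ≫ g.residueFieldMap T.y)) :=
    (IsPushout.of_hasPushout ((Y.residueFieldCongr T.hx).inv ≫ f.residueFieldMap T.x)
      ((Y.residueFieldCongr T.hy).inv ≫ g.residueFieldMap T.y)).isIso_inr_of_isIso h1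
  let e : Z.residueField T.y ≅ T.tensor :=
    @asIso _ _ _ _ (pushout.inr ((Y.residueFieldCongr T.hx).inv ≫ f.residueFieldMap T.x)
      ((Y.residueFieldCongr T.hy).inv ≫ g.residueFieldMap T.y)) h2
  have : Subsingleton (PrimeSpectrum (Z.residueField T.y)) := inferInstance
  exact (PrimeSpectrum.comapEquiv e.commRingCatIsoToRingEquiv).symm.toEquiv.subsingleton

/-- Given a morphism of schemes f : X ⟶ Y and a point x ∈ X with image y = f(x), such that the residue
field map κ(y) → κ(x) is bijective; let ℓ be an algebraic extension field of κ(y) and form the base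
change X ×_Y Spec ℓ along Spec ℓ ⟶ Spec κ(y) ⟶ Y. Then there is exactly one point of X ×_Y Spec ℓ
mapping to x under the first projection. (The published statement takes ℓ to be an algebraic closure
of κ(y), noting that any algebraic extension works, and also identifies the local ring at the point
with O_{X,x} ⊗_{O_{Y,y}} ℓ; this row allows any algebraic extension ℓ and states only the first
assertion.) -/
theorem result {X Y : Scheme.{u}} (f : X ⟶ Y) (x : ↥X)
    (hx : Function.Bijective (f.residueFieldMap x).hom)
    (ℓ : Type u) [Field ℓ] [Algebra (Y.residueField (f.base x)) ℓ] [Algebra.IsAlgebraic (Y.residueField (f.base x)) ℓ] :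
    ∃! z : ↥(pullback f (Spec.map (CommRingCat.ofHom (algebraMap (Y.residueField (f.base x)) ℓ)) ≫ Y.fromSpecResidueField (f.base x))),
      (pullback.fst f (Spec.map (CommRingCat.ofHom (algebraMap (Y.residueField (f.base x)) ℓ)) ≫ Y.fromSpecResidueField (f.base x))).base z = x := by
  set g := Spec.map (CommRingCat.ofHom (algebraMap (Y.residueField (f.base x)) ℓ)) ≫
    Y.fromSpecResidueField (f.base x) with hg
  let z₀ : ↥(Spec (CommRingCat.of ℓ)) := (default : PrimeSpectrum ℓ)
  have hz : ∀ z : ↥(Spec (CommRingCat.of ℓ)), z = z₀ := fun z =>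
    Subsingleton.elim (α := PrimeSpectrum ℓ) _ _
  have hgz : f x = g z₀ := by
    rw [hg, AlgebraicGeometry.Scheme.Hom.comp_apply,
      AlgebraicGeometry.Scheme.fromSpecResidueField_apply]
  obtain ⟨t, ht, -⟩ := AlgebraicGeometry.Scheme.Pullback.exists_preimage_pullback x z₀ hgz
  refine ⟨t, ht, fun t' ht' => ?_⟩
  apply AlgebraicGeometry.Scheme.Pullback.carrierEquiv.injective
  rw [AlgebraicGeometry.Scheme.Pullback.carrierEquiv_eq_iff]
  have hT : (AlgebraicGeometry.Scheme.Pullback.carrierEquiv t').1 =
      (AlgebraicGeometry.Scheme.Pullback.carrierEquiv t).1 :=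
    AlgebraicGeometry.Scheme.Pullback.Triplet.ext (ht'.trans ht.symm) ((hz _).trans (hz _).symm)
  refine ⟨hT, ?_⟩
  haveI : Subsingleton ↥(Spec (AlgebraicGeometry.Scheme.Pullback.carrierEquiv t).1.tensor) :=
    subsingleton_Spec_tensor f g _ (residueFieldMap_bijective_of_eq f x hx _ ht)
  exact Subsingleton.elim _ _

end Groth.Agent.S14679
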