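import Groth.Statements.S14680
import Mathlib

set_option autoImplicit false
universe u
open CAlg

namespace Groth.Agent.S14680

variable {A : Type u} [CommRing A] [IsNoetherianRing A]

omit [IsNoetherianRing A] in
/-- A finite module all of whose completions at maximal ideals vanish is zero. -/
theorem subsingleton_of_forall (K : Type u) [AddCommGroup K] [Module A K] [Module.Finite A K]
    (h : ∀ (m : Ideal A) [m.IsMaximal], Subsingleton (AdicCompletion m K)) : Subsingleton K := by
  by_contra hK
  rw [not_subsingleton_iff_nontrivial] at hK
  have hann : Module.annihilator A K ≠ ⊤ := by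
    intro htop
    obtain ⟨x, hx⟩ := exists_ne (0 : K)
    apply hx
    have : (1 : A) ∈ Module.annihilator A K := by rw [htop]; trivial
    have := Module.mem_annihilator.mp this x
    simpa using this
  obtain ⟨m, hm, hle⟩ := Ideal.exists_le_maximal _ hann
  have hsub := h m
  have htop : (m ^ 1 • ⊤ : Submodule A K) = ⊤ := by
    have hs : Function.Surjective (AdicCompletion.eval m K 1) := AdicCompletion.eval_surjective m K 1
    have : Subsingleton (K ⧸ (m ^ 1 • ⊤ : Submodule A K)) := hs.subsingleton
    exact Submodule.Quotient.subsingleton_iff.mp this
  rw [pow_one] at htop
  obtain ⟨r, hr1, hr2⟩ := Submodule.exists_sub_one_mem_and_smul_eq_zero_of_fg_of_le_smul m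
    (⊤ : Submodule A K) Module.Finite.fg_top (le_of_eq htop.symm)
  have hrann : r ∈ Module.annihilator A K := Module.mem_annihilator.mpr fun x => hr2 x trivial
  have hrm : r ∈ m := hle hrann
  have : (1 : A) ∈ m := by
    have := m.sub_mem hrm hr1
    simpa using this
  exact hm.ne_top ((Ideal.eq_top_iff_one m).mpr this)

/-- Injectivity can be checked on completions at maximal ideals. -/
theorem injective_of_forall {M N : Type u} [AddCommGroup M] [Module A M] [AddCommGroup N]
    [Module A N] [Module.Finite A M] [Module.Finite A N] (f : M →ₗ[A] N)
    (h : ∀ (m : Ideal A) [m.IsMaximal], Function.Injective (AdicCompletion.map m f)) :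
    Function.Injective f := by
  have hNoeth : IsNoetherian A M := isNoetherian_of_isNoetherianRing_of_finite A M
  have hsub : Subsingleton (LinearMap.ker f) := by
    apply subsingleton_of_forall (A := A)
    intro m hm
    -- SES 0 → ker f → M → range f → 0
    have hι : Function.Injective (AdicCompletion.map m (LinearMap.ker f).subtype) :=
      AdicCompletion.map_injective m (LinearMap.ker f).subtype_injective
    have hex : Function.Exact (AdicCompletion.map m (LinearMap.ker f).subtype)
        (AdicCompletion.map m f.rangeRestrict) := by
      apply AdicCompletion.map_exact (LinearMap.ker f).subtype_injective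
      · intro x
        rw [Set.mem_range]
        constructor
        · intro hx
          have : f x = 0 := by
            have := congrArg Subtype.val hx
            simpa using this
          exact ⟨⟨x, this⟩, rfl⟩
        · rintro ⟨y, rfl⟩
          apply Subtype.ext
          simp
      · exact f.surjective_rangeRestrict
    have hcomp : AdicCompletion.map m f =
        (AdicCompletion.map m (LinearMap.range f).subtype).comp
          (AdicCompletion.map m f.rangeRestrict) := by
      rw [AdicCompletion.map_comp]
      congr 1
    have hr : Function.Injective (AdicCompletion.map m f.rangeRestrict) := by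
      have := h m
      rw [hcomp, LinearMap.coe_comp] at this
      exact Function.Injective.of_comp this
    refine ⟨fun a b => ?_⟩
    apply hι
    apply hr
    rw [(hex _).mpr ⟨a, rfl⟩, (hex _).mpr ⟨b, rfl⟩]
  rw [← LinearMap.ker_eq_bot]
  exact Submodule.eq_bot_of_subsingleton

/-- Surjectivity can be checked on completions at maximal ideals. -/
theorem surjective_of_forall {M N : Type u} [AddCommGroup M] [Module A M] [AddCommGroup N]
    [Module A N] [Module.Finite A M] [Module.Finite A N] (g : M →ₗ[A] N)
    (h : ∀ (m : Ideal A) [m.IsMaximal], Function.Surjective (AdicCompletion.map m g)) :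
    Function.Surjective g := by
  have hNoeth : IsNoetherian A N := isNoetherian_of_isNoetherianRing_of_finite A N
  have hsub : Subsingleton (N ⧸ LinearMap.range g) := by
    apply subsingleton_of_forall (A := A)
    intro m hm
    have hex : Function.Exact (AdicCompletion.map m (LinearMap.range g).subtype)
        (AdicCompletion.map m (LinearMap.range g).mkQ) := by
      apply AdicCompletion.map_exact (LinearMap.range g).subtype_injective
      · exact LinearMap.exact_subtype_mkQ _
      · exact Submodule.mkQ_surjective _
    have hq : Function.Surjective (AdicCompletion.map m (LinearMap.range g).mkQ) :=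
      AdicCompletion.map_surjective m (Submodule.mkQ_surjective _)
    have hcomp : AdicCompletion.map m g =
        (AdicCompletion.map m (LinearMap.range g).subtype).comp
          (AdicCompletion.map m g.rangeRestrict) := by
      rw [AdicCompletion.map_comp]
      congr 1
    have hj : Function.Surjective (AdicCompletion.map m (LinearMap.range g).subtype) := by
      have := h m
      rw [hcomp, LinearMap.coe_comp] at this
      exact Function.Surjective.of_comp this
    have hzero : ∀ y, AdicCompletion.map m (LinearMap.range g).mkQ y = 0 := by
      intro y
      obtain ⟨x, rfl⟩ := hj y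
      exact (hex _).mpr ⟨x, rfl⟩
    refine ⟨fun a b => ?_⟩
    obtain ⟨a', rfl⟩ := hq a
    obtain ⟨b', rfl⟩ := hq b
    rw [hzero, hzero]
  rw [← LinearMap.range_eq_top]
  exact Submodule.Quotient.subsingleton_iff.mp hsub

/-- Vanishing of a map can be checked on completions at maximal ideals. -/
theorem eq_zero_of_forall {M N : Type u} [AddCommGroup M] [Module A M] [AddCommGroup N]
    [Module A N] [Module.Finite A M] [Module.Finite A N] (g : M →ₗ[A] N)
    (h : ∀ (m : Ideal A) [m.IsMaximal], AdicCompletion.map m g = 0) : g = 0 := by
  have hNoeth : IsNoetherian A N := isNoetherian_of_isNoetherianRing_of_finite A N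
  have hsub : Subsingleton (LinearMap.range g) := by
    apply subsingleton_of_forall (A := A)
    intro m hm
    have hj : Function.Injective (AdicCompletion.map m (LinearMap.range g).subtype) :=
      AdicCompletion.map_injective m (LinearMap.range g).subtype_injective
    have hr : Function.Surjective (AdicCompletion.map m g.rangeRestrict) :=
      AdicCompletion.map_surjective m g.surjective_rangeRestrict
    have hcomp : AdicCompletion.map m g =
        (AdicCompletion.map m (LinearMap.range g).subtype).comp
          (AdicCompletion.map m g.rangeRestrict) := by
      rw [AdicCompletion.map_comp]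
      congr 1
    have hzero : ∀ y, AdicCompletion.map m (LinearMap.range g).subtype y = 0 := by
      intro y
      obtain ⟨x, rfl⟩ := hr y
      have := LinearMap.congr_fun (hcomp.symm.trans (h m)) x
      simpa using this
    refine ⟨fun a b => ?_⟩
    apply hj
    rw [hzero, hzero]
  ext x
  have : (⟨g x, LinearMap.mem_range_self g x⟩ : LinearMap.range g) = 0 := Subsingleton.elim _ _
  simpa using congrArg Subtype.val this


/-- Let A be a Noetherian commutative ring and f : M' → M, g : M → M'' linear maps between finitely
generated A-modules. Then the sequence 0 → M' → M → M'' → 0 is exact — f injective, the image of f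
equal to the kernel of g, g surjective — if and only if for every maximal ideal m of A the sequence
of m-adic completions 0 → M'^ → M^ → M''^ → 0 (maps induced by f and g) is exact in the same sense. -/
theorem result (A : Type u) [CommRing A] [IsNoetherianRing A]
    (M' M M'' : Type u) [AddCommGroup M'] [Module A M'] [AddCommGroup M] [Module A M] [AddCommGroup M''] [Module A M'']
    [Module.Finite A M'] [Module.Finite A M] [Module.Finite A M''] (f : M' →ₗ[A] M) (g : M →ₗ[A] M'') :
    (Function.Injective f ∧ Function.Exact f g ∧ Function.Surjective g) ↔
      ∀ (m : Ideal A) [m.IsMaximal],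
        Function.Injective (AdicCompletion.map m f) ∧ Function.Exact (AdicCompletion.map m f) (AdicCompletion.map m g) ∧
          Function.Surjective (AdicCompletion.map m g) := by
  have hNoethM : IsNoetherian A M := isNoetherian_of_isNoetherianRing_of_finite A M
  constructor
  · rintro ⟨hf, hfg, hg⟩ m hm
    exact ⟨AdicCompletion.map_injective m hf, AdicCompletion.map_exact hf hfg hg,
      AdicCompletion.map_surjective m hg⟩
  · intro h
    have hf : Function.Injective f := injective_of_forall f fun m hm => (h m).1
    have hg : Function.Surjective g := surjective_of_forall g fun m hm => (h m).2.2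
    have hgf : g ∘ₗ f = 0 := by
      apply eq_zero_of_forall
      intro m hm
      rw [← AdicCompletion.map_comp]
      exact LinearMap.ext fun x => ((h m).2.1 _).mpr ⟨x, rfl⟩
    refine ⟨hf, ?_, hg⟩
    have hle : LinearMap.range f ≤ LinearMap.ker g := by
      rintro _ ⟨x, rfl⟩
      exact LinearMap.congr_fun hgf x
    -- ḡ : M ⧸ range f → M''
    let gbar : (M ⧸ LinearMap.range f) →ₗ[A] M'' := (LinearMap.range f).liftQ g hle
    have hgbar : gbar ∘ₗ (LinearMap.range f).mkQ = g := Submodule.liftQ_mkQ _ _ _
    have hinj : Function.Injective gbar := by
      apply injective_of_forall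
      intro m hm
      have hπ : Function.Surjective (AdicCompletion.map m (LinearMap.range f).mkQ) :=
        AdicCompletion.map_surjective m (Submodule.mkQ_surjective _)
      rw [injective_iff_map_eq_zero]
      intro y hy
      obtain ⟨x, rfl⟩ := hπ y
      have hgx : AdicCompletion.map m g x = 0 := by
        rw [← hgbar, ← AdicCompletion.map_comp]
        exact hy
      obtain ⟨z, rfl⟩ := ((h m).2.1 x).mp hgx
      have : (LinearMap.range f).mkQ ∘ₗ f = 0 := by
        ext w
        simp
      rw [AdicCompletion.map_comp_apply, this, AdicCompletion.map_zero]
      rfl
    intro y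
    constructor
    · intro hy
      have : gbar ((LinearMap.range f).mkQ y) = 0 := by
        have := LinearMap.congr_fun hgbar y
        simpa [hy] using this
      have h0 := (injective_iff_map_eq_zero gbar).mp hinj _ this
      rw [Submodule.mkQ_apply, Submodule.Quotient.mk_eq_zero] at h0
      exact h0
    · intro hy
      exact hle hy

end Groth.Agent.S14680
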