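import Groth.Statements.S14693
import Mathlib.AlgebraicGeometry.Pullbacks
import Mathlib.CategoryTheory.Limits.Constructions.Over.Connected

set_option autoImplicit false
universe u
open CategoryTheory AlgebraicGeometry
open SekSuwa

namespace Groth.Agent.S14693

open CategoryTheory CategoryTheory.Limits in
/-- The coordinate ring of `G_{λ,N}` is the pushout of `ψ` and the counit. -/
theorem isPushout_AK (R : Type u) [CommRing R] (lam : R) (N : ℕ) (h : SekSuwa.DivCond lam N) :
    IsPushout
      (CommRingCat.ofHom ((SekSuwa.psiHom R lam N h : SekSuwa.A R (lam ^ N) →ₐc[R] SekSuwa.A R lam) :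
        SekSuwa.A R (lam ^ N) →+* SekSuwa.A R lam))
      (CommRingCat.ofHom ((Bialgebra.counitAlgHom R (SekSuwa.A R (lam ^ N)) :
        SekSuwa.A R (lam ^ N) →ₐ[R] R) : SekSuwa.A R (lam ^ N) →+* R))
      (CommRingCat.ofHom ((SekSuwa.AK.mkHom R lam N h : SekSuwa.A R lam →ₐc[R] SekSuwa.AK R lam N h) :
        SekSuwa.A R lam →+* SekSuwa.AK R lam N h))
      (CommRingCat.ofHom (algebraMap R (SekSuwa.AK R lam N h))) := by
  have hcomm : CommRingCat.ofHom ((SekSuwa.psiHom R lam N h : SekSuwa.A R (lam ^ N) →ₐc[R] SekSuwa.A R lam) :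
        SekSuwa.A R (lam ^ N) →+* SekSuwa.A R lam) ≫
      CommRingCat.ofHom ((SekSuwa.AK.mkHom R lam N h : SekSuwa.A R lam →ₐc[R] SekSuwa.AK R lam N h) :
        SekSuwa.A R lam →+* SekSuwa.AK R lam N h) =
      CommRingCat.ofHom ((Bialgebra.counitAlgHom R (SekSuwa.A R (lam ^ N)) :
        SekSuwa.A R (lam ^ N) →ₐ[R] R) : SekSuwa.A R (lam ^ N) →+* R) ≫
      CommRingCat.ofHom (algebraMap R (SekSuwa.AK R lam N h)) := by
    ext x
    have := congrArg (fun f : SekSuwa.A R (lam ^ N) →ₐc[R] SekSuwa.AK R lam N h => f x)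
      (SekSuwa.mkHom_comp_psiHom R lam N h)
    exact this
  refine ⟨⟨hcomm⟩, ⟨PushoutCocone.IsColimit.mk _ (fun s => ?_) ?_ ?_ ?_⟩⟩
  · -- the descent map
    have hker : ∀ a ∈ SekSuwa.kerIdeal lam N h, s.inl.hom a = 0 := by
      intro a ha
      obtain ⟨b, rfl⟩ := Ideal.mem_span_singleton'.mp ha
      rw [map_mul]
      have h1 : s.inl.hom (SekSuwa.kerGen lam N h) = 0 := by
        have hc := congrArg (fun f => f.hom (SekSuwa.A.t : SekSuwa.A R (lam ^ N))) s.condition
        simp only [CommRingCat.hom_comp, CommRingCat.hom_ofHom, RingHom.comp_apply] at hc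
        have e1 : ((SekSuwa.psiHom R lam N h : SekSuwa.A R (lam ^ N) →ₐc[R] SekSuwa.A R lam) :
            SekSuwa.A R (lam ^ N) →+* SekSuwa.A R lam) SekSuwa.A.t = SekSuwa.kerGen lam N h :=
          SekSuwa.psiHom_t R lam N h
        have e2 : ((Bialgebra.counitAlgHom R (SekSuwa.A R (lam ^ N)) :
            SekSuwa.A R (lam ^ N) →ₐ[R] R) : SekSuwa.A R (lam ^ N) →+* R) SekSuwa.A.t = 0 :=
          SekSuwa.A.counit_t
        rw [e1, e2, map_zero] at hc
        exact hc
      rw [h1, mul_zero]
    exact CommRingCat.ofHom (Ideal.Quotient.lift (SekSuwa.kerIdeal lam N h) s.inl.hom hker)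
  · intro s
    ext x
    rfl
  · intro s
    ext r
    have hc := congrArg (fun f => f.hom (algebraMap R (SekSuwa.A R (lam ^ N)) r)) s.condition
    simp only [CommRingCat.hom_comp, CommRingCat.hom_ofHom, RingHom.comp_apply] at hc
    have e1 : ((SekSuwa.psiHom R lam N h : SekSuwa.A R (lam ^ N) →ₐc[R] SekSuwa.A R lam) :
        SekSuwa.A R (lam ^ N) →+* SekSuwa.A R lam) (algebraMap R (SekSuwa.A R (lam ^ N)) r) =
        algebraMap R (SekSuwa.A R lam) r :=
      AlgHom.commutes (SekSuwa.psiHom R lam N h : SekSuwa.A R (lam ^ N) →ₐ[R] SekSuwa.A R lam) r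
    have e2 : ((Bialgebra.counitAlgHom R (SekSuwa.A R (lam ^ N)) :
        SekSuwa.A R (lam ^ N) →ₐ[R] R) : SekSuwa.A R (lam ^ N) →+* R)
        (algebraMap R (SekSuwa.A R (lam ^ N)) r) = r :=
      AlgHom.commutes (Bialgebra.counitAlgHom R (SekSuwa.A R (lam ^ N))) r
    rw [e1, e2] at hc
    exact hc
  · intro s m hm1 hm2
    ext x
    obtain ⟨y, rfl⟩ := Ideal.Quotient.mk_surjective x
    have := congrArg (fun f => f.hom y) hm1
    exact this

/-- For any commutative ring R, λ ∈ R and N such that λ is a non-zero-divisor and λ^N divides (1 + λX)^N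
− 1 in R[X] with quotient P_{λ,N}, the closed subgroup scheme G_{λ,N} = Spec R[T]/(P_{λ,N}(T)) of
the affine R-group G^(λ) = Spec R[T, 1/(1+λT)] (group law s + t + λst) is the kernel of the
homomorphism ψ_{λ,N} : G^(λ) → G^(λ^N), T ↦ P_{λ,N}(T): the square with sides the inclusion G_{λ,N}
→ G^(λ), ψ_{λ,N}, the unit section of G^(λ^N) and G_{λ,N} → Spec R is cartesian. (The published
text, over a discrete valuation ring and with N = p^n, introduces G_{λ,n} as the kernel of the
isogeny ψ_{λ,n}; this row is that assertion for every N, including the degenerate N = 0 where ψ is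
trivial and G_{λ,0} = G^(λ).) -/
theorem result (R : Type u) [CommRing R] (lam : R) (N : ℕ) (h : SekSuwa.DivCond lam N) :
    AlgGrp.IsKernel (SekSuwa.incl R lam N h) (SekSuwa.psi R lam N h) := by
  unfold AlgGrp.IsKernel
  have hsq : SekSuwa.incl R lam N h ≫ SekSuwa.psi R lam N h =
      CartesianMonoidalCategory.toUnit (SekSuwa.GK R lam N h) ≫ MonObj.one := by
    rw [SekSuwa.incl_psi]
    rfl
  refine IsPullback.of_map (Over.forget _) hsq ?_
  have hP := AlgebraicGeometry.isPullback_SpecMap_of_isPushout _ _ _ _ (isPushout_AK R lam N h)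
  have hu : (CartesianMonoidalCategory.toUnit (SekSuwa.GK R lam N h)).left =
      Spec.map (CommRingCat.ofHom (algebraMap R (SekSuwa.AK R lam N h))) := by
    rw [← Category.comp_id (CartesianMonoidalCategory.toUnit (SekSuwa.GK R lam N h)).left]
    exact Over.w (CartesianMonoidalCategory.toUnit (SekSuwa.GK R lam N h))
  change IsPullback (SekSuwa.incl R lam N h).left
    (CartesianMonoidalCategory.toUnit (SekSuwa.GK R lam N h)).left (SekSuwa.psi R lam N h).left _
  rw [hu]
  exact hP

end Groth.Agent.S14693
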