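import Groth.Statements.S14708
import Mathlib.CategoryTheory.Sites.CoverLifting
import Mathlib.CategoryTheory.Sites.Over
import Groth.Agent.Lib.Helper10.ExtNat

set_option autoImplicit false
universe u
open HRes

namespace Groth.Agent.S14708

open CategoryTheory in
theorem comp_aux {C : Type*} [Category C] {A0 A1 A2 : C} (t : A0 ⟶ A1) (t' : A0 ⟶ A2)
    (b : A1 ⟶ A2) (c : A2 ⟶ A1) (h1 : t ≫ b = t') (h2 : t' ≫ c = t) :
    t ≫ (b ≫ c) = t ≫ 𝟙 _ := by
  rw [← Category.assoc, h1, h2, Category.comp_id]

open CategoryTheory AlgebraicGeometry in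
/-- On a constant sheaf, the identity isomorphism of `overMapPullback` along `𝟙 S` is the canonical
isomorphism `pullConst`. -/
theorem pullConst_inv_overMapPullbackId (K : Precoverage Scheme.{u}) (S : Scheme.{u})
    (M : AddCommGrpCat.{u + 1}) :
    (HRes.pullConst K (𝟙 S) M).inv ≫
      (K.toGrothendieck.overMapPullbackId AddCommGrpCat.{u + 1} S).hom.app
        ((constantSheaf (QuotSh.J K S) AddCommGrpCat.{u + 1}).obj M) = 𝟙 _ := by
  apply Sheaf.hom_ext
  apply sheafify_hom_ext _ _ _ (ObjectProperty.FullSubcategory.property _)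
  have h1 := Functor.toSheafify_pullbackSheafificationCompatibility (Over.map (𝟙 S))
    AddCommGrpCat.{u + 1} (QuotSh.J K S) (QuotSh.J K S) ((Functor.const _).obj M)
  apply NatTrans.ext
  funext U
  have h1U := congrArg (fun t => t.app U) h1
  have hα := GrothendieckTopology.overMapPullbackId_hom_app_hom_app K.toGrothendieck
    AddCommGrpCat.{u + 1} S ((constantSheaf (QuotSh.J K S) AddCommGrpCat.{u + 1}).obj M) U
  have h3 := (toSheafify (QuotSh.J K S) ((Functor.const (Over S)ᵒᵖ).obj M)).naturality
    ((Over.mapId S).inv.app (Opposite.unop U)).op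
  have h3' : (toSheafify (QuotSh.J K S) ((Functor.const (Over S)ᵒᵖ).obj M)).app
        (Opposite.op ((Over.map (𝟙 S)).obj (Opposite.unop U))) ≫
      (sheafify (QuotSh.J K S) ((Functor.const (Over S)ᵒᵖ).obj M)).map
        ((Over.mapId S).inv.app (Opposite.unop U)).op =
      (toSheafify (QuotSh.J K S) ((Functor.const (Over S)ᵒᵖ).obj M)).app U := by
    rw [← h3]
    exact Category.id_comp _
  exact comp_aux _ _ _ _ h1U (hα ▸ h3')

open CategoryTheory AlgebraicGeometry in
/-- Let S be a scheme, K a precoverage on schemes with its big site over S, F an abelian sheaf on that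
site and n ≥ 0. For every class x ∈ H^n(S, F), restricting x along the identity of S and then
applying the map induced on cohomology by the canonical isomorphism (𝟙_S)⁻¹ F ≅ F gives back x; this
is the identity law of the presheaf U ↦ H^n(U, F) given by the restriction maps. The statement is
asserted for every precoverage K; it has no hypothesis depending on K. -/
theorem result (K : Precoverage Scheme.{u}) (S : Scheme.{u})
    (F : BigSite.Ab K S) (n : ℕ) (x : BigSite.H K S F n) :
    Sheaf.H.map ((K.toGrothendieck.overMapPullbackId AddCommGrpCat.{u + 1} S).hom.app F) n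
      (HRes.pull K (𝟙 S) F n x) = x := by
  rw [Sheaf.H.map_apply, HRes.pull_apply, Abelian.Ext.comp_assoc_of_third_deg_zero]
  have h1 := Groth.Agent.Lib.Helper10.ExtNat.mapExactFunctor_comp_mk₀_app_id
    (BigSite.pullBig K (𝟙 S) AddCommGrpCat.{u + 1})
    (K.toGrothendieck.overMapPullbackId AddCommGrpCat.{u + 1} S).hom x
  have h2 := pullConst_inv_overMapPullbackId K S (AddCommGrpCat.of (ULift.{u + 1} ℤ))
  refine (congrArg (fun t => (Abelian.Ext.mk₀ (HRes.pullConst K (𝟙 S)
    (AddCommGrpCat.of (ULift.{u + 1} ℤ))).inv).comp t (zero_add n)) h1).trans ?_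
  rw [Abelian.Ext.mk₀_comp_mk₀_assoc]
  refine (congrArg (fun t => (Abelian.Ext.mk₀ t).comp x (zero_add n)) h2).trans ?_
  exact Abelian.Ext.mk₀_id_comp x

end Groth.Agent.S14708
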