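import Groth.Statements.S14709
import Mathlib.CategoryTheory.Sites.CoverLifting
import Mathlib.CategoryTheory.Sites.Over
import Groth.Agent.Lib.Helper10.ExtNat

set_option autoImplicit false
universe u
open HRes

namespace Groth.Agent.S14709

open CategoryTheory in
theorem comp_aux {C : Type*} [Category C] {A0 A1 A2 A3 A4 : C} (t0 : A0 ⟶ A1) (t1 : A0 ⟶ A2)
    (t2 : A0 ⟶ A3) (t3 : A0 ⟶ A4)
    (b1 : A1 ⟶ A2) (b2 : A2 ⟶ A3) (c : A3 ⟶ A4) (b3 : A1 ⟶ A4)
    (h1 : t0 ≫ b1 = t1) (h2 : t1 ≫ b2 = t2) (h3 : t2 ≫ c = t3) (h4 : t0 ≫ b3 = t3) :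
    t0 ≫ (b1 ≫ b2 ≫ c) = t0 ≫ b3 := by
  rw [← Category.assoc, h1, ← Category.assoc, h2, h3, h4]

open CategoryTheory AlgebraicGeometry in
/-- Compatibility of the canonical isomorphisms `pullConst` with composition. -/
theorem pullConst_inv_comp (K : Precoverage Scheme.{u}) {S T T' : Scheme.{u}}
    (f : T ⟶ S) (g : T' ⟶ T) (M : AddCommGrpCat.{u + 1}) :
    (HRes.pullConst K g M).inv ≫
      (BigSite.pullBig K g AddCommGrpCat.{u + 1}).map (HRes.pullConst K f M).inv ≫
      (K.toGrothendieck.overMapPullbackComp AddCommGrpCat.{u + 1} g f).hom.app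
        ((constantSheaf (QuotSh.J K S) AddCommGrpCat.{u + 1}).obj M) =
    (HRes.pullConst K (g ≫ f) M).inv := by
  apply Sheaf.hom_ext
  apply sheafify_hom_ext _ _ _ (ObjectProperty.FullSubcategory.property _)
  have hg := Functor.toSheafify_pullbackSheafificationCompatibility (Over.map g)
    AddCommGrpCat.{u + 1} (QuotSh.J K T') (QuotSh.J K T) ((Functor.const _).obj M)
  have hf := Functor.toSheafify_pullbackSheafificationCompatibility (Over.map f)
    AddCommGrpCat.{u + 1} (QuotSh.J K T) (QuotSh.J K S) ((Functor.const _).obj M)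
  have hgf := Functor.toSheafify_pullbackSheafificationCompatibility (Over.map (g ≫ f))
    AddCommGrpCat.{u + 1} (QuotSh.J K T') (QuotSh.J K S) ((Functor.const _).obj M)
  apply NatTrans.ext
  funext U
  have hgU := congrArg (fun t => t.app U) hg
  have hfU := congrArg (fun t => t.app ((Over.map g).op.obj U)) hf
  have hgfU := congrArg (fun t => t.app U) hgf
  have hc := GrothendieckTopology.overMapPullbackComp_hom_app_hom_app K.toGrothendieck
    AddCommGrpCat.{u + 1} g f ((constantSheaf (QuotSh.J K S) AddCommGrpCat.{u + 1}).obj M) U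
  have h3 := (toSheafify (QuotSh.J K S) ((Functor.const (Over S)ᵒᵖ).obj M)).naturality
    ((Over.mapComp g f).hom.app (Opposite.unop U)).op
  have h3' : (toSheafify (QuotSh.J K S) ((Functor.const (Over S)ᵒᵖ).obj M)).app
        (Opposite.op ((Over.map g ⋙ Over.map f).obj (Opposite.unop U))) ≫
      (sheafify (QuotSh.J K S) ((Functor.const (Over S)ᵒᵖ).obj M)).map
        ((Over.mapComp g f).hom.app (Opposite.unop U)).op =
      (toSheafify (QuotSh.J K S) ((Functor.const (Over S)ᵒᵖ).obj M)).app
        (Opposite.op ((Over.map (g ≫ f)).obj (Opposite.unop U))) := by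
    rw [← h3]
    exact Category.id_comp _
  exact comp_aux _ _ _ _ _ _ _ _ hgU hfU (hc ▸ h3') hgfU

open CategoryTheory AlgebraicGeometry in
/-- Let g : T' ⟶ T and f : T ⟶ S be morphisms of schemes, K a precoverage on schemes with its big sites,
F an abelian sheaf on the big site of S and n ≥ 0. For every x ∈ H^n(S, F), the restriction of x
along g ≫ f is the restriction of x along f, restricted further along g, and then carried along the
map induced on cohomology by the canonical isomorphism g⁻¹(f⁻¹ F) ≅ (g ≫ f)⁻¹ F; this is the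
composition law of the presheaf U ↦ H^n(U, F) given by the restriction maps. The statement is
asserted for every precoverage K; it has no hypothesis depending on K. -/
theorem result (K : Precoverage Scheme.{u}) {S T T' : Scheme.{u}}
    (f : T ⟶ S) (g : T' ⟶ T) (F : BigSite.Ab K S) (n : ℕ) (x : BigSite.H K S F n) :
    HRes.pull K (g ≫ f) F n x =
      Sheaf.H.map ((K.toGrothendieck.overMapPullbackComp AddCommGrpCat.{u + 1} g f).hom.app F) n
        (HRes.pull K g ((BigSite.pullBig K f AddCommGrpCat.{u + 1}).obj F) n (HRes.pull K f F n x)) := by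
  rw [Sheaf.H.map_apply, HRes.pull_apply, HRes.pull_apply, HRes.pull_apply,
    Abelian.Ext.mapExactFunctor_comp, Abelian.Ext.mapExactFunctor_mk₀,
    Abelian.Ext.comp_assoc_of_third_deg_zero, Abelian.Ext.comp_assoc_of_third_deg_zero]
  have h1 := Groth.Agent.Lib.Helper10.ExtNat.mapExactFunctor_mapExactFunctor_comp_mk₀_app
    (BigSite.pullBig K f AddCommGrpCat.{u + 1}) (BigSite.pullBig K g AddCommGrpCat.{u + 1})
    (BigSite.pullBig K (g ≫ f) AddCommGrpCat.{u + 1})
    (K.toGrothendieck.overMapPullbackComp AddCommGrpCat.{u + 1} g f).hom x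
  have h2 := pullConst_inv_comp K f g (AddCommGrpCat.of (ULift.{u + 1} ℤ))
  refine Eq.symm ((congrArg (fun t => (Abelian.Ext.mk₀ (HRes.pullConst K g
    (AddCommGrpCat.of (ULift.{u + 1} ℤ))).inv).comp ((Abelian.Ext.mk₀
      ((BigSite.pullBig K g AddCommGrpCat.{u + 1}).map (HRes.pullConst K f
        (AddCommGrpCat.of (ULift.{u + 1} ℤ))).inv)).comp t (zero_add n)) (zero_add n)) h1).trans ?_)
  rw [Abelian.Ext.mk₀_comp_mk₀_assoc, Abelian.Ext.mk₀_comp_mk₀_assoc]
  exact congrArg (fun t => (Abelian.Ext.mk₀ t).comp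
    (x.mapExactFunctor (BigSite.pullBig K (g ≫ f) AddCommGrpCat.{u + 1})) (zero_add n))
    ((Category.assoc _ _ _).trans h2)

end Groth.Agent.S14709
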