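import Groth.Statements.S14727
import Mathlib

set_option autoImplicit false
universe u
open ValPrufer

namespace Groth.Agent.S14727

section Aux
variable {R : Type u} [CommRing R]

/-- the kernel of `R → R_m / J R_m`. -/
def qId (J : Ideal R) (m : Ideal R) [hm : m.IsPrime] : Ideal R where
  carrier := {r | ∃ u, u ∉ m ∧ u * r ∈ J}
  zero_mem' := ⟨1, (Ideal.ne_top_iff_one m).mp hm.ne_top, by simp⟩
  add_mem' := by
    rintro a b ⟨u, hu, hua⟩ ⟨v, hv, hvb⟩
    refine ⟨u * v, hm.mul_notMem hu hv, ?_⟩
    have : u * v * (a + b) = v * (u * a) + u * (v * b) := by ring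
    rw [this]
    exact J.add_mem (J.mul_mem_left _ hua) (J.mul_mem_left _ hvb)
  smul_mem' := by
    rintro c a ⟨u, hu, hua⟩
    refine ⟨u, hu, ?_⟩
    rw [smul_eq_mul, mul_left_comm]
    exact J.mul_mem_left c hua

theorem mem_qId (J : Ideal R) (m : Ideal R) [m.IsPrime] (r : R) :
    r ∈ qId J m ↔ ∃ u, u ∉ m ∧ u * r ∈ J := Iff.rfl

theorem le_qId (J : Ideal R) (m : Ideal R) [m.IsPrime] : J ≤ qId J m := fun r hr =>
  ⟨1, (Ideal.ne_top_iff_one m).mp (Ideal.IsPrime.ne_top inferInstance), by simpa using hr⟩

theorem algebraMap_mem_smul_top_iff (J : Ideal R) (m : Ideal R) [m.IsPrime] (r : R) :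
    algebraMap R (Localization.AtPrime m) r ∈ (J • ⊤ : Submodule R (Localization.AtPrime m)) ↔
      r ∈ qId J m := by
  rw [Ideal.smul_top_eq_map, Submodule.restrictScalars_mem,
    IsLocalization.algebraMap_mem_map_algebraMap_iff m.primeCompl, mem_qId]
  constructor
  · rintro ⟨u, hu, h⟩
    exact ⟨u, hu, h⟩
  · rintro ⟨u, hu, h⟩
    exact ⟨u, hu, h⟩

theorem mem_of_forall_mem_qId (J : Ideal R) (r : R)
    (h : ∀ m : MaximalSpectrum R, J ≤ m.asIdeal → r ∈ qId J m.asIdeal) : r ∈ J := by
  by_contra hr
  let K : Ideal R := Submodule.comap (LinearMap.toSpanSingleton R R r) J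
  have hK : ∀ c, c ∈ K ↔ c * r ∈ J := fun c => by
    simp [K, Submodule.mem_comap, LinearMap.toSpanSingleton_apply]
  have hKtop : K ≠ ⊤ := by
    intro h1
    have : (1 : R) ∈ K := by rw [h1]; trivial
    rw [hK, one_mul] at this
    exact hr this
  obtain ⟨M, hM, hKM⟩ := Ideal.exists_le_maximal K hKtop
  have hJM : J ≤ M := fun c hc => hKM ((hK c).mpr (J.mul_mem_right _ hc))
  obtain ⟨u, hu, hur⟩ := h ⟨M, hM⟩ hJM
  exact hu (hKM ((hK u).mpr hur))

theorem eq_of_qId_le (J : Ideal R) (H : ∀ p : Ideal R, p.IsPrime → J ≤ p → p.IsMaximal)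
    (m : Ideal R) [hm : m.IsMaximal] (p : Ideal R) [hp : p.IsPrime] (hqp : qId J m ≤ p) :
    p = m := by
  have hJp : J ≤ p := (le_qId J m).trans hqp
  have hpmax : p.IsMaximal := H p hp hJp
  by_contra hne
  have : ∃ x ∈ m, x ∉ p := by
    by_contra hcon
    push Not at hcon
    exact hne (hm.eq_of_le hp.ne_top hcon).symm
  obtain ⟨x, hxm, hxp⟩ := this
  let W : Submonoid R := m.primeCompl ⊔ Submonoid.powers x
  have hnd : ¬ Disjoint (J : Set R) (W : Set R) := by
    intro hd
    obtain ⟨P, hP, hJP, hPW⟩ := Ideal.exists_le_prime_disjoint J W hd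
    have hPmax : P.IsMaximal := H P hP hJP
    have hPm : P ≤ m := by
      intro c hc
      by_contra hcm
      exact (Set.disjoint_left.mp hPW hc) ((le_sup_left : m.primeCompl ≤ W) hcm)
    have hPeq : P = m := hPmax.eq_of_le hm.ne_top hPm
    have hxW : x ∈ W := (le_sup_right : Submonoid.powers x ≤ W) (Submonoid.mem_powers x)
    exact Set.disjoint_left.mp hPW (hPeq ▸ hxm) hxW
  rw [Set.not_disjoint_iff] at hnd
  obtain ⟨w, hwJ, hwW⟩ := hnd
  obtain ⟨u, hu, z, ⟨N, rfl⟩, rfl⟩ := Submonoid.mem_sup.mp hwW
  have : x ^ N ∈ qId J m := ⟨u, hu, hwJ⟩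
  exact hxp (hp.mem_of_pow_mem N (hqp this))

theorem exists_algebraMap_sub_mem (J : Ideal R)
    (H : ∀ p : Ideal R, p.IsPrime → J ≤ p → p.IsMaximal)
    (m : Ideal R) [hm : m.IsMaximal] (z : Localization.AtPrime m) :
    ∃ b : R, algebraMap R (Localization.AtPrime m) b - z ∈
      (J • ⊤ : Submodule R (Localization.AtPrime m)) := by
  obtain ⟨x, s, rfl⟩ := IsLocalization.exists_mk'_eq m.primeCompl z
  have htop : Ideal.span {(s : R)} ⊔ qId J m = ⊤ := by
    by_contra hne
    obtain ⟨M, hM, hle⟩ := Ideal.exists_le_maximal _ hne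
    have hMm : M = m := eq_of_qId_le J H m M (le_sup_right.trans hle)
    have : (s : R) ∈ M := hle (Ideal.mem_sup_left (Ideal.mem_span_singleton_self _))
    rw [hMm] at this
    exact s.2 this
  have h1 : (1 : R) ∈ Ideal.span {(s : R)} ⊔ qId J m := by rw [htop]; trivial
  obtain ⟨b', r, hr, hb⟩ := Ideal.mem_span_singleton_sup.mp h1
  obtain ⟨u, hu, hur⟩ := hr
  refine ⟨b' * x, ?_⟩
  rw [Ideal.smul_top_eq_map, Submodule.restrictScalars_mem,
    IsLocalization.mem_map_algebraMap_iff m.primeCompl]
  refine ⟨⟨⟨-(u * r * x), ?_⟩, ⟨u * s, ?_⟩⟩, ?_⟩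
  · exact J.neg_mem (J.mul_mem_right _ hur)
  · exact Submonoid.mul_mem _ hu s.2
  · simp only
    have hspec : IsLocalization.mk' (Localization.AtPrime m) x s *
        algebraMap R (Localization.AtPrime m) s = algebraMap R _ x := IsLocalization.mk'_spec _ _ _
    have e1 : (algebraMap R (Localization.AtPrime m) (b' * x) -
        IsLocalization.mk' (Localization.AtPrime m) x s) *
        algebraMap R (Localization.AtPrime m) (u * s) =
        algebraMap R _ (b' * x * (u * s)) - algebraMap R _ u *
          (IsLocalization.mk' (Localization.AtPrime m) x s * algebraMap R _ s) := by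
      rw [map_mul _ u, map_mul _ (b' * x)]
      simp only [map_mul]
      ring
    rw [e1, hspec, ← map_mul, ← map_sub]
    congr 1
    have : b' * s = 1 - r := by rw [← hb]; ring
    calc b' * x * (u * s) - u * x = u * x * (b' * s) - u * x := by ring
      _ = -(u * r * x) := by rw [this]; ring

end Aux


/-- Let R be a semilocal ring (finitely many maximal ideals) and I an ideal of R of co-height zero, i.e.
every prime ideal containing I is maximal. Then the canonical map from the I-adic completion of R to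
the product, over the maximal ideals m ⊇ I, of the I-adic completions of the local rings R_m
(equivalently their IR_m-adic completions) is bijective; it is the continuous ring isomorphism of
the source, stated here as bijectivity of the canonical map of completed modules. -/
theorem result
    (R : Type u) [CommRing R] (hR : Finite (MaximalSpectrum R)) (I : Ideal R)
    (hI : ∀ (p : Ideal R), p.IsPrime → I ≤ p → p.IsMaximal) :
    Function.Bijective (LinearMap.pi (fun m : {m : MaximalSpectrum R // I ≤ m.asIdeal} =>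
      AdicCompletion.map I (Algebra.linearMap R (Localization.AtPrime m.1.asIdeal)))) := by
  have H : ∀ n : ℕ, ∀ p : Ideal R, p.IsPrime → I ^ n ≤ p → p.IsMaximal := fun n p hp h =>
    hI p hp (hp.le_of_pow_le h)
  -- level-wise injectivity
  have K1 : ∀ (n : ℕ) (a : R), (∀ m : {m : MaximalSpectrum R // I ≤ m.asIdeal},
      algebraMap R (Localization.AtPrime m.1.asIdeal) a ∈
        (I ^ n • ⊤ : Submodule R (Localization.AtPrime m.1.asIdeal))) → a ∈ I ^ n := by
    intro n a h
    apply mem_of_forall_mem_qId (I ^ n) a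
    intro m hm
    have hIm : I ≤ m.asIdeal := m.isMaximal.isPrime.le_of_pow_le hm
    exact (algebraMap_mem_smul_top_iff _ _ _).mp (h ⟨m, hIm⟩)
  -- level-wise surjectivity
  have K2 : ∀ (n : ℕ) (z : ∀ m : {m : MaximalSpectrum R // I ≤ m.asIdeal},
      Localization.AtPrime m.1.asIdeal), ∃ a : R,
      ∀ m : {m : MaximalSpectrum R // I ≤ m.asIdeal},
        algebraMap R (Localization.AtPrime m.1.asIdeal) a - z m ∈
          (I ^ n • ⊤ : Submodule R (Localization.AtPrime m.1.asIdeal)) := by
    intro n z
    have hmax : ∀ m : {m : MaximalSpectrum R // I ≤ m.asIdeal}, m.1.asIdeal.IsMaximal :=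
      fun m => m.1.isMaximal
    have hb : ∀ m : {m : MaximalSpectrum R // I ≤ m.asIdeal}, ∃ b : R,
        algebraMap R (Localization.AtPrime m.1.asIdeal) b - z m ∈
          (I ^ n • ⊤ : Submodule R (Localization.AtPrime m.1.asIdeal)) := fun m =>
      exists_algebraMap_sub_mem (I ^ n) (H n) m.1.asIdeal (z m)
    choose b hb using hb
    have hcop : Pairwise (Function.onFun IsCoprime fun m : {m : MaximalSpectrum R // I ≤ m.asIdeal} =>
        qId (I ^ n) m.1.asIdeal) := by
      intro m m' hne
      change IsCoprime (qId (I ^ n) m.1.asIdeal) (qId (I ^ n) m'.1.asIdeal)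
      rw [Ideal.isCoprime_iff_sup_eq]
      by_contra htop
      obtain ⟨M, hM, hle⟩ := Ideal.exists_le_maximal _ htop
      have h1 : M = m.1.asIdeal := eq_of_qId_le (I ^ n) (H n) m.1.asIdeal M (le_sup_left.trans hle)
      have h2 : M = m'.1.asIdeal :=
        eq_of_qId_le (I ^ n) (H n) m'.1.asIdeal M (le_sup_right.trans hle)
      exact hne (Subtype.ext (MaximalSpectrum.ext (h1.symm.trans h2)))
    obtain ⟨a, ha⟩ := Ideal.exists_forall_sub_mem_ideal hcop b
    refine ⟨a, fun m => ?_⟩
    have e : algebraMap R (Localization.AtPrime m.1.asIdeal) a - z m =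
        algebraMap R (Localization.AtPrime m.1.asIdeal) (a - b m) +
          (algebraMap R (Localization.AtPrime m.1.asIdeal) (b m) - z m) := by
      rw [map_sub]; ring
    rw [e]
    exact Submodule.add_mem _ ((algebraMap_mem_smul_top_iff _ _ _).mpr (ha m)) (hb m)
  constructor
  · rw [injective_iff_map_eq_zero]
    intro x hx
    apply AdicCompletion.ext
    intro n
    obtain ⟨a, ha⟩ := Submodule.Quotient.mk_surjective _ (x.val n)
    rw [← ha, AdicCompletion.val_zero_apply, Submodule.Quotient.mk_eq_zero]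
    have h0 : a ∈ I ^ n := by
      apply K1 n a
      intro m
      have h1 : (AdicCompletion.map I (Algebra.linearMap R (Localization.AtPrime m.1.asIdeal))
          x).val n = 0 := by
        have h2 := congrFun hx m
        rw [LinearMap.pi_apply] at h2
        rw [h2]
        rfl
      rw [AdicCompletion.map_val_apply, ← ha, LinearMap.reduceModIdeal_apply,
        Submodule.Quotient.mk_eq_zero] at h1
      exact h1
    simpa [smul_eq_mul, Ideal.mul_top] using h0
  · intro y
    have hex : ∀ n : ℕ, ∃ a : R, ∀ m : {m : MaximalSpectrum R // I ≤ m.asIdeal},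
        (Submodule.Quotient.mk (algebraMap R (Localization.AtPrime m.1.asIdeal) a) :
          Localization.AtPrime m.1.asIdeal ⧸
            (I ^ n • ⊤ : Submodule R (Localization.AtPrime m.1.asIdeal))) = (y m).val n := by
      intro n
      have hz : ∀ m : {m : MaximalSpectrum R // I ≤ m.asIdeal},
          ∃ z : Localization.AtPrime m.1.asIdeal, Submodule.Quotient.mk z = (y m).val n :=
        fun m => Submodule.Quotient.mk_surjective _ _
      choose z hz using hz
      obtain ⟨a, ha⟩ := K2 n z
      refine ⟨a, fun m => ?_⟩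
      rw [← hz m, Submodule.Quotient.eq]
      exact ha m
    choose a ha using hex
    have hcauchy : AdicCompletion.IsAdicCauchy I R a := by
      rw [AdicCompletion.isAdicCauchy_iff]
      intro n
      rw [SModEq.sub_mem, smul_eq_mul, Ideal.mul_top]
      apply K1 n
      intro m
      rw [map_sub, ← Submodule.Quotient.eq, ha n m]
      have h1 := (y m).property (Nat.le_succ n)
      rw [← h1, ← ha (n + 1) m]
      rfl
    refine ⟨AdicCompletion.mk I R ⟨a, hcauchy⟩, ?_⟩
    funext m
    rw [LinearMap.pi_apply]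
    apply AdicCompletion.ext
    intro n
    rw [AdicCompletion.map_val_apply]
    change LinearMap.reduceModIdeal (I ^ n) (Algebra.linearMap R (Localization.AtPrime m.1.asIdeal))
      (Submodule.Quotient.mk (a n)) = _
    rw [LinearMap.reduceModIdeal_apply, ← ha n m]
    rfl

end Groth.Agent.S14727
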