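import Groth.Statements.S14731
import Groth.Agent.Lib.Helper17.GenericSmooth
import Mathlib.FieldTheory.IntermediateField.Adjoin.Algebra
import Mathlib.FieldTheory.Perfect
import Mathlib.Algebra.Algebra.Rat

set_option autoImplicit false
universe u
open ValPrufer

namespace Groth.Agent.S14731

/-- In characteristic zero, every field K generated as a field by a finite set is the fraction field of
a subring A of K of finite type and smooth over the integers. -/
theorem result
    (K : Type u) [Field K] [CharZero K] (s : Finset K)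
    (hs : Subfield.closure (↑s : Set K) = ⊤) :
    ∃ A : Subring K, Algebra.FiniteType ℤ A ∧ Algebra.Smooth ℤ A ∧ IsFractionRing A K := by
  classical
  have htop : IntermediateField.adjoin ℚ (↑s : Set K) = ⊤ := by
    rw [eq_top_iff]
    intro x _
    have hx : x ∈ Subfield.closure (↑s : Set K) := by rw [hs]; trivial
    have hle : Subfield.closure (↑s : Set K) ≤ (IntermediateField.adjoin ℚ (↑s : Set K)).toSubfield :=
      Subfield.closure_le.2 (IntermediateField.subset_adjoin ℚ _)
    exact hle hx
  have hess : Algebra.EssFiniteType ℚ K := IntermediateField.fg_top_iff.mp ⟨s, htop⟩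
  have h1 : Algebra.FormallySmooth ℚ K := inferInstance
  have h2 : Algebra.FormallySmooth ℤ ℚ := Algebra.FormallySmooth.of_isLocalization (nonZeroDivisors ℤ)
  have h3 : Algebra.FormallySmooth ℤ K := Algebra.FormallySmooth.comp ℤ ℚ K
  have h4 : Algebra.FiniteType ℤ (Algebra.adjoin ℤ (↑s : Set K)) :=
    Algebra.FiniteType.adjoin_of_finite s.finite_toSet
  have h5 : IsFractionRing (Algebra.adjoin ℤ (↑s : Set K)) K :=
    Groth.Agent.Lib.Helper17.GenericSmooth.isFractionRing_adjoin_of_closure_eq_top _ K _ hs
  obtain ⟨A, hA1, hA2, hA3⟩ :=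
    Groth.Agent.Lib.Helper17.GenericSmooth.exists_smooth_subalgebra ℤ K (Algebra.adjoin ℤ (↑s : Set K))
  let e : A ≃+* A.toSubring :=
    { toFun := fun x => ⟨x.1, x.2⟩
      invFun := fun x => ⟨x.1, x.2⟩
      left_inv := fun _ => rfl
      right_inv := fun _ => rfl
      map_mul' := fun _ _ => rfl
      map_add' := fun _ _ => rfl }
  refine ⟨A.toSubring, ?_, ?_, ?_⟩
  · exact Algebra.FiniteType.equiv hA1 e.toIntAlgEquiv
  · exact Algebra.Smooth.of_equiv e.toIntAlgEquiv
  · refine IsFractionRing.of_field A.toSubring K fun z => ?_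
    obtain ⟨x, y, _, hxy⟩ := IsFractionRing.div_surjective A z
    exact ⟨e x, e y, hxy.symm⟩

end Groth.Agent.S14731
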