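import Groth.Statements.S14732
import Groth.Agent.Lib.Helper17.GenericSmooth
import Mathlib.FieldTheory.Finite.Basic
import Mathlib.FieldTheory.IntermediateField.Adjoin.Algebra

set_option autoImplicit false
universe u
open ValPrufer

namespace Groth.Agent.S14732

/-- In characteristic p > 0, a field K that is finitely generated over its prime subfield F (a field
with p elements) is the fraction field of an integral scheme smooth over F; concretely, there is an
F-subalgebra A of K, of finite type and smooth over F, whose fraction field is K. -/
theorem result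
    (K : Type u) [Field K] (p : ℕ) [Fact p.Prime] [CharP K p] (s : Finset K)
    (hs : Subfield.closure (↑s : Set K) = ⊤) :
    ∃ A : Subalgebra (⊥ : Subfield K) K, Algebra.FiniteType (⊥ : Subfield K) A ∧
      Algebra.Smooth (⊥ : Subfield K) A ∧ IsFractionRing A K := by
  classical
  let _ : Fintype (⊥ : Subfield K) := Subfield.fintypeBot K p
  have : Field.FG K := ⟨⟨s, hs⟩⟩
  have : Algebra.EssFiniteType (⊥ : Subfield K) K := Field.fg_iff_essFiniteType.mp inferInstance
  have : Algebra.FormallySmooth (⊥ : Subfield K) K := inferInstance
  have : Algebra.FiniteType (⊥ : Subfield K) (Algebra.adjoin (⊥ : Subfield K) (↑s : Set K)) :=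
    Algebra.FiniteType.adjoin_of_finite s.finite_toSet
  have : IsFractionRing (Algebra.adjoin (⊥ : Subfield K) (↑s : Set K)) K :=
    Groth.Agent.Lib.Helper17.GenericSmooth.isFractionRing_adjoin_of_closure_eq_top _ K _ hs
  exact Groth.Agent.Lib.Helper17.GenericSmooth.exists_smooth_subalgebra (⊥ : Subfield K) K
    (Algebra.adjoin (⊥ : Subfield K) (↑s : Set K))

end Groth.Agent.S14732
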