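import Groth.Statements.S14738
import Groth.Agent.Lib.Helper17.PruferSpec
import Mathlib.RingTheory.Ideal.Operations
import Mathlib.RingTheory.Localization.Away.Basic
import Mathlib.RingTheory.Ideal.Nonunits

set_option autoImplicit false
universe u
open ValPrufer

namespace Groth.Agent.S14738

/-- Let R be a semilocal Prüfer domain (an integral domain with finitely many maximal ideals whose
localisations at primes are valuation rings) of finite Krull dimension, and m a maximal ideal of R.
Then there is a ∈ R with V(a) = {m}, i.e. m is the only prime ideal containing a, and there is b ∉ m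
such that R[1/b] is the localisation R_m (every element outside m becomes invertible after inverting
b); consequently the spectra of the local rings R_m form a Zariski open covering of Spec R. (The
published remark assumes positive Krull dimension to construct a; for R a field the assertions hold
with a = 0 and b = 1. It also takes b to be the product of the elements a_n chosen in the same way
for the other maximal ideals n; that choice fails as soon as a non-maximal prime lies in another
maximal ideal but not in m, e.g. for the intersection of two independent rank-two valuation rings of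
a field, so this row asserts only that some such b exists.) -/
theorem result
    (R : Type u) [CommRing R] [IsDomain R]
    (hR : ∀ (p : Ideal R) [p.IsPrime], ValuationRing (Localization.AtPrime p))
    (hfin : Finite (MaximalSpectrum R)) (hdim : ringKrullDim R < ⊤)
    (m : Ideal R) [m.IsMaximal] :
    (∃ a : R, ∀ (p : Ideal R), p.IsPrime → (a ∈ p ↔ p = m)) ∧
      ∃ b : R, b ∉ m ∧ IsLocalization.AtPrime (Localization.Away b) m := by
  classical
  have hfinSpec : Finite (PrimeSpectrum R) :=
    Groth.Agent.Lib.Helper17.PruferSpec.finite_primeSpectrum R hR hfin hdim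
  let _ : Fintype (PrimeSpectrum R) := Fintype.ofFinite _
  have hmprime : m.IsPrime := Ideal.IsMaximal.isPrime inferInstance
  constructor
  · set s : Finset (PrimeSpectrum R) := Finset.univ.filter (fun p => p.asIdeal ≠ m) with hs
    have hnot : ¬ ((m : Set R) ⊆ ⋃ i ∈ (↑s : Set (PrimeSpectrum R)), (i.asIdeal : Set R)) := by
      intro h
      rw [Ideal.subset_union_prime (f := fun i : PrimeSpectrum R => i.asIdeal)
        (⟨m, hmprime⟩ : PrimeSpectrum R) (⟨m, hmprime⟩ : PrimeSpectrum R)
        (fun i _ _ _ => i.2)] at h
      obtain ⟨i, his, hi⟩ := h
      have h1 : m = i.asIdeal := Ideal.IsMaximal.eq_of_le inferInstance i.2.ne_top hi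
      simp only [hs, Finset.mem_filter, Finset.mem_univ, true_and] at his
      exact his h1.symm
    obtain ⟨a, ham, ha⟩ := Set.not_subset.mp hnot
    refine ⟨a, fun p hp => ⟨fun hap => ?_, fun h => h ▸ ham⟩⟩
    by_contra hne
    apply ha
    simp only [Set.mem_iUnion]
    refine ⟨⟨p, hp⟩, ?_, hap⟩
    simp only [hs, Finset.coe_filter, Finset.mem_univ, true_and, Set.mem_ofPred_eq]
    exact hne
  · set Q : Finset (PrimeSpectrum R) := Finset.univ.filter (fun q => ¬ q.asIdeal ≤ m) with hQ
    have hex : ∀ q : PrimeSpectrum R, ¬ q.asIdeal ≤ m → ∃ x : R, x ∈ q.asIdeal ∧ x ∉ m :=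
      fun q h => Set.not_subset.mp h
    choose! c hc using hex
    set b : R := ∏ q ∈ Q, c q with hb
    have hbm : b ∉ m := by
      intro hbm
      obtain ⟨q, hqQ, hq⟩ := (Ideal.IsPrime.prod_mem_iff (hp := hmprime)).mp hbm
      simp only [hQ, Finset.mem_filter, Finset.mem_univ, true_and] at hqQ
      exact (hc q hqQ).2 hq
    have hbq : ∀ q : PrimeSpectrum R, ¬ q.asIdeal ≤ m → b ∈ q.asIdeal := by
      intro q hq
      have hqQ : q ∈ Q := by
        simp only [hQ, Finset.mem_filter, Finset.mem_univ, true_and]
        exact hq
      exact Ideal.mem_of_dvd _ (Finset.dvd_prod_of_mem c hqQ) (hc q hq).1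
    refine ⟨b, hbm, ?_⟩
    apply IsLocalization.of_le (Submonoid.powers b) m.primeCompl
    · exact (Submonoid.powers_le (P := m.primeCompl)).mpr hbm
    · intro r hr
      by_contra hunit
      obtain ⟨P, hP, hrP⟩ := exists_max_ideal_of_mem_nonunits
        (show algebraMap R (Localization.Away b) r ∈ nonunits _ from hunit)
      have hPprime : P.IsPrime := hP.isPrime
      let q : PrimeSpectrum R := ⟨P.comap (algebraMap R (Localization.Away b)), inferInstance⟩
      have hbq' : b ∉ q.asIdeal := by
        intro hb'
        have h1 : algebraMap R (Localization.Away b) b ∈ P := hb'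
        exact hP.ne_top (Ideal.eq_top_of_isUnit_mem _ h1
          (IsLocalization.Away.algebraMap_isUnit b))
      have hqm : q.asIdeal ≤ m := by
        by_contra h
        exact hbq' (hbq q h)
      exact hr (hqm hrP)

end Groth.Agent.S14738
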