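import Groth.Statements.S14739
import Groth.Agent.Lib.Helper17.PruferSpec
import Mathlib.RingTheory.LocalRing.ResidueField.Fiber
import Mathlib.Topology.NoetherianSpace
import Mathlib.RingTheory.Spectrum.Prime.Noetherian
import Mathlib.RingTheory.FiniteType
import Mathlib.RingTheory.FiniteStability

set_option autoImplicit false
universe u
open ValPrufer

namespace Groth.Agent.S14739

/-- Let R be a semilocal Prüfer domain (an integral domain with finitely many maximal ideals whose
localisations at primes are valuation rings) of finite Krull dimension and S an R-algebra of finite
type. Then Spec S is a Noetherian topological space, and so is Spec T for every localisation T of S.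
(The published remark is for a scheme of finite type over R and the spectrum of any
semilocalisation; the affine case with arbitrary localisations is stated.) -/
theorem result
    (R : Type u) [CommRing R] [IsDomain R]
    (hR : ∀ (p : Ideal R) [p.IsPrime], ValuationRing (Localization.AtPrime p))
    (hfin : Finite (MaximalSpectrum R)) (hdim : ringKrullDim R < ⊤)
    (S : Type u) [CommRing S] [Algebra R S] [Algebra.FiniteType R S]
    (M : Submonoid S) (T : Type u) [CommRing T] [Algebra S T] [IsLocalization M T] :
    TopologicalSpace.NoetherianSpace (PrimeSpectrum S) ∧
      TopologicalSpace.NoetherianSpace (PrimeSpectrum T) := by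
  have hfinSpec : Finite (PrimeSpectrum R) :=
    Groth.Agent.Lib.Helper17.PruferSpec.finite_primeSpectrum R hR hfin hdim
  have hS : TopologicalSpace.NoetherianSpace (PrimeSpectrum S) := by
    rw [← TopologicalSpace.noetherian_univ_iff]
    have hcover : (Set.univ : Set (PrimeSpectrum S)) =
        ⋃ p : PrimeSpectrum R, PrimeSpectrum.comap (algebraMap R S) ⁻¹' {p} := by
      ext q
      simp
    rw [hcover]
    have : ∀ p : PrimeSpectrum R, TopologicalSpace.NoetherianSpace
        (PrimeSpectrum.comap (algebraMap R S) ⁻¹' {p}) := by
      intro p
      rw [TopologicalSpace.noetherianSpace_iff_of_homeomorph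
        (PrimeSpectrum.preimageHomeomorphFiber R S p)]
      have h1 : Algebra.FiniteType p.asIdeal.ResidueField (p.asIdeal.Fiber S) := inferInstance
      have h2 : IsNoetherianRing (p.asIdeal.Fiber S) :=
        Algebra.FiniteType.isNoetherianRing p.asIdeal.ResidueField _
      infer_instance
    exact TopologicalSpace.NoetherianSpace.iUnion _
  refine ⟨hS, ?_⟩
  exact (PrimeSpectrum.localization_comap_isEmbedding T M).isInducing.noetherianSpace

end Groth.Agent.S14739
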