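import Groth.Statements.S1474
import Mathlib
import Groth.Agent.Lib.Helper23.FibProp3
import Groth.Agent.Lib.Helper23.FibProp2
-- import your own Groth.Agent.* helpers here

set_option autoImplicit false
universe u
open FlatMor

namespace Groth.Agent.S1474

open AlgebraicGeometry CategoryTheory Limits Groth.Agent.Lib.Helper23.FibProp

theorem key {X Y : Scheme.{u}} (f : X ⟶ Y) (y : Y) (W : (f.fiber y).Opens)
    (e : W ≤ (f.fiberToSpecResidueField y) ⁻¹ᵁ ⊤) :
    QP PReg ((f.fiberToSpecResidueField y).appLE ⊤ W e).hom ↔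
      @PReg ↑(Y.residueField y) _ ↑Γ(f.fiber y, W) _
        ((Scheme.ΓSpecIso (Y.residueField y)).inv ≫ (f.fiberToSpecResidueField y).appTop ≫
          (f.fiber y).presheaf.map (homOfLE le_top).op).hom.toAlgebra := by
  letI : Algebra ↑(Y.residueField y) ↑Γ(f.fiber y, W) :=
    ((Scheme.ΓSpecIso (Y.residueField y)).inv ≫ (f.fiberToSpecResidueField y).appTop ≫
      (f.fiber y).presheaf.map (homOfLE le_top).op).hom.toAlgebra
  letI : Algebra ↑(Y.residueField y) Γ(Spec (Y.residueField y), ⊤) :=
    (Scheme.ΓSpecIso (Y.residueField y)).inv.hom.toAlgebra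
  letI : Algebra Γ(Spec (Y.residueField y), ⊤) Γ(f.fiber y, W) :=
    ((f.fiberToSpecResidueField y).appLE ⊤ W e).hom.toAlgebra
  haveI : IsScalarTower ↑(Y.residueField y) Γ(Spec (Y.residueField y), ⊤) Γ(f.fiber y, W) :=
    IsScalarTower.of_algebraMap_eq (fun x => rfl)
  have hb : Function.Bijective (algebraMap ↑(Y.residueField y) Γ(Spec (Y.residueField y), ⊤)) :=
    (ConcreteCategory.bijective_of_isIso (Scheme.ΓSpecIso (Y.residueField y)).inv)
  exact homP_iff_of_bijective fibreProp_reg (Y.residueField y) Γ(Spec (Y.residueField y), ⊤)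
    Γ(f.fiber y, W) hb


open AlgebraicGeometry CategoryTheory Limits in
/-- (2) ⇔ (3): let f : X → Y have locally Noetherian fibres. Then the ring maps O_Y(V) → O_X(U) are
regular for all affine opens U ⊆ f⁻¹(V) if and only if f is flat and every fibre X_y is
geometrically regular over κ(y), i.e. every affine open of X_y has Noetherian, geometrically regular
coordinate ring over κ(y). -/
theorem result {X Y : Scheme.{u}} (f : X ⟶ Y) (hN : ∀ y : Y, IsLocallyNoetherian (f.fiber y)) :
    (∀ (U : X.Opens) (V : Y.Opens) (hU : IsAffineOpen U) (hV : IsAffineOpen V) (hUV : U ≤ f ⁻¹ᵁ V),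
        letI := (f.appLE V U hUV).hom.toAlgebra
        CAlg.IsRegularHom Γ(Y, V) Γ(X, U)) ↔
      Flat f ∧ ∀ (y : Y) (W : (f.fiber y).Opens), IsAffineOpen W →
        letI : Algebra ↑(Y.residueField y) ↑Γ(f.fiber y, W) := ((Scheme.ΓSpecIso (Y.residueField y)).inv ≫ (f.fiberToSpecResidueField y).appTop ≫
          (f.fiber y).presheaf.map (homOfLE le_top).op).hom.toAlgebra
        IsNoetherianRing ↑Γ(f.fiber y, W) ∧ CAlg.IsGeometricallyRegular ↑(Y.residueField y) ↑Γ(f.fiber y, W) := by
  have h1 := morP_iff_appLE fibreProp_reg (f := f)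
  constructor
  · intro h
    have hf : MorP PReg f := h1.mpr h
    refine ⟨flat_of_morP fibreProp_reg hf, fun y W hW => ?_⟩
    have hq := morP_fiber fibreProp_reg hf y
    haveI := hasRingHomProperty fibreProp_reg
    have := HasRingHomProperty.appLE (P := MorP PReg) _ hq
      ⟨⊤, isAffineOpen_top_residueField y⟩ ⟨W, hW⟩ le_top
    exact (key f y W le_top).mp this
  · rintro ⟨hflat, h⟩
    refine h1.mp (morP_of_fibres fibreProp_reg hflat (fun y W hW e => ?_))
    exact (key f y W e).mpr (h y W hW)

end Groth.Agent.S1474
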