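import Groth.Statements.S14743
import Mathlib.CategoryTheory.Monoidal.Cartesian.Grp
import Mathlib.CategoryTheory.Limits.Shapes.Pullback.IsPullback.Basic

set_option autoImplicit false
universe u
open CategoryTheory MonoidalCategory CartesianMonoidalCategory MonObj GrpObj AlgebraicGeometry
open AlgGrp

namespace Groth.Agent.S14743

open CategoryTheory MonoidalCategory CartesianMonoidalCategory MonObj in
/-- Abstract splitting lemma in a cartesian monoidal category: if `i` is the kernel of `π`
(commutative group objects), every map `B ⊗ B ⟶ L` is constant, and `π` has a section, then `π`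
has a section which is a homomorphism. -/
theorem exists_hom_section {C : Type*} [Category C] [CartesianMonoidalCategory C] [BraidedCategory C]
    (L G B : C) [GrpObj L] [GrpObj G] [GrpObj B] [IsCommMonObj G] [IsCommMonObj B]
    (i : L ⟶ G) (π : G ⟶ B) [IsMonHom π] (hker : IsPullback i (toUnit L) π η[B])
    (hconst : ∀ f : B ⊗ B ⟶ L, ∃ l : 𝟙_ C ⟶ L, f = toUnit (B ⊗ B) ≫ l)
    (s : B ⟶ G) (hs : s ≫ π = 𝟙 B) :
    ∃ s' : B ⟶ G, IsMonHom s' ∧ s' ≫ π = 𝟙 B := by
  -- normalise the section at the unit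
  obtain ⟨t, ht, hte⟩ : ∃ t : B ⟶ G, t ≫ π = 𝟙 B ∧ η[B] ≫ t = η[G] := by
    refine ⟨s * (toUnit B ≫ η[B] ≫ s)⁻¹, ?_, ?_⟩
    · rw [MonObj.mul_comp, GrpObj.inv_comp, hs, Category.assoc, Category.assoc, hs,
        Category.comp_id, ← Hom.one_def, inv_one, _root_.mul_one]
    · rw [MonObj.comp_mul, GrpObj.comp_inv, ← Category.assoc (η[B]) (toUnit B),
        toUnit_unique (η[B] ≫ toUnit B) (𝟙 _), Category.id_comp, mul_inv_cancel, Hom.one_def,
        toUnit_unique (toUnit (𝟙_ C)) (𝟙 _), Category.id_comp]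
  refine ⟨t, ?_, ht⟩
  -- the defect cocycle
  let c : B ⊗ B ⟶ G := (μ[B] ≫ t) * (fst B B ≫ t)⁻¹ * (snd B B ≫ t)⁻¹
  have hcπ : c ≫ π = toUnit (B ⊗ B) ≫ η[B] := by
    simp only [c]
    rw [MonObj.mul_comp, MonObj.mul_comp, GrpObj.inv_comp, GrpObj.inv_comp, Category.assoc,
      Category.assoc, Category.assoc, ht, Category.comp_id, Category.comp_id, Category.comp_id,
      MonObj.mul_eq_mul, ← Hom.one_def]
    rw [mul_inv_cancel_comm, mul_inv_cancel]
  obtain ⟨c', hc'i, -⟩ := hker.exists_lift c (toUnit (B ⊗ B)) hcπ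
  obtain ⟨l, hl⟩ := hconst c'
  -- evaluate at the unit
  have hc : c = toUnit (B ⊗ B) ≫ (l ≫ i) := by rw [← hc'i, hl, Category.assoc]
  have hee : lift η[B] η[B] ≫ c = η[G] := by
    simp only [c]
    rw [MonObj.comp_mul, MonObj.comp_mul, GrpObj.comp_inv, GrpObj.comp_inv, ← Category.assoc,
      ← Category.assoc, ← Category.assoc, lift_fst, lift_snd, ← Hom.mul_def, hte]
    have h1 : (η[B] * η[B]) = η[B] := by
      rw [MonObj.one_eq_one, _root_.mul_one]
    rw [h1, hte, MonObj.one_eq_one]
    simp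
  have hli : l ≫ i = η[G] := by
    rw [hc, ← Category.assoc, toUnit_unique (lift η[B] η[B] ≫ toUnit (B ⊗ B)) (𝟙 _),
      Category.id_comp] at hee
    exact hee
  have hc1 : c = 1 := by rw [hc, hli, Hom.one_def]
  have hmul : μ[B] ≫ t = (fst B B ≫ t) * (snd B B ≫ t) := by
    have : (μ[B] ≫ t) * (fst B B ≫ t)⁻¹ * (snd B B ≫ t)⁻¹ = 1 := hc1
    rw [_root_.mul_assoc] at this
    have h2 := eq_inv_of_mul_eq_one_left this
    rw [h2, _root_.mul_inv_rev, _root_.inv_inv, _root_.inv_inv, _root_.mul_comm]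
  refine ⟨hte, ?_⟩
  rw [hmul, Hom.mul_def, lift_fst_comp_snd_comp]

/-- Over an algebraically closed field k let L, G, B be commutative k-group schemes, i : L → G and π : G
→ B homomorphisms with i the kernel of π, and suppose that every k-morphism B × B → L is constant
(factors through a k-point of L). If π admits a section which is a morphism of k-schemes, then it
admits a section which is a homomorphism, so the extension splits. (The published statement is for
algebraic groups, that is, of finite type over k; finiteness plays no role and is not assumed here.) -/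
theorem result (k : Type u) [Field k] [IsAlgClosed k]
    (L G B : Over (Spec (CommRingCat.of k))) [GrpObj L] [GrpObj G] [GrpObj B]
    [IsCommMonObj L] [IsCommMonObj G] [IsCommMonObj B]
    (i : L ⟶ G) [IsMonHom i] (π : G ⟶ B) [IsMonHom π] (hker : AlgGrp.IsKernel i π)
    (hconst : ∀ f : B ⊗ B ⟶ L, ∃ l : 𝟙_ (Over (Spec (CommRingCat.of k))) ⟶ L, f = toUnit (B ⊗ B) ≫ l)
    (s : B ⟶ G) (hs : s ≫ π = 𝟙 B) :
    ∃ s' : B ⟶ G, IsMonHom s' ∧ s' ≫ π = 𝟙 B := by
  exact exists_hom_section L G B i π hker hconst s hs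

end Groth.Agent.S14743
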