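import Groth.Statements.S14745
import Mathlib.Algebra.BigOperators.GroupWithZero.Action
import Mathlib.Algebra.Module.BigOperators
import Mathlib.RingTheory.Ideal.Span
import Mathlib.Algebra.Algebra.Basic
import Mathlib.Data.Fintype.BigOperators

set_option autoImplicit false
universe u v w
open CAlg

namespace Groth.Agent.S14745

/-- Let k be a field of characteristic zero, A a commutative k-algebra on which a finite group Γ acts by
k-algebra automorphisms, and I the ideal of A generated by a set of Γ-invariant elements. Then the
Γ-invariants of A map onto the Γ-invariants of A/I: every element of A whose class modulo I is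
Γ-invariant is congruent modulo I to a Γ-invariant element. (The published statement takes A
finitely generated and finitely many invariant generators; neither finiteness is used.) -/
theorem result (k : Type u) [Field k] [CharZero k]
    (A : Type v) [CommRing A] [Algebra k A] (Γ : Type w) [Group Γ] [Finite Γ]
    [MulSemiringAction Γ A] [SMulCommClass Γ k A]
    (S : Set A) (hS : ∀ f ∈ S, ∀ γ : Γ, γ • f = f) (a : A) (ha : ∀ γ : Γ, γ • a - a ∈ Ideal.span S) :
    ∃ b : A, (∀ γ : Γ, γ • b = b) ∧ a - b ∈ Ideal.span S := by
  classical
  haveI : Fintype Γ := Fintype.ofFinite Γ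
  set n : ℕ := Fintype.card Γ with hn
  have hn0 : (n : k) ≠ 0 := by
    have : n ≠ 0 := Fintype.card_ne_zero
    exact_mod_cast this
  set I := Ideal.span S with hI
  -- I is stable under k-scalars
  have hIk : ∀ (c : k) (x : A), x ∈ I → c • x ∈ I := by
    intro c x hx
    rw [Algebra.smul_def]
    exact I.mul_mem_left _ hx
  set s : A := ∑ γ : Γ, γ • a with hs
  refine ⟨(n : k)⁻¹ • s, ?_, ?_⟩
  · intro γ
    rw [smul_comm γ ((n : k)⁻¹) s]
    congr 1
    rw [hs, Finset.smul_sum]
    simp_rw [← mul_smul]
    exact Fintype.sum_bijective (fun δ => γ * δ) (Group.mulLeft_bijective γ) _ _ (fun _ => rfl)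
  · have h1 : a - (n : k)⁻¹ • s = (n : k)⁻¹ • ∑ γ : Γ, (a - γ • a) := by
      rw [Finset.sum_sub_distrib, smul_sub, ← hs]
      congr 1
      rw [Finset.sum_const, Finset.card_univ, ← hn, ← Nat.cast_smul_eq_nsmul k, ← mul_smul,
        inv_mul_cancel₀ hn0, one_smul]
    rw [h1]
    apply hIk
    apply I.sum_mem
    intro γ _
    have := ha γ
    rw [← neg_sub]
    exact I.neg_mem this

end Groth.Agent.S14745
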