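import Groth.Statements.S14751
import Groth.Agent.Lib.Helper10.RigidAA8
import Groth.Agent.Lib.Helper10.HomSp1

set_option autoImplicit false
universe u
open CategoryTheory CategoryTheory.Limits MonoidalCategory CartesianMonoidalCategory MonObj GrpObj AlgebraicGeometry
open AlgGrp

namespace Groth.Agent.S14751

set_option maxHeartbeats 1600000 in
/-- a pullback of closed immersions from a proper and from an affine scheme is finite. -/
theorem isFinite_of_isPullback {k : Type u} [Field k]
    {K A N G : Over (Spec (CommRingCat.of k))} (α : K ⟶ A) (β : K ⟶ N) (f : A ⟶ G) (g : N ⟶ G)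
    (h : IsPullback α β f g) [IsProper A.hom] [IsAffine N.left] [IsClosedImmersion f.left]
    [IsClosedImmersion g.left] : IsFinite K.hom := by
  have h' : IsPullback α.left β.left f.left g.left := h.map (Over.forget _)
  haveI : IsClosedImmersion α.left :=
    MorphismProperty.of_isPullback (P := @IsClosedImmersion) h'.flip inferInstance
  haveI : IsClosedImmersion β.left :=
    MorphismProperty.of_isPullback (P := @IsClosedImmersion) h' inferInstance
  haveI : IsProper K.hom := by
    rw [← Over.w α]; infer_instance
  haveI : IsAffine K.left := isAffine_of_isAffineHom β.left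
  haveI : IsAffineHom K.hom := inferInstance
  exact IsFinite.iff_isProper_and_isAffineHom.mpr ⟨inferInstance, inferInstance⟩

/-- Over an algebraically closed field k let G be a group variety (smooth connected k-group scheme of
finite type), i : N → G an affine closed subgroup scheme which is the kernel of a flat surjective
homomorphism π : G → Q, and j : A → G an abelian subvariety (a smooth connected proper closed
subgroup scheme) with A · N = G, that is, the multiplication A × N → G is surjective. Then the
multiplication A × N → G is a homomorphism and an isogeny (surjective with finite kernel), and so is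
the composite A → G → Q. (In the published statement N is the largest connected affine normal
subgroup variety and Q = G/N the Albanese quotient; only the listed properties are used.) -/
theorem result (k : Type u) [Field k] [IsAlgClosed k]
    (G N A Q : Over (Spec (CommRingCat.of k))) [GrpObj G] [GrpObj N] [GrpObj A] [GrpObj Q]
    [Smooth G.hom] [QuasiCompact G.hom] [ConnectedSpace ↥G.left]
    (i : N ⟶ G) [IsMonHom i] [IsClosedImmersion i.left] [IsAffine N.left]
    (π : G ⟶ Q) [IsMonHom π] [Flat π.left] [Surjective π.left] (hker : AlgGrp.IsKernel i π)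
    (j : A ⟶ G) [IsMonHom j] [IsClosedImmersion j.left] [Smooth A.hom] [ConnectedSpace ↥A.left] [IsProper A.hom]
    (hsurj : Surjective ((j ⊗ₘ i) ≫ μ[G]).left) :
    IsMonHom ((j ⊗ₘ i) ≫ μ[G]) ∧ SGA7.IsIsogenyOver ((j ⊗ₘ i) ≫ μ[G]) ∧ SGA7.IsIsogenyOver (j ≫ π) := by
  haveI : Subsingleton ↥(Spec (CommRingCat.of k)) :=
    inferInstanceAs (Subsingleton (PrimeSpectrum k))
  have hO := Groth.Agent.Lib.Helper10.RigidAA.bijective_of_proper_smooth A
  haveI : LocallyOfFiniteType G.hom := inferInstance
  have hcentral : ∀ {T : Over (Spec (CommRingCat.of k))} (a : T ⟶ A) (g : T ⟶ G),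
      (a ≫ j) * g = g * (a ≫ j) := fun a g =>
    Groth.Agent.Lib.Helper10.RigidAA.central_of_antiAffine A G hO j a g
  have hm : (j ⊗ₘ i) ≫ μ[G] = (fst A N ≫ j) * (snd A N ≫ i) := by
    rw [Hom.mul_def]
    congr 1
  have hiπ : i ≫ π = 1 := by
    have := hker.w
    rw [this, Hom.one_def]
  -- Part 1: multiplication is a homomorphism
  have hmon : IsMonHom ((j ⊗ₘ i) ≫ μ[G]) := by
    rw [hm]
    constructor
    · rw [MonObj.one_eq_one (A ⊗ N), MonObj.comp_mul, MonObj.one_comp, MonObj.one_comp,
        _root_.one_mul, MonObj.one_eq_one G]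
    · have hμ : μ[A ⊗ N] = fst (A ⊗ N) (A ⊗ N) * snd (A ⊗ N) (A ⊗ N) := by
        rw [Hom.mul_def]
        have : lift (fst (A ⊗ N) (A ⊗ N)) (snd (A ⊗ N) (A ⊗ N)) = 𝟙 _ := by
          apply CartesianMonoidalCategory.hom_ext <;> simp
        rw [this, Category.id_comp]
      have hr : (((fst A N ≫ j) * (snd A N ≫ i)) ⊗ₘ ((fst A N ≫ j) * (snd A N ≫ i))) ≫ μ[G] =
          (fst (A ⊗ N) (A ⊗ N) ≫ ((fst A N ≫ j) * (snd A N ≫ i))) *
            (snd (A ⊗ N) (A ⊗ N) ≫ ((fst A N ≫ j) * (snd A N ≫ i))) := by
        rw [Hom.mul_def]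
        congr 1
      rw [hr, hμ, MonObj.comp_mul, MonObj.comp_mul, MonObj.comp_mul, ← Category.assoc,
        ← Category.assoc, MonObj.mul_comp, MonObj.mul_comp, MonObj.mul_comp, MonObj.mul_comp]
      simp only [Category.assoc]
      have hc := hcentral (snd (A ⊗ N) (A ⊗ N) ≫ fst A N) (fst (A ⊗ N) (A ⊗ N) ≫ snd A N ≫ i)
      simp only [Category.assoc] at hc
      rw [_root_.mul_assoc, ← _root_.mul_assoc (snd (A ⊗ N) (A ⊗ N) ≫ fst A N ≫ j), hc,
        _root_.mul_assoc, ← _root_.mul_assoc]
  refine ⟨hmon, ⟨hsurj, ?_⟩, ⟨?_, ?_⟩⟩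
  · -- kernel of the multiplication is finite
    intro K κ hK
    have hK' : IsPullback κ (toUnit K) ((fst A N ≫ j) * (snd A N ≫ i)) η[G] := by
      rw [← hm]; exact hK
    have hκ : (κ ≫ fst A N ≫ j) * (κ ≫ snd A N ≫ i) = 1 := by
      have := hK'.w
      rw [MonObj.comp_mul] at this
      rw [this, Hom.one_def]
    have hinvj : ∀ {T : Over (Spec (CommRingCat.of k))} (a : T ⟶ A), a⁻¹ ≫ j = (a ≫ j)⁻¹ := by
      intro T a
      apply eq_inv_of_mul_eq_one_left
      rw [← MonObj.mul_comp, inv_mul_cancel, MonObj.one_comp]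
    have hpb : IsPullback (κ ≫ fst A N) (κ ≫ snd A N) (ι[A] ≫ j) i := by
      refine Groth.Agent.Lib.Helper10.HomSp.isPullback_of_lift _ _ _ _ ?_
        (fun {W} a n han => hK'.lift (lift a n) (toUnit W) (by
          rw [MonObj.comp_mul, lift_fst_assoc, lift_snd_assoc, ← han, ← Category.assoc,
            ← Hom.inv_def, hinvj, mul_inv_cancel, Hom.one_def])) ?_ ?_ ?_
      · rw [Category.assoc, ← Category.assoc (fst A N), ← Hom.inv_def, Category.assoc, hinvj,
          GrpObj.comp_inv]
        exact inv_eq_of_mul_eq_one_right hκ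
      · intro W a n han
        rw [← Category.assoc, IsPullback.lift_fst, lift_fst]
      · intro W a n han
        rw [← Category.assoc, IsPullback.lift_fst, lift_snd]
      · intro W m₁ m₂ h1 h2
        apply hK'.hom_ext
        · apply CartesianMonoidalCategory.hom_ext
          · simpa only [Category.assoc] using h1
          · simpa only [Category.assoc] using h2
        · exact toUnit_unique _ _
    haveI : IsClosedImmersion (ι[A] ≫ j).left := by
      rw [Over.comp_left]
      haveI : IsIso ι[A] := ⟨⟨ι[A], by simp, by simp⟩⟩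
      haveI : IsIso ι[A].left := inferInstanceAs (IsIso ((Over.forget _).map ι[A]))
      infer_instance
    exact isFinite_of_isPullback _ _ _ _ hpb
  · -- surjectivity of `j ≫ π`
    have h1 : ((j ⊗ₘ i) ≫ μ[G]) ≫ π = fst A N ≫ j ≫ π := by
      rw [hm, MonObj.mul_comp, Category.assoc, Category.assoc, hiπ, MonObj.comp_one, _root_.mul_one]
    constructor
    intro q
    obtain ⟨g, rfl⟩ := ‹Surjective π.left›.surj q
    obtain ⟨z, rfl⟩ := hsurj.surj g
    refine ⟨(fst A N).left z, ?_⟩
    have := congrArg (fun t => t.left z) h1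
    simp only [Over.comp_left, Scheme.Hom.comp_apply] at this
    exact this.symm
  · -- kernel of `j ≫ π` is finite
    intro K κ hK
    have hw : (κ ≫ j) ≫ π = toUnit K ≫ η[Q] := by rw [Category.assoc]; exact hK.w
    let ν : K ⟶ N := hker.lift (κ ≫ j) (toUnit K) hw
    have hν : ν ≫ i = κ ≫ j := hker.lift_fst _ _ _
    have hpb : IsPullback κ ν j i := by
      refine Groth.Agent.Lib.Helper10.HomSp.isPullback_of_lift _ _ _ _ hν.symm
        (fun {W} a n han => hK.lift a (toUnit W) (by
          rw [← Category.assoc, han, Category.assoc, hiπ, MonObj.comp_one, Hom.one_def])) ?_ ?_ ?_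
      · intro W a n han
        exact IsPullback.lift_fst _ _ _ _
      · intro W a n han
        haveI : Mono i := by
          haveI : Mono i.left := inferInstance
          exact (Over.forget _).mono_of_mono_map ‹_›
        rw [← cancel_mono i, Category.assoc, hν, ← Category.assoc, IsPullback.lift_fst, han]
      · intro W m₁ m₂ h1 h2
        apply hK.hom_ext h1
        exact toUnit_unique _ _
    exact isFinite_of_isPullback _ _ _ _ hpb

end Groth.Agent.S14751
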