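import Groth.Statements.S14767
import Groth.Agent.Lib27.ValChain
import Groth.Agent.Lib27.Sch.QcClosed

set_option autoImplicit false
universe u
open CategoryTheory CategoryTheory.Limits AlgebraicGeometry
open Subtr

namespace Groth.Agent.S14767

/-- Let f : X ⟶ Y be a quasi-compact morphism of schemes. Then f is universally submersive if and only
if, for every valuation ring V and every morphism Spec V ⟶ Y, the base change X ×_Y Spec V ⟶ Spec V
is submersive (its underlying continuous map is a quotient map). (The published statement asks
instead that f be universally submersive for the constructible topologies, which holds for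
quasi-compact surjective morphisms; both sides here force f to be surjective.) -/
theorem result {X Y : Scheme.{u}} (f : X ⟶ Y) [QuasiCompact f] :
    SGA1.UnivSubmersive f ↔
      ∀ (V : Type u) [CommRing V] [IsDomain V] [ValuationRing V] (g : Spec (CommRingCat.of V) ⟶ Y),
        Topology.IsQuotientMap (pullback.snd f g) := by
  constructor
  · intro hf V _ _ _ g
    exact hf (pullback.fst f g) g (pullback.snd f g) (IsPullback.of_hasPullback f g).flip
  · intro H X' Y' i₁ i₂ f' hpb
    -- base change to valuation rings over Y'
    have key : ∀ (V : Type u) [CommRing V] [IsDomain V] [ValuationRing V]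
        (g : Spec (CommRingCat.of V) ⟶ Y'), Topology.IsQuotientMap (pullback.snd f' g) := by
      intro V _ _ _ g
      have hP : IsPullback (pullback.fst f' g ≫ i₁) (pullback.snd f' g) f (g ≫ i₂) :=
        (IsPullback.of_hasPullback f' g).paste_horiz hpb.flip
      have e : pullback.snd f' g = hP.isoPullback.hom ≫ pullback.snd f (g ≫ i₂) :=
        (hP.isoPullback_hom_snd).symm
      rw [e]
      have h1 : Topology.IsQuotientMap (pullback.snd f (g ≫ i₂)) := H V (g ≫ i₂)
      have h2 : Topology.IsQuotientMap hP.isoPullback.hom :=
        (Scheme.homeoOfIso hP.isoPullback).isQuotientMap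
      exact h1.comp h2
    have hqc : QuasiCompact f' :=
      MorphismProperty.of_isPullback (P := @QuasiCompact) hpb.flip inferInstance
    -- the valuative argument
    have hval : ∀ {y' y : Y'}, y' ⤳ y → y ∈ Set.range f' ∧
        ∀ Z : Set Y', IsClosed (f' ⁻¹' Z) → y' ∈ Z → y ∈ Z := by
      intro y' y hyy
      let z : ℕ → Y' := fun i => if i = 0 then y' else y
      have hz : ∀ i, z i ⤳ z (i + 1) := by
        intro i
        by_cases hi : i = 0
        · subst hi
          simpa [z] using hyy
        · simp only [z, hi, if_false, Nat.succ_ne_zero]
          exact specializes_rfl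
      obtain ⟨V, _, _, _, g, q, hq1, hq2⟩ :=
        Groth.Agent.Lib27.ValChain.exists_valuationRing_of_chain z hz 1
      have hq01 : q 0 ⤳ q 1 := hq1 0 1 (by omega) le_rfl
      have hg0 : g (q 0) = y' := by simpa [z] using hq2 0 (by omega)
      have hg1 : g (q 1) = y := by simpa [z] using hq2 1 le_rfl
      have Q := key V g
      have hcond : ∀ p : ↥(pullback f' g), f' (pullback.fst f' g p) = g (pullback.snd f' g p) := by
        intro p
        rw [← Scheme.Hom.comp_apply, ← Scheme.Hom.comp_apply, pullback.condition]
      constructor
      · obtain ⟨p, hp⟩ := Q.surjective (q 1)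
        exact ⟨pullback.fst f' g p, by rw [hcond, hp, hg1]⟩
      · intro Z hZ hy'
        have hT : IsClosed (g ⁻¹' Z) := by
          rw [← Q.isClosed_preimage]
          have : (pullback.snd f' g) ⁻¹' (g ⁻¹' Z) = (pullback.fst f' g) ⁻¹' (f' ⁻¹' Z) := by
            ext p
            show g (pullback.snd f' g p) ∈ Z ↔ f' (pullback.fst f' g p) ∈ Z
            rw [hcond]
          rw [this]
          exact hZ.preimage (pullback.fst f' g).continuous
        have h0 : q 0 ∈ g ⁻¹' Z := by
          show g (q 0) ∈ Z
          rw [hg0]; exact hy'
        have h1 : q 1 ∈ g ⁻¹' Z := hq01.mem_closed hT h0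
        rw [← hg1]
        exact h1
    show Topology.IsQuotientMap f'
    rw [Topology.isQuotientMap_iff_isClosed]
    have hsurj : Function.Surjective f' := fun y => (hval (specializes_rfl (x := y))).1
    refine ⟨hsurj, fun Z => ⟨fun hZ => hZ.preimage f'.continuous, fun hZ => ?_⟩⟩
    apply Groth.Agent.Lib27.QcClosed.isClosed_of_stableUnderSpecialization f' Z hZ
    · intro y _
      exact hsurj y
    · intro y' y hyy hy'
      exact (hval hyy).2 Z hZ hy'

end Groth.Agent.S14767
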