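import Groth.Statements.S14789
import Mathlib

set_option autoImplicit false
universe u
open CategoryTheory CategoryTheory.Limits AlgebraicGeometry
open Subtr

namespace Groth.Agent.S14789

section helpers
open CategoryTheory CategoryTheory.Limits AlgebraicGeometry
open Subtr

/-- Every point of a quasi-sober T0 space has a maximal generization. -/
theorem exists_maximal_generization {α : Type*} [TopologicalSpace α] [QuasiSober α] [T0Space α]
    (y : α) : ∃ y' : α, y' ⤳ y ∧ ∀ z : α, z ⤳ y' → z = y' := by
  have hirr : IsIrreducible (irreducibleComponent y) := isIrreducible_irreducibleComponent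
  have hcl : IsClosed (irreducibleComponent y) := isClosed_irreducibleComponent
  obtain ⟨η, hη⟩ := QuasiSober.sober hirr hcl
  refine ⟨η, ?_, ?_⟩
  · rw [specializes_iff_mem_closure, hη.def]
    exact mem_irreducibleComponent
  · intro z hz
    have h1 : closure ({η} : Set α) ⊆ closure ({z} : Set α) := by
      apply closure_minimal _ isClosed_closure
      rw [Set.singleton_subset_iff]
      exact specializes_iff_mem_closure.1 hz
    have hzirr : IsIrreducible (closure ({z} : Set α)) := isIrreducible_singleton.closure
    have h2 : irreducibleComponent y ⊆ closure ({z} : Set α) := by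
      rw [← hη.def]; exact h1
    have h3 : closure ({z} : Set α) = irreducibleComponent y := by
      have hmem := irreducibleComponent_mem_irreducibleComponents y
      exact (hmem.2 hzirr h2).antisymm h2 |>.symm ▸ rfl
    have hz' : IsGenericPoint z (irreducibleComponent y) := h3
    exact hz'.eq hη

theorem main {X Y : Scheme.{u}} (f : X ⟶ Y)
    (hf : Subtr.IsSSubtrusive f) (U : Set Y) (hU : ∀ y : Y, (∀ y' : Y, y' ⤳ y → y' = y) → y ∈ U) :
    f '' closure (f ⁻¹' U) = Set.univ := by
  rw [Set.eq_univ_iff_forall]
  intro y
  obtain ⟨y', hy', hmax⟩ := exists_maximal_generization y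
  obtain ⟨x, x', hxx, hx, hx'⟩ := hf hy'
  refine ⟨x, ?_, hx⟩
  have hx'U : x' ∈ f ⁻¹' U := by
    show f x' ∈ U
    rw [hx']
    exact hU y' hmax
  have : x ∈ closure ({x'} : Set X) := specializes_iff_mem_closure.1 hxx
  exact closure_mono (Set.singleton_subset_iff.2 hx'U) this

end helpers

/-- Let f : X ⟶ Y be a morphism of schemes with the lifting property for ordered pairs of points, and U
⊆ Y a subset containing every maximal point of Y (every point all of whose generizations are equal
to it). Then the closure of f⁻¹(U) maps onto Y. -/
theorem result {X Y : Scheme.{u}} (f : X ⟶ Y)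
    (hf : Subtr.IsSSubtrusive f) (U : Set Y) (hU : ∀ y : Y, (∀ y' : Y, y' ⤳ y → y' = y) → y ∈ U) :
    f '' closure (f ⁻¹' U) = Set.univ := by
  exact main f hf U hU

end Groth.Agent.S14789
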