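import Groth.Statements.S14799
import Mathlib
import Groth.Agent.Lib.Helper11.HJFrac

set_option autoImplicit false
open HJFrac

namespace Groth.Agent.S14799

open Groth.Agent.Lib.Helper11.HJ in
/-- Let 0 < r < n be coprime integers and n/r = b₁ - 1/(b₂ - 1/(⋯ - 1/b_λ)) the Hirzebruch–Jung
expansion (λ ≥ 1, every b_i ≥ 2); let m₁, m₂ be positive integers prime to n with r m₂ + m₁ ≡ 0 mod
n, and let μ₁, …, μ_λ be positive integers with b_i μ_i = μ_{i-1} + μ_{i+1} for 1 ≤ i ≤ λ, where μ₀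
= m₂ and μ_{λ+1} = m₁. Then gcd(m₁, μ₁, …, μ_λ, m₂) = gcd(m₁, m₂); equivalently gcd(m₁, m₂) divides
every μ_i. -/
theorem result (l : ℕ) (hl : 1 ≤ l) (b : ℕ → ℤ)
    (hb : ∀ i, 1 ≤ i → i ≤ l → 2 ≤ b i)
    (n r : ℕ) (hr : 0 < r) (hrn : r < n) (hcop : Nat.Coprime r n)
    (hhj : (n : ℚ) / r = HJFrac.hjVal ((List.range l).map fun i => b (i + 1)))
    (m₁ m₂ : ℕ) (hm₁ : 0 < m₁) (hm₂ : 0 < m₂) (h₁ : Nat.Coprime m₁ n) (h₂ : Nat.Coprime m₂ n)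
    (hdvd : (n : ℤ) ∣ r * m₂ + m₁)
    (μ : ℕ → ℤ) (hμ0 : μ 0 = m₂) (hμl : μ (l + 1) = m₁) (hμpos : ∀ i, i ≤ l + 1 → 0 < μ i)
    (hsys : ∀ i, 1 ≤ i → i ≤ l → b i * μ i = μ (i - 1) + μ (i + 1)) :
    ∀ i, i ≤ l + 1 → ((Nat.gcd m₁ m₂ : ℕ) : ℤ) ∣ μ i := by
  obtain ⟨-, -, -, hk⟩ := key l hl b hb n r hr hcop hhj μ hsys
  rw [hμ0, hμl] at hk
  have hd1 : ((Nat.gcd m₁ m₂ : ℕ) : ℤ) ∣ (m₁ : ℤ) := by
    exact_mod_cast Nat.gcd_dvd_left m₁ m₂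
  have hd2 : ((Nat.gcd m₁ m₂ : ℕ) : ℤ) ∣ (m₂ : ℤ) := by
    exact_mod_cast Nat.gcd_dvd_right m₁ m₂
  have hcopd : IsCoprime ((Nat.gcd m₁ m₂ : ℕ) : ℤ) (n : ℤ) := by
    rw [Nat.isCoprime_iff_coprime]
    exact Nat.Coprime.coprime_dvd_left (Nat.gcd_dvd_left m₁ m₂) h₁
  have hμ1 : ((Nat.gcd m₁ m₂ : ℕ) : ℤ) ∣ μ 1 := by
    apply hcopd.dvd_of_dvd_mul_right
    rw [hk]
    exact dvd_add (Dvd.dvd.mul_left hd2 _) hd1
  have main : ∀ i, i ≤ l → ((Nat.gcd m₁ m₂ : ℕ) : ℤ) ∣ μ i ∧ ((Nat.gcd m₁ m₂ : ℕ) : ℤ) ∣ μ (i + 1) := by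
    intro i
    induction i with
    | zero => intro _; exact ⟨by rw [hμ0]; exact hd2, hμ1⟩
    | succ i ih =>
      intro hi
      obtain ⟨ha, hb'⟩ := ih (by omega)
      refine ⟨hb', ?_⟩
      have hs := hsys (i + 1) (by omega) hi
      simp only [Nat.add_sub_cancel] at hs
      have : μ (i + 1 + 1) = b (i + 1) * μ (i + 1) - μ i := by linarith
      rw [this]
      exact dvd_sub (Dvd.dvd.mul_left hb' _) ha
  intro i hi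
  rcases Nat.eq_zero_or_pos i with rfl | hpos
  · exact (main 0 (by omega)).1
  · obtain ⟨j, rfl⟩ : ∃ j, i = j + 1 := ⟨i - 1, by omega⟩
    exact (main j (by omega)).2

end Groth.Agent.S14799
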