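import Groth.Statements.S14806
import Mathlib
import Groth.Agent.Lib.Helper17.LatIndex2

set_option autoImplicit false
open Finset
open CompLat

namespace Groth.Agent.S14806

/-- Let n ≥ 1, let D, D' : ℤⁿ → ℤⁿ be given by diagonal matrices with nonzero diagonal entries, A : ℤⁿ →
ℤⁿ an integer matrix of rank n - 1, S : ℤⁿ → ℤ the sum of the coordinates and Δ : ℤ → ℤⁿ the
diagonal embedding, with S D A = 0 and A D' Δ = 0; let d, d' be the greatest common divisors of the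
diagonal entries of D and of D' (dℤ = im(S D), d'ℤ = im(S D')). Then #(ker(S D)/im A) · |det D| ·
|det D'| = d d' · #(ker S/im(D A D')). -/
theorem result (n : ℕ) (hn : 0 < n) (δ δ' : Fin n → ℤ) (hδ : ∀ i, δ i ≠ 0) (hδ' : ∀ i, δ' i ≠ 0)
    (A : Matrix (Fin n) (Fin n) ℤ) (hA : A.rank = n - 1)
    (hSDA : (∑ i : Fin n, (LinearMap.proj i : (Fin n → ℤ) →ₗ[ℤ] ℤ)) ∘ₗ
        (Matrix.mulVecLin (Matrix.diagonal δ)) ∘ₗ (Matrix.mulVecLin A) = 0)
    (hADΔ : (Matrix.mulVecLin A) ∘ₗ (Matrix.mulVecLin (Matrix.diagonal δ')) ∘ₗ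
        (LinearMap.pi fun _ : Fin n => (LinearMap.id : ℤ →ₗ[ℤ] ℤ)) = 0) :
    (Nat.card (LinearMap.ker ((∑ i : Fin n, (LinearMap.proj i : (Fin n → ℤ) →ₗ[ℤ] ℤ)) ∘ₗ (Matrix.mulVecLin (Matrix.diagonal δ))) ⧸
          (LinearMap.range (Matrix.mulVecLin A)).comap (LinearMap.ker ((∑ i : Fin n, (LinearMap.proj i : (Fin n → ℤ) →ₗ[ℤ] ℤ)) ∘ₗ (Matrix.mulVecLin (Matrix.diagonal δ)))).subtype) : ℤ) * |∏ i, δ i| * |∏ i, δ' i| =
      (univ.gcd δ) * (univ.gcd δ') * Nat.card (LinearMap.ker (∑ i : Fin n, (LinearMap.proj i : (Fin n → ℤ) →ₗ[ℤ] ℤ)) ⧸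
          (LinearMap.range ((Matrix.mulVecLin (Matrix.diagonal δ)) ∘ₗ (Matrix.mulVecLin A) ∘ₗ (Matrix.mulVecLin (Matrix.diagonal δ')))).comap (LinearMap.ker (∑ i : Fin n, (LinearMap.proj i : (Fin n → ℤ) →ₗ[ℤ] ℤ))).subtype) := by
  have h := Groth.Agent.Lib.Helper17.LatIndex.key (Groth.Agent.Lib.Helper17.LatIndex.S n)
    (Groth.Agent.Lib.Helper17.LatIndex.Dg δ) (Matrix.mulVecLin A)
    (Groth.Agent.Lib.Helper17.LatIndex.Dg_injective δ hδ)
    (Groth.Agent.Lib.Helper17.LatIndex.S_surjective hn) hSDA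
  have hk2 := Groth.Agent.Lib.Helper17.LatIndex.key2 (Groth.Agent.Lib.Helper17.LatIndex.S n)
    (Groth.Agent.Lib.Helper17.LatIndex.Dg δ) (Matrix.mulVecLin A)
    (Groth.Agent.Lib.Helper17.LatIndex.Dg δ')
    (Groth.Agent.Lib.Helper17.LatIndex.Dg_injective δ hδ) hSDA
  have hAδ : Matrix.mulVecLin A δ' = 0 := by
    have h1 := LinearMap.congr_fun hADΔ 1
    simp only [LinearMap.comp_apply, LinearMap.zero_apply] at h1
    have h3 : (Matrix.mulVecLin (Matrix.diagonal δ'))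
        ((LinearMap.pi fun _ : Fin n => (LinearMap.id : ℤ →ₗ[ℤ] ℤ)) 1) = δ' := by
      funext i
      have := Groth.Agent.Lib.Helper17.LatIndex.Dg_apply δ'
        ((LinearMap.pi fun _ : Fin n => (LinearMap.id : ℤ →ₗ[ℤ] ℤ)) 1) i
      rw [this]
      simp
    rw [h3] at h1
    exact h1
  rw [Groth.Agent.Lib.Helper17.LatIndex.relIndex_range_ker hn A hA δ' hδ' hAδ] at hk2
  have h2 := congrArg (Nat.cast : ℕ → ℤ) h
  have h3 := congrArg (Nat.cast : ℕ → ℤ) hk2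
  rw [Nat.cast_mul, Nat.cast_mul, Groth.Agent.Lib.Helper17.LatIndex.index_range_Dg δ hδ,
    Groth.Agent.Lib.Helper17.LatIndex.index_range_S_Dg, Int.natCast_natAbs] at h2
  rw [Nat.cast_mul, Nat.cast_mul, Groth.Agent.Lib.Helper17.LatIndex.index_range_Dg δ' hδ',
    Int.natCast_natAbs, Int.natCast_natAbs] at h3
  have hg : |univ.gcd δ'| = univ.gcd δ' := by
    rw [abs_eq_self, ← Finset.normalize_gcd]
    exact Int.nonneg_of_normalize_eq_self (by rw [normalize_idem])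
  rw [hg] at h3
  rw [h2, mul_assoc, h3]
  ring

end Groth.Agent.S14806
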