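import Groth.Statements.S14807
import Mathlib.GroupTheory.OrderOfElement
import Mathlib.Tactic.Linarith

set_option autoImplicit false
universe u
open CAlg

namespace Groth.Agent.S14807

/-- Let G be a finite abelian group, written additively, and ℓ a prime number. Every sequence (g_n)_{n ≥
0} of elements of G with ℓ^n · g_n = 0 and ℓ · g_{n+1} = g_n for all n is identically zero; in other
words the inverse limit of the subgroups of ℓ^n-torsion elements, with transition maps
multiplication by ℓ, vanishes. -/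
theorem result (G : Type u) [AddCommGroup G] [Finite G]
    (ℓ : ℕ) (hℓ : ℓ.Prime) (g : ℕ → G) (htor : ∀ n : ℕ, ℓ ^ n • g n = 0)
    (hcomp : ∀ n : ℕ, ℓ • g (n + 1) = g n) (n : ℕ) : g n = 0 := by
  have hN : 0 < Nat.card G := Nat.card_pos
  set N := Nat.card G with hNdef
  -- g n = ℓ^m • g (n+m)
  have hiter : ∀ m : ℕ, ℓ ^ m • g (n + m) = g n := by
    intro m
    induction m with
    | zero => simp
    | succ m ih =>
      rw [pow_succ, mul_smul, ← add_assoc, hcomp, ih]
  rw [← hiter N]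
  have h1 : addOrderOf (g (n + N)) ∣ ℓ ^ (n + N) := addOrderOf_dvd_of_nsmul_eq_zero (htor (n + N))
  obtain ⟨k, hk, hkeq⟩ := (Nat.dvd_prime_pow hℓ).1 h1
  have h2 : addOrderOf (g (n + N)) ∣ N := addOrderOf_dvd_natCard _
  have h3 : ℓ ^ k ≤ N := Nat.le_of_dvd hN (hkeq ▸ h2)
  have h4 : N < ℓ ^ N := Nat.lt_pow_self hℓ.one_lt
  have h5 : k < N := (Nat.pow_lt_pow_iff_right hℓ.one_lt).1 (lt_of_le_of_lt h3 h4)
  have h6 : ℓ ^ N = ℓ ^ (N - k) * ℓ ^ k := by rw [← pow_add, Nat.sub_add_cancel h5.le]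
  rw [h6, mul_smul, ← hkeq, addOrderOf_nsmul_eq_zero, smul_zero]

end Groth.Agent.S14807
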