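import Groth.Statements.S14819
-- import your own Groth.Agent.* helpers here
import Groth.Agent.Lib.Helper29.PRoot1

set_option autoImplicit false
universe u
open CategoryTheory CategoryTheory.Limits AlgebraicGeometry
open PicF

namespace Groth.Agent.S14819

theorem surjective_of_finite_etale {X X' : Scheme.{u}} [IsIntegral X] [ConnectedSpace X']
    (f : X' ⟶ X) [IsFinite f] [Etale f] : Surjective f := by
  constructor
  have hopen : IsOpen (Set.range f) := f.isOpenMap.isOpen_range
  have hclosed : IsClosed (Set.range f) := f.isClosedMap.isClosed_range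
  have hne : (Set.range f).Nonempty := Set.range_nonempty _
  have := IsClopen.eq_univ ⟨hclosed, hopen⟩ hne
  exact Set.range_eq_univ.mp this

/-- Let X be an integral Noetherian scheme which is normal (all local rings integrally closed domains)
and whose ring of global functions Γ(X, O_X) is a field of characteristic p > 0; let L be an
invertible O_X-module of exact order d in Pic(X), i.e. L^{⊗d} ≅ O_X with d ≥ 1 and L^{⊗i} not
isomorphic to O_X for 0 < i < d, and suppose p divides d. Let X' be a connected scheme such that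
every unit of Γ(X', O_{X'}) has a p-th root. Then no finite étale morphism f : X' → X (a finite
étale covering of X by X') satisfies f^*L ≅ O_{X'}. -/
theorem result (X X' : Scheme.{u})
    [IsIntegral X] [IsNoetherian X] (hnorm : Pi1.IsNormalScheme X)
    (hfield : IsField (Γ(X, ⊤) : Type u)) (p : ℕ) [Fact (Nat.Prime p)] [CharP (Γ(X, ⊤) : Type u) p]
    (L : X.Modules) (hL : PicF.IsInvertible L) (d : ℕ) (hd : 0 < d)
    (hord : Nonempty (CohB1.tensorPow L d ≅ Coh.structureModule X))
    (hmin : ∀ i : ℕ, 0 < i → i < d → IsEmpty (CohB1.tensorPow L i ≅ Coh.structureModule X))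
    (hpd : p ∣ d) [ConnectedSpace X']
    (hroot : ∀ u : (Γ(X', ⊤) : Type u), IsUnit u → ∃ v : (Γ(X', ⊤) : Type u), v ^ p = u)
    (f : X' ⟶ X) [IsFinite f] [Etale f] :
    IsEmpty ((Scheme.Modules.pullback f).obj L ≅ Coh.structureModule X') := by
  refine ⟨fun ε => ?_⟩
  obtain ⟨d', rfl⟩ := hpd
  have hp2 : 2 ≤ p := (Fact.out : p.Prime).two_le
  have hd' : 0 < d' := by
    rcases Nat.eq_zero_or_pos d' with h | h
    · subst h; simp at hd
    · exact h
  have hlt : d' < p * d' := by nlinarith
  obtain ⟨θ⟩ := hord
  rw [mul_comm p d'] at θ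
  have hp : ((p : ℕ) : (Γ(X, ⊤) : Type u)) = 0 := CharP.cast_eq_zero _ p
  haveI : Surjective f := surjective_of_finite_etale f
  obtain ⟨φ⟩ := Groth.Agent.Lib.Helper29.PRoot.main f p hp L hL d' θ hroot ε
  exact (hmin d' hd' hlt).false φ

end Groth.Agent.S14819
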