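import Groth.Statements.S14825
import Mathlib
import Groth.Agent.Lib.Helper10.RigidAA11
import Groth.Agent.Lib.Helper10.HH0Const

set_option autoImplicit false
universe u
open CategoryTheory MonoidalCategory CartesianMonoidalCategory MonObj GrpObj AlgebraicGeometry
open AbVar

namespace Groth.Agent.S14825

/-- In the pointed case, let k be a field and X a proper k-scheme with H^0(X, O_X) one-dimensional and a
k-rational point x₀; let alb : X → A be the Albanese morphism (A an abelian variety over k — proper,
geometrically integral group scheme — with alb(x₀) = 0, universal among pointed k-morphisms from X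
to abelian varieties, the latter being geometrically reduced, connected, proper group schemes). Then
X has Albanese dimension zero, i.e. the image of alb is a single point of A (X is connected, so this
says the image is zero-dimensional), if and only if A is the trivial abelian variety, i.e. A → Spec
k is an isomorphism. (The published statement does not assume a rational point (it works with the
Albanese torsor); this row assumes one.) -/
theorem result (k : Type u) [Field k] (X : Scheme.{u}) [X.Over (Spec (CommRingCat.of k))]
    [IsProper (X ↘ Spec (CommRingCat.of k))] (h0 : Module.finrank k (Coh.HH X (Coh.structureModule X) 0) = 1)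
    (x₀ : 𝟙_ (Over (Spec (CommRingCat.of k))) ⟶ Over.mk (X ↘ Spec (CommRingCat.of k)))
    (A : Over (Spec (CommRingCat.of k))) [GrpObj A] [IsProper A.hom] [GeometricallyIntegral A.hom]
    (alb : Over.mk (X ↘ Spec (CommRingCat.of k)) ⟶ A) (halb : x₀ ≫ alb = η[A])
    (huniv : ∀ (B : Over (Spec (CommRingCat.of k))) [GrpObj B] [IsProper B.hom] [GeometricallyReduced B.hom] [ConnectedSpace ↥B.left]
      (g : Over.mk (X ↘ Spec (CommRingCat.of k)) ⟶ B), x₀ ≫ g = η[B] → ∃! h : A ⟶ B, IsMonHom h ∧ alb ≫ h = g) :
    (Set.range alb.left.base).Subsingleton ↔ IsIso A.hom := by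
  let X' : Over (Spec (CommRingCat.of k)) := Over.mk (X ↘ Spec (CommRingCat.of k))
  obtain ⟨pt⟩ : Nonempty ↥(𝟙_ (Over (Spec (CommRingCat.of k)))).left :=
    inferInstanceAs (Nonempty (PrimeSpectrum k))
  haveI : Nonempty ↥X := ⟨x₀.left pt⟩
  have hX : Function.Bijective ((Scheme.ΓSpecIso (CommRingCat.of k)).inv ≫ X'.hom.appTop).hom :=
    Groth.Agent.Lib.Helper10.HH0Const.bijective_of_finrank_hh0 k X h0
  haveI : Subsingleton ↥(Spec (CommRingCat.of k)) :=
    inferInstanceAs (Subsingleton (PrimeSpectrum k))
  constructor
  · intro hsub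
    -- `alb` is the constant map
    have halb' : alb = toUnit X' ≫ η[A] := by
      set z := η[A].left pt with hz
      have hzr : ∀ x : X'.left, alb.left x = z := by
        intro x
        apply hsub ⟨x, rfl⟩
        refine ⟨x₀.left pt, ?_⟩
        show alb.left (x₀.left pt) = η[A].left pt
        rw [← Scheme.Hom.comp_apply, ← Over.comp_left, halb]
      obtain ⟨_, ⟨U₀, hU, rfl⟩, hzU, -⟩ :=
        A.left.isBasis_affineOpens.exists_subset_of_mem_open (Set.mem_univ z) isOpen_univ
      let U : A.left.Opens := U₀
      have hU : IsAffineOpen U := hU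
      have hzU : z ∈ U := hzU
      have hr : Set.range alb.left ⊆ Set.range U.ι := by
        rw [Scheme.Opens.range_ι]
        rintro _ ⟨x, rfl⟩
        rw [hzr x]
        exact hzU
      set ψ := IsOpenImmersion.lift U.ι alb.left hr with hψ
      have hψ' : ψ ≫ U.ι = alb.left := IsOpenImmersion.lift_fac _ _ _
      haveI : IsIso X'.hom.appTop := by
        have h2 : IsIso ((Scheme.ΓSpecIso (CommRingCat.of k)).inv ≫ X'.hom.appTop) := by
          rw [ConcreteCategory.isIso_iff_bijective]
          exact hX
        exact (isIso_comp_left_iff _ _).mp h2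
      haveI : IsAffine U.toScheme := hU
      obtain ⟨g, hg⟩ := Groth.Agent.Lib.Helper10.RigidAA.exists_factor_of_isIso_appTop X'.hom ψ
      have hx₀ : x₀.left ≫ X'.hom = 𝟙 _ := Over.w x₀
      have hw : (g ≫ U.ι) ≫ A.hom = 𝟙 _ := by
        have : x₀.left ≫ X'.hom ≫ (g ≫ U.ι) ≫ A.hom = 𝟙 _ := by
          rw [← Category.assoc X'.hom, ← Category.assoc X'.hom, ← hg, hψ', Over.w alb]
          exact hx₀
        rwa [reassoc_of% hx₀] at this
      let a' : 𝟙_ (Over (Spec (CommRingCat.of k))) ⟶ A := Over.homMk (g ≫ U.ι) hw
      have e1 : alb = toUnit X' ≫ a' := by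
        ext1
        rw [Over.comp_left, Over.toUnit_left]
        show alb.left = X'.hom ≫ g ≫ U.ι
        rw [← Category.assoc, ← hg, hψ']
      have e2 : a' = η[A] := by
        rw [← halb, e1, ← Category.assoc, toUnit_unique (x₀ ≫ toUnit X') (𝟙 _), Category.id_comp]
      rw [e1, e2]
    haveI : IsIntegral A.left := GeometricallyIntegral.isIntegral_of_subsingleton A.hom
    haveI : ConnectedSpace ↥A.left := inferInstance
    obtain ⟨h, -, huniq⟩ := huniv A alb halb
    have h1 : (𝟙 A : A ⟶ A) = h := huniq (𝟙 A) ⟨inferInstance, Category.comp_id _⟩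
    have h2 : (toUnit A ≫ η[A] : A ⟶ A) = h := by
      apply huniq
      refine ⟨?_, ?_⟩
      · rw [← Hom.one_def]
        refine ⟨by rw [MonObj.comp_one, MonObj.one_eq_one], ?_⟩
        rw [MonObj.comp_one]
        have e : ((1 : A ⟶ A) ⊗ₘ (1 : A ⟶ A)) =
            CartesianMonoidalCategory.lift (CartesianMonoidalCategory.fst A A ≫ 1)
              (CartesianMonoidalCategory.snd A A ≫ 1) := by
          apply CartesianMonoidalCategory.hom_ext
          · rw [tensorHom_fst, lift_fst]
          · rw [tensorHom_snd, lift_snd]
        rw [e, ← Hom.mul_def, MonObj.comp_one, MonObj.comp_one, _root_.one_mul]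
      · rw [halb', Category.assoc, ← Category.assoc η[A], toUnit_unique (η[A] ≫ toUnit A) (𝟙 _),
          Category.id_comp]
    have h3 : (𝟙 A : A ⟶ A) = toUnit A ≫ η[A] := h1.trans h2.symm
    refine ⟨η[A].left, ?_, Over.w η[A]⟩
    have := congrArg (fun m => Over.Hom.left m) h3
    simp only [Over.id_left, Over.comp_left, Over.toUnit_left] at this
    exact this.symm
  · intro hiso
    haveI : Subsingleton ↥A.left := by
      constructor
      intro a b
      have : A.hom a = A.hom b := Subsingleton.elim _ _
      have h2 := congrArg (inv A.hom) this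
      rwa [← Scheme.Hom.comp_apply, ← Scheme.Hom.comp_apply, IsIso.hom_inv_id] at h2
    exact Set.subsingleton_of_subsingleton

end Groth.Agent.S14825
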