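import Groth.Statements.S14827
import Mathlib

set_option autoImplicit false
universe u
open CategoryTheory MonoidalCategory CartesianMonoidalCategory MonObj GrpObj AlgebraicGeometry
open AbVar

namespace Groth.Agent.S14827

/-- Over a field k (the published statement is over a base scheme S), let X be a proper k-scheme with
H^0(X, O_X) one-dimensional and a k-rational point x₀, and alb : X → A the Albanese morphism for the
base point x₀ (A an abelian variety — proper, geometrically integral group scheme — with alb(x₀) =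
0, universal among pointed morphisms to geometrically reduced, connected, proper group schemes). For
a second k-rational point x₁ let alb' = alb · (constant map with value alb(x₁))⁻¹, i.e. alb followed
by the translation of A by −alb(x₁). Then alb' is the Albanese morphism of X pointed by x₁: alb'(x₁)
= 0, and every k-morphism g : X → B to an abelian variety B with g(x₁) = 0 equals alb' ≫ h for a
unique homomorphism h : A → B. -/
theorem result (k : Type u) [Field k] (X : Scheme.{u}) [X.Over (Spec (CommRingCat.of k))]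
    [IsProper (X ↘ Spec (CommRingCat.of k))] (h0 : Module.finrank k (Coh.HH X (Coh.structureModule X) 0) = 1)
    (x₀ : 𝟙_ (Over (Spec (CommRingCat.of k))) ⟶ Over.mk (X ↘ Spec (CommRingCat.of k)))
    (A : Over (Spec (CommRingCat.of k))) [GrpObj A] [IsProper A.hom] [GeometricallyIntegral A.hom]
    (alb : Over.mk (X ↘ Spec (CommRingCat.of k)) ⟶ A) (halb : x₀ ≫ alb = η[A])
    (huniv : ∀ (B : Over (Spec (CommRingCat.of k))) [GrpObj B] [IsProper B.hom] [GeometricallyReduced B.hom] [ConnectedSpace ↥B.left]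
      (g : Over.mk (X ↘ Spec (CommRingCat.of k)) ⟶ B), x₀ ≫ g = η[B] → ∃! h : A ⟶ B, IsMonHom h ∧ alb ≫ h = g)
    (x₁ : 𝟙_ (Over (Spec (CommRingCat.of k))) ⟶ Over.mk (X ↘ Spec (CommRingCat.of k))) :
    x₁ ≫ (alb * (toUnit (Over.mk (X ↘ Spec (CommRingCat.of k))) ≫ x₁ ≫ alb)⁻¹) = η[A] ∧
    ∀ (B : Over (Spec (CommRingCat.of k))) [GrpObj B] [IsProper B.hom] [GeometricallyReduced B.hom] [ConnectedSpace ↥B.left]
      (g : Over.mk (X ↘ Spec (CommRingCat.of k)) ⟶ B), x₁ ≫ g = η[B] →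
        ∃! h : A ⟶ B, IsMonHom h ∧ (alb * (toUnit (Over.mk (X ↘ Spec (CommRingCat.of k))) ≫ x₁ ≫ alb)⁻¹) ≫ h = g := by
  let X' : Over (Spec (CommRingCat.of k)) := Over.mk (X ↘ Spec (CommRingCat.of k))
  let a₁ : 𝟙_ (Over (Spec (CommRingCat.of k))) ⟶ A := x₁ ≫ alb
  let alb' : X' ⟶ A := alb * (toUnit X' ≫ a₁)⁻¹
  have hx₁u : x₁ ≫ toUnit X' = 𝟙 _ := toUnit_unique _ _
  have hx₀u : x₀ ≫ toUnit X' = 𝟙 _ := toUnit_unique _ _
  have hone : ∀ (B : Over (Spec (CommRingCat.of k))) [GrpObj B],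
      (η[B] : 𝟙_ (Over (Spec (CommRingCat.of k))) ⟶ B) = 1 := fun B _ => MonObj.one_eq_one B
  have h1 : x₁ ≫ alb' = η[A] := by
    show x₁ ≫ (alb * (toUnit X' ≫ a₁)⁻¹) = η[A]
    rw [MonObj.comp_mul, GrpObj.comp_inv, ← Category.assoc x₁, hx₁u, Category.id_comp,
      mul_inv_cancel, hone]
  have h0' : x₀ ≫ alb' = a₁⁻¹ := by
    show x₀ ≫ (alb * (toUnit X' ≫ a₁)⁻¹) = a₁⁻¹
    rw [MonObj.comp_mul, GrpObj.comp_inv, ← Category.assoc x₀, hx₀u, Category.id_comp, halb,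
      hone, _root_.one_mul]
  refine ⟨h1, ?_⟩
  intro B _ _ _ _ g hg
  let b₀ : 𝟙_ (Over (Spec (CommRingCat.of k))) ⟶ B := x₀ ≫ g
  let g₀ : X' ⟶ B := g * (toUnit X' ≫ b₀)⁻¹
  have hg₀ : x₀ ≫ g₀ = η[B] := by
    show x₀ ≫ (g * (toUnit X' ≫ b₀)⁻¹) = η[B]
    rw [MonObj.comp_mul, GrpObj.comp_inv, ← Category.assoc x₀, hx₀u, Category.id_comp,
      mul_inv_cancel, hone]
  obtain ⟨h, ⟨hh, hh'⟩, hu⟩ := huniv B g₀ hg₀
  have hx₁g₀ : x₁ ≫ g₀ = b₀⁻¹ := by
    show x₁ ≫ (g * (toUnit X' ≫ b₀)⁻¹) = b₀⁻¹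
    rw [MonObj.comp_mul, GrpObj.comp_inv, ← Category.assoc x₁, hx₁u, Category.id_comp, hg,
      hone, _root_.one_mul]
  refine ⟨h, ⟨hh, ?_⟩, ?_⟩
  · show (alb * (toUnit X' ≫ a₁)⁻¹) ≫ h = g
    rw [MonObj.mul_comp, GrpObj.inv_comp, hh', Category.assoc]
    have : a₁ ≫ h = b₀⁻¹ := by
      show (x₁ ≫ alb) ≫ h = b₀⁻¹
      rw [Category.assoc, hh', hx₁g₀]
    rw [this, GrpObj.comp_inv, _root_.inv_inv]
    show g * (toUnit X' ≫ b₀)⁻¹ * (toUnit X' ≫ b₀) = g
    rw [inv_mul_cancel_right]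
  · rintro h' ⟨hh1, hh2⟩
    apply hu
    refine ⟨hh1, ?_⟩
    have hh2' : (alb * (toUnit X' ≫ a₁)⁻¹) ≫ h' = g := hh2
    rw [MonObj.mul_comp, GrpObj.inv_comp, Category.assoc] at hh2'
    have e1 : a₁ ≫ h' = b₀⁻¹ := by
      have := congrArg (fun m => x₀ ≫ m) hh2
      rw [← Category.assoc] at this
      have h0'' : x₀ ≫ (alb * (toUnit X' ≫ x₁ ≫ alb)⁻¹) = a₁⁻¹ := h0'
      rw [h0'', GrpObj.inv_comp] at this
      rw [← _root_.inv_inv (a₁ ≫ h'), this]
    rw [e1, GrpObj.comp_inv, _root_.inv_inv] at hh2'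
    show alb ≫ h' = g * (toUnit X' ≫ b₀)⁻¹
    rw [← hh2', mul_inv_cancel_right]

end Groth.Agent.S14827
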