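import Groth.Statements.S1483
import Groth.Agent.Lib27.Flat.FibCritLocal
import Groth.Agent.Lib27.Sch.FibInjSch
import Groth.Agent.Lib.Helper13.SurjectiveDescent
set_option backward.isDefEq.respectTransparency.types false

set_option autoImplicit false
universe u
open FlatMor

namespace Groth.Agent.S1483

open AlgebraicGeometry CategoryTheory Limits in
/-- Fibrewise flatness criterion (critère de platitude par fibres), pointwise equivalence for a module:
let f : X → Y and g : Y → S be morphisms of schemes with X locally of finite presentation over S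
(via g ∘ f) and Y locally of finite type over S, F a finitely presented quasi-coherent O_X-module,
and x a point of X with images y = f(x) and s = g(y) at which the stalk F_x is nonzero. The
following are equivalent: (a) F is flat over S at x and F_x / 𝔪_s F_x is flat over O_{Y,y} / 𝔪_s
O_{Y,y}; (b) the morphism g is flat at the point y and F is Y-flat at x. The published statement
also asserts that the locus of such x is open in the support of F; that is not restated here (the
companion statement for F = O_X carries it). -/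
theorem result {X Y S : Scheme.{u}} (f : X ⟶ Y) (g : Y ⟶ S) [LocallyOfFinitePresentation (f ≫ g)] [LocallyOfFiniteType g]
    (F : X.Modules) (hq : Coh.IsQCoh F) (hfp : CohB1.IsFP F) (x : X) (hx : Nontrivial ↑(F.presheaf.stalk x)) :
    letI := FlatMod.moduleStalkOver f F x
    (FlatMod.IsFlatOverAt (f ≫ g) F x ∧
      Module.Flat (↑(Y.presheaf.stalk (f x)) ⧸ Ideal.map (g.stalkMap (f x)).hom (IsLocalRing.maximalIdeal ↑(S.presheaf.stalk (g (f x)))))
        (↑(F.presheaf.stalk x) ⧸ (Ideal.map (g.stalkMap (f x)).hom (IsLocalRing.maximalIdeal ↑(S.presheaf.stalk (g (f x)))) •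
          (⊤ : Submodule ↑(Y.presheaf.stalk (f x)) ↑(F.presheaf.stalk x))))) ↔
    ((g.stalkMap (f x)).hom.Flat ∧ FlatMod.IsFlatOverAt f F x) := by
  classical
  haveI : F.IsQuasicoherent := hq
  haveI : F.IsFinitePresentation := hfp
  haveI : LocallyOfFinitePresentation f :=
    Groth.Agent.Lib.Helper13.locallyOfFinitePresentation_of_comp f g
  obtain ⟨U, V, hU, hV, hUV, hxU⟩ := Groth.Agent.Lib27.FibInjSch.exists_affine_pair f x
  have hfx : f x ∈ V := hUV hxU
  have hfpUV : RingHom.FinitePresentation (f.appLE V U hUV).hom :=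
    HasRingHomProperty.appLE (P := @LocallyOfFinitePresentation) f inferInstance ⟨V, hV⟩ ⟨U, hU⟩
      hUV
  -- the three local rings
  letI algAB : Algebra (S.presheaf.stalk (g (f x))) (Y.presheaf.stalk (f x)) :=
    (g.stalkMap (f x)).hom.toAlgebra
  letI algBC : Algebra (Y.presheaf.stalk (f x)) (X.presheaf.stalk x) :=
    (f.stalkMap x).hom.toAlgebra
  letI algAC : Algebra (S.presheaf.stalk (g (f x))) (X.presheaf.stalk x) :=
    ((f.stalkMap x).hom.comp (g.stalkMap (f x)).hom).toAlgebra
  haveI : IsScalarTower (S.presheaf.stalk (g (f x))) (Y.presheaf.stalk (f x))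
      (X.presheaf.stalk x) := IsScalarTower.of_algebraMap_eq (fun _ => rfl)
  haveI : IsLocalHom (algebraMap (S.presheaf.stalk (g (f x))) (Y.presheaf.stalk (f x))) :=
    inferInstanceAs (IsLocalHom (g.stalkMap (f x)).hom)
  haveI : IsLocalHom (algebraMap (Y.presheaf.stalk (f x)) (X.presheaf.stalk x)) :=
    inferInstanceAs (IsLocalHom (f.stalkMap x).hom)
  -- module structures on the stalk
  letI mB : Module (Y.presheaf.stalk (f x)) (F.presheaf.stalk x) := FlatMod.moduleStalkOver f F x
  letI mA : Module (S.presheaf.stalk (g (f x))) (F.presheaf.stalk x) :=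
    Module.compHom _ ((f.stalkMap x).hom.comp (g.stalkMap (f x)).hom)
  haveI : IsScalarTower (Y.presheaf.stalk (f x)) (X.presheaf.stalk x) (F.presheaf.stalk x) :=
    IsScalarTower.of_algebraMap_smul (fun _ _ => rfl)
  haveI : IsScalarTower (S.presheaf.stalk (g (f x))) (X.presheaf.stalk x) (F.presheaf.stalk x) :=
    IsScalarTower.of_algebraMap_smul (fun _ _ => rfl)
  haveI : IsScalarTower (S.presheaf.stalk (g (f x))) (Y.presheaf.stalk (f x))
      (F.presheaf.stalk x) := IsScalarTower.of_algebraMap_smul (fun _ _ => rfl)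
  haveI := Groth.Agent.Lib.Helper29.QCoh.finitePresentation_stalk F x
  -- flatness over `S` at `x`
  have hA : FlatMod.IsFlatOverAt (f ≫ g) F x ↔
      Module.Flat (S.presheaf.stalk (g (f x))) (F.presheaf.stalk x) := by
    have hmod : FlatMod.moduleStalkOver (f ≫ g) F x = mA := by
      change Module.compHom _ ((f ≫ g).stalkMap x).hom = Module.compHom _ _
      rw [Scheme.Hom.stalkMap_comp]
    change @Module.Flat _ _ _ _ (FlatMod.moduleStalkOver (f ≫ g) F x) ↔ _
    rw [hmod]
    exact Iff.rfl
  -- the local presentation of `O_{X,x}` over `O_{Y,y}`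
  letI algUV : Algebra Γ(Y, V) Γ(X, U) := (f.appLE V U hUV).hom.toAlgebra
  haveI : Algebra.FinitePresentation Γ(Y, V) Γ(X, U) := hfpUV
  letI algUC : Algebra Γ(X, U) (X.presheaf.stalk x) :=
    TopCat.Presheaf.algebra_section_stalk X.presheaf ⟨x, hxU⟩
  haveI hlocC := hU.isLocalization_stalk ⟨x, hxU⟩
  letI algVB : Algebra Γ(Y, V) (Y.presheaf.stalk (f x)) :=
    TopCat.Presheaf.algebra_section_stalk Y.presheaf ⟨f x, hfx⟩
  have h2 : (hU.primeIdealOf ⟨x, hxU⟩).asIdeal.comap (algebraMap Γ(Y, V) Γ(X, U)) =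
      (hV.primeIdealOf ⟨f x, hfx⟩).asIdeal :=
    congr($(IsAffineOpen.comap_primeIdealOf_appLE V hV U hU hUV hxU).1)
  haveI hlocB : IsLocalization.AtPrime (Y.presheaf.stalk (f x))
      ((hU.primeIdealOf ⟨x, hxU⟩).asIdeal.comap (algebraMap Γ(Y, V) Γ(X, U))) := by
    have h3 := hV.isLocalization_stalk ⟨f x, hfx⟩
    have hpc : ((hU.primeIdealOf ⟨x, hxU⟩).asIdeal.comap
        (algebraMap Γ(Y, V) Γ(X, U))).primeCompl =
        (hV.primeIdealOf ⟨f x, hfx⟩).asIdeal.primeCompl := by
      ext r
      change r ∉ _ ↔ r ∉ _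
      rw [h2]
    change IsLocalization _ _
    rw [hpc]
    exact h3
  letI algVC : Algebra Γ(Y, V) (X.presheaf.stalk x) :=
    ((X.presheaf.germ U x hxU).hom.comp (f.appLE V U hUV).hom).toAlgebra
  haveI : IsScalarTower Γ(Y, V) Γ(X, U) (X.presheaf.stalk x) :=
    IsScalarTower.of_algebraMap_eq (fun _ => rfl)
  haveI : IsScalarTower Γ(Y, V) (Y.presheaf.stalk (f x)) (X.presheaf.stalk x) :=
    IsScalarTower.of_algebraMap_eq (fun r =>
      Groth.Agent.Lib.Helper8.FlatAffine.germ_appLE f hUV x hxU r)
  have hLP : Groth.Agent.Lib27.FibCritLocal.LocPres (Y.presheaf.stalk (f x))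
      (X.presheaf.stalk x) :=
    Groth.Agent.Lib27.FibCritLocal.locPres_of_finitePresentation
      (B₀ := Γ(Y, V)) (C₀ := Γ(X, U)) (hU.primeIdealOf ⟨x, hxU⟩).asIdeal
      (Y.presheaf.stalk (f x)) (X.presheaf.stalk x)
  rw [hA]
  constructor
  · rintro ⟨hflA, hfib⟩
    haveI := hflA
    exact Groth.Agent.Lib27.FibCritLocal.flat_of_fibre_flat hLP hfib
  · rintro ⟨hflAB, hflBM⟩
    haveI : Module.Flat (S.presheaf.stalk (g (f x))) (Y.presheaf.stalk (f x)) := hflAB
    haveI : Module.Flat (Y.presheaf.stalk (f x)) (F.presheaf.stalk x) := hflBM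
    refine ⟨Module.Flat.trans (S.presheaf.stalk (g (f x))) (Y.presheaf.stalk (f x))
      (F.presheaf.stalk x), ?_⟩
    exact Module.Flat.of_linearEquiv
      ((TensorProduct.quotTensorEquivQuotSMul (F.presheaf.stalk x)
        (Ideal.map (g.stalkMap (f x)).hom
          (IsLocalRing.maximalIdeal (S.presheaf.stalk (g (f x)))))).extendScalarsOfSurjective
        Ideal.Quotient.mk_surjective).symm

end Groth.Agent.S1483
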