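import Groth.Statements.S14830
import Mathlib
import Groth.Agent.Lib.Helper10.AlbProd

set_option autoImplicit false
universe u
open CategoryTheory MonoidalCategory CartesianMonoidalCategory MonObj GrpObj AlgebraicGeometry
open AbVar

namespace Groth.Agent.S14830

/-- Let k be a field and X, Y proper, geometrically integral k-schemes with k-rational points x₀ and y₀.
Let albX : X → A and albY : Y → B be Albanese morphisms: A, B abelian varieties over k (proper,
geometrically integral group schemes), albX(x₀) = 0, albY(y₀) = 0, each universal among pointed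
k-morphisms into abelian varieties (geometrically reduced, connected, proper group schemes). Then
the product morphism albX × albY : X ×_k Y → A ×_k B is the Albanese morphism of X ×_k Y pointed at
(x₀, y₀): for every abelian variety C and every k-morphism g : X ×_k Y → C with g(x₀, y₀) = 0 there
is a unique homomorphism h : A ×_k B → C with (albX × albY) ≫ h = g. -/
theorem result (k : Type u) [Field k] (X Y : Scheme.{u}) [X.Over (Spec (CommRingCat.of k))] [Y.Over (Spec (CommRingCat.of k))]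
    [IsProper (X ↘ Spec (CommRingCat.of k))] [IsProper (Y ↘ Spec (CommRingCat.of k))]
    [GeometricallyIntegral (X ↘ Spec (CommRingCat.of k))] [GeometricallyIntegral (Y ↘ Spec (CommRingCat.of k))]
    (x₀ : 𝟙_ (Over (Spec (CommRingCat.of k))) ⟶ Over.mk (X ↘ Spec (CommRingCat.of k))) (y₀ : 𝟙_ (Over (Spec (CommRingCat.of k))) ⟶ Over.mk (Y ↘ Spec (CommRingCat.of k)))
    (A : Over (Spec (CommRingCat.of k))) [GrpObj A] [IsProper A.hom] [GeometricallyIntegral A.hom]
    (albX : Over.mk (X ↘ Spec (CommRingCat.of k)) ⟶ A) (halbX : x₀ ≫ albX = η[A])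
    (hunivA : ∀ (C : Over (Spec (CommRingCat.of k))) [GrpObj C] [IsProper C.hom] [GeometricallyReduced C.hom] [ConnectedSpace ↥C.left]
      (g : Over.mk (X ↘ Spec (CommRingCat.of k)) ⟶ C), x₀ ≫ g = η[C] → ∃! h : A ⟶ C, IsMonHom h ∧ albX ≫ h = g)
    (B : Over (Spec (CommRingCat.of k))) [GrpObj B] [IsProper B.hom] [GeometricallyIntegral B.hom]
    (albY : Over.mk (Y ↘ Spec (CommRingCat.of k)) ⟶ B) (halbY : y₀ ≫ albY = η[B])
    (hunivB : ∀ (C : Over (Spec (CommRingCat.of k))) [GrpObj C] [IsProper C.hom] [GeometricallyReduced C.hom] [ConnectedSpace ↥C.left]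
      (g : Over.mk (Y ↘ Spec (CommRingCat.of k)) ⟶ C), y₀ ≫ g = η[C] → ∃! h : B ⟶ C, IsMonHom h ∧ albY ≫ h = g)
    (C : Over (Spec (CommRingCat.of k))) [GrpObj C] [IsProper C.hom] [GeometricallyReduced C.hom] [ConnectedSpace ↥C.left]
    (g : Over.mk (X ↘ Spec (CommRingCat.of k)) ⊗ Over.mk (Y ↘ Spec (CommRingCat.of k)) ⟶ C) (hg : lift x₀ y₀ ≫ g = η[C]) :
    ∃! h : A ⊗ B ⟶ C, IsMonHom h ∧ (albX ⊗ₘ albY) ≫ h = g := by
  let X' : Over (Spec (CommRingCat.of k)) := Over.mk (X ↘ Spec (CommRingCat.of k))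
  let Y' : Over (Spec (CommRingCat.of k)) := Over.mk (Y ↘ Spec (CommRingCat.of k))
  haveI : IsProper X'.hom := ‹IsProper (X ↘ Spec (CommRingCat.of k))›
  haveI : GeometricallyIntegral X'.hom := ‹GeometricallyIntegral (X ↘ Spec (CommRingCat.of k))›
  haveI : IsProper Y'.hom := ‹IsProper (Y ↘ Spec (CommRingCat.of k))›
  haveI : GeometricallyIntegral Y'.hom := ‹GeometricallyIntegral (Y ↘ Spec (CommRingCat.of k))›
  have hX := Groth.Agent.Lib.Helper10.RigidAA.bijective_of_proper_geomIntegral X'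
  haveI : Subsingleton ↥(Spec (CommRingCat.of k)) :=
    inferInstanceAs (Subsingleton (PrimeSpectrum k))
  haveI : IsLocallyNoetherian Y'.left := LocallyOfFiniteType.isLocallyNoetherian Y'.hom
  haveI : IsIntegral Y'.left := GeometricallyIntegral.isIntegral_of_subsingleton Y'.hom
  haveI : ConnectedSpace ↥Y'.left := inferInstance
  haveI : QuasiSeparated X'.hom := inferInstance
  set g₁ : X' ⟶ C := CartesianMonoidalCategory.lift (𝟙 X') (toUnit X' ≫ y₀) ≫ g with hg₁
  set g₂ : Y' ⟶ C := CartesianMonoidalCategory.lift (toUnit Y' ≫ x₀) (𝟙 Y') ≫ g with hg₂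
  have hdec : g = (CartesianMonoidalCategory.fst X' Y' ≫ g₁) *
      (CartesianMonoidalCategory.snd X' Y' ≫ g₂) :=
    Groth.Agent.Lib.Helper10.RigidAA.eq_mul_of_rigid X' Y' C hX x₀ y₀ g hg
  have hx₀ : x₀ ≫ CartesianMonoidalCategory.lift (𝟙 X') (toUnit X' ≫ y₀) =
      CartesianMonoidalCategory.lift x₀ y₀ := by
    apply CartesianMonoidalCategory.hom_ext
    · rw [Category.assoc, lift_fst, lift_fst, Category.comp_id]
    · rw [Category.assoc, lift_snd, lift_snd, ← Category.assoc,
        toUnit_unique (x₀ ≫ toUnit X') (𝟙 _), Category.id_comp]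
  have hy₀ : y₀ ≫ CartesianMonoidalCategory.lift (toUnit Y' ≫ x₀) (𝟙 Y') =
      CartesianMonoidalCategory.lift x₀ y₀ := by
    apply CartesianMonoidalCategory.hom_ext
    · rw [Category.assoc, lift_fst, lift_fst, ← Category.assoc,
        toUnit_unique (y₀ ≫ toUnit Y') (𝟙 _), Category.id_comp]
    · rw [Category.assoc, lift_snd, lift_snd, Category.comp_id]
  have hg₁0 : x₀ ≫ g₁ = η[C] := by rw [hg₁, ← Category.assoc, hx₀, hg]
  have hg₂0 : y₀ ≫ g₂ = η[C] := by rw [hg₂, ← Category.assoc, hy₀, hg]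
  obtain ⟨h₁, ⟨hh₁, hh₁'⟩, hu₁⟩ := hunivA C g₁ hg₁0
  obtain ⟨h₂, ⟨hh₂, hh₂'⟩, hu₂⟩ := hunivB C g₂ hg₂0
  haveI : LocallyOfFiniteType C.hom := inferInstance
  haveI : QuasiCompact C.hom := inferInstance
  haveI hC : IsCommMonObj C := Groth.Agent.Lib.Helper10.RigidAA.isCommMonObj_of_antiAffine C
    (Groth.Agent.Lib.Helper10.RigidAA.bijective_of_proper_geomReduced_grp C)
  let h : A ⊗ B ⟶ C := (CartesianMonoidalCategory.fst A B ≫ h₁) *
    (CartesianMonoidalCategory.snd A B ≫ h₂)
  haveI hh : IsMonHom h := by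
    show IsMonHom ((CartesianMonoidalCategory.fst A B ≫ h₁) *
      (CartesianMonoidalCategory.snd A B ≫ h₂))
    rw [Hom.mul_def]
    infer_instance
  have hcomp : (albX ⊗ₘ albY) ≫ h = g := by
    show (albX ⊗ₘ albY) ≫ ((CartesianMonoidalCategory.fst A B ≫ h₁) *
      (CartesianMonoidalCategory.snd A B ≫ h₂)) = g
    rw [MonObj.comp_mul, tensorHom_fst_assoc, tensorHom_snd_assoc, hh₁', hh₂']
    exact hdec.symm
  refine ⟨h, ⟨hh, hcomp⟩, ?_⟩
  rintro h' ⟨hh', hcomp'⟩
  rw [Groth.Agent.Lib.Helper10.RigidAA.hom_eq_mul_restrictions h']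
  have e1 : CartesianMonoidalCategory.lift (𝟙 A) (toUnit A ≫ η[B]) ≫ h' = h₁ := by
    apply hu₁
    refine ⟨inferInstance, ?_⟩
    have : albX ≫ CartesianMonoidalCategory.lift (𝟙 A) (toUnit A ≫ η[B]) =
        CartesianMonoidalCategory.lift (𝟙 X') (toUnit X' ≫ y₀) ≫ (albX ⊗ₘ albY) := by
      apply CartesianMonoidalCategory.hom_ext
      · rw [Category.assoc, lift_fst, Category.assoc, tensorHom_fst, lift_fst_assoc,
          Category.comp_id, Category.id_comp]
      · rw [Category.assoc, lift_snd, Category.assoc, tensorHom_snd, lift_snd_assoc,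
          Category.assoc, halbY, ← Category.assoc, toUnit_unique (albX ≫ toUnit A) (toUnit _)]
    rw [← Category.assoc, this, Category.assoc, hcomp']
  have e2 : CartesianMonoidalCategory.lift (toUnit B ≫ η[A]) (𝟙 B) ≫ h' = h₂ := by
    apply hu₂
    refine ⟨inferInstance, ?_⟩
    have : albY ≫ CartesianMonoidalCategory.lift (toUnit B ≫ η[A]) (𝟙 B) =
        CartesianMonoidalCategory.lift (toUnit Y' ≫ x₀) (𝟙 Y') ≫ (albX ⊗ₘ albY) := by
      apply CartesianMonoidalCategory.hom_ext
      · rw [Category.assoc, lift_fst, Category.assoc, tensorHom_fst, lift_fst_assoc,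
          Category.assoc, halbX, ← Category.assoc, toUnit_unique (albY ≫ toUnit B) (toUnit _)]
      · rw [Category.assoc, lift_snd, Category.assoc, tensorHom_snd, lift_snd_assoc,
          Category.comp_id, Category.id_comp]
    rw [← Category.assoc, this, Category.assoc, hcomp']
  rw [e1, e2]

end Groth.Agent.S14830
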