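import Groth.Statements.S14837
import Groth.Agent.S0002
import Groth.Agent.Lib.Lead.SD.FiniteDual
import Groth.Agent.Lib.Helper12.Dev7
import Groth.Agent.Lib.Helper2.EdgeInj.Basic

set_option autoImplicit false
universe u
open CategoryTheory CategoryTheory.Limits AlgebraicGeometry
open Coh

namespace Groth.Agent.S14837

/-- Let k be a field and f : X → Y a k-morphism between proper k-schemes which is a fibration (Γ(V, O_Y)
→ Γ(f⁻¹V, O_X) bijective for every open V ⊆ Y). Then H^1(Y, O_Y) injects naturally into H^1(X, O_X)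
(edge map of the Leray spectral sequence); stated here as the inequality dim_k H^1(Y, O_Y) ≤ dim_k
H^1(X, O_X) of finite dimensions. -/
theorem result (k : Type u) [Field k] (X Y : Scheme.{u})
    [X.Over (Spec (CommRingCat.of k))] [Y.Over (Spec (CommRingCat.of k))] [IsProper (X ↘ Spec (CommRingCat.of k))] [IsProper (Y ↘ Spec (CommRingCat.of k))]
    (f : X ⟶ Y) (hf : f ≫ (Y ↘ Spec (CommRingCat.of k)) = X ↘ Spec (CommRingCat.of k)) (hfib : ∀ V : Y.Opens, IsIso (f.app V)) :
    Module.finrank k (Coh.HH Y (Coh.structureModule Y) 1) ≤ Module.finrank k (Coh.HH X (Coh.structureModule X) 1) := by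
  have hiso : IsIso (ClSub.unitToPush f) := by
    rw [Scheme.Modules.Hom.isIso_iff_isIso_app]
    intro U
    rw [ConcreteCategory.isIso_iff_bijective]
    have h1 := hfib U
    have h2 : Function.Bijective (f.app U).hom :=
      (ConcreteCategory.isIso_iff_bijective (f.app U)).1 h1
    exact h2
  have hfinX : Module.Finite k (Coh.HH X (Coh.structureModule X) 1) :=
    Groth.Agent.S0002.result k X _ (Groth.Agent.Lib.Helper12.H12Dev.isCoh_unitM X) 1
  let e := CategoryTheory.asIso (ClSub.unitToPush f)
  have hinj1 : Function.Injective (Canon.HHlin k e.hom 1) := by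
    intro a b hab
    have h := congrArg (Canon.HHlin k e.inv 1) hab
    rw [← Groth.Agent.Lib.Lead.LinLES.HHlin_comp, ← Groth.Agent.Lib.Lead.LinLES.HHlin_comp,
      e.hom_inv_id, Groth.Agent.Lib.Lead.LinLES.HHlin_id,
      Groth.Agent.Lib.Lead.LinLES.HHlin_id] at h
    exact h
  have hinj2 : Function.Injective
      (Groth.Agent.Lib.Lead.SD.edgeLin k f hf (Coh.structureModule X) 1) := by
    intro a b hab
    exact Groth.Agent.Lib.Helper2.EdgeInj.injective_edge_one f.base
      (Coh.toAb (Coh.structureModule X)) hab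
  exact LinearMap.finrank_le_finrank_of_injective
    (f := (Groth.Agent.Lib.Lead.SD.edgeLin k f hf (Coh.structureModule X) 1).comp
      (Canon.HHlin k e.hom 1)) (hinj2.comp hinj1)

end Groth.Agent.S14837
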