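import Groth.Statements.S1484
import Mathlib.RingTheory.Algebraic.Integral
import Mathlib.RingTheory.Ideal.Operations
import Mathlib.RingTheory.Localization.FractionRing

set_option autoImplicit false
universe u
open FlatMor

namespace Groth.Agent.S1484


/-- there is an element of `R` with transcendental image. -/
lemma exists_transcendental {R : Type u} [CommRing R] (P : Ideal R) [P.IsPrime]
    (k : Subfield P.ResidueField) (hk : ¬ Algebra.IsAlgebraic ↥k P.ResidueField) :
    ∃ a : R, Transcendental ↥k (algebraMap R P.ResidueField a) := by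
  by_contra hcon
  push Not at hcon
  apply hk
  refine ⟨fun z => ?_⟩
  obtain ⟨x, y, hy, rfl⟩ := IsFractionRing.div_surjective (A := R ⧸ P) z
  obtain ⟨x, rfl⟩ := Ideal.Quotient.mk_surjective x
  obtain ⟨y, rfl⟩ := Ideal.Quotient.mk_surjective y
  have hx : IsAlgebraic ↥k (algebraMap R P.ResidueField x) := by
    have := hcon x
    simpa [Transcendental] using this
  have hy : IsAlgebraic ↥k (algebraMap R P.ResidueField y) := by
    have := hcon y
    simpa [Transcendental] using this
  rw [div_eq_mul_inv]
  exact IsAlgebraic.mul hx hy.inv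

/-- Let R be a ring, p_1, …, p_r primes of R none of which is contained in another, k_i ⊆ κ(p_i)
subfields over which κ(p_i) is not algebraic, and J an ideal of R contained in none of the p_i. Then
some x ∈ J has image in κ(p_i) transcendental over k_i for every i. -/
theorem result {R : Type u} [CommRing R] {r : ℕ} (p : Fin r → Ideal R) [∀ i, (p i).IsPrime]
    (hp : ∀ i j, i ≠ j → ¬ p i ≤ p j) (k : ∀ i, Subfield (p i).ResidueField)
    (hk : ∀ i, ¬ Algebra.IsAlgebraic ↥(k i) (p i).ResidueField) (J : Ideal R) (hJ : ∀ i, ¬ J ≤ p i) :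
    ∃ x ∈ J, ∀ i, Transcendental ↥(k i) (algebraMap R (p i).ResidueField x) := by
  classical
  have h1 : ∀ i, ∃ y ∈ J, (∀ j, j ≠ i → y ∈ p j) ∧ y ∉ p i := by
    intro i
    have hnot : ¬ (J * ∏ j ∈ Finset.univ.erase i, p j ≤ p i) := by
      intro h
      rcases (Ideal.IsPrime.mul_le inferInstance).1 h with h | h
      · exact hJ i h
      · obtain ⟨j, hj, hji⟩ := (Ideal.IsPrime.prod_le inferInstance).1 h
        exact hp j i (Finset.ne_of_mem_erase hj) hji
    obtain ⟨y, hy, hyi⟩ := SetLike.not_le_iff_exists.1 hnot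
    refine ⟨y, Ideal.mul_le_left hy, fun j hj => ?_, hyi⟩
    have h2 := Ideal.prod_le_inf (Ideal.mul_le_right hy)
    exact (Finset.inf_le (Finset.mem_erase.2 ⟨hj, Finset.mem_univ j⟩) : _ ≤ p j) h2
  have h2 : ∀ i, ∃ x ∈ J, (∀ j, j ≠ i → x ∈ p j) ∧
      Transcendental ↥(k i) (algebraMap R (p i).ResidueField x) := by
    intro i
    obtain ⟨y, hyJ, hyj, hyi⟩ := h1 i
    obtain ⟨a, ha⟩ := exists_transcendental (p i) (k i) (hk i)
    by_cases hy : Transcendental ↥(k i) (algebraMap R (p i).ResidueField y)
    · exact ⟨y, hyJ, hyj, hy⟩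
    · refine ⟨a * y, Ideal.mul_mem_left _ _ hyJ, fun j hj => Ideal.mul_mem_left _ _ (hyj j hj), ?_⟩
      intro halg
      apply ha
      have hy' : IsAlgebraic ↥(k i) (algebraMap R (p i).ResidueField y) := by
        simpa [Transcendental] using hy
      have hne : algebraMap R (p i).ResidueField y ≠ 0 := by
        rwa [Ne, Ideal.algebraMap_residueField_eq_zero]
      have : algebraMap R (p i).ResidueField a =
          algebraMap R (p i).ResidueField (a * y) * (algebraMap R (p i).ResidueField y)⁻¹ := by
        rw [map_mul, mul_assoc, mul_inv_cancel₀ hne, mul_one]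
      rw [this]
      exact IsAlgebraic.mul halg hy'.inv
  choose x hxJ hxj hxi using h2
  refine ⟨∑ i, x i, sum_mem fun i _ => hxJ i, fun i => ?_⟩
  have : algebraMap R (p i).ResidueField (∑ j, x j) = algebraMap R (p i).ResidueField (x i) := by
    rw [map_sum]
    refine Finset.sum_eq_single i (fun j _ hj => ?_) (fun h => absurd (Finset.mem_univ i) h)
    exact Ideal.algebraMap_residueField_eq_zero.2 (hxj j i hj.symm)
  rw [this]
  exact hxi i

end Groth.Agent.S1484
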