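import Groth.Statements.S14840
import Groth.Agent.Lib.Helper10.FixLocus

set_option autoImplicit false
open CategoryTheory MonoidalCategory CartesianMonoidalCategory AlgebraicGeometry
universe u
open AlgGrp

namespace Groth.Agent.S14840

/-- Let G be a group scheme over a scheme S, affine over S and with structure sheaf locally free over
O_S (each point of S has an affine open neighbourhood U such that the sections of O_G over the
preimage of U form a free module over the sections of O_S over U), acting on an S-scheme Y which is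
separated over S. Then the subfunctor of G-fixed points of Y is a closed subfunctor: there are an
S-scheme Z and a closed immersion i : Z → Y over S such that a T-valued point y of Y factors through
i exactly when it is fixed, i.e. g · y = y for every S-scheme T' over T and every T'-valued point g
of G. -/
theorem result
    {S : Scheme.{u}} (G Y : Over S) [GrpObj G] (a : AlgGrp.Action G Y)
    [IsAffineHom G.hom] [IsSeparated Y.hom]
    (hfree : ∀ s : S, ∃ U : S.affineOpens, s ∈ (U : S.Opens) ∧
      @Module.Free Γ(S, U) Γ(G.left, G.hom ⁻¹ᵁ U) _ _ (G.hom.app U).hom.toAlgebra.toModule) :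
    ∃ (Z : Over S) (i : Z ⟶ Y), IsClosedImmersion i.left ∧
      ∀ (T : Over S) (y : T ⟶ Y),
        (∀ (T' : Over S) (t : T' ⟶ T) (g : T' ⟶ G), lift g (t ≫ y) ≫ a.act = t ≫ y) ↔
          ∃ z : T ⟶ Z, z ≫ i = y := by
  have hG : Groth.Agent.Lib.Helper10.WeilClosed.AffLocProj G.hom := by
    refine Groth.Agent.Lib.Helper10.WeilClosed.affLocProj_of_app G.hom (fun s => ?_)
    obtain ⟨U, hsU, hU⟩ := hfree s
    refine ⟨U.1, U.2, hsU, U.2.preimage G.hom, ?_⟩
    letI := (G.hom.app U.1).hom.toAlgebra
    haveI : Module.Free Γ(S, U.1) Γ(G.left, G.hom ⁻¹ᵁ U.1) := hU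
    exact Module.Projective.of_free
  obtain ⟨T₀, t, ht, hrep⟩ :=
    Groth.Agent.Lib.Helper10.FixLocus.exists_repBy_fixSub_of_isSeparated_of_affLocProj hG
      (X := Y) a.act
  obtain ⟨Z, j, hj, h1, h2⟩ := Groth.Agent.Lib.Helper10.FixLocus.exists_fix_of_repBy a.act t hrep
  refine ⟨Z, j, hj, fun T y => ?_⟩
  rw [← h2 T y]
  exact (Groth.Agent.Lib.Helper10.FixLocus.fix_iff_points a.act y).symm

end Groth.Agent.S14840
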