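import Groth.Statements.S14845
import Mathlib
import Groth.Agent.Lib.Helper10.HilbLib2

set_option autoImplicit false
open CategoryTheory CategoryTheory.Limits AlgebraicGeometry
universe u
open HilbD

namespace Groth.Agent.S14845

set_option maxHeartbeats 4000000
set_option synthInstance.maxHeartbeats 400000

open CategoryTheory.Limits PicF Groth.Agent.Lib.Helper10.ClosedSubF Groth.Agent.Lib.Helper10.WeilClosed
  Groth.Agent.Lib.Helper10.HilbLib

variable {X S : Scheme.{u}} (f : X ⟶ S)

/-- the graph section `T ⟶ X_T` of a point `x : T ⟶ X`. -/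
noncomputable def graph (T : Over S) (x : T.left ⟶ X) (hx : x ≫ f = T.hom) : T.left ⟶ XT f T :=
  pullback.lift x (𝟙 T.left) (by simpa using hx)

theorem graph_fst (T : Over S) (x : T.left ⟶ X) (hx : x ≫ f = T.hom) :
    graph f T x hx ≫ pullback.fst f T.hom = x := pullback.lift_fst _ _ _

theorem graph_snd (T : Over S) (x : T.left ⟶ X) (hx : x ≫ f = T.hom) :
    graph f T x hx ≫ pullback.snd f T.hom = 𝟙 _ := pullback.lift_snd _ _ _

/-- the graph is the base change of the diagonal. -/
theorem isPullback_graph (T : Over S) (γ : T ⟶ Over.mk f) :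
    IsPullback (graph f T γ.left (Over.w γ)) γ.left (XTmap f γ) (pullback.diagonal f) := by
  have hd1 : pullback.diagonal f ≫ pullback.fst f (Over.mk f).hom = 𝟙 X := pullback.diagonal_fst f
  have hd2 : pullback.diagonal f ≫ pullback.snd f (Over.mk f).hom = 𝟙 X := pullback.diagonal_snd f
  have hcomm : graph f T γ.left (Over.w γ) ≫ XTmap f γ = γ.left ≫ pullback.diagonal f := by
    apply pullback.hom_ext
    · rw [Category.assoc, XTmap_fst, graph_fst, Category.assoc, hd1]
      exact (Category.comp_id _).symm
    · rw [Category.assoc, XTmap_snd, ← Category.assoc, graph_snd, Category.id_comp,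
        Category.assoc, hd2]
      exact (Category.comp_id _).symm
  refine ⟨⟨hcomm⟩, ⟨PullbackCone.IsLimit.mk _ (fun s => s.fst ≫ pullback.snd f T.hom)
    (fun s => ?_) (fun s => ?_) (fun s m h1 _ => ?_)⟩⟩
  · have e1 : s.fst ≫ pullback.fst f T.hom = s.snd := by
      have := congrArg (fun m => m ≫ pullback.fst f f) s.condition
      simp only [Category.assoc, pullback.diagonal_fst, Category.comp_id] at this
      rw [← this]
      exact congrArg (fun m => s.fst ≫ m) (XTmap_fst f γ).symm
    have e2 : s.fst ≫ pullback.snd f T.hom ≫ γ.left = s.snd := by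
      have := congrArg (fun m => m ≫ pullback.snd f f) s.condition
      simp only [Category.assoc, pullback.diagonal_snd, Category.comp_id] at this
      rw [← this]
      exact congrArg (fun m => s.fst ≫ m) (XTmap_snd f γ).symm
    apply pullback.hom_ext
    · rw [Category.assoc, graph_fst, Category.assoc, e2, e1]
    · rw [Category.assoc, graph_snd, Category.comp_id]
  · have e2 : s.fst ≫ pullback.snd f T.hom ≫ γ.left = s.snd := by
      have := congrArg (fun m => m ≫ pullback.snd f f) s.condition
      simp only [Category.assoc, pullback.diagonal_snd, Category.comp_id] at this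
      rw [← this]
      exact congrArg (fun m => s.fst ≫ m) (XTmap_snd f γ).symm
    rw [Category.assoc]
    exact e2
  · rw [← h1, Category.assoc, graph_snd, Category.comp_id]

theorem isFinLocFreeOfDeg_one_id (A : Scheme.{u}) : Mor2.IsFinLocFreeOfDeg 1 (𝟙 A) := by
  refine ⟨⟨inferInstance, inferInstance, inferInstance⟩, fun y => ?_⟩
  rw [Scheme.Hom.finrank_eq_one_of_isIso]
  rfl

/-- For a separated morphism f : X → S, the Hilbert functor of one point of X over S is represented by X
with the diagonal as universal family: the diagonal of X ×_S X (the graph of the identity section of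
X over itself) is a closed subscheme finite locally free of degree 1 over X, and every closed
subscheme of X ×_S T which is finite locally free of degree 1 over T is its base change along a
unique S-morphism T → X. (The published statement takes S Noetherian, f locally of finite type and
the Hilbert functor on locally Noetherian S-schemes with flat proper families of Hilbert polynomial
1; this row uses the functor of families finite locally free of degree 1 on all S-schemes, for which
the same argument applies without Noetherian hypotheses.) -/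
theorem result {X S : Scheme.{u}} (f : X ⟶ S) [IsSeparated f] :
    ∃ Δ : HilbD.Obj f 1 (Over.mk f),
      Δ.1 = HilbD.secGraph f (Over.mk f) (𝟙 X) (Category.id_comp f) ∧
      HilbD.IsUniversal f 1 (Over.mk f) Δ := by
  have hdiag : Mor2.IsFinLocFreeOfDeg 1 (pullback.diagonal f ≫ XTproj f (Over.mk f)) := by
    have : pullback.diagonal f ≫ XTproj f (Over.mk f) = 𝟙 X := pullback.diagonal_snd f
    rw [this]
    exact isFinLocFreeOfDeg_one_id X
  refine ⟨objOfClosedImm f (T := Over.mk f) (pullback.diagonal f) hdiag, rfl, ?_⟩
  intro T Z'
  -- the structure morphism of the family is an isomorphism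
  let w' := Z'.1.subschemeι ≫ XTproj f T
  obtain ⟨⟨h1, h2, h3⟩, h4⟩ := Z'.2
  haveI : IsFinite w' := h1
  haveI : Flat w' := h2
  haveI : LocallyOfFinitePresentation w' := h3
  haveI : IsIso w' := (Scheme.Hom.isIso_iff_finrank_eq w').2 (funext h4)
  let σ : T.left ⟶ XT f T := inv w' ≫ Z'.1.subschemeι
  have hσ2 : σ ≫ pullback.snd f T.hom = 𝟙 _ := by
    change (inv w' ≫ Z'.1.subschemeι) ≫ XTproj f T = _
    rw [Category.assoc]
    exact IsIso.inv_hom_id w'
  let x : T.left ⟶ X := σ ≫ pullback.fst f T.hom
  have hx : x ≫ f = T.hom := by
    change (σ ≫ pullback.fst f T.hom) ≫ f = _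
    rw [Category.assoc, pullback.condition, ← Category.assoc, hσ2, Category.id_comp]
  let γ : T ⟶ Over.mk f := Over.homMk x hx
  have hσ : σ = graph f T γ.left (Over.w γ) := by
    apply pullback.hom_ext
    · rw [graph_fst]
      rfl
    · rw [graph_snd, hσ2]
  have hσker : σ.ker = Z'.1 := by
    change (inv w' ≫ Z'.1.subschemeι).ker = _
    rw [Scheme.Hom.ker_comp_of_isIso, Scheme.IdealSheafData.ker_subschemeι]
  have hpull : ∀ γ' : T ⟶ Over.mk f, HilbD.pull f γ' (pullback.diagonal f).ker =
      (graph f T γ'.left (Over.w γ')).ker := fun γ' =>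
    pull_ker_of_isPullback f γ' (pullback.diagonal f) (isPullback_graph f T γ')
  refine ⟨γ, ?_, ?_⟩
  · change HilbD.pull f γ (pullback.diagonal f).ker = Z'.1
    rw [hpull γ, ← hσ, hσker]
  · intro γ' hγ'
    change HilbD.pull f γ' (pullback.diagonal f).ker = Z'.1 at hγ'
    rw [hpull γ', ← hσker] at hγ'
    haveI : IsClosedImmersion σ := inferInstanceAs (IsClosedImmersion (inv w' ≫ Z'.1.subschemeι))
    haveI : IsClosedImmersion (graph f T γ'.left (Over.w γ')) :=
      MorphismProperty.of_isPullback (P := @IsClosedImmersion) (isPullback_graph f T γ').flip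
        inferInstance
    obtain ⟨e, he⟩ := exists_iso_of_ker_eq _ _ hγ'
    have he1 : e.hom = 𝟙 _ := by
      have := congrArg (fun m => m ≫ pullback.snd f T.hom) he
      simp only [Category.assoc, hσ2, graph_snd, Category.comp_id] at this
      exact this
    rw [he1, Category.id_comp] at he
    apply Over.OverMorphism.ext
    have := congrArg (fun m => m ≫ pullback.fst f T.hom) he
    simp only [graph_fst] at this
    exact this.symm

end Groth.Agent.S14845
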