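import Groth.Statements.S14846
import Groth.Agent.Lib.Helper15.ArtinDescent
-- import your own Groth.Agent.* helpers here

set_option autoImplicit false
universe u v w
open Brauer

namespace Groth.Agent.S14846

open TensorProduct in
/-- Let L/K be a Galois extension with group Γ = Aut_K(L), and A a K-algebra which is a simple ring. If
L ⊗_K A is semisimple, then Γ, acting on L ⊗_K A through the first tensor factor, permutes its
simple components, i.e. its minimal nonzero two-sided ideals, transitively: any minimal two-sided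
ideal is carried onto any other by some γ ⊗ id. -/
theorem result
    {K : Type u} {L : Type v} [Field K] [Field L] [Algebra K L] [IsGalois K L]
    {A : Type w} [Ring A] [Algebra K A] [IsSimpleRing A]
    [IsSemisimpleRing (L ⊗[K] A)]
    (I J : TwoSidedIdeal (L ⊗[K] A)) (hI : IsAtom I) (hJ : IsAtom J) :
    ∃ γ : L ≃ₐ[K] L, (J : Set (L ⊗[K] A)) =
      Algebra.TensorProduct.map (γ : L →ₐ[K] L) (AlgHom.id K A) '' (I : Set (L ⊗[K] A)) := by
  classical
  by_contra hcon
  push Not at hcon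
  -- the action maps
  let T : (L ≃ₐ[K] L) → (L ⊗[K] A →ₐ[K] L ⊗[K] A) := fun γ =>
    Algebra.TensorProduct.map (γ : L →ₐ[K] L) (AlgHom.id K A)
  let E : (L ≃ₐ[K] L) → (L ⊗[K] A ≃ₐ[K] L ⊗[K] A) := fun γ =>
    Algebra.TensorProduct.congr γ AlgEquiv.refl
  have hET : ∀ γ x, E γ x = T γ x := fun γ x => rfl
  have hTact : ∀ γ x, T γ x = Groth.Agent.Lib.Helper15.ArtinDescent.act γ x := by
    intro γ x
    induction x using TensorProduct.induction_on with
    | zero => simp
    | tmul l a => simp [T]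
    | add a b ha hb => rw [map_add, map_add, ha, hb]
  have hTT : ∀ τ γ x, T τ (T γ x) = T (τ * γ) x := by
    intro τ γ x
    induction x using TensorProduct.induction_on with
    | zero => simp
    | tmul l a => simp [T, AlgEquiv.mul_apply]
    | add a b ha hb => simp only [map_add, ha, hb]
  have hT1 : ∀ x, T 1 x = x := by
    intro x
    induction x using TensorProduct.induction_on with
    | zero => simp
    | tmul l a => simp [T]
    | add a b ha hb => simp only [map_add, ha, hb]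
  -- translates of `I`
  let gI : (L ≃ₐ[K] L) → TwoSidedIdeal (L ⊗[K] A) := fun γ =>
    (E γ).toRingEquiv.mapTwoSidedIdeal I
  have hmem_gI : ∀ γ x, x ∈ gI γ ↔ (E γ).symm x ∈ I := by
    intro γ x
    simp only [gI, RingEquiv.mapTwoSidedIdeal, OrderIso.ofHomInv_apply]
    rw [TwoSidedIdeal.mem_comap]
    rfl
  have hgI_atom : ∀ γ, IsAtom (gI γ) := fun γ =>
    ((E γ).toRingEquiv.mapTwoSidedIdeal.isAtom_iff I).mpr hI
  have hgI_set : ∀ γ, ((gI γ : TwoSidedIdeal (L ⊗[K] A)) : Set (L ⊗[K] A)) =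
      T γ '' (I : Set (L ⊗[K] A)) := by
    intro γ
    ext x
    simp only [SetLike.mem_coe, Set.mem_image]
    rw [hmem_gI]
    constructor
    · intro h
      exact ⟨(E γ).symm x, h, by rw [← hET, AlgEquiv.apply_symm_apply]⟩
    · rintro ⟨y, hy, rfl⟩
      rw [← hET, AlgEquiv.symm_apply_apply]
      exact hy
  have hne : ∀ γ, J ≠ gI γ := by
    intro γ h
    apply hcon γ
    rw [← hgI_set γ, h]
  have hinf : ∀ γ, J ⊓ gI γ = ⊥ := fun γ => (IsAtom.disjoint_of_ne hJ (hgI_atom γ) (hne γ)).eq_bot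
  have hmul : ∀ γ, ∀ j ∈ J, ∀ y ∈ I, j * T γ y = 0 := by
    intro γ j hj y hy
    have h1 : j * T γ y ∈ J := TwoSidedIdeal.mul_mem_right _ _ _ hj
    have h2 : j * T γ y ∈ gI γ := by
      apply TwoSidedIdeal.mul_mem_left
      rw [hmem_gI, ← hET, AlgEquiv.symm_apply_apply]
      exact hy
    have h3 : j * T γ y ∈ J ⊓ gI γ := (TwoSidedIdeal.mem_inf (I := J) (J := gI γ)).mpr ⟨h1, h2⟩
    rw [hinf γ] at h3
    exact (TwoSidedIdeal.mem_bot _).mp h3
  -- the big annihilator-type ideal
  let W : TwoSidedIdeal (L ⊗[K] A) := TwoSidedIdeal.mk'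
    {y | ∀ γ : L ≃ₐ[K] L, ∀ j ∈ J, j * T γ y = 0}
    (by intro γ j _; rw [map_zero, mul_zero])
    (by
      intro x y hx hy γ j hj
      rw [map_add, mul_add, hx γ j hj, hy γ j hj, add_zero])
    (by
      intro x hx γ j hj
      rw [map_neg, mul_neg, hx γ j hj, neg_zero])
    (by
      intro x y hy γ j hj
      rw [map_mul, ← mul_assoc]
      exact hy γ _ (TwoSidedIdeal.mul_mem_right _ _ _ hj))
    (by
      intro x y hx γ j hj
      rw [map_mul, ← mul_assoc, hx γ j hj, zero_mul])
  have hmemW : ∀ y, y ∈ W ↔ ∀ γ : L ≃ₐ[K] L, ∀ j ∈ J, j * T γ y = 0 := by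
    intro y
    exact TwoSidedIdeal.mem_mk' _ _ _ _ _ _ y
  have hIW : I ≤ W := by
    intro y hy
    rw [hmemW]
    exact fun γ j hj => hmul γ j hj y hy
  let WL : Submodule L (L ⊗[K] A) :=
    { carrier := {y | y ∈ W}
      zero_mem' := W.zero_mem
      add_mem' := fun hx hy => W.add_mem hx hy
      smul_mem' := fun l y hy => by
        show l • y ∈ W
        rw [Algebra.smul_def]
        exact TwoSidedIdeal.mul_mem_left _ _ _ hy }
  have hfix : ∀ x : L, (∀ γ : L ≃ₐ[K] L, γ x = x) → x ∈ Set.range (algebraMap K L) :=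
    fun x hx => (InfiniteGalois.mem_range_algebraMap_iff_fixed x).mpr hx
  have hstab : ∀ (γ : L ≃ₐ[K] L), ∀ x ∈ WL, Groth.Agent.Lib.Helper15.ArtinDescent.act γ x ∈ WL := by
    intro γ x hx
    show _ ∈ W
    rw [← hTact, hmemW]
    intro τ j hj
    rw [hTT]
    exact (hmemW x).mp hx (τ * γ) j hj
  have hW0 : ∀ a : A, (1 : L) ⊗ₜ[K] a ∈ WL → a = 0 := by
    intro a ha
    let 𝔞 : TwoSidedIdeal A :=
      W.comap (Algebra.TensorProduct.includeRight : A →ₐ[K] L ⊗[K] A)
    have hmem𝔞 : ∀ a', a' ∈ 𝔞 ↔ (1 : L) ⊗ₜ[K] a' ∈ W := by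
      intro a'
      simp only [𝔞]
      rw [TwoSidedIdeal.mem_comap]
      rfl
    rcases eq_bot_or_eq_top 𝔞 with h | h
    · have : a ∈ 𝔞 := (hmem𝔞 a).mpr ha
      rw [h] at this
      exact (TwoSidedIdeal.mem_bot _).mp this
    · exfalso
      have h1 : (1 : A) ∈ 𝔞 := by rw [h]; trivial
      have h2 := (hmem𝔞 1).mp h1
      rw [hmemW] at h2
      apply hJ.1
      rw [eq_bot_iff]
      intro j hj
      have := h2 1 j hj
      rw [hT1, ← Algebra.TensorProduct.one_def, mul_one] at this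
      rw [this]
      exact TwoSidedIdeal.zero_mem _
  have hWbot := Groth.Agent.Lib.Helper15.ArtinDescent.eq_bot_of_stable hfix WL hstab hW0
  apply hI.1
  rw [eq_bot_iff]
  intro y hy
  have : y ∈ WL := hIW hy
  rw [hWbot] at this
  rw [(Submodule.mem_bot L).mp this]
  exact TwoSidedIdeal.zero_mem _

end Groth.Agent.S14846
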