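import Groth.Statements.S14847
import Groth.Agent.Lib.Helper7.HopfFinite

set_option autoImplicit false
universe u v
open HopfRep

namespace Groth.Agent.S14847

open TensorProduct in
/-- When K is a field of characteristic zero and G = Spec A is a finite group scheme over K, the
coordinate Hopf algebra A is cosemisimple, i.e. A is the internal direct sum of simple
subcoalgebras. Here a subcoalgebra of A is a subspace B whose comultiplication lands in the image of
B ⊗ B, and a simple subcoalgebra is a nonzero subcoalgebra D whose only subcoalgebras contained in D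
are 0 and D. -/
theorem result {K : Type u} {A : Type v} [Field K] [CharZero K]
    [CommRing A] [HopfAlgebra K A] [Module.Finite K A] :
    ∃ (ι : Type v) (D : ι → Submodule K A), iSupIndep D ∧ iSup D = ⊤ ∧ ∀ i,
        D i ≠ ⊥ ∧ (∀ b ∈ (D i), CoalgebraStruct.comul (R := K) b ∈ LinearMap.range (TensorProduct.map (D i).subtype (D i).subtype)) ∧
        ∀ B : Submodule K A, B ≤ D i → (∀ b ∈ B, CoalgebraStruct.comul (R := K) b ∈ LinearMap.range (TensorProduct.map B.subtype B.subtype)) → B = ⊥ ∨ B = D i := by
  have hLR : HopfRep.IsLinearlyReductive K A :=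
    Groth.Agent.Lib.Helper7.HopfFin.isLinearlyReductive_of_finite
  have hreg : HopfRep.IsSemisimpleComod K A A := hLR A inferInstance
  refine ⟨{D : Submodule K A // Groth.Agent.Lib.Helper7.Comod.IsSimpleSubcoalg D}, Subtype.val,
    Groth.Agent.Lib.Helper7.Comod.iSupIndep_isSimpleSubcoalg,
    Groth.Agent.Lib.Helper7.Comod.iSup_isSimpleSubcoalg_eq_top hreg, fun D => D.2⟩

end Groth.Agent.S14847
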