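import Groth.Statements.S14848
import Mathlib.LinearAlgebra.Matrix.SpecialLinearGroup
import Mathlib.RingTheory.RootsOfUnity.PrimitiveRoots
import Mathlib.LinearAlgebra.Matrix.NonsingularInverse
import Mathlib.Tactic.FieldSimp
import Mathlib.Tactic.FinCases
import Mathlib.Tactic.IntervalCases
import Mathlib.Tactic.LinearCombination

set_option autoImplicit false
universe u v
open McKay

namespace Groth.Agent.S14848

/-- Let K be a field of characteristic zero, L an extension field of K and ξ ∈ L a primitive n-th root
of unity (n ≥ 1) with ξ + ξ⁻¹ ∈ K, say ξ + ξ⁻¹ = 2c with c ∈ K (the character of the natural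
two-dimensional representation of the cyclic group of order n takes values in K). Then the cyclic
group of order n is realisable over K as a subgroup of SL(2, K): there is an element of SL(2, K) of
order n. -/
theorem result {K : Type u} {L : Type v} [Field K] [Field L]
    [CharZero K] [Algebra K L] (n : ℕ) (hn : 1 ≤ n) (ξ : L) (hξ : IsPrimitiveRoot ξ n) (c : K)
    (hc : algebraMap K L (2 * c) = ξ + ξ⁻¹) :
    ∃ M : Matrix.SpecialLinearGroup (Fin 2) K, orderOf M = n := by
  have hinj : Function.Injective (algebraMap K L) := (algebraMap K L).injective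
  have hξ0 : ξ ≠ 0 := hξ.ne_zero (by omega)
  rcases Nat.lt_or_ge n 3 with h3 | h3
  · interval_cases n
    · exact ⟨1, orderOf_one⟩
    · refine ⟨⟨!![-1, 0; 0, -1], by simp [Matrix.det_fin_two]⟩, ?_⟩
      apply orderOf_eq_prime
      · apply Subtype.ext
        ext i j
        fin_cases i <;> fin_cases j <;>
          simp [pow_two, Matrix.mul_apply, Fin.sum_univ_two]
      · intro h
        have h1 := congrArg (fun M : Matrix.SpecialLinearGroup (Fin 2) K => M.val 0 0) h
        simp only [Matrix.SpecialLinearGroup.coe_one, Matrix.one_apply_eq, Matrix.of_apply,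
          Matrix.cons_val', Matrix.cons_val_zero] at h1
        have h2 : (2 : K) = 0 := by linear_combination -h1
        exact two_ne_zero h2
  · have hξ2 : ξ ^ 2 ≠ 1 := hξ.pow_ne_one_of_pos_of_lt (by norm_num) (by omega)
    set M : Matrix.SpecialLinearGroup (Fin 2) K :=
      ⟨!![2 * c, -1; 1, 0], by simp [Matrix.det_fin_two]⟩ with hMdef
    refine ⟨M, ?_⟩
    rw [hξ.eq_orderOf, orderOf_eq_orderOf_iff]
    intro k
    set ML : Matrix (Fin 2) (Fin 2) L := !![ξ + ξ⁻¹, -1; 1, 0] with hMLdef
    set P : Matrix (Fin 2) (Fin 2) L := !![ξ, ξ⁻¹; 1, 1] with hPdef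
    set D : ℕ → Matrix (Fin 2) (Fin 2) L := fun k => !![ξ ^ k, 0; 0, ξ⁻¹ ^ k] with hDdef
    have hML : (algebraMap K L).mapMatrix M.val = ML := by
      ext i j
      fin_cases i <;> fin_cases j <;> simp [hMdef, hMLdef, ← hc]
    have hMLP : ML * P = P * D 1 := by
      ext i j
      fin_cases i <;> fin_cases j <;>
        simp [hMLdef, hPdef, hDdef, Matrix.mul_apply, Fin.sum_univ_two] <;> field_simp <;> ring
    have hDD : ∀ k, D k * D 1 = D (k + 1) := by
      intro k
      ext i j
      fin_cases i <;> fin_cases j <;>
        simp [hDdef, Matrix.mul_apply, Fin.sum_univ_two, pow_succ] <;> ring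
    have hstep : ∀ k : ℕ, ML ^ k * P = P * D k := by
      intro k
      induction k with
      | zero =>
        have : D 0 = 1 := by
          ext i j
          fin_cases i <;> fin_cases j <;> simp [hDdef]
        rw [pow_zero, one_mul, this, mul_one]
      | succ k ih =>
        rw [pow_succ, mul_assoc, hMLP, ← mul_assoc, ih, mul_assoc, hDD]
    have hdet : P.det ≠ 0 := by
      rw [hPdef, Matrix.det_fin_two]
      simp only [Matrix.of_apply, Matrix.cons_val', Matrix.cons_val_zero, Matrix.cons_val_one,
        Matrix.cons_val_fin_one]
      intro h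
      apply hξ2
      field_simp at h
      linear_combination h
    have hPunit : IsUnit P := (Matrix.isUnit_iff_isUnit_det P).2 (IsUnit.mk0 _ hdet)
    have hinjM : Function.Injective ((algebraMap K L).mapMatrix (m := Fin 2)) := by
      intro X Y hXY
      ext i j
      have := congrFun (congrFun hXY i) j
      simp only [RingHom.mapMatrix_apply, Matrix.map_apply] at this
      exact hinj this
    have hiff : M ^ k = 1 ↔ ML ^ k = 1 := by
      rw [← hML, ← map_pow]
      constructor
      · intro h
        have := congrArg Subtype.val h
        rw [Matrix.SpecialLinearGroup.coe_pow, Matrix.SpecialLinearGroup.coe_one] at this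
        rw [this, map_one]
      · intro h
        apply Subtype.ext
        rw [Matrix.SpecialLinearGroup.coe_pow, Matrix.SpecialLinearGroup.coe_one]
        apply hinjM
        rw [h, map_one]
    rw [hiff]
    constructor
    · intro h1
      have h2 := hstep k
      rw [h1, one_mul] at h2
      have h3 : D k = 1 := hPunit.mul_right_injective (by simpa using h2.symm)
      have := congrFun (congrFun h3 0) 0
      simpa [hDdef] using this
    · intro hk
      have hD : D k = 1 := by
        ext i j
        fin_cases i <;> fin_cases j <;> simp [hDdef, hk]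
      have h2 := hstep k
      rw [hD, mul_one] at h2
      exact hPunit.mul_left_injective (by simpa using h2)

end Groth.Agent.S14848
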