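import Groth.Statements.S14849
import Mathlib.Tactic
import Mathlib.Algebra.CharP.Algebra
-- import your own Groth.Agent.* helpers here

set_option autoImplicit false
universe u v
open McKay

namespace Groth.Agent.S14849

section lift
variable {G : Type*} [Group G] {n : ℕ} [NeZero n] (S T : G)

/-- the power map on `ZMod (2n)` -/
def g (i : ZMod (2 * n)) : G := S ^ i.val

variable {S T}

lemma g_add (hS : S ^ (2 * n) = 1) (i j : ZMod (2 * n)) : g S (i + j) = g S i * g S j := by
  unfold g
  rw [ZMod.val_add, ← pow_eq_pow_mod _ hS, pow_add]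

lemma g_zero : g S (0 : ZMod (2 * n)) = 1 := by
  unfold g; simp

lemma g_comm (i j : ZMod (2 * n)) : g S i * g S j = g S j * g S i := by
  unfold g; rw [← pow_add, ← pow_add, add_comm]

lemma g_sub (hS : S ^ (2 * n) = 1) (i j : ZMod (2 * n)) : g S (j - i) = (g S i)⁻¹ * g S j := by
  have h := g_add hS (j - i) i
  rw [sub_add_cancel] at h
  rw [h, g_comm, inv_mul_cancel_left]

lemma g_natCast (hn : 0 < n) : g S ((n : ℕ) : ZMod (2 * n)) = S ^ n := by
  unfold g
  rw [ZMod.val_natCast, Nat.mod_eq_of_lt (by omega)]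

lemma g_mul_T (hST : S * T * S = T) (i : ZMod (2 * n)) : g S i * T = T * (g S i)⁻¹ := by
  unfold g
  have h1 : S * T = T * S⁻¹ := by
    rw [eq_mul_inv_iff_mul_eq]; exact hST
  have : ∀ k : ℕ, S ^ k * T = T * (S ^ k)⁻¹ := by
    intro k
    induction k with
    | zero => simp
    | succ k ih =>
      rw [pow_succ, mul_assoc, h1, ← mul_assoc, ih, mul_assoc, ← mul_inv_rev, ← pow_succ',
        pow_succ]
  exact this _

/-- the homomorphism from the binary dihedral group -/
def liftHom (hS : S ^ (2 * n) = 1) (hT : T * T = S ^ n) (hST : S * T * S = T) :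
    QuaternionGroup n →* G where
  toFun x := match x with
    | QuaternionGroup.a i => g S i
    | QuaternionGroup.xa i => T * g S i
  map_one' := by
    rw [QuaternionGroup.one_def]
    exact g_zero
  map_mul' := by
    have hn : 0 < n := Nat.pos_of_ne_zero (NeZero.ne n)
    rintro (i | i) (j | j)
    · rw [QuaternionGroup.a_mul_a]; exact g_add hS i j
    · rw [QuaternionGroup.a_mul_xa]
      show T * g S (j - i) = g S i * (T * g S j)
      rw [g_sub hS, ← mul_assoc (g S i), g_mul_T hST, mul_assoc]
    · rw [QuaternionGroup.xa_mul_a]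
      show T * g S (i + j) = T * g S i * g S j
      rw [g_add hS, mul_assoc]
    · rw [QuaternionGroup.xa_mul_xa]
      show g S ((n : ZMod (2 * n)) + j - i) = T * g S i * (T * g S j)
      rw [add_sub_assoc, g_add hS, g_sub hS, g_natCast hn, ← hT, mul_assoc T (g S i),
        ← mul_assoc (g S i), g_mul_T hST]
      simp only [mul_assoc]

lemma liftHom_injective (hS : S ^ (2 * n) = 1) (hT : T * T = S ^ n) (hST : S * T * S = T)
    (hn : 2 ≤ n) (hord : ∀ k : ℕ, S ^ k = 1 → 2 * n ∣ k) :
    Function.Injective (liftHom hS hT hST) := by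
  rw [injective_iff_map_eq_one]
  rintro (i | i) h
  · have h' : S ^ i.val = 1 := h
    have hd := hord _ h'
    have hlt : i.val < 2 * n := ZMod.val_lt i
    have : i.val = 0 := Nat.eq_zero_of_dvd_of_lt hd hlt
    have hi : i = 0 := (ZMod.val_eq_zero i).mp this
    rw [hi, QuaternionGroup.a_zero]
  · exfalso
    have h' : T * S ^ i.val = 1 := h
    have hTe : T = (S ^ i.val)⁻¹ := eq_inv_of_mul_eq_one_left h'
    have hcomm : S * T = T * S := by
      rw [hTe, ← inv_pow]
      exact ((Commute.refl S).inv_right.pow_right _).eq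
    have h2 : S ^ 2 = 1 := by
      have : S * T * S = T * S * S := by rw [hcomm]
      rw [hST, mul_assoc] at this
      have := mul_left_cancel (a := T) (b := 1) (c := S * S) (by rw [mul_one]; exact this)
      rw [pow_two]; exact this.symm
    have := Nat.le_of_dvd (by norm_num) (hord 2 h2)
    omega

end lift


open Matrix

section mats
variable {L : Type*} [Field L]

lemma pow_mul_Q (ξ C s : L) (h1 : C + s = ξ) (h2 : C - s = ξ⁻¹) (k : ℕ) :
    (!![C, s ^ 2; 1, C] : Matrix (Fin 2) (Fin 2) L) ^ k * !![s, -s; 1, 1] =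
      !![s * ξ ^ k, -s * ξ⁻¹ ^ k; ξ ^ k, ξ⁻¹ ^ k] := by
  induction k with
  | zero => simp
  | succ k ih =>
    rw [pow_succ', mul_assoc, ih]
    rw [Matrix.mul_fin_two]
    subst h1
    have h3 : (C + s)⁻¹ = C - s := h2.symm
    rw [h3]
    congr 1
    ext i j
    fin_cases i <;> fin_cases j <;> simp <;> ring

end mats

/-- Let K be a field of characteristic zero, L an extension field of K, n ≥ 2, and ξ ∈ L a primitive
2n-th root of unity with ξ + ξ⁻¹ = 2c for some c ∈ K. If the Hilbert symbol of -1 and c² - 1 over K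
equals 1, i.e. x² - (c² - 1) y² = -1 has a solution in K, then the binary dihedral group of order 4n
(generators σ, τ with τ² = σⁿ = (τσ)²) is isomorphic to a subgroup of SL(2, K). (The published
statement is an equivalence; this row is the direction realising the group from a solution of the
conic.) -/
theorem result {K : Type u} {L : Type v}
    [Field K] [Field L] [CharZero K] [Algebra K L] (n : ℕ) (hn : 2 ≤ n) (ξ : L)
    (hξ : IsPrimitiveRoot ξ (2 * n)) (c : K) (hc : algebraMap K L (2 * c) = ξ + ξ⁻¹)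
    (hsol : ∃ x y : K, x ^ 2 - (c ^ 2 - 1) * y ^ 2 = -1) :
    ∃ f : QuaternionGroup n →* Matrix.SpecialLinearGroup (Fin 2) K, Function.Injective f := by
  obtain ⟨x, y, hxy⟩ := hsol
  have : NeZero n := ⟨by omega⟩
  have hL0 : CharZero L := charZero_of_injective_algebraMap (algebraMap K L).injective
  set φ := algebraMap K L with hφ
  have hξ0 : ξ ≠ 0 := hξ.ne_zero (by omega)
  -- constants in L
  set C : L := φ c with hC
  set s : L := (ξ - ξ⁻¹) / 2 with hs
  have hC2 : C = (ξ + ξ⁻¹) / 2 := by
    rw [← hc, map_mul, map_ofNat]; ring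
  have h1 : C + s = ξ := by rw [hC2, hs]; ring
  have h2 : C - s = ξ⁻¹ := by rw [hC2, hs]; ring
  have hd : φ (c ^ 2 - 1) = s ^ 2 := by
    rw [map_sub, map_pow, map_one, ← hC, hC2, hs]
    field_simp
    ring
  have hξn : ξ ^ n = -1 := by
    have : IsPrimitiveRoot (ξ ^ n) 2 := by
      have := hξ.pow_of_dvd (p := n) (by omega) (Dvd.intro_left 2 rfl)
      rwa [Nat.mul_div_cancel _ (by omega : 0 < n)] at this
    exact this.eq_neg_one_of_two_right
  have hξ2 : ξ ^ 2 ≠ 1 := by
    intro h
    have := hξ.dvd_of_pow_eq_one 2 h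
    have := Nat.le_of_dvd (by norm_num) this
    omega
  have hs0 : s ≠ 0 := by
    rw [hs]
    intro h
    have : ξ - ξ⁻¹ = 0 := by
      rcases div_eq_zero_iff.mp h with h | h
      · exact h
      · exact absurd h (by norm_num)
    apply hξ2
    have : ξ = ξ⁻¹ := sub_eq_zero.mp this
    rw [pow_two]
    nth_rewrite 2 [this]
    exact mul_inv_cancel₀ hξ0
  -- the matrices
  set d : K := c ^ 2 - 1 with hd'
  let Sm : Matrix (Fin 2) (Fin 2) K := !![c, d; 1, c]
  let Tm : Matrix (Fin 2) (Fin 2) K := !![x, -(d * y); y, -x]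
  have hSdet : Sm.det = 1 := by
    simp only [Sm, Matrix.det_fin_two_of, hd']; ring
  have hTdet : Tm.det = 1 := by
    simp only [Tm, Matrix.det_fin_two_of]
    linear_combination (-1 : K) * hxy
  let S : Matrix.SpecialLinearGroup (Fin 2) K := ⟨Sm, hSdet⟩
  let T : Matrix.SpecialLinearGroup (Fin 2) K := ⟨Tm, hTdet⟩
  -- the image of Sm in L
  have hSmL : φ.mapMatrix Sm = !![C, s ^ 2; 1, C] := by
    ext i j
    fin_cases i <;> fin_cases j <;> simp [Sm, hd, hC]
  have hQ : ∀ k : ℕ, φ.mapMatrix (Sm ^ k) * !![s, -s; 1, 1] =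
      !![s * ξ ^ k, -s * ξ⁻¹ ^ k; ξ ^ k, ξ⁻¹ ^ k] := by
    intro k
    rw [map_pow, hSmL]
    exact pow_mul_Q ξ C s h1 h2 k
  have hinj : Function.Injective (φ.mapMatrix (m := Fin 2)) := by
    intro A B hAB
    ext i j
    have := congrFun (congrFun hAB i) j
    simp only [RingHom.mapMatrix_apply, Matrix.map_apply] at this
    exact φ.injective this
  have hQunit : IsUnit (!![s, -s; 1, 1] : Matrix (Fin 2) (Fin 2) L) := by
    rw [Matrix.isUnit_iff_isUnit_det, Matrix.det_fin_two_of, isUnit_iff_ne_zero]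
    intro h
    apply hs0
    have : 2 * s = 0 := by linear_combination h
    rcases mul_eq_zero.mp this with h | h
    · exact absurd h (by norm_num)
    · exact h
  -- S^n = -1 as matrices
  have hSn : Sm ^ n = -1 := by
    apply hinj
    have h := hQ n
    rw [inv_pow, hξn] at h
    have h' : φ.mapMatrix (Sm ^ n) * !![s, -s; 1, 1] = (-1 : Matrix (Fin 2) (Fin 2) L) * !![s, -s; 1, 1] := by
      rw [h]
      ext i j
      fin_cases i <;> fin_cases j <;> simp
    rw [hQunit.mul_left_inj] at h'
    rw [h', map_neg, map_one]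
  have hTT : Tm * Tm = -1 := by
    simp only [Tm, Matrix.mul_fin_two]
    ext i j
    fin_cases i <;> fin_cases j <;> simp
    · linear_combination hxy
    · ring
    · ring
    · linear_combination hxy
  have hS2n : S ^ (2 * n) = 1 := by
    apply Subtype.ext
    show (S ^ (2 * n) : Matrix.SpecialLinearGroup (Fin 2) K).1 = 1
    rw [Matrix.SpecialLinearGroup.coe_pow]
    show Sm ^ (2 * n) = 1
    rw [mul_comm, pow_mul, hSn]
    simp
  have hT : T * T = S ^ n := by
    apply Subtype.ext
    show (T * T : Matrix.SpecialLinearGroup (Fin 2) K).1 = (S ^ n : Matrix.SpecialLinearGroup (Fin 2) K).1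
    rw [Matrix.SpecialLinearGroup.coe_pow, Matrix.SpecialLinearGroup.coe_mul]
    show Tm * Tm = Sm ^ n
    rw [hTT, hSn]
  have hST : S * T * S = T := by
    apply Subtype.ext
    show (S * T * S : Matrix.SpecialLinearGroup (Fin 2) K).1 = T.1
    rw [Matrix.SpecialLinearGroup.coe_mul, Matrix.SpecialLinearGroup.coe_mul]
    show Sm * Tm * Sm = Tm
    simp only [Sm, Tm, Matrix.mul_fin_two]
    ext i j
    fin_cases i <;> fin_cases j <;> simp [hd'] <;> ring
  have hord : ∀ k : ℕ, S ^ k = 1 → 2 * n ∣ k := by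
    intro k hk
    have hk' : Sm ^ k = 1 := by
      have := congrArg Subtype.val hk
      rwa [Matrix.SpecialLinearGroup.coe_pow] at this
    have h := hQ k
    rw [hk', map_one, one_mul] at h
    have h10 := congrFun (congrFun h 1) 0
    simp at h10
    exact hξ.dvd_of_pow_eq_one k h10.symm
  exact ⟨liftHom hS2n hT hST, liftHom_injective hS2n hT hST hn hord⟩

end Groth.Agent.S14849
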