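import Groth.Statements.S14852
import Mathlib.RingTheory.Flat.Basic
import Mathlib.LinearAlgebra.TensorProduct.RightExactness
-- import your own Groth.Agent.* helpers here

set_option autoImplicit false
universe u v w w'
open HopfRep

namespace Groth.Agent.S14852

open TensorProduct

section helpers

variable {K : Type u} [Field K] {C : Type v} [AddCommGroup C] [Module K C]

/-- membership in `W ⊗ D` is detected by the quotient -/
theorem mem_range_lTensor_iff (W : Type*) [AddCommGroup W] [Module K W] (D : Submodule K C)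
    (z : W ⊗[K] C) :
    z ∈ LinearMap.range (LinearMap.lTensor W D.subtype) ↔ LinearMap.lTensor W D.mkQ z = 0 := by
  have hex : Function.Exact D.subtype D.mkQ := by
    rw [LinearMap.exact_iff]
    simp
  have := lTensor_exact W hex (Submodule.mkQ_surjective D)
  rw [LinearMap.exact_iff] at this
  rw [← this, LinearMap.mem_ker]

theorem mem_range_rTensor_iff (W : Type*) [AddCommGroup W] [Module K W] (D : Submodule K C)
    (z : C ⊗[K] W) :
    z ∈ LinearMap.range (LinearMap.rTensor W D.subtype) ↔ LinearMap.rTensor W D.mkQ z = 0 := by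
  have hex : Function.Exact D.subtype D.mkQ := by
    rw [LinearMap.exact_iff]
    simp
  have := rTensor_exact W hex (Submodule.mkQ_surjective D)
  rw [LinearMap.exact_iff] at this
  rw [← this, LinearMap.mem_ker]

/-- `(W ⊗ D₁) ∩ (W ⊗ D₂) ⊆ W ⊗ (D₁ ∩ D₂)` -/
theorem range_lTensor_inf (W : Type*) [AddCommGroup W] [Module K W] (D₁ D₂ : Submodule K C)
    (z : W ⊗[K] C) (h₁ : z ∈ LinearMap.range (LinearMap.lTensor W D₁.subtype))
    (h₂ : z ∈ LinearMap.range (LinearMap.lTensor W D₂.subtype)) :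
    z ∈ LinearMap.range (LinearMap.lTensor W (D₁ ⊓ D₂).subtype) := by
  obtain ⟨z₂, rfl⟩ := h₂
  rw [mem_range_lTensor_iff] at h₁
  -- the map D₂ → C / D₁
  obtain ⟨g, hg⟩ : ∃ g : D₂ →ₗ[K] C ⧸ D₁, g = D₁.mkQ ∘ₗ D₂.subtype := ⟨_, rfl⟩
  have h3 : LinearMap.lTensor W g z₂ = 0 := by
    rw [hg, LinearMap.lTensor_comp]
    exact h₁
  have hex : Function.Exact (LinearMap.ker g).subtype g := by
    rw [LinearMap.exact_iff]
    simp
  have hex' := Module.Flat.lTensor_exact W hex
  rw [LinearMap.exact_iff] at hex'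
  have h4 : z₂ ∈ LinearMap.ker (LinearMap.lTensor W g) := h3
  rw [hex'] at h4
  obtain ⟨z₃, rfl⟩ := h4
  -- the inclusion ker g → D₁ ⊓ D₂
  have hgapp : ∀ y : D₂, g y = D₁.mkQ (y : C) := fun y => by rw [hg]; rfl
  have hk : ∀ x : LinearMap.ker g, ((x : D₂) : C) ∈ D₁ ⊓ D₂ := by
    intro x
    refine ⟨?_, (x : D₂).2⟩
    have h5 : g (x : D₂) = 0 := x.2
    rw [hgapp] at h5
    simpa using h5
  obtain ⟨j, hj⟩ : ∃ j : LinearMap.ker g →ₗ[K] (D₁ ⊓ D₂ : Submodule K C),
      (D₁ ⊓ D₂).subtype ∘ₗ j = D₂.subtype ∘ₗ (LinearMap.ker g).subtype :=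
    ⟨LinearMap.codRestrict _ (D₂.subtype ∘ₗ (LinearMap.ker g).subtype) hk, by ext; rfl⟩
  refine ⟨LinearMap.lTensor W j z₃, ?_⟩
  rw [← LinearMap.comp_apply, ← LinearMap.lTensor_comp, hj, LinearMap.lTensor_comp]
  rfl

/-- `(D₁ ⊗ W) ∩ (D₂ ⊗ W) ⊆ (D₁ ∩ D₂) ⊗ W` -/
theorem range_rTensor_inf (W : Type*) [AddCommGroup W] [Module K W] (D₁ D₂ : Submodule K C)
    (z : C ⊗[K] W) (h₁ : z ∈ LinearMap.range (LinearMap.rTensor W D₁.subtype))
    (h₂ : z ∈ LinearMap.range (LinearMap.rTensor W D₂.subtype)) :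
    z ∈ LinearMap.range (LinearMap.rTensor W (D₁ ⊓ D₂).subtype) := by
  obtain ⟨z₂, rfl⟩ := h₂
  rw [mem_range_rTensor_iff] at h₁
  obtain ⟨g, hg⟩ : ∃ g : D₂ →ₗ[K] C ⧸ D₁, g = D₁.mkQ ∘ₗ D₂.subtype := ⟨_, rfl⟩
  have h3 : LinearMap.rTensor W g z₂ = 0 := by
    rw [hg, LinearMap.rTensor_comp]
    exact h₁
  have hex : Function.Exact (LinearMap.ker g).subtype g := by
    rw [LinearMap.exact_iff]
    simp
  have hex' := Module.Flat.rTensor_exact W hex
  rw [LinearMap.exact_iff] at hex'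
  have h4 : z₂ ∈ LinearMap.ker (LinearMap.rTensor W g) := h3
  rw [hex'] at h4
  obtain ⟨z₃, rfl⟩ := h4
  have hgapp : ∀ y : D₂, g y = D₁.mkQ (y : C) := fun y => by rw [hg]; rfl
  have hk : ∀ x : LinearMap.ker g, ((x : D₂) : C) ∈ D₁ ⊓ D₂ := by
    intro x
    refine ⟨?_, (x : D₂).2⟩
    have h5 : g (x : D₂) = 0 := x.2
    rw [hgapp] at h5
    simpa using h5
  obtain ⟨j, hj⟩ : ∃ j : LinearMap.ker g →ₗ[K] (D₁ ⊓ D₂ : Submodule K C),
      (D₁ ⊓ D₂).subtype ∘ₗ j = D₂.subtype ∘ₗ (LinearMap.ker g).subtype :=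
    ⟨LinearMap.codRestrict _ (D₂.subtype ∘ₗ (LinearMap.ker g).subtype) hk, by ext; rfl⟩
  refine ⟨LinearMap.rTensor W j z₃, ?_⟩
  rw [← LinearMap.comp_apply, ← LinearMap.rTensor_comp, hj, LinearMap.rTensor_comp]
  rfl

/-- `(D ⊗ C) ∩ (C ⊗ D) ⊆ D ⊗ D` -/
theorem range_map_of_mem (D : Submodule K C) (z : C ⊗[K] C)
    (h₁ : z ∈ LinearMap.range (LinearMap.rTensor C D.subtype))
    (h₂ : z ∈ LinearMap.range (LinearMap.lTensor C D.subtype)) :
    z ∈ LinearMap.range (TensorProduct.map D.subtype D.subtype) := by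
  obtain ⟨z', rfl⟩ := h₁
  rw [mem_range_lTensor_iff] at h₂
  -- (C ⊗ q) ∘ (i ⊗ C) = (i ⊗ C/D) ∘ (D ⊗ q)
  have hcomm : LinearMap.lTensor C D.mkQ ∘ₗ LinearMap.rTensor C D.subtype =
      LinearMap.rTensor (C ⧸ D) D.subtype ∘ₗ LinearMap.lTensor D D.mkQ := by
    apply TensorProduct.ext'
    intro x y
    simp
  have h3 : LinearMap.rTensor (C ⧸ D) D.subtype (LinearMap.lTensor D D.mkQ z') = 0 := by
    rw [← LinearMap.comp_apply, ← hcomm]
    exact h₂
  have hinj : Function.Injective (LinearMap.rTensor (C ⧸ D) D.subtype) :=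
    Module.Flat.rTensor_preserves_injective_linearMap _ D.subtype_injective
  have h4 : LinearMap.lTensor D D.mkQ z' = 0 := hinj (by rw [h3, map_zero])
  rw [← mem_range_lTensor_iff] at h4
  obtain ⟨z'', rfl⟩ := h4
  refine ⟨z'', ?_⟩
  rw [← LinearMap.comp_apply]
  congr 1
  apply TensorProduct.ext'
  intro x y
  simp

theorem range_map_le_rTensor (D : Submodule K C) (z : C ⊗[K] C)
    (h : z ∈ LinearMap.range (TensorProduct.map D.subtype D.subtype)) :
    z ∈ LinearMap.range (LinearMap.rTensor C D.subtype) := by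
  obtain ⟨y, rfl⟩ := h
  refine ⟨LinearMap.lTensor D D.subtype y, ?_⟩
  rw [← LinearMap.comp_apply]
  congr 1
  apply TensorProduct.ext'
  intro x y
  simp

theorem range_map_le_lTensor (D : Submodule K C) (z : C ⊗[K] C)
    (h : z ∈ LinearMap.range (TensorProduct.map D.subtype D.subtype)) :
    z ∈ LinearMap.range (LinearMap.lTensor C D.subtype) := by
  obtain ⟨y, rfl⟩ := h
  refine ⟨LinearMap.rTensor D D.subtype y, ?_⟩
  rw [← LinearMap.comp_apply]
  congr 1
  apply TensorProduct.ext'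
  intro x y
  simp

/-- the intersection of two subcoalgebras is a subcoalgebra -/
theorem subcoalg_inf [Coalgebra K C] (D₁ D₂ : Submodule K C)
    (h₁ : ∀ b ∈ D₁, CoalgebraStruct.comul (R := K) b ∈
      LinearMap.range (TensorProduct.map D₁.subtype D₁.subtype))
    (h₂ : ∀ b ∈ D₂, CoalgebraStruct.comul (R := K) b ∈
      LinearMap.range (TensorProduct.map D₂.subtype D₂.subtype)) :
    ∀ b ∈ D₁ ⊓ D₂, CoalgebraStruct.comul (R := K) b ∈
      LinearMap.range (TensorProduct.map (D₁ ⊓ D₂).subtype (D₁ ⊓ D₂).subtype) := by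
  rintro b ⟨hb₁, hb₂⟩
  apply range_map_of_mem
  · exact range_rTensor_inf C D₁ D₂ _ (range_map_le_rTensor D₁ _ (h₁ b hb₁))
      (range_map_le_rTensor D₂ _ (h₂ b hb₂))
  · exact range_lTensor_inf C D₁ D₂ _ (range_map_le_lTensor D₁ _ (h₁ b hb₁))
      (range_map_le_lTensor D₂ _ (h₂ b hb₂))

end helpers

open TensorProduct in
/-- Over a field K, let C be a cosemisimple coalgebra and D₁ ≠ D₂ simple subcoalgebras of C. If V is a
right C-comodule whose coaction lands in V ⊗ D₁ and W one whose coaction lands in W ⊗ D₂, then the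
only comodule map V → W is zero. Here a subcoalgebra of C is a subspace B whose comultiplication
lands in the image of B ⊗ B, and a simple subcoalgebra is a nonzero subcoalgebra D whose only
subcoalgebras contained in D are 0 and D; cosemisimple means C is the internal direct sum of a
family of simple subcoalgebras. (The published statement is for quasi-coherent G-sheaves on a scheme
with trivial action of G = Spec C; this row is the statement on spaces of sections to which its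
proof reduces.) -/
theorem result {K : Type u} {C : Type v} [Field K]
    [AddCommGroup C] [Module K C] [Coalgebra K C]
    (hC : ∃ (ι : Type v) (D : ι → Submodule K C), iSupIndep D ∧ iSup D = ⊤ ∧ ∀ i,
        D i ≠ ⊥ ∧ (∀ b ∈ (D i), CoalgebraStruct.comul (R := K) b ∈ LinearMap.range (TensorProduct.map (D i).subtype (D i).subtype)) ∧
        ∀ B : Submodule K C, B ≤ D i → (∀ b ∈ B, CoalgebraStruct.comul (R := K) b ∈ LinearMap.range (TensorProduct.map B.subtype B.subtype)) → B = ⊥ ∨ B = D i)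
    (D₁ D₂ : Submodule K C) (hne : D₁ ≠ D₂)
    (h₁ : D₁ ≠ ⊥ ∧ (∀ b ∈ D₁, CoalgebraStruct.comul (R := K) b ∈ LinearMap.range (TensorProduct.map D₁.subtype D₁.subtype)) ∧ ∀ B : Submodule K C, B ≤ D₁ → (∀ b ∈ B, CoalgebraStruct.comul (R := K) b ∈ LinearMap.range (TensorProduct.map B.subtype B.subtype)) → B = ⊥ ∨ B = D₁)
    (h₂ : D₂ ≠ ⊥ ∧ (∀ b ∈ D₂, CoalgebraStruct.comul (R := K) b ∈ LinearMap.range (TensorProduct.map D₂.subtype D₂.subtype)) ∧ ∀ B : Submodule K C, B ≤ D₂ → (∀ b ∈ B, CoalgebraStruct.comul (R := K) b ∈ LinearMap.range (TensorProduct.map B.subtype B.subtype)) → B = ⊥ ∨ B = D₂)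
    {V : Type w} [AddCommGroup V] [Module K V] [HopfRep.Comod K C V]
    {W : Type w'} [AddCommGroup W] [Module K W] [HopfRep.Comod K C W]
    (hV : ∀ v : V, HopfRep.Comod.coact (k := K) (A := C) v ∈ LinearMap.range (LinearMap.lTensor V D₁.subtype))
    (hW : ∀ w : W, HopfRep.Comod.coact (k := K) (A := C) w ∈ LinearMap.range (LinearMap.lTensor W D₂.subtype))
    (φ : V →ₗ[K] W) (hφ : Hoch.IsComodHom C φ) : φ = 0 := by
  have hD : D₁ ⊓ D₂ = ⊥ := by
    rcases h₁.2.2 (D₁ ⊓ D₂) inf_le_left (subcoalg_inf D₁ D₂ h₁.2.1 h₂.2.1) with h | h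
    · exact h
    · exfalso
      have hle : D₁ ≤ D₂ := inf_eq_left.mp h
      rcases h₂.2.2 D₁ hle h₁.2.1 with h' | h'
      · exact h₁.1 h'
      · exact hne h'
  ext v
  rw [LinearMap.zero_apply]
  have h3 : HopfRep.Comod.coact (k := K) (A := C) (φ v) = 0 := by
    have h4 : HopfRep.Comod.coact (k := K) (A := C) (φ v) ∈
        LinearMap.range (LinearMap.lTensor W (D₁ ⊓ D₂).subtype) := by
      apply range_lTensor_inf W D₁ D₂ _ ?_ (hW (φ v))
      have h5 := LinearMap.congr_fun hφ v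
      simp only [LinearMap.comp_apply] at h5
      rw [h5]
      obtain ⟨y, hy⟩ := hV v
      rw [← hy]
      refine ⟨LinearMap.rTensor D₁ φ y, ?_⟩
      rw [← LinearMap.comp_apply, ← LinearMap.comp_apply]
      congr 1
      apply TensorProduct.ext'
      intro x y
      simp
    rw [hD] at h4
    obtain ⟨y, hy⟩ := h4
    have h0 : (⊥ : Submodule K C).subtype = 0 := by
      ext x
      exact (Submodule.mem_bot K).mp x.2
    rw [h0, LinearMap.lTensor_zero, LinearMap.zero_apply] at hy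
    exact hy.symm
  have h6 := LinearMap.congr_fun (HopfRep.Comod.counit_comp (k := K) (A := C) (V := W)) (φ v)
  simp only [LinearMap.comp_apply, h3, map_zero] at h6
  have h7 : (TensorProduct.rid K W) ((φ v) ⊗ₜ[K] (1 : K)) = 0 := by
    have : ((TensorProduct.mk K W K).flip 1) (φ v) = (φ v) ⊗ₜ[K] (1 : K) := rfl
    rw [← this, ← h6, map_zero]
  simpa using h7

end Groth.Agent.S14852
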