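import Groth.Statements.S14855
import Mathlib
-- import your own Groth.Agent.* helpers here

set_option autoImplicit false
universe u
open CAlg

namespace Groth.Agent.S14855

section helpers

variable (p : ℕ) [hp : Fact p.Prime]

/-- coefficients of `p^k` in `W(ℤ)` are highly divisible -/
theorem dvd_coeff_p_pow (k : ℕ) : ∀ i : ℕ,
    (p : ℤ) ^ (k - i) ∣ ((p : WittVector p ℤ) ^ k).coeff i := by
  intro i
  induction i using Nat.strong_induction_on with
  | _ i ih =>
    have hghost : WittVector.ghostComponent i ((p : WittVector p ℤ) ^ k) = (p : ℤ) ^ k := by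
      rw [map_pow, map_natCast]
    rw [WittVector.ghostComponent_apply, wittPolynomial_eq_sum_C_mul_X_pow, map_sum] at hghost
    simp only [map_mul, map_pow, MvPolynomial.aeval_C, MvPolynomial.aeval_X, map_natCast,
      algebraMap_int_eq, eq_intCast, Int.cast_natCast] at hghost
    rw [Finset.sum_range_succ, Nat.sub_self, pow_zero, pow_one] at hghost
    by_cases hik : k ≤ i
    · rw [Nat.sub_eq_zero_of_le hik, pow_zero]
      exact one_dvd _
    · rw [not_le] at hik
      have hsum : (p : ℤ) ^ k ∣ ∑ j ∈ Finset.range i,
          (p : ℤ) ^ j * (((p : WittVector p ℤ) ^ k).coeff j) ^ p ^ (i - j) := by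
        apply Finset.dvd_sum
        intro j hj
        rw [Finset.mem_range] at hj
        obtain ⟨c, hc⟩ := ih j hj
        rw [hc, mul_pow, ← mul_assoc]
        apply Dvd.dvd.mul_right
        rw [← pow_mul, ← pow_add]
        apply pow_dvd_pow
        have h1 : 1 ≤ p ^ (i - j) := Nat.one_le_pow _ _ hp.out.pos
        have h2 : k - j ≤ (k - j) * p ^ (i - j) := Nat.le_mul_of_pos_right _ h1
        omega
      have h3 : (p : ℤ) ^ k ∣ (p : ℤ) ^ i * ((p : WittVector p ℤ) ^ k).coeff i := by
        have : (p : ℤ) ^ i * ((p : WittVector p ℤ) ^ k).coeff i = (p : ℤ) ^ k -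
            ∑ j ∈ Finset.range i,
              (p : ℤ) ^ j * (((p : WittVector p ℤ) ^ k).coeff j) ^ p ^ (i - j) := by
          rw [← hghost]; ring
        rw [this]
        exact dvd_sub (dvd_refl _) hsum
      have h4 : (p : ℤ) ^ k = (p : ℤ) ^ i * (p : ℤ) ^ (k - i) := by
        rw [← pow_add]; congr 1; omega
      rw [h4] at h3
      exact (mul_dvd_mul_iff_left (pow_ne_zero i (by exact_mod_cast hp.out.ne_zero))).mp h3

variable (R : Type u) [CommRing R]

/-- the projection to truncated Witt vectors of `R/p^m` -/
noncomputable def theta (n m : ℕ) :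
    WittVector p R →+* TruncatedWittVector p n (R ⧸ Ideal.span {(p : R) ^ m}) :=
  (WittVector.truncate n).comp (WittVector.map (Ideal.Quotient.mk (Ideal.span {(p : R) ^ m})))

variable {R}

theorem theta_eq_iff (n m : ℕ) (x y : WittVector p R) :
    theta p R n m x = theta p R n m y ↔
      ∀ i < n, x.coeff i - y.coeff i ∈ Ideal.span {(p : R) ^ m} := by
  constructor
  · intro h i hi
    have := congrArg (fun z => z.coeff ⟨i, hi⟩) h
    simp only [theta, RingHom.comp_apply, WittVector.coeff_truncate, WittVector.map_coeff] at this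
    exact (Ideal.Quotient.eq).mp this
  · intro h
    apply TruncatedWittVector.ext
    intro i
    simp only [theta, RingHom.comp_apply, WittVector.coeff_truncate, WittVector.map_coeff]
    exact (Ideal.Quotient.eq).mpr (h i i.2)

theorem theta_p_pow (n m k : ℕ) (hk : n + m ≤ k) : theta p R n m ((p : WittVector p R) ^ k) = 0 := by
  rw [← map_zero (theta p R n m), theta_eq_iff]
  intro i hi
  rw [WittVector.zero_coeff, sub_zero]
  have h1 : ((p : WittVector p R) ^ k) =
      WittVector.map (Int.castRingHom R) ((p : WittVector p ℤ) ^ k) := by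
    rw [map_pow, map_natCast]
  rw [h1, WittVector.map_coeff]
  obtain ⟨c, hc⟩ := dvd_coeff_p_pow p k i
  rw [hc, map_mul, map_pow, eq_intCast, Int.cast_natCast]
  apply Ideal.mul_mem_right
  have h2 : k - i = m + (k - i - m) := by omega
  rw [h2, pow_add]
  exact Ideal.mul_mem_right _ _ (Ideal.mem_span_singleton_self _)

theorem theta_mul_p_pow (n m k : ℕ) (hk : n + m ≤ k) (w : WittVector p R) :
    theta p R n m ((p : WittVector p R) ^ k * w) = 0 := by
  rw [map_mul, theta_p_pow p n m k hk, zero_mul]

/-- separatedness for the limit topology -/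
theorem eq_of_theta_eq [IsHausdorff (Ideal.span {(p : R)}) R] (x y : WittVector p R)
    (h : ∀ n m, theta p R n m x = theta p R n m y) : x = y := by
  ext i
  rw [← sub_eq_zero]
  apply IsHausdorff.haus' (I := Ideal.span {(p : R)})
  intro m
  rw [SModEq.zero, smul_eq_mul, Ideal.mul_top, Ideal.span_singleton_pow]
  exact (theta_eq_iff p (i + 1) m x y).mp (h (i + 1) m) i (Nat.lt_succ_self i)

theorem exists_sub_eq_of_le (f : ℕ → WittVector p R)
    (hf : ∀ k, ∃ w, f (k + 1) - f k = (p : WittVector p R) ^ k * w) (N N' : ℕ) (h : N ≤ N') :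
    ∃ w, f N' - f N = (p : WittVector p R) ^ N * w := by
  induction N', h using Nat.le_induction with
  | base => exact ⟨0, by rw [sub_self, mul_zero]⟩
  | succ N' hN' ih =>
    obtain ⟨w, hw⟩ := ih
    obtain ⟨w', hw'⟩ := hf N'
    refine ⟨w + (p : WittVector p R) ^ (N' - N) * w', ?_⟩
    have h1 : f (N' + 1) - f N = (f (N' + 1) - f N') + (f N' - f N) := by ring
    rw [h1, hw, hw', mul_add, ← mul_assoc, ← pow_add, add_comm]
    congr 3
    omega

theorem theta_eq_of_le (f : ℕ → WittVector p R)
    (hf : ∀ k, ∃ w, f (k + 1) - f k = (p : WittVector p R) ^ k * w) (n m N N' : ℕ)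
    (hN : n + m ≤ N) (h : N ≤ N') : theta p R n m (f N') = theta p R n m (f N) := by
  obtain ⟨w, hw⟩ := exists_sub_eq_of_le p f hf N N' h
  rw [← sub_eq_zero, ← map_sub, hw]
  exact theta_mul_p_pow p n m N hN w

theorem span_pow_smul_top (m : ℕ) :
    ((Ideal.span {(p : R)}) ^ m • (⊤ : Submodule R R)) = Ideal.span {(p : R) ^ m} := by
  rw [smul_eq_mul, Ideal.mul_top, Ideal.span_singleton_pow]

/-- existence of limits for the limit topology -/
theorem exists_limit [IsPrecomplete (Ideal.span {(p : R)}) R] (f : ℕ → WittVector p R)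
    (hf : ∀ k, ∃ w, f (k + 1) - f k = (p : WittVector p R) ^ k * w) :
    ∃ L : WittVector p R, ∀ n m N, n + m ≤ N → theta p R n m (f N) = theta p R n m L := by
  have hg : ∀ i : ℕ, ∃ Li : R, ∀ m, (f (m + i + 1)).coeff i - Li ∈ Ideal.span {(p : R) ^ m} := by
    intro i
    obtain ⟨Li, hLi⟩ := IsPrecomplete.prec' (I := Ideal.span {(p : R)})
      (fun m => (f (m + i + 1)).coeff i) (by
        intro m m' hmm'
        rw [SModEq.sub_mem, span_pow_smul_top]
        have h1 := theta_eq_of_le p f hf (i + 1) m (m + i + 1) (m' + i + 1) (by omega) (by omega)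
        have h2 := (theta_eq_iff p (i + 1) m _ _).mp h1 i (Nat.lt_succ_self i)
        rw [← neg_sub]
        exact neg_mem h2)
    refine ⟨Li, fun m => ?_⟩
    have := hLi m
    rw [SModEq.sub_mem, span_pow_smul_top] at this
    exact this
  choose Lc hLc using hg
  refine ⟨WittVector.mk p Lc, fun n m N hN => ?_⟩
  rw [theta_eq_iff]
  intro i hi
  rw [WittVector.coeff_mk]
  have h1 := theta_eq_of_le p f hf n m N (m + N + i + 1) hN (by omega)
  have h2 := (theta_eq_iff p n m _ _).mp h1 i hi
  have h3 := hLc i (m + N)
  have h4 : Ideal.span {(p : R) ^ (m + N)} ≤ Ideal.span {(p : R) ^ m} := by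
    rw [Ideal.span_singleton_le_iff_mem, pow_add]
    exact Ideal.mul_mem_right _ _ (Ideal.mem_span_singleton_self _)
  have h5 : (f N).coeff i - Lc i = -((f (m + N + i + 1)).coeff i - (f N).coeff i) +
      ((f (m + N + i + 1)).coeff i - Lc i) := by ring
  rw [h5]
  exact add_mem (neg_mem h2) (h4 h3)

theorem span_pow_smul_top_W (m : ℕ) :
    ((Ideal.span {(p : WittVector p R)}) ^ m • (⊤ : Submodule (WittVector p R) (WittVector p R))) =
      Ideal.span {(p : WittVector p R) ^ m} := by
  rw [smul_eq_mul, Ideal.mul_top, Ideal.span_singleton_pow]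

/-- part 1: `p`-adic completeness -/
theorem isAdicComplete_p [IsAdicComplete (Ideal.span {(p : R)}) R] :
    IsAdicComplete (Ideal.span {(p : WittVector p R)}) (WittVector p R) := by
  haveI : IsHausdorff (Ideal.span {(p : WittVector p R)}) (WittVector p R) := by
    refine ⟨fun x hx => ?_⟩
    apply eq_of_theta_eq p x 0
    intro n m
    have h1 := hx (n + m)
    rw [SModEq.zero, span_pow_smul_top_W, Ideal.mem_span_singleton] at h1
    obtain ⟨w, rfl⟩ := h1
    rw [theta_mul_p_pow p n m (n + m) le_rfl w, map_zero]
  haveI : IsPrecomplete (Ideal.span {(p : WittVector p R)}) (WittVector p R) := by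
    refine ⟨fun f hf => ?_⟩
    have hf' : ∀ k, ∃ w, f (k + 1) - f k = (p : WittVector p R) ^ k * w := by
      intro k
      have h1 := hf (Nat.le_succ k)
      rw [SModEq.sub_mem, span_pow_smul_top_W, Ideal.mem_span_singleton] at h1
      obtain ⟨w, hw⟩ := h1
      refine ⟨-w, ?_⟩
      rw [mul_neg, ← hw]
      ring
    choose y hy using hf'
    obtain ⟨L, hL⟩ := exists_limit p f (fun k => ⟨y k, hy k⟩)
    refine ⟨L, fun K => ?_⟩
    -- the tail sums
    obtain ⟨z, hz⟩ : ∃ z : ℕ → WittVector p R,
        z = fun N => ∑ j ∈ Finset.range N, (p : WittVector p R) ^ j * y (K + j) := ⟨_, rfl⟩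
    have hz1 : ∀ N, ∃ w, z (N + 1) - z N = (p : WittVector p R) ^ N * w := by
      intro N
      refine ⟨y (K + N), ?_⟩
      rw [hz]
      simp only
      rw [Finset.sum_range_succ]
      ring
    have hz2 : ∀ N, f (K + N) - f K = (p : WittVector p R) ^ K * z N := by
      intro N
      induction N with
      | zero => rw [hz]; simp
      | succ N ih =>
        have h1 : f (K + (N + 1)) - f K = (f (K + N + 1) - f (K + N)) + (f (K + N) - f K) := by
          rw [← add_assoc]; ring
        rw [h1, hy, ih, hz]
        simp only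
        rw [Finset.sum_range_succ, pow_add]
        ring
    obtain ⟨Z, hZ⟩ := exists_limit p z hz1
    have hkey : L - f K = (p : WittVector p R) ^ K * Z := by
      apply eq_of_theta_eq p
      intro n m
      have e1 := hL n m (K + (n + m)) (by omega)
      have e2 := hZ n m (n + m) le_rfl
      rw [map_sub, ← e1, ← map_sub, hz2, map_mul, map_mul, e2]
    rw [SModEq.sub_mem, span_pow_smul_top_W, Ideal.mem_span_singleton]
    refine ⟨-Z, ?_⟩
    rw [mul_neg, ← hkey]
    ring
  exact ⟨⟩

section Iadic

open WittVector

/-- the augmentation ideal -/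
noncomputable def II : Ideal (WittVector p R) :=
  RingHom.ker (WittVector.constantCoeff : WittVector p R →+* R)

theorem mem_II_iff (x : WittVector p R) : x ∈ II p (R := R) ↔ x.coeff 0 = 0 := by
  unfold II
  rw [RingHom.mem_ker]
  rfl

theorem verschiebung_mem_II (x : WittVector p R) : verschiebung x ∈ II p (R := R) := by
  rw [mem_II_iff, verschiebung_coeff_zero]

theorem exists_eq_verschiebung {x : WittVector p R} (hx : x ∈ II p (R := R)) :
    ∃ x', x = verschiebung x' := by
  rw [mem_II_iff] at hx
  refine ⟨x.shift 1, ?_⟩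
  have := eq_iterate_verschiebung (x := x) (n := 1) (by
    intro i hi
    have : i = 0 := by omega
    rw [this, hx])
  simpa using this

theorem verschiebung_natCast_mul (n : ℕ) (w : WittVector p R) :
    verschiebung ((n : WittVector p R) * w) = (n : WittVector p R) * verschiebung w := by
  rw [← nsmul_eq_mul, map_nsmul, nsmul_eq_mul]

theorem verschiebung_p_pow_mul (j : ℕ) (w : WittVector p R) :
    verschiebung ((p : WittVector p R) ^ j * w) = (p : WittVector p R) ^ j * verschiebung w := by
  have := verschiebung_natCast_mul p (p ^ j) w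
  rwa [Nat.cast_pow] at this

theorem verschiebung_mul_verschiebung (x y : WittVector p R) :
    verschiebung x * verschiebung y = (p : WittVector p R) * verschiebung (x * y) := by
  rw [← verschiebung_mul_frobenius, frobenius_verschiebung, ← verschiebung_natCast_mul]
  congr 1
  ring

theorem II_mul_II_le : II p (R := R) * II p (R := R) ≤ Ideal.span {(p : WittVector p R)} * II p := by
  rw [Ideal.mul_le]
  intro x hx y hy
  obtain ⟨x', rfl⟩ := exists_eq_verschiebung p hx
  obtain ⟨y', rfl⟩ := exists_eq_verschiebung p hy
  rw [verschiebung_mul_verschiebung]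
  exact Ideal.mul_mem_mul (Ideal.mem_span_singleton_self _) (verschiebung_mem_II p _)

theorem span_mul_II_le : Ideal.span {(p : WittVector p R)} * II p (R := R) ≤ II p * II p := by
  rw [Ideal.mul_le]
  intro x hx y hy
  obtain ⟨c, rfl⟩ := Ideal.mem_span_singleton'.mp hx
  obtain ⟨y', rfl⟩ := exists_eq_verschiebung p hy
  have h1 : c * (p : WittVector p R) * verschiebung y' =
      c * (verschiebung 1 * verschiebung y') := by
    rw [verschiebung_mul_verschiebung, one_mul]
    ring
  rw [h1]
  exact Ideal.mul_mem_left _ _ (Ideal.mul_mem_mul (verschiebung_mem_II p _) (verschiebung_mem_II p _))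

theorem II_pow_succ (K : ℕ) :
    II p (R := R) ^ (K + 1) = Ideal.span {(p : WittVector p R) ^ K} * II p := by
  induction K with
  | zero => rw [pow_zero, zero_add, pow_one, Ideal.span_singleton_one, Ideal.top_mul]
  | succ K ih =>
    rw [pow_succ, ih, mul_assoc]
    have : II p (R := R) * II p (R := R) = Ideal.span {(p : WittVector p R)} * II p :=
      le_antisymm (II_mul_II_le p) (span_mul_II_le p)
    rw [this, ← mul_assoc, Ideal.span_singleton_mul_span_singleton, ← pow_succ]

theorem II_pow_succ_le (K : ℕ) :
    II p (R := R) ^ (K + 1) ≤ Ideal.span {(p : WittVector p R) ^ K} := by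
  rw [II_pow_succ]
  exact Ideal.mul_le_left

/-- part 2: completeness for the augmentation ideal -/
theorem isAdicComplete_II [IsAdicComplete (Ideal.span {(p : R)}) R] :
    IsAdicComplete (II p (R := R)) (WittVector p R) := by
  haveI hcomp := isAdicComplete_p p (R := R)
  haveI : IsHausdorff (II p (R := R)) (WittVector p R) := by
    refine ⟨fun x hx => ?_⟩
    apply IsHausdorff.haus' (I := Ideal.span {(p : WittVector p R)})
    intro k
    rw [SModEq.zero, span_pow_smul_top_W]
    have h1 := hx (k + 1)
    rw [SModEq.zero, smul_eq_mul, Ideal.mul_top] at h1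
    exact II_pow_succ_le p k h1
  haveI : IsPrecomplete (II p (R := R)) (WittVector p R) := by
    refine ⟨fun f hf => ?_⟩
    -- the differences
    have hf' : ∀ k, ∃ y, f (k + 2) - f (k + 1) = (p : WittVector p R) ^ k * verschiebung y := by
      intro k
      have h1 := hf (Nat.le_succ (k + 1))
      rw [SModEq.sub_mem, smul_eq_mul, Ideal.mul_top, II_pow_succ,
        Ideal.mem_span_singleton_mul] at h1
      obtain ⟨a, ha, hae⟩ := h1
      obtain ⟨a', rfl⟩ := exists_eq_verschiebung p ha
      refine ⟨-a', ?_⟩
      rw [map_neg, mul_neg, hae]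
      ring
    choose y hy using hf'
    obtain ⟨F, hF⟩ : ∃ F : ℕ → WittVector p R, F = fun k => f (k + 1) := ⟨_, rfl⟩
    have hF1 : ∀ k, ∃ w, F (k + 1) - F k = (p : WittVector p R) ^ k * w := by
      intro k
      rw [hF]
      exact ⟨verschiebung (y k), hy k⟩
    obtain ⟨L, hL⟩ := IsPrecomplete.prec' (I := Ideal.span {(p : WittVector p R)}) F (by
      intro m n hmn
      obtain ⟨w, hw⟩ := exists_sub_eq_of_le p F hF1 m n hmn
      rw [SModEq.sub_mem, span_pow_smul_top_W, Ideal.mem_span_singleton]
      refine ⟨-w, ?_⟩
      rw [mul_neg, ← hw]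
      ring)
    refine ⟨L, fun K => ?_⟩
    cases K with
    | zero =>
      rw [pow_zero, Ideal.one_eq_top, Submodule.top_smul]
      exact SModEq.top
    | succ K =>
      -- tail sums
      obtain ⟨S, hS⟩ : ∃ S : ℕ → WittVector p R,
          S = fun N => ∑ j ∈ Finset.range N, (p : WittVector p R) ^ j * y (K + j) := ⟨_, rfl⟩
      have hS1 : ∀ N, ∃ w, S (N + 1) - S N = (p : WittVector p R) ^ N * w := by
        intro N
        refine ⟨y (K + N), ?_⟩
        rw [hS]
        simp only
        rw [Finset.sum_range_succ]
        ring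
      have hS2 : ∀ N, F (K + N) - F K = (p : WittVector p R) ^ K * verschiebung (S N) := by
        intro N
        induction N with
        | zero => rw [hS]; simp
        | succ N ih =>
          have h1 : F (K + (N + 1)) - F K = (F (K + N + 1) - F (K + N)) + (F (K + N) - F K) := by
            rw [← add_assoc]; ring
          rw [h1, ih, hF]
          simp only
          rw [hy, hS]
          simp only
          rw [Finset.sum_range_succ, map_add, verschiebung_p_pow_mul, pow_add]
          ring
      obtain ⟨Y, hY⟩ := IsPrecomplete.prec' (I := Ideal.span {(p : WittVector p R)}) S (by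
        intro m n hmn
        obtain ⟨w, hw⟩ := exists_sub_eq_of_le p S hS1 m n hmn
        rw [SModEq.sub_mem, span_pow_smul_top_W, Ideal.mem_span_singleton]
        refine ⟨-w, ?_⟩
        rw [mul_neg, ← hw]
        ring)
      have hkey : L - F K = (p : WittVector p R) ^ K * verschiebung Y := by
        rw [← sub_eq_zero]
        apply IsHausdorff.haus' (I := Ideal.span {(p : WittVector p R)})
        intro j
        rw [SModEq.zero, span_pow_smul_top_W]
        have e1 := hL (K + j)
        rw [SModEq.sub_mem, span_pow_smul_top_W, Ideal.mem_span_singleton] at e1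
        obtain ⟨w1, hw1⟩ := e1
        have e2 := hY j
        rw [SModEq.sub_mem, span_pow_smul_top_W, Ideal.mem_span_singleton] at e2
        obtain ⟨w2, hw2⟩ := e2
        have e3 : L - F K - (p : WittVector p R) ^ K * verschiebung Y =
            -(F (K + j) - L) + (F (K + j) - F K) - (p : WittVector p R) ^ K * verschiebung Y := by
          ring
        rw [e3, hw1, hS2 j, Ideal.mem_span_singleton]
        have e4 : S j = Y + (p : WittVector p R) ^ j * w2 := by rw [← hw2]; ring
        rw [e4, map_add, verschiebung_p_pow_mul]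
        refine ⟨-((p : WittVector p R) ^ K * w1) + (p : WittVector p R) ^ K * verschiebung w2, ?_⟩
        rw [pow_add]
        ring
      rw [SModEq.sub_mem, smul_eq_mul, Ideal.mul_top, II_pow_succ, Ideal.mem_span_singleton_mul]
      refine ⟨-verschiebung Y, neg_mem (verschiebung_mem_II p _), ?_⟩
      have : f (K + 1) = F K := by rw [hF]
      rw [this, mul_neg, ← hkey]
      ring
  exact ⟨⟩

end Iadic

end helpers

/-- Let p be a prime and R a commutative ring which is complete and separated for the p-adic topology.
Then the ring W(R) of p-typical Witt vectors of R is complete and separated for its own p-adic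
topology, and it is also complete and separated for the adic topology of the ideal I_R, the kernel
of the projection of W(R) onto the zeroth Witt component. -/
theorem result (p : ℕ) [Fact p.Prime] (R : Type u) [CommRing R]
    [IsAdicComplete (Ideal.span {(p : R)}) R] :
    IsAdicComplete (Ideal.span {(p : WittVector p R)}) (WittVector p R) ∧
      IsAdicComplete (RingHom.ker (WittVector.constantCoeff : WittVector p R →+* R)) (WittVector p R) := by
  exact ⟨isAdicComplete_p p, isAdicComplete_II p⟩

end Groth.Agent.S14855
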