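import Groth.Statements.S14856
-- import your own Groth.Agent.* helpers here

set_option autoImplicit false
universe u
open CAlg

namespace Groth.Agent.S14856

lemma le_mul_pow (p : ℕ) (hp : 2 ≤ p) (s k : ℕ) (hs : 1 ≤ s) : s + k ≤ s * p ^ k := by
  have h1 : k + 1 ≤ p ^ k := by
    have : k < p ^ k := Nat.lt_pow_self (by omega)
    omega
  calc s + k ≤ s * (k + 1) := by nlinarith
    _ ≤ s * p ^ k := Nat.mul_le_mul_left _ h1

lemma term_dvd {S : Type u} [CommRing S] (p : ℕ) (hp : 2 ≤ p) (s : ℕ) (hs : 1 ≤ s) (n i : ℕ)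
    (hi : i ≤ n) (a : S) (ha : (p : S) ^ s ∣ a) :
    (p : S) ^ (n + s) ∣ (p : S) ^ i * a ^ p ^ (n - i) := by
  have h1 : (p : S) ^ (s * p ^ (n - i)) ∣ a ^ p ^ (n - i) := by
    rw [pow_mul]
    exact pow_dvd_pow_of_dvd ha _
  have h2 : n + s ≤ i + s * p ^ (n - i) := by
    have := le_mul_pow p hp s (n - i) hs
    omega
  calc (p : S) ^ (n + s) ∣ (p : S) ^ (i + s * p ^ (n - i)) := pow_dvd_pow _ h2
    _ = (p : S) ^ i * (p : S) ^ (s * p ^ (n - i)) := pow_add _ _ _
    _ ∣ (p : S) ^ i * a ^ p ^ (n - i) := mul_dvd_mul_left _ h1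

/-- Let p be a prime and S a commutative ring in which p is a non-zero-divisor. For a p-typical Witt
vector x over S, a natural number m and an integer s ≥ 1, the power p^s divides each of the Witt
components x_0, …, x_m if and only if p^(n+s) divides the n-th ghost component w_n(x) = x_0^(p^n) +
p x_1^(p^(n-1)) + ⋯ + p^n x_n for every n ≤ m. -/
theorem result (p : ℕ) [Fact p.Prime] (S : Type u) [CommRing S]
    (hS : ∀ y : S, (p : S) * y = 0 → y = 0) (x : WittVector p S) (m s : ℕ) (hs : 1 ≤ s) :
    (∀ i ≤ m, (p : S) ^ s ∣ x.coeff i) ↔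
      (∀ n ≤ m, (p : S) ^ (n + s) ∣ WittVector.ghostComponent n x) := by
  have hp2 : 2 ≤ p := (Fact.out : p.Prime).two_le
  have hpow : ∀ (k : ℕ) (y : S), (p : S) ^ k * y = 0 → y = 0 := by
    intro k
    induction k with
    | zero => intro y hy; simpa using hy
    | succ k ih =>
      intro y hy
      rw [pow_succ, mul_assoc] at hy
      exact hS y (ih _ hy)
  constructor
  · intro h n hn
    rw [WittVector.ghostComponent_apply, aeval_wittPolynomial]
    apply Finset.dvd_sum
    intro i hi
    rw [Finset.mem_range] at hi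
    exact term_dvd p hp2 s hs n i (by omega) _ (h i (by omega))
  · intro h i
    induction i using Nat.strong_induction_on with
    | _ i ih =>
      intro him
      have hw := h i him
      rw [WittVector.ghostComponent_apply, aeval_wittPolynomial, Finset.sum_range_succ] at hw
      have hrest : (p : S) ^ (i + s) ∣ ∑ j ∈ Finset.range i, (p : S) ^ j * x.coeff j ^ p ^ (i - j) := by
        apply Finset.dvd_sum
        intro j hj
        rw [Finset.mem_range] at hj
        exact term_dvd p hp2 s hs i j (by omega) _ (ih j hj (by omega))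
      have hlast : (p : S) ^ (i + s) ∣ (p : S) ^ i * x.coeff i ^ p ^ (i - i) :=
        (dvd_add_right hrest).mp hw
      rw [Nat.sub_self, pow_zero, pow_one, pow_add] at hlast
      obtain ⟨c, hc⟩ := hlast
      refine ⟨c, ?_⟩
      have : (p : S) ^ i * (x.coeff i - (p : S) ^ s * c) = 0 := by
        rw [mul_sub, hc]; ring
      exact sub_eq_zero.mp (hpow i _ this)

end Groth.Agent.S14856
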