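import Groth.Statements.S14857
import Groth.Agent.Helper19.Witt
-- import your own Groth.Agent.* helpers here

set_option autoImplicit false
open CAlg

namespace Groth.Agent.S14857

/-- For a prime p, the Teichmüller representative [p^p] of the element p^p of the p-adic integers is
divisible by p in the ring of p-typical Witt vectors W(ℤ_p). -/
theorem result (p : ℕ) [Fact p.Prime] :
    (p : WittVector p ℤ_[p]) ∣ WittVector.teichmuller p ((p : ℤ_[p]) ^ p) := by
  have hp : p.Prime := Fact.out
  set t := WittVector.teichmuller p (p : ℤ_[p]) with ht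
  rw [map_pow, ← ht]
  have hz : (t - (p : WittVector p ℤ_[p])).coeff 0 = 0 := by
    have : WittVector.constantCoeff (t - (p : WittVector p ℤ_[p])) = 0 := by
      rw [map_sub, map_natCast, WittVector.constantCoeff_apply, ht,
        WittVector.teichmuller_coeff_zero, sub_self]
    simpa using this
  obtain ⟨y, hy⟩ := Groth.Agent.Helper19.Witt.exists_verschiebung_of_coeff_zero _ hz
  have h1 : (p : WittVector p ℤ_[p]) ∣ t ^ p - (WittVector.verschiebung y) ^ p := by
    have := sub_dvd_pow_sub_pow t (WittVector.verschiebung y) p
    have e : t - WittVector.verschiebung y = (p : WittVector p ℤ_[p]) := by rw [← hy]; ring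
    rwa [e] at this
  have h2 : (p : WittVector p ℤ_[p]) ∣ (WittVector.verschiebung y) ^ p := by
    have h2p : 2 ≤ p := hp.two_le
    obtain ⟨k, rfl⟩ : ∃ k, p = 2 + k := ⟨p - 2, by omega⟩
    rw [pow_add, pow_two, Groth.Agent.Helper19.Witt.verschiebung_mul_verschiebung, mul_assoc]
    exact dvd_mul_right _ _
  have := dvd_add h1 h2
  simpa using this

end Groth.Agent.S14857
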