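import Groth.Statements.S14859
import Mathlib

set_option autoImplicit false
universe u v w
open Disp

namespace Groth.Agent.S14859
section Aux

variable (p : ℕ) [Fact p.Prime] (R : Type u) [CommRing R]

theorem mem_IV_iff (a : WittVector p R) :
    a ∈ W4c1extbt610.IV p R ↔ ∃ w : WittVector p R, WittVector.verschiebung w = a := by
  constructor
  · intro ha
    unfold W4c1extbt610.IV at ha
    induction ha using Submodule.span_induction with
    | mem x hx => exact hx
    | zero => exact ⟨0, map_zero _⟩
    | add x y _ _ hx hy =>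
      obtain ⟨w1, rfl⟩ := hx
      obtain ⟨w2, rfl⟩ := hy
      exact ⟨w1 + w2, map_add _ _ _⟩
    | smul c x _ hx =>
      obtain ⟨w1, rfl⟩ := hx
      refine ⟨w1 * WittVector.frobenius c, ?_⟩
      rw [WittVector.verschiebung_mul_frobenius, smul_eq_mul, mul_comm]
  · rintro ⟨w, rfl⟩
    exact W4c1extbt610.verschiebung_mem_IV p R w

variable {p R}
variable {P : Type v} [AddCommGroup P] [Module (WittVector p R) P]

/-- a spanning family indexed like a basis is linearly independent -/
theorem linearIndependent_of_span {ι : Type w} (b : Module.Basis ι (WittVector p R) P)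
    [Module.Finite (WittVector p R) P] (v : ι → P)
    (hv : Submodule.span (WittVector p R) (Set.range v) = ⊤) :
    LinearIndependent (WittVector p R) v := by
  rcases subsingleton_or_nontrivial (WittVector p R) with h | h
  · exact linearIndependent_of_subsingleton
  · let φ : P →ₗ[WittVector p R] P := b.constr (WittVector p R) v
    have hφ : Function.Surjective φ := by
      rw [← LinearMap.range_eq_top, Module.Basis.constr_range, hv]
    have hinj := OrzechProperty.injective_of_surjective_endomorphism φ hφ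
    have : v = φ ∘ b := by
      ext i
      simp [φ, Module.Basis.constr_basis]
    rw [this]
    exact b.linearIndependent.map' φ (LinearMap.ker_eq_bot.mpr hinj)

end Aux


/-- Let p be a prime, R a commutative ring with p-typical Witt vectors W = W(R), and (P, Q, F, V⁻¹) a
3n-display over R with a normal decomposition P = L ⊕ T, Q = L + I_R·T. Then V⁻¹ ⊕ F : L ⊕ T → P is
a Frobenius-linear isomorphism; stated here in the case where L and T are free with bases (l_i) and
(t_j): the family consisting of the V⁻¹(l_i) and the F(t_j) is a basis of the W-module P, i.e. it is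
linearly independent over W and spans P. -/
theorem result (p : ℕ) [Fact p.Prime] (R : Type u) [CommRing R]
    (P : Type v) [AddCommGroup P] [Module (WittVector p R) P] (D : W4c1extbt610.Display3n p R P)
    (L T : Submodule (WittVector p R) P) (hLT : IsCompl L T)
    (hQ : D.Q = L ⊔ W4c1extbt610.IV p R • T) (hLQ : L ≤ D.Q)
    (ιL ιT : Type w) (bL : Module.Basis ιL (WittVector p R) L) (bT : Module.Basis ιT (WittVector p R) T) :
    LinearIndependent (WittVector p R)
        (Sum.elim (fun i : ιL => D.Vinv ⟨(bL i : P), hLQ (bL i).2⟩) (fun j : ιT => D.F (bT j : P))) ∧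
      Submodule.span (WittVector p R)
        (Set.range (Sum.elim (fun i : ιL => D.Vinv ⟨(bL i : P), hLQ (bL i).2⟩) (fun j : ιT => D.F (bT j : P)))) = ⊤ := by
  classical
  set v : ιL ⊕ ιT → P :=
    Sum.elim (fun i : ιL => D.Vinv ⟨(bL i : P), hLQ (bL i).2⟩) (fun j : ιT => D.F (bT j : P)) with hv
  set S := Submodule.span (WittVector p R) (Set.range v) with hS
  haveI := D.finite
  -- F maps T into S
  have hFT : ∀ t : T, D.F (t : P) ∈ S := by
    have : (⊤ : Submodule (WittVector p R) T) ≤ S.comap (D.F.comp T.subtype) := by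
      rw [← bT.span_eq, Submodule.span_le]
      rintro _ ⟨j, rfl⟩
      exact Submodule.subset_span ⟨Sum.inr j, rfl⟩
    intro t
    exact this (Submodule.mem_top (x := t))
  -- Vinv maps L into S
  have hVL : ∀ l : L, D.Vinv ⟨(l : P), hLQ l.2⟩ ∈ S := by
    have : (⊤ : Submodule (WittVector p R) L) ≤
        S.comap (D.Vinv.comp (Submodule.inclusion hLQ)) := by
      rw [← bL.span_eq, Submodule.span_le]
      rintro _ ⟨i, rfl⟩
      exact Submodule.subset_span ⟨Sum.inl i, rfl⟩
    intro l
    exact this (Submodule.mem_top (x := l))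
  -- Vinv maps IV • T into S
  have hIT : ∀ x ∈ W4c1extbt610.IV p R • T, ∃ hx : x ∈ D.Q, D.Vinv ⟨x, hx⟩ ∈ S := by
    intro x hx
    refine Submodule.smul_induction_on hx ?_ ?_
    · intro a ha t ht
      obtain ⟨w0, rfl⟩ := (mem_IV_iff p R a).mp ha
      refine ⟨D.IV_smul_le (Submodule.smul_mem_smul (W4c1extbt610.verschiebung_mem_IV p R w0)
        Submodule.mem_top), ?_⟩
      rw [D.Vinv_verschiebung_smul]
      exact S.smul_mem _ (hFT ⟨t, ht⟩)
    · intro x y hx hy
      obtain ⟨hx1, hx2⟩ := hx
      obtain ⟨hy1, hy2⟩ := hy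
      refine ⟨D.Q.add_mem hx1 hy1, ?_⟩
      have : (⟨x + y, D.Q.add_mem hx1 hy1⟩ : D.Q) = ⟨x, hx1⟩ + ⟨y, hy1⟩ := rfl
      rw [this, map_add]
      exact S.add_mem hx2 hy2
  have hspan : S = ⊤ := by
    rw [eq_top_iff, ← D.span_range_Vinv, Submodule.span_le]
    rintro _ ⟨⟨q, hq⟩, rfl⟩
    have hq' := hq
    rw [hQ, Submodule.mem_sup] at hq'
    obtain ⟨l, hl, x, hx, rfl⟩ := hq'
    obtain ⟨hx1, hx2⟩ := hIT x hx
    have : (⟨l + x, hq⟩ : D.Q) = ⟨l, hLQ hl⟩ + ⟨x, hx1⟩ := rfl
    rw [this, map_add]
    exact S.add_mem (hVL ⟨l, hl⟩) hx2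
  refine ⟨?_, hspan⟩
  let b : Module.Basis (ιL ⊕ ιT) (WittVector p R) P :=
    (bL.prod bT).map (Submodule.prodEquivOfIsCompl L T hLT)
  exact linearIndependent_of_span b v hspan

end Groth.Agent.S14859
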