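import Groth.Statements.S14860
import Mathlib
import Groth.Agent.Helper19.Witt
-- import your own Groth.Agent.* helpers here

set_option autoImplicit false
universe u v
open CAlg

namespace Groth.Agent.S14860

section helpers

variable {W : Type u} [CommRing W]

/-- Lifting property over `W` for `W`-linear maps between modules killed by `J`,
given projectivity over `W ⧸ J`. -/
theorem lift_of_proj_quot (J : Ideal W) {M : Type v} [AddCommGroup M] [Module W M]
    [Module (W ⧸ J) M] [IsScalarTower W (W ⧸ J) M] [Module.Projective (W ⧸ J) M]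
    {A : Type*} {B : Type*} [AddCommGroup A] [Module W A] [AddCommGroup B] [Module W B]
    (hA : Module.IsTorsionBySet W A J) (hB : Module.IsTorsionBySet W B J)
    (θ : A →ₗ[W] B) (hθ : Function.Surjective θ) (g : M →ₗ[W] B) :
    ∃ h : M →ₗ[W] A, θ ∘ₗ h = g := by
  letI := hA.module
  letI := hB.module
  obtain ⟨h, hh⟩ := Module.projective_lifting_property
    (θ.extendScalarsOfSurjective (S := W ⧸ J) Ideal.Quotient.mk_surjective)
    (g.extendScalarsOfSurjective (S := W ⧸ J) Ideal.Quotient.mk_surjective) hθ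
  refine ⟨h.restrictScalars W, ?_⟩
  ext x
  have := LinearMap.congr_fun hh x
  simpa using this

theorem lift_of_range_le (J : Ideal W) {M : Type v} [AddCommGroup M] [Module W M]
    [Module (W ⧸ J) M] [IsScalarTower W (W ⧸ J) M] [Module.Projective (W ⧸ J) M]
    {A : Type*} {B : Type*} [AddCommGroup A] [Module W A] [AddCommGroup B] [Module W B]
    (hA : Module.IsTorsionBySet W A J) (hB : Module.IsTorsionBySet W B J)
    (θ : A →ₗ[W] B) (g : M →ₗ[W] B) (hg : ∀ x, g x ∈ LinearMap.range θ) :
    ∃ h : M →ₗ[W] A, θ ∘ₗ h = g := by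
  have hB' : Module.IsTorsionBySet W (LinearMap.range θ) J := by
    intro x a
    apply Subtype.ext
    simpa using @hB (x : B) a
  obtain ⟨h, hh⟩ := lift_of_proj_quot J hA hB' θ.rangeRestrict θ.surjective_rangeRestrict
    (g.codRestrict (LinearMap.range θ) hg)
  refine ⟨h, ?_⟩
  ext x
  have := congrArg Subtype.val (LinearMap.congr_fun hh x)
  simpa using this

theorem coord_mem_of_mem_smul_top {m : ℕ} (J : Ideal W) {f : Fin m → W}
    (hf : f ∈ (J • ⊤ : Submodule W (Fin m → W))) (i : Fin m) : f i ∈ J := by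
  refine Submodule.smul_induction_on (p := fun f => f i ∈ J) hf ?_ ?_
  · intro r hr n _
    simpa using J.mul_mem_right _ hr
  · intro x y hx hy
    simpa using J.add_mem hx hy

theorem mem_smul_top_of_coord_mem {m : ℕ} (J : Ideal W) {f : Fin m → W}
    (hf : ∀ i, f i ∈ J) : f ∈ (J • ⊤ : Submodule W (Fin m → W)) := by
  have : f = ∑ i, f i • (Pi.single i (1 : W) : Fin m → W) := by
    ext j
    simp [Finset.sum_apply, Pi.single_apply]
  rw [this]
  exact Submodule.sum_mem _ fun i _ => Submodule.smul_mem_smul (hf i) Submodule.mem_top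

variable {P : Type v} [AddCommGroup P] [Module W P] {F : Type*} [AddCommGroup F] [Module W F]

/-- the induced map on quotients mod `J`. -/
noncomputable def qmap (J : Ideal W) (π : F →ₗ[W] P) :
    (F ⧸ (J • ⊤ : Submodule W F)) →ₗ[W] (P ⧸ (J • ⊤ : Submodule W P)) :=
  Submodule.mapQ _ _ π (Submodule.smul_top_le_comap_smul_top J π)

@[simp] theorem qmap_mk (J : Ideal W) (π : F →ₗ[W] P) (f : F) :
    qmap J π (Submodule.Quotient.mk f) = Submodule.Quotient.mk (π f) := rfl

/-- reduction `F/JF → F/J'F` for `J ≤ J'`. -/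
noncomputable def qred {J J' : Ideal W} (h : J ≤ J') :
    (F ⧸ (J • ⊤ : Submodule W F)) →ₗ[W] (F ⧸ (J' • ⊤ : Submodule W F)) :=
  Submodule.factor (Submodule.smul_mono_left h)

@[simp] theorem qred_mk {J J' : Ideal W} (h : J ≤ J') (f : F) :
    qred h (Submodule.Quotient.mk f : F ⧸ (J • ⊤ : Submodule W F)) = Submodule.Quotient.mk f :=
  rfl

theorem smul_quot_eq_zero (J : Ideal W) {r : W} (hr : r ∈ J)
    (y : F ⧸ (J • ⊤ : Submodule W F)) : r • y = 0 :=
  @Module.isTorsionBySet_quotient_ideal_smul W F _ _ _ J y ⟨r, hr⟩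

theorem qmap_surjective (J : Ideal W) (π : F →ₗ[W] P)
    (hsup : LinearMap.range π ⊔ (J • ⊤ : Submodule W P) = ⊤) :
    Function.Surjective (qmap J π) := by
  intro y
  obtain ⟨x, rfl⟩ := Submodule.Quotient.mk_surjective _ y
  have hx : x ∈ LinearMap.range π ⊔ (J • ⊤ : Submodule W P) := by rw [hsup]; trivial
  obtain ⟨y, ⟨f, rfl⟩, z, hz, rfl⟩ := Submodule.mem_sup.mp hx
  refine ⟨Submodule.Quotient.mk f, ?_⟩
  rw [qmap_mk, Submodule.Quotient.eq]
  simpa using hz

theorem step (J J' : Ideal W) (hJ : J ≤ J') (π : F →ₗ[W] P)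
    (hsup : LinearMap.range π ⊔ (J • ⊤ : Submodule W P) = ⊤)
    [Module.Projective (W ⧸ J) (P ⧸ (J • ⊤ : Submodule W P))]
    (t : P →ₗ[W] (F ⧸ (J' • ⊤ : Submodule W F)))
    (ht : ∀ x, qmap J' π (t x) = Submodule.Quotient.mk x) :
    ∃ t' : P →ₗ[W] (F ⧸ (J • ⊤ : Submodule W F)),
      (∀ x, qmap J π (t' x) = Submodule.Quotient.mk x) ∧ ∀ x, qred hJ (t' x) = t x := by
  have hle : (J • ⊤ : Submodule W P) ≤ LinearMap.ker t := by
    refine Submodule.smul_le.mpr fun r hr x _ => ?_
    rw [LinearMap.mem_ker, map_smul]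
    exact smul_quot_eq_zero J' (hJ hr) _
  have hA : Module.IsTorsionBySet W (F ⧸ (J • ⊤ : Submodule W F)) J :=
    Module.isTorsionBySet_quotient_ideal_smul F J
  have hB : Module.IsTorsionBySet W
      ((F ⧸ (J' • ⊤ : Submodule W F)) × (P ⧸ (J • ⊤ : Submodule W P))) J := by
    rintro ⟨y, z⟩ ⟨r, hr⟩
    ext
    · exact smul_quot_eq_zero J' (hJ hr) y
    · exact smul_quot_eq_zero J hr z
  obtain ⟨h, hh⟩ := lift_of_range_le J (M := P ⧸ (J • ⊤ : Submodule W P)) hA hB
    (LinearMap.prod (qred hJ) (qmap J π))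
    (LinearMap.prod (Submodule.liftQ _ t hle) LinearMap.id) (by
      intro xb
      obtain ⟨x, rfl⟩ := Submodule.Quotient.mk_surjective _ xb
      obtain ⟨f0, hf0⟩ := Submodule.Quotient.mk_surjective _ (t x)
      have h1 : π f0 - x ∈ (J' • ⊤ : Submodule W P) := by
        have := ht x
        rw [← hf0, qmap_mk, Submodule.Quotient.eq] at this
        exact this
      have h2 : (J' • ⊤ : Submodule W P) ≤
          Submodule.map π (J' • ⊤ : Submodule W F) ⊔ (J • ⊤ : Submodule W P) := by
        calc (J' • ⊤ : Submodule W P) = J' • (LinearMap.range π ⊔ (J • ⊤ : Submodule W P)) := by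
              rw [hsup]
          _ = J' • LinearMap.range π ⊔ J' • (J • ⊤ : Submodule W P) := Submodule.smul_sup _ _ _
          _ ≤ _ := by
              refine sup_le_sup ?_ Submodule.smul_le_right
              rw [Submodule.map_smul'', Submodule.map_top]
      obtain ⟨y, ⟨g0, hg0, rfl⟩, z, hz, hyz⟩ := Submodule.mem_sup.mp (h2 h1)
      refine ⟨Submodule.Quotient.mk (f0 - g0), ?_⟩
      ext
      · show qred hJ (Submodule.Quotient.mk (f0 - g0)) =
          (Submodule.liftQ _ t hle) (Submodule.Quotient.mk x)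
        rw [qred_mk, Submodule.liftQ_apply, ← hf0, Submodule.Quotient.eq]
        have : f0 - g0 - f0 = -g0 := by abel
        rw [this]; exact neg_mem hg0
      · show qmap J π (Submodule.Quotient.mk (f0 - g0)) = Submodule.Quotient.mk x
        rw [qmap_mk, Submodule.Quotient.eq]
        have : π (f0 - g0) - x = z := by
          rw [map_sub, sub_right_comm, ← hyz, add_sub_cancel_left]
        rw [this]; exact hz)
  refine ⟨h ∘ₗ Submodule.mkQ _, fun x => ?_, fun x => ?_⟩
  · have := LinearMap.congr_fun hh (Submodule.Quotient.mk x)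
    have := congrArg Prod.snd this
    simpa using this
  · have := LinearMap.congr_fun hh (Submodule.Quotient.mk x)
    have := congrArg Prod.fst this
    simpa using this

theorem exists_compatible (I : ℕ → Ideal W) (hanti : ∀ n, I (n + 1) ≤ I n) (π : F →ₗ[W] P)
    (hsup : ∀ n, LinearMap.range π ⊔ (I n • ⊤ : Submodule W P) = ⊤)
    (hproj : ∀ n, Module.Projective (W ⧸ I n) (P ⧸ (I n • ⊤ : Submodule W P))) :
    ∃ t : ∀ n, P →ₗ[W] (F ⧸ (I n • ⊤ : Submodule W F)),
      (∀ n x, qmap (I n) π (t n x) = Submodule.Quotient.mk x) ∧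
      ∀ n x, qred (hanti n) (t (n + 1) x) = t n x := by
  classical
  have h0 : ∃ t : P →ₗ[W] (F ⧸ (I 0 • ⊤ : Submodule W F)),
      ∀ x, qmap (I 0) π (t x) = Submodule.Quotient.mk x := by
    haveI := hproj 0
    obtain ⟨h, hh⟩ := lift_of_proj_quot (I 0) (M := P ⧸ (I 0 • ⊤ : Submodule W P))
      (Module.isTorsionBySet_quotient_ideal_smul F (I 0))
      (Module.isTorsionBySet_quotient_ideal_smul P (I 0))
      (qmap (I 0) π) (qmap_surjective (I 0) π (hsup 0)) LinearMap.id
    refine ⟨h ∘ₗ Submodule.mkQ _, fun x => ?_⟩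
    have := LinearMap.congr_fun hh (Submodule.Quotient.mk x)
    simpa using this
  have hstep : ∀ n (t : {t : P →ₗ[W] (F ⧸ (I n • ⊤ : Submodule W F)) //
        ∀ x, qmap (I n) π (t x) = Submodule.Quotient.mk x}),
      ∃ t' : {t : P →ₗ[W] (F ⧸ (I (n + 1) • ⊤ : Submodule W F)) //
        ∀ x, qmap (I (n + 1)) π (t x) = Submodule.Quotient.mk x},
        ∀ x, qred (hanti n) (t'.1 x) = t.1 x := by
    intro n t
    haveI := hproj (n + 1)
    obtain ⟨t', h1, h2⟩ := step (I (n + 1)) (I n) (hanti n) π (hsup (n + 1)) t.1 t.2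
    exact ⟨⟨t', h1⟩, h2⟩
  choose nxt hnxt using hstep
  obtain ⟨t0, ht0⟩ := h0
  refine ⟨fun n => (Nat.rec (motive := fun n => {t : P →ₗ[W] (F ⧸ (I n • ⊤ : Submodule W F)) //
        ∀ x, qmap (I n) π (t x) = Submodule.Quotient.mk x}) ⟨t0, ht0⟩ (fun n t => nxt n t) n).1,
    fun n => (Nat.rec (motive := fun n => {t : P →ₗ[W] (F ⧸ (I n • ⊤ : Submodule W F)) //
        ∀ x, qmap (I n) π (t x) = Submodule.Quotient.mk x}) ⟨t0, ht0⟩ (fun n t => nxt n t) n).2,
    fun n x => hnxt n _ x⟩

theorem exists_limit (I : ℕ → Ideal W) (hanti : ∀ n, I (n + 1) ≤ I n)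
    (hsepW : ⨅ n, I n = ⊥)
    (hcomp : ∀ w : ℕ → W, (∀ n, w (n + 1) - w n ∈ I n) → ∃ a, ∀ n, a - w n ∈ I n)
    {m : ℕ} (t : ∀ n, P →ₗ[W] ((Fin m → W) ⧸ (I n • ⊤ : Submodule W (Fin m → W))))
    (hcompat : ∀ n x, qred (hanti n) (t (n + 1) x) = t n x) :
    ∃ s : P →ₗ[W] (Fin m → W), ∀ n x, Submodule.Quotient.mk (s x) = t n x := by
  classical
  have hex : ∀ x : P, ∃ a : Fin m → W, ∀ n, Submodule.Quotient.mk a = t n x := by
    intro x
    choose w hw using fun n => Submodule.Quotient.mk_surjective _ (t n x)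
    have hw' : ∀ n, w (n + 1) - w n ∈ (I n • ⊤ : Submodule W (Fin m → W)) := by
      intro n
      rw [← Submodule.Quotient.eq, hw n, ← hcompat n x, ← hw (n + 1), qred_mk]
    have hc : ∀ i : Fin m, ∃ a : W, ∀ n, a - w n i ∈ I n := fun i =>
      hcomp (fun n => w n i) fun n => by
        simpa using coord_mem_of_mem_smul_top (I n) (hw' n) i
    choose a ha using hc
    refine ⟨a, fun n => ?_⟩
    rw [← hw n, Submodule.Quotient.eq]
    exact mem_smul_top_of_coord_mem (I n) fun i => by simpa using ha i n
  have huniq : ∀ (a a' : Fin m → W),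
      (∀ n, (Submodule.Quotient.mk a : (Fin m → W) ⧸ (I n • ⊤ : Submodule W (Fin m → W))) =
        Submodule.Quotient.mk a') → a = a' := by
    intro a a' h
    funext i
    have : a i - a' i ∈ ⨅ n, I n := by
      rw [Ideal.mem_iInf]
      intro n
      have := (Submodule.Quotient.eq _).mp (h n)
      simpa using coord_mem_of_mem_smul_top (I n) this i
    rw [hsepW] at this
    exact sub_eq_zero.mp this
  choose s hs using hex
  refine ⟨{ toFun := s, map_add' := fun x y => ?_, map_smul' := fun r x => ?_ }, fun n x => hs x n⟩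
  · refine huniq _ _ fun n => ?_
    rw [Submodule.Quotient.mk_add, hs, hs, hs, map_add]
  · refine huniq _ _ fun n => ?_
    rw [RingHom.id_apply, Submodule.Quotient.mk_smul, hs, hs, map_smul]

theorem sup_pow_eq_top (J : Ideal W) (N : Submodule W P)
    (h : N ⊔ (J • ⊤ : Submodule W P) = ⊤) (k : ℕ) :
    N ⊔ ((J ^ k) • ⊤ : Submodule W P) = ⊤ := by
  induction k with
  | zero => simp
  | succ k ih =>
    rw [eq_top_iff]
    calc (⊤ : Submodule W P) = N ⊔ (J • ⊤ : Submodule W P) := h.symm
      _ = N ⊔ J • (N ⊔ ((J ^ k) • ⊤ : Submodule W P)) := by rw [ih]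
      _ = N ⊔ (J • N ⊔ J • ((J ^ k) • ⊤ : Submodule W P)) := by rw [Submodule.smul_sup]
      _ ≤ N ⊔ ((J ^ (k + 1)) • ⊤ : Submodule W P) := by
          refine sup_le le_sup_left (sup_le (Submodule.smul_le_right.trans le_sup_left) ?_)
          rw [pow_succ', Submodule.mul_smul]
          exact le_sup_right

theorem finite_projective_of_truncations (I : ℕ → Ideal W)
    (hanti : ∀ n, I (n + 1) ≤ I n)
    (hsepW : ⨅ n, I n = ⊥)
    (hcomp : ∀ w : ℕ → W, (∀ n, w (n + 1) - w n ∈ I n) → ∃ a, ∀ n, a - w n ∈ I n)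
    (hpow : ∀ n, ∃ N, (I 1) ^ N ≤ I n)
    (hsep : (⨅ n, (I n • ⊤ : Submodule W P)) = ⊥)
    (hfin : Module.Finite (W ⧸ I 1) (P ⧸ (I 1 • ⊤ : Submodule W P)))
    (hproj : ∀ n, Module.Projective (W ⧸ I n) (P ⧸ (I n • ⊤ : Submodule W P))) :
    Module.Finite W P ∧ Module.Projective W P := by
  classical
  haveI : Module.Finite W (P ⧸ (I 1 • ⊤ : Submodule W P)) :=
    Module.Finite.trans (W ⧸ I 1) _
  obtain ⟨m, s, hs⟩ := Module.Finite.exists_fin (R := W) (M := P ⧸ (I 1 • ⊤ : Submodule W P))
  choose x hx using fun j => Submodule.Quotient.mk_surjective _ (s j)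
  obtain ⟨π, hπ⟩ : ∃ π : (Fin m → W) →ₗ[W] P, π = Fintype.linearCombination W x := ⟨_, rfl⟩
  have hrange : LinearMap.range π = Submodule.span W (Set.range x) := by
    rw [hπ, Fintype.range_linearCombination]
  have hsup1 : LinearMap.range π ⊔ (I 1 • ⊤ : Submodule W P) = ⊤ := by
    rw [sup_comm, ← Submodule.map_mkQ_eq_top, hrange, Submodule.map_span, ← Set.range_comp]
    have : (⇑(Submodule.mkQ (I 1 • ⊤ : Submodule W P)) ∘ x) = s := by
      funext j
      exact hx j
    rw [this, hs]
  have hsup : ∀ n, LinearMap.range π ⊔ (I n • ⊤ : Submodule W P) = ⊤ := by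
    intro n
    obtain ⟨N, hN⟩ := hpow n
    exact top_le_iff.mp ((sup_pow_eq_top (I 1) _ hsup1 N).symm.le.trans
      (sup_le_sup le_rfl (Submodule.smul_mono_left hN)))
  obtain ⟨t, ht1, ht2⟩ := exists_compatible I hanti π hsup hproj
  obtain ⟨σ, hσ⟩ := exists_limit I hanti hsepW hcomp t ht2
  have hπσ : ∀ x, π (σ x) = x := by
    intro x
    have : π (σ x) - x ∈ ⨅ n, (I n • ⊤ : Submodule W P) := by
      rw [Submodule.mem_iInf]
      intro n
      rw [← Submodule.Quotient.eq, ← qmap_mk, hσ n x, ht1 n x]
    rw [hsep] at this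
    exact sub_eq_zero.mp this
  refine ⟨Module.Finite.of_surjective π fun x => ⟨σ x, hπσ x⟩, ?_⟩
  exact Module.Projective.of_split σ π (LinearMap.ext fun x => by simpa using hπσ x)

theorem truncation_of_finite_projective (J : Ideal W) [Module.Finite W P]
    [Module.Projective W P] :
    Module.Finite (W ⧸ J) (P ⧸ (J • ⊤ : Submodule W P)) ∧
      Module.Projective (W ⧸ J) (P ⧸ (J • ⊤ : Submodule W P)) := by
  refine ⟨Module.Finite.of_restrictScalars_finite W (W ⧸ J) _, ?_⟩
  exact Module.Projective.of_equiv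
    ((TensorProduct.quotTensorEquivQuotSMul P J).extendScalarsOfSurjective
      (S := W ⧸ J) Ideal.Quotient.mk_surjective)

theorem sep_of_projective (I : ℕ → Ideal W) (hsepW : ⨅ n, I n = ⊥) [Module.Projective W P] :
    (⨅ n, (I n • ⊤ : Submodule W P)) = ⊥ := by
  classical
  obtain ⟨s, hs⟩ := (Module.projective_def' (R := W) (P := P)).mp inferInstance
  rw [eq_bot_iff]
  intro x hx
  rw [Submodule.mem_iInf] at hx
  have h1 : ∀ n q, (s x) q ∈ I n := by
    intro n q
    refine Submodule.smul_induction_on (p := fun y => (s y) q ∈ I n) (hx n) ?_ ?_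
    · intro r hr y _
      simpa using (I n).mul_mem_right _ hr
    · intro y z hy hz
      simpa using (I n).add_mem hy hz
  have h2 : s x = 0 := by
    ext q
    have : (s x) q ∈ ⨅ n, I n := by
      rw [Ideal.mem_iInf]; exact fun n => h1 n q
    rw [hsepW] at this
    simpa using this
  have := LinearMap.congr_fun hs x
  simp only [LinearMap.comp_apply, h2, map_zero, LinearMap.id_apply] at this
  rw [Submodule.mem_bot]
  exact this.symm

section witt

variable (p : ℕ) [Fact p.Prime] (R : Type u) [CommRing R]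

open WittVector

theorem witt_anti (n : ℕ) :
    RingHom.ker (WittVector.truncate (p := p) (R := R) (n + 1)) ≤
      RingHom.ker (WittVector.truncate (p := p) (R := R) n) := by
  intro x hx
  rw [WittVector.mem_ker_truncate] at hx ⊢
  exact fun i hi => hx i (by omega)

theorem witt_sep :
    (⨅ n : ℕ, RingHom.ker (WittVector.truncate (p := p) (R := R) n)) = ⊥ := by
  rw [eq_bot_iff]
  intro x hx
  rw [Ideal.mem_iInf] at hx
  rw [Ideal.mem_bot]
  ext i
  have := (WittVector.mem_ker_truncate (i + 1) x).mp (hx (i + 1)) i (by omega)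
  simpa using this

theorem sub_mem_ker_truncate_iff (n : ℕ) (x y : WittVector p R) :
    x - y ∈ RingHom.ker (WittVector.truncate (p := p) (R := R) n) ↔
      ∀ i < n, x.coeff i = y.coeff i := by
  rw [RingHom.sub_mem_ker_iff, TruncatedWittVector.ext_iff]
  constructor
  · intro h i hi
    have := h ⟨i, hi⟩
    simpa [WittVector.coeff_truncate] using this
  · intro h i
    simpa [WittVector.coeff_truncate] using h i i.2

theorem witt_complete (w : ℕ → WittVector p R)
    (hw : ∀ n, w (n + 1) - w n ∈ RingHom.ker (WittVector.truncate (p := p) (R := R) n)) :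
    ∃ a : WittVector p R, ∀ n,
      a - w n ∈ RingHom.ker (WittVector.truncate (p := p) (R := R) n) := by
  refine ⟨WittVector.mk p (fun i => (w (i + 1)).coeff i), fun n => ?_⟩
  rw [sub_mem_ker_truncate_iff]
  intro i hi
  rw [WittVector.coeff_mk]
  have key : ∀ k, i + 1 ≤ k → (w k).coeff i = (w (i + 1)).coeff i := by
    intro k hk
    induction k, hk using Nat.le_induction with
    | base => rfl
    | succ k hk ih =>
      rw [← ih]
      exact (sub_mem_ker_truncate_iff p R k _ _).mp (hw k) i (by omega)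
  exact (key n (by omega)).symm

theorem witt_I1_sq :
    RingHom.ker (WittVector.truncate (p := p) (R := R) 1) *
        RingHom.ker (WittVector.truncate (p := p) (R := R) 1) ≤
      Ideal.span {(p : WittVector p R)} *
        RingHom.ker (WittVector.truncate (p := p) (R := R) 1) := by
  rw [Ideal.mul_le]
  intro x hx y hy
  rw [WittVector.mem_ker_truncate] at hx hy
  obtain ⟨x', rfl⟩ := Groth.Agent.Helper19.Witt.exists_verschiebung_of_coeff_zero x
    (hx 0 (by omega))
  obtain ⟨y', rfl⟩ := Groth.Agent.Helper19.Witt.exists_verschiebung_of_coeff_zero y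
    (hy 0 (by omega))
  rw [Groth.Agent.Helper19.Witt.verschiebung_mul_verschiebung]
  refine Ideal.mul_mem_mul (Ideal.mem_span_singleton_self _) ?_
  rw [WittVector.mem_ker_truncate]
  intro i hi
  have : i = 0 := by omega
  subst this
  exact WittVector.verschiebung_coeff_zero _

theorem witt_I1_pow (k : ℕ) :
    RingHom.ker (WittVector.truncate (p := p) (R := R) 1) ^ (k + 1) ≤
      Ideal.span {(p : WittVector p R) ^ k} *
        RingHom.ker (WittVector.truncate (p := p) (R := R) 1) := by
  induction k with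
  | zero =>
    simp
  | succ k ih =>
    calc RingHom.ker (WittVector.truncate (p := p) (R := R) 1) ^ (k + 1 + 1)
        = RingHom.ker (WittVector.truncate (p := p) (R := R) 1) ^ (k + 1) *
            RingHom.ker (WittVector.truncate (p := p) (R := R) 1) := pow_succ _ _
      _ ≤ (Ideal.span {(p : WittVector p R) ^ k} *
            RingHom.ker (WittVector.truncate (p := p) (R := R) 1)) *
            RingHom.ker (WittVector.truncate (p := p) (R := R) 1) := Ideal.mul_mono_left ih
      _ = Ideal.span {(p : WittVector p R) ^ k} *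
            (RingHom.ker (WittVector.truncate (p := p) (R := R) 1) *
            RingHom.ker (WittVector.truncate (p := p) (R := R) 1)) := mul_assoc _ _ _
      _ ≤ Ideal.span {(p : WittVector p R) ^ k} * (Ideal.span {(p : WittVector p R)} *
            RingHom.ker (WittVector.truncate (p := p) (R := R) 1)) :=
          Ideal.mul_mono_right (witt_I1_sq p R)
      _ = Ideal.span {(p : WittVector p R) ^ (k + 1)} *
            RingHom.ker (WittVector.truncate (p := p) (R := R) 1) := by
          rw [← mul_assoc, Ideal.span_singleton_mul_span_singleton, ← pow_succ]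

theorem witt_p_pow_mul_mem {e : ℕ} (he : (p : R) ^ e = 0) (n : ℕ) (x : WittVector p R)
    (hx : x ∈ RingHom.ker (WittVector.truncate (p := p) (R := R) n)) :
    (p : WittVector p R) ^ e * x ∈ RingHom.ker (WittVector.truncate (p := p) (R := R) (n + 1)) := by
  rw [WittVector.mem_ker_truncate] at hx ⊢
  rw [WittVector.eq_iterate_verschiebung hx,
    Groth.Agent.Helper19.Witt.p_pow_mul_iterate_verschiebung]
  intro i hi
  rcases Nat.lt_succ_iff_lt_or_eq.mp hi with h | h
  · exact WittVector.iterate_verschiebung_coeff_eq_zero _ h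
  · subst h
    have := WittVector.iterate_verschiebung_coeff (p := p)
      ((p : WittVector p R) ^ e * x.shift i) i 0
    rw [zero_add] at this
    rw [this, WittVector.mul_coeff_zero]
    have h0 : ((p : WittVector p R) ^ e).coeff 0 = (p : R) ^ e := by
      have := map_pow (WittVector.constantCoeff (p := p) (R := R)) (p : WittVector p R) e
      rw [map_natCast] at this
      exact this
    rw [h0, he, zero_mul]

theorem witt_p_pow_mem {e : ℕ} (he : (p : R) ^ e = 0) (n : ℕ) :
    (p : WittVector p R) ^ (n * e) ∈ RingHom.ker (WittVector.truncate (p := p) (R := R) n) := by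
  induction n with
  | zero =>
    rw [WittVector.mem_ker_truncate]
    intro i hi
    omega
  | succ n ih =>
    have : (p : WittVector p R) ^ ((n + 1) * e) =
        (p : WittVector p R) ^ e * (p : WittVector p R) ^ (n * e) := by
      rw [← pow_add]; congr 1; ring
    rw [this]
    exact witt_p_pow_mul_mem p R he n _ ih

theorem witt_pow (hp : IsNilpotent (p : R)) (n : ℕ) :
    ∃ N, RingHom.ker (WittVector.truncate (p := p) (R := R) 1) ^ N ≤
      RingHom.ker (WittVector.truncate (p := p) (R := R) n) := by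
  obtain ⟨e, he⟩ := hp
  refine ⟨n * e + 1, (witt_I1_pow p R (n * e)).trans ?_⟩
  refine Ideal.mul_le_left.trans ?_
  rw [Ideal.span_singleton_le_iff_mem]
  exact witt_p_pow_mem p R he n

end witt

end helpers

/-- Let p be a prime and R a commutative ring in which p is nilpotent; write W = W(R) for the p-typical
Witt vectors and, for n ≥ 0, I_n ⊆ W for the ideal of Witt vectors whose first n components vanish
(the kernel of the truncation W → W_n(R), so W/I_n = W_n(R)). For a W-module P conditions (i) and
(ii) below are equivalent: (i) P is a projective W-module of finite type; (ii) P is separated for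
the filtration by the submodules I_n P, and for every n the W_n(R)-module P/I_n P is finitely
generated and projective. (The published statement is made for every ℤ_(p)-algebra R, the section's
standing convention; over R = ℚ, where W(ℚ) ≅ ℚ^ℕ by the ghost map, the module ⊕_ℕ ℚ satisfies (ii)
but is not finitely generated, and the published proof uses that I_1 is nilpotent in each W_n(R),
which holds when p is nilpotent in R; so p is taken nilpotent here. The third equivalent condition
of the published statement, freeness Zariski-locally on R, is not rendered.) -/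
theorem result (p : ℕ) [Fact p.Prime] (R : Type u) [CommRing R]
    (hp : IsNilpotent (p : R))
    (P : Type v) [AddCommGroup P] [Module (WittVector p R) P] :
    (Module.Finite (WittVector p R) P ∧ Module.Projective (WittVector p R) P) ↔
      ((⨅ n : ℕ, (RingHom.ker (WittVector.truncate (p := p) (R := R) n) • (⊤ : Submodule (WittVector p R) P))) = ⊥ ∧
        ∀ n : ℕ, Module.Finite (WittVector p R ⧸ RingHom.ker (WittVector.truncate (p := p) (R := R) n))
              (P ⧸ (RingHom.ker (WittVector.truncate (p := p) (R := R) n) • (⊤ : Submodule (WittVector p R) P))) ∧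
            Module.Projective (WittVector p R ⧸ RingHom.ker (WittVector.truncate (p := p) (R := R) n))
              (P ⧸ (RingHom.ker (WittVector.truncate (p := p) (R := R) n) • (⊤ : Submodule (WittVector p R) P)))) := by
  constructor
  · rintro ⟨hfin, hproj⟩
    refine ⟨sep_of_projective (fun n => RingHom.ker (WittVector.truncate (p := p) (R := R) n))
      (witt_sep p R), fun n => ?_⟩
    exact truncation_of_finite_projective _
  · rintro ⟨hsep, h⟩
    exact finite_projective_of_truncations
      (fun n => RingHom.ker (WittVector.truncate (p := p) (R := R) n))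
      (witt_anti p R) (witt_sep p R) (witt_complete p R) (witt_pow p R hp) hsep (h 1).1
      (fun n => (h n).2)

end Groth.Agent.S14860
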