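import Groth.Statements.S14861
import Groth.Agent.S14855
import Groth.Agent.S14856
-- import your own Groth.Agent.* helpers here

set_option autoImplicit false
universe u
open CAlg

namespace Groth.Agent.S14861

open Groth.Agent.S14855

section helpers

variable (p : ℕ) [hp : Fact p.Prime] {S : Type u} [CommRing S]

theorem pow_mul_cancel (hS : ∀ y : S, (p : S) * y = 0 → y = 0) (k : ℕ) (a b : S)
    (h : (p : S) ^ k * a = (p : S) ^ k * b) : a = b := by
  induction k with
  | zero => simpa using h
  | succ k ih =>
    apply ih
    have h1 : (p : S) * ((p : S) ^ k * a - (p : S) ^ k * b) = 0 := by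
      rw [mul_sub, ← mul_assoc, ← mul_assoc, ← pow_succ', h, sub_self]
    exact sub_eq_zero.mp (hS _ h1)

/-- divisibility descends along multiplication by `p^u` -/
theorem dvd_coeff_of_dvd_coeff_mul (hS : ∀ y : S, (p : S) * y = 0 → y = 0)
    (z : WittVector p S) (m u s : ℕ) (hs : u + 1 ≤ s)
    (h : ∀ i ≤ m, (p : S) ^ s ∣ (((p : WittVector p S) ^ u) * z).coeff i) :
    ∀ i ≤ m, (p : S) ^ (s - u) ∣ z.coeff i := by
  have h1 := (Groth.Agent.S14856.result p S hS ((p : WittVector p S) ^ u * z) m s (by omega)).mp h
  apply (Groth.Agent.S14856.result p S hS z m (s - u) (by omega)).mpr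
  intro n hn
  obtain ⟨c, hc⟩ := h1 n hn
  rw [map_mul, map_pow, map_natCast] at hc
  have h2 : n + s = u + (n + (s - u)) := by omega
  rw [h2, pow_add, mul_assoc] at hc
  exact ⟨c, pow_mul_cancel p hS u _ _ hc⟩

theorem theta_eq_zero_iff (n m : ℕ) (x : WittVector p S) :
    theta p S n m x = 0 ↔ ∀ i < n, x.coeff i ∈ Ideal.span {(p : S) ^ m} := by
  rw [← map_zero (theta p S n m), theta_eq_iff]
  simp only [WittVector.zero_coeff, sub_zero]

/-- theta version of the divisibility descent -/
theorem theta_of_theta_mul (hS : ∀ y : S, (p : S) * y = 0 → y = 0)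
    (z : WittVector p S) (n u s : ℕ) (hs : u + 1 ≤ s)
    (h : theta p S n s ((p : WittVector p S) ^ u * z) = 0) : theta p S n (s - u) z = 0 := by
  cases n with
  | zero =>
    rw [theta_eq_zero_iff]
    intro i hi
    omega
  | succ n =>
    rw [theta_eq_zero_iff] at h ⊢
    intro i hi
    rw [Ideal.mem_span_singleton]
    apply dvd_coeff_of_dvd_coeff_mul p hS z n u s hs _ i (by omega)
    intro j hj
    rw [← Ideal.mem_span_singleton]
    exact h j (by omega)

theorem theta_mono (n n' m m' : ℕ) (hn : n ≤ n') (hm : m ≤ m') (x : WittVector p S)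
    (h : theta p S n' m' x = 0) : theta p S n m x = 0 := by
  rw [theta_eq_zero_iff] at h ⊢
  intro i hi
  have h1 : Ideal.span {(p : S) ^ m'} ≤ Ideal.span {(p : S) ^ m} := by
    rw [Ideal.span_singleton_le_iff_mem]
    have : m' = m + (m' - m) := by omega
    rw [this, pow_add]
    exact Ideal.mul_mem_right _ _ (Ideal.mem_span_singleton_self _)
  exact h1 (h i (by omega))

end helpers

/-- Let p be a prime and R a commutative ring without p-torsion which is complete and separated for the
p-adic topology. Let a be a p-typical Witt vector over R and m, u natural numbers. Suppose that for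
every s the equation p^u·x = a has a solution in the truncated Witt ring W_m(R/p^s R), i.e. there is
z ∈ W(R) such that the first m Witt components of p^u·z − a lie in p^s R. Then the equation has a
solution in W_m(R): there is x ∈ W(R) such that the first m Witt components of p^u·x − a vanish.
(The published statement asks only that R have no p-torsion; R is moreover taken p-adically complete
and separated here, which is the standing situation of the surrounding argument and is what the
published proof uses when it passes to the limit over s.) -/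
theorem result (p : ℕ) [Fact p.Prime] (R : Type u) [CommRing R]
    (hR : ∀ y : R, (p : R) * y = 0 → y = 0) [IsAdicComplete (Ideal.span {(p : R)}) R]
    (a : WittVector p R) (m u : ℕ)
    (h : ∀ s : ℕ, ∃ z : WittVector p R, ∀ i < m, ((p : WittVector p R) ^ u * z - a).coeff i ∈ Ideal.span {(p : R) ^ s}) :
    ∃ x : WittVector p R, ∀ i < m, ((p : WittVector p R) ^ u * x - a).coeff i = 0 := by
  choose zz hzz using h
  have hzz' : ∀ s, theta p R m s ((p : WittVector p R) ^ u * zz s - a) = 0 := fun s =>
    (theta_eq_zero_iff p m s _).mpr (hzz s)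
  obtain ⟨Z, hZ⟩ : ∃ Z : ℕ → WittVector p R, Z = fun k => zz (k + u + 1) := ⟨_, rfl⟩
  have hZ0 : ∀ k, theta p R m (k + u + 1) ((p : WittVector p R) ^ u * Z k - a) = 0 := by
    intro k; rw [hZ]; exact hzz' _
  have hcauchy : ∀ k k', k ≤ k' → theta p R m (k + 1) (Z k' - Z k) = 0 := by
    intro k k' hkk'
    have h1 : theta p R m (k + u + 1) ((p : WittVector p R) ^ u * (Z k' - Z k)) = 0 := by
      have e : (p : WittVector p R) ^ u * (Z k' - Z k) =
          ((p : WittVector p R) ^ u * Z k' - a) - ((p : WittVector p R) ^ u * Z k - a) := by ring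
      rw [e, map_sub, hZ0 k, theta_mono p m m (k + u + 1) (k' + u + 1) le_rfl (by omega) _ (hZ0 k'),
        sub_zero]
    have h2 := theta_of_theta_mul p hR (Z k' - Z k) m u (k + u + 1) (by omega) h1
    have e2 : k + u + 1 - u = k + 1 := by omega
    rw [e2] at h2
    exact h2
  have hlim : ∀ i : ℕ, ∃ c : R, i < m → ∀ k, (Z k).coeff i - c ∈ Ideal.span {(p : R) ^ k} := by
    intro i
    by_cases hi : i < m
    · obtain ⟨c, hc⟩ := IsPrecomplete.prec' (I := Ideal.span {(p : R)})
        (fun k => (Z k).coeff i) (by
          intro k k' hkk'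
          rw [SModEq.sub_mem, span_pow_smul_top]
          have h1 := hcauchy k k' hkk'
          rw [← map_zero (theta p R m (k + 1)), ← sub_eq_zero, ← map_sub, sub_zero] at h1
          have h2 : theta p R m (k + 1) (Z k') = theta p R m (k + 1) (Z k) := by
            rw [← sub_eq_zero, ← map_sub]; exact hcauchy k k' hkk'
          have h3 := (theta_eq_iff p m (k + 1) _ _).mp h2 i hi
          have h4 : Ideal.span {(p : R) ^ (k + 1)} ≤ Ideal.span {(p : R) ^ k} := by
            rw [Ideal.span_singleton_le_iff_mem, pow_succ]
            exact Ideal.mul_mem_right _ _ (Ideal.mem_span_singleton_self _)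
          rw [← neg_sub]
          exact neg_mem (h4 h3))
      refine ⟨c, fun _ k => ?_⟩
      have := hc k
      rw [SModEq.sub_mem, span_pow_smul_top] at this
      exact this
    · exact ⟨0, fun h => absurd h hi⟩
  choose c hc using hlim
  refine ⟨WittVector.mk p c, fun i hi => ?_⟩
  apply IsHausdorff.haus' (I := Ideal.span {(p : R)})
  intro k
  rw [SModEq.zero, span_pow_smul_top]
  have h1 : theta p R m k (WittVector.mk p c) = theta p R m k (Z k) := by
    rw [theta_eq_iff]
    intro j hj
    rw [WittVector.coeff_mk, ← neg_sub]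
    exact neg_mem (hc j hj k)
  have h2 : theta p R m k ((p : WittVector p R) ^ u * WittVector.mk p c - a) = 0 := by
    rw [map_sub, map_mul, h1, ← map_mul, ← map_sub]
    exact theta_mono p m m k (k + u + 1) le_rfl (by omega) _ (hZ0 k)
  exact (theta_eq_zero_iff p m k _).mp h2 i hi

end Groth.Agent.S14861
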