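import Groth.Statements.S14862
import Groth.Agent.S14861
-- import your own Groth.Agent.* helpers here

set_option autoImplicit false
universe u
open CAlg

namespace Groth.Agent.S14862

open Groth.Agent.S14855 Groth.Agent.S14861

section helpers

variable (p : ℕ) [hp : Fact p.Prime] {S : Type u} [CommRing S]

theorem theta_sub_eq_zero_of_le (f : ℕ → WittVector p S)
    (hf : ∀ k, theta p S k k (f (k + 1) - f k) = 0) (N N' : ℕ) (h : N ≤ N') :
    theta p S N N (f N' - f N) = 0 := by
  induction N', h using Nat.le_induction with
  | base => rw [sub_self, map_zero]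
  | succ N' hN' ih =>
    have h1 : f (N' + 1) - f N = (f (N' + 1) - f N') + (f N' - f N) := by ring
    rw [h1, map_add, ih, add_zero]
    exact theta_mono p N N' N N' hN' hN' _ (hf N')

/-- limits of Cauchy sequences for the limit topology -/
theorem exists_limit' [IsPrecomplete (Ideal.span {(p : S)}) S] (f : ℕ → WittVector p S)
    (hf : ∀ k, theta p S k k (f (k + 1) - f k) = 0) :
    ∃ L : WittVector p S, ∀ n m N, n ≤ N → m ≤ N → theta p S n m (f N) = theta p S n m L := by
  have hpow : ∀ a b : ℕ, a ≤ b → Ideal.span {(p : S) ^ b} ≤ Ideal.span {(p : S) ^ a} := by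
    intro a b hab
    rw [Ideal.span_singleton_le_iff_mem]
    have : b = a + (b - a) := by omega
    rw [this, pow_add]
    exact Ideal.mul_mem_right _ _ (Ideal.mem_span_singleton_self _)
  have hcoeff : ∀ N N' i, N ≤ N' → i < N →
      (f N').coeff i - (f N).coeff i ∈ Ideal.span {(p : S) ^ N} := by
    intro N N' i hNN' hi
    have h1 := theta_sub_eq_zero_of_le p f hf N N' hNN'
    have h2 : theta p S N N (f N') = theta p S N N (f N) := by
      rw [← sub_eq_zero, ← map_sub]; exact h1
    exact (theta_eq_iff p N N _ _).mp h2 i hi
  have hg : ∀ i : ℕ, ∃ Li : S, ∀ k, (f (k + i + 1)).coeff i - Li ∈ Ideal.span {(p : S) ^ k} := by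
    intro i
    obtain ⟨Li, hLi⟩ := IsPrecomplete.prec' (I := Ideal.span {(p : S)})
      (fun k => (f (k + i + 1)).coeff i) (by
        intro k k' hkk'
        rw [SModEq.sub_mem, span_pow_smul_top]
        have h1 := hcoeff (k + i + 1) (k' + i + 1) i (by omega) (by omega)
        rw [← neg_sub]
        exact neg_mem (hpow k (k + i + 1) (by omega) h1))
    refine ⟨Li, fun k => ?_⟩
    have := hLi k
    rw [SModEq.sub_mem, span_pow_smul_top] at this
    exact this
  choose Lc hLc using hg
  refine ⟨WittVector.mk p Lc, fun n m N hn hm => ?_⟩
  rw [theta_eq_iff]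
  intro i hi
  rw [WittVector.coeff_mk]
  have h1 := hcoeff N (N + i + 1) i (by omega) (by omega)
  have h2 := hLc i N
  have h3 : (f N).coeff i - Lc i = -((f (N + i + 1)).coeff i - (f N).coeff i) +
      ((f (N + i + 1)).coeff i - Lc i) := by ring
  rw [h3]
  exact add_mem (neg_mem (hpow m N hm h1)) (hpow m N hm h2)

end helpers

/-- Let p be a prime and S a commutative ring without p-torsion which is complete and separated for the
p-adic topology; write W = W(S) for the p-typical Witt vectors, I_r ⊆ W for the ideal of Witt
vectors whose first r components vanish (the image of the r-th iterate of the Verschiebung) and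
W(p^s S) ⊆ W for the ideal of Witt vectors all of whose components lie in p^s S (the kernel of W(S)
→ W(S/p^s S)). Then for every natural number u the ideal p^u W is closed for the linear topology on
W in which the ideals I_r + W(p^s S) form a neighbourhood basis of zero: the intersection over all r
and s of p^u W + I_r + W(p^s S) equals p^u W. (The published statement asks only that S have no
p-torsion; S is moreover taken p-adically complete and separated here, the case in which the result
is applied and through which the published proof goes.) -/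
theorem result (p : ℕ) [Fact p.Prime] (S : Type u) [CommRing S]
    (hS : ∀ y : S, (p : S) * y = 0 → y = 0) [IsAdicComplete (Ideal.span {(p : S)}) S] (u : ℕ) :
    (⨅ r : ℕ, ⨅ s : ℕ,
        Ideal.span {(p : WittVector p S) ^ u} ⊔ RingHom.ker (WittVector.truncate (p := p) (R := S) r) ⊔
          RingHom.ker (WittVector.map (p := p) (Ideal.Quotient.mk (Ideal.span {(p : S) ^ s})))) =
      Ideal.span {(p : WittVector p S) ^ u} := by
  apply le_antisymm
  · intro x hx
    have hx' : ∀ r s, ∃ z, theta p S r s (x - (p : WittVector p S) ^ u * z) = 0 := by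
      intro r s
      rw [Submodule.mem_iInf] at hx
      have h1 := hx r
      rw [Submodule.mem_iInf] at h1
      have h2 := h1 s
      obtain ⟨y, hy, e₂, he₂, rfl⟩ := Submodule.mem_sup.mp h2
      obtain ⟨y₀, hy₀, e₁, he₁, rfl⟩ := Submodule.mem_sup.mp hy
      obtain ⟨z, rfl⟩ := Ideal.mem_span_singleton'.mp hy₀
      refine ⟨z, ?_⟩
      have e : z * (p : WittVector p S) ^ u + e₁ + e₂ - (p : WittVector p S) ^ u * z = e₁ + e₂ := by
        ring
      rw [e, map_add]
      have h3 : theta p S r s e₁ = 0 := by
        rw [theta_eq_zero_iff]
        intro i hi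
        rw [(WittVector.mem_ker_truncate r e₁).mp he₁ i hi]
        exact Ideal.zero_mem _
      have h4 : theta p S r s e₂ = 0 := by
        rw [theta_eq_zero_iff]
        intro i hi
        rw [RingHom.mem_ker] at he₂
        have := congrArg (fun w => w.coeff i) he₂
        simp only [WittVector.map_coeff, WittVector.zero_coeff] at this
        exact Ideal.Quotient.eq_zero_iff_mem.mp this
      rw [h3, h4, add_zero]
    choose zz hzz using hx'
    obtain ⟨Z, hZ⟩ : ∃ Z : ℕ → WittVector p S, Z = fun k => zz k (k + u + 1) := ⟨_, rfl⟩
    have hZ0 : ∀ k, theta p S k (k + u + 1) (x - (p : WittVector p S) ^ u * Z k) = 0 := by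
      intro k; rw [hZ]; exact hzz _ _
    have hcauchy : ∀ k, theta p S k k (Z (k + 1) - Z k) = 0 := by
      intro k
      have h1 : theta p S k (k + u + 1) ((p : WittVector p S) ^ u * (Z (k + 1) - Z k)) = 0 := by
        have e : (p : WittVector p S) ^ u * (Z (k + 1) - Z k) =
            (x - (p : WittVector p S) ^ u * Z k) - (x - (p : WittVector p S) ^ u * Z (k + 1)) := by
          ring
        rw [e, map_sub, hZ0 k,
          theta_mono p k (k + 1) (k + u + 1) (k + 1 + u + 1) (by omega) (by omega) _ (hZ0 (k + 1)),
          sub_zero]
      have h2 := theta_of_theta_mul p hS (Z (k + 1) - Z k) k u (k + u + 1) (by omega) h1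
      exact theta_mono p k k k (k + u + 1 - u) le_rfl (by omega) _ h2
    obtain ⟨L, hL⟩ := exists_limit' p Z hcauchy
    have hkey : x = (p : WittVector p S) ^ u * L := by
      apply eq_of_theta_eq p
      intro n m
      have e1 := hL n m (max n m) (le_max_left _ _) (le_max_right _ _)
      have e2 := theta_mono p n (max n m) m (max n m + u + 1) (le_max_left _ _)
        (by have := le_max_right n m; omega) _ (hZ0 (max n m))
      rw [map_sub, sub_eq_zero] at e2
      rw [e2, map_mul, map_mul, e1]
    rw [hkey]
    exact Ideal.mul_mem_right _ _ (Ideal.mem_span_singleton_self _)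
  · refine le_iInf fun r => le_iInf fun s => ?_
    exact le_sup_of_le_left le_sup_left

end Groth.Agent.S14862
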