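import Groth.Statements.S14864
import Groth.Agent.Helper19.Witt
-- import your own Groth.Agent.* helpers here

set_option autoImplicit false
universe u
open CAlg

namespace Groth.Agent.S14864

open WittVector Groth.Agent.Helper19.Witt

/-- Let p be a prime and R a commutative ring in which p is nilpotent; write W = W(R) for the p-typical
Witt vectors, I ⊆ W for the kernel of the projection onto the zeroth component, and I_n ⊆ W for the
kernel of the truncation W → W_n(R). The p-adic topology on W equals its I-adic topology — every
power of the ideal pW contains some power of I and every power of I contains some power of pW — and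
this common topology is finer than the V-adic one: every I_n contains some power of pW. -/
theorem result (p : ℕ) [Fact p.Prime] (R : Type u) [CommRing R]
    (hp : IsNilpotent (p : R)) :
    (∀ n : ℕ, ∃ m : ℕ, (RingHom.ker (WittVector.constantCoeff : WittVector p R →+* R)) ^ m ≤ Ideal.span {(p : WittVector p R)} ^ n) ∧
      (∀ n : ℕ, ∃ m : ℕ, Ideal.span {(p : WittVector p R)} ^ m ≤ (RingHom.ker (WittVector.constantCoeff : WittVector p R →+* R)) ^ n) ∧
        ∀ n : ℕ, ∃ m : ℕ, Ideal.span {(p : WittVector p R)} ^ m ≤ RingHom.ker (WittVector.truncate (p := p) (R := R) n) := by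
  set I := RingHom.ker (WittVector.constantCoeff : WittVector p R →+* R) with hI
  set P := Ideal.span {(p : WittVector p R)} with hP
  obtain ⟨N, hN⟩ := hp
  have hmemI : ∀ x : WittVector p R, x ∈ I ↔ x.coeff 0 = 0 := by
    intro x
    rw [hI, RingHom.mem_ker, WittVector.constantCoeff_apply]
  refine ⟨?_, ?_, ?_⟩
  · -- I^(n+1) ≤ P^n * I
    have hII : I * I ≤ P * I := by
      rw [Ideal.mul_le]
      intro a ha b hb
      obtain ⟨x, rfl⟩ := exists_verschiebung_of_coeff_zero a ((hmemI a).mp ha)
      obtain ⟨y, rfl⟩ := exists_verschiebung_of_coeff_zero b ((hmemI b).mp hb)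
      rw [verschiebung_mul_verschiebung]
      refine Ideal.mul_mem_mul (Ideal.mem_span_singleton_self _) ?_
      rw [hmemI]
      exact verschiebung_coeff_zero _
    have key : ∀ n : ℕ, I ^ (n + 1) ≤ P ^ n * I := by
      intro n
      induction n with
      | zero => simp
      | succ n ih =>
        calc I ^ (n + 1 + 1) = I ^ (n + 1) * I := pow_succ _ _
          _ ≤ (P ^ n * I) * I := Ideal.mul_mono_left ih
          _ = P ^ n * (I * I) := mul_assoc _ _ _
          _ ≤ P ^ n * (P * I) := Ideal.mul_mono_right hII
          _ = P ^ (n + 1) * I := by rw [← mul_assoc, ← pow_succ]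
    intro n
    exact ⟨n + 1, (key n).trans Ideal.mul_le_left⟩
  · have hPN : P ^ N ≤ I := by
      rw [hP, Ideal.span_singleton_pow, Ideal.span_singleton_le_iff_mem, hI, RingHom.mem_ker,
        map_pow, map_natCast, hN]
    intro n
    refine ⟨N * n, ?_⟩
    rw [pow_mul]
    exact Ideal.pow_right_mono hPN n
  · have key : ∀ k : ℕ, ∀ x : WittVector p R, ∃ y : WittVector p R,
        (p : WittVector p R) ^ (N * k) * x = verschiebung^[k] y := by
      intro k
      induction k with
      | zero => intro x; exact ⟨x, by simp⟩
      | succ k ih =>
        intro x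
        obtain ⟨y, hy⟩ := ih x
        have h0 : ((p : WittVector p R) ^ N * y).coeff 0 = 0 := by
          have : WittVector.constantCoeff ((p : WittVector p R) ^ N * y) = 0 := by
            rw [map_mul, map_pow, map_natCast, hN, zero_mul]
          simpa using this
        obtain ⟨y', hy'⟩ := exists_verschiebung_of_coeff_zero _ h0
        refine ⟨y', ?_⟩
        rw [Nat.mul_succ, pow_add, mul_comm (_ ^ (N * k)), mul_assoc, hy,
          p_pow_mul_iterate_verschiebung, hy', Function.iterate_succ_apply]
    intro n
    refine ⟨N * n, ?_⟩
    rw [hP, Ideal.span_singleton_pow, Ideal.span_singleton_le_iff_mem, WittVector.mem_ker_truncate]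
    intro i hi
    obtain ⟨y, hy⟩ := key n 1
    rw [mul_one] at hy
    rw [hy]
    exact iterate_verschiebung_coeff_eq_zero _ hi

end Groth.Agent.S14864
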