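import Groth.Statements.S14869
-- import your own Groth.Agent.* helpers here

set_option autoImplicit false
universe u v w
open CAlg

namespace Groth.Agent.S14869

open TensorProduct in
/-- Let S → R be a surjective homomorphism of commutative rings, let π : P_1 → P_2 be a surjective
homomorphism of S-modules with P_2 projective, and let π̄ : R ⊗_S P_1 → R ⊗_S P_2 be its base
change. Then every R-linear section σ̄ of π̄ lifts to a section of π: there is an S-linear map σ :
P_2 → P_1 with π ∘ σ = id whose base change R ⊗_S σ is σ̄. -/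
theorem result (S R : Type u) [CommRing S] [CommRing R] [Algebra S R]
    (hSR : Function.Surjective (algebraMap S R))
    (P₁ : Type v) [AddCommGroup P₁] [Module S P₁]
    (P₂ : Type w) [AddCommGroup P₂] [Module S P₂] [Module.Projective S P₂]
    (π : P₁ →ₗ[S] P₂) (hπ : Function.Surjective π)
    (σ' : R ⊗[S] P₂ →ₗ[R] R ⊗[S] P₁) (hσ' : (π.baseChange R).comp σ' = LinearMap.id) :
    ∃ σ : P₂ →ₗ[S] P₁, π.comp σ = LinearMap.id ∧ σ.baseChange R = σ' := by
  obtain ⟨σ0, hσ0⟩ := Module.projective_lifting_property π LinearMap.id hπ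
  -- the map x ↦ 1 ⊗ x
  let m1 : P₁ →ₗ[S] R ⊗[S] P₁ := TensorProduct.mk S R P₁ 1
  let m2 : P₂ →ₗ[S] R ⊗[S] P₂ := TensorProduct.mk S R P₂ 1
  have hm1 : Function.Surjective m1 := TensorProduct.mk_surjective S P₁ R hSR
  let D : R ⊗[S] P₂ →ₗ[R] R ⊗[S] P₁ := σ' - σ0.baseChange R
  have hD : (π.baseChange R).comp D = 0 := by
    simp only [D, LinearMap.comp_sub, hσ']
    rw [← LinearMap.baseChange_comp, hσ0, LinearMap.baseChange_id]
    exact sub_self (LinearMap.id : R ⊗[S] P₂ →ₗ[R] R ⊗[S] P₂)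
  obtain ⟨δ0, hδ0⟩ := Module.projective_lifting_property m1 ((D.restrictScalars S).comp m2) hm1
  let e : P₁ →ₗ[S] P₁ := LinearMap.id - σ0.comp π
  have hπe : π.comp e = 0 := by
    simp only [e, LinearMap.comp_sub, LinearMap.comp_id, ← LinearMap.comp_assoc, hσ0,
      LinearMap.id_comp, sub_self]
  refine ⟨σ0 + e.comp δ0, ?_, ?_⟩
  · rw [LinearMap.comp_add, hσ0, ← LinearMap.comp_assoc, hπe, LinearMap.zero_comp, add_zero]
  · apply TensorProduct.AlgebraTensorModule.curry_injective
    ext x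
    show (LinearMap.baseChange R (σ0 + e ∘ₗ δ0)) (1 ⊗ₜ[S] x) = σ' (1 ⊗ₜ[S] x)
    rw [LinearMap.baseChange_tmul, LinearMap.add_apply, LinearMap.comp_apply, tmul_add]
    have h1 : (1 : R) ⊗ₜ[S] δ0 x = D (1 ⊗ₜ x) := by
      have := LinearMap.congr_fun hδ0 x
      simpa [m1, m2] using this
    have h2 : (π.baseChange R) (D (1 ⊗ₜ x)) = 0 := LinearMap.congr_fun hD (1 ⊗ₜ x)
    have h3 : (1 : R) ⊗ₜ[S] e (δ0 x) = (e.baseChange R) ((1 : R) ⊗ₜ[S] δ0 x) := by
      rw [LinearMap.baseChange_tmul]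
    rw [h3, h1]
    have h4 : e.baseChange R = LinearMap.id - (σ0.baseChange R).comp (π.baseChange R) := by
      simp only [e, LinearMap.baseChange_sub, LinearMap.baseChange_id, LinearMap.baseChange_comp]
    rw [h4, LinearMap.sub_apply, LinearMap.comp_apply, h2, map_zero, sub_zero, LinearMap.id_apply]
    simp only [D, LinearMap.sub_apply, LinearMap.baseChange_tmul]
    abel

end Groth.Agent.S14869
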