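import Groth.Statements.S14870
import Mathlib

set_option autoImplicit false
universe u v w
open PLie

namespace Groth.Agent.S14870

theorem map_ad_pow {R : Type u} [CommRing R] {L : Type v} [LieRing L] [LieAlgebra R L]
    {L' : Type w} [LieRing L'] [LieAlgebra R L'] (F : L →ₗ⁅R⁆ L') (x : L) (n : ℕ) (y : L) :
    F ((LieAlgebra.ad R L x ^ n) y) = (LieAlgebra.ad R L' (F x) ^ n) (F y) := by
  induction n generalizing y with
  | zero => simp
  | succ n ih =>
    rw [pow_succ, pow_succ, Module.End.mul_apply, Module.End.mul_apply, ih]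
    simp only [LieAlgebra.ad_apply, LieHom.map_lie]

/-- Let `L` be a Lie algebra over a field of characteristic `p` equipped with a `p`-mapping `φ`, and let
`f : L → L'` be a surjective morphism of Lie algebras onto a Lie algebra with zero centre. Then the
kernel of `f` is stable under `φ`, i.e. it is a `p`-ideal. (The published statement is for
finite-dimensional Lie algebras; no finiteness is assumed in this row.) -/
theorem result
    (k : Type u) [Field k] (p : ℕ) [Fact p.Prime] [CharP k p]
    (L : Type v) [LieRing L] [LieAlgebra k L] (L' : Type w) [LieRing L'] [LieAlgebra k L']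
    (φ : PLie.PMap k p L) (f : L →ₗ⁅k⁆ L') (hf : Function.Surjective f)
    (hz : LieAlgebra.center k L' = ⊥) (x : L) (hx : f x = 0) :
    f (φ x) = 0 := by
  have hmem : f (φ x) ∈ LieAlgebra.center k L' := by
    rw [LieModule.mem_maxTrivSubmodule]
    intro z
    obtain ⟨y, rfl⟩ := hf z
    have hp : p ≠ 0 := (Fact.out : p.Prime).ne_zero
    have h1 : ⁅f y, f (φ x)⁆ = -f ((LieAlgebra.ad k L x ^ p) y) := by
      rw [← φ.ad_map x, LieAlgebra.ad_apply, LieHom.map_lie, lie_skew]
    rw [h1, map_ad_pow, hx, map_zero, zero_pow hp]
    simp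
  rw [hz] at hmem
  simpa using hmem

end Groth.Agent.S14870
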