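import Groth.Statements.S14871
import Mathlib

set_option autoImplicit false
universe u v
open PLie

namespace Groth.Agent.S14871

theorem ad_pow_mem {k : Type u} [CommRing k] {L : Type v} [LieRing L] [LieAlgebra k L]
    (I : LieIdeal k L) (x : L) (hx : x ∈ I) (n : ℕ) (hn : n ≠ 0) (y : L) :
    (LieAlgebra.ad k L x ^ n) y ∈ I := by
  obtain ⟨m, rfl⟩ := Nat.exists_eq_succ_of_ne_zero hn
  rw [pow_succ', Module.End.mul_apply, LieAlgebra.ad_apply]
  exact lie_mem_left k L I _ _ hx

/-- If `[y, w] ∈ I` for all `y`, and `I` is a solvable ideal, then `w ∈ radical`. -/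
theorem mem_radical_of_lie_mem {k : Type u} [Field k] {L : Type v} [LieRing L] [LieAlgebra k L]
    [Module.Finite k L] (w : L) (hw : ∀ y : L, ⁅y, w⁆ ∈ LieAlgebra.radical k L) :
    w ∈ LieAlgebra.radical k L := by
  let I : LieIdeal k L :=
    { toSubmodule := (LieAlgebra.radical k L).toSubmodule ⊔ Submodule.span k {w}
      lie_mem := by
        intro y m hm
        obtain ⟨r, hr, s, hs, rfl⟩ := Submodule.mem_sup.mp hm
        obtain ⟨c, rfl⟩ := Submodule.mem_span_singleton.mp hs
        rw [lie_add, lie_smul]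
        apply Submodule.mem_sup_left
        exact (LieAlgebra.radical k L).add_mem (lie_mem_right k L _ y r hr)
          ((LieAlgebra.radical k L).smul_mem c (hw y)) }
  have hwI : w ∈ I := Submodule.mem_sup_right (Submodule.mem_span_singleton_self w)
  have hrI : LieAlgebra.radical k L ≤ I := fun r hr => Submodule.mem_sup_left hr
  have hD : LieAlgebra.derivedSeriesOfIdeal k L 1 I ≤ LieAlgebra.radical k L := by
    rw [LieAlgebra.derivedSeriesOfIdeal_succ, LieAlgebra.derivedSeriesOfIdeal_zero,
      LieSubmodule.lieIdeal_oper_eq_span, LieSubmodule.lieSpan_le]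
    rintro _ ⟨⟨a, ha⟩, ⟨b, hb⟩, rfl⟩
    obtain ⟨r, hr, s, hs, rfl⟩ := Submodule.mem_sup.mp hb
    obtain ⟨c, rfl⟩ := Submodule.mem_span_singleton.mp hs
    change ⁅a, r + c • w⁆ ∈ LieAlgebra.radical k L
    rw [lie_add, lie_smul]
    exact (LieAlgebra.radical k L).add_mem (lie_mem_right k L _ a r hr)
      ((LieAlgebra.radical k L).smul_mem c (hw a))
  have hsol : LieAlgebra.IsSolvable I := by
    obtain ⟨n, hn⟩ := (LieAlgebra.isSolvable_iff k _).mp
      (inferInstance : LieAlgebra.IsSolvable (LieAlgebra.radical k L))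
    rw [LieIdeal.derivedSeries_eq_bot_iff] at hn
    refine LieAlgebra.IsSolvable.mk (R := k) (k := n + 1) ?_
    rw [LieIdeal.derivedSeries_eq_bot_iff, LieAlgebra.derivedSeriesOfIdeal_add, eq_bot_iff, ← hn]
    exact LieAlgebra.derivedSeriesOfIdeal_mono hD n
  exact (LieAlgebra.LieIdeal.solvable_iff_le_radical k L I).mp hsol hwI

/-- Let `L` be a finite-dimensional Lie algebra over a field of characteristic `p` equipped with a
`p`-mapping `φ`. Then the solvable radical of `L` is stable under `φ` (it is a `p`-subalgebra). -/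
theorem result
    (k : Type u) [Field k] (p : ℕ) [Fact p.Prime] [CharP k p]
    (L : Type v) [LieRing L] [LieAlgebra k L] [Module.Finite k L]
    (φ : PLie.PMap k p L) (x : L) (hx : x ∈ LieAlgebra.radical k L) :
    φ x ∈ LieAlgebra.radical k L := by
  apply mem_radical_of_lie_mem
  intro y
  have h1 : ⁅y, φ x⁆ = -((LieAlgebra.ad k L x ^ p) y) := by
    rw [← φ.ad_map x, LieAlgebra.ad_apply, lie_skew]
  rw [h1]
  exact (LieAlgebra.radical k L).neg_mem
    (ad_pow_mem _ x hx p (Fact.out : p.Prime).ne_zero y)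

end Groth.Agent.S14871
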