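import Groth.Statements.S14872
import Mathlib

set_option autoImplicit false
universe u v
open PLie

namespace Groth.Agent.S14872

theorem ad_pow_mem {k : Type u} [CommRing k] {L : Type v} [LieRing L] [LieAlgebra k L]
    (I : LieIdeal k L) (x : L) (hx : x ∈ I) (n : ℕ) (hn : n ≠ 0) (y : L) :
    (LieAlgebra.ad k L x ^ n) y ∈ I := by
  obtain ⟨m, rfl⟩ := Nat.exists_eq_succ_of_ne_zero hn
  rw [pow_succ', Module.End.mul_apply, LieAlgebra.ad_apply]
  exact lie_mem_left k L I _ _ hx

theorem coe_ad_pow {k : Type u} [CommRing k] {L : Type v} [LieRing L] [LieAlgebra k L]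
    (I : LieIdeal k L) (x y : I) (m : ℕ) :
    (((LieAlgebra.ad k I x) ^ m) y : L) = ((LieAlgebra.ad k L (x : L)) ^ m) (y : L) := by
  induction m generalizing y with
  | zero => simp
  | succ m ih =>
    rw [pow_succ, pow_succ, Module.End.mul_apply, Module.End.mul_apply, ih]
    simp [LieAlgebra.ad_apply]

/-- elements of a nilpotent ideal are ad-nilpotent on `L`. -/
theorem isNilpotent_ad_of_mem {k : Type u} [CommRing k] {L : Type v} [LieRing L] [LieAlgebra k L]
    (N : LieIdeal k L) (hN : LieRing.IsNilpotent N) (x : L) (hx : x ∈ N) :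
    IsNilpotent (LieAlgebra.ad k L x) := by
  obtain ⟨K, hK⟩ := LieAlgebra.nilpotent_ad_of_nilpotent_algebra k N
  refine ⟨K + 1, ?_⟩
  ext y
  rw [pow_succ, Module.End.mul_apply, LieAlgebra.ad_apply]
  have h1 : ⁅x, y⁆ ∈ N := lie_mem_left k L N _ _ hx
  have := coe_ad_pow N ⟨x, hx⟩ ⟨⁅x, y⁆, h1⟩ K
  rw [hK ⟨x, hx⟩] at this
  simpa using this.symm

/-- Key chain lemma: an operator shifting a finite decreasing chain is nilpotent. -/
theorem pow_eq_zero_of_chain {k : Type u} [CommRing k] {L : Type v} [AddCommGroup L] [Module k L]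
    (C : ℕ → Submodule k L) (h0 : C 0 = ⊤) (m : ℕ) (hm : C m = ⊥) (T : Module.End k L)
    (hT : ∀ j, ∀ y ∈ C j, T y ∈ C (j + 1)) : T ^ m = 0 := by
  have : ∀ j (y : L), (T ^ j) y ∈ C j := by
    intro j
    induction j with
    | zero => intro y; rw [h0]; trivial
    | succ j ih =>
      intro y
      rw [pow_succ', Module.End.mul_apply]
      exact hT j _ (ih y)
  ext y
  have := this m y
  rw [hm] at this
  simpa using this

/-- Let `L` be a finite-dimensional Lie algebra over a field of characteristic `p` equipped with a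
`p`-mapping `φ`, and let `N` be its nilradical, i.e. the ideal of `L` that is nilpotent as a Lie
ring and contains every ideal of `L` nilpotent as a Lie ring. Then `N` is stable under `φ` (it is a
`p`-subalgebra). (The nilradical is given here through its characterising property; it is not the
largest submodule on which `L` acts nilpotently.) -/
theorem result
    (k : Type u) [Field k] (p : ℕ) [Fact p.Prime] [CharP k p]
    (L : Type v) [LieRing L] [LieAlgebra k L] [Module.Finite k L]
    (φ : PLie.PMap k p L) (N : LieIdeal k L) (hN : LieRing.IsNilpotent N)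
    (hmax : ∀ I : LieIdeal k L, LieRing.IsNilpotent I → I ≤ N)
    (x : L) (hx : x ∈ N) : φ x ∈ N := by
  have hp0 : p ≠ 0 := (Fact.out : p.Prime).ne_zero
  set w := φ x with hw
  have hlie : ∀ y : L, ⁅y, w⁆ ∈ N := by
    intro y
    have h1 : ⁅y, φ x⁆ = -((LieAlgebra.ad k L x ^ p) y) := by
      rw [← φ.ad_map x, LieAlgebra.ad_apply, lie_skew]
    rw [hw, h1]
    exact N.neg_mem (ad_pow_mem _ x hx p hp0 y)
  let I : LieIdeal k L :=
    { toSubmodule := N.toSubmodule ⊔ Submodule.span k {w}
      lie_mem := by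
        intro y m hm
        obtain ⟨r, hr, s, hs, rfl⟩ := Submodule.mem_sup.mp hm
        obtain ⟨c, rfl⟩ := Submodule.mem_span_singleton.mp hs
        rw [lie_add, lie_smul]
        apply Submodule.mem_sup_left
        exact N.add_mem (lie_mem_right k L _ y r hr) (N.smul_mem c (hlie y)) }
  have hwI : w ∈ I := Submodule.mem_sup_right (Submodule.mem_span_singleton_self w)
  -- `L` is nilpotent as an `N`-module, by Engel
  have hNL : LieModule.IsNilpotent N L := by
    rw [LieModule.isNilpotent_iff_forall' (R := k)]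
    intro n
    obtain ⟨K, hK⟩ := isNilpotent_ad_of_mem N hN n n.2
    refine ⟨K, ?_⟩
    ext y
    have : ∀ j (y : L), ((LieModule.toEnd k N L n) ^ j) y = ((LieAlgebra.ad k L (n : L)) ^ j) y := by
      intro j
      induction j with
      | zero => intro y; simp
      | succ j ih =>
        intro y
        rw [pow_succ, pow_succ, Module.End.mul_apply, Module.End.mul_apply, ih]
        rfl
    rw [this, hK]
  obtain ⟨m, hm⟩ := (LieModule.isNilpotent_iff k N L).mp hNL
  let C : ℕ → Submodule k L := fun j => (LieModule.lowerCentralSeries k N L j).toSubmodule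
  have hC0 : C 0 = ⊤ := by simp [C]
  have hCm : C m = ⊥ := by simp [C, hm]
  have hCanti : ∀ i j, i ≤ j → C j ≤ C i := fun i j hij =>
    LieModule.antitone_lowerCentralSeries k N L hij
  have hCN : ∀ (n : L) (hn : n ∈ N) j, ∀ y ∈ C j, ⁅n, y⁆ ∈ C (j + 1) := by
    intro n hn j y hy
    change ⁅n, y⁆ ∈ LieModule.lowerCentralSeries k N L (j + 1)
    rw [LieModule.lowerCentralSeries_succ]
    exact LieSubmodule.lie_mem_lie (N := LieModule.lowerCentralSeries k N L j)
      (I := (⊤ : LieIdeal k N)) (x := ⟨n, hn⟩) (m := y) trivial hy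
  have hCx : ∀ (i j : ℕ), ∀ y ∈ C j, ((LieAlgebra.ad k L x) ^ i) y ∈ C (j + i) := by
    intro i
    induction i with
    | zero => intro j y hy; simpa using hy
    | succ i ih =>
      intro j y hy
      rw [pow_succ', Module.End.mul_apply, LieAlgebra.ad_apply, ← add_assoc]
      exact hCN x hx _ _ (ih j y hy)
  have hCw : ∀ j, ∀ y ∈ C j, ⁅w, y⁆ ∈ C (j + 1) := by
    intro j y hy
    have h1 : ⁅w, y⁆ = (LieAlgebra.ad k L x ^ p) y := by
      rw [hw, ← φ.ad_map x, LieAlgebra.ad_apply]
    rw [h1]
    exact hCanti _ _ (by omega) (hCx p j y hy)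
  have hInil : LieRing.IsNilpotent I := by
    rw [LieAlgebra.isNilpotent_iff_forall (R := k)]
    intro a
    obtain ⟨r, hr, s, hs, hrs⟩ := Submodule.mem_sup.mp a.2
    obtain ⟨c, rfl⟩ := Submodule.mem_span_singleton.mp hs
    have hT : (LieAlgebra.ad k L (a : L)) ^ m = 0 := by
      apply pow_eq_zero_of_chain C hC0 m hCm
      intro j y hy
      rw [LieAlgebra.ad_apply, ← hrs, add_lie, smul_lie]
      exact (C (j + 1)).add_mem (hCN r hr j y hy) ((C (j + 1)).smul_mem c (hCw j y hy))
    refine ⟨m, ?_⟩
    ext y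
    rw [coe_ad_pow, hT]
    simp
  exact hmax I hInil hwI

end Groth.Agent.S14872
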