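import Groth.Statements.S14874
import Mathlib
import Groth.Agent.S14872
import Groth.Agent.S14873

set_option autoImplicit false
universe u v
open PLie

namespace Groth.Agent.S14874

/-- Let `L` be a finite-dimensional Lie algebra over a field of characteristic `p` equipped with a
`p`-mapping `φ`. Let `N` be the nilradical of `L` (the ideal nilpotent as a Lie ring that contains
every such ideal) and `P` its `p`-radical (the largest ideal stable under `φ` all of whose elements
are `p`-nilpotent). Then `N = P` if and only if the centre of `L` is contained in `P`. -/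
theorem result
    (k : Type u) [Field k] (p : ℕ) [Fact p.Prime] [CharP k p]
    (L : Type v) [LieRing L] [LieAlgebra k L] [Module.Finite k L]
    (φ : PLie.PMap k p L)
    (N : LieIdeal k L) (hN : LieRing.IsNilpotent N)
    (hNmax : ∀ I : LieIdeal k L, LieRing.IsNilpotent I → I ≤ N)
    (P : LieIdeal k L) (hPsub : ∀ x ∈ P, φ x ∈ P) (hPnil : ∀ x ∈ P, PLie.IsPNilpotent φ x)
    (hPmax : ∀ J : LieIdeal k L, (∀ x ∈ J, φ x ∈ J) → (∀ x ∈ J, PLie.IsPNilpotent φ x) → J ≤ P) :
    N = P ↔ LieAlgebra.center k L ≤ P := by
  constructor
  · intro h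
    rw [← h]
    apply hNmax
    infer_instance
  · intro hc
    have hPN : P ≤ N := hNmax P (Groth.Agent.S14873.result k p L φ P hPsub hPnil)
    have hNP : N ≤ P := by
      refine hPmax N (fun x hx => Groth.Agent.S14872.result k p L φ N hN hNmax x hx) ?_
      intro x hx
      obtain ⟨K, hK⟩ := Groth.Agent.S14872.isNilpotent_ad_of_mem N hN x hx
      have hp1 : 1 < p := (Fact.out : p.Prime).one_lt
      have hKle : K ≤ p ^ K := (Nat.lt_pow_self hp1).le
      have h0 : LieAlgebra.ad k L x ^ (p ^ K) = 0 := pow_eq_zero_of_le hKle hK
      rw [Groth.Agent.S14873.ad_pow_iterate φ] at h0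
      have hcen : φ.toFun^[K] x ∈ LieAlgebra.center k L := by
        rw [LieModule.mem_maxTrivSubmodule]
        intro y
        have := congrArg (fun e => e y) h0
        simp only [LieAlgebra.ad_apply, LinearMap.zero_apply] at this
        rw [← lie_skew, this, neg_zero]
      obtain ⟨m, hm⟩ := hPnil _ (hc hcen)
      exact ⟨m + K, by rw [Function.iterate_add_apply]; exact hm⟩
    exact le_antisymm hNP hPN

end Groth.Agent.S14874
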