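import Groth.Statements.S14877
import Mathlib
import Groth.Agent.Lib.Helper10.LocIsotriv1

set_option autoImplicit false
universe u
open CategoryTheory MonoidalCategory CartesianMonoidalCategory MonObj GrpObj AlgebraicGeometry CategoryTheory.Limits
open AlgGrp

namespace Groth.Agent.S14877

/-- Over an algebraically closed field k of characteristic zero, let G be an algebraic group (a smooth
k-group scheme of finite type) acting on a variety P (reduced, separated, of finite type over k),
and let π : P → X be a geometric quotient by this action onto a variety X: π is invariant,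
surjective and open, the map (g, p) ↦ (g·p, p) from G × P to P ×_X P is surjective on points, and
for every open U of X the sections of O_X over U are exactly the invariant sections of O_P over
π⁻¹U. Suppose the bundle is locally isotrivial: every point of X has an open neighbourhood U with a
finite étale surjective morphism U' → U and a morphism s : U' → P lifting U' → U → X such that (u,
g) ↦ g·s(u) exhibits U' × G as the fibre product U' ×_X P. Then the bundle is principal: (g, p) ↦
(g·p, p) is an isomorphism of G × P onto P ×_X P, and π is flat. (The published definition of an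
étale covering asks only for a finite étale morphism; this row also requires it to be surjective,
since an empty cover would make every bundle isotrivial.) -/
theorem result (k : Type u) [Field k] [IsAlgClosed k] [CharZero k]
    (G P X : Over (Spec (CommRingCat.of k))) [GrpObj G] [Smooth G.hom] [QuasiCompact G.hom]
    [LocallyOfFiniteType P.hom] [QuasiCompact P.hom] [IsSeparated P.hom] [IsReduced P.left]
    [LocallyOfFiniteType X.hom] [QuasiCompact X.hom] [IsSeparated X.hom] [IsReduced X.left]
    (a : AlgGrp.Action G P) (π : P ⟶ X) (hinv : GIT.IsInvariant a π)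
    (hq : Function.Surjective π.left.base ∧ IsOpenMap π.left.base ∧
      Function.Surjective (GIT.PsiY a π hinv).base ∧
      ∀ U : X.left.Opens, Function.Injective (π.left.app U) ∧
        Set.range (π.left.app U) = {f | GIT.IsInvSection a π U f})
    (hli : ∀ x : ↥X.left, ∃ (U : X.left.Opens) (_ : x ∈ U) (U' : Scheme.{u}) (φ : U' ⟶ ↑U)
      (_ : IsFinite φ) (_ : Etale φ) (_ : Surjective φ) (s : Over.mk (φ ≫ U.ι ≫ X.hom) ⟶ P),
      s.left ≫ π.left = φ ≫ U.ι ∧
      IsPullback (fst (Over.mk (φ ≫ U.ι ≫ X.hom)) G).left (lift (snd (Over.mk (φ ≫ U.ι ≫ X.hom)) G) (fst (Over.mk (φ ≫ U.ι ≫ X.hom)) G ≫ s) ≫ a.act).left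
        (φ ≫ U.ι) π.left) :
    IsIso (GIT.PsiY a π hinv) ∧ Flat π.left := by
  choose U hxU U' φ hfin het hsurj s hs hpb using hli
  let Y' : ↥X.left → Over (Spec (CommRingCat.of k)) := fun x => Over.mk (φ x ≫ (U x).ι ≫ X.hom)
  let gO : ∀ x, Y' x ⟶ X := fun x => Over.homMk (φ x ≫ (U x).ι) (by simp [Y'])
  have hpbO : ∀ x, IsPullback (Groth.Agent.Lib.Helper10.LocIsotriv.Theta a (s x))
      (CartesianMonoidalCategory.fst (Y' x) G) π (gO x) := by
    intro x
    have e : Groth.Agent.Lib.Helper10.LocIsotriv.Theta a (s x) ≫ π =
        CartesianMonoidalCategory.fst (Y' x) G ≫ gO x := by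
      apply Over.OverMorphism.ext
      exact (hpb x).w.symm
    exact IsPullback.of_map (Over.forget _) e (hpb x).flip
  have hcov : Presieve.ofArrows (fun x => (Y' x).left) (fun x => (gO x).left) ∈
      Scheme.fpqcPrecoverage X.left := by
    apply Scheme.fppfPrecoverage_le_fpqcPrecoverage
    show _ ∈ Scheme.precoverage (@Flat ⊓ @LocallyOfFinitePresentation) X.left
    rw [Scheme.ofArrows_mem_precoverage_iff]
    refine ⟨fun x => ⟨x, ?_⟩, fun x => ?_⟩
    · obtain ⟨u', hu'⟩ := (hsurj x).surj ⟨x, hxU x⟩
      refine ⟨u', ?_⟩
      show (φ x ≫ (U x).ι) u' = x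
      rw [Scheme.Hom.comp_apply, hu']
      rfl
    · haveI := het x
      have h1 : Flat (φ x ≫ (U x).ι) := inferInstance
      have h2 : LocallyOfFinitePresentation (φ x ≫ (U x).ι) := inferInstance
      exact ⟨h1, h2⟩
  haveI : Flat G.hom := inferInstance
  exact ⟨Groth.Agent.Lib.Helper10.LocIsotriv.isIso_PsiY_of_cover a π hinv Y' gO s hpbO hcov,
    Groth.Agent.Lib.Helper10.LocIsotriv.flat_of_cover a π Y' gO s hpbO hcov⟩

end Groth.Agent.S14877
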