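import Groth.Statements.S14879
import Mathlib.GroupTheory.Perm.Fin
import Mathlib.Algebra.BigOperators.Fin
import Mathlib.Tactic
-- import your own Groth.Agent.* helpers here

set_option autoImplicit false
universe u
open Finset
open AlgGrp

namespace Groth.Agent.S14879

section helpers

variable {k : Type u} [Field k] (p r : ℕ)

/-- block sum of permutations -/
def gam (α : Equiv.Perm (Fin p)) (β : Equiv.Perm (Fin r)) : Equiv.Perm (Fin (p + r)) :=
  finSumFinEquiv.permCongr (Equiv.Perm.sumCongr α β)

theorem gam_castAdd (α : Equiv.Perm (Fin p)) (β : Equiv.Perm (Fin r)) (j : Fin p) :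
    gam p r α β (Fin.castAdd r j) = Fin.castAdd r (α j) := by
  simp [gam, Equiv.permCongr_apply]

theorem gam_natAdd (α : Equiv.Perm (Fin p)) (β : Equiv.Perm (Fin r)) (j : Fin r) :
    gam p r α β (Fin.natAdd p j) = Fin.natAdd p (β j) := by
  simp [gam, Equiv.permCongr_apply]

theorem sign_gam (α : Equiv.Perm (Fin p)) (β : Equiv.Perm (Fin r)) :
    Equiv.Perm.sign (gam p r α β) = Equiv.Perm.sign α * Equiv.Perm.sign β := by
  rw [gam, Equiv.Perm.sign_permCongr, Equiv.Perm.sign_sumCongr]

/-- the signed sum over `π` of the twisted product is the determinant -/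
theorem sum_twist (N : Matrix (Fin (p + r)) (Fin (p + r)) k) (γ : Equiv.Perm (Fin (p + r))) :
    ∑ π : Equiv.Perm (Fin (p + r)),
      (((Equiv.Perm.sign π : ℤˣ) : ℤ) : k) * (((Equiv.Perm.sign γ : ℤˣ) : ℤ) : k) *
        ∏ j, N (γ j) (π j) = N.det := by
  rw [Matrix.det_apply']
  refine Fintype.sum_bijective (fun π : Equiv.Perm (Fin (p + r)) => γ * π⁻¹)
    ((Group.mulLeft_bijective γ).comp (inv_involutive.bijective)) _ _ ?_
  intro π
  rw [Equiv.Perm.sign_mul, Equiv.Perm.sign_inv]
  congr 1
  · push_cast
    ring
  · refine Fintype.prod_equiv π _ _ ?_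
    intro j
    simp

theorem prod_gam (N : Matrix (Fin (p + r)) (Fin (p + r)) k) (π : Equiv.Perm (Fin (p + r)))
    (α : Equiv.Perm (Fin p)) (β : Equiv.Perm (Fin r)) :
    ∏ j, N (gam p r α β j) (π j) =
      (∏ j : Fin p, N (Fin.castAdd r (α j)) (π (Fin.castAdd r j))) *
        ∏ j : Fin r, N (Fin.natAdd p (β j)) (π (Fin.natAdd p j)) := by
  rw [Fin.prod_univ_add]
  simp_rw [gam_castAdd, gam_natAdd]

/-- key identity -/
theorem key (N : Matrix (Fin (p + r)) (Fin (p + r)) k) :
    ∑ π : Equiv.Perm (Fin (p + r)), (((Equiv.Perm.sign π : ℤˣ) : ℤ) : k) *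
      (Matrix.of fun i j : Fin p => N (Fin.castAdd r i) (π (Fin.castAdd r j))).det *
      (Matrix.of fun i j : Fin r => N (Fin.natAdd p i) (π (Fin.natAdd p j))).det =
    ((p.factorial * r.factorial : ℕ) : k) * N.det := by
  have h1 : ∀ π : Equiv.Perm (Fin (p + r)), (((Equiv.Perm.sign π : ℤˣ) : ℤ) : k) *
      (Matrix.of fun i j : Fin p => N (Fin.castAdd r i) (π (Fin.castAdd r j))).det *
      (Matrix.of fun i j : Fin r => N (Fin.natAdd p i) (π (Fin.natAdd p j))).det =
      ∑ α : Equiv.Perm (Fin p), ∑ β : Equiv.Perm (Fin r),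
        (((Equiv.Perm.sign π : ℤˣ) : ℤ) : k) * (((Equiv.Perm.sign (gam p r α β) : ℤˣ) : ℤ) : k) *
          ∏ j, N (gam p r α β j) (π j) := by
    intro π
    rw [Matrix.det_apply', Matrix.det_apply', mul_assoc, Finset.sum_mul_sum, Finset.mul_sum]
    refine Finset.sum_congr rfl fun α _ => ?_
    rw [Finset.mul_sum]
    refine Finset.sum_congr rfl fun β _ => ?_
    rw [prod_gam, sign_gam]
    simp only [Matrix.of_apply]
    push_cast
    ring
  simp_rw [h1]
  rw [Finset.sum_comm]
  simp_rw [Finset.sum_comm (s := (Finset.univ : Finset (Equiv.Perm (Fin (p + r)))))]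
  simp_rw [sum_twist]
  simp [Fintype.card_perm, mul_assoc]


variable {p r} (A B : Finset (Fin (p + r))) (hA : A.card = p) (hB : B.card = r)

/-- the row selection map -/
noncomputable def row : Fin (p + r) → Fin (p + r) :=
  Fin.addCases (fun i => A.orderEmbOfFin hA i) (fun i => B.orderEmbOfFin hB i)

theorem row_castAdd (i : Fin p) : row A B hA hB (Fin.castAdd r i) = A.orderEmbOfFin hA i :=
  Fin.addCases_left _

theorem row_natAdd (i : Fin r) : row A B hA hB (Fin.natAdd p i) = B.orderEmbOfFin hB i :=
  Fin.addCases_right _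

theorem not_mem_of_mem (h : B = Aᶜ) : ∀ x ∈ B, x ∉ A :=
  fun x hx => Finset.mem_compl.mp (h ▸ hx)

theorem row_injective (h : B = Aᶜ) : Function.Injective (row A B hA hB) := by
  intro x y hxy
  induction x using Fin.addCases with
  | left i =>
    induction y using Fin.addCases with
    | left j =>
      rw [row_castAdd, row_castAdd] at hxy
      rw [(A.orderEmbOfFin hA).injective hxy]
    | right j =>
      exfalso
      rw [row_castAdd, row_natAdd] at hxy
      have h1 := A.orderEmbOfFin_mem hA i
      have h2 := B.orderEmbOfFin_mem hB j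
      rw [hxy] at h1
      exact not_mem_of_mem A B h _ h2 h1
  | right i =>
    induction y using Fin.addCases with
    | left j =>
      exfalso
      rw [row_castAdd, row_natAdd] at hxy
      have h1 := A.orderEmbOfFin_mem hA j
      have h2 := B.orderEmbOfFin_mem hB i
      rw [← hxy] at h1
      exact not_mem_of_mem A B h _ h2 h1
    | right j =>
      rw [row_natAdd, row_natAdd] at hxy
      rw [(B.orderEmbOfFin hB).injective hxy]

theorem exists_eq_of_ne (h : B ≠ Aᶜ) : ∃ i j, A.orderEmbOfFin hA i = B.orderEmbOfFin hB j := by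
  by_contra hcon
  push Not at hcon
  apply h
  apply Finset.eq_of_subset_of_card_le
  · intro b hb
    rw [Finset.mem_compl]
    intro ha
    have h1 : b ∈ Set.range (A.orderEmbOfFin hA) := by
      rw [Finset.range_orderEmbOfFin]; exact ha
    have h2 : b ∈ Set.range (B.orderEmbOfFin hB) := by
      rw [Finset.range_orderEmbOfFin]; exact hb
    obtain ⟨i, hi⟩ := h1
    obtain ⟨j, hj⟩ := h2
    exact hcon i j (hi.trans hj.symm)
  · rw [Finset.card_compl, Fintype.card_fin, hA, hB]
    omega

theorem sign_row (h : B = Aᶜ) (σ : Equiv.Perm (Fin (p + r))) (hσ : ∀ x, σ x = row A B hA hB x) :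
    Equiv.Perm.sign σ = (-1) ^ ((A ×ˢ Aᶜ).filter (fun ab => ab.2 < ab.1)).card := by
  rw [Equiv.Perm.sign_eq_prod_prod_Ioi, Finset.prod_sigma' Finset.univ (fun i => Finset.Ioi i)
    (fun i j => if σ i < σ j then (1 : ℤˣ) else -1), Finset.prod_ite, Finset.prod_const_one, one_mul,
    Finset.prod_const]
  congr 1
  refine Finset.card_bij (fun x _ => (σ x.1, σ x.2)) ?_ ?_ ?_
  · rintro ⟨x, y⟩ hxy
    simp only [Finset.mem_filter, Finset.mem_sigma, Finset.mem_univ, true_and, Finset.mem_Ioi,
      not_lt] at hxy
    obtain ⟨hlt, hle⟩ := hxy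
    have hne : σ y ≠ σ x := fun he => (ne_of_lt hlt) (σ.injective he).symm
    have hlt' : σ y < σ x := lt_of_le_of_ne hle hne
    simp only [Finset.mem_filter, Finset.mem_product, Finset.mem_compl]
    rw [hσ, hσ] at hlt'
    rw [hσ, hσ]
    induction x using Fin.addCases with
    | left i =>
      induction y using Fin.addCases with
      | left j =>
        exfalso
        rw [row_castAdd, row_castAdd] at hlt'
        have : i < j := by
          have h1 : (Fin.castAdd r i : Fin (p + r)).val < (Fin.castAdd r j : Fin (p + r)).val := hlt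
          simp only [Fin.val_castAdd] at h1
          exact h1
        exact absurd ((A.orderEmbOfFin hA).strictMono this) (not_lt.mpr hlt'.le)
      | right j =>
        rw [row_castAdd, row_natAdd] at hlt' ⊢
        exact ⟨⟨A.orderEmbOfFin_mem hA i,
          not_mem_of_mem A B h _ (B.orderEmbOfFin_mem hB j)⟩, hlt'⟩
    | right i =>
      induction y using Fin.addCases with
      | left j =>
        exfalso
        have h1 : (Fin.natAdd p i : Fin (p + r)).val < (Fin.castAdd r j : Fin (p + r)).val := hlt
        simp only [Fin.natAdd_mk, Fin.val_natAdd, Fin.val_castAdd] at h1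
        omega
      | right j =>
        exfalso
        rw [row_natAdd, row_natAdd] at hlt'
        have : i < j := by
          have h1 : (Fin.natAdd p i : Fin (p + r)).val < (Fin.natAdd p j : Fin (p + r)).val := hlt
          simp only [Fin.val_natAdd] at h1
          exact Fin.lt_def.mpr (by omega)
        exact absurd ((B.orderEmbOfFin hB).strictMono this) (not_lt.mpr hlt'.le)
  · rintro ⟨x, y⟩ _ ⟨x', y'⟩ _ hxy
    simp only [Prod.mk.injEq] at hxy
    obtain ⟨h1, h2⟩ := hxy
    rw [σ.injective h1, σ.injective h2]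
  · rintro ⟨a, b⟩ hab
    simp only [Finset.mem_filter, Finset.mem_product, Finset.mem_compl] at hab
    obtain ⟨⟨ha, hb⟩, hlt⟩ := hab
    have h1 : a ∈ Set.range (A.orderEmbOfFin hA) := by
      rw [Finset.range_orderEmbOfFin]; exact ha
    have h2 : b ∈ Set.range (B.orderEmbOfFin hB) := by
      rw [Finset.range_orderEmbOfFin, h]; exact Finset.mem_coe.mpr (Finset.mem_compl.mpr hb)
    obtain ⟨i, hi⟩ := h1
    obtain ⟨j, hj⟩ := h2
    refine ⟨⟨Fin.castAdd r i, Fin.natAdd p j⟩, ?_, ?_⟩
    · simp only [Finset.mem_filter, Finset.mem_sigma, Finset.mem_univ, true_and, Finset.mem_Ioi,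
        not_lt]
      refine ⟨?_, ?_⟩
      · change (Fin.castAdd r i : Fin (p + r)).val < (Fin.natAdd p j : Fin (p + r)).val
        simp only [Fin.val_natAdd, Fin.val_castAdd]
        omega
      · rw [hσ, hσ, row_castAdd, row_natAdd, hi, hj]
        exact hlt.le
    · simp only [Prod.mk.injEq]
      rw [hσ, hσ, row_castAdd, row_natAdd, hi, hj]
      exact ⟨rfl, rfl⟩

end helpers

/-- Let k be a field of characteristic zero, n = p + r with p, r ≥ 1, M an n × n matrix over k, A a set
of p row indices and B a set of r row indices, both listed increasingly. For a permutation π of the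
indices, with permutation matrix P_π, let Y_A(M·P_π) be the minor of M·P_π on the rows A and the
first p columns, and Z_B(M·P_π) the minor on the rows B and the last r columns. Then the sum over
all π of sign(π)·Y_A(M·P_π)·Z_B(M·P_π) equals p!·r!·(−1)^N·det M when B is the complement of A,
where N is the number of pairs (a, b) with a in A, b outside A and b < a, and equals 0 otherwise.
Taking det M = 1 this says that the pairing (f, h) ↦ Σ_π sign(π) f(π) h(π) between the spans of the
left p-minors and of the right r-minors is invariant under left translation by matrices of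
determinant one and pairs Y_A with the signed complementary minor to p!·r!. (The published statement
asserts that the two families of minors are dual bases for this pairing, that is, the value 1 in
place of p!·r!; the p!·r! permutations preserving the two column blocks each contribute the same
signed term, so this row carries that factor, which is 1 only for n = 2.) -/
theorem result (k : Type u) [Field k] [CharZero k]
    (p r : ℕ) (hp : 1 ≤ p) (hr : 1 ≤ r) (M : Matrix (Fin (p + r)) (Fin (p + r)) k)
    (A : Finset (Fin (p + r))) (hA : A.card = p) (B : Finset (Fin (p + r))) (hB : B.card = r) :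
    ∑ π : Equiv.Perm (Fin (p + r)), (((Equiv.Perm.sign π : ℤˣ) : ℤ) : k) *
      ((M * π.permMatrix k).submatrix (A.orderEmbOfFin hA) (Fin.castAdd r)).det *
      ((M * π.permMatrix k).submatrix (B.orderEmbOfFin hB) (Fin.natAdd p)).det =
    if B = Aᶜ then ((p.factorial * r.factorial : ℕ) : k) *
      (-1 : k) ^ ((A ×ˢ Aᶜ).filter (fun ab => ab.2 < ab.1)).card * M.det else 0 := by
  classical
  obtain ⟨N, hN⟩ : ∃ N, N = M.submatrix (row A B hA hB) id := ⟨_, rfl⟩
  have hL : ∑ π : Equiv.Perm (Fin (p + r)), (((Equiv.Perm.sign π : ℤˣ) : ℤ) : k) *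
      ((M * π.permMatrix k).submatrix (A.orderEmbOfFin hA) (Fin.castAdd r)).det *
      ((M * π.permMatrix k).submatrix (B.orderEmbOfFin hB) (Fin.natAdd p)).det =
      ∑ π : Equiv.Perm (Fin (p + r)), (((Equiv.Perm.sign π : ℤˣ) : ℤ) : k) *
      (Matrix.of fun i j : Fin p => N (Fin.castAdd r i) (π (Fin.castAdd r j))).det *
      (Matrix.of fun i j : Fin r => N (Fin.natAdd p i) (π (Fin.natAdd p j))).det := by
    refine Fintype.sum_bijective (fun π : Equiv.Perm (Fin (p + r)) => π⁻¹)
      inv_involutive.bijective _ _ ?_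
    intro π
    have e1 : (M * π.permMatrix k).submatrix (A.orderEmbOfFin hA) (Fin.castAdd r) =
        Matrix.of fun i j : Fin p => N (Fin.castAdd r i) (π⁻¹ (Fin.castAdd r j)) := by
      ext i j
      rw [PEquiv.mul_toMatrix_toPEquiv]
      simp [hN, row_castAdd]
    have e2 : (M * π.permMatrix k).submatrix (B.orderEmbOfFin hB) (Fin.natAdd p) =
        Matrix.of fun i j : Fin r => N (Fin.natAdd p i) (π⁻¹ (Fin.natAdd p j)) := by
      ext i j
      rw [PEquiv.mul_toMatrix_toPEquiv]
      simp [hN, row_natAdd]
    rw [Equiv.Perm.sign_inv, e1, e2]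
  rw [hL, key]
  split_ifs with h
  · have hinj := row_injective A B hA hB h
    obtain ⟨σ, hσ⟩ : ∃ σ : Equiv.Perm (Fin (p + r)), ∀ x, σ x = row A B hA hB x :=
      ⟨Equiv.ofBijective _ ⟨hinj, Finite.injective_iff_surjective.mp hinj⟩, fun x => rfl⟩
    have hNσ : N = M.submatrix σ id := by
      rw [hN]
      ext i j
      simp [hσ]
    rw [hNσ, Matrix.det_permute, sign_row A B hA hB h σ hσ]
    push_cast
    ring
  · obtain ⟨i, j, hij⟩ := exists_eq_of_ne A B hA hB h
    have hdet : N.det = 0 := by
      refine Matrix.det_zero_of_row_eq (i := Fin.castAdd r i) (j := Fin.natAdd p j) ?_ ?_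
      · intro he
        have h1 : (Fin.castAdd r i : Fin (p + r)).val = (Fin.natAdd p j : Fin (p + r)).val := by
          rw [he]
        simp only [Fin.val_natAdd, Fin.val_castAdd] at h1
        omega
      · ext l
        rw [hN]
        simp [row_castAdd, row_natAdd, hij]
    rw [hdet, mul_zero]

end Groth.Agent.S14879
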