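import Groth.Statements.S14886
import Mathlib
import Groth.Agent.Lib.Helper10.AssocBun2

set_option autoImplicit false
universe u
open CategoryTheory MonoidalCategory CartesianMonoidalCategory MonObj GrpObj AlgebraicGeometry CategoryTheory.Limits
open AlgGrp

namespace Groth.Agent.S14886

/-- Over an algebraically closed field k of characteristic zero, let G be a connected algebraic group (a
smooth connected k-group scheme of finite type) and H an algebraic subgroup (a smooth closed
subgroup scheme, j : H → G). Let π : G → B be the quotient of G by H (a geometric quotient for the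
action h·g = g·h⁻¹ which is a principal H-bundle: (h, g) ↦ (g·h⁻¹, g) is an isomorphism H × G ≅ G
×_B G and π is flat). Let X and Y be varieties (reduced, separated, of finite type over k) with
H-actions, in each of which every finite set of points lies in an affine open subset, and let qX : G
× X → QX, qY : G × Y → QY and qXY : G × (X × Y) → QXY be the associated bundles G_H(X), G_H(Y) and
G_H(X × Y): geometric quotients (invariant, surjective, open, fibre-pair map surjective on points,
sections = invariant sections) which are principal H-bundles, for the actions h·(g, x) = (g·h⁻¹,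
h·x), h·(g, y) = (g·h⁻¹, h·y) and h·(g, x, y) = (g·h⁻¹, h·x, h·y), with QX, QY, QXY varieties over B
= G/H through pX, pY, pXY satisfying p ∘ q = π ∘ pr₁. Let fX : QXY → QX and fY : QXY → QY be the
morphisms over B induced by the projections, fX ∘ qXY = qX ∘ (id × pr₁) and fY ∘ qXY = qY ∘ (id ×
pr₂). Then the square formed by fX, fY, pX, pY is cartesian: G_H(X × Y) is the fibre product of
G_H(X) and G_H(Y) over G/H. -/
theorem result (k : Type u) [Field k] [IsAlgClosed k] [CharZero k]
    (G H : Over (Spec (CommRingCat.of k))) [GrpObj G] [Smooth G.hom] [QuasiCompact G.hom]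
    [ConnectedSpace ↥G.left] [GrpObj H] (j : H ⟶ G) [IsMonHom j] [IsClosedImmersion j.left] [Smooth H.hom]
    (B : Over (Spec (CommRingCat.of k))) [LocallyOfFiniteType B.hom] [QuasiCompact B.hom] [IsSeparated B.hom] [IsReduced B.left]
    (r : AlgGrp.Action H G) (hr : ∀ (T : Over (Spec (CommRingCat.of k))) (h : T ⟶ H) (g : T ⟶ G),
      lift h g ≫ r.act = g * (h ≫ j)⁻¹)
    (π : G ⟶ B) (hπinv : GIT.IsInvariant r π)
    (hπ : (Function.Surjective π.left.base ∧ IsOpenMap π.left.base ∧
      Function.Surjective (GIT.PsiY r π hπinv).base ∧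
      (∀ U : B.left.Opens, Function.Injective (π.left.app U) ∧
        Set.range (π.left.app U) = {f | GIT.IsInvSection r π U f}) ∧
      IsIso (GIT.PsiY r π hπinv) ∧ Flat π.left))
    (X Y : Over (Spec (CommRingCat.of k))) [LocallyOfFiniteType X.hom] [QuasiCompact X.hom] [IsSeparated X.hom] [IsReduced X.left] [LocallyOfFiniteType Y.hom] [QuasiCompact Y.hom] [IsSeparated Y.hom] [IsReduced Y.left]
    (hFX : ∀ F : Finset ↥X.left, ∃ U : X.left.Opens, IsAffineOpen U ∧ (↑F : Set ↥X.left) ⊆ (U : Set ↥X.left))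
    (hFY : ∀ F : Finset ↥Y.left, ∃ U : Y.left.Opens, IsAffineOpen U ∧ (↑F : Set ↥Y.left) ⊆ (U : Set ↥Y.left))
    (aX : AlgGrp.Action H X) (aY : AlgGrp.Action H Y)
    (b : AlgGrp.Action H (G ⊗ X))
    (hb : ∀ (T : Over (Spec (CommRingCat.of k))) (h : T ⟶ H) (g : T ⟶ G) (x : T ⟶ X),
      lift h (lift g x) ≫ b.act = lift (g * (h ≫ j)⁻¹) (lift h x ≫ aX.act))
    (c : AlgGrp.Action H (G ⊗ Y))
    (hc : ∀ (T : Over (Spec (CommRingCat.of k))) (h : T ⟶ H) (g : T ⟶ G) (x : T ⟶ Y),
      lift h (lift g x) ≫ c.act = lift (g * (h ≫ j)⁻¹) (lift h x ≫ aY.act))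
    (d : AlgGrp.Action H (G ⊗ (X ⊗ Y)))
    (hd : ∀ (T : Over (Spec (CommRingCat.of k))) (h : T ⟶ H) (g : T ⟶ G) (x : T ⟶ X) (y : T ⟶ Y),
      lift h (lift g (lift x y)) ≫ d.act = lift (g * (h ≫ j)⁻¹) (lift (lift h x ≫ aX.act) (lift h y ≫ aY.act)))
    (QX QY QXY : Over (Spec (CommRingCat.of k))) [LocallyOfFiniteType QX.hom] [QuasiCompact QX.hom] [IsSeparated QX.hom] [IsReduced QX.left] [LocallyOfFiniteType QY.hom] [QuasiCompact QY.hom] [IsSeparated QY.hom] [IsReduced QY.left] [LocallyOfFiniteType QXY.hom] [QuasiCompact QXY.hom] [IsSeparated QXY.hom] [IsReduced QXY.left]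
    (qX : G ⊗ X ⟶ QX) (hqXinv : GIT.IsInvariant b qX) (hqX : (Function.Surjective qX.left.base ∧ IsOpenMap qX.left.base ∧
      Function.Surjective (GIT.PsiY b qX hqXinv).base ∧
      (∀ U : QX.left.Opens, Function.Injective (qX.left.app U) ∧
        Set.range (qX.left.app U) = {f | GIT.IsInvSection b qX U f}) ∧
      IsIso (GIT.PsiY b qX hqXinv) ∧ Flat qX.left))
    (qY : G ⊗ Y ⟶ QY) (hqYinv : GIT.IsInvariant c qY) (hqY : (Function.Surjective qY.left.base ∧ IsOpenMap qY.left.base ∧
      Function.Surjective (GIT.PsiY c qY hqYinv).base ∧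
      (∀ U : QY.left.Opens, Function.Injective (qY.left.app U) ∧
        Set.range (qY.left.app U) = {f | GIT.IsInvSection c qY U f}) ∧
      IsIso (GIT.PsiY c qY hqYinv) ∧ Flat qY.left))
    (qXY : G ⊗ (X ⊗ Y) ⟶ QXY) (hqXYinv : GIT.IsInvariant d qXY) (hqXY : (Function.Surjective qXY.left.base ∧ IsOpenMap qXY.left.base ∧
      Function.Surjective (GIT.PsiY d qXY hqXYinv).base ∧
      (∀ U : QXY.left.Opens, Function.Injective (qXY.left.app U) ∧
        Set.range (qXY.left.app U) = {f | GIT.IsInvSection d qXY U f}) ∧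
      IsIso (GIT.PsiY d qXY hqXYinv) ∧ Flat qXY.left))
    (pX : QX ⟶ B) (hpX : qX ≫ pX = fst G X ≫ π) (pY : QY ⟶ B) (hpY : qY ≫ pY = fst G Y ≫ π)
    (pXY : QXY ⟶ B) (hpXY : qXY ≫ pXY = fst G (X ⊗ Y) ≫ π)
    (fX : QXY ⟶ QX) (hfX : qXY ≫ fX = (G ◁ fst X Y) ≫ qX) (hfXp : fX ≫ pX = pXY)
    (fY : QXY ⟶ QY) (hfY : qXY ≫ fY = (G ◁ snd X Y) ≫ qY) (hfYp : fY ≫ pY = pXY) :
    IsPullback fX.left fY.left pX.left pY.left := by
  -- equivariance of the first projections
  have hfst : ∀ (Z : Over (Spec (CommRingCat.of k))) (aZ : AlgGrp.Action H Z)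
      (bZ : AlgGrp.Action H (G ⊗ Z))
      (hbZ : ∀ (T : Over (Spec (CommRingCat.of k))) (h : T ⟶ H) (g : T ⟶ G) (x : T ⟶ Z),
        CartesianMonoidalCategory.lift h (CartesianMonoidalCategory.lift g x) ≫ bZ.act =
          CartesianMonoidalCategory.lift (g * (h ≫ j)⁻¹)
            (CartesianMonoidalCategory.lift h x ≫ aZ.act)),
      bZ.act ≫ CartesianMonoidalCategory.fst G Z =
        (H ◁ CartesianMonoidalCategory.fst G Z) ≫ r.act := by
    intro Z aZ bZ hbZ
    have e0 : CartesianMonoidalCategory.lift (CartesianMonoidalCategory.fst H (G ⊗ Z))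
        (CartesianMonoidalCategory.lift
          (CartesianMonoidalCategory.snd H (G ⊗ Z) ≫ CartesianMonoidalCategory.fst G Z)
          (CartesianMonoidalCategory.snd H (G ⊗ Z) ≫ CartesianMonoidalCategory.snd G Z)) =
        𝟙 (H ⊗ (G ⊗ Z)) := by
      apply CartesianMonoidalCategory.hom_ext
      · simp
      · apply CartesianMonoidalCategory.hom_ext <;> simp
    have e1 := hbZ _ (CartesianMonoidalCategory.fst H (G ⊗ Z))
      (CartesianMonoidalCategory.snd H (G ⊗ Z) ≫ CartesianMonoidalCategory.fst G Z)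
      (CartesianMonoidalCategory.snd H (G ⊗ Z) ≫ CartesianMonoidalCategory.snd G Z)
    rw [e0, Category.id_comp] at e1
    have e2 := hr _ (CartesianMonoidalCategory.fst H (G ⊗ Z))
      (CartesianMonoidalCategory.snd H (G ⊗ Z) ≫ CartesianMonoidalCategory.fst G Z)
    have e3 : CartesianMonoidalCategory.lift (CartesianMonoidalCategory.fst H (G ⊗ Z))
        (CartesianMonoidalCategory.snd H (G ⊗ Z) ≫ CartesianMonoidalCategory.fst G Z) =
        H ◁ CartesianMonoidalCategory.fst G Z := by
      apply CartesianMonoidalCategory.hom_ext <;> simp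
    rw [e3] at e2
    rw [e2, e1, CartesianMonoidalCategory.lift_fst]
  have hbX := hfst X aX b hb
  have hcY := hfst Y aY c hc
  -- the universal point of H × (G × (X × Y))
  set h0 := CartesianMonoidalCategory.fst H (G ⊗ (X ⊗ Y)) with hh0
  set g0 := CartesianMonoidalCategory.snd H (G ⊗ (X ⊗ Y)) ≫
    CartesianMonoidalCategory.fst G (X ⊗ Y) with hg0
  set x0 := CartesianMonoidalCategory.snd H (G ⊗ (X ⊗ Y)) ≫
    CartesianMonoidalCategory.snd G (X ⊗ Y) ≫ CartesianMonoidalCategory.fst X Y with hx0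
  set y0 := CartesianMonoidalCategory.snd H (G ⊗ (X ⊗ Y)) ≫
    CartesianMonoidalCategory.snd G (X ⊗ Y) ≫ CartesianMonoidalCategory.snd X Y with hy0
  have e0 : CartesianMonoidalCategory.lift h0 (CartesianMonoidalCategory.lift g0
      (CartesianMonoidalCategory.lift x0 y0)) = 𝟙 (H ⊗ (G ⊗ (X ⊗ Y))) := by
    apply CartesianMonoidalCategory.hom_ext
    · simp [hh0]
    · apply CartesianMonoidalCategory.hom_ext
      · simp [hg0]
      · apply CartesianMonoidalCategory.hom_ext <;> simp [hx0, hy0]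
  have ed := hd _ h0 g0 x0 y0
  rw [e0, Category.id_comp] at ed
  have hdX : d.act ≫ (G ◁ CartesianMonoidalCategory.fst X Y) =
      (H ◁ (G ◁ CartesianMonoidalCategory.fst X Y)) ≫ b.act := by
    have e1 : H ◁ (G ◁ CartesianMonoidalCategory.fst X Y) =
        CartesianMonoidalCategory.lift h0 (CartesianMonoidalCategory.lift g0 x0) := by
      apply CartesianMonoidalCategory.hom_ext
      · simp [hh0]
      · apply CartesianMonoidalCategory.hom_ext <;> simp [hg0, hx0]
    rw [e1, hb, ed]
    apply CartesianMonoidalCategory.hom_ext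
    · simp
    · simp
  have hdY : d.act ≫ (G ◁ CartesianMonoidalCategory.snd X Y) =
      (H ◁ (G ◁ CartesianMonoidalCategory.snd X Y)) ≫ c.act := by
    have e1 : H ◁ (G ◁ CartesianMonoidalCategory.snd X Y) =
        CartesianMonoidalCategory.lift h0 (CartesianMonoidalCategory.lift g0 y0) := by
      apply CartesianMonoidalCategory.hom_ext
      · simp [hh0]
      · apply CartesianMonoidalCategory.hom_ext <;> simp [hg0, hy0]
    rw [e1, hc, ed]
    apply CartesianMonoidalCategory.hom_ext
    · simp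
    · simp
  -- quasi-compactness
  have qcProd : ∀ (A Z : Over (Spec (CommRingCat.of k))) [QuasiCompact A.hom] [QuasiCompact Z.hom],
      QuasiCompact (A ⊗ Z).hom := by
    intro A Z _ _
    have : (A ⊗ Z).hom = (CartesianMonoidalCategory.snd A Z).left ≫ Z.hom :=
      (Over.w (CartesianMonoidalCategory.snd A Z)).symm
    rw [this, Over.snd_left]
    infer_instance
  haveI : QuasiCompact (G ⊗ X).hom := qcProd G X
  haveI : QuasiCompact (G ⊗ Y).hom := qcProd G Y
  haveI : QuasiCompact (X ⊗ Y).hom := qcProd X Y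
  haveI : QuasiCompact (G ⊗ (X ⊗ Y)).hom := qcProd G (X ⊗ Y)
  haveI : QuasiCompact (qX.left ≫ QX.hom) := by rw [Over.w qX]; infer_instance
  haveI : QuasiCompact qX.left := QuasiCompact.of_comp qX.left QX.hom
  haveI : QuasiCompact (qY.left ≫ QY.hom) := by rw [Over.w qY]; infer_instance
  haveI : QuasiCompact qY.left := QuasiCompact.of_comp qY.left QY.hom
  haveI : QuasiCompact (qXY.left ≫ QXY.hom) := by rw [Over.w qXY]; infer_instance
  haveI : QuasiCompact qXY.left := QuasiCompact.of_comp qXY.left QXY.hom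
  haveI : QuasiCompact (π.left ≫ B.hom) := by rw [Over.w π]; infer_instance
  haveI : QuasiCompact π.left := QuasiCompact.of_comp π.left B.hom
  haveI : Flat qX.left := hqX.2.2.2.2.2
  haveI : Surjective qX.left := ⟨hqX.1⟩
  haveI : Flat qY.left := hqY.2.2.2.2.2
  haveI : Surjective qY.left := ⟨hqY.1⟩
  haveI : Flat qXY.left := hqXY.2.2.2.2.2
  haveI : Surjective qXY.left := ⟨hqXY.1⟩
  haveI : Flat π.left := hπ.2.2.2.2.2
  haveI : Surjective π.left := ⟨hπ.1⟩
  have main : IsPullback fX fY pX pY :=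
    Groth.Agent.Lib.Helper10.AssocBun.isPullback_prod r π hπinv hπ.2.2.2.2.1 b hbX c hcY d hdX hdY
      qX hqXinv hqX.2.2.2.2.1 qY hqYinv hqY.2.2.2.2.1 qXY hqXYinv hqXY.2.2.2.2.1
      pX hpX pY hpY fX hfX fY hfY (hfXp.trans hfYp.symm)
  exact main.map (Over.forget _)

end Groth.Agent.S14886
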