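import Groth.Statements.S14891
import Mathlib
-- import your own Groth.Agent.* helpers here

set_option autoImplicit false
universe u
open CAlg

namespace Groth.Agent.S14891

section helpers

variable {K L Γ₀ Γ₁ : Type u} [Field K] [Field L] [Algebra K L]
    [LinearOrderedCommGroupWithZero Γ₀] [LinearOrderedCommGroupWithZero Γ₁]
    (vK : Valuation K Γ₀) (vL : Valuation L Γ₁)

/-- a finite sum of nonzero elements with pairwise distinct valuations is nonzero -/
theorem sum_ne_zero_of_injOn {ι : Type*} (s : Finset ι) (f : ι → L) (hs : s.Nonempty)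
    (h0 : ∀ i ∈ s, f i ≠ 0) (hinj : Set.InjOn (fun i => vL (f i)) s) : ∑ i ∈ s, f i ≠ 0 := by
  classical
  obtain ⟨j, hj, hmax⟩ := s.exists_max_image (fun i => vL (f i)) hs
  have h1 : vL (∑ i ∈ s, f i) = vL (f j) := by
    apply Valuation.map_sum_eq_of_lt vL hj
    intro i hi
    rw [Finset.mem_sdiff, Finset.mem_singleton] at hi
    refine lt_of_le_of_ne (hmax i hi.1) ?_
    intro heq
    exact hi.2 (hinj hi.1 hj heq)
  intro hzero
  rw [hzero, map_zero] at h1
  exact h0 j hj ((map_eq_zero vL).mp h1.symm)

/-- the subgroup by which we quotient -/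
noncomputable def HH : Subgroup Lˣ :=
  vL.valuationSubring.unitGroup ⊔ (Units.map (algebraMap K L).toMonoidHom).range

theorem mem_HH_of_val_eq (u : Lˣ) (c : Kˣ) (h : vL (u : L) = vL (algebraMap K L c)) :
    u ∈ HH (K := K) vL := by
  have h1 : u = (u * (Units.map (algebraMap K L).toMonoidHom c)⁻¹) *
      (Units.map (algebraMap K L).toMonoidHom c) := by
    rw [inv_mul_cancel_right]
  rw [h1]
  refine Subgroup.mul_mem_sup ?_ ⟨c, rfl⟩
  rw [ValuationSubring.mem_unitGroup_iff,
    (Valuation.isEquiv_valuation_valuationSubring vL).eq_one_iff_eq_one.symm]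
  rw [Units.val_mul, map_mul, Units.val_inv_eq_inv_val, map_inv₀, Units.coe_map, h]
  simp only [RingHom.toMonoidHom_eq_coe, MonoidHom.coe_coe]
  exact mul_inv_cancel₀ ((Valuation.ne_zero_iff vL).mpr (by simp))

/-- the monomial unit -/
noncomputable def monU {I : Type*} (x : I → Lˣ) (d : I →₀ ℕ) : Lˣ := ∏ i ∈ d.support, x i ^ d i

theorem monU_val {I : Type*} (x : I → Lˣ) (d : I →₀ ℕ) :
    ((monU x d : Lˣ) : L) = ∏ i ∈ d.support, (x i : L) ^ d i := by
  unfold monU
  rw [Units.coe_prod]
  refine Finset.prod_congr rfl fun i _ => ?_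
  rw [Units.val_pow_eq_pow_val]

theorem mk_monU {I : Type*} (x : I → Lˣ) (d : I →₀ ℕ) :
    (QuotientAddGroup.mk (Additive.ofMul (monU x d)) :
      Additive Lˣ ⧸ (HH (K := K) vL).toAddSubgroup) =
    Finsupp.linearCombination ℕ (fun i => (QuotientAddGroup.mk (Additive.ofMul (x i)) :
      Additive Lˣ ⧸ (HH (K := K) vL).toAddSubgroup)) d := by
  unfold monU
  rw [ofMul_prod, ← QuotientAddGroup.mk'_apply, map_sum, Finsupp.linearCombination_apply,
    Finsupp.sum]
  refine Finset.sum_congr rfl fun i _ => ?_
  rw [ofMul_pow, map_nsmul]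
  rfl

/-- step B2 -/
theorem algInd_of_linInd {S : Type*} [CommRing S] [Algebra S L]
    (hinj : Function.Injective (algebraMap S L))
    (hS : ∀ s : S, s ≠ 0 → ∃ c : Kˣ, vL (algebraMap S L s) = vL (algebraMap K L c))
    {I : Type*} (x : I → Lˣ)
    (hx : LinearIndependent ℤ (fun i => (QuotientAddGroup.mk (Additive.ofMul (x i)) :
      Additive Lˣ ⧸ (HH (K := K) vL).toAddSubgroup))) :
    AlgebraicIndependent S (fun i => (x i : L)) := by
  classical
  have hxN : LinearIndependent ℕ (fun i => (QuotientAddGroup.mk (Additive.ofMul (x i)) :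
      Additive Lˣ ⧸ (HH (K := K) vL).toAddSubgroup)) :=
    hx.restrict_scalars (R := ℕ) (fun a b hab => by simpa using hab)
  rw [algebraicIndependent_iff]
  intro q hq
  by_contra hq0
  have hsupp : q.support.Nonempty := MvPolynomial.support_nonempty.mpr hq0
  rw [MvPolynomial.aeval_def, MvPolynomial.eval₂_eq] at hq
  refine sum_ne_zero_of_injOn vL q.support _ hsupp ?_ ?_ hq
  · intro d hd
    rw [← monU_val]
    refine mul_ne_zero ?_ (Units.ne_zero _)
    rw [Ne, ← map_zero (algebraMap S L), hinj.eq_iff]
    exact MvPolynomial.mem_support_iff.mp hd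
  · intro d hd d' hd' heq
    simp only at heq
    rw [← monU_val, ← monU_val, map_mul, map_mul] at heq
    obtain ⟨c, hc⟩ := hS _ (MvPolynomial.mem_support_iff.mp hd)
    obtain ⟨c', hc'⟩ := hS _ (MvPolynomial.mem_support_iff.mp hd')
    rw [hc, hc'] at heq
    have hmem : monU x d * (monU x d')⁻¹ ∈ HH (K := K) vL := by
      apply mem_HH_of_val_eq vL _ (c' * c⁻¹)
      rw [Units.val_mul, Units.val_inv_eq_inv_val, map_mul, map_inv₀, Units.val_mul,
        Units.val_inv_eq_inv_val, map_mul, map_mul, map_inv₀, map_inv₀]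
      have hc0 : vL (algebraMap K L c) ≠ 0 := (Valuation.ne_zero_iff vL).mpr (by simp)
      have hu0 : vL ((monU x d' : Lˣ) : L) ≠ 0 := (Valuation.ne_zero_iff vL).mpr (Units.ne_zero _)
      field_simp
      rw [mul_comm, heq, mul_comm]
    have hmk : (QuotientAddGroup.mk (Additive.ofMul (monU x d)) :
        Additive Lˣ ⧸ (HH (K := K) vL).toAddSubgroup) =
        QuotientAddGroup.mk (Additive.ofMul (monU x d')) := by
      rw [eq_comm, QuotientAddGroup.eq]
      change Additive.toMul (-(Additive.ofMul (monU x d')) + Additive.ofMul (monU x d)) ∈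
        HH (K := K) vL
      rw [toMul_add, toMul_neg, toMul_ofMul, toMul_ofMul, mul_comm]
      exact hmem
    rw [mk_monU, mk_monU] at hmk
    exact hxN hmk

section B1

open IsLocalRing

variable [vK.HasExtension vL]

theorem val_eq_one_of_residue_ne_zero (z : vL.valuationSubring)
    (hz : IsLocalRing.residue vL.valuationSubring z ≠ 0) : vL (z : L) = 1 := by
  have hunit : IsUnit z := by
    by_contra hnu
    exact hz ((IsLocalRing.residue_eq_zero_iff z).mpr ((IsLocalRing.mem_maximalIdeal z).mpr hnu))
  exact (Valuation.isEquiv_valuation_valuationSubring vL).eq_one_iff_eq_one.mpr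
    ((ValuationSubring.valuation_eq_one_iff _ z).mp hunit)

/-- the key valuation computation -/
theorem val_aeval_eq {J : Type*} (y₀ : J → vL.valuationSubring)
    (hy : AlgebraicIndependent (ResidueField vK.valuationSubring)
      (fun j => IsLocalRing.residue vL.valuationSubring (y₀ j)))
    (p : MvPolynomial J K) (hp : p ≠ 0) :
    ∃ c : Kˣ, vL (MvPolynomial.aeval (fun j => ((y₀ j : vL.valuationSubring) : L)) p) =
      vL (algebraMap K L c) := by
  classical
  obtain ⟨d₀, hd₀, hmax⟩ := p.support.exists_max_image (fun d => vK (MvPolynomial.coeff d p))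
    (MvPolynomial.support_nonempty.mpr hp)
  obtain ⟨c, hc⟩ : ∃ c, c = MvPolynomial.coeff d₀ p := ⟨_, rfl⟩
  have hc0 : c ≠ 0 := by rw [hc]; exact MvPolynomial.mem_support_iff.mp hd₀
  obtain ⟨p', hp'⟩ : ∃ p', p' = MvPolynomial.C c⁻¹ * p := ⟨_, rfl⟩
  have hcoeff : ∀ d, vK (MvPolynomial.coeff d p') ≤ 1 := by
    intro d
    rw [hp', MvPolynomial.coeff_C_mul, map_mul, map_inv₀]
    have hvc : vK c ≠ 0 := (Valuation.ne_zero_iff vK).mpr hc0
    rw [inv_mul_le_iff₀ (zero_lt_iff.mpr hvc), mul_one]
    by_cases hd : d ∈ p.support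
    · rw [hc]; exact hmax d hd
    · rw [MvPolynomial.notMem_support_iff.mp hd, map_zero]
      exact zero_le
  have h1 : (p'.coeffs : Set K) ⊆ Set.range (algebraMap vK.valuationSubring K) := by
    intro a ha
    rw [Finset.mem_coe, MvPolynomial.mem_coeffs_iff] at ha
    obtain ⟨d, -, rfl⟩ := ha
    exact ⟨⟨_, hcoeff d⟩, rfl⟩
  obtain ⟨p₀, hp₀⟩ := MvPolynomial.mem_range_map_iff_coeffs_subset.mpr h1
  have hp₀d : MvPolynomial.coeff d₀ p₀ = 1 := by
    apply Subtype.ext
    have := congrArg (MvPolynomial.coeff d₀) hp₀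
    rw [MvPolynomial.coeff_map, hp', MvPolynomial.coeff_C_mul, ← hc, inv_mul_cancel₀ hc0] at this
    exact this
  have hpeq : p = MvPolynomial.C c * p' := by
    rw [hp', ← mul_assoc, ← map_mul, mul_inv_cancel₀ hc0, map_one, one_mul]
  obtain ⟨z, hz⟩ : ∃ z : vL.valuationSubring, z = MvPolynomial.aeval y₀ p₀ := ⟨_, rfl⟩
  have haev : MvPolynomial.aeval (fun j => ((y₀ j : vL.valuationSubring) : L)) p' = (z : L) := by
    rw [← hp₀, MvPolynomial.aeval_map_algebraMap, hz]
    exact MvPolynomial.aeval_algebraMap_apply (R := vK.valuationSubring)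
      (A := vL.valuationSubring) (B := L) y₀ p₀
  have hres : IsLocalRing.residue vL.valuationSubring z =
      MvPolynomial.aeval (fun j => IsLocalRing.residue vL.valuationSubring (y₀ j))
        (MvPolynomial.map (IsLocalRing.residue vK.valuationSubring) p₀) := by
    rw [hz, MvPolynomial.map_aeval, MvPolynomial.aeval_def, MvPolynomial.eval₂_map]
    rfl
  have hne : MvPolynomial.map (IsLocalRing.residue vK.valuationSubring) p₀ ≠ 0 := by
    intro h0
    have := congrArg (MvPolynomial.coeff d₀) h0
    rw [MvPolynomial.coeff_map, hp₀d, map_one, MvPolynomial.coeff_zero] at this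
    exact one_ne_zero this
  have hzres : IsLocalRing.residue vL.valuationSubring z ≠ 0 := by
    rw [hres]
    intro h0
    exact hne ((algebraicIndependent_iff.mp hy) _ h0)
  refine ⟨Units.mk0 c hc0, ?_⟩
  rw [hpeq, map_mul, MvPolynomial.aeval_C, map_mul, haev,
    val_eq_one_of_residue_ne_zero vL z hzres, mul_one]
  rfl

theorem algInd_residue {J : Type*} (y₀ : J → vL.valuationSubring)
    (hy : AlgebraicIndependent (ResidueField vK.valuationSubring)
      (fun j => IsLocalRing.residue vL.valuationSubring (y₀ j))) :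
    AlgebraicIndependent K (fun j => ((y₀ j : vL.valuationSubring) : L)) := by
  rw [algebraicIndependent_iff]
  intro p hp
  by_contra hp0
  obtain ⟨c, hc⟩ := val_aeval_eq vK vL y₀ hy p hp0
  rw [hp, map_zero] at hc
  exact (Valuation.ne_zero_iff vL).mpr (by simp) hc.symm

theorem val_adjoin {J : Type*} (y₀ : J → vL.valuationSubring)
    (hy : AlgebraicIndependent (ResidueField vK.valuationSubring)
      (fun j => IsLocalRing.residue vL.valuationSubring (y₀ j)))
    (s : Algebra.adjoin K (Set.range (fun j => ((y₀ j : vL.valuationSubring) : L))))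
    (hs : s ≠ 0) :
    ∃ c : Kˣ, vL (algebraMap (Algebra.adjoin K
      (Set.range (fun j => ((y₀ j : vL.valuationSubring) : L)))) L s) = vL (algebraMap K L c) := by
  obtain ⟨s, hsmem⟩ := s
  rw [Algebra.adjoin_range_eq_range_aeval] at hsmem
  obtain ⟨p, rfl⟩ := hsmem
  have hp0 : p ≠ 0 := by
    rintro rfl
    apply hs
    apply Subtype.ext
    simp
  exact val_aeval_eq vK vL y₀ hy p hp0

/-- the combined family is algebraically independent -/
theorem algInd_sum {I J : Type*} (x : I → Lˣ)
    (hx : LinearIndependent ℤ (fun i => (QuotientAddGroup.mk (Additive.ofMul (x i)) :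
      Additive Lˣ ⧸ (HH (K := K) vL).toAddSubgroup)))
    (y₀ : J → vL.valuationSubring)
    (hy : AlgebraicIndependent (ResidueField vK.valuationSubring)
      (fun j => IsLocalRing.residue vL.valuationSubring (y₀ j))) :
    AlgebraicIndependent K
      (Sum.elim (fun i => ((x i : Lˣ) : L)) (fun j => ((y₀ j : vL.valuationSubring) : L))) := by
  apply (algInd_residue vK vL y₀ hy).sumElim
  apply algInd_of_linInd vL _ _ x hx
  · exact Subtype.val_injective
  · intro s hs
    exact val_adjoin vK vL y₀ hy s hs

end B1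

end helpers

/-- Let L/K be an extension of valued fields, i.e. v_L is a valuation on L whose restriction to K is
equivalent to v_K. Write E for the rational rank of the quotient of value groups |L^×|/|K^×| — here
the rank of the abelian group L^× modulo the subgroup generated by the units of the valuation ring
of v_L and the image of K^× — and F for the transcendence degree of the residue field of v_L over
that of v_K. Then E + F ≤ tr.deg(L/K) (an inequality of cardinals). -/
theorem result
    {K L Γ₀ Γ₁ : Type u} [Field K] [Field L] [Algebra K L]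
    [LinearOrderedCommGroupWithZero Γ₀] [LinearOrderedCommGroupWithZero Γ₁]
    (vK : Valuation K Γ₀) (vL : Valuation L Γ₁) [vK.HasExtension vL] :
    Module.rank ℤ (Additive Lˣ ⧸ Subgroup.toAddSubgroup
        (vL.valuationSubring.unitGroup ⊔ (Units.map (algebraMap K L).toMonoidHom).range)) +
      Algebra.trdeg (IsLocalRing.ResidueField vK.valuationSubring)
        (IsLocalRing.ResidueField vL.valuationSubring) ≤ Algebra.trdeg K L := by
  classical
  rw [Module.rank_def, Algebra.trdeg]
  rw [Cardinal.ciSup_add_ciSup _ Cardinal.bddAbove_of_small _ Cardinal.bddAbove_of_small]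
  refine ciSup_le' fun s => ciSup_le' fun t => ?_
  obtain ⟨s, hs⟩ := s
  obtain ⟨t, ht⟩ := t
  -- choose representatives
  have hxex : ∀ i : s, ∃ u : Lˣ, (QuotientAddGroup.mk (Additive.ofMul u) :
      Additive Lˣ ⧸ (HH (K := K) vL).toAddSubgroup) = i.1 := by
    intro i
    obtain ⟨a, ha⟩ := QuotientAddGroup.mk_surjective i.1
    exact ⟨Additive.toMul a, ha⟩
  choose x hx using hxex
  have hyex : ∀ j : t, ∃ z : vL.valuationSubring,
      IsLocalRing.residue vL.valuationSubring z = j.1 := fun j =>
    IsLocalRing.residue_surjective j.1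
  choose y₀ hy₀ using hyex
  have hlin : LinearIndependent ℤ (fun i : s => (QuotientAddGroup.mk (Additive.ofMul (x i)) :
      Additive Lˣ ⧸ (HH (K := K) vL).toAddSubgroup)) := by
    have : (fun i : s => (QuotientAddGroup.mk (Additive.ofMul (x i)) :
      Additive Lˣ ⧸ (HH (K := K) vL).toAddSubgroup)) = fun i : s => i.1 := funext hx
    rw [this]
    exact hs
  have halg : AlgebraicIndependent (IsLocalRing.ResidueField vK.valuationSubring)
      (fun j : t => IsLocalRing.residue vL.valuationSubring (y₀ j)) := by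
    have : (fun j : t => IsLocalRing.residue vL.valuationSubring (y₀ j)) = fun j : t => j.1 :=
      funext hy₀
    rw [this]
    exact ht
  have hfin := (algInd_sum vK vL x hlin y₀ halg).cardinalMk_le_trdeg
  rw [Cardinal.mk_sum, Cardinal.lift_id, Cardinal.lift_id] at hfin
  exact hfin

end Groth.Agent.S14891
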