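import Groth.Statements.S14896
import Mathlib

set_option autoImplicit false
universe u
open CAlg

namespace Groth.Agent.S14896

/-- In a ring with finite spectrum, a prime `P` has `f ∉ P` with `D(f)` contained in the
generizations of `P`. -/
lemma exists_basicOpen_le {B : Type*} [CommRing B] [Finite (PrimeSpectrum B)] (P : Ideal B)
    [P.IsPrime] : ∃ f : B, f ∉ P ∧ ∀ Q : Ideal B, Q.IsPrime → f ∉ Q → Q ≤ P := by
  classical
  haveI := Fintype.ofFinite (PrimeSpectrum B)
  have hch : ∀ Q : PrimeSpectrum B, ∃ g : B, g ∉ P ∧ (¬ Q.asIdeal ≤ P → g ∈ Q.asIdeal) := by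
    intro Q
    by_cases h : Q.asIdeal ≤ P
    · exact ⟨1, (Ideal.ne_top_iff_one P).mp (Ideal.IsPrime.ne_top'), fun h' => absurd h h'⟩
    · obtain ⟨g, hgQ, hgP⟩ := Set.not_subset.mp h
      exact ⟨g, hgP, fun _ => hgQ⟩
  choose g hg1 hg2 using hch
  refine ⟨∏ Q, g Q, ?_, ?_⟩
  · intro h
    obtain ⟨Q, -, hQ⟩ := (Ideal.IsPrime.prod_mem_iff).mp h
    exact hg1 Q hQ
  · intro Q hQ hf
    by_contra hle
    apply hf
    have h1 : g ⟨Q, hQ⟩ ∈ Q := hg2 ⟨Q, hQ⟩ hle
    exact Ideal.mem_of_dvd Q
      (Finset.dvd_prod_of_mem g (Finset.mem_univ (⟨Q, hQ⟩ : PrimeSpectrum B))) h1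

theorem etale_atPrime_of_finite_spectrum {A B L : Type u} [CommRing A] [CommRing B] [CommRing L]
    [Algebra A B] [Algebra B L] [Algebra A L] [IsScalarTower A B L] [Algebra.Etale A B]
    [Finite (PrimeSpectrum B)] (P : Ideal B) [P.IsPrime] [IsLocalization.AtPrime L P] :
    Algebra.Etale A L := by
  obtain ⟨f, hfP, hf⟩ := exists_basicOpen_le P
  let S' := Localization.Away f
  have hunits : ∀ r ∈ P.primeCompl, IsUnit (algebraMap B S' r) := by
    intro r hr
    by_contra hnu
    obtain ⟨m, hm, hrm⟩ := exists_max_ideal_of_mem_nonunits hnu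
    have hQ : (m.comap (algebraMap B S')).IsPrime := Ideal.IsPrime.comap _
    have hfQ : f ∉ m.comap (algebraMap B S') := by
      intro h
      have h1 : IsUnit (algebraMap B S' f) := IsLocalization.Away.algebraMap_isUnit f
      exact hm.ne_top (Ideal.eq_top_of_isUnit_mem _ h h1)
    exact hr (hf _ hQ hfQ hrm)
  have hle : Submonoid.powers f ≤ P.primeCompl := by
    rw [Submonoid.powers_le]
    exact hfP
  haveI : IsLocalization P.primeCompl S' :=
    IsLocalization.of_le (Submonoid.powers f) P.primeCompl hle hunits
  let e : S' ≃ₐ[B] L := IsLocalization.algEquiv P.primeCompl S' L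
  haveI : Algebra.Etale B L := Algebra.Etale.of_equiv e
  exact Algebra.Etale.comp A B L

/-- Let L/K be a finite extension of valued fields, v_L extending v_K, with K° = the valuation ring of
v_K having finite spectrum (finite height), and L° the valuation ring of v_L. If L° is local-étale
over K°, i.e. L° is the localization at a prime ideal of some étale K°-algebra B compatibly with the
K°-algebra structures, then L° is étale over K°. (For valued fields of finite height 'unramified' in
the local-étale sense is thus the same as K° → L° étale; the published lemma phrases the hypothesis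
as 'L/K unramified'.) -/
theorem result
    {K L Γ₀ Γ₁ : Type u} [Field K] [Field L] [Algebra K L] [FiniteDimensional K L]
    [LinearOrderedCommGroupWithZero Γ₀] [LinearOrderedCommGroupWithZero Γ₁]
    (vK : Valuation K Γ₀) (vL : Valuation L Γ₁) [vK.HasExtension vL]
    [Finite (PrimeSpectrum vK.valuationSubring)]
    (B : Type u) [CommRing B] [Algebra vK.valuationSubring B] [Algebra.Etale vK.valuationSubring B]
    [Algebra B vL.valuationSubring] [IsScalarTower vK.valuationSubring B vL.valuationSubring]
    (P : Ideal B) [P.IsPrime] [IsLocalization.AtPrime vL.valuationSubring P] :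
    Algebra.Etale vK.valuationSubring vL.valuationSubring := by
  haveI : Algebra.QuasiFinite vK.valuationSubring B := inferInstance
  haveI : Finite (PrimeSpectrum B) :=
    Algebra.QuasiFinite.finite_primeSpectrum (R := vK.valuationSubring) (S := B)
  exact etale_atPrime_of_finite_spectrum (A := vK.valuationSubring) (B := B)
    (L := vL.valuationSubring) P

end Groth.Agent.S14896
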