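import Groth.Statements.S1491
import Groth.Agent.Lib.Helper16.KzComp8

set_option autoImplicit false
universe u
attribute [local instance] HasDerivedCategory.standard
open FlatMor

namespace Groth.Agent.S1491

section helpers
attribute [local instance] HasDerivedCategory.standard
open FlatMor

open AlgebraicGeometry CategoryTheory Limits

theorem result_aux {X Y Z : Scheme.{u}} (f : X ⟶ Y) (g : Y ⟶ Z)
    (hf : (∀ (U : X.Opens) (V : Y.Opens) (hU : IsAffineOpen U) (hV : IsAffineOpen V) (hUV : U ≤ f ⁻¹ᵁ V),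
        letI := (f.appLE V U hUV).hom.toAlgebra
        LCI.IsLCI Γ(Y, V) Γ(X, U)))
    (hg : (∀ (U : Y.Opens) (V : Z.Opens) (hU : IsAffineOpen U) (hV : IsAffineOpen V) (hUV : U ≤ g ⁻¹ᵁ V),
        letI := (g.appLE V U hUV).hom.toAlgebra
        LCI.IsLCI Γ(Z, V) Γ(Y, U))) :
    (∀ (U : X.Opens) (V : Z.Opens) (hU : IsAffineOpen U) (hV : IsAffineOpen V) (hUV : U ≤ (f ≫ g) ⁻¹ᵁ V),
        letI := ((f ≫ g).appLE V U hUV).hom.toAlgebra
        LCI.IsLCI Γ(Z, V) Γ(X, U)) := by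
  intro U V hU hV hUV
  change Groth.Agent.Lib.Helper16.KzComp.IsLCIHom ((f ≫ g).appLE V U hUV).hom
  have key : ∀ x : U, ∃ r : Γ(X, U), (x : X) ∈ X.basicOpen r ∧
      Groth.Agent.Lib.Helper16.KzComp.IsLCIHom
        ((X.presheaf.map (homOfLE (X.basicOpen_le r)).op).hom.comp
          ((f ≫ g).appLE V U hUV).hom) := by
    intro x
    have hfx : f.base x ∈ g ⁻¹ᵁ V := hUV x.2
    obtain ⟨_, ⟨W, hW, rfl⟩, hxW, hWV⟩ :=
      Y.isBasis_affineOpens.exists_subset_of_mem_open hfx (g ⁻¹ᵁ V).isOpen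
    have hxW' : (x : X) ∈ f ⁻¹ᵁ W := hxW
    obtain ⟨r, hrle, hxr⟩ := hU.exists_basicOpen_le (V := f ⁻¹ᵁ W) ⟨x, hxW'⟩ x.2
    refine ⟨r, hxr, ?_⟩
    have h1 : Groth.Agent.Lib.Helper16.KzComp.IsLCIHom (g.appLE V W hWV).hom :=
      hg W V hW hV hWV
    have h2 : Groth.Agent.Lib.Helper16.KzComp.IsLCIHom (f.appLE W (X.basicOpen r) hrle).hom :=
      hf (X.basicOpen r) W (hU.basicOpen r) hW hrle
    have h3 := Groth.Agent.Lib.Helper16.KzComp.isLCIHom_comp _ _ h1 h2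
    have h4 : (f.appLE W (X.basicOpen r) hrle).hom.comp (g.appLE V W hWV).hom =
        (X.presheaf.map (homOfLE (X.basicOpen_le r)).op).hom.comp
          ((f ≫ g).appLE V U hUV).hom := by
      rw [← CommRingCat.hom_comp, ← CommRingCat.hom_comp, Scheme.Hom.appLE_comp_appLE,
        Scheme.Hom.appLE_map]
    rw [h4] at h3
    exact h3
  choose r hxr hr using key
  have hspan : Ideal.span (Set.range r) = ⊤ := by
    rw [← hU.self_le_iSup_basicOpen_iff]
    intro x hx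
    rw [TopologicalSpace.Opens.mem_iSup]
    exact ⟨⟨r ⟨x, hx⟩, ⟨⟨x, hx⟩, rfl⟩⟩, hxr ⟨x, hx⟩⟩
  obtain ⟨s, hs, hs'⟩ := (Ideal.span_eq_top_iff_finite _).mp hspan
  have hall : ∀ r₀ ∈ s, Groth.Agent.Lib.Helper16.KzComp.IsLCIHom
      ((X.presheaf.map (homOfLE (X.basicOpen_le r₀)).op).hom.comp
        ((f ≫ g).appLE V U hUV).hom) := by
    intro r₀ hr₀
    obtain ⟨x, rfl⟩ := hs hr₀
    exact hr x
  refine Groth.Agent.Lib.Helper16.KzComp.isLCIHom_of_away_cover _ s.card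
    (fun j => (s.equivFin.symm j : Γ(X, U))) ?_
    (fun j => Γ(X, X.basicOpen (s.equivFin.symm j : Γ(X, U))))
    (fun j => (X.presheaf.map (homOfLE (X.basicOpen_le (s.equivFin.symm j : Γ(X, U)))).op).hom)
    (fun j => hU.isLocalization_basicOpen _) (fun j => hall _ (s.equivFin.symm j).2)
  rw [eq_top_iff, ← hs']
  apply Ideal.span_mono
  intro y hy
  exact ⟨s.equivFin ⟨y, hy⟩, by simp⟩

end helpers

open AlgebraicGeometry CategoryTheory Limits in
/-- Let f : X → Y and g : Y → Z be local complete intersection morphisms, in the affine-local sense that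
all ring maps between affine opens are local complete intersection homomorphisms. Then f ≫ g is a
local complete intersection morphism. -/
theorem result {X Y Z : Scheme.{u}} (f : X ⟶ Y) (g : Y ⟶ Z)
    (hf : (∀ (U : X.Opens) (V : Y.Opens) (hU : IsAffineOpen U) (hV : IsAffineOpen V) (hUV : U ≤ f ⁻¹ᵁ V),
        letI := (f.appLE V U hUV).hom.toAlgebra
        LCI.IsLCI Γ(Y, V) Γ(X, U)))
    (hg : (∀ (U : Y.Opens) (V : Z.Opens) (hU : IsAffineOpen U) (hV : IsAffineOpen V) (hUV : U ≤ g ⁻¹ᵁ V),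
        letI := (g.appLE V U hUV).hom.toAlgebra
        LCI.IsLCI Γ(Z, V) Γ(Y, U))) :
    (∀ (U : X.Opens) (V : Z.Opens) (hU : IsAffineOpen U) (hV : IsAffineOpen V) (hUV : U ≤ (f ≫ g) ⁻¹ᵁ V),
        letI := ((f ≫ g).appLE V U hUV).hom.toAlgebra
        LCI.IsLCI Γ(Z, V) Γ(X, U)) := by
  exact result_aux f g hf hg

end Groth.Agent.S1491
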