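import Groth.Statements.S1493
import Groth.Agent.Lib.Helper16.KzReg2

set_option autoImplicit false
universe u
attribute [local instance] HasDerivedCategory.standard
open FlatMor

namespace Groth.Agent.S1493

section helpers
attribute [local instance] HasDerivedCategory.standard
open FlatMor

open AlgebraicGeometry CategoryTheory Limits

theorem result_aux {X Y : Scheme.{u}} (f : X ⟶ Y) [LocallyOfFiniteType f] [IsLocallyNoetherian X] [IsLocallyNoetherian Y]
    (hX : ∀ x : X, IsRegularLocalRing ↑(X.presheaf.stalk x)) (hY : ∀ y : Y, IsRegularLocalRing ↑(Y.presheaf.stalk y)) :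
    (∀ (U : X.Opens) (V : Y.Opens) (hU : IsAffineOpen U) (hV : IsAffineOpen V) (hUV : U ≤ f ⁻¹ᵁ V),
        letI := (f.appLE V U hUV).hom.toAlgebra
        LCI.IsLCI Γ(Y, V) Γ(X, U)) := by
  have hreg : ∀ (Z : Scheme.{u}) [IsLocallyNoetherian Z]
      (hZ : ∀ z : Z, IsRegularLocalRing ↑(Z.presheaf.stalk z)) (W : Z.Opens) (hW : IsAffineOpen W),
      IsRegularRing Γ(Z, W) := by
    intro Z _ hZ W hW
    have hN : IsNoetherianRing Γ(Z, W) :=
      AlgebraicGeometry.IsLocallyNoetherian.component_noetherian ⟨W, hW⟩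
    rw [isRegularRing_iff]
    intro p hp
    let _ : Algebra Γ(Z, W) (Z.presheaf.stalk (hW.fromSpec ⟨p, hp⟩)) :=
      TopCat.Presheaf.algebra_section_stalk Z.presheaf _
    have hloc : IsLocalization.AtPrime (Z.presheaf.stalk (hW.fromSpec ⟨p, hp⟩)) p :=
      hW.isLocalization_stalk' ⟨p, hp⟩ (hW.isoSpec.inv _).2
    have := hZ (hW.fromSpec ⟨p, hp⟩)
    exact IsRegularLocalRing.of_ringEquiv
      (IsLocalization.algEquiv p.primeCompl (Z.presheaf.stalk (hW.fromSpec ⟨p, hp⟩))
        (Localization.AtPrime p)).toRingEquiv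
  intro U V hU hV hUV
  have hA := hreg Y hY V hV
  have hB := hreg X hX U hU
  have hft : (f.appLE V U hUV).hom.FiniteType :=
    AlgebraicGeometry.LocallyOfFiniteType.finiteType_appLE f hV hU hUV
  let _ := (f.appLE V U hUV).hom.toAlgebra
  have hft' : Algebra.FiniteType Γ(Y, V) Γ(X, U) := hft
  exact Groth.Agent.Lib.Helper16.KzComp.isLCI_of_isRegularRing Γ(Y, V) Γ(X, U)

end helpers

open AlgebraicGeometry CategoryTheory Limits in
/-- Let f : X → Y be locally of finite type with X and Y regular (locally Noetherian with regular local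
rings). Then f is a local complete intersection morphism (affine-locally: local complete
intersection ring maps). -/
theorem result {X Y : Scheme.{u}} (f : X ⟶ Y) [LocallyOfFiniteType f] [IsLocallyNoetherian X] [IsLocallyNoetherian Y]
    (hX : ∀ x : X, IsRegularLocalRing ↑(X.presheaf.stalk x)) (hY : ∀ y : Y, IsRegularLocalRing ↑(Y.presheaf.stalk y)) :
    (∀ (U : X.Opens) (V : Y.Opens) (hU : IsAffineOpen U) (hV : IsAffineOpen V) (hUV : U ≤ f ⁻¹ᵁ V),
        letI := (f.appLE V U hUV).hom.toAlgebra
        LCI.IsLCI Γ(Y, V) Γ(X, U)) := by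
  exact result_aux f hX hY

end Groth.Agent.S1493
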