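import Groth.Statements.S14930
import Groth.Agent.Lib.Helper6.FrobUH
-- import your own Groth.Agent.* helpers here

set_option autoImplicit false
universe u
open CategoryTheory CategoryTheory.Limits AlgebraicGeometry
open Variety

namespace Groth.Agent.S14930

/-- Let p be a prime, S a scheme of characteristic p (p is zero in the structure sheaf) and f : X → S a
morphism of schemes. Then the relative Frobenius F_{X/S} : X → X^(p), where X^(p) = X ×_{S,F_S} S is
the base change of X along the absolute Frobenius of S and F_{X/S} is the morphism over S whose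
composite with the projection X^(p) → X is the absolute Frobenius of X, is a universal homeomorphism
(every base change of it is a homeomorphism), is integral, and induces a purely inseparable
extension of residue fields at every point of X. -/
theorem result (p : ℕ) [Fact p.Prime]
    {X S : Scheme.{u}} [FrobSch.IsCharP S p] (f : X ⟶ S) :
    FlatMor.IsUnivHomeo (FrobSch.relFrob f p) ∧ IsIntegralHom (FrobSch.relFrob f p) ∧
      ∀ x : X, ((FrobSch.relFrob f p).residueFieldMap x).hom.IsPurelyInseparable := by
  have : FrobSch.IsCharP X p := FrobSch.IsCharP.of_hom f p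
  have h1 : FlatMor.IsUnivHomeo (pullback.fst f (FrobSch.frob S p)) :=
    MorphismProperty.pullback_fst _ _ (Groth.Agent.Lib.Helper6.Perf.isUnivHomeo_frob S p)
  have h2 : FlatMor.IsUnivHomeo (FrobSch.relFrob f p ≫ pullback.fst f (FrobSch.frob S p)) := by
    rw [FrobSch.relFrob_fst]
    exact Groth.Agent.Lib.Helper6.Perf.isUnivHomeo_frob X p
  have h3 : FlatMor.IsUnivHomeo (FrobSch.relFrob f p) :=
    Groth.Agent.Lib.Helper12.IsUnivHomeo.of_comp_left h2 h1
  refine ⟨h3, Groth.Agent.Lib.Helper12.IsUnivHomeo.isIntegralHom h3, ?_⟩
  have h4 := Groth.Agent.Lib.Helper12.IsUnivHomeo.universallyInjective h3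
  have h5 := (tfae_universallyInjective (FrobSch.relFrob f p)).out 0 2
  exact (h5.mp h4).2

end Groth.Agent.S14930
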