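import Groth.Statements.S14955
import Mathlib
import Groth.Agent.Lib.Helper26.FibreSquareKer

set_option autoImplicit false
universe u
open TensorProduct
open EtAlg

namespace Groth.Agent.S14955

/-- Let B' = B ×_A A' be a fibre product of commutative rings with A' → A surjective. Then the square is
also a pushout of commutative rings: the canonical map B ⊗_{B'} A' → A is an isomorphism. -/
theorem result (B' B A' A : Type u) [CommRing B'] [CommRing B] [CommRing A'] [CommRing A]
    [Algebra B' B] [Algebra B' A'] [Algebra B A] [Algebra A' A] [Algebra B' A] [IsScalarTower B' B A] [IsScalarTower B' A' A]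
    (hsq : EtMil.IsFibreSquare B' B A' A) : Algebra.IsPushout B' B A' A := by
  have hsB : Function.Surjective (algebraMap B' B) :=
    Groth.Agent.Lib.Helper26.FibreSquareKer.surjective_algebraMap hsq
  have hsA : Function.Surjective (algebraMap A' A) := hsq.1
  constructor
  apply IsBaseChange.of_lift_unique
  intro Q _ _ _ _ g
  -- `g` kills the kernel of `A' → A`
  have hker : ∀ a' : A', algebraMap A' A a' = 0 → g a' = 0 := by
    intro a' ha'
    have hc : algebraMap B A 0 = algebraMap A' A a' := by rw [map_zero, ha']
    obtain ⟨b', ⟨hb1, hb2⟩, -⟩ := hsq.2 0 a' hc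
    have h1 : a' = b' • (1 : A') := by rw [Algebra.smul_def, mul_one, hb2]
    rw [h1, map_smul, ← IsScalarTower.algebraMap_smul B b' (g 1), hb1, zero_smul]
  have hwd : ∀ x y : A', algebraMap A' A x = algebraMap A' A y → g x = g y := by
    intro x y hxy
    have h0 := hker (x - y) (by rw [map_sub, hxy, sub_self])
    have hx : x = y + (x - y) := by ring
    rw [hx, map_add, h0, add_zero]
  let g0 : A → Q := fun a => g (hsA a).choose
  have hg0 : ∀ a' : A', g0 (algebraMap A' A a') = g a' := fun a' =>
    hwd _ _ (hsA (algebraMap A' A a')).choose_spec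
  refine ⟨{ toFun := g0, map_add' := ?_, map_smul' := ?_ }, ?_, ?_⟩
  · intro x y
    obtain ⟨x', rfl⟩ := hsA x
    obtain ⟨y', rfl⟩ := hsA y
    rw [← map_add, hg0, hg0, hg0, map_add]
  · intro b x
    obtain ⟨x', rfl⟩ := hsA x
    obtain ⟨b', rfl⟩ := hsB b
    have h1 : algebraMap B' B b' • algebraMap A' A x' = algebraMap A' A (b' • x') := by
      rw [Algebra.smul_def, ← IsScalarTower.algebraMap_apply B' B A,
        IsScalarTower.algebraMap_apply B' A' A, ← map_mul, ← Algebra.smul_def]
    rw [RingHom.id_apply, h1, hg0, hg0, map_smul, IsScalarTower.algebraMap_smul]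
  · ext a'
    exact hg0 a'
  · intro g' hg'
    ext a
    obtain ⟨a', rfl⟩ := hsA a
    have := congrArg (fun e => e a') hg'
    simp only [LinearMap.coe_comp, LinearMap.coe_restrictScalars, Function.comp_apply] at this
    change g' (algebraMap A' A a') = g0 (algebraMap A' A a')
    rw [hg0]
    exact this

end Groth.Agent.S14955
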