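import Groth.Statements.S1496
-- import your own Groth.Agent.* helpers here
import Groth.Agent.Lib.Helper29.PA4

set_option autoImplicit false
universe u
attribute [local instance] HasDerivedCategory.standard
open FlatMor

namespace Groth.Agent.S1496

open AlgebraicGeometry CategoryTheory Limits in
/-- Let S be a scheme carrying an ample invertible sheaf and f : X → S a morphism. Then f is a closed
immersion into some projective space over S (f factors as a closed immersion X → Pⁿ_S followed by
the projection Pⁿ_S → S, for some n) if and only if f is proper and X carries an ample invertible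
sheaf; and the latter holds if and only if f is proper and some O_X-module is ample relative to f. -/
theorem result {X S : Scheme.{u}} (hS : ∃ N : S.Modules, CohB1.IsAmple N) (f : X ⟶ S) :
    ((∃ (n : ℕ) (i : X ⟶ CohB1.ProjSpaceOver n S), IsClosedImmersion i ∧ i ≫ pullback.snd (CohB1.ProjSpace.toSpec n (ULift.{u} ℤ)) (specULiftZIsTerminal.from S) = f) ↔
      (IsProper f ∧ ∃ L : X.Modules, CohB1.IsAmple L)) ∧
    ((IsProper f ∧ ∃ L : X.Modules, CohB1.IsAmple L) ↔ (IsProper f ∧ ∃ L : X.Modules, RelAmple.IsRelAmple f L)) := by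
  refine ⟨⟨?_, ?_⟩, ⟨?_, ?_⟩⟩
  · rintro ⟨n, i, hi, hif⟩
    have hi' : IsClosedImmersion (show X ⟶ pullback (CohB1.ProjSpace.toSpec n (ULift.{u} ℤ))
      (specULiftZIsTerminal.from S) from i) := hi
    have hif' : (show X ⟶ pullback (CohB1.ProjSpace.toSpec n (ULift.{u} ℤ))
      (specULiftZIsTerminal.from S) from i) ≫
        pullback.snd (CohB1.ProjSpace.toSpec n (ULift.{u} ℤ)) (specULiftZIsTerminal.from S) = f :=
      hif
    refine ⟨?_, ?_⟩
    · rw [← hif']; infer_instance
    · exact Groth.Agent.Lib.Helper29.QCoh.exists_isAmple_of_immersion_projSpaceOver hS n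
        (show X ⟶ pullback (CohB1.ProjSpace.toSpec n (ULift.{u} ℤ))
          (specULiftZIsTerminal.from S) from i)
  · rintro ⟨hp, L, hL⟩
    obtain ⟨n, i, hi, hif⟩ :=
      Groth.Agent.Lib.Helper29.QCoh.exists_immersion_projSpaceOver_of_isAmple f hL
    refine ⟨n, i, ?_, hif⟩
    have hi' : IsImmersion (show X ⟶ pullback (CohB1.ProjSpace.toSpec n (ULift.{u} ℤ))
      (specULiftZIsTerminal.from S) from i) := hi
    have hif' : (show X ⟶ pullback (CohB1.ProjSpace.toSpec n (ULift.{u} ℤ))
      (specULiftZIsTerminal.from S) from i) ≫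
        pullback.snd (CohB1.ProjSpace.toSpec n (ULift.{u} ℤ)) (specULiftZIsTerminal.from S) = f :=
      hif
    haveI : IsProper ((show X ⟶ pullback (CohB1.ProjSpace.toSpec n (ULift.{u} ℤ))
      (specULiftZIsTerminal.from S) from i) ≫
        pullback.snd (CohB1.ProjSpace.toSpec n (ULift.{u} ℤ)) (specULiftZIsTerminal.from S)) := by
      rw [hif']; exact hp
    have hpi : IsProper (show X ⟶ pullback (CohB1.ProjSpace.toSpec n (ULift.{u} ℤ))
        (specULiftZIsTerminal.from S) from i) :=
      IsProper.of_comp _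
        (pullback.snd (CohB1.ProjSpace.toSpec n (ULift.{u} ℤ)) (specULiftZIsTerminal.from S))
    have hcl : IsClosed (Set.range (show X ⟶ pullback (CohB1.ProjSpace.toSpec n (ULift.{u} ℤ))
        (specULiftZIsTerminal.from S) from i).base) :=
      (show X ⟶ pullback (CohB1.ProjSpace.toSpec n (ULift.{u} ℤ))
        (specULiftZIsTerminal.from S) from i).isClosedMap.isClosed_range
    exact IsClosedImmersion.of_isPreimmersion (show X ⟶ pullback
      (CohB1.ProjSpace.toSpec n (ULift.{u} ℤ)) (specULiftZIsTerminal.from S) from i) hcl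
  · rintro ⟨hp, L, hL⟩
    exact ⟨hp, L, Groth.Agent.Lib.Helper29.QCoh.isRelAmple_of_isAmple f hL⟩
  · rintro ⟨hp, L, hL⟩
    obtain ⟨N, hN⟩ := hS
    obtain ⟨k, -, hk⟩ :=
      Groth.Agent.Lib.Helper29.QCoh.exists_isAmple_tensor_pullback_pow f hL hN
    exact ⟨hp, _, hk k le_rfl⟩

end Groth.Agent.S1496
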