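import Groth.Statements.S14966
import Mathlib

set_option autoImplicit false
universe u
open EtAlg

namespace Groth.Agent.S14966

theorem mem_conductor_iff (A A' : Type u) [CommRing A] [CommRing A'] [Algebra A A'] (a : A) :
    a ∈ Module.annihilator A (A' ⧸ LinearMap.range (Algebra.linearMap A A')) ↔
      ∀ x : A', ∃ y : A, algebraMap A A' y = algebraMap A A' a * x := by
  rw [Module.mem_annihilator]
  constructor
  · intro h x
    have := h (Submodule.Quotient.mk x)
    rw [← Submodule.Quotient.mk_smul, Submodule.Quotient.mk_eq_zero] at this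
    obtain ⟨y, hy⟩ := this
    exact ⟨y, by rw [← Algebra.smul_def]; exact hy⟩
  · intro h m
    obtain ⟨x, rfl⟩ := Submodule.Quotient.mk_surjective _ m
    rw [← Submodule.Quotient.mk_smul, Submodule.Quotient.mk_eq_zero]
    obtain ⟨y, hy⟩ := h x
    exact ⟨y, by rw [Algebra.smul_def]; exact hy⟩

theorem exists_of_mem_map (A A' : Type u) [CommRing A] [CommRing A'] [Algebra A A'] (x : A')
    (hx : x ∈ Ideal.map (algebraMap A A')
      (Module.annihilator A (A' ⧸ LinearMap.range (Algebra.linearMap A A')))) :
    ∃ i ∈ Module.annihilator A (A' ⧸ LinearMap.range (Algebra.linearMap A A')),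
      algebraMap A A' i = x := by
  unfold Ideal.map at hx
  induction hx using Submodule.span_induction with
  | mem x hx =>
    obtain ⟨i, hi, rfl⟩ := hx
    exact ⟨i, hi, rfl⟩
  | zero => exact ⟨0, Submodule.zero_mem _, map_zero _⟩
  | add x y _ _ hx hy =>
    obtain ⟨i, hi, rfl⟩ := hx
    obtain ⟨j, hj, rfl⟩ := hy
    exact ⟨i + j, Submodule.add_mem _ hi hj, map_add _ _ _⟩
  | smul a' x _ hx =>
    obtain ⟨i, hi, rfl⟩ := hx
    obtain ⟨y, hy⟩ := (mem_conductor_iff A A' i).mp hi a'
    refine ⟨y, ?_, by rw [hy, smul_eq_mul, mul_comm]⟩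
    rw [mem_conductor_iff]
    intro z
    obtain ⟨w, hw⟩ := (mem_conductor_iff A A' i).mp hi (a' * z)
    exact ⟨w, by rw [hw, hy, mul_assoc]⟩

/-- Let A → A' be an injective homomorphism of commutative rings and let I ⊆ A be the conductor, i.e.
the annihilator of the A-module A'/A. Then the conductor square formed by A → A/I, A → A', A/I →
A'/IA' and A' → A'/IA' is a fibre product square of rings with A' → A'/IA' surjective: A = A/I
×_{A'/IA'} A'. (The published Lemma is for the conductor square of a finite modification of schemes;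
this row is the underlying statement for one injective ring map, which needs no finiteness.) -/
theorem result (A A' : Type u) [CommRing A] [CommRing A'] [Algebra A A']
    (hinj : Function.Injective (algebraMap A A')) :
    EtMil.IsFibreSquare A (A ⧸ Module.annihilator A (A' ⧸ LinearMap.range (Algebra.linearMap A A'))) A'
      (A' ⧸ Ideal.map (algebraMap A A') (Module.annihilator A (A' ⧸ LinearMap.range (Algebra.linearMap A A')))) := by
  refine ⟨Ideal.Quotient.mk_surjective, ?_⟩
  intro b a' hba
  obtain ⟨a₀, rfl⟩ := Ideal.Quotient.mk_surjective b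
  have h1 : algebraMap A' (A' ⧸ Ideal.map (algebraMap A A')
      (Module.annihilator A (A' ⧸ LinearMap.range (Algebra.linearMap A A'))))
      (algebraMap A A' a₀ - a') = 0 := by
    rw [map_sub, ← hba, sub_eq_zero]
    rfl
  rw [Ideal.Quotient.algebraMap_eq, Ideal.Quotient.eq_zero_iff_mem] at h1
  obtain ⟨i, hi, hi'⟩ := exists_of_mem_map A A' _ h1
  refine ⟨a₀ - i, ⟨?_, ?_⟩, ?_⟩
  · rw [Ideal.Quotient.algebraMap_eq, map_sub, Ideal.Quotient.eq_zero_iff_mem.mpr hi, sub_zero]
  · rw [map_sub, hi']; ring
  · rintro y ⟨-, hy⟩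
    apply hinj
    rw [hy, map_sub, hi']; ring

end Groth.Agent.S14966
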