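import Groth.Statements.S1497
-- import your own Groth.Agent.* helpers here
import Groth.Agent.Lib.Helper29.PA4

set_option autoImplicit false
universe u
attribute [local instance] HasDerivedCategory.standard
open FlatMor

namespace Groth.Agent.S1497

open AlgebraicGeometry CategoryTheory Limits in
/-- Let S be a scheme with an ample invertible sheaf and f : X → S a morphism. Then f is a quasi-compact
immersion into some projective space P^n_S over S if and only if f is of finite type and X has an
ample invertible sheaf. -/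
theorem result {X S : Scheme.{u}} (hS : ∃ N : S.Modules, CohB1.IsAmple N) (f : X ⟶ S) :
    (∃ (n : ℕ) (i : X ⟶ CohB1.ProjSpaceOver n S), IsImmersion i ∧ QuasiCompact i ∧ i ≫ pullback.snd (CohB1.ProjSpace.toSpec n (ULift.{u} ℤ)) (specULiftZIsTerminal.from S) = f) ↔
      (LocallyOfFiniteType f ∧ QuasiCompact f ∧ ∃ L : X.Modules, CohB1.IsAmple L) := by
  constructor
  · rintro ⟨n, i, hi, hqc, hif⟩
    have hi' : IsImmersion (show X ⟶ pullback (CohB1.ProjSpace.toSpec n (ULift.{u} ℤ))
      (specULiftZIsTerminal.from S) from i) := hi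
    have hqc' : QuasiCompact (show X ⟶ pullback (CohB1.ProjSpace.toSpec n (ULift.{u} ℤ))
      (specULiftZIsTerminal.from S) from i) := hqc
    have hif' : (show X ⟶ pullback (CohB1.ProjSpace.toSpec n (ULift.{u} ℤ))
      (specULiftZIsTerminal.from S) from i) ≫
        pullback.snd (CohB1.ProjSpace.toSpec n (ULift.{u} ℤ)) (specULiftZIsTerminal.from S) = f :=
      hif
    refine ⟨?_, ?_, ?_⟩
    · rw [← hif']; infer_instance
    · rw [← hif']; infer_instance
    · exact Groth.Agent.Lib.Helper29.QCoh.exists_isAmple_of_immersion_projSpaceOver hS n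
        (show X ⟶ pullback (CohB1.ProjSpace.toSpec n (ULift.{u} ℤ))
          (specULiftZIsTerminal.from S) from i)
  · rintro ⟨hlft, hqc, L, hL⟩
    obtain ⟨n, i, hi, hif⟩ :=
      Groth.Agent.Lib.Helper29.QCoh.exists_immersion_projSpaceOver_of_isAmple f hL
    refine ⟨n, i, hi, ?_, hif⟩
    have hi' : X ⟶ pullback (CohB1.ProjSpace.toSpec n (ULift.{u} ℤ))
      (specULiftZIsTerminal.from S) := i
    have hif' : (show X ⟶ pullback (CohB1.ProjSpace.toSpec n (ULift.{u} ℤ))
      (specULiftZIsTerminal.from S) from i) ≫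
        pullback.snd (CohB1.ProjSpace.toSpec n (ULift.{u} ℤ)) (specULiftZIsTerminal.from S) = f :=
      hif
    haveI : QuasiCompact ((show X ⟶ pullback (CohB1.ProjSpace.toSpec n (ULift.{u} ℤ))
      (specULiftZIsTerminal.from S) from i) ≫
        pullback.snd (CohB1.ProjSpace.toSpec n (ULift.{u} ℤ)) (specULiftZIsTerminal.from S)) := by
      rw [hif']; exact hqc
    exact QuasiCompact.of_comp (show X ⟶ pullback (CohB1.ProjSpace.toSpec n (ULift.{u} ℤ))
      (specULiftZIsTerminal.from S) from i)
      (pullback.snd (CohB1.ProjSpace.toSpec n (ULift.{u} ℤ)) (specULiftZIsTerminal.from S))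

end Groth.Agent.S1497
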