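import Groth.Statements.S14980
import Groth.Agent.Lib.Helper7.Transit


set_option autoImplicit false
universe u
open CategoryTheory MonoidalCategory CartesianMonoidalCategory MonObj AlgebraicGeometry
open CoactBr

namespace Groth.Agent.S14980

/-- Let `R` be a commutative ring, `A` a commutative Hopf algebra over `R` which is finite locally free
as an `R`-module (`G = Spec A` a finite locally free group scheme over `S = Spec R`), `B` a
commutative `R`-algebra, flat over `R`, with a coaction of `A` that is an algebra map (an action of
`G` on `X = Spec B`) whose ring of invariants is `R` itself (the structure map `R → B^A` is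
bijective, so `S` is the quotient of `X` by `G`), and `K` an algebraically closed field over `R`, a
geometric point of `S`. For any two `K`-points `x₁, x₂ : B → K` of `X` (which lie over that
geometric point of `S`) there is a `K`-point `g` of `G` conjugating the inertia group scheme at `x₂`
onto the one at `x₁`: for every scheme `T` over `Spec K` and every `T`-point `k` of `G`, `k` fixes
the `T`-point of `X` induced by `x₁` if and only if `g⁻¹ k g` fixes the one induced by `x₂`. (The
published statement takes the points to be the canonical points of the primes of `B` over a prime of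
`B^A`, base-changed to an algebraic closure of its residue field; any two `K`-points with `K`
algebraically closed are treated here, which is what the argument gives; and `G` finite over `S` is
read as finite locally free, the standing flatness included.) -/
theorem result
    (R A B K : Type u) [CommRing R] [CommRing A] [HopfAlgebra R A]
    [Module.Flat R A] [Module.Finite R A] [Module.Projective R A]
    [CommRing B] [Algebra R B] [Module.Flat R B] [HopfRep.Comod R A B] [GLin.IsCoactAlg R A B]
    (hC : Function.Bijective (algebraMap R (GLin.invariants R A B)))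
    [Field K] [IsAlgClosed K] [Algebra R K] (x₁ x₂ : B →ₐ[R] K) :
    ∃ g : CoactBr.sp R K ⟶ CoactBr.sp R A,
      ∀ (T : Over (Spec (CommRingCat.of R))) (h : T ⟶ CoactBr.sp R K) (k : T ⟶ CoactBr.sp R A),
        lift k (h ≫ CoactBr.pt x₁) ≫ (CoactBr.action R A B).act = h ≫ CoactBr.pt x₁ ↔
          lift ((h ≫ g)⁻¹ * k * (h ≫ g)) (h ≫ CoactBr.pt x₂) ≫ (CoactBr.action R A B).act =
            h ≫ CoactBr.pt x₂ := by
  have hx : ∀ c ∈ GLin.invariants R A B, x₁ c = x₂ c := by
    intro c hc
    obtain ⟨r, hr⟩ := hC.2 ⟨c, hc⟩
    have hr' : algebraMap R B r = c := congrArg Subtype.val hr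
    rw [← hr', AlgHom.commutes, AlgHom.commutes]
  obtain ⟨gam, hgam⟩ := Groth.Agent.Lib.Helper7.Transit.exists_actP_eq x₁ x₂ hx
  refine ⟨CoactBr.pt gam, ?_⟩
  have e : CoactBr.pt x₂ = lift (CoactBr.pt x₁) (CoactBr.pt gam) ≫ CoactBr.ract R A B := by
    rw [CoactBr.lift_pt_ract, hgam]
  intro T h k
  set ζ := h ≫ CoactBr.pt x₁ with hζ
  set g' := h ≫ CoactBr.pt gam with hg'
  have e' : h ≫ CoactBr.pt x₂ = lift ζ g' ≫ CoactBr.ract R A B := by
    rw [e, ← Category.assoc, comp_lift]
  rw [e', CoactBr.lift_action_act, CoactBr.lift_action_act, CoactBr.lift_ract_ract]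
  have hgrp : g' * (g'⁻¹ * k * g')⁻¹ = k⁻¹ * g' := by group
  rw [hgrp]
  constructor
  · intro h1
    rw [← CoactBr.lift_ract_ract, h1]
  · intro h1
    have h2 := congrArg (fun z => lift z g'⁻¹ ≫ CoactBr.ract R A B) h1
    simp only [CoactBr.lift_ract_ract] at h2
    rw [_root_.mul_assoc, _root_.mul_inv_cancel, _root_.mul_one, CoactBr.lift_one_ract] at h2
    exact h2

end Groth.Agent.S14980
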