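import Groth.Statements.S14984
-- import your own Groth.Agent.* helpers here

set_option autoImplicit false
universe u v w
open HopfRep

namespace Groth.Agent.S14984

open TensorProduct in
theorem core (R : Type u) (A : Type v) (B : Type w)
    [CommRing R] [CommRing A] [HopfAlgebra R A]
    [CommRing B] [Algebra R B] [HopfRep.Comod R A B] [GLin.IsCoactAlg R A B]
    (C : Subalgebra R B)
    (hCinv : ∀ c : C, HopfRep.Comod.coact (k := R) (A := A) (c : B) = (c : B) ⊗ₜ[R] (1 : A))
    (β : TensorProduct R ↥C A →ₗ[↥C] TensorProduct R ↥C B)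
    (hβ : @Hoch.IsComodHom ↥C _ (TensorProduct R ↥C A) _ _ _
        (TensorProduct R ↥C A) _ _
        (HopfRep.Comod.regular ↥C (TensorProduct R ↥C A))
        (TensorProduct R ↥C B) _ _
        (CoactBr.Comod.baseChange R ↥C A B) β) (hβ1 : β 1 = 1) :
    ∃ α : A →ₗ[R] B, Hoch.IsComodHom A α ∧ α 1 = 1 := by
  -- multiplication `C ⊗ B → B`
  let m : C ⊗[R] B →ₐ[R] B := Algebra.TensorProduct.productMap C.val (AlgHom.id R B)
  have hm : ∀ (c : C) (b : B), m (c ⊗ₜ[R] b) = (c : B) * b := by
    intro c b
    simp [m]
  let α : A →ₗ[R] B := m.toLinearMap ∘ₗ (β.restrictScalars R) ∘ₗ (TensorProduct.mk R C A 1)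
  have hα : ∀ a, α a = m (β ((1 : C) ⊗ₜ[R] a)) := fun a => rfl
  -- the comparison map
  let M : (C ⊗[R] B) ⊗[C] (C ⊗[R] A) →ₗ[R] B ⊗[R] A :=
    (m.toLinearMap.rTensor A) ∘ₗ
      ((TensorProduct.AlgebraTensorModule.cancelBaseChange R C C (C ⊗[R] B) A).toLinearMap.restrictScalars R)
  have hM : ∀ (y : C ⊗[R] B) (c : C) (a : A), M (y ⊗ₜ[C] (c ⊗ₜ[R] a)) = m (c • y) ⊗ₜ[R] a := by
    intro y c a
    simp [M]
  refine ⟨α, ?_, ?_⟩
  · apply LinearMap.ext
    intro a
    simp only [LinearMap.comp_apply]
    -- comodule identity for β at `1 ⊗ a`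
    have h1 := LinearMap.congr_fun hβ ((1 : C) ⊗ₜ[R] a)
    simp only [LinearMap.comp_apply] at h1
    have h2 := congrArg M h1
    -- left side
    have hL : ∀ y : C ⊗[R] B, M ((CoactBr.Comod.baseChange R C A B).coact y) =
        HopfRep.Comod.coact (k := R) (A := A) (m y) := by
      intro y
      induction y using TensorProduct.induction_on with
      | zero => simp
      | add y z hy hz => simp only [map_add, hy, hz]
      | tmul c b =>
        rw [CoactBr.baseChange_coact_tmul, hm, GLin.IsCoactAlg.coact_mul (k := R) (A := A),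
          hCinv c]
        generalize HopfRep.Comod.coact (k := R) (A := A) b = z
        induction z using TensorProduct.induction_on with
        | zero => simp
        | add y z hy hz => simp only [TensorProduct.tmul_add, map_add, mul_add, hy, hz]
        | tmul b' a' =>
          simp only [TensorProduct.AlgebraTensorModule.tensorTensorTensorComm_tmul]
          rw [hM, TensorProduct.smul_tmul', smul_eq_mul, mul_one, hm,
            Algebra.TensorProduct.tmul_mul_tmul, one_mul]
    -- right side
    have hR : ∀ d : A ⊗[R] A,
        M ((β.rTensor (C ⊗[R] A))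
          (TensorProduct.AlgebraTensorModule.tensorTensorTensorComm R C R C C C A A
            (((1 : C) ⊗ₜ[C] (1 : C)) ⊗ₜ[R] d))) = α.rTensor A d := by
      intro d
      induction d using TensorProduct.induction_on with
      | zero => simp
      | add y z hy hz => simp only [TensorProduct.tmul_add, map_add, hy, hz]
      | tmul a₁ a₂ =>
        simp only [TensorProduct.AlgebraTensorModule.tensorTensorTensorComm_tmul,
          LinearMap.rTensor_tmul]
        rw [hM, one_smul, hα]
    rw [hL] at h2
    rw [hα a, h2]
    have h3 : Coalgebra.comul (R := C) ((1 : C) ⊗ₜ[R] a : C ⊗[R] A) =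
        TensorProduct.AlgebraTensorModule.tensorTensorTensorComm R C R C C C A A
            (((1 : C) ⊗ₜ[C] (1 : C)) ⊗ₜ[R] (Coalgebra.comul (R := R) a)) := by
      rw [TensorProduct.comul_tmul, CommSemiring.comul_apply]
    change M ((β.rTensor (C ⊗[R] A)) (Coalgebra.comul (R := C) ((1 : C) ⊗ₜ[R] a : C ⊗[R] A))) = _
    rw [h3, hR]
    rfl
  · rw [hα, ← Algebra.TensorProduct.one_def, hβ1, map_one]


/-- Let `R` be a commutative ring, `A` a commutative Hopf algebra over `R`, flat as an `R`-module, `B` a
commutative `R`-algebra with a coaction of `A` that is an algebra map (an action of `G = Spec A` on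
`X = Spec B`), and `C = B^A` the ring of invariants. If the action base-changed along `R → C` — the
`C`-Hopf algebra `C ⊗ A` coacting on `C ⊗ B` — is tame, i.e. there is a `C`-linear comodule map `β :
C ⊗ A → C ⊗ B` (regular coaction on the source, base-changed coaction on the target) with `β 1 = 1`,
then the original action is tame: there is an `R`-linear comodule map `α : A → B` with `α 1 = 1`.
(The converse is the case `S = C` of stability of tameness under base change. The published lemma
also lists, as a third equivalent condition, tameness of the action of `C ⊗ A` on `B` itself over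
`C`; that condition is not stated here.) -/
theorem result
    (R : Type u) (A : Type v) (B : Type w)
    [CommRing R] [CommRing A] [HopfAlgebra R A] [Module.Flat R A]
    [CommRing B] [Algebra R B] [HopfRep.Comod R A B] [GLin.IsCoactAlg R A B]
    (h : ∃ β : TensorProduct R ↥(GLin.invariants R A B) A →ₗ[↥(GLin.invariants R A B)]
        TensorProduct R ↥(GLin.invariants R A B) B,
      @Hoch.IsComodHom ↥(GLin.invariants R A B) _ (TensorProduct R ↥(GLin.invariants R A B) A) _ _ _
        (TensorProduct R ↥(GLin.invariants R A B) A) _ _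
        (HopfRep.Comod.regular ↥(GLin.invariants R A B) (TensorProduct R ↥(GLin.invariants R A B) A))
        (TensorProduct R ↥(GLin.invariants R A B) B) _ _
        (CoactBr.Comod.baseChange R ↥(GLin.invariants R A B) A B) β ∧ β 1 = 1) :
    ∃ α : A →ₗ[R] B, Hoch.IsComodHom A α ∧ α 1 = 1 := by
  obtain ⟨β, hβ, hβ1⟩ := h
  exact core R A B (GLin.invariants R A B) (fun c => (GLin.mem_invariants_iff R A B (c : B)).1 c.2) β hβ hβ1

end Groth.Agent.S14984
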