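import Groth.Statements.S14994
import Mathlib

set_option autoImplicit false
universe u
open CAlg

namespace Groth.Agent.S14994

section helpers

open nonZeroDivisors in
theorem exists_functional_ne_zero {A : Type u} [CommRing A] [IsDomain A] {Q : Type u}
    [AddCommGroup Q] [Module A Q] [Module.Finite A Q] (q : Q)
    (hq : q ∉ Submodule.torsion A Q) : ∃ μ : Q →ₗ[A] A, μ q ≠ 0 := by
  classical
  let K := FractionRing A
  let V := LocalizedModule A⁰ Q
  let f : Q →ₗ[A] V := LocalizedModule.mkLinearMap A⁰ Q
  have hfq : f q ≠ 0 := by
    intro h
    rw [IsLocalizedModule.eq_zero_iff A⁰] at h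
    obtain ⟨c, hc⟩ := h
    exact hq ((Submodule.mem_torsion_iff q).mpr ⟨c, hc⟩)
  have : ∃ φ : Module.Dual K V, φ (f q) ≠ 0 := by
    by_contra hcon
    push Not at hcon
    exact hfq ((Module.forall_dual_apply_eq_zero_iff K (f q)).mp hcon)
  obtain ⟨φ, hφ⟩ := this
  obtain ⟨s, hs⟩ := (Module.Finite.fg_top : (⊤ : Submodule A Q).FG)
  obtain ⟨b, hb⟩ := IsLocalization.exist_integer_multiples_of_finset A⁰ (s.image fun g => φ (f g))
  let ψ : Q →ₗ[A] K := (b : A) • ((φ.restrictScalars A).comp f)
  have hψ : ∀ x, ψ x ∈ LinearMap.range (Algebra.linearMap A K) := by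
    intro x
    have hx : x ∈ Submodule.span A (s : Set Q) := by rw [hs]; trivial
    induction hx using Submodule.span_induction with
    | mem g hg =>
      obtain ⟨a, ha⟩ := hb (φ (f g)) (Finset.mem_image_of_mem _ hg)
      exact ⟨a, ha⟩
    | zero => simp
    | add x y _ _ hx hy => rw [map_add]; exact Submodule.add_mem _ hx hy
    | smul a x _ hx => rw [map_smul]; exact Submodule.smul_mem _ _ hx
  have hinj : Function.Injective (Algebra.linearMap A K) := IsFractionRing.injective A K
  let e := LinearEquiv.ofInjective (Algebra.linearMap A K) hinj
  refine ⟨e.symm.toLinearMap.comp (ψ.codRestrict _ hψ), ?_⟩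
  intro h
  have h2 : (ψ.codRestrict _ hψ) q = 0 := by
    have := congrArg e h
    simpa using this
  have h3 : ψ q = 0 := by
    have := congrArg Subtype.val h2
    simpa using this
  have h4 : (b : A) • φ (f q) = 0 := h3
  rw [Algebra.smul_def, mul_eq_zero] at h4
  rcases h4 with h4 | h4
  · exact nonZeroDivisors.ne_zero b.2 (by simpa using h4)
  · exact hφ h4

end helpers

/-- Let A be a Noetherian integrally closed domain, M a finitely generated torsion-free A-module, N a
submodule of M and ι : M → M** the canonical map to the double dual. Write N** → M** for the double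
dual of the inclusion N → M. Then every m ∈ M whose image ι(m) lies in the image of N** is a torsion
element modulo N: some nonzero a ∈ A satisfies a·m ∈ N. In other words the preimage of N** under ι
is contained in the saturation of N in M (the preimage of the torsion submodule of M/N), and the two
coincide when M/N is torsion-free. (The published statement asserts equality of the preimage with
the saturation for every N; for N = xA inside M = A = k[x] the saturation is all of M while N** has
image xA = N under the identification M** = M, so only the inclusion stated here holds, and it is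
the inclusion later used, for saturated N, where the two sides agree.) -/
theorem result (A : Type u) [CommRing A] [IsDomain A]
    [IsNoetherianRing A] [IsIntegrallyClosed A]
    (M : Type u) [AddCommGroup M] [Module A M] [Module.Finite A M] [NoZeroSMulDivisors A M]
    (N : Submodule A M) :
    (LinearMap.range N.subtype.dualMap.dualMap).comap (Module.Dual.eval A M) ≤
      (Submodule.torsion A (M ⧸ N)).comap N.mkQ := by
  intro m hm
  rw [Submodule.mem_comap] at hm ⊢
  obtain ⟨ξ, hξ⟩ := hm
  by_contra hcon
  obtain ⟨μ, hμ⟩ := exists_functional_ne_zero (N.mkQ m) hcon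
  have h1 : N.subtype.dualMap.dualMap ξ (μ.comp N.mkQ) = 0 := by
    rw [LinearMap.dualMap_apply]
    have : N.subtype.dualMap (μ.comp N.mkQ) = 0 := by
      ext n
      have hn : (Submodule.Quotient.mk (n : M) : M ⧸ N) = 0 :=
        (Submodule.Quotient.mk_eq_zero N).mpr n.2
      simp [hn]
    rw [this, map_zero]
  rw [hξ] at h1
  exact hμ h1

end Groth.Agent.S14994
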