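import Groth.Statements.S14997
import Mathlib

set_option autoImplicit false
open HilbPol

namespace Groth.Agent.S14997


open Polynomial
theorem lex_le_iff_of_triangular {ℓ : ℕ} (u v u' v' : Fin ℓ → ℚ)
    (H : ∀ j : Fin ℓ, (∀ i < j, u i = v i) → u' j - v' j = u j - v j) :
    toLex u ≤ toLex v ↔ toLex u' ≤ toLex v' := by
  have hpre : ∀ j : Fin ℓ, (∀ i < j, u i = v i) ↔ (∀ i < j, u' i = v' i) := by
    intro j
    constructor
    · intro h i hi
      have h1 := H i (fun i' hi' => h i' (lt_trans hi' hi))
      rw [h i hi, sub_self] at h1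
      exact sub_eq_zero.mp h1
    · intro h
      have key : ∀ (m : ℕ) (i : Fin ℓ), i.val = m → i < j → u i = v i := by
        intro m
        induction m using Nat.strong_induction_on with
        | _ m ih =>
          intro i him hij
          have h1 := H i (fun i' hi' => ih i'.val (by rw [← him]; exact hi') i' rfl (lt_trans hi' hij))
          rw [h i hij, sub_self] at h1
          exact (sub_eq_zero.mp h1.symm)
      intro i hi
      exact key i.val i rfl hi
  have hlt : toLex u < toLex v ↔ toLex u' < toLex v' := by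
    constructor
    · rintro ⟨i, hi, hlt⟩
      refine ⟨i, (hpre i).mp hi, ?_⟩
      have h1 := H i hi
      show u' i < v' i
      have h2 : u i < v i := hlt
      linarith
    · rintro ⟨i, hi, hlt⟩
      have hi' := (hpre i).mpr hi
      refine ⟨i, hi', ?_⟩
      have h1 := H i hi'
      show u i < v i
      have h2 : u' i < v' i := hlt
      linarith
  have heq : toLex u = toLex v ↔ toLex u' = toLex v' := by
    rw [toLex_inj, toLex_inj]
    constructor
    · intro h
      funext j
      have h1 := H j (fun i _ => congrFun h i)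
      rw [congrFun h j, sub_self] at h1
      exact sub_eq_zero.mp h1
    · intro h
      funext j
      have hall : ∀ i < j, u i = v i := (hpre j).mpr (fun i _ => congrFun h i)
      have h1 := H j hall
      rw [congrFun h j, sub_self] at h1
      exact sub_eq_zero.mp h1.symm
  rw [le_iff_lt_or_eq, le_iff_lt_or_eq]
  exact or_congr hlt heq

open Polynomial in
theorem coeff_comp_sub (P : ℚ[X]) (a : ℚ) (d s : ℕ) (hd : P.natDegree ≤ d) :
    (P.comp (X - C a)).coeff s =
      ∑ i ∈ Finset.range (d + 1), (i.choose s : ℚ) * P.coeff i * (-a) ^ (i - s) := by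
  have h1 : P.comp (X - C a) = taylor (-a) P := by rw [taylor_apply, C_neg, sub_eq_add_neg]
  rw [h1, taylor_coeff, hasseDeriv_apply, eval_sum, sum_over_range' _ _ (d + 1) (by omega)]
  · apply Finset.sum_congr rfl
    intro i _
    rw [eval_monomial]
  · intro n
    simp

open Polynomial in
theorem factorial_mul_coeff_delta (P : ℚ[X]) (a : ℚ) (d s : ℕ) (hd : P.natDegree ≤ d)
    (hs : s ≤ d) :
    (P - P.comp (X - C a)).coeff s * (s.factorial : ℚ) =
      - ∑ i ∈ Finset.Ioc s d, (i.factorial : ℚ) * P.coeff i *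
        ((-a) ^ (i - s) / ((i - s).factorial : ℚ)) := by
  rw [coeff_sub, coeff_comp_sub P a d s hd]
  rw [← Finset.sum_range_add_sum_Ico _ (show s + 1 ≤ d + 1 by omega), Finset.sum_range_succ]
  have h0 : ∑ i ∈ Finset.range s, (i.choose s : ℚ) * P.coeff i * (-a) ^ (i - s) = 0 := by
    apply Finset.sum_eq_zero
    intro i hi
    rw [Nat.choose_eq_zero_of_lt (Finset.mem_range.mp hi), Nat.cast_zero, zero_mul, zero_mul]
  rw [h0, zero_add, Nat.choose_self, Nat.cast_one, one_mul, Nat.sub_self, pow_zero, mul_one]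
  have hIco : Finset.Ico (s + 1) (d + 1) = Finset.Ioc s d := by
    ext i
    simp only [Finset.mem_Ico, Finset.mem_Ioc]
    omega
  rw [hIco, sub_add_cancel_left, neg_mul, Finset.sum_mul]
  congr 1
  apply Finset.sum_congr rfl
  intro i hi
  have hsi : s ≤ i := (Finset.mem_Ioc.mp hi).1.le
  have hfac : ((i.choose s : ℕ) : ℚ) * (s.factorial : ℚ) * ((i - s).factorial : ℚ) = (i.factorial : ℚ) := by
    exact_mod_cast Nat.choose_mul_factorial_mul_factorial hsi
  have hne : ((i - s).factorial : ℚ) ≠ 0 := by exact_mod_cast (Nat.factorial_pos _).ne'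
  rw [← hfac]
  field_simp

open Polynomial in
/-- Let d and ℓ be natural numbers with ℓ + 1 ≤ d, let a be a nonzero rational number and let P, Q be
polynomials with rational coefficients, both of degree exactly d. For a polynomial R of degree e
write R(m) = Σ_i α_i(R) m^i / i! (so α_i(R) = i! · coeff_i(R)) and let r_ℓ(R) ∈ ℚ^ℓ be the vector
(α_{e−1}(R)/α_e(R), …, α_{e−ℓ}(R)/α_e(R)) of the ℓ coefficients after the leading one of the reduced
polynomial R/α_e(R), ordered lexicographically. The polynomials P(m) − P(m − a) and Q(m) − Q(m − a)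
have degree d − 1, and r_ℓ(P) ≤ r_ℓ(Q) lexicographically if and only if r_ℓ(P(m) − P(m − a)) ≤
r_ℓ(Q(m) − Q(m − a)) lexicographically (hence the same with strict inequalities, by exchanging P and
Q). When P and Q are the Hilbert polynomials of pure d-dimensional coherent sheaves E → F on a
polarized projective scheme and D is a hypersurface section of degree a containing no associated
point of E or F, the Hilbert polynomials of E|_D and F|_D are P(m) − P(m − a) and Q(m) − Q(m − a),
and the two sides are the comparisons of the ℓ-truncated reduced Hilbert polynomials p_ℓ(E) ≥ p_ℓ(F)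
and p_ℓ(E|_D) ≥ p_ℓ(F|_D). (The published statement is phrased for the sheaves; this row is the
statement about their Hilbert polynomials that the displayed coefficient formula yields.) -/
theorem result (d ℓ : ℕ) (hℓ : ℓ + 1 ≤ d) (a : ℚ) (ha : a ≠ 0)
    (P Q : ℚ[X]) (hP : P.natDegree = d) (hQ : Q.natDegree = d) (hP0 : P ≠ 0) (hQ0 : Q ≠ 0) :
    toLex (fun j : Fin ℓ => ((P).coeff (d - 1 - (j : ℕ)) * (Nat.factorial (d - 1 - (j : ℕ)) : ℚ)) / ((P).coeff (d) * (Nat.factorial (d) : ℚ))) ≤ toLex (fun j : Fin ℓ => ((Q).coeff (d - 1 - (j : ℕ)) * (Nat.factorial (d - 1 - (j : ℕ)) : ℚ)) / ((Q).coeff (d) * (Nat.factorial (d) : ℚ))) ↔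
      toLex (fun j : Fin ℓ => ((P - P.comp (X - C a)).coeff ((d - 1) - 1 - (j : ℕ)) * (Nat.factorial ((d - 1) - 1 - (j : ℕ)) : ℚ)) / ((P - P.comp (X - C a)).coeff ((d - 1)) * (Nat.factorial ((d - 1)) : ℚ))) ≤
        toLex (fun j : Fin ℓ => ((Q - Q.comp (X - C a)).coeff ((d - 1) - 1 - (j : ℕ)) * (Nat.factorial ((d - 1) - 1 - (j : ℕ)) : ℚ)) / ((Q - Q.comp (X - C a)).coeff ((d - 1)) * (Nat.factorial ((d - 1)) : ℚ))) := by

  classical
  have hpd : P.coeff d ≠ 0 := by
    rw [← hP]; exact Polynomial.leadingCoeff_ne_zero.mpr hP0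
  have hqd : Q.coeff d ≠ 0 := by
    rw [← hQ]; exact Polynomial.leadingCoeff_ne_zero.mpr hQ0
  have hd1 : 1 ≤ d := by omega
  have hdfac : (d.factorial : ℚ) ≠ 0 := by exact_mod_cast (Nat.factorial_pos _).ne'
  -- leading coefficient of the difference
  have hlead : ∀ R : Polynomial ℚ, R.natDegree = d →
      (R - R.comp (Polynomial.X - Polynomial.C a)).coeff (d - 1) * ((d - 1).factorial : ℚ) =
        a * ((d.factorial : ℚ) * R.coeff d) := by
    intro R hR
    rw [factorial_mul_coeff_delta R a d (d - 1) hR.le (by omega)]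
    have hI : Finset.Ioc (d - 1) d = {d} := by
      ext i
      simp only [Finset.mem_Ioc, Finset.mem_singleton]
      omega
    rw [hI, Finset.sum_singleton]
    have h1 : d - (d - 1) = 1 := by omega
    rw [h1, Nat.factorial_one, Nat.cast_one, pow_one, div_one]
    ring
  -- general formula
  have hform : ∀ R : Polynomial ℚ, R.natDegree = d → R.coeff d ≠ 0 → ∀ s : ℕ, s ≤ d →
      ((R - R.comp (Polynomial.X - Polynomial.C a)).coeff s * (s.factorial : ℚ)) /
        ((R - R.comp (Polynomial.X - Polynomial.C a)).coeff (d - 1) * ((d - 1).factorial : ℚ)) =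
      ∑ i ∈ Finset.Ioc s d, ((i.factorial : ℚ) * R.coeff i / ((d.factorial : ℚ) * R.coeff d)) *
        (- ((-a) ^ (i - s) / ((i - s).factorial : ℚ)) / a) := by
    intro R hR hRd s hs
    rw [hlead R hR, factorial_mul_coeff_delta R a d s hR.le hs, neg_div, Finset.sum_div,
      ← Finset.sum_neg_distrib]
    apply Finset.sum_congr rfl
    intro i _
    field_simp
  apply lex_le_iff_of_triangular
  intro j hj
  have hjl : (j : ℕ) < ℓ := j.2
  obtain ⟨s, hs⟩ : ∃ s, s = d - 1 - 1 - (j : ℕ) := ⟨_, rfl⟩
  have hs1 : d - 1 - (j : ℕ) = s + 1 := by omega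
  have hsd : s + 2 ≤ d := by omega
  rw [← hs, hs1, hform P hP hpd s (by omega), hform Q hQ hqd s (by omega), ← Finset.sum_sub_distrib]
  rw [Finset.sum_eq_single (s + 1)]
  · have h1 : s + 1 - s = 1 := by omega
    rw [h1, Nat.factorial_one, Nat.cast_one, pow_one, div_one]
    field_simp
  · intro i hi hne
    have hi' := Finset.mem_Ioc.mp hi
    rw [← sub_mul]
    rcases Nat.lt_or_ge i d with hlt | hge
    · -- use hypothesis at index d - 1 - i
      have hidx : d - 1 - i < (j : ℕ) := by omega
      have h2 := hj ⟨d - 1 - i, by omega⟩ hidx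
      simp only at h2
      have h3 : d - 1 - (d - 1 - i) = i := by omega
      rw [h3] at h2
      have h4 : (i.factorial : ℚ) * P.coeff i / ((d.factorial : ℚ) * P.coeff d) =
          (i.factorial : ℚ) * Q.coeff i / ((d.factorial : ℚ) * Q.coeff d) := by
        rw [mul_comm (i.factorial : ℚ), mul_comm (i.factorial : ℚ), mul_comm (d.factorial : ℚ),
          mul_comm (d.factorial : ℚ)]
        exact h2
      rw [h4, sub_self, zero_mul]
    · have hid : i = d := le_antisymm hi'.2 hge
      rw [hid]
      have h5 : ∀ c : ℚ, c ≠ 0 → (d.factorial : ℚ) * c / ((d.factorial : ℚ) * c) = 1 := by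
        intro c hc
        exact div_self (mul_ne_zero hdfac hc)
      rw [h5 _ hpd, h5 _ hqd, sub_self, zero_mul]
  · intro hnot
    exfalso
    apply hnot
    rw [Finset.mem_Ioc]
    omega

end Groth.Agent.S14997
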