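import Groth.Statements.S15004
import Mathlib

set_option autoImplicit false
universe u v
open Harb

namespace Groth.Agent.S15004

/-- Let C be a finite family of d curves, recorded as an incidence relation between a type of points and
a finite index type, such that any two distinct curves of the family meet in exactly h points; for a
point p write r_p for the number of curves of the family through p. Then for every curve C_i of the
family, Σ_{p ∈ C_i} (r_p − 1) = h (d − 1), the sum being finitely supported. (The published
statement is for a transversal arrangement of curves on a geometrically ruled surface with invariant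
e, all numerically equivalent to a C₀ + b f, where any two of the curves meet transversally in h =
2ab − a²e points; only this common pairwise intersection count enters the proof, and this row states
the identity for an abstract incidence relation.) -/
theorem result (P : Type u) (ι : Type v) [Fintype ι]
    (inc : P → ι → Prop) (h : ℕ)
    (hfin : ∀ i j : ι, i ≠ j → {p : P | inc p i ∧ inc p j}.Finite)
    (hcount : ∀ i j : ι, i ≠ j → {p : P | inc p i ∧ inc p j}.ncard = h) (i : ι) :
    ∑ᶠ p ∈ {p : P | inc p i}, (Nat.card {j : ι // inc p j} - 1) = h * (Fintype.card ι - 1) := by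
  classical
  set E : ι → Finset P := fun j => if hj : i ≠ j then (hfin i j hj).toFinset else ∅ with hEdef
  have hE : ∀ j, j ≠ i → ∀ p, p ∈ E j ↔ inc p i ∧ inc p j := by
    intro j hj p
    simp only [hEdef, dif_pos (Ne.symm hj), Set.Finite.mem_toFinset, Set.mem_setOf_eq]
  have hEcard : ∀ j, j ≠ i → (E j).card = h := by
    intro j hj
    rw [← hcount i j (Ne.symm hj), Set.ncard_eq_toFinset_card _ (hfin i j (Ne.symm hj))]
    simp only [hEdef, dif_pos (Ne.symm hj)]
  set T : Finset P := (Finset.univ.erase i).biUnion E with hTdef
  have hr : ∀ p, Nat.card {j : ι // inc p j} = (Finset.univ.filter (fun j => inc p j)).card := by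
    intro p
    rw [Nat.card_eq_fintype_card, Fintype.card_subtype]
  have hTi : ∀ p, p ∈ T → inc p i := by
    intro p hp
    simp only [hTdef, Finset.mem_biUnion, Finset.mem_erase, Finset.mem_univ, and_true] at hp
    obtain ⟨j, hj, hpj⟩ := hp
    exact ((hE j hj p).1 hpj).1
  -- for p on C_i, r_p - 1 counts the other curves through p
  have hr1 : ∀ p, inc p i → Nat.card {j : ι // inc p j} - 1 =
      ∑ j ∈ Finset.univ.erase i, (if p ∈ E j then 1 else 0) := by
    intro p hpi
    rw [hr p, ← Finset.card_erase_of_mem (a := i) (by simp [hpi]), ← Finset.filter_erase,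
      Finset.card_filter]
    apply Finset.sum_congr rfl
    intro j hj
    have hj' : j ≠ i := (Finset.mem_erase.1 hj).1
    simp only [hE j hj' p, hpi, true_and]
  rw [finsum_mem_eq_sum_of_inter_support_eq _ (t := T)]
  · rw [Finset.sum_congr rfl (fun p hp => hr1 p (hTi p hp)), Finset.sum_comm]
    have : ∀ j ∈ Finset.univ.erase i, ∑ p ∈ T, (if p ∈ E j then 1 else 0) = h := by
      intro j hj
      have hj' : j ≠ i := (Finset.mem_erase.1 hj).1
      rw [Finset.sum_ite_mem, Finset.inter_eq_right.2 (Finset.subset_biUnion_of_mem E hj)]
      simp [hEcard j hj']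
    rw [Finset.sum_congr rfl this]
    simp [mul_comm]
  · ext p
    simp only [Set.mem_inter_iff, Set.mem_setOf_eq, Function.mem_support, Finset.mem_coe]
    constructor
    · rintro ⟨hpi, hne⟩
      refine ⟨?_, hne⟩
      rw [hr1 p hpi] at hne
      obtain ⟨j, hj, hj2⟩ := Finset.exists_ne_zero_of_sum_ne_zero hne
      have : p ∈ E j := by
        by_contra h'
        simp [h'] at hj2
      exact Finset.mem_biUnion.2 ⟨j, hj, this⟩
    · rintro ⟨hpT, hne⟩
      exact ⟨hTi p hpT, hne⟩

end Groth.Agent.S15004
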