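import Groth.Statements.S15005
import Mathlib

set_option autoImplicit false
universe u v
open Harb

namespace Groth.Agent.S15005

/-- Let C be a finite family of d curves, recorded as an incidence relation between a type of points and
a finite index type, such that any two distinct curves of the family meet in exactly h points; let
t_k be the number of k-fold points (points lying on exactly k curves of the family). Then f₂ − f₁ =
Σ_{k ≥ 2} k(k − 1) t_k equals h d(d − 1), where f_i = Σ_{k ≥ 2} k^i t_k. (The published statement is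
for a transversal arrangement of curves on a geometrically ruled surface with invariant e, all
numerically equivalent to a C₀ + b f, where any two of the curves meet transversally in h = 2ab −
a²e points; only this common pairwise intersection count enters the proof, and this row states the
identity for an abstract incidence relation.) -/
theorem result (P : Type u) (ι : Type v) [Fintype ι]
    (inc : P → ι → Prop) (h : ℕ)
    (hfin : ∀ i j : ι, i ≠ j → {p : P | inc p i ∧ inc p j}.Finite)
    (hcount : ∀ i j : ι, i ≠ j → {p : P | inc p i ∧ inc p j}.ncard = h) :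
    ∑ k ∈ Finset.Icc 2 (Fintype.card ι), k * (k - 1) * Nat.card {p : P // Nat.card {j : ι // inc p j} = k} =
      h * (Fintype.card ι * (Fintype.card ι - 1)) := by
  classical
  set E : ι × ι → Finset P := fun x => if hx : x.1 ≠ x.2 then (hfin x.1 x.2 hx).toFinset else ∅
    with hEdef
  have hE : ∀ x : ι × ι, x.1 ≠ x.2 → ∀ p, p ∈ E x ↔ inc p x.1 ∧ inc p x.2 := by
    intro x hx p
    simp only [hEdef, dif_pos hx, Set.Finite.mem_toFinset, Set.mem_setOf_eq]
  have hEcard : ∀ x : ι × ι, x.1 ≠ x.2 → (E x).card = h := by
    intro x hx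
    rw [← hcount x.1 x.2 hx, Set.ncard_eq_toFinset_card _ (hfin x.1 x.2 hx)]
    simp only [hEdef, dif_pos hx]
  set D : Finset (ι × ι) := (Finset.univ : Finset ι).offDiag with hDdef
  have hD : ∀ x : ι × ι, x ∈ D ↔ x.1 ≠ x.2 := by
    intro x
    simp [hDdef, Finset.mem_offDiag]
  set T : Finset P := D.biUnion E with hTdef
  set r : P → ℕ := fun p => Nat.card {j : ι // inc p j} with hrdef
  have hr : ∀ p, r p = (Finset.univ.filter (fun j => inc p j)).card := by
    intro p
    simp only [hrdef]
    rw [Nat.card_eq_fintype_card, Fintype.card_subtype]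
  -- r p * (r p - 1) counts ordered pairs of distinct curves through p
  have hr2 : ∀ p, r p * (r p - 1) = ∑ x ∈ D, (if p ∈ E x then 1 else 0) := by
    intro p
    rw [hr p, Nat.mul_sub_one, ← Finset.offDiag_card, ← Finset.card_filter]
    congr 1
    ext x
    simp only [Finset.mem_offDiag, Finset.mem_filter, Finset.mem_univ, true_and, hDdef]
    constructor
    · rintro ⟨h1, h2, h3⟩
      exact ⟨h3, (hE x h3 p).2 ⟨h1, h2⟩⟩
    · rintro ⟨h3, h4⟩
      have := (hE x h3 p).1 h4
      exact ⟨this.1, this.2, h3⟩
  have hrle : ∀ p, r p ≤ Fintype.card ι := by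
    intro p
    rw [hr p]
    exact Finset.card_le_univ _
  -- points of multiplicity ≥ 2 lie in T
  have hT : ∀ p, 2 ≤ r p → p ∈ T := by
    intro p hp
    have : r p * (r p - 1) ≠ 0 := by
      have : 1 ≤ r p - 1 := by omega
      positivity
    rw [hr2 p] at this
    obtain ⟨x, hx, hx2⟩ := Finset.exists_ne_zero_of_sum_ne_zero this
    have : p ∈ E x := by
      by_contra h'
      simp [h'] at hx2
    exact Finset.mem_biUnion.2 ⟨x, hx, this⟩
  have hT2 : ∀ p, p ∈ T → 2 ≤ r p := by
    intro p hp
    obtain ⟨x, hx, hpx⟩ := Finset.mem_biUnion.1 hp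
    have hx' := (hD x).1 hx
    have := (hE x hx' p).1 hpx
    rw [hr p]
    have hsub : ({x.1, x.2} : Finset ι) ⊆ Finset.univ.filter (fun j => inc p j) := by
      intro j hj
      simp only [Finset.mem_insert, Finset.mem_singleton] at hj
      rcases hj with rfl | rfl
      · simp [this.1]
      · simp [this.2]
    calc 2 = ({x.1, x.2} : Finset ι).card := (Finset.card_pair hx').symm
      _ ≤ _ := Finset.card_le_card hsub
  have hcardk : ∀ k, 2 ≤ k → Nat.card {p : P // Nat.card {j : ι // inc p j} = k} =
      (T.filter (fun p => r p = k)).card := by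
    intro k hk
    rw [← Nat.card_eq_finsetCard]
    apply Nat.card_congr
    refine ⟨fun p => ⟨p.1, ?_⟩, fun p => ⟨p.1, ?_⟩, fun p => rfl, fun p => rfl⟩
    · rw [Finset.mem_filter]
      exact ⟨hT p.1 (by rw [hrdef]; simp only; rw [p.2]; exact hk), p.2⟩
    · exact (Finset.mem_filter.1 p.2).2
  have step1 : ∑ k ∈ Finset.Icc 2 (Fintype.card ι), k * (k - 1) * Nat.card {p : P // Nat.card {j : ι // inc p j} = k}
      = ∑ k ∈ Finset.Icc 2 (Fintype.card ι), ∑ p ∈ T with r p = k, k * (k - 1) := by
    apply Finset.sum_congr rfl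
    intro k hk
    rw [hcardk k (Finset.mem_Icc.1 hk).1, Finset.sum_const, smul_eq_mul, mul_comm]
  rw [step1, Finset.sum_fiberwise_of_maps_to' (g := r) (f := fun k => k * (k - 1))
    (fun p hp => Finset.mem_Icc.2 ⟨hT2 p hp, hrle p⟩)]
  rw [Finset.sum_congr rfl (fun p _ => hr2 p), Finset.sum_comm]
  have : ∀ x ∈ D, ∑ p ∈ T, (if p ∈ E x then 1 else 0) = h := by
    intro x hx
    rw [Finset.sum_ite_mem, Finset.inter_eq_right.2 (Finset.subset_biUnion_of_mem E hx)]
    simp [hEcard x ((hD x).1 hx)]
  rw [Finset.sum_congr rfl this]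
  simp only [Finset.sum_const, smul_eq_mul, hDdef, Finset.offDiag_card, Finset.card_univ]
  rw [Nat.mul_sub_one, mul_comm]

end Groth.Agent.S15005
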