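import Groth.Statements.S15006
import Mathlib
import Groth.Agent.Lib.Helper18.Incidence

set_option autoImplicit false
universe u v
open Harb

namespace Groth.Agent.S15006

/-- Let C be a finite family of d ≥ 2 curves, recorded as an incidence relation between a type of points
and a finite index type, such that any two distinct curves of the family meet in exactly h ≥ 1
points and no point lies on every curve of the family. Then f₀ ≥ d: the number of multiple points
(points lying on at least two of the curves) is at least the number of curves. (The published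
statement is for a transversal arrangement of d ≥ 4 curves on a geometrically ruled surface with
invariant e ≥ 4, all numerically equivalent to a C₀ + b f with a ≥ 1 and b ≥ ae and with no point
common to all of them, satisfying in addition either a ≥ 2, or a = 1 with some four of the curves
having no point in common, where any two of the curves meet transversally in h = 2ab − a²e ≥ 1
points; only d ≥ 2, h ≥ 1 and the absence of a common point enter the proof, and this row states the
bound for an abstract incidence relation.) -/
theorem result (P : Type u) (ι : Type v) [Fintype ι]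
    (inc : P → ι → Prop) (h : ℕ) (hh : 0 < h) (hd : 2 ≤ Fintype.card ι)
    (hfin : ∀ i j : ι, i ≠ j → {p : P | inc p i ∧ inc p j}.Finite)
    (hcount : ∀ i j : ι, i ≠ j → {p : P | inc p i ∧ inc p j}.ncard = h)
    (hnone : ∀ p : P, ∃ i : ι, ¬ inc p i) :
    Fintype.card ι ≤ Nat.card {p : P // 2 ≤ Nat.card {j : ι // inc p j}} := by
  classical
  obtain ⟨E, T, hE, hEcard, hT2, hT1, hET, hcardT⟩ :=
    Groth.Agent.Lib.Helper18.Incidence.exists_finsets inc h hfin hcount
  rw [hcardT]
  set a : ι → ℕ := fun j => (T.filter (fun p => inc p j)).card with hadef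
  -- every curve carries more than `h` multiple points
  have ha : ∀ j, h < a j := by
    intro j
    obtain ⟨k, hk⟩ := Fintype.exists_ne_of_one_lt_card (by omega) j
    have hsub : ∀ l, l ≠ j → E j l ⊆ T.filter (fun p => inc p j) := by
      intro l hl q hq
      exact Finset.mem_filter.2 ⟨hET j l hl.symm hq, ((hE j l hl.symm q).1 hq).1⟩
    by_contra hle
    push Not at hle
    have heq : ∀ l, l ≠ j → E j l = T.filter (fun p => inc p j) := fun l hl =>
      Finset.eq_of_subset_of_card_le (hsub l hl) (by rw [hEcard j l hl.symm]; exact hle)
    have hne : (E j k).Nonempty := Finset.card_pos.1 (by rw [hEcard j k hk.symm]; exact hh)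
    obtain ⟨p, hp⟩ := hne
    obtain ⟨l, hl⟩ := hnone p
    have hlj : l ≠ j := by rintro rfl; exact hl ((hE _ k hk.symm p).1 hp).1
    have : p ∈ E j l := by rw [heq l hlj, ← heq k hk]; exact hp
    exact hl ((hE j l hlj.symm p).1 this).2
  -- incidence vectors
  let v : ι → (↥T → ℚ) := fun i p => if inc p.1 i then 1 else 0
  have hmul : ∀ (x y : Prop) [Decidable x] [Decidable y],
      (if x then (1:ℚ) else 0) * (if y then (1:ℚ) else 0) = if x ∧ y then 1 else 0 := by
    intros; split_ifs <;> simp_all
  have hN : ∀ i j, ∑ p ∈ T, (if inc p i then (1:ℚ) else 0) * (if inc p j then (1:ℚ) else 0)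
      = if i = j then (a j : ℚ) else h := by
    intro i j
    simp_rw [hmul]
    rw [Finset.sum_boole]
    split_ifs with hij
    · subst hij
      simp only [and_self, hadef]
    · congr 1
      rw [← hEcard i j hij]
      congr 1
      ext p
      rw [Finset.mem_filter, hE i j hij p]
      exact ⟨fun hp => hp.2, fun hp => ⟨hET i j hij ((hE i j hij p).2 hp), hp⟩⟩
  have hli : LinearIndependent ℚ v := by
    rw [Fintype.linearIndependent_iff]
    intro g hg
    have hw : ∀ p ∈ T, ∑ i, g i * (if inc p i then (1:ℚ) else 0) = 0 := by
      intro p hp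
      have := congrFun hg ⟨p, hp⟩
      simpa [v, Finset.sum_apply] using this
    have hj : ∀ j, (h:ℚ) * ∑ i, g i + g j * ((a j : ℚ) - h) = 0 := by
      intro j
      have h0 : ∑ p ∈ T, (∑ i, g i * (if inc p i then (1:ℚ) else 0)) *
          (if inc p j then (1:ℚ) else 0) = 0 :=
        Finset.sum_eq_zero (fun p hp => by rw [hw p hp, zero_mul])
      rw [← h0]
      simp_rw [Finset.sum_mul]
      rw [Finset.sum_comm]
      simp_rw [mul_assoc, ← Finset.mul_sum, hN]
      have : ∀ i, g i * (if i = j then (a j:ℚ) else h) =
          h * g i + (if i = j then g j * ((a j : ℚ) - h) else 0) := by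
        intro i
        split_ifs with hij
        · subst hij; ring
        · ring
      simp_rw [this, Finset.sum_add_distrib, ← Finset.mul_sum]
      simp
    have hsum : (h:ℚ) * (∑ i, g i) ^ 2 + ∑ j, g j ^ 2 * ((a j : ℚ) - h) = 0 := by
      have h0 : ∑ j, g j * ((h:ℚ) * ∑ i, g i + g j * ((a j : ℚ) - h)) = 0 :=
        Finset.sum_eq_zero (fun j _ => by rw [hj j, mul_zero])
      rw [← h0]
      simp_rw [mul_add]
      rw [Finset.sum_add_distrib, ← Finset.sum_mul]
      congr 1
      · ring
      · apply Finset.sum_congr rfl
        intros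
        ring
    have hnn : ∀ j ∈ Finset.univ, 0 ≤ g j ^ 2 * ((a j : ℚ) - h) := fun j _ =>
      mul_nonneg (sq_nonneg _) (sub_nonneg.2 (by exact_mod_cast (ha j).le))
    have h0 : ∑ j, g j ^ 2 * ((a j : ℚ) - h) = 0 := by
      have h1 : 0 ≤ (h:ℚ) * (∑ i, g i) ^ 2 := by positivity
      have h2 := Finset.sum_nonneg hnn
      linarith
    intro j
    have := (Finset.sum_eq_zero_iff_of_nonneg hnn).1 h0 j (Finset.mem_univ j)
    have hpos : (0:ℚ) < (a j : ℚ) - h := sub_pos.2 (by exact_mod_cast ha j)
    rcases mul_eq_zero.1 this with h1 | h1
    · exact (pow_eq_zero_iff two_ne_zero).1 h1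
    · linarith
  have := hli.fintype_card_le_finrank
  rw [Module.finrank_fintype_fun_eq_card, Fintype.card_coe] at this
  exact this

end Groth.Agent.S15006
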