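import Groth.Statements.S15007
import Mathlib
import Groth.Agent.Lib.Helper18.Incidence

set_option autoImplicit false
universe u v
open Harb

namespace Groth.Agent.S15007

/-- Let C be a finite family of d ≥ 2 curves, recorded as an incidence relation between a type of points
and a finite index type, such that any two distinct curves of the family meet in exactly h ≥ 1
points and no point lies on every curve of the family. Then f₀ ≥ h + 2: the number of multiple
points (points lying on at least two of the curves) is at least h + 2. (The published claim reads f₀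
≥ 2ab − a²e + 2 for a transversal arrangement of d ≥ 4 curves on a geometrically ruled surface with
invariant e ≥ 4, all numerically equivalent to a C₀ + b f with a ≥ 1 and b ≥ ae and with no point
common to all of them, satisfying in addition either a ≥ 2, or a = 1 with some four of the curves
having no point in common, where any two of the curves meet transversally in h = 2ab − a²e ≥ 1
points; only d ≥ 2, h ≥ 1 and the absence of a common point enter the proof, and this row states the
bound for an abstract incidence relation.) -/
theorem result (P : Type u) (ι : Type v) [Fintype ι]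
    (inc : P → ι → Prop) (h : ℕ) (hh : 0 < h) (hd : 2 ≤ Fintype.card ι)
    (hfin : ∀ i j : ι, i ≠ j → {p : P | inc p i ∧ inc p j}.Finite)
    (hcount : ∀ i j : ι, i ≠ j → {p : P | inc p i ∧ inc p j}.ncard = h)
    (hnone : ∀ p : P, ∃ i : ι, ¬ inc p i) :
    h + 2 ≤ Nat.card {p : P // 2 ≤ Nat.card {j : ι // inc p j}} := by
  classical
  obtain ⟨E, T, hE, hEcard, hT2, hT1, hET, hcardT⟩ :=
    Groth.Agent.Lib.Helper18.Incidence.exists_finsets inc h hfin hcount
  rw [hcardT]
  obtain ⟨i, j, hij⟩ : ∃ i j : ι, i ≠ j := Fintype.exists_pair_of_one_lt_card (by omega)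
  have hne : (E i j).Nonempty := Finset.card_pos.1 (by rw [hEcard i j hij]; exact hh)
  obtain ⟨p, hp⟩ := hne
  obtain ⟨hpi, hpj⟩ := (hE i j hij p).1 hp
  obtain ⟨k, hpk⟩ := hnone p
  have hki : i ≠ k := by rintro rfl; exact hpk hpi
  have hkj : j ≠ k := by rintro rfl; exact hpk hpj
  have key : ∀ l : ι, (hl : l ≠ k) → inc p l → ∃ q, q ∈ E l k ∧ q ∉ E i j := by
    intro l hl hpl
    by_contra hcon
    push Not at hcon
    have hsub : E l k ⊆ (E i j).erase p := by
      intro q hq
      refine Finset.mem_erase.2 ⟨?_, hcon q hq⟩
      rintro rfl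
      exact hpk ((hE l k hl q).1 hq).2
    have := Finset.card_le_card hsub
    rw [hEcard l k hl, Finset.card_erase_of_mem hp, hEcard i j hij] at this
    omega
  obtain ⟨q, hq1, hq2⟩ := key i hki hpi
  obtain ⟨q', hq'1, hq'2⟩ := key j hkj hpj
  obtain ⟨hqi, hqk⟩ := (hE i k hki q).1 hq1
  obtain ⟨hq'j, hq'k⟩ := (hE j k hkj q').1 hq'1
  have hqj : ¬ inc q j := fun hqj => hq2 ((hE i j hij q).2 ⟨hqi, hqj⟩)
  have hq'i : ¬ inc q' i := fun hq'i => hq'2 ((hE i j hij q').2 ⟨hq'i, hq'j⟩)
  have hqq' : q ≠ q' := by rintro rfl; exact hq'i hqi
  have hsub : insert q (insert q' (E i j)) ⊆ T := by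
    intro x hx
    simp only [Finset.mem_insert] at hx
    rcases hx with rfl | rfl | hx
    · exact hET i k hki hq1
    · exact hET j k hkj hq'1
    · exact hET i j hij hx
  have hcard : (insert q (insert q' (E i j))).card = h + 2 := by
    rw [Finset.card_insert_of_notMem, Finset.card_insert_of_notMem hq'2, hEcard i j hij]
    simp only [Finset.mem_insert, not_or]
    exact ⟨hqq', hq2⟩
  rw [← hcard]
  exact Finset.card_le_card hsub

end Groth.Agent.S15007
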