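import Groth.Statements.S15008
import Groth.Agent.Lib.Helper16.CanId6

set_option autoImplicit false
universe u
open CategoryTheory
open TFCurv

namespace Groth.Agent.S15008

/-- Let O be a one-dimensional Noetherian local domain with algebraically closed residue field whose
integral closure O~ in its fraction field K is a finite O-module, and suppose O is not Gorenstein.
If w is an O-submodule of K with O ⊆ w ⊆ O~ whose injective dimension as an O-module is at most one
(a canonical ideal placed between O and O~), then length(w/O) + length(O~/C) = 2 · length(O~/O),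
where C is the conductor of O in O~. -/
theorem result (O : Type u) [CommRing O] [IsDomain O] [IsNoetherianRing O] [IsLocalRing O] (hdim : ringKrullDim O = 1) [IsAlgClosed (IsLocalRing.ResidueField O)] (K : Type u) [Field K] [Algebra O K] [IsFractionRing O K] (hfin : Module.Finite O ↥(integralClosure O K)) (hG : ¬ LocCoh.IsGorensteinLocalRing O) (ω : Submodule O K) (hω1 : (1 : Submodule O K) ≤ ω) (hω2 : ω ≤ (Subalgebra.toSubmodule (integralClosure O K))) (hωinj : HasInjectiveDimensionLT (ModuleCat.of O ↥ω) 2) : Module.length O (↥ω ⧸ Submodule.comap ω.subtype (1 : Submodule O K)) + Module.length O (↥(integralClosure O K) ⧸ ((1 : Submodule O K).colon (Subalgebra.toSubmodule (integralClosure O K))) • (⊤ : Submodule O ↥(integralClosure O K))) = 2 * Module.length O (↥(integralClosure O K) ⧸ Submodule.comap (Subalgebra.toSubmodule (integralClosure O K)).subtype (1 : Submodule O K)) := by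
  have hBfinT : Module.Finite O ↥(Subalgebra.toSubmodule (integralClosure O K)) :=
    Module.Finite.equiv (Subalgebra.toSubmoduleEquiv (integralClosure O K)).symm
  have hcan := Groth.Agent.Lib.Helper16.CanId.isCan_of ω
    (Subalgebra.toSubmodule (integralClosure O K)) hω1 hω2 hBfinT hωinj
  have hmul : ∀ x ∈ Subalgebra.toSubmodule (integralClosure O K),
      ∀ y ∈ Subalgebra.toSubmodule (integralClosure O K),
        x * y ∈ Subalgebra.toSubmodule (integralClosure O K) :=
    fun x hx y hy => (integralClosure O K).mul_mem hx hy
  have hone : (1 : K) ∈ Subalgebra.toSubmodule (integralClosure O K) :=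
    (integralClosure O K).one_mem
  have key := Groth.Agent.Lib.Helper16.CanId.main_length hdim ω
    (Subalgebra.toSubmodule (integralClosure O K)) hcan hω1 hω2 hmul hBfinT
  have h2 : Module.length O (↥(integralClosure O K) ⧸
      ((1 : Submodule O K).colon (Subalgebra.toSubmodule (integralClosure O K))) •
        (⊤ : Submodule O ↥(integralClosure O K))) =
      Groth.Agent.Lib.Helper16.CanId.relLen
        ((1 : Submodule O K) / Subalgebra.toSubmodule (integralClosure O K))
        (Subalgebra.toSubmodule (integralClosure O K)) := by
    rw [(Groth.Agent.Lib.Helper16.ExtRegQuot.quotSMulTopCongr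
      (Subalgebra.toSubmoduleEquiv (integralClosure O K)).symm
      ((1 : Submodule O K).colon (Subalgebra.toSubmodule (integralClosure O K)))).length_eq,
      Groth.Agent.Lib.Helper16.CanId.colon_smul_top_eq _ hone hmul]
    rfl
  rw [h2]
  exact key

end Groth.Agent.S15008
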