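import Groth.Statements.S15010
import Mathlib

set_option autoImplicit false
universe u
open TFCurv

namespace Groth.Agent.S15010
section Aux
variable {O : Type u} [CommRing O] [IsDomain O] {K : Type u} [Field K] [Algebra O K]
  [IsFractionRing O K] {n : ℕ}

lemma single_mem_pi_one (j : Fin n) :
    (Pi.single j (1 : K) : Fin n → K) ∈
      Submodule.pi Set.univ (fun _ : Fin n => (1 : Submodule O K)) := by
  rw [Submodule.mem_pi]
  intro i _
  by_cases h : i = j
  · subst h
    rw [Pi.single_eq_same]
    exact Submodule.one_le.mp le_rfl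
  · rw [Pi.single_eq_of_ne h]
    exact Submodule.zero_mem _

lemma map_eq_mulVec (M N : Submodule O (Fin n → K))
    (hM1 : Submodule.pi Set.univ (fun _ : Fin n => (1 : Submodule O K)) ≤ M)
    (ψ : ↥M →ₗ[O] ↥N) (x : ↥M) :
    ((ψ x : ↥N) : Fin n → K) =
      (Matrix.of fun i j => ((ψ ⟨Pi.single j 1, hM1 (single_mem_pi_one j)⟩ : ↥N) : Fin n → K) i).mulVec
        (x : Fin n → K) := by
  classical
  obtain ⟨b, hb⟩ := IsLocalization.exist_integer_multiples_of_finite (nonZeroDivisors O)
    (fun j => (x : Fin n → K) j)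
  choose c hc using hb
  have hbK : algebraMap O K (b : O) ≠ 0 :=
    IsFractionRing.to_map_ne_zero_of_mem_nonZeroDivisors b.2
  set em : Fin n → ↥M := fun j => ⟨Pi.single j 1, hM1 (single_mem_pi_one j)⟩ with hem
  have hbx : (b : O) • x = ∑ j, c j • em j := by
    apply Subtype.ext
    funext i
    rw [Submodule.coe_smul, Submodule.coe_sum, Pi.smul_apply, Finset.sum_apply]
    simp only [Submodule.coe_smul, Pi.smul_apply, hem]
    rw [Finset.sum_eq_single i]
    · rw [Pi.single_eq_same, ← Algebra.algebraMap_eq_smul_one, hc i]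
    · intro j _ hji
      rw [Pi.single_eq_of_ne (Ne.symm hji), smul_zero]
    · intro h; exact absurd (Finset.mem_univ i) h
  have h1 : (b : O) • ψ x = ∑ j, c j • ψ (em j) := by
    rw [← map_smul, hbx, map_sum]
    simp only [map_smul]
  funext i
  have h2 := congrFun (congrArg Subtype.val h1) i
  rw [Submodule.coe_smul, Submodule.coe_sum, Pi.smul_apply, Finset.sum_apply] at h2
  simp only [Submodule.coe_smul, Pi.smul_apply] at h2
  rw [Matrix.mulVec, dotProduct]
  simp only [Matrix.of_apply]
  apply mul_left_cancel₀ hbK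
  rw [← Algebra.smul_def, h2, Finset.mul_sum]
  apply Finset.sum_congr rfl
  intro j _
  rw [Algebra.smul_def, hc j, Algebra.smul_def]
  ring

end Aux


/-- Let O be a one-dimensional Noetherian local domain with algebraically closed residue field whose
integral closure O~ in its fraction field K is a finite O-module. If M and N are O-submodules of K^n
with O^n ⊆ M ⊆ O~^n and O^n ⊆ N ⊆ O~^n, then every O-linear isomorphism M → N is the restriction of
x ↦ A·x for an invertible n × n matrix A with entries in O~. -/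
theorem result (O : Type u) [CommRing O] [IsDomain O] [IsNoetherianRing O] [IsLocalRing O] (hdim : ringKrullDim O = 1) [IsAlgClosed (IsLocalRing.ResidueField O)] (K : Type u) [Field K] [Algebra O K] [IsFractionRing O K] (hfin : Module.Finite O ↥(integralClosure O K)) (n : ℕ) (M N : Submodule O (Fin n → K)) (hM1 : Submodule.pi Set.univ (fun _ : Fin n => (1 : Submodule O K)) ≤ M) (hM2 : M ≤ Submodule.pi Set.univ (fun _ : Fin n => (Subalgebra.toSubmodule (integralClosure O K)))) (hN1 : Submodule.pi Set.univ (fun _ : Fin n => (1 : Submodule O K)) ≤ N) (hN2 : N ≤ Submodule.pi Set.univ (fun _ : Fin n => (Subalgebra.toSubmodule (integralClosure O K)))) (φ : ↥M ≃ₗ[O] ↥N) : ∃ A : Matrix (Fin n) (Fin n) ↥(integralClosure O K), IsUnit A ∧ ∀ x : ↥M, ((φ x : ↥N) : Fin n → K) = (A.map (algebraMap ↥(integralClosure O K) K)).mulVec (x : Fin n → K) := by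
  classical
  set em : Fin n → ↥M := fun j => ⟨Pi.single j 1, hM1 (single_mem_pi_one j)⟩ with hem
  set en : Fin n → ↥N := fun j => ⟨Pi.single j 1, hN1 (single_mem_pi_one j)⟩ with hen
  have hNmem : ∀ (y : ↥N) (i : Fin n), (y : Fin n → K) i ∈ integralClosure O K := by
    intro y i
    have := hN2 y.2
    rw [Submodule.mem_pi] at this
    exact this i (Set.mem_univ _)
  have hMmem : ∀ (y : ↥M) (i : Fin n), (y : Fin n → K) i ∈ integralClosure O K := by
    intro y i
    have := hM2 y.2
    rw [Submodule.mem_pi] at this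
    exact this i (Set.mem_univ _)
  set A : Matrix (Fin n) (Fin n) ↥(integralClosure O K) :=
    Matrix.of fun i j => ⟨((φ (em j) : ↥N) : Fin n → K) i, hNmem _ i⟩ with hA
  set B : Matrix (Fin n) (Fin n) ↥(integralClosure O K) :=
    Matrix.of fun i j => ⟨((φ.symm (en j) : ↥M) : Fin n → K) i, hMmem _ i⟩ with hB
  have hAK : A.map (algebraMap ↥(integralClosure O K) K)
      = Matrix.of fun i j => ((φ.toLinearMap (em j) : ↥N) : Fin n → K) i := by
    ext i j; rfl
  have hBK : B.map (algebraMap ↥(integralClosure O K) K)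
      = Matrix.of fun i j => ((φ.symm.toLinearMap (en j) : ↥M) : Fin n → K) i := by
    ext i j; rfl
  have hφ : ∀ x : ↥M, ((φ x : ↥N) : Fin n → K)
      = (A.map (algebraMap ↥(integralClosure O K) K)).mulVec (x : Fin n → K) := by
    intro x
    rw [hAK]
    exact map_eq_mulVec M N hM1 φ.toLinearMap x
  have hψ : ∀ y : ↥N, ((φ.symm y : ↥M) : Fin n → K)
      = (B.map (algebraMap ↥(integralClosure O K) K)).mulVec (y : Fin n → K) := by
    intro y
    rw [hBK]
    exact map_eq_mulVec N M hN1 φ.symm.toLinearMap y
  refine ⟨A, ?_, hφ⟩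
  have hAB : A * B = 1 := by
    apply Matrix.map_injective (f := algebraMap ↥(integralClosure O K) K) Subtype.val_injective
    show (A * B).map (algebraMap ↥(integralClosure O K) K)
      = (1 : Matrix (Fin n) (Fin n) ↥(integralClosure O K)).map (algebraMap ↥(integralClosure O K) K)
    rw [Matrix.map_mul, Matrix.map_one _ (map_zero _) (map_one _)]
    ext i j
    have h1 := congrFun (hφ (φ.symm (en j))) i
    rw [LinearEquiv.apply_symm_apply] at h1
    rw [Matrix.mul_apply]
    rw [Matrix.mulVec, dotProduct] at h1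
    have h2 : ∀ k, ((φ.symm (en j) : ↥M) : Fin n → K) k
        = (B.map (algebraMap ↥(integralClosure O K) K)) k j := fun k => rfl
    simp only [h2] at h1
    rw [← h1]
    show (Pi.single j (1 : K) : Fin n → K) i = (1 : Matrix (Fin n) (Fin n) K) i j
    rw [Matrix.one_apply, Pi.single_apply]
  exact (Matrix.isUnit_iff_isUnit_det A).mpr (Matrix.isUnit_det_of_right_inverse hAB)

end Groth.Agent.S15010
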