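import Groth.Statements.S15013
import Mathlib

set_option autoImplicit false
universe u
open CategoryTheory
open TFCurv

namespace Groth.Agent.S15013



open TensorProduct in
theorem exists_injective_to_free (O : Type u) [CommRing O] [IsDomain O] (K : Type u) [Field K]
    [Algebra O K] [IsFractionRing O K] (M : Type u) [AddCommGroup M] [Module O M]
    [Module.Finite O M] [NoZeroSMulDivisors O M] :
    ∃ (s : ℕ) (f : M →ₗ[O] (Fin s → O)), Function.Injective f := by
  classical
  let V := K ⊗[O] M
  let b := Module.finBasis K V
  let ι₀ : M →ₗ[O] V := TensorProduct.mk O K M 1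
  have hι₀ : Function.Injective ι₀ := by
    rw [injective_iff_map_eq_zero]
    intro m hm
    obtain ⟨s, hs⟩ := (IsLocalizedModule.eq_zero_iff (nonZeroDivisors O) ι₀).mp hm
    rcases smul_eq_zero.mp hs with h | h
    · exact absurd h (nonZeroDivisors.coe_ne_zero s)
    · exact h
  obtain ⟨T, hT⟩ := (Module.Finite.fg_top : (⊤ : Submodule O M).FG)
  obtain ⟨d, hd⟩ := IsLocalization.exist_integer_multiples_of_finite (nonZeroDivisors O)
    (fun p : ↥T × Fin (Module.finrank K V) => b.repr (ι₀ p.1.1) p.2)
  have hint : ∀ (m : M) (j : Fin (Module.finrank K V)),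
      IsLocalization.IsInteger O ((d : O) • b.repr (ι₀ m) j) := by
    intro m j
    have hm : m ∈ Submodule.span O (T : Set M) := by rw [hT]; trivial
    induction hm using Submodule.span_induction with
    | mem x hx => exact hd (⟨x, hx⟩, j)
    | zero => simp only [map_zero, Finsupp.coe_zero, Pi.zero_apply, smul_zero]; exact IsLocalization.isInteger_zero
    | add x y _ _ hx hy =>
      rw [map_add, map_add, Finsupp.add_apply, smul_add]
      exact IsLocalization.isInteger_add hx hy
    | smul a x _ hx =>
      have e : (d : O) • b.repr (ι₀ (a • x)) j = a • ((d : O) • b.repr (ι₀ x) j) := by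
        rw [map_smul, ← algebraMap_smul K a (ι₀ x), map_smul, Finsupp.smul_apply, smul_eq_mul,
          Algebra.smul_def, Algebra.smul_def, Algebra.smul_def]
        ring
      rw [e]
      exact IsLocalization.isInteger_smul hx
  choose c hc using hint
  have hinj : Function.Injective (algebraMap O K) := IsFractionRing.injective O K
  refine ⟨Module.finrank K V,
    { toFun := fun m j => c m j
      map_add' := fun x y => by
        funext j
        apply hinj
        rw [Pi.add_apply, map_add, hc, hc, hc, map_add, map_add, Finsupp.add_apply, smul_add]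
      map_smul' := fun a x => by
        funext j
        apply hinj
        rw [Pi.smul_apply, smul_eq_mul, map_mul, RingHom.id_apply, hc, hc, map_smul,
          ← algebraMap_smul K a (ι₀ x), map_smul, Finsupp.smul_apply, smul_eq_mul,
          Algebra.smul_def, Algebra.smul_def]
        ring }, ?_⟩
  rw [injective_iff_map_eq_zero]
  intro m hm
  apply hι₀
  rw [map_zero]
  apply b.repr.injective
  ext j
  have h1 : c m j = 0 := congrFun hm j
  have h2 := hc m j
  rw [h1, map_zero, Algebra.smul_def] at h2
  have hd0 : algebraMap O K (d : O) ≠ 0 := by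
    intro h
    exact nonZeroDivisors.coe_ne_zero d (hinj (h.trans (map_zero _).symm))
  rw [map_zero, Finsupp.zero_apply]
  rcases mul_eq_zero.mp h2.symm with h | h
  · exact absurd h hd0
  · exact h

/-- Let O be a one-dimensional Noetherian local domain with algebraically closed residue field whose
integral closure O~ in its fraction field K is a finite O-module, and let w be a canonical ideal of
O, taken here as a nonzero finitely generated O-submodule of K whose injective dimension as an
O-module is at most one. Then Ext^i_O(M, w) vanishes for all i ≥ 1 and every finitely generated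
torsion-free O-module M. -/
theorem result (O : Type u) [CommRing O] [IsDomain O] [IsNoetherianRing O] [IsLocalRing O] (hdim : ringKrullDim O = 1) [IsAlgClosed (IsLocalRing.ResidueField O)] (K : Type u) [Field K] [Algebra O K] [IsFractionRing O K] (hfin : Module.Finite O ↥(integralClosure O K)) (ω : Submodule O K) (hω0 : ω ≠ ⊥) (hωfg : ω.FG) (hωinj : HasInjectiveDimensionLT (ModuleCat.of O ↥ω) 2) (M : Type u) [AddCommGroup M] [Module O M] [Module.Finite O M] [NoZeroSMulDivisors O M] (i : ℕ) (hi : 1 ≤ i) : Subsingleton (Abelian.Ext (ModuleCat.of O M) (ModuleCat.of O ↥ω) i) := by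

  classical
  by_cases hi2 : 2 ≤ i
  · exact HasInjectiveDimensionLT.subsingleton (ModuleCat.of O ↥ω) 2 i hi2 (ModuleCat.of O M)
  have hi1 : i = 1 := by omega
  subst hi1
  obtain ⟨s, f, hf⟩ := exists_injective_to_free O K M
  let S : ShortComplex (ModuleCat.{u} O) :=
    ShortComplex.mk (ModuleCat.ofHom f) (Limits.cokernel.π (ModuleCat.ofHom f)) (by simp)
  have hS : S.ShortExact := by
    refine ShortComplex.ShortExact.mk' (ShortComplex.exact_cokernel _) ?_ ?_
    · exact (ModuleCat.mono_iff_injective _).mpr hf
    · change Epi (Limits.cokernel.π (ModuleCat.ofHom f))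
      infer_instance
  refine subsingleton_of_forall_eq 0 (fun x₁ => ?_)
  haveI : Subsingleton (Abelian.Ext S.X₃ (ModuleCat.of O ↥ω) 2) :=
    HasInjectiveDimensionLT.subsingleton (ModuleCat.of O ↥ω) 2 2 le_rfl S.X₃
  obtain ⟨x₂, hx₂⟩ := Abelian.Ext.contravariant_sequence_exact₁ hS (ModuleCat.of O ↥ω)
    (n₀ := 1) x₁ (n₁ := 2) rfl (Subsingleton.elim _ _)
  haveI : Projective S.X₂ := by
    change Projective (ModuleCat.of O (Fin s → O))
    infer_instance
  rw [← hx₂, Abelian.Ext.eq_zero_of_projective x₂, Abelian.Ext.comp_zero]

end Groth.Agent.S15013
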