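import Groth.Statements.S15016
import Mathlib

set_option autoImplicit false
universe u
open TFCurv

namespace Groth.Agent.S15016

/-- Let k be an algebraically closed field and A ≠ k[[t]] a k-subalgebra of k[[t]] that is closed in the
t-adic topology and over which k[[t]] is a finite module (as for the complete local ring of a
unibranch curve singularity inside its normalisation), and let Γ ⊆ ℕ be the set of t-orders of the
nonzero elements of A (its value semigroup); let c be the conductor of Γ, so that every n ≥ c lies
in Γ and c − 1 does not. Then for a power series f, f · k[[t]] ⊆ A holds exactly when the order of f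
is at least c: the conductor of A in k[[t]] is t^c · k[[t]], of codimension c. -/
theorem result (k : Type u) [Field k] [IsAlgClosed k] (A : Subalgebra k (PowerSeries k)) (hA : Module.Finite ↥A (PowerSeries k)) (hcl : ∀ f : PowerSeries k, (∀ n : ℕ, ∃ g ∈ A, (n : ℕ∞) ≤ PowerSeries.order (f - g)) → f ∈ A) (hsing : A ≠ ⊤) (Γ : Set ℕ) (hΓ : ∀ n : ℕ, n ∈ Γ ↔ ∃ f ∈ A, PowerSeries.order f = n) (c : ℕ) (hc : ∀ n : ℕ, c ≤ n → n ∈ Γ) (hc0 : c ≠ 0) (hc1 : c - 1 ∉ Γ) (f : PowerSeries k) : (∀ g : PowerSeries k, g * f ∈ A) ↔ (c : ℕ∞) ≤ PowerSeries.order f := by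
  classical
  -- every power series of order ≥ c lies in A
  have hbig : ∀ F : PowerSeries k, (c : ℕ∞) ≤ PowerSeries.order F → F ∈ A := by
    intro F hF
    apply hcl
    have key : ∀ n : ℕ, ∃ g ∈ A, ((c + n : ℕ) : ℕ∞) ≤ PowerSeries.order (F - g) := by
      intro n
      induction n with
      | zero => exact ⟨0, A.zero_mem, by simpa using hF⟩
      | succ n ih =>
        obtain ⟨g, hgA, hg⟩ := ih
        obtain ⟨u, huA, hu⟩ := (hΓ (c + n)).1 (hc _ (Nat.le_add_right c n))
        have hu0 : u ≠ 0 := by
          rintro rfl
          rw [PowerSeries.order_zero] at hu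
          exact ENat.top_ne_coe _ hu
        have hb : PowerSeries.coeff (c + n) u ≠ 0 := by
          have := PowerSeries.coeff_order hu0
          rwa [hu, ENat.toNat_natCast] at this
        refine ⟨g + (PowerSeries.coeff (c + n) (F - g) / PowerSeries.coeff (c + n) u) • u,
          A.add_mem hgA (A.smul_mem huA _), ?_⟩
        rw [show c + (n + 1) = (c + n) + 1 by ring]
        apply PowerSeries.nat_le_order
        intro i hi
        rcases Nat.lt_succ_iff_lt_or_eq.1 hi with hlt | heq
        · have h1 : PowerSeries.coeff i (F - g) = 0 :=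
            PowerSeries.coeff_of_lt_order i (lt_of_lt_of_le (by exact_mod_cast hlt) hg)
          have h2 : PowerSeries.coeff i u = 0 :=
            PowerSeries.coeff_of_lt_order i (by rw [hu]; exact_mod_cast hlt)
          have : F - (g + (PowerSeries.coeff (c + n) (F - g) / PowerSeries.coeff (c + n) u) • u)
              = (F - g) - (PowerSeries.coeff (c + n) (F - g) / PowerSeries.coeff (c + n) u) • u := by
            ring
          rw [this, map_sub, h1, PowerSeries.coeff_smul, h2]
          simp
        · subst heq
          have : F - (g + (PowerSeries.coeff (c + n) (F - g) / PowerSeries.coeff (c + n) u) • u)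
              = (F - g) - (PowerSeries.coeff (c + n) (F - g) / PowerSeries.coeff (c + n) u) • u := by
            ring
          rw [this, map_sub, PowerSeries.coeff_smul, smul_eq_mul, div_mul_cancel₀ _ hb, sub_self]
    intro n
    obtain ⟨g, hgA, hg⟩ := key n
    exact ⟨g, hgA, le_trans (by exact_mod_cast Nat.le_add_left n c) hg⟩
  constructor
  · intro hall
    by_contra hlt
    push Not at hlt
    have hf0 : f ≠ 0 := by
      rintro rfl
      simp at hlt
    have hm : (f.order.toNat : ℕ∞) = f.order := PowerSeries.coe_toNat_order hf0
    have hmc : f.order.toNat < c := by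
      rw [← hm] at hlt
      exact_mod_cast hlt
    have hmem := hall (PowerSeries.X ^ (c - 1 - f.order.toNat) * PowerSeries.Inv_divided_by_X_pow_order hf0)
    have heq : PowerSeries.X ^ (c - 1 - f.order.toNat) * PowerSeries.Inv_divided_by_X_pow_order hf0 * f
        = PowerSeries.X ^ (c - 1) := by
      calc PowerSeries.X ^ (c - 1 - f.order.toNat) * PowerSeries.Inv_divided_by_X_pow_order hf0 * f
          = PowerSeries.X ^ (c - 1 - f.order.toNat) * PowerSeries.Inv_divided_by_X_pow_order hf0 *
            (PowerSeries.X ^ f.order.toNat * PowerSeries.divXPowOrder f) := by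
            rw [PowerSeries.X_pow_order_mul_divXPowOrder]
        _ = PowerSeries.X ^ (c - 1 - f.order.toNat) * PowerSeries.X ^ f.order.toNat *
            (PowerSeries.Inv_divided_by_X_pow_order hf0 * PowerSeries.divXPowOrder f) := by ring
        _ = PowerSeries.X ^ (c - 1) := by
          rw [PowerSeries.Inv_divided_by_X_pow_order_leftInv, mul_one, ← pow_add]
          congr 1
          omega
    rw [heq] at hmem
    exact hc1 ((hΓ (c - 1)).2 ⟨_, hmem, PowerSeries.order_X_pow _⟩)
  · intro hf g
    apply hbig
    rw [PowerSeries.order_mul]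
    exact le_trans hf le_add_self

end Groth.Agent.S15016
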