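import Groth.Statements.S15017
import Mathlib

set_option autoImplicit false
open TFCurv

namespace Groth.Agent.S15017

/-- Let Γ be a numerical semigroup (a submonoid of (ℕ, +) with finite complement), Γ ≠ ℕ, with conductor
c (every n ≥ c lies in Γ, c − 1 does not). If Γ is symmetric (for x < c, x is a gap exactly when c −
1 − x ∈ Γ) and has multiplicity greater than 2 (neither 1 nor 2 lies in Γ), then Γ is generated by
its elements smaller than c: every minimal generator of Γ is less than the conductor. -/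
theorem result (Γ : AddSubmonoid ℕ) (c : ℕ) (hc : ∀ n : ℕ, c ≤ n → n ∈ Γ) (hc0 : c ≠ 0) (hc1 : c - 1 ∉ Γ) (hsymm : ∀ x : ℕ, x < c → (x ∉ Γ ↔ c - 1 - x ∈ Γ)) (he : (1 : ℕ) ∉ Γ ∧ (2 : ℕ) ∉ Γ) : AddSubmonoid.closure {γ : ℕ | γ ∈ Γ ∧ γ < c} = Γ := by
  classical
  obtain ⟨he1, he2⟩ := he
  have hgap_lt : ∀ n, n ∉ Γ → n < c := fun n hn => by
    by_contra h
    push Not at h
    exact hn (hc n h)
  -- multiplicity
  have hex : ∃ m, m ∈ Γ ∧ m ≠ 0 := ⟨c, hc c le_rfl, hc0⟩
  obtain ⟨hmΓ, hm0⟩ := Nat.find_spec hex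
  have hmmin : ∀ k, k ∈ Γ → k < Nat.find hex → k = 0 := by
    intro k hk hlt
    by_contra h0
    exact Nat.find_min hex hlt ⟨hk, h0⟩
  generalize Nat.find hex = m at hmΓ hm0 hmmin
  have hm3 : 3 ≤ m := by
    rcases Nat.lt_or_ge m 3 with h | h
    · interval_cases m
      · exact absurd rfl hm0
      · exact absurd hmΓ he1
      · exact absurd hmΓ he2
    · exact h
  have hmc : m ≤ c := by
    by_contra h
    push Not at h
    exact hc0 (hmmin c (hc c le_rfl) h)
  have hmc' : m < c := by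
    rcases Nat.lt_or_ge m c with h | h
    · exact h
    · exfalso
      have hmeq : m = c := le_antisymm hmc h
      have h1 := (hsymm 1 (by omega)).1 he1
      have h2 := hmmin _ h1 (by omega)
      have : c = 2 := by omega
      exact he2 (this ▸ hc c le_rfl)
  -- climbing lemma
  have climb : ∀ k g : ℕ, g + k = c → g ∉ Γ → ∃ g', g' ∉ Γ ∧ g' + m ∈ Γ ∧ g' % m = g % m := by
    intro k
    induction k using Nat.strong_induction_on with
    | _ k ih =>
      intro g hgk hg
      by_cases h : g + m ∈ Γ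
      · exact ⟨g, hg, h, rfl⟩
      · have hlt := hgap_lt _ h
        obtain ⟨g', h1, h2, h3⟩ := ih (c - (g + m)) (by omega) (g + m) (by omega) h
        exact ⟨g', h1, h2, by rw [h3, Nat.add_mod_right]⟩
  -- existence of a gap g ≠ c - 1 with g + m ∈ Γ
  have hgood : ∃ g, g ∉ Γ ∧ g + m ∈ Γ ∧ g ≠ c - 1 := by
    obtain ⟨g1, h11, h12, h13⟩ := climb (c - 1) 1 (by omega) he1
    obtain ⟨g2, h21, h22, h23⟩ := climb (c - 2) 2 (by omega) he2
    rw [Nat.mod_eq_of_lt (by omega : 1 < m)] at h13
    rw [Nat.mod_eq_of_lt (by omega : 2 < m)] at h23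
    by_cases h : g1 = c - 1
    · refine ⟨g2, h21, h22, ?_⟩
      intro h'
      rw [h, ← h'] at h13
      omega
    · exact ⟨g1, h11, h12, h⟩
  -- decomposition lemma
  have decomp : ∀ n, c ≤ n → ∃ a b, a ∈ Γ ∧ b ∈ Γ ∧ a ≠ 0 ∧ b ≠ 0 ∧ a + b = n := by
    intro n hn
    rcases lt_trichotomy (n - (c - 1)) m with hd | hd | hd
    · -- d < m
      have hgap : m - (n - (c - 1)) ∉ Γ := by
        intro h
        have := hmmin _ h (by omega)
        omega
      have h1 := (hsymm _ (by omega)).1 hgap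
      refine ⟨m, c - 1 - (m - (n - (c - 1))), hmΓ, h1, hm0, by omega, by omega⟩
    · -- d = m
      obtain ⟨g, hg1, hg2, hg3⟩ := hgood
      have hgc := hgap_lt g hg1
      have h1 := (hsymm g hgc).1 hg1
      exact ⟨g + m, c - 1 - g, hg2, h1, by omega, by omega, by omega⟩
    · -- d > m
      exact ⟨n - m, m, hc _ (by omega), hmΓ, by omega, hm0, by omega⟩
  apply le_antisymm
  · rw [AddSubmonoid.closure_le]
    rintro γ ⟨hγ, _⟩
    exact hγ
  · intro n
    induction n using Nat.strong_induction_on with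
    | _ n ih =>
      intro hn
      rcases Nat.lt_or_ge n c with h | h
      · exact AddSubmonoid.subset_closure ⟨hn, h⟩
      · obtain ⟨a, b, ha, hb, ha0, hb0, hab⟩ := decomp n h
        rw [← hab]
        exact AddSubmonoid.add_mem _ (ih a (by omega) ha) (ih b (by omega) hb)

end Groth.Agent.S15017
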