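import Groth.Statements.S15018
import Mathlib

set_option autoImplicit false
open TFCurv

namespace Groth.Agent.S15018

/-- Let Γ be a numerical semigroup (a submonoid of (ℕ, +) with finite complement), Γ ≠ ℕ, with conductor
c (every n ≥ c lies in Γ, c − 1 does not). Then Γ is symmetric (for x < c, x is a gap exactly when c
− 1 − x ∈ Γ) if and only if there is exactly one gap n of Γ such that Γ ∪ {n} is again stable under
adding elements of Γ, i.e. n + γ ∈ Γ for every nonzero γ ∈ Γ. -/
theorem result (Γ : AddSubmonoid ℕ) (c : ℕ) (hc : ∀ n : ℕ, c ≤ n → n ∈ Γ) (hc0 : c ≠ 0) (hc1 : c - 1 ∉ Γ) : (∀ x : ℕ, x < c → (x ∉ Γ ↔ c - 1 - x ∈ Γ)) ↔ ∃! n : ℕ, n ∉ Γ ∧ ∀ γ : ℕ, γ ∈ Γ → γ ≠ 0 → n + γ ∈ Γ := by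
  classical
  have hgap_lt : ∀ n, n ∉ Γ → n < c := fun n hn => by
    by_contra h
    push Not at h
    exact hn (hc n h)
  have hF : ∀ γ : ℕ, γ ∈ Γ → γ ≠ 0 → c - 1 + γ ∈ Γ := fun γ _ hγ0 => hc _ (by omega)
  constructor
  · intro hsymm
    refine ⟨c - 1, ⟨hc1, hF⟩, ?_⟩
    rintro n ⟨hn, hnΓ⟩
    have hnc := hgap_lt n hn
    have h1 := (hsymm n hnc).1 hn
    by_cases h0 : c - 1 - n = 0
    · omega
    · exfalso
      apply hc1
      have := hnΓ _ h1 h0
      rwa [show n + (c - 1 - n) = c - 1 by omega] at this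
  · rintro ⟨n, ⟨hn, hnΓ⟩, huniq⟩
    have hnF : n = c - 1 := (huniq (c - 1) ⟨hc1, hF⟩).symm
    -- downward strong induction on x
    have key : ∀ k x : ℕ, x + k = c - 1 → x ∉ Γ → c - 1 - x ∈ Γ := by
      intro k
      induction k using Nat.strong_induction_on with
      | _ k ih =>
        intro x hxk hx
        by_cases hxF : x = c - 1
        · subst hxF
          simp
        · -- x is not the unique addable gap
          have hnot : ¬ (x ∉ Γ ∧ ∀ γ : ℕ, γ ∈ Γ → γ ≠ 0 → x + γ ∈ Γ) := by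
            intro hh
            exact hxF ((huniq x hh).trans hnF)
          push Not at hnot
          obtain ⟨γ, hγ, hγ0, hxγ⟩ := hnot hx
          have hlt := hgap_lt _ hxγ
          have h2 := ih (c - 1 - (x + γ)) (by omega) (x + γ) (by omega) hxγ
          have h3 := Γ.add_mem h2 hγ
          rwa [show c - 1 - (x + γ) + γ = c - 1 - x by omega] at h3
    intro x hxc
    constructor
    · intro hx
      exact key (c - 1 - x) x (by omega) hx
    · intro h1 hx
      apply hc1
      have := Γ.add_mem hx h1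
      rwa [show x + (c - 1 - x) = c - 1 by omega] at this

end Groth.Agent.S15018
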