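import Groth.Statements.S15019
import Mathlib

set_option autoImplicit false
open TFCurv

namespace Groth.Agent.S15019

/-- Let Γ be a numerical semigroup (a submonoid of (ℕ, +) with finite complement), Γ ≠ ℕ, with conductor
c (every n ≥ c lies in Γ, c − 1 does not), let e be its multiplicity (the least nonzero element of
Γ), and let S ⊆ ℕ be a Γ-module in normal form: 0 ∈ S and γ + s ∈ S for all γ ∈ Γ, s ∈ S. Then the
set of gaps n of S with S ∪ {n} again a Γ-module (n + γ ∈ S for every nonzero γ ∈ Γ) has at most e −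
1 elements, and so does the set of nonzero s ∈ S with S ∖ {s} again a Γ-module (s − γ ∉ S for every
nonzero γ ∈ Γ with γ ≤ s). -/
theorem result (Γ : AddSubmonoid ℕ) (c : ℕ) (hc : ∀ n : ℕ, c ≤ n → n ∈ Γ) (hc0 : c ≠ 0) (hc1 : c - 1 ∉ Γ) (e : ℕ) (he : e ∈ Γ) (he0 : e ≠ 0) (hemin : ∀ γ : ℕ, γ ∈ Γ → γ ≠ 0 → e ≤ γ) (S : Set ℕ) (hS0 : (0 : ℕ) ∈ S) (hS : ∀ γ : ℕ, γ ∈ Γ → ∀ s : ℕ, s ∈ S → γ + s ∈ S) : {n : ℕ | n ∉ S ∧ ∀ γ : ℕ, γ ∈ Γ → γ ≠ 0 → n + γ ∈ S}.encard ≤ ((e - 1 : ℕ) : ℕ∞) ∧ {s : ℕ | s ∈ S ∧ s ≠ 0 ∧ ∀ γ : ℕ, γ ∈ Γ → γ ≠ 0 → γ ≤ s → s - γ ∉ S}.encard ≤ ((e - 1 : ℕ) : ℕ∞) := by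
  classical
  have hΓS : ∀ n, n ∈ Γ → n ∈ S := fun n hn => by simpa using hS n hn 0 hS0
  have hke : ∀ k : ℕ, k * e ∈ Γ := fun k => by
    have := Γ.nsmul_mem he k
    simpa [smul_eq_mul] using this
  have hcard : ((↑(Finset.Ioo 0 e) : Set ℕ)).encard = ((e - 1 : ℕ) : ℕ∞) := by
    rw [Set.encard_coe_eq_coe_finsetCard, Nat.card_Ioo]
    simp
  have hepos : 0 < e := Nat.pos_of_ne_zero he0
  -- general principle: a set whose elements are pairwise incongruent mod e and nonzero mod e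
  have key : ∀ T : Set ℕ, (∀ n ∈ T, n % e ≠ 0) →
      (∀ n ∈ T, ∀ n' ∈ T, n < n' → n % e ≠ n' % e) → T.encard ≤ ((e - 1 : ℕ) : ℕ∞) := by
    intro T h0 hne
    rw [← hcard]
    apply Set.encard_le_encard_of_injOn (f := fun n => n % e)
    · intro n hn
      simp only [Finset.coe_Ioo, Set.mem_Ioo]
      exact ⟨Nat.pos_of_ne_zero (h0 n hn), Nat.mod_lt _ hepos⟩
    · intro n hn n' hn' hnn'
      simp only at hnn'
      rcases lt_trichotomy n n' with h | h | h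
      · exact absurd hnn' (hne n hn n' hn' h)
      · exact h
      · exact absurd hnn'.symm (hne n' hn' n hn h)
  constructor
  · apply key
    · rintro n ⟨hn, -⟩ hmod
      apply hn
      apply hΓS
      have := hke (n / e)
      rwa [Nat.div_mul_cancel (Nat.dvd_of_mod_eq_zero hmod)] at this
    · rintro n ⟨hn, hnΓ⟩ n' ⟨hn', -⟩ hlt hmod
      apply hn'
      have hdvd : e ∣ n' - n := (Nat.modEq_iff_dvd' hlt.le).1 hmod
      obtain ⟨k, hk⟩ := hdvd
      have hk0 : k ≠ 0 := by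
        rintro rfl
        omega
      have := hnΓ (k * e) (hke k) (Nat.mul_ne_zero hk0 he0)
      rwa [show n + k * e = n' by rw [mul_comm, ← hk]; omega] at this
  · apply key
    · rintro s ⟨hs, hs0, hsΓ⟩ hmod
      have h1 := hke (s / e)
      rw [Nat.div_mul_cancel (Nat.dvd_of_mod_eq_zero hmod)] at h1
      apply hsΓ s h1 hs0 le_rfl
      simpa using hS0
    · rintro s ⟨hs, -, -⟩ s' ⟨hs', -, hsΓ'⟩ hlt hmod
      have hdvd : e ∣ s' - s := (Nat.modEq_iff_dvd' hlt.le).1 hmod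
      obtain ⟨k, hk⟩ := hdvd
      have hk0 : k ≠ 0 := by
        rintro rfl
        omega
      apply hsΓ' (k * e) (hke k) (Nat.mul_ne_zero hk0 he0) (by rw [mul_comm, ← hk]; omega)
      rwa [show s' - k * e = s by rw [mul_comm, ← hk]; omega]

end Groth.Agent.S15019
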