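import Groth.Statements.S15036
import Mathlib

set_option autoImplicit false
open TFCurv

namespace Groth.Agent.S15036
section Aux
open Classical in
lemma count_insert (S : Set ℕ) (s : ℕ) (hs : s ∉ S) (k : ℕ) :
    Nat.count (fun m => m ∈ insert s S) k = Nat.count (fun m => m ∈ S) k + (if s < k then 1 else 0) := by
  induction k with
  | zero => simp
  | succ k ih =>
    rw [Nat.count_succ, Nat.count_succ, ih]
    by_cases hks : k = s
    · subst hks
      have h1 : k ∈ insert k S := Set.mem_insert _ _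
      rw [if_pos h1, if_neg hs, if_neg (lt_irrefl k), if_pos (Nat.lt_succ_self k)]
    · have h1 : k ∈ insert s S ↔ k ∈ S := by
        rw [Set.mem_insert_iff]
        constructor
        · rintro (h | h)
          · exact absurd h hks
          · exact h
        · exact Or.inr
      by_cases h2 : k ∈ S
      · rw [if_pos (h1.mpr h2), if_pos h2]
        split_ifs <;> omega
      · rw [if_neg (fun h => h2 (h1.mp h)), if_neg h2]
        split_ifs <;> omega

lemma infinite_of_conductor (S : Set ℕ) (c : ℕ) (h : ∀ n, c ≤ n → n ∈ S) :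
    (Set.ofPred (fun m => m ∈ S)).Infinite := by
  apply Set.infinite_of_forall_exists_gt
  intro a
  exact ⟨max a c + 1, h _ (by omega), by omega⟩
end Aux


/-- Let Γ be a numerical semigroup (a submonoid of (ℕ, +) with finite complement), Γ ≠ ℕ, with conductor
c (every n ≥ c lies in Γ, c − 1 does not); let S ⊆ ℕ be a Γ-module in normal form (0 ∈ S, γ + s ∈ S
for γ ∈ Γ, s ∈ S) with conductor c(S) (all n ≥ c(S) in S, c(S) − 1 ∉ S), and let s be a gap of S
such that S ∪ {s} is again a Γ-module. Enumerate S increasingly as s_0 < s_1 < ⋯ and put τ_i(S) =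
s_i + ℓ(S), where ℓ counts the gaps of Γ filled; since ℓ(S ∪ {s}) = ℓ(S) + 1, the termwise
comparison τ(S) ≤ τ(S ∪ {s}) says that the i-th element of S is at most one more than the i-th
element of S ∪ {s} for every i. This holds if and only if s = c(S) − 1, the largest gap of S. -/
theorem result (Γ : AddSubmonoid ℕ) (c : ℕ) (hc : ∀ n : ℕ, c ≤ n → n ∈ Γ) (hc0 : c ≠ 0) (hc1 : c - 1 ∉ Γ) (S : Set ℕ) (hS0 : (0 : ℕ) ∈ S) (hS : ∀ γ : ℕ, γ ∈ Γ → ∀ s : ℕ, s ∈ S → γ + s ∈ S) (cS : ℕ) (hcS : ∀ n : ℕ, cS ≤ n → n ∈ S) (hcS0 : cS ≠ 0) (hcS1 : cS - 1 ∉ S) (s : ℕ) (hs : s ∉ S) (hs' : ∀ γ : ℕ, γ ∈ Γ → γ ≠ 0 → s + γ ∈ S) : (∀ i : ℕ, Nat.nth (fun m => m ∈ S) i ≤ Nat.nth (fun m => m ∈ insert s S) i + 1) ↔ s + 1 = cS := by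
  classical
  have hinf' : (Set.ofPred (fun m => m ∈ insert s S)).Infinite :=
    infinite_of_conductor (insert s S) cS (fun n hn => Set.mem_insert_of_mem _ (hcS n hn))
  have hscS : s < cS := by
    by_contra h
    exact hs (hcS s (not_lt.mp h))
  constructor
  · intro h
    by_contra hne
    have h1 : s + 1 < cS := by omega
    have h2 : Nat.nth (fun m => m ∈ S) (Nat.count (fun m => m ∈ S) cS) = cS :=
      Nat.nth_count (p := fun m => m ∈ S) (hcS cS le_rfl)
    have h3 : Nat.count (fun m => m ∈ S) cS = Nat.count (fun m => m ∈ S) (cS - 1) := by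
      have : cS = (cS - 1) + 1 := by omega
      conv_lhs => rw [this]
      rw [Nat.count_succ, if_neg hcS1, add_zero]
    have h4 := count_insert S s hs (cS - 1)
    rw [if_pos (by omega)] at h4
    have h5 : Nat.nth (fun m => m ∈ insert s S) (Nat.count (fun m => m ∈ S) cS) < cS - 1 := by
      apply Nat.nth_lt_of_lt_count
      rw [h4, h3]
      omega
    have h6 := h (Nat.count (fun m => m ∈ S) cS)
    rw [h2] at h6
    omega
  · intro hsc i
    set m := Nat.nth (fun m => m ∈ insert s S) i with hm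
    have h1 : Nat.count (fun m => m ∈ insert s S) (m + 1) = i + 1 :=
      Nat.count_nth_succ_of_infinite hinf' i
    have h2 := count_insert S s hs (m + 1)
    have h3 : Nat.count (fun m => m ∈ S) (m + 1 + 1) =
        Nat.count (fun m => m ∈ S) (m + 1) + (if m + 1 ∈ S then 1 else 0) := Nat.count_succ _ _
    have h4 : i < Nat.count (fun m => m ∈ S) (m + 1 + 1) := by
      by_cases h5 : s < m + 1
      · have h6 : m + 1 ∈ S := hcS _ (by omega)
        rw [if_pos h5] at h2
        rw [if_pos h6] at h3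
        omega
      · rw [if_neg h5] at h2
        split_ifs at h3 <;> omega
    have h7 := Nat.nth_lt_of_lt_count h4
    omega

end Groth.Agent.S15036
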