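import Groth.Statements.S15037
import Mathlib

set_option autoImplicit false
open TFCurv

namespace Groth.Agent.S15037
section Aux
open Classical

noncomputable def G (S : Set ℕ) (n : ℕ) : ℕ := ((Finset.range n).filter (fun x => x ∉ S)).card

lemma count_add_G (S : Set ℕ) (n : ℕ) : Nat.count (fun m => m ∈ S) n + G S n = n := by
  rw [Nat.count_eq_card_filter_range, G, Finset.card_filter_add_card_filter_not, Finset.card_range]

lemma G_mono (S : Set ℕ) {m n : ℕ} (h : m ≤ n) : G S m ≤ G S n :=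
  Finset.card_le_card (Finset.filter_subset_filter _ (Finset.range_mono h))

lemma G_succ (S : Set ℕ) (n : ℕ) : G S (n + 1) = G S n + (if n ∈ S then 0 else 1) := by
  have h1 := count_add_G S (n + 1)
  have h2 := count_add_G S n
  rw [Nat.count_succ] at h1
  split_ifs at h1 ⊢ <;> omega

lemma G_const (S : Set ℕ) (c : ℕ) (hc : ∀ n, c ≤ n → n ∈ S) (n : ℕ) (hn : c ≤ n) : G S n = G S c := by
  induction n, hn using Nat.le_induction with
  | base => rfl
  | succ n hn ih => rw [G_succ, if_pos (hc n hn), add_zero, ih]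

lemma ncard_compl (S : Set ℕ) (c : ℕ) (hc : ∀ n, c ≤ n → n ∈ S) : Sᶜ.ncard = G S c := by
  rw [G, ← Set.ncard_coe_finset]
  congr 1
  ext x
  simp only [Set.mem_compl_iff, Finset.coe_filter, Finset.mem_range, Set.mem_setOf_eq]
  constructor
  · intro hx
    refine ⟨?_, hx⟩
    by_contra h
    exact hx (hc x (not_lt.mp h))
  · exact fun h => h.2

lemma ncard_inter (S : Set ℕ) (c : ℕ) : (S ∩ Set.Iio c).ncard = Nat.count (fun m => m ∈ S) c := by
  rw [Nat.count_eq_card_filter_range, ← Set.ncard_coe_finset]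
  congr 1
  ext x
  simp only [Set.mem_inter_iff, Set.mem_Iio, Finset.coe_filter, Finset.mem_range, Set.mem_setOf_eq]
  tauto

lemma infinite_of_conductor (S : Set ℕ) (c : ℕ) (h : ∀ n, c ≤ n → n ∈ S) :
    (Set.ofPred (fun m => m ∈ S)).Infinite := by
  apply Set.infinite_of_forall_exists_gt
  intro a
  exact ⟨max a c + 1, h _ (by omega), by omega⟩

/-- F3 -/
lemma nth_le (S : Set ℕ) (c : ℕ) (hc : ∀ n, c ≤ n → n ∈ S) (i : ℕ) :
    Nat.nth (fun m => m ∈ S) i ≤ i + G S c := by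
  have h1 := Nat.count_nth_of_infinite (infinite_of_conductor S c hc) i
  have h2 := count_add_G S (Nat.nth (fun m => m ∈ S) i)
  have h3 : G S (Nat.nth (fun m => m ∈ S) i) ≤ G S c := by
    rcases le_total (Nat.nth (fun m => m ∈ S) i) c with h | h
    · exact G_mono S h
    · exact (G_const S c hc _ h).le
  omega

/-- F4 -/
lemma nth_eq (S : Set ℕ) (c : ℕ) (hc : ∀ n, c ≤ n → n ∈ S) (i : ℕ)
    (hi : Nat.count (fun m => m ∈ S) c ≤ i) :
    Nat.nth (fun m => m ∈ S) i = i + G S c := by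
  have h0 := count_add_G S c
  have hn : c ≤ i + G S c := by omega
  have h1 := count_add_G S (i + G S c)
  rw [G_const S c hc _ hn] at h1
  have h2 : Nat.count (fun m => m ∈ S) (i + G S c) = i := by omega
  have h3 := Nat.nth_count (p := fun m => m ∈ S) (hc _ hn)
  rw [h2] at h3
  exact h3

/-- F5 -/
lemma nth_lt (S : Set ℕ) (c : ℕ) (hc : ∀ n, c ≤ n → n ∈ S) (hc1 : c - 1 ∉ S) (i : ℕ)
    (hi : i < Nat.count (fun m => m ∈ S) c) :
    Nat.nth (fun m => m ∈ S) i < i + G S c := by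
  have hm : Nat.nth (fun m => m ∈ S) i < c := Nat.nth_lt_of_lt_count hi
  have hmem : Nat.nth (fun m => m ∈ S) i ∈ S :=
    Nat.nth_mem_of_infinite (infinite_of_conductor S c hc) i
  have hne : Nat.nth (fun m => m ∈ S) i ≠ c - 1 := fun h => hc1 (h ▸ hmem)
  have h1 := Nat.count_nth_of_infinite (infinite_of_conductor S c hc) i
  have h2 := count_add_G S (Nat.nth (fun m => m ∈ S) i)
  have h3 : G S (Nat.nth (fun m => m ∈ S) i) ≤ G S (c - 1) := G_mono S (by omega)
  have h4 : G S c = G S (c - 1) + 1 := by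
    have : c = (c - 1) + 1 := by omega
    conv_lhs => rw [this]
    rw [G_succ, if_neg hc1]
  omega

end Aux


/-- Let Γ be a numerical semigroup (a submonoid of (ℕ, +) with finite complement), Γ ≠ ℕ, with conductor
c (every n ≥ c lies in Γ, c − 1 does not); let S and S' ⊆ ℕ be Γ-modules in normal form with
conductors c(S), c(S'), let δ(S), δ(S') be their numbers of gaps and r(S), r(S') their numbers of
elements below the conductor, and enumerate them increasingly as s_i, s'_i (i ≥ 0). With τ_i(S) =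
s_i + ℓ(S) and ℓ(S) = δ(Γ) − δ(S), the termwise order τ(S) ≤ τ(S') reads s_i + δ(S') ≤ s'_i + δ(S)
for all i. It holds if and only if r(S') ≤ r(S) and s_i + δ(S') ≤ s'_i + δ(S) for all i < r(S')
(beyond r(S) the entries τ_i(S) = i + δ(Γ) are the largest possible). -/
theorem result (Γ : AddSubmonoid ℕ) (c : ℕ) (hc : ∀ n : ℕ, c ≤ n → n ∈ Γ) (hc0 : c ≠ 0) (hc1 : c - 1 ∉ Γ) (S : Set ℕ) (hS0 : (0 : ℕ) ∈ S) (hS : ∀ γ : ℕ, γ ∈ Γ → ∀ s : ℕ, s ∈ S → γ + s ∈ S) (cS : ℕ) (hcS : ∀ n : ℕ, cS ≤ n → n ∈ S) (hcS1 : cS = 0 ∨ cS - 1 ∉ S) (S' : Set ℕ) (hS'0 : (0 : ℕ) ∈ S') (hS' : ∀ γ : ℕ, γ ∈ Γ → ∀ s : ℕ, s ∈ S' → γ + s ∈ S') (cS' : ℕ) (hcS' : ∀ n : ℕ, cS' ≤ n → n ∈ S') (hcS'1 : cS' = 0 ∨ cS' - 1 ∉ S') : (∀ i : ℕ, Nat.nth (fun m => m ∈ S) i + S'ᶜ.ncard ≤ Nat.nth (fun m => m ∈ S') i + Sᶜ.ncard) ↔ ((S' ∩ Set.Iio cS').ncard ≤ (S ∩ Set.Iio cS).ncard ∧ ∀ i : ℕ, i < (S' ∩ Set.Iio cS').ncard → Nat.nth (fun m => m ∈ S) i + S'ᶜ.ncard ≤ Nat.nth (fun m =>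 m ∈ S') i + Sᶜ.ncard) := by
  classical
  rw [ncard_compl S cS hcS, ncard_compl S' cS' hcS', ncard_inter, ncard_inter]
  constructor
  · intro H
    refine ⟨?_, fun i _ => H i⟩
    by_contra hlt
    rw [not_le] at hlt
    have h1 := nth_eq S cS hcS _ le_rfl
    have hc'1 : cS' - 1 ∉ S' := by
      rcases hcS'1 with h | h
      · exfalso
        subst h
        simp at hlt
      · exact h
    have h2 := nth_lt S' cS' hcS' hc'1 _ hlt
    have h3 := H (Nat.count (fun m => m ∈ S) cS)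
    omega
  · rintro ⟨hr, hpre⟩ i
    by_cases hi : i < Nat.count (fun m => m ∈ S') cS'
    · exact hpre i hi
    · have h1 := nth_eq S' cS' hcS' i (not_lt.mp hi)
      have h2 := nth_le S cS hcS i
      omega

end Groth.Agent.S15037
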