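import Groth.Statements.S15038
import Mathlib

set_option autoImplicit false
open TFCurv

namespace Groth.Agent.S15038

/-- Let Γ be a numerical semigroup (a submonoid of (ℕ, +) with finite complement), Γ ≠ ℕ, with conductor
c (every n ≥ c lies in Γ, c − 1 does not). If Γ is symmetric (for x < c, x is a gap exactly when c −
1 − x ∈ Γ) and its multiplicity e, the least nonzero element of Γ, is greater than 2, then Γ is
generated as an additive monoid by at most e − 1 elements. -/
theorem result (Γ : AddSubmonoid ℕ) (c : ℕ) (hc : ∀ n : ℕ, c ≤ n → n ∈ Γ) (hc0 : c ≠ 0) (hc1 : c - 1 ∉ Γ) (hsymm : ∀ x : ℕ, x < c → (x ∉ Γ ↔ c - 1 - x ∈ Γ)) (e : ℕ) (he : e ∈ Γ) (he0 : e ≠ 0) (hemin : ∀ γ : ℕ, γ ∈ Γ → γ ≠ 0 → e ≤ γ) (he2 : 2 < e) : ∃ G : Finset ℕ, G.card ≤ e - 1 ∧ AddSubmonoid.closure (↑G : Set ℕ) = Γ := by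
  classical
  set m := c - 1 + e with hm
  let Ap : ℕ → Prop := fun γ => γ ∈ Γ ∧ (e ≤ γ → γ - e ∉ Γ)
  have hAp_lt : ∀ γ, Ap γ → γ < c + e := by
    rintro γ ⟨h1, h2⟩
    by_contra hge
    push Not at hge
    exact h2 (by omega) (hc _ (by omega))
  have hmulmem : ∀ k, k * e ∈ Γ := fun k => by
    induction k with
    | zero => simp
    | succ k ih => rw [Nat.succ_mul]; exact Γ.add_mem ih he
  have key : ∀ γ γ', Ap γ → Ap γ' → γ % e = γ' % e → γ ≤ γ' → γ = γ' := by
    intro γ γ' h h' hmod hle
    by_contra hne
    have hlt : γ < γ' := lt_of_le_of_ne hle hne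
    have h0 : (γ' - γ) % e = 0 := Nat.sub_mod_eq_zero_of_mod_eq hmod.symm
    obtain ⟨k, hk⟩ := Nat.dvd_of_mod_eq_zero h0
    obtain ⟨j, rfl⟩ : ∃ j, k = j + 1 := by
      rcases k with _ | j
      · simp at hk; omega
      · exact ⟨j, rfl⟩
    have hk' : γ' - γ = j * e + e := by rw [hk]; ring
    have h1 : e ≤ γ' := by omega
    have h2 : γ' - e = γ + j * e := by omega
    exact h'.2 h1 (h2 ▸ Γ.add_mem h.1 (hmulmem j))
  have hAp_inj : ∀ γ γ', Ap γ → Ap γ' → γ % e = γ' % e → γ = γ' := by
    intro γ γ' h h' hmod
    rcases le_total γ γ' with hle | hle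
    · exact key γ γ' h h' hmod hle
    · exact (key γ' γ h' h hmod.symm hle).symm
  have hAp0 : Ap 0 := ⟨Γ.zero_mem, fun h => absurd (Nat.le_zero.mp h) he0⟩
  have hApm : Ap m := by
    refine ⟨hc _ (by omega), fun _ => ?_⟩
    have : m - e = c - 1 := by omega
    rw [this]; exact hc1
  have hm0 : m % e ≠ 0 := by
    intro h
    have := hAp_inj m 0 hApm hAp0 (by rw [h, Nat.zero_mod])
    omega
  let S : Finset ℕ := (Finset.range (c + e)).filter (fun γ => Ap γ ∧ γ ≠ 0 ∧ γ ≠ m)
  refine ⟨insert e S, ?_, ?_⟩
  · -- card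
    have hS : S.card ≤ e - 2 := by
      have hsub : ∀ γ ∈ S, γ % e ∈ ((Finset.range e).erase 0).erase (m % e) := by
        intro γ hγ
        simp only [S, Finset.mem_filter, Finset.mem_range] at hγ
        obtain ⟨_, hA, hne0, hnem⟩ := hγ
        rw [Finset.mem_erase, Finset.mem_erase, Finset.mem_range]
        refine ⟨fun h => hnem (hAp_inj γ m hA hApm h), fun h => hne0 ?_, Nat.mod_lt _ (by omega)⟩
        exact hAp_inj γ 0 hA hAp0 (by rw [h, Nat.zero_mod])
      have hinj : Set.InjOn (fun γ => γ % e) (S : Set ℕ) := by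
        intro γ hγ γ' hγ' h
        simp only [S, Finset.coe_filter, Finset.mem_range, Set.mem_setOf_eq] at hγ hγ'
        exact hAp_inj γ γ' hγ.2.1 hγ'.2.1 h
      have := Finset.card_le_card_of_injOn (fun γ => γ % e) hsub hinj
      have hcard : (((Finset.range e).erase 0).erase (m % e)).card = e - 2 := by
        rw [Finset.card_erase_of_mem, Finset.card_erase_of_mem, Finset.card_range]
        · omega
        · rw [Finset.mem_range]; omega
        · rw [Finset.mem_erase, Finset.mem_range]
          exact ⟨hm0, Nat.mod_lt _ (by omega)⟩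
      omega
    calc (insert e S).card ≤ S.card + 1 := Finset.card_insert_le _ _
      _ ≤ e - 1 := by omega
  · apply le_antisymm
    · rw [AddSubmonoid.closure_le]
      intro γ hγ
      rw [Finset.coe_insert, Set.mem_insert_iff] at hγ
      rcases hγ with rfl | hγ
      · exact he
      · simp only [S, Finset.coe_filter, Finset.mem_range, Set.mem_setOf_eq] at hγ
        exact hγ.2.1.1
    · -- existence of w
      obtain ⟨r, hr0, hre, hrm⟩ : ∃ r, r ≠ 0 ∧ r < e ∧ r ≠ m % e := by
        by_cases h1 : m % e = 1
        · exact ⟨2, by omega, by omega, by omega⟩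
        · exact ⟨1, by omega, by omega, fun h => h1 h.symm⟩
      have hex : ∃ n, n ∈ Γ ∧ n % e = r := by
        refine ⟨c * e + r, hc _ ?_, ?_⟩
        · have : c * 1 ≤ c * e := Nat.mul_le_mul_left c (by omega)
          omega
        · rw [Nat.mul_add_mod_of_lt hre]  
      obtain ⟨w, hwspec, hwmin⟩ : ∃ w, (w ∈ Γ ∧ w % e = r) ∧ ∀ n < w, ¬ (n ∈ Γ ∧ n % e = r) :=
        ⟨Nat.find hex, Nat.find_spec hex, fun n hn => Nat.find_min hex hn⟩
      have hwAp : Ap w := by
        refine ⟨hwspec.1, fun hge hmem => ?_⟩
        have hlt : w - e < w := by omega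
        apply hwmin (w - e) hlt
        refine ⟨hmem, ?_⟩
        rw [← hwspec.2]
        conv_rhs => rw [← Nat.sub_add_cancel hge]
        rw [Nat.add_mod_right]
      have hw0 : w ≠ 0 := by
        intro h
        rw [h] at hwspec
        exact hr0 (by rw [← hwspec.2, Nat.zero_mod])
      have hwm : w ≠ m := by
        intro h
        exact hrm (by rw [← hwspec.2, h])
      have hwS : w ∈ S := by
        simp only [S, Finset.mem_filter, Finset.mem_range]
        exact ⟨hAp_lt w hwAp, hwAp, hw0, hwm⟩
      have hwle : w ≤ m := by have := hAp_lt w hwAp; omega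
      have hw' : m - w ∈ Γ := by
        by_cases hge : e ≤ w
        · have h1 : w - e ∉ Γ := hwAp.2 hge
          have h2 : w - e < c := by
            by_contra h; push Not at h; exact h1 (hc _ h)
          have := (hsymm (w - e) h2).mp h1
          have heq : c - 1 - (w - e) = m - w := by omega
          rwa [heq] at this
        · exact hc _ (by omega)
      -- strong induction
      intro γ hγ
      induction γ using Nat.strong_induction_on with
      | _ γ ih =>
        by_cases hA : Ap γ
        · by_cases h0 : γ = 0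
          · subst h0; exact AddSubmonoid.zero_mem _
          by_cases hmm : γ = m
          · have e1 : γ = w + (m - w) := by omega
            rw [e1]
            refine AddSubmonoid.add_mem _ (AddSubmonoid.subset_closure ?_) (ih (m - w) (by omega) hw')
            rw [Finset.coe_insert]; exact Or.inr hwS
          · apply AddSubmonoid.subset_closure
            rw [Finset.coe_insert]
            refine Or.inr ?_
            simp only [S, Finset.coe_filter, Finset.mem_range, Set.mem_setOf_eq]
            exact ⟨hAp_lt γ hA, hA, h0, hmm⟩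
        · have hA' : e ≤ γ ∧ γ - e ∈ Γ := by
            by_contra h
            apply hA
            refine ⟨hγ, fun hge hmem => h ⟨hge, hmem⟩⟩
          have e1 : γ = (γ - e) + e := by omega
          rw [e1]
          refine AddSubmonoid.add_mem _ (ih (γ - e) (by omega) hA'.2) (AddSubmonoid.subset_closure ?_)
          rw [Finset.coe_insert]; exact Or.inl rfl

end Groth.Agent.S15038
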