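import Groth.Statements.S15047
import Mathlib
import Groth.Agent.S1156
-- import your own Groth.Agent.* helpers here

set_option autoImplicit false
universe u
open TensorProduct
open Desc

namespace Groth.Agent.S15047

/-- Let A → A' be a faithfully flat homomorphism of commutative rings and M, N any A-modules. An
A'-linear map f : A' ⊗_A M → A' ⊗_A N whose two base changes to A' ⊗_A A' (along a ↦ a ⊗ 1 and a ↦ 1
⊗ a) coincide is the base change of a unique A-linear map h : M → N. Since (A' ⊗_A A') ⊗_A M is
generated over A' ⊗_A A' by the elements 1 ⊗ m, the agreement of the two base changes is stated on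
these generators: for every m, the two images of f (1 ⊗ m) in (A' ⊗_A A') ⊗_A N agree. Equivalently,
the sequence Hom_A(M, N) → Hom_{A'}(A' ⊗ M, A' ⊗ N) ⇉ Hom_{A' ⊗ A'}(A' ⊗ A' ⊗ M, A' ⊗ A' ⊗ N) is an
equalizer diagram. -/
theorem result (A A' : Type u) [CommRing A] [CommRing A'] [Algebra A A']
    [Module.FaithfullyFlat A A'] (M N : Type u) [AddCommGroup M] [Module A M] [AddCommGroup N] [Module A N]
    (f : A' ⊗[A] M →ₗ[A'] A' ⊗[A] N)
    (hf : ∀ m : M,
      LinearMap.rTensor N (Algebra.TensorProduct.includeLeft : A' →ₐ[A] A' ⊗[A] A').toLinearMap (f (1 ⊗ₜ[A] m)) =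
        LinearMap.rTensor N (Algebra.TensorProduct.includeRight : A' →ₐ[A] A' ⊗[A] A').toLinearMap (f (1 ⊗ₜ[A] m))) :
    ∃! h : M →ₗ[A] N, h.baseChange A' = f := by
  let ι : N →ₗ[A] A' ⊗[A] N := TensorProduct.mk A A' N 1
  have hι : Function.Injective ι := Module.FaithfullyFlat.tensorProduct_mk_injective N
  let φ : M →ₗ[A] A' ⊗[A] N := (f.restrictScalars A) ∘ₗ (TensorProduct.mk A A' M 1)
  -- the two identities relating the maps of `hf` to those of `S1156`
  have hL : ∀ x : A' ⊗[A] N,
      TensorProduct.assoc A A' A' N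
        (LinearMap.rTensor N (Algebra.TensorProduct.includeLeft : A' →ₐ[A] A' ⊗[A] A').toLinearMap x) =
      LinearMap.lTensor A' (TensorProduct.mk A A' N 1) x := by
    intro x
    induction x using TensorProduct.induction_on with
    | zero => simp
    | tmul a n => simp
    | add x y hx hy => rw [map_add, map_add, map_add, hx, hy]
  have hR : ∀ x : A' ⊗[A] N,
      TensorProduct.assoc A A' A' N
        (LinearMap.rTensor N (Algebra.TensorProduct.includeRight : A' →ₐ[A] A' ⊗[A] A').toLinearMap x) =
      TensorProduct.mk A A' (A' ⊗[A] N) 1 x := by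
    intro x
    induction x using TensorProduct.induction_on with
    | zero => simp
    | tmul a n => simp
    | add x y hx hy => rw [map_add, map_add, map_add, hx, hy]
  have hrange : ∀ m, φ m ∈ LinearMap.range ι := by
    intro m
    apply Groth.Agent.S1156.result A A' N (φ m)
    rw [← hR, ← hL]
    exact congrArg _ (hf m).symm
  let h : M →ₗ[A] N :=
    (LinearEquiv.ofInjective ι hι).symm.toLinearMap ∘ₗ (φ.codRestrict (LinearMap.range ι) hrange)
  have hh : ∀ m, (1 : A') ⊗ₜ[A] h m = f (1 ⊗ₜ[A] m) := by
    intro m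
    have : ι (h m) = φ m := by
      have := LinearEquiv.apply_symm_apply (LinearEquiv.ofInjective ι hι)
        (φ.codRestrict (LinearMap.range ι) hrange m)
      exact congrArg Subtype.val this
    exact this
  have hbase : ∀ (g : M →ₗ[A] N), g.baseChange A' = f ↔ ∀ m, (1 : A') ⊗ₜ[A] g m = f (1 ⊗ₜ[A] m) := by
    intro g
    constructor
    · intro hg m
      rw [← hg, LinearMap.baseChange_tmul]
    · intro hg
      apply LinearMap.ext
      intro x
      induction x using TensorProduct.induction_on with
      | zero => simp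
      | tmul a m =>
        rw [LinearMap.baseChange_tmul]
        have h1 : a ⊗ₜ[A] m = a • ((1 : A') ⊗ₜ[A] m) := by
          rw [TensorProduct.smul_tmul', smul_eq_mul, mul_one]
        have h2 : a ⊗ₜ[A] g m = a • ((1 : A') ⊗ₜ[A] g m) := by
          rw [TensorProduct.smul_tmul', smul_eq_mul, mul_one]
        rw [h1, map_smul, ← hg, h2]
      | add x y hx hy => rw [map_add, map_add, hx, hy]
  refine ⟨h, (hbase h).mpr hh, ?_⟩
  intro g hg
  apply LinearMap.ext
  intro m
  apply hι
  show (1 : A') ⊗ₜ[A] g m = (1 : A') ⊗ₜ[A] h m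
  rw [(hbase g).mp hg m, hh m]

end Groth.Agent.S15047
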