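import Groth.Statements.S15054
import Mathlib

set_option autoImplicit false
universe u
open CategoryTheory CategoryTheory.Limits MonoidalCategory CartesianMonoidalCategory MonObj GrpObj AlgebraicGeometry
open BTGrp

namespace S15054aux
open CategoryTheory CategoryTheory.Limits MonoidalCategory CartesianMonoidalCategory MonObj GrpObj AlgebraicGeometry

variable {S : Scheme.{u}}

lemma isKernel_imp {N G Q : Over S} [GrpObj Q] {i : N ⟶ G} {q : G ⟶ Q} (h : AlgGrp.IsKernel i q) :
    i ≫ q = 1 ∧ ∀ (T : Over S) (x : T ⟶ G), x ≫ q = 1 → ∃! n : T ⟶ N, n ≫ i = x := by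
  refine ⟨?_, ?_⟩
  · rw [h.w]; rfl
  · intro T x hx
    have hx' : x ≫ q = toUnit T ≫ η[Q] := hx
    refine ⟨h.lift x (toUnit T) hx', h.lift_fst _ _ _, ?_⟩
    intro n hn
    apply h.hom_ext
    · rw [hn, h.lift_fst]
    · exact toUnit_unique _ _

lemma isKernel_of {N G Q : Over S} [GrpObj Q] {i : N ⟶ G} {q : G ⟶ Q}
    (h1 : i ≫ q = 1) (h2 : ∀ (T : Over S) (x : T ⟶ G), x ≫ q = 1 → ∃! n : T ⟶ N, n ≫ i = x) :
    AlgGrp.IsKernel i q := by
  have key : ∀ s : PullbackCone q η[Q], s.fst ≫ q = 1 := by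
    intro s
    rw [s.condition]
    have : s.snd = toUnit _ := toUnit_unique _ _
    rw [this]; rfl
  refine ⟨⟨h1⟩, ⟨PullbackCone.IsLimit.mk _ (fun s => (h2 s.pt s.fst (key s)).choose) ?_ ?_ ?_⟩⟩
  · intro s
    exact (h2 s.pt s.fst (key s)).choose_spec.1
  · intro s
    exact toUnit_unique _ _
  · intro s m hm _
    exact (h2 s.pt s.fst (key s)).choose_spec.2 m hm

theorem main (ℓ h : ℕ) [Fact ℓ.Prime] (G : BTGrp.ProBT ℓ S h)
    (i : (t : ℕ) → (G.G 1 ⟶ G.G (t + 1))) (hi0 : i 0 = 𝟙 (G.G 1))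
    (hi : ∀ t : ℕ, i (t + 1) = i t ≫ G.incl (t + 1)) (t : ℕ) :
    AlgGrp.IsKernel (i t) ((𝟙 (G.G (t + 1))) ^ ℓ) := by
  induction t with
  | zero =>
    rw [hi0]
    have hk := isKernel_imp (G.isKernel 0)
    have h1 : G.incl 0 = 1 := by
      have := hk.1
      rwa [pow_zero, pow_one, Category.comp_id] at this
    have h2 : (𝟙 (G.G (0 + 1))) ^ ℓ = 1 := by
      rw [← G.proj_incl 0, h1, MonObj.comp_one]
    apply isKernel_of
    · rw [Category.id_comp]; exact h2
    · intro T x _
      exact ⟨x, Category.comp_id _, fun n hn => by rw [← hn, Category.comp_id]⟩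
  | succ t ih =>
    have hk := isKernel_imp (G.isKernel (t + 1))
    have hk' := isKernel_imp ih
    have hit : (i t) ^ ℓ = 1 := by
      have := hk'.1
      rwa [MonObj.comp_pow, Category.comp_id] at this
    apply isKernel_of
    · rw [MonObj.comp_pow, Category.comp_id, hi, ← MonObj.pow_comp, hit, MonObj.one_comp]
    · intro T x hx
      rw [MonObj.comp_pow, Category.comp_id] at hx
      have hx2 : x ≫ (𝟙 (G.G (t + 1 + 1))) ^ (ℓ ^ (t + 1)) = 1 := by
        rw [MonObj.comp_pow, Category.comp_id, pow_succ', pow_mul, hx, one_pow]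
      obtain ⟨y, hy, hyu⟩ := hk.2 T x hx2
      have hy2 : y ^ ℓ = 1 := by
        have h1 : (1 : T ⟶ G.G (t + 1 + 1)) ≫ (𝟙 (G.G (t + 1 + 1))) ^ (ℓ ^ (t + 1)) = 1 := by
          rw [MonObj.comp_pow, Category.comp_id, one_pow]
        obtain ⟨w, _, hwu⟩ := hk.2 T 1 h1
        have e1 : y ^ ℓ = w := hwu _ (by beta_reduce; rw [MonObj.pow_comp, hy, hx])
        have e2 : (1 : T ⟶ G.G (t + 1)) = w := hwu _ (by beta_reduce; rw [MonObj.one_comp])
        rw [e1, ← e2]
      have hy3 : y ≫ (𝟙 (G.G (t + 1))) ^ ℓ = 1 := by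
        rw [MonObj.comp_pow, Category.comp_id, hy2]
      obtain ⟨z, hz, hzu⟩ := hk'.2 T y hy3
      refine ⟨z, ?_, ?_⟩
      · show z ≫ i (t + 1) = x
        rw [hi, ← Category.assoc, hz, hy]
      · intro z' hz'
        apply hzu
        apply hyu
        rw [Category.assoc, ← hi]
        exact hz'

end S15054aux

namespace Groth.Agent.S15054

/-- Let ℓ be a prime and G = (G_ν)_ν an ℓ-divisible (Barsotti–Tate) group of height h over a scheme S,
given as the system of its finite locally free layers G_ν of order ℓ^{νh} with inclusions G_ν →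
G_{ν+1} exhibiting G_ν as the ℓ^ν-torsion of G_{ν+1} and projections G_{ν+1} → G_ν (multiplication
by ℓ). Let i_t : G_1 → G_{t+1} denote the iterated inclusions, pinned by i_0 = id and i_{t+1} = i_t
followed by G_{t+1} → G_{t+2}. Then for every t, i_t identifies G_1 with the kernel of
multiplication by ℓ on G_{t+1}: the ℓ-torsion of every layer is the first layer. (The published
statement identifies G_v with the ℓ^v-torsion of G_{v+t} for all v; this row is its case v = 1. The
published base is the spectrum of a Noetherian ring; the argument is formal and any base scheme is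
allowed here.) -/
theorem result {S : Scheme.{u}} (ℓ h : ℕ) [Fact ℓ.Prime] (G : BTGrp.ProBT ℓ S h)
    (i : (t : ℕ) → (G.G 1 ⟶ G.G (t + 1))) (hi0 : i 0 = 𝟙 (G.G 1))
    (hi : ∀ t : ℕ, i (t + 1) = i t ≫ G.incl (t + 1)) (t : ℕ) :
    AlgGrp.IsKernel (i t) ((𝟙 (G.G (t + 1))) ^ ℓ) := by
  exact S15054aux.main ℓ h G i hi0 hi t

end Groth.Agent.S15054
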