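import Groth.Statements.S15062
import Mathlib

set_option autoImplicit false
universe u
open scoped TensorProduct
open Hopf

namespace S15062aux
open scoped TensorProduct

lemma idem_local {D : Type*} [CommRing D] [IsLocalRing D] {x : D} (hx : IsIdempotentElem x) :
    x = 0 ∨ x = 1 := by
  have h : x * (1 - x) = 0 := by rw [mul_sub, mul_one, hx.eq, sub_self]
  rcases IsLocalRing.isUnit_or_isUnit_one_sub_self x with hu | hu
  · right
    have := hu.mul_right_eq_zero.mp h
    exact (sub_eq_zero.mp this).symm
  · left
    exact hu.mul_left_eq_zero.mp h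

/-- Two algebra maps from an unramified algebra to a Noetherian local ring which agree modulo a
proper ideal are equal. -/
lemma unr_ext {R C B : Type u} [CommRing R] [CommRing C] [CommRing B] [Algebra R C] [Algebra R B]
    [Algebra.FormallyUnramified R C] [IsNoetherianRing B] [IsLocalRing B]
    (ε : B →ₐ[R] R) (ψ₁ ψ₂ : C →ₐ[R] B) (h : ε.comp ψ₁ = ε.comp ψ₂) : ψ₁ = ψ₂ := by
  have : Nontrivial R := (algebraMap R B).domain_nontrivial
  have hI : RingHom.ker ε.toRingHom ≠ ⊤ := RingHom.ker_ne_top _
  refine Algebra.FormallyUnramified.ext_of_iInf (I := RingHom.ker ε.toRingHom)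
    (Ideal.iInf_pow_eq_bot_of_isLocalRing _ hI) ?_
  intro x
  rw [Ideal.Quotient.eq, RingHom.mem_ker]
  have := AlgHom.congr_fun h x
  simp only [AlgHom.comp_apply] at this
  simp [map_sub, this]

theorem part2 (R : Type u) [CommRing R] [IsNoetherianRing R]
    (A : Type u) [CommRing A] [HopfAlgebra R A] [Module.Finite R A]
    (I : Ideal A) (hI : ∀ a ∈ I, Coalgebra.counit (R := R) a = 0) [IsLocalRing (A ⧸ I)]
    (C : Type u) [CommRing C] [HopfAlgebra R C] [Algebra.FormallyUnramified R C]
    (φ : C →ₐc[R] A) (c : C) :
    φ c ∈ (AlgHom.equalizer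
          ((Algebra.TensorProduct.map (AlgHom.id R A) (Ideal.Quotient.mkₐ R I)).comp
            (Bialgebra.comulAlgHom R A))
          (Algebra.TensorProduct.includeLeft : A →ₐ[R] A ⊗[R] (A ⧸ I))) := by
  have : IsNoetherianRing A := IsNoetherianRing.of_finite R A
  have : IsNoetherianRing (A ⧸ I) := inferInstance
  let ε0 : (A ⧸ I) →ₐ[R] R := Ideal.Quotient.liftₐ I (Bialgebra.counitAlgHom R A) hI
  let ψ₁ : C →ₐ[R] (A ⧸ I) := (Ideal.Quotient.mkₐ R I).comp (φ : C →ₐ[R] A)
  let ψ₂ : C →ₐ[R] (A ⧸ I) := (Algebra.ofId R (A ⧸ I)).comp (Bialgebra.counitAlgHom R C)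
  have hψ : ψ₁ = ψ₂ := by
    apply unr_ext ε0
    ext x
    simp only [AlgHom.comp_apply, ψ₁, ψ₂, ε0]
    simp [Algebra.ofId_apply]
  rw [AlgHom.mem_equalizer]
  simp only [AlgHom.comp_apply, Bialgebra.comulAlgHom_apply]
  have h1 : Coalgebra.comul (R := R) (φ c) =
      TensorProduct.map (φ : C →ₗ[R] A) (φ : C →ₗ[R] A) (Coalgebra.comul (R := R) c) :=
    (CoalgHomClass.map_comp_comul_apply φ c).symm
  rw [h1]
  have h2 : ∀ z : C ⊗[R] C,
      (Algebra.TensorProduct.map (AlgHom.id R A) (Ideal.Quotient.mkₐ R I))
        (TensorProduct.map (φ : C →ₗ[R] A) (φ : C →ₗ[R] A) z) =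
      (Algebra.TensorProduct.map (φ : C →ₐ[R] A) (Algebra.ofId R (A ⧸ I)))
        ((Coalgebra.counit (R := R) (A := C)).lTensor C z) := by
    intro z
    induction z using TensorProduct.induction_on with
    | zero => simp
    | tmul x y =>
      have := AlgHom.congr_fun hψ y
      simp only [AlgHom.comp_apply, ψ₁, ψ₂] at this
      simp only [TensorProduct.map_tmul, Algebra.TensorProduct.map_tmul, LinearMap.lTensor_tmul,
        AlgHom.coe_id, id_eq]
      erw [this]
      rfl
    | add x y hx hy => simp only [map_add, hx, hy]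
  rw [h2]
  have h3 := LinearMap.congr_fun (Coalgebra.lTensor_counit_comp_comul (R := R) (A := C)) c
  simp only [LinearMap.comp_apply] at h3
  rw [h3]
  simp [Algebra.ofId_apply]

end S15062aux

namespace Groth.Agent.S15062

/-- Let R be a henselian Noetherian local ring and A a commutative Hopf algebra over R which is finite
and flat as an R-module (a finite flat R-group G = Spec A, not assumed commutative); let e ∈ A be an
idempotent with ε(e) = 1 such that A/(1 − e) is a local ring, so that G⁰ = Spec A/(1 − e) is the
connected component of the unit section, and let B ⊆ A be the subalgebra of functions invariant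
under right translation by G⁰: the equaliser of a ↦ (id ⊗ π)(Δ a) and a ↦ a ⊗ 1 into A ⊗_R A/(1 − e)
(so Spec B = G^ét). Then: (2) for every commutative Hopf algebra C over R which is finite étale over
R (a finite étale R-group H) and every bialgebra homomorphism φ : C → A (a homomorphism G → H), the
image of φ lies in B — the homomorphism factors (necessarily uniquely, A being faithfully flat over
B) through G → G^ét; (3) for every commutative Hopf algebra D over R which is finite and flat over R
and a local ring (a connected finite flat R-group H) and every bialgebra homomorphism ψ : A → D (a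
homomorphism H → G), ψ(e) = 1, i.e. ψ kills the ideal (1 − e) and the homomorphism factors
(uniquely) through G⁰ → G. -/
theorem result (R : Type u) [CommRing R] [HenselianLocalRing R] [IsNoetherianRing R]
    (A : Type u) [CommRing A] [HopfAlgebra R A] [Module.Finite R A] [Module.Flat R A]
    (e : A) (he : IsIdempotentElem e) (hε : Bialgebra.counitAlgHom R A e = 1)
    [IsLocalRing (A ⧸ Ideal.span ({1 - e} : Set A))] :
    (∀ (C : Type u) [CommRing C] [HopfAlgebra R C] [Module.Finite R C] [Algebra.Etale R C] (φ : C →ₐc[R] A) (c : C),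
        φ c ∈ (AlgHom.equalizer
          ((Algebra.TensorProduct.map (AlgHom.id R A) (Ideal.Quotient.mkₐ R (Ideal.span ({1 - e} : Set A)))).comp
            (Bialgebra.comulAlgHom R A))
          (Algebra.TensorProduct.includeLeft : A →ₐ[R] A ⊗[R] (A ⧸ Ideal.span ({1 - e} : Set A))))) ∧
      ∀ (D : Type u) [CommRing D] [HopfAlgebra R D] [Module.Finite R D] [Module.Flat R D] [IsLocalRing D]
        (ψ : A →ₐc[R] D), ψ e = 1 := by
  have hI : ∀ a ∈ Ideal.span ({1 - e} : Set A), Coalgebra.counit (R := R) a = 0 := by
    intro a ha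
    have hle : Ideal.span ({1 - e} : Set A) ≤
        RingHom.ker (Bialgebra.counitAlgHom R A).toRingHom := by
      rw [Ideal.span_le]
      rintro _ rfl
      simp only [SetLike.mem_coe, RingHom.mem_ker]
      change Bialgebra.counitAlgHom R A (1 - e) = 0
      rw [map_sub, map_one, hε, sub_self]
    exact hle ha
  refine ⟨fun C _ _ _ _ φ c => S15062aux.part2 R A _ hI C φ c, ?_⟩
  intro D _ _ _ _ _ ψ
  have hid : IsIdempotentElem (ψ e) := by
    change ψ e * ψ e = ψ e
    rw [← map_mul, he.eq]
  rcases S15062aux.idem_local hid with h0 | h1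
  · exfalso
    have h2 : Coalgebra.counit (R := R) (ψ e) = Coalgebra.counit (R := R) e :=
      CoalgHomClass.counit_comp_apply ψ e
    rw [h0, map_zero] at h2
    have h3 : Coalgebra.counit (R := R) e = 1 := hε
    rw [h3] at h2
    have : Nontrivial R := (algebraMap R D).domain_nontrivial
    exact zero_ne_one h2
  · exact h1

end Groth.Agent.S15062
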