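import Groth.Statements.S15063
import Mathlib

set_option autoImplicit false
universe u
open Hopf

namespace S15063aux
open scoped TensorProduct

section conv
variable (k : Type u) [CommRing k] (A : Type u) [CommRing A] [HopfAlgebra k A]

lemma lmul_map_comp {C T : Type u} [CommRing C] [Algebra k C] [CommRing T] [Algebra k T]
    {X Y : Type u} [CommRing X] [Algebra k X] [CommRing Y] [Algebra k Y]
    (φ : C →ₐ[k] T) (u : X →ₐ[k] C) (v : Y →ₐ[k] C) :
    (Algebra.TensorProduct.lmul' (S := T) k).comp (Algebra.TensorProduct.map (φ.comp u) (φ.comp v)) =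
      φ.comp ((Algebra.TensorProduct.lmul' (S := C) k).comp (Algebra.TensorProduct.map u v)) := by
  apply Algebra.TensorProduct.ext'
  intro a b
  simp

/-- naturality of `conv3`. -/
lemma conv3_comp {C T : Type u} [CommRing C] [Algebra k C] [CommRing T] [Algebra k T]
    (φ : C →ₐ[k] T) (f g h : A →ₐ[k] C) :
    Dyn.conv3 k A (φ.comp f) (φ.comp g) (φ.comp h) = φ.comp (Dyn.conv3 k A f g h) := by
  unfold Dyn.conv3
  rw [lmul_map_comp, ← AlgHom.comp_assoc, lmul_map_comp, AlgHom.comp_assoc, AlgHom.comp_assoc]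

lemma lmul_id_counit (x : A) :
    (Algebra.TensorProduct.lmul' (S := A) k)
      ((Algebra.TensorProduct.map (AlgHom.id k A)
        ((Algebra.ofId k A).comp (Bialgebra.counitAlgHom k A))) (Coalgebra.comul (R := k) x)) = x := by
  have h1 : ∀ z : A ⊗[k] A, (Algebra.TensorProduct.lmul' (S := A) k)
      ((Algebra.TensorProduct.map (AlgHom.id k A)
        ((Algebra.ofId k A).comp (Bialgebra.counitAlgHom k A))) z) =
      TensorProduct.rid k A ((Coalgebra.counit (R := k) (A := A)).lTensor A z) := by
    intro z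
    induction z using TensorProduct.induction_on with
    | zero => simp
    | tmul a b => simp [Algebra.ofId_apply, Algebra.smul_def, mul_comm]
    | add x y hx hy => simp only [map_add, hx, hy]
  rw [h1]
  have h3 := LinearMap.congr_fun (Coalgebra.lTensor_counit_comp_comul (R := k) (A := A)) x
  simp only [LinearMap.comp_apply] at h3
  rw [h3]
  simp

/-- `g · 1 · g⁻¹ = 1`. -/
lemma conv3_id_counit_antipode (a : A) :
    Dyn.conv3 k A (AlgHom.id k A) ((Algebra.ofId k A).comp (Bialgebra.counitAlgHom k A))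
      (HopfAlgebra.antipodeAlgHom k A) a = algebraMap k A (Coalgebra.counit (R := k) a) := by
  unfold Dyn.conv3
  simp only [AlgHom.comp_apply, Bialgebra.comulAlgHom_apply]
  let repr := Coalgebra.Repr.arbitrary k a
  rw [← repr.eq]
  simp only [map_sum, Algebra.TensorProduct.map_tmul, Bialgebra.comulAlgHom_apply, AlgHom.coe_id,
    id_eq, AlgHom.comp_apply, Algebra.TensorProduct.lmul'_apply_tmul]
  have : ∀ i ∈ repr.index,
      (Algebra.TensorProduct.lmul' (S := A) k)
        ((Algebra.TensorProduct.map (AlgHom.id k A)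
          ((Algebra.ofId k A).comp (Bialgebra.counitAlgHom k A)))
          (Coalgebra.comul (R := k) (repr.left i))) *
        (HopfAlgebra.antipodeAlgHom k A) (repr.right i) =
      repr.left i * HopfAlgebra.antipode k (repr.right i) := by
    intro i _
    rw [lmul_id_counit]
    rfl
  rw [Finset.sum_congr rfl this]
  exact HopfAlgebra.sum_mul_antipode_eq_algebraMap_counit repr

lemma conv3_counit {T : Type u} [CommRing T] [Algebra k T] (f : A →ₐ[k] T) (a : A) :
    Dyn.conv3 k A f ((Algebra.ofId k T).comp (Bialgebra.counitAlgHom k A))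
      (f.comp (HopfAlgebra.antipodeAlgHom k A)) a = algebraMap k T (Coalgebra.counit (R := k) a) := by
  have h2 : (Algebra.ofId k T).comp (Bialgebra.counitAlgHom k A) =
      f.comp ((Algebra.ofId k A).comp (Bialgebra.counitAlgHom k A)) := by
    ext x
    simp [Algebra.ofId_apply]
  rw [h2]
  have := conv3_comp k A f (AlgHom.id k A) ((Algebra.ofId k A).comp (Bialgebra.counitAlgHom k A))
    (HopfAlgebra.antipodeAlgHom k A)
  rw [AlgHom.comp_id] at this
  rw [this, AlgHom.comp_apply, conv3_id_counit_antipode]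
  simp

end conv

lemma idem_jacobson {C : Type*} [CommRing C] {x : C} (hx : IsIdempotentElem x)
    (hj : x ∈ Ideal.jacobson (⊥ : Ideal C)) : x = 0 := by
  have h := Ideal.mem_jacobson_bot.mp hj (-1)
  have h2 : x * (x * (-1) + 1) = 0 := by
    have : x * (x * (-1) + 1) = x - x * x := by ring
    rw [this, hx.eq, sub_self]
  exact h.mul_left_eq_zero.mp h2

section main
variable (R : Type u) [CommRing R] (A : Type u) [CommRing A] [HopfAlgebra R A] [Module.Finite R A]
  (I : Ideal A) (hI : ∀ a ∈ I, Coalgebra.counit (R := R) a = 0) [IsLocalRing (A ⧸ I)]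

include hI in
theorem key (e : A) (he : IsIdempotentElem e) (hεe : Coalgebra.counit (R := R) e = 1) :
    Dyn.conv3 R (A := A) (C := A ⊗[R] (A ⧸ I))
      (Algebra.TensorProduct.includeLeft : A →ₐ[R] A ⊗[R] (A ⧸ I))
      ((Algebra.TensorProduct.includeRight : (A ⧸ I) →ₐ[R] A ⊗[R] (A ⧸ I)).comp
        (Ideal.Quotient.mkₐ R I))
      ((Algebra.TensorProduct.includeLeft : A →ₐ[R] A ⊗[R] (A ⧸ I)).comp
        (HopfAlgebra.antipodeAlgHom R A)) e = 1 := by
  set gu : A →ₐ[R] A ⊗[R] (A ⧸ I) := Algebra.TensorProduct.includeLeft with hgu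
  set hu : A →ₐ[R] A ⊗[R] (A ⧸ I) :=
    (Algebra.TensorProduct.includeRight : (A ⧸ I) →ₐ[R] A ⊗[R] (A ⧸ I)).comp
      (Ideal.Quotient.mkₐ R I) with hhu
  set cu := Dyn.conv3 R A gu hu (gu.comp (HopfAlgebra.antipodeAlgHom R A)) e with hcu
  let ε0 : (A ⧸ I) →ₐ[R] R := Ideal.Quotient.liftₐ I (Bialgebra.counitAlgHom R A) hI
  let θ : A ⊗[R] (A ⧸ I) →ₐ[R] A ⊗[R] R := Algebra.TensorProduct.map (AlgHom.id R A) ε0
  have hε0surj : Function.Surjective ε0 := fun r => ⟨algebraMap R _ r, by simp⟩
  -- θ cu = 1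
  have h1 : θ.comp gu = (Algebra.TensorProduct.includeLeft : A →ₐ[R] A ⊗[R] R) := by
    ext a
    simp [θ, gu]
  have h2 : θ.comp hu = (Algebra.ofId R (A ⊗[R] R)).comp (Bialgebra.counitAlgHom R A) := by
    ext a
    simp only [AlgHom.comp_apply, θ, hu, Algebra.TensorProduct.includeRight_apply,
      Algebra.TensorProduct.map_tmul, map_one, Ideal.Quotient.mkₐ_eq_mk, ε0,
      Ideal.Quotient.liftₐ_apply, Ideal.Quotient.lift_mk, Algebra.ofId_apply,
      Algebra.TensorProduct.algebraMap_apply]
    change (1 : A) ⊗ₜ[R] (Coalgebra.counit (R := R) a) = _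
    rw [Algebra.algebraMap_eq_smul_one, TensorProduct.smul_tmul]
    simp
  have hθcu : θ cu = 1 := by
    have h3 : θ.comp (gu.comp (HopfAlgebra.antipodeAlgHom R A)) =
        (Algebra.TensorProduct.includeLeft : A →ₐ[R] A ⊗[R] R).comp
          (HopfAlgebra.antipodeAlgHom R A) := by
      rw [← AlgHom.comp_assoc, h1]
    rw [hcu, ← AlgHom.comp_apply, ← conv3_comp, h1, h2, h3, conv3_counit, hεe, map_one]
  -- idempotent
  have hid : IsIdempotentElem (1 - cu) := by
    apply IsIdempotentElem.one_sub
    change cu * cu = cu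
    rw [hcu, ← map_mul, he.eq]
  have hker : (1 - cu) ∈ RingHom.ker θ := by
    rw [RingHom.mem_ker, map_sub, map_one, hθcu, sub_self]
  have hker' : RingHom.ker θ = (RingHom.ker ε0).map
      (Algebra.TensorProduct.includeRight : (A ⧸ I) →ₐ[R] A ⊗[R] (A ⧸ I)) :=
    Algebra.TensorProduct.lTensor_ker (A := A) ε0 hε0surj
  -- jacobson
  have hint : (Algebra.TensorProduct.includeRight :
      (A ⧸ I) →ₐ[R] A ⊗[R] (A ⧸ I)).toRingHom.IsIntegral := by
    have hfin : Module.Finite R (A ⊗[R] (A ⧸ I)) := inferInstance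
    have hR : (algebraMap R (A ⊗[R] (A ⧸ I))).IsIntegral := by
      have : Algebra.IsIntegral R (A ⊗[R] (A ⧸ I)) := inferInstance
      exact fun x => Algebra.IsIntegral.isIntegral x
    refine RingHom.IsIntegral.tower_top (algebraMap R (A ⧸ I)) _ ?_
    have hcomp : (Algebra.TensorProduct.includeRight :
        (A ⧸ I) →ₐ[R] A ⊗[R] (A ⧸ I)).toRingHom.comp (algebraMap R (A ⧸ I)) =
        algebraMap R (A ⊗[R] (A ⧸ I)) := by
      ext r
      simp
    rw [hcomp]
    exact hR
  have hjac : (RingHom.ker ε0).map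
      (Algebra.TensorProduct.includeRight : (A ⧸ I) →ₐ[R] A ⊗[R] (A ⧸ I)) ≤
      Ideal.jacobson (⊥ : Ideal (A ⊗[R] (A ⧸ I))) := by
    have : Nontrivial R := (algebraMap R (A ⧸ I)).domain_nontrivial
    have hne : RingHom.ker ε0 ≠ ⊤ := RingHom.ker_ne_top _
    have hle : RingHom.ker ε0 ≤ IsLocalRing.maximalIdeal (A ⧸ I) := IsLocalRing.le_maximalIdeal hne
    rw [Ideal.map_le_iff_le_comap]
    intro x hx
    rw [Ideal.mem_comap, Ideal.jacobson, Ideal.mem_sInf]
    rintro M ⟨_, hM⟩
    have hmax := Ideal.isMaximal_comap_of_isIntegral_of_isMaximal' _ hint M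
    have : M.comap (Algebra.TensorProduct.includeRight :
        (A ⧸ I) →ₐ[R] A ⊗[R] (A ⧸ I)).toRingHom = IsLocalRing.maximalIdeal (A ⧸ I) :=
      IsLocalRing.eq_maximalIdeal hmax
    have hx' : x ∈ M.comap (Algebra.TensorProduct.includeRight :
        (A ⧸ I) →ₐ[R] A ⊗[R] (A ⧸ I)).toRingHom := by
      rw [this]; exact hle hx
    exact hx'
  have hzero : 1 - cu = 0 := idem_jacobson hid (hjac (hker' ▸ hker))
  exact (sub_eq_zero.mp hzero).symm

end main

theorem main (R : Type u) [CommRing R] (A : Type u) [CommRing A] [HopfAlgebra R A]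
    [Module.Finite R A] (e : A) (he : IsIdempotentElem e)
    (hε : Bialgebra.counitAlgHom R A e = 1)
    [IsLocalRing (A ⧸ Ideal.span ({1 - e} : Set A))] :
    SGA3.IsNormalHopfIdeal R A (Ideal.span ({1 - e} : Set A)) := by
  have hI : ∀ a ∈ Ideal.span ({1 - e} : Set A), Coalgebra.counit (R := R) a = 0 := by
    intro a ha
    have hle : Ideal.span ({1 - e} : Set A) ≤
        RingHom.ker (Bialgebra.counitAlgHom R A).toRingHom := by
      rw [Ideal.span_le]
      rintro _ rfl
      simp only [SetLike.mem_coe, RingHom.mem_ker]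
      change Bialgebra.counitAlgHom R A (1 - e) = 0
      rw [map_sub, map_one, hε, sub_self]
    exact hle ha
  intro T _ _ g h hh a ha
  set I := Ideal.span ({1 - e} : Set A) with hIdef
  -- the universal point
  let hbar : (A ⧸ I) →ₐ[R] T := Ideal.Quotient.liftₐ I h hh
  let φ : A ⊗[R] (A ⧸ I) →ₐ[R] T :=
    (Algebra.TensorProduct.lmul' (S := T) R).comp (Algebra.TensorProduct.map g hbar)
  have e1 : φ.comp (Algebra.TensorProduct.includeLeft : A →ₐ[R] A ⊗[R] (A ⧸ I)) = g := by
    ext x; simp [φ]
  have e2 : φ.comp ((Algebra.TensorProduct.includeRight : (A ⧸ I) →ₐ[R] A ⊗[R] (A ⧸ I)).comp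
      (Ideal.Quotient.mkₐ R I)) = h := by
    ext x; simp [φ, hbar]
  have hkey := key R A I hI e he hε
  have hconv : Dyn.conv3 R A g h (g.comp (HopfAlgebra.antipodeAlgHom R A)) e = 1 := by
    have := conv3_comp R A φ (Algebra.TensorProduct.includeLeft : A →ₐ[R] A ⊗[R] (A ⧸ I))
      ((Algebra.TensorProduct.includeRight : (A ⧸ I) →ₐ[R] A ⊗[R] (A ⧸ I)).comp
        (Ideal.Quotient.mkₐ R I))
      ((Algebra.TensorProduct.includeLeft : A →ₐ[R] A ⊗[R] (A ⧸ I)).comp
        (HopfAlgebra.antipodeAlgHom R A))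
    have e3 : φ.comp ((Algebra.TensorProduct.includeLeft : A →ₐ[R] A ⊗[R] (A ⧸ I)).comp
        (HopfAlgebra.antipodeAlgHom R A)) = g.comp (HopfAlgebra.antipodeAlgHom R A) := by
      rw [← AlgHom.comp_assoc, e1]
    rw [e1, e2, e3] at this
    rw [this, AlgHom.comp_apply, hkey, map_one]
  have hle : I ≤ RingHom.ker
      (Dyn.conv3 R A g h (g.comp (HopfAlgebra.antipodeAlgHom R A))).toRingHom := by
    rw [hIdef, Ideal.span_le]
    rintro _ rfl
    simp only [SetLike.mem_coe, RingHom.mem_ker]
    change Dyn.conv3 R A g h (g.comp (HopfAlgebra.antipodeAlgHom R A)) (1 - e) = 0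
    rw [map_sub, map_one, hconv, sub_self]
  exact hle ha

end S15063aux

namespace Groth.Agent.S15063

/-- Let R be a henselian Noetherian local ring and A a commutative Hopf algebra over R which is finite
and flat as an R-module (a finite flat R-group G = Spec A, not assumed commutative); let e ∈ A be an
idempotent with ε(e) = 1 such that A/(1 − e) is a local ring, so that Spec A/(1 − e) is the
connected component G⁰ of G containing the unit section. Then G⁰ is normal in G: for every
commutative R-algebra T, every T-valued point g of G and every T-valued point h of G killing the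
ideal (1 − e), the conjugate g·h·g⁻¹ again kills (1 − e). (The published statement is for a flat
affine algebraic R-group and also asserts that G⁰ is an open and closed flat subgroup; this row
states the normality clause for finite flat G.) -/
theorem result (R : Type u) [CommRing R] [HenselianLocalRing R] [IsNoetherianRing R]
    (A : Type u) [CommRing A] [HopfAlgebra R A] [Module.Finite R A] [Module.Flat R A]
    (e : A) (he : IsIdempotentElem e) (hε : Bialgebra.counitAlgHom R A e = 1)
    [IsLocalRing (A ⧸ Ideal.span ({1 - e} : Set A))] :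
    SGA3.IsNormalHopfIdeal R A (Ideal.span ({1 - e} : Set A)) := by
  exact S15063aux.main R A e he hε

end Groth.Agent.S15063
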