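import Groth.Statements.S15065
import Groth.Agent.Lib.Helper7.EtConst
import Groth.Agent.Lib.Helper7.NQ2


set_option autoImplicit false
universe u
open Hopf

namespace Groth.Agent.S15065

open Groth.Agent.Lib.Helper7.EtConst


/-- Let k be an algebraically closed field and A a finite-dimensional commutative and cocommutative Hopf
algebra over k which is reduced (a finite étale commutative k-group G = Spec A), with dim_k A > 1,
and assume G is simple: every Hopf ideal of A is either zero or the augmentation ideal (no closed
subgroup schemes other than G and 1). Then the order dim_k A is a prime number ℓ, so that G is the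
constant group ℤ/ℓℤ. (The published statement lists the simple finite commutative groups over an
algebraically closed field of characteristic p > 0; the étale case does not use the characteristic
and is stated here for any algebraically closed field.) -/
theorem result (k : Type u) [Field k] [IsAlgClosed k] (A : Type u) [CommRing A] [HopfAlgebra k A]
    [Coalgebra.IsCocomm k A] [FiniteDimensional k A] [IsReduced A] (hA : 1 < Module.finrank k A)
    (hsimple : ∀ I : Ideal A, I.IsHopfIdeal k → I = ⊥ ∨ I = RingHom.ker (Bialgebra.counitAlgHom k A)) :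
    (Module.finrank k A).Prime := by
  classical
  haveI : Finite (WithConv (A →ₐ[k] k)) := Finite.of_equiv _ (WithConv.equiv (A →ₐ[k] k)).symm
  letI : Fintype (WithConv (A →ₐ[k] k)) := Fintype.ofFinite _
  have hcard : Fintype.card (WithConv (A →ₐ[k] k)) = Module.finrank k A := card_points_eq k A
  obtain ⟨ℓ, hℓ, hℓn⟩ := Nat.exists_prime_and_dvd (n := Module.finrank k A) (by omega)
  haveI : Fact ℓ.Prime := ⟨hℓ⟩
  obtain ⟨γ, hγ⟩ := exists_prime_orderOf_dvd_card (G := WithConv (A →ₐ[k] k)) ℓ
    (by rw [hcard]; exact hℓn)
  have hγ1 : γ ≠ 1 := by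
    intro h1
    rw [h1, orderOf_one] at hγ
    exact hℓ.one_lt.ne hγ
  let H : Subgroup (WithConv (A →ₐ[k] k)) := Subgroup.zpowers γ
  have hHcard : Fintype.card H = ℓ := by
    rw [← hγ]; exact Fintype.card_zpowers
  let res : ConstGrp.F k (WithConv (A →ₐ[k] k)) →ₐc[k] ConstGrp.F k H := compBialgHom k H.subtype
  let ψ : A →ₐc[k] ConstGrp.F k H := res.comp (phi k A)
  have hI := Groth.Agent.Lib.Helper7.NormalQuot.isHopfIdeal_ker ψ
  have hγH : γ ∈ H := Subgroup.mem_zpowers γ
  rcases hsimple _ hI with h | h
  · -- `ψ` injective
    have hinj : Function.Injective ψ := by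
      rw [injective_iff_map_eq_zero]
      intro a ha
      have : a ∈ RingHom.ker (ψ : A →+* ConstGrp.F k H) := ha
      rw [h] at this
      exact this
    have h1 : Module.finrank k A ≤ Module.finrank k (ConstGrp.F k H) :=
      LinearMap.finrank_le_finrank_of_injective (f := (ψ : A →ₗc[k] _).toLinearMap) hinj
    rw [Module.finrank_eq_card_basis (ConstGrp.basis k H), hHcard] at h1
    have h2 : ℓ ≤ Module.finrank k A := Nat.le_of_dvd (by omega) hℓn
    have h3 : Module.finrank k A = ℓ := le_antisymm h1 h2
    rw [h3]; exact hℓ
  · exfalso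
    obtain ⟨a, ha⟩ := (phi_bijective k A).2 (ConstGrp.e k γ)
    have hε : Coalgebra.counit (R := k) a = 0 := by
      have h1 : Coalgebra.counit (R := k) (phi k A a) = Coalgebra.counit (R := k) a :=
        CoalgHomClass.counit_comp_apply (phi k A) a
      rw [← h1, ha, ConstGrp.counit_apply, ConstGrp.e_apply_of_ne (Ne.symm hγ1)]
    have hmem : a ∈ RingHom.ker (ψ : A →+* ConstGrp.F k H) := by
      rw [h, RingHom.mem_ker]; exact hε
    have h0 : ψ a = 0 := hmem
    have h1 := congrFun h0 ⟨γ, hγH⟩
    change res (phi k A a) ⟨γ, hγH⟩ = 0 at h1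
    rw [ha, compBialgHom_apply] at h1
    change ConstGrp.e k γ γ = 0 at h1
    rw [ConstGrp.e_apply_self] at h1
    exact one_ne_zero h1

end Groth.Agent.S15065
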