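import Groth.Statements.S15067
import Mathlib

set_option autoImplicit false
universe u
open scoped TensorProduct
open Hopf

namespace Groth.Agent.S15067


section Conv
open WithConv Algebra Coalgebra Bialgebra HopfAlgebra TensorProduct

variable {R A C : Type*} [CommRing R] [CommRing A] [HopfAlgebra R A] [CommRing C] [Algebra R C]

/-- left inverse in the convolution monoid of points -/
noncomputable def cinv (f : A →ₐ[R] C) : WithConv (A →ₐ[R] C) :=
  toConv (f.comp (HopfAlgebra.antipodeAlgHom R A))

theorem cinv_mul (f : A →ₐ[R] C) : cinv f * toConv f = 1 := by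
  have H : (Algebra.TensorProduct.lmul' R).comp (Algebra.TensorProduct.map f f) =
      f.comp (Algebra.TensorProduct.lmul' R) := by ext <;> simp
  trans toConv <| ((Algebra.TensorProduct.lmul' R).comp (Algebra.TensorProduct.map f f)).comp
    ((Algebra.TensorProduct.map (HopfAlgebra.antipodeAlgHom R A) (.id _ _)).comp (comulAlgHom R A))
  · rw [AlgHom.comp_assoc, ← AlgHom.comp_assoc (Algebra.TensorProduct.map f f),
      ← Algebra.TensorProduct.map_comp]; rfl
  rw [H, AlgHom.comp_assoc, WithConv.ext_iff, ← AlgHom.toLinearMap_injective.eq_iff]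
  change f.toLinearMap.comp (toConv (antipode R (A := A)) * toConv LinearMap.id).ofConv =
    ofConv (1 : WithConv <| A →ₗ[R] C)
  rw [LinearMap.antipode_mul_id]
  ext
  simp

theorem mul_cinv (f : A →ₐ[R] C) : toConv f * cinv f = 1 := by
  have h1 := cinv_mul f
  have h2 := cinv_mul (cinv f).ofConv
  rw [toConv_ofConv] at h2
  calc toConv f * cinv f = (cinv (cinv f).ofConv * cinv f) * (toConv f * cinv f) := by
        rw [h2, one_mul]
    _ = cinv (cinv f).ofConv * ((cinv f * toConv f) * cinv f) := by simp only [mul_assoc]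
    _ = 1 := by rw [h1, one_mul, h2]

end Conv

open WithConv in
theorem unram (R : Type u) [CommRing R] (A A'' : Type u) [CommRing A] [HopfAlgebra R A]
    [CommRing A''] [HopfAlgebra R A''] [Algebra A'' A] [IsScalarTower R A'' A]
    (hΔ : (Bialgebra.comulAlgHom R A).comp (IsScalarTower.toAlgHom R A'' A) =
      (Algebra.TensorProduct.map (IsScalarTower.toAlgHom R A'' A) (IsScalarTower.toAlgHom R A'' A)).comp
        (Bialgebra.comulAlgHom R A''))
    (hε : (Bialgebra.counitAlgHom R A).comp (IsScalarTower.toAlgHom R A'' A) = Bialgebra.counitAlgHom R A'')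
    [Algebra.FormallyUnramified R A'']
    [Algebra.FormallyUnramified R
      (A ⧸ (RingHom.ker (Bialgebra.counitAlgHom R A'')).map (algebraMap A'' A))] :
    Algebra.FormallyUnramified R A := by
  rw [Algebra.FormallyUnramified.iff_comp_injective]
  intro B _ _ I hI g₁ g₂ hg
  let φ₀ : A'' →ₐ[R] A := IsScalarTower.toAlgHom R A'' A
  let φ : A'' →ₐc[R] A := BialgHom.ofAlgHom φ₀ hε hΔ.symm
  have hφcoe : (φ : A'' →ₐ[R] A) = φ₀ := rfl
  have h12 : g₁.comp φ₀ = g₂.comp φ₀ :=
    Algebra.FormallyUnramified.comp_injective I hI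
      (by rw [← AlgHom.comp_assoc, ← AlgHom.comp_assoc, hg])
  set J : Ideal A := (RingHom.ker (Bialgebra.counitAlgHom R A'')).map (algebraMap A'' A) with hJ
  -- the unit
  have hone_comp : (1 : WithConv (A →ₐ[R] B)).ofConv.comp φ₀ =
      (1 : WithConv (A'' →ₐ[R] B)).ofConv := by
    rw [AlgHom.convOne_def, AlgHom.convOne_def, ofConv_toConv, ofConv_toConv, AlgHom.comp_assoc, hε]
  set h : WithConv (A →ₐ[R] B) := cinv g₁ * toConv g₂ with hh
  have hφ : h.ofConv.comp φ₀ = (1 : WithConv (A'' →ₐ[R] B)).ofConv := by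
    have e1 := AlgHom.convMul_comp_bialgHom_distrib (cinv g₁) (toConv g₂) φ
    have e2 := AlgHom.convMul_comp_bialgHom_distrib (cinv g₁) (toConv g₁) φ
    rw [cinv_mul, hφcoe, hone_comp] at e2
    rw [hφcoe] at e1
    rw [hh, e1, e2]
    rw [ofConv_toConv, ofConv_toConv, h12]
  -- anything trivial on `A''` kills `J`
  have hkill : ∀ (f : WithConv (A →ₐ[R] B)),
      f.ofConv.comp φ₀ = (1 : WithConv (A'' →ₐ[R] B)).ofConv → ∀ a ∈ J, f.ofConv a = 0 := by
    intro f hf a ha
    have hle : J ≤ RingHom.ker f.ofConv := by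
      rw [hJ, Ideal.map_le_iff_le_comap]
      intro c hc
      rw [Ideal.mem_comap, RingHom.mem_ker]
      have h1 := AlgHom.congr_fun hf c
      rw [AlgHom.comp_apply] at h1
      have h2 : Coalgebra.counit (R := R) c = 0 := hc
      change f.ofConv (φ₀ c) = 0
      rw [h1]
      change algebraMap R B (Coalgebra.counit c) = 0
      rw [h2, map_zero]
    exact hle ha
  let h' : A ⧸ J →ₐ[R] B := Ideal.Quotient.liftₐ J h.ofConv (hkill h hφ)
  let e' : A ⧸ J →ₐ[R] B :=
    Ideal.Quotient.liftₐ J (1 : WithConv (A →ₐ[R] B)).ofConv (hkill 1 hone_comp)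
  have hh' : h'.comp (Ideal.Quotient.mkₐ R J) = h.ofConv := Ideal.Quotient.liftₐ_comp _ _ _
  have he' : e'.comp (Ideal.Quotient.mkₐ R J) = (1 : WithConv (A →ₐ[R] B)).ofConv :=
    Ideal.Quotient.liftₐ_comp _ _ _
  have hmk1 : (Ideal.Quotient.mkₐ R I).comp (1 : WithConv (A →ₐ[R] B)).ofConv =
      (1 : WithConv (A →ₐ[R] B ⧸ I)).ofConv := by
    rw [AlgHom.convOne_def, AlgHom.convOne_def, ofConv_toConv, ofConv_toConv, ← AlgHom.comp_assoc]
    congr 1
  have hmkh : (Ideal.Quotient.mkₐ R I).comp h.ofConv = (1 : WithConv (A →ₐ[R] B ⧸ I)).ofConv := by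
    rw [hh, AlgHom.comp_convMul_distrib]
    have h3 : (Ideal.Quotient.mkₐ R I).comp (cinv g₁).ofConv =
        (cinv ((Ideal.Quotient.mkₐ R I).comp g₁)).ofConv := rfl
    rw [h3, ofConv_toConv, hg, cinv_mul]
  have hq : (Ideal.Quotient.mkₐ R I).comp h' = (Ideal.Quotient.mkₐ R I).comp e' := by
    apply Ideal.Quotient.algHom_ext
    rw [AlgHom.comp_assoc, AlgHom.comp_assoc, hh', he', hmk1, hmkh]
  have heq : h' = e' := Algebra.FormallyUnramified.comp_injective I hI hq
  have hone : h = 1 := by
    apply WithConv.ext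
    rw [← hh', ← he', heq]
  have hfin : toConv g₂ = toConv g₁ := by
    calc toConv g₂ = (toConv g₁ * cinv g₁) * toConv g₂ := by rw [mul_cinv, one_mul]
      _ = toConv g₁ * h := by rw [mul_assoc]
      _ = toConv g₁ := by rw [hone, mul_one]
  exact (toConv_injective hfin).symm

theorem local_of (R : Type u) [CommRing R] [Nontrivial R] (A A'' : Type u) [CommRing A] [Bialgebra R A]
    [CommRing A''] [Bialgebra R A''] [Module.Finite R A]
    [Algebra A'' A] [IsScalarTower R A'' A]
    (h1 : IsLocalRing A'')
    (h2 : IsLocalRing (A ⧸ (RingHom.ker (Bialgebra.counitAlgHom R A'')).map (algebraMap A'' A))) :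
    IsLocalRing A := by
  set J : Ideal A := (RingHom.ker (Bialgebra.counitAlgHom R A'')).map (algebraMap A'' A) with hJ
  have hfin : Module.Finite A'' A := Module.Finite.of_restrictScalars_finite R A'' A
  have hint : Algebra.IsIntegral A'' A := inferInstance
  have hsurj : Function.Surjective (Ideal.Quotient.mk J) := Ideal.Quotient.mk_surjective
  have hnt : Nontrivial A := hsurj.nontrivial
  have hI'' : RingHom.ker (Bialgebra.counitAlgHom R A'') ≤ IsLocalRing.maximalIdeal A'' := by
    apply IsLocalRing.le_maximalIdeal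
    intro htop
    have h1mem : (1 : A'') ∈ RingHom.ker (Bialgebra.counitAlgHom R A'') := by
      rw [htop]; trivial
    rw [RingHom.mem_ker, map_one] at h1mem
    exact one_ne_zero h1mem
  have hJM : ∀ M : Ideal A, M.IsMaximal → J ≤ M := by
    intro M hM
    rw [hJ, Ideal.map_le_iff_le_comap]
    have hmax : (M.comap (algebraMap A'' A)).IsMaximal :=
      Ideal.isMaximal_comap_of_isIntegral_of_isMaximal M
    rw [IsLocalRing.eq_maximalIdeal hmax]
    exact hI''
  apply IsLocalRing.of_unique_max_ideal
  refine ⟨(IsLocalRing.maximalIdeal (A ⧸ J)).comap (Ideal.Quotient.mk J),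
    Ideal.comap_isMaximal_of_surjective _ hsurj, ?_⟩
  intro M hM
  have hle := hJM M hM
  have hcm : (M.map (Ideal.Quotient.mk J)).comap (Ideal.Quotient.mk J) = M := by
    rw [Ideal.comap_map_of_surjective _ hsurj, ← RingHom.ker_eq_comap_bot, Ideal.mk_ker]
    exact sup_eq_left.mpr hle
  have hmax : (M.map (Ideal.Quotient.mk J)).IsMaximal := by
    rcases Ideal.map_eq_top_or_isMaximal_of_surjective _ hsurj hM with h | h
    · exfalso
      rw [h, Ideal.comap_top] at hcm
      exact hM.ne_top hcm.symm
    · exact h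
  rw [← hcm, IsLocalRing.eq_maximalIdeal hmax]

/-- Let R be a henselian Noetherian local ring, A and A'' commutative Hopf algebras over R which are
finite and flat as R-modules (finite flat R-groups G = Spec A, G'' = Spec A''), and A'' → A an
R-algebra homomorphism compatible with the comultiplications and counits (a homomorphism π : G →
G'') making A a faithfully flat A''-module (π faithfully flat). Let J ⊆ A be the ideal generated by
the image of the augmentation ideal of A'', so that G' = Spec A/J is the kernel of π and 1 → G' → G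
→ G'' → 1 is an exact sequence of finite flat R-groups. Then: (2) if A'' and A/J are local rings
(G'' and G' connected), A is a local ring (G is connected); (3) if A'' and A/J are étale over R (G''
and G' finite étale), A is étale over R (G is finite étale). -/
theorem result (R : Type u) [CommRing R] [HenselianLocalRing R] [IsNoetherianRing R]
    (A A'' : Type u) [CommRing A] [HopfAlgebra R A] [Module.Finite R A] [Module.Flat R A]
    [CommRing A''] [HopfAlgebra R A''] [Module.Finite R A''] [Module.Flat R A'']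
    [Algebra A'' A] [IsScalarTower R A'' A] [Module.FaithfullyFlat A'' A]
    (hΔ : (Bialgebra.comulAlgHom R A).comp (IsScalarTower.toAlgHom R A'' A) =
      (Algebra.TensorProduct.map (IsScalarTower.toAlgHom R A'' A) (IsScalarTower.toAlgHom R A'' A)).comp
        (Bialgebra.comulAlgHom R A''))
    (hε : (Bialgebra.counitAlgHom R A).comp (IsScalarTower.toAlgHom R A'' A) = Bialgebra.counitAlgHom R A'') :
    ((IsLocalRing A'' ∧
        IsLocalRing (A ⧸ (RingHom.ker (Bialgebra.counitAlgHom R A'')).map (algebraMap A'' A))) → IsLocalRing A) ∧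
      ((Algebra.Etale R A'' ∧
        Algebra.Etale R (A ⧸ (RingHom.ker (Bialgebra.counitAlgHom R A'')).map (algebraMap A'' A))) →
        Algebra.Etale R A) := by
  refine ⟨fun h => local_of R A A'' h.1 h.2, fun h => ?_⟩
  obtain ⟨h1, h2⟩ := h
  have hu : Algebra.FormallyUnramified R A := unram R A A'' hΔ hε
  have hft : Algebra.FiniteType R A := inferInstance
  have hfp : Algebra.FinitePresentation R A := Algebra.FinitePresentation.of_finiteType.mp hft
  exact Algebra.Etale.of_formallyUnramified_of_flat

end Groth.Agent.S15067
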