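import Groth.Statements.S1507
import Mathlib
import Groth.Agent.S7068
import Groth.Agent.Lib.Helper13.PCMor5

set_option autoImplicit false
universe u
attribute [local instance] HasDerivedCategory.standard
open FlatMor

namespace Groth.Agent.S1507

section helpers
open FlatMor

open CategoryTheory CategoryTheory.Limits in
open Groth.Agent.Lib.Helper13.DR Groth.Agent.Lib.Helper13.PC PCoh in
/-- 2-of-3 for the kernel of a surjection from `B` -/
theorem isPC_quot_iff {B : Type u} [CommRing B] (I : Ideal B) :
    DRing.IsPseudoCoherentModule' B (B ⧸ I) ↔ DRing.IsPseudoCoherentModule' B ↥I := by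
  unfold DRing.IsPseudoCoherentModule'
  rw [isPseudoCoherent'_iff, isPseudoCoherent'_iff]
  let π : ModuleCat.of B B ⟶ ModuleCat.of B (B ⧸ I) := ModuleCat.ofHom (Submodule.mkQ I)
  have : Epi π := (ModuleCat.epi_iff_surjective _).2 (Submodule.mkQ_surjective I)
  have hS := shortExact_kernel π
  let eK : (kernel π : ModuleCat.{u} B) ≅ ModuleCat.of B I :=
    ModuleCat.kernelIsoKer π ≪≫ (LinearEquiv.ofEq _ _ (Submodule.ker_mkQ I)).toModuleIso
  have hB : ∀ m, IsNPC (Pff B) m hS.singleTriangle.obj₂ := fun m =>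
    isNPC_single 0 (X := ModuleCat.of B B) ⟨inferInstance, inferInstance⟩ _
  constructor
  · intro h m
    have h1 : IsNPC (Pff B) (m - 1 + 1) hS.singleTriangle.obj₁ :=
      isNPC_obj₁ Pff_prod hqs_Pff hql_Pff _ hS.singleTriangle_distinguished (hB _) (h (m - 1))
    rw [sub_add_cancel] at h1
    exact h1.of_iso ((DerivedCategory.singleFunctor (ModuleCat.{u} B) 0).mapIso eK)
  · intro h m
    have h1 : IsNPC (Pff B) (m + 1) hS.singleTriangle.obj₁ :=
      IsNPC.of_iso (h (m + 1)) ((DerivedCategory.singleFunctor (ModuleCat.{u} B) 0).mapIso eK.symm)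
    exact isNPC_obj₃ Pff_prod hqs_Pff hql_Pff _ hS.singleTriangle_distinguished h1 (hB m)

end helpers

/-- Let A → B be flat and of finite presentation and I an ideal of B. Then A → B/I is a pseudo-coherent
ring map if and only if I is a pseudo-coherent B-module. -/
theorem result {A B : Type u} [CommRing A] [CommRing B] [Algebra A B] [Module.Flat A B] [Algebra.FinitePresentation A B] (I : Ideal B) :
    MoreMor.IsPseudoCoherentHom A (B ⧸ I) ↔ DRing.IsPseudoCoherentModule' B ↥I := by
  have hAB : MoreMor.IsPseudoCoherentHom A B := (Groth.Agent.S7068.result A B).1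
  rw [← isPC_quot_iff, ← Groth.Agent.Lib.Helper13.PM.isPseudoCoherentHom_iff_of_finite]
  exact ⟨fun h => Groth.Agent.Lib.Helper13.PM.isPseudoCoherentHom_of_trans A B (B ⧸ I) hAB h,
    fun h => Groth.Agent.Lib.Helper13.PM.isPseudoCoherentHom_trans A B (B ⧸ I) hAB h⟩

end Groth.Agent.S1507
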