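import Groth.Statements.S15079
import Groth.Agent.Lib.Helper20.TwistedTranslate

set_option autoImplicit false
universe u v
open MovLem

namespace Groth.Agent.S15079

/-- Let k be an infinite perfect field, r, m ≥ 1, and let f be an irreducible polynomial in t over
k[x_1, …, x_r] whose constant term in t is a unit of k[x_1, …, x_r], so that the hypersurface Z : f
= 0 in affine (r+1)-space with coordinates x_1, …, x_r, t is integral and does not meet the divisor
t = 0 (the modulus condition in cubical degree one). Then there are a nonzero polynomial h in k[x_1,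
…, x_r] and an integer s₀ such that for every s ≥ s₀, every field K over k and every point g of K^r
with h(g) ≠ 0, the translate of Z_K by the automorphism x_i ↦ x_i + t^{s(m+1)} g_i, t ↦ t is finite
and surjective over affine r-space over K: the quotient of K[x_1, …, x_r][t] by the translated
equation is a finitely generated K[x_1, …, x_r]-module and K[x_1, …, x_r] maps injectively into it.
(The published statement allows every nonzero point g of affine r-space; for r = 2 and f = x_1 t − 1
the point g = (0, 1) translates Z to itself, which is not finite over the affine plane, so the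
conclusion is stated here for g in a nonempty open subset h ≠ 0, which is what the published proof
establishes.) -/
theorem result
    {k : Type u} [Field k] [Infinite k] [PerfectField k] (r m : ℕ) (hr : 1 ≤ r) (hm : 1 ≤ m)
    (f : Polynomial (MvPolynomial (Fin r) k)) (hirr : Irreducible f) (h0 : IsUnit (f.coeff 0)) :
    ∃ h : MvPolynomial (Fin r) k, h ≠ 0 ∧ ∃ s₀ : ℕ, ∀ s : ℕ, s₀ ≤ s →
      ∀ (K : Type v) [Field K] [Algebra k K] (g : Fin r → K), MvPolynomial.aeval g h ≠ 0 →
        ∀ F : Polynomial (MvPolynomial (Fin r) K),
          F = Polynomial.eval₂ (MvPolynomial.aeval (fun i : Fin r => Polynomial.C (MvPolynomial.X i) + Polynomial.C (MvPolynomial.C (g i)) * Polynomial.X ^ (s * (m + 1))) : MvPolynomial (Fin r) k →ₐ[k] Polynomial (MvPolynomial (Fin r) K)).toRingHom Polynomial.X f →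
          Module.Finite (MvPolynomial (Fin r) K) (Polynomial (MvPolynomial (Fin r) K) ⧸ Ideal.span {F}) ∧
          Function.Injective ((Ideal.Quotient.mk (Ideal.span {F})).comp (algebraMap (MvPolynomial (Fin r) K) (Polynomial (MvPolynomial (Fin r) K)))) := by
  have hf : f ≠ 0 := hirr.ne_zero
  have hdeg : 1 ≤ f.natDegree := by
    by_contra hcon
    have h1 : f.natDegree = 0 := by omega
    have h2 : f = Polynomial.C (f.coeff 0) := Polynomial.eq_C_of_natDegree_eq_zero h1
    exact hirr.not_isUnit (h2 ▸ Polynomial.isUnit_C.2 h0)
  obtain ⟨h, a, b, hh, hab, htop⟩ := Groth.Agent.Lib.Helper20.exists_isTop_twist.{u, v} f hf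
  have hab' := hab hdeg
  refine ⟨h, hh, f.natDegree + 1, fun s hs K _ _ g hg F hF => ?_⟩
  have hN : f.natDegree < s * (m + 1) :=
    lt_of_lt_of_le (Nat.lt_of_succ_le hs) (Nat.le_mul_of_pos_right _ (Nat.succ_pos m))
  have hc0 : MvPolynomial.C (σ := Fin r) (MvPolynomial.aeval g h) ≠ 0 := by
    rwa [Ne, map_eq_zero_iff _ (MvPolynomial.C_injective _ _)]
  obtain ⟨hnat, hlead⟩ := (htop (s * (m + 1)) hN K g).leadingCoeff hc0
  have hF' : F = Polynomial.eval₂ (Groth.Agent.Lib.Helper20.twist (s * (m + 1)) g :
      MvPolynomial (Fin r) k →ₐ[k] _).toRingHom Polynomial.X f := hF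
  rw [← hF'] at hnat hlead
  have hNpos : 1 ≤ s * (m + 1) := by omega
  have hnat1 : 1 ≤ F.natDegree := by
    rw [hnat]
    rcases Nat.eq_zero_or_pos a with ha | ha
    · omega
    · exact le_trans (Nat.mul_le_mul hNpos ha) (Nat.le_add_right _ _)
  have hF0 : F ≠ 0 := by
    intro h0
    rw [h0] at hnat1
    simp at hnat1
  constructor
  · -- finiteness
    set c : K := MvPolynomial.aeval g h with hc
    have hcne : c ≠ 0 := hg
    set u : Polynomial (MvPolynomial (Fin r) K) := Polynomial.C (MvPolynomial.C c⁻¹) with hu
    have huu : IsUnit u := by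
      refine Polynomial.isUnit_C.2 (IsUnit.map MvPolynomial.C ?_)
      exact (inv_ne_zero hcne).isUnit
    have hmonic : (u * F).Monic := by
      rw [Polynomial.Monic, hu, Polynomial.leadingCoeff_mul, Polynomial.leadingCoeff_C, hlead,
        ← map_mul, inv_mul_cancel₀ hcne, map_one]
    have hspan : Ideal.span {F} = Ideal.span {u * F} :=
      (Ideal.span_singleton_mul_left_unit huu F).symm
    rw [hspan]
    exact hmonic.finite_quotient
  · have hdegF : F.degree ≠ 0 := by
      rw [Polynomial.degree_eq_natDegree hF0]
      intro h0
      have : F.natDegree = 0 := by exact_mod_cast h0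
      omega
    exact AdjoinRoot.of.injective_of_degree_ne_zero hdegF

end Groth.Agent.S15079
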