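import Groth.Statements.S15083
-- import your own Groth.Agent.* helpers here

set_option autoImplicit false
universe u
open MovLem

namespace Groth.Agent.S15083

open Matrix Matrix.SpecialLinearGroup in
private lemma diag2n_decompose {ι F : Type*} [DecidableEq ι] [Fintype ι] [Field F] {i j : ι} (hij : i ≠ j) (a : F) (ha : a ≠ 0) :
    diag2n hij a ha = SpecialLinearGroup.transvection hij a *
      SpecialLinearGroup.transvection hij.symm (- a⁻¹) *
      SpecialLinearGroup.transvection hij a *
      SpecialLinearGroup.transvection hij (-1) *
      SpecialLinearGroup.transvection hij.symm 1 *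
      SpecialLinearGroup.transvection hij (-1) := by
  ext x y
  change (diagonal (fun k ↦ if k = i then a else if k = j then a⁻¹ else 1) : Matrix ι ι F) x y = ((Matrix.transvection i j a * Matrix.transvection j i (-a⁻¹) * Matrix.transvection i j a * Matrix.transvection i j (-1) * Matrix.transvection j i 1 * Matrix.transvection i j (-1) : Matrix ι ι F)) x y
  have hji := hij.symm
  by_cases hyi : y = i
  · subst hyi
    simp only [mul_transvection_apply_same, mul_transvection_apply_of_ne _ _ _ _ hij,
      mul_transvection_apply_of_ne _ _ _ _ hji]
    by_cases hxi : x = y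
    · subst hxi
      simp [Matrix.transvection, hij, hji]
      field_simp
      ring
    · by_cases hxj : x = j
      · subst hxj
        simp [Matrix.transvection, hij, hji]
        field_simp
        ring
      · simp [Matrix.transvection, hji, hxi, hxj, Ne.symm hxi]
  · by_cases hyj : y = j
    · subst hyj
      simp only [mul_transvection_apply_same, mul_transvection_apply_of_ne _ _ _ _ hji,
        mul_transvection_apply_of_ne _ _ _ _ hij]
      by_cases hxi : x = i
      · subst hxi
        simp [Matrix.transvection, hij, hji]
        field_simp
        ring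
      · by_cases hxj : x = y
        · subst hxj
          simp [Matrix.transvection, hij, hji]
          field_simp
          ring
        · simp [Matrix.transvection, hji, hxi, hxj, Ne.symm hxi]
    · simp only [mul_transvection_apply_of_ne _ _ _ _ hyi, mul_transvection_apply_of_ne _ _ _ _ hyj]
      simp only [Matrix.transvection, Matrix.single_apply, Matrix.one_apply, Matrix.diagonal_apply,
        Matrix.add_apply]
      have h2 : ¬ (i = x ∧ j = y) := fun h => hyj h.2.symm
      by_cases hxy : x = y
      · subst hxy; simp [hyi, hyj, h2]
      · simp [hxy, h2]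

open Matrix Matrix.SpecialLinearGroup in
private lemma map_transvection' {ι : Type*} [DecidableEq ι] [Fintype ι] {R S : Type*} [CommRing R] [CommRing S] (f : R →+* S) {i j : ι} (hij : i ≠ j) (b : R) :
    SpecialLinearGroup.map f (SpecialLinearGroup.transvection hij b) = SpecialLinearGroup.transvection hij (f b) := by
  ext x y
  rw [SpecialLinearGroup.map_apply_coe]
  simp only [SpecialLinearGroup.transvection_coe, RingHom.mapMatrix_apply, Matrix.map_apply,
    Matrix.add_apply, Matrix.single_apply, Matrix.one_apply, map_add]
  congr 1
  · split_ifs <;> simp
  · split_ifs <;> simp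


/-- Let K be a field and r ≥ 1. For every element A of the special linear group SL_{r+1}(K) there is an
algebraic path in SL_{r+1} from the identity to A defined over K: a matrix M of determinant 1 with
entries in the polynomial ring K[y] such that M(0) is the identity matrix and M(1) = A. (The
published statement takes K to be the function field of SL_{r+1} over the ground field, A its
generic point viewed as a K-rational point, and the parameter space to be the projective line minus
the point 1, with endpoints 0 and ∞; this row gives the path for an arbitrary K-point A on the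
affine line with endpoints 0 and 1, which is what the published construction provides before
composing with the coordinate change y ↦ y/(y − 1).) -/
theorem result
    (K : Type u) [Field K] (r : ℕ) (hr : 1 ≤ r)
    (A : Matrix.SpecialLinearGroup (Fin (r + 1)) K) :
    ∃ M : Matrix.SpecialLinearGroup (Fin (r + 1)) (Polynomial K),
      Matrix.SpecialLinearGroup.map (Polynomial.evalRingHom (0 : K)) M = 1 ∧
      Matrix.SpecialLinearGroup.map (Polynomial.evalRingHom (1 : K)) M = A := by
  have : Nontrivial (Fin (r + 1)) := Fin.nontrivial_iff_two_le.2 (by omega)
  have htr : ∀ (i j : Fin (r + 1)) (hij : i ≠ j) (a : K), ∃ M : Matrix.SpecialLinearGroup (Fin (r + 1)) (Polynomial K),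
      Matrix.SpecialLinearGroup.map (Polynomial.evalRingHom (0 : K)) M = 1 ∧
      Matrix.SpecialLinearGroup.map (Polynomial.evalRingHom (1 : K)) M = Matrix.SpecialLinearGroup.transvection hij a := by
    intro i j hij a
    refine ⟨Matrix.SpecialLinearGroup.transvection hij (Polynomial.C a * Polynomial.X), ?_, ?_⟩
    · rw [map_transvection']; simp
    · rw [map_transvection']; simp
  have hmul : ∀ A B : Matrix.SpecialLinearGroup (Fin (r + 1)) K,
      (∃ M : Matrix.SpecialLinearGroup (Fin (r + 1)) (Polynomial K),
      Matrix.SpecialLinearGroup.map (Polynomial.evalRingHom (0 : K)) M = 1 ∧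
      Matrix.SpecialLinearGroup.map (Polynomial.evalRingHom (1 : K)) M = A) →
      (∃ M : Matrix.SpecialLinearGroup (Fin (r + 1)) (Polynomial K),
      Matrix.SpecialLinearGroup.map (Polynomial.evalRingHom (0 : K)) M = 1 ∧
      Matrix.SpecialLinearGroup.map (Polynomial.evalRingHom (1 : K)) M = B) →
      (∃ M : Matrix.SpecialLinearGroup (Fin (r + 1)) (Polynomial K),
      Matrix.SpecialLinearGroup.map (Polynomial.evalRingHom (0 : K)) M = 1 ∧
      Matrix.SpecialLinearGroup.map (Polynomial.evalRingHom (1 : K)) M = A * B) := by
    rintro A B ⟨M, hM0, hM1⟩ ⟨N, hN0, hN1⟩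
    exact ⟨M * N, by rw [map_mul, hM0, hN0, one_mul], by rw [map_mul, hM1, hN1]⟩
  refine Matrix.SpecialLinearGroup.diagonal_transvection_induction' _ A (fun i j hij c hc => ?_) htr hmul
  rw [diag2n_decompose hij c hc]
  refine hmul _ _ (hmul _ _ (hmul _ _ (hmul _ _ (hmul _ _ ?_ ?_) ?_) ?_) ?_) ?_
  all_goals exact htr _ _ _ _

end Groth.Agent.S15083
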