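import Groth.Statements.S15084
-- import your own Groth.Agent.* helpers here

set_option autoImplicit false
universe u
open MovLem

namespace Groth.Agent.S15084

/-- the ideal of denominators -/
def den (A : Type u) {K : Type u} [CommRing A] [Field K] [Algebra A K] (c : K) : Ideal A where
  carrier := {y | y • c ∈ (algebraMap A K).range}
  add_mem' := by
    intro x y hx hy
    change (x + y) • c ∈ (algebraMap A K).range
    rw [add_smul]
    exact add_mem hx hy
  zero_mem' := ⟨0, by rw [map_zero, zero_smul]⟩
  smul_mem' := by
    intro r x hx
    obtain ⟨w, hw⟩ := hx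
    exact ⟨r * w, by rw [map_mul, hw, smul_eq_mul, mul_smul, Algebra.smul_def r]⟩

theorem mem_den {A : Type u} {K : Type u} [CommRing A] [Field K] [Algebra A K] {c : K} {y : A} :
    y ∈ den A c ↔ y • c ∈ (algebraMap A K).range := Iff.rfl

/-- Let A be a Noetherian integrally closed domain with fraction field K, let B be a domain with
fraction field L, and let A → B be an injective ring homomorphism, with K → L the induced map of
fraction fields, such that Spec B → Spec A is surjective (every prime ideal of A is the contraction
of a prime ideal of B). If a ∈ K is such that its image in L lies in B, then a ∈ A. (The published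
statement: for a surjective morphism f : Y → X of normal integral separated schemes of finite type
over a perfect field and a Cartier divisor D on X, if f^*D is effective then D is effective; a
Cartier divisor is locally the divisor of a nonzero rational function a, effectivity of div(a) on a
normal scheme means that a is a regular function, and this row is that local statement, which is
what the published proof establishes.) -/
theorem result
    (A B K L : Type u) [CommRing A] [IsDomain A] [IsNoetherianRing A] [IsIntegrallyClosed A]
    [CommRing B] [IsDomain B] [Field K] [Field L]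
    [Algebra A B] [Algebra A K] [IsFractionRing A K] [Algebra B L] [IsFractionRing B L]
    [Algebra K L] [Algebra A L] [IsScalarTower A K L] [IsScalarTower A B L]
    (hinj : Function.Injective (algebraMap A B))
    (hsurj : ∀ p : Ideal A, p.IsPrime → ∃ q : Ideal B, q.IsPrime ∧ q.comap (algebraMap A B) = p)
    (a : K) (ha : algebraMap K L a ∈ (algebraMap B L).range) :
    a ∈ (algebraMap A K).range := by
  by_contra hna
  -- the set of denominator ideals of non-integral multiples of `a`
  let S : Set (Ideal A) := {I | ∃ z : A, z • a ∉ (algebraMap A K).range ∧ I = den A (z • a)}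
  have hS : S.Nonempty := ⟨den A ((1 : A) • a), 1, by rwa [one_smul], rfl⟩
  obtain ⟨p, ⟨z₀, hz₀, rfl⟩, hmax⟩ := set_has_maximal_iff_noetherian.2 ‹IsNoetherianRing A› S hS
  set a' : K := z₀ • a with ha'
  -- a' still maps into B
  have ha'B : algebraMap K L a' ∈ (algebraMap B L).range := by
    obtain ⟨b, hb⟩ := ha
    refine ⟨algebraMap A B z₀ * b, ?_⟩
    rw [map_mul, hb, ha', Algebra.smul_def, map_mul, ← IsScalarTower.algebraMap_apply A B L,
      ← IsScalarTower.algebraMap_apply A K L]
  have hone : (1 : A) ∉ den A a' := by
    rw [mem_den, one_smul]; exact hz₀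
  -- primality
  have hprime : (den A a').IsPrime := by
    refine ⟨fun h => hone (h ▸ Submodule.mem_top), ?_⟩
    intro x y hxy
    by_contra hcon
    obtain ⟨hx, hy⟩ := not_or.1 hcon
    have hx' : (x * z₀) • a ∉ (algebraMap A K).range := by
      rw [mul_smul]; exact hx
    have hle : den A a' ≤ den A ((x * z₀) • a) := by
      intro w hw
      rw [mem_den] at hw ⊢
      obtain ⟨v, hv⟩ := hw
      refine ⟨x * v, ?_⟩
      rw [map_mul, hv, mul_smul, smul_comm w x, Algebra.smul_def x]
    have hymem : y ∈ den A ((x * z₀) • a) := by
      rw [mem_den, mul_smul, ← mul_smul, mul_comm y x]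
      exact hxy
    have hlt : den A a' < den A ((x * z₀) • a) :=
      lt_of_le_of_ne hle (fun h => hy (h ▸ hymem))
    exact hmax _ ⟨x * z₀, hx', rfl⟩ hlt
  obtain ⟨q, hq, hqp⟩ := hsurj _ hprime
  by_cases hcase : ∀ u ∈ den A a', ∃ v ∈ den A a', algebraMap A K v = u • a'
  · -- integrality
    have hint : IsIntegral A a' := by
      refine isIntegral_of_smul_mem_submodule (M := K)
        (Submodule.map (Algebra.linearMap A K) (den A a')) ?_ ?_ a' ?_
      · -- nonzero
        obtain ⟨⟨x, y⟩, hxy⟩ := IsLocalization.surj (nonZeroDivisors A) a'
        have hy0 : (y : A) ≠ 0 := nonZeroDivisors.coe_ne_zero y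
        have hymem : (y : A) ∈ den A a' := by
          rw [mem_den]
          exact ⟨x, by rw [← hxy, Algebra.smul_def, mul_comm]⟩
        intro hbot
        have : algebraMap A K y ∈ Submodule.map (Algebra.linearMap A K) (den A a') :=
          ⟨y, hymem, rfl⟩
        rw [hbot, Submodule.mem_bot] at this
        exact hy0 ((injective_iff_map_eq_zero _).1 (IsFractionRing.injective A K) _ this)
      · exact Submodule.FG.map _ (IsNoetherian.noetherian _)
      · rintro _ ⟨u, hu, rfl⟩
        obtain ⟨v, hv, hvu⟩ := hcase u hu
        refine ⟨v, hv, ?_⟩
        rw [Algebra.linearMap_apply, Algebra.linearMap_apply, hvu, Algebra.smul_def, smul_eq_mul,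
          mul_comm]
    exact hz₀ (IsIntegrallyClosed.isIntegral_iff.1 hint)
  · push Not at hcase
    obtain ⟨u, hu, huv⟩ := hcase
    obtain ⟨s, hs⟩ := hu
    have hsp : s ∉ den A a' := fun h => huv s h hs
    apply hsp
    rw [← hqp, Ideal.mem_comap]
    obtain ⟨b, hb⟩ := ha'B
    have : algebraMap A B s = algebraMap A B u * b := by
      apply IsFractionRing.injective B L
      rw [map_mul, hb, ← IsScalarTower.algebraMap_apply A B L, ← IsScalarTower.algebraMap_apply A B L,
        IsScalarTower.algebraMap_apply A K L, hs, Algebra.smul_def, map_mul,
        ← IsScalarTower.algebraMap_apply A K L]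
    rw [this]
    apply Ideal.mul_mem_right
    rw [← Ideal.mem_comap, hqp]
    exact ⟨s, hs⟩

end Groth.Agent.S15084
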