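import Groth.Statements.S15115
import Mathlib
import Groth.Agent.Lib.Helper7.ComodLR

set_option autoImplicit false
universe u
open HopfRep

namespace S15115aux
open TensorProduct HopfRep Groth.Agent.Lib.Helper7.Comod

/-- scalar multiplication by `a` is a comodule map if the coaction is `A`-linear. -/
lemma isComodHom_smul {k : Type u} [Field k] {H : Type u} [CommRing H] [HopfAlgebra k H]
    {A : Type u} [CommRing A] [Algebra k A]
    {M : Type u} [AddCommGroup M] [Module k M] [Module A M] [IsScalarTower k A M]
    [HopfRep.Comod k H M]
    (hlin : ∀ (a : A) (m : M), HopfRep.Comod.coact (k := k) (A := H) (a • m) =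
      a • HopfRep.Comod.coact (k := k) (A := H) m) (a : A) :
    Hoch.IsComodHom H (DistribSMul.toLinearMap k M a) := by
  rw [isComodHom_iff]
  intro m
  have h : ∀ z : M ⊗[k] H, a • z = (DistribSMul.toLinearMap k M a).rTensor H z := by
    intro z
    induction z using TensorProduct.induction_on with
    | zero => simp
    | tmul x y => rw [TensorProduct.smul_tmul', LinearMap.rTensor_tmul]; rfl
    | add x y hx hy => rw [smul_add, hx, hy, map_add]
  change HopfRep.Comod.coact (k := k) (A := H) (a • m) = _
  rw [hlin, h]

theorem main (k : Type u) [Field k]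
    (H : Type u) [CommRing H] [HopfAlgebra k H] (hred : HopfRep.IsLinearlyReductive k H)
    (A : Type u) [CommRing A] [Algebra k A]
    (M : Type u) [AddCommGroup M] [Module k M] [Module A M] [IsScalarTower k A M] [HopfRep.Comod k H M]
    (hlin : ∀ (a : A) (m : M), HopfRep.Comod.coact (k := k) (A := H) (a • m) = a • HopfRep.Comod.coact (k := k) (A := H) m)
    (A' : Type u) [CommRing A'] [Algebra k A'] [Algebra A A'] [IsScalarTower k A A']
    (N : Type u) [AddCommGroup N] [Module k N] [Module A N] [Module A' N]
    [IsScalarTower k A N] [IsScalarTower A A' N] [IsScalarTower k A' N] [HopfRep.Comod k H N]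
    (φ : M →ₗ[A] N) (hφ : IsBaseChange A' φ)
    (hcomp : ∀ m : M, HopfRep.Comod.coact (k := k) (A := H) (φ m) =
      LinearMap.rTensor H (φ.restrictScalars k) (HopfRep.Comod.coact (k := k) (A := H) m))
    (hlinN : ∀ (a' : A') (n : N), HopfRep.Comod.coact (k := k) (A := H) (a' • n) = a' • HopfRep.Comod.coact (k := k) (A := H) n)
    (P : Submodule A M) (hP : (P : Set M) = (HopfRep.fixedPts k H M : Set M)) :
    Function.Injective (TensorProduct.lift (((Algebra.lsmul A A N : A' →ₐ[A] Module.End A N).toLinearMap).compl₂ (φ ∘ₗ P.subtype))) ∧
      Set.range (TensorProduct.lift (((Algebra.lsmul A A N : A' →ₐ[A] Module.End A N).toLinearMap).compl₂ (φ ∘ₗ P.subtype))) =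
        (HopfRep.fixedPts k H N : Set N) := by
  have hM := isSemisimpleComod_of_isLinearlyReductive hred M
  have hN := isSemisimpleComod_of_isLinearlyReductive hred N
  obtain ⟨EM, hEM⟩ := exists_isReynolds hM
  obtain ⟨EN, hEN⟩ := exists_isReynolds hN
  have hmemP : ∀ m : M, m ∈ P ↔ m ∈ HopfRep.fixedPts k H M := by
    intro m
    have : m ∈ (P : Set M) ↔ m ∈ (HopfRep.fixedPts k H M : Set M) := by rw [hP]
    exact this
  -- EM is A-linear
  have hEMlin : ∀ (a : A) (m : M), EM (a • m) = a • EM m := by
    intro a m
    have := LinearMap.congr_fun (IsReynolds.comp_eq hM hEM hEM (isComodHom_smul hlin a)) m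
    exact this
  have hENlin : ∀ (a' : A') (n : N), EN (a' • n) = a' • EN n := by
    intro a' n
    have := LinearMap.congr_fun (IsReynolds.comp_eq hN hEN hEN (isComodHom_smul hlinN a')) n
    exact this
  have hφhom : Hoch.IsComodHom H (φ.restrictScalars k) := by
    rw [isComodHom_iff]
    exact hcomp
  have hENφ : ∀ m : M, EN (φ m) = φ (EM m) := by
    intro m
    exact LinearMap.congr_fun (IsReynolds.comp_eq hM hEM hEN hφhom) m
  -- the retraction
  let r : M →ₗ[A] P :=
    { toFun := fun m => ⟨EM m, (hmemP _).mpr (hEM.apply_mem m)⟩
      map_add' := fun x y => by ext; simp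
      map_smul' := fun a x => by ext; simp [hEMlin] }
  have hr : r ∘ₗ P.subtype = LinearMap.id := by
    ext p
    simp only [LinearMap.comp_apply, Submodule.subtype_apply, LinearMap.id_apply, r,
      LinearMap.coe_mk, AddHom.coe_mk]
    exact (hEM.2.2 _).mpr ((hmemP _).mp p.2)
  set T := TensorProduct.lift (((Algebra.lsmul A A N : A' →ₐ[A] Module.End A N).toLinearMap).compl₂
    (φ ∘ₗ P.subtype)) with hT
  have hTtmul : ∀ (a' : A') (p : P), T (a' ⊗ₜ p) = a' • φ (p : M) := by
    intro a' p
    simp [hT]
  have hTeq : ∀ x : A' ⊗[A] P, T x = hφ.equiv (LinearMap.lTensor A' P.subtype x) := by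
    intro x
    induction x using TensorProduct.induction_on with
    | zero => simp
    | tmul a' p => rw [hTtmul, LinearMap.lTensor_tmul, IsBaseChange.equiv_tmul]; rfl
    | add x y hx hy => rw [map_add, hx, hy, map_add, map_add]
  refine ⟨?_, ?_⟩
  · intro x y hxy
    rw [hTeq, hTeq] at hxy
    have h1 := hφ.equiv.injective hxy
    have h2 : Function.LeftInverse (LinearMap.lTensor A' r) (LinearMap.lTensor A' P.subtype) := by
      intro z
      rw [← LinearMap.comp_apply, ← LinearMap.lTensor_comp, hr, LinearMap.lTensor_id,
        LinearMap.id_apply]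
    exact h2.injective h1
  · apply Set.Subset.antisymm
    · rintro _ ⟨x, rfl⟩
      change T x ∈ HopfRep.fixedPts k H N
      induction x using TensorProduct.induction_on with
      | zero => rw [map_zero]; exact zero_mem _
      | tmul a' p =>
        rw [hTtmul]
        have hp : (p : M) ∈ HopfRep.fixedPts k H M := (hmemP _).mp p.2
        have h1 : φ (p : M) ∈ HopfRep.fixedPts k H N := map_mem_fixedPts hφhom hp
        exact map_mem_fixedPts (isComodHom_smul hlinN a') h1
      | add x y hx hy => rw [map_add]; exact add_mem hx hy
    · intro n hn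
      have hn' : EN n = n := (hEN.2.2 n).mpr hn
      have key : ∀ y : A' ⊗[A] M, EN (hφ.equiv y) ∈ Set.range T := by
        intro y
        induction y using TensorProduct.induction_on with
        | zero => exact ⟨0, by simp⟩
        | tmul a' m =>
          refine ⟨a' ⊗ₜ r m, ?_⟩
          rw [hTtmul, IsBaseChange.equiv_tmul, hENlin, hENφ]
          rfl
        | add x y hx hy =>
          obtain ⟨x', hx'⟩ := hx
          obtain ⟨y', hy'⟩ := hy
          exact ⟨x' + y', by rw [map_add, hx', hy', map_add, map_add]⟩
      obtain ⟨y, rfl⟩ := hφ.equiv.surjective n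
      rw [← hn']
      exact key y

end S15115aux

namespace Groth.Agent.S15115

open TensorProduct in
/-- Let k be an algebraically closed field, H a finite-dimensional commutative Hopf algebra over k all
of whose finite-dimensional comodules are semisimple (a finite linearly reductive group scheme G
over k), A a commutative k-algebra, and M an A-module with an H-coaction that is A-linear (G acts on
M by A-module maps, A carrying the trivial action). Let A' be a commutative A-algebra and N = A' ⊗_A
M its base change, exhibited by an A-linear map φ : M → N, with the induced coaction: A'-linear and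
compatible with φ. Then invariants commute with this base change: writing M^G for the A-submodule of
coinvariant elements of M, the natural map A' ⊗_A M^G → N, a' ⊗ m ↦ a' φ(m), is injective and its
image is exactly the set of coinvariant elements of N. (The published statement is the isomorphism
ρ^* π_* F → π'_* σ^* F for a tame Deligne–Mumford stack with coarse moduli space π and any base
change ρ of the coarse space; this row is the statement about invariants to which its proof reduces
it, for modules that need not be finitely generated.) -/
theorem result (k : Type u) [Field k] [IsAlgClosed k]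
    (H : Type u) [CommRing H] [HopfAlgebra k H] [Module.Finite k H] (hred : HopfRep.IsLinearlyReductive k H)
    (A : Type u) [CommRing A] [Algebra k A]
    (M : Type u) [AddCommGroup M] [Module k M] [Module A M] [IsScalarTower k A M] [HopfRep.Comod k H M]
    (hlin : ∀ (a : A) (m : M), HopfRep.Comod.coact (k := k) (A := H) (a • m) = a • HopfRep.Comod.coact (k := k) (A := H) m)
    (A' : Type u) [CommRing A'] [Algebra k A'] [Algebra A A'] [IsScalarTower k A A']
    (N : Type u) [AddCommGroup N] [Module k N] [Module A N] [Module A' N]
    [IsScalarTower k A N] [IsScalarTower A A' N] [IsScalarTower k A' N] [HopfRep.Comod k H N]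
    (φ : M →ₗ[A] N) (hφ : IsBaseChange A' φ)
    (hcomp : ∀ m : M, HopfRep.Comod.coact (k := k) (A := H) (φ m) =
      LinearMap.rTensor H (φ.restrictScalars k) (HopfRep.Comod.coact (k := k) (A := H) m))
    (hlinN : ∀ (a' : A') (n : N), HopfRep.Comod.coact (k := k) (A := H) (a' • n) = a' • HopfRep.Comod.coact (k := k) (A := H) n)
    (P : Submodule A M) (hP : (P : Set M) = (HopfRep.fixedPts k H M : Set M)) :
    Function.Injective (TensorProduct.lift (((Algebra.lsmul A A N : A' →ₐ[A] Module.End A N).toLinearMap).compl₂ (φ ∘ₗ P.subtype))) ∧
      Set.range (TensorProduct.lift (((Algebra.lsmul A A N : A' →ₐ[A] Module.End A N).toLinearMap).compl₂ (φ ∘ₗ P.subtype))) =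
        (HopfRep.fixedPts k H N : Set N) := by
  exact S15115aux.main k H hred A M hlin A' N φ hφ hcomp hlinN P hP

end Groth.Agent.S15115
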