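import Groth.Statements.S15122
-- import your own Groth.Agent.* helpers here

set_option autoImplicit false
universe u v w
open GIT

namespace Groth.Agent.S15122

/-- Let R be a commutative ring, A a commutative R-algebra graded by the natural numbers, σ a
homogeneous element of degree zero, and B the localisation of A away from σ, equipped with a grading
by the natural numbers for which the localisation map ι : A → B is a graded ring homomorphism (such
a grading is necessarily the one induced from A). Then the homogeneous ideal of B generated by the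
image of the irrelevant ideal of A is the whole irrelevant ideal of B; in other words the induced
rational map from Proj B to Proj A is defined everywhere. (The published statement also assumes σ a
non-zero-divisor, which this step does not use, and goes on to conclude that Proj B → Proj A is an
open immersion onto the basic open set of σ.) -/
theorem result
    (R : Type u) (A : Type v) (B : Type w) [CommRing R] [CommRing A] [CommRing B] [Algebra R A] [Algebra R B]
    [Algebra A B] [IsScalarTower R A B]
    (𝒜 : ℕ → Submodule R A) [GradedAlgebra 𝒜] (ℬ : ℕ → Submodule R B) [GradedAlgebra ℬ]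
    (σ : A) (hσ0 : σ ∈ 𝒜 0) [IsLocalization.Away σ B]
    (ι : 𝒜 →+*ᵍ ℬ) (hι : ∀ a : A, ι a = algebraMap A B a) :
    (HomogeneousIdeal.irrelevant 𝒜).map ι = HomogeneousIdeal.irrelevant ℬ := by
  refine le_antisymm ?_ ?_
  · rw [HomogeneousIdeal.map_le_iff_le_comap, HomogeneousIdeal.irrelevant_le]
    intro i hi x hx
    exact HomogeneousIdeal.mem_irrelevant_of_mem ℬ hi (ι.map_mem hx)
  · rw [HomogeneousIdeal.irrelevant_le]
    intro n hn b hb
    change b ∈ ℬ n at hb
    change b ∈ ((HomogeneousIdeal.irrelevant 𝒜).map ι).toIdeal
    rw [HomogeneousIdeal.toIdeal_map]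
    obtain ⟨m, a, hma⟩ := IsLocalization.Away.surj σ b
    have hσu : IsUnit (algebraMap A B σ) := IsLocalization.Away.algebraMap_isUnit σ
    have hσ0' : algebraMap A B σ ∈ ℬ 0 := by
      rw [← hι]; exact ι.map_mem hσ0
    have hpow : algebraMap A B σ ^ m ∈ ℬ 0 := by
      have := SetLike.pow_mem_graded m hσ0'
      rwa [smul_zero] at this
    have hmem : algebraMap A B a ∈ ℬ n := by
      rw [← hma]
      have := SetLike.GradedMul.mul_mem hb hpow
      rwa [add_zero] at this
    -- the degree `n` component of `a`
    have h1 : ι (DirectSum.decompose 𝒜 a n : A) = algebraMap A B a := by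
      rw [ι.map_directSumDecompose, hι, DirectSum.decompose_of_mem_same ℬ hmem]
    have h2 : (DirectSum.decompose 𝒜 a n : A) ∈ (HomogeneousIdeal.irrelevant 𝒜).toIdeal :=
      HomogeneousIdeal.mem_irrelevant_of_mem 𝒜 hn (DirectSum.decompose 𝒜 a n).2
    have h3 : b * algebraMap A B σ ^ m ∈ (HomogeneousIdeal.irrelevant 𝒜).toIdeal.map ι := by
      rw [hma, ← h1]
      exact Ideal.mem_map_of_mem _ h2
    obtain ⟨u, hu⟩ := hσu.pow m
    have : b = (b * algebraMap A B σ ^ m) * (↑u⁻¹ : B) := by
      rw [← hu, mul_assoc, Units.mul_inv, mul_one]
    rw [this]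
    exact Ideal.mul_mem_right _ _ h3

end Groth.Agent.S15122
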