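import Groth.Statements.S15126
import Mathlib

set_option autoImplicit false
universe u
open Formal

namespace Groth.Agent.S15126

section
variable (k : Type u) [Field k] (n : ℕ) (R : Type u) [CommRing R] [Algebra (MvPowerSeries (Fin n) k) R]

/-- evaluation of the free algebra at a homomorphism. -/
noncomputable def ev {k : Type u} [Field k] {n : ℕ} {R : Type u} [CommRing R]
    [Algebra (MvPowerSeries (Fin n) k) R] {Q : Type u} [CommRing Q] [Algebra k Q]
    (f : R →ₐ[MvPowerSeries (Fin n) k] MvPowerSeries (Fin n) Q) :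
    MvPolynomial (R × (Fin n →₀ ℕ)) k →ₐ[k] Q :=
  MvPolynomial.aeval (fun p => MvPowerSeries.coeff p.2 (f p.1))

@[simp] lemma ev_X {Q : Type u} [CommRing Q] [Algebra k Q]
    (f : R →ₐ[MvPowerSeries (Fin n) k] MvPowerSeries (Fin n) Q) (r : R) (m : Fin n →₀ ℕ) :
    ev f (MvPolynomial.X (r, m)) = MvPowerSeries.coeff m (f r) := by
  simp [ev]

/-- the ideal of relations. -/
def relIdeal : Ideal (MvPolynomial (R × (Fin n →₀ ℕ)) k) where
  carrier := {p | ∀ (Q : Type u) [CommRing Q] [Algebra k Q]
    (f : R →ₐ[MvPowerSeries (Fin n) k] MvPowerSeries (Fin n) Q), ev f p = 0}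
  add_mem' := by
    intro a b ha hb Q _ _ f
    rw [map_add, ha Q f, hb Q f, add_zero]
  zero_mem' := by
    intro Q _ _ f
    exact map_zero _
  smul_mem' := by
    intro c a ha Q _ _ f
    rw [smul_eq_mul, map_mul, ha Q f, mul_zero]

lemma mem_relIdeal (p : MvPolynomial (R × (Fin n →₀ ℕ)) k) :
    p ∈ relIdeal k n R ↔ ∀ (Q : Type u) [CommRing Q] [Algebra k Q]
      (f : R →ₐ[MvPowerSeries (Fin n) k] MvPowerSeries (Fin n) Q), ev f p = 0 := Iff.rfl

lemma mk_eq_of_forall (p p' : MvPolynomial (R × (Fin n →₀ ℕ)) k)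
    (h : ∀ (Q : Type u) [CommRing Q] [Algebra k Q]
      (f : R →ₐ[MvPowerSeries (Fin n) k] MvPowerSeries (Fin n) Q), ev f p = ev f p') :
    Ideal.Quotient.mk (relIdeal k n R) p = Ideal.Quotient.mk (relIdeal k n R) p' := by
  rw [Ideal.Quotient.eq, mem_relIdeal]
  intro Q _ _ f
  rw [map_sub, h Q f, sub_self]

/-- the universal map, as a function. -/
noncomputable def uFun (r : R) :
    MvPowerSeries (Fin n) (MvPolynomial (R × (Fin n →₀ ℕ)) k ⧸ relIdeal k n R) :=
  fun m => Ideal.Quotient.mk (relIdeal k n R) (MvPolynomial.X (r, m))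

lemma coeff_uFun (r : R) (m : Fin n →₀ ℕ) :
    MvPowerSeries.coeff m (uFun k n R r) =
      Ideal.Quotient.mk (relIdeal k n R) (MvPolynomial.X (r, m)) := rfl

lemma uFun_add (r s : R) : uFun k n R (r + s) = uFun k n R r + uFun k n R s := by
  ext m
  rw [map_add, coeff_uFun, coeff_uFun, coeff_uFun, ← map_add]
  apply mk_eq_of_forall
  intro Q _ _ f
  simp

lemma uFun_mul (r s : R) : uFun k n R (r * s) = uFun k n R r * uFun k n R s := by
  classical
  ext m
  rw [MvPowerSeries.coeff_mul, coeff_uFun]
  simp only [coeff_uFun]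
  simp only [← map_mul]
  rw [← map_sum]
  apply mk_eq_of_forall
  intro Q _ _ f
  simp [MvPowerSeries.coeff_mul]

lemma uFun_algebraMap (p : MvPowerSeries (Fin n) k) :
    uFun k n R (algebraMap _ R p) = algebraMap (MvPowerSeries (Fin n) k)
      (MvPowerSeries (Fin n) (MvPolynomial (R × (Fin n →₀ ℕ)) k ⧸ relIdeal k n R)) p := by
  ext m
  rw [MvPowerSeries.algebraMap_apply'', MvPowerSeries.coeff_map, coeff_uFun]
  rw [show algebraMap k (MvPolynomial (R × (Fin n →₀ ℕ)) k ⧸ relIdeal k n R)
      (MvPowerSeries.coeff m p) = Ideal.Quotient.mk (relIdeal k n R)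
      (MvPolynomial.C (MvPowerSeries.coeff m p)) from rfl]
  apply mk_eq_of_forall
  intro Q _ _ f
  rw [ev_X, AlgHom.commutes, MvPowerSeries.algebraMap_apply'', MvPowerSeries.coeff_map]
  rw [ev, MvPolynomial.aeval_C]

/-- the universal map. -/
noncomputable def uHom : R →ₐ[MvPowerSeries (Fin n) k]
    MvPowerSeries (Fin n) (MvPolynomial (R × (Fin n →₀ ℕ)) k ⧸ relIdeal k n R) where
  toFun := uFun k n R
  map_one' := by
    have := uFun_algebraMap k n R 1
    rwa [map_one, map_one] at this
  map_mul' := uFun_mul k n R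
  map_zero' := by
    have := uFun_algebraMap k n R 0
    rwa [map_zero, map_zero] at this
  map_add' := uFun_add k n R
  commutes' := uFun_algebraMap k n R

lemma coeff_uHom (r : R) (m : Fin n →₀ ℕ) :
    MvPowerSeries.coeff m (uHom k n R r) =
      Ideal.Quotient.mk (relIdeal k n R) (MvPolynomial.X (r, m)) := rfl

end

/-- Affine case. Let k be a field, n > 0, and R a commutative algebra over the power series ring
k[[z_1,…,z_n]]; for a commutative k-algebra Q regard Q[[z_1,…,z_n]] as a k[[z]]-algebra
coefficientwise. Then the functor Q ↦ Hom_{k[[z]]-alg}(R, Q[[z]]) on commutative k-algebras is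
corepresentable: there exist a commutative k-algebra P and a k[[z]]-algebra homomorphism u : R →
P[[z]] such that every k[[z]]-algebra homomorphism R → Q[[z]] arises from u by applying a unique
k-algebra homomorphism P → Q coefficientwise. If moreover R is countably generated as a
k[[z]]-algebra, P may be taken countably generated over k. (The published statement is for an adic
formal scheme Y over the formal disc Spf k[[z]], asserting that the sheaf of sections of Y over the
disc is a scheme, affine over the fibre of Y at the origin, and of pro-finite type when Y is; this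
row is the case Y = Spf R, to which the published argument reduces, stated for the underlying
algebra R; k is algebraically closed there, which is not used.) -/
theorem result
    (k : Type u) [Field k] (n : ℕ) (hn : 0 < n)
    (R : Type u) [CommRing R] [Algebra (MvPowerSeries (Fin n) k) R] :
    ∃ (P : Type u) (_ : CommRing P) (_ : Algebra k P)
      (u : R →ₐ[MvPowerSeries (Fin n) k] MvPowerSeries (Fin n) P),
      (∀ (Q : Type u) [CommRing Q] [Algebra k Q]
          (f : R →ₐ[MvPowerSeries (Fin n) k] MvPowerSeries (Fin n) Q),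
          ∃! g : P →ₐ[k] Q,
            (MvPowerSeries.map (σ := Fin n) (g : P →+* Q)).comp (u : R →+* MvPowerSeries (Fin n) P) =
              (f : R →+* MvPowerSeries (Fin n) Q)) ∧
      ((∃ s : Set R, s.Countable ∧ Algebra.adjoin (MvPowerSeries (Fin n) k) s = ⊤) →
        ∃ t : Set P, t.Countable ∧ Algebra.adjoin k t = ⊤) := by
  refine ⟨MvPolynomial (R × (Fin n →₀ ℕ)) k ⧸ relIdeal k n R, inferInstance, inferInstance,
    uHom k n R, ?_, ?_⟩
  · intro Q _ _ f
    refine ⟨Ideal.Quotient.liftₐ (relIdeal k n R) (ev f) (fun a ha => ha Q f), ?_, ?_⟩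
    · ext r m
      simp only [RingHom.comp_apply, RingHom.coe_coe, MvPowerSeries.coeff_map, coeff_uHom]
      rw [Ideal.Quotient.liftₐ_apply, Ideal.Quotient.lift_mk]
      exact ev_X k n R f r m
    · intro g' hg'
      apply Ideal.Quotient.algHom_ext
      apply MvPolynomial.algHom_ext
      rintro ⟨r, m⟩
      have h1 := congrArg (fun φ => MvPowerSeries.coeff m (φ r)) hg'
      simp only [RingHom.comp_apply, RingHom.coe_coe, MvPowerSeries.coeff_map, coeff_uHom] at h1
      simp only [AlgHom.comp_apply, Ideal.Quotient.mkₐ_eq_mk]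
      rw [h1, Ideal.Quotient.liftₐ_apply, Ideal.Quotient.lift_mk]
      exact (ev_X k n R f r m).symm
  · rintro ⟨s, hs, hs'⟩
    set I := relIdeal k n R with hI
    refine ⟨(fun p : R × (Fin n →₀ ℕ) => Ideal.Quotient.mk I (MvPolynomial.X p)) ''
      (s ×ˢ Set.univ), (hs.prod Set.countable_univ).image _, ?_⟩
    set P' := Algebra.adjoin k ((fun p : R × (Fin n →₀ ℕ) => Ideal.Quotient.mk I (MvPolynomial.X p)) ''
      (s ×ˢ Set.univ)) with hP'
    let T : Subalgebra (MvPowerSeries (Fin n) k) R :=
      { carrier := {r | ∀ m, Ideal.Quotient.mk I (MvPolynomial.X (r, m)) ∈ P'}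
        mul_mem' := by
          classical
          intro a b ha hb m
          have := congrArg (MvPowerSeries.coeff m) (uFun_mul k n R a b)
          rw [MvPowerSeries.coeff_mul, coeff_uFun] at this
          rw [this]
          refine Subalgebra.sum_mem _ (fun x _ => Subalgebra.mul_mem _ (ha _) (hb _))
        add_mem' := by
          intro a b ha hb m
          have := congrArg (MvPowerSeries.coeff m) (uFun_add k n R a b)
          rw [map_add, coeff_uFun] at this
          rw [this]
          exact Subalgebra.add_mem _ (ha _) (hb _)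
        algebraMap_mem' := by
          intro p m
          have := congrArg (MvPowerSeries.coeff m) (uFun_algebraMap k n R p)
          rw [MvPowerSeries.algebraMap_apply'', MvPowerSeries.coeff_map, coeff_uFun] at this
          rw [this]
          exact Subalgebra.algebraMap_mem _ _ }
    have hT : T = ⊤ := by
      rw [eq_top_iff, ← hs']
      apply Algebra.adjoin_le
      intro r hr m
      apply Algebra.subset_adjoin
      exact ⟨(r, m), ⟨hr, Set.mem_univ _⟩, rfl⟩
    rw [eq_top_iff]
    have h2 : (⊤ : Subalgebra k (MvPolynomial (R × (Fin n →₀ ℕ)) k ⧸ I)) =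
        Subalgebra.map (Ideal.Quotient.mkₐ k I) ⊤ := by
      rw [Algebra.map_top, (AlgHom.range_eq_top _).mpr (Ideal.Quotient.mkₐ_surjective k I)]
    rw [h2, ← MvPolynomial.adjoin_range_X, AlgHom.map_adjoin]
    apply Algebra.adjoin_le
    rintro _ ⟨_, ⟨⟨r, m⟩, rfl⟩, rfl⟩
    have : r ∈ T := hT ▸ Algebra.mem_top
    exact this m

end Groth.Agent.S15126
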