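import Groth.Statements.S15131
import Groth.Agent.Lib.Helper1.ArtFunDef

set_option autoImplicit false
universe u v
open CategoryTheory
open ArtFun

namespace Groth.Agent.S15131

open Groth.Agent.Lib.Helper1.ArtFunLib ArtFun.Art

/-- Let k be a field and F a functor on local Artinian k-algebras with residue field k with F(k) a
single point, satisfying (H1) (the comparison map of A₁ ×_A A₂ is surjective when A₂ → A is a small
extension) and (H2) (it is bijective when A = k and A₂ = k[ε]). If the tangent space F(k[ε]) is a
single point then F is the one-point functor: every F(A) has exactly one element. (The converse is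
clear.) -/
theorem result
    {k : Type u} [Field k] (F : ArtFun.Art k k ⥤ Type v)
    (h0 : ArtFun.H0 F) (h1 : ArtFun.Hbar F) (h2 : ArtFun.Heps F)
    (ht : Subsingleton (ArtFun.TangentSpace F)) (A : ArtFun.Art k k) :
    Nonempty (F.obj A) ∧ Subsingleton (F.obj A) := by
  have : IsNoetherianRing k := inferInstance
  have : Module.Finite k k := inferInstance
  constructor
  · obtain ⟨x⟩ := h0.1
    let s : Art.base k k ⟶ A := ⟨Algebra.ofId k A, by
      apply AlgHom.ext
      intro c
      change A.res (algebraMap k A c) = c
      rw [AlgHom.commutes]
      rfl⟩
    exact ⟨F.map s x⟩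
  · have key : Subsingleton (F.obj (Art.base k k)) → Subsingleton (F.obj A) := by
      refine surjective_induction
        (fun A B f => Subsingleton (F.obj A) → Subsingleton (F.obj B)) ?_ ?_ ?_
        (Art.toBase A) A.res_surjective
      · intro A B e he hA
        refine ⟨fun y y' => ?_⟩
        have : F.map e y = F.map e y' := Subsingleton.elim _ _
        have := congrArg (F.map (inv e)) this
        rwa [map_inv_map, map_inv_map] at this
      · intro A B p hp hA
        refine ⟨fun y y' => ?_⟩
        obtain ⟨P, π₁, π₂, hP⟩ := exists_isFibreProd_of_surjective p p hp.1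
        obtain ⟨t, ht'⟩ := exists_generator hp
        have hyA : F.map p y = F.map p y' := Subsingleton.elim _ _
        obtain ⟨w, hw1, hw2⟩ := (cmp_surjective_iff F hP).1 (h1 π₁ π₂ p p hP hp) y y' hyA
        have hθ : F.map (deltaHom hp ht' hP) w = zeroT h0 := @Subsingleton.elim _ ht _ _
        have := map_snd_eq_map_fst_of_zero h0 hp ht' hP (h2 _ _ (isFibreProd_deltaHom hp ht' hP)).1 w hθ
        rw [hw1, hw2] at this
        exact this.symm
      · intro A B C p q hp hq hA
        exact hp (hq hA)
    exact key h0.2

end Groth.Agent.S15131
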