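import Groth.Statements.S15133
import Mathlib
import Groth.Agent.Lib.Helper2.ArtinFlat

set_option autoImplicit false
universe u
open CategoryTheory
open CAlg

namespace Groth.Agent.S15133

/-- Let A be an Artinian local ring with residue field k, n ≥ 1, and 0 → I → P₀ → P₁ → ⋯ → Pₙ a complex
of A-modules with P₀, …, Pₙ flat whose reduction 0 → k ⊗ I → k ⊗ P₀ → ⋯ → k ⊗ Pₙ is exact. Then I
and coker(Pₙ₋₁ → Pₙ) are flat. The complex is written as a cochain complex C indexed by ℕ with C⁰ =
I and Cⁱ⁺¹ = Pᵢ; its terms in degrees above n + 1 play no role. (The published statement adds that I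
maps onto the kernel of k ⊗ P₀ → k ⊗ P₁, which is already part of the exactness hypothesis, and is
for local Artinian algebras over an algebraically closed field of characteristic zero having that
field as residue field; this row allows any Artinian local ring.) -/
theorem result
    (A : Type u) [CommRing A] [IsLocalRing A] [IsArtinianRing A] (n : ℕ) (hn : 0 < n)
    (C : CochainComplex (ModuleCat.{u} A) ℕ)
    (hflat : ∀ i, i ≤ n → Module.Flat A (C.X (i + 1)))
    (hred : ∀ j, j ≤ n →
      (((MonoidalCategory.tensorLeft (ModuleCat.of A (IsLocalRing.ResidueField A))).mapHomologicalComplex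
        (ComplexShape.up ℕ)).obj C).ExactAt j) :
    Module.Flat A (C.X 0) ∧ Module.Flat A (C.X (n + 1) ⧸ LinearMap.range (C.d n (n + 1)).hom) := by
  classical
  set K := ModuleCat.of A (IsLocalRing.ResidueField A) with hK
  set T := ((MonoidalCategory.tensorLeft K).mapHomologicalComplex (ComplexShape.up ℕ)).obj C with hT
  have hd : ∀ i j, (T.d i j).hom = (C.d i j).hom.lTensor (IsLocalRing.ResidueField A) := by
    intro i j
    rfl
  -- exactness at 0 : injectivity
  have h0 : Function.Injective ((C.d 0 1).hom.lTensor (IsLocalRing.ResidueField A)) := by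
    have h1 := hred 0 (Nat.zero_le n)
    rw [HomologicalComplex.exactAt_iff' T 0 0 1 (by simp) (by simp)] at h1
    have hf : (T.sc' 0 0 1).f = 0 := T.shape _ _ (by simp)
    have hmono : Mono (T.sc' 0 0 1).g := (ShortComplex.exact_iff_mono _ hf).mp h1
    have := (ModuleCat.mono_iff_injective _).mp hmono
    rw [← hd]
    exact this
  -- exactness at n
  obtain ⟨m, rfl⟩ : ∃ m, n = m + 1 := ⟨n - 1, by omega⟩
  have hn' : Function.Exact ((C.d m (m + 1)).hom.lTensor (IsLocalRing.ResidueField A))
      ((C.d (m + 1) (m + 2)).hom.lTensor (IsLocalRing.ResidueField A)) := by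
    have h1 := hred (m + 1) le_rfl
    rw [HomologicalComplex.exactAt_iff' T m (m + 1) (m + 2) (by simp) (by simp)] at h1
    rw [ShortComplex.ShortExact.moduleCat_exact_iff_function_exact] at h1
    rw [← hd, ← hd]
    exact h1
  constructor
  · have hP0 : Module.Flat A (C.X (0 + 1)) := hflat 0 (Nat.zero_le _)
    have hinj := Groth.Agent.Lib.Helper2.ArtinFlat.injective_of_residue (C.d 0 1).hom h0
    have hcoker : Module.Flat A (C.X (0 + 1) ⧸ LinearMap.range (C.d 0 1).hom) :=
      Groth.Agent.Lib.Helper2.ArtinFlat.flat_of_exact_of_residue (C.d 0 1).hom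
        (LinearMap.range (C.d 0 1).hom).mkQ (Submodule.mkQ_surjective _)
        (LinearMap.exact_map_mkQ_range _) h0
    exact Groth.Agent.Lib.Helper22.flat_of_exact_of_flat (C.d 0 1).hom
      (LinearMap.range (C.d 0 1).hom).mkQ hinj (Submodule.mkQ_surjective _)
      (LinearMap.exact_map_mkQ_range _)
  · have hPn : Module.Flat A (C.X (m + 1 + 1)) := hflat (m + 1) le_rfl
    have hcomp : (C.d (m + 1) (m + 1 + 1)).hom ∘ₗ (C.d m (m + 1)).hom = 0 := by
      rw [← ModuleCat.hom_comp, C.d_comp_d]
      rfl
    exact (Groth.Agent.Lib.Helper2.ArtinFlat.flat_and_exact_of_complex (C.d m (m + 1)).hom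
      (C.d (m + 1) (m + 1 + 1)).hom (LinearMap.range (C.d (m + 1) (m + 1 + 1)).hom).mkQ hcomp
      (LinearMap.exact_map_mkQ_range _) (Submodule.mkQ_surjective _) hn').1

end Groth.Agent.S15133
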