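import Groth.Statements.S15134
import Groth.Agent.Lib.Helper1.ArtFunDescend

set_option autoImplicit false
universe u v
open CategoryTheory
open ArtFun

namespace Groth.Agent.S15134

open Groth.Agent.Lib.Helper1.ArtFunLib ArtFun.Art

/-- Let k be a field and F a functor on local Artinian k-algebras with residue field k with F(k) a
point. If F satisfies (H2') — the comparison map F(A₁ ×_k A₂) → F(A₁) × F(A₂) is bijective for every
pair of objects — then F satisfies condition (L): for every small extension f : B → A with kernel J,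
writing P = B ×_k B, Q = A ×_k A, r : P → Q for the map induced by f, and C = P/K with K the ideal
of P consisting of the pairs (b, b) with b ∈ J, every element of F(Q) whose two images in F(A) agree
lifts along F(C) → F(Q). Here P and Q are pinned as fibre products over k, K is described through
the two projections, and the two inequalities on K (it lies in the maximal ideal of P and is killed
by r), which always hold, are taken as hypotheses so that the quotient object and the factored map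
can be named. -/
theorem result
    {k : Type u} [Field k] (F : ArtFun.Art k k ⥤ Type v) (h0 : ArtFun.H0 F)
    (h2' : ∀ ⦃P A' A'' : ArtFun.Art k k⦄ (p' : P ⟶ A') (p'' : P ⟶ A'')
      (h : ArtFun.Art.IsFibreProd p' p'' (ArtFun.Art.toBase A') (ArtFun.Art.toBase A'')),
      Function.Bijective (ArtFun.cmp F h))
    ⦃B A : ArtFun.Art k k⦄ (f : B ⟶ A) (hf : ArtFun.Art.IsSmallExt f)
    ⦃P : ArtFun.Art k k⦄ (p₁ p₂ : P ⟶ B)
    (hP : ArtFun.Art.IsFibreProd p₁ p₂ (ArtFun.Art.toBase B) (ArtFun.Art.toBase B))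
    ⦃Q : ArtFun.Art k k⦄ (q₁ q₂ : Q ⟶ A)
    (hQ : ArtFun.Art.IsFibreProd q₁ q₂ (ArtFun.Art.toBase A) (ArtFun.Art.toBase A))
    (r : P ⟶ Q) (hr₁ : r ≫ q₁ = p₁ ≫ f) (hr₂ : r ≫ q₂ = p₂ ≫ f)
    (hK : Ideal.span {z : P | p₁ z = p₂ z ∧ f (p₁ z) = 0} ≤ IsLocalRing.maximalIdeal P)
    (hKr : Ideal.span {z : P | p₁ z = p₂ z ∧ f (p₁ z) = 0} ≤ RingHom.ker r.toAlgHom)
    (y : F.obj Q) (hy : F.map q₁ y = F.map q₂ y) :
    ∃ z : F.obj (ArtFun.Art.quot P (Ideal.span {z : P | p₁ z = p₂ z ∧ f (p₁ z) = 0}) hK),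
      F.map (ArtFun.Art.quotFactor hK r hKr) z = y := by
  have : IsNoetherianRing k := inferInstance
  have : Module.Finite k k := inferInstance
  set K := Ideal.span {z : P | p₁ z = p₂ z ∧ f (p₁ z) = 0} with hKdef
  -- the diagonal B → P
  have ed : 𝟙 B ≫ toBase B = 𝟙 B ≫ toBase B := rfl
  set d : B ⟶ P := fpLiftHom hP (𝟙 B) (𝟙 B) ed with hd
  have hd1 : d ≫ p₁ = 𝟙 B := fpLiftHom_fst hP _ _ ed
  have hd2 : d ≫ p₂ = 𝟙 B := fpLiftHom_snd hP _ _ ed
  have hd1' : ∀ b, p₁ (d b) = b := fun b => congrArg (fun m : B ⟶ B => m b) hd1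
  have hd2' : ∀ b, p₂ (d b) = b := fun b => congrArg (fun m : B ⟶ B => m b) hd2
  have hkill : RingHom.ker f.toAlgHom ≤ RingHom.ker (d ≫ quotMk P K hK).toAlgHom := by
    intro j hj
    rw [RingHom.mem_ker]
    change quotMk P K hK (d j) = 0
    rw [quotMk_eq_zero_iff]
    apply Ideal.subset_span
    refine ⟨by rw [hd1', hd2'], ?_⟩
    rw [hd1']
    exact hj
  obtain ⟨δ, hδ⟩ := exists_factor_of_surjective f hf.1 (d ≫ quotMk P K hK) hkill
  set Δ : A ⟶ Q := δ ≫ quotFactor hK r hKr with hΔ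
  have hfΔ : f ≫ Δ = d ≫ r := by
    rw [hΔ, ← Category.assoc, hδ, Category.assoc, quotMk_quotFactor]
  have hΔ1 : Δ ≫ q₁ = 𝟙 A := by
    apply hom_ext_of_surjective f hf.1
    rw [← Category.assoc, hfΔ, Category.assoc, hr₁, ← Category.assoc, hd1, Category.id_comp, Category.comp_id]
  have hΔ2 : Δ ≫ q₂ = 𝟙 A := by
    apply hom_ext_of_surjective f hf.1
    rw [← Category.assoc, hfΔ, Category.assoc, hr₂, ← Category.assoc, hd2, Category.id_comp, Category.comp_id]
  refine ⟨F.map δ (F.map q₁ y), ?_⟩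
  rw [← F.map_comp_apply]
  change F.map Δ (F.map q₁ y) = y
  apply (h2' q₁ q₂ hQ).1
  apply FibProd.ext
  · change F.map q₁ (F.map Δ (F.map q₁ y)) = F.map q₁ y
    rw [← F.map_comp_apply Δ, hΔ1, F.map_id_apply]
  · change F.map q₂ (F.map Δ (F.map q₁ y)) = F.map q₂ y
    rw [← F.map_comp_apply Δ, hΔ2, F.map_id_apply, hy]

end Groth.Agent.S15134
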