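import Groth.Statements.S15148
import Mathlib
import Groth.Agent.Lib.Helper2.HilbZeta

set_option autoImplicit false
universe u
open HilbZeta

namespace Groth.Agent.S15148

open Groth.Agent.Lib.Helper2.HilbZeta

/-- Let k be a field, s a natural number and R a k-subalgebra of the product of s copies of the power
series ring k[[x]], of finite codimension δ over k and local with residue field k (all components of
an element of R have the same constant term); write v_i for the x-adic order of the i-th component
of an s-tuple, and let c = (c_1, …, c_s) be the conductor exponents, so that an s-tuple f satisfies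
f·g ∈ R for every s-tuple g exactly when v_i(f) ≥ c_i for all i (over an algebraically closed field
such an R is precisely the completed local ring of a reduced curve singularity having s branches
sitting inside its normalisation, δ is its delta invariant and the conductor ideal is generated by
the x_i^{c_i}), and put C = c_1 + ⋯ + c_s. Let I be an ideal of R of finite colength d with
branch-length vector a (for every i the ideal of k[[x]] generated by the i-th components of the
elements of I is (x^{a_i})). Then −δ ≤ d − Σ a_i ≤ C − δ, and the second inequality is strict when R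
is not the whole product (the singularity is not smooth). (The published statement is over an
algebraically closed field; this row allows any field.) -/
theorem result (k : Type u) [Field k] (s : ℕ)
    (R : Subalgebra k (Fin s → PowerSeries k))
    (hfin : Module.Finite k ((Fin s → PowerSeries k) ⧸ Subalgebra.toSubmodule R))
    (hloc : ∀ f ∈ R, ∀ i j : Fin s, PowerSeries.constantCoeff (f i) = PowerSeries.constantCoeff (f j))
    (c : Fin s → ℕ)
    (hc : ∀ f : Fin s → PowerSeries k,
      (∀ g : Fin s → PowerSeries k, g * f ∈ R) ↔ ∀ i, ((c i : ℕ) : ℕ∞) ≤ (f i).order)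
    (I : Ideal ↥R) (hI : Module.Finite k (↥R ⧸ I)) (a : Fin s → ℕ)
    (ha : (∀ i : Fin s, Ideal.map ((Pi.evalAlgHom k (fun _ : Fin s => PowerSeries k) i).comp R.val) I = Ideal.span {PowerSeries.X ^ (a i)})) :
    (∑ i, a i) ≤ Module.finrank k (↥R ⧸ I) + Module.finrank k ((Fin s → PowerSeries k) ⧸ Subalgebra.toSubmodule R) ∧
    Module.finrank k (↥R ⧸ I) + Module.finrank k ((Fin s → PowerSeries k) ⧸ Subalgebra.toSubmodule R) ≤ (∑ i, a i) + ∑ i, c i ∧
    (R ≠ ⊤ → Module.finrank k (↥R ⧸ I) + Module.finrank k ((Fin s → PowerSeries k) ⧸ Subalgebra.toSubmodule R) < (∑ i, a i) + ∑ i, c i) := by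
  classical
  have hcl := cl_idealImage R I
  rw [Module.length_eq_finrank] at hcl
  have hδ : cl (Subalgebra.toSubmodule R) =
      (Module.finrank k ((Fin s → PowerSeries k) ⧸ Subalgebra.toSubmodule R) : ℕ∞) := by
    unfold cl
    rw [Module.length_eq_finrank]
  rw [hδ] at hcl
  have hle1 : Fil (fun i => a i + c i) ≤ idealImage R I := by
    intro g hg
    rw [mem_Fil] at hg
    rw [mem_idealImage]
    exact mem_ideal_of_order R c hc I a
      (fun i => exists_order_eq_of_map_eq R I i (a i) (ha i)) g hg
  have hle2 : idealImage R I ≤ Fil a := by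
    intro g hg
    rw [mem_idealImage] at hg
    obtain ⟨hgR, hgI⟩ := hg
    rw [mem_Fil]
    intro i
    exact le_order_of_map_eq R I i (a i) (ha i) ⟨g, hgR⟩ hgI
  have h1 := cl_anti hle2
  have h2 := cl_anti hle1
  rw [cl_Fil] at h1 h2
  rw [hcl] at h1 h2
  have hsum : ∑ i, (a i + c i) = (∑ i, a i) + ∑ i, c i := Finset.sum_add_distrib
  rw [hsum] at h2
  have h1' : (∑ i, a i) ≤ Module.finrank k (↥R ⧸ I) +
      Module.finrank k ((Fin s → PowerSeries k) ⧸ Subalgebra.toSubmodule R) := by
    exact_mod_cast h1
  have h2' : Module.finrank k (↥R ⧸ I) +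
      Module.finrank k ((Fin s → PowerSeries k) ⧸ Subalgebra.toSubmodule R) ≤
        (∑ i, a i) + ∑ i, c i := by
    exact_mod_cast h2
  refine ⟨h1', h2', fun hR => lt_of_le_of_ne h2' (fun heq => hR ?_)⟩
  -- equality case
  have hcleq : cl (Fil (k := k) (fun i => a i + c i)) = cl (idealImage R I) := by
    rw [cl_Fil, hcl, hsum, ← heq]
    push_cast
    rfl
  have hne : cl (idealImage R I) ≠ ⊤ := by
    rw [hcl]
    exact_mod_cast ENat.natCast_ne_top _
  have hFI := eq_of_le_of_cl_eq hle1 hcleq hne
  have hc0 : ∀ i, c i = 0 := by
    intro i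
    obtain ⟨x, hxI, hxo⟩ := exists_order_eq_of_map_eq R I i (a i) (ha i)
    have hx : (x : Fin s → PowerSeries k) ∈ idealImage R I :=
      (mem_idealImage R I _).mpr ⟨x.2, hxI⟩
    rw [← hFI, mem_Fil] at hx
    have := hx i
    rw [hxo] at this
    have : a i + c i ≤ a i := by exact_mod_cast this
    omega
  rw [eq_top_iff]
  intro g _
  have := (hc 1).mpr (fun i => by rw [hc0 i]; simp) g
  simpa using this

end Groth.Agent.S15148
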