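import Groth.Statements.S15149
import Mathlib
import Groth.Agent.Lib.Helper2.HilbZeta

set_option autoImplicit false
universe u
open HilbZeta

namespace Groth.Agent.S15149

open Groth.Agent.Lib.Helper2.HilbZeta

/-- Let k be a field, s a natural number and R a k-subalgebra of the product of s copies of the power
series ring k[[x]], of finite codimension δ over k and local with residue field k (all components of
an element of R have the same constant term); write v_i for the x-adic order of the i-th component
of an s-tuple, and let c = (c_1, …, c_s) be the conductor exponents, so that an s-tuple f satisfies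
f·g ∈ R for every s-tuple g exactly when v_i(f) ≥ c_i for all i (over an algebraically closed field
such an R is precisely the completed local ring of a reduced curve singularity having s branches
sitting inside its normalisation, δ is its delta invariant and the conductor ideal is generated by
the x_i^{c_i}). Fix a branch j, a colength d and a branch-length vector a = (a_1, …, a_s) with a_j ≥
c_j, and let ξ be the s-tuple with x in the j-th place and 1 elsewhere. Call an ideal I of R of type
(d, a) when it has colength d and, for every i, the ideal of k[[x]] generated by the i-th components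
of its elements is (x^{a_i}). Then multiplication by ξ is a bijection from the ideals of type (d, a)
onto the ideals of type (d + 1, a + e_j), where a + e_j is a with its j-th entry raised by one: for
every ideal I of type (d, a) the set ξ·I is (the image of) an ideal of type (d + 1, a + e_j), and
every ideal of type (d + 1, a + e_j) is ξ·I for some ideal I of type (d, a). (The published
statement is the equality, in the Grothendieck ring of varieties, of the classes of the two
corresponding branch-length strata of the punctual Hilbert scheme; this row states the bijection on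
ideals underlying it, which is what the argument establishes; the published statement is over an
algebraically closed field, and this row allows any field.) -/
theorem result (k : Type u) [Field k] (s : ℕ)
    (R : Subalgebra k (Fin s → PowerSeries k))
    (hfin : Module.Finite k ((Fin s → PowerSeries k) ⧸ Subalgebra.toSubmodule R))
    (hloc : ∀ f ∈ R, ∀ i j : Fin s, PowerSeries.constantCoeff (f i) = PowerSeries.constantCoeff (f j))
    (c : Fin s → ℕ)
    (hc : ∀ f : Fin s → PowerSeries k,
      (∀ g : Fin s → PowerSeries k, g * f ∈ R) ↔ ∀ i, ((c i : ℕ) : ℕ∞) ≤ (f i).order)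
    (j : Fin s) (d : ℕ) (a : Fin s → ℕ) (hj : c j ≤ a j) :
    (∀ I ∈ {I : Ideal ↥R | Module.Finite k (↥R ⧸ I) ∧ Module.finrank k (↥R ⧸ I) = d ∧ (∀ i : Fin s, Ideal.map ((Pi.evalAlgHom k (fun _ : Fin s => PowerSeries k) i).comp R.val) I = Ideal.span {PowerSeries.X ^ (a i)})},
      ∃ J ∈ {I : Ideal ↥R | Module.Finite k (↥R ⧸ I) ∧ Module.finrank k (↥R ⧸ I) = d + 1 ∧ (∀ i : Fin s, Ideal.map ((Pi.evalAlgHom k (fun _ : Fin s => PowerSeries k) i).comp R.val) I = Ideal.span {PowerSeries.X ^ ((Function.update a j (a j + 1)) i)})},
        (Subtype.val '' (J : Set ↥R)) = (fun f => Pi.mulSingle j PowerSeries.X * f) '' (Subtype.val '' (I : Set ↥R))) ∧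
    (∀ J ∈ {I : Ideal ↥R | Module.Finite k (↥R ⧸ I) ∧ Module.finrank k (↥R ⧸ I) = d + 1 ∧ (∀ i : Fin s, Ideal.map ((Pi.evalAlgHom k (fun _ : Fin s => PowerSeries k) i).comp R.val) I = Ideal.span {PowerSeries.X ^ ((Function.update a j (a j + 1)) i)})},
      ∃ I ∈ {I : Ideal ↥R | Module.Finite k (↥R ⧸ I) ∧ Module.finrank k (↥R ⧸ I) = d ∧ (∀ i : Fin s, Ideal.map ((Pi.evalAlgHom k (fun _ : Fin s => PowerSeries k) i).comp R.val) I = Ideal.span {PowerSeries.X ^ (a i)})},
        (Subtype.val '' (J : Set ↥R)) = (fun f => Pi.mulSingle j PowerSeries.X * f) '' (Subtype.val '' (I : Set ↥R))) := by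
  classical
  have hxiX : ∀ i, xi (k := k) j i * PowerSeries.X ^ (a i) =
      PowerSeries.X ^ (Function.update a j (a j + 1) i) := by
    intro i
    by_cases hij : i = j
    · subst hij
      simp [xi, pow_succ']
    · simp [xi, Pi.mulSingle_eq_of_ne hij, Function.update_of_ne hij]
  constructor
  · rintro I ⟨hIfin, hId, hIa⟩
    have hord : ∀ x ∈ I, ((c j : ℕ) : ℕ∞) ≤ ((x : Fin s → PowerSeries k) j).order := fun x hx =>
      le_trans (by exact_mod_cast hj) (le_order_of_map_eq R I j (a j) (hIa j) x hx)
    let J : Ideal ↥R :=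
      { carrier := {y | ∃ x ∈ I, (y : Fin s → PowerSeries k) = xi j * (x : Fin s → PowerSeries k)}
        add_mem' := by
          rintro y y' ⟨x, hx, e⟩ ⟨x', hx', e'⟩
          refine ⟨x + x', I.add_mem hx hx', ?_⟩
          simp only [Subalgebra.coe_add, e, e', mul_add]
        zero_mem' := ⟨0, I.zero_mem, by simp⟩
        smul_mem' := by
          rintro r y ⟨x, hx, e⟩
          refine ⟨r * x, I.mul_mem_left r hx, ?_⟩
          simp only [smul_eq_mul, Subalgebra.coe_mul, e]
          ring }
    have himg : Subtype.val '' (J : Set ↥R) =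
        (fun f => Pi.mulSingle j PowerSeries.X * f) '' (Subtype.val '' (I : Set ↥R)) := by
      ext f
      constructor
      · rintro ⟨y, ⟨x, hx, e⟩, rfl⟩
        exact ⟨x, ⟨x, hx, rfl⟩, e.symm⟩
      · rintro ⟨_, ⟨x, hx, rfl⟩, rfl⟩
        have hmem : xi j * (x : Fin s → PowerSeries k) ∈ R :=
          xi_mul_mem R c hc j _ x.2 (hord x hx)
        exact ⟨⟨_, hmem⟩, ⟨x, hx, rfl⟩, rfl⟩
    have hlen := length_of_image_eq hfin j I J himg
    have hIlen : Module.length k (↥R ⧸ I) = (d : ℕ∞) :=
      (length_eq_natCast_iff _ d).mpr ⟨hIfin, hId⟩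
    rw [hIlen] at hlen
    have hJ := (length_eq_natCast_iff (↥R ⧸ J) (d + 1)).mp (by rw [hlen]; push_cast; rfl)
    refine ⟨J, ⟨hJ.1, hJ.2, fun i => ?_⟩, himg⟩
    have := map_evB_of_image_eq j I J himg i
    rw [this, hIa i, Ideal.span_singleton_mul_span_singleton, hxiX]
  · rintro J ⟨hJfin, hJd, hJa⟩
    have hord : ∀ y ∈ J, ((c j + 1 : ℕ) : ℕ∞) ≤ ((y : Fin s → PowerSeries k) j).order := by
      intro y hy
      have h1 := le_order_of_map_eq R J j _ (hJa j) y hy
      rw [Function.update_self] at h1
      refine le_trans ?_ h1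
      exact_mod_cast Nat.succ_le_succ hj
    let I : Ideal ↥R :=
      { carrier := {x | ∃ y ∈ J, (y : Fin s → PowerSeries k) = xi j * (x : Fin s → PowerSeries k)}
        add_mem' := by
          rintro x x' ⟨y, hy, e⟩ ⟨y', hy', e'⟩
          refine ⟨y + y', J.add_mem hy hy', ?_⟩
          simp only [Subalgebra.coe_add, e, e', mul_add]
        zero_mem' := ⟨0, J.zero_mem, by simp⟩
        smul_mem' := by
          rintro r x ⟨y, hy, e⟩
          refine ⟨r * y, J.mul_mem_left r hy, ?_⟩
          simp only [smul_eq_mul, Subalgebra.coe_mul, e]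
          ring }
    have himg : Subtype.val '' (J : Set ↥R) =
        (fun f => Pi.mulSingle j PowerSeries.X * f) '' (Subtype.val '' (I : Set ↥R)) := by
      ext f
      constructor
      · rintro ⟨y, hy, rfl⟩
        obtain ⟨x, hxR, hxy⟩ := exists_div_xi R c hc j _ y.2 (hord y hy)
        exact ⟨x, ⟨⟨x, hxR⟩, ⟨y, hy, hxy.symm⟩, rfl⟩, hxy⟩
      · rintro ⟨_, ⟨x, ⟨y, hy, e⟩, rfl⟩, rfl⟩
        exact ⟨y, hy, e⟩
    have hlen := length_of_image_eq hfin j I J himg
    have hJlen : Module.length k (↥R ⧸ J) = ((d + 1 : ℕ) : ℕ∞) :=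
      (length_eq_natCast_iff _ (d + 1)).mpr ⟨hJfin, hJd⟩
    rw [hJlen] at hlen
    have hIlen : Module.length k (↥R ⧸ I) = (d : ℕ∞) := by
      generalize Module.length k (↥R ⧸ I) = x at hlen
      cases x with
      | top => simp at hlen
      | coe m =>
        have : d + 1 = m + 1 := by exact_mod_cast hlen
        have : m = d := by omega
        rw [this]
    have hI := (length_eq_natCast_iff (↥R ⧸ I) d).mp hIlen
    refine ⟨I, ⟨hI.1, hI.2, fun i => ?_⟩, himg⟩
    have h1 := map_evB_of_image_eq j I J himg i
    rw [hJa i, ← hxiX, ← Ideal.span_singleton_mul_span_singleton] at h1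
    exact ((Ideal.span_singleton_mul_right_inj (xi_ne_zero j i)).mp h1).symm

end Groth.Agent.S15149
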