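import Groth.Statements.S15150
import Mathlib

set_option autoImplicit false
universe u
open HilbZeta

namespace Groth.Agent.S15150

open TensorProduct

/-- A nil ideal in a `d`-dimensional commutative algebra over a field has vanishing `d`-th power. -/
theorem pow_finrank_eq_bot {K C : Type*} [Field K] [CommRing C] [Algebra K C]
    [FiniteDimensional K C] (n : Ideal C) (hn : n ≤ nilradical C) :
    n ^ (Module.finrank K C) = ⊥ := by
  have hNoeth : IsNoetherian C C := isNoetherian_of_tower K (inferInstance : IsNoetherian K C)
  have key : ∀ i : ℕ, n ^ i = ⊥ ∨
      Module.finrank K ((n ^ i).restrictScalars K) + i ≤ Module.finrank K C := by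
    intro i
    induction i with
    | zero =>
      right
      rw [pow_zero, Ideal.one_eq_top, Submodule.restrictScalars_top, finrank_top, add_zero]
    | succ i ih =>
      rcases ih with h0 | hle
      · left
        rw [pow_succ, h0, Ideal.bot_mul]
      · by_cases h1 : n ^ (i + 1) = ⊥
        · exact Or.inl h1
        · right
          have hlt : n ^ (i + 1) < n ^ i := by
            refine lt_of_le_of_ne (Ideal.pow_le_pow_right (Nat.le_succ i)) ?_
            intro heq
            apply h1
            have hbot : n ^ i = ⊥ := by
              apply Submodule.eq_bot_of_le_smul_of_le_jacobson_bot n (n ^ i)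
                (IsNoetherian.noetherian _)
              · rw [smul_eq_mul, ← pow_succ', heq]
              · exact hn.trans (by
                  rw [Ideal.jacobson_bot]
                  exact nilradical_le_jacobson C)
            rw [pow_succ, hbot, Ideal.bot_mul]
          have hlt' : (n ^ (i + 1)).restrictScalars K < (n ^ i).restrictScalars K := by
            rw [lt_iff_le_and_ne]
            refine ⟨fun x hx => hlt.le hx, fun h => hlt.ne ?_⟩
            exact Submodule.restrictScalars_injective K C C h
          have := Submodule.finrank_lt_finrank_of_lt hlt'
          omega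
  rcases key (Module.finrank K C) with h | h
  · exact h
  · have h0 : Module.finrank K ((n ^ Module.finrank K C).restrictScalars K) = 0 := by omega
    rw [Submodule.finrank_eq_zero] at h0
    exact (Submodule.restrictScalars_eq_bot_iff K C C).mp h0

/-- An element of a projective module over a reduced ring vanishing in all fibres is zero. -/
theorem eq_zero_of_forall_fiber {A B : Type*} [CommRing A] [IsReduced A] [AddCommGroup B]
    [Module A B] [Module.Projective A B] (b : B)
    (h : ∀ (p : Ideal A) [p.IsPrime], (1 : p.ResidueField) ⊗ₜ[A] b = 0) : b = 0 := by
  by_contra hb
  have h1 : ¬ ∀ φ : Module.Dual A B, φ b = 0 := by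
    rw [Module.forall_dual_apply_eq_zero_iff A b]
    exact hb
  push Not at h1
  obtain ⟨φ, hφ⟩ := h1
  have h2 : φ b ∉ nilradical A := by
    rw [nilradical_eq_zero A]
    exact hφ
  rw [nilradical_eq_sInf, Ideal.mem_sInf] at h2
  push Not at h2
  obtain ⟨p, hp, hpa⟩ := h2
  have hp' : p.IsPrime := hp
  have h3 := congrArg (fun z => TensorProduct.rid A p.ResidueField
    (LinearMap.lTensor p.ResidueField φ z)) (h p)
  simp only [LinearMap.lTensor_tmul, TensorProduct.rid_tmul, map_zero] at h3
  rw [Algebra.smul_def, mul_one, Ideal.algebraMap_residueField_eq_zero] at h3
  exact hpa h3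


/-- Let A be a reduced commutative ring, S an A-algebra together with an A-algebra homomorphism π : S →
A (a section of Spec S → Spec A), with kernel m, and I an ideal of S such that S/I is a finite
projective A-module of constant rank d and m is contained in the radical of I (the finite flat
subscheme Spec S/I of degree d lies, as a set, on the section). Then m^d ⊆ I: the subscheme lies in
the (d−1)-st infinitesimal neighbourhood of the section. (The published statement is for a closed
subscheme, flat and proper of degree d over a Noetherian base, of a family of reduced curve
singularities with a section, with no reducedness assumption on the base; over the dual numbers k[ε]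
the ideal (x − ε) of k[ε][x] has quotient free of rank one and radical containing x but does not
contain x, so the base is taken reduced here, and the statement is given in its affine form, to
which the argument reduces at once; the curve hypotheses play no role and are dropped; the condition
that Spec S/I lies set-theoretically on the section, which the published argument deduces from
properness of Z inside the germ, is a hypothesis here.) -/
theorem result (A : Type u) [CommRing A] [IsReduced A]
    (S : Type u) [CommRing S] [Algebra A S] (π : S →ₐ[A] A) (I : Ideal S) (d : ℕ)
    [Module.Finite A (S ⧸ I)] [Module.Projective A (S ⧸ I)]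
    (hrank : ∀ p : PrimeSpectrum A, Module.rankAtStalk (R := A) (S ⧸ I) p = d)
    (hsupp : RingHom.ker π ≤ I.radical) :
    RingHom.ker π ^ d ≤ I := by
  intro s hs
  rw [← Ideal.Quotient.eq_zero_iff_mem]
  apply eq_zero_of_forall_fiber (A := A)
  intro p hp
  let K := p.ResidueField
  let C := K ⊗[A] (S ⧸ I)
  let f : S →+* C := (Algebra.TensorProduct.includeRight : (S ⧸ I) →ₐ[A] C).toRingHom.comp
    (Ideal.Quotient.mk I)
  have hfin : Module.finrank K C = d := by
    have := Module.rankAtStalk_eq (R := A) (M := S ⧸ I) ⟨p, hp⟩
    rw [hrank] at this
    exact this.symm
  have hnil : Ideal.map f (RingHom.ker π) ≤ nilradical C := by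
    rw [Ideal.map_le_iff_le_comap]
    intro x hx
    obtain ⟨k, hk⟩ := hsupp hx
    rw [Ideal.mem_comap, mem_nilradical]
    refine ⟨k, ?_⟩
    rw [← map_pow]
    have : (Ideal.Quotient.mk I) (x ^ k) = 0 := Ideal.Quotient.eq_zero_iff_mem.mpr hk
    simp only [f, RingHom.comp_apply, this, map_zero]
  have hzero := pow_finrank_eq_bot (K := K) (Ideal.map f (RingHom.ker π)) hnil
  rw [hfin, ← Ideal.map_pow] at hzero
  have hmem : f s ∈ Ideal.map f (RingHom.ker π ^ d) := Ideal.mem_map_of_mem f hs
  rw [hzero, Ideal.mem_bot] at hmem
  exact hmem

end Groth.Agent.S15150
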