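import Groth.Statements.S15151
import Mathlib

set_option autoImplicit false
universe u
open CategoryTheory AlgebraicGeometry
open HilbZeta

namespace Groth.Agent.S15151

/-- Let k be a field, and let f : X → Y and g : Y → Spec k[t] be morphisms of schemes with f
quasi-compact and with zero kernel ideal sheaf (Y is the scheme-theoretic image of f), such that the
composite X → Spec k[t] is flat. Then g is flat; in particular a k[t]-subalgebra of a flat
k[t]-algebra is flat. (The published statement has no quasi-compactness hypothesis on f and is over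
an algebraically closed field; this row assumes f quasi-compact and allows any field.) -/
theorem result (k : Type u) [Field k]
    (X Y : Scheme.{u}) (f : X ⟶ Y) (g : Y ⟶ Spec (CommRingCat.of (Polynomial k)))
    [QuasiCompact f] (hker : f.ker = ⊥) [Flat (f ≫ g)] : Flat g := by
  classical
  rw [HasRingHomProperty.iff_of_iSup_eq_top (P := @Flat) (fun V : Y.affineOpens => V)
    (iSup_affineOpens_eq_top Y)]
  intro V
  let S := Spec (CommRingCat.of (Polynomial k))
  let e : Polynomial k ≃+* Γ(S, ⊤) :=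
    (Scheme.ΓSpecIso (CommRingCat.of (Polynomial k))).symm.commRingCatIsoToRingEquiv
  have : IsDomain Γ(S, ⊤) := MulEquiv.isDomain (Polynomial k) e.symm.toMulEquiv
  have : IsPrincipalIdealRing Γ(S, ⊤) := IsPrincipalIdealRing.of_surjective e.toRingHom e.surjective
  set φ := (g.appLE ⊤ V.1 le_top).hom with hφ
  letI : Algebra Γ(S, ⊤) Γ(Y, V.1) := φ.toAlgebra
  show Module.Flat Γ(S, ⊤) Γ(Y, V.1)
  rw [Module.Flat.flat_iff_torsion_eq_bot_of_isBezout, Submodule.eq_bot_iff]
  rintro x ⟨a, ha⟩
  have ha' : φ a * x = 0 := ha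
  -- injectivity of f.app V
  have hinj : Function.Injective (f.app V.1).hom := by
    rw [injective_iff_map_eq_zero]
    intro y hy
    have h1 : y ∈ RingHom.ker (f.app V.1).hom := hy
    rw [← Scheme.Hom.ker_apply f V, hker] at h1
    exact h1
  apply hinj
  rw [map_zero]
  apply TopCat.Presheaf.section_ext X.sheaf (f ⁻¹ᵁ V.1)
  intro p hp
  obtain ⟨_, ⟨W, hW, rfl⟩, hpW, hWV⟩ := X.isBasis_affineOpens.exists_subset_of_mem_open hp
    (f ⁻¹ᵁ V.1).2
  have hWV' : W ≤ f ⁻¹ᵁ V.1 := hWV
  have hflat : ((f ≫ g).appLE ⊤ W le_top).hom.Flat :=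
    Scheme.Hom.flat_appLE (f ≫ g) (isAffineOpen_top S) hW le_top
  have hcomp : (f ≫ g).appLE ⊤ W le_top = g.appLE ⊤ V.1 le_top ≫ f.appLE V.1 W hWV' :=
    (Scheme.Hom.appLE_comp_appLE f g ⊤ V.1 W le_top hWV').symm
  have hzero : (f.appLE V.1 W hWV').hom x = 0 := by
    letI : Algebra Γ(S, ⊤) Γ(X, W) := ((f ≫ g).appLE ⊤ W le_top).hom.toAlgebra
    haveI : Module.Flat Γ(S, ⊤) Γ(X, W) := hflat
    have hreg := Module.Flat.isSMulRegular_of_nonZeroDivisors (M := Γ(X, W)) a.2
    apply hreg
    change ((f ≫ g).appLE ⊤ W le_top).hom a * _ = ((f ≫ g).appLE ⊤ W le_top).hom a * 0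
    rw [mul_zero, hcomp, CommRingCat.hom_comp, RingHom.comp_apply, ← map_mul]
    change (f.appLE V.1 W hWV').hom (φ a * x) = 0
    rw [ha', map_zero]
  have h2 : (f.appLE V.1 W hWV').hom x =
      (X.presheaf.map (homOfLE hWV').op).hom ((f.app V.1).hom x) := by
    rw [Scheme.Hom.appLE, CommRingCat.hom_comp, RingHom.comp_apply]
  rw [h2] at hzero
  have h3 := TopCat.Presheaf.germ_res_apply X.presheaf (homOfLE hWV') p hpW ((f.app V.1).hom x)
  refine Eq.trans ?_ (map_zero _).symm
  exact h3.symm.trans ((congrArg _ hzero).trans (map_zero _))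

end Groth.Agent.S15151
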