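import Groth.Statements.S15153
import Mathlib
import Groth.Agent.Lib.Helper2.FiberDim

set_option autoImplicit false
universe u
open TensorProduct
open HilbZeta

namespace Groth.Agent.S15153

open Groth.Agent.Lib.Helper2.FiberDim

section
variable {A : Type u} [CommRing A] {S : Type u} [CommRing S] [Algebra A S]
  {Q : Type u} [AddCommGroup Q] [Module A Q] [Module S Q] [IsScalarTower A S Q]
  (K : Type u) [Field K] [Algebra A K] {r : ℕ} (q : Fin r → Q)

/-- evaluation at the `1 ⊗ q j`, landing in `K ⊗ (Fin r → Q)`. -/
noncomputable def evMap :
    Module.End K (K ⊗[A] Q) →ₗ[K] K ⊗[A] (Fin r → Q) :=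
  (TensorProduct.piRight A K K (fun _ : Fin r => Q)).symm.toLinearMap ∘ₗ
    LinearMap.pi (fun j => LinearMap.applyₗ ((1 : K) ⊗ₜ[A] q j))

lemma evMap_baseChange (s : S) :
    evMap K q (LinearMap.baseChange K (DistribSMul.toLinearMap A Q s)) =
      (1 : K) ⊗ₜ[A] (fun j => s • q j) := by
  unfold evMap
  rw [LinearMap.comp_apply]
  have : (LinearMap.pi (fun j => LinearMap.applyₗ ((1 : K) ⊗ₜ[A] q j)))
      (LinearMap.baseChange K (DistribSMul.toLinearMap A Q s)) =
      fun j => (1 : K) ⊗ₜ[A] (s • q j) := by
    funext j
    simp
  rw [this]
  exact TensorProduct.piRight_symm_apply A K K (fun _ : Fin r => Q) 1 (fun j => s • q j)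

lemma evMap_injective (hq : Submodule.span A (Set.range q) = ⊤) :
    Function.Injective (evMap (A := A) K q) := by
  rw [injective_iff_map_eq_zero]
  intro T hT
  unfold evMap at hT
  rw [LinearMap.comp_apply] at hT
  have h1 := (TensorProduct.piRight A K K (fun _ : Fin r => Q)).symm.injective
    (hT.trans (map_zero _).symm)
  have hspan : Submodule.span K (Set.range fun j => (1 : K) ⊗ₜ[A] q j) = ⊤ := by
    rw [span_tmul_eq_ker, eq_top_iff]
    intro x _
    rw [LinearMap.mem_ker]
    have : Subsingleton (Q ⧸ Submodule.span A (Set.range q)) := by
      rw [hq]
      exact Submodule.Quotient.subsingleton_iff.mpr rfl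
    exact Subsingleton.elim _ _
  apply LinearMap.ext_on_range hspan
  intro j
  have := congrFun h1 j
  simpa using this

end

/-- Let A be a Noetherian commutative ring, S a commutative A-algebra and Q an S-module which is finite
and flat as an A-module. For a prime p of A with residue field κ(p), multiplication by an element of
S induces a κ(p)-linear endomorphism of the fibre κ(p) ⊗_A Q; let φ(p) be the κ(p)-dimension of the
span of these endomorphisms, which is the colength of the annihilator of the fibre module κ(p) ⊗_A Q
in the fibre algebra κ(p) ⊗_A S (the length of the smallest subscheme of the fibre carrying it).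
Then p ↦ φ(p) is a constructible function: for every n the primes with φ(p) = n form a constructible
subset of Spec A. (The published statement is for a coherent sheaf, flat and finite over a
Noetherian base, on a family of reduced curve singularities with a section, and its function of the
base point is this colength; the curve hypotheses play no role and the row is the affine form over
any Noetherian ring.) -/
theorem result (A : Type u) [CommRing A] [IsNoetherianRing A]
    (S : Type u) [CommRing S] [Algebra A S]
    (Q : Type u) [AddCommGroup Q] [Module A Q] [Module S Q] [IsScalarTower A S Q]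
    [Module.Finite A Q] [Module.Flat A Q] (n : ℕ) :
    Topology.IsConstructible {p : PrimeSpectrum A |
      Module.finrank p.asIdeal.ResidueField
        (Submodule.span p.asIdeal.ResidueField
          (Set.range fun s : S =>
            LinearMap.baseChange p.asIdeal.ResidueField (DistribSMul.toLinearMap A Q s))) = n} := by
  classical
  obtain ⟨r, q, hq⟩ := Module.Finite.exists_fin (R := A) (M := Q)
  let F := Fin r → Q
  let v : S → F := fun s j => s • q j
  let N := F ⧸ Submodule.span A (Set.range v)
  obtain ⟨g, hg⟩ := exists_fdim_le (A := A) N
  -- pointwise formula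
  have key : ∀ p : PrimeSpectrum A,
      Module.finrank p.asIdeal.ResidueField
        (Submodule.span p.asIdeal.ResidueField
          (Set.range fun s : S =>
            LinearMap.baseChange p.asIdeal.ResidueField (DistribSMul.toLinearMap A Q s))) +
        fdim N p = fdim F p := by
    intro p
    set K := p.asIdeal.ResidueField with hK
    have hinj := evMap_injective (A := A) K q hq
    have h1 := (Submodule.equivMapOfInjective (evMap (A := A) K q) hinj
      (Submodule.span K (Set.range fun s : S =>
        LinearMap.baseChange K (DistribSMul.toLinearMap A Q s)))).finrank_eq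
    rw [h1, Submodule.map_span, ← Set.range_comp]
    have h2 : ((evMap (A := A) K q) ∘ fun s : S =>
        LinearMap.baseChange K (DistribSMul.toLinearMap A Q s)) =
        fun s => (1 : K) ⊗ₜ[A] v s := by
      funext s
      exact evMap_baseChange K q s
    rw [h2]
    exact finrank_span_add K v
  have hset : {p : PrimeSpectrum A |
      Module.finrank p.asIdeal.ResidueField
        (Submodule.span p.asIdeal.ResidueField
          (Set.range fun s : S =>
            LinearMap.baseChange p.asIdeal.ResidueField (DistribSMul.toLinearMap A Q s))) = n} =
      ⋃ b ∈ Finset.range (g + 1),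
        ({p | fdim N p = b} ∩ {p | fdim F p = n + b}) := by
    ext p
    simp only [Set.mem_ofPred_eq, Set.mem_iUnion, Set.mem_inter_iff, Finset.mem_range, exists_prop]
    have := key p
    have := hg p
    constructor
    · intro h
      exact ⟨fdim N p, by omega, rfl, by omega⟩
    · rintro ⟨b, -, h1, h2⟩
      omega
  rw [hset]
  refine Topology.IsConstructible.biUnion (Finset.finite_toSet _) (fun b _ => ?_)
  exact (isConstructible_setOf_fdim_eq N b).inter (isConstructible_setOf_fdim_eq F (n + b))

end Groth.Agent.S15153
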