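import Groth.Statements.S15156
import Groth.Agent.Lib.Helper2.DegAdd.HN1
import Groth.Agent.Lib.Helper21.BirDeg
import Groth.Agent.Lib.Helper28.FlatPull2
import Groth.Agent.Lib.Helper29.QCohLocFree
-- import your own Groth.Agent.* helpers here

set_option autoImplicit false
open CategoryTheory CategoryTheory.Limits AlgebraicGeometry
open VBCurve

namespace Groth.Agent.S15156

/-- Let X be a smooth proper integral curve of genus at least 2 over the complex numbers with an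
involution σ ≠ id over the complex numbers, and (E, φ) a σ-linearized finite locally free module of
rank r ≥ 1: φ : σ^*E ≅ E with φ ∘ σ^*φ equal to the canonical identification σ^*σ^*E ≅ E. A
submodule F ⊂ E is σ-invariant when the composite σ^*F → σ^*E → E factors through F. Then (E, φ) is
semistable with respect to σ-invariant finite locally free submodules (deg F · r ≤ deg E · rk F for
each such F of positive rank) if and only if E is slope-semistable (the same inequality for every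
finite locally free submodule of positive rank); degrees are χ − rank · χ(O). -/
theorem result
    (X : Scheme.{0}) [X.Over (Spec (CommRingCat.of ℂ))] [IsIntegral X] [IsProper (X ↘ Spec (CommRingCat.of ℂ))] [Smooth (X ↘ Spec (CommRingCat.of ℂ))]
    (hdim : topologicalKrullDim X = 1) (hg : 2 ≤ Curv2.genus ℂ X)
    (σ : X ⟶ X) (hσS : σ ≫ (X ↘ Spec (CommRingCat.of ℂ)) = X ↘ Spec (CommRingCat.of ℂ)) (hσ : σ ≫ σ = 𝟙 X) (hσ1 : σ ≠ 𝟙 X)
    (r : ℕ) (hr : 0 < r) (E : X.Modules) (hE : FlatMod.IsFinLocFreeOfRank r E)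
    (φ : (Scheme.Modules.pullback σ).obj E ≅ E)
    (hφ : (Scheme.Modules.pullback σ).map φ.hom ≫ φ.hom =
      (Scheme.Modules.pullbackComp σ σ).hom.app E ≫ (Scheme.Modules.pullbackCongr hσ).hom.app E ≫
        (Scheme.Modules.pullbackId X).hom.app E) :
    (∀ (F : X.Modules) (r' : ℕ) (i : F ⟶ E), Mono i → 0 < r' → FlatMod.IsFinLocFreeOfRank r' F →
      (∃ j : (Scheme.Modules.pullback σ).obj F ⟶ F, j ≫ i = (Scheme.Modules.pullback σ).map i ≫ φ.hom) →
      Curv2.deg ℂ X F r' * (r : ℤ) ≤ Curv2.deg ℂ X E r * (r' : ℤ)) ↔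
    (∀ (F : X.Modules) (r' : ℕ) (i : F ⟶ E), Mono i → 0 < r' → FlatMod.IsFinLocFreeOfRank r' F →
      Curv2.deg ℂ X F r' * (r : ℤ) ≤ Curv2.deg ℂ X E r * (r' : ℤ)) := by
  constructor
  · intro hσss
    have hiso : IsIso σ := ⟨⟨σ, hσ, hσ⟩⟩
    have hflat : Flat σ := inferInstance
    obtain ⟨E₁, r₁, i₁, hi₁, hr₁, hE₁, h1, h2⟩ :=
      Groth.Agent.Lib.Helper2.DegAdd.exists_maxSlope_sub ℂ hdim.le r hr E hE
    have := hi₁
    have hlt := Groth.Agent.Lib.Helper2.DegAdd.quot_slope_lt ℂ hdim.le r r₁ hE i₁ hr₁ hE₁ h1 h2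
    have hE₁' : FlatMod.IsFinLocFreeOfRank r₁ ((Scheme.Modules.pullback σ).obj E₁) :=
      Groth.Agent.Lib.Helper29.QCoh.isFinLocFreeOfRank_pullback σ hE₁
    have hm1 : Mono ((Scheme.Modules.pullback σ).map i₁) :=
      Groth.Agent.Lib.Helper28.FlatPull.mono_pullback_map_of_flat σ i₁
    have hm2 : Mono ((Scheme.Modules.pullback σ).map i₁ ≫ φ.hom) := mono_comp _ _
    have hdeg : Curv2.deg ℂ X ((Scheme.Modules.pullback σ).obj E₁) r₁ = Curv2.deg ℂ X E₁ r₁ :=
      Groth.Agent.Lib.Helper21.BirDeg.deg_pullback ℂ X X hdim.le σ hσS ⊤ (by simp) (by simp)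
        inferInstance r₁ E₁ hE₁
    obtain ⟨j, hj⟩ := Groth.Agent.Lib.Helper2.DegAdd.factor_of_maxSlope ℂ hdim.le r r₁ r₁ hE i₁
      ((Scheme.Modules.pullback σ).map i₁ ≫ φ.hom) hr₁ hE₁ h1 hlt hr₁ hE₁'
      (by
        intro G r' j hj hr' hG
        rw [hdeg]
        exact h1 G r' j hj hr' hG)
    have hE₁ss := hσss E₁ r₁ i₁ hi₁ hr₁ hE₁ ⟨j, hj⟩
    intro G n j hj hn hG
    have hG1 := h1 G n j hj hn hG
    have hr₁' : (0 : ℤ) < (r₁ : ℤ) := by exact_mod_cast hr₁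
    have hn' : (0 : ℤ) ≤ (n : ℤ) := Int.natCast_nonneg n
    have hr' : (0 : ℤ) ≤ (r : ℤ) := Int.natCast_nonneg r
    generalize Curv2.deg ℂ X G n = dG at hG1 ⊢
    generalize Curv2.deg ℂ X E₁ r₁ = dE₁ at hG1 hE₁ss
    generalize Curv2.deg ℂ X E r = dE at hE₁ss ⊢
    have h5 : dG * (r : ℤ) * (r₁ : ℤ) ≤ dE * (n : ℤ) * (r₁ : ℤ) := by
      calc dG * (r : ℤ) * (r₁ : ℤ) = (dG * (r₁ : ℤ)) * (r : ℤ) := by ring
        _ ≤ (dE₁ * (n : ℤ)) * (r : ℤ) := mul_le_mul_of_nonneg_right hG1 hr'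
        _ = (dE₁ * (r : ℤ)) * (n : ℤ) := by ring
        _ ≤ (dE * (r₁ : ℤ)) * (n : ℤ) := mul_le_mul_of_nonneg_right hE₁ss hn'
        _ = dE * (n : ℤ) * (r₁ : ℤ) := by ring
    exact le_of_mul_le_mul_right h5 hr₁'
  · intro h F r' i hi hr' hF _
    exact h F r' i hi hr' hF

end Groth.Agent.S15156
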