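import Groth.Statements.S15162
import Mathlib

set_option autoImplicit false
open Matrix
open BddFin

namespace Groth.Agent.S15162

/-- A 2×2 integer matrix of determinant one, of finite order, with a nonzero fixed vector is 1. -/
lemma eq_one_of_det_one (M : Matrix (Fin 2) (Fin 2) ℤ) (hdet : M.det = 1)
    (n : ℕ) (hn : 0 < n) (hMn : M ^ n = 1)
    (v : Fin 2 → ℤ) (hv : v ≠ 0) (hfix : M *ᵥ v = v) : M = 1 := by
  have h1 : (M - 1).det = 0 := by
    rw [← Matrix.exists_mulVec_eq_zero_iff]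
    refine ⟨v, hv, ?_⟩
    rw [Matrix.sub_mulVec, hfix, Matrix.one_mulVec, sub_self]
  rw [Matrix.det_fin_two] at hdet h1
  simp only [Matrix.sub_apply, Matrix.one_apply_eq, Matrix.one_apply_ne, ne_eq, Fin.isValue,
    zero_ne_one, one_ne_zero, not_false_eq_true, sub_zero] at h1
  have htr : M 0 0 + M 1 1 = 2 := by linear_combination hdet - h1
  set N := M - 1 with hN
  have hNN : N * N = 0 := by
    ext i j
    fin_cases i <;> fin_cases j <;>
      simp [hN, Matrix.mul_apply, Fin.sum_univ_two, Matrix.one_apply]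
    · linear_combination (M 0 0) * htr - hdet
    · linear_combination (M 0 1) * htr
    · linear_combination (M 1 0) * htr
    · linear_combination (M 1 1) * htr - hdet
  have hM : M = 1 + N := by rw [hN]; abel
  have hpow : ∀ m : ℕ, M ^ m = 1 + m • N := by
    intro m
    induction m with
    | zero => simp
    | succ m ih =>
      rw [pow_succ, ih]
      nth_rewrite 1 [hM]
      rw [add_mul, mul_add, mul_add, smul_mul_assoc, smul_mul_assoc, hNN, smul_zero, add_zero,
        mul_one, one_mul, mul_one, add_smul, one_smul]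
      abel
  have h2 : n • N = 0 := by
    have := hpow n
    rw [hMn] at this
    have h3 : (1 : Matrix (Fin 2) (Fin 2) ℤ) + 0 = 1 + n • N := by rw [add_zero]; exact this
    exact (add_left_cancel h3).symm
  have hN0 : N = 0 := by
    ext i j
    have := congrFun (congrFun h2 i) j
    simp only [Matrix.smul_apply, Matrix.zero_apply, nsmul_eq_mul] at this
    rcases mul_eq_zero.mp this with h | h
    · exfalso
      have : (n : ℤ) ≠ 0 := by exact_mod_cast hn.ne'
      exact this h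
    · exact h
  rw [hM, hN0, add_zero]

/-- Let Γ be a finite subgroup of GL_2(ℤ) acting on ℤ² by matrix multiplication. If every element of Γ
has a non-zero fixed vector in ℤ², then there is a non-zero vector of ℤ² fixed by all of Γ. -/
theorem result
    (Γ : Subgroup (Matrix.GeneralLinearGroup (Fin 2) ℤ)) [Finite Γ]
    (h : ∀ γ ∈ Γ, ∃ v : Fin 2 → ℤ, v ≠ 0 ∧ (γ : Matrix (Fin 2) (Fin 2) ℤ) *ᵥ v = v) :
    ∃ v : Fin 2 → ℤ, v ≠ 0 ∧ ∀ γ ∈ Γ, (γ : Matrix (Fin 2) (Fin 2) ℤ) *ᵥ v = v := by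
  classical
  -- elements of determinant one are trivial
  have key : ∀ γ ∈ Γ, (γ : Matrix (Fin 2) (Fin 2) ℤ).det = 1 → γ = 1 := by
    intro γ hγ hdet
    obtain ⟨v, hv, hfix⟩ := h γ hγ
    have hfin : IsOfFinOrder (⟨γ, hγ⟩ : Γ) := isOfFinOrder_of_finite _
    obtain ⟨n, hn, hn'⟩ := hfin.exists_pow_eq_one
    have hγn : γ ^ n = 1 := by
      have := congrArg Subtype.val hn'
      simpa using this
    have hMn : (γ : Matrix (Fin 2) (Fin 2) ℤ) ^ n = 1 := by
      have := congrArg Units.val hγn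
      simpa using this
    apply Units.ext
    exact eq_one_of_det_one _ hdet n hn hMn v hv hfix
  have hdet : ∀ γ : Matrix.GeneralLinearGroup (Fin 2) ℤ,
      (γ : Matrix (Fin 2) (Fin 2) ℤ).det = 1 ∨ (γ : Matrix (Fin 2) (Fin 2) ℤ).det = -1 := by
    intro γ
    have hu : IsUnit (γ : Matrix (Fin 2) (Fin 2) ℤ).det :=
      (Matrix.isUnit_iff_isUnit_det _).mp γ.isUnit
    exact Int.isUnit_iff.mp hu
  have key2 : ∀ γ₁ ∈ Γ, ∀ γ₂ ∈ Γ, γ₁ ≠ 1 → γ₂ ≠ 1 → γ₂ = γ₁ := by
    intro γ₁ h₁ γ₂ h₂ hne₁ hne₂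
    have d₁ : (γ₁ : Matrix (Fin 2) (Fin 2) ℤ).det = -1 := by
      rcases hdet γ₁ with h | h
      · exact absurd (key γ₁ h₁ h) hne₁
      · exact h
    have d₂ : (γ₂ : Matrix (Fin 2) (Fin 2) ℤ).det = -1 := by
      rcases hdet γ₂ with h | h
      · exact absurd (key γ₂ h₂ h) hne₂
      · exact h
    have e1 : γ₁ * γ₂ = 1 := by
      apply key _ (Γ.mul_mem h₁ h₂)
      rw [Units.val_mul, Matrix.det_mul, d₁, d₂]
      norm_num
    have e2 : γ₁ * γ₁ = 1 := by
      apply key _ (Γ.mul_mem h₁ h₁)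
      rw [Units.val_mul, Matrix.det_mul, d₁]
      norm_num
    exact mul_left_cancel (e1.trans e2.symm)
  by_cases hex : ∃ γ ∈ Γ, γ ≠ 1
  · obtain ⟨γ₁, h₁, hne₁⟩ := hex
    obtain ⟨v, hv, hfix⟩ := h γ₁ h₁
    refine ⟨v, hv, fun γ hγ => ?_⟩
    by_cases hγ1 : γ = 1
    · rw [hγ1]
      simp
    · rw [key2 γ₁ h₁ γ hγ hne₁ hγ1]
      exact hfix
  · push Not at hex
    refine ⟨![1, 0], ?_, fun γ hγ => ?_⟩
    · intro h0
      have := congrFun h0 0
      simp at this
    · rw [hex γ hγ]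
      simp

end Groth.Agent.S15162
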