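import Groth.Statements.S15163
import Mathlib
import Groth.Agent.S15162

set_option autoImplicit false
open Matrix
open BddFin

namespace Groth.Agent.S15163

/-- A finite-order 2×2 integer matrix has trace of absolute value at most 2. -/
lemma abs_trace_le_two (M : Matrix (Fin 2) (Fin 2) ℤ) (hdet : M.det = 1 ∨ M.det = -1)
    (n : ℕ) (hn : 0 < n) (hMn : M ^ n = 1) : |M 0 0 + M 1 1| ≤ 2 := by
  set t := M 0 0 + M 1 1 with ht
  set δ := M.det with hδ
  have hδ' : δ = M 0 0 * M 1 1 - M 0 1 * M 1 0 := Matrix.det_fin_two M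
  have hCH : M * M = t • M - δ • (1 : Matrix (Fin 2) (Fin 2) ℤ) := by
    ext i j
    fin_cases i <;> fin_cases j <;>
      simp only [Matrix.mul_apply, Fin.sum_univ_two, Matrix.sub_apply, Matrix.smul_apply,
        Matrix.one_apply, smul_eq_mul, Fin.zero_eta, Fin.mk_one, Fin.isValue, if_true,
        zero_ne_one, one_ne_zero, if_false] <;>
      rw [hδ', ht] <;> ring
  set s : ℕ → ℤ := fun m => Matrix.trace (M ^ m) with hs
  have hrec : ∀ m, s (m + 2) = t * s (m + 1) - δ * s m := by
    intro m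
    simp only [hs]
    have : M ^ (m + 2) = t • M ^ (m + 1) - δ • M ^ m := by
      rw [pow_add, pow_two, hCH, mul_sub, mul_smul_comm, mul_smul_comm, mul_one, ← pow_succ]
    rw [this, Matrix.trace_sub, Matrix.trace_smul, Matrix.trace_smul, smul_eq_mul, smul_eq_mul]
  have hs0 : s 0 = 2 := by
    simp [hs, Matrix.trace_fin_two]
  have hs1 : s 1 = t := by
    simp [hs, Matrix.trace_fin_two, ht]
  by_contra hcon
  push Not at hcon
  have hδabs : |δ| = 1 := by
    rcases hdet with h | h <;> rw [h] <;> simp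
  have hP : ∀ m, |s m| < |s (m + 1)| ∧ 2 ≤ |s m| := by
    intro m
    induction m with
    | zero =>
      rw [hs0, hs1]
      exact ⟨by simpa using hcon, by simp⟩
    | succ m ih =>
      obtain ⟨h1, h2⟩ := ih
      refine ⟨?_, by linarith⟩
      rw [hrec m]
      have h3 : |t * s (m + 1)| - |δ * s m| ≤ |t * s (m + 1) - δ * s m| := abs_sub_abs_le_abs_sub _ _
      rw [abs_mul, abs_mul, hδabs, one_mul] at h3
      have h4 : 3 * |s (m + 1)| ≤ |t| * |s (m + 1)| := by
        apply mul_le_mul_of_nonneg_right _ (abs_nonneg _)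
        linarith
      linarith
  obtain ⟨m, rfl⟩ : ∃ m, n = m + 1 := ⟨n - 1, by omega⟩
  have := (hP m).1
  have h2 := (hP m).2
  have hsn : s (m + 1) = 2 := by
    simp [hs, hMn, Matrix.trace_fin_two]
  rw [hsn] at this
  simp at this
  linarith

/-- Let Γ be a finite subgroup of GL_2(ℤ) and d > 6 an integer. Suppose some vector w of (ℤ/dℤ)², with
m·w ≠ 0 for all 0 < m < d, is fixed by the reduction modulo d of every element of Γ. Then some
non-zero vector of ℤ² is fixed by all of Γ. -/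
theorem result
    (Γ : Subgroup (Matrix.GeneralLinearGroup (Fin 2) ℤ)) [Finite Γ] (d : ℕ) (hd : 6 < d)
    (w : Fin 2 → ZMod d) (hw : ∀ m : ℕ, 0 < m → m < d → m • w ≠ 0)
    (hfix : ∀ γ ∈ Γ, ((γ : Matrix (Fin 2) (Fin 2) ℤ).map (Int.castRingHom (ZMod d))) *ᵥ w = w) :
    ∃ v : Fin 2 → ℤ, v ≠ 0 ∧ ∀ γ ∈ Γ, (γ : Matrix (Fin 2) (Fin 2) ℤ) *ᵥ v = v := by
  classical
  apply Groth.Agent.S15162.result Γ
  intro γ hγ
  set M : Matrix (Fin 2) (Fin 2) ℤ := (γ : Matrix (Fin 2) (Fin 2) ℤ) with hM
  have hdet : M.det = 1 ∨ M.det = -1 := by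
    have hu : IsUnit M.det := (Matrix.isUnit_iff_isUnit_det _).mp γ.isUnit
    exact Int.isUnit_iff.mp hu
  have hfin : IsOfFinOrder (⟨γ, hγ⟩ : Γ) := isOfFinOrder_of_finite _
  obtain ⟨n, hn, hn'⟩ := hfin.exists_pow_eq_one
  have hγn : γ ^ n = 1 := by
    have := congrArg Subtype.val hn'
    simpa using this
  have hMn : M ^ n = 1 := by
    have := congrArg Units.val hγn
    simpa using this
  have htr := abs_trace_le_two M hdet n hn hMn
  -- determinant of M - 1
  set D := (M - 1).det with hD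
  have hDval : D = M.det - (M 0 0 + M 1 1) + 1 := by
    rw [hD, Matrix.det_fin_two, Matrix.det_fin_two]
    simp only [Matrix.sub_apply, Matrix.one_apply_eq, Matrix.one_apply_ne, ne_eq, Fin.isValue,
      zero_ne_one, one_ne_zero, not_false_eq_true, sub_zero]
    ring
  have hDabs : D.natAbs ≤ 4 := by
    have h1 := abs_le.mp htr
    rcases hdet with h | h <;> rw [h] at hDval <;> omega
  -- reduction mod d
  set A : Matrix (Fin 2) (Fin 2) (ZMod d) := M.map (Int.castRingHom (ZMod d)) - 1 with hA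
  have hAw : A *ᵥ w = 0 := by
    rw [hA, Matrix.sub_mulVec, hfix γ hγ, Matrix.one_mulVec, sub_self]
  have hAdet : A.det = ((D : ℤ) : ZMod d) := by
    have h1 : A = (M - 1).map (Int.castRingHom (ZMod d)) := by
      rw [hA, Matrix.map_sub (f := Int.castRingHom (ZMod d)) (by intro a b; simp)]
      congr 1
      ext i j
      simp [Matrix.one_apply]
    rw [h1, hD]
    have := RingHom.map_det (Int.castRingHom (ZMod d)) (M - 1)
    exact this.symm
  have hDw : ((D : ℤ) : ZMod d) • w = 0 := by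
    have h1 : A.adjugate *ᵥ (A *ᵥ w) = 0 := by rw [hAw, Matrix.mulVec_zero]
    rw [Matrix.mulVec_mulVec, Matrix.adjugate_mul, Matrix.smul_mulVec, Matrix.one_mulVec,
      hAdet] at h1
    exact h1
  have hD0 : D = 0 := by
    by_contra hne
    have hpos : 0 < D.natAbs := Int.natAbs_pos.mpr hne
    have hlt : D.natAbs < d := by omega
    apply hw D.natAbs hpos hlt
    rw [← Nat.cast_smul_eq_nsmul (ZMod d)]
    rcases Int.natAbs_eq D with h | h
    · have : ((D.natAbs : ℕ) : ZMod d) = ((D : ℤ) : ZMod d) := by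
        conv_rhs => rw [h]
        simp
      rw [this, hDw]
    · have : ((D.natAbs : ℕ) : ZMod d) = -((D : ℤ) : ZMod d) := by
        conv_rhs => rw [h]
        simp
      rw [this, neg_smul, hDw, neg_zero]
  obtain ⟨v, hv, hv'⟩ := Matrix.exists_mulVec_eq_zero_iff.mpr hD0
  refine ⟨v, hv, ?_⟩
  rw [Matrix.sub_mulVec, Matrix.one_mulVec, sub_eq_zero] at hv'
  exact hv'

end Groth.Agent.S15163
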