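import Groth.Statements.S15164
import Mathlib

set_option autoImplicit false
universe u v
open BddFin

namespace Groth.Agent.S15164

/-- Let K be a field of characteristic p > 2, V a finite-dimensional K-vector space and q a quadratic
form on V that does not represent zero (q x = 0 only for x = 0). Then the group of K-linear
automorphisms of V preserving q has no element of order p: if g preserves q and g ^ p = 1 then g =
1. (Non-degeneracy of q, also assumed in the published statement, follows from anisotropy since 2 is
invertible, so it is not repeated here.) -/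
theorem result
    (K : Type u) [Field K] (p : ℕ) [Fact p.Prime] [CharP K p] (hp : p ≠ 2)
    (V : Type v) [AddCommGroup V] [Module K V] [FiniteDimensional K V]
    (q : QuadraticForm K V) (hq : q.Anisotropic)
    (g : V ≃ₗ[K] V) (hg : ∀ x : V, q (g x) = q x) (hgp : g ^ p = 1) : g = 1 := by
  classical
  set G : Module.End K V := (g : V →ₗ[K] V) with hG
  set N : Module.End K V := G - 1 with hN
  have hGp : G ^ p = 1 := by
    apply LinearMap.ext
    intro x
    rw [Module.End.pow_apply]
    have := congrArg (fun e : V ≃ₗ[K] V => e x) hgp
    simp only [LinearEquiv.pow_apply] at this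
    exact this
  have hNp : N ^ p = 0 := by
    have h1 : ((Polynomial.X - 1 : Polynomial K)) ^ p = Polynomial.X ^ p - 1 := by
      rw [sub_pow_char, one_pow]
    have h2 := congrArg (Polynomial.aeval G) h1
    simpa [hGp] using h2
  have h2K : (2 : K) ≠ 0 := by
    apply Ring.two_ne_zero
    rw [ringChar.eq K p]
    exact hp
  -- reduce to N = 0
  suffices hN0 : N = 0 by
    apply LinearEquiv.toLinearMap_injective
    have : G = 1 := sub_eq_zero.mp hN0
    exact this
  by_contra hN0
  -- minimal exponent
  have hex : ∃ n, N ^ n = 0 := ⟨p, hNp⟩
  set n := Nat.find hex with hn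
  have hnz : N ^ n = 0 := Nat.find_spec hex
  have hn2 : 2 ≤ n := by
    by_contra hlt
    push Not at hlt
    interval_cases n
    · rw [pow_zero] at hnz
      apply hN0
      rw [← mul_one N, hnz, mul_zero]
    · rw [pow_one] at hnz
      exact hN0 hnz
  have hmin : N ^ (n - 1) ≠ 0 := Nat.find_min hex (by omega)
  obtain ⟨v, hv⟩ : ∃ v, (N ^ (n - 1)) v ≠ 0 := by
    by_contra hcon
    push Not at hcon
    exact hmin (LinearMap.ext hcon)
  set v' := (N ^ (n - 2)) v with hv'
  set u := N v' with hu
  have hu1 : u = (N ^ (n - 1)) v := by
    rw [hu, hv', ← Module.End.mul_apply, ← pow_succ']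
    congr 2
    omega
  have hu0 : u ≠ 0 := by rw [hu1]; exact hv
  have hNu : N u = 0 := by
    rw [hu1, ← Module.End.mul_apply, ← pow_succ']
    have : n - 1 + 1 = n := by omega
    rw [this, hnz]
    rfl
  have hgv : g v' = v' + u := by
    have : N v' = G v' - v' := rfl
    rw [hu, this]
    change g v' = v' + (g v' - v')
    abel
  have hgu : g u = u := by
    have : N u = G u - u := rfl
    rw [this, sub_eq_zero] at hNu
    exact hNu
  have e1 : q (v' + u) = q v' := by rw [← hgv, hg]
  have e2 : q (v' + u + u) = q v' := by
    have : g (v' + u) = v' + u + u := by rw [map_add, hgv, hgu]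
    rw [← this, hg, e1]
  rw [QuadraticMap.map_add q v' u] at e1
  rw [QuadraticMap.map_add q (v' + u) u, QuadraticMap.polar_add_left, QuadraticMap.polar_self,
    QuadraticMap.map_add q v' u] at e2
  have h3 : (2 : K) * q u = 0 := by
    rw [nsmul_eq_mul] at e2
    push_cast at e2
    linear_combination e2 - 2 * e1
  have h4 : q u = 0 := by
    rcases mul_eq_zero.mp h3 with h | h
    · exact absurd h h2K
    · exact h
  exact hu0 (hq u h4)

end Groth.Agent.S15164
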