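import Groth.Statements.S15165
import Mathlib

set_option autoImplicit false
universe u v
open Polynomial
open BddFin

namespace Groth.Agent.S15165

/-- Let K be a field of characteristic different from 2 such that K contains all roots of unity (for
every n ≥ 1 the polynomial X^n − 1 splits into linear factors over K), V a finite-dimensional
K-vector space and q a quadratic form on V that does not represent zero. If a K-linear automorphism
g of V preserves q and has finite order (g ^ d = 1 for some d ≥ 1), then g ^ 2 = 1. (The published
statement also covers perfect fields of characteristic 2; this row is the case of characteristic ≠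
2.) -/
theorem result
    (K : Type u) [Field K] (hK : ∀ n : ℕ, 0 < n → (X ^ n - 1 : K[X]).Splits) (h2 : (2 : K) ≠ 0)
    (V : Type v) [AddCommGroup V] [Module K V] [FiniteDimensional K V]
    (q : QuadraticForm K V) (hq : q.Anisotropic)
    (g : V ≃ₗ[K] V) (hg : ∀ x : V, q (g x) = q x) (d : ℕ) (hd : 0 < d) (hgd : g ^ d = 1) :
    g ^ 2 = 1 := by
  classical
  -- Lemma B
  have hB : ∀ (μ : K) (u : V), g u = μ • u → u ≠ 0 → μ * μ = 1 := by
    intro μ u hgu hu
    have h1 : q (g u) = q u := hg u
    rw [hgu, QuadraticMap.map_smul, smul_eq_mul] at h1
    have hqu : q u ≠ 0 := fun h => hu (hq u h)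
    have h3 : (μ * μ - 1) * q u = 0 := by linear_combination h1
    rcases mul_eq_zero.mp h3 with h | h
    · exact sub_eq_zero.mp h
    · exact absurd h hqu
  -- Lemma A
  have hA : ∀ (μ : K) (v : V), g (g v - μ • v) = μ • (g v - μ • v) → g v = μ • v := by
    intro μ v hv
    by_contra hne
    set u := g v - μ • v with hu
    have hu0 : u ≠ 0 := fun h => hne (sub_eq_zero.mp h)
    have hμ : μ * μ = 1 := hB μ u hv hu0
    set z := g v with hz
    have hzu : z - u = μ • v := by rw [hu]; abel
    have hgz : g z = μ • (z + u) := by
      have : z = μ • v + u := by rw [hu]; abel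
      rw [smul_add]
      nth_rewrite 1 [this]
      rw [map_add, map_smul, hv]
    have e1 : q (z + u) = q z := by
      have h1 : q (g z) = q z := hg z
      rw [hgz, QuadraticMap.map_smul, hμ, one_smul] at h1
      exact h1
    have e2 : q (z - u) = q z := by
      rw [hzu, QuadraticMap.map_smul, hμ, one_smul, hz, hg]
    rw [QuadraticMap.map_add q z u] at e1
    rw [sub_eq_add_neg, QuadraticMap.map_add q z (-u), QuadraticMap.polar_neg_right,
      QuadraticMap.map_neg] at e2
    have h3 : (2 : K) * q u = 0 := by linear_combination e1 + e2
    rcases mul_eq_zero.mp h3 with h | h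
    · exact h2 h
    · exact hu0 (hq u h)
  set G : Module.End K V := (g : V →ₗ[K] V) with hG
  have hGapp : ∀ x, G x = g x := fun x => rfl
  -- main induction
  have main : ∀ (m : Multiset K) (v : V),
      (Polynomial.aeval G (m.map (fun a => (X : K[X]) - C a)).prod) v = 0 → g (g v) = v := by
    intro m
    induction m using Multiset.induction_on with
    | empty =>
      intro v hv
      simp only [Multiset.map_zero, Multiset.prod_zero, map_one, Module.End.one_apply] at hv
      rw [hv, map_zero, map_zero]
    | cons μ m ih =>
      intro v hv
      rw [Multiset.map_cons, Multiset.prod_cons] at hv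
      set Pm := (m.map (fun a => (X : K[X]) - C a)).prod with hPm
      have hcomm : Polynomial.aeval G ((X - C μ) * Pm) = Polynomial.aeval G (Pm * (X - C μ)) := by
        rw [mul_comm]
      have hXμ : ∀ x, Polynomial.aeval G (X - C μ) x = g x - μ • x := by
        intro x
        simp [hG, Algebra.algebraMap_eq_smul_one]
      set w := Polynomial.aeval G Pm v with hw
      have h1 : g w = μ • w := by
        rw [map_mul, Module.End.mul_apply, hXμ] at hv
        exact sub_eq_zero.mp hv
      by_cases hw0 : w = 0
      · exact ih v hw0
      · have hμ : μ * μ = 1 := hB μ w h1 hw0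
        have h2' : Polynomial.aeval G Pm (g v - μ • v) = 0 := by
          rw [← hXμ, ← Module.End.mul_apply, ← map_mul, ← hcomm, hv]
        have h3 := ih _ h2'
        -- h3 : g (g (g v - μ v)) = g v - μ v
        set v1 := g v + μ • v with hv1
        have h4 : g (g v1 - μ • v1) = μ • (g v1 - μ • v1) := by
          have e : g v1 - μ • v1 = g (g v) - v := by
            rw [hv1, map_add, map_smul, smul_add, smul_smul, hμ, one_smul]
            abel
          rw [e]
          have e2 : g (g (g v)) - g v = μ • (g (g v) - v) := by
            have : g (g (g v - μ • v)) = g (g (g v)) - μ • g (g v) := by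
              simp [map_sub, map_smul]
            rw [this] at h3
            have h5 : g (g (g v)) = μ • g (g v) + g v - μ • v := by
              rw [sub_eq_iff_eq_add] at h3
              rw [h3]; abel
            rw [h5, smul_sub]
            abel
          rw [map_sub]
          exact e2
        have h5 := hA μ v1 h4
        -- g v1 = μ v1 → g(g v) + μ g v = μ g v + μ μ v
        rw [hv1, map_add, map_smul, smul_add, smul_smul, hμ, one_smul] at h5
        rw [add_comm (μ • g v) v] at h5
        exact add_right_cancel h5
  -- apply to X^d - 1
  obtain ⟨m, hm⟩ := Polynomial.splits_iff_exists_multiset.mp (hK d hd)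
  have hmonic : (X ^ d - 1 : K[X]).Monic := Polynomial.monic_X_pow_sub_C 1 hd.ne'
  rw [hmonic.leadingCoeff, C_1, one_mul] at hm
  have hGd : G ^ d = 1 := by
    apply LinearMap.ext
    intro x
    rw [Module.End.pow_apply]
    have := congrArg (fun e : V ≃ₗ[K] V => e x) hgd
    simp only [LinearEquiv.pow_apply] at this
    exact this
  have hzero : Polynomial.aeval G (X ^ d - 1 : K[X]) = 0 := by
    simp [hGd]
  apply LinearEquiv.ext
  intro v
  have := main m v (by rw [← hm, hzero]; rfl)
  rw [pow_two]
  exact this

end Groth.Agent.S15165
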