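import Groth.Statements.S15166
import Mathlib

set_option autoImplicit false
universe u v
open Polynomial
open BddFin

namespace Groth.Agent.S15166



section
variable {K : Type u} [Field K] {V : Type v} [AddCommGroup V] [Module K V] [FiniteDimensional K V]

/-- no Jordan block: key quadratic form computation -/
theorem jordan_contra (h2 : (2 : K) ≠ 0) (q : QuadraticForm K V) (hq : q.Anisotropic)
    (t : V →ₗ[K] V) (ht : ∀ x, q (t x) = q x) (c : K) (hc : c * c = 1) (u v : V)
    (h1 : t u = c • u + v) (h3 : t v = c • v) : v = 0 := by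
  apply hq
  have e1 : q (t u) = q u := ht u
  have e2 : q (t (t u)) = q u := by rw [ht, ht]
  have htt : t (t u) = u + (2 * c) • v := by
    rw [h1, map_add, map_smul, h1, h3, smul_add, smul_smul, hc, one_smul, add_assoc, ← add_smul,
      two_mul]
  rw [htt, QuadraticMap.map_add q, QuadraticMap.map_smul, QuadraticMap.polar_smul_right] at e2
  rw [h1, QuadraticMap.map_add q, QuadraticMap.map_smul, QuadraticMap.polar_smul_left, hc,
    one_smul] at e1
  simp only [smul_eq_mul] at e1 e2
  have e1' : q v + c * QuadraticMap.polar q u v = 0 := by linear_combination e1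
  have e2' : 4 * q v + 2 * (c * QuadraticMap.polar q u v) = 0 := by
    have : 2 * c * (2 * c) = 4 := by
      calc 2 * c * (2 * c) = 4 * (c * c) := by ring
        _ = 4 := by rw [hc, mul_one]
    rw [this] at e2
    linear_combination e2
  have e3 : 2 * q v = 0 := by linear_combination e2' - 2 * e1'
  exact (mul_eq_zero.mp e3).resolve_left h2

theorem sq_eq_one (hK : ∀ n : ℕ, 0 < n → (X ^ n - 1 : K[X]).Splits) (h2 : (2 : K) ≠ 0)
    (q : QuadraticForm K V) (hq : q.Anisotropic) (t : Module.End K V) (ht : ∀ x, q (t x) = q x)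
    (N : ℕ) (hN : 0 < N) (htN : t ^ N = 1) : t * t = 1 := by
  classical
  have hint : IsIntegral K t := Algebra.IsIntegral.isIntegral t
  have hmonic : (minpoly K t).Monic := minpoly.monic hint
  have hP0 : minpoly K t ≠ 0 := hmonic.ne_zero
  have hdvd : minpoly K t ∣ X ^ N - 1 := minpoly.dvd K t (by simp [htN])
  have hXN : (X ^ N - 1 : K[X]) ≠ 0 := by
    have := (monic_X_pow_sub_C (1 : K) hN.ne').ne_zero
    simpa using this
  have hsplit : (minpoly K t).Splits := (hK N hN).of_dvd hXN hdvd
  have hroot : ∀ c ∈ (minpoly K t).roots, c * c = 1 := by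
    intro c hc
    have hr : (minpoly K t).IsRoot c := (mem_roots hP0).mp hc
    obtain ⟨v, hv⟩ := (Module.End.hasEigenvalue_of_isRoot hr).exists_hasEigenvector
    have htv : t v = c • v := hv.apply_eq_smul
    have h := ht v
    rw [htv, QuadraticMap.map_smul, smul_eq_mul] at h
    have hqv : q v ≠ 0 := fun h0 => hv.2 (hq v h0)
    have : (c * c - 1) * q v = 0 := by linear_combination h
    rcases mul_eq_zero.mp this with h' | h'
    · linear_combination h'
    · exact absurd h' hqv
  have hmult : ∀ c, (minpoly K t).roots.count c ≤ 1 := by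
    intro c
    by_contra hcon
    push Not at hcon
    have hcroot : c ∈ (minpoly K t).roots := Multiset.count_pos.mp (by omega)
    have hcc := hroot c hcroot
    rw [count_roots] at hcon
    have hdiv : (X - C c) ^ 2 ∣ minpoly K t := (le_rootMultiplicity_iff hP0).mp hcon
    obtain ⟨R, hR⟩ := hdiv
    have hR0 : R ≠ 0 := by
      rintro rfl
      rw [mul_zero] at hR
      exact hP0 hR
    have hS : aeval t ((X - C c) * R) ≠ 0 := by
      intro h0
      have hd := minpoly.dvd K t h0
      have hS0 : (X - C c) * R ≠ 0 := mul_ne_zero (X_sub_C_ne_zero c) hR0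
      have hle := natDegree_le_of_dvd hd hS0
      rw [hR, natDegree_mul (pow_ne_zero 2 (X_sub_C_ne_zero c)) hR0,
        natDegree_mul (X_sub_C_ne_zero c) hR0, natDegree_pow, natDegree_X_sub_C] at hle
      omega
    obtain ⟨w, hw⟩ : ∃ w, aeval t ((X - C c) * R) w ≠ 0 := by
      by_contra hall
      push Not at hall
      exact hS (LinearMap.ext hall)
    have hv1 : aeval t ((X - C c) * R) w = t (aeval t R w) - c • (aeval t R w) := by
      rw [map_mul, map_sub, aeval_X, aeval_C]
      simp [Module.algebraMap_end_apply]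
    have hv2 : t (aeval t ((X - C c) * R) w) - c • (aeval t ((X - C c) * R) w) = 0 := by
      have h0 : aeval t (minpoly K t) w = 0 := by rw [minpoly.aeval]; rfl
      rw [hR, pow_two, mul_assoc, map_mul, map_sub, aeval_X, aeval_C] at h0
      simpa [Module.algebraMap_end_apply] using h0
    apply hw
    refine jordan_contra h2 q hq t ht c hcc (aeval t R w) _ ?_ ?_
    · rw [hv1]; abel
    · exact sub_eq_zero.mp hv2
  have hnodup : (minpoly K t).roots.Nodup := Multiset.nodup_iff_count_le_one.mpr hmult
  have hsub : (minpoly K t).roots ≤ ({1, -1} : Multiset K) := by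
    rw [Multiset.le_iff_subset hnodup]
    intro c hc
    have := hroot c hc
    have h' : (c - 1) * (c + 1) = 0 := by linear_combination this
    rcases mul_eq_zero.mp h' with h'' | h''
    · have : c = 1 := by linear_combination h''
      simp [this]
    · have : c = -1 := by linear_combination h''
      simp [this]
  have hPdvd : minpoly K t ∣ (X - C 1) * (X - C (-1)) := by
    rw [hsplit.eq_prod_roots_of_monic hmonic]
    have := Multiset.prod_dvd_prod_of_le (Multiset.map_le_map (f := fun a => X - C a) hsub)
    simpa using this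
  have h0 : aeval t ((X - C 1) * (X - C (-1)) : K[X]) = 0 := by
    obtain ⟨Q, hQ⟩ := hPdvd
    rw [hQ, map_mul, minpoly.aeval, zero_mul]
  rw [map_mul, map_sub, map_sub, aeval_X, aeval_C, aeval_C, map_one, map_neg, map_one] at h0
  have : t * t - 1 = (t - 1) * (t - -1) := by
    simp only [sub_neg_eq_add, mul_add, sub_mul, mul_one, one_mul]
    abel
  rw [← sub_eq_zero, this, h0]

theorem card_le (h2 : (2 : K) ≠ 0) (G : Subgroup (V ≃ₗ[K] V)) [Finite G]
    (hsq : ∀ g ∈ G, g * g = 1) (hcomm : ∀ g ∈ G, ∀ h ∈ G, g * h = h * g) :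
    Nat.card G ≤ 2 ^ Module.finrank K V := by
  classical
  let f : G → Module.End K V := fun g => ((g : V ≃ₗ[K] V) : V →ₗ[K] V)
  have hfapp : ∀ (g : G) (x : V), f g x = (g : V ≃ₗ[K] V) x := fun g x => rfl
  have hff : ∀ (g : G) (x : V), f g (f g x) = x := by
    intro g x
    exact congrArg (fun e : V ≃ₗ[K] V => e x) (hsq g g.2)
  have hcommf : Pairwise fun i j => Commute (f i) (f j) := by
    intro i j _
    ext x
    exact congrArg (fun e : V ≃ₗ[K] V => e x) (hcomm i i.2 j j.2)
  have h11 : (1 : K) ≠ -1 := by
    intro h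
    apply h2
    have : (2 : K) = 1 + 1 := by norm_num
    rw [this]
    nth_rw 1 [h]
    ring
  have hss : ∀ g, (f g).IsSemisimple := by
    intro g
    refine Module.End.isSemisimple_of_squarefree_aeval_eq_zero
      (p := (X - C 1) * (X - C (-1) : K[X])) ?_ ?_
    · apply Separable.squarefree
      refine (separable_X_sub_C).mul (separable_X_sub_C) ?_
      apply isCoprime_X_sub_C_of_isUnit_sub
      rw [isUnit_iff_ne_zero, sub_neg_eq_add]
      intro h
      apply h2
      have : (2 : K) = 1 + 1 := by norm_num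
      rw [this, h]
    · rw [map_mul, map_sub, map_sub, aeval_X, aeval_C, aeval_C, map_one, map_neg, map_one]
      ext x
      simp only [sub_neg_eq_add, Module.End.mul_apply, LinearMap.sub_apply, LinearMap.add_apply,
        Module.End.one_apply, map_add, map_sub, LinearMap.zero_apply, hff]
      abel
  have heig : ∀ g μ, (f g).maxGenEigenspace μ = (f g).eigenspace μ := fun g μ =>
    (hss g).isFinitelySemisimple.maxGenEigenspace_eq_eigenspace μ
  have h' : ∀ g, ⨆ μ, (f g).maxGenEigenspace μ = ⊤ := by
    intro g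
    rw [eq_top_iff]
    intro x _
    have ha : (2 : K)⁻¹ • (x + f g x) ∈ (f g).maxGenEigenspace 1 := by
      rw [heig, Module.End.mem_eigenspace_iff, map_smul, map_add, hff, one_smul, add_comm]
    have hb : (2 : K)⁻¹ • (x - f g x) ∈ (f g).maxGenEigenspace (-1) := by
      rw [heig, Module.End.mem_eigenspace_iff, map_smul, map_sub, hff, neg_smul, one_smul,
        ← smul_neg, neg_sub]
    have hx : x = (2 : K)⁻¹ • (x + f g x) + (2 : K)⁻¹ • (x - f g x) := by
      rw [← smul_add, add_add_sub_cancel, ← two_smul K x, smul_smul, inv_mul_cancel₀ h2, one_smul]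
    rw [hx]
    exact add_mem (Submodule.mem_iSup_of_mem 1 ha) (Submodule.mem_iSup_of_mem (-1) hb)
  have htop :=
    Module.End.iSup_iInf_maxGenEigenspace_eq_top_of_iSup_maxGenEigenspace_eq_top_of_commute
      f hcommf h'
  have hindep := Module.End.independent_iInf_maxGenEigenspace_of_forall_mapsTo f
    (fun i j φ => Module.End.mapsTo_maxGenEigenspace_of_comm (by
      rcases eq_or_ne j i with rfl | hij
      · exact Commute.refl _
      · exact hcommf hij) φ)
  let W : (G → K) → Submodule K V := fun χ => ⨅ g, (f g).maxGenEigenspace (χ g)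
  have hWmem : ∀ (χ : G → K) (x : V), x ∈ W χ → ∀ g, f g x = χ g • x := by
    intro χ x hx g
    have := (Submodule.mem_iInf _).mp hx g
    rw [heig, Module.End.mem_eigenspace_iff] at this
    exact this
  letI : Fintype {χ // W χ ≠ ⊥} := hindep.fintypeNeBotOfFiniteDimensional
  have hcard : Fintype.card {χ // W χ ≠ ⊥} ≤ Module.finrank K V :=
    hindep.subtype_ne_bot_le_finrank
  have hval : ∀ (χ : {χ // W χ ≠ ⊥}) (g : G), χ.1 g = 1 ∨ χ.1 g = -1 := by
    intro χ g
    obtain ⟨x, hxW, hx0⟩ := (Submodule.ne_bot_iff _).mp χ.2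
    have h1 := hWmem χ.1 x hxW g
    have h3 := hff g x
    rw [h1, map_smul, h1, smul_smul] at h3
    have h4 : (χ.1 g * χ.1 g - 1) • x = 0 := by rw [sub_smul, h3, one_smul, sub_self]
    have h5 : χ.1 g * χ.1 g - 1 = 0 := (smul_eq_zero.mp h4).resolve_right hx0
    have h6 : (χ.1 g - 1) * (χ.1 g + 1) = 0 := by linear_combination h5
    rcases mul_eq_zero.mp h6 with h7 | h7
    · left; linear_combination h7
    · right; linear_combination h7
  let Φ : G → ({χ // W χ ≠ ⊥} → Bool) := fun g χ => decide (χ.1 g = 1)
  have hΦ : Function.Injective Φ := by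
    intro g g' hgg
    have hχ : ∀ χ : {χ // W χ ≠ ⊥}, χ.1 g = χ.1 g' := by
      intro χ
      have h1 : decide (χ.1 g = 1) = decide (χ.1 g' = 1) := congrFun hgg χ
      rcases hval χ g with ha | ha <;> rcases hval χ g' with hb | hb
      · rw [ha, hb]
      · exfalso
        rw [ha, hb] at h1
        have h8 : ((1 : K) = 1) ↔ ((-1 : K) = 1) := by simpa using h1
        exact h11 (h8.mp rfl).symm
      · exfalso
        rw [ha, hb] at h1
        have h8 : ((-1 : K) = 1) ↔ ((1 : K) = 1) := by simpa using h1
        exact h11 (h8.mpr rfl).symm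
      · rw [ha, hb]
    have hfeq : ∀ x : V, f g x = f g' x := by
      intro x
      have hx : x ∈ ⨆ χ, W χ := by rw [htop]; trivial
      refine Submodule.iSup_induction W (motive := fun x => f g x = f g' x) hx ?_ ?_ ?_
      · intro χ y hy
        by_cases hW : W χ = ⊥
        · rw [hW, Submodule.mem_bot] at hy
          rw [hy, map_zero, map_zero]
        · rw [hWmem χ y hy g, hWmem χ y hy g', show χ g = χ g' from hχ ⟨χ, hW⟩]
      · rw [map_zero, map_zero]
      · intro y z hy hz
        rw [map_add, map_add, hy, hz]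
    apply Subtype.ext
    apply LinearEquiv.ext
    intro x
    exact hfeq x
  calc Nat.card G ≤ Nat.card ({χ // W χ ≠ ⊥} → Bool) := Nat.card_le_card_of_injective Φ hΦ
    _ = 2 ^ Fintype.card {χ // W χ ≠ ⊥} := by
      rw [Nat.card_eq_fintype_card, Fintype.card_fun, Fintype.card_bool]
    _ ≤ 2 ^ Module.finrank K V := Nat.pow_le_pow_right (by norm_num) hcard

end

/-- Let K be a field of characteristic different from 2 such that K contains all roots of unity (for
every n ≥ 1 the polynomial X^n − 1 splits into linear factors over K), V a finite-dimensional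
K-vector space and q a quadratic form on V that does not represent zero. Then every finite subgroup
of the group of K-linear automorphisms of V preserving q is abelian and has order at most 2 ^ (dim
V). (The published statement also covers perfect fields of characteristic 2; this row is the case of
characteristic ≠ 2.) -/
theorem result
    (K : Type u) [Field K] (hK : ∀ n : ℕ, 0 < n → (X ^ n - 1 : K[X]).Splits) (h2 : (2 : K) ≠ 0)
    (V : Type v) [AddCommGroup V] [Module K V] [FiniteDimensional K V]
    (q : QuadraticForm K V) (hq : q.Anisotropic)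
    (G : Subgroup (V ≃ₗ[K] V)) [Finite G] (hG : ∀ g ∈ G, ∀ x : V, q (g x) = q x) :
    (∀ g ∈ G, ∀ h ∈ G, g * h = h * g) ∧ Nat.card G ≤ 2 ^ Module.finrank K V := by

  have hsq : ∀ g ∈ G, g * g = 1 := by
    intro g hg
    have hfin : IsOfFinOrder (⟨g, hg⟩ : G) := isOfFinOrder_of_finite _
    have hN : 0 < orderOf (⟨g, hg⟩ : G) := hfin.orderOf_pos
    have hpow : (⟨g, hg⟩ : G) ^ orderOf (⟨g, hg⟩ : G) = 1 := pow_orderOf_eq_one _
    have hpow' : g ^ orderOf (⟨g, hg⟩ : G) = 1 := by
      have := congrArg (fun x : G => (x : V ≃ₗ[K] V)) hpow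
      simpa using this
    have htN : ((g : V ≃ₗ[K] V) : V →ₗ[K] V) ^ orderOf (⟨g, hg⟩ : G) = 1 := by
      have := congrArg (LinearEquiv.automorphismGroup.toLinearMapMonoidHom (R := K) (M := V)) hpow'
      rw [map_pow, map_one] at this
      exact this
    have := sq_eq_one hK h2 q hq ((g : V ≃ₗ[K] V) : V →ₗ[K] V) (hG g hg) _ hN htN
    apply LinearEquiv.ext
    intro x
    exact congrArg (fun e : V →ₗ[K] V => e x) this
  have hcomm : ∀ g ∈ G, ∀ h ∈ G, g * h = h * g := by
    intro g hg h hh
    have h1 := hsq (g * h) (G.mul_mem hg hh)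
    have h2' := hsq g hg
    have h3 := hsq h hh
    have hinv : ∀ x : V ≃ₗ[K] V, x * x = 1 → x⁻¹ = x := fun x hx =>
      (eq_inv_of_mul_eq_one_left hx).symm
    calc g * h = (g * h)⁻¹ := (hinv _ h1).symm
      _ = h⁻¹ * g⁻¹ := mul_inv_rev g h
      _ = h * g := by rw [hinv h h3, hinv g h2']
  exact ⟨hcomm, card_le h2 G hsq hcomm⟩

end Groth.Agent.S15166
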