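import Groth.Statements.S15167
import Groth.Agent.Lib.Helper15.TorsionMinpoly
-- import your own Groth.Agent.* helpers here

set_option autoImplicit false
universe u v
open Polynomial
open BddFin

namespace Groth.Agent.S15167

/-- Let K be a field such that K contains all roots of unity (for every n ≥ 1 the polynomial X^n − 1
splits into linear factors over K), A a central simple K-algebra of dimension n ^ 2, and x an
invertible element of A some power x ^ m (m ≥ 1) of which lies in K. Then there are a positive
integer r dividing n and elements a_i of K such that the minimal polynomial of x over K is the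
product of the polynomials X ^ r − a_i. -/
theorem result
    (K : Type u) [Field K] (hK : ∀ n : ℕ, 0 < n → (X ^ n - 1 : K[X]).Splits)
    (A : Type v) [Ring A] [Algebra K A] [Algebra.IsCentral K A] [IsSimpleRing A] [FiniteDimensional K A]
    (n : ℕ) (hn : Module.finrank K A = n ^ 2)
    (x : A) (hx : IsUnit x) (hxm : ∃ m : ℕ, 0 < m ∧ x ^ m ∈ (algebraMap K A).range) :
    ∃ r : ℕ, 0 < r ∧ r ∣ n ∧ ∃ s : Multiset K, minpoly K x = (s.map fun a : K => X ^ r - C a).prod := by
  classical
  obtain ⟨m, hm, a, ha⟩ := hxm
  have hnt : Nontrivial A := inferInstance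
  have hint : IsIntegral K x := Algebra.IsIntegral.isIntegral x
  have ha0 : a ≠ 0 := by
    rintro rfl
    rw [map_zero] at ha
    have : IsUnit (x ^ m) := hx.pow m
    rw [← ha] at this
    exact not_isUnit_zero this
  have hμ : (minpoly K x).Monic := minpoly.monic hint
  have hdeg : 0 < (minpoly K x).natDegree := minpoly.natDegree_pos hint
  have hdvd : minpoly K x ∣ X ^ m - C a := by
    apply minpoly.dvd
    simp [← ha]
  obtain ⟨r, hr, l, hprod, hl⟩ :=
    Groth.Agent.Lib.Helper15.TorsionMinpoly.exists_factorization K hK m hm a ha0 _ hμ hdeg hdvd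
  have hn0 : 0 < n := by
    rcases Nat.eq_zero_or_pos n with h | h
    · rw [h] at hn
      have : 0 < Module.finrank K A := Module.finrank_pos
      omega
    · exact h
  refine ⟨r, hr, ?_, l.map (fun P => - P.coeff 0), ?_⟩
  · have h := Groth.Agent.Lib.Helper15.TorsionMinpoly.dvd_finrank_of_annihilated_prod K A n hn x r l
      (fun P hP => ⟨(hl P hP).1, (hl P hP).2.1⟩) ⊤ (fun _ _ => Submodule.mem_top)
      (fun _ _ _ => Submodule.mem_top) (fun y _ => by rw [hprod, minpoly.aeval, zero_mul])
    rw [finrank_top, hn, sq] at h
    exact Nat.dvd_of_mul_dvd_mul_right hn0 h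
  · rw [Multiset.map_map, ← hprod]
    congr 1
    conv_lhs => rw [← Multiset.map_id l]
    apply Multiset.map_congr rfl
    intro P hP
    obtain ⟨-, -, c, hc⟩ := hl P hP
    have : P.coeff 0 = -c := by
      rw [hc]
      simp [coeff_X_pow, hr.ne]
    simp only [Function.comp, id, this, neg_neg]
    exact hc

end Groth.Agent.S15167
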