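import Groth.Statements.S15168
import Groth.Agent.Lib.Helper15.SubfieldDegree
-- import your own Groth.Agent.* helpers here

set_option autoImplicit false
universe u v
open Polynomial
open BddFin

namespace Groth.Agent.S15168

/-- Let K be a field such that K contains all roots of unity (for every n ≥ 1 the polynomial X^n − 1
splits into linear factors over K), A a central division algebra of dimension n ^ 2 over K, and x an
element of A some power x ^ m (m ≥ 1) of which lies in K. Then x ^ n lies in K; that is, the order
of the class of x in the quotient of the unit group of A by that of K divides n. -/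
theorem result
    (K : Type u) [Field K] (hK : ∀ n : ℕ, 0 < n → (X ^ n - 1 : K[X]).Splits)
    (A : Type v) [DivisionRing A] [Algebra K A] [Algebra.IsCentral K A] [FiniteDimensional K A]
    (n : ℕ) (hn : Module.finrank K A = n ^ 2)
    (x : A) (hxm : ∃ m : ℕ, 0 < m ∧ x ^ m ∈ (algebraMap K A).range) :
    x ^ n ∈ (algebraMap K A).range := by
  obtain ⟨m, hm, a, ha⟩ := hxm
  have hnpos : 0 < n := by
    have : 0 < Module.finrank K A := Module.finrank_pos
    rw [hn] at this
    exact Nat.pos_of_ne_zero fun h => by simp [h] at this
  by_cases hx0 : x = 0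
  · exact ⟨0, by rw [hx0, map_zero, zero_pow hnpos.ne']⟩
  obtain ⟨c, hc⟩ := Groth.Agent.Lib.Helper15.SubfieldDegree.pow_natDegree_minpoly_mem K hK A x hx0 m hm a
    ha.symm
  obtain ⟨t, ht⟩ := Groth.Agent.Lib.Helper15.SubfieldDegree.natDegree_minpoly_dvd K A n hn x
  refine ⟨c ^ t, ?_⟩
  rw [map_pow, ← hc, ← pow_mul, ← ht]

end Groth.Agent.S15168
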