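import Groth.Statements.S1517
import Mathlib.RingTheory.TwoSidedIdeal.Basic
import Mathlib.RingTheory.Ideal.Span

set_option autoImplicit false
universe u
open Brauer

namespace Groth.Agent.S1517


section
variable {A : Type u} [Ring A]

/-- left multiplication by an element of the right ideal `M`, as an endomorphism of `M`. -/
def leftMul (M : Submodule Aᵐᵒᵖ A) (m : M) : Module.End Aᵐᵒᵖ M where
  toFun y := ⟨(m : A) * (y : A), by
    have := M.smul_mem (MulOpposite.op (y : A)) m.2
    simpa using this⟩
  map_add' x y := by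
    ext
    simp [mul_add]
  map_smul' a y := by
    ext
    simp [mul_assoc]

lemma span_eq_top [IsSimpleRing A] (M : Submodule Aᵐᵒᵖ A) (hM : M ≠ ⊥) :
    Ideal.span (M : Set A) = ⊤ := by
  let T : TwoSidedIdeal A := TwoSidedIdeal.mk' (Ideal.span (M : Set A) : Set A)
    (Submodule.zero_mem _) (fun hx hy => Submodule.add_mem _ hx hy)
    (fun hx => Submodule.neg_mem _ hx)
    (fun {x y} hy => Ideal.mul_mem_left _ x hy)
    (fun {x y} hx => by
      have hx' : x ∈ Ideal.span (M : Set A) := hx
      show x * y ∈ Ideal.span (M : Set A)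
      induction hx' using Submodule.span_induction with
      | mem z hz =>
        apply Ideal.subset_span
        have := M.smul_mem (MulOpposite.op y) hz
        simpa using this
      | zero => simp
      | add a b _ _ ha hb =>
        rw [add_mul]
        exact Submodule.add_mem _ (ha ‹_›) (hb ‹_›)
      | smul a b _ hb =>
        rw [smul_eq_mul, mul_assoc]
        exact Ideal.mul_mem_left _ a (hb ‹_›))
  obtain ⟨m, hm, hm0⟩ := (Submodule.ne_bot_iff M).1 hM
  have hT : T ≠ ⊥ := by
    intro h
    have : m ∈ T := by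
      rw [TwoSidedIdeal.mem_mk']
      exact Ideal.subset_span hm
    rw [h] at this
    exact hm0 ((TwoSidedIdeal.mem_bot A).1 this)
  have hT' : T = ⊤ := (eq_bot_or_eq_top T).resolve_left hT
  rw [Ideal.eq_top_iff_one]
  have : (1 : A) ∈ T := by rw [hT']; trivial
  rwa [TwoSidedIdeal.mem_mk'] at this

end

/-- Let A be a ring with no nontrivial two-sided ideals and M a nonzero right ideal, viewed as a right
A-module with endomorphism ring A'. Then every A'-linear endomorphism of M is right multiplication
by exactly one element of A; that is, the natural map from A to the bicommutant of M is a bijection. -/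
theorem result (A : Type u) [Ring A] [IsSimpleRing A]
    (M : Submodule Aᵐᵒᵖ A) (hM : M ≠ ⊥)
    (g : Module.End (Module.End Aᵐᵒᵖ M) M) :
    ∃! a : A, ∀ m : M, (g m : A) = (m : A) * a := by
  have hspan := span_eq_top M hM
  have hmem : ∀ (m : M) (x : A), (m : A) * x ∈ M := fun m x => by
    have := M.smul_mem (MulOpposite.op x) m.2
    simpa using this
  have key : ∀ x ∈ Ideal.span (M : Set A), ∃ c : A, ∀ m : M,
      ((g ⟨(m : A) * x, hmem m x⟩ : M) : A) = (m : A) * c := by
    intro x hx
    induction hx using Submodule.span_induction with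
    | mem z hz =>
      refine ⟨((g ⟨z, hz⟩ : M) : A), fun m => ?_⟩
      have := g.map_smul (leftMul M m) ⟨z, hz⟩
      have h2 : (leftMul M m) • (⟨z, hz⟩ : M) = ⟨(m : A) * z, hmem m z⟩ := rfl
      rw [h2] at this
      rw [this]
      rfl
    | zero =>
      refine ⟨0, fun m => ?_⟩
      have : (⟨(m : A) * 0, hmem m 0⟩ : M) = 0 := by ext; simp
      rw [this]; simp
    | add a b _ _ ha hb =>
      obtain ⟨ca, hca⟩ := ha
      obtain ⟨cb, hcb⟩ := hb
      refine ⟨ca + cb, fun m => ?_⟩
      have : (⟨(m : A) * (a + b), hmem m (a + b)⟩ : M) =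
          ⟨(m : A) * a, hmem m a⟩ + ⟨(m : A) * b, hmem m b⟩ := by ext; simp [mul_add]
      rw [this, map_add, Submodule.coe_add, hca, hcb, mul_add]
    | smul a b _ hb =>
      obtain ⟨cb, hcb⟩ := hb
      refine ⟨a * cb, fun m => ?_⟩
      have : (⟨(m : A) * (a • b), hmem m (a • b)⟩ : M) =
          ⟨((⟨(m : A) * a, hmem m a⟩ : M) : A) * b, hmem ⟨(m : A) * a, hmem m a⟩ b⟩ := by
        ext; simp [mul_assoc]
      rw [this, hcb ⟨(m : A) * a, hmem m a⟩, mul_assoc]
  obtain ⟨c, hc⟩ := key 1 (by rw [hspan]; trivial)
  refine ⟨c, fun m => ?_, fun a ha => ?_⟩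
  · have := hc m
    have h1 : (⟨(m : A) * 1, hmem m 1⟩ : M) = m := by ext; simp
    rw [h1] at this
    exact this
  · have hd : ∀ x ∈ Ideal.span (M : Set A), x * (a - c) = 0 := by
      intro x hx
      induction hx using Submodule.span_induction with
      | mem z hz =>
        have h1 := ha ⟨z, hz⟩
        have h2 := hc ⟨z, hz⟩
        have h3 : (⟨((⟨z, hz⟩ : M) : A) * 1, hmem ⟨z, hz⟩ 1⟩ : M) = ⟨z, hz⟩ := by ext; simp
        rw [h3] at h2
        rw [mul_sub, sub_eq_zero]
        exact h1.symm.trans h2
      | zero => simp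
      | add x y _ _ hx hy => rw [add_mul, hx, hy, add_zero]
      | smul r x _ hx => rw [smul_eq_mul, mul_assoc, hx, mul_zero]
    have := hd 1 (by rw [hspan]; trivial)
    rw [one_mul, sub_eq_zero] at this
    exact this

end Groth.Agent.S1517
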