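import Groth.Statements.S15171
import Mathlib.FieldTheory.Galois.Basic
import Mathlib.RingTheory.Trace.Basic
import Mathlib.FieldTheory.Finite.Basic
import Mathlib.Tactic
import Mathlib.Algebra.Central.Basic

set_option autoImplicit false
universe u v w
open BddFin

namespace Groth.Agent.S15171

section helpers

open Polynomial

theorem abel_sum {L : Type*} [CommRing L] (s : ℕ → L) (n : ℕ) :
    ∑ j ∈ Finset.range (n + 1), (j : L) * (s j - s (j + 1)) =
      ∑ j ∈ Finset.range (n + 1), s j - s 0 - (n : L) * s (n + 1) := by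
  induction n with
  | zero => simp
  | succ n ih =>
    rw [Finset.sum_range_succ, ih, Finset.sum_range_succ (fun j => s j) (n + 1)]
    push_cast
    ring

theorem exists_artinSchreier (K : Type u) [Field K] (p : ℕ) [Fact p.Prime] [CharP K p]
    (L : Type w) [Field L] [Algebra K L] [IsGalois K L] (hL : Module.finrank K L = p) :
    ∃ (σ : L ≃ₐ[K] L) (θ : L), σ θ = θ + 1 ∧
      (∀ x : L, σ x = x → x ∈ Set.range (algebraMap K L)) := by
  classical
  have hp : p.Prime := Fact.out
  have : FiniteDimensional K L := Module.finite_of_finrank_pos (by rw [hL]; exact hp.pos)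
  have : CharP L p := charP_of_injective_algebraMap (algebraMap K L).injective p
  have hcard : Nat.card (L ≃ₐ[K] L) = p := by rw [IsGalois.card_aut_eq_finrank, hL]
  have : Finite (L ≃ₐ[K] L) := Nat.finite_of_card_ne_zero (by rw [hcard]; exact hp.ne_zero)
  have : Nontrivial (L ≃ₐ[K] L) := by
    rw [← Finite.one_lt_card_iff_nontrivial, hcard]; exact hp.one_lt
  obtain ⟨σ, hσ⟩ := exists_ne (1 : L ≃ₐ[K] L)
  have hord : orderOf σ = p := by
    have h1 : orderOf σ ∣ p := hcard ▸ orderOf_dvd_natCard σ
    rcases (Nat.dvd_prime hp).mp h1 with h | h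
    · exact absurd (orderOf_eq_one_iff.mp h) hσ
    · exact h
  -- every automorphism is a power of σ
  have hbij : Function.Bijective (fun j : Fin p => σ ^ (j : ℕ)) := by
    have hinj : Function.Injective (fun j : Fin p => σ ^ (j : ℕ)) := by
      intro i j hij
      have := pow_injOn_Iio_orderOf (x := σ) (by simp [hord])
        (by simp [hord]) hij
      exact Fin.ext this
    rw [Nat.bijective_iff_injective_and_card]
    exact ⟨hinj, by rw [hcard]; simp⟩
  have hpow : ∀ τ : L ≃ₐ[K] L, ∃ j : ℕ, j < p ∧ σ ^ j = τ := by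
    intro τ
    obtain ⟨j, hj⟩ := hbij.2 τ
    exact ⟨j, j.2, hj⟩
  have hfix : ∀ x : L, σ x = x → x ∈ Set.range (algebraMap K L) := by
    intro x hx
    rw [IsGalois.mem_range_algebraMap_iff_fixed]
    intro τ
    obtain ⟨j, -, rfl⟩ := hpow τ
    induction j with
    | zero => simp
    | succ j ih => rw [pow_succ, AlgEquiv.mul_apply, hx, ih]
  -- element of trace one
  obtain ⟨z, hz⟩ := Algebra.trace_surjective K L 1
  have hsum : ∑ j ∈ Finset.range p, (σ ^ j) z = 1 := by
    have h1 := trace_eq_sum_automorphisms (K := K) z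
    rw [hz, map_one] at h1
    rw [h1, ← Fin.sum_univ_eq_sum_range (fun j => (σ ^ j) z) p]
    exact Fintype.sum_bijective (fun j : Fin p => σ ^ (j : ℕ)) hbij _ _ (fun _ => rfl)
  obtain ⟨n, hn⟩ : ∃ n, p = n + 1 := ⟨p - 1, (Nat.sub_add_cancel hp.pos).symm⟩
  have hnL : (n : L) = -1 := by
    have : ((n + 1 : ℕ) : L) = 0 := by rw [← hn]; exact CharP.cast_eq_zero L p
    push_cast at this
    linear_combination this
  have hσp : (σ ^ p) z = z := by
    rw [← hord, pow_orderOf_eq_one]; rfl
  refine ⟨σ, -∑ j ∈ Finset.range p, (j : L) * (σ ^ j) z, ?_, hfix⟩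
  have key := abel_sum (fun j => (σ ^ j) z) n
  rw [← hn] at key
  rw [hsum, hσp, hnL, pow_zero] at key
  have e : ∀ j : ℕ, σ ((σ ^ j) z) = (σ ^ (j + 1)) z := by
    intro j; rw [pow_succ']; rfl
  rw [map_neg, map_sum]
  simp only [map_mul, map_natCast, e]
  have : (1 : L ≃ₐ[K] L) z = z := rfl
  rw [this] at key
  simp only [mul_sub, Finset.sum_sub_distrib] at key
  linear_combination key


section partB
variable (K : Type u) [Field K] (p : ℕ) [Fact p.Prime] [CharP K p]
variable (A : Type v) [DivisionRing A] [Algebra K A]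

/-- the inner derivation -/
def ad (t : A) : A →ₗ[K] A := LinearMap.mulLeft K t - LinearMap.mulRight K t

variable {K A}

theorem ad_apply (t y : A) : ad K A t y = t * y - y * t := rfl

theorem ad_mul (t x y : A) : ad K A t (x * y) = ad K A t x * y + x * ad K A t y := by
  simp only [ad_apply]; noncomm_ring

theorem ad_pow_eigen (t y : A) (c : K) (hy : ad K A t y = c • y) (n : ℕ) :
    ad K A t (y ^ n) = ((n : K) * c) • y ^ n := by
  induction n with
  | zero => simp [ad_apply]
  | succ n ih =>
    rw [pow_succ, ad_mul, ih, hy, smul_mul_assoc, mul_smul_comm, ← add_smul]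
    congr 1
    push_cast; ring

theorem prod_eq (p : ℕ) [Fact p.Prime] [CharP K p] :
    (X ^ p - X : K[X]) = ∏ i ∈ Finset.range p, (X - C (i : K)) := by
  have hp : p.Prime := Fact.out
  apply Polynomial.eq_of_monic_of_dvd_of_natDegree_le
  · exact monic_prod_X_sub_C _ _
  · exact (monic_X_pow_sub (R := K) (p := X) (n := p) (by rw [degree_X]; exact_mod_cast hp.one_lt))
  · apply Finset.prod_dvd_of_coprime
    · intro i hi j hj hij
      apply pairwise_coprime_X_sub_C (K := K) (s := fun i : Finset.range p => ((i : ℕ) : K))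
        (i := ⟨i, hi⟩) (j := ⟨j, hj⟩) ?_ ?_
      · intro a b hab
        have := (CharP.natCast_injOn_Iio K p) (Finset.mem_range.mp a.2) (Finset.mem_range.mp b.2) hab
        exact Subtype.ext this
      · intro h; exact hij (congrArg Subtype.val h)
    · intro i _
      rw [dvd_iff_isRoot, IsRoot.def, eval_sub, eval_pow, eval_X, sub_eq_zero]
      rw [← frobenius_def, map_natCast]
  · rw [FiniteField.X_pow_card_sub_X_natDegree_eq K hp.one_lt,
      natDegree_finsetProd_X_sub_C_eq_card]
    simp

theorem mulLeft_pow_apply (t y : A) (n : ℕ) :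
    ((LinearMap.mulLeft K t) ^ n) y = t ^ n * y := by
  induction n generalizing y with
  | zero => simp
  | succ n ih => rw [pow_succ, Module.End.mul_apply, ih, LinearMap.mulLeft_apply, pow_succ, mul_assoc]

theorem mulRight_pow_apply (t y : A) (n : ℕ) :
    ((LinearMap.mulRight K t) ^ n) y = y * t ^ n := by
  induction n generalizing y with
  | zero => simp
  | succ n ih =>
    rw [pow_succ, Module.End.mul_apply, ih, LinearMap.mulRight_apply, pow_succ', mul_assoc]

theorem ad_pow_char (p : ℕ) [Fact p.Prime] [CharP K p] (t : A) (a : K)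
    (ht : t ^ p - t = algebraMap K A a) (y : A) :
    ((ad K A t) ^ p) y = ad K A t y := by
  have : CharP (Module.End K A) p :=
    charP_of_injective_algebraMap (algebraMap K (Module.End K A)).injective p
  have htp : t ^ p = t + algebraMap K A a := by rw [← ht]; abel
  unfold ad
  rw [sub_pow_char_of_commute p (LinearMap.commute_mulLeft_right t t), LinearMap.sub_apply,
    mulLeft_pow_apply, mulRight_pow_apply, htp, add_mul, mul_add,
    ← Algebra.commutes a y]
  simp only [LinearMap.sub_apply, LinearMap.mulLeft_apply, LinearMap.mulRight_apply]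
  abel

/-- peeling off linear factors to find an eigenvector -/
theorem exists_eigen_of_prod (D : A →ₗ[K] A) (m : ℕ) (hm : 1 ≤ m) (w : A) (hw : w ≠ 0)
    (h0 : aeval D (∏ i ∈ Finset.Ico 1 m, (X - C (i : K))) w = 0) :
    ∃ i : ℕ, 1 ≤ i ∧ i < m ∧ ∃ y : A, y ≠ 0 ∧ D y = (i : K) • y := by
  induction m, hm using Nat.le_induction generalizing w with
  | base =>
    simp at h0
    exact absurd h0 hw
  | succ m hm ih =>
    rw [Finset.prod_Ico_succ_top hm, map_mul, Module.End.mul_apply] at h0
    by_cases hw' : aeval D (X - C (m : K)) w = 0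
    · refine ⟨m, hm, Nat.lt_succ_self m, w, hw, ?_⟩
      simp only [map_sub, aeval_X, aeval_C, LinearMap.sub_apply, Module.algebraMap_end_apply] at hw'
      exact sub_eq_zero.mp hw'
    · obtain ⟨i, hi1, him, y, hy, hDy⟩ := ih _ hw' h0
      exact ⟨i, hi1, Nat.lt_succ_of_lt him, y, hy, hDy⟩

theorem exists_not_separable (p : ℕ) [Fact p.Prime] [CharP K p] (t : A) (a : K)
    (ht : t ^ p - t = algebraMap K A a) (y0 : A) (hy0 : t * y0 ≠ y0 * t) :
    ∃ v : A, ¬ IsSeparable K v := by
  have hp : p.Prime := Fact.out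
  set D := ad K A t with hD
  have hw : D y0 ≠ 0 := by
    rw [hD, ad_apply]; exact sub_ne_zero.mpr hy0
  have hfac : (X ^ p - X : K[X]) = (∏ i ∈ Finset.Ico 1 p, (X - C (i : K))) * X := by
    rw [prod_eq p, Finset.range_eq_Ico, Finset.prod_eq_prod_Ico_succ_bot hp.pos, mul_comm]
    simp
  have h0 : aeval D (∏ i ∈ Finset.Ico 1 p, (X - C (i : K))) (D y0) = 0 := by
    have h1 : aeval D (X ^ p - X : K[X]) y0 = 0 := by
      simp only [map_sub, map_pow, aeval_X, LinearMap.sub_apply]
      rw [hD, ad_pow_char p t a ht, sub_self]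
    rw [hfac, map_mul, Module.End.mul_apply, aeval_X] at h1
    exact h1
  obtain ⟨i, hi1, hip, y, hy, hDy⟩ := exists_eigen_of_prod D p hp.one_lt.le (D y0) hw h0
  have hiK : (i : K) ≠ 0 := by
    rw [Ne, CharP.cast_eq_zero_iff K p]
    exact Nat.not_dvd_of_pos_of_lt hi1 hip
  have hiK' : (i : K) ^ (p - 2) * (i : K) = 1 := by
    have h1 : (i : K) ^ p = (i : K) := by rw [← frobenius_def, map_natCast]
    have h2 : (i : K) ^ (p - 2) * (i : K) * (i : K) = 1 * (i : K) := by
      rw [one_mul, ← pow_succ, ← pow_succ, show p - 2 + 1 + 1 = p by have := hp.two_le; omega, h1]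
    exact mul_right_cancel₀ hiK h2
  set u := y ^ (i ^ (p - 2)) with hu
  have hu0 : u ≠ 0 := pow_ne_zero _ hy
  have hDu : D u = u := by
    rw [hu, hD, ad_pow_eigen t y (i : K) hDy]
    push_cast
    rw [hiK', one_smul]
  have hDpow : ∀ n : ℕ, D (u ^ n) = (n : K) • u ^ n := by
    intro n
    have := ad_pow_eigen t u (1 : K) (by rw [one_smul]; exact hDu) n
    rw [mul_one] at this
    exact this
  have hDpoly : ∀ g : K[X], D (aeval u g) = u * aeval u (derivative g) := by
    intro g
    induction g using Polynomial.induction_on' with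
    | add f g hf hg => rw [map_add, map_add, hf, hg, derivative_add, map_add, mul_add]
    | monomial n c =>
      rw [aeval_monomial, ← Algebra.smul_def, map_smul, hDpow, derivative_monomial,
        aeval_monomial]
      rcases n with _ | n
      · simp
      · rw [Nat.add_sub_cancel, ← mul_assoc, ← Algebra.commutes, mul_assoc, ← pow_succ',
          ← Algebra.smul_def, mul_smul]
  refine ⟨u, fun hsep => ?_⟩
  have hsep' : (minpoly K u).Separable := hsep
  obtain ⟨a', b', hab⟩ := hsep'
  have h1 : D (aeval u (minpoly K u)) = 0 := by rw [minpoly.aeval, map_zero]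
  rw [hDpoly] at h1
  have h2 : aeval u (derivative (minpoly K u)) = 0 := by
    rcases mul_eq_zero.mp h1 with h | h
    · exact absurd h hu0
    · exact h
  have h3 := congrArg (aeval u) hab
  rw [map_add, map_mul, map_mul, minpoly.aeval, h2, mul_zero, mul_zero, add_zero, map_one] at h3
  exact zero_ne_one h3

end partB

end helpers

/-- (3) ⇒ (1): let K be a field with char K = p > 0 and A a central division K-algebra with dim_K A = p
^ 2. If some Galois extension L of K with [L : K] = p admits a K-algebra embedding into A, then some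
element of A is not separable over K. -/
theorem result
    (K : Type u) [Field K] (p : ℕ) [Fact p.Prime] [CharP K p]
    (A : Type v) [DivisionRing A] [Algebra K A] [Algebra.IsCentral K A] [FiniteDimensional K A]
    (hA : Module.finrank K A = p ^ 2) (L : Type w) [Field L] [Algebra K L] [IsGalois K L]
    (hL : Module.finrank K L = p) (ι : L →ₐ[K] A) :
    ∃ v : A, ¬ IsSeparable K v := by
  obtain ⟨σ, θ, hσθ, hfix⟩ := exists_artinSchreier K p L hL
  have : CharP L p := charP_of_injective_algebraMap (algebraMap K L).injective p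
  have hfixed : σ (θ ^ p - θ) = θ ^ p - θ := by
    rw [map_sub, map_pow, hσθ, add_pow_char, one_pow]; ring
  obtain ⟨a, ha⟩ := hfix _ hfixed
  have ht : (ι θ) ^ p - ι θ = algebraMap K A a := by
    rw [← map_pow, ← map_sub, ← ha, AlgHom.commutes]
  have hnc : ∃ y0 : A, ι θ * y0 ≠ y0 * ι θ := by
    by_contra hcon
    have hcon' : ∀ y0 : A, ι θ * y0 = y0 * ι θ := fun y0 => not_not.mp fun h => hcon ⟨y0, h⟩
    have hmem : ι θ ∈ Subalgebra.center K A := by
      rw [Subalgebra.mem_center_iff]; intro b; exact (hcon' b).symm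
    rw [Algebra.IsCentral.center_eq_bot, Algebra.mem_bot] at hmem
    obtain ⟨c, hc⟩ := hmem
    have hθ : θ = algebraMap K L c := by
      apply ι.toRingHom.injective
      change ι θ = ι (algebraMap K L c)
      rw [AlgHom.commutes, hc]
    have h1 : σ θ = θ := by rw [hθ, AlgEquiv.commutes]
    rw [hσθ] at h1
    exact one_ne_zero (add_eq_left.mp h1)
  obtain ⟨y0, hy0⟩ := hnc
  exact exists_not_separable p (ι θ) a ht y0 hy0

end Groth.Agent.S15171
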