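import Groth.Statements.S15172
import Mathlib.Algebra.Polynomial.Roots
import Mathlib.Algebra.Polynomial.BigOperators

set_option autoImplicit false
universe u v
open Polynomial
open BddFin

namespace Groth.Agent.S15172

section helpers

theorem neg_mem_of {L : Type u} [Field L] (p : ℕ) [Fact p.Prime] [CharP L p] (s : Finset L)
    (h0 : (0 : L) ∈ s) (hadd : ∀ a ∈ s, ∀ b ∈ s, a + b ∈ s) (a : L) (ha : a ∈ s) : -a ∈ s := by
  have hn : ∀ n : ℕ, n • a ∈ s := by
    intro n
    induction n with
    | zero => simpa using h0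
    | succ n ih => rw [succ_nsmul]; exact hadd _ ih _ ha
  have hp : 1 ≤ p := (Fact.out : p.Prime).one_lt.le
  have : (p - 1) • a = -a := by
    rw [eq_neg_iff_add_eq_zero, ← succ_nsmul, Nat.sub_add_cancel hp, nsmul_eq_mul,
      CharP.cast_eq_zero, zero_mul]
  rw [← this]
  exact hn _

theorem comp_eq {L : Type u} [Field L] (p : ℕ) [Fact p.Prime] [CharP L p] (s : Finset L)
    (h0 : (0 : L) ∈ s) (hadd : ∀ a ∈ s, ∀ b ∈ s, a + b ∈ s) (a : L) (ha : a ∈ s) :
    (∏ b ∈ s, (X - C b) : L[X]).comp (C a + X) = ∏ b ∈ s, (X - C b) := by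
  rw [Polynomial.prod_comp]
  refine Finset.prod_nbij' (fun b => b - a) (fun b => b + a) ?_ ?_ ?_ ?_ ?_
  · intro b hb
    rw [sub_eq_add_neg]
    exact hadd b hb _ (neg_mem_of p s h0 hadd a ha)
  · intro b hb
    exact hadd b hb a ha
  · intro b _; ring
  · intro b _; ring
  · intro b _
    simp only [sub_comp, X_comp, C_comp, map_sub]
    ring

theorem universal {L : Type u} [Field L] (p : ℕ) [Fact p.Prime] [CharP L p] (s : Finset L)
    (h0 : (0 : L) ∈ s) (hadd : ∀ a ∈ s, ∀ b ∈ s, a + b ∈ s) :
    ((∏ a ∈ s, (X - C a) : L[X]).map (C : L →+* L[X])).comp (X + C (X : L[X])) =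
      (∏ a ∈ s, (X - C a) : L[X]).map (C : L →+* L[X]) + C (∏ a ∈ s, (X - C a) : L[X]) := by
  classical
  set f : L[X] := ∏ a ∈ s, (X - C a) with hf
  set fT : L[X][X] := f.map (C : L →+* L[X]) with hfT
  have hfm : f.Monic := monic_prod_X_sub_C _ _
  have hfd : f.natDegree = s.card := natDegree_finsetProd_X_sub_C_eq_card s (fun a => a)
  have hcard : 0 < s.card := Finset.card_pos.mpr ⟨0, h0⟩
  have hfTm : fT.Monic := hfm.map _
  have hfTd : fT.natDegree = s.card := by rw [hfT, hfm.natDegree_map, hfd]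
  set A : L[X][X] := fT.comp (X + C (X : L[X])) with hA
  have hAm : A.Monic := hfTm.comp_X_add_C _
  have hAd : A.natDegree = s.card := by
    rw [hA, natDegree_comp, natDegree_X_add_C, mul_one, hfTd]
  rw [← sub_eq_zero]
  by_contra hG
  apply hG
  apply eq_zero_of_natDegree_lt_card_of_eval_eq_zero' _ (s.image (C : L → L[X]))
  · intro z hz
    obtain ⟨a, ha, rfl⟩ := Finset.mem_image.mp hz
    have e1 : eval (C a) A = f := by
      rw [hA, eval_comp, eval_add, eval_X, eval_C, hfT, eval_map]
      exact comp_eq p s h0 hadd a ha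
    have e2 : eval (C a) fT = 0 := by
      rw [hfT, eval_map, eval₂_at_apply]
      have : f.eval a = 0 := by
        rw [hf, eval_prod]
        exact Finset.prod_eq_zero ha (by simp)
      rw [this, map_zero]
    rw [eval_sub, eval_add, e1, e2, eval_C, zero_add, sub_self]
  · rw [Finset.card_image_of_injective _ C_injective]
    rw [natDegree_lt_iff_degree_lt hG]
    have hdA : A.degree = (s.card : WithBot ℕ) := by
      rw [degree_eq_natDegree hAm.ne_zero, hAd]
    have hdT : fT.degree = (s.card : WithBot ℕ) := by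
      rw [degree_eq_natDegree hfTm.ne_zero, hfTd]
    have h1 : (A - fT).degree < (s.card : WithBot ℕ) := by
      rw [← hdA]
      exact degree_sub_lt_left (hdA.trans hdT.symm) hAm.ne_zero
        (hAm.leadingCoeff.trans hfTm.leadingCoeff.symm)
    have h2 : (C f : L[X][X]).degree < (s.card : WithBot ℕ) :=
      lt_of_le_of_lt degree_C_le (by exact_mod_cast hcard)
    have : A - (fT + C f) = (A - fT) - C f := by ring
    rw [this]
    exact lt_of_le_of_lt (degree_sub_le _ _) (max_lt h1 h2)

theorem result_aux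
    (L : Type u) [Field L] (p : ℕ) [Fact p.Prime] [CharP L p] (s : Finset L) (h0 : (0 : L) ∈ s)
    (hadd : ∀ a ∈ s, ∀ b ∈ s, a + b ∈ s) (R : Type v) [CommRing R] [Algebra L R] (x y : R) :
    aeval (x + y) (∏ a ∈ s, (X - C a)) = aeval x (∏ a ∈ s, (X - C a)) + aeval y (∏ a ∈ s, (X - C a)) := by
  have h := universal p s h0 hadd
  have h' := congrArg (eval₂ ((aeval y : L[X] →ₐ[L] R) : L[X] →+* R) x) h
  rw [eval₂_add, eval₂_C, eval₂_map, eval₂_comp] at h'
  simp only [eval₂_map, eval₂_add, eval₂_X, eval₂_C, RingHom.coe_coe, aeval_X] at h'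
  have hc : ((aeval y : L[X] →ₐ[L] R) : L[X] →+* R).comp (C : L →+* L[X]) = algebraMap L R := by
    ext l; simp
  rw [hc] at h'
  exact h'

end helpers

/-- Let L be a field of characteristic p > 0 and s a finite subset of L containing 0 and closed under
addition (a finite additive subgroup). Then the polynomial f = ∏_{a ∈ s} (X - a) is additive: f (x +
y) = f x + f y for all x, y in any commutative L-algebra (equivalently, as an identity of
polynomials in two variables). -/
theorem result
    (L : Type u) [Field L] (p : ℕ) [Fact p.Prime] [CharP L p] (s : Finset L) (h0 : (0 : L) ∈ s)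
    (hadd : ∀ a ∈ s, ∀ b ∈ s, a + b ∈ s) (R : Type v) [CommRing R] [Algebra L R] (x y : R) :
    aeval (x + y) (∏ a ∈ s, (X - C a)) = aeval x (∏ a ∈ s, (X - C a)) + aeval y (∏ a ∈ s, (X - C a)) := by
  exact result_aux L p s h0 hadd R x y

end Groth.Agent.S15172
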