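import Groth.Statements.S15173
import Mathlib
-- import your own Groth.Agent.* helpers here

set_option autoImplicit false
universe u v
open Polynomial
open BddFin

namespace Groth.Agent.S15173

open scoped IsMulCommutative

theorem infinite_of_not_pth_power (K : Type u) [Field K] (p : ℕ) [Fact p.Prime] [CharP K p]
    (A : Type v) [DivisionRing A] [Algebra K A] (w : A) (c₀ : K) (hw : w ^ p = algebraMap K A c₀)
    (hwK : w ∉ (algebraMap K A).range) : Infinite K := by
  by_contra hfin
  rw [not_infinite_iff_finite] at hfin
  have hp : p.Prime := Fact.out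
  haveI : CharP A p := charP_of_injective_algebraMap (algebraMap K A).injective p
  have hsurj : Function.Surjective (frobenius K p) :=
    Finite.injective_iff_surjective.mp (frobenius_inj K p)
  obtain ⟨b, hb⟩ := hsurj c₀
  have hcomm : Commute w (algebraMap K A b) := (Algebra.commutes b w).symm
  have : (w - algebraMap K A b) ^ p = 0 := by
    rw [sub_pow_char_of_commute (p := p) hcomm, hw, ← map_pow, ← hb, frobenius_def, sub_self]
  have h0 : w - algebraMap K A b = 0 := pow_eq_zero_iff hp.ne_zero |>.mp this
  exact hwK ⟨b, (sub_eq_zero.mp h0).symm⟩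




/-- Let K be a field of characteristic p > 0 such that K contains all roots of unity (for every n ≥ 1
the polynomial X^n − 1 splits into linear factors over K), and A a finite-dimensional central
division algebra over K. If A contains an element w not in K with w ^ p in K, then the quotient of
the unit group of A by that of K has unbounded finite subgroups: for every N there is a subgroup H
of the units of A containing the units of K as a subgroup of finite index greater than N. (The
published statement assumes only that some element of A is inseparable over K and passes at once to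
a purely inseparable subfield of degree p; this row assumes an element generating such a subfield
directly, which is what the rest of the printed argument uses.) -/
theorem result
    (K : Type u) [Field K] (p : ℕ) [Fact p.Prime] [CharP K p] (hK : ∀ n : ℕ, 0 < n → (X ^ n - 1 : K[X]).Splits)
    (A : Type v) [DivisionRing A] [Algebra K A] [Algebra.IsCentral K A] [FiniteDimensional K A]
    (w : A) (hw : w ^ p ∈ (algebraMap K A).range) (hwK : w ∉ (algebraMap K A).range) (N : ℕ) :
    ∃ H : Subgroup Aˣ, (Units.map (algebraMap K A : K →* A)).range ≤ H ∧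
      N < ((Units.map (algebraMap K A : K →* A)).range).relIndex H := by
  classical
  have hp : p.Prime := Fact.out
  obtain ⟨c₀, hc₀⟩ := hw
  haveI : CharP A p := charP_of_injective_algebraMap (algebraMap K A).injective p
  haveI hinf : Infinite K := infinite_of_not_pth_power K p A w c₀ hc₀.symm hwK
  set Z := (Units.map (algebraMap K A : K →* A)).range with hZ
  have hcentral : ∀ z ∈ Z, ∀ g : Aˣ, g * z = z * g := by
    rintro _ ⟨k, rfl⟩ g
    ext
    simp [Algebra.commutes]
  haveI : Z.Normal := ⟨fun z hz g => by rw [hcentral z hz g, mul_inv_cancel_right]; exact hz⟩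
  have hne : ∀ c : K, (1 + c • w : A) ≠ 0 := by
    intro c h
    by_cases hc : c = 0
    · rw [hc, zero_smul, add_zero] at h
      exact one_ne_zero h
    · apply hwK
      refine ⟨-c⁻¹, ?_⟩
      have h1 : c • w = -1 := eq_neg_of_add_eq_zero_right h
      have h2 : w = c⁻¹ • (c • w) := by rw [smul_smul, inv_mul_cancel₀ hc, one_smul]
      rw [h2, h1, smul_neg, map_neg, Algebra.algebraMap_eq_smul_one]
  let u : K → Aˣ := fun c => Units.mk0 (1 + c • w) (hne c)
  have hu : ∀ c, ((u c : Aˣ) : A) = 1 + c • w := fun c => rfl
  have hucomm : ∀ c c', u c * u c' = u c' * u c := by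
    intro c c'
    ext
    rw [Units.val_mul, Units.val_mul, hu, hu]
    have h1 : (c • w) * (c' • w) = (c' • w) * (c • w) := by
      rw [smul_mul_smul_comm, smul_mul_smul_comm, mul_comm]
    simp only [add_mul, mul_add, one_mul, mul_one, h1]
    abel
  have hupow : ∀ c, (u c) ^ p ∈ Z := by
    intro c
    have hcomm : Commute (1 : A) (c • w) := Commute.one_left _
    have h1 : ((u c : Aˣ) : A) ^ p = algebraMap K A (1 + c ^ p * c₀) := by
      rw [hu, add_pow_char_of_commute (p := p) hcomm, one_pow, _root_.smul_pow, ← hc₀, map_add, map_one,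
        map_mul, ← Algebra.smul_def]
    have hk0 : (1 + c ^ p * c₀ : K) ≠ 0 := by
      intro h0
      rw [h0, map_zero] at h1
      exact (pow_ne_zero p (hne c)) h1
    refine ⟨Units.mk0 _ hk0, ?_⟩
    ext
    rw [Units.val_pow_eq_pow_val, h1]
    rfl
  have hindep : ∀ a b : K, a • (1 : A) + b • w = 0 → a = 0 ∧ b = 0 := by
    intro a b hab
    have hb : b = 0 := by
      by_contra hb
      apply hwK
      refine ⟨-(b⁻¹ * a), ?_⟩
      have h1 : b • w = -(a • (1 : A)) := eq_neg_of_add_eq_zero_right hab
      have h2 : w = b⁻¹ • (b • w) := by rw [smul_smul, inv_mul_cancel₀ hb, one_smul]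
      rw [h2, h1, smul_neg, smul_smul, map_neg, Algebra.algebraMap_eq_smul_one]
    refine ⟨?_, hb⟩
    rw [hb, zero_smul, add_zero] at hab
    exact (smul_eq_zero.mp hab).resolve_right one_ne_zero
  have huinj : ∀ c c', (u c)⁻¹ * u c' ∈ Z → c = c' := by
    rintro c c' ⟨k, hk⟩
    have h1 : u c' = u c * Units.map (algebraMap K A : K →* A) k := by
      rw [hk, mul_inv_cancel_left]
    have h2 := congrArg (fun t : Aˣ => (t : A)) h1
    simp only [Units.val_mul, hu, Units.coe_map, MonoidHom.coe_coe] at h2
    -- 1 + c' • w = (1 + c • w) * algebraMap k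
    have h3 : ((1 : K) - (k : K)) • (1 : A) + (c' - (k : K) * c) • w = 0 := by
      have e : (1 + c • w) * algebraMap K A (k : K) = (k : K) • (1 : A) + ((k : K) * c) • w := by
        rw [← Algebra.commutes, mul_add, mul_one, ← Algebra.smul_def, smul_smul,
          Algebra.algebraMap_eq_smul_one]
      rw [e] at h2
      rw [sub_smul, sub_smul, one_smul]
      have : (1 : A) + c' • w - ((k : K) • (1 : A) + ((k : K) * c) • w) = 0 := by rw [h2, sub_self]
      rw [← this]; abel
    obtain ⟨h4, h5⟩ := hindep _ _ h3
    have hk1 : (k : K) = 1 := (sub_eq_zero.mp h4).symm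
    rw [hk1, one_mul] at h5
    exact (sub_eq_zero.mp h5).symm
  obtain ⟨S, hS⟩ := Infinite.exists_subset_card_eq K (N + 1)
  let π : Aˣ →* Aˣ ⧸ Z := QuotientGroup.mk' Z
  have hπ1 : ∀ z : Aˣ, π z = 1 ↔ z ∈ Z := fun z => QuotientGroup.eq_one_iff z
  let T : Set (Aˣ ⧸ Z) := (fun c => π (u c)) '' (S : Set K)
  have hTcomm : ∀ x ∈ T, ∀ y ∈ T, x * y = y * x := by
    rintro _ ⟨c, -, rfl⟩ _ ⟨c', -, rfl⟩
    change π (u c) * π (u c') = π (u c') * π (u c)
    rw [← map_mul, ← map_mul, hucomm]
  haveI := Subgroup.isMulCommutative_closure hTcomm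
  have hcommcl : ∀ x ∈ Subgroup.closure T, ∀ y ∈ Subgroup.closure T, x * y = y * x := by
    intro x hx y hy
    have := mul_comm (⟨x, hx⟩ : Subgroup.closure T) ⟨y, hy⟩
    exact congrArg Subtype.val this
  have hpowcl : ∀ x ∈ Subgroup.closure T, x ^ p = 1 := by
    intro x hx
    induction hx using Subgroup.closure_induction with
    | mem y hy =>
      obtain ⟨c, -, rfl⟩ := hy
      change π (u c) ^ p = 1
      rw [← map_pow, hπ1]
      exact hupow c
    | one => exact one_pow p
    | mul x y hx hy ihx ihy =>
      have hc : Commute x y := hcommcl x hx y hy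
      rw [hc.mul_pow, ihx, ihy, one_mul]
    | inv x hx ihx => rw [inv_pow, ihx, inv_one]
  haveI : Group.FG (Subgroup.closure T) := by
    rw [Group.fg_iff_subgroup_fg]
    refine ⟨S.image (fun c => π (u c)), ?_⟩
    simp [T]
  have htors : IsMulTorsion (Subgroup.closure T) := by
    intro x
    rw [isOfFinOrder_iff_pow_eq_one]
    refine ⟨p, hp.pos, ?_⟩
    apply Subtype.ext
    rw [Subgroup.coe_pow]
    exact hpowcl x.1 x.2
  haveI : Finite (Subgroup.closure T) := CommGroup.finite_of_fg_isMulTorsion _ htors
  refine ⟨(Subgroup.closure T).comap π, ?_, ?_⟩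
  · intro z hz
    rw [Subgroup.mem_comap, (hπ1 z).mpr hz]
    exact one_mem _
  · have h1 : Z.relIndex ((Subgroup.closure T).comap π) =
        Nat.card (((Subgroup.closure T).comap π).map π) := by
      have := Subgroup.relIndex_ker π (K := (Subgroup.closure T).comap π)
      rwa [QuotientGroup.ker_mk'] at this
    rw [h1, Subgroup.map_comap_eq_self_of_surjective (QuotientGroup.mk'_surjective Z)]
    let φ : S → Subgroup.closure T := fun c =>
      ⟨π (u c.1), Subgroup.subset_closure ⟨c.1, c.2, rfl⟩⟩
    have hφ : Function.Injective φ := by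
      intro c c' hcc
      have h2 : π (u c.1) = π (u c'.1) := congrArg Subtype.val hcc
      apply Subtype.ext
      apply huinj
      rw [← hπ1, map_mul, map_inv, h2, inv_mul_cancel]
    have := Nat.card_le_card_of_injective φ hφ
    rw [Nat.card_eq_fintype_card, Fintype.card_coe, hS] at this
    omega


end Groth.Agent.S15173
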