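import Groth.Statements.S15177
import Groth.Agent.Lib.Helper7.ComodUnipReg
import Groth.Agent.Lib.Helper7.ComodAct
import Mathlib
-- import your own Groth.Agent.* helpers here

set_option autoImplicit false
universe u v
open BddFin HopfRep Polynomial TensorProduct

namespace Groth.Agent.S15177

open Groth.Agent.Lib.Helper7.Comod

/-- Bezout: `X - 1` lies in the ideal generated by `X ^ d - 1` and `(X - 1) ^ (n + 1)` when `d ≠ 0` in `K` -/
theorem exists_bezout (K : Type u) [Field K] (d n : ℕ) (hd : (d : K) ≠ 0) :
    ∃ p q : K[X], p * (X ^ d - 1) + q * (X - 1) ^ (n + 1) = X - 1 := by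
  set S : K[X] := ∑ i ∈ Finset.range d, X ^ i with hS
  have hS1 : S.eval 1 = (d : K) := by
    simp [hS, eval_finset_sum]
  have hSX : S * (X - 1) = X ^ d - 1 := geom_sum_mul X d
  obtain ⟨t, ht⟩ : (X - C (1 : K)) ∣ S - C (S.eval 1) := X_sub_C_dvd_sub_C_eval
  rw [hS1] at ht
  have hcop : IsCoprime S (X - 1 : K[X]) := by
    refine ⟨C ((d : K)⁻¹), - C ((d : K)⁻¹) * t, ?_⟩
    have : S = C (d : K) + (X - C 1) * t := by rw [← ht]; ring
    have hC : C ((d : K)⁻¹) * C (d : K) = (1 : K[X]) := by
      rw [← C_mul, inv_mul_cancel₀ hd, C_1]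
    calc C ((d : K)⁻¹) * S + -C ((d : K)⁻¹) * t * (X - 1)
        = C ((d : K)⁻¹) * (S - (X - C 1) * t) := by rw [C_1]; ring
      _ = C ((d : K)⁻¹) * C (d : K) := by rw [this]; ring
      _ = 1 := hC
  obtain ⟨p, q, hpq⟩ := hcop.pow_right (n := n)
  refine ⟨p, q, ?_⟩
  calc p * (X ^ d - 1) + q * (X - 1) ^ (n + 1)
      = (p * S + q * (X - 1) ^ n) * (X - 1) := by rw [← hSX]; ring
    _ = X - 1 := by rw [hpq, one_mul]

theorem counit_act_regular (K : Type u) [Field K] (A : Type v) [CommRing A] [Bialgebra K A]
    (g : A →ₐ[K] K) (a : A) :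
    Coalgebra.counit (R := K) (Comod.act K A A g a) = g a := by
  have key : ∀ z : A ⊗[K] A,
      Coalgebra.counit (R := K) ((TensorProduct.rid K A) (LinearMap.lTensor A g.toLinearMap z)) =
      g ((TensorProduct.lid K A) ((Coalgebra.counit (R := K)).rTensor A z)) := by
    intro z
    induction z using TensorProduct.induction_on with
    | zero => simp
    | add x y hx hy => simp only [map_add, hx, hy]
    | tmul b c => simp [mul_comm]
  have := key (Coalgebra.comul (R := K) a)
  rw [Coalgebra.rTensor_counit_comul] at this
  simp only [TensorProduct.lid_tmul, one_smul] at this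
  exact this


/-- Let K be a field and Γ a unipotent linear algebraic group over K, given here by its coordinate Hopf
algebra A (a finitely generated, formally smooth commutative Hopf algebra over K all of whose
non-zero finite-dimensional comodules have a non-zero fixed vector). Then the group Γ(K) of K-points
(K-algebra maps A → K under convolution) has no non-trivial element of finite order coprime to the
characteristic of K: an element of finite order whose order is non-zero in K is the identity. -/
theorem result
    (K : Type u) [Field K] (A : Type v) [CommRing A] [HopfAlgebra K A] [Algebra.FiniteType K A]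
    [Algebra.FormallySmooth K A] (hU : HopfRep.IsUnipotent K A)
    (g : WithConv (A →ₐ[K] K)) (hg : IsOfFinOrder g) (hcop : ((orderOf g : ℕ) : K) ≠ 0) : g = 1 := by
  have hgd : g ^ orderOf g = 1 := pow_orderOf_eq_one g
  let u : Module.End K A := actHom K A A g
  have hu : u ^ orderOf g = 1 := by rw [← map_pow, hgd, map_one]
  have hfix : ∀ a : A, u a = a := by
    intro a
    obtain ⟨n, hn⟩ := exists_mem_fixFilt_regular hU a
    have hnil : ((u - 1) ^ n) a = 0 :=
      act_sub_one_pow_eq_zero_of_mem_fixFilt (V := A) g.ofConv n a hn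
    obtain ⟨p, q, hpq⟩ := exists_bezout K (orderOf g) n hcop
    have h1 := congrArg (fun P => (aeval u P) a) hpq
    simp only [map_add, map_mul, map_sub, map_pow, aeval_X, map_one, LinearMap.add_apply,
      Module.End.mul_apply, hu, sub_self, map_zero, LinearMap.zero_apply, zero_add] at h1
    rw [pow_succ', Module.End.mul_apply] at h1
    rw [hnil, map_zero, map_zero, LinearMap.sub_apply, Module.End.one_apply] at h1
    exact (sub_eq_zero.mp h1.symm)
  apply WithConv.ofConv_injective
  apply AlgHom.ext
  intro a
  have h1 := counit_act_regular K A g.ofConv a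
  have h2 : Comod.act K A A g.ofConv a = a := hfix a
  rw [h2] at h1
  rw [← h1]
  rfl


end Groth.Agent.S15177
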