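import Groth.Statements.S15180
import Groth.Agent.Lib.Helper7.FQ1
import Groth.Agent.Lib.Helper7.FQ4
import Groth.Agent.Lib.Helper7.FQ5
import Groth.Agent.Lib.Helper7.GmIsog1


set_option autoImplicit false
universe u
open CategoryTheory MonoidalCategory CartesianMonoidalCategory MonObj GrpObj AlgebraicGeometry
open BddFin

namespace Groth.Agent.S15180

open Groth.Agent.Lib.Helper7.GH Groth.Agent.Lib.Helper7.GModComod Groth.Agent.Lib.Helper7.GaIsog Groth.Agent.Lib.Helper7.GmIsog Groth.Agent.Lib.Helper7.FQ Groth.Agent.Lib.Helper7.HopfSub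
open Polynomial


/-- Let K be an arbitrary field, G a K-group scheme isomorphic (as a group scheme) to 𝔾_a (additive) or
to 𝔾_m (multiplicative), and H a finite subgroup scheme of G (a monomorphic homomorphism H → G with
H finite over K). Then the quotient G/H is isomorphic to G; equivalently, there is a homomorphism of
K-group schemes G → G which is flat and surjective and whose kernel is H. -/
theorem result
    (K : Type u) [Field K] (G H : Over (Spec (CommRingCat.of K))) [GrpObj G] [GrpObj H]
    (hG : Nonempty (Grp.mk G ≅ Grp.mk (Red.Ga (Spec (CommRingCat.of K)))) ∨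
      Nonempty (Grp.mk G ≅ Grp.mk (Red.Gm (Spec (CommRingCat.of K)))))
    (i : H ⟶ G) [IsMonHom i] [Mono i] [IsFinite H.hom] :
    ∃ φ : G ⟶ G, IsMonHom φ ∧ AlgGrp.IsKernel i φ ∧ Flat φ.left ∧ Surjective φ.left := by

  rcases hG with ⟨⟨e⟩⟩ | ⟨⟨e⟩⟩
  · -- additive case
    haveI : IsAffine (Red.Ga (Spec (CommRingCat.of K))).left := isAffine_Ga
    obtain ⟨M₀⟩ := nonempty_model (Red.Ga (Spec (CommRingCat.of K)))
    let e' : G ≅ Red.Ga (Spec (CommRingCat.of K)) :=
      ⟨e.hom.hom.hom, e.inv.hom.hom, by
        have := congrArg (fun f => f.hom.hom) e.hom_inv_id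
        exact this, by
        have := congrArg (fun f => f.hom.hom) e.inv_hom_id
        exact this⟩
    haveI : IsMonHom e'.hom := e.hom.hom.isMonHom_hom
    have hbij := aeval_t₀_bijective M₀
    have httr : Transcendental K (t₀ M₀) := transcendental_iff_injective.2 hbij.1
    have httop : Algebra.adjoin K {t₀ M₀} = ⊤ := by
      rw [Algebra.adjoin_singleton_eq_range_aeval, AlgHom.range_eq_top]
      exact hbij.2
    haveI : Coalgebra.IsCocomm K (modelOfIso M₀ e').A :=
      (isCocomm_of_prim (isPrim_t₀ M₀) httop : Coalgebra.IsCocomm K M₀.A)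
    refine exists_endo G H (modelOfIso M₀ e') ?_ ?_ i
    · intro hfin
      haveI : Module.Finite K M₀.A := hfin
      exact httr (Algebra.IsAlgebraic.isAlgebraic (t₀ M₀))
    · intro B hB hne
      exact nonempty_bialgEquiv_hopfSub_ga (isPrim_t₀ M₀) hbij B hB hne
  · -- multiplicative case
    haveI : IsAffine (Red.Gm (Spec (CommRingCat.of K))).left := isAffine_Gm
    obtain ⟨M₀⟩ := nonempty_model (Red.Gm (Spec (CommRingCat.of K)))
    let e' : G ≅ Red.Gm (Spec (CommRingCat.of K)) :=
      ⟨e.hom.hom.hom, e.inv.hom.hom, by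
        have := congrArg (fun f => f.hom.hom) e.hom_inv_id
        exact this, by
        have := congrArg (fun f => f.hom.hom) e.inv_hom_id
        exact this⟩
    haveI : IsMonHom e'.hom := e.hom.hom.isMonHom_hom
    let χ₀ : MonoidAlgebra K (Multiplicative ℤ) ≃ₐc[K] M₀.A :=
      BialgEquiv.ofBijective (ψ₀ M₀) (ψ₀_bijective M₀)
    let M₁ : Model (Red.Gm (Spec (CommRingCat.of K))) := modelOfBialgEquiv M₀ χ₀.symm
    haveI : Coalgebra.IsCocomm K (modelOfIso M₁ e').A :=
      (inferInstance : Coalgebra.IsCocomm K (MonoidAlgebra K (Multiplicative ℤ)))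
    refine exists_endo G H (modelOfIso M₁ e') ?_ ?_ i
    · intro hfin
      haveI : Module.Finite K (MonoidAlgebra K (Multiplicative ℤ)) := hfin
      haveI : Module.Finite K (Multiplicative ℤ →₀ K) :=
        Module.Finite.equiv (MonoidAlgebra.coeffLinearEquiv K :
          MonoidAlgebra K (Multiplicative ℤ) ≃ₗ[K] (Multiplicative ℤ →₀ K))
      rcases Module.finite_finsupp_self_iff.1 ‹Module.Finite K (Multiplicative ℤ →₀ K)› with h | h
      · exact not_subsingleton K h
      · exact not_finite (Multiplicative ℤ)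
    · intro B hB hne
      exact nonempty_bialgEquiv_hopfSub_gm B hB hne

end Groth.Agent.S15180
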