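import Groth.Statements.S15183
import Mathlib
-- import your own Groth.Agent.* helpers here

set_option autoImplicit false
universe u v
open Polynomial
open BddFin

namespace Groth.Agent.S15183

theorem exists_primitiveRoot_of_splits (K : Type u) [Field K] (d : ℕ) (hd : 0 < d)
    (hdK : (d : K) ≠ 0) (hsp : (X ^ d - 1 : K[X]).Splits) : ∃ ζ : K, IsPrimitiveRoot ζ d := by
  classical
  haveI : NeZero d := ⟨hd.ne'⟩
  rw [← card_rootsOfUnity_eq_iff_exists_isPrimitiveRoot]
  have hsep : (X ^ d - C (1 : K) : K[X]).Separable := separable_X_pow_sub_C 1 hdK one_ne_zero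
  have hnodup : (nthRoots d (1 : K)).Nodup := nodup_roots hsep
  have hcard : Multiset.card (nthRoots d (1 : K)) = d := by
    have h1 : (X ^ d - C (1 : K) : K[X]).Splits := by rwa [C_1]
    have := splits_iff_card_roots.mp h1
    rw [natDegree_X_pow_sub_C] at this
    exact this
  calc Nat.card (rootsOfUnity d K) = Nat.card { x // x ∈ nthRoots d (1 : K) } :=
        Nat.card_congr (rootsOfUnityEquivNthRoots K d)
    _ = Fintype.card { x // x ∈ nthRoots d (1 : K) } := Nat.card_eq_fintype_card
    _ = Multiset.card (nthRoots d (1 : K)).attach := by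
        change Multiset.card ((nthRoots d (1 : K)).attach.dedup) = _
        rw [Multiset.dedup_eq_self.mpr (Multiset.nodup_attach.mpr hnodup)]
    _ = Multiset.card (nthRoots d (1 : K)) := Multiset.card_attach
    _ = d := hcard



theorem exists_idempotent (K : Type u) [Field K] (A : Type v) [Ring A] [Algebra K A]
    [IsSimpleRing A] [FiniteDimensional K A] (y : A) (hy0 : y ≠ 0) (hyu : ¬ IsUnit y) :
    ∃ e : A, e * e = e ∧ e ≠ 0 ∧ e ≠ 1 := by
  haveI : IsArtinianRing A := IsArtinianRing.of_finite K A
  haveI : IsSemisimpleRing A := inferInstance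
  obtain ⟨J, hJ⟩ := exists_isCompl (Ideal.span {y} : Ideal A)
  have hI : y ∈ (Ideal.span {y} : Ideal A) := Ideal.subset_span rfl
  have h1 : (1 : A) ∈ (Ideal.span {y} : Ideal A) ⊔ J := by rw [hJ.sup_eq_top]; trivial
  obtain ⟨e, he, f, hf, hef⟩ := Submodule.mem_sup.mp h1
  have hae : ∀ a ∈ (Ideal.span {y} : Ideal A), a * e = a := by
    intro a ha
    have h2 : a - a * e = a * f := by
      have : f = 1 - e := by rw [← hef]; abel
      rw [this, mul_sub, mul_one]
    have h3 : a - a * e ∈ (Ideal.span {y} : Ideal A) :=
      Submodule.sub_mem _ ha (Ideal.mul_mem_left _ a he)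
    have h4 : a - a * e ∈ J := by rw [h2]; exact Ideal.mul_mem_left _ a hf
    have h5 : a - a * e ∈ (Ideal.span {y} : Ideal A) ⊓ J := ⟨h3, h4⟩
    rw [hJ.inf_eq_bot] at h5
    exact (sub_eq_zero.mp h5).symm
  refine ⟨e, hae e he, ?_, ?_⟩
  · rintro rfl
    apply hy0
    have := hae y hI
    rwa [mul_zero, eq_comm] at this
  · rintro rfl
    apply hyu
    obtain ⟨z, hz⟩ := Ideal.mem_span_singleton'.mp he
    -- z * y = 1
    have hinj : Function.Injective (LinearMap.mulLeft K y) := by
      intro a b hab
      have := congrArg (fun t => z * t) hab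
      simpa [← mul_assoc, hz] using this
    have hsurj := LinearMap.surjective_of_injective hinj
    obtain ⟨w, hw⟩ := hsurj 1
    have hw' : y * w = 1 := hw
    have hzw : z = w := by
      calc z = z * (y * w) := by rw [hw', mul_one]
        _ = w := by rw [← mul_assoc, hz, one_mul]
    exact ⟨⟨y, w, hw', hzw ▸ hz⟩, rfl⟩




/-- Let K be a field such that K contains all roots of unity (for every n ≥ 1 the polynomial X^n − 1
splits into linear factors over K), and A a finite-dimensional central simple K-algebra which is not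
a division algebra (some non-zero element is not a unit). Then the quotient of the unit group of A
by that of K has elements of every finite order invertible in K: for every d ≥ 1 with d ≠ 0 in K
there is a unit x of A with x ^ d in K and x ^ k not in K for 0 < k < d. (The published assertion is
phrased for the automorphism group of the Severi–Brauer variety of A, which is isomorphic to the
units of A modulo those of K; this row is the algebra-side statement its proof establishes.) -/
theorem result
    (K : Type u) [Field K] (hK : ∀ n : ℕ, 0 < n → (X ^ n - 1 : K[X]).Splits)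
    (A : Type v) [Ring A] [Algebra K A] [Algebra.IsCentral K A] [IsSimpleRing A] [FiniteDimensional K A]
    (hA : ∃ y : A, y ≠ 0 ∧ ¬ IsUnit y) (d : ℕ) (hd : 0 < d) (hdK : (d : K) ≠ 0) :
    ∃ x : A, IsUnit x ∧ x ^ d ∈ (algebraMap K A).range ∧
      ∀ k : ℕ, 0 < k → k < d → x ^ k ∉ (algebraMap K A).range := by
  obtain ⟨y, hy0, hyu⟩ := hA
  obtain ⟨e, hee, he0, he1⟩ := exists_idempotent K A y hy0 hyu
  obtain ⟨ζ, hζ⟩ := exists_primitiveRoot_of_splits K d hd hdK (hK d hd)
  have he' : e * (1 - e) = 0 := by rw [mul_sub, mul_one, hee, sub_self]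
  have he'' : (1 - e) * e = 0 := by rw [sub_mul, one_mul, hee, sub_self]
  have hff : (1 - e) * (1 - e) = 1 - e := by rw [mul_sub, mul_one, he'', sub_zero]
  have hf0 : (1 - e : A) ≠ 0 := fun h => he1 (sub_eq_zero.mp h).symm
  have hpow : ∀ k : ℕ, (ζ • e + (1 - e)) ^ k = ζ ^ k • e + (1 - e) := by
    intro k
    induction k with
    | zero => simp
    | succ k ih =>
      rw [pow_succ, ih, add_mul, mul_add, mul_add, smul_mul_smul_comm, hee, smul_mul_assoc, he',
        smul_zero, mul_smul_comm, he'', smul_zero, hff, add_zero, zero_add, pow_succ]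
  refine ⟨ζ • e + (1 - e), ?_, ?_, ?_⟩
  · apply IsUnit.of_pow_eq_one (n := d) _ hd.ne'
    rw [hpow, hζ.pow_eq_one, one_smul]; abel
  · refine ⟨1, ?_⟩
    rw [map_one, hpow, hζ.pow_eq_one, one_smul]; abel
  · rintro k hk0 hkd ⟨c, hc⟩
    rw [hpow] at hc
    have h1 := congrArg (fun t => t * (1 - e)) hc
    simp only [add_mul, smul_mul_assoc, he', smul_zero, zero_add, hff, Algebra.algebraMap_eq_smul_one,
      one_mul] at h1
    have hc1 : c = 1 := by
      by_contra hne
      have : (c - 1) • (1 - e : A) = 0 := by rw [sub_smul, one_smul, h1, sub_self]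
      rcases smul_eq_zero.mp this with h | h
      · exact hne (sub_eq_zero.mp h)
      · exact hf0 h
    have h2 := congrArg (fun t => t * e) hc
    simp only [add_mul, smul_mul_assoc, hee, he'', add_zero, Algebra.algebraMap_eq_smul_one,
      one_mul] at h2
    have hζk : ζ ^ k = 1 := by
      by_contra hne
      have : (ζ ^ k - c) • e = 0 := by rw [sub_smul, h2, sub_self]
      rcases smul_eq_zero.mp this with h | h
      · exact hne (by rw [sub_eq_zero.mp h, hc1])
      · exact he0 h
    have := hζ.dvd_of_pow_eq_one k hζk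
    exact absurd (Nat.le_of_dvd hk0 this) (not_le.mpr hkd)


end Groth.Agent.S15183
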