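import Groth.Statements.S15184
import Groth.Agent.Lib.Helper15.Degree3
import Groth.Agent.Lib.Helper15.IndexTPow
import Groth.Agent.S15171
-- import your own Groth.Agent.* helpers here

set_option autoImplicit false
universe u v
open BddFin

namespace Groth.Agent.S15184

/-- Let K be a field with char K = p > 0 and A a central division K-algebra with dim_K A = p ^ 2. If p =
2 or p = 3, then some element of A is not separable over K. -/
theorem result
    (K : Type u) [Field K] (p : ℕ) [Fact p.Prime] [CharP K p]
    (A : Type v) [DivisionRing A] [Algebra K A] [Algebra.IsCentral K A] [FiniteDimensional K A]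
    (hA : Module.finrank K A = p ^ 2) (hp : p = 2 ∨ p = 3) :
    ∃ v : A, ¬ IsSeparable K v := by
  rcases hp with rfl | rfl
  · -- p = 2: a separable maximal subfield is quadratic hence Galois
    obtain ⟨L, _, _, hLf, hLs, ι, hL⟩ := Groth.Agent.Lib.Helper15.CSA.exists_maximal_subfield K A
    rw [hA] at hL
    have hL2 : Module.finrank K L = 2 := (Nat.pow_left_injective (n := 2) (by norm_num) hL).symm
    haveI : Algebra.IsQuadraticExtension K L := ⟨hL2⟩
    exact Groth.Agent.S15171.result K 2 A hA L hL2 ι
  · -- p = 3: Wedderburn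
    rcases Groth.Agent.Lib.Helper15.Degree3.wedderburn_three K A hA with ⟨z, hz, c₀, hc₀⟩ | ⟨L, _, _, hgal, hL3, ⟨ι⟩⟩
    · exact ⟨z, Groth.Agent.Lib.Helper15.Degree3.not_isSeparable_of_pow_mem K 3 A hA z hz c₀ hc₀.symm⟩
    · exact Groth.Agent.S15171.result K 3 A hA L hL3 ι

end Groth.Agent.S15184
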