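import Groth.Statements.S15224
import Mathlib.Data.Nat.Choose.Sum
import Mathlib.Tactic

set_option autoImplicit false
open Finset
open W4c2rk2extmaps

namespace Groth.Agent.S15224

section helpers

theorem altsum (k : ℕ) (hk : 1 ≤ k) :
    (∑ i ∈ Finset.Ico 1 k, (-1 : ℚ) ^ (i - 1) * (k.choose i : ℚ)) + (-1 : ℚ) ^ (k - 1) = 1 := by
  obtain ⟨n, rfl⟩ : ∃ n, k = n + 1 := ⟨k - 1, by omega⟩
  have h0 := Int.alternating_sum_range_choose_of_ne (n := n + 1) (by omega)
  have h1 : (∑ m ∈ range (n + 1 + 1), ((-1 : ℚ) ^ m * ((n + 1).choose m : ℚ))) = 0 := by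
    exact_mod_cast congrArg (Int.cast : ℤ → ℚ) h0
  rw [Finset.sum_range_succ, Finset.sum_range_succ'] at h1
  rw [Finset.sum_Ico_eq_sum_range]
  simp only [Nat.add_sub_cancel, Nat.choose_zero_right, Nat.choose_self, pow_zero, Nat.cast_one,
    mul_one] at h1 ⊢
  have h2 : ∀ i, (-1 : ℚ) ^ (1 + i - 1) * ((n + 1).choose (1 + i) : ℚ) =
      - ((-1 : ℚ) ^ (i + 1) * ((n + 1).choose (i + 1) : ℚ)) := by
    intro i
    rw [show 1 + i - 1 = i by omega, add_comm 1 i, pow_succ]
    ring
  simp only [h2, Finset.sum_neg_distrib]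
  rw [pow_succ] at h1
  linarith

theorem result_aux (R : Type*) [CommRing R] [Algebra ℚ R] (y : R)
    (c : ℕ → R) (hc : ∀ k : ℕ, c k = ((Nat.factorial k : ℚ)⁻¹) • y ^ k)
    (k : ℕ) (hk : 2 ≤ k) :
    (∑ i ∈ Finset.Ico 1 k, (-1 : R) ^ (i - 1) * c i * c (k - i)) + (-1 : R) ^ (k - 1) * c k = c k := by
  have key : ∀ i, i ≤ k → c i * c (k - i) = (((k.choose i : ℚ)) / (k.factorial : ℚ)) • y ^ k := by
    intro i hi
    rw [hc, hc, smul_mul_smul_comm, ← pow_add, Nat.add_sub_cancel' hi]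
    congr 1
    have := Nat.choose_mul_factorial_mul_factorial hi
    have h3 : ((k.choose i : ℚ)) * (i.factorial : ℚ) * ((k - i).factorial : ℚ) = (k.factorial : ℚ) := by
      exact_mod_cast this
    have hi0 : (i.factorial : ℚ) ≠ 0 := by positivity
    have hki0 : ((k - i).factorial : ℚ) ≠ 0 := by positivity
    have hk0 : (k.factorial : ℚ) ≠ 0 := by positivity
    field_simp
    linarith
  have hneg : ∀ j : ℕ, (-1 : R) ^ j = algebraMap ℚ R ((-1) ^ j) := by
    intro j; simp
  have h1 : ∀ i ∈ Finset.Ico 1 k, (-1 : R) ^ (i - 1) * c i * c (k - i) =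
      ((-1 : ℚ) ^ (i - 1) * (k.choose i : ℚ) / (k.factorial : ℚ)) • y ^ k := by
    intro i hi
    rw [Finset.mem_Ico] at hi
    rw [mul_assoc, key i hi.2.le, hneg, ← Algebra.smul_def, smul_smul, mul_div_assoc]
  rw [Finset.sum_congr rfl h1, ← Finset.sum_smul, hc k, hneg, ← Algebra.smul_def, smul_smul,
    ← add_smul]
  congr 1
  have hk0 : (k.factorial : ℚ) ≠ 0 := by positivity
  have := altsum k (by omega)
  rw [← Finset.sum_div]
  calc _ = ((∑ i ∈ Finset.Ico 1 k, (-1 : ℚ) ^ (i - 1) * (k.choose i : ℚ)) + (-1 : ℚ) ^ (k - 1)) /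
        (k.factorial : ℚ) := by ring
    _ = _ := by rw [this, one_div]

end helpers

/-- In a commutative ℚ-algebra R let y be an element and put c_k = y^k / k! for every k. Then for k ≥ 2,
Σ_{i=1}^{k-1} (-1)^(i-1) c_i c_(k-i) + (-1)^(k-1) c_k = c_k. (The published statement concerns the
Chern classes of a specific vector bundle on a Jacobian, which are of the form c_k = (4θ)^k / k!;
the printed argument establishes the identity for every sequence of this form in a commutative
ℚ-algebra, which is the form stated here.) -/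
theorem result (R : Type*) [CommRing R] [Algebra ℚ R] (y : R)
    (c : ℕ → R) (hc : ∀ k : ℕ, c k = ((Nat.factorial k : ℚ)⁻¹) • y ^ k)
    (k : ℕ) (hk : 2 ≤ k) :
    (∑ i ∈ Finset.Ico 1 k, (-1 : R) ^ (i - 1) * c i * c (k - i)) + (-1 : R) ^ (k - 1) * c k = c k := by
  exact result_aux R y c hc k hk

end Groth.Agent.S15224
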