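import Groth.Statements.S15225
import Groth.Agent.Lib.Helper25.FibreDimRank3
import Groth.Agent.Lib.Helper25.SmoothRelDimScheme
import Groth.Agent.S5005
import Groth.Agent.Lib.Helper21.VeryStable
-- import your own Groth.Agent.* helpers here

set_option autoImplicit false
open CategoryTheory CategoryTheory.Limits AlgebraicGeometry MonoidalCategory
open VBCurve

namespace Groth.Agent.S15225

/-- Let X be a smooth proper integral curve over ℂ of genus at least 2 which is non-hyperelliptic (no
invertible module of degree 2 has two independent global sections), K a module isomorphic to its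
sheaf of differentials, and E a slope-stable finite locally free module of rank 2 and degree 0 or 1
(degrees are χ(−) minus rank times χ(O_X)). Call E very stable when every O_X-linear map α : E → E ⊗
K with α ∘ α = 0 (the composite E → E ⊗ K → (E ⊗ K) ⊗ K) is zero; for rank 2 this is the absence of
non-zero nilpotent K-valued endomorphisms. Then E fails to be very stable exactly when E has a line
subbundle L, i.e. an invertible submodule whose quotient E/L is invertible, together with a non-zero
O_X-linear map E/L → L ⊗ K. (With det E = Λ and L the dual of a line bundle L₀ the space of such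
maps is H^0(K ⊗ L₀^{-2} ⊗ Λ^{-1}), which is how the criterion is usually written.) -/
theorem result
    (X : Scheme.{0}) [X.Over (Spec (CommRingCat.of ℂ))] [IsIntegral X]
    [IsProper (X ↘ Spec (CommRingCat.of ℂ))] [Smooth (X ↘ Spec (CommRingCat.of ℂ))]
    (hdim : topologicalKrullDim X = 1) (hg : 2 ≤ Curv2.genus ℂ X)
    (hnh : ∀ M : X.Modules, PicF.IsInvertible M → Curv2.deg ℂ X M 1 = 2 →
      Module.finrank ℂ (Coh.HH X M 0) ≤ 1)
    (K : X.Modules) (eK : K ≅ Omega.sheaf (X ↘ Spec (CommRingCat.of ℂ)))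
    (E : X.Modules) (hE : FlatMod.IsFinLocFreeOfRank 2 E)
    (hdegE : Curv2.deg ℂ X E 2 = 0 ∨ Curv2.deg ℂ X E 2 = 1)
    (hst : ModFun.IsSlopeStable ℂ X E 2) :
    (¬ ∀ α : E ⟶ CohB1.tensorMod E K,
        α ≫ (CohB1.sheafifyMod X).map
          (MonoidalCategoryStruct.whiskerRight (C := CohB1.PMod X) α.val (CohB1.toPMod K)) = 0 → α = 0) ↔
      ∃ (L : X.Modules) (j : L ⟶ E), PicF.IsInvertible L ∧ Mono j ∧ PicF.IsInvertible (cokernel j) ∧
        ∃ β : cokernel j ⟶ CohB1.tensorMod L K, β ≠ 0 := by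
  have hnoeth : IsLocallyNoetherian X :=
    LocallyOfFiniteType.isLocallyNoetherian (X ↘ Spec (CommRingCat.of ℂ))
  -- the sheaf of differentials of a smooth curve is locally free of rank one
  have hd : OmegaSh.IsUniversal (OmegaSh.dOmega (X ↘ Spec (CommRingCat.of ℂ))) :=
    Groth.Agent.S5005.result (X ↘ Spec (CommRingCat.of ℂ))
  have hsm1 : SmoothOfRelativeDimension 1 (X ↘ Spec (CommRingCat.of ℂ)) :=
    Groth.Agent.Lib.Helper25.SmoothRelDimRank.smoothOfRelativeDimension_of_isIntegral
      (X ↘ Spec (CommRingCat.of ℂ)) 1 (by rw [hdim]; rfl)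
  have hΩ : FlatMod.IsFinLocFreeOfRank 1 (Omega.sheaf (X ↘ Spec (CommRingCat.of ℂ))) := by
    intro x
    obtain ⟨U, m', hxU, hiso, hm'⟩ :=
      Groth.Agent.Lib.Helper25.FibreDimRank.exists_free_of_universal
        (X ↘ Spec (CommRingCat.of ℂ)) _ _ hd x
    rw [Groth.Agent.Lib.Helper25.FibreDimRank.fibreDimAt_eq_of_smoothOfRelativeDimension 1
      (X ↘ Spec (CommRingCat.of ℂ)) x] at hm'
    have hnm : 1 = m' := by exact_mod_cast hm'
    subst hnm
    exact ⟨U, hxU, hiso⟩
  have hK1 : FlatMod.IsFinLocFreeOfRank 1 K :=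
    (Groth.Agent.Lib.Helper29.QCoh.isInvertible_iff_isFinLocFreeOfRank_one K).mp
      (Groth.Agent.Lib.Helper29.QCoh.isInvertible_of_iso eK.symm
        ((Groth.Agent.Lib.Helper29.QCoh.isInvertible_iff_isFinLocFreeOfRank_one _).mpr hΩ))
  have hKlf : FlatMod.IsFinLocFree K :=
    Groth.Agent.Lib.Helper29.QCoh.isFinLocFree_of_isFinLocFreeOfRank hK1
  have hKflat : FlatMod.IsFlat K := Groth.Agent.Lib.Helper28.DCohRes.isFlat_of_isFinLocFree hKlf
  have hpres := Groth.Agent.Lib.Lead.TwistExact.preservesFiniteLimits_tensorRight_of_isFlat hKflat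
  constructor
  · intro hnot
    have hex : ∃ α : E ⟶ (Groth.Agent.Lib.Lead.TwistExact.tensorRight K).obj E,
        α ≫ (Groth.Agent.Lib.Lead.TwistExact.tensorRight K).map α = 0 ∧ α ≠ 0 := by
      by_contra hcon
      apply hnot
      intro α hα2
      by_contra hne
      exact hcon ⟨α, hα2, hne⟩
    obtain ⟨α, hα2, hαne⟩ := hex
    obtain ⟨h1, h2, β, hβ⟩ :=
      Groth.Agent.Lib.Helper21.VeryStable.sub_of_nilpotent ℂ hdim K hK1 E hE α hα2 hαne
    exact ⟨kernel α, kernel.ι α, h1, inferInstance, h2, β, hβ⟩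
  · rintro ⟨L, j, hL, hj, hQ, β, hβ⟩ hvs
    obtain ⟨α, hα2, hαne⟩ := Groth.Agent.Lib.Helper21.VeryStable.nilpotent_of_sub K j β hβ
    exact hαne (hvs α hα2)

end Groth.Agent.S15225
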