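import Groth.Statements.S15226
import Groth.Agent.Lib.Helper25.FibreDimRank3
import Groth.Agent.Lib.Helper25.SmoothRelDimScheme
import Groth.Agent.S5005
import Groth.Agent.Lib.Helper2.DegAdd.H0SS
import Groth.Agent.Lib.Lead.TwistExact
-- import your own Groth.Agent.* helpers here

set_option autoImplicit false
open CategoryTheory CategoryTheory.Limits AlgebraicGeometry MonoidalCategory
open VBCurve

namespace Groth.Agent.S15226

/-- Let X be a smooth proper integral curve over ℂ of genus at least 2 which is non-hyperelliptic, K a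
module isomorphic to its sheaf of differentials, and E a slope-stable finite locally free module of
rank 2 and degree 0 or 1 which is very stable: every O_X-linear α : E → E ⊗ K with α ∘ α = 0 (as a
map E → (E ⊗ K) ⊗ K) vanishes. Let L be an invertible module occurring as a line subbundle of E of
maximal degree (a monomorphism L → E with invertible quotient exists, and every invertible module
mapping monomorphically into E has degree at most deg L). Then for every non-zero s : L → E and
every non-zero t : E → L ⊗ K the composite L → E → L ⊗ K is non-zero; in other words the pairing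
Hom(L, E) × Hom(E, L ⊗ K) → Hom(L, L ⊗ K) ≅ H^0(K) vanishes on no pair of non-zero elements. -/
theorem result
    (X : Scheme.{0}) [X.Over (Spec (CommRingCat.of ℂ))] [IsIntegral X]
    [IsProper (X ↘ Spec (CommRingCat.of ℂ))] [Smooth (X ↘ Spec (CommRingCat.of ℂ))]
    (hdim : topologicalKrullDim X = 1) (hg : 2 ≤ Curv2.genus ℂ X)
    (hnh : ∀ M : X.Modules, PicF.IsInvertible M → Curv2.deg ℂ X M 1 = 2 →
      Module.finrank ℂ (Coh.HH X M 0) ≤ 1)
    (K : X.Modules) (eK : K ≅ Omega.sheaf (X ↘ Spec (CommRingCat.of ℂ)))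
    (E : X.Modules) (hE : FlatMod.IsFinLocFreeOfRank 2 E)
    (hdegE : Curv2.deg ℂ X E 2 = 0 ∨ Curv2.deg ℂ X E 2 = 1)
    (hst : ModFun.IsSlopeStable ℂ X E 2)
    (hvs : ∀ α : E ⟶ CohB1.tensorMod E K,
        α ≫ (CohB1.sheafifyMod X).map
          (MonoidalCategoryStruct.whiskerRight (C := CohB1.PMod X) α.val (CohB1.toPMod K)) = 0 → α = 0)
    (L : X.Modules) (hL : PicF.IsInvertible L)
    (hmax : ∃ j : L ⟶ E, Mono j ∧ PicF.IsInvertible (cokernel j) ∧
      ∀ (M : X.Modules) (i : M ⟶ E), PicF.IsInvertible M → Mono i → Curv2.deg ℂ X M 1 ≤ Curv2.deg ℂ X L 1)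
    (s : L ⟶ E) (hs : s ≠ 0) (t : E ⟶ CohB1.tensorMod L K) (ht : t ≠ 0) :
    s ≫ t ≠ 0 := by
  intro hst0
  have hnoeth : IsLocallyNoetherian X :=
    LocallyOfFiniteType.isLocallyNoetherian (X ↘ Spec (CommRingCat.of ℂ))
  -- the sheaf of differentials of a smooth curve is locally free of rank one
  have hd : OmegaSh.IsUniversal (OmegaSh.dOmega (X ↘ Spec (CommRingCat.of ℂ))) :=
    Groth.Agent.S5005.result (X ↘ Spec (CommRingCat.of ℂ))
  have hsm1 : SmoothOfRelativeDimension 1 (X ↘ Spec (CommRingCat.of ℂ)) :=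
    Groth.Agent.Lib.Helper25.SmoothRelDimRank.smoothOfRelativeDimension_of_isIntegral
      (X ↘ Spec (CommRingCat.of ℂ)) 1 (by rw [hdim]; rfl)
  have hΩ : FlatMod.IsFinLocFreeOfRank 1 (Omega.sheaf (X ↘ Spec (CommRingCat.of ℂ))) := by
    intro x
    obtain ⟨U, m', hxU, hiso, hm'⟩ :=
      Groth.Agent.Lib.Helper25.FibreDimRank.exists_free_of_universal
        (X ↘ Spec (CommRingCat.of ℂ)) _ _ hd x
    rw [Groth.Agent.Lib.Helper25.FibreDimRank.fibreDimAt_eq_of_smoothOfRelativeDimension 1
      (X ↘ Spec (CommRingCat.of ℂ)) x] at hm'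
    have hnm : 1 = m' := by exact_mod_cast hm'
    subst hnm
    exact ⟨U, hxU, hiso⟩
  have hKlf : FlatMod.IsFinLocFree K :=
    Groth.Agent.Lib.Helper29.QCoh.isFinLocFree_of_iso eK.symm
      (Groth.Agent.Lib.Helper29.QCoh.isFinLocFree_of_isFinLocFreeOfRank hΩ)
  have hKflat : FlatMod.IsFlat K := Groth.Agent.Lib.Helper28.DCohRes.isFlat_of_isFinLocFree hKlf
  have := Groth.Agent.Lib.Lead.TwistExact.preservesFiniteLimits_tensorRight_of_isFlat hKflat
  have hL1 := (Groth.Agent.Lib.Helper29.QCoh.isInvertible_iff_isFinLocFreeOfRank_one L).mp hL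
  have hsmono : Mono s :=
    Groth.Agent.Lib.Helper2.DegAdd.mono_of_ne_zero_of_rank_one ℂ hdim.le 2 hL1 hE s hs
  have : Mono ((Groth.Agent.Lib.Lead.TwistExact.tensorRight K).map s) := inferInstance
  have key : ∀ (t' : E ⟶ (Groth.Agent.Lib.Lead.TwistExact.tensorRight K).obj L), s ≫ t' = 0 →
      (t' ≫ (Groth.Agent.Lib.Lead.TwistExact.tensorRight K).map s) ≫
        (Groth.Agent.Lib.Lead.TwistExact.tensorRight K).map
          (t' ≫ (Groth.Agent.Lib.Lead.TwistExact.tensorRight K).map s) = 0 := by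
    intro t' h0
    rw [Functor.map_comp, Category.assoc,
      ← Category.assoc ((Groth.Agent.Lib.Lead.TwistExact.tensorRight K).map s),
      ← Functor.map_comp, h0, Functor.map_zero, zero_comp, comp_zero]
  have hα := hvs (t ≫ (Groth.Agent.Lib.Lead.TwistExact.tensorRight K).map s) (key t hst0)
  exact ht ((cancel_mono ((Groth.Agent.Lib.Lead.TwistExact.tensorRight K).map s)).mp
    (hα.trans zero_comp.symm))

end Groth.Agent.S15226
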