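import Groth.Statements.S15229
import Groth.Agent.S15224

set_option autoImplicit false
open Finset
open W4c2rk2extmaps

namespace Groth.Agent.S15229

section helpers

theorem result_aux (R : Type*) [CommRing R] [Algebra ℚ R]
    (θ η : R) (g : ℕ) (c : ℕ → R) (hc : ∀ k : ℕ, c k = ((Nat.factorial k : ℚ)⁻¹) • ((4 : R) * θ) ^ k)
    (hθ : θ ^ (g + 1) = 0)
    (hrel : η ^ (g + 1) = ∑ i ∈ Finset.Ico 1 (g + 2), (-1 : R) ^ (i - 1) * c i * η ^ (g + 1 - i))
    (k : ℕ) (hk1 : 1 ≤ k) (hkg : k ≤ g) :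
    η ^ (g + k) * θ ^ (g - k) = c k * η ^ g * θ ^ (g - k) := by
  have hcθ : ∀ i j, c i * θ ^ j =
      algebraMap ℚ R ((i.factorial : ℚ)⁻¹ * 4 ^ i) * θ ^ (i + j) := by
    intro i j
    rw [hc, mul_pow, Algebra.smul_def, map_mul, pow_add]
    simp only [map_pow, map_ofNat]
    ring
  have hvanish : ∀ i j, g + 1 ≤ i + j → c i * θ ^ j = 0 := by
    intro i j hij
    rw [hcθ, show i + j = (g + 1) + (i + j - (g + 1)) by omega, pow_add, hθ, zero_mul, mul_zero]
  induction k using Nat.strong_induction_on with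
  | _ k ih =>
  have e1 : η ^ (g + k) * θ ^ (g - k) = ∑ i ∈ Finset.Ico 1 (g + 2),
      (-1 : R) ^ (i - 1) * (c i * θ ^ (g - k)) * η ^ (k - 1 + (g + 1 - i)) := by
    rw [show g + k = (k - 1) + (g + 1) by omega, pow_add, hrel, Finset.mul_sum, Finset.sum_mul]
    refine Finset.sum_congr rfl fun i _ => ?_
    rw [pow_add]; ring
  have e2 : ∑ i ∈ Finset.Ico 1 (g + 2),
      (-1 : R) ^ (i - 1) * (c i * θ ^ (g - k)) * η ^ (k - 1 + (g + 1 - i)) =
      ∑ i ∈ Finset.Ico 1 (k + 1),
      (-1 : R) ^ (i - 1) * (c i * θ ^ (g - k)) * η ^ (k - 1 + (g + 1 - i)) := by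
    symm
    apply Finset.sum_subset
    · intro i hi
      simp only [Finset.mem_Ico] at hi ⊢
      omega
    · intro i hi hi'
      simp only [Finset.mem_Ico] at hi hi'
      rw [hvanish i (g - k) (by omega)]; ring
  have e3 : ∀ i ∈ Finset.Ico 1 k,
      (-1 : R) ^ (i - 1) * (c i * θ ^ (g - k)) * η ^ (k - 1 + (g + 1 - i)) =
      ((-1 : R) ^ (i - 1) * c i * c (k - i)) * (η ^ g * θ ^ (g - k)) := by
    intro i hi
    rw [Finset.mem_Ico] at hi
    have ih' := ih (k - i) (by omega) (by omega) (by omega)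
    have h1 : k - 1 + (g + 1 - i) = g + (k - i) := by omega
    have h2 : i + (g - k) = g - (k - i) := by omega
    have h3 : (-1 : R) ^ (i - 1) * c i * c (k - i) * (η ^ g * θ ^ (g - k)) =
        (-1 : R) ^ (i - 1) * c (k - i) * η ^ g * (c i * θ ^ (g - k)) := by ring
    rw [h3, h1, hcθ i (g - k), h2]
    calc (-1 : R) ^ (i - 1) * (algebraMap ℚ R ((i.factorial : ℚ)⁻¹ * 4 ^ i) * θ ^ (g - (k - i))) *
          η ^ (g + (k - i))
        = (-1 : R) ^ (i - 1) * algebraMap ℚ R ((i.factorial : ℚ)⁻¹ * 4 ^ i) *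
          (η ^ (g + (k - i)) * θ ^ (g - (k - i))) := by ring
      _ = _ := by rw [ih']; ring
  have e4 : (-1 : R) ^ (k - 1) * (c k * θ ^ (g - k)) * η ^ (k - 1 + (g + 1 - k)) =
      ((-1 : R) ^ (k - 1) * c k) * (η ^ g * θ ^ (g - k)) := by
    rw [show k - 1 + (g + 1 - k) = g by omega]; ring
  rw [e1, e2, Finset.sum_Ico_succ_top hk1, Finset.sum_congr rfl e3, e4, ← Finset.sum_mul,
    ← add_mul]
  rcases Nat.lt_or_ge k 2 with hk2 | hk2
  · obtain rfl : k = 1 := by omega
    simp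
    ring
  · rw [Groth.Agent.S15224.result R (4 * θ) c hc k hk2]
    ring

end helpers

/-- In a commutative ℚ-algebra R let θ, η be elements and g a natural number, and put c_k = (4θ)^k / k!.
Suppose θ^(g+1) = 0 and that η satisfies the relation η^(g+1) = Σ_{i=1}^{g+1} (-1)^(i-1) c_i
η^(g+1-i). Then η^(g+k) θ^(g-k) = c_k η^g θ^(g-k) for every 1 ≤ k ≤ g. (The published statement
concerns the first Chern class η of the tautological line bundle on a projective bundle P(U) over a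
g-dimensional Jacobian, with c_k the Chern classes of U, which are (4θ)^k / k!; there θ^(g+1)
vanishes for dimension reasons and the displayed relation is the projective-bundle relation, and the
printed argument derives the identity from exactly these three inputs, which is the form stated
here.) -/
theorem result (R : Type*) [CommRing R] [Algebra ℚ R]
    (θ η : R) (g : ℕ) (c : ℕ → R) (hc : ∀ k : ℕ, c k = ((Nat.factorial k : ℚ)⁻¹) • ((4 : R) * θ) ^ k)
    (hθ : θ ^ (g + 1) = 0)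
    (hrel : η ^ (g + 1) = ∑ i ∈ Finset.Ico 1 (g + 2), (-1 : R) ^ (i - 1) * c i * η ^ (g + 1 - i))
    (k : ℕ) (hk1 : 1 ≤ k) (hkg : k ≤ g) :
    η ^ (g + k) * θ ^ (g - k) = c k * η ^ g * θ ^ (g - k) := by
  exact result_aux R θ η g c hc hθ hrel k hk1 hkg

end Groth.Agent.S15229
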