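import Groth.Statements.S15231
import Groth.Agent.Lib.Helper13.DRingTensorSES
import Groth.Agent.Lib.Helper13.SemiFree4

set_option autoImplicit false
universe u
open CategoryTheory CategoryTheory.Limits
attribute [local instance] HasDerivedCategory.standard
open DRing

namespace Groth.Agent.S15231

/-- Let R be a Noetherian local commutative ring with residue field κ, let P be any object of D(R) and
a, b integers. Suppose that H^i(P ⊗^L_R κ) = 0 for every i outside [a, b] (over the field κ this
says exactly that P ⊗^L_R κ has tor amplitude in [a, b] as an object of D(κ)). Then for every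
R-module N of finite length, H^i(P ⊗^L_R N) = 0 for every i outside [a, b]. The derived base change
to κ and the derived tensor products with R-modules are the total left derived functors on D(R),
assumed to exist for every R-module (as they do). -/
theorem result (R : Type u) [CommRing R] [IsNoetherianRing R]
    [IsLocalRing R] [DRing.HasLBaseChange (IsLocalRing.residue R)] [∀ M : ModuleCat.{u} R, DRing.HasLTensor R M]
    (P : Dual.D R) (a b : ℤ)
    (h : ∀ i : ℤ, (i < a ∨ b < i) →
      Subsingleton (Dual.HD (IsLocalRing.ResidueField R) ((DRing.LBaseChange (IsLocalRing.residue R)).obj P) i))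
    (N : Type u) [AddCommGroup N] [Module R N] (hN : IsFiniteLength R N) (i : ℤ) (hi : i < a ∨ b < i) :
    Subsingleton (Dual.HD R ((DRing.LTensor R (ModuleCat.of R N)).obj P) i) := by
  open Groth.Agent.Lib.Helper13.DR Groth.Agent.Lib.Helper13.PC Groth.Agent.Lib.Helper13.SF in
  obtain ⟨E, hEK, hEproj, ⟨e⟩⟩ := exists_kprojective_rep (R := R) P
  have hfl : ∀ i : ℤ, Module.Flat R (E.X i) := fun i => by
    have := (projective_iff _).1 (hEproj i)
    infer_instance
  have key : ∀ j : ℤ, (j < a ∨ b < j) →
      IsZero (((tensorCx (ModuleCat.of R (IsLocalRing.ResidueField R))).obj E).homology j) := by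
    intro j hj
    rw [← HomologicalComplex.exactAt_iff_isZero_homology,
      exactAt_tensorCx_iff_exactAt_extendCx R (IsLocalRing.ResidueField R) E j,
      HomologicalComplex.exactAt_iff_isZero_homology]
    have := h j hj
    have hz : IsZero ((DerivedCategory.homologyFunctor
        (ModuleCat.{u} (IsLocalRing.ResidueField R)) j).obj
        ((DRing.LBaseChange (IsLocalRing.residue R)).obj P)) := ModuleCat.isZero_of_subsingleton _
    exact hz.of_iso ((homologyQIso _ j).symm ≪≫
      (DerivedCategory.homologyFunctor (ModuleCat.{u} (IsLocalRing.ResidueField R)) j).mapIso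
        ((LBaseChangeIso (IsLocalRing.residue R) E).symm ≪≫
          (DRing.LBaseChange (IsLocalRing.residue R)).mapIso e))
  have h2 := isZero_homology_tensorCx_of_isFiniteLength E hfl i (key i hi) N hN
  have h3 : IsZero ((DerivedCategory.homologyFunctor (ModuleCat.{u} R) i).obj
      ((DRing.LTensor R (ModuleCat.of R N)).obj P)) :=
    h2.of_iso ((DerivedCategory.homologyFunctor (ModuleCat.{u} R) i).mapIso
      ((DRing.LTensor R (ModuleCat.of R N)).mapIso e.symm ≪≫
        LTensorIso (ModuleCat.of R N) E) ≪≫ homologyQIso _ i)
  exact ModuleCat.subsingleton_of_isZero h3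

end Groth.Agent.S15231
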