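import Groth.Statements.S15232
import Groth.Agent.Lib.Helper13.DRingGlobalSplit
import Groth.Agent.Lib.Helper13.DRingTorBC
import Groth.Agent.Lib.Helper13.DRingLDerived

set_option autoImplicit false
universe u
open CategoryTheory CategoryTheory.Limits
attribute [local instance] HasDerivedCategory.standard
open DRing

namespace Groth.Agent.S15232

/-- Let R be a Noetherian commutative ring and I an ideal contained in the Jacobson radical of R, and
assume the derived base change D(R) → D(R/I) exists. Let P be a pseudo-coherent object of D(R) and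
a, b integers. If P ⊗^L_R R/I has tor amplitude in [a, b] as an object of D(R/I), then P has tor
amplitude in [a, b] as an object of D(R). Tor amplitude is taken in the flat-representative form
(isomorphic in the derived category to a complex of flat modules vanishing outside [a, b]). -/
theorem result (R : Type u) [CommRing R] [IsNoetherianRing R]
    (I : Ideal R) (hI : I ≤ Ideal.jacobson (⊥ : Ideal R)) [DRing.HasLBaseChange (Ideal.Quotient.mk I)]
    (P : Dual.D R) (hP : DRing.IsPseudoCoherent' R P) (a b : ℤ)
    (h : DRing.HasTorAmplitudeIn (R ⧸ I) a b ((DRing.LBaseChange (Ideal.Quotient.mk I)).obj P)) :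
    DRing.HasTorAmplitudeIn R a b P := by
  open Groth.Agent.Lib.Helper13.DR Groth.Agent.Lib.Helper13.PC in
  obtain ⟨E, c, hc, hff, ⟨e⟩⟩ := hP
  have hEproj : E.IsKProjective := isKProjective_of_forall_projective E c hc
    (fun i => (projective_iff _).2 (by
      have := (hff i).1
      have := (hff i).2
      infer_instance))
  have hfl : ∀ i : ℤ, Module.Flat R (E.X i) := fun i => by
    have := (hff i).1
    have := (hff i).2
    infer_instance
  have h' : DRing.HasTorAmplitudeIn (R ⧸ I) a b
      (DerivedCategory.Q.obj (((ModuleCat.extendScalars.{u, u, u}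
        (Ideal.Quotient.mk I)).mapHomologicalComplex (ComplexShape.up ℤ)).obj E)) :=
    hasTorAmplitudeIn_of_iso ((DRing.LBaseChange (Ideal.Quotient.mk I)).mapIso e.symm ≪≫
      LBaseChangeIso (Ideal.Quotient.mk I) E) h
  refine hasTorAmplitudeIn_of_iso e
    (hasTorAmplitudeIn_of_fibres_vanishing R E c hc hff a b (fun m hm i hi => ?_))
  have hIm : I ≤ m := fun x hx => (Ideal.mem_sInf.1 (hI hx)) ⟨bot_le, hm⟩
  let g : R ⧸ I →+* R ⧸ m := Ideal.Quotient.factor hIm
  have hgf : g.comp (Ideal.Quotient.mk I) = Ideal.Quotient.mk m := Ideal.Quotient.factor_comp_mk hIm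
  let _ := g.toAlgebra
  have h2 := hasTorAmplitudeIn_extendCx (R ⧸ I) (R ⧸ m) _ c
    (fun i hi => Functor.map_isZero (ModuleCat.extendScalars.{u, u, u} (Ideal.Quotient.mk I)) (hc i hi))
    (fun i => by
      have h1 : Pfl (R ⧸ I) ((ModuleCat.extendScalars.{u, u, u} (Ideal.Quotient.mk I)).obj (E.X i)) := by
        let _ := (Ideal.Quotient.mk I).toAlgebra
        exact Pfl_extendScalars (R ⧸ I) (hfl i)
      exact h1) a b h'
  obtain ⟨F, hF, -, ⟨eF⟩⟩ := h2
  have h3 : (((ModuleCat.extendScalars.{u, u, u} g).mapHomologicalComplex (ComplexShape.up ℤ)).obj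
      (((ModuleCat.extendScalars.{u, u, u} (Ideal.Quotient.mk I)).mapHomologicalComplex
        (ComplexShape.up ℤ)).obj E)).ExactAt i := by
    rw [HomologicalComplex.exactAt_iff_isZero_homology]
    refine Limits.IsZero.of_iso ?_ ((homologyQIso _ i).symm ≪≫
      (DerivedCategory.homologyFunctor _ i).mapIso eF.symm ≪≫ homologyQIso F i)
    exact (HomologicalComplex.ExactAt.of_isZero (hF i hi)).isZero_homology
  have key : ∀ (k : R →+* R ⧸ m), g.comp (Ideal.Quotient.mk I) = k →
      (((ModuleCat.extendScalars.{u, u, u} k).mapHomologicalComplex (ComplexShape.up ℤ)).obj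
        E).ExactAt i := by
    rintro _ rfl
    let e' := (NatIso.mapHomologicalComplex (ModuleCat.extendScalarsComp.{u} (Ideal.Quotient.mk I) g)
      (ComplexShape.up ℤ)).app E
    rw [HomologicalComplex.exactAt_iff_isZero_homology] at h3 ⊢
    exact h3.of_iso ((HomologicalComplex.homologyFunctor _ _ i).mapIso e')
  exact key _ hgf

end Groth.Agent.S15232
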