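import Groth.Statements.S15233
-- import your own Groth.Agent.* helpers here

set_option autoImplicit false
universe u
open CategoryTheory CategoryTheory.Limits Opposite
open CohSite

namespace Groth.Agent.S15233

section helpers

theorem key {C : Type u} [SmallCategory C] (J : GrothendieckTopology C)
    (B : ObjectProperty C)
    (hB : ∀ (V : C) (S : Sieve V), S ∈ J V →
      Sieve.generate (fun (U : C) => {g : U ⟶ V | S.arrows g ∧ B U}) ∈ J V)
    (F : Cᵒᵖ ⥤ AddCommGrpCat.{u}) (hF : ∀ U : C, B U → IsZero (F.obj (op U)))
    (G : Cᵒᵖ ⥤ AddCommGrpCat.{u}) (hG : Presheaf.IsSheaf J G) (φ ψ : F ⟶ G) : φ = ψ := by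
  ext V : 2
  induction V using Opposite.rec with | _ V
  have hT := hB V ⊤ (J.top_mem V)
  refine (hG (F.obj (op V)) _ hT).isSeparatedFor.ext fun Y f hf => ?_
  obtain ⟨U, h, g, ⟨-, hU⟩, rfl⟩ := hf
  have hz : F.map (h ≫ g).op = 0 := by
    rw [op_comp, F.map_comp]
    rw [(hF U hU).eq_zero_of_tgt (F.map g.op), zero_comp]
  change φ.app (op V) ≫ G.map (h ≫ g).op = ψ.app (op V) ≫ G.map (h ≫ g).op
  rw [← φ.naturality, ← ψ.naturality, hz, zero_comp, zero_comp]

end helpers

/-- Let C be a small category with a Grothendieck topology J, and let B be a class of objects forming a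
prebasis: for every object V and every covering sieve S of V, the arrows of S whose domain lies in B
generate a covering sieve of V. If F is a presheaf of abelian groups on C such that F(U) = 0 for
every object U in B, then the sheafification of F is zero. -/
theorem result {C : Type u} [SmallCategory C] (J : GrothendieckTopology C)
    (B : ObjectProperty C)
    (hB : ∀ (V : C) (S : Sieve V), S ∈ J V →
      Sieve.generate (fun (U : C) => {g : U ⟶ V | S.arrows g ∧ B U}) ∈ J V)
    (F : Cᵒᵖ ⥤ AddCommGrpCat.{u}) (hF : ∀ U : C, B U → IsZero (F.obj (op U))) :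
    IsZero ((presheafToSheaf J AddCommGrpCat.{u}).obj F) := by
  rw [IsZero.iff_id_eq_zero]
  apply ((sheafificationAdjunction J AddCommGrpCat.{u}).homEquiv F _).injective
  exact key J B hB F hF _ (ObjectProperty.FullSubcategory.property _) _ _

end Groth.Agent.S15233
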