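import Groth.Statements.S15235
-- import your own Groth.Agent.* helpers here

set_option autoImplicit false
universe u
open CategoryTheory Opposite
open HomAlg3

namespace Groth.Agent.S15235

section helpers

section gen
variable (F : ℕᵒᵖ ⥤ Type u)

/-- transition maps -/
def tr {a b : ℕ} (h : a ≤ b) : F.obj (op b) → F.obj (op a) := F.map (homOfLE h).op

theorem tr_refl (a : ℕ) (x : F.obj (op a)) : tr F (le_refl a) x = x := by
  simp [tr]

theorem tr_tr {a b c : ℕ} (h : a ≤ b) (h' : b ≤ c) (x : F.obj (op c)) :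
    tr F h (tr F h' x) = tr F (h.trans h') x := by
  have : (homOfLE (h.trans h')).op = (homOfLE h').op ≫ (homOfLE h).op := Subsingleton.elim _ _
  simp [tr, this]

theorem map_eq_tr {a b : ℕ} (g : op b ⟶ op a) : F.map g = tr F (leOfHom g.unop) := by
  have : g = (homOfLE (leOfHom g.unop)).op := Subsingleton.elim _ _
  conv_lhs => rw [this]
  rfl

variable (j₀ : ℕ)

theorem tr_surj (hs : ∀ j : ℕ, j₀ ≤ j → Function.Surjective (F.map (homOfLE (Nat.le_succ j)).op))
    {a b : ℕ} (ha : j₀ ≤ a) (h : a ≤ b) : Function.Surjective (tr F h) := by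
  induction b, h using Nat.le_induction with
  | base => intro x; exact ⟨x, tr_refl F a x⟩
  | succ b hab ih =>
    intro x
    obtain ⟨y, rfl⟩ := ih x
    obtain ⟨z, rfl⟩ := hs b (ha.trans hab) y
    exact ⟨z, (tr_tr F hab (Nat.le_succ b) z).symm⟩

theorem tr_inj (hs : ∀ j : ℕ, j₀ ≤ j → Function.Injective (F.map (homOfLE (Nat.le_succ j)).op))
    {a b : ℕ} (ha : j₀ ≤ a) (h : a ≤ b) : Function.Injective (tr F h) := by
  induction b, h using Nat.le_induction with
  | base => intro x y hxy; rwa [tr_refl, tr_refl] at hxy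
  | succ b hab ih =>
    intro x y hxy
    rw [← tr_tr F hab (Nat.le_succ b), ← tr_tr F hab (Nat.le_succ b)] at hxy
    exact hs b (ha.trans hab) (ih hxy)

theorem mittagLeffler
    (hs : ∀ j : ℕ, j₀ ≤ j → Function.Surjective (F.map (homOfLE (Nat.le_succ j)).op)) :
    F.IsMittagLeffler := by
  rintro ⟨n⟩
  refine ⟨op (max n j₀), (homOfLE (le_max_left n j₀)).op, ?_⟩
  rintro ⟨k⟩ g
  rw [map_eq_tr F g]
  have hnk : n ≤ k := leOfHom g.unop
  rintro _ ⟨x, rfl⟩
  change tr F (le_max_left n j₀) x ∈ _
  rcases le_total k (max n j₀) with hk | hk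
  · exact ⟨tr F hk x, tr_tr F hnk hk x⟩
  · obtain ⟨y, rfl⟩ := tr_surj F j₀ hs (le_max_right n j₀) hk x
    exact ⟨y, by rw [tr_tr]⟩

theorem eval_surj
    (hs : ∀ j : ℕ, j₀ ≤ j → Function.Surjective (F.map (homOfLE (Nat.le_succ j)).op)) :
    Function.Surjective (fun s : F.sections => s.1 (op j₀)) := by
  intro x
  choose sec hsec using fun j (hj : j₀ ≤ j) => hs j hj
  let p : ∀ n : ℕ, F.obj (op (j₀ + n)) := fun n =>
    Nat.rec (motive := fun n => F.obj (op (j₀ + n))) x
      (fun n y => sec (j₀ + n) (Nat.le_add_right j₀ n) y) n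
  have hp : ∀ n, tr F (Nat.le_succ (j₀ + n)) (p (n + 1)) = p n := by
    intro n
    exact hsec (j₀ + n) (Nat.le_add_right j₀ n) (p n)
  have hp' : ∀ m m' (h : m ≤ m'), tr F (Nat.add_le_add_left h j₀) (p m') = p m := by
    intro m m' h
    induction m', h using Nat.le_induction with
    | base => exact tr_refl F _ _
    | succ b hab ih =>
      rw [← ih, ← hp b, tr_tr]
  refine ⟨⟨fun j => tr F (Nat.le_add_left j.unop j₀) (p j.unop), ?_⟩, ?_⟩
  · rintro ⟨m'⟩ ⟨m⟩ g
    rw [map_eq_tr F g]
    have hmm : m ≤ m' := leOfHom g.unop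
    change tr F hmm (tr F (Nat.le_add_left m' j₀) (p m')) = tr F (Nat.le_add_left m j₀) (p m)
    rw [tr_tr, ← hp' m m' hmm, tr_tr]
  · change tr F (Nat.le_add_left j₀ j₀) (p j₀) = x
    have := hp' 0 j₀ (Nat.zero_le _)
    exact this

theorem eval_inj
    (hs : ∀ j : ℕ, j₀ ≤ j → Function.Injective (F.map (homOfLE (Nat.le_succ j)).op)) :
    Function.Injective (fun s : F.sections => s.1 (op j₀)) := by
  intro s s' h
  change s.1 (op j₀) = s'.1 (op j₀) at h
  apply Subtype.ext
  funext ⟨m⟩
  rcases le_total m j₀ with hm | hm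
  · have h1 := s.2 (homOfLE hm).op
    have h2 := s'.2 (homOfLE hm).op
    rw [← h1, ← h2, h]
  · have h1 : tr F hm (s.1 (op m)) = s.1 (op j₀) := s.2 (homOfLE hm).op
    have h2 : tr F hm (s'.1 (op m)) = s'.1 (op j₀) := s'.2 (homOfLE hm).op
    exact tr_inj F j₀ hs le_rfl hm (by rw [h1, h2, h])

end gen

end helpers

/-- Let (G_j) be an inverse system of abelian groups indexed by the natural numbers, with transition
maps G_{j+1} → G_j, and let j₀ be a natural number such that the transition map G_{j+1} → G_j is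
surjective for every j ≥ j₀. Then: (a) the system satisfies the Mittag-Leffler condition; (b) the
evaluation map from the inverse limit (realised as the set of compatible families) to G_{j₀} is
surjective; (c) if in addition the transition maps G_{j+1} → G_j are injective for every j ≥ j₀,
that evaluation map is bijective. (The published statement indexes the system by the negative
integers and assumes j₀ ≥ 1; this row indexes it by the natural numbers and allows j₀ = 0, which
changes nothing.) -/
theorem result (G : ℕᵒᵖ ⥤ AddCommGrpCat.{u})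
    (j₀ : ℕ) (hs : ∀ j : ℕ, j₀ ≤ j → Function.Surjective (G.map (homOfLE (Nat.le_succ j)).op).hom) :
    (G ⋙ forget AddCommGrpCat.{u}).IsMittagLeffler ∧
      Function.Surjective (fun s : (G ⋙ forget AddCommGrpCat.{u}).sections => s.1 (op j₀)) ∧
      ((∀ j : ℕ, j₀ ≤ j → Function.Injective (G.map (homOfLE (Nat.le_succ j)).op).hom) →
        Function.Bijective (fun s : (G ⋙ forget AddCommGrpCat.{u}).sections => s.1 (op j₀))) := by
  have hs' : ∀ j : ℕ, j₀ ≤ j → Function.Surjective
      ((G ⋙ forget AddCommGrpCat.{u}).map (homOfLE (Nat.le_succ j)).op) := fun j hj => hs j hj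
  refine ⟨mittagLeffler _ j₀ hs', eval_surj _ j₀ hs', fun hi => ⟨?_, eval_surj _ j₀ hs'⟩⟩
  exact eval_inj _ j₀ (fun j hj => hi j hj)

end Groth.Agent.S15235
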