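import Groth.Statements.S15237
import Mathlib.RingTheory.Algebraic.LinearIndependent
import Mathlib.LinearAlgebra.FreeAlgebra
import Mathlib.RingTheory.FiniteType
import Mathlib.RingTheory.Localization.Basic
import Mathlib.RingTheory.Spectrum.Prime.Topology
import Mathlib.AlgebraicGeometry.Morphisms.FiniteType
import Mathlib.Topology.JacobsonSpace

set_option autoImplicit false
open CategoryTheory AlgebraicGeometry
universe u
open Variety

namespace Groth.Agent.S15237

section helpers

open Cardinal CategoryTheory AlgebraicGeometry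

/-- A field extension of countable dimension over an uncountable field is algebraic. -/
theorem isAlgebraic_of_rank_le_aleph0 (k : Type u) [Field k] [Uncountable k]
    (K : Type u) [Field K] [Algebra k K] (h : Module.rank k K ≤ ℵ₀) : Algebra.IsAlgebraic k K := by
  refine ⟨fun x => ?_⟩
  by_contra hx
  have hx' : Transcendental k x := hx
  have h1 := hx'.linearIndependent_sub_inv.cardinal_le_rank
  have h2 : #k ≤ ℵ₀ := h1.trans h
  rw [Cardinal.mk_le_aleph0_iff] at h2
  exact not_countable h2

theorem exists_maximal_avoiding (k : Type u) [Field k] [Uncountable k]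
    (A : Type u) [CommRing A] [Algebra k A] [Algebra.FiniteType k A]
    (hirr : (nilradical A).IsPrime) (f : ℕ → A) (hf : ∀ n, f n ∉ nilradical A) :
    ∃ m : Ideal A, m.IsMaximal ∧ ∀ n, f n ∉ m := by
  classical
  let S : Submonoid A := Submonoid.closure (Set.range f)
  have hS : S ≤ (nilradical A).primeCompl := by
    rw [Submonoid.closure_le]
    rintro _ ⟨n, rfl⟩
    exact hf n
  let A' := Localization S
  have hnontriv : Nontrivial A' := by
    rw [← not_subsingleton_iff_nontrivial, IsLocalization.subsingleton_iff (M := S)]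
    intro h0
    exact hS h0 (Ideal.zero_mem _)
  obtain ⟨m', hm'⟩ := Ideal.exists_maximal A'
  let K := A' ⧸ m'
  let _ : Field K := Ideal.Quotient.field m'
  -- countable generation
  obtain ⟨s, hs⟩ := (Algebra.FiniteType.out : (⊤ : Subalgebra k A).FG)
  let T : Set A' := (algebraMap A A') '' (s : Set A) ∪
    Set.range (fun n => IsLocalization.mk' A' (1 : A) (⟨f n, Submonoid.subset_closure ⟨n, rfl⟩⟩ : S))
  have hTc : T.Countable :=
    (s.countable_toSet.image _).union (Set.countable_range _)
  have hTtop : Algebra.adjoin k T = ⊤ := by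
    have h1 : ∀ a : A, algebraMap A A' a ∈ Algebra.adjoin k T := by
      intro a
      have hle : Algebra.adjoin k (s : Set A) ≤
          (Algebra.adjoin k T).comap (IsScalarTower.toAlgHom k A A') := by
        rw [Algebra.adjoin_le_iff]
        intro x hx
        exact Algebra.subset_adjoin (Or.inl ⟨x, hx, rfl⟩)
      rw [hs] at hle
      exact hle (Algebra.mem_top (x := a))
    have h2 : ∀ (t : A) (ht : t ∈ S), IsLocalization.mk' A' (1 : A) (⟨t, ht⟩ : S) ∈
        Algebra.adjoin k T := by
      intro t ht
      induction ht using Submonoid.closure_induction with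
      | mem x hx =>
        obtain ⟨n, rfl⟩ := hx
        exact Algebra.subset_adjoin (Or.inr ⟨n, rfl⟩)
      | one =>
        have : IsLocalization.mk' A' (1 : A) (⟨1, S.one_mem⟩ : S) = 1 :=
          IsLocalization.mk'_one A' (1 : A) |>.trans (map_one _)
        rw [this]; exact Subalgebra.one_mem _
      | mul x y hx hy ihx ihy =>
        have : IsLocalization.mk' A' (1 : A) (⟨x * y, S.mul_mem hx hy⟩ : S) =
            IsLocalization.mk' A' (1 : A) (⟨x, hx⟩ : S) *
              IsLocalization.mk' A' (1 : A) (⟨y, hy⟩ : S) := by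
          rw [← IsLocalization.mk'_mul, one_mul]; rfl
        rw [this]; exact Subalgebra.mul_mem _ ihx ihy
    rw [eq_top_iff]
    intro x _
    obtain ⟨a, t, rfl⟩ := IsLocalization.exists_mk'_eq S x
    rw [IsLocalization.mk'_eq_mul_mk'_one]
    exact Subalgebra.mul_mem _ (h1 a) (h2 t.1 t.2)
  have hrank : Module.rank k A' ≤ ℵ₀ := by
    have h1 := Algebra.rank_adjoin_le (R := k) T
    rw [hTtop] at h1
    have h2 : Module.rank k (⊤ : Subalgebra k A') = Module.rank k A' :=
      (Subalgebra.topEquiv (R := k) (A := A')).toLinearEquiv.rank_eq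
    rw [h2] at h1
    exact h1.trans (max_le hTc.le_aleph0 le_rfl)
  have hrankK : Module.rank k K ≤ ℵ₀ :=
    (LinearMap.rank_le_of_surjective (Ideal.Quotient.mkₐ k m').toLinearMap
      (Ideal.Quotient.mkₐ_surjective k m')).trans hrank
  have halg : Algebra.IsAlgebraic k K := isAlgebraic_of_rank_le_aleph0 k K hrankK
  let m : Ideal A := m'.comap (algebraMap A A')
  have hmprime : m.IsPrime := Ideal.comap_isPrime _ _
  let φ : A ⧸ m →ₐ[k] K := Ideal.quotientMapₐ m' (IsScalarTower.toAlgHom k A A') le_rfl
  have hφ : Function.Injective φ := Ideal.quotientMap_injective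
  have halg' : Algebra.IsAlgebraic k (A ⧸ m) := Algebra.IsAlgebraic.of_injective φ hφ
  have hint : Algebra.IsIntegral k (A ⧸ m) := Algebra.IsAlgebraic.isIntegral
  have hfield : IsField (A ⧸ m) := isField_of_isIntegral_of_isField' (Field.toIsField k)
  refine ⟨m, Ideal.Quotient.maximal_of_isField m hfield, fun n hn => ?_⟩
  have hunit : IsUnit (algebraMap A A' (f n)) :=
    IsLocalization.map_units A' (⟨f n, Submonoid.subset_closure ⟨n, rfl⟩⟩ : S)
  exact hm'.ne_top (Ideal.eq_top_of_isUnit_mem _ hn hunit)


theorem result_aux (k : Type u) [Field k] [Uncountable k]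
    (X : Scheme.{u}) (sX : X ⟶ Spec (CommRingCat.of k)) [IrreducibleSpace X]
    [LocallyOfFiniteType sX] [QuasiCompact sX]
    (Z : ℕ → TopologicalSpace.Closeds X) (hZ : ∀ n, (Z n : Set X) ≠ Set.univ) :
    ∃ x : X, IsClosed ({x} : Set X) ∧ ∀ n, x ∉ Z n := by
  have : JacobsonSpace X := LocallyOfFiniteType.jacobsonSpace sX
  obtain ⟨x0⟩ : Nonempty X := inferInstance
  obtain ⟨_, ⟨U, hU, rfl⟩, hx0, -⟩ :=
    X.isBasis_affineOpens.exists_subset_of_mem_open (Set.mem_univ x0) isOpen_univ
  let j : Spec Γ(X, U) ⟶ X := hU.fromSpec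
  have hj : Topology.IsOpenEmbedding j := j.isOpenEmbedding
  have hrange : Set.range j = (U : Set X) := hU.range_fromSpec
  have hne : Nonempty (Spec Γ(X, U)) := by
    have : x0 ∈ Set.range j := by rw [hrange]; exact hx0
    obtain ⟨y, -⟩ := this
    exact ⟨y⟩
  have hirr : IrreducibleSpace (Spec Γ(X, U)) := hj.irreducibleSpace
  let g : Spec Γ(X, U) ⟶ Spec (CommRingCat.of k) := j ≫ sX
  have hg : LocallyOfFiniteType g := inferInstance
  let φ : CommRingCat.of k ⟶ Γ(X, U) := Spec.preimage g
  have hφ : φ.hom.FiniteType := by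
    have : LocallyOfFiniteType (Spec.map φ) := by rw [Spec.map_preimage]; exact hg
    exact (HasRingHomProperty.Spec_iff (P := @LocallyOfFiniteType)).mp this
  let _ : Algebra k Γ(X, U) := φ.hom.toAlgebra
  have hft : Algebra.FiniteType k Γ(X, U) := hφ
  have hnil : (nilradical Γ(X, U)).IsPrime :=
    PrimeSpectrum.irreducibleSpace_iff_isPrime_nilradical.mp hirr
  have hZ' : ∀ n, ∃ f : Γ(X, U), f ∉ nilradical Γ(X, U) ∧
      ∀ y : PrimeSpectrum Γ(X, U), j y ∈ Z n → f ∈ y.asIdeal := by
    intro n
    let Z' : Set (PrimeSpectrum Γ(X, U)) := j ⁻¹' (Z n : Set X)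
    have hZ'c : IsClosed Z' := (Z n).isClosed.preimage j.continuous
    have hZ'ne : Z' ≠ Set.univ := by
      intro h
      apply hZ n
      have hUZ : (U : Set X) ⊆ Z n := by
        rw [← hrange]
        rintro _ ⟨y, rfl⟩
        exact (h ▸ Set.mem_univ y : y ∈ Z')
      have hdense : Dense (U : Set X) := U.isOpen.dense ⟨x0, hx0⟩
      exact Set.eq_univ_of_univ_subset
        (hdense.closure_eq ▸ (Z n).isClosed.closure_subset_iff.mpr hUZ)
    by_contra hcon
    apply hZ'ne
    have hle : PrimeSpectrum.vanishingIdeal Z' ≤ nilradical Γ(X, U) := by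
      intro f hf
      by_contra hfn
      apply hcon
      refine ⟨f, hfn, fun y hy => ?_⟩
      exact (PrimeSpectrum.mem_vanishingIdeal _ _).mp hf y hy
    rw [← hZ'c.closure_eq, ← PrimeSpectrum.zeroLocus_vanishingIdeal_eq_closure,
      Set.eq_univ_iff_forall]
    intro y
    rw [PrimeSpectrum.mem_zeroLocus]
    intro f hf
    exact nilradical_le_prime y.asIdeal (hle hf)
  choose f hfnil hfZ using hZ'
  obtain ⟨m, hm, hfm⟩ := exists_maximal_avoiding k Γ(X, U) hnil f hfnil
  let y : PrimeSpectrum Γ(X, U) := ⟨m, hm.isPrime⟩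
  have hyc : IsClosed ({y} : Set (PrimeSpectrum Γ(X, U))) :=
    (PrimeSpectrum.isClosed_singleton_iff_isMaximal y).mpr hm
  refine ⟨j y, ?_, fun n hn => hfm n (hfZ n y hn)⟩
  have h1 : y ∈ closedPoints (Spec Γ(X, U)) := hyc
  rw [← hj.preimage_closedPoints] at h1
  exact h1

end helpers

/-- Let k be an uncountable field and X an irreducible k-scheme of finite type. Then the closed points
of X are not covered by countably many closed subsets of X different from X: for every sequence Z₀,
Z₁, … of closed subsets of X with Zₙ ≠ X for all n there is a closed point of X lying in no Zₙ. (The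
published statement is for an irreducible quasi-projective variety and says that the variety is not
a countable union of closed subsets different from it, a variety being read through its closed
points; with the generic point of the scheme that assertion would be immediate, so this row asks for
a closed point, and it assumes only finite type over k.) -/
theorem result (k : Type u) [Field k] [Uncountable k]
    (X : Scheme.{u}) (sX : X ⟶ Spec (CommRingCat.of k)) [IrreducibleSpace X]
    [LocallyOfFiniteType sX] [QuasiCompact sX]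
    (Z : ℕ → TopologicalSpace.Closeds X) (hZ : ∀ n, (Z n : Set X) ≠ Set.univ) :
    ∃ x : X, IsClosed ({x} : Set X) ∧ ∀ n, x ∉ Z n := by
  exact result_aux k X sX Z hZ

end Groth.Agent.S15237
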