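import Groth.Statements.S15245
import Mathlib

set_option autoImplicit false
universe u
open CategoryTheory AlgebraicGeometry
open RedSub

namespace Groth.Agent.S15245



section Helpers
open RootPairing
variable {idx M N : Type} [AddCommGroup M] [AddCommGroup N] [Finite idx]
  (P : RootPairing idx ℤ M N) [P.IsReduced] (b : P.Base)

theorem mem_closure_iff (x : M) :
    x ∈ AddSubmonoid.closure (P.root '' (b.support : Set idx)) ↔
      ∃ f : idx → ℕ, x = ∑ j ∈ b.support, f j • P.root j := by
  classical
  constructor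
  · intro hx
    refine AddSubmonoid.closure_induction ?_ ⟨0, by simp⟩ ?_ hx
    · rintro - ⟨j, hj, rfl⟩
      refine ⟨Pi.single j 1, ?_⟩
      rw [Finset.sum_eq_single j]
      · simp
      · intro k _ hk
        simp [Pi.single_eq_of_ne hk]
      · intro hj'
        exact absurd hj hj'
    · rintro _ _ _ _ ⟨f, rfl⟩ ⟨g, rfl⟩
      exact ⟨f + g, by simp [add_smul, Finset.sum_add_distrib]⟩
  · rintro ⟨f, rfl⟩
    refine AddSubmonoid.sum_mem _ fun j hj => AddSubmonoid.nsmul_mem _ ?_ _
    exact AddSubmonoid.subset_closure (Set.mem_image_of_mem _ hj)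

theorem posRoots_iff (a : idx) : a ∈ RedSub.posRoots P b ↔ b.IsPos a := by
  show P.root a ∈ AddSubmonoid.closure (P.root '' (b.support : Set idx)) ↔ _
  rw [mem_closure_iff]
  constructor
  · rintro ⟨f, hf⟩
    rw [Base.isPos_iff']
    have h : P.root a = ∑ j ∈ b.support, ((f j : ℤ)) • P.root j := by
      rw [hf]; simp
    rw [Base.height_eq_sum h]
    exact Finset.sum_nonneg fun j _ => Int.natCast_nonneg _
  · intro hpos
    obtain ⟨f, _, hf | hf⟩ := b.exists_root_eq_sum_nat_or_neg a
    · exact ⟨f, hf⟩
    · exfalso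
      have h : P.root a = ∑ j ∈ b.support, (-(f j : ℤ)) • P.root j := by
        rw [hf]; simp
      have := Base.height_eq_sum h
      rw [Base.isPos_iff, this] at hpos
      have : 0 ≤ ∑ j ∈ b.support, (f j : ℤ) := Finset.sum_nonneg fun j _ => Int.natCast_nonneg _
      simp only [Finset.sum_neg_distrib] at hpos
      omega

theorem negRoots_iff (a : idx) : a ∈ RedSub.negRoots P b ↔ ¬ b.IsPos a := by
  show -P.root a ∈ AddSubmonoid.closure (P.root '' (b.support : Set idx)) ↔ _
  rw [mem_closure_iff]
  constructor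
  · rintro ⟨f, hf⟩ hpos
    have h : P.root a = ∑ j ∈ b.support, (-(f j : ℤ)) • P.root j := by
      rw [← neg_neg (P.root a), hf]; simp
    have := Base.height_eq_sum h
    rw [Base.isPos_iff, this] at hpos
    have : 0 ≤ ∑ j ∈ b.support, (f j : ℤ) := Finset.sum_nonneg fun j _ => Int.natCast_nonneg _
    simp only [Finset.sum_neg_distrib] at hpos
    omega
  · intro hneg
    obtain ⟨f, _, hf | hf⟩ := b.exists_root_eq_sum_nat_or_neg a
    · exfalso
      apply hneg
      rw [Base.isPos_iff']
      have h : P.root a = ∑ j ∈ b.support, ((f j : ℤ)) • P.root j := by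
        rw [hf]; simp
      rw [Base.height_eq_sum h]
      exact Finset.sum_nonneg fun j _ => Int.natCast_nonneg _
    · exact ⟨f, by rw [hf, neg_neg]⟩


/-- index of the negative root -/
def ng (a : idx) : idx := P.reflectionPerm a a

theorem root_ng (a : idx) : P.root (ng P a) = -P.root a := by
  rw [ng, P.root_reflectionPerm, P.reflection_apply_self]

theorem ng_ng (a : idx) : ng P (ng P a) = a := by
  apply P.root.injective
  rw [root_ng, root_ng, neg_neg]

theorem isPos_ng (a : idx) : b.IsPos (ng P a) ↔ ¬ b.IsPos a :=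
  Base.IsPos.neg_iff_not b a

/-- the permutation is induced by a linear map on roots -/
def Lin (w : Equiv.Perm idx) : Prop := ∃ g : M →ₗ[ℤ] M, ∀ a, P.root (w a) = g (P.root a)

theorem wordPerm_cons (i : idx) (l : List idx) :
    RedSub.wordPerm P (i :: l) = P.reflectionPerm i * RedSub.wordPerm P l := by
  simp [RedSub.wordPerm]

theorem wordPerm_append (l₁ l₂ : List idx) :
    RedSub.wordPerm P (l₁ ++ l₂) = RedSub.wordPerm P l₁ * RedSub.wordPerm P l₂ := by
  simp [RedSub.wordPerm]

theorem wordPerm_inv (l : List idx) : (RedSub.wordPerm P l)⁻¹ = RedSub.wordPerm P l.reverse := by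
  induction l with
  | nil => simp [RedSub.wordPerm]
  | cons i l ih =>
    rw [wordPerm_cons, mul_inv_rev, ih, List.reverse_cons, wordPerm_append, P.reflectionPerm_inv]
    simp [RedSub.wordPerm]

theorem lin_word (l : List idx) : Lin P (RedSub.wordPerm P l) := by
  induction l with
  | nil => exact ⟨LinearMap.id, fun a => by simp [RedSub.wordPerm]⟩
  | cons i l ih =>
    obtain ⟨g, hg⟩ := ih
    refine ⟨(P.reflection i).toLinearMap ∘ₗ g, fun a => ?_⟩
    rw [wordPerm_cons, Equiv.Perm.mul_apply, P.root_reflectionPerm, hg]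
    rfl

variable {P}

theorem Lin.map_ng {w : Equiv.Perm idx} (hw : Lin P w) (a : idx) : w (ng P a) = ng P (w a) := by
  obtain ⟨g, hg⟩ := hw
  apply P.root.injective
  rw [hg, root_ng, root_ng, map_neg, hg]

theorem Lin.map_add {w : Equiv.Perm idx} (hw : Lin P w) {i j k : idx}
    (h : P.root k = P.root i + P.root j) : P.root (w k) = P.root (w i) + P.root (w j) := by
  obtain ⟨g, hg⟩ := hw
  rw [hg k, hg i, hg j, h, _root_.map_add]

theorem Lin.isPos_of_support {w : Equiv.Perm idx} (hw : Lin P w)
    (h : ∀ j ∈ b.support, b.IsPos (w j)) : ∀ a, b.IsPos a → b.IsPos (w a) := by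
  intro a ha
  refine ha.induction_on_add (p := fun a => b.IsPos (w a)) h ?_
  intro i j k hk hi hj
  exact hi.add (h j hj) (hw.map_add hk)

variable (P)

theorem reflectionPerm_conj (i j : idx) :
    P.reflectionPerm (P.reflectionPerm j i) =
      P.reflectionPerm j * P.reflectionPerm i * P.reflectionPerm j := by
  apply Equiv.ext
  intro a
  apply P.root.injective
  rw [P.root_reflectionPerm, P.reflection_reflectionPerm]
  simp only [Equiv.Perm.mul_apply, P.root_reflectionPerm]
  rfl

theorem reflectionPerm_ng (i : idx) : P.reflectionPerm (ng P i) = P.reflectionPerm i := by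
  rw [ng, reflectionPerm_conj]
  have := P.reflectionPerm_sq i
  rw [pow_two] at this
  rw [this, one_mul]

theorem reflectionPerm_mul_self (i : idx) : P.reflectionPerm i * P.reflectionPerm i = 1 := by
  have := P.reflectionPerm_sq i
  rwa [pow_two] at this


/-- number of inversions -/
noncomputable def inv (w : Equiv.Perm idx) : ℕ := Set.ncard {a | b.IsPos a ∧ ¬ b.IsPos (w a)}

theorem lin_refl (j : idx) : Lin P (P.reflectionPerm j) := by
  have := lin_word P [j]
  rwa [wordPerm_cons, show RedSub.wordPerm P [] = 1 from by simp [RedSub.wordPerm], mul_one] at this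

theorem isPos_simple_iff {j : idx} (hj : j ∈ b.support) (i : idx) (h1 : i ≠ j) (h2 : i ≠ ng P j) :
    b.IsPos (P.reflectionPerm j i) ↔ b.IsPos i := by
  have hs : Lin P (P.reflectionPerm j) := lin_refl P j
  constructor
  · intro h
    by_contra hn
    have h' : b.IsPos (ng P i) := (isPos_ng P b i).mpr hn
    have hne : ng P i ≠ j := fun e => h2 (by rw [← e, ng_ng])
    have := h'.reflectionPerm hj hne
    rw [hs.map_ng, isPos_ng] at this
    exact this h
  · intro h
    exact h.reflectionPerm hj h1

theorem inv_cons_pos {j : idx} (hj : j ∈ b.support) (l : List idx)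
    (hpos : b.IsPos ((RedSub.wordPerm P l)⁻¹ j)) :
    inv P b (RedSub.wordPerm P (j :: l)) = inv P b (RedSub.wordPerm P l) + 1 := by
  obtain ⟨w, hw⟩ : ∃ w, w = RedSub.wordPerm P l := ⟨_, rfl⟩
  have hw' : Lin P w⁻¹ := by rw [hw, wordPerm_inv]; exact lin_word P _
  rw [wordPerm_cons, ← hw]
  rw [← hw] at hpos
  have hjpos : b.IsPos j := Base.isPos_of_mem_support hj
  have hne2 : ∀ a, b.IsPos a → w a ≠ ng P j := by
    intro a ha h
    have : a = ng P (w⁻¹ j) := by rw [← hw'.map_ng, ← h]; simp
    rw [this, isPos_ng] at ha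
    exact ha hpos
  have hset : {a | b.IsPos a ∧ ¬ b.IsPos ((P.reflectionPerm j * w) a)} =
      insert (w⁻¹ j) {a | b.IsPos a ∧ ¬ b.IsPos (w a)} := by
    ext a
    simp only [Set.mem_insert_iff, Equiv.Perm.mul_apply]
    constructor
    · rintro ⟨ha, hna⟩
      by_cases e : a = w⁻¹ j
      · exact Or.inl e
      · right
        refine ⟨ha, ?_⟩
        have h1 : w a ≠ j := fun h => e (by rw [← h]; simp)
        rwa [isPos_simple_iff P b hj _ h1 (hne2 a ha)] at hna
    · rintro (rfl | ⟨ha, hna⟩)
      · refine ⟨hpos, ?_⟩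
        have : w (w⁻¹ j) = j := by simp
        rw [this]
        show ¬ b.IsPos (ng P j)
        rw [isPos_ng]; exact fun h => h hjpos
      · refine ⟨ha, ?_⟩
        have h1 : w a ≠ j := fun h => hna (h ▸ hjpos)
        rwa [isPos_simple_iff P b hj _ h1 (hne2 a ha)]
  rw [inv, hset, Set.ncard_insert_of_notMem _ (Set.toFinite _)]
  · rfl
  · rintro ⟨_, hn⟩
    apply hn
    have : w (w⁻¹ j) = j := by simp
    rw [this]; exact hjpos

theorem wordPerm_cons_cons (c : idx) (l : List idx) :
    RedSub.wordPerm P (c :: c :: l) = RedSub.wordPerm P l := by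
  rw [wordPerm_cons, wordPerm_cons, ← mul_assoc, reflectionPerm_mul_self, one_mul]

theorem inv_cons_neg {j : idx} (hj : j ∈ b.support) (l : List idx)
    (hneg : ¬ b.IsPos ((RedSub.wordPerm P l)⁻¹ j)) :
    inv P b (RedSub.wordPerm P (j :: l)) + 1 = inv P b (RedSub.wordPerm P l) := by
  have hlin : Lin P (RedSub.wordPerm P l)⁻¹ := by rw [wordPerm_inv]; exact lin_word P _
  have hpos' : b.IsPos ((RedSub.wordPerm P (j :: l))⁻¹ j) := by
    rw [wordPerm_cons, mul_inv_rev, P.reflectionPerm_inv, Equiv.Perm.mul_apply]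
    show b.IsPos ((RedSub.wordPerm P l)⁻¹ (ng P j))
    rw [hlin.map_ng, isPos_ng]
    exact hneg
  have key := inv_cons_pos P b hj (j :: l) hpos'
  rw [wordPerm_cons_cons] at key
  exact key.symm

theorem parity_simple {j : idx} (hj : j ∈ b.support) (l : List idx) :
    (inv P b (RedSub.wordPerm P (j :: l)) + inv P b (RedSub.wordPerm P l)) % 2 = 1 := by
  by_cases h : b.IsPos ((RedSub.wordPerm P l)⁻¹ j)
  · rw [inv_cons_pos P b hj l h]; omega
  · have := inv_cons_neg P b hj l h; omega

theorem parity (c : idx) : ∀ l : List idx,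
    (inv P b (RedSub.wordPerm P (c :: l)) + inv P b (RedSub.wordPerm P l)) % 2 = 1 := by
  refine b.induction_reflect c
    (p := fun c => ∀ l : List idx,
      (inv P b (RedSub.wordPerm P (c :: l)) + inv P b (RedSub.wordPerm P l)) % 2 = 1) ?_ ?_ ?_
  · intro i hi l
    have : RedSub.wordPerm P (P.reflectionPerm i i :: l) = RedSub.wordPerm P (i :: l) := by
      rw [wordPerm_cons, wordPerm_cons]
      congr 1
      exact reflectionPerm_ng P i
    rw [this]; exact hi l
  · intro i hi l
    exact parity_simple P b hi l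
  · intro i j hi hj l
    have e : RedSub.wordPerm P (P.reflectionPerm j i :: l) = RedSub.wordPerm P (j :: i :: j :: l) := by
      simp only [wordPerm_cons]
      rw [reflectionPerm_conj]
      simp [mul_assoc]
    rw [e]
    have h1 := parity_simple P b hj (i :: j :: l)
    have h2 := hi (j :: l)
    have h3 := parity_simple P b hj l
    omega

theorem claimH : ∀ (k : ℕ) (l : List idx), inv P b (RedSub.wordPerm P l) = k → ∀ c, b.IsPos c →
    inv P b (RedSub.wordPerm P l) < inv P b (RedSub.wordPerm P (c :: l)) →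
    b.IsPos ((RedSub.wordPerm P l)⁻¹ c) := by
  intro k
  induction k using Nat.strong_induction_on with
  | _ k ih =>
    intro l hk c hc hlt
    by_cases hex : ∃ j ∈ b.support, ¬ b.IsPos ((RedSub.wordPerm P l)⁻¹ j)
    · obtain ⟨j, hj, hjneg⟩ := hex
      have h1 := inv_cons_neg P b hj l hjneg
      have hcj : c ≠ j := by
        rintro rfl
        omega
      have hc' : b.IsPos (P.reflectionPerm j c) := hc.reflectionPerm hj hcj
      have e : RedSub.wordPerm P (P.reflectionPerm j c :: j :: l) =
          RedSub.wordPerm P (j :: c :: l) := by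
        simp only [wordPerm_cons]
        rw [reflectionPerm_conj]
        simp only [mul_assoc]
        rw [← mul_assoc (P.reflectionPerm j) (P.reflectionPerm j), reflectionPerm_mul_self, one_mul]
      have h2 : inv P b (RedSub.wordPerm P (c :: l)) ≤ inv P b (RedSub.wordPerm P (j :: c :: l)) + 1 := by
        by_cases h : b.IsPos ((RedSub.wordPerm P (c :: l))⁻¹ j)
        · rw [inv_cons_pos P b hj (c :: l) h]; omega
        · have := inv_cons_neg P b hj (c :: l) h; omega
      have := ih (inv P b (RedSub.wordPerm P (j :: l))) (by omega) (j :: l) rfl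
        (P.reflectionPerm j c) hc' (by rw [e]; omega)
      have e2 : (RedSub.wordPerm P (j :: l))⁻¹ (P.reflectionPerm j c) = (RedSub.wordPerm P l)⁻¹ c := by
        rw [wordPerm_cons, mul_inv_rev, P.reflectionPerm_inv, Equiv.Perm.mul_apply,
          P.reflectionPerm_self]
      rwa [e2] at this
    · push Not at hex
      have hlin : Lin P (RedSub.wordPerm P l)⁻¹ := by rw [wordPerm_inv]; exact lin_word P _
      exact hlin.isPos_of_support b hex c hc

theorem main (l : List idx) (c : idx) (hc : b.IsPos c) :
    inv P b (RedSub.wordPerm P l) < inv P b (RedSub.wordPerm P (c :: l)) ↔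
      b.IsPos ((RedSub.wordPerm P l)⁻¹ c) := by
  constructor
  · exact claimH P b _ l rfl c hc
  · intro hpos
    by_contra hnot
    have hpar := parity P b c l
    have hlt : inv P b (RedSub.wordPerm P (c :: l)) < inv P b (RedSub.wordPerm P l) := by omega
    have := claimH P b _ (c :: l) rfl c hc (by rw [wordPerm_cons_cons]; exact hlt)
    have hlin : Lin P (RedSub.wordPerm P l)⁻¹ := by rw [wordPerm_inv]; exact lin_word P _
    rw [wordPerm_cons, mul_inv_rev, P.reflectionPerm_inv, Equiv.Perm.mul_apply] at this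
    have this' : b.IsPos ((RedSub.wordPerm P l)⁻¹ (ng P c)) := this
    rw [hlin.map_ng, isPos_ng] at this'
    exact this' hpos


end Helpers

/-- Let Φ be a finite reduced root system (a reduced root pairing over ℤ on a finite index set) with a
base b, w an element of its Weyl group, given as the product of the reflections along a word l and
acting on the roots, and γ a positive root. Writing ℓ(u) for the number of positive roots a with
u(a) negative, one has ℓ(w) < ℓ(σ_γ w) if and only if w⁻¹(γ) is positive. (Here the length is taken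
as the number of inverted positive roots.) -/
theorem result {idx M N : Type}
    [AddCommGroup M] [AddCommGroup N] [Finite idx]
    (P : RootPairing idx ℤ M N) [P.IsReduced] (b : P.Base) (l : List idx) (c : idx)
    (hc : c ∈ RedSub.posRoots P b) :
    Set.ncard {a : idx | a ∈ RedSub.posRoots P b ∧ RedSub.wordPerm P l a ∈ RedSub.negRoots P b} <
        Set.ncard {a : idx | a ∈ RedSub.posRoots P b ∧
          (P.reflectionPerm c * RedSub.wordPerm P l) a ∈ RedSub.negRoots P b} ↔
      (RedSub.wordPerm P l)⁻¹ c ∈ RedSub.posRoots P b := by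

  have h1 : {a : idx | a ∈ RedSub.posRoots P b ∧ RedSub.wordPerm P l a ∈ RedSub.negRoots P b} =
      {a | b.IsPos a ∧ ¬ b.IsPos (RedSub.wordPerm P l a)} := by
    ext a
    constructor
    · rintro ⟨h, h'⟩
      exact ⟨(posRoots_iff P b a).mp h, (negRoots_iff P b _).mp h'⟩
    · rintro ⟨h, h'⟩
      exact ⟨(posRoots_iff P b a).mpr h, (negRoots_iff P b _).mpr h'⟩
  have h2 : {a : idx | a ∈ RedSub.posRoots P b ∧
      (P.reflectionPerm c * RedSub.wordPerm P l) a ∈ RedSub.negRoots P b} =
      {a | b.IsPos a ∧ ¬ b.IsPos (RedSub.wordPerm P (c :: l) a)} := by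
    ext a
    rw [wordPerm_cons]
    constructor
    · rintro ⟨h, h'⟩
      exact ⟨(posRoots_iff P b a).mp h, (negRoots_iff P b _).mp h'⟩
    · rintro ⟨h, h'⟩
      exact ⟨(posRoots_iff P b a).mpr h, (negRoots_iff P b _).mpr h'⟩
  rw [h1, h2, posRoots_iff]
  exact main P b l c ((posRoots_iff P b c).mp hc)

end Groth.Agent.S15245
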