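import Groth.Statements.S15250
import Groth.Agent.Lib.Helper24.AlgStSmoothCoverEt

set_option autoImplicit false
open CategoryTheory AlgebraicGeometry
universe u
open AlgSt

namespace Groth.Agent.S15250

open Groth.Agent.Lib.Helper24 Groth.Agent.Lib.Helper24.FibCatFpGen
open Groth.Agent.Lib.Helper24.AlgStSchLocal Groth.Agent.Lib.Helper24.AlgStGC
open Groth.Agent.Lib.Helper24.AlgStProps Groth.Agent.Lib.Helper24.AlgStSmooth
open Groth.Agent.Lib.Helper24.AlgStFpAlg Groth.Agent.Lib.Helper24.AlgStCalc


/-- For algebraic stacks: let S be a scheme and f : 𝒳 → 𝒴 a 1-morphism of stacks in groupoids over the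
category of schemes over S. If 𝒴 is an algebraic stack and for every scheme U over S and every
1-morphism g : U → 𝒴 the 2-fibre product U ×_𝒴 𝒳 is an algebraic stack, then 𝒳 is an algebraic
stack. All stacks here are for the étale topology on schemes over S; an algebraic stack is a stack
in groupoids whose diagonal is representable by algebraic spaces and which has a smooth surjective
atlas from a scheme. (The published statement asks the fibre-product condition only for affine
schemes U and uses algebraic stacks whose diagonal is moreover separated and quasi-compact; this row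
asks the condition for every scheme U over S and uses algebraic stacks with no condition on the
diagonal beyond representability by algebraic spaces.) -/
theorem result {S : Scheme.{u}} {𝒳 𝒴 : AlgSt.Cat S}
    (h𝒳 : Stk.IsStack (QuotSh.J Scheme.etalePrecoverage S) 𝒳)
    (h𝒴 : AlgSt.IsAlgStack Scheme.etalePrecoverage 𝒴) (f : 𝒳 ⥤ᵇ 𝒴)
    (hf : ∀ (U : Over S) (g : FibCat.overCat U ⥤ᵇ 𝒴),
      AlgSt.IsAlgStack Scheme.etalePrecoverage (FibCat.fp g f)) :
    AlgSt.IsAlgStack Scheme.etalePrecoverage 𝒳 := by
  obtain ⟨V, v, hv, hv'⟩ := h𝒴.atlas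
  have hfp := hf V v
  obtain ⟨U, x, hx, hx'⟩ := hfp.atlas
  have hU : FibCat.IsFibGrpd (FibCat.overCat U).p := StkFpCrit.isFibGrpd_overForget U
  have hP : FibCat.IsFibGrpd (FibCat.fp v f).p := hfp.isStack.1
  refine AlgStSmoothCoverEt.isAlgStack_of_smooth_cover_of_le le_rfl hU h𝒳 (repByAlgSp_overCat U)
    (BasedFunctor.comp x (FibCat.fpSnd v f)) ?_ ?_
  · exact repByAlgSpWith_comp hU hP h𝒳.1 _ good_smooth.nice stableComp_smooth _ _ hx
      (repByAlgSpWith_fpSnd _ v f hv)
  · exact repByAlgSpWith_comp hU hP h𝒳.1 _ good_isSurjectiveMor.nice stableComp_isSurjectiveMor _ _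
      hx' (repByAlgSpWith_fpSnd _ v f hv')

end Groth.Agent.S15250
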