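import Groth.Statements.S15251
import Groth.Agent.Lib.Helper24.AlgStSmoothCoverEt
import Groth.Agent.Lib.Helper24.AlgStFpDM
import Groth.Agent.S15250

set_option autoImplicit false
open CategoryTheory AlgebraicGeometry
universe u
open AlgSt

namespace Groth.Agent.S15251

open Groth.Agent.Lib.Helper24 Groth.Agent.Lib.Helper24.FibCatFpGen
open Groth.Agent.Lib.Helper24.AlgStSchLocal Groth.Agent.Lib.Helper24.AlgStGC
open Groth.Agent.Lib.Helper24.AlgStProps Groth.Agent.Lib.Helper24.AlgStSmooth
open Groth.Agent.Lib.Helper24.AlgStFpAlg Groth.Agent.Lib.Helper24.AlgStCalc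
open Groth.Agent.Lib.Helper24.AlgStFpDM


/-- Let S be a scheme and f : 𝒳 → 𝒴 a 1-morphism of stacks in groupoids over the category of schemes
over S. If 𝒴 is a Deligne–Mumford stack and for every scheme U over S and every 1-morphism g : U → 𝒴
the 2-fibre product U ×_𝒴 𝒳 is a Deligne–Mumford stack, then 𝒳 is a Deligne–Mumford stack. All
stacks here are for the étale topology on schemes over S; an algebraic stack is a stack in groupoids
whose diagonal is representable by algebraic spaces and which has a smooth surjective atlas from a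
scheme, and a Deligne–Mumford stack is an algebraic stack with an étale surjective atlas from a
scheme. (The published statement asks the fibre-product condition only for affine schemes U and uses
Deligne–Mumford stacks whose diagonal is moreover separated and quasi-compact; this row asks the
condition for every scheme U over S and uses Deligne–Mumford stacks with no condition on the
diagonal beyond representability by algebraic spaces.) -/
theorem result {S : Scheme.{u}} {𝒳 𝒴 : AlgSt.Cat S}
    (h𝒳 : Stk.IsStack (QuotSh.J Scheme.etalePrecoverage S) 𝒳)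
    (h𝒴 : AlgSt.IsDM Scheme.etalePrecoverage 𝒴) (f : 𝒳 ⥤ᵇ 𝒴)
    (hf : ∀ (U : Over S) (g : FibCat.overCat U ⥤ᵇ 𝒴),
      AlgSt.IsDM Scheme.etalePrecoverage (FibCat.fp g f)) :
    AlgSt.IsDM Scheme.etalePrecoverage 𝒳 := by
  have halg : AlgSt.IsAlgStack Scheme.etalePrecoverage 𝒳 :=
    Groth.Agent.S15250.result h𝒳 h𝒴.1 f (fun U g => (hf U g).1)
  refine ⟨halg, ?_⟩
  obtain ⟨V, v, hv, hv'⟩ := h𝒴.2
  obtain ⟨hfp, U, x, hx, hx'⟩ := hf V v
  have hU : FibCat.IsFibGrpd (FibCat.overCat U).p := StkFpCrit.isFibGrpd_overForget U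
  have hP : FibCat.IsFibGrpd (FibCat.fp v f).p := hfp.isStack.1
  refine ⟨U, BasedFunctor.comp x (FibCat.fpSnd v f), ?_, ?_⟩
  · exact repByAlgSpWith_comp hU hP h𝒳.1 _ good_isEtaleMor.nice stableComp_isEtaleMor _ _ hx
      (repByAlgSpWith_fpSnd _ v f hv)
  · exact repByAlgSpWith_comp hU hP h𝒳.1 _ good_isSurjectiveMor.nice stableComp_isSurjectiveMor _ _
      hx' (repByAlgSpWith_fpSnd _ v f hv')

end Groth.Agent.S15251
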