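import Groth.Statements.S15261
import Mathlib
-- import your own Groth.Agent.* helpers here

set_option autoImplicit false
universe u
open CategoryTheory CategoryTheory.Limits AlgebraicGeometry TopologicalSpace
open W4c2seshadripos

namespace Groth.Agent.S15261

theorem essFiniteType_of_isPushout {R S R' S' : CommRingCat.{u}} {f : R ⟶ S} {g : R ⟶ R'}
    {g' : S ⟶ S'} {f' : R' ⟶ S'} (h : IsPushout f g g' f') (hf : f.hom.EssFiniteType) :
    f'.hom.EssFiniteType := by
  letI : Algebra R S := f.hom.toAlgebra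
  letI : Algebra R R' := g.hom.toAlgebra
  letI : Algebra R' S' := f'.hom.toAlgebra
  letI : Algebra S S' := g'.hom.toAlgebra
  letI : Algebra R S' := (f'.hom.comp g.hom).toAlgebra
  haveI : IsScalarTower R R' S' := IsScalarTower.of_algebraMap_eq (fun _ => rfl)
  haveI : IsScalarTower R S S' := IsScalarTower.of_algebraMap_eq (fun x => by
    have := congrArg (fun φ => φ.hom x) h.w
    exact this.symm)
  haveI : Algebra.EssFiniteType R S := hf
  have hpo : Algebra.IsPushout R R' S S' := by
    rw [← CommRingCat.isPushout_iff_isPushout]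
    exact h.flip
  show Algebra.EssFiniteType R' S'
  exact Algebra.EssFiniteType.of_surjective (R := R')
    (Algebra.IsPushout.equiv R R' S S').toAlgHom (Algebra.IsPushout.equiv R R' S S').surjective


/-- Say a morphism of schemes h : S → T is locally essentially of finite type when for every affine open
U = Spec A of T the preimage h⁻¹(U) is covered by affine opens V = Spec B of S with A → B
essentially of finite type (the every-affine-open form of the notion). If f : X → Y is locally
essentially of finite type and g : Y' → Y is any morphism of schemes, then the base change X ×_Y Y'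
→ Y' is locally essentially of finite type. (The quasi-compact variant, essentially of finite type,
follows since quasi-compactness is stable under base change.) -/
theorem result {X Y Y' : Scheme.{u}} (f : X ⟶ Y) (g : Y' ⟶ Y)
    (hf : ∀ U : Y.affineOpens, ∃ T : Set X.affineOpens, (⋃ V ∈ T, ((V : X.Opens) : Set ↥X)) = ((f ⁻¹ᵁ (U : Y.Opens)) : Set ↥X) ∧
        ∀ V ∈ T, ∃ e : (V : X.Opens) ≤ f ⁻¹ᵁ (U : Y.Opens), (f.appLE (U : Y.Opens) (V : X.Opens) e).hom.EssFiniteType)
    (U : Y'.affineOpens) :
    ∃ T : Set (pullback f g).affineOpens, (⋃ V ∈ T, ((V : (pullback f g).Opens) : Set ↥(pullback f g))) = (((pullback.snd f g) ⁻¹ᵁ (U : Y'.Opens)) : Set ↥(pullback f g)) ∧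
        ∀ V ∈ T, ∃ e : (V : (pullback f g).Opens) ≤ (pullback.snd f g) ⁻¹ᵁ (U : Y'.Opens), ((pullback.snd f g).appLE (U : Y'.Opens) (V : (pullback f g).Opens) e).hom.EssFiniteType := by
  refine ⟨{V | ∃ e : (V : (pullback f g).Opens) ≤ (pullback.snd f g) ⁻¹ᵁ (U : Y'.Opens),
    ((pullback.snd f g).appLE (U : Y'.Opens) (V : (pullback f g).Opens) e).hom.EssFiniteType},
    ?_, fun V hV => hV⟩
  apply Set.Subset.antisymm
  · intro x hx
    simp only [Set.mem_iUnion] at hx
    obtain ⟨V, ⟨e, -⟩, hxV⟩ := hx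
    exact e hxV
  · intro x' hx'
    have hc : IsPullback (pullback.fst f g) (pullback.snd f g) f g := IsPullback.of_hasPullback f g
    -- affine nbhd of the image in Y
    obtain ⟨VY, hVY, hyVY, -⟩ := Opens.isBasis_iff_nbhd.mp Y.isBasis_affineOpens
      (Opens.mem_top (g (pullback.snd f g x')))
    obtain ⟨TY, hTY, hTY'⟩ := hf ⟨VY, hVY⟩
    have hx : pullback.fst f g x' ∈ ((f ⁻¹ᵁ VY : X.Opens) : Set X) := by
      show f (pullback.fst f g x') ∈ VY
      rw [← Scheme.Hom.comp_apply, hc.w, Scheme.Hom.comp_apply]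
      exact hyVY
    rw [← hTY] at hx
    simp only [Set.mem_iUnion] at hx
    obtain ⟨W, hWT, hxW⟩ := hx
    obtain ⟨eW, hess⟩ := hTY' W hWT
    -- basic open of U inside g⁻¹ VY
    have hy'U : pullback.snd f g x' ∈ (U : Y'.Opens) := hx'
    obtain ⟨s, hs, hy's⟩ := U.2.exists_basicOpen_le (V := g ⁻¹ᵁ VY)
      ⟨pullback.snd f g x', hyVY⟩ hy'U
    have hD : IsAffineOpen (Y'.basicOpen s) := U.2.basicOpen s
    have hDU : Y'.basicOpen s ≤ (U : Y'.Opens) := Y'.basicOpen_le s
    set UY : (pullback f g).Opens :=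
      (pullback.fst f g) ⁻¹ᵁ (W : X.Opens) ⊓ (pullback.snd f g) ⁻¹ᵁ (Y'.basicOpen s) with hUYdef
    have hUY : IsAffineOpen UY := by
      haveI : IsAffine VY := hVY
      haveI : IsAffine (Y'.basicOpen s) := hD
      haveI : IsAffine (W : X.Opens) := W.2
      exact .of_isIso (Scheme.Hom.isPullback_resLE hc hs eW rfl).isoPullback.hom
    have hpo := (isIso_pushoutSection_iff hc hs eW rfl).mp
      (isIso_pushoutSection_of_isAffineOpen hc hs eW rfl hVY hD W.2)
    have h1 : ((pullback.snd f g).appLE (Y'.basicOpen s) UY inf_le_right).hom.EssFiniteType :=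
      essFiniteType_of_isPushout hpo hess
    have hle : UY ≤ (pullback.snd f g) ⁻¹ᵁ (U : Y'.Opens) := fun z hz => hDU hz.2
    simp only [Set.mem_iUnion]
    refine ⟨⟨UY, hUY⟩, ⟨hle, ?_⟩, ⟨hxW, hy's⟩⟩
    have h2 : (pullback.snd f g).appLE (U : Y'.Opens) UY hle =
        Y'.presheaf.map (homOfLE hDU).op ≫
          (pullback.snd f g).appLE (Y'.basicOpen s) UY inf_le_right := by
      rw [Scheme.Hom.map_appLE]
    rw [h2]
    haveI : IsLocalization.Away s Γ(Y', Y'.basicOpen s) := U.2.isLocalization_basicOpen s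
    have h3 : (Y'.presheaf.map (homOfLE hDU).op).hom.EssFiniteType := by
      letI : Algebra Γ(Y', (U : Y'.Opens)) Γ(Y', Y'.basicOpen s) :=
        (Y'.presheaf.map (homOfLE hDU).op).hom.toAlgebra
      show Algebra.EssFiniteType Γ(Y', (U : Y'.Opens)) Γ(Y', Y'.basicOpen s)
      exact Algebra.EssFiniteType.of_isLocalization _ (Submonoid.powers s)
    exact RingHom.EssFiniteType.comp h3 h1

end Groth.Agent.S15261
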