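import Groth.Statements.S15297
import Groth.Agent.Lib.Helper5.DeRhamGen

set_option autoImplicit false
universe u
open DeRham

namespace Groth.Agent.S15297

open Groth.Agent.Lib.Helper5.DeRhamGen exteriorPower

lemma comm_gen (R A : Type u) [CommRing R] [CommRing A] [Algebra R A]
    (d : ∀ p : ℕ, ↥(⋀[A]^p (Ω[A⁄R])) →ₗ[R] ↥(⋀[A]^(p + 1) (Ω[A⁄R])))
    (hd : DeRham.IsRule (KaehlerDifferential.D R A) d) (p : ℕ) (a b₀ : A) (b : Fin p → A) :
    Diff16.commutator R A _ _ (d p) a (DeRham.gen (KaehlerDifferential.D R A) p b₀ b) =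
      b₀ • ιMulti A (p + 1) (Fin.cons (KaehlerDifferential.D R A a)
        (fun i => KaehlerDifferential.D R A (b i))) := by
  change d p (a • DeRham.gen (KaehlerDifferential.D R A) p b₀ b) -
    a • d p (DeRham.gen (KaehlerDifferential.D R A) p b₀ b) = _
  rw [smul_gen, hd p, hd p, Derivation.leibniz]
  have h1 := (ιMulti A (p + 1) (M := Ω[A⁄R])).toMultilinearMap.cons_add
    (fun i => KaehlerDifferential.D R A (b i)) (a • KaehlerDifferential.D R A b₀)
    (b₀ • KaehlerDifferential.D R A a)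
  have h2 := (ιMulti A (p + 1) (M := Ω[A⁄R])).toMultilinearMap.cons_smul
    (fun i => KaehlerDifferential.D R A (b i)) a (KaehlerDifferential.D R A b₀)
  have h3 := (ιMulti A (p + 1) (M := Ω[A⁄R])).toMultilinearMap.cons_smul
    (fun i => KaehlerDifferential.D R A (b i)) b₀ (KaehlerDifferential.D R A a)
  simp only [AlternatingMap.coe_multilinearMap] at h1 h2 h3
  rw [h1, h2, h3]
  abel

open exteriorPower in
/-- Let R → A be a ring map and d a de Rham differential of the Kähler differentials of A over R. Then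
each d from p-forms to (p+1)-forms, an R-linear map between A-modules, is a differential operator of
order at most 1 relative to R → A: every commutator of d with multiplication by an element of A is
A-linear. -/
theorem result (R A : Type u) [CommRing R] [CommRing A] [Algebra R A]
    (d : ∀ p : ℕ, ↥(⋀[A]^p (Ω[A⁄R])) →ₗ[R] ↥(⋀[A]^(p + 1) (Ω[A⁄R])))
    (hd : DeRham.IsDiff (KaehlerDifferential.D R A) d) (p : ℕ) :
    Diff16.IsDiffOpLE R A ↥(⋀[A]^p (Ω[A⁄R])) ↥(⋀[A]^(p + 1) (Ω[A⁄R])) 1 (d p) := by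
  intro a a' m
  have hspan := KaehlerDifferential.span_range_derivation R A
  let f : ↥(⋀[A]^p (Ω[A⁄R])) →+ ↥(⋀[A]^(p + 1) (Ω[A⁄R])) :=
    (Diff16.commutator R A _ _ (d p) a).toAddMonoidHom.comp
      (DistribSMul.toAddMonoidHom _ a')
  let g : ↥(⋀[A]^p (Ω[A⁄R])) →+ ↥(⋀[A]^(p + 1) (Ω[A⁄R])) :=
    (DistribSMul.toAddMonoidHom _ a').comp
      (Diff16.commutator R A _ _ (d p) a).toAddMonoidHom
  have key : f = g := by
    refine ext_gen (KaehlerDifferential.D R A) hspan p _ _ (fun b₀ b => ?_)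
    change Diff16.commutator R A _ _ (d p) a (a' • DeRham.gen (KaehlerDifferential.D R A) p b₀ b) =
      a' • Diff16.commutator R A _ _ (d p) a (DeRham.gen (KaehlerDifferential.D R A) p b₀ b)
    rw [smul_gen, comm_gen R A d hd.1, comm_gen R A d hd.1, mul_smul]
  exact DFunLike.congr_fun key m

end Groth.Agent.S15297
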