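import Groth.Statements.S15298
import Mathlib

set_option autoImplicit false
universe u
open CAlg

namespace Groth.Agent.S15298



section psum
variable {k A : Type u} [Field k] [CommRing A] [Algebra k A] (x : A)
  (σ : (A ⧸ Ideal.span {x}) →ₐ[k] A)

/-- partial sums of the evaluation of a power series at `x`. -/
noncomputable def psum (n : ℕ) (f : PowerSeries (A ⧸ Ideal.span {x})) : A :=
  ∑ i ∈ Finset.range n, σ (PowerSeries.coeff i f) * x ^ i

theorem psum_eq_eval₂ (n : ℕ) (f : PowerSeries (A ⧸ Ideal.span {x})) :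
    psum x σ n f = (PowerSeries.trunc n f).eval₂ (σ : (A ⧸ Ideal.span {x}) →+* A) x := by
  rw [PowerSeries.eval₂_trunc_eq_sum_range]
  rfl

theorem psum_add (n : ℕ) (f g : PowerSeries (A ⧸ Ideal.span {x})) :
    psum x σ n (f + g) = psum x σ n f + psum x σ n g := by
  simp only [psum, map_add, add_mul, Finset.sum_add_distrib]

theorem pow_mem_pow_of_le {m i : ℕ} (h : m ≤ i) (a : A) :
    a * x ^ i ∈ Ideal.span {x} ^ m := by
  apply Ideal.mul_mem_left
  exact Ideal.pow_le_pow_right h (Ideal.pow_mem_pow (Ideal.mem_span_singleton_self x) i)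

theorem psum_sub_psum_mem {m n : ℕ} (h : m ≤ n) (f : PowerSeries (A ⧸ Ideal.span {x})) :
    psum x σ n f - psum x σ m f ∈ Ideal.span {x} ^ m := by
  rw [psum, psum, ← Finset.sum_range_add_sum_Ico _ h, add_sub_cancel_left]
  apply Ideal.sum_mem
  intro i hi
  exact pow_mem_pow_of_le x (Finset.mem_Ico.mp hi).1 _

theorem eval₂_sub_eval₂_trunc_mem (n : ℕ) (p : Polynomial (A ⧸ Ideal.span {x})) :
    p.eval₂ (σ : (A ⧸ Ideal.span {x}) →+* A) x -
      (PowerSeries.trunc n (p : PowerSeries (A ⧸ Ideal.span {x}))).eval₂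
        (σ : (A ⧸ Ideal.span {x}) →+* A) x ∈ Ideal.span {x} ^ n := by
  rw [PowerSeries.eval₂_trunc_eq_sum_range]
  have hN : p.natDegree < max n (p.natDegree + 1) := by
    apply lt_of_lt_of_le (Nat.lt_succ_self _) (le_max_right _ _)
  rw [Polynomial.eval₂_eq_sum_range' _ hN, ← Finset.sum_range_add_sum_Ico _ (le_max_left n _)]
  simp only [Polynomial.coeff_coe, add_sub_cancel_left]
  apply Ideal.sum_mem
  intro i hi
  exact pow_mem_pow_of_le x (Finset.mem_Ico.mp hi).1 _

theorem psum_mul_mem (n : ℕ) (f g : PowerSeries (A ⧸ Ideal.span {x})) :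
    psum x σ n f * psum x σ n g - psum x σ n (f * g) ∈ Ideal.span {x} ^ n := by
  rw [psum_eq_eval₂, psum_eq_eval₂, psum_eq_eval₂, ← Polynomial.eval₂_mul,
    ← PowerSeries.trunc_trunc_mul_trunc, ← Polynomial.coe_mul]
  exact eval₂_sub_eval₂_trunc_mem x σ n _

end psum
section complete
variable {k A : Type u} [Field k] [CommRing A] [Algebra k A] (x : A)
  [IsAdicComplete (Ideal.span {x}) A] (σ : (A ⧸ Ideal.span {x}) →ₐ[k] A)

theorem exists_limit (f : PowerSeries (A ⧸ Ideal.span {x})) :
    ∃ L : A, ∀ n, psum x σ n f - L ∈ Ideal.span {x} ^ n := by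
  have h0 : ∀ {m n : ℕ}, m ≤ n → psum x σ m f ≡ psum x σ n f
      [SMOD (Ideal.span {x} ^ m • ⊤ : Submodule A A)] := by
    intro m n hmn
    rw [SModEq.sub_mem, smul_eq_mul, Ideal.mul_top]
    have h1 := psum_sub_psum_mem x σ hmn f
    rw [← neg_sub]
    exact neg_mem h1
  obtain ⟨L, hL⟩ := IsPrecomplete.prec (I := Ideal.span {x}) (M := A) inferInstance
    (f := fun n => psum x σ n f) h0
  refine ⟨L, fun n => ?_⟩
  have h2 := hL n
  rw [SModEq.sub_mem, smul_eq_mul, Ideal.mul_top] at h2
  exact h2

/-- evaluation of a power series at `x`. -/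
noncomputable def ev (f : PowerSeries (A ⧸ Ideal.span {x})) : A :=
  Classical.choose (exists_limit x σ f)

theorem ev_spec (f : PowerSeries (A ⧸ Ideal.span {x})) (n : ℕ) :
    psum x σ n f - ev x σ f ∈ Ideal.span {x} ^ n :=
  Classical.choose_spec (exists_limit x σ f) n

theorem eq_of_forall_sub_mem (a b : A) (h : ∀ n, a - b ∈ Ideal.span {x} ^ n) : a = b := by
  rw [IsHausdorff.eq_iff_smodEq (I := Ideal.span {x})]
  intro n
  rw [SModEq.sub_mem, smul_eq_mul, Ideal.mul_top]
  exact h n

theorem ev_unique (f : PowerSeries (A ⧸ Ideal.span {x})) (a : A)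
    (h : ∀ n, psum x σ n f - a ∈ Ideal.span {x} ^ n) : ev x σ f = a := by
  apply eq_of_forall_sub_mem x
  intro n
  have h1 := ev_spec x σ f n
  have h2 := h n
  have h3 : ev x σ f - a = (psum x σ n f - a) - (psum x σ n f - ev x σ f) := by ring
  rw [h3]
  exact Ideal.sub_mem _ h2 h1

omit [IsAdicComplete (Ideal.span {x}) A] in
theorem psum_C (n : ℕ) (b : A ⧸ Ideal.span {x}) :
    psum x σ (n + 1) (PowerSeries.C b) = σ b := by
  rw [psum, Finset.sum_eq_single 0]
  · simp
  · intro i _ hi
    rw [PowerSeries.coeff_C, if_neg hi, map_zero, zero_mul]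
  · intro h
    exact absurd (Finset.mem_range.mpr (Nat.succ_pos n)) h

theorem ev_C (b : A ⧸ Ideal.span {x}) : ev x σ (PowerSeries.C b) = σ b := by
  apply ev_unique
  intro n
  cases n with
  | zero => simp
  | succ n => rw [psum_C, sub_self]; exact Ideal.zero_mem _

/-- the evaluation algebra hom. -/
noncomputable def evHom : PowerSeries (A ⧸ Ideal.span {x}) →ₐ[k] A where
  toFun := ev x σ
  map_one' := by
    have h1 : (1 : PowerSeries (A ⧸ Ideal.span {x})) = PowerSeries.C 1 := by simp
    rw [h1, ev_C, map_one]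
  map_mul' f g := by
    apply ev_unique
    intro n
    have h1 := psum_mul_mem x σ n f g
    have h2 := ev_spec x σ f n
    have h3 := ev_spec x σ g n
    have h4 : psum x σ n (f * g) - ev x σ f * ev x σ g =
        -(psum x σ n f * psum x σ n g - psum x σ n (f * g)) +
        (psum x σ n f * (psum x σ n g - ev x σ g) + (psum x σ n f - ev x σ f) * ev x σ g) := by
      ring
    rw [h4]
    exact Ideal.add_mem _ (neg_mem h1)
      (Ideal.add_mem _ (Ideal.mul_mem_left _ _ h3) (Ideal.mul_mem_right _ _ h2))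
  map_zero' := by
    have h1 : (0 : PowerSeries (A ⧸ Ideal.span {x})) = PowerSeries.C 0 := by simp
    rw [h1, ev_C, map_zero]
  map_add' f g := by
    apply ev_unique
    intro n
    have h2 := ev_spec x σ f n
    have h3 := ev_spec x σ g n
    rw [psum_add]
    have h4 : psum x σ n f + psum x σ n g - (ev x σ f + ev x σ g) =
        (psum x σ n f - ev x σ f) + (psum x σ n g - ev x σ g) := by ring
    rw [h4]
    exact Ideal.add_mem _ h2 h3
  commutes' c := by
    rw [PowerSeries.algebraMap_apply]
    change ev x σ (PowerSeries.C (algebraMap k (A ⧸ Ideal.span {x}) c)) = _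
    rw [ev_C, AlgHom.commutes]

end complete
section props
variable {k A : Type u} [Field k] [CommRing A] [Algebra k A] (x : A)
  [IsAdicComplete (Ideal.span {x}) A] (σ : (A ⧸ Ideal.span {x}) →ₐ[k] A)

theorem ev_X : ev x σ PowerSeries.X = x := by
  apply ev_unique
  intro n
  rcases n with _ | _ | n
  · simp
  · rw [pow_one, psum, Finset.sum_range_one, PowerSeries.coeff_zero_X, map_zero, zero_mul,
      zero_sub]
    exact neg_mem (Ideal.mem_span_singleton_self x)
  · have h1 : psum x σ (n + 1 + 1) PowerSeries.X = x := by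
      rw [psum, Finset.sum_eq_single 1]
      · simp
      · intro i _ hi
        rw [PowerSeries.coeff_X, if_neg hi, map_zero, zero_mul]
      · intro h
        exact absurd (Finset.mem_range.mpr (by omega)) h
    rw [h1, sub_self]
    exact Ideal.zero_mem _

theorem mk_ev (hσ : ∀ b, Ideal.Quotient.mk (Ideal.span {x}) (σ b) = b)
    (f : PowerSeries (A ⧸ Ideal.span {x})) :
    Ideal.Quotient.mk (Ideal.span {x}) (ev x σ f) = PowerSeries.constantCoeff f := by
  have h1 := ev_spec x σ f 1
  rw [pow_one, psum, Finset.sum_range_one, pow_zero, mul_one] at h1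
  rw [← Ideal.Quotient.eq] at h1
  rw [← h1, hσ, PowerSeries.coeff_zero_eq_constantCoeff_apply]

theorem ev_injective (hx : x ∈ nonZeroDivisors A)
    (hσ : ∀ b, Ideal.Quotient.mk (Ideal.span {x}) (σ b) = b) :
    Function.Injective (evHom x σ) := by
  rw [injective_iff_map_eq_zero]
  intro f hf
  by_contra hne
  have hex : ∃ i, PowerSeries.coeff i f ≠ 0 := by
    by_contra hcon
    push Not at hcon
    apply hne
    ext i
    rw [hcon i, map_zero]
  classical
  set n := Nat.find hex with hn
  have hn1 : PowerSeries.coeff n f ≠ 0 := Nat.find_spec hex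
  have hn2 : ∀ i < n, PowerSeries.coeff i f = 0 := by
    intro i hi
    by_contra hcon
    exact Nat.find_min hex hi hcon
  have h1 : psum x σ (n + 1) f = σ (PowerSeries.coeff n f) * x ^ n := by
    rw [psum, Finset.sum_range_succ, Finset.sum_eq_zero, zero_add]
    intro i hi
    rw [hn2 i (Finset.mem_range.mp hi), map_zero, zero_mul]
  have h2 := ev_spec x σ f (n + 1)
  have hf' : ev x σ f = 0 := hf
  rw [h1, hf', sub_zero, Ideal.span_singleton_pow, Ideal.mem_span_singleton'] at h2
  obtain ⟨a, ha⟩ := h2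
  have h3 : (σ (PowerSeries.coeff n f) - a * x) * x ^ n = 0 := by
    rw [sub_mul, ← ha]
    ring
  have h4 : σ (PowerSeries.coeff n f) - a * x = 0 :=
    (pow_mem hx n).2 _ h3
  apply hn1
  rw [← hσ (PowerSeries.coeff n f), sub_eq_zero.mp h4, Ideal.Quotient.eq_zero_iff_mem]
  exact Ideal.mul_mem_left _ _ (Ideal.mem_span_singleton_self x)

theorem ev_surjective (hσ : ∀ b, Ideal.Quotient.mk (Ideal.span {x}) (σ b) = b) :
    Function.Surjective (evHom x σ) := by
  intro a
  have hstep : ∀ c : A, ∃ c' : A, c = σ (Ideal.Quotient.mk (Ideal.span {x}) c) + x * c' := by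
    intro c
    have h1 : c - σ (Ideal.Quotient.mk (Ideal.span {x}) c) ∈ Ideal.span {x} := by
      rw [← Ideal.Quotient.eq, hσ]
    rw [Ideal.mem_span_singleton'] at h1
    obtain ⟨c', hc'⟩ := h1
    exact ⟨c', by rw [mul_comm, hc']; ring⟩
  choose nxt hnxt using hstep
  let seq : ℕ → A := fun n => nxt^[n] a
  let f : PowerSeries (A ⧸ Ideal.span {x}) :=
    PowerSeries.mk (fun n => Ideal.Quotient.mk (Ideal.span {x}) (seq n))
  have hkey : ∀ n, a = psum x σ n f + x ^ n * seq n := by
    intro n
    induction n with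
    | zero => simp [psum, seq]
    | succ n ih =>
      have h1 : seq (n + 1) = nxt (seq n) := Function.iterate_succ_apply' nxt n a
      rw [psum, Finset.sum_range_succ, PowerSeries.coeff_mk, h1]
      have h2 := hnxt (seq n)
      calc a = psum x σ n f + x ^ n * seq n := ih
        _ = psum x σ n f + x ^ n * (σ (Ideal.Quotient.mk (Ideal.span {x}) (seq n)) +
              x * nxt (seq n)) := by rw [← h2]
        _ = _ := by
          rw [psum]
          ring
  refine ⟨f, ?_⟩
  change ev x σ f = a
  apply ev_unique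
  intro n
  have h1 := hkey n
  have h2 : psum x σ n f - a = -(x ^ n * seq n) := by
    rw [h1]
    ring
  rw [h2]
  apply neg_mem
  apply Ideal.mul_mem_right
  exact Ideal.pow_mem_pow (Ideal.mem_span_singleton_self x) n

end props

/-- Let k be a field, A a Noetherian k-algebra and x a non-zero-divisor of A such that A is separated
and complete for the (x)-adic topology, and assume that B = A/xA is formally smooth over k. Then A
is a power series ring over B in the variable x: there is a k-algebra isomorphism e : B[[T]] ≅ A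
with e(T) = x whose reduction modulo x is the constant-coefficient map, i.e. e(f) ≡ f(0) mod x for
every power series f. -/
theorem result (k A : Type u) [Field k]
    [CommRing A] [Algebra k A] [IsNoetherianRing A] (x : A) (hx : x ∈ nonZeroDivisors A)
    [IsAdicComplete (Ideal.span {x}) A] [Algebra.FormallySmooth k (A ⧸ Ideal.span {x})] :
    ∃ e : PowerSeries (A ⧸ Ideal.span {x}) ≃ₐ[k] A,
      e PowerSeries.X = x ∧
      ∀ f : PowerSeries (A ⧸ Ideal.span {x}),
        Ideal.Quotient.mk (Ideal.span {x}) (e f) = PowerSeries.constantCoeff f := by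

  classical
  obtain ⟨σ, hσ0⟩ := Algebra.FormallySmooth.exists_mkₐ_comp_eq_of_isAdicComplete
    (R := k) (A := A ⧸ Ideal.span {x}) (S := A) (I := Ideal.span {x})
    (AlgHom.id k (A ⧸ Ideal.span {x}))
  have hσ : ∀ b, Ideal.Quotient.mk (Ideal.span {x}) (σ b) = b := by
    intro b
    exact congrArg (fun g => g b) hσ0
  refine ⟨AlgEquiv.ofBijective (evHom x σ) ⟨ev_injective x σ hx hσ, ev_surjective x σ hσ⟩,
    ?_, ?_⟩
  · exact ev_X x σ
  · intro f
    exact mk_ev x σ hσ f

end Groth.Agent.S15298
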