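import Groth.Statements.S15315
-- import your own Groth.Agent.* helpers here
import Mathlib.Tactic.LinearCombination
import Mathlib.Tactic.Ring

set_option autoImplicit false
universe u
open ArLef

namespace Groth.Agent.S15315

/-- For a Noetherian commutative ring A, elements a, b with a a non-zero-divisor on A/(b), and an ideal
I, one has length(A/(aI + bA)) = length(A/(a, b)) + length(A/(I + bA)) as extended natural numbers;
in particular when two of the three quotients have finite length so does the third. -/
theorem result (A : Type u) [CommRing A] [IsNoetherianRing A] (a b : A) (I : Ideal A)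
    (ha : IsSMulRegular (A ⧸ Ideal.span ({b} : Set A)) a) :
    Module.length A (A ⧸ (Ideal.span {a} * I ⊔ Ideal.span {b})) =
      Module.length A (A ⧸ Ideal.span ({a, b} : Set A)) + Module.length A (A ⧸ (I ⊔ Ideal.span {b})) := by
  set J : Ideal A := Ideal.span {a} * I ⊔ Ideal.span {b} with hJ
  set K : Ideal A := I ⊔ Ideal.span {b} with hK
  set N : Ideal A := Ideal.span ({a, b} : Set A) with hN
  have hbJ : b ∈ J := Ideal.mem_sup_right (Ideal.mem_span_singleton_self b)
  have haIJ : ∀ y ∈ I, a * y ∈ J := fun y hy =>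
    Ideal.mem_sup_left (Ideal.mul_mem_mul (Ideal.mem_span_singleton_self a) hy)
  have hKle : K ≤ LinearMap.ker ((Submodule.mkQ J).comp (LinearMap.lsmul A A a)) := by
    rw [hK, sup_le_iff]
    constructor
    · intro y hy
      rw [LinearMap.mem_ker, LinearMap.comp_apply, LinearMap.lsmul_apply, Submodule.mkQ_apply,
        Submodule.Quotient.mk_eq_zero]
      exact haIJ y hy
    · rw [Ideal.span_le, Set.singleton_subset_iff]
      change b ∈ LinearMap.ker _
      rw [LinearMap.mem_ker, LinearMap.comp_apply, LinearMap.lsmul_apply, Submodule.mkQ_apply,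
        Submodule.Quotient.mk_eq_zero, smul_eq_mul]
      exact Ideal.mul_mem_left _ _ hbJ
  let f : (A ⧸ K) →ₗ[A] (A ⧸ J) :=
    Submodule.liftQ K ((Submodule.mkQ J).comp (LinearMap.lsmul A A a)) hKle
  have hJN : J ≤ N := by
    rw [hJ, sup_le_iff]
    constructor
    · calc Ideal.span {a} * I ≤ Ideal.span ({a} : Set A) := Ideal.mul_le_left
        _ ≤ N := Ideal.span_mono (Set.singleton_subset_iff.mpr (Set.mem_insert _ _))
    · exact Ideal.span_mono (s := ({b} : Set A))
        (Set.singleton_subset_iff.mpr (Set.mem_insert_of_mem _ rfl))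
  have hJle : J ≤ LinearMap.ker (Submodule.mkQ N) := by rw [Submodule.ker_mkQ]; exact hJN
  let g : (A ⧸ J) →ₗ[A] (A ⧸ N) := Submodule.liftQ J (Submodule.mkQ N) hJle
  have hf : Function.Injective f := by
    rw [← LinearMap.ker_eq_bot]
    apply Submodule.ker_liftQ_eq_bot
    intro x hx
    rw [LinearMap.mem_ker, LinearMap.comp_apply, LinearMap.lsmul_apply, Submodule.mkQ_apply,
      Submodule.Quotient.mk_eq_zero, smul_eq_mul, hJ, Submodule.mem_sup] at hx
    obtain ⟨y', hy', z', hz', hsum⟩ := hx
    obtain ⟨y, hy, rfl⟩ := Ideal.mem_span_singleton_mul.mp hy'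
    obtain ⟨z, rfl⟩ := Ideal.mem_span_singleton'.mp hz'
    have h1 : a • (Submodule.Quotient.mk (x - y) : A ⧸ Ideal.span ({b} : Set A)) = a • 0 := by
      rw [smul_zero, ← Submodule.Quotient.mk_smul, Submodule.Quotient.mk_eq_zero, smul_eq_mul,
        Ideal.mem_span_singleton']
      exact ⟨z, by linear_combination hsum⟩
    have h2 := ha h1
    rw [Submodule.Quotient.mk_eq_zero] at h2
    have : x = y + (x - y) := by ring
    rw [this, hK]
    exact Submodule.add_mem_sup hy h2
  have hg : Function.Surjective g := by
    intro y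
    obtain ⟨y, rfl⟩ := Submodule.Quotient.mk_surjective _ y
    exact ⟨Submodule.Quotient.mk y, rfl⟩
  have hex : Function.Exact f g := by
    intro y
    obtain ⟨x, rfl⟩ := Submodule.Quotient.mk_surjective _ y
    constructor
    · intro h
      have hxN : x ∈ N := by
        have : (Submodule.Quotient.mk x : A ⧸ N) = 0 := h
        rwa [Submodule.Quotient.mk_eq_zero] at this
      obtain ⟨u, v, rfl⟩ := Ideal.mem_span_pair.mp hxN
      refine ⟨Submodule.Quotient.mk u, ?_⟩
      change (Submodule.Quotient.mk (a • u) : A ⧸ J) = Submodule.Quotient.mk (u * a + v * b)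
      rw [Submodule.Quotient.eq, smul_eq_mul]
      have : a * u - (u * a + v * b) = -(v * b) := by ring
      rw [this]
      exact Submodule.neg_mem _ (Ideal.mul_mem_left _ _ hbJ)
    · rintro ⟨u, hu⟩
      obtain ⟨u, rfl⟩ := Submodule.Quotient.mk_surjective _ u
      rw [← hu]
      change (Submodule.Quotient.mk (a • u) : A ⧸ N) = 0
      rw [Submodule.Quotient.mk_eq_zero, smul_eq_mul]
      exact Ideal.mul_mem_right _ _ (Ideal.subset_span (by simp))
  rw [Module.length_eq_add_of_exact f g hf hg hex, add_comm]

end Groth.Agent.S15315
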