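import Groth.Statements.S15319
import Mathlib
import Groth.Agent.Lib.Helper26.NodeAlgLib

set_option autoImplicit false
universe u
open ArLef ArLef.NodeAlg

namespace Groth.Agent.S15319

open Groth.Agent.Lib.Helper26.NodeAlgLib

/-- Let B be a discrete valuation ring with uniformizer π, N = B[[t, e]]/(te - π) the complete local
ring of a semi-stable arithmetic surface over B at a singular point of the closed fibre, and σ a
ring automorphism of N sending π to π + γ π^j with γ a unit of B and j ≥ 1 (σ lies over an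
automorphism τ of B with v(τ(π) - π) = j). Then the fixed-point ideal of σ is not contained in (π^j)
= (t^j e^j): the two branches through the point cannot both occur with multiplicity j in the
divisorial part of the fixed locus. (The published setting has B complete with algebraically closed
residue field.) -/
theorem result (B : Type u) [CommRing B] [IsDomain B] [IsDiscreteValuationRing B] (π : B) (hπ : Irreducible π)
    (j : ℕ) (hj : 1 ≤ j) (γ : B) (hγ : IsUnit γ)
    (σ : ArLef.NodeAlg B π ≃+* ArLef.NodeAlg B π)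
    (hσ : σ (algebraMap B (ArLef.NodeAlg B π) π) = algebraMap B (ArLef.NodeAlg B π) (π + γ * π ^ j)) :
    ¬ ArLef.fixIdeal σ ≤ Ideal.span ({algebraMap B (ArLef.NodeAlg B π) (π ^ j)} : Set (ArLef.NodeAlg B π)) := by
  intro hI
  obtain ⟨k, rfl⟩ : ∃ k, j = k + 1 := ⟨j - 1, by omega⟩
  set P := algebraMap B (ArLef.NodeAlg B π) with hP
  have h1 : σ (NodeAlg.t π) - NodeAlg.t π ∈ Ideal.span ({P (π ^ (k + 1))} : Set (NodeAlg B π)) :=
    hI (Ideal.subset_span ⟨_, rfl⟩)
  have h2 : σ (NodeAlg.e π) - NodeAlg.e π ∈ Ideal.span ({P (π ^ (k + 1))} : Set (NodeAlg B π)) :=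
    hI (Ideal.subset_span ⟨_, rfl⟩)
  obtain ⟨a, ha⟩ := Ideal.mem_span_singleton'.1 h1
  obtain ⟨b, hb⟩ := Ideal.mem_span_singleton'.1 h2
  have e1 : σ (NodeAlg.t π) = NodeAlg.t π + a * P (π ^ (k + 1)) := by rw [ha]; ring
  have e2 : σ (NodeAlg.e π) = NodeAlg.e π + b * P (π ^ (k + 1)) := by rw [hb]; ring
  have hte : NodeAlg.t π * NodeAlg.e π = P π := t_mul_e π
  have h3 : σ (P π) = σ (NodeAlg.t π) * σ (NodeAlg.e π) := by rw [← map_mul, hte]
  rw [hσ, e1, e2, map_add, map_mul] at h3
  -- P(π^(k+1)) * (P γ - (a e + b t + a b P(π^(k+1)))) = 0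
  have h4 : P (π ^ (k + 1)) * (P γ - (a * NodeAlg.e π + b * NodeAlg.t π + a * b * P (π ^ (k + 1)))) = 0 := by
    linear_combination h3 + hte
  have h5 := pow_smul_eq_zero_imp π hπ.ne_zero (k + 1) _ h4
  have h6 := congrArg (resHom π) h5
  rw [map_zero, map_sub, map_add, map_add, map_mul, map_mul, map_mul, map_mul, resHom_t, resHom_e,
    resHom_algebraMap, resHom_algebraMap, mul_zero, mul_zero, zero_add, zero_add] at h6
  have h7 : Ideal.Quotient.mk (Ideal.span ({π} : Set B)) (π ^ (k + 1)) = 0 := by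
    rw [Ideal.Quotient.eq_zero_iff_mem, pow_succ]
    exact Ideal.mul_mem_left _ _ (Ideal.mem_span_singleton_self π)
  rw [h7, mul_zero, sub_zero, Ideal.Quotient.eq_zero_iff_mem, Ideal.mem_span_singleton] at h6
  exact hπ.not_isUnit (isUnit_of_dvd_unit h6 hγ)

end Groth.Agent.S15319
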