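import Groth.Statements.S15322
-- import your own Groth.Agent.* helpers here
import Mathlib.AlgebraicGeometry.Morphisms.IsIso

set_option autoImplicit false
universe u
open CategoryTheory AlgebraicGeometry
open ArLef

namespace Groth.Agent.S15322

/-- Let f : D → C be a morphism, τ an automorphism of C and σ an automorphism of D with σ f = f τ; call
σ a good lifting of τ when the fixed-point scheme of σ is the full preimage of that of τ, i.e. every
morphism z : Z → D with z f τ = z f has z σ = z. If f is etale, separated and surjective with D
connected and the fixed-point scheme of τ is non-empty (some point of C, with its residue field, is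
fixed by τ), then τ has at most one good lifting. (The published statement is for a finite etale
cover of smooth projective irreducible curves over a field and a non-trivial τ; the argument uses
only the hypotheses stated here.) -/
theorem result {C D : Scheme.{u}} (f : D ⟶ C) [Etale f] [IsSeparated f] [Surjective f]
    [ConnectedSpace D] (τ : C ≅ C) (σ σ' : D ≅ D)
    (hσ : σ.hom ≫ f = f ≫ τ.hom) (hσ' : σ'.hom ≫ f = f ≫ τ.hom)
    (good : ∀ (Z : Scheme.{u}) (z : Z ⟶ D), z ≫ f ≫ τ.hom = z ≫ f → z ≫ σ.hom = z)
    (good' : ∀ (Z : Scheme.{u}) (z : Z ⟶ D), z ≫ f ≫ τ.hom = z ≫ f → z ≫ σ'.hom = z)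
    (x : C) (hx : C.fromSpecResidueField x ≫ τ.hom = C.fromSpecResidueField x) :
    σ = σ' := by
  obtain ⟨d, rfl⟩ := f.surjective x
  have hcond : σ.hom ≫ f = σ'.hom ≫ f := hσ.trans hσ'.symm
  let L : D ⟶ Limits.pullback f f := Limits.pullback.lift σ.hom σ'.hom hcond
  let e : Limits.pullback (Limits.pullback.diagonal f) L ⟶ D :=
    Limits.pullback.snd (Limits.pullback.diagonal f) L
  have hopen : IsOpenImmersion e := inferInstance
  have hclosed : IsClosedImmersion e := inferInstance
  have heq : e ≫ σ.hom = e ≫ σ'.hom := by
    have h1 : Limits.pullback.fst (Limits.pullback.diagonal f) L ≫ Limits.pullback.diagonal f =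
        e ≫ L := Limits.pullback.condition
    have h2 := congrArg (fun t => t ≫ Limits.pullback.fst f f) h1
    have h3 := congrArg (fun t => t ≫ Limits.pullback.snd f f) h1
    simp only [Category.assoc, Limits.pullback.diagonal_fst, Limits.pullback.diagonal_snd,
      Category.comp_id, L, Limits.pullback.lift_fst, Limits.pullback.lift_snd] at h2 h3
    rw [← h2, ← h3]
  -- the point
  let z := D.fromSpecResidueField d
  have hz : z ≫ f ≫ τ.hom = z ≫ f := by
    simp only [z]
    rw [← Scheme.Hom.SpecMap_residueFieldMap_fromSpecResidueField_assoc, hx,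
      Scheme.Hom.SpecMap_residueFieldMap_fromSpecResidueField]
  have hz1 : z ≫ σ.hom = z := good _ z hz
  have hz2 : z ≫ σ'.hom = z := good' _ z hz
  have hzL : z ≫ Limits.pullback.diagonal f = z ≫ L := by
    apply Limits.pullback.hom_ext
    · simp only [Category.assoc, Limits.pullback.diagonal_fst, Category.comp_id, L,
        Limits.pullback.lift_fst, hz1]
    · simp only [Category.assoc, Limits.pullback.diagonal_snd, Category.comp_id, L,
        Limits.pullback.lift_snd, hz2]
  let w : Spec (D.residueField d) ⟶ Limits.pullback (Limits.pullback.diagonal f) L :=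
    Limits.pullback.lift z z hzL
  have hw : w ≫ e = z := Limits.pullback.lift_snd _ _ _
  have hclopen : IsClopen (Set.range e) :=
    ⟨e.isClosedEmbedding.isClosed_range, e.isOpenEmbedding.isOpen_range⟩
  have hne : (Set.range e).Nonempty := by
    let pt : Spec (D.residueField d) := Classical.arbitrary _
    exact ⟨e (w pt), ⟨w pt, rfl⟩⟩
  have huniv : Set.range e = Set.univ := hclopen.eq_univ hne
  have hsurj : Surjective e := ⟨Set.range_eq_univ.mp huniv⟩
  have hiso : IsIso e := (isIso_iff_isOpenImmersion_and_surjective e).mpr ⟨hopen, hsurj⟩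
  have : σ.hom = σ'.hom := (cancel_epi e).mp heq
  exact Iso.ext this

end Groth.Agent.S15322
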