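import Groth.Statements.S15326
import Mathlib

set_option autoImplicit false
universe u
open ArLef

namespace Groth.Agent.S15326

/-- Let A be a commutative ring, t an element generating a prime ideal (a local equation of an
irreducible component C of the closed fibre), v an element outside (t) with π = vt the uniformizer,
and σ a ring automorphism of A with σ(vt) = vt whose fixed-point ideal is contained in (t^i) for
some i ≥ 1 (C has multiplicity at least i in the fixed locus). Then σ(t) - t lies in t^(i+1) A_(t),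
the localization at the prime (t): σ - 1 vanishes on (t)/(t^(i+1)) at the generic point of C. -/
theorem result (A : Type u) [CommRing A] (t v : A)
    [ht : (Ideal.span ({t} : Set A)).IsPrime] (hv : v ∉ Ideal.span ({t} : Set A))
    (σ : A ≃+* A) (hσ : σ (v * t) = v * t) (i : ℕ) (hi : 1 ≤ i)
    (hI : ArLef.fixIdeal σ ≤ Ideal.span ({t ^ i} : Set A)) :
    algebraMap A (Localization.AtPrime (Ideal.span ({t} : Set A))) (σ t - t) ∈
      Ideal.span ({algebraMap A (Localization.AtPrime (Ideal.span ({t} : Set A))) (t ^ (i + 1))} :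
        Set (Localization.AtPrime (Ideal.span ({t} : Set A)))) := by
  obtain ⟨k, rfl⟩ : ∃ k, i = k + 1 := ⟨i - 1, by omega⟩
  have h1 : σ t - t ∈ Ideal.span ({t ^ (k + 1)} : Set A) :=
    hI (Ideal.subset_span ⟨t, rfl⟩)
  have h2 : σ v - v ∈ Ideal.span ({t ^ (k + 1)} : Set A) :=
    hI (Ideal.subset_span ⟨v, rfl⟩)
  obtain ⟨a, ha⟩ := Ideal.mem_span_singleton'.1 h1
  obtain ⟨b, hb⟩ := Ideal.mem_span_singleton'.1 h2
  have hσ' : σ v * σ t = v * t := by rw [← map_mul, hσ]
  have e1 : σ t = t + a * t ^ (k + 1) := by rw [ha]; ring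
  have e2 : σ v = v + b * t ^ (k + 1) := by rw [hb]; ring
  have key : v * (σ t - t) = t ^ (k + 1 + 1) * (-(b + a * b * t ^ k)) := by
    rw [e1, e2] at hσ'
    rw [e1]
    linear_combination hσ'
  let S := Localization.AtPrime (Ideal.span ({t} : Set A))
  have hu : IsUnit (algebraMap A S v) :=
    IsLocalization.map_units S (⟨v, hv⟩ : (Ideal.span ({t} : Set A)).primeCompl)
  obtain ⟨u, hu⟩ := hu
  rw [Ideal.mem_span_singleton']
  refine ⟨algebraMap A S (-(b + a * b * t ^ k)) * ↑u⁻¹, ?_⟩
  have key' := congrArg (algebraMap A S) key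
  rw [map_mul, map_mul, ← hu] at key'
  calc algebraMap A S (-(b + a * b * t ^ k)) * ↑u⁻¹ * algebraMap A S (t ^ (k + 1 + 1))
      = ↑u⁻¹ * (algebraMap A S (t ^ (k + 1 + 1)) * algebraMap A S (-(b + a * b * t ^ k))) := by ring
    _ = ↑u⁻¹ * (↑u * algebraMap A S (σ t - t)) := by rw [key']
    _ = algebraMap A S (σ t - t) := by rw [← mul_assoc, Units.inv_mul, one_mul]

end Groth.Agent.S15326
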