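import Groth.Statements.S15333
import Groth.Agent.Lib.Helper2.DegAdd.GenIso

set_option autoImplicit false
universe u
open CategoryTheory CategoryTheory.Limits AlgebraicGeometry
open VBCurve

namespace Groth.Agent.S15333

/-- Let X be a smooth proper integral curve (integral, smooth and proper of dimension one) over an
algebraically closed field k. Let E and F be finite locally free O_X-modules of ranks r ≥ 1 and s ≥
1 which are slope-semistable and slope-stable (deg G · r ≤ deg E · r' for every finite locally free
submodule G ⊂ E of rank r' ≥ 1, with strict inequality when r' < r, and likewise for F; degree = χ −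
rank·χ(O_X)) and which have the same slope, deg E · s = deg F · r. Then either there is no nonzero
homomorphism E → F or E ≅ F; precisely, every nonzero homomorphism E → F is an isomorphism. -/
theorem result (k : Type u) [Field k] [IsAlgClosed k] (X : Scheme.{u}) [X.Over (Spec (CommRingCat.of k))]
    [IsIntegral X] [IsProper (X ↘ Spec (CommRingCat.of k))] [Smooth (X ↘ Spec (CommRingCat.of k))]
    (hdim : topologicalKrullDim X = 1)
    (r s : ℕ) (hr : 0 < r) (hs : 0 < s) (E F : X.Modules)
    (hE : FlatMod.IsFinLocFreeOfRank r E) (hF : FlatMod.IsFinLocFreeOfRank s F)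
    (hEss : ModFun.IsSlopeSemistable k X E r) (hEst : ModFun.IsSlopeStable k X E r)
    (hFss : ModFun.IsSlopeSemistable k X F s) (hFst : ModFun.IsSlopeStable k X F s)
    (hμ : Curv2.deg k X E r * (s : ℤ) = Curv2.deg k X F s * (r : ℤ))
    (f : E ⟶ F) (hf : f ≠ 0) : IsIso f := by
  have hne : Nonempty X := inferInstance
  obtain ⟨a, b, ha, hb, hrab, hd⟩ :=
    Groth.Agent.Lib.Helper2.DegAdd.exists_ker_im_decomp k (le_of_eq hdim) r s hE hF f
  have hb0 : 0 < b := by
    by_contra hb0
    have hb' : b = 0 := by omega
    subst hb'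
    have hz := Groth.Agent.Lib.Helper2.DegAdd.isZero_of_rank_zero hb
    apply hf
    rw [← CategoryTheory.Abelian.image.fac f, hz.eq_of_src (CategoryTheory.Abelian.image.ι f) 0,
      CategoryTheory.Limits.comp_zero]
  have hIF := hFss (CategoryTheory.Abelian.image f) b (CategoryTheory.Abelian.image.ι f)
    inferInstance hb0 hb
  have hrab' : (r : ℤ) = (a : ℤ) + (b : ℤ) := by exact_mod_cast hrab
  have hr' : (0 : ℤ) < (r : ℤ) := by exact_mod_cast hr
  have hs' : (0 : ℤ) < (s : ℤ) := by exact_mod_cast hs
  have hb' : (0 : ℤ) < (b : ℤ) := by exact_mod_cast hb0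
  have ha0 : a = 0 := by
    by_contra ha0
    have ha1 : 0 < a := Nat.pos_of_ne_zero ha0
    have hK := hEst (CategoryTheory.Limits.kernel f) a (CategoryTheory.Limits.kernel.ι f)
      inferInstance ha1 (by omega) ha
    generalize Curv2.deg k X E r = dE at *
    generalize Curv2.deg k X F s = dF at *
    generalize Curv2.deg k X (CategoryTheory.Limits.kernel f) a = dK at *
    generalize Curv2.deg k X (CategoryTheory.Abelian.image f) b = dI at *
    have star : dE * (b : ℤ) < dI * (r : ℤ) := by
      rw [hd, hrab'] at hK ⊢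
      nlinarith
    have h1 := mul_lt_mul_of_pos_right star hs'
    have h2 := mul_le_mul_of_nonneg_right hIF hr'.le
    have h3 : dE * (s : ℤ) * (b : ℤ) = dF * (r : ℤ) * (b : ℤ) := by rw [hμ]
    nlinarith
  subst ha0
  have hKz := Groth.Agent.Lib.Helper2.DegAdd.isZero_of_rank_zero ha
  have hmono : CategoryTheory.Mono f :=
    CategoryTheory.Preadditive.mono_of_isZero_kernel f hKz
  have hK0 := Groth.Agent.Lib.Helper2.DegAdd.deg_eq_zero_of_isZero k hKz
  rw [hK0, zero_add] at hd
  have hrb : r = b := by omega
  have hle : b ≤ s := Groth.Agent.Lib.Helper2.DegAdd.rank_le_of_mono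
    (CategoryTheory.Abelian.image.ι f) b s hb hF (Classical.arbitrary X)
  have hbs : b = s := by
    by_contra hne'
    have hlt : b < s := lt_of_le_of_ne hle hne'
    have h3 := hFst (CategoryTheory.Abelian.image f) b (CategoryTheory.Abelian.image.ι f)
      inferInstance hb0 hlt hb
    rw [← hd, ← hrb, hμ] at h3
    exact lt_irrefl _ h3
  obtain rfl : r = s := by omega
  have hdeg : Curv2.deg k X E r = Curv2.deg k X F r :=
    Int.eq_of_mul_eq_mul_right (ne_of_gt hr') hμ
  exact Groth.Agent.Lib.Helper2.DegAdd.isIso_of_mono_of_deg_eq k (le_of_eq hdim) f r hE hF hdeg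

end Groth.Agent.S15333
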