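import Groth.Statements.S15335
import Groth.Agent.Lib.Helper2.DegAdd.KerIm

set_option autoImplicit false
universe u
open CategoryTheory CategoryTheory.Limits AlgebraicGeometry
open VBCurve

namespace Groth.Agent.S15335

/-- Let X be a smooth proper integral curve (integral, smooth and proper of dimension one) over an
algebraically closed field k, and E₁, E₂ finite locally free O_X-modules of ranks r₁ ≥ 1, r₂ ≥ 1.
The maximal slope of E₁ ⊕ E₂ is at most the larger of the maximal slopes of E₁ and E₂: if m₁, m₂ are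
rational numbers such that every finite locally free submodule of positive rank of E₁ (resp. E₂) has
slope deg/rank ≤ m₁ (resp. ≤ m₂), degree meaning χ − rank·χ(O_X), then every finite locally free
submodule F of the biproduct E₁ ⊞ E₂ of rank r' ≥ 1 has slope deg F / r' ≤ max(m₁, m₂). -/
theorem result (k : Type u) [Field k] [IsAlgClosed k] (X : Scheme.{u}) [X.Over (Spec (CommRingCat.of k))]
    [IsIntegral X] [IsProper (X ↘ Spec (CommRingCat.of k))] [Smooth (X ↘ Spec (CommRingCat.of k))]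
    (hdim : topologicalKrullDim X = 1)
    (r₁ r₂ : ℕ) (hr₁ : 0 < r₁) (hr₂ : 0 < r₂) (E₁ E₂ : X.Modules)
    (hE₁ : FlatMod.IsFinLocFreeOfRank r₁ E₁) (hE₂ : FlatMod.IsFinLocFreeOfRank r₂ E₂) (m₁ m₂ : ℚ)
    (h₁ : ∀ (G : X.Modules) (r' : ℕ) (i : G ⟶ E₁), Mono i → 0 < r' → FlatMod.IsFinLocFreeOfRank r' G →
      (Curv2.deg k X G r' : ℚ) / r' ≤ m₁)
    (h₂ : ∀ (G : X.Modules) (r' : ℕ) (i : G ⟶ E₂), Mono i → 0 < r' → FlatMod.IsFinLocFreeOfRank r' G →
      (Curv2.deg k X G r' : ℚ) / r' ≤ m₂)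
    (F : X.Modules) (r' : ℕ) (i : F ⟶ E₁ ⊞ E₂) (hi : Mono i) (hr' : 0 < r')
    (hF : FlatMod.IsFinLocFreeOfRank r' F) :
    (Curv2.deg k X F r' : ℚ) / r' ≤ max m₁ m₂ := by
  have hne : Nonempty X := inferInstance
  obtain ⟨a, b, ha, hb, hrab, hd⟩ :=
    Groth.Agent.Lib.Helper2.DegAdd.exists_ker_im_decomp k (le_of_eq hdim) r' r₂ hF hE₂
      (i ≫ CategoryTheory.Limits.biprod.snd)
  have hmono : CategoryTheory.Mono
      (CategoryTheory.Limits.kernel.ι (i ≫ CategoryTheory.Limits.biprod.snd) ≫ i) := inferInstance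
  have hfac : (CategoryTheory.Limits.kernel.ι (i ≫ CategoryTheory.Limits.biprod.snd) ≫ i ≫
      CategoryTheory.Limits.biprod.fst) ≫ CategoryTheory.Limits.biprod.inl =
      CategoryTheory.Limits.kernel.ι (i ≫ CategoryTheory.Limits.biprod.snd) ≫ i := by
    apply CategoryTheory.Limits.biprod.hom_ext
    · simp
    · have := CategoryTheory.Limits.kernel.condition (i ≫ CategoryTheory.Limits.biprod.snd)
      simp only [CategoryTheory.Category.assoc, CategoryTheory.Limits.biprod.inl_snd,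
        CategoryTheory.Limits.comp_zero]
      exact this.symm
  have hu : CategoryTheory.Mono
      (CategoryTheory.Limits.kernel.ι (i ≫ CategoryTheory.Limits.biprod.snd) ≫ i ≫
        CategoryTheory.Limits.biprod.fst) := by
    have : CategoryTheory.Mono ((CategoryTheory.Limits.kernel.ι
        (i ≫ CategoryTheory.Limits.biprod.snd) ≫ i ≫
        CategoryTheory.Limits.biprod.fst) ≫
        (CategoryTheory.Limits.biprod.inl : E₁ ⟶ E₁ ⊞ E₂)) := by
      rw [hfac]; exact hmono
    exact CategoryTheory.mono_of_mono _ (CategoryTheory.Limits.biprod.inl : E₁ ⟶ E₁ ⊞ E₂)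
  have hr'q : (0 : ℚ) < (r' : ℚ) := by exact_mod_cast hr'
  rw [div_le_iff₀ hr'q]
  have hdq : (Curv2.deg k X F r' : ℚ) =
      (Curv2.deg k X (CategoryTheory.Limits.kernel (i ≫ CategoryTheory.Limits.biprod.snd)) a : ℚ) +
      (Curv2.deg k X (CategoryTheory.Abelian.image (i ≫ CategoryTheory.Limits.biprod.snd)) b : ℚ) := by
    exact_mod_cast hd
  have hrq : (r' : ℚ) = (a : ℚ) + (b : ℚ) := by exact_mod_cast hrab
  rw [hdq, hrq]
  have hKle : (Curv2.deg k X (CategoryTheory.Limits.kernel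
      (i ≫ CategoryTheory.Limits.biprod.snd)) a : ℚ) ≤ max m₁ m₂ * (a : ℚ) := by
    rcases Nat.eq_zero_or_pos a with ha0 | ha0
    · subst ha0
      rw [Groth.Agent.Lib.Helper2.DegAdd.deg_eq_zero_of_isZero k
        (Groth.Agent.Lib.Helper2.DegAdd.isZero_of_rank_zero ha)]
      simp
    · have h := h₁ _ a _ hu ha0 ha
      have ha0' : (0 : ℚ) < (a : ℚ) := by exact_mod_cast ha0
      rw [div_le_iff₀ ha0'] at h
      exact h.trans (mul_le_mul_of_nonneg_right (le_max_left _ _) ha0'.le)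
  have hIle : (Curv2.deg k X (CategoryTheory.Abelian.image
      (i ≫ CategoryTheory.Limits.biprod.snd)) b : ℚ) ≤ max m₁ m₂ * (b : ℚ) := by
    rcases Nat.eq_zero_or_pos b with hb0 | hb0
    · subst hb0
      rw [Groth.Agent.Lib.Helper2.DegAdd.deg_eq_zero_of_isZero k
        (Groth.Agent.Lib.Helper2.DegAdd.isZero_of_rank_zero hb)]
      simp
    · have h := h₂ _ b (CategoryTheory.Abelian.image.ι (i ≫ CategoryTheory.Limits.biprod.snd))
        inferInstance hb0 hb
      have hb0' : (0 : ℚ) < (b : ℚ) := by exact_mod_cast hb0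
      rw [div_le_iff₀ hb0'] at h
      exact h.trans (mul_le_mul_of_nonneg_right (le_max_right _ _) hb0'.le)
  linarith

end Groth.Agent.S15335
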