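import Groth.Statements.S15339
import Groth.Agent.Lib.Helper2.KS.Weil
import Groth.Agent.S19668
import Groth.Agent.Lib.Helper29.TensorIso
import Groth.Agent.Lib.Helper29.Dual3
import Groth.Agent.Lib.Helper29.QCohLocFree

set_option autoImplicit false
universe u
open CategoryTheory CategoryTheory.Limits AlgebraicGeometry
open VBCurve

namespace Groth.Agent.S15339

/-- Let X be a smooth proper integral curve (integral, smooth and proper of dimension one) over an
algebraically closed field k and L an invertible O_X-module. Then L is finite in the sense of Weil: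
there are two distinct polynomials P ≠ Q with natural-number coefficients such that P(L) ≅ Q(L),
where P(L) denotes the direct sum over i of P_i copies of the i-th tensor power L^{⊗ i} (L^{⊗ 0} =
O_X) if and only if L^{⊗ m} ≅ O_X for some m > 0. -/
theorem result (k : Type u) [Field k] [IsAlgClosed k] (X : Scheme.{u}) [X.Over (Spec (CommRingCat.of k))]
    [IsIntegral X] [IsProper (X ↘ Spec (CommRingCat.of k))] [Smooth (X ↘ Spec (CommRingCat.of k))]
    (hdim : topologicalKrullDim X = 1)
    (L : X.Modules) (hL : PicF.IsInvertible L) :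
    (∃ P Q : Polynomial ℕ, P ≠ Q ∧ Nonempty ((∐ fun i : Fin (P.natDegree + 1) => ∐ fun _ : Fin (P.coeff ↑i) => CohB1.tensorPow L ↑i) ≅
      (∐ fun i : Fin (Q.natDegree + 1) => ∐ fun _ : Fin (Q.coeff ↑i) => CohB1.tensorPow L ↑i))) ↔
    ∃ m : ℕ, 0 < m ∧ Nonempty (CohB1.tensorPow L m ≅ Coh.structureModule X) := by
  have hX : Curve.IsSmoothProperCurve k X (X ↘ Spec (CommRingCat.of k)) :=
    ⟨inferInstance, inferInstance, inferInstance, hdim⟩
  have hne : Nonempty X := inferInstance
  have hTinv : ∀ n, PicF.IsInvertible (CohB1.tensorPow L n) := fun n =>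
    Groth.Agent.Lib.Helper29.QCoh.isInvertible_tensorPow hL n
  have hT1 : ∀ n, FlatMod.IsFinLocFreeOfRank 1 (CohB1.tensorPow L n) := fun n =>
    (Groth.Agent.Lib.Helper29.QCoh.isInvertible_iff_isFinLocFreeOfRank_one _).1 (hTinv n)
  constructor
  · rintro ⟨P, Q, hPQ, ⟨φ⟩⟩
    by_contra hno
    push_neg at hno
    apply hPQ
    refine Groth.Agent.Lib.Helper2.KS.poly_eq_of_iso (fun n => CohB1.tensorPow L n) ?_ ?_ ?_ P Q φ
    · intro i hz
      have := Groth.Agent.Lib.Helper2.DegAdd.rank_eq_zero_of_isZero (hT1 i) hz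
      omega
    · intro i a
      obtain ⟨c, hc⟩ := Groth.Agent.S19668.result k X hX 1 _ (hT1 i)
        (fun G s ι _ _ hs hs1 => by omega) a
      by_cases hc0 : c = 0
      · left
        exact ⟨1, by rw [pow_one, hc, hc0, zero_smul]⟩
      · right
        refine ⟨⟨a, (c⁻¹ • 𝟙 (CohB1.tensorPow L i) : CohB1.tensorPow L i ⟶ CohB1.tensorPow L i),
          ?_, ?_⟩, rfl⟩
        · show (c⁻¹ • 𝟙 (CohB1.tensorPow L i)) ≫ a = 𝟙 _
          rw [hc, CategoryTheory.Linear.smul_comp, CategoryTheory.Linear.comp_smul,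
            CategoryTheory.Category.id_comp, smul_smul, inv_mul_cancel₀ hc0, one_smul]
        · show a ≫ (c⁻¹ • 𝟙 (CohB1.tensorPow L i)) = 𝟙 _
          rw [hc, CategoryTheory.Linear.smul_comp, CategoryTheory.Linear.comp_smul,
            CategoryTheory.Category.id_comp, smul_smul, mul_inv_cancel₀ hc0, one_smul]
    · have key : ∀ a c : ℕ, Nonempty (CohB1.tensorPow L a ≅ CohB1.tensorPow L (a + c)) → c = 0 := by
        rintro a c ⟨φ'⟩
        by_contra hc
        obtain ⟨N, hN, ⟨ν⟩⟩ := Groth.Agent.Lib.Helper29.QCoh.Dual.exists_inverse (hTinv a)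
        refine (hno c (Nat.pos_of_ne_zero hc)).false ?_
        exact (Groth.Agent.Lib.Helper29.QCoh.tensorUnitL _).symm ≪≫
          Groth.Agent.Lib.Helper29.QCoh.tensorCongr ν.symm (Iso.refl _) ≪≫
          Groth.Agent.Lib.Helper29.QCoh.tensorAssoc N _ _ ≪≫
          Groth.Agent.Lib.Helper29.QCoh.tensorCongr (Iso.refl N)
            (Groth.Agent.Lib.Helper29.QCoh.tensorPowAdd L a c ≪≫ φ'.symm) ≪≫ ν
      intro a b hab
      rcases le_total a b with h | h
      · obtain ⟨c, rfl⟩ := Nat.exists_eq_add_of_le h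
        have := key a c hab
        omega
      · obtain ⟨c, rfl⟩ := Nat.exists_eq_add_of_le h
        have := key b c ⟨hab.some.symm⟩
        omega
  · rintro ⟨m, hm, ⟨ψ⟩⟩
    refine ⟨Polynomial.X ^ m, 1, ?_, ?_⟩
    · intro h
      have h1 := congrArg Polynomial.natDegree h
      rw [Polynomial.natDegree_X_pow, Polynomial.natDegree_one] at h1
      omega
    · have hdP : (Polynomial.X ^ m : Polynomial ℕ).natDegree = m := Polynomial.natDegree_X_pow m
      have hdQ : (1 : Polynomial ℕ).natDegree = 0 := Polynomial.natDegree_one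
      obtain ⟨α⟩ := Groth.Agent.Lib.Helper2.KS.nonempty_monomial_iso
        (Polynomial.X ^ m : Polynomial ℕ).natDegree
        (fun i => (Polynomial.X ^ m : Polynomial ℕ).coeff ↑i) (fun n => CohB1.tensorPow L n)
        ⟨m, by omega⟩ (by simp) (by
          intro i hi
          have : (i : ℕ) ≠ m := fun h => hi (Fin.ext h)
          simp [Polynomial.coeff_X_pow, this])
      obtain ⟨β⟩ := Groth.Agent.Lib.Helper2.KS.nonempty_monomial_iso
        (1 : Polynomial ℕ).natDegree
        (fun i => (1 : Polynomial ℕ).coeff ↑i) (fun n => CohB1.tensorPow L n)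
        ⟨0, by omega⟩ (by simp) (by
          intro i hi
          exfalso
          apply hi
          apply Fin.ext
          have := i.2
          simp only [hdQ] at this
          simp
          omega)
      exact ⟨α ≪≫ ψ ≪≫ β.symm⟩

end Groth.Agent.S15339
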