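import Groth.Statements.S1534
import Groth.Agent.Lib.Helper21.CurveH0b
import Groth.Agent.Lib.Helper21.CurveH0c
import Groth.Agent.Lib.Helper21.GeomConnSch
-- import your own Groth.Agent.* helpers here

set_option autoImplicit false
universe u
open CategoryTheory CategoryTheory.Limits AlgebraicGeometry
open Curves

namespace Groth.Agent.S1534

/-- A proper scheme of dimension one over a field k whose global functions are k is connected, all of
its local rings are Cohen–Macaulay, and every irreducible component has dimension one. -/
theorem result (k : Type u) [Field k] (X : Scheme.{u}) [X.Over (Spec (CommRingCat.of k))]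
    [IsProper (X ↘ (Spec (CommRingCat.of k)))] (hdim : topologicalKrullDim X = 1) (h0 : Module.finrank k (Coh.HH X (Coh.structureModule X) 0) = 1) :
    ConnectedSpace X ∧ (∀ x : X, LocCoh.IsCohenMacaulayLocalRing (X.presheaf.stalk x)) ∧
      ∀ Z ∈ irreducibleComponents (X : Type u), topologicalKrullDim Z = 1 := by
  have hsurj := Groth.Agent.Lib.Helper21.CurveH0.surjective_of_finrank_hh0_eq_one k X h0
  haveI : IsLocallyNoetherian X :=
    LocallyOfFiniteType.isLocallyNoetherian (X ↘ (Spec (CommRingCat.of k)))
  haveI : CompactSpace X :=
    (quasiCompact_iff_compactSpace (X ↘ (Spec (CommRingCat.of k)))).mp inferInstance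
  haveI : IsNoetherian X := { }
  haveI : Nonempty X := by
    by_contra hne
    rw [not_nonempty_iff] at hne
    have : topologicalKrullDim X = ⊥ := by
      unfold topologicalKrullDim
      rw [Order.krullDim_eq_bot_iff]
      exact ⟨fun Z => hne.elim Z.2.nonempty.some⟩
    rw [this] at hdim
    exact absurd hdim (by decide)
  have hconn : ConnectedSpace X := by
    haveI : Subsingleton (PrimeSpectrum Γ(X, ⊤)) := by
      have hinj := PrimeSpectrum.comap_injective_of_surjective _ hsurj
      exact hinj.subsingleton
    haveI : PreconnectedSpace (PrimeSpectrum Γ(X, ⊤)) :=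
      ⟨Set.subsingleton_univ.isPreconnected⟩
    haveI := Groth.Agent.Lib.Helper21.GeomConnSch.preconnectedSpace_of_primeSpectrum_Γ X
    exact { toNonempty := inferInstance }
  refine ⟨hconn, fun x => ?_, fun Z hZ => ?_⟩
  · exact Groth.Agent.Lib.Helper21.CurveH0.isCohenMacaulayLocalRing_stalk k X _ hsurj hdim.le x
  · exact Groth.Agent.Lib.Helper21.CurveH0.topologicalKrullDim_irreducibleComponent hdim Z hZ

end Groth.Agent.S1534
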