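import Groth.Statements.S15340
import Groth.Agent.Lib.Helper2.DegAdd.Biprod

set_option autoImplicit false
universe u
open CategoryTheory CategoryTheory.Limits AlgebraicGeometry
open VBCurve

namespace Groth.Agent.S15340

/-- Let X be a smooth proper integral curve (integral, smooth and proper of dimension one) over an
algebraically closed field k and E a finite locally free O_X-module of rank r ≥ 1 which is
slope-semistable and slope-stable (deg G · r ≤ deg E · r' for finite locally free submodules G of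
rank r' ≥ 1, strictly when r' < r; degree = χ − rank·χ(O_X)). Then E is indecomposable: it is
nonzero and whenever E ≅ E₁ ⊞ E₂ as O_X-modules, one of E₁, E₂ is zero. -/
theorem result (k : Type u) [Field k] [IsAlgClosed k] (X : Scheme.{u}) [X.Over (Spec (CommRingCat.of k))]
    [IsIntegral X] [IsProper (X ↘ Spec (CommRingCat.of k))] [Smooth (X ↘ Spec (CommRingCat.of k))]
    (hdim : topologicalKrullDim X = 1)
    (r : ℕ) (hr : 0 < r) (E : X.Modules) (hE : FlatMod.IsFinLocFreeOfRank r E)
    (hEss : ModFun.IsSlopeSemistable k X E r) (hEst : ModFun.IsSlopeStable k X E r) :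
    ¬ IsZero E ∧ ∀ (E₁ E₂ : X.Modules), Nonempty (E ≅ E₁ ⊞ E₂) → IsZero E₁ ∨ IsZero E₂ := by
  have hne : Nonempty X := inferInstance
  refine ⟨fun hz => ?_, ?_⟩
  · have := Groth.Agent.Lib.Helper2.DegAdd.rank_eq_zero_of_isZero hE hz
    omega
  · rintro E₁ E₂ ⟨e⟩
    obtain ⟨r₁, r₂, h₁, h₂, hrr, hd⟩ :=
      Groth.Agent.Lib.Helper2.DegAdd.exists_rank_biprod k (le_of_eq hdim) r hE e
    rcases Nat.eq_zero_or_pos r₁ with h10 | h10
    · subst h10
      exact Or.inl (Groth.Agent.Lib.Helper2.DegAdd.isZero_of_rank_zero h₁)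
    rcases Nat.eq_zero_or_pos r₂ with h20 | h20
    · subst h20
      exact Or.inr (Groth.Agent.Lib.Helper2.DegAdd.isZero_of_rank_zero h₂)
    exfalso
    have hm₁ : CategoryTheory.Mono (CategoryTheory.Limits.biprod.inl ≫ e.inv :
        E₁ ⟶ E) := inferInstance
    have hm₂ : CategoryTheory.Mono (CategoryTheory.Limits.biprod.inr ≫ e.inv :
        E₂ ⟶ E) := inferInstance
    have s₁ := hEst E₁ r₁ (CategoryTheory.Limits.biprod.inl ≫ e.inv) hm₁ h10 (by omega) h₁
    have s₂ := hEst E₂ r₂ (CategoryTheory.Limits.biprod.inr ≫ e.inv) hm₂ h20 (by omega) h₂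
    subst hrr
    push_cast at s₁ s₂
    rw [hd] at s₁ s₂
    nlinarith

end Groth.Agent.S15340
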