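import Groth.Statements.S15342
import Groth.Agent.Lib.Helper2.KS.NoriSch

set_option autoImplicit false
universe u
open CategoryTheory CategoryTheory.Limits AlgebraicGeometry
open VBCurve

namespace Groth.Agent.S15342

/-- Let X be a smooth proper integral curve (integral, smooth and proper of dimension one) over an
algebraically closed field k, and E₁, E₂ finite locally free O_X-modules of ranks r₁, r₂ whose
direct sum E₁ ⊞ E₂ is finite in the sense of Weil: P(E₁ ⊞ E₂) ≅ Q(E₁ ⊞ E₂) for two distinct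
polynomials P ≠ Q with natural-number coefficients, P(E) being the direct sum over i of P_i copies
of E^{⊗ i} (E^{⊗ 0} = O_X). Then E₁ is finite in the same sense (and so is E₂, by symmetry). -/
theorem result (k : Type u) [Field k] [IsAlgClosed k] (X : Scheme.{u}) [X.Over (Spec (CommRingCat.of k))]
    [IsIntegral X] [IsProper (X ↘ Spec (CommRingCat.of k))] [Smooth (X ↘ Spec (CommRingCat.of k))]
    (hdim : topologicalKrullDim X = 1)
    (r₁ r₂ : ℕ) (E₁ E₂ : X.Modules) (hE₁ : FlatMod.IsFinLocFreeOfRank r₁ E₁) (hE₂ : FlatMod.IsFinLocFreeOfRank r₂ E₂)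
    (h : (∃ P Q : Polynomial ℕ, P ≠ Q ∧ Nonempty ((∐ fun i : Fin (P.natDegree + 1) => ∐ fun _ : Fin (P.coeff ↑i) => CohB1.tensorPow (E₁ ⊞ E₂) ↑i) ≅
      (∐ fun i : Fin (Q.natDegree + 1) => ∐ fun _ : Fin (Q.coeff ↑i) => CohB1.tensorPow (E₁ ⊞ E₂) ↑i)))) :
    (∃ P₁ Q₁ : Polynomial ℕ, P₁ ≠ Q₁ ∧ Nonempty ((∐ fun i : Fin (P₁.natDegree + 1) => ∐ fun _ : Fin (P₁.coeff ↑i) => CohB1.tensorPow E₁ ↑i) ≅
      (∐ fun i : Fin (Q₁.natDegree + 1) => ∐ fun _ : Fin (Q₁.coeff ↑i) => CohB1.tensorPow E₁ ↑i))) := by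
  obtain ⟨P, Q, hPQ, hiso⟩ := h
  have hc₁ : Coh.IsCoh E₁ := Groth.Agent.Lib.Helper2.DegAdd.isCoh_of_isFinLocFreeOfRank hE₁
  have hc₂ : Coh.IsCoh E₂ := Groth.Agent.Lib.Helper2.DegAdd.isCoh_of_isFinLocFreeOfRank hE₂
  have hW : Coh.IsCoh (E₁ ⊞ E₂) := Groth.Agent.Lib.Helper2.KS.isCoh_biprod hc₁ hc₂
  obtain ⟨N, S, hS, hcov⟩ :=
    Groth.Agent.Lib.Helper2.KS.exists_cover_of_weilFinite k (E₁ ⊞ E₂) hW P Q hPQ hiso
  exact Groth.Agent.Lib.Helper2.KS.weilFinite_of_exists_cover k E₁ hc₁ S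
    (fun I hI n hr => hcov I hI n (hr.trans
      (Groth.Agent.Lib.Helper2.KS.retract_tensorPow
        ⟨CategoryTheory.Limits.biprod.inl, CategoryTheory.Limits.biprod.fst,
          CategoryTheory.Limits.biprod.inl_fst⟩ n)))

end Groth.Agent.S15342
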