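import Groth.Statements.S15347
-- import your own Groth.Agent.* helpers here
import Mathlib.AlgebraicGeometry.Morphisms.ClosedImmersion
import Mathlib.AlgebraicGeometry.Morphisms.Proper

set_option autoImplicit false
universe u
open CategoryTheory CategoryTheory.Limits AlgebraicGeometry
open Mor

namespace Groth.Agent.S15347

/-- Let f : Y ⟶ X be an immersion of schemes. Then: for every valuation ring A with fraction field K and
every commutative square Spec K ⟶ Y, Spec A ⟶ X over f such that some morphism from the spectrum of
the residue field of A to Y lies over Spec A ⟶ X, the square admits a lift; and for every integral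
domain A and every morphism s : Spec A ⟶ X such that the points of a dense subset of Spec A lift to
Y (the residue field of each such point maps to Y over s), there is a nonempty open subscheme U of
Spec A with a morphism U ⟶ Y over s. (The published statement is for a representable, locally
finitely presented morphism of algebraic stacks with locally Noetherian target and a quasi-compact
immersion, and also lists that f is a monomorphism; this row is the case of schemes, for any
immersion and any target.) -/
theorem result {X Y : Scheme.{u}} (f : Y ⟶ X) [IsImmersion f] :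
    (∀ S : ValuativeCommSq f,
        (∃ l₀ : Spec (CommRingCat.of (IsLocalRing.ResidueField S.R)) ⟶ Y,
            l₀ ≫ f = Spec.map (CommRingCat.ofHom (IsLocalRing.residue S.R)) ≫ S.i₂) →
          S.commSq.HasLift) ∧
      ∀ (A : Type u) [CommRing A] [IsDomain A] (s : Spec (CommRingCat.of A) ⟶ X) (D : Set ↥(Spec (CommRingCat.of A))),
        Dense D →
        (∀ p ∈ D, ∃ l : Spec ((Spec (CommRingCat.of A)).residueField p) ⟶ Y,
            l ≫ f = (Spec (CommRingCat.of A)).fromSpecResidueField p ≫ s) →
          ∃ U : (Spec (CommRingCat.of A)).Opens, (U : Set ↥(Spec (CommRingCat.of A))).Nonempty ∧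
            ∃ l : (U : Scheme.{u}) ⟶ Y, l ≫ f = U.ι ≫ s := by
  have hfU : ∀ y : Y, f y ∈ f.coborderRange := fun y => by
    have : f y = f.coborderRange.ι (f.liftCoborder y) := by
      rw [← Scheme.Hom.comp_apply, f.liftCoborder_ι]
    rw [this]; exact (f.liftCoborder y).2
  refine ⟨?_, ?_⟩
  · rintro S ⟨l₀, hl₀⟩
    have hrange : Set.range S.i₂ ⊆ Set.range f.coborderRange.ι := by
      rintro _ ⟨y, rfl⟩
      have hc : IsLocalRing.closedPoint S.R ∈ (S.i₂ ⁻¹ᵁ f.coborderRange) := by
        let pt : Spec (CommRingCat.of (IsLocalRing.ResidueField S.R)) := Classical.arbitrary _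
        have h1 : (Spec.map (CommRingCat.ofHom (IsLocalRing.residue S.R))) pt =
            IsLocalRing.closedPoint S.R := IsLocalRing.PrimeSpectrum.comap_residue _ pt
        have h2 : S.i₂ (IsLocalRing.closedPoint S.R) = f (l₀ pt) := by
          rw [← h1, ← Scheme.Hom.comp_apply, ← hl₀, Scheme.Hom.comp_apply]
        change S.i₂ (IsLocalRing.closedPoint S.R) ∈ f.coborderRange
        rw [h2]
        exact hfU _
      have htop := (IsLocalRing.closedPoint_mem_iff _).mp hc
      have hy : y ∈ S.i₂ ⁻¹ᵁ f.coborderRange := htop ▸ trivial
      simpa using hy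
    let i₂' : Spec (.of S.R) ⟶ f.coborderRange :=
      IsOpenImmersion.lift f.coborderRange.ι S.i₂ hrange
    have hi₂' : i₂' ≫ f.coborderRange.ι = S.i₂ := IsOpenImmersion.lift_fac _ _ _
    have hsq : CommSq S.i₁ (Spec.map (CommRingCat.ofHom (algebraMap S.R S.K)))
        f.liftCoborder i₂' := ⟨by
      rw [← cancel_mono f.coborderRange.ι, Category.assoc, Category.assoc, f.liftCoborder_ι,
        hi₂']
      exact S.commSq.w⟩
    have hex : ValuativeCriterion.Existence f.liftCoborder := by
      have huc : UniversallyClosed f.liftCoborder := inferInstance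
      rw [UniversallyClosed.eq_valuativeCriterion] at huc
      exact huc.1
    obtain ⟨⟨l⟩⟩ := hex { R := S.R, K := S.K, i₁ := S.i₁, i₂ := i₂', commSq := hsq }
    exact ⟨⟨⟨l.l, l.fac_left, by
      have := l.fac_right
      dsimp only at this
      calc l.l ≫ f = l.l ≫ f.liftCoborder ≫ f.coborderRange.ι := by rw [f.liftCoborder_ι]
        _ = S.i₂ := by rw [← Category.assoc, this, hi₂']⟩⟩⟩
  · intro A _ _ s Dset hD hlift
    let W : (Spec (CommRingCat.of A)).Opens := s ⁻¹ᵁ f.coborderRange
    have hDW : Dset ⊆ ((W : (Spec (CommRingCat.of A)).Opens) : Set ↥(Spec (CommRingCat.of A))) := by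
      intro p hp
      obtain ⟨l, hl⟩ := hlift p hp
      let pt : Spec ((Spec (CommRingCat.of A)).residueField p) := Classical.arbitrary _
      have h1 : s p = f (l pt) := by
        rw [← Scheme.Hom.comp_apply, hl, Scheme.Hom.comp_apply, Scheme.fromSpecResidueField_apply]
      change s p ∈ f.coborderRange
      rw [h1]; exact hfU _
    have hne : ((W : (Spec (CommRingCat.of A)).Opens) : Set ↥(Spec (CommRingCat.of A))).Nonempty := by
      obtain ⟨p, hp⟩ := hD.nonempty
      exact ⟨p, hDW hp⟩
    refine ⟨W, hne, ?_⟩
    let g := f.liftCoborder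
    let sW : (W : Scheme) ⟶ f.coborderRange := s ∣_ f.coborderRange
    let pr : pullback g sW ⟶ W := pullback.snd g sW
    have hprc : IsClosedImmersion pr := inferInstance
    have hsurj : Surjective pr := by
      constructor
      have hcl : IsClosed (Set.range pr) := pr.isClosedEmbedding.isClosed_range
      have hdense : Dense ((Subtype.val : W → _) ⁻¹' Dset) := by
        have := W.2.isOpenEmbedding_subtypeVal
        exact hD.preimage this.isOpenMap
      have hsub : ((Subtype.val : W → _) ⁻¹' Dset) ⊆ Set.range pr := by
        rintro ⟨p, hpW⟩ hp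
        obtain ⟨l, hl⟩ := hlift p hp
        let q : Spec ((Spec (CommRingCat.of A)).residueField p) ⟶ W :=
          IsOpenImmersion.lift W.ι ((Spec (CommRingCat.of A)).fromSpecResidueField p) (by
            rw [Scheme.range_fromSpecResidueField]
            simpa using hpW)
        have hq : q ≫ W.ι = (Spec (CommRingCat.of A)).fromSpecResidueField p :=
          IsOpenImmersion.lift_fac _ _ _
        have hcomp : l ≫ g = q ≫ sW := by
          rw [← cancel_mono f.coborderRange.ι, Category.assoc, Category.assoc, f.liftCoborder_ι,
            morphismRestrict_ι, ← Category.assoc, hq, hl]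
        let t : Spec ((Spec (CommRingCat.of A)).residueField p) ⟶ pullback g sW :=
          pullback.lift l q hcomp
        let pt : Spec ((Spec (CommRingCat.of A)).residueField p) := Classical.arbitrary _
        refine ⟨t pt, ?_⟩
        rw [← Scheme.Hom.comp_apply, pullback.lift_snd]
        apply Subtype.ext
        change (W.ι (q pt)) = p
        rw [← Scheme.Hom.comp_apply, hq, Scheme.fromSpecResidueField_apply]
      have h2 := hcl.closure_subset_iff.mpr hsub
      exact fun x => h2 (hdense x)
    have hred : IsReduced (W : Scheme) := inferInstance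
    have hiso : IsIso pr := isIso_of_isClosedImmersion_of_surjective pr
    refine ⟨inv pr ≫ pullback.fst g sW, ?_⟩
    calc (inv pr ≫ pullback.fst g sW) ≫ f
        = inv pr ≫ (pullback.fst g sW ≫ g) ≫ f.coborderRange.ι := by
          simp only [Category.assoc, g, f.liftCoborder_ι]
      _ = inv pr ≫ (pr ≫ sW) ≫ f.coborderRange.ι := by rw [pullback.condition]
      _ = W.ι ≫ s := by
          rw [Category.assoc, IsIso.inv_hom_id_assoc]
          exact morphismRestrict_ι _ _

end Groth.Agent.S15347
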