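import Groth.Statements.S15352
import Groth.Agent.Lib.Helper10.IdComp6

set_option autoImplicit false
universe u
open CategoryTheory CategoryTheory.Limits MonoidalCategory CartesianMonoidalCategory MonObj GrpObj AlgebraicGeometry
open GrpSch

namespace Groth.Agent.S15352

/-- Let k be an algebraically closed field, G a group scheme locally of finite type over k, G⁰ ⊆ G the
connected component of the unit point, and U a nonempty open subscheme of G contained in G⁰. Then
every point of G⁰ is in the image of the morphism U ×_k U ⟶ G, (g, h) ↦ g·h⁻¹. (The published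
statement writes U as an open of G mapping to G⁰ × G⁰; this row makes the containment U ⊆ G⁰
explicit.) -/
theorem result (k : Type u) [Field k] [IsAlgClosed k]
    (G : Over (Spec (CommRingCat.of k))) [GrpObj G] [LocallyOfFiniteType G.hom] (U : G.left.Opens)
    (hne : (U : Set ↥G.left).Nonempty)
    (hU : (U : Set ↥G.left) ⊆ connectedComponent (η[G].left.base (IsLocalRing.closedPoint k))) :
    connectedComponent (η[G].left.base (IsLocalRing.closedPoint k)) ⊆ Set.range
      ((((Over.homMk U.ι rfl : Over.mk (U.ι ≫ G.hom) ⟶ G) ⊗ₘ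
          ((Over.homMk U.ι rfl : Over.mk (U.ι ≫ G.hom) ⟶ G) ≫ ι[G])) ≫ μ[G]).left.base) := by
  obtain ⟨pt, hpt⟩ : ∃ pt : ↥(𝟙_ (Over (Spec (CommRingCat.of k)))).left,
      pt = IsLocalRing.closedPoint k := ⟨_, rfl⟩
  have hcc : connectedComponent (η[G].left.base (IsLocalRing.closedPoint k)) =
      Groth.Agent.Lib.Helper10.IdComp.Z0 k G pt := by
    rw [← hpt]
    exact Groth.Agent.Lib.Helper10.IdComp.connectedComponent_unit_eq_Z0 k G pt
  rw [hcc] at hU ⊢
  let Ũ : Over (Spec (CommRingCat.of k)) := Over.mk (U.ι ≫ G.hom)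
  let jU : Ũ ⟶ G := Over.homMk U.ι rfl
  have hjU : Set.range jU.left = (U : Set ↥G.left) := Scheme.Opens.range_ι U
  change Groth.Agent.Lib.Helper10.IdComp.Z0 k G pt ⊆
    Set.range ((jU ⊗ₘ (jU ≫ ι[G])) ≫ μ[G]).left
  rw [← Groth.Agent.Lib.Helper10.IdComp.mulMap_eq, Groth.Agent.Lib.Helper10.IdComp.range_mulMap]
  intro x hx
  obtain ⟨u0, hu0⟩ := hne
  obtain ⟨T, z, t0, hz, hT, hirr⟩ := Groth.Agent.Lib.Helper10.IdComp.exists_fieldPoint G x
  haveI := hirr
  have hZT := Groth.Agent.Lib.Helper10.IdComp.isIrreducible_preimage_snd_Z0 k G pt T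
  obtain ⟨p0, hp0⟩ := Groth.Agent.Lib.Helper10.IdComp.surjective_snd (T := T) (G := G) u0
  -- the point `p1 = (transl z)⁻¹ p0`
  haveI : IsIso (Groth.Agent.Lib.Helper10.GrpTranslate.transl z).left :=
    (Over.forget _).map_isIso (Groth.Agent.Lib.Helper10.GrpTranslate.transl z)
  have hzZ : z.left t0 ∈ Groth.Agent.Lib.Helper10.IdComp.Z0 k G pt := hz ▸ hx
  have hp1 : (snd T G).left ((Groth.Agent.Lib.Helper10.GrpTranslate.transl z⁻¹).left p0) ∈
      Groth.Agent.Lib.Helper10.IdComp.Z0 k G pt := by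
    obtain ⟨T'', q0, t0'', hq0, -, -⟩ :=
      Groth.Agent.Lib.Helper10.IdComp.exists_fieldPoint (T ⊗ G) p0
    have e1 : q0 ≫ Groth.Agent.Lib.Helper10.GrpTranslate.transl z⁻¹ ≫ snd T G =
        ((q0 ≫ fst T G) ≫ z)⁻¹ * (q0 ≫ snd T G) := by
      rw [Groth.Agent.Lib.Helper10.GrpTranslate.transl_snd, MonObj.comp_mul, ← Category.assoc,
        GrpObj.comp_inv]
    have e2 : (snd T G).left ((Groth.Agent.Lib.Helper10.GrpTranslate.transl z⁻¹).left p0) =
        (q0 ≫ Groth.Agent.Lib.Helper10.GrpTranslate.transl z⁻¹ ≫ snd T G).left t0'' := by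
      simp only [Over.comp_left, Scheme.Hom.comp_apply]
      rw [hq0]
    rw [e2, e1]
    apply Groth.Agent.Lib.Helper10.IdComp.mul_mem_Z0
    · apply Groth.Agent.Lib.Helper10.IdComp.inv_mem_Z0
      rw [Over.comp_left, Scheme.Hom.comp_apply, hT ((q0 ≫ fst T G).left t0'')]
      exact hzZ
    · rw [Over.comp_left, Scheme.Hom.comp_apply, hq0, hp0]
      exact hU hu0
  have hp1' : (Groth.Agent.Lib.Helper10.GrpTranslate.transl z).left
      ((Groth.Agent.Lib.Helper10.GrpTranslate.transl z⁻¹).left p0) = p0 := by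
    rw [← Scheme.Hom.comp_apply, ← Over.comp_left,
      Groth.Agent.Lib.Helper10.GrpTranslate.transl_comp, mul_inv_cancel,
      Groth.Agent.Lib.Helper10.GrpTranslate.transl_one]
    rfl
  obtain ⟨p, hpZ, hpA, hpB⟩ := hZT.2 ((snd T G).left ⁻¹' (U : Set ↥G.left))
    ((Groth.Agent.Lib.Helper10.GrpTranslate.transl z).left ⁻¹'
      ((snd T G).left ⁻¹' (U : Set ↥G.left)))
    (U.isOpen.preimage (snd T G).left.continuous)
    ((U.isOpen.preimage (snd T G).left.continuous).preimage
      (Groth.Agent.Lib.Helper10.GrpTranslate.transl z).left.continuous)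
    ⟨p0, (show (snd T G).left p0 ∈ _ from hp0 ▸ hU hu0),
      (show (snd T G).left p0 ∈ (U : Set ↥G.left) from hp0 ▸ hu0)⟩
    ⟨_, hp1, (show (snd T G).left ((Groth.Agent.Lib.Helper10.GrpTranslate.transl z).left
      ((Groth.Agent.Lib.Helper10.GrpTranslate.transl z⁻¹).left p0)) ∈ (U : Set ↥G.left) by
        rw [hp1', hp0]; exact hu0)⟩
  obtain ⟨T', q, t0', hq, hT', -⟩ := Groth.Agent.Lib.Helper10.IdComp.exists_fieldPoint (T ⊗ G) p
  have hu : q ≫ Groth.Agent.Lib.Helper10.GrpTranslate.transl z ≫ snd T G =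
      (q ≫ fst T G ≫ z) * (q ≫ snd T G) := by
    rw [Groth.Agent.Lib.Helper10.GrpTranslate.transl_snd, MonObj.comp_mul]
  have hx' : (q ≫ fst T G ≫ z) =
      (q ≫ Groth.Agent.Lib.Helper10.GrpTranslate.transl z ≫ snd T G) * (q ≫ snd T G)⁻¹ := by
    rw [hu]; group
  have hxe : x = (q ≫ fst T G ≫ z).left t0' := by
    rw [← Category.assoc, Over.comp_left, Scheme.Hom.comp_apply, hT ((q ≫ fst T G).left t0'), hz]
  rw [hxe, hx']
  apply Groth.Agent.Lib.Helper10.IdComp.mul_mem_mulSet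
  · rw [hjU, Over.comp_left, Over.comp_left, Scheme.Hom.comp_apply, Scheme.Hom.comp_apply, hq]
    exact hpB
  · have hv : (snd T G).left p ∈ Set.range jU.left := by rw [hjU]; exact hpA
    obtain ⟨v0, hv0⟩ := hv
    refine ⟨v0, ?_⟩
    rw [Hom.inv_def]
    simp only [Over.comp_left, Scheme.Hom.comp_apply]
    rw [hv0, hq]

end Groth.Agent.S15352
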