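import Groth.Statements.S15354
-- import your own Groth.Agent.* helpers here

set_option autoImplicit false
universe u
open CategoryTheory CategoryTheory.Limits AlgebraicGeometry
open Mor

namespace Groth.Agent.S15354

/-- Let f : Y ⟶ X be a morphism of schemes, A a valuation ring with fraction field K and residue field
k, and ξ, η : Spec A ⟶ Y two A-points of Y over the same A-point of X. If ξ and η restrict to the
same K-point and to the same k-point of Y, then ξ = η. (The published statement is an equivalence,
for algebraic spaces locally of finite presentation over a Noetherian scheme, between local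
separatedness of f and conditions (a), (b); this row is the necessity of (a) in the case of schemes,
where no hypothesis on f is needed.) -/
theorem result {X Y : Scheme.{u}} (f : Y ⟶ X)
    (A : Type u) [CommRing A] [IsDomain A] [ValuationRing A] (K : Type u) [Field K] [Algebra A K]
    [IsFractionRing A K] (ξ η : Spec (CommRingCat.of A) ⟶ Y) (hf : ξ ≫ f = η ≫ f)
    (hK : Spec.map (CommRingCat.ofHom (algebraMap A K)) ≫ ξ = Spec.map (CommRingCat.ofHom (algebraMap A K)) ≫ η)
    (hk : Spec.map (CommRingCat.ofHom (IsLocalRing.residue A)) ≫ ξ =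
      Spec.map (CommRingCat.ofHom (IsLocalRing.residue A)) ≫ η) :
    ξ = η := by
  have hm : ξ (IsLocalRing.closedPoint A) = η (IsLocalRing.closedPoint A) := by
    have h0 : Spec.map (CommRingCat.ofHom (IsLocalRing.residue A))
        (IsLocalRing.closedPoint (IsLocalRing.ResidueField A)) = IsLocalRing.closedPoint A :=
      IsLocalRing.comap_closedPoint (IsLocalRing.residue A)
    have h1 := congrArg (fun g : Spec (CommRingCat.of (IsLocalRing.ResidueField A)) ⟶ Y =>
      g (IsLocalRing.closedPoint (IsLocalRing.ResidueField A))) hk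
    simp only [Scheme.Hom.comp_apply] at h1
    rw [h0] at h1
    exact h1
  obtain ⟨_, ⟨(V : Y.Opens), hV, rfl⟩, hyV, -⟩ :=
    Y.isBasis_affineOpens.exists_subset_of_mem_open (Set.mem_univ (ξ (IsLocalRing.closedPoint A)))
      isOpen_univ
  have hV : IsAffineOpen V := hV
  have hyV : ξ (IsLocalRing.closedPoint A) ∈ V := hyV
  have hξV : Set.range ξ ⊆ Set.range V.ι := by
    rw [Scheme.Opens.range_ι]
    rintro _ ⟨a, rfl⟩
    exact ((IsLocalRing.specializes_closedPoint a).map ξ.continuous).mem_open V.isOpen hyV
  have hηV : Set.range η ⊆ Set.range V.ι := by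
    rw [Scheme.Opens.range_ι]
    rintro _ ⟨a, rfl⟩
    exact ((IsLocalRing.specializes_closedPoint a).map η.continuous).mem_open V.isOpen (hm ▸ hyV)
  have e1 : IsOpenImmersion.lift V.ι ξ hξV ≫ V.ι = ξ := IsOpenImmersion.lift_fac _ _ _
  have e2 : IsOpenImmersion.lift V.ι η hηV ≫ V.ι = η := IsOpenImmersion.lift_fac _ _ _
  rw [← e1, ← e2]
  congr 1
  rw [← cancel_mono hV.isoSpec.hom]
  have e3 : Spec.map (Spec.preimage (IsOpenImmersion.lift V.ι ξ hξV ≫ hV.isoSpec.hom)) =
      IsOpenImmersion.lift V.ι ξ hξV ≫ hV.isoSpec.hom := Spec.map_preimage _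
  have e4 : Spec.map (Spec.preimage (IsOpenImmersion.lift V.ι η hηV ≫ hV.isoSpec.hom)) =
      IsOpenImmersion.lift V.ι η hηV ≫ hV.isoSpec.hom := Spec.map_preimage _
  rw [← e3, ← e4]
  congr 1
  have hK' : Spec.map (CommRingCat.ofHom (algebraMap A K)) ≫
      (IsOpenImmersion.lift V.ι ξ hξV ≫ hV.isoSpec.hom) =
      Spec.map (CommRingCat.ofHom (algebraMap A K)) ≫
      (IsOpenImmersion.lift V.ι η hηV ≫ hV.isoSpec.hom) := by
    rw [← Category.assoc, ← Category.assoc]
    congr 1
    rw [← cancel_mono V.ι, Category.assoc, Category.assoc, e1, e2, hK]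
  rw [← e3, ← e4, ← Spec.map_comp, ← Spec.map_comp] at hK'
  have h5 := Spec.map_injective hK'
  ext a
  apply IsFractionRing.injective A K
  exact congrArg (fun g => g.hom a) h5

end Groth.Agent.S15354
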