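import Groth.Statements.S15355
-- import your own Groth.Agent.* helpers here

set_option autoImplicit false
universe u
open CategoryTheory CategoryTheory.Limits AlgebraicGeometry
open Mor

namespace Groth.Agent.S15355

/-- Let f : Y ⟶ X be a morphism of schemes, A an integral domain and ξ, η : Spec A ⟶ Y two A-points of Y
over the same A-point of X. If ξ and η induce the same κ(p)-point of Y at every point p of some
dense subset of Spec A, then ξ and η agree on a nonempty open subscheme of Spec A. (The published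
statement is an equivalence, for algebraic spaces locally of finite presentation over a Noetherian
scheme, between local separatedness of f and conditions (a), (b); this row is the necessity of (b)
in the case of schemes, where no hypothesis on f is needed.) -/
theorem result {X Y : Scheme.{u}} (f : Y ⟶ X)
    (A : Type u) [CommRing A] [IsDomain A] (ξ η : Spec (CommRingCat.of A) ⟶ Y) (hf : ξ ≫ f = η ≫ f)
    (D : Set ↥(Spec (CommRingCat.of A))) (hD : Dense D)
    (hpt : ∀ p ∈ D, (Spec (CommRingCat.of A)).fromSpecResidueField p ≫ ξ =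
      (Spec (CommRingCat.of A)).fromSpecResidueField p ≫ η) :
    ∃ U : (Spec (CommRingCat.of A)).Opens, (U : Set ↥(Spec (CommRingCat.of A))).Nonempty ∧ U.ι ≫ ξ = U.ι ≫ η := by
  have hne : Nonempty ↥(Spec (CommRingCat.of A)) := inferInstance
  obtain ⟨p₀, hp₀⟩ := hD.nonempty
  have hpt₀ : ξ p₀ = η p₀ := by
    have h1 := congrArg (fun g : Spec ((Spec (CommRingCat.of A)).residueField p₀) ⟶ Y =>
      g (IsLocalRing.closedPoint _)) (hpt p₀ hp₀)
    simp only [Scheme.Hom.comp_apply, Scheme.fromSpecResidueField_apply] at h1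
    exact h1
  obtain ⟨_, ⟨(V : Y.Opens), hV, rfl⟩, hyV, -⟩ :=
    Y.isBasis_affineOpens.exists_subset_of_mem_open (Set.mem_univ (ξ p₀)) isOpen_univ
  have hV : IsAffineOpen V := hV
  have hyV : ξ p₀ ∈ V := hyV
  let U : (Spec (CommRingCat.of A)).Opens := ξ ⁻¹ᵁ V ⊓ η ⁻¹ᵁ V
  have hp₀U : p₀ ∈ U := ⟨hyV, show η p₀ ∈ V from hpt₀ ▸ hyV⟩
  refine ⟨U, ⟨p₀, hp₀U⟩, ?_⟩
  have hξV : Set.range (U.ι ≫ ξ) ⊆ Set.range V.ι := by
    rw [Scheme.Opens.range_ι]
    rintro _ ⟨a, rfl⟩
    exact a.2.1
  have hηV : Set.range (U.ι ≫ η) ⊆ Set.range V.ι := by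
    rw [Scheme.Opens.range_ι]
    rintro _ ⟨a, rfl⟩
    exact a.2.2
  have e1 : IsOpenImmersion.lift V.ι (U.ι ≫ ξ) hξV ≫ V.ι = U.ι ≫ ξ :=
    IsOpenImmersion.lift_fac _ _ _
  have e2 : IsOpenImmersion.lift V.ι (U.ι ≫ η) hηV ≫ V.ι = U.ι ≫ η :=
    IsOpenImmersion.lift_fac _ _ _
  rw [← e1, ← e2]
  congr 1
  have : IsAffine (V : Scheme.{u}) := hV
  have : IsReduced (U : Scheme.{u}) := isReduced_of_isOpenImmersion U.ι
  refine ext_of_fromSpecResidueField_eq _ _ (terminal.from (V : Scheme.{u}))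
    {u : U | (u : Spec (CommRingCat.of A)) ∈ D} ?_ ?_ (terminal.hom_ext _ _)
  · rw [dense_iff_inter_open]
    intro O hO hOne
    obtain ⟨w, hw⟩ := hOne
    have hO' : IsOpen (U.ι '' O) := U.ι.isOpenEmbedding.isOpenMap O hO
    obtain ⟨z, hzO, hzD⟩ := hD.inter_open_nonempty _ hO' ⟨U.ι w, w, hw, rfl⟩
    obtain ⟨w', hw'O, rfl⟩ := hzO
    exact ⟨w', hw'O, hzD⟩
  · intro u hu
    rw [← cancel_mono V.ι, Category.assoc, Category.assoc, e1, e2, ← Category.assoc,
      ← Category.assoc, ← Scheme.Hom.SpecMap_residueFieldMap_fromSpecResidueField,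
      Category.assoc, Category.assoc]
    congr 1
    exact hpt _ hu

end Groth.Agent.S15355
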