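import Groth.Statements.S15357
import Groth.Agent.Lib.Helper24.AlgStImmNoeth
import Groth.Agent.Lib.Helper24.AlgStSecBridge
import Groth.Agent.Lib.Helper24.NoethQCSp2
import Groth.Agent.Lib.Helper14.ResidualNoeth
import Groth.Agent.Lib.Helper14.AlgSpGeomPts
import Groth.Agent.Lib.Helper14.EtStalk2

set_option autoImplicit false
universe u
open CategoryTheory AlgebraicGeometry
open AlgSt

namespace Groth.Agent.S15357

open CategoryTheory AlgebraicGeometry Opposite CategoryTheory.Limits
open Groth.Agent.Lib.Helper24.AlgStRep Groth.Agent.Lib.Helper24.AlgStBridge Groth.Agent.Lib.Helper24.AlgStRepS Groth.Agent.Lib.Helper24.AlgStProps Groth.Agent.Lib.Helper24.AlgStLocQ1 Groth.Agent.Lib.Helper24.AlgStLocQ5 Groth.Agent.Lib.Helper24.AlgStLocQ9 Groth.Agent.Lib.Helper24.AlgStDescent Groth.Agent.Lib.Helper24.AlgStDiagLft Groth.Agent.Lib.Helper24.AlgStSecBridge Groth.Agent.Lib.Helper24.NoethQCSp2 Groth.Agent.Lib.Helper14.AS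

set_option backward.isDefEq.respectTransparency false in
set_option backward.isDefEq.respectTransparency.types false in

/-- Let S be a scheme, 𝒳 a locally Noetherian algebraic stack over S and f : 𝒴 ⟶ 𝒳 a morphism of
algebraic stacks over S which is representable by algebraic spaces, locally of finite presentation
and a monomorphism. Suppose that for every integral domain A and every a : Spec A ⟶ 𝒳 whose
restrictions to the points of a dense subset of Spec A (through their residue fields) lift to 𝒴 up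
to 2-isomorphism, the restriction of a to some nonempty open subscheme of Spec A lifts to 𝒴. Then f
is quasi-compact. (The published statement takes all algebraic stacks and algebraic spaces
quasi-separated; this row does not assume that.) -/
theorem result (S : Scheme.{u})
    (𝒳 𝒴 : AlgSt.Cat S) (h𝒳 : AlgSt.IsAlgStack Scheme.fppfPrecoverage 𝒳)
    (h𝒴 : AlgSt.IsAlgStack Scheme.fppfPrecoverage 𝒴)
    (hnoeth : AlgSt.SmoothLocally (fun X => IsLocallyNoetherian X) 𝒳) (f : 𝒴 ⥤ᵇ 𝒳)
    (hrep : AlgSt.RepByAlgSp1 f) (hlfp : AlgSt.RepByAlgSpWith (AlgSp.LocP @LocallyOfFinitePresentation) f)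
    (ha : AlgSt.IsMono f)
    (hc : ∀ (A : Type u) [CommRing A] [IsDomain A] (sA : Spec (CommRingCat.of A) ⟶ S)
      (a : FibCat.overCat (Over.mk sA) ⥤ᵇ 𝒳) (D : Set ↥(Spec (CommRingCat.of A))), Dense D →
      (∀ p ∈ D, ∃ yp : FibCat.overCat (Over.mk ((Spec (CommRingCat.of A)).fromSpecResidueField p ≫ sA)) ⥤ᵇ 𝒴,
          Nonempty (BasedFunctor.comp yp f ≅ BasedFunctor.comp (AlgSt.overMap (Over.homMk ((Spec (CommRingCat.of A)).fromSpecResidueField p) rfl : Over.mk (((Spec (CommRingCat.of A)).fromSpecResidueField p) ≫ sA) ⟶ Over.mk sA)) a)) →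
      ∃ U : (Spec (CommRingCat.of A)).Opens, (U : Set ↥(Spec (CommRingCat.of A))).Nonempty ∧
        ∃ yU : FibCat.overCat (Over.mk (U.ι ≫ sA)) ⥤ᵇ 𝒴,
          Nonempty (BasedFunctor.comp yU f ≅ BasedFunctor.comp (AlgSt.overMap (Over.homMk (U.ι) rfl : Over.mk ((U.ι) ≫ sA) ⟶ Over.mk sA)) a)) :
    AlgSt.RepByAlgSpWith AlgSp.IsQuasiCompactMor f := by
  obtain ⟨U, u, hu, hu'⟩ := h𝒳.atlas
  have hU : IsLocallyNoetherian U.left := hnoeth U u hu
  have hO : FibCat.IsFibGrpd (FibCat.overCat U).p := Groth.Agent.Lib.Helper24.StkFpCrit.isFibGrpd_overForget U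
  refine repByAlgSpWith_of_fpFst_cover h𝒴.isStack.1 h𝒳.isStack.1 hO AlgSp.IsQuasiCompactMor
    good_isQuasiCompactMor.bc good_isQuasiCompactMor.loc f hrep u
    (repByAlgSpWith_locP_mono Groth.Agent.Lib.Helper24.AlgStDiagLft.smooth_le_flat u hu)
    (repByAlgSpWith_locP_mono Groth.Agent.Lib.Helper24.AlgStDiagLft.smooth_le_lfp u hu)
    hu' ?_
  obtain ⟨F, e, he, hm⟩ := ha U u
  have hmono : Mono (AlgSt.spMapOfOver (BasedFunctor.comp e (FibCat.fpFst u f))) := hm
  have key : AlgSp.IsQuasiCompactMor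
      (AlgSt.spMapOfOver (BasedFunctor.comp e (FibCat.fpFst u f))) := by
    refine isQuasiCompactMor_of_mono_locNoeth F.property _ ?_
    intro A _ _ _ cA hdense
    obtain ⟨sA, hsA⟩ : ∃ sA : Spec (CommRingCat.of A) ⟶ S, sA = cA ≫ U.hom := ⟨_, rfl⟩
    let cAo : Over.mk sA ⟶ U := Over.homMk cA hsA.symm
    obtain ⟨V, hV, yV, ⟨α⟩⟩ := hc A sA (BasedFunctor.comp (AlgSt.overMap cAo) u) _ hdense (by
      intro p hp
      let ip : Over.mk ((Spec (CommRingCat.of A)).fromSpecResidueField p ≫ sA) ⟶ Over.mk sA :=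
        Over.homMk ((Spec (CommRingCat.of A)).fromSpecResidueField p) rfl
      let cp : Over.mk ((Spec (CommRingCat.of A)).fromSpecResidueField p ≫ sA) ⟶ U := ip ≫ cAo
      have hq : AlgSp.Points.mk (fieldPtOfHom ((AlgSp.yon S).map cp)) ∈
          Set.range (AlgSp.Points.map
            (AlgSt.spMapOfOver (BasedFunctor.comp e (FibCat.fpFst u f)))) := by
        have h1 : AlgSp.Points.mk (fieldPtOfHom ((AlgSp.yon S).map cp)) =
            AlgSp.Points.schemeHomeo U (cA p) := by
          rw [mk_fieldPtOfHom, ← Category.comp_id ((AlgSp.yon S).map cp), fpt_yon_map_comp]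
          change AlgSp.Points.ofScheme U _ = AlgSp.Points.ofScheme U _
          congr 1
          change ((Spec (CommRingCat.of A)).fromSpecResidueField p ≫ cA) _ = _
          rw [Scheme.Hom.comp_apply, Scheme.fromSpecResidueField_apply]
        rw [h1]
        exact hp
      obtain ⟨l, hl⟩ := exists_lift_fieldPt_of_mono (AlgSp.IsAlgSpace.yon_obj U) F.property
        (AlgSt.spMapOfOver (BasedFunctor.comp e (FibCat.fpFst u f)))
        (fieldPtOfHom ((AlgSp.yon S).map cp)) hq
      rw [fieldPtOfHom_toHom] at hl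
      obtain ⟨yp, ⟨β⟩⟩ := exists_lift_of_section u f e cp l hl
      exact ⟨yp, ⟨β ≪≫ whiskerRightIso (overMapComp ip cAo) u⟩⟩)
    let iV : Over.mk (V.ι ≫ sA) ⟶ Over.mk sA := Over.homMk V.ι rfl
    let cV : Over.mk (V.ι ≫ sA) ⟶ U := iV ≫ cAo
    obtain ⟨l, hl⟩ := exists_section_of_lift u f e he cV yV
      (α ≪≫ whiskerRightIso (overMapComp iV cAo).symm u)
    refine ⟨Over.mk (V.ι ≫ sA), cV, l, V, ?_, hl, hV, ?_⟩
    · have : TopologicalSpace.NoetherianSpace (PrimeSpectrum A) := inferInstance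
      exact isCompact_iff_compactSpace.mp
        (TopologicalSpace.NoetherianSpace.isCompact
          ((V : Set ↥(Spec (CommRingCat.of A))) : Set (PrimeSpectrum A)))
    · change Set.range (V.ι ≫ cA) = _
      rw [Scheme.Hom.comp_base, TopCat.coe_comp, Set.range_comp, Scheme.Opens.range_ι]
  have hpt : PT AlgSp.IsQuasiCompactMor (FibCat.fpFst u f) := by
    refine ⟨F, ⟨(AlgSp.yon S).obj U, AlgSp.IsAlgSpace.yon_obj U⟩, e, AlgSt.ofOverCat U, he,
      isEquivOver_ofOverCat U, ?_⟩
    rw [spMapOfOver_eq] at key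
    exact key
  exact PT.repByAlgSpWith good_isQuasiCompactMor.bc hpt

end Groth.Agent.S15357
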