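import Groth.Statements.S15358
import Groth.Agent.Lib.Helper24.AlgStIsomQC
import Groth.Agent.Lib.Helper24.AlgStProdEquiv
import Groth.Agent.Lib.Helper24.AlgStDiagAtlas
import Groth.Agent.Lib.Helper24.AlgStDiagLft

set_option autoImplicit false
universe u
open CategoryTheory AlgebraicGeometry
open AlgSt

namespace Groth.Agent.S15358

open CategoryTheory AlgebraicGeometry Opposite CategoryTheory.Limits
open Groth.Agent.Lib.Helper24.AlgStRep Groth.Agent.Lib.Helper24.AlgStBridge Groth.Agent.Lib.Helper24.AlgStRepS Groth.Agent.Lib.Helper24.AlgStProps Groth.Agent.Lib.Helper24.AlgStLocQ1 Groth.Agent.Lib.Helper24.AlgStLocQ5 Groth.Agent.Lib.Helper24.AlgStDescent Groth.Agent.Lib.Helper24.AlgStIsomQC Groth.Agent.Lib.Helper24.AlgStProdEquiv Groth.Agent.Lib.Helper24.FibCatMagic Groth.Agent.Lib.Helper24.AlgStProd Groth.Agent.Lib.Helper24.FibCatFpGen Groth.Agent.Lib.Helper24.AlgStGC Groth.Agent.Lib.Helper24.AlgStLC Groth.Agent.Lib.Helper24.FibCatInertia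

set_option backward.isDefEq.respectTransparency false in
set_option backward.isDefEq.respectTransparency.types false in

/-- Let S be a locally Noetherian scheme and 𝒳 an algebraic stack over S in the weak sense (no
quasi-separatedness assumed) which is locally of finite presentation over S (every scheme smooth
over 𝒳 is locally of finite presentation over S). Assume: for every affine scheme U over S and every
object x of 𝒳 over U, the sheaf Aut(x) = Isom(x, x) is an algebraic space quasi-compact over U; and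
for every integral affine scheme U over S and all objects x, y of 𝒳 over U such that, at each point
t of some dense subset of U, x and y become isomorphic after pulling back to the spectrum of some
field mapping onto t, the objects x and y become isomorphic over some dense open subscheme of U.
Then the diagonal of 𝒳 over S is quasi-compact. (The published statement, for stacks whose diagonal
is representable by quasi-separated algebraic spaces, concludes that 𝒳 is quasi-separated; this row
assumes nothing on the diagonal beyond representability and concludes that it is quasi-compact.) -/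
theorem result (S : Scheme.{u})
    [IsLocallyNoetherian S] (𝒳 : AlgSt.Cat S) (h𝒳 : AlgSt.IsAlgStack Scheme.fppfPrecoverage 𝒳)
    (hlfp : ∀ (U : Over S) (x : FibCat.overCat U ⥤ᵇ 𝒳),
      AlgSt.RepByAlgSpWith (AlgSp.LocP @Smooth) x → LocallyOfFinitePresentation U.hom)
    (hi : ∀ (U : Over S), IsAffine U.left → ∀ (x : FibCat.overCat U ⥤ᵇ 𝒳),
      ∃ (F : AlgSp.Space S) (e : AlgSt.ofSp F.obj ⥤ᵇ FibCat.fp (FibCat.fpLift x x (Iso.refl _)) (FibCat.diag (FibCat.toSelf 𝒳))),
        FibCat.IsEquivOver e ∧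
          AlgSp.IsQuasiCompactMor (AlgSt.spMapOfOver (BasedFunctor.comp e (FibCat.fpFst _ _))))
    (hii : ∀ (U : Over S), IsAffine U.left → IsIntegral U.left → ∀ (x y : FibCat.overCat U ⥤ᵇ 𝒳)
      (D : Set ↥U.left), Dense D →
      (∀ t ∈ D, ∃ (L : Type u) (_ : Field L) (g : Spec (CommRingCat.of L) ⟶ U.left), Set.range g.base = {t} ∧
        Nonempty (BasedFunctor.comp (AlgSt.overMap (Over.homMk g rfl : Over.mk (g ≫ U.hom) ⟶ U)) x ≅
          BasedFunctor.comp (AlgSt.overMap (Over.homMk g rfl : Over.mk (g ≫ U.hom) ⟶ U)) y)) →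
      ∃ V : U.left.Opens, Dense (V : Set ↥U.left) ∧
        Nonempty (BasedFunctor.comp (AlgSt.overMap (Over.homMk V.ι rfl : Over.mk (V.ι ≫ U.hom) ⟶ U)) x ≅
          BasedFunctor.comp (AlgSt.overMap (Over.homMk V.ι rfl : Over.mk (V.ι ≫ U.hom) ⟶ U)) y)) :
    AlgSt.RepByAlgSpWith AlgSp.IsQuasiCompactMor (FibCat.diag (FibCat.toSelf 𝒳)) := by
  obtain ⟨U, u, hu, hu'⟩ := h𝒳.atlas
  have hUlfp : LocallyOfFinitePresentation U.hom := hlfp U u hu
  have hX := h𝒳.isStack.1
  have hO : FibCat.IsFibGrpd (FibCat.overCat U).p :=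
    Groth.Agent.Lib.Helper24.StkFpCrit.isFibGrpd_overForget U
  have hS : FibCat.IsFibGrpd (FibCat.selfOver (Over S)).p := isFibGrpd_selfOver
  -- the product `U ×_S U` is locally Noetherian
  have hPr : IsLocallyNoetherian (U ⨯ U).left := by
    have e : (U ⨯ U).left ≅ pullback U.hom U.hom := Over.prodLeftIsoPullback U U
    have h1 : LocallyOfFiniteType (e.hom ≫ pullback.fst U.hom U.hom ≫ U.hom) := inferInstance
    exact LocallyOfFiniteType.isLocallyNoetherian (e.hom ≫ pullback.fst U.hom U.hom ≫ U.hom)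
  obtain ⟨E, hE⟩ := exists_equiv_overCat_prod U U u u
  have hPrO : FibCat.IsFibGrpd (FibCat.overCat (U ⨯ U)).p :=
    Groth.Agent.Lib.Helper24.StkFpCrit.isFibGrpd_overForget _
  have hUU : FibCat.IsFibGrpd (FibCat.fp (BasedFunctor.comp u (FibCat.toSelf 𝒳))
      (BasedFunctor.comp u (FibCat.toSelf 𝒳))).p := isFibGrpd_fp _ _ hO hO hS
  have hfl := Groth.Agent.Lib.Helper24.AlgStDiagLft.repByAlgSpWith_locP_mono Groth.Agent.Lib.Helper24.AlgStDiagLft.smooth_le_flat u hu
  have hlp := Groth.Agent.Lib.Helper24.AlgStDiagLft.repByAlgSpWith_locP_mono Groth.Agent.Lib.Helper24.AlgStDiagLft.smooth_le_lfp u hu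
  -- the chart `zP : (Sch/U ×_S U) ⟶ 𝒳 ×_S 𝒳`
  have tr : ∀ (Q : MorphismProperty (AlgSp.Sp S)),
      AlgSt.RepByAlgSpWith Q (M u u (FibCat.toSelf 𝒳)) →
      AlgSt.RepByAlgSpWith Q (BasedFunctor.comp E (M u u (FibCat.toSelf 𝒳))) := fun Q h =>
    (repByAlgSpWith_iff_of_isEquivOver Q (M u u (FibCat.toSelf 𝒳))
      (BasedFunctor.comp E (M u u (FibCat.toSelf 𝒳))) E (BasedFunctor.id _) hE
      (isEquivOver_id _) (Iso.refl _)).1 h
  refine repByAlgSpWith_of_fpFst_cover hX (isFibGrpd_fp _ _ hX hX hS) hPrO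
    AlgSp.IsQuasiCompactMor good_isQuasiCompactMor.bc good_isQuasiCompactMor.loc
    (FibCat.diag (FibCat.toSelf 𝒳)) h𝒳.diag (BasedFunctor.comp E (M u u (FibCat.toSelf 𝒳)))
    (tr _ (repByAlgSpWith_M hO hO hX hS _ good_flat.nice
      (stableComp_locP Groth.Agent.Lib.Helper14.AS.etLocal_flat) u u _ hfl hfl))
    (tr _ (repByAlgSpWith_M hO hO hX hS _ good_lfp.nice
      (stableComp_locP Groth.Agent.Lib.Helper14.AS.etLocal_lfp) u u _ hlp hlp))
    (tr _ (repByAlgSpWith_M hO hO hX hS _ good_isSurjectiveMor.nice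
      (fun _ _ _ _ _ _ _ _ ha hb => Groth.Agent.Lib.Helper14.AS.isSurjectiveMor_comp ha hb)
      u u _ hu' hu')) ?_
  exact PT.repByAlgSpWith good_isQuasiCompactMor.bc
    (pt_isQuasiCompactMor_fpFst_diag h𝒳 hi hii (U ⨯ U) _)

end Groth.Agent.S15358
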