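import Groth.Statements.S1536
import Groth.Agent.Lib.Helper21.PropH0b
-- import your own Groth.Agent.* helpers here

set_option autoImplicit false
universe u
open CategoryTheory CategoryTheory.Limits AlgebraicGeometry
open Variety

namespace Groth.Agent.S1536

/-- For a proper scheme X over a field k which is geometrically reduced and geometrically connected,
H^0(X, O_X) is one-dimensional over k, i.e. the global functions are the constants. -/
theorem result (k : Type u) [Field k] (X : Scheme.{u}) [X.Over (Spec (CommRingCat.of k))] [IsProper (X ↘ (Spec (CommRingCat.of k)))]
    [GeometricallyReduced (X ↘ (Spec (CommRingCat.of k)))] [GeometricallyConnected (X ↘ (Spec (CommRingCat.of k)))] :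
    Module.finrank k (Coh.HH X (Coh.structureModule X) 0) = 1 := by
  apply Groth.Agent.Lib.Helper21.PropH0.finrank_hh0_eq_one_of_bijective
  exact Groth.Agent.Lib.Helper21.PropH0.bijective_toGlobal_of_proper k X
    (X ↘ (Spec (CommRingCat.of k)))

end Groth.Agent.S1536
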