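import Groth.Statements.S15364
import Mathlib
import Groth.Agent.Lib.Helper26.RigG

set_option autoImplicit false
universe u
open CategoryTheory CategoryTheory.Limits MonoidalCategory CartesianMonoidalCategory AlgebraicGeometry
open AbSch

namespace Groth.Agent.S15364

/-- For an abelian scheme f : A → T (a commutative T-group scheme, proper and smooth over T with
geometrically connected fibres) and a commutative group scheme H finite and locally free over T, the
adjunction map H → f_* f^* H of fppf sheaves on T is an isomorphism, i.e. for every T-scheme U the
map H(U) → H(A ×_T U), s ↦ s ∘ pr, is bijective. This row states the case U = T, to which the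
general case reduces by base change: composition with the structure morphism A → T is a bijection
from the sections of H over T onto the T-morphisms A → H. The group structure of H plays no role and
is not assumed. (The published statement has an arbitrary base T; the published argument rests on
the rigidity lemma in its form for Noetherian schemes, so T is taken locally Noetherian here.) -/
theorem result {T : Scheme.{u}} [IsLocallyNoetherian T]
    (A : Over T) [GrpObj A] [IsCommMonObj A] [IsProper A.hom] [Smooth A.hom] [GeometricallyConnected A.hom]
    (H : Over T) [IsFinite H.hom] [Flat H.hom] [LocallyOfFinitePresentation H.hom] :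
    Function.Bijective fun s : (𝟙_ (Over T) ⟶ H) => toUnit A ≫ s := by
  constructor
  · intro s₁ s₂ h
    have h' : toUnit A ≫ s₁ = toUnit A ≫ s₂ := h
    have h1 : (MonObj.one : 𝟙_ (Over T) ⟶ A) ≫ toUnit A = 𝟙 _ := toUnit_unique _ _
    calc s₁ = ((MonObj.one : 𝟙_ (Over T) ⟶ A) ≫ toUnit A) ≫ s₁ := by rw [h1, Category.id_comp]
      _ = ((MonObj.one : 𝟙_ (Over T) ⟶ A) ≫ toUnit A) ≫ s₂ := by rw [Category.assoc, h', ← Category.assoc]
      _ = s₂ := by rw [h1, Category.id_comp]
  · intro m
    have HF := Groth.Agent.Lib.Helper26.RigG.hfib_of_geomConn T A
    haveI : Flat A.hom := inferInstance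
    haveI : LocallyQuasiFinite H.hom := inferInstance
    have hall : ∀ t, Groth.Agent.Lib.Helper26.RigD.Good A.hom m.left t := by
      intro t x₁ x₂ h₁ h₂
      have hconn := (A.hom.isConnected_preimage_singleton t).isPreconnected
      have hdisc := H.hom.isDiscrete_preimage_singleton t
      refine hconn.constant_of_mapsTo hdisc m.left.continuous.continuousOn ?_ h₁ h₂
      intro x hx
      change H.hom.base (m.left.base x) = t
      rw [← Groth.Agent.Lib.Helper26.RigD.comp_base_apply', Over.w m]
      exact hx
    obtain ⟨t, ht⟩ := Groth.Agent.Lib.Helper26.RigF.over_rigidity T A H HF m hall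
    exact ⟨t, ht.symm⟩

end Groth.Agent.S15364
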