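import Groth.Statements.S15365
import Mathlib

set_option autoImplicit false
universe u
open scoped BigOperators
open CAlg

namespace Groth.Agent.S15365


/-- Let A be a commutative ring of characteristic p > 0 and (h_{ij})_{1 ≤ i,j ≤ n} a square matrix over
A, the matrix of a commutative p-Lie algebra (L, φ) with L free with basis e_1, …, e_n and φ(e_j) =
Σ_i h_{ij} e_i. The associated finite group scheme Spec A[X_1, …, X_n]/(X_j^p − Σ_i h_{ij} X_i)_{1 ≤
j ≤ n} is étale over A if and only if the matrix (h_{ij}) is invertible, i.e. its determinant is a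
unit of A. Only the algebra structure enters this assertion. -/
theorem result (p : ℕ) [Fact p.Prime]
    (A : Type u) [CommRing A] [CharP A p] (n : ℕ) (h : Matrix (Fin n) (Fin n) A) :
    Algebra.Etale A (MvPolynomial (Fin n) A ⧸ Ideal.span (Set.range fun j : Fin n =>
        (MvPolynomial.X j : MvPolynomial (Fin n) A) ^ p -
          ∑ i : Fin n, MvPolynomial.C (h i j) * MvPolynomial.X i)) ↔
      IsUnit h.det := by
  classical
  have hp2 : 2 ≤ p := (Fact.out : p.Prime).two_le
  set v : Fin n → MvPolynomial (Fin n) A := fun j =>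
    (MvPolynomial.X j : MvPolynomial (Fin n) A) ^ p -
      ∑ i : Fin n, MvPolynomial.C (h i j) * MvPolynomial.X i with hv
  constructor
  · intro het
    by_contra hdet
    obtain ⟨m, hm, hmem⟩ := Ideal.exists_le_maximal (Ideal.span {h.det})
      (by rwa [Ne, Ideal.span_singleton_eq_top])
    letI : Field (A ⧸ m) := Ideal.Quotient.field m
    let hbar : Matrix (Fin n) (Fin n) (A ⧸ m) := h.map (Ideal.Quotient.mk m)
    have hdet0 : hbar.transpose.det = 0 := by
      rw [Matrix.det_transpose]
      change ((Ideal.Quotient.mk m).mapMatrix h).det = 0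
      rw [← RingHom.map_det, Ideal.Quotient.eq_zero_iff_mem]
      exact hmem (Ideal.subset_span rfl)
    obtain ⟨c, hc0, hc⟩ := Matrix.exists_mulVec_eq_zero_iff.mpr hdet0
    have hrel0 : ∀ a ∈ Ideal.span (Set.range v),
        (MvPolynomial.aeval (fun _ : Fin n => (0 : TrivSqZeroExt (A ⧸ m) (A ⧸ m)))) a = 0 := by
      intro a ha
      have hle : Ideal.span (Set.range v) ≤ RingHom.ker (MvPolynomial.aeval
          (fun _ : Fin n => (0 : TrivSqZeroExt (A ⧸ m) (A ⧸ m)))).toRingHom := by
        rw [Ideal.span_le]
        rintro _ ⟨j, rfl⟩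
        change MvPolynomial.aeval _ (v j) = 0
        simp only [hv, map_sub, map_pow, MvPolynomial.aeval_X, map_sum, map_mul, mul_zero,
          Finset.sum_const_zero, sub_zero]
        exact zero_pow (by omega)
      exact hle ha
    have hrel1 : ∀ a ∈ Ideal.span (Set.range v),
        (MvPolynomial.aeval (fun i : Fin n =>
          (TrivSqZeroExt.inr (c i) : TrivSqZeroExt (A ⧸ m) (A ⧸ m)))) a = 0 := by
      intro a ha
      have hle : Ideal.span (Set.range v) ≤ RingHom.ker (MvPolynomial.aeval
          (fun i : Fin n =>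
            (TrivSqZeroExt.inr (c i) : TrivSqZeroExt (A ⧸ m) (A ⧸ m)))).toRingHom := by
        rw [Ideal.span_le]
        rintro _ ⟨j, rfl⟩
        change MvPolynomial.aeval _ (v j) = 0
        simp only [hv, map_sub, map_pow, MvPolynomial.aeval_X, map_sum, map_mul,
          MvPolynomial.aeval_C]
        have h1 : (TrivSqZeroExt.inr (c j) : TrivSqZeroExt (A ⧸ m) (A ⧸ m)) ^ p = 0 := by
          obtain ⟨q, rfl⟩ : ∃ q, p = 2 + q := ⟨p - 2, by omega⟩
          rw [pow_add, pow_two, TrivSqZeroExt.inr_mul_inr, zero_mul]
        have h2 : ∑ i : Fin n, algebraMap A (TrivSqZeroExt (A ⧸ m) (A ⧸ m)) (h i j) *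
            (TrivSqZeroExt.inr (c i) : TrivSqZeroExt (A ⧸ m) (A ⧸ m)) =
            TrivSqZeroExt.inr (hbar.transpose.mulVec c j) := by
          rw [Matrix.mulVec, dotProduct, TrivSqZeroExt.inr_sum]
          apply Finset.sum_congr rfl
          intro i _
          rw [TrivSqZeroExt.algebraMap_eq_inl', TrivSqZeroExt.inl_mul_inr]
          rfl
        rw [h1, h2, hc, Pi.zero_apply, TrivSqZeroExt.inr_zero, sub_zero]
      exact hle ha
    let g₀ : (MvPolynomial (Fin n) A ⧸ Ideal.span (Set.range v)) →ₐ[A]
        TrivSqZeroExt (A ⧸ m) (A ⧸ m) := Ideal.Quotient.liftₐ _ _ hrel0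
    let g₁ : (MvPolynomial (Fin n) A ⧸ Ideal.span (Set.range v)) →ₐ[A]
        TrivSqZeroExt (A ⧸ m) (A ⧸ m) := Ideal.Quotient.liftₐ _ _ hrel1
    let φ : TrivSqZeroExt (A ⧸ m) (A ⧸ m) →+* (A ⧸ m) :=
      (TrivSqZeroExt.fstHom (A ⧸ m) (A ⧸ m) (A ⧸ m)).toRingHom
    have hφ : ∀ x, φ x = x.fst := fun _ => rfl
    have hnil : IsNilpotent (RingHom.ker φ) := by
      refine ⟨2, ?_⟩
      have hsq : RingHom.ker φ ^ 2 = RingHom.ker φ * RingHom.ker φ := pow_two _
      rw [hsq, Ideal.zero_eq_bot, eq_bot_iff, Ideal.mul_le]
      intro a ha b hb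
      rw [RingHom.mem_ker] at ha hb
      rw [Ideal.mem_bot]
      have ha' : a.fst = 0 := ha
      have hb' : b.fst = 0 := hb
      ext
      · rw [TrivSqZeroExt.fst_mul, ha', zero_mul, TrivSqZeroExt.fst_zero]
      · rw [TrivSqZeroExt.snd_mul, ha', hb', zero_smul, TrivSqZeroExt.snd_zero]
        simp
    haveI : Algebra.FormallyUnramified A
        (MvPolynomial (Fin n) A ⧸ Ideal.span (Set.range v)) := inferInstance
    have hg : g₀ = g₁ := by
      apply Algebra.FormallyUnramified.ext' φ hnil
      intro x
      obtain ⟨q, rfl⟩ := Ideal.Quotient.mk_surjective x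
      change φ (MvPolynomial.aeval _ q) = φ (MvPolynomial.aeval _ q)
      induction q using MvPolynomial.induction_on with
      | C a => simp only [MvPolynomial.aeval_C]
      | add q r hq hr => simp only [map_add, hq, hr]
      | mul_X q i hq =>
        simp only [map_mul, hq, MvPolynomial.aeval_X]
        have e1 : φ (TrivSqZeroExt.inr (c i)) = 0 := by
          rw [hφ, TrivSqZeroExt.fst_inr]
        have e0 : φ 0 = 0 := map_zero _
        rw [e1, e0]
    apply hc0
    funext i
    have := AlgHom.congr_fun hg (Ideal.Quotient.mk _ (MvPolynomial.X i))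
    change MvPolynomial.aeval _ (MvPolynomial.X i) = MvPolynomial.aeval _ (MvPolynomial.X i) at this
    rw [MvPolynomial.aeval_X, MvPolynomial.aeval_X] at this
    have h3 := congrArg TrivSqZeroExt.snd this
    rw [TrivSqZeroExt.snd_zero, TrivSqZeroExt.snd_inr] at h3
    exact h3.symm
  · intro hdet
    let P := Algebra.PreSubmersivePresentation.naive (R := A) (v := v) (a := id)
      Function.injective_id
    have hjac : IsUnit P.jacobian := by
      rw [Algebra.PreSubmersivePresentation.jacobian_eq_jacobiMatrix_det]
      apply IsUnit.map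
      have hmat : P.jacobiMatrix = (MvPolynomial.C : A →+* _).mapMatrix (-h) := by
        apply Matrix.ext
        intro i j
        rw [Algebra.PreSubmersivePresentation.jacobiMatrix_naive]
        simp only [hv, id, map_sub, RingHom.mapMatrix_apply, Matrix.map_apply, Matrix.neg_apply,
          map_neg]
        rw [MvPolynomial.pderiv_pow, MvPolynomial.pderiv_X, map_sum]
        have hchar : ((p : ℕ) : MvPolynomial (Fin n) A) = 0 := by
          rw [← map_natCast (MvPolynomial.C : A →+* MvPolynomial (Fin n) A), CharP.cast_eq_zero,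
            map_zero]
        rw [hchar, zero_mul, zero_mul, zero_sub, neg_inj]
        have : ∀ i' : Fin n, MvPolynomial.pderiv i (MvPolynomial.C (h i' j) *
            (MvPolynomial.X i' : MvPolynomial (Fin n) A)) =
            if i' = i then MvPolynomial.C (h i' j) else 0 := by
          intro i'
          rw [MvPolynomial.pderiv_C_mul, MvPolynomial.pderiv_X]
          by_cases hi : i' = i
          · subst hi; simp
          · rw [if_neg hi, Pi.single_eq_of_ne hi, mul_zero]
        simp only [this]
        rw [Finset.sum_ite_eq' Finset.univ i, if_pos (Finset.mem_univ i)]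
      rw [hmat, ← RingHom.map_det]
      apply IsUnit.map
      rw [Matrix.det_neg]
      exact (((isUnit_one.neg).pow _).mul hdet)
    let P' : Algebra.SubmersivePresentation A
        (MvPolynomial (Fin n) A ⧸ Ideal.span (Set.range v)) (Fin n) (Fin n) :=
      { toPreSubmersivePresentation := P
        jacobian_isUnit := hjac }
    haveI : Algebra.IsStandardSmoothOfRelativeDimension 0 A
        (MvPolynomial (Fin n) A ⧸ Ideal.span (Set.range v)) :=
      P'.isStandardSmoothOfRelativeDimension (by
        simp [Algebra.Presentation.dimension])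
    infer_instance

end Groth.Agent.S15365
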