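import Groth.Statements.S15367
import Mathlib
import Groth.Agent.Lib.Helper9.DvrTorsionLen

set_option autoImplicit false
universe u v
open TensorProduct
open CAlg

namespace Groth.Agent.S15367

open IsLocalRing

variable {R : Type u} [CommRing R] [IsDomain R] [IsDiscreteValuationRing R]

/-- `k → R/ϖ^(n+1)`, `r̄ ↦ ϖ^n r`. -/
noncomputable def iota (ϖ : R) (hϖ : Irreducible ϖ) (n : ℕ) :
    ResidueField R →ₗ[R] (R ⧸ Ideal.span {ϖ ^ (n + 1)}) :=
  Submodule.liftQ (maximalIdeal R)
    ((Ideal.Quotient.mkₐ R (Ideal.span {ϖ ^ (n + 1)})).toLinearMap ∘ₗ LinearMap.mulLeft R (ϖ ^ n))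
    (by
      intro x hx
      rw [Irreducible.maximalIdeal_eq hϖ, Ideal.mem_span_singleton'] at hx
      obtain ⟨a, rfl⟩ := hx
      simp only [LinearMap.mem_ker, LinearMap.comp_apply, LinearMap.mulLeft_apply,
        AlgHom.toLinearMap_apply, Ideal.Quotient.mkₐ_eq_mk, Ideal.Quotient.eq_zero_iff_mem,
        Ideal.mem_span_singleton']
      exact ⟨a, by ring⟩)

theorem iota_residue (ϖ : R) (hϖ : Irreducible ϖ) (n : ℕ) (r : R) :
    iota ϖ hϖ n (residue R r) = Ideal.Quotient.mk _ (ϖ ^ n * r) := rfl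

theorem iota_injective (ϖ : R) (hϖ : Irreducible ϖ) (n : ℕ) :
    Function.Injective (iota ϖ hϖ n) := by
  rw [injective_iff_map_eq_zero]
  intro x hx
  obtain ⟨r, rfl⟩ := residue_surjective x
  rw [iota_residue, Ideal.Quotient.eq_zero_iff_mem, Ideal.mem_span_singleton'] at hx
  obtain ⟨a, ha⟩ := hx
  have h0 : ϖ ^ n ≠ 0 := pow_ne_zero _ hϖ.ne_zero
  have : r = a * ϖ := by
    apply mul_left_cancel₀ h0
    rw [← ha]; ring
  rw [residue_eq_zero_iff, Irreducible.maximalIdeal_eq hϖ, Ideal.mem_span_singleton']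
  exact ⟨a, this.symm⟩

theorem mem_range_iota_iff (ϖ : R) (hϖ : Irreducible ϖ) (n : ℕ)
    (q : R ⧸ Ideal.span {ϖ ^ (n + 1)}) :
    q ∈ LinearMap.range (iota ϖ hϖ n) ↔ ϖ • q = 0 := by
  constructor
  · rintro ⟨x, rfl⟩
    obtain ⟨r, rfl⟩ := residue_surjective x
    rw [iota_residue, Algebra.smul_def, Ideal.Quotient.algebraMap_eq, ← map_mul,
      Ideal.Quotient.eq_zero_iff_mem, Ideal.mem_span_singleton']
    exact ⟨r, by ring⟩
  · intro hq
    obtain ⟨s, rfl⟩ := Ideal.Quotient.mk_surjective q
    rw [Algebra.smul_def, Ideal.Quotient.algebraMap_eq, ← map_mul,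
      Ideal.Quotient.eq_zero_iff_mem, Ideal.mem_span_singleton'] at hq
    obtain ⟨a, ha⟩ := hq
    have : s = ϖ ^ n * a := by
      apply mul_left_cancel₀ hϖ.ne_zero
      rw [← ha]; ring
    exact ⟨residue R a, by rw [iota_residue, this]⟩

/-- `Hom_R(M, k) ≃ Hom_R(M, R/ϖ^(n+1))[ϖ]`. -/
noncomputable def homEquiv (ϖ : R) (hϖ : Irreducible ϖ) (n : ℕ)
    (M : Type v) [AddCommGroup M] [Module R M] :
    (M →ₗ[R] ResidueField R) ≃ₗ[R]
      Submodule.torsionBy R (M →ₗ[R] (R ⧸ Ideal.span {ϖ ^ (n + 1)})) ϖ := by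
  let Ψ : (M →ₗ[R] ResidueField R) →ₗ[R]
      Submodule.torsionBy R (M →ₗ[R] (R ⧸ Ideal.span {ϖ ^ (n + 1)})) ϖ :=
    (LinearMap.llcomp R M (ResidueField R) (R ⧸ Ideal.span {ϖ ^ (n + 1)})
      (iota ϖ hϖ n)).codRestrict _ (fun f => by
        rw [Submodule.mem_torsionBy_iff]
        ext m
        simp only [LinearMap.llcomp_apply, LinearMap.smul_apply, LinearMap.zero_apply]
        exact (mem_range_iota_iff ϖ hϖ n _).mp ⟨f m, rfl⟩)
  refine LinearEquiv.ofBijective Ψ ⟨?_, ?_⟩
  · intro f g hfg
    have h1 := congrArg Subtype.val hfg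
    ext m
    apply iota_injective ϖ hϖ n
    exact LinearMap.congr_fun h1 m
  · rintro ⟨g, hg⟩
    rw [Submodule.mem_torsionBy_iff] at hg
    have hmem : ∀ m, g m ∈ LinearMap.range (iota ϖ hϖ n) := fun m => by
      rw [mem_range_iota_iff]
      have := LinearMap.congr_fun hg m
      simpa using this
    let e := LinearEquiv.ofInjective (iota ϖ hϖ n) (iota_injective ϖ hϖ n)
    refine ⟨e.symm.toLinearMap ∘ₗ g.codRestrict _ hmem, ?_⟩
    apply Subtype.ext
    ext m
    show iota ϖ hϖ n (e.symm ⟨g m, hmem m⟩) = g m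
    have := e.apply_symm_apply ⟨g m, hmem m⟩
    exact congrArg Subtype.val this


/-- Let R be a discrete valuation ring with uniformizer π and residue field k, n ≥ 0, and M₀ a finitely
generated module over R/πⁿR, viewed as an R-module killed by πⁿ; put M₀* = Hom_R(M₀, R/πⁿR). Then
dim_k(M₀*/πM₀*) = dim_k(M₀/πM₀). The published lemma is stated for a finitely presented module over
the quotient of the ring of integers of an algebraic closure of K by the elements of valuation ≥ t,
with its dual into that quotient ring, and the published proof reduces it by descent to exactly this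
statement over the valuation ring of a finite extension of K; the row states that step. -/
theorem result
    (R : Type u) [CommRing R] [IsDomain R] [IsDiscreteValuationRing R] (ϖ : R) (hϖ : Irreducible ϖ) (n : ℕ)
    (M : Type v) [AddCommGroup M] [Module R M] [Module.Finite R M] (hM : ∀ m : M, ϖ ^ n • m = 0) :
    Module.finrank (IsLocalRing.ResidueField R)
        (IsLocalRing.ResidueField R ⊗[R] (M →ₗ[R] (R ⧸ Ideal.span {ϖ ^ n}))) =
      Module.finrank (IsLocalRing.ResidueField R) (IsLocalRing.ResidueField R ⊗[R] M) := by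
  cases n with
  | zero =>
    have hsub : Subsingleton M := ⟨fun a b => by
      have ha := hM a; have hb := hM b
      simp only [pow_zero, one_smul] at ha hb
      rw [ha, hb]⟩
    have hsub2 : Subsingleton (M →ₗ[R] (R ⧸ Ideal.span {ϖ ^ 0})) :=
      ⟨fun f g => by ext m; rw [Subsingleton.elim m 0, map_zero, map_zero]⟩
    rw [Module.finrank_zero_of_subsingleton, Module.finrank_zero_of_subsingleton]
  | succ n =>
    have hD : ∀ f : M →ₗ[R] (R ⧸ Ideal.span {ϖ ^ (n + 1)}), ϖ ^ (n + 1) • f = 0 := by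
      intro f
      ext m
      obtain ⟨r, hr⟩ := Ideal.Quotient.mk_surjective (f m)
      rw [LinearMap.smul_apply, LinearMap.zero_apply, ← hr, Algebra.smul_def,
        Ideal.Quotient.algebraMap_eq, ← map_mul, Ideal.Quotient.eq_zero_iff_mem,
        Ideal.mem_span_singleton']
      exact ⟨r, by ring⟩
    have hfin : Module.Finite R (M →ₗ[R] (R ⧸ Ideal.span {ϖ ^ (n + 1)})) :=
      Module.IsNoetherian.finite R _
    have h1 := Groth.Agent.Lib.Helper9.DvrTorsionLen.finrank_residue_tensor_eq_length_torsionBy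
      ϖ hϖ (n + 1) (M →ₗ[R] (R ⧸ Ideal.span {ϖ ^ (n + 1)})) hD
    have h2 : Module.length R (Submodule.torsionBy R (M →ₗ[R] (R ⧸ Ideal.span {ϖ ^ (n + 1)})) ϖ) =
        Module.length R (M →ₗ[R] ResidueField R) := (homEquiv ϖ hϖ n M).symm.length_eq
    have h3 : Module.length R (M →ₗ[R] ResidueField R) =
        Module.length (ResidueField R) (M →ₗ[R] ResidueField R) :=
      Module.length_eq_of_surjective residue_surjective
    have h4 : Module.length (ResidueField R) (M →ₗ[R] ResidueField R) =
        Module.length (ResidueField R) (Module.Dual (ResidueField R) (ResidueField R ⊗[R] M)) :=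
      (LinearMap.liftBaseChangeEquiv (ResidueField R)).length_eq
    have h5 : Module.length (ResidueField R)
        (Module.Dual (ResidueField R) (ResidueField R ⊗[R] M)) =
        Module.finrank (ResidueField R) (Module.Dual (ResidueField R) (ResidueField R ⊗[R] M)) :=
      Module.length_eq_finrank _ _
    have h6 : Module.finrank (ResidueField R)
        (Module.Dual (ResidueField R) (ResidueField R ⊗[R] M)) =
        Module.finrank (ResidueField R) (ResidueField R ⊗[R] M) := Subspace.dual_finrank_eq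
    rw [h2, h3, h4, h5, h6] at h1
    exact_mod_cast h1

end Groth.Agent.S15367
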