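import Groth.Statements.S15383
import Groth.Agent.Lib.Helper1.NM1
import Groth.Prelude.Def_GmPts

set_option autoImplicit false
universe u
open GmDual

namespace Groth.Agent.S15383

open CategoryTheory AlgebraicGeometry in
/-- Let f : X' ⟶ X be a finite flat morphism of Noetherian schemes (so finite locally free). A morphism
of abelian sheaves N : f_* 𝔾_{m,X'} ⟶ 𝔾_{m,X} on the big fppf site of X is called a norm map of f
when, on every affine test scheme T over X for which the functions of T ×_X X' form a finite free
algebra over those of T, it sends an invertible function on T ×_X X' to the determinant of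
multiplication by it. Two norm maps of f are equal: a norm map is determined by its affine-local
description by determinants. -/
theorem result (X X' : Scheme.{u}) (f : X' ⟶ X) [IsFinite f] [Flat f]
    [AlgebraicGeometry.IsNoetherian X]
    (N N' : CGrpSh3.pushGm Scheme.fppfPrecoverage f ⟶ CGrpSh2.Gm Scheme.fppfPrecoverage X)
    (hN : CGrpSh3.IsNormMap Scheme.fppfPrecoverage f N) (hN' : CGrpSh3.IsNormMap Scheme.fppfPrecoverage f N') :
    N = N' := by
  have key : ∀ (T : CategoryTheory.Over X) (t' : (CategoryTheory.Over.pullback f).obj T ⟶ Red.Gm X'),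
      CGrpSh3.normPt Scheme.fppfPrecoverage f N T t' = CGrpSh3.normPt Scheme.fppfPrecoverage f N' T t' := by
    intro T t'
    apply GmPts.gmFn_injective
    dsimp only
    apply Groth.Agent.Lib.Helper1.NM.eq_of_fromSpecStalk_appTop
    intro x
    let Tx : CategoryTheory.Over X := CategoryTheory.Over.mk (T.left.fromSpecStalk x ≫ T.hom)
    let g : Tx ⟶ T := CategoryTheory.Over.homMk (T.left.fromSpecStalk x)
    have nat : ∀ M : CGrpSh3.pushGm Scheme.fppfPrecoverage f ⟶ CGrpSh2.Gm Scheme.fppfPrecoverage X,
        g ≫ CGrpSh3.normPt Scheme.fppfPrecoverage f M T t' =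
          CGrpSh3.normPt Scheme.fppfPrecoverage f M Tx ((CategoryTheory.Over.pullback f).map g ≫ t') := by
      intro M
      rw [CGrpSh3.normPt_def, CGrpSh3.normPt_def]
      have h := CategoryTheory.congr_fun (M.hom.naturality g.op) (ULift.up (Additive.ofMul t'))
      exact (congrArg (fun z => Additive.toMul (ULift.down z)) h).symm
    have e1 := GmPts.gmFn_comp g (CGrpSh3.normPt Scheme.fppfPrecoverage f N T t')
    have e2 := GmPts.gmFn_comp g (CGrpSh3.normPt Scheme.fppfPrecoverage f N' T t')
    rw [nat N] at e1
    rw [nat N'] at e2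
    haveI haff : IsAffine Tx.left := inferInstanceAs (IsAffine (Spec (T.left.presheaf.stalk x)))
    haveI hloc : IsLocalRing Γ(Tx.left, ⊤) :=
      (Scheme.ΓSpecIso (T.left.presheaf.stalk x)).commRingCatIsoToRingEquiv.symm.isLocalRing
    obtain ⟨hfin, hfree⟩ := Groth.Agent.Lib.Helper1.NM.finite_free_pullback f Tx
    have n1 := @hN Tx haff ((CategoryTheory.Limits.pullback.fst Tx.hom f).appTop.hom.toAlgebra) hfin hfree
      (fun a => rfl) ((CategoryTheory.Over.pullback f).map g ≫ t')
    have n2 := @hN' Tx haff ((CategoryTheory.Limits.pullback.fst Tx.hom f).appTop.hom.toAlgebra) hfin hfree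
      (fun a => rfl) ((CategoryTheory.Over.pullback f).map g ≫ t')
    exact e1.symm.trans ((n1.trans n2.symm).trans e2)
  apply Sheaf.hom_ext
  apply NatTrans.ext
  funext T
  apply AddCommGrpCat.hom_ext
  apply AddMonoidHom.ext
  intro s
  have h := key T.unop (Additive.toMul s.down)
  rw [CGrpSh3.normPt_def, CGrpSh3.normPt_def] at h
  apply ULift.ext
  exact Additive.toMul.injective h

end Groth.Agent.S15383
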