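import Groth.Statements.S15391
import Mathlib

set_option autoImplicit false
universe u
open TensorProduct
open TorFree

namespace Groth.Agent.S15391

open TensorProduct
theorem exists_smul_eq_zero_of_minimal (R : Type u) [CommRing R] [IsReduced R]
    (M : Type u) [AddCommGroup M] [Module R M] (t : M) (p : Ideal R) (hp : p ∈ minimalPrimes R)
    [hpp : p.IsPrime]
    (ht : (1 : p.ResidueField) ⊗ₜ[R] t = (0 : p.ResidueField ⊗[R] M)) :
    ∃ s : R, s ∉ p ∧ s • t = 0 := by
  have hdim : Ring.KrullDimLE 0 (Localization.AtPrime p) :=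
    Ring.KrullDimLE.of_isLocalization p hp _
  have hred : IsReduced (Localization.AtPrime p) := inferInstance
  have hfield : IsField (Localization.AtPrime p) := Ring.KrullDimLE.isField_of_isReduced
  have hmax : IsLocalRing.maximalIdeal (Localization.AtPrime p) = ⊥ :=
    IsLocalRing.isField_iff_maximalIdeal_eq.mp hfield
  -- residue map is injective
  have hinj : Function.Injective (IsLocalRing.residue (Localization.AtPrime p)) := by
    rw [injective_iff_map_eq_zero]
    intro x hx
    rw [IsLocalRing.residue_eq_zero_iff, hmax] at hx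
    exact hx
  have hbij : Function.Bijective (IsLocalRing.residue (Localization.AtPrime p)) :=
    ⟨hinj, IsLocalRing.residue_surjective⟩
  let e : Localization.AtPrime p ≃ₗ[R] p.ResidueField :=
    LinearEquiv.ofBijective
      ((IsScalarTower.toAlgHom R (Localization.AtPrime p) p.ResidueField).toLinearMap) hbij
  have h1 : (e.toLinearMap.rTensor M) ((1 : Localization.AtPrime p) ⊗ₜ[R] t) = 0 := by
    rw [LinearMap.rTensor_tmul]
    have : e.toLinearMap (1 : Localization.AtPrime p) = 1 := map_one (IsLocalRing.residue _)
    rw [this]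
    exact ht
  have h2 : (1 : Localization.AtPrime p) ⊗ₜ[R] t = 0 := by
    have hi : Function.Injective (e.toLinearMap.rTensor M) := (e.rTensor M).injective
    exact hi (by rw [h1, map_zero])
  have h3 : TensorProduct.mk R (Localization.AtPrime p) M 1 t = 0 := h2
  rw [IsLocalizedModule.eq_zero_iff p.primeCompl] at h3
  obtain ⟨s, hs⟩ := h3
  exact ⟨s.1, s.2, hs⟩


/-- Let R be a reduced Noetherian commutative ring, M a finitely generated torsion-free R-module (no
non-zero element of M is annihilated by a non-zero-divisor of R), and t an element of M whose image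
1 ⊗ t in the fibre κ(p) ⊗_R M vanishes for every prime ideal p of R, κ(p) being the residue field at
p. Then t = 0. This is the affine form of the claim that a global section of a coherent torsion-free
module on a reduced Noetherian scheme which vanishes in every fibre is zero. -/
theorem result (R : Type u) [CommRing R] [IsReduced R] [IsNoetherianRing R]
    (M : Type u) [AddCommGroup M] [Module R M] [Module.Finite R M] [Module.IsTorsionFree R M]
    (t : M) (ht : ∀ p : PrimeSpectrum R, (1 : p.asIdeal.ResidueField) ⊗ₜ[R] t = (0 : p.asIdeal.ResidueField ⊗[R] M)) :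
    t = 0 := by
  classical
  -- annihilator of t
  let I : Ideal R := LinearMap.ker (LinearMap.toSpanSingleton R M t)
  have hI : ∀ s : R, s ∈ I ↔ s • t = 0 := fun s => by
    simp [I, LinearMap.mem_ker, LinearMap.toSpanSingleton_apply]
  have hfin : (minimalPrimes R).Finite := minimalPrimes.finite_of_isNoetherianRing R
  have hnot : ¬ ((I : Set R) ⊆ ⋃ p ∈ (↑hfin.toFinset : Set (Ideal R)), (p : Set R)) := by
    intro hsub
    rw [Ideal.subset_union_prime (f := fun p : Ideal R => p) ⊥ ⊥
      (fun p hp _ _ => (hfin.mem_toFinset.mp hp).1.1)] at hsub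
    obtain ⟨p, hp, hIp⟩ := hsub
    have hp' : p ∈ minimalPrimes R := hfin.mem_toFinset.mp hp
    have hpp : p.IsPrime := hp'.1.1
    obtain ⟨s, hsp, hst⟩ := exists_smul_eq_zero_of_minimal R M t p hp' (ht ⟨p, hpp⟩)
    exact hsp (hIp ((hI s).mpr hst))
  rw [Set.not_subset] at hnot
  obtain ⟨s, hsI, hsU⟩ := hnot
  have hs : ∀ p ∈ minimalPrimes R, s ∉ p := by
    intro p hp hsp
    apply hsU
    simp only [Set.mem_iUnion, SetLike.mem_coe, exists_prop]
    exact ⟨p, hfin.mem_toFinset.mpr hp, hsp⟩
  have hreg : IsRegular s := by
    rw [← isLeftRegular_iff_isRegular]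
    intro a b hab
    have h0 : s * (a - b) = 0 := by rw [mul_sub]; exact sub_eq_zero.mpr hab
    have hmem : a - b ∈ (⊥ : Ideal R).radical := by
      rw [← Ideal.sInf_minimalPrimes, Ideal.mem_sInf]
      intro p hp
      have hpp : p.IsPrime := hp.1.1
      have : s * (a - b) ∈ p := by rw [h0]; exact p.zero_mem
      exact (hpp.mem_or_mem this).resolve_left (hs p hp)
    have hnil : IsNilpotent (a - b) := by
      obtain ⟨n, hn⟩ := hmem
      exact ⟨n, hn⟩
    exact sub_eq_zero.mp hnil.eq_zero
  have hsm : IsSMulRegular M s := Module.IsTorsionFree.isSMulRegular hreg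
  apply hsm
  show s • t = s • 0
  rw [smul_zero]
  exact (hI s).mp hsI

end Groth.Agent.S15391
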