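import Groth.Statements.S15431
import Mathlib

set_option autoImplicit false
universe u
open GrSyz

namespace Groth.Agent.S15431


/-- The constant coefficient kills the irrelevant ideal of the standard grading. -/
theorem constantCoeff_eq_zero_of_mem_irrel (k : Type u) [Field k] (σ : Type) (x : MvPolynomial σ k)
    (hx : x ∈ (GrSyz.irrel (GrSyz.stdGr k σ)).toIdeal) : MvPolynomial.constantCoeff x = 0 := by
  have hle : (GrSyz.irrel (GrSyz.stdGr k σ)).toIdeal ≤
      RingHom.ker (MvPolynomial.constantCoeff (R := k) (σ := σ)) := by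
    show Ideal.span _ ≤ _
    rw [Ideal.span_le]
    rintro y ⟨n, hn, hy⟩
    rw [SetLike.mem_coe, RingHom.mem_ker]
    have hy' : y.IsWeightedHomogeneous (fun _ : σ => (1 : ℤ)) n := hy
    rw [MvPolynomial.constantCoeff_eq]
    by_contra hne
    have := hy' hne
    simp at this
    omega
  exact hle hx

/-- A homogeneous element of degree `≤ 0` of the irrelevant ideal vanishes. -/
theorem eq_zero_of_mem_irrel_of_mem_stdGr (k : Type u) [Field k] (σ : Type)
    (x : MvPolynomial σ k) (n : ℤ) (hn : n ≤ 0) (hx : x ∈ GrSyz.stdGr k σ n)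
    (hx' : x ∈ (GrSyz.irrel (GrSyz.stdGr k σ)).toIdeal) : x = 0 := by
  have hx'' : x.IsWeightedHomogeneous (fun _ : σ => (1 : ℤ)) n := hx
  ext m
  rw [MvPolynomial.coeff_zero]
  by_contra hne
  have hw := hx'' hne
  -- the weight of `m` is `≥ 0`, so `n = 0` and `m = 0`
  have hw0 : (0 : ℤ) ≤ Finsupp.weight (fun _ : σ => (1 : ℤ)) m := by
    rw [Finsupp.weight_apply]
    exact Finsupp.sum_nonneg (fun i _ => by positivity)
  have hweq : Finsupp.weight (fun _ : σ => (1 : ℤ)) m = 0 := by omega
  have hm : m = 0 := by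
    ext i
    by_contra hi
    have hi' : 0 < m i := Nat.pos_of_ne_zero hi
    have : (m i : ℤ) ≤ Finsupp.weight (fun _ : σ => (1 : ℤ)) m := by
      rw [Finsupp.weight_apply, Finsupp.sum]
      have hmem : i ∈ m.support := Finsupp.mem_support_iff.mpr hi
      have := Finset.single_le_sum (f := fun j => m j • (1 : ℤ)) (fun j _ => by positivity) hmem
      simpa using this
    omega
  rw [hm] at hne
  exact hne (constantCoeff_eq_zero_of_mem_irrel k σ x hx')

/-- Let k be a field, S = k[x_0, …, x_r] graded by degree, 𝔪 = (x_0, …, x_r), M a finitely generated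
ℤ-graded S-module and F a minimal graded free resolution of M by free modules of finite rank with
homogeneous bases (all matrix entries in 𝔪), so that its basis degrees give the graded Betti
numbers. If for some i the graded Betti numbers β_{i,j} vanish for all j < d, that is every basis
vector of F_i has degree at least d, then β_{i+1,j+1} = 0 for all j < d: every basis vector of
F_{i+1} has degree at least d + 1. -/
theorem result (k : Type u) [Field k] (r : ℕ)
    (M : Type u) [AddCommGroup M] [Module k M] [Module (MvPolynomial (Fin (r + 1)) k) M]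
    [IsScalarTower k (MvPolynomial (Fin (r + 1)) k) M] [Module.Finite (MvPolynomial (Fin (r + 1)) k) M]
    (ℳ : ℤ → Submodule k M) [DirectSum.Decomposition ℳ] [SetLike.GradedSMul (GrSyz.stdGr k (Fin (r + 1))) ℳ]
    (F : GrSyz.FreeRes (GrSyz.stdGr k (Fin (r + 1))) ℳ) (hF : F.IsMinimal (GrSyz.irrel (GrSyz.stdGr k (Fin (r + 1)))).toIdeal) (i : ℕ) (d : ℤ)
    (h : ∀ a : Fin (F.rk i), d ≤ F.deg i a) (b : Fin (F.rk (i + 1))) :
    d + 1 ≤ F.deg (i + 1) b := by
  by_contra hcon
  have hle : F.deg (i + 1) b ≤ d := by omega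
  -- the column `b` of `d i` vanishes
  have hcol : ∀ a : Fin (F.rk i), F.d i a b = 0 := by
    intro a
    refine eq_zero_of_mem_irrel_of_mem_stdGr k (Fin (r + 1)) _ (F.deg (i + 1) b - F.deg i a) ?_
      (F.d_mem i a b) (hF i a b)
    have := h a
    omega
  -- so the basis vector `e_b` lies in the kernel of `d i`, hence in the range of `d (i+1)`
  have hker : (Pi.single b (1 : MvPolynomial (Fin (r + 1)) k) : Fin (F.rk (i + 1)) → _) ∈
      LinearMap.ker (Matrix.mulVecLin (F.d i)) := by
    rw [LinearMap.mem_ker, Matrix.mulVecLin_apply, Matrix.mulVec_single_one]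
    funext a
    exact hcol a
  rw [F.exact_succ i] at hker
  obtain ⟨v, hv⟩ := hker
  have hb := congrFun hv b
  rw [Matrix.mulVecLin_apply, Pi.single_eq_same] at hb
  -- `1 ∈ 𝔪`, contradiction
  have h1 : (1 : MvPolynomial (Fin (r + 1)) k) ∈
      (GrSyz.irrel (GrSyz.stdGr k (Fin (r + 1)))).toIdeal := by
    rw [← hb]
    show ∑ c, F.d (i + 1) b c * v c ∈ _
    exact Ideal.sum_mem _ fun c _ => Ideal.mul_mem_right _ _ (hF (i + 1) b c)
  have := constantCoeff_eq_zero_of_mem_irrel k (Fin (r + 1)) 1 h1
  simp at this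

end Groth.Agent.S15431
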