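import Groth.Statements.S1544
import Groth.Agent.Lib.Helper1.FPS6

set_option autoImplicit false
universe u
open CategoryTheory CategoryTheory.Limits AlgebraicGeometry
attribute [local instance] Curv2.resAlgebra Curv2.stalkAlgebra
open Variety

namespace Groth.Agent.S1544

open CategoryTheory CategoryTheory.Limits AlgebraicGeometry in
/-- the inclusion of a local ring of an integral `k`-scheme into the function field, as a
`k`-algebra map. -/
noncomputable def stalkToFunctionField (k : Type u) [Field k] (X : Scheme.{u})
    [X.Over (Spec (CommRingCat.of k))] [IsIntegral X] (x : X) :
    X.presheaf.stalk x →ₐ[k] X.functionField :=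
  { algebraMap (X.presheaf.stalk x) X.functionField with
    commutes' := fun a => by
      change (X.presheaf.stalkSpecializes ((genericPoint_spec X).specializes trivial)).hom
        ((X.presheaf.germ ⊤ x trivial).hom (Coh.toGlobal (X ↘ Spec (CommRingCat.of k)) a)) =
        (X.presheaf.germ ⊤ (genericPoint X) trivial).hom
          (Coh.toGlobal (X ↘ Spec (CommRingCat.of k)) a)
      rw [← CommRingCat.comp_apply, X.presheaf.germ_stalkSpecializes] }

/-- For an integral scheme over k, geometric reducedness of the scheme is equivalent to geometric
reducedness over k of the function field (the local ring at the generic point), i.e. a separable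
extension of k in the sense of commutative algebra. The source states this for varieties;
integrality is what the proof uses. -/
theorem result (k : Type u) [Field k] (X : Scheme.{u}) [X.Over (Spec (CommRingCat.of k))] [IsIntegral X] :
    GeometricallyReduced (X ↘ (Spec (CommRingCat.of k))) ↔ Algebra.IsGeometricallyReduced k X.functionField := by
  constructor
  · intro h
    apply Groth.Agent.Lib.Helper1.FPS.isGeometricallyReduced_stalk_of_forall_purelyInseparable
    intro k' _ _ _ _ x' _
    have h1 : geometrically IsReduced (X ↘ Spec (CommRingCat.of k)) :=
      (geometricallyReduced_iff _).mp h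
    haveI h2 : IsReduced (pullback (X ↘ Spec (CommRingCat.of k))
        (Spec.map (CommRingCat.ofHom (algebraMap k k')))) :=
      geometrically_iff_of_commRing_of_isClosedUnderIsomorphisms.mp h1 k'
    change _root_.IsReduced ((pullback (X ↘ Spec (CommRingCat.of k))
      (Spec.map (CommRingCat.ofHom (algebraMap k k')))).presheaf.stalk x')
    infer_instance
  · intro h
    rw [geometricallyReduced_iff, geometrically_iff_of_commRing_of_isClosedUnderIsomorphisms]
    intro K _ _
    haveI : ∀ z : ↥(pullback (X ↘ Spec (CommRingCat.of k))
        (Spec.map (CommRingCat.ofHom (algebraMap k K)))),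
        _root_.IsReduced ((pullback (X ↘ Spec (CommRingCat.of k))
          (Spec.map (CommRingCat.ofHom (algebraMap k K)))).presheaf.stalk z) := by
      intro z
      haveI : Algebra.IsGeometricallyReduced k
          ↥(X.presheaf.stalk ((Curv2.bcFst k X K).base z)) :=
        Algebra.IsGeometricallyReduced.of_injective (stalkToFunctionField k X _)
          (IsFractionRing.injective _ _)
      exact Groth.Agent.Lib.Helper1.FPS.isReduced_stalk_of_isGeometricallyReduced k X
        ((Curv2.bcFst k X K).base z) K z specializes_rfl
    exact isReduced_of_isReduced_stalk _

end Groth.Agent.S1544
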