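import Groth.Statements.S15448
import Mathlib
import Groth.Agent.Lib.Helper20.WeilCohDim

set_option autoImplicit false
universe u v
open CategoryTheory AlgebraicGeometry
open WeilCoh

namespace Groth.Agent.S15448



open CategoryTheory AlgebraicGeometry CategoryTheory.Limits
open WeilCoh
open Groth.Agent.Lib.Helper20.WeilCohLib

/-- For a Weil cohomology theory H^* (coefficients in K of characteristic zero, on nonsingular connected
projective varieties over an algebraically closed field k), a morphism f : X → Y of such varieties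
and an irreducible closed subvariety Z ⊆ X, f_*(cl(Z)) = deg(Z/f(Z)) · cl(f(Z)). Here Z is given by
its generic point ξ, f(Z) is the closed irreducible subset with generic point f(ξ), and deg(Z/f(Z))
is the degree of κ(ξ) over κ(f(ξ)), equal to 0 when this extension is infinite, i.e. when dim f(Z) <
dim Z; both sides are read in the total cohomology ring of Y. -/
theorem result (k : Type u) [Field k] [IsAlgClosed k] (K : Type v) [Field K] [CharZero K]
    (T : WeilCoh.Theory k K) (X Y : WeilCoh.Var k) (f : X ⟶ Y)
    (ξ : ↥X.obj.left) :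
    (T.push f (2 * (WeilCoh.codim X.obj.left ξ : ℤ)) ⟨T.cl X ξ, T.cl_mem X ξ⟩ : T.H Y) =
      ((WeilCoh.sm f).residueDegree ξ : K) • T.cl Y (WeilCoh.sm f ξ) := by

  classical
  have hX := pdim_le_dim X ξ
  have hY := pdim_le_dim Y (sm f ξ)
  have hcodX : (codim X.obj.left ξ : ℤ) = (dim X.obj.left : ℤ) - (pdim X.obj.left ξ : ℤ) := by
    unfold codim
    omega
  have hcodY : (codim Y.obj.left (sm f ξ) : ℤ) =
      (dim Y.obj.left : ℤ) - (pdim Y.obj.left (sm f ξ) : ℤ) := by
    unfold codim
    omega
  refine eq_of_forall_tr_mul T (2 * ((dim Y.obj.left : ℤ) - (pdim X.obj.left ξ : ℤ)))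
    (2 * (pdim X.obj.left ξ : ℤ)) (by ring) _ _ ?_ ?_ ?_
  · have h := (T.push f (2 * (codim X.obj.left ξ : ℤ)) ⟨T.cl X ξ, T.cl_mem X ξ⟩).2
    convert h using 2
    rw [hcodX]; ring
  · by_cases h0 : (sm f).residueDegree ξ = 0
    · rw [h0, Nat.cast_zero, zero_smul]
      exact Submodule.zero_mem _
    · have hpd : pdim Y.obj.left (sm f ξ) = pdim X.obj.left ξ :=
        pdim_map_of_residueDegree_ne_zero f ξ h0
      apply Submodule.smul_mem
      have := T.cl_mem Y (sm f ξ)
      rw [hcodY, hpd] at this
      exact this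
  · intro b hb
    rw [tr_push_mul' T f _ (2 * (pdim X.obj.left ξ : ℤ)) _ b hb (by rw [hcodX]; ring)]
    show T.tr X (T.cl X ξ * T.pull f b) = _
    rw [T.cl_push f ξ b hb, smul_mul_assoc, map_smul, smul_eq_mul]

end Groth.Agent.S15448
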