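import Groth.Statements.S15449
import Mathlib
import Groth.Agent.Lib.Helper20.WeilCoh

set_option autoImplicit false
universe u v
open CategoryTheory AlgebraicGeometry
open WeilCoh

namespace Groth.Agent.S15449


open Groth.Agent.Lib.Helper20.WeilCohLib

/-- For a Weil cohomology theory H^* (coefficients in K of characteristic zero, on nonsingular connected
projective varieties over an algebraically closed field k), such varieties X and Y with product X ×
Y and projections p, q, and α ∈ H^i(Y): p_*(q^*(α)) = Tr_Y(α) (as a multiple of 1 ∈ H^0(X)) if i = 2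
dim Y, and p_*(q^*(α)) = 0 otherwise. The product is any object Q with morphisms p : Q → X, q : Q →
Y forming a cartesian square over Spec k; both sides are read in the total cohomology ring of X. -/
theorem result (k : Type u) [Field k] [IsAlgClosed k] (K : Type v) [Field K] [CharZero K]
    (T : WeilCoh.Theory k K) (X Y Q : WeilCoh.Var k) (p : Q ⟶ X) (q : Q ⟶ Y)
    (hQ : WeilCoh.IsProd p q) (i : ℤ) (a : ↥(T.gr Y i)) :
    (i = 2 * (WeilCoh.dim Y.obj.left : ℤ) →
      (T.push p i ⟨T.pull q a, T.pull_mem q i a a.2⟩ : T.H X) = algebraMap K (T.H X) (T.tr Y a)) ∧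
    (i ≠ 2 * (WeilCoh.dim Y.obj.left : ℤ) →
      (T.push p i ⟨T.pull q a, T.pull_mem q i a a.2⟩ : T.H X) = 0) := by
  have hd := dim_prod T p q hQ
  obtain ⟨a, haa⟩ := a
  have hd' : (dim Q.obj.left : ℤ) = dim X.obj.left + dim Y.obj.left := by exact_mod_cast hd
  constructor
  · intro hi
    refine eq_of_forall_tr_mul T (i + 2 * (dim X.obj.left : ℤ) - 2 * (dim Q.obj.left : ℤ))
      (2 * (dim Q.obj.left : ℤ) - i) (by ring) _ _ (Subtype.mem _) ?_ ?_
    · rw [Algebra.algebraMap_eq_smul_one]
      have h0 : i + 2 * (dim X.obj.left : ℤ) - 2 * (dim Q.obj.left : ℤ) = 0 := by omega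
      rw [h0]
      exact (T.gr X 0).smul_mem _ (SetLike.one_mem_graded (T.gr X))
    · intro b hb
      rw [tr_push_mul T p i _ b hb]
      have hb' : b ∈ T.gr X (2 * (dim X.obj.left : ℤ)) := by
        have : 2 * (dim Q.obj.left : ℤ) - i = 2 * (dim X.obj.left : ℤ) := by omega
        rwa [this] at hb
      have ha' : a ∈ T.gr Y (2 * (dim Y.obj.left : ℤ)) := by
        rwa [hi] at haa
      show T.tr Q (T.pull q a * T.pull p b) = T.tr X (algebraMap K (T.H X) (T.tr Y a) * b)
      rw [mul_comm_of_even T _ _ _ _ (T.pull_mem q _ _ ha') (T.pull_mem p _ _ hb')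
        (Or.inl (even_two_mul _)), T.tr_prod p q hQ b a hb' ha']
      rw [Algebra.algebraMap_eq_smul_one, smul_mul_assoc, one_mul, map_smul, smul_eq_mul, mul_comm]
  · intro hi
    refine eq_of_forall_tr_mul T (i + 2 * (dim X.obj.left : ℤ) - 2 * (dim Q.obj.left : ℤ))
      (2 * (dim Q.obj.left : ℤ) - i) (by ring) _ _ (Subtype.mem _) (Submodule.zero_mem _) ?_
    intro b hb
    rw [tr_push_mul T p i _ b hb, zero_mul, map_zero]
    show T.tr Q (T.pull q a * T.pull p b) = 0
    by_cases h1 : 2 * (dim Y.obj.left : ℤ) < i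
    · have := T.vanish Y i (Or.inr h1)
      rw [this] at haa
      rw [(Submodule.mem_bot K).mp haa]; simp
    · have h2 : 2 * (dim X.obj.left : ℤ) < 2 * (dim Q.obj.left : ℤ) - i := by omega
      have := T.vanish X _ (Or.inr h2)
      rw [this] at hb
      rw [(Submodule.mem_bot K).mp hb]; simp

end Groth.Agent.S15449
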