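import Groth.Statements.S15456
import Mathlib
import Groth.Agent.Lib.Helper20.WeilCohFrob
import Groth.Agent.Lib.Helper20.ZetaFE

set_option autoImplicit false
universe u v
open CategoryTheory AlgebraicGeometry
open WeilCoh

namespace Groth.Agent.S15456


open Groth.Agent.Lib.Helper20.WeilCohLib

theorem even_finrank_middle {k : Type u} [Field k] [IsAlgClosed k] {K : Type v} [Field K] [CharZero K]
    (T : WeilCoh.Theory k K) (Xb : WeilCoh.Var k) (hn : Odd (WeilCoh.dim Xb.obj.left)) :
    Even (Module.finrank K ↥(T.gr Xb ((WeilCoh.dim Xb.obj.left : ℕ) : ℤ))) := by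
  have hP := T.duality Xb (WeilCoh.dim Xb.obj.left : ℤ) (WeilCoh.dim Xb.obj.left : ℤ) (by ring)
  refine Groth.Agent.Lib.Helper20.DualDet.even_finrank_of_alternating
    (pairing K (T.gr Xb (WeilCoh.dim Xb.obj.left : ℤ)) (T.gr Xb (WeilCoh.dim Xb.obj.left : ℤ))
      (T.tr Xb)) ?_
  intro a b
  rw [pairing_apply, pairing_apply]
  have h := T.gradedComm Xb _ _ (a : T.H Xb) (b : T.H Xb) a.2 b.2
  rw [Int.natAbs_natCast, (hn.mul hn).neg_one_pow, neg_one_smul] at h
  rw [h, map_neg]

/-- Let k₀ be a finite field with q elements, k an algebraically closed field containing k₀, H^* a Weil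
cohomology theory, with coefficient field K of characteristic zero, on nonsingular connected
projective varieties over k, X a scheme of finite type over k₀ whose base change X̄ = X ×_{k₀} k is
such a variety (as it is when X is nonsingular, projective and geometrically connected), and F =
Frob_{X,q} × id the k-endomorphism of X̄ induced by the q-Frobenius of X; let n = dim X̄ and E =
(Δ²) the self-intersection of the diagonal of X̄, which equals Σ_i (−1)^i dim_K H^i(X̄). Then Z(X,
1/(q^n t)) = ± q^{nE/2} t^E Z(X, t). Stated in the field K(t) of rational functions for Z(t) = P_1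
P_3 ⋯ P_{2n−1} / (P_0 P_2 ⋯ P_{2n}), P_i(t) = det(Id − t F^* | H^i(X̄)) (the reverse of the
characteristic polynomial), which is the zeta function of X by its cohomological factorisation; E is
written as the alternating sum of the dimensions, nE is even, and the sign is left unspecified as in
the published statement. The q-Frobenius of X is pinned as the endomorphism that is the identity on
points and the q-th power on sections, X̄ as a cartesian square over Spec k → Spec k₀, and F by its
compatibility with the projection to X. -/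
theorem result (k₀ : Type u) [Field k₀] [Finite k₀] (k : Type u) [Field k] [IsAlgClosed k] [Algebra k₀ k]
    (K : Type v) [Field K] [CharZero K] (T : WeilCoh.Theory k K)
    {X : Scheme.{u}} (f : X ⟶ Spec (CommRingCat.of k₀)) [LocallyOfFiniteType f] [QuasiCompact f]
    (FX : X ⟶ X) (hFb : FX.base = 𝟙 _) (hle : ∀ U : X.Opens, U ≤ FX ⁻¹ᵁ U)
    (hFapp : ∀ (U : X.Opens) (s : Γ(X, U)), (FX.appLE U U (hle U)).hom s = s ^ Nat.card k₀)
    (Xb : WeilCoh.Var k) (π : Xb.obj.left ⟶ X)
    (hπ : IsPullback π Xb.obj.hom f (Spec.map (CommRingCat.ofHom (algebraMap k₀ k))))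
    (F : Xb ⟶ Xb) (hF : WeilCoh.sm F ≫ π = π ≫ FX) :
    ∃ ε : K, (ε = 1 ∨ ε = -1) ∧
      Polynomial.aeval ((RatFunc.X : RatFunc K)⁻¹ * RatFunc.C ((Nat.card k₀ : K) ^ WeilCoh.dim Xb.obj.left)⁻¹)
          (∏ i ∈ Finset.range (WeilCoh.dim Xb.obj.left),
            (LinearMap.charpoly (T.pullDeg F ((2 * i + 1 : ℕ) : ℤ))).reverse) /
        Polynomial.aeval ((RatFunc.X : RatFunc K)⁻¹ * RatFunc.C ((Nat.card k₀ : K) ^ WeilCoh.dim Xb.obj.left)⁻¹)
          (∏ i ∈ Finset.range (WeilCoh.dim Xb.obj.left + 1),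
            (LinearMap.charpoly (T.pullDeg F ((2 * i : ℕ) : ℤ))).reverse) =
      RatFunc.C ε * RatFunc.C (Nat.card k₀ : K) ^ ((WeilCoh.dim Xb.obj.left : ℤ) * (∑ i ∈ Finset.range (2 * WeilCoh.dim Xb.obj.left + 1), (-1 : ℤ) ^ i * (Module.finrank K ↥(T.gr Xb (i : ℤ)) : ℤ)) / 2) *
        (RatFunc.X : RatFunc K) ^ (∑ i ∈ Finset.range (2 * WeilCoh.dim Xb.obj.left + 1), (-1 : ℤ) ^ i * (Module.finrank K ↥(T.gr Xb (i : ℤ)) : ℤ)) *
        (algebraMap (Polynomial K) (RatFunc K)
          (∏ i ∈ Finset.range (WeilCoh.dim Xb.obj.left),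
            (LinearMap.charpoly (T.pullDeg F ((2 * i + 1 : ℕ) : ℤ))).reverse) /
         algebraMap (Polynomial K) (RatFunc K)
          (∏ i ∈ Finset.range (WeilCoh.dim Xb.obj.left + 1),
            (LinearMap.charpoly (T.pullDeg F ((2 * i : ℕ) : ℤ))).reverse)) := by
  have hq : (Nat.card k₀ : K) ≠ 0 := by
    have : Nat.card k₀ ≠ 0 := Nat.card_pos.ne'
    exact_mod_cast this
  have hcore := fun (i : ℕ) (hi : i ≤ 2 * WeilCoh.dim Xb.obj.left) =>
    Groth.Agent.Lib.Helper20.WeilCohFrob.det_charpoly_of_tr_pull T F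
      ((Nat.card k₀ : K) ^ WeilCoh.dim Xb.obj.left)
      (fun a ha => Groth.Agent.Lib.Helper20.WeilCohFrob.tr_pull_frob k₀ k K T f FX hFb hle hFapp Xb π
        hπ F hF a ha) (i : ℤ) ((2 * WeilCoh.dim Xb.obj.left - i : ℕ) : ℤ) (by omega)
  exact Groth.Agent.Lib.Helper20.ZetaFE.zeta_fe (WeilCoh.dim Xb.obj.left) (Nat.card k₀ : K)
    (fun i => Module.finrank K ↥(T.gr Xb (i : ℤ)))
    (fun i => LinearMap.det (T.pullDeg F (i : ℤ)))
    (fun i => LinearMap.charpoly (T.pullDeg F (i : ℤ))) hq
    (fun i hi => (hcore i hi).1)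
    (fun i hi => (hcore i hi).2)
    (fun i hi => (finrank_eq_of_add_eq T Xb (i : ℤ) ((2 * WeilCoh.dim Xb.obj.left - i : ℕ) : ℤ)
      (by omega)).symm)
    (fun i => LinearMap.charpoly_natDegree _)
    (fun hn => even_finrank_middle T Xb hn)

end Groth.Agent.S15456
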