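import Groth.Statements.S15458
import Mathlib
import Groth.Agent.Lib.Helper20.WeilCohDim
import Groth.Agent.Lib.Helper20.WeilCohZero1

set_option autoImplicit false
universe u v
open CategoryTheory AlgebraicGeometry
open WeilCoh

namespace Groth.Agent.S15458



open CategoryTheory AlgebraicGeometry CategoryTheory.Limits
open WeilCoh
open Groth.Agent.Lib.Helper20.WeilCohLib

universe w

section aux
variable {k : Type u} [Field k] [IsAlgClosed k]

omit [IsAlgClosed k] in
theorem trdeg_eq_zero_of_residueDegree_ne_zero {X Y : Scheme.{u}} (f : X ⟶ Y) (ξ : X)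
    (hfin : f.residueDegree ξ ≠ 0) :
    @Algebra.trdeg (Y.residueField (f ξ)) (X.residueField ξ) _ _
      (f.residueFieldMap ξ).hom.toAlgebra = ((0 : ℕ) : Cardinal) := by
  letI := (f.residueFieldMap ξ).hom.toAlgebra
  have hpos : 0 < Module.finrank (Y.residueField (f ξ)) (X.residueField ξ) :=
    Nat.pos_of_ne_zero hfin
  haveI : Module.Finite (Y.residueField (f ξ)) (X.residueField ξ) :=
    Module.finite_of_finrank_pos hpos
  rw [Nat.cast_zero]
  exact _root_.trdeg_eq_zero

omit [IsAlgClosed k] in
theorem mapCoeff_eq {X Y : Var k} (f : X ⟶ Y)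
    (δX : ↥X.obj.left → ℤ) (hδX : Cyc.DeltaCompat X.obj.hom δX (fun _ => 0))
    (δY : ↥Y.obj.left → ℤ) (hδY : Cyc.DeltaCompat Y.obj.hom δY (fun _ => 0)) (x : X.obj.left) :
    AlgebraicCycle.mapCoeff (sm f) δX δY x = (sm f).residueDegree x := by
  unfold AlgebraicCycle.mapCoeff
  split_ifs with h
  · rfl
  · by_contra hne
    apply h
    have hne' : (sm f).residueDegree x ≠ 0 := fun h0 => hne h0.symm
    have hw : sm f ≫ Y.obj.hom = X.obj.hom := Over.w f.hom
    rw [← hw] at hδX
    obtain ⟨n, hn, hδn⟩ := hδX x
    obtain ⟨m, hm, hδm⟩ := hδY (sm f x)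
    have hc := trdeg_eq_zero_of_residueDegree_ne_zero (sm f) x hne'
    have h3 := Groth.Agent.Lib.Helper21.FibDim.trdeg_comp (sm f) Y.obj.hom x m 0 hm hc
    have h4 : (n : Cardinal) = ((m + 0 : ℕ) : Cardinal) := hn.symm.trans h3
    have hnm : n = m := by
      have := Nat.cast_injective (R := Cardinal) h4
      omega
    simp only [zero_add] at hδn hδm
    rw [hδn, hδm, hnm]

variable {K : Type v} [Field K] (T : TheoryOn.{u, v, w} k (IsVar k) K)

theorem tr_cl_mul_pull {X Y : Var k} (f : X ⟶ Y) (x : X.obj.left) (b : T.H Y) :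
    T.tr X (T.cl X x * T.pull f b) =
      ((sm f).residueDegree x : K) * T.tr Y (T.cl Y (sm f x) * b) := by
  refine homogeneous_induction T (fun b => T.tr X (T.cl X x * T.pull f b) =
      ((sm f).residueDegree x : K) * T.tr Y (T.cl Y (sm f x) * b)) ?_ ?_ ?_ b
  · simp
  · intro b b' h h'
    simp only [map_add, mul_add, h, h']
  · intro j b hb
    by_cases hj : j = 2 * (pdim X.obj.left x : ℤ)
    · subst hj
      exact T.cl_push f x b hb
    · have hX := pdim_le_dim X x
      have hcodX : (codim X.obj.left x : ℤ) = (dim X.obj.left : ℤ) - (pdim X.obj.left x : ℤ) := by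
        unfold codim
        omega
      have h1 : T.tr X (T.cl X x * T.pull f b) = 0 := by
        refine T.tr_vanish X _ _
          (SetLike.mul_mem_graded (T.cl_mem X x) (T.pull_mem f j b hb)) ?_
        rw [hcodX]
        intro h
        apply hj
        linarith
      rw [h1]
      by_cases h0 : (sm f).residueDegree x = 0
      · rw [h0]; simp
      · have hpd := pdim_map_of_residueDegree_ne_zero f x h0
        have hY := pdim_le_dim Y (sm f x)
        have hcodY : (codim Y.obj.left (sm f x) : ℤ) =
            (dim Y.obj.left : ℤ) - (pdim Y.obj.left (sm f x) : ℤ) := by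
          unfold codim
          omega
        have h2 : T.tr Y (T.cl Y (sm f x) * b) = 0 := by
          refine T.tr_vanish Y _ _ (SetLike.mul_mem_graded (T.cl_mem Y (sm f x)) hb) ?_
          rw [hcodY, hpd]
          intro h
          apply hj
          linarith
        rw [h2, mul_zero]

end aux

/-- The cycle class map is compatible with push-forward: for a Weil cohomology theory H^* (coefficients
in K of characteristic zero, on nonsingular connected projective varieties over an algebraically
closed field k), a morphism f : X → Y of such varieties and a cycle α on X, f_*(cl(α)) = cl(f_*(α)).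
Stated through the identity characterising the cohomological push-forward: Tr_Y(cl(f_* α) ∪ β) =
Tr_X(cl(α) ∪ f^*(β)) for every β ∈ H^*(Y), where f_* α is the proper push-forward of cycles (the
coefficient of [V] goes to deg(V/f(V)) [f(V)], and to 0 when f(V) has smaller dimension) for the
dimension functions δ_X, δ_Y induced from weight 0 on Spec k. -/
theorem result (k : Type u) [Field k] [IsAlgClosed k] (K : Type v) [Field K] [CharZero K]
    (T : WeilCoh.Theory k K) (X Y : WeilCoh.Var k) (f : X ⟶ Y)
    [QuasiCompact (WeilCoh.sm f)]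
    (δX : ↥X.obj.left → ℤ) (hδX : Cyc.DeltaCompat X.obj.hom δX (fun _ => 0))
    (δY : ↥Y.obj.left → ℤ) (hδY : Cyc.DeltaCompat Y.obj.hom δY (fun _ => 0))
    (α : AlgebraicCycle X.obj.left ℤ) (b : T.H Y) :
    T.tr Y (T.clCyc Y (AlgebraicCycle.map (WeilCoh.sm f) δX δY α) * b) =
      T.tr X (T.clCyc X α * T.pull f b) := by

  classical
  haveI := quasiCompact_hom X
  have hS := support_finite X α
  obtain ⟨S, hSdef⟩ : ∃ S : Finset X.obj.left, S = hS.toFinset := ⟨_, rfl⟩
  have hmemS : ∀ x, x ∉ S → α x = 0 := by
    intro x hx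
    by_contra h
    apply hx
    rw [hSdef]
    exact hS.mem_toFinset.2 h
  have hC : T.clCyc X α = ∑ x ∈ S, ((α x : ℤ) : K) • T.cl X x := by
    unfold WeilCoh.TheoryOn.clCyc
    apply finsum_eq_sum_of_support_subset
    intro x hx
    rw [Function.mem_support] at hx
    rw [Finset.mem_coe]
    by_contra h
    apply hx
    rw [hmemS x h]
    simp
  have hA : ∀ y, (((AlgebraicCycle.map (sm f) δX δY α) y : ℤ) : K) =
      ∑ x ∈ S.filter (fun x => sm f x = y), ((α x : ℤ) : K) * ((sm f).residueDegree x : K) := by
    intro y
    have h1 : (AlgebraicCycle.map (sm f) δX δY α) y =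
        ∑ x ∈ S.filter (fun x => sm f x = y), α x * (((sm f).residueDegree x : ℕ) : ℤ) := by
      unfold AlgebraicCycle.map
      rw [Function.locallyFinsupp.map_apply, finsum_mem_def, finsum_eq_sum_of_support_subset (s := S)]
      · rw [Finset.sum_filter]
        refine Finset.sum_congr rfl fun x _ => ?_
        by_cases hx : sm f x = y
        · rw [Set.indicator_of_mem (show x ∈ _ from hx), if_pos hx,
            mapCoeff_eq f δX hδX δY hδY x]
        · rw [Set.indicator_of_notMem (show x ∉ _ from hx), if_neg hx]
      · intro x hx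
        rw [Function.mem_support] at hx
        rw [Finset.mem_coe]
        by_contra h
        apply hx
        rw [Set.indicator_apply]
        split_ifs
        · rw [hmemS x h, zero_mul]
        · rfl
    rw [h1]
    push_cast
    rfl
  have hB : T.clCyc Y (AlgebraicCycle.map (sm f) δX δY α) =
      ∑ x ∈ S, (((α x : ℤ) : K) * ((sm f).residueDegree x : K)) • T.cl Y (sm f x) := by
    unfold WeilCoh.TheoryOn.clCyc
    rw [finsum_eq_sum_of_support_subset (s := S.image (fun x => sm f x))]
    · rw [← Finset.sum_fiberwise_of_maps_to (s := S) (t := S.image (fun x => sm f x))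
        (g := fun x => sm f x) (fun x hx => Finset.mem_image_of_mem _ hx)]
      refine Finset.sum_congr rfl fun y _ => ?_
      rw [hA y, Finset.sum_smul]
      refine Finset.sum_congr rfl fun x hx => ?_
      rw [(Finset.mem_filter.1 hx).2]
    · intro y hy
      rw [Function.mem_support] at hy
      rw [Finset.mem_coe]
      by_contra h
      apply hy
      rw [hA y, Finset.sum_eq_zero, zero_smul]
      intro x hx
      exfalso
      apply h
      rw [← (Finset.mem_filter.1 hx).2]
      exact Finset.mem_image_of_mem _ (Finset.mem_filter.1 hx).1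
  rw [hB, hC, Finset.sum_mul, Finset.sum_mul, map_sum, map_sum]
  refine Finset.sum_congr rfl fun x _ => ?_
  rw [smul_mul_assoc, smul_mul_assoc, map_smul, map_smul, tr_cl_mul_pull T f x b, smul_eq_mul,
    smul_eq_mul, mul_assoc]

end Groth.Agent.S15458
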