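import Groth.Statements.S15488
import Mathlib

set_option autoImplicit false
universe u
open IsoNat

namespace Groth.Agent.S15488

open Module

section S
variable {A : Type u} [CommRing A] {G : Type u} [Group G] (g : G) (l : A)

/-- the eigenspace -/
abbrev E : Submodule A (G → A) :=
  LinearMap.ker (LinearMap.funLeft A A (fun h : G => g * h) - l • LinearMap.id)

theorem mem_E (v : G → A) : v ∈ E g l ↔ ∀ h, v (g * h) = l * v h := by
  rw [LinearMap.mem_ker]
  constructor
  · intro h x
    have := congrFun h x
    simp only [LinearMap.sub_apply, LinearMap.funLeft_apply, LinearMap.smul_apply,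
      LinearMap.id_coe, id_eq, Pi.sub_apply, Pi.smul_apply, smul_eq_mul, Pi.zero_apply] at this
    exact sub_eq_zero.mp this
  · intro h
    ext x
    simp only [LinearMap.sub_apply, LinearMap.funLeft_apply, LinearMap.smul_apply,
      LinearMap.id_coe, id_eq, Pi.sub_apply, Pi.smul_apply, smul_eq_mul, Pi.zero_apply]
    exact sub_eq_zero.mpr (h x)

variable {g l}

/-- `l` as a unit -/
noncomputable def lu (hl : l ^ orderOf g = 1) (hpos : 0 < orderOf g) : Aˣ :=
  Units.mkOfMulEqOne l (l ^ (orderOf g - 1)) (by rw [← pow_succ', Nat.sub_add_cancel hpos, hl])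

theorem lu_pow (hl : l ^ orderOf g = 1) (hpos : 0 < orderOf g) : lu hl hpos ^ orderOf g = 1 := by
  ext
  rw [Units.val_pow_eq_pow_val, Units.val_one]
  exact hl

theorem wd (hl : l ^ orderOf g = 1) (hpos : 0 < orderOf g) {a b : ℤ} (h : g ^ a = g ^ b) :
    lu hl hpos ^ a = lu hl hpos ^ b := by
  have h1 : g ^ (a - b) = 1 := by rw [zpow_sub, h, mul_inv_cancel]
  have h2 : (orderOf g : ℤ) ∣ a - b := orderOf_dvd_iff_zpow_eq_one.mpr h1
  obtain ⟨c, hc⟩ := h2
  have h3 : lu hl hpos ^ (a - b) = 1 := by
    rw [hc, zpow_mul, zpow_natCast, lu_pow, one_zpow]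
  rw [zpow_sub, mul_inv_eq_one] at h3
  exact h3

theorem lu_val (hl : l ^ orderOf g = 1) (hpos : 0 < orderOf g) : ((lu hl hpos : Aˣ) : A) = l := rfl

theorem eig_zpow {v : G → A} (hv : v ∈ E g l) (hl : l ^ orderOf g = 1) (hpos : 0 < orderOf g)
    (i : ℤ) : ∀ x : G, v (g ^ i * x) = ((lu hl hpos ^ i : Aˣ) : A) * v x := by
  rw [mem_E] at hv
  induction i using Int.induction_on with
  | zero => intro x; simp
  | succ i ih =>
    intro x
    have h1 : g ^ ((i : ℤ) + 1) * x = g * (g ^ (i : ℤ) * x) := by
      rw [add_comm, zpow_one_add, mul_assoc]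
    rw [h1, hv, ih, add_comm, zpow_one_add, Units.val_mul, lu_val, mul_assoc]
  | pred i ih =>
    intro x
    have h1 : g * (g ^ (-(i : ℤ) - 1) * x) = g ^ (-(i : ℤ)) * x := by
      rw [← mul_assoc, ← zpow_one_add]
      congr 2
      ring
    have h2 := hv (g ^ (-(i : ℤ) - 1) * x)
    rw [h1, ih] at h2
    have h3 : (lu hl hpos ^ (-(i : ℤ)) : Aˣ) = lu hl hpos * lu hl hpos ^ (-(i : ℤ) - 1) := by
      rw [← zpow_one_add]
      congr 1
      ring
    rw [h3, Units.val_mul, lu_val, mul_assoc] at h2
    -- cancel l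
    have h4 : ((lu hl hpos)⁻¹ : Aˣ).val * l = 1 := (lu hl hpos).inv_val
    have h5 := congrArg (fun t => ((lu hl hpos)⁻¹ : Aˣ).val * t) h2
    simp only [← mul_assoc, h4, one_mul] at h5
    exact h5.symm

end S

section cosets
variable {A : Type u} [CommRing A] {G : Type u} [Group G] {g : G} {l : A}

/-- right cosets of `⟨g⟩` -/
abbrev Q (g : G) := Quotient (QuotientGroup.rightRel (Subgroup.zpowers g))

noncomputable def rep (q : Q g) : G := Quotient.out q

theorem mk_rep (q : Q g) : (⟦rep q⟧ : Q g) = q := Quotient.out_eq q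

theorem exists_zpow (h : G) : ∃ i : ℤ, g ^ i * rep (⟦h⟧ : Q g) = h := by
  have h1 : (QuotientGroup.rightRel (Subgroup.zpowers g)) (rep (⟦h⟧ : Q g)) h :=
    Quotient.exact (mk_rep _)
  rw [QuotientGroup.rightRel_apply, Subgroup.mem_zpowers_iff] at h1
  obtain ⟨k, hk⟩ := h1
  exact ⟨k, by rw [hk, inv_mul_cancel_right]⟩

noncomputable def e (g : G) (h : G) : ℤ := (exists_zpow (g := g) h).choose

theorem e_spec (h : G) : g ^ e g h * rep (⟦h⟧ : Q g) = h := (exists_zpow (g := g) h).choose_spec

theorem mk_mul (h : G) : (⟦g * h⟧ : Q g) = ⟦h⟧ := by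
  apply Quotient.sound
  change (QuotientGroup.rightRel (Subgroup.zpowers g)) (g * h) h
  rw [QuotientGroup.rightRel_apply, mul_inv_rev, mul_inv_cancel_left]
  exact Subgroup.inv_mem _ (Subgroup.mem_zpowers g)

variable (hl : l ^ orderOf g = 1) (hpos : 0 < orderOf g)

/-- the coefficient function -/
noncomputable def c (h : G) : A := ((lu hl hpos ^ e g h : Aˣ) : A)

theorem c_mul (h : G) : c hl hpos (g * h) = l * c hl hpos h := by
  unfold c
  have h1 := e_spec (g := g) (g * h)
  rw [mk_mul] at h1
  have h2 : g * h = g ^ (1 + e g h) * rep (⟦h⟧ : Q g) := by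
    rw [zpow_one_add, mul_assoc, e_spec]
  rw [h2] at h1
  have h3 := mul_right_cancel h1
  have h4 : e g (g ^ (1 + e g h) * rep (⟦h⟧ : Q g)) = e g (g * h) := by rw [← h2]
  rw [h4] at h3
  rw [wd hl hpos h3, zpow_one_add, Units.val_mul, lu_val]

theorem c_rep (q : Q g) : c hl hpos (rep q) = 1 := by
  unfold c
  have h1 := e_spec (g := g) (rep q)
  rw [mk_rep] at h1
  have h2 : g ^ e g (rep q) = g ^ (0 : ℤ) := by
    rw [zpow_zero]
    exact mul_eq_right.mp h1
  rw [wd hl hpos h2, zpow_zero, Units.val_one]

theorem c_mul_eq {v : G → A} (hv : v ∈ E g l) (h : G) :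
    c hl hpos h * v (rep (⟦h⟧ : Q g)) = v h := by
  unfold c
  rw [← eig_zpow hv hl hpos, e_spec]

/-- extension of a function on cosets to an eigenfunction -/
noncomputable def ext' : (Q g → A) →ₗ[A] (G → A) where
  toFun w := fun h => c hl hpos h * w ⟦h⟧
  map_add' w₁ w₂ := by
    ext h
    simp only [Pi.add_apply, mul_add]
  map_smul' a w := by
    ext h
    simp only [Pi.smul_apply, smul_eq_mul, RingHom.id_apply]
    ring

theorem ext'_mem (w : Q g → A) : ext' hl hpos w ∈ E g l := by
  rw [mem_E]
  intro h
  change c hl hpos (g * h) * w ⟦g * h⟧ = l * (c hl hpos h * w ⟦h⟧)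
  rw [c_mul, mk_mul, mul_assoc]

/-- the equivalence of the eigenspace with functions on cosets -/
noncomputable def eqv : E g l ≃ₗ[A] (Q g → A) :=
  LinearEquiv.ofLinearMap ((LinearMap.funLeft A A (rep (g := g))) ∘ₗ (E g l).subtype)
    (LinearMap.codRestrict (E g l) (ext' hl hpos) (ext'_mem hl hpos))
    (by
      ext w q
      simp only [LinearMap.comp_apply, LinearMap.funLeft_apply, Submodule.subtype_apply,
        LinearMap.codRestrict_apply, LinearMap.id_apply]
      change c hl hpos (rep q) * w ⟦rep q⟧ = _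
      rw [c_rep, mk_rep, one_mul])
    (by
      ext v h
      simp only [LinearMap.comp_apply, LinearMap.funLeft_apply, Submodule.subtype_apply,
        LinearMap.codRestrict_apply, LinearMap.id_apply]
      change c hl hpos h * (v : G → A) (rep ⟦h⟧) = _
      exact c_mul_eq hl hpos v.2 h)

end cosets


/-- Let A be a nontrivial commutative ring, G a finite group, g an element of G of order ν and l an
element of A with l ^ ν = 1. In the free A-module of functions G → A (the regular representation, g
acting by translation v ↦ v(g·)), the submodule of v with v(g h) = l v(h) for all h is a direct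
summand, free of rank |G| / ν (stated as: free, rank · ν = |G|, and a complementary submodule
exists). (The published statement is over an arbitrary ring and also covers Hom(A^N, −) of the
regular representation, which follows; nontriviality of A is needed for the rank to be meaningful.) -/
theorem result
    (A : Type u) [CommRing A] [Nontrivial A] (G : Type u) [Group G] [Finite G]
    (g : G) (l : A) (hl : l ^ orderOf g = 1) :
    Module.Free A (LinearMap.ker (LinearMap.funLeft A A (fun h : G => g * h) - l • LinearMap.id)) ∧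
      Module.finrank A (LinearMap.ker (LinearMap.funLeft A A (fun h : G => g * h) - l • LinearMap.id)) * orderOf g = Nat.card G ∧
      ∃ E' : Submodule A (G → A), IsCompl (LinearMap.ker (LinearMap.funLeft A A (fun h : G => g * h) - l • LinearMap.id)) E' := by
  classical
  have hpos : 0 < orderOf g := orderOf_pos g
  have : Fintype G := Fintype.ofFinite G
  have hfinQ : Finite (Q g) := Quotient.finite _
  have : Fintype (Q g) := Fintype.ofFinite _
  refine ⟨Module.Free.of_equiv (eqv hl hpos).symm, ?_, ?_⟩
  · rw [(eqv hl hpos).finrank_eq, Module.finrank_fintype_fun_eq_card, ← Nat.card_eq_fintype_card,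
      Nat.card_congr (QuotientGroup.quotientRightRelEquivQuotientLeftRel (Subgroup.zpowers g)),
      ← Nat.card_zpowers g, ← Subgroup.card_eq_card_quotient_mul_card_subgroup]
  · have hf : ∀ x : E g l,
        (((eqv hl hpos).symm : (Q g → A) →ₗ[A] E g l) ∘ₗ LinearMap.funLeft A A (rep (g := g)))
          (x : G → A) = x := fun x => (eqv hl hpos).symm_apply_apply x
    exact ⟨_, LinearMap.isCompl_of_proj hf⟩

end Groth.Agent.S15488
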