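import Groth.Statements.S15493
import Groth.Agent.Lib.Helper24.IsoNatTop
import Groth.Agent.Lib.Helper24.AlgStSubImm

set_option autoImplicit false
universe u
open CategoryTheory AlgebraicGeometry
open IsoNat

namespace Groth.Agent.S15493

open CategoryTheory AlgebraicGeometry
open IsoNat


/-- The presheaf of isomorphism classes commutes with fibre products along an open immersion. Let f : 𝒳
→ 𝒴 be a morphism of algebraic stacks over a quasi-separated scheme S and i : 𝒴' → 𝒴 an open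
immersion of algebraic stacks (representable by open immersions of algebraic spaces). If two objects
of the 2-fibre product 𝒳 ×_𝒴 𝒴' over a scheme T have isomorphic images in 𝒳 over T and isomorphic
images in 𝒴' over T, then they are isomorphic over T. (Together with the evident surjectivity this
says that the natural map from the presheaf of isomorphism classes of 𝒳 ×_𝒴 𝒴' to the fibre product
of the presheaves of 𝒳 and 𝒴' over that of 𝒴 is an isomorphism; the published statement is for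
arbitrary stacks, this row takes them algebraic.) -/
theorem result
    (S : Scheme.{u}) [QuasiSeparatedSpace S]
    (𝒳 𝒴 𝒴' : AlgSt.Cat S)
    (h𝒳 : AlgSt.IsAlgStack Scheme.fppfPrecoverage 𝒳) (h𝒴 : AlgSt.IsAlgStack Scheme.fppfPrecoverage 𝒴)
    (h𝒴' : AlgSt.IsAlgStack Scheme.fppfPrecoverage 𝒴')
    (f : 𝒳 ⥤ᵇ 𝒴) (i : 𝒴' ⥤ᵇ 𝒴) (hi : AlgSt.IsOpenImm i)
    (T : Over S) (z₁ z₂ : (FibCat.fp f i).p.Fiber T)
    (h₁ : IsoNat.mapCls (FibCat.fpFst f i) T (IsoNat.cls z₁) = IsoNat.mapCls (FibCat.fpFst f i) T (IsoNat.cls z₂))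
    (h₂ : IsoNat.mapCls (FibCat.fpSnd f i) T (IsoNat.cls z₁) = IsoNat.mapCls (FibCat.fpSnd f i) T (IsoNat.cls z₂)) :
    IsoNat.cls z₁ = IsoNat.cls z₂ := by

  have hfib : FibCat.IsFibGrpd (FibCat.fp f i).p :=
    Groth.Agent.Lib.Helper24.FibCatFpGen.isFibGrpd_fp f i h𝒳.isStack.1 h𝒴'.isStack.1 h𝒴.isStack.1
  have hmono : AlgSt.IsMono i :=
    Groth.Agent.Lib.Helper24.AlgStSchLocal.repByAlgSpWith_mono
      (fun _ _ _ h => Groth.Agent.Lib.Helper14.AS.mono_of_repWith_mono
        (Groth.Agent.Lib.Helper14.AS.repWith_mono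
          (fun _ _ g (hg : IsOpenImmersion g) => (inferInstance : Mono g)) h)) i hi
  obtain ⟨hfull, hfaith⟩ :=
    Groth.Agent.Lib.Helper24.AlgStMonoFull.full_faithful_of_isMono h𝒴'.isStack.1 h𝒴.isStack.1 i hmono
  obtain ⟨e⟩ := Quotient.exact h₁
  let a : z₁.1.obj.fst ⟶ z₂.1.obj.fst := e.hom.1
  have ha : 𝒳.p.IsHomLift (𝟙 T) a := e.hom.2
  obtain ⟨b, hb⟩ := i.toFunctor.map_surjective
    (z₁.1.obj.iso.inv ≫ f.toFunctor.map a ≫ z₂.1.obj.iso.hom)
  let m : z₁.1 ⟶ z₂.1 := Groth.Agent.Lib.Helper24.FibCatFpGen.mkHom a b (by rw [hb]; simp)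
  have hm : (FibCat.fp f i).p.IsHomLift (𝟙 T) m :=
    (Groth.Agent.Lib.Helper24.FibCatFpGen.isHomLift_iff_fst _ m).2 ha
  have hiso : IsIso m := Groth.Agent.Lib.Helper24.FibGrpd.isIso_of_isFibGrpd _ hfib (𝟙 T) m
  exact Quotient.sound (Groth.Agent.Lib.Helper24.CatModQuot2.fiberIso_of_isIso z₁.2 z₂.2 m hm)

end Groth.Agent.S15493
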