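import Groth.Statements.S15494
-- import your own Groth.Agent.* helpers here
import Mathlib.Tactic

set_option autoImplicit false
universe u v
open Dieud

namespace Groth.Agent.S15494

section
variable {W : Type*} [CommRing W] {M : Type*} [AddCommGroup M] [Module W M]

theorem iter_smul (σ : W →+* W) (F : M →+ M)
    (hF : ∀ (w : W) (m : M), F (w • m) = σ w • F m) (n : ℕ) (w : W) (m : M) :
    (⇑F)^[n] (w • m) = (⇑σ)^[n] w • (⇑F)^[n] m := by
  induction n generalizing w m with
  | zero => rfl
  | succ n ih =>
    rw [Function.iterate_succ_apply, Function.iterate_succ_apply, Function.iterate_succ_apply,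
      hF, ih]

theorem iter_add (F : M →+ M) (n : ℕ) (x y : M) :
    (⇑F)^[n] (x + y) = (⇑F)^[n] x + (⇑F)^[n] y := by
  induction n generalizing x y with
  | zero => rfl
  | succ n ih => simp only [Function.iterate_succ_apply, map_add, ih]

theorem iter_sum {ι : Type*} (F : M →+ M) (n : ℕ) (s : Finset ι) (f : ι → M) :
    (⇑F)^[n] (∑ i ∈ s, f i) = ∑ i ∈ s, (⇑F)^[n] (f i) := by
  induction n generalizing f with
  | zero => rfl
  | succ n ih => simp only [Function.iterate_succ_apply, map_sum, ih]

theorem iter_nat (σ : W →+* W) (n : ℕ) (p : ℕ) : (⇑σ)^[n] (p : W) = (p : W) :=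
  Function.iterate_fixed (map_natCast σ p) n

theorem iter_mul (σ : W →+* W) (n : ℕ) (x y : W) :
    (⇑σ)^[n] (x * y) = (⇑σ)^[n] x * (⇑σ)^[n] y := by
  induction n generalizing x y with
  | zero => rfl
  | succ n ih => simp only [Function.iterate_succ_apply, map_mul, ih]

theorem iter_natpow (σ : W →+* W) (n : ℕ) (p k : ℕ) : (⇑σ)^[n] ((p : W) ^ k) = (p : W) ^ k := by
  apply Function.iterate_fixed
  rw [map_pow, map_natCast]

end

/-- Let W be a commutative ring with a ring endomorphism σ, p a natural number, M a W-module and F an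
additive self-map of M with F (w • m) = σ w • F m. Let d ≥ 1, c ≥ 1, h = d + c, and let e_1, …, e_h,
… be vectors of M on which F acts through a display matrix in normal form: F e_i = e_{i+1} for 1 ≤ i
< d; F e_d = Σ_{i=1}^{d} a_{i,d} e_i + e_{d+1}; F e_j = Σ_{i=1}^{d} p a_{i,j} e_i + p e_{j+1} for d
< j < h; F e_h = Σ_{i=1}^{d} p a_{i,h} e_i. Then F^h e_1 = Σ_{i=1}^{d} Σ_{j=d}^{h} p^{j-d}
σ^{h-j}(a_{i,j}) F^{h+i-j-1} e_1. (The published statement is for the Dieudonné module of a
p-divisible group of dimension d and height h over the Witt ring of a field of characteristic p,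
with σ the Frobenius and e_1, …, e_h a basis; this row keeps only the relations which the printed
computation uses, so W, σ, p and the vectors are arbitrary.) -/
theorem result
    (W : Type u) [CommRing W] (σ : W →+* W) (p : ℕ)
    (M : Type v) [AddCommGroup M] [Module W M]
    (F : M →+ M) (hF : ∀ (w : W) (m : M), F (w • m) = σ w • F m)
    (d c : ℕ) (hd : 0 < d) (hc : 0 < c)
    (a : ℕ → ℕ → W) (e : ℕ → M)
    (h1 : ∀ i : ℕ, 1 ≤ i → i < d → F (e i) = e (i + 1))
    (h2 : F (e d) = (∑ i ∈ Finset.Icc 1 d, a i d • e i) + e (d + 1))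
    (h3 : ∀ j : ℕ, d < j → j < d + c →
      F (e j) = (∑ i ∈ Finset.Icc 1 d, ((p : W) * a i j) • e i) + (p : W) • e (j + 1))
    (h4 : F (e (d + c)) = ∑ i ∈ Finset.Icc 1 d, ((p : W) * a i (d + c)) • e i) :
    (⇑F)^[d + c] (e 1) = ∑ i ∈ Finset.Icc 1 d, ∑ j ∈ Finset.Icc d (d + c),
      ((p : W) ^ (j - d) * (⇑σ)^[d + c - j] (a i j)) • (⇑F)^[d + c + i - j - 1] (e 1) := by
  classical
  -- e i = F^[i-1] e 1
  have he : ∀ i, 1 ≤ i → i ≤ d → e i = (⇑F)^[i - 1] (e 1) := by
    intro i hi
    induction i, hi using Nat.le_induction with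
    | base => intro _; rfl
    | succ i hi ih =>
      intro hid
      rw [← h1 i hi (by omega), ih (by omega)]
      rw [Nat.add_sub_cancel, ← Function.iterate_succ_apply' (⇑F)]
      congr 1
      omega
  have hFe : ∀ n i, 1 ≤ i → i ≤ d → (⇑F)^[n] (e i) = (⇑F)^[n + i - 1] (e 1) := by
    intro n i hi hid
    rw [he i hi hid, ← Function.iterate_add_apply]
    congr 1
    omega
  rw [Finset.sum_comm]
  -- main claim
  have hP : ∀ k, k < c → (⇑F)^[d + c] (e 1) =
      (∑ j ∈ Finset.Icc d (d + k), ∑ i ∈ Finset.Icc 1 d,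
        ((p : W) ^ (j - d) * (⇑σ)^[d + c - j] (a i j)) • (⇑F)^[d + c + i - j - 1] (e 1))
      + (⇑F)^[c - k] (((p : W) ^ k) • e (d + k + 1)) := by
    intro k
    induction k with
    | zero =>
      intro _
      rw [Nat.add_zero, Finset.Icc_self, Finset.sum_singleton, pow_zero, one_smul, Nat.sub_zero]
      have h5 : (⇑F)^[d + c] (e 1) = (⇑F)^[c] (F (e d)) := by
        rw [he d hd le_rfl, ← Function.iterate_succ_apply' (⇑F), ← Function.iterate_add_apply]
        congr 1
        omega
      rw [h5, h2, iter_add, iter_sum]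
      congr 1
      apply Finset.sum_congr rfl
      intro i hi
      have hi' := Finset.mem_Icc.mp hi
      rw [iter_smul σ F hF, hFe c i hi'.1 hi'.2, Nat.sub_self, pow_zero, one_mul]
      congr 2
      · omega
      · omega
    | succ k ih =>
      intro hk
      rw [ih (by omega)]
      have h6 : Finset.Icc d (d + (k + 1)) = insert (d + (k + 1)) (Finset.Icc d (d + k)) := by
        ext j
        simp only [Finset.mem_Icc, Finset.mem_insert]
        omega
      have h7 : d + (k + 1) ∉ Finset.Icc d (d + k) := by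
        simp only [Finset.mem_Icc]
        omega
      have h8 : (⇑F)^[c - k] (((p : W) ^ k) • e (d + k + 1))
          = (⇑F)^[c - (k + 1)] (F (((p : W) ^ k) • e (d + k + 1))) := by
        rw [← Function.iterate_succ_apply]
        congr 1
        omega
      have h8' : (⇑F)^[c - k] (((p : W) ^ k) • e (d + k + 1))
          = (∑ i ∈ Finset.Icc 1 d,
              ((p : W) ^ (d + (k + 1) - d) * (⇑σ)^[d + c - (d + (k + 1))] (a i (d + (k + 1)))) •
                (⇑F)^[d + c + i - (d + (k + 1)) - 1] (e 1))
            + (⇑F)^[c - (k + 1)] (((p : W) ^ (k + 1)) • e (d + (k + 1) + 1)) := by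
        have e1 : d + (k + 1) - d = k + 1 := by omega
        have e2 : d + c - (d + (k + 1)) = c - (k + 1) := by omega
        rw [e1, e2, h8, hF, map_pow, map_natCast, h3 (d + k + 1) (by omega) (by omega), smul_add,
          iter_add, Finset.smul_sum, iter_sum]
        congr 1
        · apply Finset.sum_congr rfl
          intro i hi
          have hi' := Finset.mem_Icc.mp hi
          have e3 : d + c + i - (d + (k + 1)) - 1 = c - (k + 1) + i - 1 := by omega
          rw [e3, smul_smul, iter_smul σ F hF, hFe _ i hi'.1 hi'.2, iter_mul, iter_natpow, iter_mul,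
            iter_nat, ← mul_assoc, ← pow_succ]
          rfl
        · rw [smul_smul, ← pow_succ]
          rfl
      rw [h6, Finset.sum_insert h7, h8']
      abel
  have hfin := hP (c - 1) (by omega)
  rw [hfin]
  have h6 : Finset.Icc d (d + c) = insert (d + c) (Finset.Icc d (d + (c - 1))) := by
    ext j
    simp only [Finset.mem_Icc, Finset.mem_insert]
    omega
  have h7 : d + c ∉ Finset.Icc d (d + (c - 1)) := by
    simp only [Finset.mem_Icc]
    omega
  rw [h6, Finset.sum_insert h7, add_comm]
  congr 1
  have h9 : c - (c - 1) = 1 := by omega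
  have h10 : d + (c - 1) + 1 = d + c := by omega
  rw [h9, h10, Function.iterate_one, hF, map_pow, map_natCast, h4, Finset.smul_sum]
  apply Finset.sum_congr rfl
  intro i hi
  have hi' := Finset.mem_Icc.mp hi
  rw [smul_smul, he i hi'.1 hi'.2, ← mul_assoc, ← pow_succ, Nat.sub_self, Function.iterate_zero,
    id_eq]
  congr 2
  · congr 2
    omega
  · omega

end Groth.Agent.S15494
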