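import Groth.Statements.S15495
import Mathlib.RingTheory.Artinian.Module
import Mathlib.RingTheory.Artinian.Ring
import Mathlib.Algebra.Ring.GeomSum
import Mathlib.RingTheory.Jacobson.Ideal
import Mathlib.RingTheory.LocalRing.MaximalIdeal.Basic

set_option autoImplicit false
universe u
open CAlg

namespace Groth.Agent.S15495

lemma one_add_pow_sub_one_mem {R : Type*} [CommRing R] (I : Ideal R) (p : ℕ) (hpI : (p : R) ∈ I)
    (j : ℕ) (y : R) (hyI : y ∈ I) (hy : y ∈ I ^ j) : (1 + y) ^ p - 1 ∈ I ^ (j + 1) := by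
  have h1 : (1 + y) ^ p - 1 = y * ∑ i ∈ Finset.range p, (1 + y) ^ i := by
    have := mul_geom_sum (1 + y) p
    rw [add_sub_cancel_left] at this
    exact this.symm
  have h2 : ∑ i ∈ Finset.range p, (1 + y) ^ i ∈ I := by
    have h3 : ∀ i : ℕ, (1 + y) ^ i - 1 ∈ I := by
      intro i
      have h4 : (1 + y) ^ i - 1 = y * ∑ k ∈ Finset.range i, (1 + y) ^ k := by
        have := mul_geom_sum (1 + y) i
        rw [add_sub_cancel_left] at this
        exact this.symm
      rw [h4]
      exact I.mul_mem_right _ hyI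
    have h5 : ∑ i ∈ Finset.range p, (1 + y) ^ i
        = ∑ i ∈ Finset.range p, ((1 + y) ^ i - 1) + (p : R) := by
      rw [Finset.sum_sub_distrib]
      simp
    rw [h5]
    exact I.add_mem (I.sum_mem fun i _ => h3 i) hpI
  rw [h1, pow_succ]
  exact Ideal.mul_mem_mul hy h2

lemma one_add_pow_pow_sub_one_mem {R : Type*} [CommRing R] (I : Ideal R) (p : ℕ)
    (hpI : (p : R) ∈ I) (x : R) (hx : x ∈ I) (j : ℕ) :
    (1 + x) ^ (p ^ j) - 1 ∈ I ^ (j + 1) := by
  induction j with
  | zero => simpa using hx
  | succ j ih =>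
    have hI : (1 + x) ^ (p ^ j) - 1 ∈ I := Ideal.pow_le_self (Nat.succ_ne_zero j) ih
    have := one_add_pow_sub_one_mem I p hpI (j + 1) ((1 + x) ^ (p ^ j) - 1) hI ih
    rwa [add_sub_cancel, ← pow_mul, ← pow_succ] at this

/-- In an Artinian local ring R whose maximal ideal m contains the prime number p, the multiplicative
group 1 + m is annihilated under some power of p: there is n with (1 + x)^(p^n) = 1 for every x in
m. (The published text makes this assertion inside a proof, for Artinian local algebras over the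
Witt ring of a perfect field of characteristic p; only p ∈ m and the nilpotence of m are used.) -/
theorem result
    (R : Type u) [CommRing R] [IsLocalRing R] [IsArtinianRing R]
    (p : ℕ) (hp : p.Prime) (hpm : (p : R) ∈ IsLocalRing.maximalIdeal R) :
    ∃ n : ℕ, ∀ x ∈ IsLocalRing.maximalIdeal R, (1 + x) ^ (p ^ n) = 1 := by
  obtain ⟨k, hk⟩ := IsArtinianRing.isNilpotent_jacobson_bot (R := R)
  rw [IsLocalRing.jacobson_eq_maximalIdeal ⊥ bot_ne_top] at hk
  refine ⟨k, fun x hx => ?_⟩
  have h := one_add_pow_pow_sub_one_mem (IsLocalRing.maximalIdeal R) p hpm x hx k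
  have h' : (1 + x) ^ (p ^ k) - 1 ∈ IsLocalRing.maximalIdeal R ^ k :=
    Ideal.pow_le_pow_right (Nat.le_succ k) h
  rw [hk] at h'
  exact sub_eq_zero.mp h'

end Groth.Agent.S15495
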