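import Groth.Statements.S15498
-- import your own Groth.Agent.* helpers here
import Mathlib.Algebra.BigOperators.Intervals
import Mathlib.Order.Interval.Finset.Nat
import Mathlib.Tactic

set_option autoImplicit false
open NewtonPoly

namespace Groth.Agent.S15498

theorem pair_div (m n j : ℕ) (hmn : Nat.Coprime m n) (hj1 : 1 ≤ j) (hjm : j < m) :
    j * n / m + (m - j) * n / m = n - 1 := by
  have hm : 0 < m := by omega
  have hsum : j * n + (m - j) * n = m * n := by
    rw [← Nat.add_mul]; congr 1; omega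
  have e1 := Nat.div_add_mod (j * n) m
  have e2 := Nat.div_add_mod ((m - j) * n) m
  have r1 := Nat.mod_lt (j * n) hm
  have r2 := Nat.mod_lt ((m - j) * n) hm
  have hr1 : (j * n) % m ≠ 0 := by
    intro h0
    have hdvd : m ∣ j * n := Nat.dvd_of_mod_eq_zero h0
    have : m ∣ j := hmn.dvd_of_dvd_mul_right hdvd
    have := Nat.le_of_dvd (by omega) this
    omega
  set q1 := j * n / m
  set q2 := (m - j) * n / m
  set s1 := (j * n) % m
  set s2 := ((m - j) * n) % m
  clear_value q1 q2 s1 s2
  have htot : m * (q1 + q2) + (s1 + s2) = m * n := by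
    rw [Nat.mul_add]; omega
  have hdvd : m ∣ s1 + s2 := by
    have h1 : m ∣ m * (q1 + q2) + (s1 + s2) := by rw [htot]; exact dvd_mul_right m n
    exact (Nat.dvd_add_right (dvd_mul_right m _)).mp h1
  obtain ⟨k, hk⟩ := hdvd
  have hk1 : k = 1 := by
    have hlt : m * k < m * 2 := by omega
    have hgt : m * 0 < m * k := by omega
    have := Nat.lt_of_mul_lt_mul_left hlt
    have := Nat.lt_of_mul_lt_mul_left hgt
    omega
  rw [hk1, Nat.mul_one] at hk
  have h5 : m * (q1 + q2 + 1) = m * n := by
    rw [Nat.mul_add m (q1 + q2) 1, Nat.mul_one]; omega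
  have h6 : q1 + q2 + 1 = n := Nat.eq_of_mul_eq_mul_left hm h5
  omega

theorem floor_sum (m n : ℕ) (hm : 0 < m) (hmn : Nat.Coprime m n) :
    2 * ∑ j ∈ Finset.range m, (j * n / m) = (m - 1) * (n - 1) := by
  have h0 : ∑ j ∈ Finset.range m, (j * n / m) = ∑ j ∈ Finset.Ico 1 m, (j * n / m) := by
    rw [Finset.range_eq_Ico, Finset.sum_eq_sum_Ico_succ_bot hm]
    simp
  have hrefl : ∑ j ∈ Finset.Ico 1 m, ((m - j) * n / m) = ∑ j ∈ Finset.Ico 1 m, (j * n / m) := by
    have := Finset.sum_Ico_reflect (fun j => j * n / m) 1 (m := m) (n := m) (by omega)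
    simpa using this
  rw [h0, two_mul]
  nth_rewrite 2 [← hrefl]
  rw [← Finset.sum_add_distrib, Finset.sum_congr rfl
    (fun j hj => pair_div m n j hmn (Finset.mem_Ico.mp hj).1 (Finset.mem_Ico.mp hj).2),
    Finset.sum_const, Nat.card_Ico, smul_eq_mul]

/-- Let m, n ≥ 1 be coprime, h = m + n, δ the segment from (0,0) to (h,m) (the isoclinic Newton polygon
of slope m/h) and ρ the ordinary polygon with n slopes 0 followed with m slopes 1, so ρ(i) = max(0,
i − n). The integer points (i,j), 0 ≤ i ≤ h, on or above ρ and strictly below δ — that is max(0, i −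
n) ≤ j and j·h < i·m — are (m−1)(n−1)/2 + (m+n−1) in number (which equals mn − r for r =
(m−1)(n−1)/2). (The published text works under m ≥ n > 0 coprime; the inequality m ≥ n is not used
and not assumed.) -/
theorem result
    (m n : ℕ) (hm : 0 < m) (hn : 0 < n) (hmn : Nat.Coprime m n) :
    ((Finset.range (m + n + 1) ×ˢ Finset.range (m + 1)).filter
      (fun ij : ℕ × ℕ => ij.1 ≤ ij.2 + n ∧ ij.2 * (m + n) < ij.1 * m)).card
      = (m - 1) * (n - 1) / 2 + (m + n - 1) := by
  classical
  have hfs := floor_sum m n hm hmn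
  have hcard : ((Finset.range (m + n + 1) ×ˢ Finset.range (m + 1)).filter
      (fun ij : ℕ × ℕ => ij.1 ≤ ij.2 + n ∧ ij.2 * (m + n) < ij.1 * m)).card
      = ∑ j ∈ Finset.range (m + 1), ((Finset.range (m + n + 1)).filter
        (fun i => i ≤ j + n ∧ j * (m + n) < i * m)).card := by
    rw [Finset.card_filter, Finset.sum_product_right]
    apply Finset.sum_congr rfl
    intro j _
    rw [Finset.card_filter]
  rw [hcard, Finset.sum_range_succ]
  have hlast : ((Finset.range (m + n + 1)).filter
        (fun i => i ≤ m + n ∧ m * (m + n) < i * m)).card = 0 := by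
    rw [Finset.card_eq_zero, Finset.filter_eq_empty_iff]
    intro i _ hi
    have h1 : i * m ≤ (m + n) * m := Nat.mul_le_mul_right m hi.1
    have h2 := hi.2
    rw [Nat.mul_comm m (m + n)] at h2
    omega
  rw [hlast, Nat.add_zero]
  have hinner : ∀ j ∈ Finset.range m, ((Finset.range (m + n + 1)).filter
        (fun i => i ≤ j + n ∧ j * (m + n) < i * m)).card = n - j * n / m := by
    intro j hj
    have hjm : j < m := Finset.mem_range.mp hj
    have hdiv : j * (m + n) / m = j + j * n / m := by
      rw [Nat.mul_add, Nat.mul_comm j m, Nat.mul_add_div hm]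
    have hset : (Finset.range (m + n + 1)).filter
        (fun i => i ≤ j + n ∧ j * (m + n) < i * m) = Finset.Ioc (j + j * n / m) (j + n) := by
      ext i
      simp only [Finset.mem_filter, Finset.mem_range, Finset.mem_Ioc]
      rw [← hdiv, Nat.div_lt_iff_lt_mul hm]
      constructor
      · rintro ⟨_, h1, h2⟩; exact ⟨h2, h1⟩
      · rintro ⟨h2, h1⟩; exact ⟨by omega, h1, h2⟩
    rw [hset, Nat.card_Ioc]
    omega
  rw [Finset.sum_congr rfl hinner]
  have hle : ∀ j ∈ Finset.range m, j * n / m ≤ n := by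
    intro j hj
    have hjm : j < m := Finset.mem_range.mp hj
    apply Nat.div_le_of_le_mul
    exact Nat.mul_le_mul_right n hjm.le
  have htot : ∑ j ∈ Finset.range m, (n - j * n / m) + ∑ j ∈ Finset.range m, (j * n / m) = m * n := by
    rw [← Finset.sum_add_distrib, Finset.sum_congr rfl
      (fun j hj => Nat.sub_add_cancel (hle j hj)), Finset.sum_const, Finset.card_range, smul_eq_mul]
  set Sg := ∑ j ∈ Finset.range m, (j * n / m)
  set T := ∑ j ∈ Finset.range m, (n - j * n / m)
  obtain ⟨m', rfl⟩ : ∃ m', m = m' + 1 := ⟨m - 1, by omega⟩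
  obtain ⟨n', rfl⟩ : ∃ n', n = n' + 1 := ⟨n - 1, by omega⟩
  simp only [Nat.add_sub_cancel] at hfs ⊢
  have h3 : (m' + 1) * (n' + 1) = m' * n' + m' + n' + 1 := by ring
  rw [h3] at htot
  have h4 : m' * n' / 2 = Sg := by omega
  rw [h4]
  omega

end Groth.Agent.S15498
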