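import Groth.Statements.S1550
import Groth.Agent.Lib27.SmoothSch
import Groth.Agent.Lib27.ResFieldK
-- import your own Groth.Agent.* helpers here

set_option autoImplicit false
universe u
open CategoryTheory CategoryTheory.Limits AlgebraicGeometry
attribute [local instance] Curv2.resAlgebra
open Variety

namespace Groth.Agent.S1550

/-- If X is smooth over a field k, then the set of closed points of X whose residue field is finite
separable over k is dense in X. -/
theorem result (k : Type u) [Field k] (X : Scheme.{u}) [X.Over (Spec (CommRingCat.of k))] [Smooth (X ↘ (Spec (CommRingCat.of k)))] :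
    Dense {x : X | IsClosed ({x} : Set X) ∧ FiniteDimensional k (X.residueField x) ∧ Algebra.IsSeparable k (X.residueField x)} := by
  rw [dense_iff_inter_open]
  intro U hU hne
  obtain ⟨x₀, hx₀⟩ := hne
  obtain ⟨_, ⟨V, hV : IsAffineOpen V, rfl⟩, hxV, hVU⟩ :=
    X.isBasis_affineOpens.exists_subset_of_mem_open hx₀ hU
  have hφ := Groth.Agent.Lib27.SmoothSch.smooth_coordHom (X ↘ (Spec (CommRingCat.of k))) hV
  let _ : Algebra k Γ(X, V) :=
    (Groth.Agent.Lib27.SmoothSch.coordHom (X ↘ (Spec (CommRingCat.of k))) hV).hom.toAlgebra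
  have : Algebra.Smooth k Γ(X, V) := hφ
  have : Nonempty V := ⟨⟨x₀, hxV⟩⟩
  have : Nontrivial Γ(X, V) := inferInstance
  obtain ⟨L, _, _, hfd, hsep, ⟨ψ⟩⟩ :=
    Groth.Agent.Lib27.SmoothPts.exists_finite_separable_point (k := k) Γ(X, V)
  let g : Spec (CommRingCat.of L) ⟶ X := Spec.map (CommRingCat.ofHom ψ.toRingHom) ≫ hV.fromSpec
  have hg : g ≫ (X ↘ (Spec (CommRingCat.of k))) =
      Spec.map (CommRingCat.ofHom (algebraMap k L)) := by
    rw [Category.assoc, ← Groth.Agent.Lib27.SmoothSch.map_coordHom, ← Spec.map_comp]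
    congr 1
    ext c
    exact ψ.commutes c
  have hyV : g (IsLocalRing.closedPoint L) ∈ V := by
    have : hV.fromSpec (Spec.map (CommRingCat.ofHom ψ.toRingHom) (IsLocalRing.closedPoint L)) ∈
        Set.range hV.fromSpec := ⟨_, rfl⟩
    rw [hV.range_fromSpec] at this
    exact this
  refine ⟨g (IsLocalRing.closedPoint L), hVU hyV, ?_, ?_, ?_⟩
  · have : JacobsonSpace X := LocallyOfFiniteType.jacobsonSpace (X ↘ (Spec (CommRingCat.of k)))
    have hft : LocallyOfFiniteType (g ≫ (X ↘ (Spec (CommRingCat.of k)))) := by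
      rw [hg, HasRingHomProperty.Spec_iff (P := @LocallyOfFiniteType)]
      exact RingHom.FiniteType.of_finite (RingHom.finite_algebraMap.mpr inferInstance)
    have : LocallyOfFiniteType g := locallyOfFiniteType_of_comp g (X ↘ (Spec (CommRingCat.of k)))
    exact g.closePoints_subset_preimage_closedPoints (IsLocalRing.isClosed_singleton_closedPoint L)
  · obtain ⟨ι, hι⟩ := Groth.Agent.Lib27.ResFieldK.exists_resMap_comp k X g hg
    let ιA : X.residueField (g (IsLocalRing.closedPoint L)) →ₐ[k] L :=
      { ι with commutes' := fun c => congrArg (fun φ => φ c) hι }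
    exact FiniteDimensional.of_injective ιA.toLinearMap ιA.toRingHom.injective
  · obtain ⟨ι, hι⟩ := Groth.Agent.Lib27.ResFieldK.exists_resMap_comp k X g hg
    let ιA : X.residueField (g (IsLocalRing.closedPoint L)) →ₐ[k] L :=
      { ι with commutes' := fun c => congrArg (fun φ => φ c) hι }
    exact Algebra.IsSeparable.of_algHom k L ιA

end Groth.Agent.S1550
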