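import Groth.Statements.S15504
-- import your own Groth.Agent.* helpers here
import Mathlib.RingTheory.WittVector.DiscreteValuationRing
import Mathlib.RingTheory.OrderOfVanishing.Basic
import Mathlib.RingTheory.Artinian.Ring
import Mathlib.RingTheory.Noetherian.Basic
import Mathlib.Tactic

set_option autoImplicit false
universe u v
open FrobAlg

namespace Groth.Agent.S15504

section
variable {W : Type*} [CommRing W] {M : Type*} [AddCommGroup M] [Module W M]

theorem it_smul (σ : W → W) (f : M → M)
    (hsmul : ∀ (a : W) (x : M), f (a • x) = σ a • f x) (n : ℕ) (a : W) (x : M) :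
    f^[n] (a • x) = σ^[n] a • f^[n] x := by
  induction n generalizing a x with
  | zero => rfl
  | succ n ih =>
    rw [Function.iterate_succ_apply, Function.iterate_succ_apply, Function.iterate_succ_apply,
      hsmul, ih]

theorem it_add (f : M → M) (hadd : ∀ x y, f (x + y) = f x + f y) (n : ℕ) (x y : M) :
    f^[n] (x + y) = f^[n] x + f^[n] y := by
  induction n generalizing x y with
  | zero => rfl
  | succ n ih => simp only [Function.iterate_succ_apply, hadd, ih]

theorem it_zero (f : M → M) (hadd : ∀ x y, f (x + y) = f x + f y) (n : ℕ) :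
    f^[n] 0 = 0 := by
  have h0 : f 0 = 0 := by
    have := hadd 0 0
    rw [add_zero] at this
    exact left_eq_add.mp this
  exact Function.iterate_fixed h0 n

theorem it_neg (f : M → M) (hadd : ∀ x y, f (x + y) = f x + f y) (n : ℕ) (x : M) :
    f^[n] (-x) = - f^[n] x := by
  have := it_add f hadd n x (-x)
  rw [add_neg_cancel, it_zero f hadd] at this
  exact (neg_eq_of_add_eq_zero_right this.symm).symm

theorem it_sub (f : M → M) (hadd : ∀ x y, f (x + y) = f x + f y) (n : ℕ) (x y : M) :
    f^[n] (x - y) = f^[n] x - f^[n] y := by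
  rw [sub_eq_add_neg, it_add f hadd, it_neg f hadd, ← sub_eq_add_neg]

theorem fitting_semilinear [IsNoetherian W M] [IsArtinian W M] (σ : W → W)
    (hσ : Function.Surjective σ) (f : M → M) (hadd : ∀ x y, f (x + y) = f x + f y)
    (hsmul : ∀ (a : W) (x : M), f (a • x) = σ a • f x) :
    ∃ Ms Mn : Submodule W M, IsCompl Ms Mn ∧
      Set.MapsTo f Ms Ms ∧ Set.MapsTo f Mn Mn ∧ Set.BijOn f Ms Ms ∧
      ∃ r : ℕ, ∀ x ∈ Mn, f^[r] x = 0 := by
  classical
  let K : ℕ → Submodule W M := fun n =>
    { carrier := {x | f^[n] x = 0}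
      add_mem' := by
        intro x y hx hy
        change f^[n] x = 0 at hx; change f^[n] y = 0 at hy; change f^[n] (x + y) = 0
        rw [it_add f hadd, hx, hy, add_zero]
      zero_mem' := it_zero f hadd n
      smul_mem' := by
        intro a x hx
        change f^[n] x = 0 at hx; change f^[n] (a • x) = 0
        rw [it_smul σ f hsmul, hx, smul_zero] }
  let R : ℕ → Submodule W M := fun n =>
    { carrier := Set.range f^[n]
      add_mem' := by
        rintro _ _ ⟨x, rfl⟩ ⟨y, rfl⟩
        exact ⟨x + y, it_add f hadd n x y⟩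
      zero_mem' := ⟨0, it_zero f hadd n⟩
      smul_mem' := by
        rintro a _ ⟨x, rfl⟩
        obtain ⟨b, hb⟩ := (hσ.iterate n) a
        exact ⟨b • x, by rw [it_smul σ f hsmul, hb]⟩ }
  have hKmem : ∀ n x, x ∈ K n ↔ f^[n] x = 0 := fun n x => Iff.rfl
  have hRmem : ∀ n x, x ∈ R n ↔ ∃ y, f^[n] y = x := fun n x => Iff.rfl
  have hKmono : Monotone K := by
    apply monotone_nat_of_le_succ
    intro n x hx
    rw [hKmem] at hx ⊢
    rw [Function.iterate_succ_apply', hx]
    exact it_zero f hadd 1
  have hRanti : Antitone R := by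
    apply antitone_nat_of_succ_le
    intro n x hx
    rw [hRmem] at hx ⊢
    obtain ⟨y, rfl⟩ := hx
    exact ⟨f y, by rw [← Function.iterate_succ_apply]⟩
  obtain ⟨n1, hn1⟩ := (monotone_stabilizes_iff_noetherian (R := W) (M := M)).mpr inferInstance
    ⟨K, hKmono⟩
  obtain ⟨n2, hn2⟩ := IsArtinian.monotone_stabilizes (R := W) (M := M)
    ⟨fun n => OrderDual.toDual (R n), fun a b hab => hRanti hab⟩
  simp only [OrderHom.coe_mk] at hn1 hn2
  set n := max n1 n2 + 1 with hn
  have hK : ∀ m, n ≤ m → K n = K m := by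
    intro m hm
    rw [← hn1 n (by omega), ← hn1 m (by omega)]
  have hR : ∀ m, n ≤ m → R n = R m := by
    intro m hm
    have h1 := hn2 n (by omega)
    have h2 := hn2 m (by omega)
    exact OrderDual.toDual.injective (h1.symm.trans h2)
  have hdisj : ∀ x, x ∈ R n → x ∈ K n → x = 0 := by
    intro x hxR hxK
    obtain ⟨y, rfl⟩ := (hRmem n x).mp hxR
    rw [hKmem, ← Function.iterate_add_apply] at hxK
    have : y ∈ K (n + n) := (hKmem _ _).mpr hxK
    rw [← hK (n + n) (by omega)] at this
    exact this
  refine ⟨R n, K n, ⟨?_, ?_⟩, ?_, ?_, ⟨?_, ?_, ?_⟩, n, fun x hx => hx⟩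
  · rw [Submodule.disjoint_def]
    exact hdisj
  · rw [codisjoint_iff, eq_top_iff]
    rintro x -
    have h1 : f^[n] x ∈ R n := ⟨x, rfl⟩
    rw [hR (n + n) (by omega)] at h1
    obtain ⟨y, hy⟩ := h1
    rw [Function.iterate_add_apply] at hy
    have h2 : x - f^[n] y ∈ K n := by
      rw [hKmem, it_sub f hadd, hy, sub_self]
    have : x = f^[n] y + (x - f^[n] y) := by abel
    rw [this]
    exact Submodule.add_mem_sup ⟨y, rfl⟩ h2
  · rintro _ ⟨y, rfl⟩
    exact ⟨f y, by rw [← Function.iterate_succ_apply, Function.iterate_succ_apply']⟩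
  · intro x hx
    have hx' : f^[n] x = 0 := hx
    show f^[n] (f x) = 0
    rw [← Function.iterate_succ_apply, Function.iterate_succ_apply', hx']
    exact it_zero f hadd 1
  · rintro _ ⟨y, rfl⟩
    exact ⟨f y, by rw [← Function.iterate_succ_apply, Function.iterate_succ_apply']⟩
  · intro x hx x' hx' hxx
    have h1 : x - x' ∈ R n := (R n).sub_mem hx hx'
    have h2 : x - x' ∈ K 1 := by
      rw [hKmem, it_sub f hadd, Function.iterate_one, hxx, sub_self]
    have h3 : x - x' ∈ K n := hKmono (by omega : 1 ≤ n) h2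
    exact sub_eq_zero.mp (hdisj _ h1 h3)
  · intro z hz
    have hz' : z ∈ R n := hz
    rw [hR (n + 1) (by omega)] at hz'
    obtain ⟨y, rfl⟩ := hz'
    exact ⟨f^[n] y, ⟨y, rfl⟩, (Function.iterate_succ_apply' f n y).symm⟩

theorem artinian_of_torsion {W : Type*} [CommRing W] [IsDomain W] [IsNoetherianRing W]
    [Ring.KrullDimLE 1 W] {M : Type*} [AddCommGroup M] [Module W M] [Module.Finite W M]
    (hM : Module.IsTorsion W M) : IsArtinian W M := by
  obtain ⟨a, ha1, ha2⟩ := Submodule.annihilator_top_inter_nonZeroDivisors hM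
  have hMI : Module.IsTorsionBySet W M (Ideal.span {a} : Ideal W) := by
    rw [← Module.isTorsionBySet_iff_is_torsion_by_span, Module.isTorsionBySet_singleton_iff]
    intro x
    exact Submodule.mem_annihilator.mp ha1 x Submodule.mem_top
  let _ := hMI.module
  have hfl := isFiniteLength_quotient_span_singleton W ha2
  rw [isFiniteLength_iff_isNoetherian_isArtinian] at hfl
  have hart : IsArtinianRing (W ⧸ Ideal.span {a}) := isArtinian_of_tower W hfl.2
  have : Module.Finite (W ⧸ Ideal.span {a}) M :=
    Module.Finite.of_restrictScalars_finite W (W ⧸ Ideal.span {a}) M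
  have : IsArtinian (W ⧸ Ideal.span {a}) M := inferInstance
  exact isArtinian_of_surjective_algebraMap (R := W ⧸ Ideal.span {a})
    (Ideal.Quotient.mk_surjective (I := Ideal.span {a}))

end

/-- Let k be an algebraically closed field of characteristic p, W = W(k) the ring of p-typical Witt
vectors, M a finitely generated torsion W-module and φ a p⁻¹-linear endomorphism of M (additive,
with φ(a·m) = σ⁻¹(a)·φ(m) for the Frobenius automorphism σ of W). Then M = M_s ⊕ M_n for two
φ-stable submodules, with φ bijective on M_s and nilpotent on M_n (one iterate of φ kills M_n). -/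
theorem result (p : ℕ) [Fact p.Prime]
    (k : Type u) [Field k] [CharP k p] [IsAlgClosed k]
    (M : Type v) [AddCommGroup M] [Module (WittVector p k) M] [Module.Finite (WittVector p k) M]
    (hM : Module.IsTorsion (WittVector p k) M)
    (φ : M →ₛₗ[((WittVector.frobeniusEquiv p k).symm : WittVector p k →+* WittVector p k)] M) :
    ∃ Ms Mn : Submodule (WittVector p k) M, IsCompl Ms Mn ∧
      Set.MapsTo φ Ms Ms ∧ Set.MapsTo φ Mn Mn ∧ Set.BijOn φ Ms Ms ∧
      ∃ r : ℕ, ∀ x ∈ Mn, (⇑φ)^[r] x = 0 := by
  have hart : IsArtinian (WittVector p k) M := artinian_of_torsion hM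
  exact fitting_semilinear
    (⇑((WittVector.frobeniusEquiv p k).symm : WittVector p k →+* WittVector p k))
    (WittVector.frobeniusEquiv p k).symm.surjective (⇑φ) (fun x y => map_add φ x y)
    (fun a x => φ.map_smulₛₗ a x)

end Groth.Agent.S15504
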