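import Groth.Statements.S15505
import Mathlib.FieldTheory.Finite.Basic
import Mathlib.FieldTheory.Perfect
import Mathlib.LinearAlgebra.Basis.Basic

set_option autoImplicit false
universe u v w
open FrobAlg

namespace Groth.Agent.S15505

/-- Let k be an algebraically closed field of characteristic p, V a k-vector space, φ a p⁻¹-linear
endomorphism of V (additive, φ(a·v) = a^{1/p}·φ(v)) and b a finite basis of V consisting of vectors
fixed by φ. Then the vectors fixed by φ are exactly the combinations of the b_i with coefficients in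
the prime field: v is fixed if and only if v = Σ c_i·b_i with all c_i in the image of ℤ/p. -/
theorem result (p : ℕ) [Fact p.Prime]
    (k : Type u) [Field k] [CharP k p] [IsAlgClosed k]
    (V : Type v) [AddCommGroup V] [Module k V]
    (φ : V →ₛₗ[((frobeniusEquiv k p).symm : k →+* k)] V)
    {ι : Type w} [Fintype ι] (b : Module.Basis ι k V) (hb : ∀ i, φ (b i) = b i) (v : V) :
    φ v = v ↔ ∃ c : ι → ZMod p, v = ∑ i, (ZMod.castHom (dvd_refl p) k (c i)) • b i := by
  have hφsum : ∀ a : ι → k, φ (∑ i, a i • b i)
      = ∑ i, ((frobeniusEquiv k p).symm (a i)) • b i := by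
    intro a
    rw [map_sum]
    refine Finset.sum_congr rfl fun i _ => ?_
    rw [map_smulₛₗ, hb]
    rfl
  have hfix : ∀ x : k, (frobeniusEquiv k p).symm x = x ↔
      x ∈ Set.range (ZMod.castHom (dvd_refl p) k) := by
    intro x
    have h1 : (frobeniusEquiv k p).symm x = x ↔ x ^ p = x := by
      rw [RingEquiv.symm_apply_eq, frobeniusEquiv_def, eq_comm]
    rw [h1, ← Subfield.mem_bot_iff_pow_eq_self k p, ← ZMod.fieldRange_castHom_eq_bot p]
    rfl
  constructor
  · intro hv
    have hrepr : v = ∑ i, b.repr v i • b i := (b.sum_repr v).symm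
    have h2 : ∑ i, ((frobeniusEquiv k p).symm (b.repr v i)) • b i = ∑ i, b.repr v i • b i := by
      rw [← hφsum, ← hrepr, hv]
    have h3 : ∀ i, (frobeniusEquiv k p).symm (b.repr v i) = b.repr v i := by
      intro i
      have h5 : b.repr (∑ i, ((frobeniusEquiv k p).symm (b.repr v i)) • b i) i
          = b.repr (∑ i, b.repr v i • b i) i := by rw [h2]
      rw [Module.Basis.repr_sum_self, Module.Basis.repr_sum_self] at h5
      exact h5
    have h4 : ∀ i, ∃ c : ZMod p, ZMod.castHom (dvd_refl p) k c = b.repr v i :=
      fun i => (hfix _).mp (h3 i)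
    choose c hc using h4
    refine ⟨c, ?_⟩
    simp only [hc]
    exact hrepr
  · rintro ⟨c, rfl⟩
    rw [hφsum]
    refine Finset.sum_congr rfl fun i _ => ?_
    rw [(hfix _).mpr ⟨c i, rfl⟩]

end Groth.Agent.S15505
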