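import Groth.Statements.S15506
-- import your own Groth.Agent.* helpers here
import Mathlib.AlgebraicGeometry.ResidueField
import Mathlib.AlgebraicGeometry.Morphisms.FormallyUnramified
import Mathlib.RingTheory.LocalRing.ResidueField.Ideal
import Mathlib.Tactic

set_option autoImplicit false
universe u
open CategoryTheory AlgebraicGeometry
open EtBase

namespace Groth.Agent.S15506

theorem mem_range_of_isIntegral {K Ω : Type*} [Field K] [Field Ω] [Algebra K Ω] [IsAlgClosed K]
    (x : Ω) (hx : IsIntegral K x) : x ∈ (algebraMap K Ω).range := by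
  have hb := IsAlgClosed.algebraMap_bijective_of_isIntegral (k := K) (K := integralClosure K Ω)
  obtain ⟨a, ha⟩ := hb.2 ⟨x, hx⟩
  refine ⟨a, ?_⟩
  have := congrArg (fun t : integralClosure K Ω => (t : Ω)) ha
  simpa using this

/-- Let k be a field, K an algebraic closure of k (an algebraically closed field algebraic over k), Ω a
field containing K, and Z a scheme étale over Spec k. Composition with Spec Ω → Spec K is a
bijection from the k-morphisms Spec K → Z onto the k-morphisms Spec Ω → Z: two k-morphisms Spec K →
Z that agree on Spec Ω are equal, and every k-morphism Spec Ω → Z factors through Spec K. (The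
published statement is the case where k has characteristic zero with a chosen embedding of its
algebraic closure into the complex numbers, Ω = ℂ, and Z is the scheme of isomorphisms between two
K3 surfaces over k, known there to be étale over k; this row states the fact about an arbitrary
étale k-scheme that the argument establishes.) -/
theorem result
    (k K Ω : Type u) [Field k] [Field K] [Field Ω] [Algebra k K] [IsAlgClosed K] [Algebra.IsAlgebraic k K]
    [Algebra K Ω] [Algebra k Ω] [IsScalarTower k K Ω]
    (Z : Scheme.{u}) (f : Z ⟶ Spec (CommRingCat.of k)) [AlgebraicGeometry.Etale f] :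
    (∀ g₁ g₂ : Spec (CommRingCat.of K) ⟶ Z,
        g₁ ≫ f = Spec.map (CommRingCat.ofHom (algebraMap k K)) →
        g₂ ≫ f = Spec.map (CommRingCat.ofHom (algebraMap k K)) →
        Spec.map (CommRingCat.ofHom (algebraMap K Ω)) ≫ g₁ = Spec.map (CommRingCat.ofHom (algebraMap K Ω)) ≫ g₂ →
        g₁ = g₂) ∧
    (∀ h : Spec (CommRingCat.of Ω) ⟶ Z, h ≫ f = Spec.map (CommRingCat.ofHom (algebraMap k Ω)) →
        ∃ g : Spec (CommRingCat.of K) ⟶ Z, g ≫ f = Spec.map (CommRingCat.ofHom (algebraMap k K)) ∧
          Spec.map (CommRingCat.ofHom (algebraMap K Ω)) ≫ g = h) := by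
  classical
  have hιinj : Function.Injective (algebraMap K Ω) := (algebraMap K Ω).injective
  constructor
  · intro g₁ g₂ _ _ h12
    have key : ∀ g : Spec (CommRingCat.of K) ⟶ Z,
        Spec.map (CommRingCat.ofHom (algebraMap K Ω)) ≫ g =
          (Scheme.SpecToEquivOfField Ω Z).symm ⟨((Scheme.SpecToEquivOfField K Z) g).1,
            ((Scheme.SpecToEquivOfField K Z) g).2 ≫ CommRingCat.ofHom (algebraMap K Ω)⟩ := by
      intro g
      conv_lhs => rw [← (Scheme.SpecToEquivOfField K Z).symm_apply_apply g]
      simp only [Scheme.SpecToEquivOfField_symm_apply, Spec.map_comp, Category.assoc]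
    rw [key g₁, key g₂] at h12
    have h3 := (Scheme.SpecToEquivOfField Ω Z).symm.injective h12
    rw [Scheme.SpecToEquivOfField_eq_iff] at h3
    obtain ⟨e, he⟩ := h3
    apply (Scheme.SpecToEquivOfField K Z).injective
    rw [Scheme.SpecToEquivOfField_eq_iff]
    refine ⟨e, ?_⟩
    ext t
    have := congrArg (fun m => m.hom t) he
    simp only [CommRingCat.hom_comp, CommRingCat.hom_ofHom, RingHom.coe_comp,
      Function.comp_apply] at this
    exact hιinj this
  · intro h hh
    obtain ⟨⟨z, α⟩, hzα⟩ : ∃ p : (x : Z) × (Z.residueField x ⟶ CommRingCat.of Ω),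
        (Scheme.SpecToEquivOfField Ω Z).symm p = h :=
      ⟨(Scheme.SpecToEquivOfField Ω Z) h, (Scheme.SpecToEquivOfField Ω Z).symm_apply_apply h⟩
    have hh' : h = Spec.map α ≫ Z.fromSpecResidueField z := by
      rw [← hzα]; rfl
    -- compute h ≫ f
    have h1 : h ≫ f = Spec.map (CommRingCat.ofHom (algebraMap k
          ((f z).asIdeal.ResidueField)) ≫
          (Scheme.Spec.residueFieldIso (CommRingCat.of k) (f z)).inv ≫
          f.residueFieldMap z ≫ α) := by
      rw [hh', Category.assoc, ← Scheme.Hom.SpecMap_residueFieldMap_fromSpecResidueField,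
        ← Scheme.Spec.map_residueFieldIso_inv_eq_fromSpecResidueField]
      simp only [Spec.map_comp, Category.assoc]
    rw [h1, Spec.map_inj] at hh
    have hcomp : ∀ c : k, α.hom ((f.residueFieldMap z).hom
        ((Scheme.Spec.residueFieldIso (CommRingCat.of k) (f z)).inv.hom
          (algebraMap k ((f z).asIdeal.ResidueField) c))) = algebraMap k Ω c := by
      intro c
      have := congrArg (fun m => m.hom c) hh
      simpa only [CommRingCat.hom_comp, CommRingCat.hom_ofHom, RingHom.coe_comp,
        Function.comp_apply] using this
    have hmax : (f z).asIdeal.IsMaximal := by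
      rw [Ideal.eq_bot_of_prime (f z).asIdeal]
      exact Ideal.bot_isMaximal
    set ρ : k →+* (Spec (CommRingCat.of k)).residueField (f z) :=
      ((Scheme.Spec.residueFieldIso (CommRingCat.of k) (f z)).inv.hom).comp
        (algebraMap k ((f z).asIdeal.ResidueField)) with hρdef
    have hρ : Function.Surjective ρ := by
      have h2 : Function.Bijective (Scheme.Spec.residueFieldIso (CommRingCat.of k) (f z)).inv.hom :=
        ConcreteCategory.bijective_of_isIso (Scheme.Spec.residueFieldIso (CommRingCat.of k) (f z)).inv
      exact h2.2.comp (Ideal.algebraMap_residueField_surjective (f z).asIdeal)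
    have hmem : ∀ t : Z.residueField z, α.hom t ∈ (algebraMap K Ω).range := by
      intro t
      let _ : Algebra ((Spec (CommRingCat.of k)).residueField (f z)) (Z.residueField z) :=
        (f.residueFieldMap z).hom.toAlgebra
      have hsep : Algebra.IsSeparable ((Spec (CommRingCat.of k)).residueField (f z))
        (Z.residueField z) := inferInstance
      have hint : IsIntegral ((Spec (CommRingCat.of k)).residueField (f z)) t :=
        Algebra.IsSeparable.isIntegral _ t
      obtain ⟨P, hPm, hP0⟩ := hint
      rw [RingHom.algebraMap_toAlgebra] at hP0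
      have hPl : P ∈ Polynomial.lifts ρ := by
        rw [Polynomial.lifts_iff_coeff_lifts]
        intro n
        exact hρ _
      obtain ⟨Q, hQ, _, hQm⟩ := Polynomial.lifts_and_degree_eq_and_monic hPl hPm
      apply mem_range_of_isIntegral
      apply IsIntegral.tower_top (R := k)
      refine ⟨Q, hQm, ?_⟩
      have h3 : (algebraMap k Ω) = (α.hom.comp (f.residueFieldMap z).hom).comp ρ := by
        ext c
        exact (hcomp c).symm
      rw [h3, ← Polynomial.eval₂_map, hQ, ← Polynomial.hom_eval₂, hP0, map_zero]
    let e : K ≃+* (algebraMap K Ω).range :=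
      RingEquiv.ofBijective (algebraMap K Ω).rangeRestrict
        ⟨fun x y hxy => hιinj (congrArg Subtype.val hxy),
          (algebraMap K Ω).rangeRestrict_surjective⟩
    let γ : Z.residueField z →+* K :=
      e.symm.toRingHom.comp (α.hom.codRestrict (algebraMap K Ω).range hmem)
    have hγ : ∀ t, algebraMap K Ω (γ t) = α.hom t := by
      intro t
      have := e.apply_symm_apply (α.hom.codRestrict (algebraMap K Ω).range hmem t)
      exact congrArg Subtype.val this
    refine ⟨Spec.map (CommRingCat.ofHom γ) ≫ Z.fromSpecResidueField z, ?_, ?_⟩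
    · have h4 : (Spec.map (CommRingCat.ofHom γ) ≫ Z.fromSpecResidueField z) ≫ f
          = Spec.map (CommRingCat.ofHom (algebraMap k
          ((f z).asIdeal.ResidueField)) ≫
          (Scheme.Spec.residueFieldIso (CommRingCat.of k) (f z)).inv ≫
          f.residueFieldMap z ≫ CommRingCat.ofHom γ) := by
        rw [Category.assoc, ← Scheme.Hom.SpecMap_residueFieldMap_fromSpecResidueField,
          ← Scheme.Spec.map_residueFieldIso_inv_eq_fromSpecResidueField]
        simp only [Spec.map_comp, Category.assoc]
        rfl
      rw [h4, Spec.map_inj]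
      ext c
      apply hιinj
      simp only [CommRingCat.hom_comp, CommRingCat.hom_ofHom, RingHom.coe_comp,
        Function.comp_apply]
      exact (hγ _).trans ((hcomp c).trans (IsScalarTower.algebraMap_apply k K Ω c))
    · rw [hh', ← Category.assoc, ← Spec.map_comp]
      congr 2
      ext t
      exact hγ t

end Groth.Agent.S15506
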