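import Groth.Statements.S15512
import Mathlib
import Groth.Agent.Lib.Helper4.RegularGlobalDim

set_option autoImplicit false
universe u
open CategoryTheory
open CAlg

namespace Groth.Agent.S15512



open CategoryTheory Abelian in
/-- step 1: finite projective dimension -/
theorem finite_pd (A : Type u) [CommRing A]
    [IsNoetherianRing A] (hreg : ∀ m : MaximalSpectrum A, IsRegularLocalRing (Localization.AtPrime m.asIdeal))
    (n : ℕ) (hdim : ringKrullDim A ≤ n) (M : Type u) [AddCommGroup M] [Module A M] [Module.Finite A M] :
    HasProjectiveDimensionLT (ModuleCat.of A M) (n + 1) := by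
  change HasProjectiveDimensionLE (ModuleCat.of A M) n
  rw [ModuleCat.hasProjectiveDimensionLE_iff_forall_maximalSpectrum]
  intro m
  have hregm := hreg m
  let B := Localization.AtPrime m.asIdeal
  obtain ⟨nm, hnm⟩ := Groth.Agent.Lib.Helper21.exists_nat_eq_ringKrullDim (R := B)
  have hle : nm ≤ n := by
    have h1 : ringKrullDim B ≤ ringKrullDim A := by
      rw [IsLocalization.AtPrime.ringKrullDim_eq_height m.asIdeal B]
      exact Ideal.height_le_ringKrullDim_of_ne_top m.isMaximal.ne_top
    rw [hnm] at h1
    have := h1.trans hdim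
    exact_mod_cast this
  have h2 := Groth.Agent.Lib.Helper4.hasProjectiveDimensionLT_of_isRegularLocalRing_of_finite B nm hnm
    (LocalizedModule m.asIdeal.primeCompl M)
  have h3 : HasProjectiveDimensionLT (ModuleCat.of B (LocalizedModule m.asIdeal.primeCompl M)) (n + 1) :=
    hasProjectiveDimensionLT_of_ge _ (nm + 1) (n + 1) (by omega)
  exact hasProjectiveDimensionLT_of_iso
    (Shrink.linearEquiv B (LocalizedModule m.asIdeal.primeCompl M)).symm.toModuleIso (n + 1)

open CategoryTheory Abelian in
theorem ext_quot (A : Type u) [CommRing A] (X : ModuleCat.{u} A) (j : ℕ)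
    (hpd : HasProjectiveDimensionLT X (j + 2))
    {P Q : Type u} [AddCommGroup P] [Module A P] [AddCommGroup Q] [Module A Q]
    (π : P →ₗ[A] Q) (hπ : Function.Surjective π)
    (hP : Subsingleton (Ext X (ModuleCat.of A P) (j + 1))) :
    Subsingleton (Ext X (ModuleCat.of A Q) (j + 1)) := by
  have hS := LinearMap.shortExact_shortComplexKer hπ
  refine subsingleton_of_forall_eq 0 fun x₃ => ?_
  have h0 : (x₃ : Ext X (π.shortComplexKer).X₃ (j + 1)).comp hS.extClass (rfl : j + 1 + 1 = j + 2) = 0 :=
    Ext.eq_zero_of_hasProjectiveDimensionLT _ (j + 2) le_rfl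
  obtain ⟨x₂, hx₂⟩ := Ext.covariant_sequence_exact₃ X hS x₃ rfl h0
  have : x₂ = 0 := Subsingleton.elim _ _
  rw [← hx₂, this, Ext.zero_comp]

open CategoryTheory Abelian in
theorem ext_extension (A : Type u) [CommRing A] (X : ModuleCat.{u} A) (i : ℕ)
    (S : ShortComplex (ModuleCat.{u} A)) (hS : S.ShortExact)
    (h1 : Subsingleton (Ext X S.X₁ i)) (h3 : Subsingleton (Ext X S.X₃ i)) :
    Subsingleton (Ext X S.X₂ i) := by
  refine subsingleton_of_forall_eq 0 fun x₂ => ?_
  obtain ⟨x₁, hx₁⟩ := Ext.covariant_sequence_exact₂ X hS x₂ (Subsingleton.elim _ _)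
  have : x₁ = 0 := Subsingleton.elim _ _
  rw [← hx₁, this, Ext.zero_comp]

open CategoryTheory Abelian in
theorem ext_free (A : Type u) [CommRing A] (X : ModuleCat.{u} A) (j : ℕ)
    (hpd : HasProjectiveDimensionLT X (j + 2))
    (hA : Subsingleton (Ext X (ModuleCat.of A A) (j + 1))) (r : ℕ) :
    Subsingleton (Ext X (ModuleCat.of A (Fin r → A)) (j + 1)) := by
  induction r with
  | zero =>
    exact ext_quot A X j hpd (0 : A →ₗ[A] (Fin 0 → A)) (fun y => ⟨0, Subsingleton.elim _ _⟩) hA
  | succ r ih =>
    let f : A →ₗ[A] (Fin (r + 1) → A) := LinearMap.single A (fun _ => A) 0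
    let g : (Fin (r + 1) → A) →ₗ[A] (Fin r → A) := LinearMap.funLeft A A Fin.succ
    have hinj : Function.Injective f := by
      intro a b hab
      have := congrFun hab 0
      simpa [f] using this
    have hsurj : Function.Surjective g := by
      intro z
      refine ⟨Fin.cons 0 z, ?_⟩
      ext i
      simp [g, LinearMap.funLeft_apply]
    have hex : Function.Exact f g := by
      intro y
      constructor
      · intro hy
        refine ⟨y 0, ?_⟩
        ext i
        refine Fin.cases ?_ (fun i' => ?_) i
        · simp [f]
        · have := congrFun hy i'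
          simp only [g, LinearMap.funLeft_apply, Pi.zero_apply] at this
          simp [f, this]
      · rintro ⟨a, rfl⟩
        ext i
        simp [f, g, LinearMap.funLeft_apply]
    let S : ShortComplex (ModuleCat.{u} A) :=
      ShortComplex.mk (ModuleCat.ofHom f) (ModuleCat.ofHom g) (by
        rw [← ModuleCat.ofHom_comp]
        have : g.comp f = 0 := LinearMap.ext fun a => hex.apply_apply_eq_zero a
        rw [this]
        rfl)
    have hS : S.ShortExact :=
      { exact := (ShortComplex.ShortExact.moduleCat_exact_iff_function_exact _).mpr hex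
        mono_f := (ModuleCat.mono_iff_injective _).mpr hinj
        epi_g := (ModuleCat.epi_iff_surjective _).mpr hsurj }
    exact ext_extension A X (j + 1) S hS hA ih

/-- Let A be a Noetherian ring which is regular (its localization at every maximal ideal is a regular
local ring) and of finite Krull dimension, M a finitely generated A-module and d a natural number.
If Ext^i_A(M, A) vanishes for every i > d, then the projective dimension of M is at most d. -/
theorem result (A : Type u) [CommRing A]
    [IsNoetherianRing A] (hreg : ∀ m : MaximalSpectrum A, IsRegularLocalRing (Localization.AtPrime m.asIdeal))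
    (hdim : ringKrullDim A < ⊤) (M : Type u) [AddCommGroup M] [Module A M] [Module.Finite A M] (d : ℕ)
    (h : ∀ i : ℕ, d < i → Subsingleton (Abelian.Ext (ModuleCat.of A M) (ModuleCat.of A A) i)) :
    HasProjectiveDimensionLT (ModuleCat.of A M) (d + 1) := by

  classical
  -- finite bound on the dimension
  obtain ⟨n, hn⟩ : ∃ n : ℕ, ringKrullDim A ≤ n := by
    induction hk : ringKrullDim A with
    | bot => exact ⟨0, bot_le⟩
    | coe a =>
      induction a with
      | top =>
        rw [hk] at hdim
        exact absurd hdim (lt_irrefl _)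
      | coe m => exact ⟨m, le_rfl⟩
  have h1 := finite_pd A hreg n hn M
  have step : ∀ t, HasProjectiveDimensionLT (ModuleCat.of A M) (d + t + 1) →
      HasProjectiveDimensionLT (ModuleCat.of A M) (d + 1) := by
    intro t
    induction t with
    | zero => intro h0; exact h0
    | succ t ih =>
      intro h0
      apply ih
      have hA : Subsingleton (Abelian.Ext (ModuleCat.of A M) (ModuleCat.of A A) (d + t + 1)) :=
        h (d + t + 1) (by omega)
      apply ModuleCat.hasProjectiveDimensionLT_of_forall_finite
      intro L hL
      obtain ⟨r, f, hf⟩ := Module.Finite.exists_fin' A L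
      have h2 := ext_free A (ModuleCat.of A M) (d + t) h0 hA r
      exact ext_quot A (ModuleCat.of A M) (d + t) h0 f hf h2
  by_cases hnd : n ≤ d
  · exact hasProjectiveDimensionLT_of_ge _ (n + 1) (d + 1) (by omega)
  · obtain ⟨t, ht⟩ := Nat.exists_eq_add_of_le (not_le.mp hnd).le
    apply step t
    rw [← ht]
    exact h1

end Groth.Agent.S15512
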