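import Groth.Statements.S15520
import Groth.Agent.Lib.Helper5.ResExt
import Groth.Agent.Lib.Helper5.LocBasisScheme

set_option autoImplicit false
universe u
open CategoryTheory CategoryTheory.Limits AlgebraicGeometry
open Coherent

namespace Groth.Agent.S15520

/-- Let X be a scheme, F and G O_X-modules, and E_• → F → 0 a resolution of F whose terms E_i are finite
locally free O_X-modules: E is a chain complex indexed by the natural numbers with an augmentation π
: E_0 → F such that E is exact in every positive degree and E_1 → E_0 → F → 0 is exact. Let C be the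
cochain complex Hom_{O_X}(E_•, G), given with identifications C^i ≅ Hom_{O_X}(E_i, G) under which
its differentials are the maps induced by the differentials of E (contravariant functoriality of the
internal Hom). Then for every i the i-th cohomology object of C is isomorphic to the Ext sheaf
Ext^i_{O_X}(F, G), the i-th right derived functor of the internal Hom functor Hom(F, -) evaluated at
G. (Existence of an isomorphism of O_X-modules only; the published statement is for a ringed space.
The internal Hom functors and injective resolutions are the stated instance hypotheses, all true.) -/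
theorem result (X : Scheme.{u}) (F G : X.Modules)
    (E : ChainComplex X.Modules ℕ) (π : E.X 0 ⟶ F) [Epi π] (hπ : E.d 1 0 ≫ π = 0)
    (hex0 : (ShortComplex.mk (E.d 1 0) π hπ).Exact) (hex : ∀ j : ℕ, E.ExactAt (j + 1))
    (hE : ∀ j : ℕ, FlatMod.IsFinLocFree (E.X j))
    [∀ j : ℕ, ModSite.HasSheafHom (O := X.sheaf) (E.X j)] [ModSite.HasSheafHom (O := X.sheaf) F]
    [HasInjectiveResolutions (ModSite.Mod X.sheaf)]
    (C : CochainComplex X.Modules ℕ) (e : ∀ j : ℕ, C.X j ≅ (ModSite.sheafHom (O := X.sheaf) (E.X j)).obj G)
    (hC : ∀ j : ℕ, C.d j (j + 1) ≫ (e (j + 1)).hom =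
      (e j).hom ≫ (ExtSupp.sheafHomMap (O := X.sheaf) (E.d (j + 1) j)).app G)
    (i : ℕ) :
    Nonempty (C.homology i ≅ (ModSite.extSh (O := X.sheaf) F i).obj G) := by
  haveI hEpi : @Epi (ModSite.Mod X.sheaf) _ (E.X 0) F π := inferInstanceAs (Epi π)
  have hL : ∀ (j p : ℕ), 1 ≤ p →
      Limits.IsZero (Groth.Agent.Lib.Helper5.ResExt.EP (O := X.sheaf) (𝟭 (ModSite.Mod X.sheaf)) G (E.X j) p) := by
    intro j p hp
    obtain ⟨k, rfl⟩ : ∃ k, p = k + 1 := ⟨p - 1, by omega⟩
    exact Groth.Agent.Lib.Helper5.DualBasis.isZero_extSh_succ (O := X.sheaf) (E.X j)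
      (Groth.Agent.Lib.Helper5.LocBasisScheme.hasLocBases_of_isFinLocFree (E.X j) (hE j)) k G
  exact Groth.Agent.Lib.Helper5.ResExt.main (O := X.sheaf) (𝟭 (ModSite.Mod X.sheaf)) G
    (fun S' hS' _ => hS'.epi_g) E π hπ hex0 hex hL C e hC i

end Groth.Agent.S15520
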