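import Groth.Statements.S15524
-- import your own Groth.Agent.* helpers here
import Mathlib.Analysis.SpecificLimits.Basic
import Mathlib.Algebra.Polynomial.Eval.Degree
import Mathlib.Algebra.Polynomial.BigOperators
import Mathlib.Tactic

set_option autoImplicit false
open Finset
open Zeta

namespace Groth.Agent.S15524

theorem pow_bounded_le_one (x B : ℝ) (h : ∀ N : ℕ, 1 ≤ N → x ^ N ≤ B) : x ≤ 1 := by
  by_contra hx
  push Not at hx
  have ht := tendsto_pow_atTop_atTop_of_one_lt hx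
  obtain ⟨N₀, hN₀⟩ := (Filter.tendsto_atTop_atTop.mp ht) (B + 1)
  have h1 := hN₀ (max N₀ 1) (le_max_left _ _)
  have h2 := h (max N₀ 1) (le_max_right _ _)
  linarith

theorem key {n : ℕ} (β : Fin n → ℂ) (R C : ℝ) (hR : 0 < R)
    (hC : ∀ N : ℕ, 1 ≤ N → ‖∑ i, β i ^ N‖ ≤ C * R ^ N) (i₀ : Fin n) : ‖β i₀‖ ≤ R := by
  classical
  set P : Polynomial ℂ := ∏ j ∈ Finset.univ.filter (fun j => β j ≠ β i₀),
    (Polynomial.X - Polynomial.C (β j)) with hP
  have hP0 : P.eval (β i₀) ≠ 0 := by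
    rw [hP, Polynomial.eval_prod]
    apply Finset.prod_ne_zero_iff.mpr
    intro j hj
    simp only [Polynomial.eval_sub, Polynomial.eval_X, Polynomial.eval_C]
    exact sub_ne_zero.mpr (Ne.symm (Finset.mem_filter.mp hj).2)
  have hPz : ∀ j, β j ≠ β i₀ → P.eval (β j) = 0 := by
    intro j hj
    rw [hP, Polynomial.eval_prod]
    apply Finset.prod_eq_zero (Finset.mem_filter.mpr ⟨Finset.mem_univ j, hj⟩)
    simp
  have hid : ∀ N : ℕ, ∑ i, β i ^ N * P.eval (β i)
      = ∑ ν ∈ Finset.range (P.natDegree + 1), P.coeff ν * ∑ i, β i ^ (N + ν) := by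
    intro N
    simp_rw [Polynomial.eval_eq_sum_range, Finset.mul_sum]
    rw [Finset.sum_comm]
    apply Finset.sum_congr rfl
    intro ν _
    apply Finset.sum_congr rfl
    intro i _
    ring
  have hlow : ∀ N : ℕ, ‖β i₀‖ ^ N * ‖P.eval (β i₀)‖ ≤ ‖∑ i, β i ^ N * P.eval (β i)‖ := by
    intro N
    have hsum : ∑ i, β i ^ N * P.eval (β i)
        = ((Finset.univ.filter (fun j => β j = β i₀)).card : ℂ) * (β i₀ ^ N * P.eval (β i₀)) := by
      rw [← Finset.sum_filter_add_sum_filter_not Finset.univ (fun j => β j = β i₀)]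
      have h1 : ∑ x ∈ Finset.univ.filter (fun j => ¬ β j = β i₀), β x ^ N * P.eval (β x) = 0 := by
        apply Finset.sum_eq_zero
        intro j hj
        rw [hPz j (Finset.mem_filter.mp hj).2, mul_zero]
      have h2 : ∑ x ∈ Finset.univ.filter (fun j => β j = β i₀), β x ^ N * P.eval (β x)
          = ∑ x ∈ Finset.univ.filter (fun j => β j = β i₀), β i₀ ^ N * P.eval (β i₀) := by
        apply Finset.sum_congr rfl
        intro j hj
        rw [(Finset.mem_filter.mp hj).2]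
      rw [h1, h2, add_zero, Finset.sum_const, nsmul_eq_mul]
    rw [hsum, norm_mul, norm_mul, norm_pow, Complex.norm_natCast]
    have hcard : (1 : ℝ) ≤ ((Finset.univ.filter (fun j => β j = β i₀)).card : ℝ) := by
      have : 0 < (Finset.univ.filter (fun j => β j = β i₀)).card :=
        Finset.card_pos.mpr ⟨i₀, by simp⟩
      exact_mod_cast this
    exact le_mul_of_one_le_left (by positivity) hcard
  have hup : ∀ N : ℕ, 1 ≤ N →
      ‖∑ ν ∈ Finset.range (P.natDegree + 1), P.coeff ν * ∑ i, β i ^ (N + ν)‖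
        ≤ R ^ N * (C * ∑ ν ∈ Finset.range (P.natDegree + 1), ‖P.coeff ν‖ * R ^ ν) := by
    intro N hN
    calc ‖∑ ν ∈ Finset.range (P.natDegree + 1), P.coeff ν * ∑ i, β i ^ (N + ν)‖
        ≤ ∑ ν ∈ Finset.range (P.natDegree + 1), ‖P.coeff ν * ∑ i, β i ^ (N + ν)‖ :=
          norm_sum_le _ _
      _ ≤ ∑ ν ∈ Finset.range (P.natDegree + 1), ‖P.coeff ν‖ * (C * R ^ (N + ν)) := by
          apply Finset.sum_le_sum
          intro ν _
          rw [norm_mul]
          exact mul_le_mul_of_nonneg_left (hC _ (by omega)) (norm_nonneg _)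
      _ = R ^ N * (C * ∑ ν ∈ Finset.range (P.natDegree + 1), ‖P.coeff ν‖ * R ^ ν) := by
          rw [Finset.mul_sum, Finset.mul_sum]
          apply Finset.sum_congr rfl
          intro ν _
          rw [pow_add]
          ring
  have hx : ∀ N : ℕ, 1 ≤ N → (‖β i₀‖ / R) ^ N
      ≤ (C * ∑ ν ∈ Finset.range (P.natDegree + 1), ‖P.coeff ν‖ * R ^ ν) / ‖P.eval (β i₀)‖ := by
    intro N hN
    have h1 := (hlow N).trans ((congrArg norm (hid N)).le.trans (hup N hN))
    rw [div_pow, div_le_div_iff₀ (pow_pos hR N) (norm_pos_iff.mpr hP0)]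
    linarith
  have := pow_bounded_le_one _ _ hx
  rwa [div_le_one hR] at this

/-- Let q ≥ 1 and let α_1, …, α_{2g} be complex numbers permuted by α ↦ q/α, i.e. α_{σ(i)} α_i = q for a
permutation σ of the indices; these play the role of the inverse roots of the numerator of the zeta
function of a curve over a field with q elements, for which #X(F_{q^N}) = q^N + 1 − Σ_i α_i^N. If
for some d ≥ 1 and real C one has |Σ_i α_i^{dN}| ≤ C q^{dN/2} for every N ≥ 1, then |α_i|^2 = q for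
every i (the Riemann hypothesis for the curve). -/
theorem result {g : ℕ} (q : ℕ) (hq : 0 < q)
    (α : Fin (2 * g) → ℂ) (σ : Equiv.Perm (Fin (2 * g))) (hσ : ∀ i, α (σ i) * α i = q)
    (d : ℕ) (hd : 0 < d) (C : ℝ)
    (hC : ∀ N : ℕ, 1 ≤ N → ‖∑ i, α i ^ (d * N)‖ ≤ C * (q : ℝ) ^ ((d : ℝ) * N / 2))
    (i : Fin (2 * g)) : ‖α i‖ ^ 2 = q := by
  classical
  have hq0 : (0 : ℝ) < q := by exact_mod_cast hq
  set R : ℝ := (q : ℝ) ^ ((d : ℝ) / 2) with hRdef
  have hR : 0 < R := Real.rpow_pos_of_pos hq0 _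
  have hRpow : ∀ N : ℕ, (q : ℝ) ^ ((d : ℝ) * N / 2) = R ^ N := by
    intro N
    rw [hRdef, ← Real.rpow_natCast, ← Real.rpow_mul hq0.le]
    congr 1
    ring
  have hC' : ∀ N : ℕ, 1 ≤ N → ‖∑ i, (α i ^ d) ^ N‖ ≤ C * R ^ N := by
    intro N hN
    have := hC N hN
    rw [hRpow] at this
    simpa only [pow_mul] using this
  have hle : ∀ j, ‖α j‖ ^ 2 ≤ q := by
    intro j
    have h1 := key (fun i => α i ^ d) R C hR hC' j
    simp only [norm_pow] at h1
    have hR2 : R ^ 2 = (q : ℝ) ^ d := by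
      rw [hRdef, ← Real.rpow_natCast, ← Real.rpow_mul hq0.le, ← Real.rpow_natCast]
      congr 1
      push_cast
      ring
    have h2 : (‖α j‖ ^ 2) ^ d ≤ (q : ℝ) ^ d := by
      rw [← hR2, ← pow_mul, mul_comm, pow_mul]
      exact pow_le_pow_left₀ (by positivity) h1 2
    exact (pow_le_pow_iff_left₀ (by positivity) hq0.le hd.ne').mp h2
  have hprod : ‖α (σ i)‖ ^ 2 * ‖α i‖ ^ 2 = (q : ℝ) ^ 2 := by
    rw [← mul_pow, ← norm_mul, hσ i, Complex.norm_natCast]
  have h1 := hle i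
  have h2 := hle (σ i)
  have h3 : (0 : ℝ) ≤ ‖α i‖ ^ 2 := by positivity
  have h4 : (0 : ℝ) ≤ ‖α (σ i)‖ ^ 2 := by positivity
  nlinarith

end Groth.Agent.S15524
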