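import Groth.Statements.S15525
-- import your own Groth.Agent.* helpers here
import Mathlib.LinearAlgebra.Matrix.Charpoly.Coeff
import Mathlib.FieldTheory.IsAlgClosed.Basic
import Mathlib.Analysis.Complex.Polynomial.Basic
import Mathlib.LinearAlgebra.Matrix.Charpoly.Basic

set_option autoImplicit false
universe u
open Zeta

namespace Groth.Agent.S15525

open Polynomial in
theorem rev_one {K : Type*} [Field K] : reverse (1 : K[X]) = 1 := by
  have := reverse_C (1 : K)
  simpa using this

open Polynomial in
theorem rev_lin {K : Type*} [Field K] (a : K) : reverse (X - C a : K[X]) = 1 - C a * X := by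
  have : (X - C a : K[X]) = X + C (-a) := by simp [sub_eq_add_neg]
  rw [this, reverse_add_C]
  have h1 : reverse (X : K[X]) = 1 := by
    have := reverse_X_mul (1 : K[X])
    rw [mul_one, rev_one] at this
    exact this
  rw [h1]
  simp [sub_eq_add_neg]

open Polynomial in
theorem lemmaA {K : Type*} [Field K] (S : Multiset K) (hS : ∀ a ∈ S, a ≠ 0) :
    (-1) ^ (Multiset.card S) * C ((S.prod)⁻¹) * reverse ((S.map (fun a => X - C a)).prod)
      = (S.map (fun a => X - C a⁻¹)).prod := by
  induction S using Multiset.induction_on with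
  | empty => simp [rev_one]
  | cons a T ih =>
    have ha : a ≠ 0 := hS a (Multiset.mem_cons_self a T)
    have hT : ∀ b ∈ T, b ≠ 0 := fun b hb => hS b (Multiset.mem_cons_of_mem hb)
    rw [Multiset.map_cons, Multiset.prod_cons, Multiset.map_cons, Multiset.prod_cons,
      Multiset.prod_cons, Multiset.card_cons, reverse_mul_of_domain, rev_lin, ← ih hT,
      mul_inv, C_mul]
    have : (X - C a⁻¹ : K[X]) = - C a⁻¹ * (1 - C a * X) := by
      have : C a⁻¹ * C a = (1 : K[X]) := by rw [← C_mul, inv_mul_cancel₀ ha, C_1]
      linear_combination (- (X : K[X])) * this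
    rw [this]
    ring

open Polynomial in
theorem key (P : ℂ[X]) (hPm : P.Monic) (hM : ∀ z ∈ P.roots, ‖z‖ = 1) :
    (-1) ^ P.natDegree * C (P.roots.prod)⁻¹ * P.reverse = P.map (starRingEnd ℂ) := by
  have hsp : P.Splits := IsAlgClosed.splits _
  have hsplit := hsp.eq_prod_roots_of_monic hPm
  have hS0 : ∀ a ∈ P.roots, a ≠ 0 := by
    intro a ha h0
    have := hM a ha
    rw [h0] at this
    simp at this
  rw [hsp.natDegree_eq_card_roots]
  conv_lhs => rw [hsplit]
  have h2 : (Multiset.map (fun x => X - C x) P.roots).prod.roots = P.roots := by rw [← hsplit]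
  rw [h2, lemmaA _ hS0]
  conv_rhs => rw [hsplit]
  rw [Polynomial.map_multiset_prod, Multiset.map_map]
  congr 1
  apply Multiset.map_congr rfl
  intro a ha
  simp [Complex.inv_eq_conj (hM a ha)]

/-- Let L be a field with a ring embedding ι into ℂ and M an r × r matrix over L all of whose
eigenvalues, the complex roots of its characteristic polynomial mapped along ι, have absolute value
1. Then every coefficient of the characteristic polynomial of the block-diagonal matrix with blocks
M and the inverse transpose of M is mapped by ι into ℝ. This is the pointwise content of the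
assertion that for a lisse sheaf F pure of weight 0 the sum of F and its dual is real, the Frobenius
of the dual acting by the inverse transpose. -/
theorem result (L : Type u) [Field L] (ι : L →+* ℂ)
    {r : ℕ} (M : Matrix (Fin r) (Fin r) L)
    (hM : ∀ z ∈ ((Matrix.charpoly M).map ι).roots, ‖z‖ = 1) (n : ℕ) :
    (ι ((Matrix.fromBlocks M 0 0 (M⁻¹).transpose).charpoly.coeff n)).im = 0 := by
  classical
  open Polynomial in
  have hpm : M.charpoly.Monic := Matrix.charpoly_monic M
  have hPm : (M.charpoly.map ι).Monic := hpm.map ι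
  have hsp : (M.charpoly.map ι).Splits := IsAlgClosed.splits _
  have hdeg : (M.charpoly.map ι).natDegree = r := by
    rw [natDegree_map, Matrix.charpoly_natDegree_eq_dim, Fintype.card_fin]
  have hcard : Multiset.card (M.charpoly.map ι).roots = r := by
    rw [← hsp.natDegree_eq_card_roots, hdeg]
  have hS0 : ∀ a ∈ (M.charpoly.map ι).roots, a ≠ 0 := by
    intro a ha h0
    have := hM a ha
    rw [h0] at this
    simp at this
  have hdetι : ι M.det = (M.charpoly.map ι).roots.prod := by
    rw [Matrix.det_eq_sign_charpoly_coeff, map_mul, map_pow, map_neg, map_one, Fintype.card_fin,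
      ← coeff_map, coeff_zero_eq_eval_zero, hsp.eval_eq_prod_roots_of_monic hPm]
    simp only [zero_sub]
    rw [Multiset.prod_map_neg, hcard, ← mul_assoc, ← mul_pow]
    simp
  have hdet : M.det ≠ 0 := by
    intro h0
    rw [h0, map_zero] at hdetι
    exact (Multiset.prod_ne_zero (fun h => hS0 0 h rfl)) hdetι.symm
  have hunit : IsUnit M := (Matrix.isUnit_iff_isUnit_det M).mpr (IsUnit.mk0 _ hdet)
  have hrev : (M.charpoly.reverse).map ι = (M.charpoly.map ι).reverse := by
    rw [reverse, reverse, natDegree_map, reflect_map]
  have hQ : (M⁻¹.charpoly).map ι = (M.charpoly.map ι).map (starRingEnd ℂ) := by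
    rw [Matrix.charpoly_inv M hunit, ← Matrix.reverse_charpoly, Polynomial.map_mul,
      Polynomial.map_mul, hrev, Fintype.card_fin, Polynomial.map_pow, Polynomial.map_neg,
      Polynomial.map_one, map_C, Ring.inverse_eq_inv', map_inv₀, hdetι, ← key _ hPm hM, hdeg]
  rw [Matrix.charpoly_fromBlocks_zero₁₂, Matrix.charpoly_transpose, ← coeff_map,
    Polynomial.map_mul, hQ, ← Complex.conj_eq_iff_im, ← coeff_map, Polynomial.map_mul,
    Polynomial.map_map, mul_comm]
  congr 2
  ext k
  simp

end Groth.Agent.S15525
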