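import Groth.Statements.S15526
-- import your own Groth.Agent.* helpers here
import Mathlib.Algebra.Group.Units.Basic
import Mathlib.Algebra.Polynomial.Monic
import Mathlib.Algebra.Polynomial.Eval.Degree
import Mathlib.Tactic

set_option autoImplicit false
universe u
open MvPolynomial
open CAlg

namespace Groth.Agent.S15526

theorem abstract_span {R A : Type*} [CommRing R] [CommRing A] [Algebra R A] (g : ℕ)
    (P : Polynomial R) (hP : P.Monic) (hdeg : P.natDegree = 2 * g + 1) (x : A) (u : Aˣ)
    (hu : (u : A) ^ 2 = Polynomial.aeval x P)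
    (N : Submodule R A) (hN : ∀ i ≤ 2 * g, ∀ n : ℤ, x ^ i * ((u ^ n : Aˣ) : A) ∈ N) :
    ∀ a : ℕ, ∀ n : ℤ, x ^ a * ((u ^ n : Aˣ) : A) ∈ N := by
  intro a
  induction a using Nat.strong_induction_on with
  | _ a ih =>
    intro n
    rcases Nat.lt_or_ge a (2 * g + 1) with h | h
    · exact hN a (by omega) n
    · obtain ⟨b, rfl⟩ := Nat.exists_eq_add_of_le h
      have hx : x ^ (2 * g + 1) = (u : A) ^ 2
          - ∑ i ∈ Finset.range (2 * g + 1), P.coeff i • x ^ i := by
        have hsum := hP.as_sum
        rw [hdeg] at hsum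
        have h3 : Polynomial.aeval x P = x ^ (2 * g + 1)
            + ∑ i ∈ Finset.range (2 * g + 1), P.coeff i • x ^ i := by
          conv_lhs => rw [hsum]
          simp [Polynomial.aeval_def, Polynomial.eval₂_finsetSum, Algebra.smul_def]
        rw [hu, h3]
        ring
      have h2 : ((u ^ (n + 2) : Aˣ) : A) = (u : A) ^ 2 * ((u ^ n : Aˣ) : A) := by
        rw [zpow_add, Units.val_mul, mul_comm]
        simp
      have : x ^ (2 * g + 1 + b) * ((u ^ n : Aˣ) : A) = x ^ b * ((u ^ (n + 2) : Aˣ) : A)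
          - ∑ i ∈ Finset.range (2 * g + 1), P.coeff i • (x ^ (b + i) * ((u ^ n : Aˣ) : A)) := by
        rw [pow_add, hx, h2, sub_mul, sub_mul, Finset.sum_mul, Finset.sum_mul]
        congr 1
        · ring
        · apply Finset.sum_congr rfl
          intro i _
          rw [pow_add]
          simp only [Algebra.smul_def]
          ring
      rw [this]
      refine N.sub_mem (ih b (by omega) _) (N.sum_mem (fun i hi => N.smul_mem _ (ih (b + i) ?_ n)))
      have := Finset.mem_range.mp hi
      omega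

/-- Let R be a commutative ring, P ∈ R[x] a monic polynomial of degree 2g + 1, and A = R[x, y, z]/(y^2 −
P(x), yz − 1). Then every element of A is a finite sum Σ_n Q_n(x) y^n over integers n, negative
powers of y meaning powers of z, with each Q_n ∈ R[x] of degree at most 2g: the R-submodule of A
spanned by the classes of x^i y^n and x^i z^n with i ≤ 2g and n ≥ 0 is all of A. (The published
statement takes for R the ring of Witt vectors of a finite field and for P a lift of a separable
polynomial; the argument uses only that P is monic of degree 2g + 1.) -/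
theorem result (R : Type u) [CommRing R] (g : ℕ)
    (P : Polynomial R) (hP : P.Monic) (hdeg : P.natDegree = 2 * g + 1) :
    Submodule.span R {a : MvPolynomial (Fin 3) R ⧸
        Ideal.span ({X 1 ^ 2 - Polynomial.aeval (X 0 : MvPolynomial (Fin 3) R) P, X 1 * X 2 - 1} :
          Set (MvPolynomial (Fin 3) R)) |
        ∃ i n : ℕ, i ≤ 2 * g ∧
          (a = Ideal.Quotient.mk _ (X 0 ^ i * X 1 ^ n) ∨ a = Ideal.Quotient.mk _ (X 0 ^ i * X 2 ^ n))} =
      ⊤ := by
  classical
  set I := Ideal.span ({X 1 ^ 2 - Polynomial.aeval (X 0 : MvPolynomial (Fin 3) R) P, X 1 * X 2 - 1} :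
          Set (MvPolynomial (Fin 3) R)) with hI
  set N := Submodule.span R {a : MvPolynomial (Fin 3) R ⧸ I |
        ∃ i n : ℕ, i ≤ 2 * g ∧
          (a = Ideal.Quotient.mk I (X 0 ^ i * X 1 ^ n) ∨ a = Ideal.Quotient.mk I (X 0 ^ i * X 2 ^ n))}
    with hNdef
  rw [eq_top_iff]
  rintro a -
  obtain ⟨p, rfl⟩ := Ideal.Quotient.mk_surjective a
  have hyz : Ideal.Quotient.mk I (X 1) * Ideal.Quotient.mk I (X 2) = 1 := by
    rw [← map_mul, ← map_one (Ideal.Quotient.mk I), Ideal.Quotient.eq]
    exact Ideal.subset_span (by simp)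
  let u : (MvPolynomial (Fin 3) R ⧸ I)ˣ :=
    ⟨Ideal.Quotient.mk I (X 1), Ideal.Quotient.mk I (X 2), hyz, by rw [mul_comm]; exact hyz⟩
  have hu : (u : MvPolynomial (Fin 3) R ⧸ I) ^ 2
      = Polynomial.aeval (Ideal.Quotient.mk I (X 0)) P := by
    have h1 : Ideal.Quotient.mk I (X 1 ^ 2) = Ideal.Quotient.mk I (Polynomial.aeval (X 0) P) := by
      rw [Ideal.Quotient.eq]
      exact Ideal.subset_span (by simp)
    have h2 : Ideal.Quotient.mk I (Polynomial.aeval (X 0) P)
        = Polynomial.aeval (Ideal.Quotient.mk I (X 0)) P := by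
      have := Polynomial.aeval_algHom_apply (Ideal.Quotient.mkₐ R I) (X 0) P
      exact this.symm
    rw [← h2, ← h1, map_pow]
  have hupos : ∀ n : ℕ, ((u ^ (n : ℤ) : (MvPolynomial (Fin 3) R ⧸ I)ˣ) : MvPolynomial (Fin 3) R ⧸ I)
      = Ideal.Quotient.mk I (X 1) ^ n := by
    intro n
    rw [zpow_natCast, Units.val_pow_eq_pow_val]
  have huneg : ∀ n : ℕ, ((u ^ (-(n : ℤ)) : (MvPolynomial (Fin 3) R ⧸ I)ˣ) : MvPolynomial (Fin 3) R ⧸ I)
      = Ideal.Quotient.mk I (X 2) ^ n := by
    intro n
    rw [zpow_neg, zpow_natCast, ← inv_pow, Units.val_pow_eq_pow_val]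
    rfl
  have hbase : ∀ i ≤ 2 * g, ∀ n : ℤ, Ideal.Quotient.mk I (X 0) ^ i *
      ((u ^ n : (MvPolynomial (Fin 3) R ⧸ I)ˣ) : MvPolynomial (Fin 3) R ⧸ I) ∈ N := by
    intro i hi n
    rw [hNdef]
    apply Submodule.subset_span
    obtain ⟨k, rfl | rfl⟩ := n.eq_nat_or_neg
    · exact ⟨i, k, hi, Or.inl (by rw [hupos, map_mul, map_pow, map_pow])⟩
    · exact ⟨i, k, hi, Or.inr (by rw [huneg, map_mul, map_pow, map_pow])⟩
  have key := abstract_span g P hP hdeg (Ideal.Quotient.mk I (X 0)) u hu N hbase
  have hmul : ∀ (i : Fin 3) (j : ℕ) (n : ℤ), Ideal.Quotient.mk I (X 0) ^ j *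
      ((u ^ n : (MvPolynomial (Fin 3) R ⧸ I)ˣ) : MvPolynomial (Fin 3) R ⧸ I)
        * Ideal.Quotient.mk I (X i) ∈ N := by
    intro i j n
    fin_cases i
    · have := key (j + 1) n
      rw [pow_succ] at this
      convert this using 1
      simp only [Fin.zero_eta]
      ring
    · have := key j (n + 1)
      rw [zpow_add_one, Units.val_mul] at this
      convert this using 1
      simp only [Fin.mk_one]
      rw [mul_assoc]
    · have := key j (n - 1)
      rw [zpow_sub_one, Units.val_mul] at this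
      convert this using 1
      rw [mul_assoc]
      rfl
  have hclos : ∀ (i : Fin 3), ∀ b ∈ N, b * Ideal.Quotient.mk I (X i) ∈ N := by
    intro i b hb
    rw [hNdef] at hb
    induction hb using Submodule.span_induction with
    | mem b hb =>
      obtain ⟨j, n, hj, rfl | rfl⟩ := hb
      · have := hmul i j (n : ℤ)
        rwa [hupos, ← map_pow, ← map_pow, ← map_mul] at this
      · have := hmul i j (-(n : ℤ))
        rwa [huneg, ← map_pow, ← map_pow, ← map_mul] at this
    | zero => simp
    | add b c _ _ hb hc => rw [add_mul]; exact N.add_mem hb hc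
    | smul r b _ hb => rw [smul_mul_assoc]; exact N.smul_mem r hb
  induction p using MvPolynomial.induction_on with
  | C r =>
    have h1 := key 0 0
    simp only [pow_zero, zpow_zero, Units.val_one, mul_one] at h1
    have : Ideal.Quotient.mk I (C r) = r • (1 : MvPolynomial (Fin 3) R ⧸ I) := by
      rw [← map_one (Ideal.Quotient.mk I), ← Ideal.Quotient.mkₐ_eq_mk R, ← map_smul, smul_eq_C_mul, mul_one]
    rw [this]
    exact N.smul_mem r h1
  | add p q hp hq => rw [map_add]; exact N.add_mem hp hq
  | mul_X p i hp => rw [map_mul]; exact hclos i _ hp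

end Groth.Agent.S15526
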