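import Groth.Statements.S1553
import Groth.Agent.Lib.Helper21.DimLoc2
-- import your own Groth.Agent.* helpers here

set_option autoImplicit false
universe u
open CategoryTheory CategoryTheory.Limits AlgebraicGeometry
open Variety

namespace Groth.Agent.S1553

/-- Let f : X → Y be locally of finite type, x a point with image y such that the local ring of Y at y
is Noetherian, and d a natural number such that at the generic points η of the irreducible
components of X passing through x we have f(η) ≠ y and local fibre dimension d. Then the local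
dimension at x of the fibre over y is at most d + dim O_{Y,y} - 1 (written additively). -/
theorem result {X Y : Scheme.{u}} (f : X ⟶ Y) [LocallyOfFiniteType f]
    (x : X) [IsNoetherianRing (Y.presheaf.stalk (f.base x))] (d : ℕ)
    (hgen : ∀ Z ∈ irreducibleComponents (X : Type u), x ∈ Z → ∀ η : X, IsGenericPoint η Z →
      f.base η ≠ f.base x ∧ FlatMor.fibreDimAt f η = d) :
    FlatMor.fibreDimAt f x + 1 ≤ (d : WithBot ℕ∞) + ringKrullDim (Y.presheaf.stalk (f.base x)) := by
  obtain ⟨n, hn1, ⟨x₀, hx₀sp, hx₀f, hx₀tr⟩, -⟩ :=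
    Groth.Agent.Lib.Helper21.FibDim.exists_fibreDimAt_eq_trdeg f x
  have hnoeth : IsNoetherianRing (Y.presheaf.stalk (f x₀)) := by
    have h0 : f x₀ = f x := hx₀f
    rw [h0]
    infer_instance
  obtain ⟨ξ, hcomp, hsp, H⟩ :=
    Groth.Agent.Lib.Helper21.DimLoc.exists_generic_stalk_dim_inequality f x₀
  have hxZ : x ∈ closure ({ξ} : Set X) := specializes_iff_mem_closure.mp (hsp.trans hx₀sp)
  obtain ⟨hne, hd⟩ := hgen (closure {ξ}) hcomp hxZ ξ rfl
  have h6 := Groth.Agent.Lib.Helper21.DimLoc.trdeg_le_of_fibreDimAt_eq f ξ d hd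
  have h7 := H n d hx₀tr h6
  have hξx₀ : ξ ≠ x₀ := by
    intro h
    apply hne
    rw [h]
    exact hx₀f
  have h8 := Groth.Agent.Lib.Helper21.DimLoc.one_le_ringKrullDim_stalk_of_specializes hsp hξx₀
  have h9 : ringKrullDim (Y.presheaf.stalk (f x₀)) = ringKrullDim (Y.presheaf.stalk (f x)) := by
    have h0 : f x₀ = f x := hx₀f
    rw [h0]
  rw [hn1]
  calc ((n : ℕ) : WithBot ℕ∞) + 1 = 1 + n := add_comm _ _
    _ ≤ ringKrullDim (X.presheaf.stalk x₀) + n := add_le_add_left h8 _
    _ ≤ ringKrullDim (Y.presheaf.stalk (f x₀)) + d := h7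
    _ = (d : WithBot ℕ∞) + ringKrullDim (Y.presheaf.stalk (f x)) := by rw [h9, add_comm]

end Groth.Agent.S1553
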