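import Groth.Statements.S1554
import Groth.Agent.Lib.Helper21.DimLoc2
import Groth.Agent.Lib.Helper21.FibDim2
-- import your own Groth.Agent.* helpers here

set_option autoImplicit false
universe u
open CategoryTheory CategoryTheory.Limits AlgebraicGeometry
open Variety

namespace Groth.Agent.S1554

/-- Let f : X → Y be locally of finite type, x a point with image y such that the local ring of Y at y
is Noetherian of dimension at most one, and d a natural number such that the local fibre dimension
is d at the generic points of the irreducible components of X passing through x. Then the local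
dimension at x of the fibre over y equals d. -/
theorem result {X Y : Scheme.{u}} (f : X ⟶ Y) [LocallyOfFiniteType f]
    (x : X) [IsNoetherianRing (Y.presheaf.stalk (f.base x))] (hdimY : ringKrullDim (Y.presheaf.stalk (f.base x)) ≤ 1) (d : ℕ)
    (hgen : ∀ Z ∈ irreducibleComponents (X : Type u), x ∈ Z → ∀ η : X, IsGenericPoint η Z → FlatMor.fibreDimAt f η = d) :
    FlatMor.fibreDimAt f x = d := by
  obtain ⟨n, hn1, ⟨x₀, hx₀sp, hx₀f, hx₀tr⟩, -⟩ :=
    Groth.Agent.Lib.Helper21.FibDim.exists_fibreDimAt_eq_trdeg f x
  rw [hn1]
  have hdn : d = n := by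
    apply le_antisymm
    · -- semicontinuity: the generic point of a component through `x`
      have hirr : IsIrreducible (irreducibleComponent x) := isIrreducible_irreducibleComponent
      have hgp := hirr.isGenericPoint_genericPoint isClosed_irreducibleComponent
      have hd := hgen (irreducibleComponent x) (irreducibleComponent_mem_irreducibleComponents x)
        mem_irreducibleComponent hirr.genericPoint hgp
      have hsp : hirr.genericPoint ⤳ x := hgp.specializes mem_irreducibleComponent
      have hopen := Groth.Agent.Lib.Helper21.FibDim.isOpen_setOf_fibreDimAt_le f n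
      have hmem : hirr.genericPoint ∈ {y : X | FlatMor.fibreDimAt f y ≤ (n : ℕ)} :=
        hsp.mem_open hopen (by
          change FlatMor.fibreDimAt f x ≤ (n : ℕ)
          rw [hn1])
      have h2 : FlatMor.fibreDimAt f hirr.genericPoint ≤ (n : ℕ) := hmem
      rw [hd] at h2
      exact_mod_cast h2
    · have hnoeth : IsNoetherianRing (Y.presheaf.stalk (f x₀)) := by
        have h0 : f x₀ = f x := hx₀f
        rw [h0]
        infer_instance
      obtain ⟨ξ, hcomp, hsp, H⟩ :=
        Groth.Agent.Lib.Helper21.DimLoc.exists_generic_stalk_dim_inequality f x₀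
      have hxZ : x ∈ closure ({ξ} : Set X) := specializes_iff_mem_closure.mp (hsp.trans hx₀sp)
      have hd := hgen (closure {ξ}) hcomp hxZ ξ rfl
      have h6 := Groth.Agent.Lib.Helper21.DimLoc.trdeg_le_of_fibreDimAt_eq f ξ d hd
      by_cases hξx₀ : ξ = x₀
      · subst hξx₀
        rw [hx₀tr] at h6
        exact_mod_cast h6
      · have h7 := H n d hx₀tr h6
        have h8 := Groth.Agent.Lib.Helper21.DimLoc.one_le_ringKrullDim_stalk_of_specializes hsp
          hξx₀
        have h9 : ringKrullDim (Y.presheaf.stalk (f x₀)) ≤ 1 := by
          have h0 : f x₀ = f x := hx₀f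
          rw [h0]
          exact hdimY
        have h10 : (1 : WithBot ℕ∞) + (n : ℕ) ≤ 1 + (d : ℕ) :=
          calc (1 : WithBot ℕ∞) + (n : ℕ) ≤ ringKrullDim (X.presheaf.stalk x₀) + n :=
                add_le_add_left h8 _
            _ ≤ ringKrullDim (Y.presheaf.stalk (f x₀)) + d := h7
            _ ≤ 1 + (d : ℕ) := add_le_add_left h9 _
        have h11 : 1 + n ≤ 1 + d := by exact_mod_cast h10
        omega
  rw [hdn]

end Groth.Agent.S1554
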