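import Groth.Statements.S15542
import Groth.Agent.Lib.Helper17.ProCons
-- import your own Groth.Agent.* helpers here

set_option autoImplicit false
open CategoryTheory AlgebraicGeometry
universe u
open ProCons

namespace Groth.Agent.S15542

open Topology Set TopologicalSpace in
open Groth.Agent.Lib.Lead Groth.Agent.Lib.Helper17.ProConsLib in
theorem isProConstructible_preimage {X Y : Scheme.{u}} (f : X ⟶ Y) {T : Set Y}
    (hT : ProCons.IsProConstructible T) : ProCons.IsProConstructible (f.base ⁻¹' T) := by
  apply isProConstructible_of_forall_exists_specOpen
  intro x
  obtain ⟨V, hV, hyV, -⟩ := exists_affine_nhds (f.base x) isOpen_univ (mem_univ _)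
  obtain ⟨U, hU, hxU, hUV⟩ := exists_affine_nhds x (V.2.preimage f.continuous) hyV
  refine ⟨U, specOpen_of_isAffineOpen hU, hxU, ?_⟩
  have hcl := isClosed_constructible_of_isProConstructible hT (specOpen_of_isAffineOpen hV)
  have hspec := resLE_spectral f hU hV hUV
  have h1 := @IsClosed.preimage _ _ (constructibleTopology (U : Set X))
    (constructibleTopology (V : Set Y)) _ (continuous_constructible_of_isSpectralMap hspec) _ hcl
  exact h1

/-- The pro-constructible case. Let f : X ⟶ Y be any morphism of schemes and T a pro-constructible
subset of Y (locally on Y an intersection of locally constructible subsets). Then the preimage of T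
under f is pro-constructible in X. -/
theorem result {X Y : Scheme.{u}} (f : X ⟶ Y) (T : Set Y)
    (hT : ProCons.IsProConstructible T) :
    ProCons.IsProConstructible (f.base ⁻¹' T) := by
  exact isProConstructible_preimage f hT

end Groth.Agent.S15542
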