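import Groth.Statements.S15544
import Mathlib
import Groth.Agent.Lib.Helper4.ZN2
import Groth.Agent.Lib.Helper4.ZL2

set_option autoImplicit false
open CategoryTheory AlgebraicGeometry
universe u
open Coherent

namespace Groth.Agent.S15544


open AlgebraicGeometry in
/-- Let X and Y be integral schemes, Y locally Noetherian with all local rings integrally closed, and f
: X ⟶ Y a proper birational morphism (the generic point of X maps to that of Y and the stalk map
there is an isomorphism). Then every fibre of f is connected and nonempty. (The published statement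
takes X and Y Noetherian; over a locally Noetherian Y this is the same assertion fibre by fibre.) -/
theorem result {X Y : Scheme.{u}} [IsIntegral X]
    [IsIntegral Y] [IsLocallyNoetherian Y] (hY : Pi1.IsNormalScheme Y) (f : X ⟶ Y) [IsProper f]
    (hgen : f.base (genericPoint X) = genericPoint Y) (hbir : IsIso (f.stalkMap (genericPoint X)))
    (y : Y) : ConnectedSpace ↥(f.fiber y) := by
  have hdom : f.base (genericPoint X) ⤳ genericPoint Y := by
    rw [hgen]
  have hins : Inseparable (genericPoint Y) (f.base (genericPoint X)) := Inseparable.of_eq hgen.symm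
  have halg : ∀ x : X.functionField,
      (∃ p : Polynomial Y.functionField, p ≠ 0 ∧
        Polynomial.eval₂ (CohIII.stalkToFunctionField f (genericPoint Y) hdom) x p = 0) →
      x ∈ Set.range (CohIII.stalkToFunctionField f (genericPoint Y) hdom) := by
    intro x _
    have h1 : Function.Bijective (f.stalkMap (genericPoint X)).hom :=
      ConcreteCategory.bijective_of_isIso (f.stalkMap (genericPoint X))
    have h2 : Function.Bijective (Y.presheaf.stalkSpecializes hdom).hom :=
      ConcreteCategory.bijective_of_isIso (Y.presheaf.stalkCongr hins).hom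
    obtain ⟨t, ht⟩ := h1.2 x
    obtain ⟨k, hk⟩ := h2.2 t
    refine ⟨k, ?_⟩
    unfold CohIII.stalkToFunctionField
    rw [RingHom.comp_apply, hk, ht]
  have hiso : ∀ W : Y.Opens, IsIso (f.app W) := fun W =>
    (ConcreteCategory.isIso_iff_bijective (f.app W)).mpr
      (Groth.Agent.Lib.Helper4.ZN.bijective_app f hdom hY halg W)
  haveI := Groth.Agent.Lib.Helper4.ZL.preconnectedSpace_fiber f y hiso
  have hsurj : ∃ x : X, f.base x = y := by
    have hcl : IsClosed (Set.range f.base) := f.isClosedMap.isClosed_range
    have h1 : closure ({genericPoint Y} : Set Y) ⊆ Set.range f.base :=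
      hcl.closure_subset_iff.mpr (by
        rintro _ rfl
        exact ⟨genericPoint X, hgen⟩)
    have h2 : y ∈ closure ({genericPoint Y} : Set Y) := by
      rw [(genericPoint_spec Y).def]
      trivial
    exact h1 h2
  obtain ⟨x, hx⟩ := hsurj
  haveI : Nonempty ↥(f.fiber y) := ⟨(f.fiberHomeo y).symm ⟨x, hx⟩⟩
  exact ConnectedSpace.mk ‹_›

end Groth.Agent.S15544
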