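import Groth.Statements.S15545
import Groth.Agent.Lib.Helper17.ProCons
-- import your own Groth.Agent.* helpers here

set_option autoImplicit false
open CategoryTheory AlgebraicGeometry
universe u
open FDesc

namespace Groth.Agent.S15545

/-- Let f : X' ⟶ X be flat, quasi-compact and surjective, and Z a pro-constructible subset of X (locally
on X an intersection of locally constructible subsets) which is dense in X. Then the preimage of Z
under f is dense in X'. -/
theorem result {X' X : Scheme.{u}} (f : X' ⟶ X)
    [Flat f] [QuasiCompact f] [Surjective f] (Z : Set X) (hZ : ProCons.IsProConstructible Z)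
    (hd : Dense Z) : Dense (f.base ⁻¹' Z) := by
  have hE : ProCons.IsIndConstructible Zᶜ := by
    rw [Groth.Agent.Lib.Helper17.ProConsLib.isIndConstructible_iff_compl, compl_compl]
    exact hZ
  have hint : interior Zᶜ = ∅ := by
    rw [interior_compl, hd.closure_eq, Set.compl_univ]
  intro x'
  have hx : f.base x' ∉ interior Zᶜ := by rw [hint]; exact Set.notMem_empty _
  rw [Groth.Agent.Lib.Helper17.ProConsLib.mem_interior_iff_of_isIndConstructible hE] at hx
  push Not at hx
  obtain ⟨z, hz, hzZ⟩ := hx
  have hzZ' : z ∈ Z := not_not.1 hzZ
  obtain ⟨z', hz', hfz'⟩ := (Flat.generalizingMap f) hz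
  have h1 : z' ∈ f.base ⁻¹' Z := by
    change f.base z' ∈ Z
    rw [hfz']
    exact hzZ'
  exact closure_mono (Set.singleton_subset_iff.2 h1) (specializes_iff_mem_closure.1 hz')

end Groth.Agent.S15545
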