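import Groth.Statements.S15546
import Mathlib.FieldTheory.Separable
import Mathlib.FieldTheory.IsAlgClosed.Basic
import Mathlib.RingTheory.PowerBasis
import Mathlib.RingTheory.Flat.Basic
import Mathlib.RingTheory.Polynomial.Tower
import Mathlib.RingTheory.TensorProduct.Maps

set_option autoImplicit false
open scoped TensorProduct
universe u
open Unram

namespace Groth.Agent.S15546

/-- Let E be a finite extension of a field k which is not separable over k, and K an algebraic closure
of k. Then E ⊗_k K has a nonzero nilpotent element. -/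
theorem result (k E K : Type u) [Field k] [Field E]
    [Algebra k E] [FiniteDimensional k E] [Field K] [Algebra k K] [IsAlgClosure k K]
    (h : ¬ Algebra.IsSeparable k E) : ∃ x : E ⊗[k] K, x ≠ 0 ∧ IsNilpotent x := by
  classical
  have : IsAlgClosed K := IsAlgClosure.isAlgClosed k
  have h' : ¬ ∀ x : E, IsSeparable k x := fun hh => h ⟨hh⟩
  push Not at h'
  obtain ⟨α, hα⟩ := h'
  have hint : IsIntegral k α := Algebra.IsIntegral.isIntegral α
  have hf0 : minpoly k α ≠ 0 := minpoly.ne_zero hint
  have hfK0 : (minpoly k α).map (algebraMap k K) ≠ 0 := Polynomial.map_ne_zero hf0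
  have hns : ¬ ((minpoly k α).map (algebraMap k K)).Separable := by
    rwa [Polynomial.separable_map]
  have hsplit : ((minpoly k α).map (algebraMap k K)).Splits := IsAlgClosed.splits _
  rw [← Polynomial.nodup_roots_iff_of_splits hfK0 hsplit, Multiset.nodup_iff_count_le_one] at hns
  push Not at hns
  obtain ⟨r, hr⟩ := hns
  rw [Polynomial.count_roots] at hr
  have hdvd : (Polynomial.X - Polynomial.C r) ^ 2 ∣ (minpoly k α).map (algebraMap k K) :=
    (Polynomial.le_rootMultiplicity_iff hfK0).mp hr
  obtain ⟨q, hq⟩ := hdvd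
  have hq0 : q ≠ 0 := by
    rintro rfl
    rw [mul_zero] at hq
    exact hfK0 hq
  have hh2 : ((Polynomial.X - Polynomial.C r) * q) ^ 2
      = (minpoly k α).map (algebraMap k K) * q := by rw [hq]; ring
  have hh0 : (Polynomial.X - Polynomial.C r) * q ≠ 0 :=
    mul_ne_zero (Polynomial.X_sub_C_ne_zero r) hq0
  have hhdeg : ((Polynomial.X - Polynomial.C r) * q).natDegree < (minpoly k α).natDegree := by
    have h1 : (minpoly k α).map (algebraMap k K)
        = (Polynomial.X - Polynomial.C r) * ((Polynomial.X - Polynomial.C r) * q) := by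
      rw [hq]; ring
    have h2 := congrArg Polynomial.natDegree h1
    rw [Polynomial.natDegree_map, Polynomial.natDegree_mul (Polynomial.X_sub_C_ne_zero r) hh0,
      Polynomial.natDegree_X_sub_C] at h2
    omega
  -- the element
  have hfα : Polynomial.aeval ((1 : K) ⊗ₜ[k] α) (minpoly k α) = (0 : K ⊗[k] E) := by
    have := Polynomial.aeval_algHom_apply
      (Algebra.TensorProduct.includeRight : E →ₐ[k] K ⊗[k] E) α (minpoly k α)
    rw [Algebra.TensorProduct.includeRight_apply] at this
    rw [this, minpoly.aeval, map_zero]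
  have hx2 : (Polynomial.aeval ((1 : K) ⊗ₜ[k] α) ((Polynomial.X - Polynomial.C r) * q)) ^ 2
      = (0 : K ⊗[k] E) := by
    rw [← map_pow, hh2, map_mul, Polynomial.aeval_map_algebraMap, hfα, zero_mul]
  have hx0 : Polynomial.aeval ((1 : K) ⊗ₜ[k] α) ((Polynomial.X - Polynomial.C r) * q)
      ≠ (0 : K ⊗[k] E) := by
    intro hx
    have hli := Module.Flat.linearIndependent_one_tmul (S := K) (linearIndependent_pow (K := k) α)
    rw [Fintype.linearIndependent_iff] at hli
    have hsum : Polynomial.aeval ((1 : K) ⊗ₜ[k] α) ((Polynomial.X - Polynomial.C r) * q)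
        = ∑ j : Fin (minpoly k α).natDegree,
          ((Polynomial.X - Polynomial.C r) * q).coeff j • ((1 : K) ⊗ₜ[k] (α ^ (j : ℕ))) := by
      rw [Polynomial.aeval_eq_sum_range' hhdeg, Finset.sum_range]
      refine Finset.sum_congr rfl fun j _ => ?_
      rw [Algebra.TensorProduct.tmul_pow, one_pow]
    have hc := hli (fun j => ((Polynomial.X - Polynomial.C r) * q).coeff j) (hsum ▸ hx)
    apply hh0
    ext j
    by_cases hj : j < (minpoly k α).natDegree
    · exact hc ⟨j, hj⟩
    · rw [Polynomial.coeff_zero]
      exact Polynomial.coeff_eq_zero_of_natDegree_lt (by omega)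
  refine ⟨Algebra.TensorProduct.comm k K E
    (Polynomial.aeval ((1 : K) ⊗ₜ[k] α) ((Polynomial.X - Polynomial.C r) * q)), ?_, 2, ?_⟩
  · rw [Ne, EmbeddingLike.map_eq_zero_iff]
    exact hx0
  · rw [← map_pow, hx2, map_zero]

end Groth.Agent.S15546
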