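import Groth.Statements.S15548
import Mathlib
import Groth.Agent.Lib.Helper2.TorArtinRees

set_option autoImplicit false
universe u
open CategoryTheory
open CAlg

namespace Groth.Agent.S15548
section Aux

open CategoryTheory CategoryTheory.Limits MonoidalCategory
open scoped TensorProduct

variable {R : Type u} [CommRing R]

lemma homologyMap_eq_zero_of_boundary {K L : ChainComplex (ModuleCat.{u} R) ℕ} (ψ : K ⟶ L)
    (H : ∀ z : K.X 1, (K.d 1 0).hom z = 0 → (ψ.f 1).hom z ∈ LinearMap.range (L.d 2 1).hom) :
    HomologicalComplex.homologyMap ψ 1 = 0 := by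
  rw [← cancel_epi (K.homologyπ 1), Limits.comp_zero, HomologicalComplex.homologyπ_naturality]
  ext x
  have hz : (K.d 1 0).hom ((K.iCycles 1).hom x) = 0 := by
    have := K.iCycles_d 1 0
    exact congrArg (fun f => f.hom x) this
  obtain ⟨y, hy⟩ := H _ hz
  have hx : (HomologicalComplex.cyclesMap ψ 1).hom x = (L.toCycles 2 1).hom y := by
    apply (ModuleCat.mono_iff_injective (L.iCycles 1)).mp inferInstance
    have h1 : (L.iCycles 1).hom ((HomologicalComplex.cyclesMap ψ 1).hom x) =
        (ψ.f 1).hom ((K.iCycles 1).hom x) := by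
      have := HomologicalComplex.cyclesMap_i ψ 1
      exact congrArg (fun f => f.hom x) this
    have h2 : (L.iCycles 1).hom ((L.toCycles 2 1).hom y) = (L.d 2 1).hom y := by
      have := L.toCycles_i 2 1
      exact congrArg (fun f => f.hom y) this
    change (L.iCycles 1).hom _ = (L.iCycles 1).hom _
    rw [h1, h2, hy]
  change (L.homologyπ 1).hom ((HomologicalComplex.cyclesMap ψ 1).hom x) = 0
  rw [hx]
  have := L.toCycles_comp_homologyπ 2 1
  exact congrArg (fun f => f.hom y) this

end Aux


/-- Let R be a Noetherian commutative ring, I an ideal of R and M a finitely generated R-module. Then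
for every natural number n there is m ≥ n such that the map Tor_1^R(M, R/I^m) → Tor_1^R(M, R/I^n)
induced by the projection R/I^m → R/I^n is the zero map. Here Tor_1^R(M, -) is the first left
derived functor of M ⊗_R - (derived in the second variable). -/
theorem result (R : Type u) [CommRing R] [IsNoetherianRing R] (I : Ideal R)
    (M : Type u) [AddCommGroup M] [Module R M] [Module.Finite R M] (n : ℕ) :
    ∃ m : ℕ, n ≤ m ∧ ∀ h : I ^ m ≤ I ^ n,
      ((CategoryTheory.Tor (ModuleCat.{u} R) 1).obj (ModuleCat.of R M)).map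
        (ModuleCat.ofHom (Submodule.factor h)) = 0 := by
  classical
  obtain ⟨m, hnm, hAR⟩ := Groth.Agent.Lib.Helper2.TorArtinRees.exists_kills_ker I M n
  refine ⟨m, hnm, fun h => ?_⟩
  let F : ModuleCat.{u} R ⥤ ModuleCat.{u} R := MonoidalCategory.tensorLeft (ModuleCat.of R M)
  change (F.leftDerived 1).map _ = 0
  set B := ModuleCat.of R (R ⧸ I ^ m) with hB
  set B' := ModuleCat.of R (R ⧸ I ^ n) with hB'
  set π : B ⟶ B' := ModuleCat.ofHom (Submodule.factor h) with hπ
  let P1 := ProjectiveResolution.of B
  let P2 := ProjectiveResolution.of B'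
  let φ := ProjectiveResolution.lift π P1 P2
  rw [Functor.leftDerived_map_eq F 1 π φ (ProjectiveResolution.lift_commutes π P1 P2)]
  suffices hzero : HomologicalComplex.homologyMap
      ((F.mapHomologicalComplex (ComplexShape.down ℕ)).map φ) 1 = 0 by
    change _ ≫ HomologicalComplex.homologyMap _ 1 ≫ _ = 0
    rw [hzero, Limits.zero_comp, Limits.comp_zero]
  apply homologyMap_eq_zero_of_boundary
  intro z hz
  have hex1 : Function.Exact (P1.complex.d 1 0).hom (P1.π.f 0).hom :=
    (ShortComplex.ShortExact.moduleCat_exact_iff_function_exact _).mp P1.exact₀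
  have hex2 : Function.Exact (P2.complex.d 1 0).hom (P2.π.f 0).hom :=
    (ShortComplex.ShortExact.moduleCat_exact_iff_function_exact _).mp P2.exact₀
  have hex2' : Function.Exact (P2.complex.d 2 1).hom (P2.complex.d 1 0).hom :=
    (ShortComplex.ShortExact.moduleCat_exact_iff_function_exact _).mp (P2.exact_succ 0)
  have hε2 : Function.Surjective (P2.π.f 0).hom :=
    (ModuleCat.epi_iff_surjective (P2.π.f 0)).mp inferInstance
  have hφ1 : (P2.complex.d 1 0).hom ∘ₗ (φ.f 1).hom = (φ.f 0).hom ∘ₗ (P1.complex.d 1 0).hom := by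
    have := φ.comm 1 0
    ext x
    exact congrArg (fun f => f.hom x) this
  have hφ0 : (P2.π.f 0).hom ∘ₗ (φ.f 0).hom = π.hom ∘ₗ (P1.π.f 0).hom := by
    have := ProjectiveResolution.lift_commutes_zero π P1 P2
    ext x
    exact congrArg (fun f => f.hom x) this
  haveI : Module.Projective R (P1.complex.X 0) := by
    have : Projective (P1.complex.X 0) := P1.projective 0
    exact (IsProjective.iff_projective (R := R) (P := P1.complex.X 0)).mpr this
  exact Groth.Agent.Lib.Helper2.TorArtinRees.lTensor_mem_range_of_kills M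
    (P1.complex.d 1 0).hom (P1.π.f 0).hom hex1
    (P2.complex.d 2 1).hom (P2.complex.d 1 0).hom (P2.π.f 0).hom hε2 hex2' hex2
    (φ.f 1).hom (φ.f 0).hom π.hom hφ1 hφ0
    (I ^ m) (I ^ n) h (Submodule.mkQ (I ^ m)) (Submodule.mkQ_surjective _) (Submodule.ker_mkQ _)
    (Submodule.mkQ (I ^ n)) (Submodule.ker_mkQ _) (by ext; rfl) (hAR h) z hz

end Groth.Agent.S15548
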