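import Groth.Statements.S15554
import Groth.Agent.Lib.Helper25.BertiniPn5

set_option autoImplicit false
universe u
open CategoryTheory CategoryTheory.Limits AlgebraicGeometry
open SmVar

namespace Groth.Agent.S15554

/-- Let k be an infinite field and X ⊆ P^n_k a smooth projective variety, given as an integral scheme X
with a closed immersion ι into projective n-space over k through which X is smooth over k. Then X
has a smooth hyperplane section defined over k: there is a global section s of the twisting sheaf
O(1) on P^n_k whose zero scheme H, a hyperplane defined over k, does not contain X and for which the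
scheme-theoretic intersection X ∩ H = X ×_{P^n_k} H is smooth over k. (The published statement also
records that X ∩ H has dimension dim X − 1; that is automatic once X is integral and not contained
in H, so this row states smoothness together with X ⊄ H.) -/
theorem result (k : Type u) [Field k] [Infinite k] (n : ℕ)
    (X : Scheme.{u}) [IsIntegral X] (ι : X ⟶ CohB1.ProjSpace n k) [IsClosedImmersion ι]
    [Smooth (ι ≫ CohB1.ProjSpace.toSpec n k)] :
    ∃ s : Coh.structureModule (CohB1.ProjSpace n k) ⟶ Twist.twistProjSpace n k 1,
      (∃ x : ↥X, ι.base x ∉ (PicF2.zeroScheme (Twist.twistProjSpace n k 1) s).support) ∧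
      Smooth (pullback.fst ι (PicF2.zeroScheme (Twist.twistProjSpace n k 1) s).subschemeι ≫ ι ≫
        CohB1.ProjSpace.toSpec n k) := by
  have inst : @IsClosedImmersion X (Proj (CohB1.polyGrading n k)) ι := ‹IsClosedImmersion ι›
  have inst2 : Smooth ((ι : X ⟶ Proj (CohB1.polyGrading n k)) ≫ CohB1.ProjSpace.toSpec n k) :=
    ‹Smooth (ι ≫ CohB1.ProjSpace.toSpec n k)›
  obtain ⟨c, h1, h2⟩ := @Groth.Agent.Lib.Helper25.BertiniPn.exists_smooth_hyperplane k _ n X ι _ _ inst inst2
  exact ⟨Groth.Agent.Lib.Helper25.BertiniPn.linSec k n c, h1, h2⟩

end Groth.Agent.S15554
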