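import Groth.Statements.S15555
-- import your own Groth.Agent.* helpers here
import Mathlib

set_option autoImplicit false
universe u
open CategoryTheory AlgebraicGeometry
open Zeta

namespace Groth.Agent.S15555

open Finset in
section
variable {k : Type*} [Field k] {B : Type*} [CommRing B] [Algebra k B] {n : ℕ}
  (p f : ℕ) [Fact p.Prime] [CharP B p] (hf : 1 ≤ f) (hk : ∀ a : k, a ^ (p ^ f) = a)
  (c : Fin (n + 1) ⊕ Fin (n + 1) → k)

include hf hk in
theorem claim (x δ : Fin (n + 1) ⊕ Fin (n + 1) → B)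
    (hxδ : ∀ u v, x u * δ v = 0) (hδδ : ∀ u v, δ u * δ v = 0)
    (hL : ∑ v, algebraMap k B (c v) * x v = 0)
    (η : Fin (n + 1) ⊕ Fin (n + 1) → B)
    (hη : ∀ v, η v = algebraMap k B
      (Sum.elim (fun i => - c (Sum.inr i)) (fun i => c (Sum.inl i)) v) + x v + δ v) :
    (∑ i : Fin (n + 1), (η (Sum.inl i) * η (Sum.inr i) ^ (p ^ f)
        - η (Sum.inr i) * η (Sum.inl i) ^ (p ^ f)))
      - ∑ v, algebraMap k B (c v) * η v
    = ∑ i : Fin (n + 1), (x (Sum.inl i) * x (Sum.inr i) ^ (p ^ f)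
        - x (Sum.inr i) * x (Sum.inl i) ^ (p ^ f)) := by
  have hq2 : 2 ≤ p ^ f := by
    calc 2 ≤ p := (Fact.out : p.Prime).two_le
      _ = p ^ 1 := (pow_one p).symm
      _ ≤ p ^ f := Nat.pow_le_pow_right (Fact.out : p.Prime).pos hf
  obtain ⟨q', hq'⟩ : ∃ q', p ^ f = q' + 2 := ⟨p ^ f - 2, by omega⟩
  have hδq : ∀ v, δ v ^ (p ^ f) = 0 := by
    intro v
    rw [hq', pow_add, pow_two, hδδ, mul_zero]
  have hxqδ : ∀ u v, x u ^ (p ^ f) * δ v = 0 := by
    intro u v
    rw [hq', pow_succ, mul_assoc, hxδ, mul_zero]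
  have hηq : ∀ v, η v ^ (p ^ f) = algebraMap k B
      (Sum.elim (fun i => - c (Sum.inr i)) (fun i => c (Sum.inl i)) v) + x v ^ (p ^ f) := by
    intro v
    rw [hη, add_pow_char_pow, add_pow_char_pow, hδq, add_zero, ← map_pow, hk]
  have hLq : ∑ v, algebraMap k B (c v) * x v ^ (p ^ f) = 0 := by
    have h1 : (∑ v, algebraMap k B (c v) * x v) ^ (p ^ f) = 0 ^ (p ^ f) := by rw [hL]
    rw [sum_pow_char_pow, zero_pow (by omega)] at h1
    rw [← h1]
    apply Finset.sum_congr rfl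
    intro v _
    rw [mul_pow, ← map_pow, hk]
  rw [Fintype.sum_sum_type] at hL hLq
  rw [Fintype.sum_sum_type]
  simp only [hηq]
  simp only [hη, Sum.elim_inl, Sum.elim_inr]
  rw [← Finset.sum_add_distrib] at hL hLq
  rw [← Finset.sum_add_distrib, ← Finset.sum_sub_distrib]
  have key : ∀ i : Fin (n + 1),
      ((algebraMap k B (-c (Sum.inr i)) + x (Sum.inl i) + δ (Sum.inl i)) *
            (algebraMap k B (c (Sum.inl i)) + x (Sum.inr i) ^ (p ^ f)) -
          (algebraMap k B (c (Sum.inl i)) + x (Sum.inr i) + δ (Sum.inr i)) *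
            (algebraMap k B (-c (Sum.inr i)) + x (Sum.inl i) ^ (p ^ f))) -
        (algebraMap k B (c (Sum.inl i)) *
            (algebraMap k B (-c (Sum.inr i)) + x (Sum.inl i) + δ (Sum.inl i)) +
          algebraMap k B (c (Sum.inr i)) *
            (algebraMap k B (c (Sum.inl i)) + x (Sum.inr i) + δ (Sum.inr i)))
      = (x (Sum.inl i) * x (Sum.inr i) ^ (p ^ f) - x (Sum.inr i) * x (Sum.inl i) ^ (p ^ f))
        - (algebraMap k B (c (Sum.inl i)) * x (Sum.inl i) ^ (p ^ f)
            + algebraMap k B (c (Sum.inr i)) * x (Sum.inr i) ^ (p ^ f)) := by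
    intro i
    rw [map_neg]
    linear_combination (hxqδ (Sum.inr i) (Sum.inl i)) - (hxqδ (Sum.inl i) (Sum.inr i))
  rw [Finset.sum_congr rfl (fun i _ => key i), Finset.sum_sub_distrib, hLq, sub_zero]
end

open Finset Polynomial in
theorem exists_point {k : Type*} [Field k] {n : ℕ} (hn : 1 ≤ n)
    (c : Fin (n + 1) ⊕ Fin (n + 1) → k) (hc : c ≠ 0) (q : ℕ) (hq : 1 ≤ q) :
    ∃ pt : Fin (n + 1) ⊕ Fin (n + 1) → k[X],
      (∑ v, C (c v) * pt v = 0) ∧
      (∑ i : Fin (n + 1), (pt (Sum.inl i) * pt (Sum.inr i) ^ q - pt (Sum.inr i) * pt (Sum.inl i) ^ q)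
        = X ^ q - X) := by
  classical
  obtain ⟨v₀, hv₀⟩ := Function.ne_iff.mp hc
  simp only [Pi.zero_apply] at hv₀
  have : Nontrivial (Fin (n + 1)) := Fin.nontrivial_iff_two_le.mpr (by omega)
  obtain ⟨j, hj⟩ := exists_ne (Sum.elim id id v₀ : Fin (n + 1))
  have h1 : v₀ ≠ Sum.inl j := by
    rintro rfl
    exact hj rfl
  have h2 : v₀ ≠ Sum.inr j := by
    rintro rfl
    exact hj rfl
  set γ : k[X] := - C (c v₀)⁻¹ * (C (c (Sum.inl j)) + C (c (Sum.inr j)) * X) with hγ
  refine ⟨Pi.single (Sum.inl j) 1 + Pi.single (Sum.inr j) X + Pi.single v₀ γ, ?_, ?_⟩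
  · simp only [Pi.add_apply, mul_add, Finset.sum_add_distrib]
    simp only [Pi.single_apply, mul_ite, mul_zero, Finset.sum_ite_eq', Finset.mem_univ, if_true]
    rw [hγ]
    have : C (c v₀) * C (c v₀)⁻¹ = (1 : k[X]) := by
      rw [← C_mul, mul_inv_cancel₀ hv₀, C_1]
    linear_combination (- (C (c (Sum.inl j)) + C (c (Sum.inr j)) * X)) * this
  · rw [Finset.sum_eq_single j]
    · simp [Ne.symm h1, Ne.symm h2]
    · intro i _ hij
      have hzero : (Pi.single (Sum.inl j) 1 + Pi.single (Sum.inr j) X + Pi.single v₀ γ :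
          Fin (n + 1) ⊕ Fin (n + 1) → k[X]) (Sum.inl i) = 0 ∨
          (Pi.single (Sum.inl j) 1 + Pi.single (Sum.inr j) X + Pi.single v₀ γ :
          Fin (n + 1) ⊕ Fin (n + 1) → k[X]) (Sum.inr i) = 0 := by
        by_cases hv : v₀ = Sum.inl i
        · right
          subst hv
          simp [hij]
        · left
          simp [hij, Ne.symm hv]
      have hq0 : q ≠ 0 := by omega
      rcases hzero with h | h
      · rw [h]; simp [hq0]
      · rw [h]; simp [hq0]
    · intro h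
      exact absurd (Finset.mem_univ j) h

/-- the ideal `(T^(q+2))` of `k[τ][T]` -/
noncomputable def JJ (k : Type u) [Field k] (q : ℕ) : Ideal (Polynomial (Polynomial k)) :=
  Ideal.span {(Polynomial.X : Polynomial (Polynomial k)) ^ (q + 2)}

theorem exists_test_ring (k : Type u) [Field k] {n : ℕ} (hn : 1 ≤ n)
    (c : Fin (n + 1) ⊕ Fin (n + 1) → k) (hc : c ≠ 0) (q : ℕ) (hq : 2 ≤ q) :
    ∃ (B : Type u) (_ : CommRing B) (_ : Algebra k B) (x : Fin (n + 1) ⊕ Fin (n + 1) → B),
      (∑ i : Fin (n + 1), (x (Sum.inl i) * x (Sum.inr i) ^ q - x (Sum.inr i) * x (Sum.inl i) ^ q) ≠ 0) ∧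
      (∀ u, x u * ∑ i : Fin (n + 1),
        (x (Sum.inl i) * x (Sum.inr i) ^ q - x (Sum.inr i) * x (Sum.inl i) ^ q) = 0) ∧
      (∑ v, algebraMap k B (c v) * x v = 0) ∧
      (∀ v, IsNilpotent (x v)) := by
  classical
  obtain ⟨pt, hpt1, hpt2⟩ := exists_point hn c hc q (by omega)
  have hXq : ∀ r : Polynomial (Polynomial k),
      Ideal.Quotient.mk (JJ k q)
        (Polynomial.X ^ (q + 2) * r) = 0 := by
    intro r
    rw [Ideal.Quotient.eq_zero_iff_mem]
    exact Ideal.mul_mem_right _ _ (Ideal.subset_span (Set.mem_singleton _))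
  have hΦ : ∑ i : Fin (n + 1),
      (Ideal.Quotient.mk (JJ k q)
          (Polynomial.X * Polynomial.C (pt (Sum.inl i))) *
        Ideal.Quotient.mk (JJ k q)
          (Polynomial.X * Polynomial.C (pt (Sum.inr i))) ^ q -
        Ideal.Quotient.mk (JJ k q)
          (Polynomial.X * Polynomial.C (pt (Sum.inr i))) *
        Ideal.Quotient.mk (JJ k q)
          (Polynomial.X * Polynomial.C (pt (Sum.inl i))) ^ q)
      = Ideal.Quotient.mk (JJ k q)
        (Polynomial.X ^ (q + 1) * Polynomial.C (Polynomial.X ^ q - Polynomial.X)) := by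
    rw [← hpt2, map_sum, Finset.mul_sum, map_sum]
    apply Finset.sum_congr rfl
    intro i _
    simp only [← map_pow, ← map_mul, ← map_sub]
    refine congrArg _ ?_
    simp only [map_sub, map_mul, map_pow]
    ring
  refine ⟨Polynomial (Polynomial k) ⧸ JJ k q,
    inferInstance, inferInstance,
    fun v => Ideal.Quotient.mk (JJ k q) (Polynomial.X * Polynomial.C (pt v)), ?_, ?_, ?_, ?_⟩
  · rw [hΦ]
    intro h0
    rw [Ideal.Quotient.eq_zero_iff_mem, JJ, Ideal.mem_span_singleton, Polynomial.X_pow_dvd_iff] at h0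
    have h1 := h0 (q + 1) (by omega)
    rw [Polynomial.coeff_X_pow_mul', if_pos le_rfl, Nat.sub_self, Polynomial.coeff_C_zero] at h1
    have h2 := congrArg (fun r => Polynomial.coeff r 1) h1
    simp only [Polynomial.coeff_sub, Polynomial.coeff_X_pow, Polynomial.coeff_X_one,
      Polynomial.coeff_zero] at h2
    rw [if_neg (by omega)] at h2
    simp at h2
  · intro u
    rw [hΦ, ← map_mul,
      ← hXq (Polynomial.C (pt u) * Polynomial.C (Polynomial.X ^ q - Polynomial.X))]
    refine congrArg _ ?_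
    ring
  · simp only [← Ideal.Quotient.mk_algebraMap, Polynomial.algebraMap_apply, Algebra.algebraMap_self,
      RingHom.id_apply, ← map_mul, ← map_sum]
    have : ∑ v, Polynomial.C (Polynomial.C (c v)) * (Polynomial.X * Polynomial.C (pt v))
        = Polynomial.X * Polynomial.C (∑ v, Polynomial.C (c v) * pt v) := by
      rw [map_sum, Finset.mul_sum]
      apply Finset.sum_congr rfl
      intro v _
      rw [map_mul]
      ring
    rw [this, hpt1, map_zero, mul_zero, map_zero]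
  · intro v
    refine ⟨q + 2, ?_⟩
    rw [← map_pow, mul_pow, hXq]

open Finset in
theorem not_formallySmooth_aux (k : Type u) [Field k] (n : ℕ)
    (p f : ℕ) [Fact p.Prime] [CharP k p] (hf : 1 ≤ f) (hk : ∀ a : k, a ^ (p ^ f) = a)
    (F L : MvPolynomial (Fin (n + 1) ⊕ Fin (n + 1)) k)
    (hF : F = ∑ i : Fin (n + 1), (MvPolynomial.X (Sum.inl i) * MvPolynomial.X (Sum.inr i) ^ (p ^ f) -
      MvPolynomial.X (Sum.inr i) * MvPolynomial.X (Sum.inl i) ^ (p ^ f)))
    (c : Fin (n + 1) ⊕ Fin (n + 1) → k)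
    (hL : L = ∑ v, MvPolynomial.C (c v) * MvPolynomial.X v)
    (B : Type u) [CommRing B] [Algebra k B] (x : Fin (n + 1) ⊕ Fin (n + 1) → B)
    (hΦ0 : ∑ i : Fin (n + 1),
      (x (Sum.inl i) * x (Sum.inr i) ^ (p ^ f) - x (Sum.inr i) * x (Sum.inl i) ^ (p ^ f)) ≠ 0)
    (hxΦ : ∀ u, x u * ∑ i : Fin (n + 1),
        (x (Sum.inl i) * x (Sum.inr i) ^ (p ^ f) - x (Sum.inr i) * x (Sum.inl i) ^ (p ^ f)) = 0)
    (hLx : ∑ v, algebraMap k B (c v) * x v = 0)
    (hnil : ∀ v, IsNilpotent (x v))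
    (w : Fin (n + 1) ⊕ Fin (n + 1))
    (hPw : Sum.elim (fun i => - c (Sum.inr i)) (fun i => c (Sum.inl i)) w ≠ 0)
    [Algebra.FormallySmooth k
      (Localization.Away (Ideal.Quotient.mk (Ideal.span {F, L}) (MvPolynomial.X w)))] : False := by
  classical
  set Φ : B := ∑ i : Fin (n + 1),
      (x (Sum.inl i) * x (Sum.inr i) ^ (p ^ f) - x (Sum.inr i) * x (Sum.inl i) ^ (p ^ f)) with hΦdef
  have hnt : Nontrivial B := nontrivial_of_ne Φ 0 hΦ0
  have hchar : CharP B p := charP_of_injective_algebraMap (algebraMap k B).injective p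
  have hΦΦ : Φ * Φ = 0 := by
    conv_lhs => rw [hΦdef]
    rw [Finset.sum_mul]
    apply Finset.sum_eq_zero
    intro i _
    have h1 := hxΦ (Sum.inl i)
    have h2 := hxΦ (Sum.inr i)
    linear_combination (x (Sum.inr i) ^ (p ^ f)) * h1 - (x (Sum.inl i) ^ (p ^ f)) * h2
  have hI : IsNilpotent (Ideal.span {Φ} : Ideal B) := by
    refine ⟨2, ?_⟩
    rw [Ideal.span_singleton_pow, pow_two, hΦΦ, Ideal.zero_eq_bot, Ideal.span_singleton_eq_bot]
  set P : Fin (n + 1) ⊕ Fin (n + 1) → k :=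
    Sum.elim (fun i => - c (Sum.inr i)) (fun i => c (Sum.inl i)) with hP
  set ξ : Fin (n + 1) ⊕ Fin (n + 1) → B := fun v => algebraMap k B (P v) + x v with hξ
  have hPsum : ∑ v, algebraMap k B (c v) * algebraMap k B (P v) = 0 := by
    rw [Fintype.sum_sum_type, ← Finset.sum_add_distrib]
    apply Finset.sum_eq_zero
    intro i _
    simp only [hP, Sum.elim_inl, Sum.elim_inr, map_neg]
    ring
  have hξL : ∑ v, algebraMap k B (c v) * ξ v = 0 := by
    simp only [hξ, mul_add, Finset.sum_add_distrib, hPsum, hLx, add_zero]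
  have hξF : ∑ i : Fin (n + 1), (ξ (Sum.inl i) * ξ (Sum.inr i) ^ (p ^ f)
        - ξ (Sum.inr i) * ξ (Sum.inl i) ^ (p ^ f)) = Φ := by
    have := claim p f hf hk c x (fun _ => 0) (by simp) (by simp) hLx ξ (by simp [hξ, hP])
    rw [hξL, sub_zero] at this
    exact this
  -- the map to `B ⧸ (Φ)`
  set I : Ideal B := Ideal.span {Φ} with hIdef
  let g₀ : MvPolynomial (Fin (n + 1) ⊕ Fin (n + 1)) k →ₐ[k] B ⧸ I :=
    MvPolynomial.aeval (fun v => Ideal.Quotient.mk I (ξ v))
  have hg₀F : g₀ F = 0 := by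
    rw [hF]
    simp only [g₀, map_sum, map_sub, map_mul, map_pow, MvPolynomial.aeval_X]
    simp only [← map_pow, ← map_mul, ← map_sub, ← map_sum]
    rw [hξF, Ideal.Quotient.eq_zero_iff_mem]
    exact Ideal.subset_span (Set.mem_singleton _)
  have hg₀L : g₀ L = 0 := by
    rw [hL]
    simp only [g₀, map_sum, map_mul, MvPolynomial.aeval_X, MvPolynomial.aeval_C]
    have : ∀ v, algebraMap k (B ⧸ I) (c v) = Ideal.Quotient.mk I (algebraMap k B (c v)) :=
      fun v => rfl
    simp only [this, ← map_mul, ← map_sum]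
    rw [hξL, map_zero]
  have hker : ∀ a ∈ Ideal.span ({F, L} : Set (MvPolynomial (Fin (n + 1) ⊕ Fin (n + 1)) k)),
      g₀ a = 0 := by
    intro a ha
    have hle : Ideal.span ({F, L} : Set (MvPolynomial (Fin (n + 1) ⊕ Fin (n + 1)) k))
        ≤ RingHom.ker g₀.toRingHom := by
      rw [Ideal.span_le]
      rintro b (rfl | rfl)
      · exact hg₀F
      · exact hg₀L
    exact hle ha
  let g₁ := Ideal.Quotient.liftₐ (Ideal.span ({F, L} :
    Set (MvPolynomial (Fin (n + 1) ⊕ Fin (n + 1)) k))) g₀ hker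
  have hg₁ : ∀ a, g₁ (Ideal.Quotient.mk _ a) = g₀ a := fun a => rfl
  have hunit : ∀ y : Submonoid.powers (Ideal.Quotient.mk (Ideal.span ({F, L} :
      Set (MvPolynomial (Fin (n + 1) ⊕ Fin (n + 1)) k))) (MvPolynomial.X w)), IsUnit (g₁ y) := by
    rintro ⟨_, m, rfl⟩
    simp only [map_pow]
    apply IsUnit.pow
    rw [hg₁]
    simp only [g₀, MvPolynomial.aeval_X]
    apply IsUnit.map
    have h1 : IsUnit (algebraMap k B (P w)) := (IsUnit.mk0 _ hPw).map _
    exact (hnil w).isUnit_add_left_of_commute h1 (Commute.all _ _)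
  let g := IsLocalization.liftAlgHom (M := Submonoid.powers (Ideal.Quotient.mk (Ideal.span ({F, L} :
      Set (MvPolynomial (Fin (n + 1) ⊕ Fin (n + 1)) k))) (MvPolynomial.X w)))
      (S := Localization.Away (Ideal.Quotient.mk (Ideal.span ({F, L} :
      Set (MvPolynomial (Fin (n + 1) ⊕ Fin (n + 1)) k))) (MvPolynomial.X w))) (f := g₁) hunit
  obtain ⟨ψ, hψ⟩ := Algebra.FormallySmooth.exists_lift I hI g
  -- the composite `MvPolynomial → B`
  let Ψ : MvPolynomial (Fin (n + 1) ⊕ Fin (n + 1)) k →ₐ[k] B :=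
    ψ.comp ((IsScalarTower.toAlgHom k (MvPolynomial (Fin (n + 1) ⊕ Fin (n + 1)) k ⧸ Ideal.span ({F, L} :
      Set (MvPolynomial (Fin (n + 1) ⊕ Fin (n + 1)) k)))
      (Localization.Away (Ideal.Quotient.mk (Ideal.span ({F, L} :
      Set (MvPolynomial (Fin (n + 1) ⊕ Fin (n + 1)) k))) (MvPolynomial.X w)))).comp
      (Ideal.Quotient.mkₐ k (Ideal.span ({F, L} :
      Set (MvPolynomial (Fin (n + 1) ⊕ Fin (n + 1)) k)))))
  have hΨ : ∀ a, Ψ a = ψ (algebraMap _ _ (Ideal.Quotient.mk (Ideal.span ({F, L} :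
      Set (MvPolynomial (Fin (n + 1) ⊕ Fin (n + 1)) k))) a)) := fun a => rfl
  have hF0 : Ideal.Quotient.mk (Ideal.span ({F, L} :
      Set (MvPolynomial (Fin (n + 1) ⊕ Fin (n + 1)) k))) F = 0 :=
    Ideal.Quotient.eq_zero_iff_mem.mpr (Ideal.subset_span (by simp))
  have hL0 : Ideal.Quotient.mk (Ideal.span ({F, L} :
      Set (MvPolynomial (Fin (n + 1) ⊕ Fin (n + 1)) k))) L = 0 :=
    Ideal.Quotient.eq_zero_iff_mem.mpr (Ideal.subset_span (by simp))
  have hΨF : Ψ F = 0 := by
    rw [hΨ, hF0, map_zero, map_zero]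
  have hΨL : Ψ L = 0 := by
    rw [hΨ, hL0, map_zero, map_zero]
  have hmk : ∀ v, Ideal.Quotient.mk I (Ψ (MvPolynomial.X v)) = Ideal.Quotient.mk I (ξ v) := by
    intro v
    have h1 := AlgHom.congr_fun hψ (algebraMap _ _ (Ideal.Quotient.mk (Ideal.span ({F, L} :
      Set (MvPolynomial (Fin (n + 1) ⊕ Fin (n + 1)) k))) (MvPolynomial.X v)))
    simp only [AlgHom.comp_apply, Ideal.Quotient.mkₐ_eq_mk] at h1
    rw [hΨ, h1]
    simp only [g, IsLocalization.liftAlgHom_apply, IsLocalization.lift_eq]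
    change g₁ (Ideal.Quotient.mk _ (MvPolynomial.X v)) = _
    rw [hg₁]
    simp only [g₀, MvPolynomial.aeval_X]
  have hδ : ∀ v, ∃ a, a * Φ = Ψ (MvPolynomial.X v) - ξ v := by
    intro v
    have := Ideal.Quotient.eq.mp (hmk v)
    exact Ideal.mem_span_singleton'.mp this
  choose a ha using hδ
  have hfinal := claim p f hf hk c x (fun v => Ψ (MvPolynomial.X v) - ξ v)
    (by
      intro u v
      rw [← ha v, mul_left_comm, hxΦ, mul_zero])
    (by
      intro u v
      rw [← ha u, ← ha v, mul_mul_mul_comm, hΦΦ, mul_zero])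
    hLx (fun v => Ψ (MvPolynomial.X v))
    (by
      intro v
      simp only [hξ, hP]
      ring)
  have hΨF' : Ψ F = ∑ i : Fin (n + 1),
      (Ψ (MvPolynomial.X (Sum.inl i)) * Ψ (MvPolynomial.X (Sum.inr i)) ^ (p ^ f)
        - Ψ (MvPolynomial.X (Sum.inr i)) * Ψ (MvPolynomial.X (Sum.inl i)) ^ (p ^ f)) := by
    rw [hF]
    simp only [map_sum, map_sub, map_mul, map_pow]
  have hΨL' : Ψ L = ∑ v, algebraMap k B (c v) * Ψ (MvPolynomial.X v) := by
    rw [hL]
    simp only [map_sum, map_mul]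
    apply Finset.sum_congr rfl
    intro v _
    rw [← MvPolynomial.algebraMap_eq, AlgHom.commutes]
  rw [← hΨF', ← hΨL', hΨF, hΨL, sub_zero] at hfinal
  exact hΦ0 hfinal.symm

/-- Let k be a finite field with q elements and n ≥ 1 a natural number; in the 2n + 2 variables X_0, …,
X_n, Y_0, …, Y_n (indexed by Fin (n+1) ⊕ Fin (n+1), the left summand carrying the X_i) let F = Σ_i
(X_i Y_i^q − Y_i X_i^q), a form of degree q + 1 defining the hypersurface Hyp ⊂ P^{2n+1}_k. Then no
hyperplane of P^{2n+1}_k defined over k meets Hyp transversally: for every linear form L = Σ_v c_v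
x_v with a nonzero coefficient vector c over k, the scheme-theoretic intersection Hyp ∩ (L = 0) ⊂
P^{2n+1}_k is not smooth over k. The intersection is presented through the standard open pieces of
its affine cone: with R = k[X, Y]/(F, L), the piece x_w ≠ 0 of the cone Spec R is (Hyp ∩ (L = 0) ∩
D₊(x_w)) × 𝔾_m, so Hyp ∩ (L = 0) is smooth over k exactly when every localisation R[1/x_w] is a
smooth k-algebra, and the row states that not all of them are. (The published example is stated for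
every n ≥ 0; for n = 0 the hypersurface is the set of the q + 1 rational points of P^1_k, it
contains every rational point H, and Hyp ∩ H = H is a reduced point, smooth over k; so this row
takes n ≥ 1, where no rational hyperplane is contained in Hyp and each one is tangent to Hyp at a
rational point, at which the intersection is singular.) -/
theorem result (k : Type u) [Field k] [Fintype k] (n : ℕ) (hn : 1 ≤ n)
    (F L : MvPolynomial (Fin (n + 1) ⊕ Fin (n + 1)) k)
    (hF : F = ∑ i : Fin (n + 1), (MvPolynomial.X (Sum.inl i) * MvPolynomial.X (Sum.inr i) ^ Fintype.card k -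
      MvPolynomial.X (Sum.inr i) * MvPolynomial.X (Sum.inl i) ^ Fintype.card k))
    (c : Fin (n + 1) ⊕ Fin (n + 1) → k) (hc : c ≠ 0)
    (hL : L = ∑ v, MvPolynomial.C (c v) * MvPolynomial.X v) :
    ¬ ∀ w : Fin (n + 1) ⊕ Fin (n + 1),
      Smooth (Spec.map (CommRingCat.ofHom (algebraMap k
        (Localization.Away (Ideal.Quotient.mk (Ideal.span {F, L}) (MvPolynomial.X w)))))) := by
  classical
  intro hsm
  obtain ⟨p, hpchar⟩ := CharP.exists k
  obtain ⟨f, hp, hqf⟩ := FiniteField.card k p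
  have : Fact p.Prime := ⟨hp⟩
  have hf1 : 1 ≤ (f : ℕ) := f.pos
  have hk : ∀ a : k, a ^ (p ^ (f : ℕ)) = a := by
    intro a
    rw [← hqf]
    exact FiniteField.pow_card a
  have hq2 : 2 ≤ p ^ (f : ℕ) := by
    calc 2 ≤ p := hp.two_le
      _ = p ^ 1 := (pow_one p).symm
      _ ≤ p ^ (f : ℕ) := Nat.pow_le_pow_right hp.pos hf1
  rw [hqf] at hF
  obtain ⟨B, _, _, x, hΦ0, hxΦ, hLx, hnil⟩ := exists_test_ring k hn c hc (p ^ (f : ℕ)) hq2
  obtain ⟨w, hPw⟩ : ∃ w, Sum.elim (fun i => - c (Sum.inr i)) (fun i => c (Sum.inl i)) w ≠ 0 := by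
    obtain ⟨v₀, hv₀⟩ := Function.ne_iff.mp hc
    rcases v₀ with i | i
    · exact ⟨Sum.inr i, by simpa using hv₀⟩
    · exact ⟨Sum.inl i, by simpa using hv₀⟩
  have hsw := hsm w
  rw [HasRingHomProperty.Spec_iff (P := @Smooth)] at hsw
  simp only [CommRingCat.hom_ofHom] at hsw
  have hsm' := RingHom.smooth_algebraMap.mp hsw
  have : Algebra.FormallySmooth k (Localization.Away (Ideal.Quotient.mk (Ideal.span {F, L})
    (MvPolynomial.X w))) := hsm'.formallySmooth
  exact not_formallySmooth_aux k n p f hf1 hk F L hF c hL B x hΦ0 hxΦ hLx hnil w hPw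

end Groth.Agent.S15555
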