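import Groth.Statements.S15568
import Mathlib
-- import your own Groth.Agent.* helpers here

set_option autoImplicit false
universe u
open QuiverStab

namespace Groth.Agent.S15568

/-- Walls and chambers for stability weights of a quiver. Let I be the finite vertex set, d ∈ ℕ^I a
dimension vector, and call two weights θ₁, θ₂ ∈ ℝ^I orthogonal to d numerically equivalent when, for
every d′ ≤ d in ℕ^I, the numbers θ₁·d′ and θ₂·d′ are both positive, both negative or both zero. The
walls are the hyperplanes W(d′) = {θ ⊥ d : θ·d′ = 0} of d^⊥ for d′ ≤ d such that d is not a multiple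
of d′. Then θ₁ and θ₂ are numerically equivalent if and only if there is a set J₁ of such d′ for
which θ₁ and θ₂ lie in the same connected component of the locally closed subset of d^⊥ consisting
of the weights lying on W(d₁) for every d₁ ∈ J₁ and off W(d₂) for every other wall W(d₂). (Only the
quiver's vertex set enters; multiples are taken with natural-number factors.) -/
theorem result
    (I : Type u) [Fintype I] (d : I → ℕ) (θ₁ θ₂ : I → ℝ)
    (h₁ : ∑ i, θ₁ i * (d i : ℝ) = 0) (h₂ : ∑ i, θ₂ i * (d i : ℝ) = 0) :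
    (∀ d' : I → ℕ, d' ≤ d →
        SignType.sign (∑ i, θ₁ i * (d' i : ℝ)) = SignType.sign (∑ i, θ₂ i * (d' i : ℝ))) ↔
    ∃ J₁ : Set (I → ℕ), J₁ ⊆ {d' | d' ≤ d ∧ ¬ ∃ m : ℕ, d = m • d'} ∧
      θ₂ ∈ connectedComponentIn
        {θ : I → ℝ | ∑ i, θ i * (d i : ℝ) = 0 ∧ (∀ d₁ ∈ J₁, ∑ i, θ i * (d₁ i : ℝ) = 0) ∧
          ∀ d₂ : I → ℕ, d₂ ≤ d → (¬ ∃ m : ℕ, d = m • d₂) → d₂ ∉ J₁ →
            ∑ i, θ i * (d₂ i : ℝ) ≠ 0} θ₁ := by
  classical
  set f : (I → ℕ) → (I → ℝ) → ℝ := fun d' θ => ∑ i, θ i * (d' i : ℝ) with hf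
  have hfcont : ∀ d', Continuous (f d') := fun d' =>
    continuous_finsetSum _ (fun i _ => (continuous_apply i).mul continuous_const)
  have hflin : ∀ d' (a b : ℝ) (θ θ' : I → ℝ),
      f d' (a • θ + b • θ') = a * f d' θ + b * f d' θ' := by
    intro d' a b θ θ'
    simp only [hf, Pi.add_apply, Pi.smul_apply, smul_eq_mul, Finset.mul_sum,
      ← Finset.sum_add_distrib]
    apply Finset.sum_congr rfl
    intro i _
    ring
  change (∀ d' : I → ℕ, d' ≤ d → SignType.sign (f d' θ₁) = SignType.sign (f d' θ₂)) ↔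
    ∃ J₁ : Set (I → ℕ), J₁ ⊆ {d' | d' ≤ d ∧ ¬ ∃ m : ℕ, d = m • d'} ∧
      θ₂ ∈ connectedComponentIn
        {θ : I → ℝ | f d θ = 0 ∧ (∀ d₁ ∈ J₁, f d₁ θ = 0) ∧
          ∀ d₂ : I → ℕ, d₂ ≤ d → (¬ ∃ m : ℕ, d = m • d₂) → d₂ ∉ J₁ → f d₂ θ ≠ 0} θ₁
  constructor
  · intro hA
    refine ⟨{d' | (d' ≤ d ∧ ¬ ∃ m : ℕ, d = m • d') ∧ f d' θ₁ = 0}, fun d' h => h.1, ?_⟩
    -- behaviour along the segment
    have hz : ∀ (a b : ℝ), 0 ≤ a → 0 ≤ b → a + b = 1 → ∀ d' ≤ d,
        (f d' θ₁ = 0 → f d' (a • θ₁ + b • θ₂) = 0) ∧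
        (f d' θ₁ ≠ 0 → f d' (a • θ₁ + b • θ₂) ≠ 0) := by
      intro a b ha hb hab d' hd'
      have hs := hA d' hd'
      rw [hflin]
      constructor
      · intro h0
        have h2 : f d' θ₂ = 0 := by
          rw [h0, sign_zero] at hs
          exact sign_eq_zero_iff.mp hs.symm
        rw [h0, h2]; ring
      · intro hne
        rcases lt_or_gt_of_ne hne with hneg | hpos
        · have h2 : f d' θ₂ < 0 := by
            rw [sign_neg hneg] at hs
            exact sign_eq_neg_one_iff.mp hs.symm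
          have : a * f d' θ₁ + b * f d' θ₂ < 0 := by
            rcases eq_or_lt_of_le ha with h | h
            · have hb1 : b = 1 := by linarith
              rw [← h, hb1]; linarith
            · have h3 : a * f d' θ₁ < 0 := mul_neg_of_pos_of_neg h hneg
              have h4 : b * f d' θ₂ ≤ 0 := mul_nonpos_of_nonneg_of_nonpos hb h2.le
              linarith
          exact this.ne
        · have h2 : 0 < f d' θ₂ := by
            rw [sign_pos hpos] at hs
            exact sign_eq_one_iff.mp hs.symm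
          have : 0 < a * f d' θ₁ + b * f d' θ₂ := by
            rcases eq_or_lt_of_le ha with h | h
            · have hb1 : b = 1 := by linarith
              rw [← h, hb1]; linarith
            · have h3 : 0 < a * f d' θ₁ := mul_pos h hpos
              have h4 : 0 ≤ b * f d' θ₂ := mul_nonneg hb h2.le
              linarith
          exact this.ne'
    have hseg : segment ℝ θ₁ θ₂ ⊆ {θ : I → ℝ | f d θ = 0 ∧
        (∀ d₁ ∈ {d' | (d' ≤ d ∧ ¬ ∃ m : ℕ, d = m • d') ∧ f d' θ₁ = 0}, f d₁ θ = 0) ∧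
          ∀ d₂ : I → ℕ, d₂ ≤ d → (¬ ∃ m : ℕ, d = m • d₂) →
            d₂ ∉ {d' | (d' ≤ d ∧ ¬ ∃ m : ℕ, d = m • d') ∧ f d' θ₁ = 0} → f d₂ θ ≠ 0} := by
      rintro z ⟨a, b, ha, hb, hab, rfl⟩
      refine ⟨?_, ?_, ?_⟩
      · exact (hz a b ha hb hab d le_rfl).1 h₁
      · rintro d₁ ⟨⟨hd₁, _⟩, h0⟩
        exact (hz a b ha hb hab d₁ hd₁).1 h0
      · intro d₂ hd₂ hw hnot
        apply (hz a b ha hb hab d₂ hd₂).2
        intro h0
        exact hnot ⟨⟨hd₂, hw⟩, h0⟩
    exact (convex_segment θ₁ θ₂).isPreconnected.subset_connectedComponentIn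
      (left_mem_segment ℝ θ₁ θ₂) hseg (right_mem_segment ℝ θ₁ θ₂)
  · rintro ⟨J₁, hJ₁, hmem⟩ d' hd'
    set SS : Set (I → ℝ) := {θ : I → ℝ | f d θ = 0 ∧ (∀ d₁ ∈ J₁, f d₁ θ = 0) ∧
          ∀ d₂ : I → ℕ, d₂ ≤ d → (¬ ∃ m : ℕ, d = m • d₂) → d₂ ∉ J₁ → f d₂ θ ≠ 0} with hSS
    have hθ₁ : θ₁ ∈ SS := by
      by_contra h
      rw [connectedComponentIn_eq_empty h] at hmem
      exact hmem.elim
    have hC : IsPreconnected (connectedComponentIn SS θ₁) := isPreconnected_connectedComponentIn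
    have hCS : connectedComponentIn SS θ₁ ⊆ SS := connectedComponentIn_subset _ _
    have hθ₁C : θ₁ ∈ connectedComponentIn SS θ₁ := mem_connectedComponentIn hθ₁
    have hθ₂ : θ₂ ∈ SS := hCS hmem
    by_cases hw : ∃ m : ℕ, d = m • d'
    · obtain ⟨m, hm⟩ := hw
      have hzero : ∀ θ : I → ℝ, f d θ = 0 → f d' θ = 0 := by
        intro θ hθ
        rcases Nat.eq_zero_or_pos m with rfl | hmpos
        · have hd0 : d = 0 := by rw [hm, zero_smul]
          have hd'0 : d' = 0 := by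
            rw [hd0] at hd'
            exact le_antisymm hd' (fun i => Nat.zero_le _)
          simp [hf, hd'0]
        · have h3 : f d θ = (m : ℝ) * f d' θ := by
            simp only [hf, Finset.mul_sum]
            apply Finset.sum_congr rfl
            intro i _
            rw [hm]
            simp only [Pi.smul_apply, smul_eq_mul, Nat.cast_mul]
            ring
          rw [h3] at hθ
          have hm0 : (m : ℝ) ≠ 0 := by exact_mod_cast hmpos.ne'
          exact (mul_eq_zero.mp hθ).resolve_left hm0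
      rw [hzero θ₁ h₁, hzero θ₂ h₂]
    · by_cases hJ : d' ∈ J₁
      · rw [hθ₁.2.1 d' hJ, hθ₂.2.1 d' hJ]
      · have hne : ∀ θ ∈ connectedComponentIn SS θ₁, f d' θ ≠ 0 := fun θ hθ =>
          (hCS hθ).2.2 d' hd' hw hJ
        have hivt := fun a ha b hb => hC.intermediate_value (f := f d') (a := a) (b := b) ha hb
          (hfcont d').continuousOn
        rcases lt_or_gt_of_ne (hne θ₁ hθ₁C) with h1 | h1
        · rcases lt_or_gt_of_ne (hne θ₂ hmem) with h2 | h2
          · rw [sign_neg h1, sign_neg h2]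
          · exfalso
            obtain ⟨θ, hθ, h0⟩ := hivt θ₁ hθ₁C θ₂ hmem ⟨h1.le, h2.le⟩
            exact hne θ hθ h0
        · rcases lt_or_gt_of_ne (hne θ₂ hmem) with h2 | h2
          · exfalso
            obtain ⟨θ, hθ, h0⟩ := hivt θ₂ hmem θ₁ hθ₁C ⟨h2.le, h1.le⟩
            exact hne θ hθ h0
          · rw [sign_pos h1, sign_pos h2]

end Groth.Agent.S15568
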