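import Groth.Statements.S15573
import Mathlib
-- import your own Groth.Agent.* helpers here

set_option autoImplicit false
universe u v
open RInv

namespace Groth.Agent.S15573

/-- Let `R` be a commutative ring with an involution `lam` and let `S` be its fixed ring. If there is an
element `r` of `R` such that `r - lam r` is a unit, then `R` is a quadratic etale `S`-algebra. -/
theorem result (S : Type u) (R : Type v) [CommRing S] [CommRing R]
    [Algebra S R] (lam : R ≃+* R) (hlam : Function.Involutive lam) (hS : RInv.IsFixedRing S R lam)
    (h : ∃ r : R, IsUnit (r - lam r)) : RInv.IsQuadEtale S R := by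
  classical
  obtain ⟨hinj, hfix⟩ := hS
  obtain ⟨r, hu⟩ := h
  obtain ⟨ui, hui⟩ := hu.exists_right_inv
  have hlui : lam ui = -ui := by
    have h1 : lam ((r - lam r) * ui) = 1 := by rw [hui, map_one]
    rw [map_mul, map_sub, hlam r] at h1
    have h2 : (r - lam r) * (-(lam ui)) = (r - lam r) * ui := by
      rw [hui]; linear_combination h1
    have h3 := hu.mul_left_cancel h2
    calc lam ui = -(-lam ui) := (neg_neg _).symm
      _ = -ui := by rw [h3]
  have key : ∀ x : R, ∃ a b : S, x = algebraMap S R a + algebraMap S R b * r := by
    intro x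
    have hb : lam ((x - lam x) * ui) = (x - lam x) * ui := by
      rw [map_mul, map_sub, hlam x, hlui]; ring
    obtain ⟨b, hb'⟩ := (hfix _).1 hb
    have ha : lam (x - (x - lam x) * ui * r) = x - (x - lam x) * ui * r := by
      rw [map_sub, map_mul, hb]
      linear_combination (x - lam x) * hui
    obtain ⟨a, ha'⟩ := (hfix _).1 ha
    exact ⟨a, b, by rw [ha', hb']; ring⟩
  have hlamS : ∀ s : S, lam (algebraMap S R s) = algebraMap S R s := fun s =>
    (hfix _).2 ⟨s, rfl⟩
  have hli : LinearIndependent S ![(1 : R), r] := by
    rw [LinearIndependent.pair_iff]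
    intro s t hst
    rw [Algebra.smul_def, Algebra.smul_def, mul_one] at hst
    have h1 : lam (algebraMap S R s + algebraMap S R t * r) = 0 := by rw [hst, map_zero]
    rw [map_add, map_mul, hlamS, hlamS] at h1
    have h2 : algebraMap S R t * (r - lam r) = 0 := by linear_combination hst - h1
    have h3 : algebraMap S R t = 0 := by
      have := congrArg (· * ui) h2
      simp only [zero_mul, mul_assoc, hui, mul_one] at this
      exact this
    have h4 : algebraMap S R s = 0 := by rw [h3, zero_mul, add_zero] at hst; exact hst
    exact ⟨hinj (by rw [h4, map_zero]), hinj (by rw [h3, map_zero])⟩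
  have hsp : ⊤ ≤ Submodule.span S (Set.range ![(1 : R), r]) := by
    intro x _
    obtain ⟨a, b, rfl⟩ := key x
    rw [Submodule.mem_span_range_iff_exists_fun]
    refine ⟨![a, b], ?_⟩
    rw [Fin.sum_univ_two]
    simp [Algebra.smul_def]
  let 𝔟 : Module.Basis (Fin 2) S R := Module.Basis.mk hli hsp
  haveI : Module.Free S R := Module.Free.of_basis 𝔟
  haveI : Module.Finite S R := Module.Finite.of_basis 𝔟
  refine ⟨inferInstance, inferInstance, ?_, fun p => ?_⟩
  · -- formally unramified
    refine ⟨?_⟩
    have hD : ∀ s : S, KaehlerDifferential.D S R (algebraMap S R s) = 0 := fun s =>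
      (KaehlerDifferential.D S R).map_algebraMap s
    -- D r = 0
    obtain ⟨t, ht⟩ := (hfix (r + lam r)).1 (by rw [map_add, hlam r]; ring)
    obtain ⟨nn, hn⟩ := (hfix (r * lam r)).1 (by rw [map_mul, hlam r]; ring)
    have hrel : r * r = algebraMap S R t * r - algebraMap S R nn := by
      rw [ht, hn]; ring
    have hDr : KaehlerDifferential.D S R r = 0 := by
      have h1 := congrArg (KaehlerDifferential.D S R) hrel
      rw [Derivation.leibniz, map_sub, Derivation.leibniz, hD, hD, smul_zero, add_zero,
        sub_zero] at h1
      have h2 : (r - lam r) • KaehlerDifferential.D S R r = 0 := by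
        have : (r + r - algebraMap S R t) • KaehlerDifferential.D S R r = 0 := by
          rw [sub_smul, add_smul, h1, sub_self]
        rw [ht] at this
        have e : r + r - (r + lam r) = r - lam r := by ring
        rwa [e] at this
      have h3 := congrArg (ui • ·) h2
      simp only [smul_zero, smul_smul] at h3
      rwa [mul_comm, hui, one_smul] at h3
    refine subsingleton_of_forall_eq 0 fun ω => ?_
    have hω : ω ∈ Submodule.span R (Set.range (KaehlerDifferential.D S R)) := by
      rw [KaehlerDifferential.span_range_derivation]; trivial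
    have hle : Submodule.span R (Set.range (KaehlerDifferential.D S R)) ≤ ⊥ := by
      rw [Submodule.span_le]
      rintro _ ⟨x, rfl⟩
      obtain ⟨a, b, rfl⟩ := key x
      rw [SetLike.mem_coe, Submodule.mem_bot, map_add, Derivation.leibniz, hD, hD, hDr]
      simp
    exact (Submodule.mem_bot _).1 (hle hω)
  · haveI : Nontrivial S := PrimeSpectrum.nonempty_iff_nontrivial.1 ⟨p⟩
    rw [Module.rankAtStalk_eq_finrank_of_free, Pi.natCast_def, Module.finrank_eq_card_basis 𝔟]
    simp

end Groth.Agent.S15573
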