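import Groth.Statements.S15575
-- import your own Groth.Agent.* helpers here
import Mathlib
import Groth.Agent.Lib.Helper12.RInvB
open Groth.Agent.Lib.Helper12.RInvB Groth.Agent.Lib27.RInvL

set_option autoImplicit false
universe u v
open scoped TensorProduct
open RInv

namespace Groth.Agent.S15575

/-- Let `R` be a commutative ring with an involution `lam` and fixed ring `S` (no finiteness assumed).
If the localisation of `R` at a prime `p` of `S` is quadratic etale over `S_p`, then there is `s ∉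
p` with `R[1/s]` quadratic etale over `S[1/s]`; in particular the set of such primes is open in
`Spec S`. Localisations of `R` are written as base changes `S_p ⊗ R` and `S_s ⊗ R`. -/
theorem result (S : Type u) (R : Type v) [CommRing S] [CommRing R]
    [Algebra S R] (lam : R ≃+* R) (hlam : Function.Involutive lam) (hS : RInv.IsFixedRing S R lam)
    (p : PrimeSpectrum S)
    (hp : RInv.IsQuadEtale (Localization.AtPrime p.asIdeal) (Localization.AtPrime p.asIdeal ⊗[S] R)) :
    ∃ s : S, s ∉ p.asIdeal ∧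
      RInv.IsQuadEtale (Localization.Away s) (Localization.Away s ⊗[S] R) := by
  classical
  have hfix := isFixedRing_Λ lam hS (Localization.AtPrime p.asIdeal) hlam
  have hinv := Λ_involutive lam hS (Localization.AtPrime p.asIdeal) hlam
  obtain ⟨r', hr'⟩ := exists_isUnit_sub_of_isQuadEtale
    (Λ lam hS (Localization.AtPrime p.asIdeal)) hinv hfix hp
  obtain ⟨⟨r₀, s₀⟩, h0⟩ := IsLocalizedModule.surj p.asIdeal.primeCompl
    (TensorProduct.mk S (Localization.AtPrime p.asIdeal) R 1) r'
  have h0' : (algebraMap S (Localization.AtPrime p.asIdeal) s₀) • r' =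
      (1 : Localization.AtPrime p.asIdeal) ⊗ₜ[S] r₀ := by
    rw [algebraMap_smul]
    exact h0
  have hs₀ : IsUnit (algebraMap S (Localization.AtPrime p.asIdeal) s₀) :=
    IsLocalization.map_units _ s₀
  have hunit : IsUnit ((1 : Localization.AtPrime p.asIdeal) ⊗ₜ[S] (r₀ - lam r₀)) := by
    have : (1 : Localization.AtPrime p.asIdeal) ⊗ₜ[S] (r₀ - lam r₀) =
        (algebraMap S (Localization.AtPrime p.asIdeal) s₀) •
          (r' - Λ lam hS (Localization.AtPrime p.asIdeal) r') := by
      rw [smul_sub, ← Λ_smul, h0', Λ_tmul, TensorProduct.tmul_sub]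
    rw [this, Algebra.smul_def]
    exact (hs₀.map _).mul hr'
  obtain ⟨w, hw⟩ := hunit.exists_right_inv
  obtain ⟨⟨r₁, s₁⟩, h1⟩ := IsLocalizedModule.surj p.asIdeal.primeCompl
    (TensorProduct.mk S (Localization.AtPrime p.asIdeal) R 1) w
  have h2 : TensorProduct.mk S (Localization.AtPrime p.asIdeal) R 1 ((r₀ - lam r₀) * r₁) =
      TensorProduct.mk S (Localization.AtPrime p.asIdeal) R 1 ((s₁ : S) • (1 : R)) := by
    have e1 : (1 : Localization.AtPrime p.asIdeal) ⊗ₜ[S] ((r₀ - lam r₀) * r₁) =
        ((1 : Localization.AtPrime p.asIdeal) ⊗ₜ[S] (r₀ - lam r₀)) * (s₁ • w) := by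
      rw [h1]
      simp
    have e2 : ((1 : Localization.AtPrime p.asIdeal) ⊗ₜ[S] (r₀ - lam r₀)) * (s₁ • w) =
        s₁ • (1 : Localization.AtPrime p.asIdeal ⊗[S] R) := by
      rw [mul_smul_comm, hw]
    change (1 : Localization.AtPrime p.asIdeal) ⊗ₜ[S] ((r₀ - lam r₀) * r₁) =
      (1 : Localization.AtPrime p.asIdeal) ⊗ₜ[S] ((s₁ : S) • (1 : R))
    rw [e1, e2, Algebra.TensorProduct.one_def, Submonoid.smul_def, TensorProduct.smul_tmul',
      TensorProduct.smul_tmul]
  obtain ⟨c, hc⟩ := (IsLocalizedModule.eq_iff_exists p.asIdeal.primeCompl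
    (TensorProduct.mk S (Localization.AtPrime p.asIdeal) R 1)).mp h2
  refine ⟨(c : S) * (s₁ : S), (c * s₁).2, ?_⟩
  have hfix' := isFixedRing_Λ lam hS (Localization.Away ((c : S) * (s₁ : S))) hlam
  have hinv' := Λ_involutive lam hS (Localization.Away ((c : S) * (s₁ : S))) hlam
  have hu : IsUnit (((1 : Localization.Away ((c : S) * (s₁ : S))) ⊗ₜ[S] r₀) -
      Λ lam hS (Localization.Away ((c : S) * (s₁ : S))) ((1 : Localization.Away ((c : S) * (s₁ : S))) ⊗ₜ[S] r₀)) := by
    rw [Λ_tmul, ← TensorProduct.tmul_sub]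
    refine IsUnit.of_mul_eq_one
      ((IsLocalization.mk' (Localization.Away ((c : S) * (s₁ : S))) (1 : S)
        (⟨(c : S) * (s₁ : S), Submonoid.mem_powers _⟩ : Submonoid.powers ((c : S) * (s₁ : S)))) ⊗ₜ[S]
          ((c : S) • r₁)) ?_
    rw [Algebra.TensorProduct.tmul_mul_tmul, one_mul, mul_smul_comm]
    have hc' : (c : S) • ((r₀ - lam r₀) * r₁) = ((c : S) * (s₁ : S)) • (1 : R) := by
      rw [mul_smul]
      exact hc
    rw [hc', ← TensorProduct.smul_tmul, Algebra.smul_def, IsLocalization.mk'_spec'_mk,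
      map_one, Algebra.TensorProduct.one_def]
  exact isQuadEtale_of_isUnit (Λ lam hS (Localization.Away ((c : S) * (s₁ : S)))) hinv' hfix' hu

end Groth.Agent.S15575
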