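import Groth.Statements.S15579
import Mathlib
-- import your own Groth.Agent.* helpers here

set_option autoImplicit false
universe u v
open RInv

namespace Groth.Agent.S15579

/-- For a local ring `S` with maximal ideal `m` and a quadratic etale `S`-algebra `R`, the Jacobson
radical of `R` is `mR`. -/
theorem result (S : Type u) (R : Type v) [CommRing S]
    [CommRing R] [Algebra S R] [IsLocalRing S] (hq : RInv.IsQuadEtale S R) :
    Ring.jacobson R = (IsLocalRing.maximalIdeal S).map (algebraMap S R) := by
  obtain ⟨hfin, hproj, hunr, hrank⟩ := hq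
  set m := IsLocalRing.maximalIdeal S with hm
  set mR := m.map (algebraMap S R) with hmR
  apply le_antisymm
  · -- `Jac(R) ≤ mR` : `mR` is a radical ideal with Artinian quotient
    have hrad : mR.IsRadical := Algebra.FormallyUnramified.isRadical_map_isMaximal (A := S) R m
    have hred : IsReduced (R ⧸ mR) := (Ideal.isRadical_iff_quotient_reduced mR).1 hrad
    let _ : Field (S ⧸ m) := Ideal.Quotient.field m
    have hfin' : Module.Finite (S ⧸ m) (R ⧸ mR) :=
      Module.Finite.of_restrictScalars_finite S (S ⧸ m) (R ⧸ mR)
    have hart : IsArtinianRing (R ⧸ mR) := isArtinian_of_tower (S ⧸ m) inferInstance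
    have hjac : mR.jacobson = mR := by
      rw [Ideal.jacobson_eq_iff_jacobson_quotient_eq_bot, IsArtinianRing.jacobson_eq_radical,
        ← Ideal.zero_eq_bot, ← nilradical, nilradical_eq_zero]
    calc Ring.jacobson R ≤ mR.jacobson := Ideal.ringJacobson_le_jacobson
      _ = mR := hjac
  · -- `mR ≤ Jac(R)` : every maximal ideal of `R` lies over `m`
    rw [← Ideal.jacobson_bot, Ideal.jacobson, le_sInf_iff]
    rintro M ⟨-, hM⟩
    have hint : Algebra.IsIntegral S R := Algebra.IsIntegral.of_finite S R
    have hmax : (M.comap (algebraMap S R)).IsMaximal :=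
      Ideal.isMaximal_comap_of_isIntegral_of_isMaximal M
    have : M.comap (algebraMap S R) = m := IsLocalRing.eq_maximalIdeal hmax
    rw [hmR, Ideal.map_le_iff_le_comap, this]

end Groth.Agent.S15579
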