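import Groth.Statements.S15581
import Groth.Agent.Lib27.RInvL
-- import your own Groth.Agent.* helpers here

set_option autoImplicit false
universe u v
open RInv

namespace Groth.Agent.S15581

/-- Let `A` be a commutative ring with an involution `lam` whose fixed ring `B` is local with `2`
invertible. Then `Jac(A)^2 ⊆ Jac(B) A`. -/
theorem result (B : Type u) (A : Type v) [CommRing B]
    [CommRing A] [Algebra B A] (lam : A ≃+* A) (hlam : Function.Involutive lam)
    (hB : RInv.IsFixedRing B A lam) [IsLocalRing B] (h2 : IsUnit (2 : B)) :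
    (Ring.jacobson A) ^ 2 ≤ (IsLocalRing.maximalIdeal B).map (algebraMap B A) := by
  rw [pow_two, Ideal.mul_le]
  intro x hx y hy
  set mA := (IsLocalRing.maximalIdeal B).map (algebraMap B A) with hmA
  have hJ : ∀ {z : A}, z ∈ Ring.jacobson A → lam z ∈ Ring.jacobson A :=
    fun hz => Groth.Agent.Lib27.RInvL.lam_mem_jacobson lam hlam hz
  -- fixed elements of the Jacobson radical lie in `m A`
  have hfix : ∀ z : A, lam z = z → z ∈ Ring.jacobson A → z ∈ mA := by
    intro z hz hzJ
    obtain ⟨b, rfl⟩ := (hB.2 z).1 hz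
    exact Ideal.mem_map_of_mem _
      (Groth.Agent.Lib27.RInvL.mem_maximalIdeal_of_algebraMap_mem_jacobson hB.1 b hzJ)
  have hxp : x + lam x ∈ mA :=
    hfix _ (by rw [map_add, hlam x, add_comm]) (Ideal.add_mem _ hx (hJ hx))
  have hyp : y + lam y ∈ mA :=
    hfix _ (by rw [map_add, hlam y, add_comm]) (Ideal.add_mem _ hy (hJ hy))
  have hmm : (x - lam x) * (y - lam y) ∈ mA := by
    refine hfix _ ?_ (Ideal.mul_mem_right _ _ (Ideal.sub_mem _ hx (hJ hx)))
    rw [map_mul, map_sub, map_sub, hlam x, hlam y]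
    ring
  have h4 : (4 : A) * (x * y) ∈ mA := by
    have e : (4 : A) * (x * y) = (x + lam x) * (y + lam y) + (x + lam x) * (y - lam y) +
        (y + lam y) * (x - lam x) + (x - lam x) * (y - lam y) := by ring
    rw [e]
    exact Ideal.add_mem _ (Ideal.add_mem _ (Ideal.add_mem _ (Ideal.mul_mem_right _ _ hxp)
      (Ideal.mul_mem_right _ _ hxp)) (Ideal.mul_mem_right _ _ hyp)) hmm
  obtain ⟨c, hc⟩ := h2.exists_left_inv
  have hc' : algebraMap B A (c * c) * 4 = 1 := by
    have : (c * c) * 4 = (c * 2) * (c * 2) := by ring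
    rw [show (4 : A) = algebraMap B A 4 from (map_ofNat (algebraMap B A) 4).symm, ← map_mul, this, hc, mul_one, map_one]
  have : x * y = algebraMap B A (c * c) * ((4 : A) * (x * y)) := by
    rw [← mul_assoc, hc', one_mul]
  rw [this]
  exact Ideal.mul_mem_left _ _ h4

end Groth.Agent.S15581
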