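import Groth.Statements.S15588
-- import your own Groth.Agent.* helpers here
import Mathlib
import Groth.Agent.Lib.Helper12.RInvD
import Groth.Agent.S15587
open Groth.Agent.Lib.Helper12.RInvD

set_option autoImplicit false
universe u v
open scoped TensorProduct
open RInv

namespace Groth.Agent.S15588

/-- Let `R` be a commutative ring with an involution `lam` and fixed ring `S`, let `W ⊆ Spec S` be the
branch locus (the primes `p` with `S_p ⊗_S R` not quadratic etale over `S_p`) and `I` its vanishing
ideal. Then `lam` is the identity on `R/rad(IR)`, i.e. on the reduced closed subscheme `π⁻¹(W)` of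
`Spec R`: `lam r - r ∈ rad(IR)` for all `r`. Affine-local form of the statement for a good quotient
of schemes by an involution. -/
theorem result (S : Type u) (R : Type v) [CommRing S] [CommRing R]
    [Algebra S R] (lam : R ≃+* R) (hlam : Function.Involutive lam) (hS : RInv.IsFixedRing S R lam)
    (W : Set (PrimeSpectrum S))
    (hW : W = {p : PrimeSpectrum S | ¬ RInv.IsQuadEtale (Localization.AtPrime p.asIdeal) (Localization.AtPrime p.asIdeal ⊗[S] R)})
    (r : R) :
    lam r - r ∈ ((PrimeSpectrum.vanishingIdeal W).map (algebraMap S R)).radical := by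
  rw [Ideal.radical_eq_sInf, Ideal.mem_sInf]
  rintro q ⟨hIq, hqprime⟩
  haveI := hqprime
  have hWz : W = PrimeSpectrum.zeroLocus (Sig lam (S := S)) := by
    rw [hW]
    exact branch_eq_zeroLocus lam hlam hS
  have hpW : (⟨q.comap (algebraMap S R), Ideal.comap_isPrime _ _⟩ : PrimeSpectrum S) ∈ W := by
    rw [hWz, PrimeSpectrum.mem_zeroLocus]
    intro s hs
    have hsI : s ∈ PrimeSpectrum.vanishingIdeal W := by
      rw [hWz, PrimeSpectrum.mem_vanishingIdeal]
      intro p' hp'
      exact hp' hs
    exact hIq (Ideal.mem_map_of_mem _ hsI)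
  rw [hW] at hpW
  obtain ⟨q₀, hq₀, huniq, hlamq⟩ := (Groth.Agent.S15587.result S R lam hlam hS _).mp hpW
  have : (⟨q, hqprime⟩ : PrimeSpectrum R) = q₀ := huniq ⟨q, hqprime⟩ rfl
  rw [← this] at hlamq
  exact hlamq r

end Groth.Agent.S15588
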