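import Groth.Statements.S15589
-- import your own Groth.Agent.* helpers here
import Mathlib
import Groth.Agent.Lib.Helper12.RInvD
import Groth.Agent.S15587
import Groth.Agent.S15588
open Groth.Agent.Lib.Helper12.RInvD Groth.Agent.Lib27.RInvL

set_option autoImplicit false
universe u v
open scoped TensorProduct
open RInv

namespace Groth.Agent.S15589

/-- Let `R` be a commutative ring with an involution `lam` and fixed ring `S`, `W ⊆ Spec S` the branch
locus (primes `p` with `S_p ⊗_S R` not quadratic etale over `S_p`), `I` its vanishing ideal and `J =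
rad(IR)`. Then `Spec(R/J) → Spec(S/I)` is a homeomorphism; if `2` is a unit of `S`, the ring map
`S/I → R/J` is moreover bijective, so the reduced preimage of the branch locus maps isomorphically
onto it. Affine-local form of the statement for a good quotient of schemes by an involution (the
hypothesis `I ≤ J ∩ S` holds automatically and only serves to write down the map). -/
theorem result (S : Type u) (R : Type v) [CommRing S] [CommRing R]
    [Algebra S R] (lam : R ≃+* R) (hlam : Function.Involutive lam) (hS : RInv.IsFixedRing S R lam)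
    (W : Set (PrimeSpectrum S))
    (hW : W = {p : PrimeSpectrum S | ¬ RInv.IsQuadEtale (Localization.AtPrime p.asIdeal) (Localization.AtPrime p.asIdeal ⊗[S] R)})
    (J : Ideal R) (hJ : J = ((PrimeSpectrum.vanishingIdeal W).map (algebraMap S R)).radical)
    (hIJ : PrimeSpectrum.vanishingIdeal W ≤ J.comap (algebraMap S R)) :
    IsHomeomorph (PrimeSpectrum.comap (Ideal.quotientMap J (algebraMap S R) hIJ)) ∧
      (IsUnit (2 : S) → Function.Bijective (Ideal.quotientMap J (algebraMap S R) hIJ)) := by
  classical
  have hWz : W = PrimeSpectrum.zeroLocus (Sig lam (S := S)) := by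
    rw [hW]
    exact branch_eq_zeroLocus lam hlam hS
  -- primes containing `I` are in `W`
  have hmemW : ∀ p : PrimeSpectrum S, PrimeSpectrum.vanishingIdeal W ≤ p.asIdeal → p ∈ W := by
    intro p hp
    rw [hWz, PrimeSpectrum.mem_zeroLocus]
    intro s hs
    apply hp
    rw [hWz, PrimeSpectrum.mem_vanishingIdeal]
    intro p' hp'
    exact hp' hs
  -- primes over points of `W` contain `J`
  have hJle : ∀ q : PrimeSpectrum R,
      (⟨q.asIdeal.comap (algebraMap S R), Ideal.comap_isPrime _ _⟩ : PrimeSpectrum S) ∈ W →
        J ≤ q.asIdeal := by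
    intro q hq
    rw [hJ]
    refine (Ideal.IsPrime.radical_le_iff q.isPrime).mpr ?_
    rw [Ideal.map_le_iff_le_comap]
    intro s hs
    exact (PrimeSpectrum.mem_vanishingIdeal _ _).mp hs _ hq
  -- existence and uniqueness of primes over points of `W`
  have hex : ∀ p ∈ W, ∃ q : PrimeSpectrum R, q.asIdeal.comap (algebraMap S R) = p.asIdeal ∧
      (∀ q' : PrimeSpectrum R, q'.asIdeal.comap (algebraMap S R) = p.asIdeal → q' = q) := by
    intro p hp
    rw [hW] at hp
    obtain ⟨q, h1, h2, -⟩ := (Groth.Agent.S15587.result S R lam hlam hS p).mp hp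
    exact ⟨q, h1, h2⟩
  have hcomp : (Ideal.quotientMap J (algebraMap S R) hIJ).comp
      (Ideal.Quotient.mk (PrimeSpectrum.vanishingIdeal W)) =
      (Ideal.Quotient.mk J).comp (algebraMap S R) := Ideal.quotientMap_comp_mk hIJ
  have hcomap : ∀ x : PrimeSpectrum (R ⧸ J),
      PrimeSpectrum.comap (Ideal.Quotient.mk (PrimeSpectrum.vanishingIdeal W))
        (PrimeSpectrum.comap (Ideal.quotientMap J (algebraMap S R) hIJ) x) =
      PrimeSpectrum.comap (algebraMap S R) (PrimeSpectrum.comap (Ideal.Quotient.mk J) x) := by
    intro x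
    rw [← PrimeSpectrum.comap_comp_apply, ← PrimeSpectrum.comap_comp_apply, hcomp]
  have hIle : ∀ y : PrimeSpectrum (S ⧸ PrimeSpectrum.vanishingIdeal W),
      PrimeSpectrum.vanishingIdeal W ≤
        (PrimeSpectrum.comap (Ideal.Quotient.mk (PrimeSpectrum.vanishingIdeal W)) y).asIdeal := by
    intro y s hs
    change Ideal.Quotient.mk _ s ∈ y.asIdeal
    rw [Ideal.Quotient.eq_zero_iff_mem.mpr hs]
    exact y.asIdeal.zero_mem
  have hinjI := PrimeSpectrum.comap_injective_of_surjective
    (Ideal.Quotient.mk (PrimeSpectrum.vanishingIdeal W)) Ideal.Quotient.mk_surjective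
  have hinjJ := PrimeSpectrum.comap_injective_of_surjective
    (Ideal.Quotient.mk J) Ideal.Quotient.mk_surjective
  constructor
  · rw [isHomeomorph_iff_continuous_isClosedMap_bijective]
    refine ⟨PrimeSpectrum.continuous_comap _, ?_, ?_, ?_⟩
    · apply PrimeSpectrum.isClosedMap_comap_of_isIntegral
      apply RingHom.IsIntegral.tower_top (Ideal.Quotient.mk (PrimeSpectrum.vanishingIdeal W))
      rw [hcomp]
      exact RingHom.IsIntegral.trans _ _ (algebra_isIntegral lam hlam hS).isIntegral
        (RingHom.isIntegral_of_surjective _ Ideal.Quotient.mk_surjective)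
    · intro x₁ x₂ h12
      apply hinjJ
      have hp := hmemW _ (hIle (PrimeSpectrum.comap (Ideal.quotientMap J (algebraMap S R) hIJ) x₁))
      obtain ⟨q, -, huniq⟩ := hex _ hp
      have e1 := huniq (PrimeSpectrum.comap (Ideal.Quotient.mk J) x₁)
        (congrArg PrimeSpectrum.asIdeal (hcomap x₁).symm)
      have e2 := huniq (PrimeSpectrum.comap (Ideal.Quotient.mk J) x₂)
        (congrArg PrimeSpectrum.asIdeal ((hcomap x₂).symm.trans (by rw [h12])))
      rw [e1, e2]
    · intro y
      have hp := hmemW _ (hIle y)
      obtain ⟨q, hq, -⟩ := hex _ hp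
      have hqJ : J ≤ q.asIdeal := by
        apply hJle
        convert hp using 1
        exact PrimeSpectrum.ext hq
      have hqr : q ∈ Set.range (PrimeSpectrum.comap (Ideal.Quotient.mk J)) := by
        rw [range_comap_of_surjective _ _ Ideal.Quotient.mk_surjective,
          Ideal.mk_ker]
        exact hqJ
      obtain ⟨x, hx⟩ := hqr
      refine ⟨x, hinjI ?_⟩
      rw [hcomap x, hx]
      exact PrimeSpectrum.ext hq
  · intro h2
    constructor
    · apply Ideal.quotientMap_injective'
      intro s hs
      rw [Ideal.mem_comap] at hs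
      rw [PrimeSpectrum.mem_vanishingIdeal]
      intro p hp
      obtain ⟨q, hq, -⟩ := hex p hp
      have hqJ : J ≤ q.asIdeal := by
        apply hJle
        convert hp using 1
        exact PrimeSpectrum.ext hq
      rw [← hq]
      exact hqJ hs
    · intro y
      obtain ⟨r, rfl⟩ := Ideal.Quotient.mk_surjective y
      obtain ⟨c, hc⟩ := h2.exists_left_inv
      obtain ⟨t, ht⟩ := exists_trace lam hlam hS r
      refine ⟨Ideal.Quotient.mk _ (c * t), ?_⟩
      rw [Ideal.quotientMap_mk, Ideal.Quotient.eq]
      have hmem : lam r - r ∈ J := by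
        rw [hJ]
        exact Groth.Agent.S15588.result S R lam hlam hS W hW r
      have : algebraMap S R (c * t) - r = algebraMap S R c * (lam r - r) := by
        have h2' : algebraMap S R c * 2 = 1 := by
          have := congrArg (algebraMap S R) hc
          rw [map_mul, map_ofNat, map_one] at this
          exact this
        rw [map_mul, ht]
        linear_combination r * h2'
      rw [this]
      exact J.mul_mem_left _ hmem

end Groth.Agent.S15589
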