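import Groth.Statements.S15590
import Mathlib
-- import your own Groth.Agent.* helpers here

set_option autoImplicit false
universe u v
open CAlg

namespace Groth.Agent.S15590

/-- Let A → B be an injective homomorphism of commutative rings which makes B a finite flat A-module,
and suppose B is a Dedekind domain (Noetherian, integrally closed, of Krull dimension at most one; a
field is allowed). Then A is a Dedekind domain. -/
theorem result (A : Type u) (B : Type v)
    [CommRing A] [CommRing B] [Algebra A B] [IsDedekindDomain B]
    (hinj : Function.Injective (algebraMap A B)) [Module.Finite A B] [Module.Flat A B] :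
    IsDedekindDomain A := by
  have hfs : FaithfulSMul A B := (faithfulSMul_iff_algebraMap_injective A B).mpr hinj
  have hdom : IsDomain A := hinj.isDomain (algebraMap A B)
  have hint : Algebra.IsIntegral A B := Algebra.IsIntegral.of_finite A B
  have hff : Module.FaithfullyFlat A B := inferInstance
  have hker : RingHom.ker (algebraMap A B) = ⊥ := (RingHom.injective_iff_ker_eq_bot _).mp hinj
  have hnoeth : IsNoetherianRing A := by
    apply Submodule.IsNoetherian.of_isNoetherian_tensorProduct_of_faithfullyFlat (A := B)
    exact isNoetherian_of_linearEquiv (TensorProduct.AlgebraTensorModule.rid A B B).symm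
  have hdim : Ring.DimensionLEOne A := ⟨fun {p} hp0 hp => by
    obtain ⟨Q, hQ, hQp⟩ := Ideal.exists_ideal_over_prime_of_isIntegral_of_isDomain p (S := B)
      (by rw [hker]; exact bot_le)
    have hQ0 : Q ≠ ⊥ := by
      rintro rfl
      apply hp0
      rw [← hQp, ← RingHom.ker_eq_comap_bot, hker]
    have hQmax : Q.IsMaximal := hQ.isMaximal hQ0
    rw [← hQp]
    exact Ideal.isMaximal_comap_of_isIntegral_of_isMaximal Q⟩
  rw [isDedekindDomain_iff A (FractionRing A)]
  refine ⟨hdom, hnoeth, hdim, ?_⟩
  intro x hx
  -- the map on fraction fields
  let L := FractionRing B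
  let g : A →+* L := (algebraMap B L).comp (algebraMap A B)
  have hg : Function.Injective g := (IsFractionRing.injective B L).comp hinj
  let f : FractionRing A →+* L := IsFractionRing.lift hg
  obtain ⟨a, s, hs, rfl⟩ := IsFractionRing.div_surjective (A := A) x
  have hs0 : s ≠ 0 := nonZeroDivisors.ne_zero hs
  -- `f x` is integral over `B`
  have hfx : IsIntegral B (f (algebraMap A (FractionRing A) a / algebraMap A (FractionRing A) s)) := by
    obtain ⟨P, hPmonic, hP⟩ := hx
    refine ⟨P.map (algebraMap A B), hPmonic.map _, ?_⟩
    rw [Polynomial.eval₂_map]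
    have : (algebraMap B L).comp (algebraMap A B) = f.comp (algebraMap A (FractionRing A)) := by
      ext r
      simp [f, g]
    rw [this, ← Polynomial.hom_eval₂, hP, map_zero]
  obtain ⟨b, hb⟩ := IsIntegrallyClosed.algebraMap_eq_of_integral hfx
  have hbs : b * algebraMap A B s = algebraMap A B a := by
    apply IsFractionRing.injective B L
    have h1 : f (algebraMap A (FractionRing A) a) = algebraMap B L (algebraMap A B a) := by
      simp [f, g]
    have h2 : f (algebraMap A (FractionRing A) s) = algebraMap B L (algebraMap A B s) := by
      simp [f, g]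
    have hsL : algebraMap B L (algebraMap A B s) ≠ 0 := by
      rw [Ne, map_eq_zero_iff _ (IsFractionRing.injective B L), map_eq_zero_iff _ hinj]
      exact hs0
    rw [map_mul, hb, map_div₀, h1, h2, div_mul_cancel₀ _ hsL]
  have hmem : a ∈ Ideal.span ({s} : Set A) := by
    rw [← Ideal.comap_map_eq_self_of_faithfullyFlat (B := B) (Ideal.span ({s} : Set A)),
      Ideal.mem_comap, Ideal.map_span, Set.image_singleton, Ideal.mem_span_singleton']
    exact ⟨b, hbs⟩
  rw [Ideal.mem_span_singleton'] at hmem
  obtain ⟨a', rfl⟩ := hmem
  refine ⟨a', ?_⟩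
  have hsK : algebraMap A (FractionRing A) s ≠ 0 := by
    rw [Ne, IsFractionRing.to_map_eq_zero_iff]; exact hs0
  rw [map_mul, mul_div_assoc, div_self hsK, mul_one]

end Groth.Agent.S15590
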