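import Groth.Statements.S15592
-- import your own Groth.Agent.* helpers here
import Groth.Agent.Lib.Helper29.FixPt5

set_option autoImplicit false
universe u
open CategoryTheory MonoidalCategory CartesianMonoidalCategory MonObj GrpObj AlgebraicGeometry
open AlgGrp

namespace Groth.Agent.S15592

/-- The case of a one-dimensional group. Let k be a field, X a proper k-scheme having a k-rational
point, and G a k-group scheme isomorphic, as a k-group scheme, to the additive group or to the
multiplicative group over k. Then every action of G on X fixes some k-rational point of X: there is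
a k-point x with g · x = x for all points g of G with values in any k-scheme. (This is the
one-dimensional case of the fixed point property of k-split solvable groups acting on proper
k-schemes with a rational point, to which the general case reduces by induction along a composition
series.) -/
theorem result (k : Type u) [Field k]
    (G X : Over (Spec (CommRingCat.of k))) [GrpObj G]
    (hG : Nonempty (Grp.mk G ≅ Grp.mk (Red.Ga (Spec (CommRingCat.of k)))) ∨ Nonempty (Grp.mk G ≅ Grp.mk (Red.Gm (Spec (CommRingCat.of k)))))
    [IsProper X.hom] (x₀ : 𝟙_ (Over (Spec (CommRingCat.of k))) ⟶ X) (a : AlgGrp.Action G X) :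
    ∃ x : 𝟙_ (Over (Spec (CommRingCat.of k))) ⟶ X, a.IsFixedPt x := by
  rcases hG with ⟨⟨e⟩⟩ | ⟨⟨e⟩⟩
  · haveI : IsMonHom e.inv.hom.hom := e.inv.hom.isMonHom_hom
    refine Groth.Agent.Lib.Helper29.FixPt.GaCase.fixed_of_ga a x₀ e.inv.hom.hom e.hom.hom.hom ?_
    have h := congrArg (fun f => f.hom.hom) e.hom_inv_id
    exact h
  · haveI : IsMonHom e.inv.hom.hom := e.inv.hom.isMonHom_hom
    refine Groth.Agent.Lib.Helper29.FixPt.fixed_of_gm a x₀ e.inv.hom.hom e.hom.hom.hom ?_
    have h := congrArg (fun f => f.hom.hom) e.hom_inv_id
    exact h

end Groth.Agent.S15592
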