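import Groth.Statements.S15593
import Mathlib
import Groth.Prelude.Def_AlgGrp
import Groth.Agent.Lib.Helper10.Homog1
import Groth.Agent.Lib.Helper10.TrivLoc2
import Groth.Agent.Lib.Helper10.SmoothReduced2

set_option autoImplicit false
universe u
open CategoryTheory MonoidalCategory CartesianMonoidalCategory MonObj GrpObj AlgebraicGeometry
open AlgGrp

namespace Groth.Agent.S15593

/-- Let k be a field and f : G ⟶ G' a homomorphism of smooth k-group schemes of finite type. If f is
surjective (on underlying topological spaces) and has trivial kernel, that is, f is a monomorphism,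
then f is an isomorphism. No flatness of f is assumed. -/
theorem result (k : Type u) [Field k]
    (G G' : Over (Spec (CommRingCat.of k))) [GrpObj G] [GrpObj G']
    [Smooth G.hom] [QuasiCompact G.hom] [Smooth G'.hom] [QuasiCompact G'.hom]
    (f : G ⟶ G') [IsMonHom f] [Mono f] [Surjective f.left] : IsIso f := by
  classical
  haveI : LocallyOfFiniteType G.hom := inferInstance
  haveI : LocallyOfFiniteType G'.hom := inferInstance
  let a : AlgGrp.Action G G := Groth.Agent.Lib.Helper10.TrivLoc.translAction (𝟙 G)
  let b : AlgGrp.Action G G' := Groth.Agent.Lib.Helper10.TrivLoc.translAction f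
  have hf : (G ◁ f) ≫ b.act = a.act ≫ f := by
    show (G ◁ f) ≫ Groth.Agent.Lib.Helper10.TrivLoc.translAct f =
      Groth.Agent.Lib.Helper10.TrivLoc.translAct (𝟙 G) ≫ f
    rw [Groth.Agent.Lib.Helper10.TrivLoc.comp_translAct]
    unfold Groth.Agent.Lib.Helper10.TrivLoc.translAct
    rw [MonObj.mul_comp]
    simp
  haveI hlfp : LocallyOfFinitePresentation f.left := Groth.Agent.Lib.Helper10.Homog.lfp_of_lft f
  have htr : ∀ y y' : Groth.Agent.Lib.Helper10.KPts.SpK k (AlgebraicClosure k) ⟶ G',
      ∃ g : Groth.Agent.Lib.Helper10.KPts.SpK k (AlgebraicClosure k) ⟶ G,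
        CartesianMonoidalCategory.lift g y ≫ b.act = y' := by
    intro y y'
    obtain ⟨g, hg⟩ := Groth.Agent.Lib.Helper10.KPts.exists_lift_kpoint
      (K := AlgebraicClosure k) f (y' * y⁻¹)
    refine ⟨g, ?_⟩
    show CartesianMonoidalCategory.lift g y ≫ Groth.Agent.Lib.Helper10.TrivLoc.translAct f = y'
    rw [Groth.Agent.Lib.Helper10.TrivLoc.lift_translAct, hg, inv_mul_cancel_right]
  haveI : Nonempty G.left := by
    obtain ⟨pt⟩ : Nonempty ↥(𝟙_ (Over (Spec (CommRingCat.of k)))).left :=
      inferInstanceAs (Nonempty (PrimeSpectrum k))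
    exact ⟨η[G].left pt⟩
  haveI : IsReduced G'.left :=
    Groth.Agent.Lib.Helper10.SmoothReduced.isReduced_of_smooth_field G'.hom
  obtain ⟨hfl, hsu⟩ := Groth.Agent.Lib.Helper10.Homog.flat_surjective_of_transitive
    (K := AlgebraicClosure k) a b f hf htr
  haveI := hfl
  haveI : Mono f.left := inferInstance
  haveI : IsOpenImmersion f.left := IsOpenImmersion.of_flat_of_mono f.left
  haveI : IsIso f.left := by
    apply isIso_of_isOpenImmersion_of_opensRange_eq_top
    ext x
    simp only [Scheme.Hom.coe_opensRange, TopologicalSpace.Opens.coe_top, Set.mem_univ, iff_true]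
    exact f.left.surjective x
  haveI : IsIso ((Over.forget (Spec (CommRingCat.of k))).map f) := by
    show IsIso f.left
    infer_instance
  exact isIso_of_reflects_iso f (Over.forget _)

end Groth.Agent.S15593
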