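import Groth.Statements.S15598
import Groth.Agent.Lib.Helper10.OrbConn2
import Groth.Agent.Lib.Helper1.GeomIntSmooth

set_option autoImplicit false
universe u
open CategoryTheory MonoidalCategory CartesianMonoidalCategory MonObj GrpObj AlgebraicGeometry
open AlgGrp

namespace Groth.Agent.S15598

/-- Let k be an algebraically closed field, G a k-group scheme of finite type, and X a smooth connected
k-scheme with an action of G. Suppose that for some k-point x₀ of X the orbit map g ↦ g · x₀ from G
to X is surjective, and that the stabilizer of x₀, a subgroup scheme H ⟶ G whose points are exactly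
the points g of G with g · x₀ = x₀, is connected. Then G is connected. (Stated over an algebraically
closed field, to which the general case reduces since a k-group scheme of finite type is connected
exactly when it is geometrically connected.) -/
theorem result (k : Type u) [Field k] [IsAlgClosed k]
    (G X : Over (Spec (CommRingCat.of k))) [GrpObj G] [LocallyOfFiniteType G.hom] [QuasiCompact G.hom]
    [Smooth X.hom] [ConnectedSpace ↥X.left] (a : AlgGrp.Action G X) (x₀ : 𝟙_ (Over (Spec (CommRingCat.of k))) ⟶ X)
    (hsurj : Surjective (a.orbitMap x₀).left)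
    (H : Over (Spec (CommRingCat.of k))) [GrpObj H] (i : H ⟶ G) [IsMonHom i] [Mono i]
    (hH : ∀ (T : Over (Spec (CommRingCat.of k))) (g : T ⟶ G), (∃ h : T ⟶ H, h ≫ i = g) ↔ g ≫ a.orbitMap x₀ = toUnit T ≫ x₀)
    [ConnectedSpace ↥H.left] : ConnectedSpace ↥G.left := by
  classical
  let pt : (𝟙_ (Over (Spec (CommRingCat.of k)))).left := IsLocalRing.closedPoint k
  haveI : IsLocallyNoetherian X.left := LocallyOfFiniteType.isLocallyNoetherian X.hom
  haveI : IrreducibleSpace ↥X.left :=
    Groth.Agent.Lib.Helper1.ConnIrr.irreducibleSpace_of_connected X.left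
      (fun w => Groth.Agent.Lib.Helper1.GeomIntSmooth.isDomain_stalk_of_smooth X.hom w)
  refine Groth.Agent.Lib.Helper10.OrbConn.connectedSpace_of_orbit pt X a x₀
    hsurj.1 ?_
  intro g hg
  have hone : toUnit (𝟙_ (Over (Spec (CommRingCat.of k)))) = 𝟙 _ := toUnit_unique _ _
  obtain ⟨h, hh⟩ := (hH _ g).mpr (by rw [hg, hone, Category.id_comp])
  rw [← Groth.Agent.Lib.Helper10.IdComp.connectedComponent_unit_eq_Z0 k G pt]
  have hrange : _root_.IsPreconnected (Set.range i.left) :=
    isPreconnected_range i.left.continuous
  have hunit : η[G].left pt ∈ Set.range i.left := by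
    have h1 : η[H] ≫ i = η[G] := IsMonHom.one_hom i
    rw [← h1]
    exact ⟨η[H].left pt, rfl⟩
  have hsub := hrange.subset_connectedComponent hunit
  apply hsub
  rw [← hh]
  exact ⟨h.left pt, rfl⟩

end Groth.Agent.S15598
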