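import Groth.Statements.S15602
import Groth.Agent.Lib.Helper7.GaLaw


set_option autoImplicit false
universe u
open CategoryTheory MonoidalCategory CartesianMonoidalCategory MonObj GrpObj AlgebraicGeometry
open AlgGrp

namespace Groth.Agent.S15602

/-- Additive case. Let k be a field and consider the affine line over k, taken here as the underlying
k-scheme of the additive group. Any two structures of k-group scheme on it with the same unit
section have the same multiplication; in particular a group law on the affine line whose identity is
the origin is the usual addition. -/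
theorem result (k : Type u) [Field k]
    (h₁ h₂ : GrpObj (Red.Ga (Spec (CommRingCat.of k)))) (e : h₁.one = h₂.one) : h₁.mul = h₂.mul := by
  have key : ∀ (h : GrpObj (Red.Ga (Spec (CommRingCat.of k)))),
      Red.gaFn h.mul = Red.gaFn (fst (Red.Ga (Spec (CommRingCat.of k))) (Red.Ga (Spec (CommRingCat.of k)))) +
        Red.gaFn (snd (Red.Ga (Spec (CommRingCat.of k))) (Red.Ga (Spec (CommRingCat.of k)))) -
        Groth.Agent.Lib.Helper21.GaPts.evalHom
          (Red.Ga (Spec (CommRingCat.of k)) ⊗ Red.Ga (Spec (CommRingCat.of k))).hom
          (Groth.Agent.Lib.Helper7.GaLaw.gaVal k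
            (toUnit (Groth.Agent.Lib.Helper7.GaLaw.XR k k) ≫ h.one)) := by
    intro h
    letI := h
    have := Groth.Agent.Lib.Helper7.GaLaw.gaFn_mul_eq (k := k)
      (Red.Ga (Spec (CommRingCat.of k)) ⊗ Red.Ga (Spec (CommRingCat.of k))) (fst _ _) (snd _ _)
    rw [Hom.mul_def, lift_fst_snd, Category.id_comp] at this
    exact this
  apply Groth.Agent.Lib.Helper21.GaPts.gaFn_injective
  rw [key h₁, key h₂, e]

end Groth.Agent.S15602
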