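import Groth.Statements.S15603
import Groth.Agent.Lib.Helper7.GmLaw


set_option autoImplicit false
universe u
open CategoryTheory MonoidalCategory CartesianMonoidalCategory MonObj GrpObj AlgebraicGeometry
open AlgGrp

namespace Groth.Agent.S15603

/-- Multiplicative case. Let k be a field and consider the affine line minus the origin over k, taken
here as the underlying k-scheme of the multiplicative group. Any two structures of k-group scheme on
it with the same unit section have the same multiplication; in particular a group law on the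
punctured line whose identity is the point 1 is the usual multiplication. -/
theorem result (k : Type u) [Field k]
    (h₁ h₂ : GrpObj (Red.Gm (Spec (CommRingCat.of k)))) (e : h₁.one = h₂.one) : h₁.mul = h₂.mul := by
  have key : ∀ (h : GrpObj (Red.Gm (Spec (CommRingCat.of k)))),
      Groth.Agent.Lib.Helper21.GaPts.dsFn (1 : ℤ) h.mul =
        Groth.Agent.Lib.Helper21.GaPts.dsFn (1 : ℤ)
          (fst (Red.Gm (Spec (CommRingCat.of k))) (Red.Gm (Spec (CommRingCat.of k)))) *
        Groth.Agent.Lib.Helper21.GaPts.dsFn (1 : ℤ)
          (snd (Red.Gm (Spec (CommRingCat.of k))) (Red.Gm (Spec (CommRingCat.of k)))) *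
        Groth.Agent.Lib.Helper21.GaPts.evalHom
          (Red.Gm (Spec (CommRingCat.of k)) ⊗ Red.Gm (Spec (CommRingCat.of k))).hom
          (((Groth.Agent.Lib.Helper7.GmLaw.gmVal k
            (toUnit (Groth.Agent.Lib.Helper7.GaLaw.XR k k) ≫ h.one))⁻¹ : kˣ) : k) := by
    intro h
    letI := h
    have := Groth.Agent.Lib.Helper7.GmLaw.dsFn_mul_eq (k := k)
      (Red.Gm (Spec (CommRingCat.of k)) ⊗ Red.Gm (Spec (CommRingCat.of k))) (fst _ _) (snd _ _)
    rw [Hom.mul_def, lift_fst_snd, Category.id_comp] at this
    exact this
  apply Groth.Agent.Lib.Helper7.GmLaw.gm_ext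
  rw [key h₁, key h₂, e]

end Groth.Agent.S15603
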