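import Groth.Statements.S15605
import Mathlib
-- import your own Groth.Agent.* helpers here

set_option autoImplicit false
universe u
open TensorProduct
open AGF

namespace Groth.Agent.S15605

/-- the map `V ⊗ A → V`, `v ⊗ a ↦ σ a • v` -/
noncomputable abbrev ρ (k V A : Type*) [Field k] [CommRing V] [Algebra k V] [CommRing A] [Algebra k A]
    (σ : A →ₐ[k] k) : V ⊗[k] A →ₐ[V] V :=
  (Algebra.TensorProduct.rid k V V).toAlgHom.comp (Algebra.TensorProduct.map (AlgHom.id V V) σ)

lemma ρ_tmul (k V A : Type*) [Field k] [CommRing V] [Algebra k V] [CommRing A] [Algebra k A]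
    (σ : A →ₐ[k] k) (x : V) (a : A) : ρ k V A σ (x ⊗ₜ[k] a) = σ a • x := by
  simp [ρ]

/-- an element of `V ⊗ A` killed by all `id ⊗ σ` lies in the extension of `⋂ ker σ`. -/
lemma mem_map_includeRight (k V A : Type*) [Field k] [CommRing V] [Algebra k V] [CommRing A]
    [Algebra k A] (S : Set (A →ₐ[k] k)) (z : V ⊗[k] A)
    (hz : ∀ σ ∈ S, ρ k V A σ z = 0) :
    z ∈ Ideal.map (Algebra.TensorProduct.includeRight : A →ₐ[k] V ⊗[k] A)
      (⨅ σ ∈ S, RingHom.ker σ) := by
  classical
  let ℬ := Module.Free.chooseBasis k V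
  obtain ⟨c, rfl⟩ := TensorProduct.eq_repr_basis_left ℬ z
  have hc : ∀ i, c i ∈ ⨅ σ ∈ S, RingHom.ker σ := by
    intro i
    simp only [Ideal.mem_iInf, RingHom.mem_ker]
    intro σ hσ
    have h1 := hz σ hσ
    rw [Finsupp.sum, map_sum] at h1
    simp only [ρ_tmul] at h1
    have h2 := linearIndependent_iff'.mp ℬ.linearIndependent c.support (fun j => σ (c j)) h1
    by_cases hi : i ∈ c.support
    · exact h2 i hi
    · rw [Finsupp.notMem_support_iff.mp hi, map_zero]
  rw [Finsupp.sum]
  refine Ideal.sum_mem _ fun i _ => ?_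
  have h3 : ℬ i ⊗ₜ[k] c i = (ℬ i ⊗ₜ[k] (1 : A)) *
      (Algebra.TensorProduct.includeRight : A →ₐ[k] V ⊗[k] A) (c i) := by
    simp
  rw [h3]
  exact Ideal.mul_mem_left _ _ (Ideal.mem_map_of_mem _ (hc i))

/-- Affine form. Let k be a field, A and A' finitely generated commutative k-algebras and S, S' sets of
k-algebra homomorphisms A → k, A' → k. The closure of a set of rational points of Spec A is cut out
by the intersection of their kernels. Compatibility of these closures with products: in A ⊗_k A',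
the intersection over (σ, σ') ∈ S × S' of the kernels of σ ⊗ σ' : A ⊗_k A' → k equals the ideal
generated by the images of ⋂_{σ} ker σ and of ⋂_{σ'} ker σ'. -/
theorem result (k A A' : Type u) [Field k] [CommRing A] [Algebra k A]
    [Algebra.FiniteType k A] [CommRing A'] [Algebra k A'] [Algebra.FiniteType k A']
    (S : Set (A →ₐ[k] k)) (S' : Set (A' →ₐ[k] k)) :
    (⨅ σ ∈ S, ⨅ σ' ∈ S', RingHom.ker ((Algebra.TensorProduct.lmul' (S := k) k).comp
        (Algebra.TensorProduct.map σ σ'))) =
      Ideal.map (Algebra.TensorProduct.includeLeft : A →ₐ[k] A ⊗[k] A') (⨅ σ ∈ S, RingHom.ker σ) ⊔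
        Ideal.map (Algebra.TensorProduct.includeRight : A' →ₐ[k] A ⊗[k] A') (⨅ σ' ∈ S', RingHom.ker σ') := by
  classical
  set I : Ideal A := ⨅ σ ∈ S, RingHom.ker σ with hI
  set I' : Ideal A' := ⨅ σ' ∈ S', RingHom.ker σ' with hI'
  have hT : ∀ (σ : A →ₐ[k] k) (σ' : A' →ₐ[k] k) (a : A) (a' : A'),
      ((Algebra.TensorProduct.lmul' (S := k) k).comp (Algebra.TensorProduct.map σ σ'))
        (a ⊗ₜ[k] a') = σ a * σ' a' := by
    intro σ σ' a a'
    simp
  apply le_antisymm
  · intro z hz
    have hz' : ∀ σ ∈ S, ∀ σ' ∈ S',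
        ((Algebra.TensorProduct.lmul' (S := k) k).comp (Algebra.TensorProduct.map σ σ')) z = 0 := by
      intro σ hσ σ' hσ'
      have := Ideal.mem_iInf.mp (Ideal.mem_iInf.mp (Ideal.mem_iInf.mp (Ideal.mem_iInf.mp hz σ) hσ) σ') hσ'
      exact this
    -- step 1 : `ρ_A σ' z ∈ I`
    have h1 : ∀ σ' ∈ S', ρ k A A' σ' z ∈ I := by
      intro σ' hσ'
      simp only [hI, Ideal.mem_iInf, RingHom.mem_ker]
      intro σ hσ
      have key : ∀ w : A ⊗[k] A', σ (ρ k A A' σ' w) =
          ((Algebra.TensorProduct.lmul' (S := k) k).comp (Algebra.TensorProduct.map σ σ')) w := by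
        intro w
        induction w using TensorProduct.induction_on with
        | zero => simp
        | tmul a a' => rw [ρ_tmul, hT, map_smul, smul_eq_mul, mul_comm]
        | add x y hx hy => rw [map_add, map_add, hx, hy, map_add]
      rw [key, hz' σ hσ σ' hσ']
    -- step 2 : pass to `V = A ⧸ I`
    let q : A →ₐ[k] A ⧸ I := Ideal.Quotient.mkₐ k I
    have hq : Function.Surjective q := Ideal.Quotient.mkₐ_surjective k I
    let Q : A ⊗[k] A' →ₐ[k] (A ⧸ I) ⊗[k] A' := Algebra.TensorProduct.map q (AlgHom.id k A')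
    have hQ : Function.Surjective Q :=
      Algebra.TensorProduct.map_surjective q (AlgHom.id k A') hq Function.surjective_id
    have key2 : ∀ (σ' : A' →ₐ[k] k) (w : A ⊗[k] A'),
        ρ k (A ⧸ I) A' σ' (Q w) = q (ρ k A A' σ' w) := by
      intro σ' w
      induction w using TensorProduct.induction_on with
      | zero => simp
      | tmul a a' =>
        have : Q (a ⊗ₜ[k] a') = q a ⊗ₜ[k] a' := by simp [Q]
        rw [this, ρ_tmul, ρ_tmul, map_smul]
      | add x y hx hy => rw [map_add, map_add, hx, hy, map_add, map_add]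
    have h2 : Q z ∈ Ideal.map (Algebra.TensorProduct.includeRight : A' →ₐ[k] (A ⧸ I) ⊗[k] A') I' := by
      apply mem_map_includeRight
      intro σ' hσ'
      rw [key2]
      exact Ideal.Quotient.eq_zero_iff_mem.mpr (h1 σ' hσ')
    have h3 : Ideal.map (Algebra.TensorProduct.includeRight : A' →ₐ[k] (A ⧸ I) ⊗[k] A') I' =
        Ideal.map Q (Ideal.map (Algebra.TensorProduct.includeRight : A' →ₐ[k] A ⊗[k] A') I') := by
      rw [Ideal.map_mapₐ]
      congr 1
    rw [h3] at h2
    have h4 : z ∈ Ideal.comap Q (Ideal.map Q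
        (Ideal.map (Algebra.TensorProduct.includeRight : A' →ₐ[k] A ⊗[k] A') I')) := h2
    rw [Ideal.comap_map_of_surjective Q hQ] at h4
    have h5 : Ideal.comap Q ⊥ =
        Ideal.map (Algebra.TensorProduct.includeLeft : A →ₐ[k] A ⊗[k] A') I := by
      have := Algebra.TensorProduct.rTensor_ker (R := k) (C := A') q hq
      have hkq : RingHom.ker q = I := Ideal.Quotient.mkₐ_ker k I
      rw [hkq] at this
      rw [← this]
      rfl
    rw [h5, sup_comm] at h4
    exact h4
  · rw [sup_le_iff]
    constructor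
    · rw [Ideal.map_le_iff_le_comap]
      intro a ha
      simp only [Ideal.mem_comap, Ideal.mem_iInf, RingHom.mem_ker]
      intro σ hσ σ' _
      have h0 : σ a = 0 := by
        have := Ideal.mem_iInf.mp (Ideal.mem_iInf.mp ha σ) hσ
        exact this
      have := hT σ σ' a 1
      rw [h0, zero_mul] at this
      exact this
    · rw [Ideal.map_le_iff_le_comap]
      intro a' ha'
      simp only [Ideal.mem_comap, Ideal.mem_iInf, RingHom.mem_ker]
      intro σ _ σ' hσ'
      have h0 : σ' a' = 0 := by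
        have := Ideal.mem_iInf.mp (Ideal.mem_iInf.mp ha' σ') hσ'
        exact this
      have := hT σ σ' 1 a'
      rw [h0, mul_zero] at this
      exact this

end Groth.Agent.S15605
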