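import Groth.Statements.S15606
import Groth.Agent.Lib.Helper7.GaIsog1
import Groth.Agent.Lib.Helper7.GaIsog3
import Groth.Agent.Lib.Helper10.SmoothReduced2


set_option autoImplicit false
universe u
open CategoryTheory MonoidalCategory CartesianMonoidalCategory MonObj GrpObj AlgebraicGeometry
open AlgGrp

namespace Groth.Agent.S15606

open Groth.Agent.Lib.Helper7.GH Groth.Agent.Lib.Helper7.GModComod Groth.Agent.Lib.Helper7.GaIsog


/-- Additive case. Let k be a field, H an affine smooth connected k-group scheme, and f a homomorphism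
from the additive group over k to H which is finite and surjective (an isogeny onto H). Then H is
isomorphic, as a k-group scheme, to the additive group. In particular every quotient of the additive
group by a finite k-subgroup scheme is isomorphic to the additive group over k itself, for any field
k. -/
theorem result (k : Type u) [Field k]
    (H : Over (Spec (CommRingCat.of k))) [GrpObj H] [IsAffine H.left] [Smooth H.hom] [ConnectedSpace ↥H.left]
    (f : Red.Ga (Spec (CommRingCat.of k)) ⟶ H) [IsMonHom f] [IsFinite f.left] [Surjective f.left] :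
    Nonempty (Grp.mk H ≅ Grp.mk (Red.Ga (Spec (CommRingCat.of k)))) := by
  obtain ⟨M₀⟩ := nonempty_model (Red.Ga (Spec (CommRingCat.of k)))
  obtain ⟨M⟩ := nonempty_model H
  let g : (Spec (CommRingCat.of M₀.A)).asOver (Spec (CommRingCat.of k)) ⟶
      (Spec (CommRingCat.of M.A)).asOver (Spec (CommRingCat.of k)) := M₀.e.inv ≫ f ≫ M.e.hom
  haveI : IsMonHom g := inferInstanceAs (IsMonHom (M₀.e.inv ≫ f ≫ M.e.hom))
  obtain ⟨φ, hφ⟩ := exists_bialgHom g
  haveI : IsIso M₀.e.inv.left :=
    inferInstanceAs (IsIso ((Over.forget (Spec (CommRingCat.of k))).map M₀.e.inv))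
  haveI : IsIso M.e.hom.left :=
    inferInstanceAs (IsIso ((Over.forget (Spec (CommRingCat.of k))).map M.e.hom))
  haveI : IsIso M.e.inv.left :=
    inferInstanceAs (IsIso ((Over.forget (Spec (CommRingCat.of k))).map M.e.inv))
  have hgl : g.left = Spec.map (CommRingCat.ofHom ((φ : M.A →ₐ[k] M₀.A) : M.A →+* M₀.A)) := by
    rw [hφ, pg_left]
  -- surjectivity
  have hsurj : Function.Surjective (PrimeSpectrum.comap ((φ : M.A →ₐ[k] M₀.A) : M.A →+* M₀.A)) := by
    have h1 : Surjective g.left := by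
      change Surjective (M₀.e.inv.left ≫ f.left ≫ M.e.hom.left)
      infer_instance
    rw [hgl] at h1
    exact h1.surj
  -- finiteness
  have hfin : ((φ : M.A →ₐ[k] M₀.A) : M.A →+* M₀.A).Finite := by
    have h1 : IsFinite g.left := by
      change IsFinite (M₀.e.inv.left ≫ f.left ≫ M.e.hom.left)
      infer_instance
    rw [hgl] at h1
    exact (IsFinite.SpecMap_iff (CommRingCat.ofHom ((φ : M.A →ₐ[k] M₀.A) : M.A →+* M₀.A))).1 h1
  -- reducedness
  haveI : IsReduced H.left := Groth.Agent.Lib.Helper10.SmoothReduced.isReduced_of_smooth_field H.hom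
  haveI : IsReduced (Spec (CommRingCat.of M.A)) := by
    have hiso : IsIso (M.e.inv.left : Spec (CommRingCat.of M.A) ⟶ H.left) := ‹IsIso M.e.inv.left›
    have hoi : IsOpenImmersion (M.e.inv.left : Spec (CommRingCat.of M.A) ⟶ H.left) :=
      @IsOpenImmersion.of_isIso _ _ _ hiso
    exact @isReduced_of_isOpenImmersion _ _ (M.e.inv.left : Spec (CommRingCat.of M.A) ⟶ H.left) hoi _
  haveI hred : _root_.IsReduced M.A := (affine_isReduced_iff (CommRingCat.of M.A)).1 inferInstance
  have hinj : Function.Injective φ := by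
    rw [injective_iff_map_eq_zero]
    intro a ha
    have hnil : a ∈ nilradical M.A := by
      rw [nilradical_eq_sInf, Ideal.mem_sInf]
      intro p hp
      obtain ⟨q, hq⟩ := hsurj ⟨p, hp⟩
      have : a ∈ (PrimeSpectrum.comap ((φ : M.A →ₐ[k] M₀.A) : M.A →+* M₀.A) q).asIdeal := by
        change φ a ∈ q.asIdeal
        rw [ha]
        exact zero_mem _
      rw [hq] at this
      exact this
    exact (nilradical_eq_zero M.A ▸ hnil : a ∈ (0 : Ideal M.A))
  obtain ⟨χ⟩ := nonempty_bialgEquiv_of_finite (isPrim_t₀ M₀) (aeval_t₀_bijective M₀) φ hinj hfin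
  -- back to schemes
  let ψ : M₀.A →ₐc[k] M.A := (χ.symm : M₀.A →ₐc[k] M.A)
  let ψ' : M.A →ₐc[k] M₀.A := (χ : M.A →ₐc[k] M₀.A)
  have h12 : (pg (ψ : M₀.A →ₐ[k] M.A) : (Spec (CommRingCat.of M.A)).asOver (Spec (CommRingCat.of k)) ⟶ _) ≫
      pg (ψ' : M.A →ₐ[k] M₀.A) = 𝟙 _ := by
    rw [pg_comp_pg]
    have : ((ψ : M₀.A →ₐ[k] M.A)).comp (ψ' : M.A →ₐ[k] M₀.A) = AlgHom.id k M.A := by
      ext a
      exact χ.symm_apply_apply a
    rw [this]
    apply Over.OverMorphism.ext
    rw [pg_left]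
    exact Spec.map_id _
  have h21 : (pg (ψ' : M.A →ₐ[k] M₀.A) : (Spec (CommRingCat.of M₀.A)).asOver (Spec (CommRingCat.of k)) ⟶ _) ≫
      pg (ψ : M₀.A →ₐ[k] M.A) = 𝟙 _ := by
    rw [pg_comp_pg]
    have : ((ψ' : M.A →ₐ[k] M₀.A)).comp (ψ : M₀.A →ₐ[k] M.A) = AlgHom.id k M₀.A := by
      ext a
      exact χ.apply_symm_apply a
    rw [this]
    apply Over.OverMorphism.ext
    rw [pg_left]
    exact Spec.map_id _
  let Ealg : (Spec (CommRingCat.of M.A)).asOver (Spec (CommRingCat.of k)) ≅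
      (Spec (CommRingCat.of M₀.A)).asOver (Spec (CommRingCat.of k)) :=
    ⟨pg (ψ : M₀.A →ₐ[k] M.A), pg (ψ' : M.A →ₐ[k] M₀.A), h12, h21⟩
  haveI : IsMonHom Ealg.hom := isMonHom_pg ψ
  let E : H ≅ Red.Ga (Spec (CommRingCat.of k)) := M.e ≪≫ Ealg ≪≫ M₀.e.symm
  haveI : IsMonHom E.hom := inferInstanceAs (IsMonHom (M.e.hom ≫ Ealg.hom ≫ M₀.e.inv))
  exact ⟨Grp.mkIso' E⟩

end Groth.Agent.S15606
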