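import Groth.Statements.S15607
import Groth.Agent.Lib.Helper7.GmIsog1
import Groth.Agent.Lib.Helper7.GmIsog5
import Groth.Agent.Lib.Helper10.SmoothReduced2
import Groth.Agent.Lib.Helper28.GeomConnIdem


set_option autoImplicit false
universe u
open CategoryTheory MonoidalCategory CartesianMonoidalCategory MonObj GrpObj AlgebraicGeometry
open AlgGrp

namespace Groth.Agent.S15607

open Groth.Agent.Lib.Helper7.GH Groth.Agent.Lib.Helper7.GModComod Groth.Agent.Lib.Helper7.GmIsog


/-- Multiplicative case. Let k be a field, H a smooth connected k-group scheme, and f a homomorphism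
from H to the multiplicative group over k which is finite and surjective (an isogeny). Then H is
isomorphic, as a k-group scheme, to the multiplicative group: a smooth connected k-group isogenous
to the multiplicative group over k is the split one-dimensional torus. -/
theorem result (k : Type u) [Field k]
    (H : Over (Spec (CommRingCat.of k))) [GrpObj H] [Smooth H.hom] [ConnectedSpace ↥H.left]
    (f : H ⟶ Red.Gm (Spec (CommRingCat.of k))) [IsMonHom f] [IsFinite f.left] [Surjective f.left] :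
    Nonempty (Grp.mk H ≅ Grp.mk (Red.Gm (Spec (CommRingCat.of k)))) := by
  haveI : IsAffine (Red.Gm (Spec (CommRingCat.of k))).left := isAffine_Gm
  haveI : IsAffine H.left := isAffine_of_isAffineHom f.left
  obtain ⟨M₀⟩ := nonempty_model (Red.Gm (Spec (CommRingCat.of k)))
  obtain ⟨M⟩ := nonempty_model H
  let g : (Spec (CommRingCat.of M.A)).asOver (Spec (CommRingCat.of k)) ⟶
      (Spec (CommRingCat.of M₀.A)).asOver (Spec (CommRingCat.of k)) := M.e.inv ≫ f ≫ M₀.e.hom
  haveI : IsMonHom g := inferInstanceAs (IsMonHom (M.e.inv ≫ f ≫ M₀.e.hom))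
  obtain ⟨φ, hφ⟩ := exists_bialgHom g
  haveI : IsIso M₀.e.inv.left :=
    inferInstanceAs (IsIso ((Over.forget (Spec (CommRingCat.of k))).map M₀.e.inv))
  haveI : IsIso M₀.e.hom.left :=
    inferInstanceAs (IsIso ((Over.forget (Spec (CommRingCat.of k))).map M₀.e.hom))
  haveI : IsIso M.e.hom.left :=
    inferInstanceAs (IsIso ((Over.forget (Spec (CommRingCat.of k))).map M.e.hom))
  haveI : IsIso M.e.inv.left :=
    inferInstanceAs (IsIso ((Over.forget (Spec (CommRingCat.of k))).map M.e.inv))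
  have hgl : g.left = Spec.map (CommRingCat.ofHom ((φ : M₀.A →ₐ[k] M.A) : M₀.A →+* M.A)) := by
    rw [hφ, pg_left]
  -- surjectivity
  have hsurj : Function.Surjective (PrimeSpectrum.comap ((φ : M₀.A →ₐ[k] M.A) : M₀.A →+* M.A)) := by
    have h1 : Surjective g.left := by
      change Surjective (M.e.inv.left ≫ f.left ≫ M₀.e.hom.left)
      infer_instance
    rw [hgl] at h1
    exact h1.surj
  -- finiteness
  have hfin : ((φ : M₀.A →ₐ[k] M.A) : M₀.A →+* M.A).Finite := by
    have h1 : IsFinite g.left := by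
      change IsFinite (M.e.inv.left ≫ f.left ≫ M₀.e.hom.left)
      infer_instance
    rw [hgl] at h1
    exact (IsFinite.SpecMap_iff (CommRingCat.ofHom ((φ : M₀.A →ₐ[k] M.A) : M₀.A →+* M.A))).1 h1
  -- the coordinate ring of `𝔾_m`
  let χ₀ : MonoidAlgebra k (Multiplicative ℤ) ≃ₐc[k] M₀.A :=
    BialgEquiv.ofBijective (ψ₀ M₀) (ψ₀_bijective M₀)
  haveI hred : _root_.IsReduced M₀.A :=
    isReduced_of_injective (χ₀.symm : M₀.A →ₐc[k] MonoidAlgebra k (Multiplicative ℤ)) χ₀.symm.injective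
  have hinj : Function.Injective φ := by
    rw [injective_iff_map_eq_zero]
    intro a ha
    have hnil : a ∈ nilradical M₀.A := by
      rw [nilradical_eq_sInf, Ideal.mem_sInf]
      intro p hp
      obtain ⟨q, hq⟩ := hsurj ⟨p, hp⟩
      have : a ∈ (PrimeSpectrum.comap ((φ : M₀.A →ₐ[k] M.A) : M₀.A →+* M.A) q).asIdeal := by
        change φ a ∈ q.asIdeal
        rw [ha]
        exact zero_mem _
      rw [hq] at this
      exact this
    exact (nilradical_eq_zero M₀.A ▸ hnil : a ∈ (0 : Ideal M₀.A))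
  -- the composite `k[ℤ] → M.A`
  let ψ : MonoidAlgebra k (Multiplicative ℤ) →ₐc[k] M.A := φ.comp (ψ₀ M₀)
  have hψinj : Function.Injective ψ := hinj.comp (ψ₀_bijective M₀).1
  have hψfin : ((ψ : MonoidAlgebra k (Multiplicative ℤ) →ₐ[k] M.A) :
      MonoidAlgebra k (Multiplicative ℤ) →+* M.A).Finite := by
    have h0 : (((ψ₀ M₀ : MonoidAlgebra k (Multiplicative ℤ) →ₐc[k] M₀.A) :
        MonoidAlgebra k (Multiplicative ℤ) →ₐ[k] M₀.A) :
        MonoidAlgebra k (Multiplicative ℤ) →+* M₀.A).Finite :=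
      RingHom.Finite.of_surjective _ (ψ₀_bijective M₀).2
    exact RingHom.Finite.comp hfin h0
  -- smoothness
  haveI hsmA : Algebra.Smooth k M.A := by
    have hsm : Smooth ((Spec (CommRingCat.of M.A)).asOver (Spec (CommRingCat.of k))).hom := by
      have h1 : M.e.inv.left ≫ H.hom =
          ((Spec (CommRingCat.of M.A)).asOver (Spec (CommRingCat.of k))).hom := Over.w M.e.inv
      rw [← h1]
      infer_instance
    have hsm2 : Smooth (Spec.map (CommRingCat.ofHom (algebraMap k M.A))) := hsm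
    have := (HasRingHomProperty.Spec_iff (P := @Smooth)).1 hsm2
    exact RingHom.smooth_algebraMap.1 this
  -- connectedness
  have hconn : ∀ e : M.A, IsIdempotentElem e → e = 0 ∨ e = 1 := by
    haveI : ConnectedSpace (PrimeSpectrum M.A) := by
      have hs : Function.Surjective (M.e.hom.left : H.left → Spec (CommRingCat.of M.A)) :=
        (Scheme.homeoOfIso (asIso M.e.hom.left)).surjective
      exact hs.connectedSpace M.e.hom.left.continuous
    intro e he
    exact Groth.Agent.Lib.Helper28.idem_eq_zero_or_one_of_preconnected he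
  obtain ⟨χ₁⟩ := nonempty_bialgEquiv_of_finite k M.A hconn ψ hψinj hψfin
  let χ : M.A ≃ₐc[k] M₀.A := χ₁.trans χ₀
  -- back to schemes
  let ψa : M₀.A →ₐc[k] M.A := (χ.symm : M₀.A →ₐc[k] M.A)
  let ψ' : M.A →ₐc[k] M₀.A := (χ : M.A →ₐc[k] M₀.A)
  have h12 : (pg (ψa : M₀.A →ₐ[k] M.A) : (Spec (CommRingCat.of M.A)).asOver (Spec (CommRingCat.of k)) ⟶ _) ≫
      pg (ψ' : M.A →ₐ[k] M₀.A) = 𝟙 _ := by
    rw [pg_comp_pg]
    have : ((ψa : M₀.A →ₐ[k] M.A)).comp (ψ' : M.A →ₐ[k] M₀.A) = AlgHom.id k M.A := by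
      ext a
      exact χ.symm_apply_apply a
    rw [this]
    apply Over.OverMorphism.ext
    rw [pg_left]
    exact Spec.map_id _
  have h21 : (pg (ψ' : M.A →ₐ[k] M₀.A) : (Spec (CommRingCat.of M₀.A)).asOver (Spec (CommRingCat.of k)) ⟶ _) ≫
      pg (ψa : M₀.A →ₐ[k] M.A) = 𝟙 _ := by
    rw [pg_comp_pg]
    have : ((ψ' : M.A →ₐ[k] M₀.A)).comp (ψa : M₀.A →ₐ[k] M.A) = AlgHom.id k M₀.A := by
      ext a
      exact χ.apply_symm_apply a
    rw [this]
    apply Over.OverMorphism.ext
    rw [pg_left]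
    exact Spec.map_id _
  let Ealg : (Spec (CommRingCat.of M.A)).asOver (Spec (CommRingCat.of k)) ≅
      (Spec (CommRingCat.of M₀.A)).asOver (Spec (CommRingCat.of k)) :=
    ⟨pg (ψa : M₀.A →ₐ[k] M.A), pg (ψ' : M.A →ₐ[k] M₀.A), h12, h21⟩
  haveI : IsMonHom Ealg.hom := isMonHom_pg ψa
  let E : H ≅ Red.Gm (Spec (CommRingCat.of k)) := M.e ≪≫ Ealg ≪≫ M₀.e.symm
  haveI : IsMonHom E.hom := inferInstanceAs (IsMonHom (M.e.hom ≫ Ealg.hom ≫ M₀.e.inv))
  exact ⟨Grp.mkIso' E⟩

end Groth.Agent.S15607
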