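import Groth.Statements.S15617
import Mathlib
import Groth.Agent.Lib.Helper3.SchFinBC

set_option autoImplicit false
universe u
open SchFin SchFin.OMod

namespace Groth.Agent.S15617


open Groth.Agent.Lib.Helper3.SchFinBC TensorProduct

set_option linter.style.haveILetI false


open SchFin in
/-- Let X be a finite space (Noetherian rings and flat restriction maps), x a point, U an up-closed
subset of the minimal open set of x which is affine, and M a quasi-coherent module. Then restriction
from the value of M at x to the sections of M over U exhibits the module of sections over U as the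
base change of the value at x along the ring map from the ring of x to the ring of sections over U.
(The published statement does not carry the hypothesis that the product of the rings of the points
of U is faithfully flat over the ring of sections over U; this holds for every affine finite space
by a result the published proof uses and recalls without proof, and this row carries it explicitly.) -/
theorem result (X : RSpace.{u}) (hX : X.IsFinSp) (x : X.pt) (U : Set X.pt)
    (hU : U ⊆ X.up x) (hU' : IsUpperSet U) (hUa : (X.restrict U).IsAffine)
    (hff : Module.FaithfullyFlat (X.sectRing U) ((q : ↥U) → X.ring q.1)) (M : OMod X) (hM : M.IsQcoh) :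
    IsBCAlong (X.resSect x U hU) (M.resSect x U hU) := by
  classical
  unfold IsBCAlong
  letI a1 : Algebra (X.ring x) (X.sectRing U) := (X.resSect x U hU).toAlgebra
  letI a2 : Module (X.ring x) (M.sect U) := Module.compHom _ (X.resSect x U hU)
  haveI a3 : IsScalarTower (X.ring x) (X.sectRing U) (M.sect U) :=
    IsScalarTower.of_algebraMap_smul fun _ _ => rfl
  letI b1 : ∀ q : U, Algebra (X.sectRing U) (X.ring q.1) := fun q => (X.evalRing U q).toAlgebra
  letI b2 : ∀ q : U, Algebra (X.ring x) (X.ring q.1) := fun q => (X.res (hU q.2)).toAlgebra
  haveI b3 : ∀ q : U, IsScalarTower (X.ring x) (X.sectRing U) (X.ring q.1) :=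
    fun q => IsScalarTower.of_algebraMap_eq fun _ => rfl
  letI c1 : ∀ q : U, Module (X.sectRing U) (M.carrier q.1) :=
    fun q => Module.compHom _ (X.evalRing U q)
  letI c2 : ∀ q : U, Module (X.ring x) (M.carrier q.1) :=
    fun q => Module.compHom _ (X.res (hU q.2))
  haveI c3 : ∀ q : U, IsScalarTower (X.sectRing U) (X.ring q.1) (M.carrier q.1) :=
    fun q => IsScalarTower.of_algebraMap_smul fun _ _ => rfl
  haveI c4 : ∀ q : U, IsScalarTower (X.ring x) (X.ring q.1) (M.carrier q.1) :=
    fun q => IsScalarTower.of_algebraMap_smul fun _ _ => rfl
  have hff' : Module.FaithfullyFlat (X.sectRing U) (∀ q : U, X.ring q.1) := hff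
  refine isBaseChange_of_forall (fun q : U => X.ring q.1) hff' _ (fun q : U => M.carrier q.1)
    (fun q => { toFun := M.evalMod U q, map_add' := (M.evalMod U q).map_add,
                map_smul' := (M.evalMod U q).map_smulₛₗ }) (fun q => ?_)
    (fun q => { toFun := M.res (hU q.2), map_add' := (M.res (hU q.2)).map_add,
                map_smul' := (M.res (hU q.2)).map_smulₛₗ }) (fun q m => rfl) (fun q => ?_)
  · have h := isBCAlong_evalMod U M hUa hM q
    unfold IsBCAlong at h
    exact h
  · have h := hM x q.1 (hU q.2)
    unfold IsBCAlong at h
    exact h

end Groth.Agent.S15617
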