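import Groth.Statements.S7606
import Groth.Agent.Lib.Helper1.FPS5
import Groth.Agent.Lib.Helper23.GeomRegular2
import Groth.Agent.Lib.Helper25.RegularSmooth

set_option autoImplicit false
universe u
open CategoryTheory CategoryTheory.Limits AlgebraicGeometry
attribute [local instance] Curv2.stalkAlgebra
open Variety

namespace Groth.Agent.S7606

/-- Let X be a locally Noetherian scheme over a field k and x a point of X. These conditions are
equivalent: (1) the scheme X is geometrically regular at x; (2) whenever k'/k is finite and purely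
inseparable, the local ring O_{X_{k'}, x'} is regular at each point x' of X_{k'} lying over x; (3)
the local ring O_{X, x} is geometrically regular over k (k' ⊗_k O_{X, x} is a regular ring for every
finite extension k' of k). Stated as (1) ↔ (2) together with (2) ↔ (3). -/
theorem result (k : Type u) [Field k] (X : Scheme.{u}) [X.Over (Spec (CommRingCat.of k))] [IsLocallyNoetherian X] (x : ↥X) :
    (Curv2.IsGeomRegularAt k X x ↔
      ∀ (k' : Type u) [Field k'] [Algebra k k'] [FiniteDimensional k k'] [IsPurelyInseparable k k'] (x' : ↥(Curv2.bc k X k')),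
        Curv2.bcFst k X k' x' = x → IsRegularLocalRing ↥((Curv2.bc k X k').presheaf.stalk x')) ∧
    ((∀ (k' : Type u) [Field k'] [Algebra k k'] [FiniteDimensional k k'] [IsPurelyInseparable k k'] (x' : ↥(Curv2.bc k X k')),
        Curv2.bcFst k X k' x' = x → IsRegularLocalRing ↥((Curv2.bc k X k').presheaf.stalk x')) ↔
      CAlg.IsGeometricallyRegular k ↥(X.presheaf.stalk x)) := by
  haveI hN : IsNoetherianRing ↥(X.presheaf.stalk x) := inferInstance
  have h31 : CAlg.IsGeometricallyRegular k ↥(X.presheaf.stalk x) → Curv2.IsGeomRegularAt k X x := by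
    intro h3 k' _ _ hfg x' hx
    haveI : Algebra.EssFiniteType k (⊤ : IntermediateField k k') :=
      IntermediateField.essFiniteType_iff.mpr hfg
    haveI : Algebra.EssFiniteType k k' :=
      Algebra.EssFiniteType.of_surjective (IntermediateField.topEquiv : _ ≃ₐ[k] k').toAlgHom
        (IntermediateField.topEquiv : _ ≃ₐ[k] k').surjective
    have hreg : IsRegularRing (TensorProduct k k' ↥(X.presheaf.stalk x)) :=
      (Groth.Agent.Lib.Helper23.GeomRegular2.t2672main k ↥(X.presheaf.stalk x)).2.mp h3 k' inferInstance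
    haveI : IsRegularRing (TensorProduct k ↥(X.presheaf.stalk x) k') :=
      IsRegularRing.of_ringEquiv (Algebra.TensorProduct.comm k k' ↥(X.presheaf.stalk x)).toRingEquiv
    obtain ⟨Q, -, ⟨e⟩⟩ := Groth.Agent.Lib.Helper1.FPS.bc_exists_prime k X x k' x' hx
    exact IsRegularLocalRing.of_ringEquiv e.symm
  have h23 : (∀ (k' : Type u) [Field k'] [Algebra k k'] [FiniteDimensional k k']
      [IsPurelyInseparable k k'] (x' : ↥(Curv2.bc k X k')),
        Curv2.bcFst k X k' x' = x → IsRegularLocalRing ↥((Curv2.bc k X k').presheaf.stalk x')) →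
      CAlg.IsGeometricallyRegular k ↥(X.presheaf.stalk x) := by
    intro h2
    apply (Groth.Agent.Lib.Helper23.GeomRegular2.t2672main k ↥(X.presheaf.stalk x)).1.mpr
    intro k' _ _ hfin hpi
    haveI := hfin
    haveI := hpi
    obtain ⟨𝔐, h𝔐, hu⟩ :=
      Groth.Agent.Lib.Helper1.FPS.exists_unique_closedPoint k ↥(X.presheaf.stalk x) k'
    obtain ⟨x', hx', ⟨e⟩⟩ := Groth.Agent.Lib.Helper1.FPS.bc_exists_point k X x k' 𝔐 h𝔐
    haveI : IsRegularLocalRing ↥((Curv2.bc k X k').presheaf.stalk x') := h2 k' x' hx'
    let e' : (TensorProduct k ↥(X.presheaf.stalk x) k') ≃ₐ[TensorProduct k ↥(X.presheaf.stalk x) k']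
        Localization.AtPrime 𝔐.asIdeal :=
      IsLocalization.atUnits _ 𝔐.asIdeal.primeCompl (fun t ht => hu t ht)
    haveI : IsRegularLocalRing (TensorProduct k ↥(X.presheaf.stalk x) k') :=
      IsRegularLocalRing.of_ringEquiv (e.trans e'.symm.toRingEquiv)
    haveI : IsRegularRing (TensorProduct k ↥(X.presheaf.stalk x) k') :=
      Groth.Agent.Lib.Helper25.RegularSmooth.isRegularRing_of_isRegularLocalRing _
    exact IsRegularRing.of_ringEquiv (Algebra.TensorProduct.comm k ↥(X.presheaf.stalk x) k').toRingEquiv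
  refine ⟨⟨fun h1 k' _ _ _ _ x' hx => h1 k' (IntermediateField.fg_of_noetherian ⊤) x' hx,
    fun h2 => h31 (h23 h2)⟩, ⟨h23, fun h3 k' _ _ _ _ x' hx =>
      h31 h3 k' (IntermediateField.fg_of_noetherian ⊤) x' hx⟩⟩

end Groth.Agent.S7606
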