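import Groth.Statements.S15626
import Mathlib
import Groth.Agent.Lib.Helper3.SchFinFactor

set_option autoImplicit false
universe u
open SchFin SchFin.FEt

namespace Groth.Agent.S15626



open SchFin CategoryTheory in
/-- Over a schematic finite space, a monomorphism in the category of étale covers is injective at every
point (the converse implication being elementary). -/
theorem result (X : RSpace.{u}) (hX : X.IsSchematic) {A B : FEt X} (f : A ⟶ B)
    [Mono f] (p : X.pt) : Function.Injective (f.hom.app p) := by
  exact Groth.Agent.Lib.Helper3.SchFinFactor.injective_of_mono hX f p

end Groth.Agent.S15626
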