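import Groth.Statements.S1563
import Groth.Agent.Lib.Helper10.FibreProductStalk
import Groth.Agent.Lib.Helper18.SerreReg2
import Groth.Agent.Lib.Helper14.NoethDescent
import Mathlib.AlgebraicGeometry.PullbackCarrier

set_option autoImplicit false
universe u
open CategoryTheory CategoryTheory.Limits AlgebraicGeometry
open Variety

namespace Groth.Agent.S1563

section aux
open scoped TensorProduct
open Groth.Agent.Lib.Helper10.FibreProductStalk

variable {X S X' S' : Scheme.{u}} {f : X ⟶ S} {f' : X' ⟶ S'} {g' : X' ⟶ X} {g : S' ⟶ S}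

/-- Flatness of the map of local rings is stable under base change (pointwise form). -/
theorem stalkMap_flat_baseChange (hc : IsPullback g' f' f g) (x' : X')
    (h : (f.stalkMap (g'.base x')).hom.Flat) : (f'.stalkMap x').hom.Flat := by
  let _ : Algebra (S.presheaf.stalk (f.base (g'.base x'))) (X.presheaf.stalk (g'.base x')) :=
    (f.stalkMap (g'.base x')).hom.toAlgebra
  let _ : Algebra (S.presheaf.stalk (f.base (g'.base x'))) (S'.presheaf.stalk (f'.base x')) :=
    (baseStalkMap hc x').hom.toAlgebra
  let _ : Algebra (X.presheaf.stalk (g'.base x')) (X'.presheaf.stalk x') :=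
    (g'.stalkMap x').hom.toAlgebra
  let _ : Algebra (S'.presheaf.stalk (f'.base x')) (X'.presheaf.stalk x') :=
    (f'.stalkMap x').hom.toAlgebra
  let _ : Algebra (S.presheaf.stalk (f.base (g'.base x'))) (X'.presheaf.stalk x') :=
    (f.stalkMap (g'.base x') ≫ g'.stalkMap x').hom.toAlgebra
  have : IsScalarTower (S.presheaf.stalk (f.base (g'.base x'))) (X.presheaf.stalk (g'.base x'))
      (X'.presheaf.stalk x') := IsScalarTower.of_algebraMap_eq fun a => rfl
  have : IsScalarTower (S.presheaf.stalk (f.base (g'.base x'))) (S'.presheaf.stalk (f'.base x'))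
      (X'.presheaf.stalk x') := by
    refine IsScalarTower.of_algebraMap_eq fun a => ?_
    change (f.stalkMap (g'.base x') ≫ g'.stalkMap x').hom a =
      (baseStalkMap hc x' ≫ f'.stalkMap x').hom a
    rw [stalkMap_comp_eq hc x']
  have hN : Module.Flat (S.presheaf.stalk (f.base (g'.base x'))) (X.presheaf.stalk (g'.base x')) := h
  have hφ := flat_of_comp_include hc x'
    (Algebra.TensorProduct.productMap
      (IsScalarTower.toAlgHom (S.presheaf.stalk (f.base (g'.base x')))
        (S'.presheaf.stalk (f'.base x')) (X'.presheaf.stalk x'))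
      (IsScalarTower.toAlgHom (S.presheaf.stalk (f.base (g'.base x')))
        (X.presheaf.stalk (g'.base x')) (X'.presheaf.stalk x'))).toRingHom
    (fun a => by simp; rfl) (fun b => by simp; rfl)
  have hfl := flat_baseChange_of_flat_productMap (S.presheaf.stalk (f.base (g'.base x')))
    (S'.presheaf.stalk (f'.base x')) (X.presheaf.stalk (g'.base x')) (X'.presheaf.stalk x')
    (X.presheaf.stalk (g'.base x')) hφ
  have hres : Module.Flat (S'.presheaf.stalk (f'.base x')) (X'.presheaf.stalk x') :=
    Module.Flat.of_linearEquiv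
      ((TensorProduct.AlgebraTensorModule.rid (X.presheaf.stalk (g'.base x'))
        (X'.presheaf.stalk x') (X'.presheaf.stalk x')).restrictScalars
          (S'.presheaf.stalk (f'.base x'))).symm
  exact hres

end aux

/-- Geometric regularity descends along a morphism f of locally Noetherian k-schemes which is flat at
the point x (the map of local rings at x is flat): if X has it at x then Y has it at f(x). -/
theorem result (k : Type u) [Field k] (X Y : Scheme.{u}) [X.Over (Spec (CommRingCat.of k))] [Y.Over (Spec (CommRingCat.of k))]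
    [IsLocallyNoetherian X] [IsLocallyNoetherian Y] (f : X ⟶ Y) (hf : f ≫ (Y ↘ (Spec (CommRingCat.of k))) = X ↘ (Spec (CommRingCat.of k)))
    (x : X) (hflat : (f.stalkMap x).hom.Flat) (hx : Curv2.IsGeomRegularAt k X x) :
    Curv2.IsGeomRegularAt k Y (f.base x) := by
  intro k' _ _ hfg y' hy'
  have hcond : (Curv2.bcFst k X k' ≫ f) ≫ (Y ↘ (Spec (CommRingCat.of k))) =
      Curv2.bcSnd k X k' ≫ Spec.map (CommRingCat.ofHom (algebraMap k k')) := by
    rw [Category.assoc, hf]
    exact pullback.condition
  obtain ⟨f', hf'def⟩ : ∃ f' : Curv2.bc k X k' ⟶ Curv2.bc k Y k',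
      f' = pullback.lift (Curv2.bcFst k X k' ≫ f) (Curv2.bcSnd k X k') hcond := ⟨_, rfl⟩
  have hf'1 : f' ≫ Curv2.bcFst k Y k' = Curv2.bcFst k X k' ≫ f := by
    rw [hf'def]; exact pullback.lift_fst _ _ _
  have hf'2 : f' ≫ Curv2.bcSnd k Y k' = Curv2.bcSnd k X k' := by
    rw [hf'def]; exact pullback.lift_snd _ _ _
  have hright : IsPullback (Curv2.bcSnd k Y k') (Curv2.bcFst k Y k')
      (Spec.map (CommRingCat.ofHom (algebraMap k k'))) (Y ↘ (Spec (CommRingCat.of k))) :=
    (IsPullback.of_hasPullback _ _).flip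
  have hbig : IsPullback (f' ≫ Curv2.bcSnd k Y k') (Curv2.bcFst k X k')
      (Spec.map (CommRingCat.ofHom (algebraMap k k'))) (f ≫ (Y ↘ (Spec (CommRingCat.of k)))) := by
    rw [hf'2, hf]
    exact (IsPullback.of_hasPullback _ _).flip
  have hc : IsPullback (Curv2.bcFst k X k') f' f (Curv2.bcFst k Y k') :=
    (IsPullback.of_right hbig hf'1 hright).flip
  obtain ⟨z, hz1, hz2⟩ := AlgebraicGeometry.Scheme.Pullback.exists_preimage_pullback
    (f := f) (g := Curv2.bcFst k Y k') x y' hy'.symm
  obtain ⟨x', hx'def⟩ : ∃ x' : Curv2.bc k X k', x' = hc.isoPullback.inv z := ⟨_, rfl⟩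
  have hx'1 : Curv2.bcFst k X k' x' = x := by
    rw [hx'def, ← Scheme.Hom.comp_apply, hc.isoPullback_inv_fst]
    exact hz1
  have hx'2 : f' x' = y' := by
    rw [hx'def, ← Scheme.Hom.comp_apply, hc.isoPullback_inv_snd]
    exact hz2
  subst hx'1
  subst hx'2
  have hreg : IsRegularLocalRing ((Curv2.bc k X k').presheaf.stalk x') := hx k' hfg x' rfl
  have hfl' : (f'.stalkMap x').hom.Flat := stalkMap_flat_baseChange hc x' hflat
  algebraize [(f'.stalkMap x').hom]
  have hloc : IsLocalHom (algebraMap ((Curv2.bc k Y k').presheaf.stalk (f' x'))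
      ((Curv2.bc k X k').presheaf.stalk x')) :=
    inferInstanceAs <| IsLocalHom (f'.stalkMap x').hom
  have hflat2 : Module.Flat ((Curv2.bc k Y k').presheaf.stalk (f' x'))
      ((Curv2.bc k X k').presheaf.stalk x') := by
    rwa [RingHom.Flat, ← RingHom.algebraMap_toAlgebra (f'.stalkMap x').hom] at hfl'
  have hff : Module.FaithfullyFlat ((Curv2.bc k Y k').presheaf.stalk (f' x'))
      ((Curv2.bc k X k').presheaf.stalk x') := Module.FaithfullyFlat.of_flat_of_isLocalHom
  have hNX : IsNoetherianRing ((Curv2.bc k X k').presheaf.stalk x') := inferInstance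
  have hNY : IsNoetherianRing ((Curv2.bc k Y k').presheaf.stalk (f' x')) :=
    Groth.Agent.Lib.Helper14.AS.isNoetherianRing_of_faithfullyFlat
      (algebraMap ((Curv2.bc k Y k').presheaf.stalk (f' x'))
        ((Curv2.bc k X k').presheaf.stalk x'))
      (RingHom.faithfullyFlat_algebraMap_iff.mpr inferInstance)
  exact Groth.Agent.Lib.Helper18.SerreReg.isRegularLocalRing_of_flat_of_isLocalHom
    ((Curv2.bc k Y k').presheaf.stalk (f' x')) ((Curv2.bc k X k').presheaf.stalk x')

end Groth.Agent.S1563
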