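import Groth.Statements.S1566
import Groth.Agent.Lib.Helper21.BirH1
-- import your own Groth.Agent.* helpers here

set_option autoImplicit false
universe u
open CategoryTheory CategoryTheory.Limits AlgebraicGeometry
open Curves

namespace Groth.Agent.S1566

/-- Let X be proper of dimension at most one over k and f : Y → X a finite morphism which is a closed
immersion over a dense open of X. Then the k-dimension of H^1 of the structure sheaf of Y is at most
that of X. -/
theorem result (k : Type u) [Field k] (X Y : Scheme.{u}) [X.Over (Spec (CommRingCat.of k))] [Y.Over (Spec (CommRingCat.of k))]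
    [IsProper (X ↘ (Spec (CommRingCat.of k)))] (hdim : topologicalKrullDim X ≤ 1) (f : Y ⟶ X) [IsFinite f] (hf : f ≫ (X ↘ (Spec (CommRingCat.of k))) = Y ↘ (Spec (CommRingCat.of k)))
    (U : X.Opens) (hU : Dense (U : Set X)) (hfU : IsClosedImmersion (f ∣_ U)) :
    Curv2.genus k Y ≤ Curv2.genus k X := by
  have hLN : IsLocallyNoetherian X :=
    LocallyOfFiniteType.isLocallyNoetherian (X ↘ Spec (CommRingCat.of k))
  have hCS : CompactSpace X :=
    QuasiCompact.compactSpace_of_compactSpace (X ↘ (Spec (CommRingCat.of k)))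
  have hN : IsNoetherian X := {}
  have hci : IsClosedImmersion (f ∣_ U) := hfU
  have hqc : (Groth.Agent.Lib.Helper29.QCoh.unitM Y).IsQuasicoherent :=
    Groth.Agent.Lib.Helper29.QCoh.isQuasicoherent_of_isInvertible
      (Groth.Agent.Lib.Helper29.QCoh.isInvertible_unit Y)
  obtain ⟨e⟩ := Groth.Agent.Lib.Lead.NatPush.nonempty_HH_linearEquiv_HH_push f
    (Groth.Agent.Lib.Helper29.QCoh.unitM Y) k hf 1
  have hsupp : CohB1.support (cokernel (Groth.Agent.Lib.Helper21.BirH1.unitHom f)) ⊆
      (U : Set X)ᶜ := by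
    intro x hx hxU
    exact hx ((Groth.Agent.Lib.Helper29.QCoh.stalkMap_surjective_iff_cokernel _ x).mp
      (Groth.Agent.Lib.Helper21.BirH1.stalkMap_unitHom_surjective f U x hxU))
  have hQ : Subsingleton (Coh.HH X (cokernel (Groth.Agent.Lib.Helper21.BirH1.unitHom f)) 1) :=
    Groth.Agent.Lib.Helper29.QCoh.subsingleton_HH_succ_of_support_hereditarily_closed _
      (fun T hT => Groth.Agent.Lib.Helper21.BirH1.isClosed_of_subset_compl_of_dense X hdim U hU
        (hT.trans hsupp)) 0
  have hsurj := Groth.Agent.Lib.Helper21.BirH1.surjective_HHlin_one k X hdim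
    (Groth.Agent.Lib.Helper21.BirH1.unitHom f) hQ
  have hOc : Coh.IsCoh (Groth.Agent.Lib.Helper29.QCoh.unitM X) :=
    ⟨Groth.Agent.Lib.Helper29.QCoh.isQuasicoherent_of_isInvertible
      (Groth.Agent.Lib.Helper29.QCoh.isInvertible_unit X),
     Groth.Agent.Lib.Helper29.QCoh.isFiniteType_of_isInvertible
      (Groth.Agent.Lib.Helper29.QCoh.isInvertible_unit X)⟩
  have hfin : Module.Finite k (Coh.HH X (Groth.Agent.Lib.Helper29.QCoh.unitM X) 1) :=
    Groth.Agent.S0002.result k X _ hOc 1
  unfold Curv2.genus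
  change Module.finrank k (Coh.HH Y (Groth.Agent.Lib.Helper29.QCoh.unitM Y) 1) ≤
    Module.finrank k (Coh.HH X (Groth.Agent.Lib.Helper29.QCoh.unitM X) 1)
  rw [e.finrank_eq]
  have h1 := LinearMap.finrank_range_le
    (Canon.HHlin k (Groth.Agent.Lib.Helper21.BirH1.unitHom f) 1)
  rw [LinearMap.range_eq_top.mpr hsurj, finrank_top] at h1
  exact h1

end Groth.Agent.S1566
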