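import Groth.Statements.S1569
import Groth.Agent.Lib.Helper10.DivLocal

set_option autoImplicit false
universe u
open CategoryTheory CategoryTheory.Limits AlgebraicGeometry
open Divisors

namespace Groth.Agent.S1569

/-- On a Noetherian scheme, an effective Cartier divisor which is integral as a closed subscheme has a
discrete valuation ring as the local ring of the ambient scheme at its generic point. -/
theorem result (X : Scheme.{u}) [IsNoetherian X]
    (D : X.IdealSheafData) (hD : BlowUp.IsEffCartierIdeal D) [IsIntegral D.subscheme]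
    (ξ : X) (hξ : IsGenericPoint ξ (D.support : Set X)) :
    ∃ _ : IsDomain (X.presheaf.stalk ξ), IsDiscreteValuationRing (X.presheaf.stalk ξ) := by
  obtain ⟨U, hξU, f, hfnzd, hf⟩ := hD ξ
  have hξD : ξ ∈ (D.support : Set X) := hξ.mem
  have hgen : ∀ y ∈ (D.support : Set X), y ⤳ ξ → y = ξ := by
    intro y hy hyξ
    have h2 : ξ ⤳ y := by
      rw [specializes_iff_mem_closure]
      rw [hξ.def]
      exact hy
    exact (hyξ.antisymm h2).eq
  have hmin := Groth.Agent.Lib.Helper10.DivLocal.primeIdealOf_mem_minimalPrimes D U ξ hξU hξD hgen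
  -- the ideal of `D` on `U` is prime
  have hprime : (D.ideal U).IsPrime := by
    obtain ⟨z, hz⟩ : ξ ∈ Set.range D.subschemeι := by
      rw [Scheme.IdealSheafData.range_subschemeι]; exact hξD
    have hne : Nonempty ↥(D.subschemeι ⁻¹ᵁ U.1) := ⟨⟨z, by
      change D.subschemeι z ∈ U.1
      rw [hz]; exact hξU⟩⟩
    have hdom : IsDomain Γ(D.subscheme, D.subschemeι ⁻¹ᵁ U.1) :=
      @IsIntegral.component_integral _ _ (D.subschemeι ⁻¹ᵁ U.1) hne
    have hdom2 : IsDomain (Γ(X, U.1) ⧸ D.ideal U) :=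
      (D.subschemeObjIso U).commRingCatIsoToRingEquiv.symm.toMulEquiv.isDomain _
    exact (Ideal.Quotient.isDomain_iff_prime _).1 hdom2
  rw [Ideal.minimalPrimes_eq_subsingleton_self, Set.mem_singleton_iff] at hmin
  -- the stalk is the localization at `p = (f)`
  let _ : Algebra Γ(X, U.1) (X.presheaf.stalk ξ) := (X.presheaf.germ U.1 ξ hξU).hom.toAlgebra
  have hloc : IsLocalization.AtPrime (X.presheaf.stalk ξ) (U.2.primeIdealOf ⟨ξ, hξU⟩).asIdeal :=
    U.2.isLocalization_stalk ⟨ξ, hξU⟩
  have hmax := IsLocalization.AtPrime.map_eq_maximalIdeal (U.2.primeIdealOf ⟨ξ, hξU⟩).asIdeal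
    (X.presheaf.stalk ξ)
  rw [hmin, hf, Ideal.map_span, Set.image_singleton] at hmax
  have hnzd : algebraMap Γ(X, U.1) (X.presheaf.stalk ξ) f ∈ nonZeroDivisors (X.presheaf.stalk ξ) :=
    IsLocalization.map_nonZeroDivisors_le (U.2.primeIdealOf ⟨ξ, hξU⟩).asIdeal.primeCompl
      (X.presheaf.stalk ξ) (Submonoid.mem_map_of_mem _ hfnzd)
  have hdom := Groth.Agent.Lib.Helper10.DivLocal.isDomain_of_maximalIdeal_eq_span_nzd _ hmax.symm hnzd
  exact ⟨hdom, Groth.Agent.Lib.Helper10.DivLocal.isDiscreteValuationRing_of_maximalIdeal_eq_span_nzd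
    _ hmax.symm hnzd⟩

end Groth.Agent.S1569
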