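import Groth.Statements.S1570
import Groth.Agent.Lib.Helper10.DivLocal

set_option autoImplicit false
universe u
open CategoryTheory CategoryTheory.Limits AlgebraicGeometry
open Divisors

namespace Groth.Agent.S1570

open CategoryTheory AlgebraicGeometry in
theorem mem_basicOpen_iff_notMem_primeIdealOf {X : Scheme.{u}} (U : X.affineOpens) (x : X)
    (hx : x ∈ (U : X.Opens)) (s : Γ(X, U.1)) :
    x ∈ X.basicOpen s ↔ s ∉ (U.2.primeIdealOf ⟨x, hx⟩).asIdeal := by
  have h1 : U.2.fromSpec (U.2.primeIdealOf ⟨x, hx⟩) = x := U.2.fromSpec_primeIdealOf ⟨x, hx⟩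
  have h2 : x ∈ X.basicOpen s ↔ U.2.primeIdealOf ⟨x, hx⟩ ∈ U.2.fromSpec ⁻¹ᵁ X.basicOpen s := by
    change _ ↔ U.2.fromSpec (U.2.primeIdealOf ⟨x, hx⟩) ∈ X.basicOpen s
    rw [h1]
  rw [h2, U.2.fromSpec_preimage_basicOpen]
  exact PrimeSpectrum.mem_basicOpen _ _

/-- Let X be locally Noetherian and D a closed subscheme with ideal sheaf I. If for every point x of D
the ideal generated by I in the local ring at x is generated by one nonzerodivisor, then D is an
effective Cartier divisor. -/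
theorem result (X : Scheme.{u}) [IsLocallyNoetherian X]
    (D : X.IdealSheafData)
    (h : ∀ x ∈ D.support, ∀ (U : X.affineOpens) (hx : x ∈ (U : X.Opens)),
      ∃ g : X.presheaf.stalk x, g ∈ nonZeroDivisors (X.presheaf.stalk x) ∧
        (D.ideal U).map (X.presheaf.germ U x hx).hom = Ideal.span {g}) :
    BlowUp.IsEffCartierIdeal D := by
  intro x
  obtain ⟨_, ⟨W, hW, rfl⟩, hxW, -⟩ :=
    X.isBasis_affineOpens.exists_subset_of_mem_open (Set.mem_univ x) isOpen_univ
  let U : X.affineOpens := ⟨W, hW⟩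
  have hxU : x ∈ (U : X.Opens) := hxW
  by_cases hx : x ∈ D.support
  · obtain ⟨g, hg, hgI⟩ := h x hx U hxU
    have hnoeth : IsNoetherianRing Γ(X, U.1) := IsLocallyNoetherian.component_noetherian U
    let _ : Algebra Γ(X, U.1) (X.presheaf.stalk x) := (X.presheaf.germ U.1 x hxU).hom.toAlgebra
    have hloc : IsLocalization.AtPrime (X.presheaf.stalk x) (U.2.primeIdealOf ⟨x, hxU⟩).asIdeal :=
      U.2.isLocalization_stalk ⟨x, hxU⟩
    obtain ⟨h', hh', a, H⟩ := Groth.Agent.Lib.Helper10.DivLocal.exists_away_principal_nzd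
      (U.2.primeIdealOf ⟨x, hxU⟩).asIdeal (D.ideal U) (X.presheaf.stalk x) g hg hgI
    have hlocB : IsLocalization.Away h' Γ(X, X.basicOpen h') := U.2.isLocalization_basicOpen h'
    obtain ⟨hnzd, hmap⟩ := H Γ(X, X.basicOpen h')
    refine ⟨X.affineBasicOpen h', ?_, algebraMap Γ(X, U.1) Γ(X, X.basicOpen h') a, hnzd, ?_⟩
    · exact (mem_basicOpen_iff_notMem_primeIdealOf U x hxU h').2 hh'
    · rw [← D.map_ideal_basicOpen U h']
      exact hmap
  · rw [Scheme.IdealSheafData.mem_support_iff_of_mem hxU, Scheme.mem_zeroLocus_iff] at hx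
    push Not at hx
    obtain ⟨s, hsI, hxs⟩ := hx
    refine ⟨X.affineBasicOpen s, hxs, 1, one_mem _, ?_⟩
    rw [← D.map_ideal_basicOpen U s, Ideal.span_singleton_one]
    have hu : IsUnit ((X.presheaf.map (homOfLE (X.basicOpen_le s)).op).hom s) :=
      X.toRingedSpace.isUnit_res_basicOpen s
    exact Ideal.eq_top_of_isUnit_mem _ (Ideal.mem_map_of_mem _ hsI) hu

end Groth.Agent.S1570
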