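import Groth.Statements.S15706
import Mathlib
-- import your own Groth.Agent.* helpers here

set_option autoImplicit false
universe u
open CAlg

namespace Groth.Agent.S15706

/-- If `p` is a minimal prime of `A` containing `I`, its image in `A ⧸ I` is a minimal prime. -/
lemma map_mem_minimalPrimes {A : Type*} [CommRing A] (I p : Ideal A) (hp : p ∈ minimalPrimes A)
    (hI : I ≤ p) : p.map (Ideal.Quotient.mk I) ∈ minimalPrimes (A ⧸ I) := by
  have hprime : p.IsPrime := hp.1.1
  have hsurj : Function.Surjective (Ideal.Quotient.mk I) := Ideal.Quotient.mk_surjective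
  have hker : RingHom.ker (Ideal.Quotient.mk I) ≤ p := by rwa [Ideal.mk_ker]
  refine ⟨⟨Ideal.map_isPrime_of_surjective hsurj hker, bot_le⟩, ?_⟩
  rintro q ⟨hq, -⟩ hle
  have h1 : q.comap (Ideal.Quotient.mk I) ≤ p := by
    have := Ideal.comap_mono (f := Ideal.Quotient.mk I) hle
    rwa [Ideal.comap_map_of_surjective _ hsurj, ← RingHom.ker_eq_comap_bot,
      sup_eq_left.mpr hker] at this
  have h2 : p ≤ q.comap (Ideal.Quotient.mk I) := hp.2 ⟨hq.comap _, bot_le⟩ h1
  calc p.map (Ideal.Quotient.mk I) ≤ (q.comap (Ideal.Quotient.mk I)).map (Ideal.Quotient.mk I) :=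
        Ideal.map_mono h2
    _ = q := Ideal.map_comap_of_surjective _ hsurj q

/-- Lifting regular elements along `A → A ⧸ I` when the associated primes of `A` are minimal. -/
theorem exists_lift (A : Type*) [CommRing A]
    [IsNoetherianRing A] (hS1 : ∀ p ∈ associatedPrimes A A, p ∈ minimalPrimes A) (I : Ideal A)
    (b : A ⧸ I) (hb : b ∈ nonZeroDivisors (A ⧸ I)) :
    ∃ a : A, a ∈ nonZeroDivisors A ∧ Ideal.Quotient.mk I a = b := by
  classical
  obtain ⟨a0, rfl⟩ := Ideal.Quotient.mk_surjective b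
  have hfin : (associatedPrimes A A).Finite := associatedPrimes.finite A A
  set S := hfin.toFinset with hS
  have hSmem : ∀ p, p ∈ S ↔ p ∈ associatedPrimes A A := fun p => hfin.mem_toFinset
  let s₁ := S.filter (fun p => a0 ∈ p)
  let s₂ := S.filter (fun p => a0 ∉ p)
  let I' : Ideal A := I ⊓ s₂.inf id
  have havoid : ¬ ((I' : Set A) ⊆ ⋃ p ∈ (s₁ : Set (Ideal A)), (id p : Ideal A)) := by
    rw [Ideal.subset_union_prime ⊥ ⊥ (fun p hp _ _ => by
      have : p ∈ associatedPrimes A A := (hSmem p).mp (Finset.mem_filter.mp hp).1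
      exact this.isPrime)]
    rintro ⟨p, hp, hle⟩
    obtain ⟨hpS, hap⟩ := Finset.mem_filter.mp hp
    have hpmin : p ∈ minimalPrimes A := hS1 p ((hSmem p).mp hpS)
    have hprime : p.IsPrime := hpmin.1.1
    rcases hprime.inf_le.mp hle with h | h
    · have hmin' := map_mem_minimalPrimes I p hpmin h
      exact notMem_nonZeroDivisors_of_mem_mem_minimalPrimes
        (Ideal.mem_map_of_mem (Ideal.Quotient.mk I) hap) hmin' hb
    · obtain ⟨p', hp', hle'⟩ := hprime.inf_le'.mp h
      obtain ⟨hp'S, hap'⟩ := Finset.mem_filter.mp hp'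
      have hp'prime : p'.IsPrime := ((hSmem p').mp hp'S).isPrime
      have : p ≤ p' := hpmin.2 ⟨hp'prime, bot_le⟩ hle'
      exact hap' (this hap)
  obtain ⟨x, hxI', hx⟩ := Set.not_subset.mp havoid
  have hxI : x ∈ I := hxI'.1
  have hxs₂ : ∀ p ∈ s₂, x ∈ p := by
    intro p hp
    have h2 : x ∈ s₂.inf id := hxI'.2
    exact (Finset.inf_le hp : s₂.inf id ≤ id p) h2
  refine ⟨a0 + x, ?_, ?_⟩
  · by_contra hnz
    have hmem : a0 + x ∈ (nonZeroDivisors A : Set A)ᶜ := hnz
    rw [← biUnion_associatedPrimes_eq_compl_nonZeroDivisors] at hmem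
    obtain ⟨p, hp, hmem⟩ := Set.mem_iUnion₂.mp hmem
    have hpS : p ∈ S := (hSmem p).mpr hp
    by_cases ha : a0 ∈ p
    · have hp1 : p ∈ s₁ := Finset.mem_filter.mpr ⟨hpS, ha⟩
      apply hx
      refine Set.mem_iUnion₂.mpr ⟨p, hp1, ?_⟩
      exact (Ideal.add_mem_iff_right p ha).mp hmem
    · have hp2 : p ∈ s₂ := Finset.mem_filter.mpr ⟨hpS, ha⟩
      exact ha ((Ideal.add_mem_iff_left p (hxs₂ p hp2)).mp hmem)
  · rw [map_add, Ideal.Quotient.eq_zero_iff_mem.mpr hxI, add_zero]

/-- Let A be a Noetherian ring with Serre's property (S_1), stated here in the equivalent form that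
every associated prime of A is a minimal prime of A. Let I be an ideal of A and b an element of A/I
which is regular (a non-zero-divisor) in A/I. Then b is the image of a regular element of A. -/
theorem result (A : Type u) [CommRing A]
    [IsNoetherianRing A] (hS1 : ∀ p ∈ associatedPrimes A A, p ∈ minimalPrimes A) (I : Ideal A)
    (b : A ⧸ I) (hb : b ∈ nonZeroDivisors (A ⧸ I)) :
    ∃ a : A, a ∈ nonZeroDivisors A ∧ Ideal.Quotient.mk I a = b := by
  exact exists_lift A hS1 I b hb

end Groth.Agent.S15706
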