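import Groth.Statements.S15708
import Mathlib
import Groth.Agent.Lib.Helper28.GradedAvoid

set_option autoImplicit false
universe u v
open CAlg

namespace Groth.Agent.S15708

/-- Let A be a Noetherian commutative ring graded by the natural numbers, J a homogeneous ideal, and
p_1, ..., p_r finitely many prime ideals such that no p_i contains the irrelevant ideal A_+ and no
p_i contains J. Then there is a homogeneous element z of positive degree with z in J and z in no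
p_i. -/
theorem result {R : Type u} {A : Type v} [CommRing R] [CommRing A]
    [Algebra R A] [IsNoetherianRing A] (𝒜 : ℕ → Submodule R A) [GradedRing 𝒜]
    (J : Ideal A) (hJ : J.IsHomogeneous 𝒜) (P : Finset (Ideal A))
    (hP : ∀ p ∈ P, p.IsPrime ∧ ¬ (HomogeneousIdeal.irrelevant 𝒜).toIdeal ≤ p ∧ ¬ J ≤ p) :
    ∃ (z : A) (n : ℕ), 0 < n ∧ z ∈ 𝒜 n ∧ z ∈ J ∧ ∀ p ∈ P, z ∉ p := by
  classical
  let Jh : HomogeneousIdeal 𝒜 := ⟨J, hJ⟩
  let I : HomogeneousIdeal 𝒜 := Jh ⊓ HomogeneousIdeal.irrelevant 𝒜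
  have hI : I ≤ HomogeneousIdeal.irrelevant 𝒜 := inf_le_right
  have hItoJ : I.toIdeal ≤ J := by
    intro x hx
    have : x ∈ Jh.toIdeal ⊓ (HomogeneousIdeal.irrelevant 𝒜).toIdeal := by
      simpa [I, HomogeneousIdeal.toIdeal_inf] using hx
    exact this.1
  have hIinf : J ⊓ (HomogeneousIdeal.irrelevant 𝒜).toIdeal ≤ I.toIdeal := by
    intro x hx
    have : x ∈ Jh.toIdeal ⊓ (HomogeneousIdeal.irrelevant 𝒜).toIdeal := hx
    simpa [I, HomogeneousIdeal.toIdeal_inf] using this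
  have hnot : ∀ i ∈ P.attach, ¬ I ≤ (fun i : {p // p ∈ P} => (i.1).homogeneousCore 𝒜) i := by
    intro i _ hle
    obtain ⟨hpr, hirr, hJp⟩ := hP i.1 i.2
    have h1 : I.toIdeal ≤ i.1 :=
      (_root_.toIdeal_le_toIdeal_iff.mpr hle).trans (Ideal.toIdeal_homogeneousCore_le 𝒜 i.1)
    have h2 : J * (HomogeneousIdeal.irrelevant 𝒜).toIdeal ≤ i.1 :=
      Ideal.mul_le_inf.trans (hIinf.trans h1)
    rcases hpr.mul_le.mp h2 with h | h
    · exact hJp h
    · exact hirr h
  obtain ⟨x, d, hd, hxd, hxI, hx⟩ := Groth.Agent.Lib.Helper28.graded_prime_avoidance 𝒜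
    (fun i : {p // p ∈ P} => (i.1).homogeneousCore 𝒜)
    (fun i => (hP i.1 i.2).1.homogeneousCore) I hI P.attach hnot
  refine ⟨x, d, hd, hxd, hItoJ hxI, ?_⟩
  intro p hp hxp
  exact hx ⟨p, hp⟩ (Finset.mem_attach _ _)
    (Ideal.mem_homogeneousCore_of_homogeneous_of_mem ⟨d, hxd⟩ hxp)

end Groth.Agent.S15708
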