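import Groth.Statements.S1571
import Mathlib.AlgebraicGeometry.Morphisms.SchemeTheoreticallyDominant
import Mathlib.AlgebraicGeometry.Morphisms.Affine
import Mathlib.AlgebraicGeometry.IdealSheaf.Basic

set_option autoImplicit false
universe u
open CategoryTheory CategoryTheory.Limits AlgebraicGeometry
open Divisors

namespace Groth.Agent.S1571

open CategoryTheory AlgebraicGeometry in
/-- restriction to the basic open of a non-zero-divisor is injective -/
theorem res_injective_of_nzd {S : Scheme.{u}} {U : S.Opens} (hU : IsAffineOpen U) (f : Γ(S, U))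
    (hf : f ∈ nonZeroDivisors Γ(S, U)) (V : S.Opens) (h : V ≤ U) (hV : V = S.basicOpen f) :
    Function.Injective (S.presheaf.map (homOfLE h).op).hom := by
  subst hV
  have hloc : IsLocalization.Away f Γ(S, S.basicOpen f) := hU.isLocalization_basicOpen f
  exact IsLocalization.injective (M := Submonoid.powers f) Γ(S, S.basicOpen f)
    (Submonoid.powers_le.mpr hf)

open CategoryTheory AlgebraicGeometry in
/-- on an affine open where the ideal is principal, the complement of the support is the basic
open -/
theorem compl_support_inf_eq_basicOpen {S : Scheme.{u}} (D : S.IdealSheafData) (U : S.affineOpens)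
    (f : Γ(S, U.1)) (hf : D.ideal U = Ideal.span {f}) :
    D.support.compl ⊓ U.1 = S.basicOpen f := by
  ext y
  constructor
  · rintro ⟨hy1, hy2⟩
    by_contra hyf
    apply hy1
    change y ∈ D.support
    rw [Scheme.IdealSheafData.mem_support_iff_of_mem hy2, hf, Scheme.mem_zeroLocus_iff]
    intro g hg
    obtain ⟨a, rfl⟩ := Ideal.mem_span_singleton'.mp hg
    intro hmem
    rw [Scheme.basicOpen_mul] at hmem
    exact hyf hmem.2
  · intro hy
    have hyU : y ∈ U.1 := S.basicOpen_le f hy
    refine ⟨?_, hyU⟩
    intro hys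
    change y ∈ D.support at hys
    rw [Scheme.IdealSheafData.mem_support_iff_of_mem hyU, hf, Scheme.mem_zeroLocus_iff] at hys
    exact hys f (Ideal.subset_span rfl) hy

/-- The open complement of an effective Cartier divisor is an affine open immersion and is
scheme-theoretically dense. -/
theorem result (S : Scheme.{u}) (D : S.IdealSheafData) (hD : BlowUp.IsEffCartierIdeal D) :
    IsAffineHom (Scheme.Opens.ι (X := S) D.support.compl) ∧ IsSchemeTheoreticallyDominant (Scheme.Opens.ι (X := S) D.support.compl) := by
  have hkey : ∀ (U : S.affineOpens) (f : Γ(S, U.1)), D.ideal U = Ideal.span {f} →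
      ((Scheme.Opens.ι (X := S) D.support.compl) ''ᵁ ((Scheme.Opens.ι (X := S) D.support.compl) ⁻¹ᵁ U.1)) = S.basicOpen f := by
    intro U f hf
    rw [Scheme.Hom.image_preimage_eq_opensRange_inf, Scheme.Opens.opensRange_ι]
    exact compl_support_inf_eq_basicOpen D U f hf
  have haff : IsAffineHom (Scheme.Opens.ι (X := S) D.support.compl) := by
    apply isAffineHom_of_forall_exists_isAffineOpen
    intro x
    obtain ⟨U, hxU, f, -, hf⟩ := hD x
    refine ⟨U.1, hxU, U.2, ?_⟩
    rw [← Scheme.Hom.isAffineOpen_iff_of_isOpenImmersion (Scheme.Opens.ι (X := S) D.support.compl), hkey U f hf]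
    exact U.2.basicOpen f
  refine ⟨haff, ?_⟩
  rw [isSchemeTheoreticallyDominant_iff]
  choose U hxU f hfnzd hf using hD
  refine Scheme.IdealSheafData.ext_of_iSup_eq_top U ?_ ?_
  · rw [eq_top_iff]
    intro x _
    exact TopologicalSpace.Opens.mem_iSup.mpr ⟨x, hxU x⟩
  · intro x
    rw [Scheme.Hom.ker_apply]
    simp only [Scheme.IdealSheafData.ideal_bot, Pi.bot_apply]
    rw [← RingHom.injective_iff_ker_eq_bot, Scheme.Opens.ι_app]
    exact res_injective_of_nzd (U x).2 (f x) (hfnzd x) _ _ (hkey (U x) (f x) (hf x))

end Groth.Agent.S1571
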