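import Groth.Statements.S15712
import Groth.Agent.Lib.Helper10.HartogsOne
import Groth.Agent.Lib.Helper12.SchDense
import Groth.Agent.S2902

set_option autoImplicit false
universe u
open CategoryTheory AlgebraicGeometry TopologicalSpace
open RatSing

namespace Groth.Agent.S15712

/-- Let X be a locally Noetherian scheme with Serre's property (S_1), i.e. every local ring O_{X,x} has
depth at least min(1, dim O_{X,x}) (for instance X Cohen–Macaulay), and let U ⊆ X be open. Then
scheme-theoretic density of U in X is equivalent to U being dense as a subset. (The published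
statement assumes every scheme excellent, in particular locally Noetherian.) -/
theorem result (X : Scheme.{u}) [IsLocallyNoetherian X]
    (hS1 : ∀ x : X, min (1 : WithBot ℕ∞) (ringKrullDim (X.presheaf.stalk x)) ≤
      ((LocCoh.depth (X.presheaf.stalk x) (X.presheaf.stalk x) : ℕ∞) : WithBot ℕ∞))
    (U : X.Opens) : CInt.IsSchematicallyDense U ↔ Dense (U : Set X) := by
  constructor
  · intro h
    exact Groth.Agent.Lib.Helper12.SchDense.dense h
  · intro hD
    apply Groth.Agent.Lib.Helper10.HartogsOne.isSchematicallyDense_of_depth U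
    intro ξ hξ
    have hX : ∀ x : X, ∃ W : Set X, IsOpen W ∧ x ∈ W ∧ TopologicalSpace.NoetherianSpace W := by
      intro x
      obtain ⟨_, ⟨W, hW, rfl⟩, hxW, -⟩ := X.isBasis_affineOpens.exists_subset_of_mem_open
        (Set.mem_univ x) isOpen_univ
      have : IsNoetherianRing Γ(X, W) :=
        AlgebraicGeometry.IsLocallyNoetherian.component_noetherian ⟨W, hW⟩
      exact ⟨(W : Set X), W.2, hxW, AlgebraicGeometry.noetherianSpace_of_isAffineOpen W hW⟩
    have h0 : Order.coheight ξ ≠ 0 := by
      intro h0
      rw [Order.coheight_eq_zero] at h0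
      obtain ⟨N, hNo, hξN, hNsub⟩ := Groth.Agent.S2902.exists_open_nhd_inter_subset_closure hX
        Set.univ isClosed_univ ξ trivial (fun η _ hηξ => by
          have h1 : ξ ≤ η := AlgebraicGeometry.Scheme.le_iff_specializes.mpr hηξ
          have h2 : η ≤ ξ := h0 h1
          exact ((AlgebraicGeometry.Scheme.le_iff_specializes.mp h2).antisymm hηξ).eq.symm)
      obtain ⟨y, hyN, hyD⟩ := hD.inter_open_nonempty N hNo ⟨ξ, hξN⟩
      have hsp : ξ ⤳ y := specializes_iff_mem_closure.mpr (hNsub ⟨hyN, trivial⟩)
      exact hξ (hsp.mem_open U.2 hyD)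
    have h1 : (1 : ℕ∞) ≤ Order.coheight ξ := Order.one_le_iff_ne_zero.mpr h0
    have := hS1 ξ
    rw [AlgebraicGeometry.ringKrullDim_stalk_eq_coheight, min_eq_left] at this
    · have h' : ((1 : ℕ∞) : WithBot ℕ∞) ≤
          ((LocCoh.depth (X.presheaf.stalk ξ) (X.presheaf.stalk ξ) : ℕ∞) : WithBot ℕ∞) := this
      exact WithBot.coe_le_coe.mp h'
    · exact (WithBot.coe_le_coe.mpr h1 : ((1 : ℕ∞) : WithBot ℕ∞) ≤ _)

end Groth.Agent.S15712
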