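import Groth.Statements.S15715
import Mathlib
import Groth.Agent.Lib.Lead.SchDense

set_option autoImplicit false
universe u
open CategoryTheory AlgebraicGeometry TopologicalSpace
open RatSing

namespace Groth.Agent.S15715

/-- Let X be a locally Noetherian scheme, φ : F → G a homomorphism of O_X-modules with F quasi-coherent
and torsion-free (over every affine open V, no nonzero section of F is killed by a regular element
of O_X(V)), and U a scheme-theoretically dense open subset of X such that the restriction of φ to U
is injective. Then φ is injective. (The published statement allows an arbitrary O_X-module F; for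
the skyscraper sheaf on the affine line over a field, placed at a closed point with value the local
ring at that point, which is torsion-free in this sense, the zero map to the zero module is
injective over the dense open complement of the point but not injective. This row takes F
quasi-coherent.) -/
theorem result (X : Scheme.{u})
    [IsLocallyNoetherian X] (F G : X.Modules) (hF : Coh.IsQCoh F)
    (htf : ∀ V : X.affineOpens, Submodule.torsion Γ(X, V.1) (F.val.obj (Opposite.op V.1)) = ⊥)
    (φ : F ⟶ G) (U : X.Opens) (hU : CInt.IsSchematicallyDense U)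
    (hφU : ∀ V : X.Opens, V ≤ U → Function.Injective ⇑(ConcreteCategory.hom (φ.val.app (Opposite.op V)))) (V : X.Opens) :
    Function.Injective ⇑(ConcreteCategory.hom (φ.val.app (Opposite.op V))) := by
  haveI : F.IsQuasicoherent := hF
  have key : ∀ (W : X.Opens), IsAffineOpen W → ∀ t : Γ(F, W), φ.app W t = 0 → t = 0 := by
    intro W hW t ht
    obtain ⟨r, hr, hrU⟩ := Groth.Agent.Lib.Lead.SchDense.exists_regular_basicOpen_le hW hU
    have h1 : Groth.Agent.Lib.Helper29.QCoh.res F (X.basicOpen_le r) t = 0 := by
      apply hφU _ hrU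
      have e1 : φ.app (X.basicOpen r) (Groth.Agent.Lib.Helper29.QCoh.res F (X.basicOpen_le r) t) =
          Groth.Agent.Lib.Helper29.QCoh.res G (X.basicOpen_le r) (φ.app W t) :=
        Groth.Agent.Lib.Helper29.QCoh.app_res φ _ t
      have e2 : Groth.Agent.Lib.Helper29.QCoh.res G (X.basicOpen_le r) (φ.app W t) = 0 := by
        rw [ht]; exact map_zero _
      exact (e1.trans e2).trans (map_zero (ConcreteCategory.hom (φ.val.app (Opposite.op (X.basicOpen r))))).symm
    obtain ⟨n, hn⟩ := Groth.Agent.Lib.Helper29.QCoh.exists_pow_smul_eq_zero_of_isCompact F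
      hW.isCompact r t h1
    have hmem : t ∈ Submodule.torsion Γ(X, W) (F.val.obj (Opposite.op W)) :=
      (Submodule.mem_torsion_iff t).2 ⟨⟨r ^ n, pow_mem hr n⟩, hn⟩
    have hbot := htf ⟨W, hW⟩
    have hmem' : t ∈ (⊥ : Submodule Γ(X, W) (F.val.obj (Opposite.op W))) := hbot ▸ hmem
    exact hmem'
  refine (injective_iff_map_eq_zero (ConcreteCategory.hom (φ.val.app (Opposite.op V)))).2 ?_
  intro s hs
  have hs' : φ.app V s = 0 := hs
  refine Groth.Agent.Lib.Helper29.QCoh.eq_zero_of_res_cover_eq_zero F
    (fun W : {W : X.affineOpens // W.1 ≤ V} => W.1.1) (fun W => W.2) ?_ s ?_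
  · intro x hx
    obtain ⟨W, hW, hxW, hWV⟩ := exists_isAffineOpen_mem_and_subset (x := x) (U := V) hx
    exact TopologicalSpace.Opens.mem_iSup.2 ⟨⟨⟨W, hW⟩, hWV⟩, hxW⟩
  · rintro ⟨W, hWV⟩
    apply key W.1 W.2
    have e1 := Groth.Agent.Lib.Helper29.QCoh.app_res φ hWV s
    have e2 : Groth.Agent.Lib.Helper29.QCoh.res G hWV (φ.app V s) = 0 := by
      rw [hs']; exact map_zero _
    exact e1.trans e2

end Groth.Agent.S15715
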