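import Groth.Statements.S15724
import Mathlib
import Groth.Agent.Lib.Helper26.WeightedMonomials

set_option autoImplicit false
universe u
open W4c2invhilbsl2

namespace Groth.Agent.S15724

open MvPolynomial W4c2invhilbsl2
open Groth.Agent.Lib.Helper26.WeightedMonomials

theorem weight5_fst (p q m : ℕ) (d : Fin 5 →₀ ℕ) :
    (Finsupp.weight (wt5 p q m) d).1 = (d 0 : ℤ) - p * (d 1 + d 2) + q * (d 3 + d 4) := by
  rw [Finsupp.weight_eq_sum, Fin.sum_univ_five]
  simp [wt5]
  ring

/-- the hypersurface equation -/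
noncomputable abbrev hyp (k : Type u) [Field k] (p q : ℕ) : MvPolynomial (Fin 5) k :=
  X (0 : Fin 5) ^ (q - p) - X 1 * X 4 + X 2 * X 3

theorem part1 (k : Type u) [Field k] (p q m : ℕ) (hp : 0 < p) (hpq : p < q)
    (f : MvPolynomial (Fin 5) k)
    (hf : f ∈ weightedHomogeneousSubmodule k (wt5 p q m) (wt5 p q m 1)) :
    ∃ a b : MvPolynomial (Fin 5) k, a ∈ weightedHomogeneousSubmodule k (wt5 p q m) 0 ∧
      b ∈ weightedHomogeneousSubmodule k (wt5 p q m) 0 ∧
      f - (a * X (1 : Fin 5) + b * X (2 : Fin 5)) ∈ Ideal.span {hyp k p q} := by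
  set w := wt5 p q m with hw
  have hw11 : w 1 - w 1 = 0 := sub_self _
  have hw12 : w 1 - w 2 = 0 := by simp [hw, wt5]
  refine wh_induction w (w 1) (P := fun f => ∃ a b : MvPolynomial (Fin 5) k,
      a ∈ weightedHomogeneousSubmodule k w 0 ∧ b ∈ weightedHomogeneousSubmodule k w 0 ∧
      f - (a * X (1 : Fin 5) + b * X (2 : Fin 5)) ∈ Ideal.span {hyp k p q}) ?_ ?_ ?_ f hf
  · exact ⟨0, 0, Submodule.zero_mem _, Submodule.zero_mem _, by simp⟩
  · rintro f g ⟨a, b, ha, hb, h1⟩ ⟨a', b', ha', hb', h2⟩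
    refine ⟨a + a', b + b', Submodule.add_mem _ ha ha', Submodule.add_mem _ hb hb', ?_⟩
    have := Ideal.add_mem _ h1 h2
    convert this using 1
    ring
  · intro d c hd
    have h1 := congrArg Prod.fst hd
    rw [weight5_fst] at h1
    have h1' : (d 0 : ℤ) - p * (d 1 + d 2) + q * (d 3 + d 4) = -(p : ℤ) := by
      rw [h1]; simp [hw, wt5]
    have hp' : (0 : ℤ) < p := by exact_mod_cast hp
    have hq' : (0 : ℤ) < q := by exact_mod_cast lt_trans hp hpq
    by_cases h : 1 ≤ d 1
    · obtain ⟨g, hg, e⟩ := exists_factor_one w d c (w 1) hd 1 h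
      rw [hw11] at hg
      exact ⟨g, 0, hg, Submodule.zero_mem _, by rw [e]; simp⟩
    · have h2 : 1 ≤ d 2 := by
        by_contra h2
        rw [not_le, Nat.lt_one_iff] at h h2
        rw [h, h2] at h1'
        push_cast at h1'
        have : (0 : ℤ) ≤ q * (d 3 + d 4) := by positivity
        have : (0 : ℤ) ≤ d 0 := by positivity
        linarith
      obtain ⟨g, hg, e⟩ := exists_factor_one w d c (w 1) hd 2 h2
      rw [hw12] at hg
      exact ⟨0, g, Submodule.zero_mem _, hg, by rw [e]; simp⟩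

theorem part2 (k : Type u) [Field k] (p q m : ℕ) (hp : 0 < p) (hpq : p < q)
    (f : MvPolynomial (Fin 5) k)
    (hf : f ∈ weightedHomogeneousSubmodule k (wt5 p q m) (wt5 p q m 3)) :
    ∃ a b : MvPolynomial (Fin 5) k, a ∈ weightedHomogeneousSubmodule k (wt5 p q m) 0 ∧
      b ∈ weightedHomogeneousSubmodule k (wt5 p q m) 0 ∧
      f - (a * X (3 : Fin 5) + b * X (4 : Fin 5)) ∈ Ideal.span {hyp k p q} := by
  set w := wt5 p q m with hw
  have hw33 : w 3 - w 3 = 0 := sub_self _
  have hw34 : w 3 - w 4 = 0 := by simp [hw, wt5]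
  have hX1 : IsWeightedHomogeneous w (X (1 : Fin 5) : MvPolynomial (Fin 5) k) (w 1) :=
    isWeightedHomogeneous_X k w 1
  have hX2 : IsWeightedHomogeneous w (X (2 : Fin 5) : MvPolynomial (Fin 5) k) (w 2) :=
    isWeightedHomogeneous_X k w 2
  have hsum1 : w 3 - (q - p) • w 0 + w 1 = 0 := by
    simp [hw, wt5, Nat.cast_sub hpq.le]
  have hsum2 : w 3 - (q - p) • w 0 + w 2 = 0 := by
    simp [hw, wt5, Nat.cast_sub hpq.le]
  refine wh_induction w (w 3) (P := fun f => ∃ a b : MvPolynomial (Fin 5) k,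
      a ∈ weightedHomogeneousSubmodule k w 0 ∧ b ∈ weightedHomogeneousSubmodule k w 0 ∧
      f - (a * X (3 : Fin 5) + b * X (4 : Fin 5)) ∈ Ideal.span {hyp k p q}) ?_ ?_ ?_ f hf
  · exact ⟨0, 0, Submodule.zero_mem _, Submodule.zero_mem _, by simp⟩
  · rintro f g ⟨a, b, ha, hb, h1⟩ ⟨a', b', ha', hb', h2⟩
    refine ⟨a + a', b + b', Submodule.add_mem _ ha ha', Submodule.add_mem _ hb hb', ?_⟩
    have := Ideal.add_mem _ h1 h2
    convert this using 1
    ring
  · intro d c hd
    have h1 := congrArg Prod.fst hd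
    rw [weight5_fst] at h1
    have h1' : (d 0 : ℤ) - p * (d 1 + d 2) + q * (d 3 + d 4) = (q : ℤ) := by
      rw [h1]; simp [hw, wt5]
    have hp' : (0 : ℤ) < p := by exact_mod_cast hp
    have hq' : (p : ℤ) < q := by exact_mod_cast hpq
    by_cases h3 : 1 ≤ d 3
    · obtain ⟨g, hg, e⟩ := exists_factor_one w d c (w 3) hd 3 h3
      rw [hw33] at hg
      exact ⟨g, 0, hg, Submodule.zero_mem _, by rw [e]; simp⟩
    by_cases h4 : 1 ≤ d 4
    · obtain ⟨g, hg, e⟩ := exists_factor_one w d c (w 3) hd 4 h4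
      rw [hw34] at hg
      exact ⟨0, g, Submodule.zero_mem _, hg, by rw [e]; simp⟩
    · rw [not_le, Nat.lt_one_iff] at h3 h4
      have h0 : q - p ≤ d 0 := by
        rw [h3, h4] at h1'
        push_cast at h1'
        have : (0 : ℤ) ≤ p * ((d 1 : ℤ) + d 2) := by positivity
        zify [hpq.le]
        linarith
      obtain ⟨g, hg, e⟩ := exists_factor w d c (w 3) hd 0 (q - p) h0
      refine ⟨-(g * X 2), g * X 1, ?_, ?_, ?_⟩
      · rw [← hsum2]
        exact Submodule.neg_mem _ (IsWeightedHomogeneous.mul hg hX2)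
      · rw [← hsum1]
        exact IsWeightedHomogeneous.mul hg hX1
      · rw [Ideal.mem_span_singleton']
        refine ⟨g, ?_⟩
        rw [e]
        ring

/-- Grade the polynomial ring k[X₀,…,X₄] over a field k by ℤ × ℤ/m, giving X₀ weight (1,0), X₁ and X₂
weight (−p,−1), and X₃ and X₄ weight (q,1), where 0 < p < q are coprime integers and m ≥ 1, and let
P be the principal ideal generated by the weight-zero element X₀^(q−p) − X₁X₄ + X₂X₃ (the equation
of an affine hypersurface). Then every polynomial homogeneous of the weight of X₁ is congruent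
modulo P to some a·X₁ + b·X₂ with a and b homogeneous of weight zero, and every polynomial
homogeneous of the weight of X₃ is congruent modulo P to some a·X₃ + b·X₄ with a and b homogeneous
of weight zero. Equivalently, in the coordinate ring of the hypersurface the weight pieces of the
weights of X₁ and of X₃ are generated over the weight-zero subring (the ring of invariants of the
diagonal action of a one-dimensional torus times the group of m-th roots of unity with these
weights) by X₁, X₂ and by X₃, X₄ respectively. (For the weight of X₁ the congruence is already an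
equality in the polynomial ring; for the weight of X₃ the hypersurface equation is needed, e.g.
X₀^(q+p)X₁ has that weight when m divides 2.) -/
theorem result (k : Type u) [Field k] (p q m : ℕ) (hp : 0 < p) (hpq : p < q) (hcop : Nat.Coprime p q) (hm : 0 < m) (f : MvPolynomial (Fin 5) k) :
    (f ∈ MvPolynomial.weightedHomogeneousSubmodule k (W4c2invhilbsl2.wt5 p q m) (W4c2invhilbsl2.wt5 p q m 1) →
      ∃ a b : MvPolynomial (Fin 5) k, a ∈ MvPolynomial.weightedHomogeneousSubmodule k (W4c2invhilbsl2.wt5 p q m) 0 ∧ b ∈ MvPolynomial.weightedHomogeneousSubmodule k (W4c2invhilbsl2.wt5 p q m) 0 ∧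
        f - (a * MvPolynomial.X (1 : Fin 5) + b * MvPolynomial.X (2 : Fin 5)) ∈ Ideal.span {MvPolynomial.X (0 : Fin 5) ^ (q - p) - MvPolynomial.X 1 * MvPolynomial.X 4 + MvPolynomial.X 2 * MvPolynomial.X 3}) ∧
    (f ∈ MvPolynomial.weightedHomogeneousSubmodule k (W4c2invhilbsl2.wt5 p q m) (W4c2invhilbsl2.wt5 p q m 3) →
      ∃ a b : MvPolynomial (Fin 5) k, a ∈ MvPolynomial.weightedHomogeneousSubmodule k (W4c2invhilbsl2.wt5 p q m) 0 ∧ b ∈ MvPolynomial.weightedHomogeneousSubmodule k (W4c2invhilbsl2.wt5 p q m) 0 ∧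
        f - (a * MvPolynomial.X (3 : Fin 5) + b * MvPolynomial.X (4 : Fin 5)) ∈ Ideal.span {MvPolynomial.X (0 : Fin 5) ^ (q - p) - MvPolynomial.X 1 * MvPolynomial.X 4 + MvPolynomial.X 2 * MvPolynomial.X 3}) := by
  exact ⟨part1 k p q m hp hpq f, part2 k p q m hp hpq f⟩

end Groth.Agent.S15724
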