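import Groth.Statements.S15725
import Mathlib
import Groth.Agent.Lib.Helper26.WeightedMonomials

set_option autoImplicit false
universe u
open W4c2invhilbsl2

namespace Groth.Agent.S15725

open MvPolynomial W4c2invhilbsl2
open Groth.Agent.Lib.Helper26.WeightedMonomials

theorem weight3_fst (p q m : ℕ) (d : Fin 3 →₀ ℕ) :
    (Finsupp.weight (wt3 p q m) d).1 = (d 0 : ℤ) - p * d 1 + q * d 2 := by
  rw [Finsupp.weight_eq_sum, Fin.sum_univ_three]
  simp [wt3]
  ring

theorem main (k : Type u) [Field k] (p q m : ℕ) (hp : 0 < p) (hpq : p < q) (f : MvPolynomial (Fin 3) k)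
    (hf : f ∈ MvPolynomial.weightedHomogeneousSubmodule k (W4c2invhilbsl2.wt3 p q m) ((q : ℤ) - (p : ℤ), (0 : ZMod m))) :
    ∃ a b : MvPolynomial (Fin 3) k, a ∈ MvPolynomial.weightedHomogeneousSubmodule k (W4c2invhilbsl2.wt3 p q m) 0 ∧ b ∈ MvPolynomial.weightedHomogeneousSubmodule k (W4c2invhilbsl2.wt3 p q m) 0 ∧
      f = a * MvPolynomial.X (0 : Fin 3) ^ (q - p) + b * (MvPolynomial.X (1 : Fin 3) * MvPolynomial.X (2 : Fin 3)) := by
  set w := wt3 p q m with hw
  set ν : ℤ × ZMod m := ((q : ℤ) - (p : ℤ), (0 : ZMod m)) with hν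
  have hw12 : ν - w 1 - w 2 = 0 := by
    simp [hν, hw, wt3]
  have hw0 : ν - (q - p) • w 0 = 0 := by
    simp [hν, hw, wt3, Nat.cast_sub hpq.le]
  refine wh_induction w ν (P := fun f => ∃ a b : MvPolynomial (Fin 3) k,
      a ∈ weightedHomogeneousSubmodule k w 0 ∧ b ∈ weightedHomogeneousSubmodule k w 0 ∧
      f = a * X (0 : Fin 3) ^ (q - p) + b * (X (1 : Fin 3) * X (2 : Fin 3))) ?_ ?_ ?_ f hf
  · exact ⟨0, 0, Submodule.zero_mem _, Submodule.zero_mem _, by simp⟩
  · rintro f g ⟨a, b, ha, hb, rfl⟩ ⟨a', b', ha', hb', rfl⟩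
    exact ⟨a + a', b + b', Submodule.add_mem _ ha ha', Submodule.add_mem _ hb hb', by ring⟩
  · intro d c hd
    have h1 := congrArg Prod.fst hd
    rw [weight3_fst] at h1
    change (d 0 : ℤ) - p * d 1 + q * d 2 = (q : ℤ) - p at h1
    by_cases h12 : 1 ≤ d 1 ∧ 1 ≤ d 2
    · obtain ⟨g, hg, e⟩ := exists_factor_two w d c ν hd 1 2 (by decide) h12.1 h12.2
      rw [hw12] at hg
      exact ⟨0, g, Submodule.zero_mem _, hg, by rw [e]; ring⟩
    · have h0 : q - p ≤ d 0 := by
        rw [not_and_or, not_le, not_le, Nat.lt_one_iff, Nat.lt_one_iff] at h12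
        have hq : (p : ℤ) < q := by exact_mod_cast hpq
        have hp' : (0 : ℤ) < p := by exact_mod_cast hp
        rcases h12 with h | h
        · rw [h] at h1
          push_cast at h1
          have : d 2 = 0 := by
            by_contra hne
            have h2 : (1 : ℤ) ≤ d 2 := by exact_mod_cast Nat.one_le_iff_ne_zero.2 hne
            have h3 : (0 : ℤ) ≤ d 0 := by positivity
            have h4 : (q : ℤ) * 1 ≤ q * d 2 := mul_le_mul_of_nonneg_left h2 (by linarith)
            linarith
          rw [this] at h1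
          zify [hpq.le]
          push_cast at h1
          linarith
        · rw [h] at h1
          push_cast at h1
          have h3 : (0 : ℤ) ≤ d 1 := by positivity
          have h4 : (0 : ℤ) ≤ p * d 1 := by positivity
          zify [hpq.le]
          linarith
      obtain ⟨g, hg, e⟩ := exists_factor w d c ν hd 0 (q - p) h0
      rw [hw0] at hg
      exact ⟨g, 0, hg, Submodule.zero_mem _, by rw [e]; ring⟩

/-- Grade the polynomial ring k[X₀,X₁,X₂] over a field k by ℤ × ℤ/m, giving X₀ weight (1,0), X₁ weight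
(−p,−1) and X₂ weight (q,1), where 0 < p < q are coprime integers and m ≥ 1 (this three-variable
ring stands for the subring k[X₀,X₁,Xⱼ], j = 3 or 4, of the five-variable ring with the same
weights). Then every polynomial homogeneous of weight (q−p, 0) can be written a·X₀^(q−p) + b·X₁X₂
with a and b homogeneous of weight zero; in other words the weight-(q−p, 0) piece is generated by
X₀^(q−p) and X₁X₂ as a module over the weight-zero subring. -/
theorem result (k : Type u) [Field k] (p q m : ℕ) (hp : 0 < p) (hpq : p < q) (hcop : Nat.Coprime p q) (hm : 0 < m) (f : MvPolynomial (Fin 3) k)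
    (hf : f ∈ MvPolynomial.weightedHomogeneousSubmodule k (W4c2invhilbsl2.wt3 p q m) ((q : ℤ) - (p : ℤ), (0 : ZMod m))) :
    ∃ a b : MvPolynomial (Fin 3) k, a ∈ MvPolynomial.weightedHomogeneousSubmodule k (W4c2invhilbsl2.wt3 p q m) 0 ∧ b ∈ MvPolynomial.weightedHomogeneousSubmodule k (W4c2invhilbsl2.wt3 p q m) 0 ∧
      f = a * MvPolynomial.X (0 : Fin 3) ^ (q - p) + b * (MvPolynomial.X (1 : Fin 3) * MvPolynomial.X (2 : Fin 3)) := by
  exact main k p q m hp hpq f hf

end Groth.Agent.S15725
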