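import Groth.Statements.S15726
import Mathlib
import Groth.Agent.Lib.Helper26.WeightedMonomials

set_option autoImplicit false
universe u
open W4c2invhilbsl2

namespace Groth.Agent.S15726

open MvPolynomial W4c2invhilbsl2
open Groth.Agent.Lib.Helper26.WeightedMonomials

theorem weight5_fst (p q m : ℕ) (d : Fin 5 →₀ ℕ) :
    (Finsupp.weight (wt5 p q m) d).1 = (d 0 : ℤ) - p * (d 1 + d 2) + q * (d 3 + d 4) := by
  rw [Finsupp.weight_eq_sum, Fin.sum_univ_five]
  simp [wt5]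
  ring

/-- the hypersurface equation -/
noncomputable abbrev hyp (k : Type u) [Field k] (p q : ℕ) : MvPolynomial (Fin 5) k :=
  X (0 : Fin 5) ^ (q - p) - X 1 * X 4 + X 2 * X 3

theorem main26 (k : Type u) [Field k] (p q m : ℕ) (hp : 0 < p) (hpq : p < q) (f : MvPolynomial (Fin 5) k)
    (hf : f ∈ MvPolynomial.weightedHomogeneousSubmodule k (W4c2invhilbsl2.wt5 p q m) ((q : ℤ) - (p : ℤ), (0 : ZMod m))) :
    ∃ a₁₃ a₁₄ a₂₃ a₂₄ : MvPolynomial (Fin 5) k,
      a₁₃ ∈ MvPolynomial.weightedHomogeneousSubmodule k (W4c2invhilbsl2.wt5 p q m) 0 ∧ a₁₄ ∈ MvPolynomial.weightedHomogeneousSubmodule k (W4c2invhilbsl2.wt5 p q m) 0 ∧ a₂₃ ∈ MvPolynomial.weightedHomogeneousSubmodule k (W4c2invhilbsl2.wt5 p q m) 0 ∧ a₂₄ ∈ MvPolynomial.weightedHomogeneousSubmodule k (W4c2invhilbsl2.wt5 p q m) 0 ∧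
      f - (a₁₃ * (MvPolynomial.X (1 : Fin 5) * MvPolynomial.X 3) + a₁₄ * (MvPolynomial.X (1 : Fin 5) * MvPolynomial.X 4) +
          a₂₃ * (MvPolynomial.X (2 : Fin 5) * MvPolynomial.X 3) + a₂₄ * (MvPolynomial.X (2 : Fin 5) * MvPolynomial.X 4)) ∈
        Ideal.span {MvPolynomial.X (0 : Fin 5) ^ (q - p) - MvPolynomial.X 1 * MvPolynomial.X 4 + MvPolynomial.X 2 * MvPolynomial.X 3} := by
  set w := wt5 p q m with hw
  set ν : ℤ × ZMod m := ((q : ℤ) - (p : ℤ), (0 : ZMod m)) with hν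
  have hw13 : ν - w 1 - w 3 = 0 := by simp [hν, hw, wt5]
  have hw14 : ν - w 1 - w 4 = 0 := by simp [hν, hw, wt5]
  have hw23 : ν - w 2 - w 3 = 0 := by simp [hν, hw, wt5]
  have hw24 : ν - w 2 - w 4 = 0 := by simp [hν, hw, wt5]
  have hw0 : ν - (q - p) • w 0 = 0 := by simp [hν, hw, wt5, Nat.cast_sub hpq.le]
  have z := Submodule.zero_mem (weightedHomogeneousSubmodule k w 0)
  refine wh_induction w ν (P := fun f => ∃ a₁₃ a₁₄ a₂₃ a₂₄ : MvPolynomial (Fin 5) k,
      a₁₃ ∈ weightedHomogeneousSubmodule k w 0 ∧ a₁₄ ∈ weightedHomogeneousSubmodule k w 0 ∧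
      a₂₃ ∈ weightedHomogeneousSubmodule k w 0 ∧ a₂₄ ∈ weightedHomogeneousSubmodule k w 0 ∧
      f - (a₁₃ * (X (1 : Fin 5) * X 3) + a₁₄ * (X (1 : Fin 5) * X 4) +
          a₂₃ * (X (2 : Fin 5) * X 3) + a₂₄ * (X (2 : Fin 5) * X 4)) ∈
        Ideal.span {hyp k p q}) ?_ ?_ ?_ f hf
  · exact ⟨0, 0, 0, 0, z, z, z, z, by simp⟩
  · rintro f g ⟨a, b, c, e, ha, hb, hc, he, h1⟩ ⟨a', b', c', e', ha', hb', hc', he', h2⟩
    refine ⟨a + a', b + b', c + c', e + e', Submodule.add_mem _ ha ha', Submodule.add_mem _ hb hb',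
      Submodule.add_mem _ hc hc', Submodule.add_mem _ he he', ?_⟩
    have := Ideal.add_mem _ h1 h2
    convert this using 1
    ring
  · intro d c hd
    have h1 := congrArg Prod.fst hd
    rw [weight5_fst] at h1
    change (d 0 : ℤ) - p * (d 1 + d 2) + q * (d 3 + d 4) = (q : ℤ) - p at h1
    have hp' : (0 : ℤ) < p := by exact_mod_cast hp
    have hq' : (p : ℤ) < q := by exact_mod_cast hpq
    by_cases h13 : 1 ≤ d 1 ∧ 1 ≤ d 3
    · obtain ⟨g, hg, e⟩ := exists_factor_two w d c ν hd 1 3 (by decide) h13.1 h13.2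
      rw [hw13] at hg
      exact ⟨g, 0, 0, 0, hg, z, z, z, by rw [e]; simp⟩
    by_cases h14 : 1 ≤ d 1 ∧ 1 ≤ d 4
    · obtain ⟨g, hg, e⟩ := exists_factor_two w d c ν hd 1 4 (by decide) h14.1 h14.2
      rw [hw14] at hg
      exact ⟨0, g, 0, 0, z, hg, z, z, by rw [e]; simp⟩
    by_cases h23 : 1 ≤ d 2 ∧ 1 ≤ d 3
    · obtain ⟨g, hg, e⟩ := exists_factor_two w d c ν hd 2 3 (by decide) h23.1 h23.2
      rw [hw23] at hg
      exact ⟨0, 0, g, 0, z, z, hg, z, by rw [e]; simp⟩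
    by_cases h24 : 1 ≤ d 2 ∧ 1 ≤ d 4
    · obtain ⟨g, hg, e⟩ := exists_factor_two w d c ν hd 2 4 (by decide) h24.1 h24.2
      rw [hw24] at hg
      exact ⟨0, 0, 0, g, z, z, z, hg, by rw [e]; simp⟩
    · have h0 : q - p ≤ d 0 := by
        have hcase : (d 1 = 0 ∧ d 2 = 0) ∨ (d 3 = 0 ∧ d 4 = 0) := by
          by_contra hcon
          rw [not_or, not_and_or, not_and_or] at hcon
          omega
        zify [hpq.le]
        rcases hcase with ⟨e1, e2⟩ | ⟨e3, e4⟩
        · rw [e1, e2] at h1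
          push_cast at h1
          have hz : d 3 + d 4 = 0 := by
            by_contra hne
            have h2 : (1 : ℤ) ≤ (d 3 : ℤ) + d 4 := by
              have := Nat.one_le_iff_ne_zero.2 hne
              exact_mod_cast this
            have h3 : (0 : ℤ) ≤ d 0 := by positivity
            have h4 : (q : ℤ) * 1 ≤ q * ((d 3 : ℤ) + d 4) :=
              mul_le_mul_of_nonneg_left h2 (by linarith)
            linarith
          have hz' : (d 3 : ℤ) + d 4 = 0 := by exact_mod_cast hz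
          rw [hz'] at h1
          linarith
        · rw [e3, e4] at h1
          push_cast at h1
          have h4 : (0 : ℤ) ≤ p * ((d 1 : ℤ) + d 2) := by positivity
          linarith
      obtain ⟨g, hg, e⟩ := exists_factor w d c ν hd 0 (q - p) h0
      rw [hw0] at hg
      refine ⟨0, g, -g, 0, z, hg, Submodule.neg_mem _ hg, z, ?_⟩
      rw [Ideal.mem_span_singleton']
      refine ⟨g, ?_⟩
      rw [e]
      ring

/-- Grade the polynomial ring k[X₀,…,X₄] over a field k by ℤ × ℤ/m, giving X₀ weight (1,0), X₁ and X₂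
weight (−p,−1), and X₃ and X₄ weight (q,1), where 0 < p < q are coprime integers and m ≥ 1. Then
modulo the principal ideal generated by the weight-zero element X₀^(q−p) − X₁X₄ + X₂X₃ (the equation
of an affine hypersurface), every polynomial homogeneous of weight (q−p, 0) is congruent to a
combination a₁₃X₁X₃ + a₁₄X₁X₄ + a₂₃X₂X₃ + a₂₄X₂X₄ whose four coefficients are homogeneous of weight
zero. Equivalently, in the coordinate ring of the hypersurface the weight-(q−p, 0) piece is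
generated over the weight-zero subring (the invariant ring of the diagonal action with these
weights) by the span of the four products XₐX_b with a ∈ {1,2} and b ∈ {3,4}. (The published
statement is over the complex numbers; this row takes any field.) -/
theorem result (k : Type u) [Field k] (p q m : ℕ) (hp : 0 < p) (hpq : p < q) (hcop : Nat.Coprime p q) (hm : 0 < m) (f : MvPolynomial (Fin 5) k)
    (hf : f ∈ MvPolynomial.weightedHomogeneousSubmodule k (W4c2invhilbsl2.wt5 p q m) ((q : ℤ) - (p : ℤ), (0 : ZMod m))) :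
    ∃ a₁₃ a₁₄ a₂₃ a₂₄ : MvPolynomial (Fin 5) k,
      a₁₃ ∈ MvPolynomial.weightedHomogeneousSubmodule k (W4c2invhilbsl2.wt5 p q m) 0 ∧ a₁₄ ∈ MvPolynomial.weightedHomogeneousSubmodule k (W4c2invhilbsl2.wt5 p q m) 0 ∧ a₂₃ ∈ MvPolynomial.weightedHomogeneousSubmodule k (W4c2invhilbsl2.wt5 p q m) 0 ∧ a₂₄ ∈ MvPolynomial.weightedHomogeneousSubmodule k (W4c2invhilbsl2.wt5 p q m) 0 ∧
      f - (a₁₃ * (MvPolynomial.X (1 : Fin 5) * MvPolynomial.X 3) + a₁₄ * (MvPolynomial.X (1 : Fin 5) * MvPolynomial.X 4) +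
          a₂₃ * (MvPolynomial.X (2 : Fin 5) * MvPolynomial.X 3) + a₂₄ * (MvPolynomial.X (2 : Fin 5) * MvPolynomial.X 4)) ∈
        Ideal.span {MvPolynomial.X (0 : Fin 5) ^ (q - p) - MvPolynomial.X 1 * MvPolynomial.X 4 + MvPolynomial.X 2 * MvPolynomial.X 3} := by
  exact main26 k p q m hp hpq f hf

end Groth.Agent.S15726
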