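import Groth.Statements.S15729
import Mathlib
import Groth.Agent.Lib.Helper9.HJPoly

set_option autoImplicit false
universe u
open W4c2invhilbsl2

namespace Groth.Agent.S15729

/-- Let 0 < p < q be coprime integers and m ≥ 1 such that q − p does not divide m; put g = gcd(m, q−p),
b = (q−p)/g, α = ⌊mp/(q−p)⌋, β = the remainder of mp modulo q−p and t = (q−p−β)/g, so that 1 ≤ t <
b, and let b/t = c₁ − 1/(c₂ − 1/(⋯ − 1/c_r)) be the negative-regular (Hirzebruch–Jung) continued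
fraction expansion with every cᵢ ≥ 2; set P₀ = 0, P₁ = 1, Q₀ = −1, Q₁ = 0, Pᵢ = cᵢ₋₁Pᵢ₋₁ − Pᵢ₋₂, Qᵢ
= cᵢ₋₁Qᵢ₋₁ − Qᵢ₋₂ for 2 ≤ i ≤ r+1, and eᵢ = (α+1+m)Pᵢ − Qᵢ, lᵢ = (α+1)Pᵢ − Qᵢ, nᵢ = q·lᵢ − p·eᵢ,
which are non-negative integers for 0 ≤ i ≤ r+1. Grade the polynomial ring k[X₀,X₁,X₂] over a field
k by ℤ × ℤ/m with weights (1,0), (−p,−1), (q,1) (it stands for k[X₀,X₁,Xⱼ], j = 3 or 4, inside the
five-variable ring). Then for every 1 ≤ i ≤ r, every polynomial homogeneous of weight (nᵢ, 0) can be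
written a·X₀^(nᵢ) + b·X₁^(eᵢ)X₂^(lᵢ) with a and b homogeneous of weight zero; that is, the
weight-(nᵢ,0) piece is generated over the weight-zero subring by X₀^(nᵢ) and X₁^(eᵢ)X₂^(lᵢ). -/
theorem result (k : Type u) [Field k] (p q m : ℕ) (hp : 0 < p) (hpq : p < q) (hcop : Nat.Coprime p q) (hm : 0 < m) (hnt : ¬ (q - p ∣ m)) (c : List ℤ) (hc : W4c2invhilbsl2.IsHJDigits p q m c) (i : ℕ) (hi : 1 ≤ i) (hir : i ≤ c.length)
    (f : MvPolynomial (Fin 3) k) (hf : f ∈ MvPolynomial.weightedHomogeneousSubmodule k (W4c2invhilbsl2.wt3 p q m) (W4c2invhilbsl2.nN p q m c i, (0 : ZMod m))) :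
    ∃ a b : MvPolynomial (Fin 3) k, a ∈ MvPolynomial.weightedHomogeneousSubmodule k (W4c2invhilbsl2.wt3 p q m) 0 ∧ b ∈ MvPolynomial.weightedHomogeneousSubmodule k (W4c2invhilbsl2.wt3 p q m) 0 ∧
      f = a * MvPolynomial.X (0 : Fin 3) ^ (W4c2invhilbsl2.nN p q m c i).toNat +
        b * (MvPolynomial.X (1 : Fin 3) ^ (W4c2invhilbsl2.eE p q m c i).toNat * MvPolynomial.X (2 : Fin 3) ^ (W4c2invhilbsl2.lL p q m c i).toNat) := by
  classical
  have hN0 := Groth.Agent.Lib.Helper9.HJPoly.nN_nonneg hpq hcop hm hnt hc i (by omega)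
  have hE0 := Groth.Agent.Lib.Helper9.HJPoly.eE_nonneg hpq hcop hm hnt hc i (by omega)
  have hL0 := Groth.Agent.Lib.Helper9.HJPoly.lL_nonneg hpq hcop hm hnt hc i (by omega)
  have hN : (((W4c2invhilbsl2.nN p q m c i).toNat : ℕ) : ℤ) = W4c2invhilbsl2.nN p q m c i :=
    Int.toNat_of_nonneg hN0
  have hE : (((W4c2invhilbsl2.eE p q m c i).toNat : ℕ) : ℤ) = W4c2invhilbsl2.eE p q m c i :=
    Int.toNat_of_nonneg hE0
  have hL : (((W4c2invhilbsl2.lL p q m c i).toNat : ℕ) : ℤ) = W4c2invhilbsl2.lL p q m c i :=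
    Int.toNat_of_nonneg hL0
  set N := (W4c2invhilbsl2.nN p q m c i).toNat with hNdef
  set E := (W4c2invhilbsl2.eE p q m c i).toNat with hEdef
  set L := (W4c2invhilbsl2.lL p q m c i).toNat with hLdef
  let Ev : Fin 2 → (Fin 3 →₀ ℕ) :=
    ![Finsupp.single 0 N, Finsupp.single 1 E + Finsupp.single 2 L]
  have hEv : ∀ r, Finsupp.weight (W4c2invhilbsl2.wt3 p q m) (Ev r) =
      (W4c2invhilbsl2.nN p q m c i, (0 : ZMod m)) := by
    intro r
    rw [Groth.Agent.Lib.Helper9.HJPoly.weight_wt3_eq_iff]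
    fin_cases r
    · simp [Ev, hN]
    · simp only [Ev, Fin.mk_one, Matrix.cons_val_one, Matrix.cons_val_fin_one, Finsupp.coe_add,
        Pi.add_apply]
      have h10 : (Finsupp.single (1 : Fin 3) E) 0 = 0 := by simp
      have h20 : (Finsupp.single (2 : Fin 3) L) 0 = 0 := by simp
      have h11 : (Finsupp.single (1 : Fin 3) E) 1 = E := by simp
      have h21 : (Finsupp.single (2 : Fin 3) L) 1 = 0 := by simp
      have h12 : (Finsupp.single (1 : Fin 3) E) 2 = 0 := by simp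
      have h22 : (Finsupp.single (2 : Fin 3) L) 2 = L := by simp
      rw [h10, h20, h11, h21, h12, h22]
      push_cast
      rw [hE, hL]
      constructor
      · unfold W4c2invhilbsl2.nN; ring
      · rw [Groth.Agent.Lib.Helper9.HJ.eE_eq]
        exact ⟨W4c2invhilbsl2.hjP c i, by ring⟩
  have hdiv : ∀ D ∈ f.support, ∃ r, Ev r ≤ D := by
    intro D hD
    have hw := hf (MvPolynomial.mem_support_iff.mp hD)
    rw [Groth.Agent.Lib.Helper9.HJPoly.weight_wt3_eq_iff] at hw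
    by_cases h : N ≤ D 0
    · refine ⟨0, ?_⟩
      simp only [Ev, Matrix.cons_val_zero]
      intro j
      by_cases hj : j = 0
      · subst hj; simpa using h
      · rw [Finsupp.single_apply, if_neg (Ne.symm hj)]; exact Nat.zero_le _
    · refine ⟨1, ?_⟩
      have hlt : ((D 0 : ℕ) : ℤ) < W4c2invhilbsl2.nN p q m c i := by
        rw [← hN]; exact_mod_cast (by omega : D 0 < N)
      have hb := Groth.Agent.Lib.Helper9.HJ.mono_bound hpq hcop hm hnt hc i i hi (by omega) (Or.inl rfl)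
        (D 0) (D 1) (D 2) hw.1 hw.2 hlt (fun h => absurd h (by omega))
      have hb1 : E ≤ D 1 := by
        have := hb.1; rw [← hE] at this; exact_mod_cast this
      have hb2 : L ≤ D 2 := by
        have := hb.2; rw [← hL] at this; exact_mod_cast this
      simp only [Ev, Matrix.cons_val_one, Matrix.cons_val_fin_one]
      intro j
      fin_cases j
      · simp
      · simpa using hb1
      · simpa using hb2
  obtain ⟨a, ha, hfa⟩ := Groth.Agent.Lib.Helper9.WHDecomp.exists_decomp (k := k)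
    (W4c2invhilbsl2.wt3 p q m) (W4c2invhilbsl2.nN p q m c i, (0 : ZMod m)) Ev hEv f hf hdiv
  refine ⟨a 0, a 1, ha 0, ha 1, ?_⟩
  rw [hfa, Fin.sum_univ_two]
  simp only [Ev, Matrix.cons_val_zero, Matrix.cons_val_one, Matrix.cons_val_fin_one]
  rw [MvPolynomial.X_pow_eq_monomial, MvPolynomial.X_pow_eq_monomial, MvPolynomial.X_pow_eq_monomial,
    MvPolynomial.monomial_mul, mul_one]

end Groth.Agent.S15729
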