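import Groth.Statements.S15731
import Mathlib
import Groth.Agent.Lib.Helper9.HJPoly

set_option autoImplicit false
universe u
open W4c2invhilbsl2

namespace Groth.Agent.S15731

/-- Let 0 < p < q be coprime integers and m ≥ 1 such that q − p does not divide m; put g = gcd(m, q−p),
b = (q−p)/g, α = ⌊mp/(q−p)⌋, β = the remainder of mp modulo q−p and t = (q−p−β)/g, so that 1 ≤ t <
b, and let b/t = c₁ − 1/(c₂ − 1/(⋯ − 1/c_r)) be the negative-regular (Hirzebruch–Jung) continued
fraction expansion with every cᵢ ≥ 2; set P₀ = 0, P₁ = 1, Q₀ = −1, Q₁ = 0, Pᵢ = cᵢ₋₁Pᵢ₋₁ − Pᵢ₋₂, Qᵢ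
= cᵢ₋₁Qᵢ₋₁ − Qᵢ₋₂ for 2 ≤ i ≤ r+1, and eᵢ = (α+1+m)Pᵢ − Qᵢ, lᵢ = (α+1)Pᵢ − Qᵢ, nᵢ = q·lᵢ − p·eᵢ,
which are non-negative integers for 0 ≤ i ≤ r+1. Grade the polynomial ring k[X₀,X₁,X₂] over a field
k by ℤ × ℤ/m with weights (1,0), (−p,−1), (q,1) (it stands for k[X₀,X₁,Xⱼ], j = 3 or 4, inside the
five-variable ring), let K be the ideal generated by all weight-zero monomials other than 1, and for
1 ≤ i ≤ r let L⁽ⁱ⁾₁ be the ideal (X₀^(nᵢ₋₁), X₀^(nᵢ) − X₁^(eᵢ)X₂^(lᵢ)) + K, which is generated by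
homogeneous elements (X₀^(nᵢ) and X₁^(eᵢ)X₂^(lᵢ) both have weight (nᵢ, 0)). Then for every weight ν
the image in k[X₀,X₁,X₂]/L⁽ⁱ⁾₁ of the homogeneous polynomials of weight ν is a k-vector space of
dimension at most 1. (The published statement is over the complex numbers; this row takes any
field.) -/
theorem result (k : Type u) [Field k] (p q m : ℕ) (hp : 0 < p) (hpq : p < q) (hcop : Nat.Coprime p q) (hm : 0 < m) (hnt : ¬ (q - p ∣ m)) (c : List ℤ) (hc : W4c2invhilbsl2.IsHJDigits p q m c) (i : ℕ) (hi : 1 ≤ i) (hir : i ≤ c.length)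
    (ν : ℤ × ZMod m) :
    Module.rank k (W4c2invhilbsl2.piece k (W4c2invhilbsl2.wt3 p q m) (W4c2invhilbsl2.idealL k p q m c i 1) ν) ≤ 1 := by
  unfold W4c2invhilbsl2.piece
  apply Groth.Agent.Lib.Helper9.WHDecomp.rank_piece_le_one'
  intro D D' hw hw'
  obtain ⟨Dr, hwr, hmem, hred⟩ := Groth.Agent.Lib.Helper9.HJPoly.exists_reduced (k := k) hpq hcop hm hnt hc i hi
    (by omega) (D 1) D rfl
  obtain ⟨Dr', hwr', hmem', hred'⟩ := Groth.Agent.Lib.Helper9.HJPoly.exists_reduced (k := k) hpq hcop hm hnt hc i hi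
    (by omega) (D' 1) D' rfl
  by_cases heq : Dr = Dr'
  · right; right
    have : MvPolynomial.monomial D (1 : k) - MvPolynomial.monomial D' 1 =
        (MvPolynomial.monomial D (1 : k) - MvPolynomial.monomial Dr 1) -
          (MvPolynomial.monomial D' (1 : k) - MvPolynomial.monomial Dr' 1) := by
      rw [heq]; ring
    rw [this]
    exact Ideal.sub_mem _ hmem hmem'
  · rcases Groth.Agent.Lib.Helper9.HJPoly.dichotomy hpq hcop hm hnt hc i hi hir Dr Dr' heq
      (by rw [hwr, hwr', hw, hw']) with h | h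
    · left
      have h1 := Groth.Agent.Lib.Helper9.HJPoly.monomial_mem_idealL_one (k := k) p q m c i Dr h hred
      have : MvPolynomial.monomial D (1 : k) =
          (MvPolynomial.monomial D (1 : k) - MvPolynomial.monomial Dr 1) + MvPolynomial.monomial Dr 1 := by
        ring
      rw [this]
      exact Ideal.add_mem _ hmem h1
    · right; left
      have h1 := Groth.Agent.Lib.Helper9.HJPoly.monomial_mem_idealL_one (k := k) p q m c i Dr' h hred'
      have : MvPolynomial.monomial D' (1 : k) =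
          (MvPolynomial.monomial D' (1 : k) - MvPolynomial.monomial Dr' 1) + MvPolynomial.monomial Dr' 1 := by
        ring
      rw [this]
      exact Ideal.add_mem _ hmem' h1

end Groth.Agent.S15731
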