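import Groth.Statements.S15732
import Mathlib
import Groth.Agent.Lib.Helper9.HJPoly

set_option autoImplicit false
universe u
open W4c2invhilbsl2

namespace Groth.Agent.S15732

/-- the exponent vectors of the generators -/
noncomputable def Ev (N E L : ℕ) : Option (Fin (E + 1) × Fin (L + 1)) → (Fin 5 →₀ ℕ)
  | none => Finsupp.single 0 N
  | some (e, l) => Finsupp.single 1 (E - e.val) + Finsupp.single 2 e.val +
      Finsupp.single 3 (L - l.val) + Finsupp.single 4 l.val

theorem Ev_some_apply (N E L : ℕ) (e : Fin (E + 1)) (l : Fin (L + 1)) :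
    (Ev N E L (some (e, l))) 0 = 0 ∧ (Ev N E L (some (e, l))) 1 = E - e.val ∧
    (Ev N E L (some (e, l))) 2 = e.val ∧ (Ev N E L (some (e, l))) 3 = L - l.val ∧
    (Ev N E L (some (e, l))) 4 = l.val := by
  refine ⟨?_, ?_, ?_, ?_, ?_⟩ <;> simp [Ev]

theorem Ev_none_apply (N E L : ℕ) :
    (Ev N E L none) 0 = N ∧ (Ev N E L none) 1 = 0 ∧
    (Ev N E L none) 2 = 0 ∧ (Ev N E L none) 3 = 0 ∧
    (Ev N E L none) 4 = 0 := by
  refine ⟨?_, ?_, ?_, ?_, ?_⟩ <;> simp [Ev]

theorem monomial_Ev_some {k : Type*} [CommRing k] (N E L : ℕ) (e : Fin (E + 1)) (l : Fin (L + 1)) :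
    MvPolynomial.monomial (Ev N E L (some (e, l))) (1 : k) =
      MvPolynomial.X (1 : Fin 5) ^ (E - e.val) * MvPolynomial.X (2 : Fin 5) ^ e.val *
        MvPolynomial.X (3 : Fin 5) ^ (L - l.val) * MvPolynomial.X (4 : Fin 5) ^ l.val := by
  simp only [Ev]
  rw [MvPolynomial.X_pow_eq_monomial (R := k) (n := (1 : Fin 5)),
    MvPolynomial.X_pow_eq_monomial (R := k) (n := (2 : Fin 5)),
    MvPolynomial.X_pow_eq_monomial (R := k) (n := (3 : Fin 5)),
    MvPolynomial.X_pow_eq_monomial (R := k) (n := (4 : Fin 5)),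
    MvPolynomial.monomial_mul, MvPolynomial.monomial_mul, MvPolynomial.monomial_mul, mul_one, mul_one, mul_one]

/-- Let 0 < p < q be coprime integers and m ≥ 1 such that q − p does not divide m; put g = gcd(m, q−p),
b = (q−p)/g, α = ⌊mp/(q−p)⌋, β = the remainder of mp modulo q−p and t = (q−p−β)/g, so that 1 ≤ t <
b, and let b/t = c₁ − 1/(c₂ − 1/(⋯ − 1/c_r)) be the negative-regular (Hirzebruch–Jung) continued
fraction expansion with every cᵢ ≥ 2; set P₀ = 0, P₁ = 1, Q₀ = −1, Q₁ = 0, Pᵢ = cᵢ₋₁Pᵢ₋₁ − Pᵢ₋₂, Qᵢ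
= cᵢ₋₁Qᵢ₋₁ − Qᵢ₋₂ for 2 ≤ i ≤ r+1, and eᵢ = (α+1+m)Pᵢ − Qᵢ, lᵢ = (α+1)Pᵢ − Qᵢ, nᵢ = q·lᵢ − p·eᵢ,
which are non-negative integers for 0 ≤ i ≤ r+1. Grade the polynomial ring k[X₀,…,X₄] over a field k
by ℤ × ℤ/m, giving X₀ weight (1,0), X₁ and X₂ weight (−p,−1), and X₃ and X₄ weight (q,1). Then for
every 1 ≤ i ≤ r, modulo the principal ideal generated by the weight-zero element X₀^(q−p) − X₁X₄ +
X₂X₃, every polynomial homogeneous of weight (nᵢ, 0) is congruent to a combination a₀·X₀^(nᵢ) + Σ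
a_{e,l}·X₁^(eᵢ−e)X₂^e X₃^(lᵢ−l)X₄^l (sum over 0 ≤ e ≤ eᵢ, 0 ≤ l ≤ lᵢ) whose coefficients a₀, a_{e,l}
are homogeneous of weight zero. Equivalently, in the coordinate ring of the hypersurface the
weight-(nᵢ,0) piece is generated over the weight-zero subring (the invariant ring) by X₀^(nᵢ)
together with the products of a degree-eᵢ monomial in X₁, X₂ and a degree-lᵢ monomial in X₃, X₄.
(The published statement is over the complex numbers; this row takes any field.) -/
theorem result (k : Type u) [Field k] (p q m : ℕ) (hp : 0 < p) (hpq : p < q) (hcop : Nat.Coprime p q) (hm : 0 < m) (hnt : ¬ (q - p ∣ m)) (c : List ℤ) (hc : W4c2invhilbsl2.IsHJDigits p q m c) (i : ℕ) (hi : 1 ≤ i) (hir : i ≤ c.length)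
    (f : MvPolynomial (Fin 5) k) (hf : f ∈ MvPolynomial.weightedHomogeneousSubmodule k (W4c2invhilbsl2.wt5 p q m) (W4c2invhilbsl2.nN p q m c i, (0 : ZMod m))) :
    ∃ (a₀ : MvPolynomial (Fin 5) k) (a : ℕ → ℕ → MvPolynomial (Fin 5) k),
      a₀ ∈ MvPolynomial.weightedHomogeneousSubmodule k (W4c2invhilbsl2.wt5 p q m) 0 ∧ (∀ e l : ℕ, a e l ∈ MvPolynomial.weightedHomogeneousSubmodule k (W4c2invhilbsl2.wt5 p q m) 0) ∧
      f - (a₀ * MvPolynomial.X (0 : Fin 5) ^ (W4c2invhilbsl2.nN p q m c i).toNat +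
          ∑ e ∈ Finset.range ((W4c2invhilbsl2.eE p q m c i).toNat + 1), ∑ l ∈ Finset.range ((W4c2invhilbsl2.lL p q m c i).toNat + 1),
            a e l * (MvPolynomial.X (1 : Fin 5) ^ ((W4c2invhilbsl2.eE p q m c i).toNat - e) * MvPolynomial.X (2 : Fin 5) ^ e *
              MvPolynomial.X (3 : Fin 5) ^ ((W4c2invhilbsl2.lL p q m c i).toNat - l) * MvPolynomial.X (4 : Fin 5) ^ l)) ∈
        Ideal.span {MvPolynomial.X (0 : Fin 5) ^ (q - p) - MvPolynomial.X 1 * MvPolynomial.X 4 + MvPolynomial.X 2 * MvPolynomial.X 3} := by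
  classical
  have hN0 := Groth.Agent.Lib.Helper9.HJPoly.nN_nonneg hpq hcop hm hnt hc i (by omega)
  have hE0 := Groth.Agent.Lib.Helper9.HJPoly.eE_nonneg hpq hcop hm hnt hc i (by omega)
  have hL0 := Groth.Agent.Lib.Helper9.HJPoly.lL_nonneg hpq hcop hm hnt hc i (by omega)
  have hN : (((W4c2invhilbsl2.nN p q m c i).toNat : ℕ) : ℤ) = W4c2invhilbsl2.nN p q m c i :=
    Int.toNat_of_nonneg hN0
  have hE : (((W4c2invhilbsl2.eE p q m c i).toNat : ℕ) : ℤ) = W4c2invhilbsl2.eE p q m c i :=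
    Int.toNat_of_nonneg hE0
  have hL : (((W4c2invhilbsl2.lL p q m c i).toNat : ℕ) : ℤ) = W4c2invhilbsl2.lL p q m c i :=
    Int.toNat_of_nonneg hL0
  set N := (W4c2invhilbsl2.nN p q m c i).toNat with hNdef
  set E := (W4c2invhilbsl2.eE p q m c i).toNat with hEdef
  set L := (W4c2invhilbsl2.lL p q m c i).toNat with hLdef
  have hEv : ∀ r, Finsupp.weight (W4c2invhilbsl2.wt5 p q m) (Ev N E L r) =
      (W4c2invhilbsl2.nN p q m c i, (0 : ZMod m)) := by
    intro r
    rw [Groth.Agent.Lib.Helper9.HJPoly.weight_wt5_eq_iff]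
    rcases r with _ | ⟨e, l⟩
    · obtain ⟨h0, h1, h2, h3, h4⟩ := Ev_none_apply N E L
      rw [h0, h1, h2, h3, h4]
      simp [hN]
    · obtain ⟨h0, h1, h2, h3, h4⟩ := Ev_some_apply N E L e l
      rw [h0, h1, h2, h3, h4]
      have he : E - e.val + e.val = E := Nat.sub_add_cancel (by have := e.isLt; omega)
      have hl : L - l.val + l.val = L := Nat.sub_add_cancel (by have := l.isLt; omega)
      rw [he, hl, hE, hL]
      constructor
      · unfold W4c2invhilbsl2.nN; push_cast; ring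
      · rw [Groth.Agent.Lib.Helper9.HJ.eE_eq]
        exact ⟨W4c2invhilbsl2.hjP c i, by ring⟩
  have hdiv : ∀ D ∈ f.support, ∃ r, Ev N E L r ≤ D := by
    intro D hD
    have hw := hf (MvPolynomial.mem_support_iff.mp hD)
    rw [Groth.Agent.Lib.Helper9.HJPoly.weight_wt5_eq_iff] at hw
    by_cases h : N ≤ D 0
    · refine ⟨none, ?_⟩
      obtain ⟨h0, h1, h2, h3, h4⟩ := Ev_none_apply N E L
      intro j
      fin_cases j
      · simpa [h0] using h
      · simp [h1]
      · simp [h2]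
      · simp [h3]
      · simp [h4]
    · have hlt : ((D 0 : ℕ) : ℤ) < W4c2invhilbsl2.nN p q m c i := by
        rw [← hN]; exact_mod_cast (by omega : D 0 < N)
      have hb := Groth.Agent.Lib.Helper9.HJ.mono_bound hpq hcop hm hnt hc i i hi (by omega) (Or.inl rfl)
        (D 0) (D 1 + D 2) (D 3 + D 4) hw.1 hw.2 hlt (fun h => absurd h (by omega))
      have hb1 : E ≤ D 1 + D 2 := by
        have := hb.1; rw [← hE] at this; exact_mod_cast this
      have hb2 : L ≤ D 3 + D 4 := by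
        have := hb.2; rw [← hL] at this; exact_mod_cast this
      refine ⟨some (⟨min (D 2) E, by omega⟩, ⟨min (D 4) L, by omega⟩), ?_⟩
      obtain ⟨h0, h1, h2, h3, h4⟩ := Ev_some_apply N E L ⟨min (D 2) E, by omega⟩ ⟨min (D 4) L, by omega⟩
      intro j
      fin_cases j
      · simp [h0]
      · simp only [Fin.mk_one, h1]; omega
      · simp only [Fin.reduceFinMk, h2]; omega
      · simp only [Fin.reduceFinMk, h3]; omega
      · simp only [Fin.reduceFinMk, h4]; omega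
  obtain ⟨a, ha, hfa⟩ := Groth.Agent.Lib.Helper9.WHDecomp.exists_decomp (k := k)
    (W4c2invhilbsl2.wt5 p q m) (W4c2invhilbsl2.nN p q m c i, (0 : ZMod m)) (Ev N E L) hEv f hf hdiv
  refine ⟨a none, fun e l => if h : e < E + 1 ∧ l < L + 1 then a (some (⟨e, h.1⟩, ⟨l, h.2⟩)) else 0,
    ha none, ?_, ?_⟩
  · intro e l
    simp only
    split_ifs with h
    · exact ha _
    · exact Submodule.zero_mem _
  · have : f = a none * MvPolynomial.X (0 : Fin 5) ^ N +
        ∑ e ∈ Finset.range (E + 1), ∑ l ∈ Finset.range (L + 1),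
          (if h : e < E + 1 ∧ l < L + 1 then a (some (⟨e, h.1⟩, ⟨l, h.2⟩)) else 0) *
            (MvPolynomial.X (1 : Fin 5) ^ (E - e) * MvPolynomial.X (2 : Fin 5) ^ e *
              MvPolynomial.X (3 : Fin 5) ^ (L - l) * MvPolynomial.X (4 : Fin 5) ^ l) := by
      conv_lhs => rw [hfa]
      rw [Fintype.sum_option, Fintype.sum_prod_type]
      congr 1
      · simp only [Ev]; rw [MvPolynomial.X_pow_eq_monomial]
      · rw [Finset.sum_range]
        refine Finset.sum_congr rfl fun e _ => ?_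
        rw [Finset.sum_range]
        refine Finset.sum_congr rfl fun l _ => ?_
        rw [dif_pos ⟨e.isLt, l.isLt⟩, monomial_Ev_some]
    rw [← this, sub_self]
    exact Submodule.zero_mem _

end Groth.Agent.S15732
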