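import Groth.Statements.S15733
import Mathlib
import Groth.Agent.Lib.Helper9.HJ

set_option autoImplicit false
open W4c2invhilbsl2

namespace Groth.Agent.S15733

/-- Let 0 < p < q be coprime integers and m ≥ 1 such that q − p does not divide m; put g = gcd(m, q−p),
b = (q−p)/g, α = ⌊mp/(q−p)⌋, β = the remainder of mp modulo q−p and t = (q−p−β)/g, so that 1 ≤ t <
b, and let b/t = c₁ − 1/(c₂ − 1/(⋯ − 1/c_r)) be the negative-regular (Hirzebruch–Jung) continued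
fraction expansion with every cᵢ ≥ 2; set P₀ = 0, P₁ = 1, Q₀ = −1, Q₁ = 0, Pᵢ = cᵢ₋₁Pᵢ₋₁ − Pᵢ₋₂, Qᵢ
= cᵢ₋₁Qᵢ₋₁ − Qᵢ₋₂ for 2 ≤ i ≤ r+1, and eᵢ = (α+1+m)Pᵢ − Qᵢ, lᵢ = (α+1)Pᵢ − Qᵢ, nᵢ = q·lᵢ − p·eᵢ,
which are non-negative integers for 0 ≤ i ≤ r+1. Then for every 1 < i ≤ r and every integer x with 0
< x < Pᵢ, the remainder of pmx + nᵢ on division by q − p equals nᵢ plus the remainder of pmx on
division by q − p (in particular nᵢ + (pmx mod (q−p)) < q − p). -/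
theorem result (p q m : ℕ) (hp : 0 < p) (hpq : p < q) (hcop : Nat.Coprime p q) (hm : 0 < m) (hnt : ¬ (q - p ∣ m)) (c : List ℤ) (hc : W4c2invhilbsl2.IsHJDigits p q m c) (i : ℕ) (hi : 1 < i) (hir : i ≤ c.length)
    (x : ℤ) (hx0 : 0 < x) (hx : x < W4c2invhilbsl2.hjP c i) :
    Int.emod ((p : ℤ) * m * x + W4c2invhilbsl2.nN p q m c i) ((q : ℤ) - p) = W4c2invhilbsl2.nN p q m c i + Int.emod ((p : ℤ) * m * x) ((q : ℤ) - p) := by
  have hgN := Groth.Agent.Lib.Helper9.HJ.gcdK_pos p q m hm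
  have hg : (0 : ℤ) < (W4c2invhilbsl2.gcdK p q m : ℤ) := by exact_mod_cast hgN
  have hbN : 0 < W4c2invhilbsl2.bB p q m := by
    have := Groth.Agent.Lib.Helper9.HJ.tT_lt_bB hpq hcop hm hnt
    omega
  have hbpos : (0 : ℤ) < (W4c2invhilbsl2.bB p q m : ℤ) := by exact_mod_cast hbN
  have hd : ((W4c2invhilbsl2.bB p q m : ℤ)) * (W4c2invhilbsl2.gcdK p q m : ℤ) = (q : ℤ) - p := by
    have := Groth.Agent.Lib.Helper9.HJ.bB_mul_gcdK p q m
    have h2 : ((W4c2invhilbsl2.bB p q m * W4c2invhilbsl2.gcdK p q m : ℕ) : ℤ) = ((q - p : ℕ) : ℤ) := by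
      rw [this]
    rw [Nat.cast_sub hpq.le] at h2
    push_cast at h2
    exact h2
  have hkey := Groth.Agent.Lib.Helper9.HJ.key_identity (m := m) hpq
  have hlow := Groth.Agent.Lib.Helper9.HJ.lower_bound hpq hcop hm hnt hc i (by omega) (by omega) x hx0 hx
  have hνi0 := Groth.Agent.Lib.Helper9.HJ.nu_nonneg hpq hcop hm hnt hc i (by omega)
  have hdec : Groth.Agent.Lib.Helper9.HJ.nu p q m c i < Groth.Agent.Lib.Helper9.HJ.nu p q m c (i - 1) := by
    obtain ⟨h1, _, _⟩ := Groth.Agent.Lib.Helper9.HJ.nu_facts hpq hcop hm hnt hc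
    have := h1 (i - 1) (by omega)
    have e : i - 1 + 1 = i := by omega
    rwa [e] at this
  set ρ := Int.emod ((W4c2invhilbsl2.tT p q m : ℤ) * x) (W4c2invhilbsl2.bB p q m : ℤ) with hρ
  set k := ((W4c2invhilbsl2.tT p q m : ℤ) * x) / (W4c2invhilbsl2.bB p q m : ℤ) with hk
  have hρb : ρ < (W4c2invhilbsl2.bB p q m : ℤ) := Int.emod_lt_of_pos _ hbpos
  have hdecomp : (W4c2invhilbsl2.tT p q m : ℤ) * x = (W4c2invhilbsl2.bB p q m : ℤ) * k + ρ :=
    (Int.mul_ediv_add_emod _ _).symm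
  rw [Groth.Agent.Lib.Helper9.HJ.nN_eq_nu hpq]
  set ν := Groth.Agent.Lib.Helper9.HJ.nu p q m c i with hν
  set g := (W4c2invhilbsl2.gcdK p q m : ℤ) with hgdef
  set b := (W4c2invhilbsl2.bB p q m : ℤ) with hbdef
  set t := (W4c2invhilbsl2.tT p q m : ℤ) with htdef
  set a := (W4c2invhilbsl2.alpha p q m : ℤ) with hadef
  -- p m x = d ((a+1) x - k - 1) + (d - g ρ)
  have hpmx : (p : ℤ) * m * x = ((q : ℤ) - p - g * ρ) + ((q : ℤ) - p) * ((a + 1) * x - k - 1) := by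
    linear_combination (-x) * hkey - g * hdecomp - k * hd
  have hgρ : g * ρ < (q : ℤ) - p := by rw [← hd]; nlinarith
  have hgρ0 : 0 < g * ρ := by
    have : 0 < ρ := by linarith
    positivity
  have hmod1 : Int.emod ((p : ℤ) * m * x) ((q : ℤ) - p) = (q : ℤ) - p - g * ρ := by
    rw [hpmx]
    change ((q : ℤ) - p - g * ρ + ((q : ℤ) - p) * ((a + 1) * x - k - 1)) % ((q : ℤ) - p) = _
    rw [Int.add_mul_emod_self_left]
    exact Int.emod_eq_of_lt (by linarith) (by linarith)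
  have hgν : g * ν < g * ρ := by
    have : ν < ρ := by linarith
    exact mul_lt_mul_of_pos_left this hg
  have hgν0 : 0 ≤ g * ν := by positivity
  rw [hmod1]
  have : (p : ℤ) * m * x + g * ν = (g * ν + ((q : ℤ) - p - g * ρ)) + ((q : ℤ) - p) * ((a + 1) * x - k - 1) := by
    rw [hpmx]; ring
  rw [this]
  change (g * ν + ((q : ℤ) - p - g * ρ) + ((q : ℤ) - p) * ((a + 1) * x - k - 1)) % ((q : ℤ) - p) = _
  rw [Int.add_mul_emod_self_left]
  exact Int.emod_eq_of_lt (by linarith) (by linarith)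

end Groth.Agent.S15733
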