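import Groth.Statements.S15738
import Mathlib
-- import your own Groth.Agent.* helpers here

set_option autoImplicit false
universe u
open W4c2invhilbsl2

namespace Groth.Agent.S15738

lemma key {R : Type*} [CommRing R] (x0 x1 x2 : R) (p q : ℕ) (hpq : p < q) (J : Ideal R)
    (hJ : x0 ^ (q - p) - x1 * x2 ∈ J) (d0 d1 d2 e0 e1 e2 : ℕ)
    (hn : (e0 : ℤ) - (p : ℤ) * e1 + (q : ℤ) * e2 = (d0 : ℤ) - (p : ℤ) * d1 + (q : ℤ) * d2)
    (hc : (d1 : ℤ) - d2 = (e1 : ℤ) - e2) :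
    x0 ^ d0 * x1 ^ d1 * x2 ^ d2 - x0 ^ e0 * x1 ^ e1 * x2 ^ e2 ∈ J := by
  have hdvd : ∀ t : ℕ, (x0 ^ (q - p)) ^ t - (x1 * x2) ^ t ∈ J := fun t =>
    Ideal.mem_of_dvd J (sub_dvd_pow_sub_pow _ _ t) hJ
  rcases le_total d1 e1 with h | h
  · obtain ⟨t, rfl⟩ := Nat.exists_eq_add_of_le h
    have h2 : e2 = d2 + t := by
      have : (e2 : ℤ) = ((d2 + t : ℕ) : ℤ) := by push_cast at hc ⊢; linarith
      exact_mod_cast this
    subst h2
    have h0 : d0 = e0 + (q - p) * t := by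
      have : (d0 : ℤ) = ((e0 + (q - p) * t : ℕ) : ℤ) := by
        push_cast [Nat.cast_sub hpq.le] at hn ⊢
        linear_combination (-1 : ℤ) * hn
      exact_mod_cast this
    subst h0
    have : x0 ^ (e0 + (q - p) * t) * x1 ^ d1 * x2 ^ d2 - x0 ^ e0 * x1 ^ (d1 + t) * x2 ^ (d2 + t) =
        x0 ^ e0 * x1 ^ d1 * x2 ^ d2 * ((x0 ^ (q - p)) ^ t - (x1 * x2) ^ t) := by
      rw [pow_add, pow_add, pow_add, pow_mul, mul_pow]; ring
    rw [this]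
    exact J.mul_mem_left _ (hdvd t)
  · obtain ⟨t, rfl⟩ := Nat.exists_eq_add_of_le h
    have h2 : d2 = e2 + t := by
      have : (d2 : ℤ) = ((e2 + t : ℕ) : ℤ) := by push_cast at hc ⊢; linarith
      exact_mod_cast this
    subst h2
    have h0 : e0 = d0 + (q - p) * t := by
      have : (e0 : ℤ) = ((d0 + (q - p) * t : ℕ) : ℤ) := by
        push_cast [Nat.cast_sub hpq.le] at hn ⊢
        linear_combination hn
      exact_mod_cast this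
    subst h0
    have : x0 ^ d0 * x1 ^ (e1 + t) * x2 ^ (e2 + t) - x0 ^ (d0 + (q - p) * t) * x1 ^ e1 * x2 ^ e2 =
        -(x0 ^ d0 * x1 ^ e1 * x2 ^ e2 * ((x0 ^ (q - p)) ^ t - (x1 * x2) ^ t)) := by
      rw [pow_add, pow_add, pow_add, pow_mul, mul_pow]; ring
    rw [this]
    exact J.neg_mem (J.mul_mem_left _ (hdvd t))


lemma key2 {R : Type*} [CommRing R] (x0 x1 x2 : R) (p q m : ℕ) (hpq : p < q) (J : Ideal R)
    (hJ : x0 ^ (q - p) - x1 * x2 ∈ J) (d0 d1 d2 e0 e1 e2 s : ℕ)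
    (hn : (e0 : ℤ) - (p : ℤ) * e1 + (q : ℤ) * e2 = (d0 : ℤ) - (p : ℤ) * d1 + (q : ℤ) * d2)
    (hc : (d1 : ℤ) - d2 = (e1 : ℤ) - e2 + (m : ℤ) * s) :
    x0 ^ d0 * x1 ^ d1 * x2 ^ d2 -
      x0 ^ e0 * x1 ^ e1 * x2 ^ e2 * (x0 ^ (m * p) * x1 ^ m) ^ s ∈ J := by
  have h := key x0 x1 x2 p q hpq J hJ d0 d1 d2 (e0 + m * p * s) (e1 + m * s) e2
    (by push_cast; linear_combination hn) (by push_cast; linear_combination hc)
  have : x0 ^ e0 * x1 ^ e1 * x2 ^ e2 * (x0 ^ (m * p) * x1 ^ m) ^ s =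
      x0 ^ (e0 + m * p * s) * x1 ^ (e1 + m * s) * x2 ^ e2 := by
    rw [pow_add, pow_add, mul_pow, ← pow_mul, ← pow_mul]; ring
  rw [this]
  exact h

lemma one_sub_pow_mem {R : Type*} [CommRing R] (w : R) (J : Ideal R) (hw : 1 - w ∈ J) (s : ℕ) :
    1 - w ^ s ∈ J := by
  have := sub_dvd_pow_sub_pow 1 w s
  rw [one_pow] at this
  exact Ideal.mem_of_dvd J this hw

/-- Let k be a field and m ≥ 1; for a monomial X₀^d₀X₁^d₁X₂^d₂ of the polynomial ring in X₀, X₁, X₂ (X₂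
standing for Xⱼ, j = 3 or 4, of the five-variable ring) put n = d₀ − p·d₁ + q·d₂ (its weight for the
torus diag(t, t^(−p), t^q)), c = d₁ − d₂ and ω = p·d₁ − q·d₂, so that d₀ = n + ω; here 0 < p < q are
coprime integers. Take two monomials X₀^d₀X₁^d₁X₂^d₂ and X₀^e₀X₁^e₁X₂^e₂ with the same n and with
values c, c' of c congruent modulo m (so both lie in the same ℤ × ℤ/m-weight piece for the weights
(1,0), (−p,−1), (q,1)). Then: (i) if c = c', the difference of the two monomials lies in the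
principal ideal (X₀^(q−p) − X₁X₂); (ii) if c' < c, the monomial X₀^d₀X₁^d₁X₂^d₂ lies in the ideal
(X₀^(q−p) − X₁X₂, X₀^(mp)X₁^m); (iii) in all cases the difference lies in the ideal (X₀^(q−p) −
X₁X₂, 1 − X₀^(mp)X₁^m). -/
theorem result (k : Type u) [Field k] (p q m : ℕ) (hp : 0 < p) (hpq : p < q) (hcop : Nat.Coprime p q) (hm : 0 < m)
    (d0 d1 d2 e0 e1 e2 : ℕ) (hn : (e0 : ℤ) - (p : ℤ) * e1 + (q : ℤ) * e2 = (d0 : ℤ) - (p : ℤ) * d1 + (q : ℤ) * d2)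
    (hc : (m : ℤ) ∣ ((d1 : ℤ) - d2) - ((e1 : ℤ) - e2)) :
    ((d1 : ℤ) - d2 = (e1 : ℤ) - e2 →
      (MvPolynomial.X (0 : Fin 3) ^ d0 * MvPolynomial.X (1 : Fin 3) ^ d1 * MvPolynomial.X (2 : Fin 3) ^ d2 - MvPolynomial.X (0 : Fin 3) ^ e0 * MvPolynomial.X (1 : Fin 3) ^ e1 * MvPolynomial.X (2 : Fin 3) ^ e2 : MvPolynomial (Fin 3) k) ∈ Ideal.span {MvPolynomial.X (0 : Fin 3) ^ (q - p) - MvPolynomial.X (1 : Fin 3) * MvPolynomial.X (2 : Fin 3)}) ∧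
    ((e1 : ℤ) - e2 < (d1 : ℤ) - d2 →
      (MvPolynomial.X (0 : Fin 3) ^ d0 * MvPolynomial.X (1 : Fin 3) ^ d1 * MvPolynomial.X (2 : Fin 3) ^ d2 : MvPolynomial (Fin 3) k) ∈ Ideal.span {MvPolynomial.X (0 : Fin 3) ^ (q - p) - MvPolynomial.X (1 : Fin 3) * MvPolynomial.X (2 : Fin 3), MvPolynomial.X (0 : Fin 3) ^ (m * p) * MvPolynomial.X (1 : Fin 3) ^ m}) ∧
    ((MvPolynomial.X (0 : Fin 3) ^ d0 * MvPolynomial.X (1 : Fin 3) ^ d1 * MvPolynomial.X (2 : Fin 3) ^ d2 - MvPolynomial.X (0 : Fin 3) ^ e0 * MvPolynomial.X (1 : Fin 3) ^ e1 * MvPolynomial.X (2 : Fin 3) ^ e2 : MvPolynomial (Fin 3) k) ∈ Ideal.span {MvPolynomial.X (0 : Fin 3) ^ (q - p) - MvPolynomial.X (1 : Fin 3) * MvPolynomial.X (2 : Fin 3), 1 - MvPolynomial.X (0 : Fin 3) ^ (m * p) * MvPolynomial.X (1 : Fin 3) ^ m}) := by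
  set x0 : MvPolynomial (Fin 3) k := MvPolynomial.X 0 with hx0
  set x1 : MvPolynomial (Fin 3) k := MvPolynomial.X 1 with hx1
  set x2 : MvPolynomial (Fin 3) k := MvPolynomial.X 2 with hx2
  obtain ⟨s, hs⟩ := hc
  have hm' : (0 : ℤ) < m := by exact_mod_cast hm
  refine ⟨?_, ?_, ?_⟩
  · intro hceq
    exact key x0 x1 x2 p q hpq (Ideal.span {x0 ^ (q - p) - x1 * x2})
      (Ideal.subset_span (Set.mem_singleton _)) d0 d1 d2 e0 e1 e2 hn hceq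
  · intro hlt
    have hspos : 0 < s := by
      by_contra hneg
      push Not at hneg
      have : (m : ℤ) * s ≤ 0 := mul_nonpos_of_nonneg_of_nonpos hm'.le hneg
      linarith
    obtain ⟨s', rfl⟩ : ∃ s' : ℕ, s = s' := ⟨s.toNat, (Int.toNat_of_nonneg hspos.le).symm⟩
    have hs'pos : 0 < s' := by exact_mod_cast hspos
    have hf : x0 ^ (q - p) - x1 * x2 ∈ Ideal.span
        {x0 ^ (q - p) - x1 * x2, x0 ^ (m * p) * x1 ^ m} := Ideal.subset_span (by simp)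
    have hw : x0 ^ (m * p) * x1 ^ m ∈ Ideal.span
        {x0 ^ (q - p) - x1 * x2, x0 ^ (m * p) * x1 ^ m} := Ideal.subset_span (by simp)
    have h1 := key2 x0 x1 x2 p q m hpq _ hf d0 d1 d2 e0 e1 e2 s' hn (by linarith)
    have h2 : x0 ^ e0 * x1 ^ e1 * x2 ^ e2 * (x0 ^ (m * p) * x1 ^ m) ^ s' ∈ Ideal.span
        {x0 ^ (q - p) - x1 * x2, x0 ^ (m * p) * x1 ^ m} :=
      Ideal.mul_mem_left _ _ (Ideal.pow_mem_of_mem _ hw s' hs'pos)
    have := Ideal.add_mem _ h1 h2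
    rwa [sub_add_cancel] at this
  · have hf : x0 ^ (q - p) - x1 * x2 ∈ Ideal.span
        {x0 ^ (q - p) - x1 * x2, 1 - x0 ^ (m * p) * x1 ^ m} := Ideal.subset_span (by simp)
    have hw : 1 - x0 ^ (m * p) * x1 ^ m ∈ Ideal.span
        {x0 ^ (q - p) - x1 * x2, 1 - x0 ^ (m * p) * x1 ^ m} := Ideal.subset_span (by simp)
    rcases le_total 0 s with hs0 | hs0
    · obtain ⟨s', rfl⟩ : ∃ s' : ℕ, s = s' := ⟨s.toNat, (Int.toNat_of_nonneg hs0).symm⟩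
      have h1 := key2 x0 x1 x2 p q m hpq _ hf d0 d1 d2 e0 e1 e2 s' hn (by linarith)
      have h2 : x0 ^ e0 * x1 ^ e1 * x2 ^ e2 * (1 - (x0 ^ (m * p) * x1 ^ m) ^ s') ∈ Ideal.span
          {x0 ^ (q - p) - x1 * x2, 1 - x0 ^ (m * p) * x1 ^ m} :=
        Ideal.mul_mem_left _ _ (one_sub_pow_mem _ _ hw s')
      have := Ideal.sub_mem _ h1 h2
      convert this using 1
      ring
    · obtain ⟨s', hs'⟩ : ∃ s' : ℕ, -s = s' := ⟨(-s).toNat, (Int.toNat_of_nonneg (by linarith)).symm⟩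
      have h1 := key2 x0 x1 x2 p q m hpq _ hf e0 e1 e2 d0 d1 d2 s' hn.symm
        (by rw [← hs']; linarith)
      have h2 : x0 ^ d0 * x1 ^ d1 * x2 ^ d2 * (1 - (x0 ^ (m * p) * x1 ^ m) ^ s') ∈ Ideal.span
          {x0 ^ (q - p) - x1 * x2, 1 - x0 ^ (m * p) * x1 ^ m} :=
        Ideal.mul_mem_left _ _ (one_sub_pow_mem _ _ hw s')
      have := Ideal.sub_mem _ h2 h1
      convert this using 1
      ring

end Groth.Agent.S15738
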