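import Groth.Statements.S15739
import Mathlib
-- import your own Groth.Agent.* helpers here

set_option autoImplicit false
universe u
open W4c2invhilbsl2

namespace Groth.Agent.S15739

lemma arith (p q m : ℕ) (hpq : p < q) (hcop : Nat.Coprime p q) (hm : 0 < m)
    (d0 d1 d2 e0 e1 e2 : ℕ)
    (hn : (e0 : ℤ) - (p : ℤ) * e1 + (q : ℤ) * e2 = (d0 : ℤ) - (p : ℤ) * d1 + (q : ℤ) * d2)
    (hcd : (m : ℤ) ∣ (d1 : ℤ) - d2) (hce : (m : ℤ) ∣ (e1 : ℤ) - e2)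
    (hd0 : d0 < Nat.gcd m (q - p)) (he0 : e0 < Nat.gcd m (q - p)) :
    d0 = e0 ∧ ∃ r : ℤ, (e1 : ℤ) = d1 + ((m / Nat.gcd m (q - p) * q : ℕ) : ℤ) * r ∧
      (e2 : ℤ) = d2 + ((m / Nat.gcd m (q - p) * p : ℕ) : ℤ) * r ∧
      ((e1 : ℤ) - e2) - ((d1 : ℤ) - d2) =
        (m : ℤ) * (((q - p) / Nat.gcd m (q - p) : ℕ) : ℤ) * r := by
  set G := Nat.gcd m (q - p) with hGdef
  have hG : 0 < G := Nat.gcd_pos_of_pos_left _ hm
  set a := m / G with hadef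
  set b := (q - p) / G with hbdef
  have hma : m = G * a := (Nat.mul_div_cancel' (Nat.gcd_dvd_left m (q - p))).symm
  have hDb : q - p = G * b := (Nat.mul_div_cancel' (Nat.gcd_dvd_right m (q - p))).symm
  have hab : Nat.Coprime a b := Nat.coprime_div_gcd_div_gcd hG
  have hGZ : (0 : ℤ) < G := by exact_mod_cast hG
  have hmaZ : (m : ℤ) = G * a := by exact_mod_cast hma
  have hDZ : (q : ℤ) - p = G * b := by
    have : ((q - p : ℕ) : ℤ) = ((G * b : ℕ) : ℤ) := by rw [hDb]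
    push_cast [Nat.cast_sub hpq.le] at this
    exact this
  have hDpos : (0 : ℤ) < (q : ℤ) - p := by
    have : (p : ℤ) < q := by exact_mod_cast hpq
    linarith
  have hGm : (G : ℤ) ∣ m := ⟨a, hmaZ⟩
  have hGD : (G : ℤ) ∣ (q : ℤ) - p := ⟨b, hDZ⟩
  -- Step A
  have hA : (d0 : ℤ) - e0 = (p : ℤ) * (((d1 : ℤ) - d2) - ((e1 : ℤ) - e2)) -
      ((q : ℤ) - p) * ((d2 : ℤ) - e2) := by linear_combination (-1 : ℤ) * hn
  have hX : (m : ℤ) ∣ ((d1 : ℤ) - d2) - ((e1 : ℤ) - e2) := dvd_sub hcd hce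
  have hGdvd : (G : ℤ) ∣ (d0 : ℤ) - e0 := by
    rw [hA]
    exact dvd_sub (Dvd.dvd.mul_left (hGm.trans hX) _) (Dvd.dvd.mul_right hGD _)
  have h0 : (d0 : ℤ) - e0 = 0 := by
    apply Int.eq_zero_of_abs_lt_dvd hGdvd
    have h1 : (d0 : ℤ) < G := by exact_mod_cast hd0
    have h2 : (e0 : ℤ) < G := by exact_mod_cast he0
    have h3 : (0 : ℤ) ≤ d0 := Int.natCast_nonneg _
    have h4 : (0 : ℤ) ≤ e0 := Int.natCast_nonneg _
    rw [abs_lt]; constructor <;> linarith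
  have hde : d0 = e0 := by
    have : (d0 : ℤ) = e0 := by linarith
    exact_mod_cast this
  refine ⟨hde, ?_⟩
  -- Step B
  have hB : (p : ℤ) * (((d1 : ℤ) - d2) - ((e1 : ℤ) - e2)) = ((q : ℤ) - p) * ((d2 : ℤ) - e2) := by
    rw [h0] at hA; linarith
  have hcopZ : IsCoprime ((q : ℤ) - p) (p : ℤ) := by
    have h1 : Nat.Coprime (q - p) p :=
      ((Nat.coprime_sub_self_right hpq.le).mpr hcop).symm
    have h2 : IsCoprime ((q - p : ℕ) : ℤ) (p : ℤ) := Nat.isCoprime_iff_coprime.mpr h1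
    rwa [Nat.cast_sub hpq.le] at h2
  have hDX : ((q : ℤ) - p) ∣ ((d1 : ℤ) - d2) - ((e1 : ℤ) - e2) := by
    apply hcopZ.dvd_of_dvd_mul_left
    rw [hB]
    exact dvd_mul_right _ _
  obtain ⟨u, hu⟩ := hDX
  have hd2 : (d2 : ℤ) - e2 = p * u := by
    have : ((q : ℤ) - p) * ((d2 : ℤ) - e2) = ((q : ℤ) - p) * (p * u) := by
      rw [← hB, hu]; ring
    exact mul_left_cancel₀ hDpos.ne' this
  have hau : (a : ℤ) ∣ u := by
    have habZ : IsCoprime (a : ℤ) (b : ℤ) := Nat.isCoprime_iff_coprime.mpr hab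
    apply habZ.dvd_of_dvd_mul_left
    have : (G : ℤ) * a ∣ G * (b * u) := by
      rw [← hmaZ]
      have := hX
      rw [hu, hDZ] at this
      convert this using 1
      ring
    exact (mul_dvd_mul_iff_left hGZ.ne').mp this
  obtain ⟨r', hr'⟩ := hau
  refine ⟨-r', ?_, ?_, ?_⟩
  · push_cast
    have h5 : (e1 : ℤ) = d1 - (((d1 : ℤ) - d2) - ((e1 : ℤ) - e2)) - ((d2 : ℤ) - e2) := by ring
    rw [h5, hu, hd2, hr']
    have : (q : ℤ) = p + G * b := by linarith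
    rw [hDZ, this]
    ring
  · push_cast
    have : (e2 : ℤ) = d2 - ((d2 : ℤ) - e2) := by ring
    rw [this, hd2, hr']; ring
  · have : ((e1 : ℤ) - e2) - ((d1 : ℤ) - d2) = -(((d1 : ℤ) - d2) - ((e1 : ℤ) - e2)) := by ring
    rw [this, hu, hDZ, hr', hmaZ]; ring


lemma one_sub_pow_mem {R : Type*} [CommRing R] (w : R) (J : Ideal R) (hw : 1 - w ∈ J) (s : ℕ) :
    1 - w ^ s ∈ J := by
  have := sub_dvd_pow_sub_pow 1 w s
  rw [one_pow] at this
  exact Ideal.mem_of_dvd J this hw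

/-- Let k be a field and m ≥ 1, put g = gcd(m, q−p), a = m/g and b = (q−p)/g; for a monomial
X₀^d₀X₁^d₁X₂^d₂ of the polynomial ring in X₀, X₁, X₂ (X₂ standing for Xⱼ, j = 3 or 4, of the
five-variable ring) put n = d₀ − p·d₁ + q·d₂ (its weight for the torus diag(t, t^(−p), t^q)), c = d₁
− d₂ and ω = p·d₁ − q·d₂, so that d₀ = n + ω; here 0 < p < q are coprime integers. Take two
monomials X₀^d₀X₁^d₁X₂^d₂ and X₀^e₀X₁^e₁X₂^e₂ with the same n, where 0 ≤ n < q − p, whose values c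
and c' of c are both divisible by m, and with d₀ < g and e₀ < g (so each has the least ω for its
pair (n, c), as g ≤ q − p). Then: (i) d₀ = e₀, i.e. the two values of ω agree, and m·b divides c −
c'; (ii) if c < c', then X₀^e₀X₁^e₁X₂^e₂ is a multiple of X₀^d₀X₁^d₁X₂^d₂ · X₁^(aq)X₂^(ap); (iii)
the difference of the two monomials lies in the principal ideal (1 − X₁^(aq)X₂^(ap)). -/
theorem result (k : Type u) [Field k] (p q m : ℕ) (hp : 0 < p) (hpq : p < q) (hcop : Nat.Coprime p q) (hm : 0 < m)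
    (d0 d1 d2 e0 e1 e2 : ℕ) (hn : (e0 : ℤ) - (p : ℤ) * e1 + (q : ℤ) * e2 = (d0 : ℤ) - (p : ℤ) * d1 + (q : ℤ) * d2)
    (hn0 : 0 ≤ (d0 : ℤ) - (p : ℤ) * d1 + (q : ℤ) * d2) (hnq : (d0 : ℤ) - (p : ℤ) * d1 + (q : ℤ) * d2 < (q : ℤ) - p)
    (hcd : (m : ℤ) ∣ (d1 : ℤ) - d2) (hce : (m : ℤ) ∣ (e1 : ℤ) - e2)
    (hd0 : d0 < Nat.gcd m (q - p)) (he0 : e0 < Nat.gcd m (q - p)) :
    (d0 = e0 ∧ ((m : ℤ) * ((q - p) / Nat.gcd m (q - p) : ℕ)) ∣ ((d1 : ℤ) - d2) - ((e1 : ℤ) - e2)) ∧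
    ((d1 : ℤ) - d2 < (e1 : ℤ) - e2 →
      (MvPolynomial.X (0 : Fin 3) ^ d0 * MvPolynomial.X (1 : Fin 3) ^ d1 * MvPolynomial.X (2 : Fin 3) ^ d2 * (MvPolynomial.X (1 : Fin 3) ^ (m / Nat.gcd m (q - p) * q) * MvPolynomial.X (2 : Fin 3) ^ (m / Nat.gcd m (q - p) * p)) : MvPolynomial (Fin 3) k) ∣ MvPolynomial.X (0 : Fin 3) ^ e0 * MvPolynomial.X (1 : Fin 3) ^ e1 * MvPolynomial.X (2 : Fin 3) ^ e2) ∧
    ((MvPolynomial.X (0 : Fin 3) ^ e0 * MvPolynomial.X (1 : Fin 3) ^ e1 * MvPolynomial.X (2 : Fin 3) ^ e2 - MvPolynomial.X (0 : Fin 3) ^ d0 * MvPolynomial.X (1 : Fin 3) ^ d1 * MvPolynomial.X (2 : Fin 3) ^ d2 : MvPolynomial (Fin 3) k) ∈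
      Ideal.span {(1 : MvPolynomial (Fin 3) k) - MvPolynomial.X (1 : Fin 3) ^ (m / Nat.gcd m (q - p) * q) * MvPolynomial.X (2 : Fin 3) ^ (m / Nat.gcd m (q - p) * p)}) := by
  obtain ⟨hde, r, hr1, hr2, hr3⟩ := arith p q m hpq hcop hm d0 d1 d2 e0 e1 e2 hn hcd hce hd0 he0
  set x0 : MvPolynomial (Fin 3) k := MvPolynomial.X 0 with hx0
  set x1 : MvPolynomial (Fin 3) k := MvPolynomial.X 1 with hx1
  set x2 : MvPolynomial (Fin 3) k := MvPolynomial.X 2 with hx2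
  set A := m / Nat.gcd m (q - p) * q with hA
  set B := m / Nat.gcd m (q - p) * p with hB
  have hnat : ∀ s : ℕ, r = s → e1 = d1 + A * s ∧ e2 = d2 + B * s := by
    intro s hs
    rw [hs] at hr1 hr2
    constructor
    · exact_mod_cast hr1
    · exact_mod_cast hr2
  have hnat' : ∀ s : ℕ, -r = s → d1 = e1 + A * s ∧ d2 = e2 + B * s := by
    intro s hs
    have hrs : r = -(s : ℤ) := by linarith
    rw [hrs] at hr1 hr2
    constructor
    · have : (d1 : ℤ) = ((e1 + A * s : ℕ) : ℤ) := by push_cast; linarith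
      exact_mod_cast this
    · have : (d2 : ℤ) = ((e2 + B * s : ℕ) : ℤ) := by push_cast; linarith
      exact_mod_cast this
  refine ⟨⟨hde, ?_⟩, ?_, ?_⟩
  · refine ⟨-r, ?_⟩
    have : ((d1 : ℤ) - d2) - ((e1 : ℤ) - e2) = -(((e1 : ℤ) - e2) - ((d1 : ℤ) - d2)) := by ring
    rw [this, hr3]; ring
  · intro hlt
    have hmb : (0 : ℤ) ≤ (m : ℤ) * (((q - p) / Nat.gcd m (q - p) : ℕ) : ℤ) :=
      mul_nonneg (Int.natCast_nonneg _) (Int.natCast_nonneg _)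
    have hrpos : 0 < r := by
      by_contra hneg
      push Not at hneg
      have := mul_nonpos_of_nonneg_of_nonpos hmb hneg
      linarith
    obtain ⟨s, hs⟩ : ∃ s : ℕ, r = (s + 1 : ℕ) := by
      refine ⟨(r - 1).toNat, ?_⟩
      have := Int.toNat_of_nonneg (show 0 ≤ r - 1 by linarith)
      push_cast
      linarith
    obtain ⟨h1, h2⟩ := hnat (s + 1) hs
    refine ⟨x1 ^ (A * s) * x2 ^ (B * s), ?_⟩
    rw [h1, h2, hde]
    rw [show d1 + A * (s + 1) = d1 + A + A * s by ring, show d2 + B * (s + 1) = d2 + B + B * s by ring,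
      pow_add, pow_add, pow_add, pow_add]
    ring
  · have hw : (1 : MvPolynomial (Fin 3) k) - x1 ^ A * x2 ^ B ∈
        Ideal.span {(1 : MvPolynomial (Fin 3) k) - x1 ^ A * x2 ^ B} :=
      Ideal.subset_span (Set.mem_singleton _)
    rcases le_total 0 r with h0 | h0
    · obtain ⟨s, hs⟩ : ∃ s : ℕ, r = s := ⟨r.toNat, (Int.toNat_of_nonneg h0).symm⟩
      obtain ⟨h1, h2⟩ := hnat s hs
      have h3 := Ideal.mul_mem_left _ (x0 ^ d0 * x1 ^ d1 * x2 ^ d2) (one_sub_pow_mem _ _ hw s)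
      have h4 := neg_mem h3
      convert h4 using 1
      rw [h1, h2, hde, pow_add, pow_add, mul_pow, ← pow_mul, ← pow_mul]
      ring
    · obtain ⟨s, hs⟩ : ∃ s : ℕ, -r = s := ⟨(-r).toNat, (Int.toNat_of_nonneg (by linarith)).symm⟩
      obtain ⟨h1, h2⟩ := hnat' s hs
      have h3 := Ideal.mul_mem_left _ (x0 ^ e0 * x1 ^ e1 * x2 ^ e2) (one_sub_pow_mem _ _ hw s)
      convert h3 using 1
      rw [h1, h2, hde, pow_add, pow_add, mul_pow, ← pow_mul, ← pow_mul]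
      ring

end Groth.Agent.S15739
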