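import Groth.Statements.S1574
import Groth.Agent.Lib.Helper5.DimOneAffine
import Groth.Agent.Lib.Helper5.AffinePunctured

set_option autoImplicit false
universe u
open CategoryTheory CategoryTheory.Limits AlgebraicGeometry
open Divisors

namespace Groth.Agent.S1574

/-- For a Noetherian local ring A, the punctured spectrum (Spec A minus the closed point, as an open
subscheme) is affine if and only if dim A ≤ 1. -/
theorem result (A : Type u) [CommRing A] [IsLocalRing A] [IsNoetherianRing A] :
    IsAffine (FEt.puncturedSpec A : Scheme.{u}) ↔ ringKrullDim A ≤ 1 := by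
  have heq : FEt.puncturedSpec A = LocCoh.puncturedOpen A (IsLocalRing.maximalIdeal A) := by
    apply TopologicalSpace.Opens.ext
    change ({IsLocalRing.closedPoint A}ᶜ : Set (PrimeSpectrum A)) =
      (PrimeSpectrum.zeroLocus ((IsLocalRing.maximalIdeal A : Ideal A) : Set A))ᶜ
    congr 1
    ext x
    rw [Set.mem_singleton_iff, PrimeSpectrum.mem_zeroLocus, SetLike.coe_subset_coe]
    constructor
    · rintro rfl
      exact le_refl _
    · intro hle
      apply PrimeSpectrum.ext
      exact ((IsLocalRing.maximalIdeal.isMaximal A).eq_of_le x.isPrime.ne_top hle).symm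
  constructor
  · intro h
    have hU : IsAffineOpen (LocCoh.puncturedOpen A (IsLocalRing.maximalIdeal A)) := by
      rw [← heq]
      exact h
    have hmin : IsLocalRing.maximalIdeal A ∈ (IsLocalRing.maximalIdeal A).minimalPrimes := by
      refine ⟨⟨inferInstance, le_refl _⟩, ?_⟩
      rintro q ⟨-, hq⟩ _
      exact hq
    have hh := Groth.Agent.Lib.Helper5.AffinePunctured.height_le_one_of_isAffineOpen A
      (IsLocalRing.maximalIdeal A) (IsLocalRing.maximalIdeal A) hU hmin
    rw [← IsLocalRing.maximalIdeal_height_eq_ringKrullDim]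
    exact_mod_cast hh
  · intro h
    have hT : IsAffineOpen (⊤ : (Spec (CommRingCat.of A)).Opens) := isAffineOpen_top _
    have hc : IsCompact (hT.fromSpec ⁻¹' ((FEt.puncturedSpec A : (Spec (CommRingCat.of A)).Opens) :
        Set (Spec (CommRingCat.of A)))) := by
      haveI : IsNoetherianRing Γ(Spec (CommRingCat.of A), ⊤) :=
        isNoetherianRing_of_ringEquiv A
          (Scheme.ΓSpecIso (CommRingCat.of A)).symm.commRingCatIsoToRingEquiv
      haveI : TopologicalSpace.NoetherianSpace (PrimeSpectrum Γ(Spec (CommRingCat.of A), ⊤)) := inferInstance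
      exact TopologicalSpace.NoetherianSpace.isCompact (α := PrimeSpectrum Γ(Spec (CommRingCat.of A), ⊤)) _
    have hX : ∀ x ∈ (⊤ : (Spec (CommRingCat.of A)).Opens),
        IsNoetherianRing ((Spec (CommRingCat.of A)).presheaf.stalk x) ∧
          ringKrullDim ((Spec (CommRingCat.of A)).presheaf.stalk x) ≤ 1 := by
      intro x _
      letI k : Algebra A ((Spec (CommRingCat.of A)).presheaf.stalk x) :=
        StructureSheaf.stalkAlgebra A x
      haveI : IsLocalization.AtPrime ((Spec (CommRingCat.of A)).presheaf.stalk x) x.asIdeal :=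
        StructureSheaf.IsLocalization.to_stalk A x
      refine ⟨IsLocalization.isNoetherianRing x.asIdeal.primeCompl _ inferInstance, ?_⟩
      rw [IsLocalization.AtPrime.ringKrullDim_eq_height x.asIdeal
        ((Spec (CommRingCat.of A)).presheaf.stalk x)]
      exact le_trans (Ideal.height_le_ringKrullDim_of_ne_top x.isPrime.ne_top) h
    have h1 := Groth.Agent.Lib.Helper5.DimOneAffine.isAffineOpen_inf hT (FEt.puncturedSpec A) hc hX
    rw [inf_top_eq] at h1
    exact h1

end Groth.Agent.S1574
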