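import Groth.Statements.S15740
import Mathlib.Tactic

set_option autoImplicit false
open W4c2invhilbsl2

namespace Groth.Agent.S15740


/-- For a monomial X₀^d₀X₁^d₁X₂^d₂ of the polynomial ring in X₀, X₁, X₂ (X₂ standing for Xⱼ, j = 3 or 4,
of the five-variable ring) put n = d₀ − p·d₁ + q·d₂ (its weight for the torus diag(t, t^(−p), t^q)),
c = d₁ − d₂ and ω = p·d₁ − q·d₂, so that d₀ = n + ω; here 0 < p < q are coprime integers. Suppose n
≥ 0, c > 0 and d₀ < q − p (the last condition says that ω is the least value of ω for the pair (n,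
c)). Then ω ≥ 0 if and only if the remainder of p·c on division by q − p, plus n, is less than q −
p. -/
theorem result (p q : ℕ) (hp : 0 < p) (hpq : p < q) (hcop : Nat.Coprime p q) (d0 d1 d2 : ℕ)
    (hn : 0 ≤ (d0 : ℤ) - (p : ℤ) * d1 + (q : ℤ) * d2) (hc : (d2 : ℤ) < d1) (hd0 : d0 < q - p) :
    0 ≤ (p : ℤ) * d1 - (q : ℤ) * d2 ↔
      Int.emod ((p : ℤ) * ((d1 : ℤ) - d2)) ((q : ℤ) - p) + ((d0 : ℤ) - (p : ℤ) * d1 + (q : ℤ) * d2) < (q : ℤ) - p := by
  have hD : (0 : ℤ) < (q : ℤ) - p := by
    have : (p : ℤ) < q := by exact_mod_cast hpq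
    linarith
  have hd0' : (d0 : ℤ) < (q : ℤ) - p := by
    have h1 : ((d0 : ℕ) : ℤ) < ((q - p : ℕ) : ℤ) := by exact_mod_cast hd0
    rwa [Nat.cast_sub hpq.le] at h1
  set D : ℤ := (q : ℤ) - p with hDdef
  set x : ℤ := (p : ℤ) * ((d1 : ℤ) - d2) with hx
  have h1 := Int.mul_ediv_add_emod x D
  have h2 := Int.emod_nonneg x hD.ne'
  have h3 := Int.emod_lt_of_pos x hD
  have hr : Int.emod x D = x % D := rfl
  rw [hr]
  set r := x % D with hrdef
  set m := x / D - d2 with hm
  have hω : (p : ℤ) * d1 - (q : ℤ) * d2 = r + D * m := by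
    have : x = (p : ℤ) * d1 - p * d2 := by rw [hx]; ring
    have hq : (q : ℤ) = D + p := by rw [hDdef]; ring
    rw [hm, hq]
    linarith [this, h1]
  have hd0n : (0 : ℤ) ≤ d0 := Int.natCast_nonneg d0
  constructor
  · intro h
    rw [hω] at h
    have hle : r + D * m < D := by
      have : (d0 : ℤ) - (p : ℤ) * d1 + (q : ℤ) * d2 = d0 - (r + D * m) := by rw [← hω]; ring
      rw [this] at hn
      linarith
    have hm0 : m = 0 := by
      rcases lt_trichotomy m 0 with hlt | heq | hgt
      · exfalso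
        have : D * m ≤ -D := by nlinarith
        linarith
      · exact heq
      · exfalso
        have : D * m ≥ D := by nlinarith
        linarith
    have : (d0 : ℤ) - (p : ℤ) * d1 + (q : ℤ) * d2 = d0 - (r + D * m) := by rw [← hω]; ring
    rw [this, hm0]
    linarith
  · intro h
    have hthis : (d0 : ℤ) - (p : ℤ) * d1 + (q : ℤ) * d2 = d0 - (r + D * m) := by rw [← hω]; ring
    rw [hthis] at h hn
    rw [hω]
    have hm0 : 0 ≤ m := by
      by_contra hneg
      push_neg at hneg
      have : D * m ≤ -D := by nlinarith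
      linarith
    nlinarith

end Groth.Agent.S15740
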