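import Groth.Statements.S15748
import Mathlib
import Groth.Agent.Lib.Helper20.WeilCohCorr3

set_option autoImplicit false
universe u v
open CategoryTheory AlgebraicGeometry
open WeilCoh

namespace Groth.Agent.S15748


open Groth.Agent.Lib.Helper20.WeilCohLib

theorem sign_eq {K : Type v} [Field K] (a b : ℤ) (i : ℕ) (ha : Even a ↔ Even i) (hb : Even b ↔ Even i) :
    (-1 : K) ^ (a.natAbs * b.natAbs) = (-1 : K) ^ i := by
  rcases Nat.even_or_odd i with hev | hodd
  · have : Even (a.natAbs * b.natAbs) := (Int.natAbs_even.mpr (ha.mpr hev)).mul_right _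
    rw [this.neg_one_pow, hev.neg_one_pow]
  · have ha' : Odd a.natAbs := by
      rw [Int.natAbs_odd, ← Int.not_even_iff_odd, ha, Nat.not_even_iff_odd]; exact hodd
    have hb' : Odd b.natAbs := by
      rw [Int.natAbs_odd, ← Int.not_even_iff_odd, hb, Nat.not_even_iff_odd]; exact hodd
    rw [(ha'.mul hb').neg_one_pow, hodd.neg_one_pow]

theorem coe_mem_of_eq {k : Type u} [Field k] {K : Type v} [Field K]
    (T : WeilCoh.TheoryOn.{u, v, max u v} k (IsVar k) K) {X : WeilCoh.Var k} {i j : ℤ} (h : i = j)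
    (z : T.gr X i) : (z : T.H X) ∈ T.gr X j := by
  subst h; exact z.2

/-- Let `H` be a Weil cohomology theory with coefficients in a field `K` of characteristic zero on
nonsingular connected projective varieties over an algebraically closed field `k`; let `X`, `Y` be
such varieties, `P` a product `X × Y` with projections `p`, `q`, `P'` a product `Y × X` with
projections `p'`, `q'`, and `σ : P ⟶ P'` the swap (`σ p' = q`, `σ q' = p`). For an integer `r`, a
class `φ ∈ H^{2 dim X + r}(P)` acts as the degree-`r` correspondence `x ↦ q_*(p^* x ∪ φ)` from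
`H•(X)` to `H•(Y)`, and `ψ ∈ H^{2 dim Y − r}(P')` as the degree-`(−r)` correspondence `y ↦ q'_*(p'^*
y ∪ ψ)` back. Then `Tr_P(φ ∪ σ^* ψ) = Σ_{i=0}^{2 dim X} (−1)^i tr(ψ ∘ φ | H^i(X))`. The hypothesis
`hdim` is the arithmetic identity expressing `dim P = dim P' = dim X + dim Y` in the form needed to
read the composite `ψ ∘ φ` as an endomorphism of each `H^i(X)` (the push-forward maps are indexed by
the dimensions of the underlying spaces). (The published lemma defines the action of a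
correspondence through the Künneth and Poincaré duality identifications `Hom^r(H•X, H•Y) = H^{2 dim
X + r}(X × Y)` and the transpose through the same identifications; here the action is written as
pull-back, cup product and push-forward, and the transpose as pull-back along the swap, which the
published text identifies with it.) (The published lemma is stated for smooth projective varieties
over an arbitrary base field, pure of their dimensions, with Tate twists; this row is its case of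
connected varieties over an algebraically closed field, without twists.) -/
theorem result (k : Type u) [Field k] [IsAlgClosed k] (K : Type v) [Field K] [CharZero K]
    (T : WeilCoh.Theory k K) (X Y P P' : WeilCoh.Var k)
    (p : P ⟶ X) (q : P ⟶ Y) (hP : WeilCoh.IsProd p q)
    (p' : P' ⟶ Y) (q' : P' ⟶ X) (hP' : WeilCoh.IsProd p' q')
    (σ : P ⟶ P') (hσ₁ : σ ≫ p' = q) (hσ₂ : σ ≫ q' = p) (r : ℤ)
    (hdim : ∀ i : ℤ, ((i + (2 * (WeilCoh.dim X.obj.left : ℤ) + r) + 2 * (WeilCoh.dim Y.obj.left : ℤ) - 2 * (WeilCoh.dim P.obj.left : ℤ)) + (2 * (WeilCoh.dim Y.obj.left : ℤ) - r) + 2 * (WeilCoh.dim X.obj.left : ℤ) - 2 * (WeilCoh.dim P'.obj.left : ℤ)) = i)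
    (φ : ↥(T.gr P (2 * (WeilCoh.dim X.obj.left : ℤ) + r))) (ψ : ↥(T.gr P' (2 * (WeilCoh.dim Y.obj.left : ℤ) - r))) :
    T.tr P ((φ : T.H P) * T.pull σ (ψ : T.H P')) =
      ∑ i ∈ Finset.range (2 * WeilCoh.dim X.obj.left + 1),
        (-1 : K) ^ i * LinearMap.trace K ↥(T.gr X (i : ℤ))
          ((LinearEquiv.ofEq (T.gr X (((i : ℤ) + (2 * (WeilCoh.dim X.obj.left : ℤ) + r) + 2 * (WeilCoh.dim Y.obj.left : ℤ) - 2 * (WeilCoh.dim P.obj.left : ℤ)) + (2 * (WeilCoh.dim Y.obj.left : ℤ) - r) + 2 * (WeilCoh.dim X.obj.left : ℤ) - 2 * (WeilCoh.dim P'.obj.left : ℤ))) (T.gr X (i : ℤ)) (congrArg (T.gr X) (hdim (i : ℤ)))).toLinearMap ∘ₗ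
            ((T.push q' (((i : ℤ) + (2 * (WeilCoh.dim X.obj.left : ℤ) + r) + 2 * (WeilCoh.dim Y.obj.left : ℤ) - 2 * (WeilCoh.dim P.obj.left : ℤ)) + (2 * (WeilCoh.dim Y.obj.left : ℤ) - r))) ∘ₗ ((LinearMap.mulRight K (ψ : T.H P')).restrict (p := T.gr P' ((i : ℤ) + (2 * (WeilCoh.dim X.obj.left : ℤ) + r) + 2 * (WeilCoh.dim Y.obj.left : ℤ) - 2 * (WeilCoh.dim P.obj.left : ℤ))) (q := T.gr P' (((i : ℤ) + (2 * (WeilCoh.dim X.obj.left : ℤ) + r) + 2 * (WeilCoh.dim Y.obj.left : ℤ) - 2 * (WeilCoh.dim P.obj.left : ℤ)) + (2 * (WeilCoh.dim Y.obj.left : ℤ) - r))) (fun y hy => SetLike.mul_mem_graded hy ψ.2)) ∘ₗ (T.pullDeg p' ((i : ℤ) + (2 * (WeilCoh.dim X.obj.left : ℤ) + r) + 2 * (WeilCoh.dim Y.obj.left : ℤ) - 2 * (WeilCoh.dim P.obj.left : ℤ)))) ∘ₗ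
            ((T.push q ((i : ℤ) + (2 * (WeilCoh.dim X.obj.left : ℤ) + r))) ∘ₗ ((LinearMap.mulRight K (φ : T.H P)).restrict (p := T.gr P (i : ℤ)) (q := T.gr P ((i : ℤ) + (2 * (WeilCoh.dim X.obj.left : ℤ) + r))) (fun x hx => SetLike.mul_mem_graded hx φ.2)) ∘ₗ (T.pullDeg p (i : ℤ)))) := by
  classical
  have hd := dim_prod T p q hP
  have hd' : (dim P.obj.left : ℤ) = dim X.obj.left + dim Y.obj.left := by exact_mod_cast hd
  have hdP' := dim_prod T p' q' hP'
  have hdP'' : (dim P'.obj.left : ℤ) = dim Y.obj.left + dim X.obj.left := by exact_mod_cast hdP'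
  -- bases
  let ι : ℕ → Type := fun i => Fin (Module.finrank K (T.gr X (i : ℤ)))
  let e : (i : ℕ) → Module.Basis (ι i) K ↥(T.gr X (i : ℤ)) := fun i => Module.finBasis K _
  choose f hf using fun i : ℕ => exists_dual_family T X (i : ℤ) (e i)
  -- expand `φ`
  have hφ := eq_phi0 T p q (2 * (dim X.obj.left : ℤ) + r) ι e f hP hf φ
  conv_lhs => rw [hφ]
  unfold phi0
  rw [Finset.sum_mul, map_sum]
  refine Finset.sum_congr rfl fun i hi => ?_
  rw [Finset.sum_mul, map_sum]
  -- the trace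
  rw [trace_eq_sum_tr T X (i : ℤ) (e i) (f i) (hf i), Finset.mul_sum]
  refine Finset.sum_congr rfl fun a _ => ?_
  rw [smul_mul_assoc, map_smul, smul_eq_mul]
  congr 1
  -- abbreviations
  set w := corrAct T p q (2 * (dim X.obj.left : ℤ) + r) φ (i : ℤ) (e i a) with hw
  -- the right-hand side, unfolded
  show T.tr P (T.pull p (f i a : T.H X) * T.pull q (w : T.H Y) * T.pull σ (ψ : T.H P')) =
    T.tr X ((f i a : T.H X) *
      ((corrAct T p' q' (2 * (dim Y.obj.left : ℤ) - r) ψ _ w : T.gr X _) : T.H X))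
  set Bw := corrAct T p' q' (2 * (dim Y.obj.left : ℤ) - r) ψ _ w with hBw
  have hBwmem : (Bw : T.H X) ∈ T.gr X (i : ℤ) := coe_mem_of_eq T (hdim (i : ℤ)) Bw
  -- step 1: commute `f` and `Bw`
  have hc1 := T.gradedComm X (2 * (dim X.obj.left : ℤ) - i) (i : ℤ) (f i a : T.H X) (Bw : T.H X)
    (f i a).2 hBwmem
  rw [hc1, map_smul, smul_eq_mul]
  -- step 2: the defining property of the action of `ψ`
  rw [tr_corrAct_mul T p' q' _ ψ _ w (2 * (dim X.obj.left : ℤ) - i) (f i a : T.H X) (f i a).2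
    (by rw [hdP'', hd']; ring)]
  -- step 3: swap
  rw [← tr_pull_swap T p q hP p' q' hP' σ hσ₁ hσ₂]
  rw [map_mul (T.pull σ), map_mul (T.pull σ), ← AlgHom.comp_apply, ← AlgHom.comp_apply (T.pull σ),
    ← T.pull_comp, ← T.pull_comp, hσ₁, hσ₂]
  -- step 4: move `p^* f` to the front
  have hmem1 : T.pull q (w : T.H Y) * T.pull σ (ψ : T.H P') ∈
      T.gr P (((i : ℤ) + (2 * (dim X.obj.left : ℤ) + r) + 2 * (dim Y.obj.left : ℤ) -
        2 * (dim P.obj.left : ℤ)) + (2 * (dim Y.obj.left : ℤ) - r)) :=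
    SetLike.mul_mem_graded (T.pull_mem q _ _ w.2) (T.pull_mem σ _ _ ψ.2)
  have hc2 := T.gradedComm P _ _ _ _ hmem1 (T.pull_mem p _ _ (f i a).2)
  rw [hc2, map_smul, smul_eq_mul, ← mul_assoc, ← mul_assoc]
  -- signs
  have hs1 : (-1 : K) ^ ((2 * (dim X.obj.left : ℤ) - i).natAbs * ((i : ℤ)).natAbs) = (-1 : K) ^ i :=
    sign_eq _ _ i (by
      rw [Int.even_sub, Int.even_coe_nat]
      simp) (by rw [Int.even_coe_nat])
  have hs2 : (-1 : K) ^ ((((i : ℤ) + (2 * (dim X.obj.left : ℤ) + r) + 2 * (dim Y.obj.left : ℤ) -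
        2 * (dim P.obj.left : ℤ)) + (2 * (dim Y.obj.left : ℤ) - r)).natAbs *
        (2 * (dim X.obj.left : ℤ) - i).natAbs) = (-1 : K) ^ i :=
    sign_eq _ _ i (by
      have : ((i : ℤ) + (2 * (dim X.obj.left : ℤ) + r) + 2 * (dim Y.obj.left : ℤ) -
        2 * (dim P.obj.left : ℤ)) + (2 * (dim Y.obj.left : ℤ) - r) = i + 2 * (dim Y.obj.left : ℤ) := by
        rw [hd']; ring
      rw [this, Int.even_add, Int.even_coe_nat]
      simp) (by
      rw [Int.even_sub, Int.even_coe_nat]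
      simp)
  rw [hs1, hs2, ← pow_add]
  have : Even (i + i) := ⟨i, rfl⟩
  rw [this.neg_one_pow, one_mul]

end Groth.Agent.S15748
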