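import Groth.Statements.S15749
import Groth.Agent.Lib.Helper24.LaurentSeries
import Mathlib.RingTheory.Noetherian.Nilpotent
import Mathlib.RingTheory.Nilpotent.Lemmas
import Mathlib.Tactic

set_option autoImplicit false
universe u
open CAlg

namespace Groth.Agent.S15749

open HahnSeries
open Groth.Agent.Lib.Helper24

section
variable {R : Type u} [CommRing R]

lemma neg_coeff_nilpotent (e : LaurentSeries R) (he : IsIdempotentElem e) (n : ℤ) (hn : n < 0) :
    IsNilpotent (e.coeff n) := by
  rw [nilpotent_iff_mem_prime]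
  intro P hP
  have hē : IsIdempotentElem (lsMap (Ideal.Quotient.mk P) e) := he.map _
  rcases (IsIdempotentElem.iff_eq_zero_or_one).mp hē with h | h
  · have := congrArg (fun x => x.coeff n) h
    simp only [lsMap_coeff, HahnSeries.coeff_zero] at this
    exact Ideal.Quotient.eq_zero_iff_mem.mp this
  · have := congrArg (fun x => x.coeff n) h
    simp only [lsMap_coeff, HahnSeries.coeff_one, hn.ne, if_false] at this
    exact Ideal.Quotient.eq_zero_iff_mem.mp this


/-- For an arbitrary commutative ring R, every idempotent of the ring of formal Laurent series R((t)) is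
the constant series attached to a unique idempotent of R. Equivalently, the structure map R → R((t))
induces a bijection on idempotents, so that the spectrum of R((t)) is connected if and only if the
spectrum of R is. No reducedness is assumed. -/
theorem result (R : Type u) [CommRing R]
    (e : LaurentSeries R) (he : IsIdempotentElem e) :
    ∃! r : R, IsIdempotentElem r ∧ HahnSeries.C r = e := by
  classical
  -- the ideal generated by negative coefficients
  let s : Set R := (fun n : ℤ => e.coeff n) '' Set.Ico e.order 0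
  have hsfin : s.Finite := (Set.finite_Ico _ _).image _
  let 𝔟 : Ideal R := Ideal.span s
  have hneg : ∀ n < 0, e.coeff n ∈ 𝔟 := by
    intro n hn
    by_cases h : e.order ≤ n
    · exact Ideal.subset_span ⟨n, ⟨h, hn⟩, rfl⟩
    · rw [HahnSeries.coeff_eq_zero_of_lt_order (not_le.mp h)]
      exact 𝔟.zero_mem
  have hnil : 𝔟 ≤ nilradical R := by
    rw [Ideal.span_le]
    rintro _ ⟨n, ⟨-, hn⟩, rfl⟩
    exact neg_coeff_nilpotent e he n hn
  have hfg : 𝔟.FG := ⟨hsfin.toFinset, by simp [𝔟]⟩
  obtain ⟨m, hm⟩ := (hfg.isNilpotent_iff_le_nilradical).mpr hnil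
  let φ := lsMap (Ideal.Quotient.mk 𝔟)
  have hφe : IsIdempotentElem (φ e) := he.map _
  have hφneg : ∀ n < 0, (φ e).coeff n = 0 := by
    intro n hn
    rw [lsMap_coeff]
    exact Ideal.Quotient.eq_zero_iff_mem.mpr (hneg n hn)
  obtain ⟨h1, h2⟩ := nonneg_idem (φ e) hφneg hφe
  rw [lsMap_coeff] at h1 h2
  obtain ⟨r, hr, hrc⟩ := exists_isIdempotentElem_eq_of_ker_isNilpotent (Ideal.Quotient.mk 𝔟)
    (fun x hx => hnil (by rwa [Ideal.mk_ker] at hx)) _ ⟨e.coeff 0, rfl⟩ h2
  have hd : ∀ n, (e - HahnSeries.C r).coeff n ∈ 𝔟 := by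
    intro n
    have h3 : φ (e - HahnSeries.C r) = 0 := by
      rw [map_sub, h1, lsMap_C, hrc, sub_self]
    have := congrArg (fun x => x.coeff n) h3
    simp only [lsMap_coeff, HahnSeries.coeff_zero] at this
    exact Ideal.Quotient.eq_zero_iff_mem.mp this
  have hnilp : IsNilpotent (e - HahnSeries.C r) := by
    refine ⟨m, ?_⟩
    ext n
    have := coeff_pow_mem 𝔟 _ hd m n
    rw [hm] at this
    simpa using this
  have hCr : IsIdempotentElem (HahnSeries.C r : LaurentSeries R) := hr.map HahnSeries.C
  have heq : e = HahnSeries.C r := eq_of_isNilpotent_sub_of_isIdempotentElem he hCr hnilp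
  refine ⟨r, ⟨hr, heq.symm⟩, ?_⟩
  rintro r' ⟨-, hr'⟩
  exact HahnSeries.C_injective (hr'.trans heq)
end

end Groth.Agent.S15749
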