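import Groth.Statements.S15750
import Groth.Agent.Lib.Helper24.LaurentSeries
import Mathlib.RingTheory.Nilpotent.Lemmas
import Mathlib.Tactic

set_option autoImplicit false
universe u
open CAlg

namespace Groth.Agent.S15750

open HahnSeries
open Groth.Agent.Lib.Helper24

section
variable {R : Type u} [CommRing R]

lemma order_eq_of (x : LaurentSeries R) (n : ℤ) (h0 : x.coeff n ≠ 0)
    (hlt : ∀ k < n, x.coeff k = 0) : x.order = n := by
  have hx : x ≠ 0 := by rintro rfl; exact h0 rfl
  apply le_antisymm (HahnSeries.order_le_of_coeff_ne_zero h0)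
  by_contra hlt'
  exact (HahnSeries.coeff_order_eq_zero.not.mpr hx) (hlt _ (not_le.mp hlt'))

lemma exists_powerSeries_shift (z : LaurentSeries R) (n : ℤ) (h : ∀ k < n, z.coeff k = 0) :
    ∃ q : PowerSeries R, z = HahnSeries.single n (1 : R) * HahnSeries.ofPowerSeries ℤ R q ∧
      PowerSeries.constantCoeff q = z.coeff n := by
  let w : LaurentSeries R := HahnSeries.single (-n) (1 : R) * z
  have hw : ∀ k, w.coeff k = z.coeff (k + n) := by
    intro k
    simp only [w]
    rw [HahnSeries.coeff_single_mul, one_mul, sub_neg_eq_add]
  have hwneg : ∀ k < 0, w.coeff k = 0 := fun k hk => by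
    rw [hw]; exact h _ (by omega)
  obtain ⟨q, hq⟩ := exists_powerSeries_of_nonneg w hwneg
  refine ⟨q, ?_, ?_⟩
  · rw [hq]
    simp only [w]
    rw [← mul_assoc, HahnSeries.single_mul_single, add_neg_cancel, mul_one]
    change z = (1 : LaurentSeries R) * z
    rw [one_mul]
  · have h1 := PowerSeries.coeff_coe q 0
    rw [hq, hw] at h1
    simpa using h1.symm
end

section
variable {R : Type u} [CommRing R]

/-- key vanishing: products of the lowest coefficient of `x` with low coefficients of its inverse
are nilpotent -/
lemma leading_mul_coeff_nilpotent (x y : LaurentSeries R) (hxy : x * y = 1) (N : ℤ)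
    (hN : ∀ k < N, x.coeff k = 0) (j : ℤ) (hj : j < -N) :
    IsNilpotent (x.coeff N * y.coeff j) := by
  rw [nilpotent_iff_mem_prime]
  intro P hP
  by_cases ha : x.coeff N ∈ P
  · exact P.mul_mem_right _ ha
  · apply P.mul_mem_left
    let φ := lsMap (Ideal.Quotient.mk P)
    have h1 : φ x * φ y = 1 := by rw [← map_mul, hxy, map_one]
    have hx0 : (φ x).coeff N ≠ 0 := by
      rw [lsMap_coeff]
      exact fun h => ha (Ideal.Quotient.eq_zero_iff_mem.mp h)
    have hxo : (φ x).order = N := order_eq_of (φ x) N hx0 (fun k hk => by
      rw [lsMap_coeff, hN k hk, map_zero])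
    have hxne : φ x ≠ 0 := by rintro h; rw [h] at hx0; exact hx0 rfl
    have hyne : φ y ≠ 0 := by
      rintro h; rw [h, mul_zero] at h1; exact zero_ne_one h1
    have hord := HahnSeries.order_mul hxne hyne
    rw [h1, HahnSeries.order_one, hxo] at hord
    have hyo : (φ y).order = -N := by omega
    have := HahnSeries.coeff_eq_zero_of_lt_order (x := φ y) (i := j) (by rw [hyo]; exact hj)
    rw [lsMap_coeff] at this
    exact Ideal.Quotient.eq_zero_iff_mem.mp this


/-- Let R be a nonzero reduced commutative ring with no idempotents other than 0 and 1. Then every unit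
of the Laurent series ring R((t)) is t^n · u for a unique integer n and a unique unit u of the power
series ring R[[t]]. (The published statement is for an arbitrary torus T over a reduced ring R, with
n replaced by a locally constant integer-valued function on Spec R, i.e. a point of the cocharacter
lattice; this row is the case where T is the multiplicative group and Spec R is connected, to which
the published proof reduces.) -/
theorem result (R : Type u) [CommRing R]
    [IsReduced R] [Nontrivial R] (hconn : ∀ e : R, IsIdempotentElem e → e = 0 ∨ e = 1)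
    (f : (LaurentSeries R)ˣ) :
    ∃! p : ℤ × (PowerSeries R)ˣ,
      (f : LaurentSeries R) = HahnSeries.single p.1 (1 : R) * HahnSeries.ofPowerSeries ℤ R (p.2 : PowerSeries R) := by
  classical
  set x : LaurentSeries R := (f : LaurentSeries R) with hx
  set y : LaurentSeries R := ((f⁻¹ : (LaurentSeries R)ˣ) : LaurentSeries R) with hy
  have hxy : x * y = 1 := f.mul_inv
  have hxne : x ≠ 0 := f.ne_zero
  set N := x.order with hNdef
  set a := x.coeff N with ha
  have ha0 : a ≠ 0 := HahnSeries.coeff_order_eq_zero.not.mpr hxne
  have hN : ∀ k < N, x.coeff k = 0 := fun k hk => HahnSeries.coeff_eq_zero_of_lt_order hk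
  -- z = C a * y has no coefficients below -N
  set z : LaurentSeries R := HahnSeries.C a * y with hz
  have hzc : ∀ j, z.coeff j = a * y.coeff j := by
    intro j
    rw [hz, HahnSeries.C_apply, HahnSeries.coeff_single_mul, sub_zero]
  have hzlow : ∀ j < -N, z.coeff j = 0 := by
    intro j hj
    rw [hzc]
    exact (leading_mul_coeff_nilpotent x y hxy N hN j hj).eq_zero
  have hxz : x * z = HahnSeries.C a := by
    rw [hz, mul_left_comm, hxy, mul_one]
  obtain ⟨p, hp, hp0⟩ := exists_powerSeries_shift x N hN
  obtain ⟨q, hq, hq0⟩ := exists_powerSeries_shift z (-N) hzlow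
  have hpq : p * q = PowerSeries.C a := by
    apply HahnSeries.ofPowerSeries_injective (Γ := ℤ)
    rw [map_mul, HahnSeries.ofPowerSeries_C, ← hxz, hp, hq]
    rw [mul_mul_mul_comm, HahnSeries.single_mul_single, add_neg_cancel, mul_one]
    change _ = (1 : LaurentSeries R) * _
    rw [one_mul]
  -- a * (a * b) = a
  set b := y.coeff (-N) with hb
  have hab : a * (a * b) = a := by
    have := congrArg PowerSeries.constantCoeff hpq
    rw [map_mul, hp0, hq0, hzc, PowerSeries.constantCoeff_C] at this
    exact this
  have hidem : IsIdempotentElem (a * b) := by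
    show a * b * (a * b) = a * b
    calc a * b * (a * b) = (a * (a * b)) * b := by ring
      _ = a * b := by rw [hab]
  have hunit : IsUnit a := by
    rcases hconn _ hidem with h0 | h1
    · exfalso
      rw [h0, mul_zero] at hab
      exact ha0 hab.symm
    · exact IsUnit.of_mul_eq_one b h1
  have hpu : IsUnit p := by
    rw [PowerSeries.isUnit_iff_constantCoeff, hp0]
    exact hunit
  refine ⟨(N, hpu.unit), ?_, ?_⟩
  · show x = _
    exact hp
  · rintro ⟨n, u⟩ hnu
    have hnu' : x = HahnSeries.single n (1 : R) * HahnSeries.ofPowerSeries ℤ R (u : PowerSeries R) := hnu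
    have hcoeff : ∀ k, x.coeff k = (HahnSeries.ofPowerSeries ℤ R (u : PowerSeries R)).coeff (k - n) := by
      intro k
      rw [hnu', HahnSeries.coeff_single_mul, one_mul]
    have hu0 : IsUnit (PowerSeries.constantCoeff (u : PowerSeries R)) :=
      (PowerSeries.isUnit_iff_constantCoeff).mp u.isUnit
    have hn : N = n := by
      apply order_eq_of x n
      · rw [hcoeff, sub_self]
        have := PowerSeries.coeff_coe (u : PowerSeries R) 0
        simp only [lt_self_iff_false, if_false, Int.natAbs_zero] at this
        rw [this]
        simpa using hu0.ne_zero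
      · intro k hk
        rw [hcoeff]
        have := PowerSeries.coeff_coe (u : PowerSeries R) (k - n)
        rw [if_pos (by omega)] at this
        exact this
    subst hn
    have hcancel : HahnSeries.ofPowerSeries ℤ R (u : PowerSeries R) = HahnSeries.ofPowerSeries ℤ R p := by
      have h1 : HahnSeries.single N (1 : R) * HahnSeries.ofPowerSeries ℤ R (u : PowerSeries R) =
          HahnSeries.single N (1 : R) * HahnSeries.ofPowerSeries ℤ R p := by rw [← hnu', ← hp]
      have h2 := congrArg (fun w => HahnSeries.single (-N) (1 : R) * w) h1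
      simp only [← mul_assoc, HahnSeries.single_mul_single, neg_add_cancel, mul_one] at h2
      change (1 : LaurentSeries R) * _ = (1 : LaurentSeries R) * _ at h2
      simpa using h2
    have hup : (u : PowerSeries R) = p := HahnSeries.ofPowerSeries_injective hcancel
    have : u = hpu.unit := Units.ext (by rw [hup]; rfl)
    rw [this]
end

end Groth.Agent.S15750
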