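import Groth.Statements.S15755
import Mathlib
import Groth.Agent.Lib.Helper11.FApx1

set_option autoImplicit false
universe u
open CategoryTheory CategoryTheory.Limits
open CAlg

namespace Groth.Agent.S15755

/-- Let (A, I) be a Henselian pair with A Noetherian whose map to the I-adic completion Â is a regular
ring homomorphism, and let F be a set-valued functor on commutative A-algebras preserving filtered
colimits. Then F(A) → F(Â) is injective, and an element of F(A/I) is in the image of F(A) if and
only if it is in the image of F(Â) under the canonical A-algebra map Â → A/I. -/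
theorem result (A : Type u) [CommRing A]
    [IsNoetherianRing A] (I : Ideal A) [HenselianRing A I]
    (hreg : CAlg.IsRegularHom A (AdicCompletion I A))
    (F : CommAlgCat.{u} A ⥤ Type u) [PreservesFilteredColimitsOfSize.{u, u} F] :
    Function.Injective (F.map (CommAlgCat.ofHom (Algebra.ofId A (AdicCompletion I A)))) ∧
    ∀ xbar : F.obj (CommAlgCat.of A (A ⧸ I)),
      (∃ x : F.obj (CommAlgCat.of A A), F.map (CommAlgCat.ofHom (Ideal.Quotient.mkₐ A I)) x = xbar) ↔
      (∃ y : F.obj (CommAlgCat.of A (AdicCompletion I A)),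
        F.map (CommAlgCat.ofHom (AdicCompletion.evalOneₐ I)) y = xbar) := by
  classical
  let E := commAlgCatEquivUnder (CommRingCat.of A)
  let G : Under (CommRingCat.of A) ⥤ Type u := E.inverse ⋙ F
  have hG : ∀ (J : Type u) [SmallCategory J] [IsFiltered J], PreservesColimitsOfShape J G := by
    intro J _ _
    haveI : PreservesColimitsOfShape J F :=
      PreservesFilteredColimitsOfSize.preserves_filtered_colimits J
    infer_instance
  -- the unit bijections
  have hbij : ∀ X : CommAlgCat.{u} A, Function.Bijective (F.map (E.unit.app X)) := by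
    intro X
    haveI : IsIso (F.map (E.unit.app X)) := inferInstance
    exact (isIso_iff_bijective _).mp inferInstance
  have hnat : ∀ {X Y : CommAlgCat.{u} A} (f : X ⟶ Y) (x : F.obj X),
      F.map (E.unit.app Y) (F.map f x) = G.map (E.functor.map f) (F.map (E.unit.app X) x) := by
    intro X Y f x
    change F.map (E.unit.app Y) (F.map f x) =
      F.map (E.inverse.map (E.functor.map f)) (F.map (E.unit.app X) x)
    rw [← FunctorToTypes.map_comp_apply, ← FunctorToTypes.map_comp_apply]
    congr 1
  -- the three morphisms in `Under A`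
  let c : Under.mk (𝟙 (CommRingCat.of A)) ⟶
      Under.mk (CommRingCat.ofHom (algebraMap A (AdicCompletion I A))) :=
    E.functor.map (CommAlgCat.ofHom (Algebra.ofId A (AdicCompletion I A)))
  let q : Under.mk (𝟙 (CommRingCat.of A)) ⟶
      Under.mk (CommRingCat.ofHom (algebraMap A (A ⧸ I))) :=
    E.functor.map (CommAlgCat.ofHom (Ideal.Quotient.mkₐ A I))
  let ev : Under.mk (CommRingCat.ofHom (algebraMap A (AdicCompletion I A))) ⟶
      Under.mk (CommRingCat.ofHom (algebraMap A (A ⧸ I))) :=
    E.functor.map (CommAlgCat.ofHom (AdicCompletion.evalOneₐ I))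
  -- the unit maps, with `Under.mk` targets
  let uA : F.obj (CommAlgCat.of A A) → G.obj (Under.mk (𝟙 (CommRingCat.of A))) :=
    F.map (E.unit.app (CommAlgCat.of A A))
  let uH : F.obj (CommAlgCat.of A (AdicCompletion I A)) →
      G.obj (Under.mk (CommRingCat.ofHom (algebraMap A (AdicCompletion I A)))) :=
    F.map (E.unit.app (CommAlgCat.of A (AdicCompletion I A)))
  let uQ : F.obj (CommAlgCat.of A (A ⧸ I)) →
      G.obj (Under.mk (CommRingCat.ofHom (algebraMap A (A ⧸ I)))) :=
    F.map (E.unit.app (CommAlgCat.of A (A ⧸ I)))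
  have huA : Function.Bijective uA := hbij _
  have huH : Function.Bijective uH := hbij _
  have huQ : Function.Bijective uQ := hbij _
  have hc : ∀ x, uH (F.map (CommAlgCat.ofHom (Algebra.ofId A (AdicCompletion I A))) x) =
      G.map c (uA x) := fun x => hnat _ x
  have hq : ∀ x, uQ (F.map (CommAlgCat.ofHom (Ideal.Quotient.mkₐ A I)) x) =
      G.map q (uA x) := fun x => hnat _ x
  have hev : ∀ y, uQ (F.map (CommAlgCat.ofHom (AdicCompletion.evalOneₐ I)) y) =
      G.map ev (uH y) := fun y => hnat _ y
  have hinj := Groth.Agent.Lib.Helper11.FApx.functor_injective A I hreg G hG c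
  refine ⟨?_, ?_⟩
  · intro x₁ x₂ hx
    apply huA.1
    apply hinj
    rw [← hc, ← hc, hx]
  · intro xbar
    have hiff := Groth.Agent.Lib.Helper11.FApx.functor_lifts_iff A I hreg G hG c q ev rfl
      (uQ xbar)
    constructor
    · rintro ⟨x, hx⟩
      obtain ⟨y, hy⟩ := hiff.mp ⟨uA x, by rw [← hq, hx]⟩
      obtain ⟨y', rfl⟩ := huH.2 y
      refine ⟨y', ?_⟩
      apply huQ.1
      rw [hev]
      exact hy
    · rintro ⟨y, hy⟩
      obtain ⟨x, hx⟩ := hiff.mpr ⟨uH y, by rw [← hev, hy]⟩
      obtain ⟨x', rfl⟩ := huA.2 x
      refine ⟨x', ?_⟩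
      apply huQ.1
      rw [hq]
      exact hx

end Groth.Agent.S15755
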