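import Groth.Statements.S15765
import Mathlib.AlgebraicGeometry.QuasiAffine
import Mathlib.Topology.Algebra.Ring.Basic
import Mathlib.Tactic

set_option autoImplicit false
universe u
open CategoryTheory AlgebraicGeometry
open CAlg

namespace Groth.Agent.S15765

open CategoryTheory AlgebraicGeometry

/-- in a quasi-affine scheme, functions vanishing on the complement of the image in `Spec Γ`
have affine nonvanishing locus -/
lemma isAffineOpen_basicOpen_of_mem (X : Scheme.{u}) [X.IsQuasiAffine] (r : Γ(X, ⊤))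
    (hr : r ∈ PrimeSpectrum.vanishingIdeal (Set.range X.toSpecΓ)ᶜ) :
    IsAffineOpen (X.basicOpen r) := by
  have hrU : (PrimeSpectrum.basicOpen r : Set (PrimeSpectrum Γ(X, ⊤))) ⊆ Set.range X.toSpecΓ := by
    intro q hq
    by_contra hqW
    have := (PrimeSpectrum.mem_vanishingIdeal _ _).mp hr q hqW
    exact hq this
  rw [← Scheme.toSpecΓ_preimage_basicOpen]
  rw [← Scheme.Hom.isAffineOpen_iff_of_isOpenImmersion X.toSpecΓ]
  have heq : X.toSpecΓ ''ᵁ X.toSpecΓ ⁻¹ᵁ PrimeSpectrum.basicOpen r = PrimeSpectrum.basicOpen r := by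
    apply SetLike.coe_injective
    exact (Set.image_preimage_eq_of_subset hrU)
  rw [heq]
  exact IsAffineOpen.Spec_basicOpen r

lemma mem_vanishingIdeal_of_basicOpen_subset (X : Scheme.{u}) (r : Γ(X, ⊤))
    (hrU : (PrimeSpectrum.basicOpen r : Set (PrimeSpectrum Γ(X, ⊤))) ⊆ Set.range X.toSpecΓ) :
    r ∈ PrimeSpectrum.vanishingIdeal (Set.range X.toSpecΓ)ᶜ := by
  rw [PrimeSpectrum.mem_vanishingIdeal]
  intro q hq
  by_contra hr
  exact hq (hrU hr)


/-- Let B be a topological ring in which the units form an open subset, B₀ → B a ring map with dense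
image and X a quasi-affine scheme over B₀. Then the image of any B-point Spec B → X over B₀ is
contained in an affine open of X. (The published statement allows X ind-quasi-affine, i.e. with all
quasi-compact opens quasi-affine; since a B-point lands in a quasi-compact open, this row's
quasi-affine case carries the content.) -/
theorem result (B : Type u) [CommRing B] [TopologicalSpace B]
    [IsTopologicalRing B] (hB : IsOpen {b : B | IsUnit b})
    (B₀ : Type u) [CommRing B₀] (φ : B₀ →+* B) (hφ : DenseRange φ)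
    (X : Scheme.{u}) [X.IsQuasiAffine] (p : X ⟶ Spec (CommRingCat.of B₀))
    (f : Spec (CommRingCat.of B) ⟶ X) (hf : f ≫ p = Spec.map (CommRingCat.ofHom φ)) :
    ∃ U : X.Opens, IsAffineOpen U ∧ Set.range f.base ⊆ (U : Set X) := by
  classical
  let ψ : Γ(X, ⊤) →+* B := (f.appTop ≫ (Scheme.ΓSpecIso (CommRingCat.of B)).hom).hom
  let p' : B₀ →+* Γ(X, ⊤) := ((Scheme.ΓSpecIso (CommRingCat.of B₀)).inv ≫ p.appTop).hom
  have hψp : ∀ c : B₀, ψ (p' c) = φ c := by
    intro c
    have h1 : p.appTop ≫ f.appTop = (Spec.map (CommRingCat.ofHom φ)).appTop := by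
      rw [← hf]; rfl
    have h2 : ((Scheme.ΓSpecIso (CommRingCat.of B₀)).inv ≫ p.appTop) ≫
        (f.appTop ≫ (Scheme.ΓSpecIso (CommRingCat.of B)).hom) = CommRingCat.ofHom φ := by
      rw [Category.assoc, ← Category.assoc p.appTop, h1, Scheme.ΓSpecIso_naturality,
        Iso.inv_hom_id_assoc]
    exact ConcreteCategory.congr_hom h2 c
  let J : Ideal Γ(X, ⊤) := PrimeSpectrum.vanishingIdeal (Set.range X.toSpecΓ)ᶜ
  -- the key: preimage of basic open
  have hmem : ∀ (r : Γ(X, ⊤)) (q : Spec (CommRingCat.of B)),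
      f q ∈ X.basicOpen r ↔ ψ r ∉ q.asIdeal := by
    intro r q
    have h1 : f q ∈ X.basicOpen r ↔ q ∈ f ⁻¹ᵁ X.basicOpen r := Iff.rfl
    rw [h1, Scheme.preimage_basicOpen_top, basicOpen_eq_of_affine']
    rfl
  have htop : Ideal.map ψ J = ⊤ := by
    by_contra hne
    obtain ⟨𝔮, h𝔮max, h𝔮⟩ := Ideal.exists_le_maximal _ hne
    let q : Spec (CommRingCat.of B) := ⟨𝔮, h𝔮max.isPrime⟩
    have hW : X.toSpecΓ (f q) ∈ Set.range X.toSpecΓ := ⟨_, rfl⟩
    have hWo : IsOpen (Set.range X.toSpecΓ) := X.toSpecΓ.isOpenEmbedding.isOpen_range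
    obtain ⟨_, ⟨_, ⟨r, rfl⟩, rfl⟩, hxr, hrW⟩ := (PrimeSpectrum.isBasis_basic_opens
      (R := Γ(X, ⊤))).exists_subset_of_mem_open hW hWo
    have hrJ : r ∈ J := mem_vanishingIdeal_of_basicOpen_subset X r hrW
    have hx : f q ∈ X.basicOpen r := by
      rw [← Scheme.toSpecΓ_preimage_basicOpen]
      exact hxr
    rw [hmem] at hx
    exact hx (h𝔮 (Ideal.mem_map_of_mem ψ hrJ))
  have h1 : (1 : B) ∈ Ideal.map ψ J := by rw [htop]; trivial
  rw [Ideal.map, Ideal.span, Submodule.mem_span_image_iff_exists_fun] at h1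
  obtain ⟨t, htJ, c, hc⟩ := h1
  let Φ : (t → B) → B := fun c => ∑ i, c i * ψ i
  have hΦc : Continuous Φ := continuous_finsetSum _ (fun i _ => by fun_prop)
  have hopen : IsOpen (Φ ⁻¹' {b : B | IsUnit b}) := hB.preimage hΦc
  have hne : (Φ ⁻¹' {b : B | IsUnit b}).Nonempty := ⟨c, by
    show IsUnit (Φ c)
    have : Φ c = 1 := hc
    rw [this]; exact isUnit_one⟩
  have hD : DenseRange (Pi.map (fun (_ : t) => φ)) := DenseRange.piMap (fun _ => hφ)
  obtain ⟨c₀, hc₀⟩ := hD.exists_mem_open hopen hne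
  let h : Γ(X, ⊤) := ∑ i : t, p' (c₀ i) * (i : Γ(X, ⊤))
  have hhJ : h ∈ J := by
    refine Ideal.sum_mem _ (fun i _ => J.mul_mem_left _ (htJ i.2))
  have hψh : IsUnit (ψ h) := by
    have : ψ h = Φ (Pi.map (fun (_ : t) => φ) c₀) := by
      simp only [h, Φ, map_sum, map_mul, hψp, Pi.map_apply]
    rw [this]
    exact hc₀
  refine ⟨X.basicOpen h, isAffineOpen_basicOpen_of_mem X h hhJ, ?_⟩
  rintro _ ⟨q, rfl⟩
  show f q ∈ X.basicOpen h
  rw [hmem]
  intro hq
  exact q.isPrime.ne_top (Ideal.eq_top_of_isUnit_mem _ hq hψh)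

end Groth.Agent.S15765
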