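import Groth.Statements.S1577
-- import your own Groth.Agent.* helpers here
import Groth.Agent.Lib.Helper29.QCohAss

set_option autoImplicit false
universe u
open CategoryTheory CategoryTheory.Limits AlgebraicGeometry
open Divisors

namespace Groth.Agent.S1577

/-- Let X be locally Noetherian and F quasi-coherent. A point of the support of F which is not a
specialisation of a different point of the support is an associated point of F. -/
theorem result (X : Scheme.{u}) [IsLocallyNoetherian X]
    (F : X.Modules) (hF : Coh.IsQCoh F) (x : X) (hx : x ∈ CohB1.support F)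
    (hmax : ∀ y ∈ CohB1.support F, y ⤳ x → y = x) : Curv2.IsAssPoint F x := by
  open Groth.Agent.Lib.Helper29.QCoh in
  have : F.IsQuasicoherent := hF
  rw [isAssPoint_iff_isWeakAssPoint]
  obtain ⟨V, hV, hxV, -⟩ := exists_isAffineOpen_mem_and_subset (x := x) (U := ⊤) trivial
  have hx' : ¬ Subsingleton (F.presheaf.stalk x) := hx
  rw [stalk_subsingleton_iff_germ F hV x hxV, not_forall] at hx'
  obtain ⟨m, hm⟩ := hx'
  obtain ⟨y, hyV, hyx, hyass, hyne⟩ := exists_isWeakAssPoint_specializes F hV m x hxV hm
  have hysupp : y ∈ CohB1.support F := by
    intro hsub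
    exact hyne (Subsingleton.elim _ _)
  have := hmax y hysupp hyx
  rwa [this] at hyass

end Groth.Agent.S1577
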