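import Groth.Statements.S15770
import Mathlib.Topology.Algebra.Module.ModuleTopology
import Mathlib.Topology.Instances.Matrix
import Mathlib.RingTheory.Finiteness.Projective
import Mathlib.LinearAlgebra.Determinant
import Mathlib.Tactic

set_option autoImplicit false
universe u
open CAlg

namespace Groth.Agent.S15770


/-- Let B be a topological ring with Bˣ ⊂ B open and M, M' finitely generated projective B-modules, and
endow Hom_B(M, M') with the module topology (the canonical topology of a finite module). Then the
set of surjective B-linear maps M → M' is open. -/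
theorem result (B : Type u) [CommRing B] [TopologicalSpace B]
    [IsTopologicalRing B] (hB : IsOpen {b : B | IsUnit b})
    (M M' : Type u) [AddCommGroup M] [Module B M] [Module.Finite B M] [Module.Projective B M]
    [AddCommGroup M'] [Module B M'] [Module.Finite B M'] [Module.Projective B M']
    [TopologicalSpace (M →ₗ[B] M')] [IsModuleTopology B (M →ₗ[B] M')] :
    IsOpen {f : M →ₗ[B] M' | Function.Surjective f} := by
  classical
  rw [isOpen_iff_forall_mem_open]
  intro f₀ hf₀
  obtain ⟨n, π, ι, -, -, hπι⟩ := Module.Finite.exists_comp_eq_id_of_projective B M'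
  obtain ⟨s, hs⟩ := Module.projective_lifting_property f₀ LinearMap.id hf₀
  let e : (Fin n → B) →ₗ[B] (Fin n → B) := ι ∘ₗ π
  let Θ : (M →ₗ[B] M') →ₗ[B] Matrix (Fin n) (Fin n) B :=
    { toFun := fun f => LinearMap.toMatrix' (ι ∘ₗ f ∘ₗ s ∘ₗ π)
      map_add' := fun f g => by
        rw [← map_add]; congr 1
        ext x; simp
      map_smul' := fun c f => by
        rw [RingHom.id_apply, ← map_smul]; congr 1
        ext x; simp }
  have : IsModuleTopology B (Matrix (Fin n) (Fin n) B) :=
    inferInstanceAs (IsModuleTopology B (Fin n → Fin n → B))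
  have hΘc : Continuous Θ := IsModuleTopology.continuous_of_linearMap Θ
  let E : (M →ₗ[B] M') → Matrix (Fin n) (Fin n) B := fun f => Θ f + LinearMap.toMatrix' (1 - e)
  have hEc : Continuous E := hΘc.add continuous_const
  have hdet : Continuous (fun f => (E f).det) := hEc.matrix_det
  refine ⟨(fun f => (E f).det) ⁻¹' {b : B | IsUnit b}, ?_, hB.preimage hdet, ?_⟩
  · intro f hf
    have hfu : IsUnit (E f).det := hf
    -- E f = toMatrix' (ι f s π + (1 - e))
    let L : (Fin n → B) →ₗ[B] (Fin n → B) := ι ∘ₗ f ∘ₗ s ∘ₗ π + (1 - e)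
    have hEL : E f = LinearMap.toMatrix' L := by
      simp only [E, Θ, L, map_add]
      rfl
    have hLu : IsUnit (LinearMap.det L) := by
      rw [← LinearMap.det_toMatrix', ← hEL]; exact hfu
    have hLs : Function.Surjective L :=
      ((Module.End.isUnit_iff L).mp ((LinearMap.isUnit_iff_isUnit_det L).mpr hLu)).2
    intro m'
    obtain ⟨x, hx⟩ := hLs (ι m')
    refine ⟨s (π x), ?_⟩
    have h1 := congrArg π hx
    have hπι' : ∀ y, π (ι y) = y := fun y => LinearMap.congr_fun hπι y
    simp only [L, e, LinearMap.add_apply, LinearMap.comp_apply, LinearMap.sub_apply,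
      Module.End.one_apply, map_add, map_sub, hπι'] at h1
    simpa using h1
  · show IsUnit (E f₀).det
    have : E f₀ = 1 := by
      have h2 : ι ∘ₗ f₀ ∘ₗ s ∘ₗ π = e := by
        rw [← LinearMap.comp_assoc π s f₀, hs]; rfl
      simp only [E, Θ, LinearMap.coe_mk, AddHom.coe_mk, h2]
      rw [← map_add, add_sub_cancel, LinearMap.toMatrix'_one]
    rw [this, Matrix.det_one]
    exact isUnit_one

end Groth.Agent.S15770
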