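import Groth.Statements.S15771
import Mathlib.LinearAlgebra.TensorProduct.Tower
import Mathlib.Topology.Algebra.Module.Basic
import Mathlib.RingTheory.Finiteness.Basic
import Mathlib.Tactic

set_option autoImplicit false
universe u
open TensorProduct
open CAlg

namespace Groth.Agent.S15771

open TensorProduct


/-- For a ring map B₀ → B with dense image into a topological ring B, a finitely generated B₀-module M₀
and any topological B-module structure on M = B ⊗_{B₀} M₀, the natural map M₀ → M has dense image. -/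
theorem result (B₀ B : Type u) [CommRing B₀] [CommRing B] [Algebra B₀ B]
    [TopologicalSpace B] [IsTopologicalRing B] (hφ : DenseRange (algebraMap B₀ B))
    (M₀ : Type u) [AddCommGroup M₀] [Module B₀ M₀] [Module.Finite B₀ M₀]
    [TopologicalSpace (B ⊗[B₀] M₀)] [IsTopologicalAddGroup (B ⊗[B₀] M₀)] [ContinuousSMul B (B ⊗[B₀] M₀)] :
    DenseRange (fun m : M₀ => (1 : B) ⊗ₜ[B₀] m) := by
  obtain ⟨n, s, hs⟩ := Module.Finite.exists_fin (R := B₀) (M := M₀)
  let v : Fin n → B ⊗[B₀] M₀ := fun i => (1 : B) ⊗ₜ[B₀] s i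
  have hv : Submodule.span B (Set.range v) = ⊤ := by
    have h1 := Submodule.baseChange_span (R := B₀) (M := M₀) B (Set.range s)
    rw [hs, Submodule.baseChange_top] at h1
    rw [h1]
    congr 1
    ext x
    simp [v]
  let Φ : (Fin n → B) → B ⊗[B₀] M₀ := fun b => ∑ i, b i • v i
  have hΦc : Continuous Φ :=
    continuous_finsetSum _ (fun i _ => by fun_prop)
  have hΦs : Function.Surjective Φ := by
    intro x
    have hx : x ∈ Submodule.span B (Set.range v) := by rw [hv]; trivial
    exact (Submodule.mem_span_range_iff_exists_fun B).mp hx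
  have hD : DenseRange (Pi.map (fun (_ : Fin n) => (algebraMap B₀ B))) :=
    DenseRange.piMap (fun _ => hφ)
  have hcomp : DenseRange (Φ ∘ Pi.map (fun (_ : Fin n) => (algebraMap B₀ B))) :=
    hΦs.denseRange.comp hD hΦc
  refine hcomp.mono ?_
  rintro _ ⟨c, rfl⟩
  refine ⟨∑ i, c i • s i, ?_⟩
  simp only [Function.comp_apply, Φ, v, Pi.map_apply, tmul_sum]
  refine Finset.sum_congr rfl (fun i _ => ?_)
  rw [TensorProduct.tmul_smul, TensorProduct.smul_tmul', Algebra.smul_def, mul_one,
    TensorProduct.smul_tmul', smul_eq_mul, mul_one]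

end Groth.Agent.S15771
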