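import Groth.Statements.S15779
import Mathlib
import Mathlib
import Groth.Agent.Lib.Helper11.ZLaur2

set_option autoImplicit false
universe u
open Polynomial
open CAlg

namespace Groth.Agent.S15779

/-- For a Henselian local ring (R, m), L the localisation of R[t] at the monoid generated by t and the
polynomials with constant term 1, and ψ : R[s] → L the R-algebra map with s ↦ t⁻¹, extension and
contraction along ψ are mutually inverse bijections between the ideals of R[s] comaximal with mR[s]
and the ideals of L comaximal with mL, and R[s]/I → L/IL is bijective for every such I. -/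
theorem result (R : Type u) [CommRing R]
    [HenselianLocalRing R] (L : Type u) [CommRing L] [Algebra R[X] L]
    [IsLocalization (Submonoid.closure ({f : R[X] | f.coeff 0 = 1} ∪ {X})) L]
    [Algebra R L] [IsScalarTower R R[X] L]
    (ψ : R[X] →ₐ[R] L) (hψ : ψ X * algebraMap R[X] L X = 1) :
    (∀ I : Ideal R[X], I ⊔ (IsLocalRing.maximalIdeal R).map (algebraMap R R[X]) = ⊤ →
        (I.map ψ.toRingHom).comap ψ.toRingHom = I ∧
        I.map ψ.toRingHom ⊔ (IsLocalRing.maximalIdeal R).map (algebraMap R L) = ⊤ ∧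
        Function.Bijective (Ideal.quotientMap (I.map ψ.toRingHom) ψ.toRingHom Ideal.le_comap_map)) ∧
    (∀ J : Ideal L, J ⊔ (IsLocalRing.maximalIdeal R).map (algebraMap R L) = ⊤ →
        (J.comap ψ.toRingHom).map ψ.toRingHom = J ∧
        J.comap ψ.toRingHom ⊔ (IsLocalRing.maximalIdeal R).map (algebraMap R R[X]) = ⊤) := by
  refine ⟨fun I hI => ⟨?_, ?_, ?_⟩, fun J hJ => ⟨?_, ?_⟩⟩
  · exact Groth.Agent.Lib.Helper11.ZLaur.comap_map_eq ψ hψ I hI
  · exact Groth.Agent.Lib.Helper11.ZLaur.map_sup_eq_top ψ I hI
  · exact Groth.Agent.Lib.Helper11.ZLaur.quotientMap_bijective ψ hψ I hI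
  · exact Groth.Agent.Lib.Helper11.ZLaur.map_comap_eq ψ hψ J
  · exact Groth.Agent.Lib.Helper11.ZLaur.comap_sup_eq_top ψ hψ J hJ

end Groth.Agent.S15779
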