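import Groth.Statements.S15784
import Mathlib.RingTheory.DiscreteValuationRing.Basic
import Mathlib.RingTheory.Localization.FractionRing
import Mathlib.Tactic

set_option autoImplicit false
universe u
open Neron

namespace Groth.Agent.S15784

section
variable {O : Type u} [CommRing O] [IsDomain O] [IsDiscreteValuationRing O]
    {L : Type u} [Field L] [Algebra O L] [IsFractionRing O L]

lemma isUnit_one_add_mul {ϖ : O} (hϖ : ϖ ∈ IsLocalRing.maximalIdeal O) (r : O) :
    IsUnit (1 + ϖ * r) := by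
  by_contra h
  have h1 : 1 + ϖ * r ∈ IsLocalRing.maximalIdeal O := (IsLocalRing.mem_maximalIdeal _).mpr h
  have h2 : ϖ * r ∈ IsLocalRing.maximalIdeal O := Ideal.mul_mem_right _ _ hϖ
  have h3 : (1 : O) ∈ IsLocalRing.maximalIdeal O := by
    have := Ideal.sub_mem _ h1 h2
    simpa using this
  exact (Ideal.ne_top_iff_one _).mp (IsLocalRing.maximalIdeal.isMaximal O).ne_top h3

lemma zpow_eq_unit_imp (ϖ' : O) (hϖ' : Irreducible ϖ') (k : ℤ) (v : Oˣ)
    (h : (algebraMap O L ϖ') ^ k = algebraMap O L v) : k = 0 := by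
  have hinj : Function.Injective (algebraMap O L) := IsFractionRing.injective O L
  have hπ : algebraMap O L ϖ' ≠ 0 := by
    intro h0
    exact hϖ'.ne_zero (hinj (by rw [h0, map_zero]))
  rcases Int.lt_trichotomy k 0 with hk | hk | hk
  · exfalso
    obtain ⟨k', rfl⟩ : ∃ k' : ℕ, k = -(k' : ℤ) := ⟨k.natAbs, by omega⟩
    have hk' : k' ≠ 0 := by rintro rfl; simp at hk
    rw [zpow_neg, zpow_natCast] at h
    have h1 : (1 : L) = algebraMap O L (v * ϖ' ^ k') := by
      rw [map_mul, map_pow, ← h, inv_mul_cancel₀ (pow_ne_zero _ hπ)]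
    have h2 : (v : O) * ϖ' ^ k' = 1 := hinj (by rw [← h1, map_one])
    have h3 : IsUnit (ϖ' ^ k') := IsUnit.of_mul_eq_one _ (by rw [mul_comm]; exact h2)
    exact hϖ'.not_isUnit ((isUnit_pow_iff hk').mp h3)
  · exact hk
  · exfalso
    obtain ⟨k', rfl⟩ : ∃ k' : ℕ, k = (k' : ℤ) := ⟨k.natAbs, by omega⟩
    have hk' : k' ≠ 0 := by rintro rfl; simp at hk
    rw [zpow_natCast, ← map_pow] at h
    have h2 : ϖ' ^ k' = v := hinj h
    have h3 : IsUnit (ϖ' ^ k') := by rw [h2]; exact v.isUnit
    exact hϖ'.not_isUnit ((isUnit_pow_iff hk').mp h3)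
end

lemma comm_group_aux {G : Type*} [CommGroup G] (w u c : G) (m : ℕ) (t j : ℤ)
    (hj : j = -1 - t * m) (h : w ^ m * u ^ j = c) : u * ((w * u ^ (-t))⁻¹) ^ m = c⁻¹ := by
  subst hj
  rw [← h]
  have h1 : ((w * u ^ (-t))⁻¹) ^ m = (w ^ m)⁻¹ * u ^ (t * m) := by
    rw [mul_inv, zpow_neg, inv_inv, mul_pow, inv_pow, zpow_mul, zpow_natCast]
  have h2 : (w ^ m * u ^ (-1 - t * (m : ℤ)))⁻¹ = (w ^ m)⁻¹ * (u * u ^ (t * m)) := by
    rw [mul_inv, ← zpow_neg, neg_sub, sub_neg_eq_add, zpow_add, zpow_one, mul_comm (u ^ (t * (m:ℤ))) u]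
  rw [h1, h2, mul_left_comm]



/-- Let O be a discrete valuation ring with fraction field L and uniformizer ϖ', let ϖ be an element of
the maximal ideal of O, let q = u·ϖ'^n with u a unit of O and n ≥ 1, and let m ≥ 1 be a divisor of
n. Then the following are equivalent: (i) there is a nonzero element z = w·ϖ'^a of L, with w a unit
of O and a an integer congruent to n/m modulo n, and an integer j such that z^m·q^j lies in 1 + ϖO;
(ii) ϖ'^n/q is an m-th power in the group of units of O/ϖO, that is, u·(y^m + ϖ·r) = 1 for some y, r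
∈ O. (The published statement phrases (i) geometrically, as the existence of a point of order m in
the special fibre of the Néron model of the Weil restriction of the Tate curve with parameter q from
L down to a subfield over which L is totally ramified with ϖ a uniformizer of the subfield, whose
image in the component group also has order m; this row states the equivalence between (i) and (ii)
that the printed argument establishes.) -/
theorem result
    (O : Type u) [CommRing O] [IsDomain O] [IsDiscreteValuationRing O]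
    (L : Type u) [Field L] [Algebra O L] [IsFractionRing O L]
    (ϖ' : O) (hϖ' : Irreducible ϖ') (ϖ : O) (hϖ : ϖ ∈ IsLocalRing.maximalIdeal O)
    (n : ℕ) (hn : 1 ≤ n) (u : Oˣ) (q : O) (hq : q = u * ϖ' ^ n)
    (m : ℕ) (hm : 1 ≤ m) (hmn : m ∣ n) :
    (∃ (w : Oˣ) (a j t : ℤ) (r : O), a = (n / m : ℕ) + t * n ∧
        (algebraMap O L w * algebraMap O L ϖ' ^ a) ^ m * algebraMap O L q ^ j = algebraMap O L (1 + ϖ * r)) ↔
      ∃ y r : O, (u : O) * (y ^ m + ϖ * r) = 1 := by
  have hinj : Function.Injective (algebraMap O L) := IsFractionRing.injective O L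
  have hπ : algebraMap O L ϖ' ≠ 0 := by
    intro h0
    exact hϖ'.ne_zero (hinj (by rw [h0, map_zero]))
  set A := algebraMap O L with hA
  let Pu : Lˣ := Units.mk0 (A ϖ') hπ
  let U : Lˣ := Units.map (A : O →* L) u
  have hnm : ((n / m : ℕ) : ℤ) * m = n := by exact_mod_cast Nat.div_mul_cancel hmn
  have hAq : A q = (U : L) * (Pu : L) ^ n := by rw [hq, map_mul, map_pow]; rfl
  constructor
  · rintro ⟨w, a, j, t, r, ha, h⟩
    have hc : IsUnit (1 + ϖ * r) := isUnit_one_add_mul hϖ r
    let W : Lˣ := Units.map (A : O →* L) w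
    let C : Lˣ := Units.map (A : O →* L) hc.unit
    have hU : (W * Pu ^ a) ^ m * (U * Pu ^ n) ^ j = C := by
      apply Units.ext
      simp only [Units.val_mul, Units.val_pow_eq_pow_val, Units.val_zpow_eq_zpow_val]
      rw [← hAq]
      exact h
    -- isolate the power of Pu
    have hPu : Pu ^ (a * m + n * j) = Units.map (A : O →* L) ((w ^ m * u ^ j)⁻¹ * hc.unit) := by
      have e1 : (W * Pu ^ a) ^ m * (U * Pu ^ n) ^ j = W ^ m * U ^ j * Pu ^ (a * m + n * j) := by
        have h1 : (Pu ^ a) ^ m = Pu ^ (a * m) := by rw [zpow_mul, zpow_natCast]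
        have h2 : (Pu ^ n) ^ j = Pu ^ ((n : ℤ) * j) := by rw [zpow_mul, zpow_natCast]
        rw [mul_pow, mul_zpow, h1, h2, zpow_add, mul_mul_mul_comm]
      rw [e1] at hU
      have e2 : Pu ^ (a * m + n * j) = (W ^ m * U ^ j)⁻¹ * C := by
        rw [← hU]; group
      rw [e2]
      simp only [map_mul, map_inv, map_pow, map_zpow]
      rfl
    have hk : a * m + n * j = 0 := by
      apply zpow_eq_unit_imp (L := L) ϖ' hϖ' _ ((w ^ m * u ^ j)⁻¹ * hc.unit)
      have := congrArg Units.val hPu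
      rw [Units.val_zpow_eq_zpow_val] at this
      exact this
    have hj : j = -1 - t * m := by
      rw [ha, add_mul, hnm] at hk
      have hn' : (n : ℤ) ≠ 0 := by exact_mod_cast (Nat.one_le_iff_ne_zero.mp hn)
      have : (n : ℤ) * (1 + t * m + j) = 0 := by linarith
      rcases mul_eq_zero.mp this with h0 | h0
      · exact absurd h0 hn'
      · linarith
    -- units identity: w^m * u^j = c
    have hwu : w ^ m * u ^ j = hc.unit := by
      rw [hk, zpow_zero] at hPu
      have h1 : (w ^ m * u ^ j)⁻¹ * hc.unit = 1 := by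
        apply Units.map_injective (f := (A : O →* L)) hinj
        rw [← hPu, map_one]
      exact inv_mul_eq_one.mp h1
    let yU : Oˣ := (w * u ^ (-t))⁻¹
    have hy : u * yU ^ m = (hc.unit)⁻¹ := comm_group_aux w u hc.unit m t j hj hwu
    refine ⟨(yU : O), ((u⁻¹ : Oˣ) : O) * ((hc.unit⁻¹ : Oˣ) : O) * r, ?_⟩
    have hy' : (u : O) * (yU : O) ^ m = ((hc.unit⁻¹ : Oˣ) : O) := by
      have := congrArg Units.val hy
      simpa using this
    have hcval : ((hc.unit : Oˣ) : O) = 1 + ϖ * r := hc.unit_spec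
    calc (u : O) * ((yU : O) ^ m + ϖ * (((u⁻¹ : Oˣ) : O) * ((hc.unit⁻¹ : Oˣ) : O) * r))
        = (u : O) * (yU : O) ^ m + ((u : O) * ((u⁻¹ : Oˣ) : O)) * ((hc.unit⁻¹ : Oˣ) : O) * (ϖ * r) := by ring
      _ = ((hc.unit⁻¹ : Oˣ) : O) * (1 + ϖ * r) := by rw [hy', Units.mul_inv]; ring
      _ = 1 := by
        have h9 : ((hc.unit⁻¹ : Oˣ) : O) * ((hc.unit : Oˣ) : O) = 1 := Units.inv_mul _
        rwa [hcval] at h9
  · rintro ⟨y, r, h⟩
    have hm0 : m ≠ 0 := Nat.one_le_iff_ne_zero.mp hm
    have hc : IsUnit (1 + ϖ * (-(u : O) * r)) := isUnit_one_add_mul hϖ _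
    have hcy : (u : O) * y ^ m = 1 + ϖ * (-(u : O) * r) := by
      have : (u : O) * y ^ m = (u : O) * (y ^ m + ϖ * r) - (u : O) * ϖ * r := by ring
      rw [this, h]; ring
    have hyu : IsUnit y := by
      have h1 : IsUnit ((u : O) * y ^ m) := by rw [hcy]; exact hc
      have h2 : IsUnit (y ^ m) := (IsUnit.mul_iff.mp h1).2
      exact (isUnit_pow_iff hm0).mp h2
    set c : O := 1 + ϖ * (-(u : O) * r) with hcdef
    set cinv : O := ((hc.unit⁻¹ : Oˣ) : O) with hcinv
    have hcc : cinv * c = 1 := by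
      have h9 : ((hc.unit⁻¹ : Oˣ) : O) * ((hc.unit : Oˣ) : O) = 1 := Units.inv_mul _
      rwa [hc.unit_spec] at h9
    let w : Oˣ := hyu.unit⁻¹
    have hwy : (w : O) * y = 1 := by
      have h9 : ((hyu.unit⁻¹ : Oˣ) : O) * ((hyu.unit : Oˣ) : O) = 1 := Units.inv_mul _
      rwa [hyu.unit_spec] at h9
    have hwm : (w : O) ^ m = (u : O) * cinv := by
      have h1 : (w : O) ^ m * c = u := by
        rw [← hcy]
        calc (w : O) ^ m * ((u : O) * y ^ m) = (u : O) * ((w : O) * y) ^ m := by ring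
          _ = u := by rw [hwy, one_pow, mul_one]
      calc (w : O) ^ m = (w : O) ^ m * (cinv * c) := by rw [hcc, mul_one]
        _ = ((w : O) ^ m * c) * cinv := by ring
        _ = (u : O) * cinv := by rw [h1]
    refine ⟨w, ((n / m : ℕ) : ℤ), -1, 0, (u : O) * r * cinv, by simp, ?_⟩
    have hr' : 1 + ϖ * ((u : O) * r * cinv) = cinv := by
      calc 1 + ϖ * ((u : O) * r * cinv) = cinv * c + ϖ * ((u : O) * r * cinv) := by rw [hcc]
        _ = cinv := by rw [hcdef]; ring
    rw [hr', zpow_natCast, mul_pow, ← pow_mul, Nat.div_mul_cancel hmn, zpow_neg_one, hAq]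
    have hU0 : (U : L) ≠ 0 := U.ne_zero
    have hP0 : (Pu : L) ^ n ≠ 0 := pow_ne_zero _ Pu.ne_zero
    have hPuval : (Pu : L) = A ϖ' := rfl
    have hUval : (U : L) = A u := rfl
    rw [← hPuval, ← map_pow, hwm, map_mul, ← hUval]
    field_simp

end Groth.Agent.S15784
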