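import Groth.Statements.S15791
import Mathlib.RingTheory.Length
import Mathlib.RingTheory.SimpleModule.Basic
import Mathlib.RingTheory.Ideal.Operations
import Mathlib.Tactic

set_option autoImplicit false
universe u v
open WildQuot

namespace Groth.Agent.S15791

section
variable {R : Type*} [Ring R] {M N P : Type*} [AddCommGroup M] [Module R M]
  [AddCommGroup N] [Module R N] [AddCommGroup P] [Module R P]

lemma length_le_add_of_exact (f : N →ₗ[R] M) (g : M →ₗ[R] P) (hg : Function.Surjective g)
    (H : Function.Exact f g) : Module.length R M ≤ Module.length R N + Module.length R P := by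
  rw [Module.length_eq_add_of_exact (LinearMap.ker g).subtype g (Submodule.subtype_injective _) hg
    (LinearMap.exact_subtype_ker_map g)]
  gcongr
  have hker : LinearMap.ker g = LinearMap.range f := (LinearMap.exact_iff.mp H)
  rw [hker]
  exact Module.length_le_of_surjective f.rangeRestrict f.surjective_rangeRestrict
end

section
variable {A : Type u} [CommRing A]

lemma length_quot_mul_le (a b : A) (J : Ideal A) :
    Module.length A (A ⧸ (Ideal.span {a * b} ⊔ J)) ≤
      Module.length A (A ⧸ (Ideal.span {a} ⊔ J)) + Module.length A (A ⧸ (Ideal.span {b} ⊔ J)) := by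
  set Iab := Ideal.span {a * b} ⊔ J
  set Ia := Ideal.span {a} ⊔ J
  set Ib := Ideal.span {b} ⊔ J
  have hab_b : Iab ≤ Ib := by
    apply sup_le _ le_sup_right
    rw [Ideal.span_le, Set.singleton_subset_iff]
    exact le_sup_left (a := Ideal.span {b}) (Ideal.mem_span_singleton.mpr ⟨a, mul_comm a b⟩)
  let g : (A ⧸ Iab) →ₗ[A] (A ⧸ Ib) := Submodule.factor hab_b
  have hg : Function.Surjective g := Submodule.factor_surjective hab_b
  let f : (A ⧸ Ia) →ₗ[A] (A ⧸ Iab) :=
    Submodule.liftQ Ia ((Submodule.mkQ Iab).comp (LinearMap.mulLeft A b)) (by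
      intro x hx
      rw [LinearMap.mem_ker, LinearMap.comp_apply, Submodule.mkQ_apply, Submodule.Quotient.mk_eq_zero]
      show b * x ∈ Iab
      obtain ⟨y, hy, z, hz, rfl⟩ := Submodule.mem_sup.mp hx
      obtain ⟨c, rfl⟩ := Ideal.mem_span_singleton'.mp hy
      rw [mul_add]
      refine Ideal.add_mem _ ?_ ?_
      · apply le_sup_left (a := Ideal.span {a * b})
        exact Ideal.mem_span_singleton.mpr ⟨c, by ring⟩
      · exact le_sup_right (a := Ideal.span {a * b}) (J.mul_mem_left b hz))
  have H : Function.Exact f g := by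
    rw [LinearMap.exact_iff]
    apply le_antisymm
    · intro x hx
      obtain ⟨x, rfl⟩ := Submodule.mkQ_surjective _ x
      rw [LinearMap.mem_ker] at hx
      have hx' : x ∈ Ib := by
        have : g (Submodule.mkQ Iab x) = Submodule.mkQ Ib x := rfl
        rw [this, Submodule.mkQ_apply, Submodule.Quotient.mk_eq_zero] at hx
        exact hx
      obtain ⟨y, hy, z, hz, rfl⟩ := Submodule.mem_sup.mp hx'
      obtain ⟨c, rfl⟩ := Ideal.mem_span_singleton'.mp hy
      refine ⟨Submodule.mkQ Ia c, ?_⟩
      show Submodule.mkQ Iab (b * c) = Submodule.mkQ Iab (c * b + z)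
      rw [Submodule.mkQ_apply, Submodule.mkQ_apply, Submodule.Quotient.eq]
      have : b * c - (c * b + z) = -z := by ring
      rw [this]
      exact Iab.neg_mem (le_sup_right (a := Ideal.span {a * b}) hz)
    · rintro _ ⟨x, rfl⟩
      obtain ⟨x, rfl⟩ := Submodule.mkQ_surjective _ x
      rw [LinearMap.mem_ker]
      show Submodule.mkQ Ib (b * x) = 0
      rw [Submodule.mkQ_apply, Submodule.Quotient.mk_eq_zero]
      exact le_sup_left (a := Ideal.span {b}) (Ideal.mem_span_singleton.mpr ⟨x, rfl⟩)
  exact length_le_add_of_exact f g hg H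
end

section
variable {A : Type u} [CommRing A]

lemma length_quot_prod_le {ι : Type*} (T : Finset ι) (w : ι → A) (J : Ideal A) (c : ℕ∞)
    (hc : ∀ σ ∈ T, Module.length A (A ⧸ (Ideal.span {w σ} ⊔ J)) ≤ c) :
    Module.length A (A ⧸ (Ideal.span {∏ σ ∈ T, w σ} ⊔ J)) ≤ (T.card : ℕ∞) * c := by
  classical
  induction T using Finset.induction_on with
  | empty =>
    have : Ideal.span {∏ σ ∈ (∅ : Finset ι), w σ} ⊔ J = ⊤ := by
      rw [Finset.prod_empty, Ideal.span_singleton_one, top_sup_eq]
    have hsub : Subsingleton (A ⧸ (Ideal.span {∏ σ ∈ (∅ : Finset ι), w σ} ⊔ J)) := by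
      rw [this]; exact Submodule.Quotient.subsingleton_iff.mpr rfl
    rw [Module.length_eq_zero]
    exact zero_le
  | insert σ₀ T hσ₀ ih =>
    rw [Finset.prod_insert hσ₀, Finset.card_insert_of_notMem hσ₀]
    refine (length_quot_mul_le (w σ₀) (∏ σ ∈ T, w σ) J).trans ?_
    have h1 := hc σ₀ (Finset.mem_insert_self _ _)
    have h2 := ih (fun σ hσ => hc σ (Finset.mem_insert_of_mem hσ))
    calc _ ≤ c + (T.card : ℕ∞) * c := add_le_add h1 h2
      _ = ((T.card + 1 : ℕ) : ℕ∞) * c := by push_cast; ring

lemma span_range_eq_sup {ι : Type*} (f : ι → A) (i₀ : ι) :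
    Ideal.span (Set.range f) = Ideal.span {f i₀} ⊔ Ideal.span (f '' {i | i ≠ i₀}) := by
  rw [← Ideal.span_union]
  congr 1
  ext x
  constructor
  · rintro ⟨i, rfl⟩
    by_cases h : i = i₀
    · left; rw [h]; rfl
    · right; exact ⟨i, h, rfl⟩
  · rintro (h | ⟨i, -, rfl⟩)
    · exact ⟨i₀, h.symm⟩
    · exact ⟨i, rfl⟩
end

section
variable (A : Type u) [CommRing A] [IsLocalRing A]
    (G : Type v) [Group G] [Fintype G] [MulSemiringAction G A]
    (n : ℕ) (u : Fin n → A)
    (hu : ∀ τ : Fin n → G,
      Ideal.span (Set.range fun i => τ i • u i) = IsLocalRing.maximalIdeal A)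

include hu in
lemma claim (F : Finset (Fin n)) : ∀ S : Fin n → Finset G, (∀ i ∉ F, ∃ τ, S i = {τ}) →
    Module.length A (A ⧸ Ideal.span (Set.range fun i => ∏ σ ∈ S i, σ • u i)) ≤
      ((∏ i ∈ F, (S i).card : ℕ) : ℕ∞) := by
  classical
  induction F using Finset.induction_on with
  | empty =>
    intro S hS
    have : ∀ i, ∃ τ, S i = {τ} := fun i => hS i (Finset.notMem_empty i)
    choose τ hτ using this
    have h1 : (fun i => ∏ σ ∈ S i, σ • u i) = fun i => τ i • u i := by
      funext i; rw [hτ i, Finset.prod_singleton]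
    rw [h1, hu τ, Finset.prod_empty]
    have : IsSimpleModule A (A ⧸ IsLocalRing.maximalIdeal A) := by
      rw [isSimpleModule_iff_isCoatom]
      exact (Ideal.isMaximal_def.mp inferInstance)
    rw [Module.length_eq_one]
    norm_num
  | insert i₀ F hi₀ ih =>
    intro S hS
    rw [span_range_eq_sup _ i₀]
    set J := Ideal.span ((fun i => ∏ σ ∈ S i, σ • u i) '' {i | i ≠ i₀}) with hJ
    have key : ∀ σ ∈ S i₀, Module.length A (A ⧸ (Ideal.span {σ • u i₀} ⊔ J)) ≤
        ((∏ i ∈ F, (S i).card : ℕ) : ℕ∞) := by
      intro σ _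
      let S' := Function.update S i₀ {σ}
      have hS' : ∀ i ∉ F, ∃ τ, S' i = {τ} := by
        intro i hi
        by_cases h : i = i₀
        · subst h; exact ⟨σ, by simp [S']⟩
        · have : i ∉ insert i₀ F := by simp [h, hi]
          obtain ⟨τ, hτ⟩ := hS i this
          exact ⟨τ, by simp [S', h, hτ]⟩
      have := ih S' hS'
      rw [span_range_eq_sup _ i₀] at this
      have e1 : (∏ σ' ∈ S' i₀, σ' • u i₀) = σ • u i₀ := by simp [S']
      have e2 : (fun i => ∏ σ ∈ S' i, σ • u i) '' {i | i ≠ i₀} =
          (fun i => ∏ σ ∈ S i, σ • u i) '' {i | i ≠ i₀} := by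
        apply Set.image_congr
        intro i hi
        have : i ≠ i₀ := hi
        simp [S', this]
      have e3 : ∏ i ∈ F, (S' i).card = ∏ i ∈ F, (S i).card := by
        apply Finset.prod_congr rfl
        intro i hi
        have : i ≠ i₀ := fun h => hi₀ (h ▸ hi)
        simp [S', this]
      rw [e1, e2, e3] at this
      exact this
    have := length_quot_prod_le (S i₀) (fun σ => σ • u i₀) J _ key
    rw [Finset.prod_insert hi₀]
    push_cast at this ⊢
    exact this

theorem main_bound
    (hu : ∀ τ : Fin n → G,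
      Ideal.span (Set.range fun i => τ i • u i) = IsLocalRing.maximalIdeal A) :
    Module.length A (A ⧸ Ideal.span (Set.range fun i => ∏ σ : G, σ • u i)) ≤
      (Fintype.card G ^ n : ℕ) := by
  have := claim A G n u hu Finset.univ (fun _ => Finset.univ) (fun i hi => absurd (Finset.mem_univ i) hi)
  simpa using this
end


/-- Let `A` be a regular local ring of Krull dimension `n` with maximal ideal `m`, let a finite group
`G` of order `g` act on `A` by ring automorphisms, and let `u_1, …, u_n` be an admissible regular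
system of parameters: for every choice `σ_1, …, σ_n ∈ G`, the elements `σ_1 u_1, …, σ_n u_n`
generate `m`. With `x_i = ∏_{σ ∈ G} σ u_i` the norms, the length of `A / (x_1, …, x_n)` is at most
`g ^ n`. (The published statement is for a complete regular local ring containing a `G`-fixed field
of representatives and asserts that the length equals `g ^ n`; this row states the upper bound for
any regular local ring.) -/
theorem result
    (A : Type u) [CommRing A] [IsRegularLocalRing A]
    (G : Type v) [Group G] [Fintype G] [MulSemiringAction G A]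
    (n : ℕ) (hn : ringKrullDim A = n) (u : Fin n → A)
    (hu : ∀ τ : Fin n → G,
      Ideal.span (Set.range fun i => τ i • u i) = IsLocalRing.maximalIdeal A) :
    Module.length A (A ⧸ Ideal.span (Set.range fun i => ∏ σ : G, σ • u i)) ≤
      (Fintype.card G ^ n : ℕ) := by
  exact main_bound A G n u hu

end Groth.Agent.S15791
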