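import Groth.Statements.S1581
import Mathlib.AlgebraicGeometry.Morphisms.FlatDescent
import Mathlib.AlgebraicGeometry.Morphisms.LocalFlatDescent
import Mathlib.AlgebraicGeometry.Morphisms.Immersion
-- import your own Groth.Agent.* helpers here

set_option autoImplicit false
universe u
open CategoryTheory CategoryTheory.Limits AlgebraicGeometry
open Variety

namespace Groth.Agent.S1581

/-- Let X be a scheme over a field k and K a field extension of k. If X_K is proper over K then X is
proper over k. -/
theorem result (k : Type u) [Field k] (X : Scheme.{u}) [X.Over (Spec (CommRingCat.of k))] (K : Type u) [Field K] [Algebra k K]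
    [IsProper (Curv2.bcSnd k X K)] : IsProper (X ↘ (Spec (CommRingCat.of k))) := by
  obtain ⟨f, hf⟩ : ∃ f, f = (X ↘ (Spec (CommRingCat.of k))) := ⟨_, rfl⟩
  obtain ⟨p, hp⟩ : ∃ p, p = Spec.map (CommRingCat.ofHom (algebraMap k K)) := ⟨_, rfl⟩
  have hsnd : IsProper (pullback.snd f p) := by subst hf hp; assumption
  rw [← hf]
  have hQ : (@Surjective ⊓ @Flat ⊓ @QuasiCompact : MorphismProperty Scheme.{u}) p := by
    subst hp
    refine ⟨⟨?_, ?_⟩, inferInstance⟩
    · constructor
      intro x
      have hne : Nonempty (PrimeSpectrum K) := inferInstance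
      obtain ⟨y⟩ := hne
      refine ⟨y, ?_⟩
      exact Subsingleton.elim (α := PrimeSpectrum k) _ _
    · rw [HasRingHomProperty.Spec_iff (P := @Flat)]
      exact RingHom.flat_algebraMap_iff.mpr inferInstance
  have h1 : UniversallyClosed f :=
    MorphismProperty.of_pullback_snd_of_descendsAlong (P := @UniversallyClosed)
      (Q := @Surjective ⊓ @Flat ⊓ @QuasiCompact) hQ inferInstance
  have h2 : LocallyOfFiniteType f :=
    MorphismProperty.of_pullback_snd_of_descendsAlong (P := @LocallyOfFiniteType)
      (Q := @Surjective ⊓ @Flat ⊓ @QuasiCompact) hQ inferInstance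
  have h3 : UniversallyClosed (pullback.diagonal f) := by
    have : (MorphismProperty.diagonal @UniversallyClosed) (pullback.snd f p) := by
      change UniversallyClosed (pullback.diagonal (pullback.snd f p))
      infer_instance
    exact MorphismProperty.of_pullback_snd_of_descendsAlong
      (P := MorphismProperty.diagonal @UniversallyClosed)
      (Q := @Surjective ⊓ @Flat ⊓ @QuasiCompact) hQ this
  have h4 : IsSeparated f := by
    constructor
    exact IsClosedImmersion.of_isPreimmersion _ (pullback.diagonal f).isClosedMap.isClosed_range
  exact { }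

end Groth.Agent.S1581
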