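import Groth.Statements.S15811
import Mathlib

set_option autoImplicit false
universe u
open WildQuot

namespace Groth.Agent.S15811

/-- Let `R` be an integrally closed domain of prime characteristic `p` with fraction field `K`, and `α ∈
R`. Then `α ≠ 0` and the polynomial `T ^ p - α T` splits into linear factors over `K` — which says
that the finite flat group scheme `Spec R[T]/(T ^ p - α T)` of order `p` has constant generic fibre
(its `p` roots are then distinct) — if and only if `α = a ^ (p-1)` for some nonzero `a ∈ R`. (The
published statement is that the generic fibre of the finite flat group scheme of order `p` with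
parameters `α, β` satisfying `α β = 0`, whose underlying scheme is `Spec R[T]/(T ^ p - α T)`, is
constant if and only if `β = 0` and `α` is the `(p-1)`-th power of a nonzero element of `R`; this
row states the polynomial condition, in which `α ≠ 0` already forces `β = 0` over a domain.) -/
theorem result
    (p : ℕ) [Fact p.Prime] (R : Type u) [CommRing R] [IsDomain R] [IsIntegrallyClosed R]
    [CharP R p] (α : R) :
    (α ≠ 0 ∧ (Polynomial.map (algebraMap R (FractionRing R))
        (Polynomial.X ^ p - Polynomial.C α * Polynomial.X)).Splits) ↔
      ∃ a : R, a ≠ 0 ∧ α = a ^ (p - 1) := by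
  classical
  have hp : p.Prime := Fact.out
  have hp1 : 1 ≤ p := hp.one_le
  have hp2 : 0 < p - 1 := by have := hp.one_lt; omega
  have hinj : Function.Injective (algebraMap R (FractionRing R)) :=
    IsFractionRing.injective R (FractionRing R)
  constructor
  · rintro ⟨hα, hs⟩
    have hfac : (Polynomial.map (algebraMap R (FractionRing R))
        (Polynomial.X ^ p - Polynomial.C α * Polynomial.X)) =
        Polynomial.X * (Polynomial.X ^ (p - 1) -
          Polynomial.C (algebraMap R (FractionRing R) α)) := by
      have hX : (Polynomial.X : Polynomial (FractionRing R)) ^ p =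
          Polynomial.X * Polynomial.X ^ (p - 1) := by
        rw [← pow_succ', Nat.sub_add_cancel hp1]
      simp only [Polynomial.map_sub, Polynomial.map_mul, Polynomial.map_pow, Polynomial.map_X,
        Polynomial.map_C]
      rw [hX]
      ring
    rw [hfac, Polynomial.splits_X_mul] at hs
    have hdeg : (Polynomial.X ^ (p - 1) -
        Polynomial.C (algebraMap R (FractionRing R) α)).degree ≠ 0 := by
      rw [Polynomial.degree_X_pow_sub_C hp2]
      exact_mod_cast hp2.ne'
    obtain ⟨b, hb⟩ := hs.exists_eval_eq_zero hdeg
    simp only [Polynomial.eval_sub, Polynomial.eval_pow, Polynomial.eval_X, Polynomial.eval_C,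
      sub_eq_zero] at hb
    have hint : IsIntegral R b := by
      refine ⟨Polynomial.X ^ (p - 1) - Polynomial.C α, Polynomial.monic_X_pow_sub_C α hp2.ne', ?_⟩
      simp [hb]
    obtain ⟨a, ha⟩ := IsIntegrallyClosed.isIntegral_iff.mp hint
    refine ⟨a, ?_, ?_⟩
    · rintro rfl
      apply hα
      apply hinj
      rw [← hb, ← ha, map_zero, zero_pow hp2.ne']
    · apply hinj
      rw [map_pow, ha, hb]
  · rintro ⟨a, ha0, rfl⟩
    refine ⟨pow_ne_zero _ ha0, ?_⟩
    have : CharP (FractionRing R) p := inferInstance
    let _ : Algebra (ZMod p) (FractionRing R) := ZMod.algebra _ p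
    have h1 : (Polynomial.X ^ p - Polynomial.X : Polynomial (ZMod p)).Splits := by
      have := FiniteField.splits_X_pow_card_sub_X (p := p) (K := ZMod p)
      simpa [ZMod.card] using this
    have h2 : (Polynomial.X ^ p - Polynomial.X : Polynomial (FractionRing R)).Splits := by
      have := h1.map (algebraMap (ZMod p) (FractionRing R))
      simpa using this
    set a' : FractionRing R := algebraMap R (FractionRing R) a with ha'
    have ha'0 : a' ≠ 0 := by
      intro h
      apply ha0
      apply hinj
      rw [map_zero]; exact h
    have h3 := (h2.comp_of_natDegree_le_one (g := Polynomial.C a'⁻¹ * Polynomial.X)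
      ((Polynomial.natDegree_C_mul_le _ _).trans Polynomial.natDegree_X_le)).C_mul (a' ^ p)
    have heq : Polynomial.map (algebraMap R (FractionRing R))
        (Polynomial.X ^ p - Polynomial.C (a ^ (p - 1)) * Polynomial.X) =
        Polynomial.C (a' ^ p) * (Polynomial.X ^ p - Polynomial.X :
          Polynomial (FractionRing R)).comp (Polynomial.C a'⁻¹ * Polynomial.X) := by
      simp only [Polynomial.map_sub, Polynomial.map_mul, Polynomial.map_pow, Polynomial.map_X,
        Polynomial.map_C, Polynomial.sub_comp, Polynomial.pow_comp, Polynomial.X_comp, map_pow]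
      have hc1 : Polynomial.C a' ^ p * Polynomial.C a'⁻¹ ^ p = 1 := by
        rw [← mul_pow, ← Polynomial.C_mul, mul_inv_cancel₀ ha'0, Polynomial.C_1, one_pow]
      have hc2 : Polynomial.C a' ^ p * Polynomial.C a'⁻¹ = Polynomial.C a' ^ (p - 1) := by
        have : Polynomial.C a' ^ p = Polynomial.C a' ^ (p - 1) * Polynomial.C a' := by
          rw [← pow_succ, Nat.sub_add_cancel hp1]
        rw [this, mul_assoc, ← Polynomial.C_mul, mul_inv_cancel₀ ha'0, Polynomial.C_1, mul_one]
      rw [mul_pow, mul_sub, ← mul_assoc, ← mul_assoc, hc1, one_mul, hc2]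
    rw [heq]
    exact h3

end Groth.Agent.S15811
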