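import Groth.Statements.S15813
import Mathlib
import Groth.Agent.Lib.Helper8.WildPS2

set_option autoImplicit false
universe u
open WildQuot



namespace Groth.Agent.S15813

/-- Let `k` be a field of characteristic `p > 0`, `A = k[[u]]`, and `σ` a `k`-algebra automorphism of
`A` of order exactly `p`, with ramification break `m`: `σ u - u` has order `m + 1`. Let `x = ∏_{i <
p} σ^i u` be the norm of `u`, let `f ∈ A` be `σ`-invariant with nonzero constant term (a unit of the
invariant ring `k[[x]]`), let `μ > 0` be prime to `p`, and let `z ∈ Frac(A)` satisfy the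
Artin–Schreier equation `z ^ p - z = f / x ^ μ`. Then `μ = m`. (The published statement also records
that `Frac(A) = Frac(A^σ)(z)`; that follows from the equation since `p` does not divide `μ`, so it
is not repeated as a hypothesis.) -/
theorem result
    (p : ℕ) [Fact p.Prime] (k : Type u) [Field k] [CharP k p]
    (σ : PowerSeries k ≃ₐ[k] PowerSeries k) (hσp : σ ^ p = 1) (hσ1 : σ ≠ 1)
    (m : ℕ) (hm : (σ PowerSeries.X - PowerSeries.X).order = ((m + 1 : ℕ) : ℕ∞))
    (f : PowerSeries k) (hfσ : σ f = f) (hf0 : PowerSeries.constantCoeff f ≠ 0)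
    (μ : ℕ) (hμ : 0 < μ) (hpμ : ¬ p ∣ μ)
    (z : FractionRing (PowerSeries k))
    (hz : z ^ p - z = algebraMap (PowerSeries k) (FractionRing (PowerSeries k)) f /
      algebraMap (PowerSeries k) (FractionRing (PowerSeries k))
        (∏ i ∈ Finset.range p, (σ ^ i) PowerSeries.X) ^ μ) :
    μ = m := by
  classical
  have hp2 := (Fact.out : p.Prime).two_le
  set x : PowerSeries k := Groth.Agent.Lib.Helper8.WildPS.nrm σ p with hx
  have hxdef : (∏ i ∈ Finset.range p, (σ ^ i) PowerSeries.X) = x := rfl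
  rw [hxdef] at hz
  have hxne : x ≠ 0 := Groth.Agent.Lib.Helper8.WildPS.nrm_ne_zero σ p
  obtain ⟨a, b, hb, hab⟩ := IsFractionRing.div_surjective (A := PowerSeries k) z
  have hbne : b ≠ 0 := nonZeroDivisors.ne_zero hb
  obtain ⟨β, hβ⟩ := Groth.Agent.Lib.Helper8.WildPS.exists_order_eq hbne
  have hdvd : b ∣ x ^ β := by
    apply Groth.Agent.Lib.Helper8.WildPS.dvd_of_order_le hbne
    rw [Groth.Agent.Lib.Helper8.WildPS.order_nrm_pow, hβ]
    exact_mod_cast Nat.le_mul_of_pos_left β (by omega : 0 < p)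
  obtain ⟨b', hb'⟩ := hdvd
  have hinj : Function.Injective (algebraMap (PowerSeries k) (FractionRing (PowerSeries k))) :=
    IsFractionRing.injective _ _
  have hιx : algebraMap (PowerSeries k) (FractionRing (PowerSeries k)) x ≠ 0 :=
    (map_ne_zero_iff _ hinj).mpr hxne
  have hιb : algebraMap (PowerSeries k) (FractionRing (PowerSeries k)) b ≠ 0 :=
    (map_ne_zero_iff _ hinj).mpr hbne
  have hzy : z = algebraMap (PowerSeries k) (FractionRing (PowerSeries k)) (a * b') /
      algebraMap (PowerSeries k) (FractionRing (PowerSeries k)) x ^ β := by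
    rw [← hab, eq_div_iff (pow_ne_zero _ hιx), ← map_pow, hb', map_mul, map_mul]
    field_simp
  apply Groth.Agent.Lib.Helper8.WildPS.mu_eq_m σ hm p hσp f hfσ hf0 μ hμ hpμ (a * b') β
  apply hinj
  rw [← hx]
  rw [hzy] at hz
  simp only [map_sub, map_mul, map_pow] at hz ⊢
  generalize algebraMap (PowerSeries k) (FractionRing (PowerSeries k)) a *
    algebraMap (PowerSeries k) (FractionRing (PowerSeries k)) b' = Y at hz ⊢
  generalize algebraMap (PowerSeries k) (FractionRing (PowerSeries k)) x = Xx at hz hιx ⊢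
  generalize algebraMap (PowerSeries k) (FractionRing (PowerSeries k)) f = F at hz ⊢
  have e1 : Xx ^ (p * β) = Xx ^ ((p - 1) * β) * Xx ^ β := by
    rw [← pow_add]
    congr 1
    have hpp : p - 1 + 1 = p := by omega
    calc p * β = (p - 1 + 1) * β := by rw [hpp]
      _ = (p - 1) * β + β := by ring
  have e2 : (Xx ^ β) ^ p = Xx ^ (p * β) := by rw [← pow_mul, mul_comm]
  have hXβ : Xx ^ β ≠ 0 := pow_ne_zero _ hιx
  have hXμ : Xx ^ μ ≠ 0 := pow_ne_zero _ hιx
  have hXpβ : Xx ^ (p * β) ≠ 0 := pow_ne_zero _ hιx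
  rw [div_pow, e2] at hz
  have h1 : F = (Y ^ p / Xx ^ (p * β) - Y / Xx ^ β) * Xx ^ μ := by
    rw [hz]; field_simp
  rw [h1, pow_add]
  have h2 : Y ^ p / Xx ^ (p * β) * Xx ^ (p * β) = Y ^ p := div_mul_cancel₀ _ hXpβ
  have h3 : Y / Xx ^ β * Xx ^ β = Y := div_mul_cancel₀ _ hXβ
  calc Y ^ p * Xx ^ μ - Y * (Xx ^ ((p - 1) * β) * Xx ^ μ)
      = (Y ^ p / Xx ^ (p * β) * Xx ^ (p * β)) * Xx ^ μ
        - (Y / Xx ^ β * Xx ^ β) * (Xx ^ ((p - 1) * β) * Xx ^ μ) := by rw [h2, h3]
    _ = (Y ^ p / Xx ^ (p * β) - Y / Xx ^ β) * Xx ^ μ * Xx ^ (p * β) := by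
      rw [e1]; ring

end Groth.Agent.S15813
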