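import Groth.Statements.S15816
import Groth.Agent.Lib.Helper2.KoszulScaleH

set_option autoImplicit false
universe u
open CategoryTheory
open scoped TensorProduct
open Koszul

namespace Groth.Agent.S15816
section Aux

variable {A : Type u} [CommRing A] {M : Type u} [AddCommGroup M] [Module A M]

lemma comap_subtype_smul (I : Ideal A) (Z : Submodule A M) :
    Submodule.comap Z.subtype (I • Z) = I • (⊤ : Submodule A Z) := by
  have h : (I • (⊤ : Submodule A Z)).map Z.subtype = I • Z := by
    rw [Submodule.map_smul'', Submodule.map_subtype_top]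
  rw [← h, Submodule.comap_map_eq_of_injective Z.subtype_injective]

/-- `Z / x Z ≃ Z ⊗ A/(x)` with `x Z` computed in the ambient module -/
noncomputable def quotEquivTensor (I : Ideal A) (Z B : Submodule A M) (hB : B = Z) :
    (↥Z ⧸ Submodule.comap Z.subtype (I • B)) ≃ₗ[A] (↥Z ⊗[A] (A ⧸ I)) :=
  (Submodule.quotEquivOfEq _ _ (by rw [hB, comap_subtype_smul])) ≪≫ₗ
    (TensorProduct.tensorQuotEquivQuotSMul (↥Z) I).symm

end Aux


/-- Let A be a commutative ring, f = (f_1, …, f_n) a sequence in A that is regular in the weak sense
(f_1 is a non-zero-divisor of A and each f_i is a non-zero-divisor modulo (f_1, …, f_{i-1})), with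
Koszul complex K(f) and differentials ∂^q, and let x be a non-zero-divisor of A. Then for every
integer q < 0 the q-th cohomology module of the Koszul complex of (x f_1, …, x f_n) is isomorphic as
an A-module to Ker(∂^q) ⊗_A A/(x) (existence of an A-linear isomorphism; mapping-cone model of the
Koszul complex). -/
theorem result (A : Type u) [CommRing A] (l : List A)
    (hl : RingTheory.Sequence.IsWeaklyRegular A l) (x : A) (hx : x ∈ nonZeroDivisors A) (q : ℤ) (hq : q < 0) :
    Nonempty ((Koszul.koszul A (l.map (fun f => x * f))).homology q ≅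
      ModuleCat.of A (↥(LinearMap.ker ((Koszul.koszul A l).d q (q + 1)).hom) ⊗[A] (A ⧸ Ideal.span {x}))) := by
  classical
  obtain ⟨e⟩ := Groth.Agent.Lib.Helper2.KoszulScale.nonempty_homology_koszul_mul_iso l x hx q
  have hz : CategoryTheory.Limits.IsZero ((Koszul.koszul A l).homology q) := by
    rw [Groth.Agent.Lib.Helper11.Kz.koszul_eq]
    exact Groth.Agent.Lib.Helper11.Kz.koszulRegular_of_isWeaklyRegular l hl q hq.ne
  have hex : (Koszul.koszul A l).ExactAt q := by
    rw [HomologicalComplex.exactAt_iff_isZero_homology]
    exact hz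
  rw [HomologicalComplex.exactAt_iff' _ (q - 1) q (q + 1) (by simp) (by simp),
    ShortComplex.moduleCat_exact_iff_range_eq_ker] at hex
  exact ⟨e ≪≫ (quotEquivTensor (Ideal.span {x}) _ _ hex).toModuleIso⟩

end Groth.Agent.S15816
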