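import Groth.Statements.S15817
import Mathlib.Algebra.Category.ModuleCat.Limits
import Mathlib.CategoryTheory.Limits.Types.Pullbacks
import Mathlib.Tactic
-- import your own Groth.Agent.* helpers here

set_option autoImplicit false
universe u v
open CategoryTheory
open CAlg

namespace Groth.Agent.S15817

/-- Let A be a commutative ring, M an A-module and P, Q submodules of M. Then the commuting square of
quotient projections with corners M/(P ∩ Q), M/P, M/Q and M/(P + Q) is cartesian in the category of
A-modules: M/(P ∩ Q) is the fibre product of M/P and M/Q over M/(P + Q). -/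
theorem result (A : Type u) [CommRing A] (M : Type v) [AddCommGroup M] [Module A M]
    (P Q : Submodule A M) :
    IsPullback (ModuleCat.ofHom (Submodule.factor (inf_le_left : P ⊓ Q ≤ P)))
      (ModuleCat.ofHom (Submodule.factor (inf_le_right : P ⊓ Q ≤ Q)))
      (ModuleCat.ofHom (Submodule.factor (le_sup_left : P ≤ P ⊔ Q)))
      (ModuleCat.ofHom (Submodule.factor (le_sup_right : Q ≤ P ⊔ Q))) := by
  apply IsPullback.of_map_of_faithful (forget (ModuleCat.{v} A))
  rw [Limits.Types.isPullback_iff]
  refine ⟨?_, ?_, ?_⟩
  · ext x
    induction x using Submodule.Quotient.induction_on with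
    | H m => rfl
  · rintro x y ⟨h1, h2⟩
    induction x using Submodule.Quotient.induction_on with
    | H m =>
    induction y using Submodule.Quotient.induction_on with
    | H m' =>
    have h1' : (Submodule.Quotient.mk m : M ⧸ P) = Submodule.Quotient.mk m' := h1
    have h2' : (Submodule.Quotient.mk m : M ⧸ Q) = Submodule.Quotient.mk m' := h2
    rw [Submodule.Quotient.eq] at h1' h2' ⊢
    exact ⟨h1', h2'⟩
  · intro x₂ x₃ h
    induction x₂ using Submodule.Quotient.induction_on with
    | H m₂ =>
    induction x₃ using Submodule.Quotient.induction_on with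
    | H m₃ =>
    have h' : (Submodule.Quotient.mk m₂ : M ⧸ (P ⊔ Q)) = Submodule.Quotient.mk m₃ := h
    rw [Submodule.Quotient.eq] at h'
    obtain ⟨p, hp, q, hq, hpq⟩ := Submodule.mem_sup.1 h'
    refine ⟨Submodule.Quotient.mk (m₂ - p), ?_, ?_⟩
    · change (Submodule.Quotient.mk (m₂ - p) : M ⧸ P) = Submodule.Quotient.mk m₂
      rw [Submodule.Quotient.eq]
      simpa using P.neg_mem hp
    · change (Submodule.Quotient.mk (m₂ - p) : M ⧸ Q) = Submodule.Quotient.mk m₃
      rw [Submodule.Quotient.eq]
      have : m₂ - p - m₃ = q := by
        have e : m₂ - p - m₃ = (m₂ - m₃) - p := by abel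
        rw [e, ← hpq]; abel
      rw [this]
      exact hq

end Groth.Agent.S15817
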