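import Groth.Statements.S15818
import Mathlib

set_option autoImplicit false
universe u
open CategoryTheory
open Koszul

namespace Groth.Agent.S15818
section Aux

lemma isPullback_of_linear {A : Type u} [CommRing A] {X₁ X₂ X₃ X₄ : Type u}
    [AddCommGroup X₁] [Module A X₁] [AddCommGroup X₂] [Module A X₂]
    [AddCommGroup X₃] [Module A X₃] [AddCommGroup X₄] [Module A X₄]
    (t : X₁ →ₗ[A] X₂) (l : X₁ →ₗ[A] X₃) (r : X₂ →ₗ[A] X₄) (b : X₃ →ₗ[A] X₄)
    (w : ∀ x, r (t x) = b (l x)) (hinj : ∀ x : X₁, t x = 0 → l x = 0 → x = 0)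
    (hsurj : ∀ (x₂ : X₂) (x₃ : X₃), r x₂ = b x₃ → ∃ x₁ : X₁, t x₁ = x₂ ∧ l x₁ = x₃) :
    IsPullback (ModuleCat.ofHom t) (ModuleCat.ofHom l) (ModuleCat.ofHom r) (ModuleCat.ofHom b) := by
  have w' : ModuleCat.ofHom t ≫ ModuleCat.ofHom r = ModuleCat.ofHom l ≫ ModuleCat.ofHom b := by
    ext x
    exact w x
  apply IsPullback.of_map (forget (ModuleCat.{u} A)) w'
  rw [CategoryTheory.Limits.Types.isPullback_iff]
  refine ⟨?_, ?_, ?_⟩
  · rw [← Functor.map_comp, ← Functor.map_comp, w']
  · rintro x y ⟨h1, h2⟩
    have h1' : t x = t y := h1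
    have h2' : l x = l y := h2
    have := hinj (x - y) (by rw [map_sub, h1', sub_self]) (by rw [map_sub, h2', sub_self])
    exact sub_eq_zero.mp this
  · intro x₂ x₃ h
    exact hsurj x₂ x₃ h

variable {A : Type u} [CommRing A] {M : Type u} [AddCommGroup M] [Module A M]

lemma factor_mk' {N N' : Submodule A M} (H : N ≤ N') (z : M) :
    Submodule.factor H (Submodule.Quotient.mk z) = Submodule.Quotient.mk z := rfl

lemma pullback_quot (Z B : Submodule A M) (hBZ : B ≤ Z) (x : A)
    (hxH : IsSMulRegular (↥Z ⧸ Submodule.comap Z.subtype B) x) :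
    IsPullback
      (ModuleCat.ofHom (Submodule.factor (Submodule.comap_mono (Submodule.smul_mono le_rfl hBZ) :
        Submodule.comap Z.subtype (Ideal.span {x} • B) ≤
          Submodule.comap Z.subtype (Ideal.span {x} • Z))))
      (ModuleCat.ofHom (Submodule.factor (Submodule.comap_mono (Submodule.smul_le_right) :
        Submodule.comap Z.subtype (Ideal.span {x} • B) ≤ Submodule.comap Z.subtype B)))
      (ModuleCat.ofHom (Submodule.factor (Submodule.comap_mono le_sup_right :
        Submodule.comap Z.subtype (Ideal.span {x} • Z) ≤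
          Submodule.comap Z.subtype (B ⊔ Ideal.span {x} • Z))))
      (ModuleCat.ofHom (Submodule.factor (Submodule.comap_mono le_sup_left :
        Submodule.comap Z.subtype B ≤ Submodule.comap Z.subtype (B ⊔ Ideal.span {x} • Z)))) := by
  apply isPullback_of_linear
  · intro z
    obtain ⟨z, rfl⟩ := Submodule.Quotient.mk_surjective _ z
    rfl
  · intro z h1 h2
    obtain ⟨z, rfl⟩ := Submodule.Quotient.mk_surjective _ z
    rw [factor_mk', Submodule.Quotient.mk_eq_zero] at h1 h2
    rw [Submodule.Quotient.mk_eq_zero]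
    change (z : M) ∈ Ideal.span {x} • Z at h1
    change (z : M) ∈ B at h2
    change (z : M) ∈ Ideal.span {x} • B
    rw [Submodule.ideal_span_singleton_smul, Submodule.mem_smul_pointwise_iff_exists] at h1 ⊢
    obtain ⟨z', hz', hzz⟩ := h1
    refine ⟨z', ?_, hzz⟩
    have h3 : x • (Submodule.Quotient.mk (⟨z', hz'⟩ : Z) : ↥Z ⧸ Submodule.comap Z.subtype B) =
        x • 0 := by
      rw [smul_zero, ← Submodule.Quotient.mk_smul, Submodule.Quotient.mk_eq_zero]
      change x • z' ∈ B
      rw [hzz]
      exact h2
    have h4 := hxH h3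
    rw [Submodule.Quotient.mk_eq_zero] at h4
    exact h4
  · intro x₂ x₃ h
    obtain ⟨z₁, rfl⟩ := Submodule.Quotient.mk_surjective _ x₂
    obtain ⟨z₂, rfl⟩ := Submodule.Quotient.mk_surjective _ x₃
    rw [factor_mk', factor_mk', Submodule.Quotient.eq] at h
    change ((z₁ : M) - (z₂ : M)) ∈ B ⊔ Ideal.span {x} • Z at h
    rw [Submodule.mem_sup] at h
    obtain ⟨b', hb', y, hy, hsum⟩ := h
    rw [Submodule.ideal_span_singleton_smul, Submodule.mem_smul_pointwise_iff_exists] at hy
    obtain ⟨z', hz', rfl⟩ := hy
    refine ⟨Submodule.Quotient.mk (z₁ - x • (⟨z', hz'⟩ : Z)), ?_, ?_⟩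
    · rw [factor_mk', Submodule.Quotient.eq]
      change ((z₁ : M) - x • z' - (z₁ : M)) ∈ Ideal.span {x} • Z
      rw [Submodule.ideal_span_singleton_smul, Submodule.mem_smul_pointwise_iff_exists]
      exact ⟨-z', Z.neg_mem hz', by rw [smul_neg]; abel⟩
    · rw [factor_mk', Submodule.Quotient.eq]
      change ((z₁ : M) - x • z' - (z₂ : M)) ∈ B
      have : (z₁ : M) - x • z' - (z₂ : M) = b' := by
        have : (z₁ : M) - x • z' - (z₂ : M) = ((z₁ : M) - (z₂ : M)) - x • z' := by abel
        rw [this, ← hsum]; abel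
      rw [this]
      exact hb'

end Aux


/-- Let A be a commutative ring, f = (f_1, …, f_n) a finite sequence in A with Koszul complex K = K(f)
(mapping-cone model) and differentials ∂, q an integer, Z = Ker(∂^q) and B = Im(∂^{q-1}), so B ⊆ Z
inside K^q (this inclusion is carried as the hypothesis hBZ). Let x be a non-zero-divisor of A which
moreover acts injectively on the cohomology module Z/B (for Noetherian A this says that x lies in no
associated prime of Z/B, which is how the published statement phrases it; the published argument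
uses exactly the injectivity). Then the commuting square of quotient projections with corners Z/xB
(top left; it is isomorphic to the q-th cohomology of the Koszul complex of (x f_1, …, x f_n)), Z/xZ
= Z ⊗ A/(x) (top right), Z/B (bottom left) and Z/(B + xZ) = (Z/B) ⊗ A/(x) (bottom right) is
cartesian in the category of A-modules. All four corners are written as quotients of Z by the
preimages of the submodules xB, xZ, B, B + xZ of K^q. -/
theorem result (A : Type u) [CommRing A] (l : List A) (q : ℤ)
    (K : CochainComplex (ModuleCat.{u} A) ℤ) (hK : K = Koszul.koszul A l)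
    (hBZ : LinearMap.range (K.d (q - 1) q).hom ≤ LinearMap.ker (K.d q (q + 1)).hom)
    (x : A) (hx : x ∈ nonZeroDivisors A)
    (hxH : IsSMulRegular (↥(LinearMap.ker (K.d q (q + 1)).hom) ⧸ Submodule.comap (LinearMap.ker (K.d q (q + 1)).hom).subtype (LinearMap.range (K.d (q - 1) q).hom)) x) :
    IsPullback
      (ModuleCat.ofHom (Submodule.factor (Submodule.comap_mono (Submodule.smul_mono le_rfl hBZ) :
        Submodule.comap (LinearMap.ker (K.d q (q + 1)).hom).subtype (Ideal.span {x} • LinearMap.range (K.d (q - 1) q).hom) ≤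
          Submodule.comap (LinearMap.ker (K.d q (q + 1)).hom).subtype (Ideal.span {x} • LinearMap.ker (K.d q (q + 1)).hom))))
      (ModuleCat.ofHom (Submodule.factor (Submodule.comap_mono (Submodule.smul_le_right) :
        Submodule.comap (LinearMap.ker (K.d q (q + 1)).hom).subtype (Ideal.span {x} • LinearMap.range (K.d (q - 1) q).hom) ≤
          Submodule.comap (LinearMap.ker (K.d q (q + 1)).hom).subtype (LinearMap.range (K.d (q - 1) q).hom))))
      (ModuleCat.ofHom (Submodule.factor (Submodule.comap_mono le_sup_right :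
        Submodule.comap (LinearMap.ker (K.d q (q + 1)).hom).subtype (Ideal.span {x} • LinearMap.ker (K.d q (q + 1)).hom) ≤
          Submodule.comap (LinearMap.ker (K.d q (q + 1)).hom).subtype (LinearMap.range (K.d (q - 1) q).hom ⊔ Ideal.span {x} • LinearMap.ker (K.d q (q + 1)).hom))))
      (ModuleCat.ofHom (Submodule.factor (Submodule.comap_mono le_sup_left :
        Submodule.comap (LinearMap.ker (K.d q (q + 1)).hom).subtype (LinearMap.range (K.d (q - 1) q).hom) ≤
          Submodule.comap (LinearMap.ker (K.d q (q + 1)).hom).subtype (LinearMap.range (K.d (q - 1) q).hom ⊔ Ideal.span {x} • LinearMap.ker (K.d q (q + 1)).hom)))) := by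
  classical
  exact pullback_quot _ _ hBZ x hxH

end Groth.Agent.S15818
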