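import Groth.Statements.S7604
import Groth.Agent.Lib.Helper1.FPS6

set_option autoImplicit false
universe u
open CategoryTheory CategoryTheory.Limits AlgebraicGeometry
open Variety

namespace Groth.Agent.S7604

/-- Let X and Y be schemes over a field k with Y reduced, and let x be a point of X at which X is
geometrically reduced. Then each point of X ×_k Y mapping to x has a reduced local ring. -/
theorem result (k : Type u) [Field k] (X : Scheme.{u}) [X.Over (Spec (CommRingCat.of k))] (Y : Scheme.{u}) [Y.Over (Spec (CommRingCat.of k))] [IsReduced Y]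
    (x : ↥X) (hx : Curv2.IsGeomReducedAt k X x) (z : ↥(pullback (X ↘ (Spec (CommRingCat.of k))) (Y ↘ (Spec (CommRingCat.of k)))))
    (hz : pullback.fst (X ↘ (Spec (CommRingCat.of k))) (Y ↘ (Spec (CommRingCat.of k))) z = x) :
    _root_.IsReduced ↥((pullback (X ↘ (Spec (CommRingCat.of k))) (Y ↘ (Spec (CommRingCat.of k)))).presheaf.stalk z) := by
  letI := Curv2.stalkAlgebra k X x
  haveI : Algebra.IsGeometricallyReduced k ↥(X.presheaf.stalk x) :=
    Groth.Agent.Lib.Helper1.FPS.isGeometricallyReduced_stalk_of_forall_purelyInseparable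
      k X x (fun k' _ _ _ _ x'' hx'' => hx k' x'' hx'')
  let iA : Spec (CommRingCat.of (X.presheaf.stalk x)) ⟶ X := X.fromSpecStalk x
  haveI : Flat iA := Groth.Agent.Lib.Helper10.FibreProductStalk.flat_fromSpecStalk X x
  haveI : IsPreimmersion iA := inferInstanceAs (IsPreimmersion (X.fromSpecStalk x))
  have hA : Spec.map (CommRingCat.ofHom (algebraMap k (X.presheaf.stalk x))) =
      iA ≫ (X ↘ Spec (CommRingCat.of k)) := Groth.Agent.Lib.Helper1.FPS.specMap_stalkMap k X x
  obtain ⟨B, _, _, iB, _, b, hB, hb⟩ := Groth.Agent.Lib.Helper1.FPS.exists_affine_chart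
    (Y ↘ Spec (CommRingCat.of k))
    ((pullback.snd (X ↘ Spec (CommRingCat.of k)) (Y ↘ Spec (CommRingCat.of k))).base z)
  obtain ⟨Q, -, -, ⟨e⟩⟩ := Groth.Agent.Lib.Helper1.FPS.exists_prime_stalk_equiv
    (X ↘ Spec (CommRingCat.of k)) (Y ↘ Spec (CommRingCat.of k)) iA iB hA hB z
    (IsLocalRing.closedPoint (X.presheaf.stalk x)) b
    (Scheme.fromSpecStalk_closedPoint.trans hz.symm) hb
  haveI hBr : _root_.IsReduced B := by
    have h1 : IsReduced (Spec (CommRingCat.of B)) := isReduced_of_isOpenImmersion iB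
    exact (affine_isReduced_iff _).mp h1
  haveI := Groth.Agent.Lib.Helper1.FPS.isReduced_tensor_of_isGeometricallyReduced k
    ↥(X.presheaf.stalk x) B
  exact Groth.Agent.Lib.Helper1.FPS.isReduced_of_ringEquiv e

end Groth.Agent.S7604
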