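import Groth.Statements.S4629
import Groth.Agent.S7604

set_option autoImplicit false
open CategoryTheory AlgebraicGeometry
universe u
open FBase

namespace Groth.Agent.S4629

open CategoryTheory CategoryTheory.Limits AlgebraicGeometry in
/-- A geometrically reduced `k`-scheme times a reduced `k`-scheme is reduced (no Noetherian
hypothesis). -/
theorem isReduced_pullback_of_geometricallyReduced {k : Type u} [Field k] {X Y : Scheme.{u}}
    (f : X ⟶ Spec (CommRingCat.of k)) (g : Y ⟶ Spec (CommRingCat.of k)) [GeometricallyReduced f]
    [IsReduced Y] : IsReduced (pullback f g) := by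
  letI : X.Over (Spec (CommRingCat.of k)) := ⟨f⟩
  letI : Y.Over (Spec (CommRingCat.of k)) := ⟨g⟩
  have hgeo : ∀ x : X, Curv2.IsGeomReducedAt k X x := by
    intro x k' _ _ x' _
    have h1 : geometrically IsReduced f := (geometricallyReduced_iff _).mp inferInstance
    haveI h2 : IsReduced (pullback f (Spec.map (CommRingCat.ofHom (algebraMap k k')))) :=
      geometrically_iff_of_commRing_of_isClosedUnderIsomorphisms.mp h1 k'
    change _root_.IsReduced
      ((pullback f (Spec.map (CommRingCat.ofHom (algebraMap k k')))).presheaf.stalk x')
    infer_instance
  haveI : ∀ z : ↥(pullback f g), _root_.IsReduced ((pullback f g).presheaf.stalk z) := by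
    intro z
    exact Groth.Agent.S7604.result k X Y _ (hgeo _) z rfl
  exact isReduced_of_isReduced_stalk _

open CategoryTheory.Limits in
/-- If X and Y are schemes over a field k which are both geometrically reduced over k, then X ×_k Y is
geometrically reduced over k. -/
theorem result {k : Type u} [Field k] {X Y : Scheme.{u}}
    (f : X ⟶ Spec (CommRingCat.of k)) (g : Y ⟶ Spec (CommRingCat.of k)) [GeometricallyReduced f]
    [GeometricallyReduced g] : GeometricallyReduced (pullback.fst f g ≫ f) := by
  rw [geometricallyReduced_iff, geometrically_iff_of_commRing_of_isClosedUnderIsomorphisms]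
  intro K _ _
  set s := Spec.map (CommRingCat.ofHom (algebraMap k K)) with hs
  haveI hYK : IsReduced (pullback g s) := by
    have h1 : geometrically IsReduced g := (geometricallyReduced_iff _).mp inferInstance
    exact geometrically_iff_of_commRing_of_isClosedUnderIsomorphisms.mp h1 K
  haveI h1 : IsReduced (pullback f (pullback.fst g s ≫ g)) :=
    isReduced_pullback_of_geometricallyReduced f (pullback.fst g s ≫ g)
  haveI h2 : IsReduced (pullback (pullback.snd f g) (pullback.fst g s)) :=
    isReduced_of_isOpenImmersion (pullbackLeftPullbackSndIso f g (pullback.fst g s)).hom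
  haveI h3 : IsReduced (pullback (pullback.snd f g ≫ g) s) :=
    isReduced_of_isOpenImmersion (pullbackRightPullbackFstIso g s (pullback.snd f g)).inv
  have hcond : pullback.fst f g ≫ f = pullback.snd f g ≫ g := pullback.condition
  rw [hcond]
  exact h3

end Groth.Agent.S4629
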