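import Groth.Statements.S15824
import Mathlib
import Groth.Agent.Helper19.CMAss
import Groth.Agent.Helper19.RegNearImm
-- import your own Groth.Agent.* helpers here

set_option autoImplicit false
universe u
open CategoryTheory AlgebraicGeometry
open RegImm

namespace Groth.Agent.S15824

/-- Let X be a locally Noetherian scheme all of whose local rings are Cohen–Macaulay, and i : Z → X a
closed immersion which is regular (around every point, on some affine open of X the ideal of Z is
generated by a regular sequence). Then Z has no embedded points (each associated point of Z is
generic in an irreducible component): for every point z of Z, if the maximal ideal of O_{Z,z} is an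
associated prime of O_{Z,z} (as a module over itself), then O_{Z,z} has Krull dimension 0. (The
published statement takes X Noetherian and Z a local complete intersection subscheme; the assertion
is local on X and uses only that the ideal of Z is locally generated by a regular sequence.) -/
theorem result {X Z : Scheme.{u}}
    [IsLocallyNoetherian X] (hCM : ∀ x : X, LocCoh.IsCohenMacaulayLocalRing (X.presheaf.stalk x))
    (i : Z ⟶ X) [IsClosedImmersion i] (hi : RegImm.IsRegularImmersion RegImm.Kind.regular i) (z : Z)
    (hz : IsAssociatedPrime (IsLocalRing.maximalIdeal (Z.presheaf.stalk z)) (Z.presheaf.stalk z)) :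
    ringKrullDim (Z.presheaf.stalk z) = 0 := by
  obtain ⟨rs, hrs, hker⟩ := Groth.Agent.Helper19.RegNearImm.stalk_of_regularAt i z (hi.2 z)
  haveI := hCM (i z)
  have hφ : Function.Surjective (i.stalkMap z).hom := i.stalkMap_surjective z
  haveI : IsLocalHom (i.stalkMap z).hom := hφ.isLocalHom
  refine Groth.Agent.Helper19.CMAss.ringKrullDim_eq_zero_of_isAssociatedPrime
    (i.stalkMap z).hom hφ rs hrs.toIsWeaklyRegular ?_ hker.symm hz
  intro x hx
  have h1 : x ∈ RingHom.ker (i.stalkMap z).hom := by
    rw [← hker]
    exact Ideal.subset_span hx
  rw [IsLocalRing.mem_maximalIdeal, mem_nonunits_iff]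
  intro hu
  have h2 := hu.map (i.stalkMap z).hom
  rw [RingHom.mem_ker.mp h1] at h2
  exact not_isUnit_zero h2

end Groth.Agent.S15824
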