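import Groth.Statements.S15828
import Mathlib
import Groth.Agent.Lib.Helper13.WhiskerCochain
import Groth.Agent.Lib.Helper11.KzCompare

set_option autoImplicit false
universe u
open CategoryTheory CategoryTheory.Limits MonoidalCategory
open Koszul

namespace Groth.Agent.S15828

open MonoidalCategory CochainComplex in
lemma smul_id_whiskerRight {A : Type u} [CommRing A] (a : A) (K L : DRing.Cx A) :
    (a • 𝟙 K) ▷ L = a • 𝟙 (K ⊗ L) := by
  ext n : 1
  apply HomologicalComplex.mapBifunctor.hom_ext
  intro p q hpq
  have hpq' : p + q = n := hpq
  have h1 := Groth.Agent.Lib.Helper13.HT.ι_whiskerRight_f (a • 𝟙 K) L p q n hpq'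
  refine h1.trans ?_
  have h2 : (a • 𝟙 (K.X p)) ▷ L.X q = a • 𝟙 (K.X p ⊗ L.X q) := by
    rw [MonoidalLinear.smul_whiskerRight, MonoidalCategory.id_whiskerRight]
  rw [HomologicalComplex.smul_f_apply, HomologicalComplex.smul_f_apply,
    HomologicalComplex.id_f, HomologicalComplex.id_f, Linear.comp_smul, h2, Linear.smul_comp,
    Category.id_comp]
  congr 1

open MonoidalCategory CochainComplex in
/-- `K(f) ⊗ K(g) ≅ K(f ++ g)` -/
noncomputable def koszulTensorIso {A : Type u} [CommRing A] (g : List A) : ∀ f : List A,
    (MonoidalCategoryStruct.tensorObj (C := DRing.Cx A) (Koszul.koszul A f) (Koszul.koszul A g)) ≅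
      Koszul.koszul A (f ++ g)
  | [] => λ_ (Koszul.koszul A g)
  | a :: l =>
    (Groth.Agent.Lib.Helper13.HT.coneWhiskIso (a • 𝟙 (Koszul.koszul A l)) (Koszul.koszul A g)).symm ≪≫
      Groth.Agent.Lib.Helper11.Kz.coneIso (koszulTensorIso g l) _ (a • 𝟙 _) (by
        rw [smul_id_whiskerRight]
        simp only [Linear.smul_comp, Linear.comp_smul, Category.id_comp]
        congr 1)

/-- Let A be a commutative ring and f = (f_1, …, f_r), g = (g_1, …, g_s) finite sequences of elements of
A (Koszul complexes of free modules of finite rank with chosen bases). Then the tensor product of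
cochain complexes K(f) ⊗ K(g) is isomorphic to the Koszul complex K(f_1, …, f_r, g_1, …, g_s) of the
concatenated sequence (existence of an isomorphism of cochain complexes of A-modules; the Koszul
complexes are the iterated mapping-cone model and ⊗ is the tensor product of complexes). The second
assertion of the published statement, K(f, g) ≅ Cone(g : K(f) → K(f)) for a single element g, is the
defining recursion of the mapping-cone model and is not restated. -/
theorem result (A : Type u) [CommRing A] (f g : List A) :
    Nonempty ((MonoidalCategoryStruct.tensorObj (C := DRing.Cx A) (Koszul.koszul A f) (Koszul.koszul A g)) ≅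
      Koszul.koszul A (f ++ g)) := by
  exact ⟨koszulTensorIso g f⟩

end Groth.Agent.S15828
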