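import Groth.Statements.S15832
import Mathlib

set_option autoImplicit false
universe u
open TopGrp

namespace Groth.Agent.S15832
section Aux
open TopologicalSpace

variable {T : Type u} [Group T]

theorem mem_tr (Γ : Subgroup T) (x y z : T) :
    z ∈ (fun g : T => x * g * y) '' (Γ : Set T) ↔ x⁻¹ * z * y⁻¹ ∈ Γ := by
  constructor
  · rintro ⟨γ, hγ, rfl⟩
    have : x⁻¹ * (x * γ * y) * y⁻¹ = γ := by group
    rw [this]; exact hγ
  · intro h
    exact ⟨_, h, by group⟩

theorem aux (𝒮 : Set (Subgroup T)) :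
    @NonarchimedeanGroup T _ (generateFrom
      {S : Set T | ∃ Γ ∈ 𝒮, ∃ (x y : T), S = (fun g : T => x * g * y) '' (Γ : Set T)}) := by
  set B : Set (Set T) :=
    {S : Set T | ∃ Γ ∈ 𝒮, ∃ (x y : T), S = (fun g : T => x * g * y) '' (Γ : Set T)} with hB
  letI τ' : TopologicalSpace T := generateFrom B
  have hopen : ∀ Γ ∈ 𝒮, ∀ (x y : T), IsOpen ((fun g : T => x * g * y) '' (Γ : Set T)) :=
    fun Γ hΓ x y => isOpen_generateFrom_of_mem ⟨Γ, hΓ, x, y, rfl⟩
  have hmul : ContinuousMul T := by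
    refine ⟨continuous_generateFrom_iff.mpr ?_⟩
    rintro S ⟨Γ, hΓ, x, y, rfl⟩
    rw [isOpen_prod_iff]
    intro g h hgh
    rw [Set.mem_preimage, mem_tr] at hgh
    refine ⟨(fun z : T => x * z * (x⁻¹ * g)) '' (Γ : Set T),
      (fun z : T => (g⁻¹ * x) * z * (x⁻¹ * g * h)) '' (Γ : Set T),
      hopen Γ hΓ _ _, hopen Γ hΓ _ _, ?_, ?_, ?_⟩
    · rw [mem_tr]
      have : x⁻¹ * g * (x⁻¹ * g)⁻¹ = 1 := by group
      rw [this]; exact Γ.one_mem
    · rw [mem_tr]
      have : (g⁻¹ * x)⁻¹ * h * (x⁻¹ * g * h)⁻¹ = 1 := by group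
      rw [this]; exact Γ.one_mem
    · rintro ⟨z, w⟩ ⟨hz, hw⟩
      simp only at hz hw
      rw [mem_tr] at hz hw
      rw [Set.mem_preimage, mem_tr]
      have : x⁻¹ * (z * w) * y⁻¹ =
          (x⁻¹ * z * (x⁻¹ * g)⁻¹) * ((g⁻¹ * x)⁻¹ * w * (x⁻¹ * g * h)⁻¹) * (x⁻¹ * (g * h) * y⁻¹) := by
        group
      rw [this]
      exact Γ.mul_mem (Γ.mul_mem hz hw) hgh
  have hinv : ContinuousInv T := by
    refine ⟨continuous_generateFrom_iff.mpr ?_⟩
    rintro S ⟨Γ, hΓ, x, y, rfl⟩
    have : (Inv.inv ⁻¹' ((fun g : T => x * g * y) '' (Γ : Set T))) =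
        (fun g : T => y⁻¹ * g * x⁻¹) '' (Γ : Set T) := by
      ext z
      rw [Set.mem_preimage, mem_tr, mem_tr]
      have : y⁻¹⁻¹ * z * x⁻¹⁻¹ = (x⁻¹ * z⁻¹ * y⁻¹)⁻¹ := by group
      rw [this, Γ.inv_mem_iff]
    rw [this]
    exact hopen Γ hΓ _ _
  haveI : IsTopologicalGroup T := { hmul, hinv with }
  refine { is_nonarchimedean := ?_ }
  intro U hU
  have hbasis := isTopologicalBasis_of_subbasis (s := B) rfl
  obtain ⟨W, ⟨f, ⟨hfin, hfB⟩, rfl⟩, h1, hWU⟩ := hbasis.mem_nhds_iff.mp hU
  -- each member of f containing 1 is a subgroup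
  have hsub : ∀ S ∈ f, (1 : T) ∈ S ∧ (∀ a b, a ∈ S → b ∈ S → a * b ∈ S) ∧ (∀ a, a ∈ S → a⁻¹ ∈ S) := by
    intro S hS
    obtain ⟨Γ, hΓ, x, y, rfl⟩ := hfB hS
    have h1S : (1 : T) ∈ (fun g : T => x * g * y) '' (Γ : Set T) := Set.mem_sInter.mp h1 _ hS
    have hxy : x⁻¹ * y⁻¹ ∈ Γ := by
      have := (mem_tr Γ x y 1).mp h1S
      simpa using this
    have key : ∀ z, z ∈ (fun g : T => x * g * y) '' (Γ : Set T) ↔ x⁻¹ * z * x ∈ Γ := by
      intro z
      rw [mem_tr]
      have : x⁻¹ * z * y⁻¹ = (x⁻¹ * z * x) * (x⁻¹ * y⁻¹) := by group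
      rw [this]
      exact Γ.mul_mem_cancel_right hxy
    refine ⟨h1S, ?_, ?_⟩
    · intro a b ha hb
      rw [key] at ha hb ⊢
      have : x⁻¹ * (a * b) * x = (x⁻¹ * a * x) * (x⁻¹ * b * x) := by group
      rw [this]; exact Γ.mul_mem ha hb
    · intro a ha
      rw [key] at ha ⊢
      have : x⁻¹ * a⁻¹ * x = (x⁻¹ * a * x)⁻¹ := by group
      rw [this]; exact Γ.inv_mem ha
  let V : Subgroup T :=
    { carrier := ⋂₀ f
      mul_mem' := fun {a b} ha hb => Set.mem_sInter.mpr (fun S hS =>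
        (hsub S hS).2.1 a b (Set.mem_sInter.mp ha S hS) (Set.mem_sInter.mp hb S hS))
      one_mem' := Set.mem_sInter.mpr (fun S hS => (hsub S hS).1)
      inv_mem' := fun {a} ha => Set.mem_sInter.mpr (fun S hS =>
        (hsub S hS).2.2 a (Set.mem_sInter.mp ha S hS)) }
  have hVopen : IsOpen (V : Set T) := by
    show IsOpen (⋂₀ f)
    exact hfin.isOpen_sInter (fun S hS => isOpen_generateFrom_of_mem (hfB hS))
  exact ⟨⟨V, hVopen⟩, hWU⟩

end Aux


/-- For a group T with a topology, let B be the family of two-sided translates x Γ y, where Γ runs over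
the subgroups of T open in the given topology and x, y over T; the topology generated by B makes T a
topological group in which every neighbourhood of the identity contains a subgroup open for that
topology. (The published statement is for the free topological product of two Noohi groups whose
open subgroups form a basis of neighbourhoods of the identity; the argument uses only the group
structure and the chosen family of subgroups, so the row is stated for an arbitrary group with a
topology. The published conventions include Hausdorffness in the word topological group; this row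
does not assert it, and the published argument does not prove it.) -/
theorem result (T : Type u) [Group T]
    [TopologicalSpace T] :
    @NonarchimedeanGroup T _ (TopologicalSpace.generateFrom
      {S : Set T | ∃ (Γ : OpenSubgroup T) (x y : T), S = (fun g : T => x * g * y) '' (Γ : Set T)}) := by
  have e : {S : Set T | ∃ (Γ : OpenSubgroup T) (x y : T), S = (fun g : T => x * g * y) '' (Γ : Set T)} =
      {S : Set T | ∃ Γ ∈ {Γ : Subgroup T | IsOpen (Γ : Set T)}, ∃ (x y : T),
        S = (fun g : T => x * g * y) '' (Γ : Set T)} := by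
    ext S
    constructor
    · rintro ⟨Γ, x, y, rfl⟩
      exact ⟨Γ.toSubgroup, Γ.isOpen, x, y, rfl⟩
    · rintro ⟨Γ, hΓ, x, y, rfl⟩
      exact ⟨⟨Γ, hΓ⟩, x, y, rfl⟩
  rw [e]
  exact aux _

end Groth.Agent.S15832
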