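import Groth.Statements.S15833
import Mathlib

set_option autoImplicit false
universe u
open EtBase

namespace Groth.Agent.S15833

open CategoryTheory CategoryTheory.Limits AlgebraicGeometry in
/-- Let i : X₀ ⟶ X be a surjective closed immersion of schemes and f : Y ⟶ X a morphism. Then f
satisfies the valuative criterion (existence and uniqueness of a lift in every valuative square,
over arbitrary valuation rings) if and only if its base change Y ×_X X₀ ⟶ X₀ does. (The published
statement takes X locally Noetherian and connected, X₀ the reduced closed subscheme with the same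
underlying space and f étale, and combines this step with the equivalence between étale schemes over
X and over X₀ to identify the geometric coverings, i.e. the étale morphisms satisfying the valuative
criterion, of X and of X₀; the argument for this step uses only that X₀ ⟶ X is a surjective closed
immersion and that valuation rings are reduced.) -/
theorem result {X X₀ Y : Scheme.{u}} (i : X₀ ⟶ X)
    [IsClosedImmersion i] [Surjective i] (f : Y ⟶ X) :
    ValuativeCriterion f ↔ ValuativeCriterion (pullback.snd f i) := by
  rw [ValuativeCriterion.iff, ValuativeCriterion.iff]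
  constructor
  · rintro ⟨hE, hU⟩
    constructor
    · intro S
      have hw : (S.i₁ ≫ pullback.fst f i) ≫ f =
          Spec.map (CommRingCat.ofHom (algebraMap S.R S.K)) ≫ (S.i₂ ≫ i) := by
        rw [Category.assoc, pullback.condition, ← Category.assoc, S.commSq.w, Category.assoc]
      let S' : ValuativeCommSq f :=
        { R := S.R, K := S.K, i₁ := S.i₁ ≫ pullback.fst f i, i₂ := S.i₂ ≫ i, commSq := ⟨hw⟩ }
      obtain ⟨⟨l₀⟩⟩ := hE S'
      have h1 : Spec.map (CommRingCat.ofHom (algebraMap S.R S.K)) ≫ l₀.l =
          S.i₁ ≫ pullback.fst f i := l₀.fac_left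
      have h2 : l₀.l ≫ f = S.i₂ ≫ i := l₀.fac_right
      refine ⟨⟨⟨pullback.lift l₀.l S.i₂ h2, ?_, ?_⟩⟩⟩
      · apply pullback.hom_ext
        · rw [Category.assoc, pullback.lift_fst, h1]
        · rw [Category.assoc, pullback.lift_snd, S.commSq.w]
      · exact pullback.lift_snd _ _ _
    · intro S
      have hw : (S.i₁ ≫ pullback.fst f i) ≫ f =
          Spec.map (CommRingCat.ofHom (algebraMap S.R S.K)) ≫ (S.i₂ ≫ i) := by
        rw [Category.assoc, pullback.condition, ← Category.assoc, S.commSq.w, Category.assoc]
      let S' : ValuativeCommSq f :=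
        { R := S.R, K := S.K, i₁ := S.i₁ ≫ pullback.fst f i, i₂ := S.i₂ ≫ i, commSq := ⟨hw⟩ }
      have hS' := hU S'
      refine ⟨fun a b => ?_⟩
      have ha1 : Spec.map (CommRingCat.ofHom (algebraMap S.R S.K)) ≫ a.l = S.i₁ := a.fac_left
      have ha2 : a.l ≫ pullback.snd f i = S.i₂ := a.fac_right
      have hb1 : Spec.map (CommRingCat.ofHom (algebraMap S.R S.K)) ≫ b.l = S.i₁ := b.fac_left
      have hb2 : b.l ≫ pullback.snd f i = S.i₂ := b.fac_right
      let a' : S'.commSq.LiftStruct := ⟨a.l ≫ pullback.fst f i, by
        change Spec.map _ ≫ a.l ≫ pullback.fst f i = S.i₁ ≫ pullback.fst f i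
        rw [← Category.assoc, ha1], by
        change (a.l ≫ pullback.fst f i) ≫ f = S.i₂ ≫ i
        rw [Category.assoc, pullback.condition, ← Category.assoc, ha2]⟩
      let b' : S'.commSq.LiftStruct := ⟨b.l ≫ pullback.fst f i, by
        change Spec.map _ ≫ b.l ≫ pullback.fst f i = S.i₁ ≫ pullback.fst f i
        rw [← Category.assoc, hb1], by
        change (b.l ≫ pullback.fst f i) ≫ f = S.i₂ ≫ i
        rw [Category.assoc, pullback.condition, ← Category.assoc, hb2]⟩
      have hab : a' = b' := Subsingleton.elim _ _
      have hab' : a.l ≫ pullback.fst f i = b.l ≫ pullback.fst f i := congrArg (fun s => s.l) hab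
      apply CommSq.LiftStruct.ext
      apply pullback.hom_ext hab'
      rw [ha2, hb2]
  · rintro ⟨hE, hU⟩
    -- factor Spec R → X through X₀
    have hfac : ∀ S : ValuativeCommSq f, ∃ j : Spec (.of S.R) ⟶ X₀, j ≫ i = S.i₂ := by
      intro S
      haveI : IsIso (pullback.fst S.i₂ i) := isIso_of_isClosedImmersion_of_surjective _
      refine ⟨inv (pullback.fst S.i₂ i) ≫ pullback.snd S.i₂ i, ?_⟩
      rw [Category.assoc, ← pullback.condition, IsIso.inv_hom_id_assoc]
    constructor
    · intro S
      obtain ⟨j, hj⟩ := hfac S
      have hw0 : S.i₁ ≫ f = (Spec.map (CommRingCat.ofHom (algebraMap S.R S.K)) ≫ j) ≫ i := by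
        rw [Category.assoc, hj]
        exact S.commSq.w
      let S' : ValuativeCommSq (pullback.snd f i) :=
        { R := S.R, K := S.K,
          i₁ := pullback.lift S.i₁ (Spec.map (CommRingCat.ofHom (algebraMap S.R S.K)) ≫ j) hw0,
          i₂ := j, commSq := ⟨pullback.lift_snd _ _ _⟩ }
      obtain ⟨⟨l₀⟩⟩ := hE S'
      have h1 : Spec.map (CommRingCat.ofHom (algebraMap S.R S.K)) ≫ l₀.l =
          pullback.lift S.i₁ (Spec.map (CommRingCat.ofHom (algebraMap S.R S.K)) ≫ j) hw0 :=
        l₀.fac_left
      have h2 : l₀.l ≫ pullback.snd f i = j := l₀.fac_right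
      refine ⟨⟨⟨l₀.l ≫ pullback.fst f i, ?_, ?_⟩⟩⟩
      · rw [← Category.assoc, h1, pullback.lift_fst]
      · rw [Category.assoc, pullback.condition, ← Category.assoc, h2, hj]
    · intro S
      obtain ⟨j, hj⟩ := hfac S
      have hw0 : S.i₁ ≫ f = (Spec.map (CommRingCat.ofHom (algebraMap S.R S.K)) ≫ j) ≫ i := by
        rw [Category.assoc, hj]
        exact S.commSq.w
      let S' : ValuativeCommSq (pullback.snd f i) :=
        { R := S.R, K := S.K,
          i₁ := pullback.lift S.i₁ (Spec.map (CommRingCat.ofHom (algebraMap S.R S.K)) ≫ j) hw0,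
          i₂ := j, commSq := ⟨pullback.lift_snd _ _ _⟩ }
      have hS' := hU S'
      refine ⟨fun a b => ?_⟩
      have ha1 : Spec.map (CommRingCat.ofHom (algebraMap S.R S.K)) ≫ a.l = S.i₁ := a.fac_left
      have ha2 : a.l ≫ f = S.i₂ := a.fac_right
      have hb1 : Spec.map (CommRingCat.ofHom (algebraMap S.R S.K)) ≫ b.l = S.i₁ := b.fac_left
      have hb2 : b.l ≫ f = S.i₂ := b.fac_right
      let a' : S'.commSq.LiftStruct := ⟨pullback.lift a.l j (by rw [ha2, hj]), by
        change Spec.map _ ≫ pullback.lift a.l j _ = pullback.lift S.i₁ _ _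
        apply pullback.hom_ext
        · rw [Category.assoc, pullback.lift_fst, pullback.lift_fst, ha1]
        · rw [Category.assoc, pullback.lift_snd, pullback.lift_snd], pullback.lift_snd _ _ _⟩
      let b' : S'.commSq.LiftStruct := ⟨pullback.lift b.l j (by rw [hb2, hj]), by
        change Spec.map _ ≫ pullback.lift b.l j _ = pullback.lift S.i₁ _ _
        apply pullback.hom_ext
        · rw [Category.assoc, pullback.lift_fst, pullback.lift_fst, hb1]
        · rw [Category.assoc, pullback.lift_snd, pullback.lift_snd], pullback.lift_snd _ _ _⟩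
      have hab : a' = b' := Subsingleton.elim _ _
      have hab' : pullback.lift a.l j (by rw [ha2, hj]) = pullback.lift b.l j (by rw [hb2, hj]) :=
        congrArg (fun s => s.l) hab
      apply CommSq.LiftStruct.ext
      have := congrArg (fun m => m ≫ pullback.fst f i) hab'
      simp only [pullback.lift_fst] at this
      exact this

end Groth.Agent.S15833
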