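import Groth.Statements.S15835
import Mathlib.Algebra.Polynomial.Expand
import Mathlib.Algebra.CharP.Lemmas
import Mathlib.Algebra.CharP.Invertible
import Mathlib.RingTheory.Polynomial.Basic
import Mathlib.Tactic
-- import your own Groth.Agent.* helpers here

set_option autoImplicit false
universe u
open SprIso

namespace Groth.Agent.S15835

/-- Over a commutative ring R of prime characteristic p, let n ≥ 1 and let p^m be the largest power of p
dividing n. The locus of n × n matrices with characteristic polynomial t^n is stable under adding a
scalar matrix a·1 with n·a = 0 exactly when a^(p^m) = 0: for X with characteristic polynomial t^n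
and such an a, the matrix X + a·1 has characteristic polynomial t^n if and only if a^(p^m) = 0.
(Stated on points with values in an arbitrary ring of characteristic p; the scheme-theoretic
assertion about the nilpotent scheme of SL_n is this statement for all such rings.) -/
theorem result (p : ℕ) [Fact p.Prime] (R : Type u) [CommRing R]
    [CharP R p] (n : ℕ) (hn : 0 < n) (X : Matrix (Fin n) (Fin n) R) (hX : X.charpoly = Polynomial.X ^ n)
    (a : R) (ha : (n : R) * a = 0) :
    (X + Matrix.scalar (Fin n) a).charpoly = Polynomial.X ^ n ↔ a ^ (p ^ padicValNat p n) = 0 := by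
  have hp : p.Prime := Fact.out
  set q := p ^ padicValNat p n with hq
  have hqpos : 0 < q := pow_pos hp.pos _
  obtain ⟨m, hm⟩ : q ∣ n := pow_padicValNat_dvd
  have hmpos : 0 < m := by
    rcases Nat.eq_zero_or_pos m with h | h
    · rw [h, mul_zero] at hm; omega
    · exact h
  have hpm : ¬ p ∣ m := by
    intro hdvd
    have h1 : p ^ (padicValNat p n + 1) ∣ n := by
      obtain ⟨m', hm'⟩ := hdvd
      refine ⟨m', ?_⟩
      rw [pow_succ, ← hq, mul_assoc, ← hm']
      exact hm
    exact pow_succ_padicValNat_not_dvd (by omega) h1
  have hmunit : IsUnit (m : R) := (CharP.isUnit_natCast_iff hp).2 hpm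
  have hchar : (X + Matrix.scalar (Fin n) a).charpoly =
      Polynomial.expand R q ((Polynomial.X + Polynomial.C (-(a ^ q))) ^ m) := by
    have h1 : X + Matrix.scalar (Fin n) a = X - Matrix.scalar (Fin n) (-a) := by
      rw [map_neg, sub_neg_eq_add]
    rw [h1, Matrix.charpoly_sub_scalar, hX, Polynomial.pow_comp, Polynomial.X_comp, hm, pow_mul,
      map_neg, ← sub_eq_add_neg, hq, sub_pow_char_pow, ← hq, map_pow, map_add, Polynomial.expand_X,
      Polynomial.expand_C, map_neg, ← sub_eq_add_neg, map_pow]
  have hXn : (Polynomial.X : Polynomial R) ^ n = Polynomial.expand R q (Polynomial.X ^ m) := by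
    rw [map_pow, Polynomial.expand_X, ← pow_mul, ← hm]
  rw [hchar, hXn, Polynomial.expand_inj hqpos]
  constructor
  · intro h
    have h2 := congrArg (fun f => Polynomial.coeff f (m - 1)) h
    simp only [Polynomial.coeff_X_add_C_pow, Polynomial.coeff_X_pow] at h2
    have h3 : m - (m - 1) = 1 := by omega
    have h4 : m.choose (m - 1) = m := by
      have := Nat.choose_symm (by omega : m - 1 ≤ m)
      rw [h3, Nat.choose_one_right] at this
      exact this.symm
    rw [h3, h4, pow_one, if_neg (by omega)] at h2
    have h5 : a ^ q * (m : R) = 0 := by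
      rw [neg_mul] at h2
      exact neg_eq_zero.1 h2
    exact (hmunit.mul_left_eq_zero).1 h5
  · intro h
    rw [h, neg_zero, map_zero, add_zero]

end Groth.Agent.S15835
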