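import Groth.Statements.S15836
import Mathlib
import Groth.Agent.Lib.Helper20.PicPoly3

set_option autoImplicit false
universe u
open SprIso

namespace Groth.Agent.S15836



open Groth.Agent.Lib.Helper20.PicPoly

section Cone
variable {k : Type u} [Field k] {n : ℕ} (I : Ideal (MvPolynomial (Fin n) k))

/-- The pre-homotopy `k[x] → A[T]`, `x_i ↦ x̄_i T`. -/
noncomputable def preHom :
    MvPolynomial (Fin n) k →+* Polynomial (MvPolynomial (Fin n) k ⧸ I) :=
  MvPolynomial.eval₂Hom ((Polynomial.C).comp (algebraMap k (MvPolynomial (Fin n) k ⧸ I)))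
    (fun i => Polynomial.C (Ideal.Quotient.mk I (MvPolynomial.X i)) * Polynomial.X)

lemma preHom_C (c : k) : preHom I (MvPolynomial.C c) =
    Polynomial.C (algebraMap k (MvPolynomial (Fin n) k ⧸ I) c) := by
  simp [preHom]

lemma preHom_X (i : Fin n) : preHom I (MvPolynomial.X i) =
    Polynomial.C (Ideal.Quotient.mk I (MvPolynomial.X i)) * Polynomial.X := by
  simp [preHom]

lemma preHom_monomial (m : Fin n →₀ ℕ) (c : k) :
    preHom I (MvPolynomial.monomial m c) =
      Polynomial.C (Ideal.Quotient.mk I (MvPolynomial.monomial m c)) *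
        Polynomial.X ^ (m.degree) := by
  have h1 : Ideal.Quotient.mk I (MvPolynomial.monomial m c) =
      algebraMap k (MvPolynomial (Fin n) k ⧸ I) c *
        m.prod (fun i e => (Ideal.Quotient.mk I (MvPolynomial.X i)) ^ e) := by
    rw [MvPolynomial.monomial_eq, map_mul, map_finsuppProd]
    simp only [map_pow]
    rfl
  rw [h1, preHom, MvPolynomial.coe_eval₂Hom, MvPolynomial.eval₂_monomial, map_mul,
    map_finsuppProd]
  simp only [map_pow, RingHom.comp_apply]
  have h2 : (m.prod fun i e => (Polynomial.C (Ideal.Quotient.mk I (MvPolynomial.X i)) *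
        (Polynomial.X : Polynomial (MvPolynomial (Fin n) k ⧸ I))) ^ e) =
      (m.prod fun i e => Polynomial.C (Ideal.Quotient.mk I (MvPolynomial.X i)) ^ e) *
        Polynomial.X ^ (m.degree) := by
    rw [Finsupp.prod, Finsupp.prod]
    have hmp := fun (a : Fin n) => mul_pow
      (Polynomial.C ((Ideal.Quotient.mk I) (MvPolynomial.X a)))
      (Polynomial.X : Polynomial (MvPolynomial (Fin n) k ⧸ I)) (m a)
    simp only [hmp]
    rw [Finset.prod_mul_distrib, Finset.prod_pow_eq_pow_sum]
    rfl
  rw [h2, mul_assoc]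

lemma preHom_homog (f : MvPolynomial (Fin n) k) (d : ℕ) (hf : f.IsHomogeneous d) :
    preHom I f = Polynomial.C (Ideal.Quotient.mk I f) * Polynomial.X ^ d := by
  conv_lhs => rw [f.as_sum]
  rw [map_sum]
  have : ∀ v ∈ f.support, preHom I (MvPolynomial.monomial v (MvPolynomial.coeff v f)) =
      Polynomial.C (Ideal.Quotient.mk I (MvPolynomial.monomial v (MvPolynomial.coeff v f))) *
        Polynomial.X ^ d := by
    intro v hv
    rw [preHom_monomial]
    have : v.degree = d := (hf.degree_eq_sum_deg_support hv).symm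
    rw [this]
  rw [Finset.sum_congr rfl this, ← Finset.sum_mul, ← map_sum, ← map_sum, ← f.as_sum]

lemma preHom_mem
    (hI : ∃ s : Set (MvPolynomial (Fin n) k), (∀ f ∈ s, ∃ d : ℕ, f.IsHomogeneous d) ∧ I = Ideal.span s)
    (f : MvPolynomial (Fin n) k) (hf : f ∈ I) : preHom I f = 0 := by
  obtain ⟨s, hs, hIs⟩ := hI
  have hle : I ≤ RingHom.ker (preHom I) := by
    conv_lhs => rw [hIs]
    rw [Ideal.span_le]
    intro g hg
    obtain ⟨d, hd⟩ := hs g hg
    rw [SetLike.mem_coe, RingHom.mem_ker, preHom_homog I g d hd]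
    have : Ideal.Quotient.mk I g = 0 :=
      Ideal.Quotient.eq_zero_iff_mem.mpr (hIs ▸ Ideal.subset_span hg)
    rw [this, map_zero, zero_mul]
  exact hle hf

/-- the homotopy `A → A[T]` -/
noncomputable def homot
    (hI : ∃ s : Set (MvPolynomial (Fin n) k), (∀ f ∈ s, ∃ d : ℕ, f.IsHomogeneous d) ∧ I = Ideal.span s) :
    (MvPolynomial (Fin n) k ⧸ I) →+* Polynomial (MvPolynomial (Fin n) k ⧸ I) :=
  Ideal.Quotient.lift I (preHom I) (preHom_mem I hI)

lemma eval_zero_mem [Nontrivial (MvPolynomial (Fin n) k ⧸ I)]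
    (hI : ∃ s : Set (MvPolynomial (Fin n) k), (∀ f ∈ s, ∃ d : ℕ, f.IsHomogeneous d) ∧ I = Ideal.span s)
    (f : MvPolynomial (Fin n) k) (hf : f ∈ I) : MvPolynomial.eval (0 : Fin n → k) f = 0 := by
  obtain ⟨s, hs, hIs⟩ := hI
  have hle : I ≤ RingHom.ker (MvPolynomial.eval (0 : Fin n → k)) := by
    conv_lhs => rw [hIs]
    rw [Ideal.span_le]
    intro g hg
    obtain ⟨d, hd⟩ := hs g hg
    rw [SetLike.mem_coe, RingHom.mem_ker]
    have hgI : g ∈ I := hIs ▸ Ideal.subset_span hg
    have hev : MvPolynomial.eval (0 : Fin n → k) g = MvPolynomial.coeff 0 g := by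
      rw [← MvPolynomial.constantCoeff_eq]
      exact RingHom.congr_fun MvPolynomial.eval_zero' g
    rw [hev]
    by_cases hd0 : d = 0
    · subst hd0
      by_contra hne
      have hgC : g = MvPolynomial.C (MvPolynomial.coeff 0 g) := by
        have := (MvPolynomial.totalDegree_zero_iff_isHomogeneous (Fin n)).mpr hd
        exact (MvPolynomial.totalDegree_eq_zero_iff_eq_C).mp this
      have hunit : IsUnit g := by
        rw [hgC]
        exact (IsUnit.mk0 _ hne).map MvPolynomial.C
      have htop : I = ⊤ := Ideal.eq_top_of_isUnit_mem I hgI hunit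
      have : (1 : MvPolynomial (Fin n) k ⧸ I) = 0 := by
        rw [← map_one (Ideal.Quotient.mk I)]
        exact Ideal.Quotient.eq_zero_iff_mem.mpr (htop ▸ Submodule.mem_top)
      exact one_ne_zero this
    · exact hd.coeff_eq_zero (by simpa using Ne.symm hd0)
  exact hle hf

/-- the augmentation `A → k` -/
noncomputable def augm [Nontrivial (MvPolynomial (Fin n) k ⧸ I)]
    (hI : ∃ s : Set (MvPolynomial (Fin n) k), (∀ f ∈ s, ∃ d : ℕ, f.IsHomogeneous d) ∧ I = Ideal.span s) :
    (MvPolynomial (Fin n) k ⧸ I) →+* k :=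
  Ideal.Quotient.lift I (MvPolynomial.eval (0 : Fin n → k)) (eval_zero_mem I hI)

lemma eval_one_homot
    (hI : ∃ s : Set (MvPolynomial (Fin n) k), (∀ f ∈ s, ∃ d : ℕ, f.IsHomogeneous d) ∧ I = Ideal.span s)
    (a : MvPolynomial (Fin n) k ⧸ I) : (homot I hI a).eval 1 = a := by
  have : (Polynomial.evalRingHom (1 : MvPolynomial (Fin n) k ⧸ I)).comp (homot I hI) =
      RingHom.id _ := by
    apply Ideal.Quotient.ringHom_ext
    apply MvPolynomial.ringHom_ext
    · intro c
      simp [homot, preHom_C]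
      rfl
    · intro i
      simp [homot, preHom_X]
  exact RingHom.congr_fun this a

lemma eval_zero_homot [Nontrivial (MvPolynomial (Fin n) k ⧸ I)]
    (hI : ∃ s : Set (MvPolynomial (Fin n) k), (∀ f ∈ s, ∃ d : ℕ, f.IsHomogeneous d) ∧ I = Ideal.span s)
    (a : MvPolynomial (Fin n) k ⧸ I) :
    (homot I hI a).eval 0 = algebraMap k (MvPolynomial (Fin n) k ⧸ I) (augm I hI a) := by
  have : (Polynomial.evalRingHom (0 : MvPolynomial (Fin n) k ⧸ I)).comp (homot I hI) =
      (algebraMap k (MvPolynomial (Fin n) k ⧸ I)).comp (augm I hI) := by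
    apply Ideal.Quotient.ringHom_ext
    apply MvPolynomial.ringHom_ext
    · intro c
      simp [homot, augm, preHom_C]
    · intro i
      simp [homot, augm, preHom_X]
  exact RingHom.congr_fun this a

end Cone

/-- Let k be a field and C a closed subscheme of affine n-space over k which is stable under the scaling
action of the affine line, i.e. C = Spec A with A = k[x_1, …, x_n]/I for an ideal I generated by
homogeneous polynomials, and assume C is normal (A is an integrally closed domain). Then Pic(C) = 0: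
every invertible A-module is free. -/
theorem result (k : Type u) [Field k] (n : ℕ)
    (I : Ideal (MvPolynomial (Fin n) k))
    (hI : ∃ s : Set (MvPolynomial (Fin n) k), (∀ f ∈ s, ∃ d : ℕ, f.IsHomogeneous d) ∧ I = Ideal.span s)
    [IsDomain (MvPolynomial (Fin n) k ⧸ I)] [IsIntegrallyClosed (MvPolynomial (Fin n) k ⧸ I)]
    (M : Type u) [AddCommGroup M] [Module (MvPolynomial (Fin n) k ⧸ I) M]
    [Module.Invertible (MvPolynomial (Fin n) k ⧸ I) M] :
    Module.Free (MvPolynomial (Fin n) k ⧸ I) M := by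

  exact @free_of_homotopy (MvPolynomial (Fin n) k ⧸ I) _ _ _ (MvPolynomial (Fin n) k ⧸ I) _
    (homot I hI).toAlgebra k _ _ (RingEquiv.refl _) (fun a => eval_one_homot I hI a)
    (augm I hI) (fun a => eval_zero_homot I hI a) M _ _ _

end Groth.Agent.S15836
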