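import Groth.Statements.S15837
import Mathlib
import Groth.Agent.Lib.Helper10.PreLocus2
import Groth.Agent.S4599

set_option autoImplicit false
universe u
open CategoryTheory MonoidalCategory CartesianMonoidalCategory MonObj GrpObj AlgebraicGeometry
open SprIso

namespace Groth.Agent.S15837

/-- Let S be a scheme, G an S-group scheme of finite presentation acting on an S-scheme X which is
affine and of finite presentation over S, and Y a closed subscheme of X which is finite, flat and of
finite presentation over S. Then the functorial stabilizer of Y in G — whose points with values in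
an S-scheme T are the points g of G such that g acts as the identity on every point of Y with values
in a scheme over T — is represented by a closed subscheme of G whose inclusion is of finite
presentation. -/
theorem result (S : Scheme.{u}) (G X Y : Over S) [GrpObj G]
    [LocallyOfFinitePresentation G.hom] [QuasiCompact G.hom] [QuasiSeparated G.hom]
    [IsAffineHom X.hom] [LocallyOfFinitePresentation X.hom] (a : AlgGrp.Action G X)
    (i : Y ⟶ X) [IsClosedImmersion i.left] [IsFinite Y.hom] [Flat Y.hom] [LocallyOfFinitePresentation Y.hom] :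
    ∃ (Z : Over S) (j : Z ⟶ G), IsClosedImmersion j.left ∧ LocallyOfFinitePresentation j.left ∧
      ∀ (T : Over S) (g : T ⟶ G), (∃ z : T ⟶ Z, z ≫ j = g) ↔
        ∀ (T' : Over S) (t : T' ⟶ T) (y : T' ⟶ Y), lift (t ≫ g) (y ≫ i) ≫ a.act = y ≫ i := by
  haveI : LocallyOfFiniteType X.hom := inferInstance
  haveI : IsSeparated X.hom := inferInstance
  have hY : Groth.Agent.Lib.Helper10.WeilClosed.AffLocProj Y.hom :=
    Groth.Agent.Lib.Helper10.WeilClosed.affLocProj_of_finite_flat_lfp Y.hom
  let d : X ⟶ X ⊗ X := lift (𝟙 X) (𝟙 X)
  haveI : IsClosedImmersion d.left := by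
    change IsClosedImmersion (CategoryTheory.Limits.pullback.diagonal X.hom)
    infer_instance
  haveI : LocallyOfFinitePresentation d.left := by
    change LocallyOfFinitePresentation (CategoryTheory.Limits.pullback.diagonal X.hom)
    exact Groth.Agent.S4599.result X.hom
  let m : Y ⊗ G ⟶ X ⊗ X :=
    lift (lift (snd Y G) (fst Y G ≫ i) ≫ a.act) (fst Y G ≫ i)
  obtain ⟨Z, j, hj, hZ, h⟩ :=
    Groth.Agent.Lib.Helper10.PreLocus.exists_closed_pre_lfp_of_affLocProj (X := G) hY m d
  haveI := hZ
  haveI : LocallyOfFiniteType G.hom := inferInstance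
  refine ⟨Z, j, hj, Groth.Agent.Lib.Helper10.PreLocus.lfp_left_of_lfp j, fun T g => (h T g).trans ?_⟩
  refine forall_congr' fun T' => forall_congr' fun t => forall_congr' fun y => ?_
  have hm1 : lift y (t ≫ g) ≫ m ≫ fst X X = lift (t ≫ g) (y ≫ i) ≫ a.act := by
    simp only [m, lift_fst, ← Category.assoc, comp_lift, lift_snd]
  have hm2 : lift y (t ≫ g) ≫ m ≫ snd X X = y ≫ i := by
    simp only [m, lift_snd, ← Category.assoc, lift_fst]
  constructor
  · rintro ⟨c, hc⟩
    have h1 := congrArg (fun φ => φ ≫ fst X X) hc
    have h2 := congrArg (fun φ => φ ≫ snd X X) hc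
    simp only [Category.assoc, d, lift_fst, lift_snd, Category.comp_id] at h1 h2
    rw [hm1] at h1
    rw [hm2] at h2
    rw [h1, h2]
  · intro hfix
    refine ⟨y ≫ i, ?_⟩
    apply CartesianMonoidalCategory.hom_ext
    · rw [Category.assoc, hm1, hfix, Category.assoc]
      simp only [d, lift_fst, Category.comp_id]
    · rw [Category.assoc, hm2, Category.assoc]
      simp only [d, lift_snd, Category.comp_id]

end Groth.Agent.S15837
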