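import Groth.Statements.S15838
import Mathlib

set_option autoImplicit false
universe u
open scoped TensorProduct
open SprIso

namespace Groth.Agent.S15838



open Module in
theorem mem_adjoin_of_decomp {k : Type*} [Field k] [PerfectField k]
    {V : Type*} [AddCommGroup V] [Module k V] [FiniteDimensional k V]
    (X Y N : Module.End k V) (hY : Y.IsSemisimple) (hN : IsNilpotent N) (hYN : Commute Y N)
    (hX : X = Y + N) : Y ∈ Algebra.adjoin k {X} ∧ N ∈ Algebra.adjoin k {X} := by
  obtain ⟨n₀, hn₀, s₀, hs₀, hn₀_nil, hs₀_ss, h₀⟩ := X.exists_isNilpotent_isSemisimple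
  have hXn₀ : Commute X n₀ := Algebra.commute_of_mem_adjoin_singleton_of_commute hn₀ (Commute.refl X)
  have hn₀s₀ : Commute n₀ s₀ := Algebra.commute_of_mem_adjoin_singleton_of_commute hs₀ hXn₀.symm
  have heq : N + Y = n₀ + s₀ := by rw [← h₀, hX, add_comm]
  obtain ⟨h1, h2⟩ := Module.End.isNilpotent_isSemisimple_unique hN hY hn₀_nil hs₀_ss hYN.symm hn₀s₀ heq
  rw [h1, h2]
  exact ⟨hs₀, hn₀⟩

open scoped TensorProduct in
theorem commute_baseChange_of_mem_adjoin {k : Type*} [Field k]
    {V : Type*} [AddCommGroup V] [Module k V]
    {R : Type*} [CommRing R] [Algebra k R] (h : Module.End R (R ⊗[k] V))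
    (X Z : Module.End k V) (hZ : Z ∈ Algebra.adjoin k {X}) (hc : Commute h (X.baseChange R)) :
    Commute h (Z.baseChange R) := by
  have h1 : Module.End.baseChangeHom k R V Z ∈
      (Algebra.adjoin k {X}).map (Module.End.baseChangeHom k R V) := ⟨Z, hZ, rfl⟩
  rw [AlgHom.map_adjoin, Set.image_singleton] at h1
  exact Algebra.commute_of_mem_adjoin_singleton_of_commute h1 hc

/-- General linear group case: this is the case G = GL(V), to which the general case reduces along a
closed embedding. Let k be a perfect field and V a finite-dimensional k-vector space. If an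
invertible endomorphism g of V has multiplicative Jordan decomposition g = t u (t semisimple, u
unipotent, t and u commuting), then the scheme-theoretic centralizer of g in GL(V) is the
centralizer of u inside the centralizer of t: for every commutative k-algebra R, an R-linear
endomorphism h of R ⊗ V commutes with g_R if and only if it commutes with both t_R and u_R.
Likewise, if an endomorphism X of V has additive Jordan decomposition X = Y + N (Y semisimple, N
nilpotent, commuting), then h commutes with X_R if and only if it commutes with both Y_R and N_R. -/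
theorem result (k : Type u) [Field k] [PerfectField k]
    (V : Type u) [AddCommGroup V] [Module k V] [FiniteDimensional k V]
    (R : Type u) [CommRing R] [Algebra k R] (h : Module.End R (R ⊗[k] V)) :
    (∀ (g t u : Module.End k V), IsUnit g → t.IsSemisimple → IsNilpotent (u - 1) → Commute t u → g = t * u →
      (Commute h (g.baseChange R) ↔ Commute h (t.baseChange R) ∧ Commute h (u.baseChange R))) ∧
    (∀ (X Y N : Module.End k V), Y.IsSemisimple → IsNilpotent N → Commute Y N → X = Y + N →
      (Commute h (X.baseChange R) ↔ Commute h (Y.baseChange R) ∧ Commute h (N.baseChange R))) := by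

  have hadd : ∀ (X Y N : Module.End k V), Y.IsSemisimple → IsNilpotent N → Commute Y N → X = Y + N →
      (Commute h (X.baseChange R) ↔ Commute h (Y.baseChange R) ∧ Commute h (N.baseChange R)) := by
    intro X Y N hY hN hYN hX
    obtain ⟨hYm, hNm⟩ := mem_adjoin_of_decomp X Y N hY hN hYN hX
    constructor
    · intro hc
      exact ⟨commute_baseChange_of_mem_adjoin h X Y hYm hc,
        commute_baseChange_of_mem_adjoin h X N hNm hc⟩
    · rintro ⟨h1, h2⟩
      rw [hX, LinearMap.baseChange_add]
      exact h1.add_right h2
  refine ⟨?_, hadd⟩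
  intro g t u hg ht hu htu hgtu
  have hunits : IsUnit t ∧ IsUnit u := by
    rw [hgtu] at hg
    exact (htu.isUnit_mul_iff).mp hg
  have hN : IsNilpotent (t * (u - 1)) := by
    have hc : Commute t (u - 1) := htu.sub_right (Commute.one_right t)
    exact hc.isNilpotent_mul_left hu
  have hYN : Commute t (t * (u - 1)) := by
    have hc : Commute t (u - 1) := htu.sub_right (Commute.one_right t)
    exact (Commute.refl t).mul_right hc
  have hX : g = t + t * (u - 1) := by
    rw [hgtu, mul_sub, mul_one, add_sub_cancel]
  have hmul : (g.baseChange R) = t.baseChange R * u.baseChange R := by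
    rw [hgtu, LinearMap.baseChange_mul]
  constructor
  · intro hc
    have h1 := ((hadd g t (t * (u - 1)) ht hN hYN hX).mp hc).1
    refine ⟨h1, ?_⟩
    have htU : IsUnit (t.baseChange R) := hunits.1.map (Module.End.baseChangeHom k R V)
    obtain ⟨T, hT⟩ := htU
    have h2 : Commute h (↑T : Module.End R (R ⊗[k] V)) := by rw [hT]; exact h1
    have h3 : Commute h (↑T⁻¹ : Module.End R (R ⊗[k] V)) := h2.units_inv_right
    have h4 : u.baseChange R = ↑T⁻¹ * g.baseChange R := by
      rw [hmul, ← hT, ← mul_assoc, Units.inv_mul, one_mul]
    rw [h4]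
    exact h3.mul_right hc
  · rintro ⟨h1, h2⟩
    rw [hmul]
    exact h1.mul_right h2

end Groth.Agent.S15838
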