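import Groth.Statements.S15839
import Mathlib
import Groth.Agent.S4599

set_option autoImplicit false
universe u
open CategoryTheory MonoidalCategory CartesianMonoidalCategory MonObj GrpObj AlgebraicGeometry
open SprIso

namespace Groth.Agent.S15839

open CategoryTheory.Limits in
/-- the equalizer of two endomorphisms of a separated, locally finite type `S`-scheme is a closed
subscheme of finite presentation. -/
theorem exists_equalizer {S : Scheme.{u}} (G : Over S) [IsSeparated G.hom]
    [LocallyOfFiniteType G.hom] (a b : G ⟶ G) :
    ∃ (Z : Over S) (j : Z ⟶ G), IsClosedImmersion j.left ∧ LocallyOfFinitePresentation j.left ∧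
      ∀ (T : Over S) (x : T ⟶ G), (∃ z : T ⟶ Z, z ≫ j = x) ↔ x ≫ a = x ≫ b := by
  let c : G.left ⟶ pullback G.hom G.hom :=
    pullback.lift a.left b.left (by rw [Over.w a, Over.w b])
  haveI : LocallyOfFinitePresentation (pullback.diagonal G.hom) := Groth.Agent.S4599.result G.hom
  let jl : pullback (pullback.diagonal G.hom) c ⟶ G.left := pullback.snd _ _
  have hja : jl ≫ a.left = pullback.fst _ _ := by
    have h1 : jl ≫ c ≫ pullback.fst _ _ = jl ≫ a.left := by
      rw [pullback.lift_fst]
    rw [← h1, ← Category.assoc, ← pullback.condition, Category.assoc, pullback.diagonal_fst,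
      Category.comp_id]
  have hjb : jl ≫ b.left = pullback.fst _ _ := by
    have h1 : jl ≫ c ≫ pullback.snd _ _ = jl ≫ b.left := by
      rw [pullback.lift_snd]
    rw [← h1, ← Category.assoc, ← pullback.condition, Category.assoc, pullback.diagonal_snd,
      Category.comp_id]
  refine ⟨Over.mk (jl ≫ G.hom), Over.homMk jl rfl, ?_, ?_, ?_⟩
  · change IsClosedImmersion jl
    infer_instance
  · change LocallyOfFinitePresentation jl
    infer_instance
  · intro T x
    constructor
    · rintro ⟨z, rfl⟩
      ext1
      simp only [Over.comp_left, Over.homMk_left, Category.assoc]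
      rw [hja, hjb]
    · intro h
      have hl : x.left ≫ a.left = x.left ≫ b.left := by
        simpa using congrArg (fun φ => φ.left) h
      let zl : T.left ⟶ pullback (pullback.diagonal G.hom) c :=
        pullback.lift (x.left ≫ a.left) x.left (by
          apply pullback.hom_ext
          · rw [Category.assoc, pullback.diagonal_fst, Category.comp_id, Category.assoc,
              pullback.lift_fst]
          · rw [Category.assoc, pullback.diagonal_snd, Category.comp_id, Category.assoc,
              pullback.lift_snd, hl])
      have hz : zl ≫ jl = x.left := pullback.lift_snd _ _ _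
      refine ⟨Over.homMk zl ?_, ?_⟩
      · change zl ≫ jl ≫ G.hom = T.hom
        rw [← Category.assoc, hz, Over.w x]
      · ext1
        exact hz

/-- Let S be a scheme, G an S-group scheme which is affine and of finite presentation over S, and g a
section of G over S. Then the centralizer of g — the subfunctor of G whose points with values in an
S-scheme T are the points x of G with x g_T = g_T x — is represented by a closed subscheme of G
whose inclusion is of finite presentation. -/
theorem result (S : Scheme.{u}) (G : Over S) [GrpObj G]
    [IsAffineHom G.hom] [LocallyOfFinitePresentation G.hom] (g : 𝟙_ (Over S) ⟶ G) :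
    ∃ (Z : Over S) (j : Z ⟶ G), IsClosedImmersion j.left ∧ LocallyOfFinitePresentation j.left ∧
      ∀ (T : Over S) (x : T ⟶ G), (∃ z : T ⟶ Z, z ≫ j = x) ↔
        x * (toUnit T ≫ g) = (toUnit T ≫ g) * x := by
  haveI : IsSeparated G.hom := inferInstance
  haveI : LocallyOfFiniteType G.hom := inferInstance
  obtain ⟨Z, j, h1, h2, h3⟩ := exists_equalizer G (𝟙 G * (toUnit G ≫ g)) ((toUnit G ≫ g) * 𝟙 G)
  refine ⟨Z, j, h1, h2, fun T x => ?_⟩
  rw [h3 T x, MonObj.comp_mul, MonObj.comp_mul, Category.comp_id, ← Category.assoc,
    toUnit_unique (x ≫ toUnit G) (toUnit T)]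

end Groth.Agent.S15839
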