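import Groth.Statements.S15841
import Mathlib.LinearAlgebra.TensorProduct.Tower
import Mathlib.Tactic
-- import your own Groth.Agent.* helpers here

set_option autoImplicit false
universe u
open scoped TensorProduct
open SprIso

namespace Groth.Agent.S15841


section abstract

variable {k V K' ι : Type*} [CommRing k] [AddCommGroup V] [Module k V] [AddCommGroup K']
  [Module k K'] (A : ι → V →ₗ[k] K') (C : ι → K' →ₗ[k] V) (W : ι → V →ₗ[k] K') (S : Set ι)

theorem sub_lemma (hW0 : ∀ i ∈ S, ∀ j ∈ S, j ≠ i → ∀ x, W i (C j x) = 0) :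
    ∀ (l : List ι), (∀ j ∈ l, j ∈ S) → ∀ i ∈ S, i ∉ l → ∀ H : V,
      W i (((l.map (fun i => (1 : Module.End k V) - (C i).comp (A i))).prod) H) = W i H := by
  intro l
  induction l with
  | nil => intro _ i _ _ H; simp
  | cons j l ih =>
    intro hl i hi hil H
    rw [List.map_cons, List.prod_cons, Module.End.mul_apply, LinearMap.sub_apply,
      Module.End.one_apply, map_sub, LinearMap.comp_apply]
    have hj : j ∈ S := hl j (List.mem_cons_self)
    have hji : j ≠ i := fun h => hil (h ▸ List.mem_cons_self)
    rw [hW0 i hi j hj hji, sub_zero]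
    exact ih (fun j' hj' => hl j' (List.mem_cons_of_mem _ hj')) i hi
      (fun h => hil (List.mem_cons_of_mem _ h)) H

theorem abstract_lemma (hW1 : ∀ i ∈ S, ∀ x, W i (C i x) = x)
    (hW0 : ∀ i ∈ S, ∀ j ∈ S, j ≠ i → ∀ x, W i (C j x) = 0) :
    ∀ (l : List ι), l.Nodup → (∀ i ∈ l, i ∈ S) → ∀ H : V,
      ((l.map (fun i => (1 : Module.End k V) - (C i).comp (A i))).prod) H = H →
      ∀ i ∈ l, A i H = 0 := by
  intro l
  induction l with
  | nil => intro _ _ _ _ i hi; simp at hi
  | cons i l ih =>
    intro hnd hl H hH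
    have hi : i ∈ S := hl i List.mem_cons_self
    have hil : i ∉ l := (List.nodup_cons.1 hnd).1
    have hl' : ∀ j ∈ l, j ∈ S := fun j hj => hl j (List.mem_cons_of_mem _ hj)
    set H' := ((l.map (fun i => (1 : Module.End k V) - (C i).comp (A i))).prod) H with hH'
    rw [List.map_cons, List.prod_cons, Module.End.mul_apply, ← hH', LinearMap.sub_apply,
      Module.End.one_apply, LinearMap.comp_apply] at hH
    have h1 := congrArg (W i) hH
    rw [map_sub, hW1 i hi, hH', sub_lemma A C W S hW0 l hl' i hi hil H, sub_eq_self, ← hH'] at h1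
    rw [h1, map_zero, sub_zero] at hH
    intro j hj
    rcases List.mem_cons.1 hj with rfl | hj
    · rw [← hH]; exact h1
    · exact ih (List.nodup_cons.1 hnd).2 hl' H hH j hj

end abstract

/-- For a connected reductive group G with maximal torus T whose derived group is simply connected, and
a Coxeter element w (the product of the simple reflections, each once, in any order), an element of
Lie T = k ⊗ X_*(T) fixed by Ad(w) is killed by the differential of every simple root, i.e. lies in
the centre of Lie G. In root-datum form: let P be a root pairing over ℤ with character lattice M and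
cocharacter lattice N, b a base, and suppose each simple coroot has a dual character ω_i in M with
⟨ω_i, α_i^∨⟩ = 1 and ⟨ω_i, α_j^∨⟩ = 0 for every other simple j (the simply connected derived group
hypothesis). If l lists the simple roots without repetition, w^∨ is the composite of the
coreflections along l acting on N, k is a field and H in k ⊗ N satisfies w^∨_k H = H, then (α_i)_k H
= 0 for every simple root α_i, where (α_i)_k is the base change to k of the functional ⟨α_i, −⟩ on
N. (Stated for an arbitrary field k; the published setting is an algebraically closed field, and the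
argument does not depend on k.) -/
theorem result {ι M N : Type u} [AddCommGroup M] [AddCommGroup N]
    (P : RootPairing ι ℤ M N) (b : P.Base)
    (hsc : ∀ i ∈ b.support, ∃ ω : M, P.coroot' i ω = 1 ∧ ∀ j ∈ b.support, j ≠ i → P.coroot' j ω = 0)
    (l : List ι) (hl : l.Nodup) (hlb : ∀ i : ι, i ∈ l ↔ i ∈ b.support)
    (k : Type u) [Field k] (H : k ⊗[ℤ] N)
    (hH : ((l.map (fun i => ((P.coreflection i : N ≃ₗ[ℤ] N) : N →ₗ[ℤ] N))).prod).baseChange k H = H) :
    ∀ i ∈ b.support, (P.root' i).baseChange k H = 0 := by
  classical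
  choose! ω hω using hsc
  let A : ι → (k ⊗[ℤ] N) →ₗ[k] (k ⊗[ℤ] ℤ) := fun i => (P.root' i).baseChange k
  let C : ι → (k ⊗[ℤ] ℤ) →ₗ[k] (k ⊗[ℤ] N) := fun i =>
    (LinearMap.toSpanSingleton ℤ N (P.coroot i)).baseChange k
  let W : ι → (k ⊗[ℤ] N) →ₗ[k] (k ⊗[ℤ] ℤ) := fun i => (P.toLinearMap (ω i)).baseChange k
  have hWC : ∀ i j, (W i).comp (C j) =
      ((P.coroot' j (ω i)) • (LinearMap.id : ℤ →ₗ[ℤ] ℤ)).baseChange k := by
    intro i j
    simp only [W, C]
    rw [← LinearMap.baseChange_comp]
    congr 1
    ext
    simp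
  have hW1 : ∀ i ∈ (b.support : Set ι), ∀ x, W i (C i x) = x := by
    intro i hi x
    have := LinearMap.congr_fun (hWC i i) x
    rw [(hω i hi).1, one_smul, LinearMap.baseChange_id] at this
    exact this
  have hW0 : ∀ i ∈ (b.support : Set ι), ∀ j ∈ (b.support : Set ι), j ≠ i →
      ∀ x, W i (C j x) = 0 := by
    intro i hi j hj hji x
    have := LinearMap.congr_fun (hWC i j) x
    rw [(hω i hi).2 j hj hji, zero_smul, LinearMap.baseChange_zero] at this
    exact this
  have hS : ∀ i, ((P.coreflection i : N ≃ₗ[ℤ] N) : N →ₗ[ℤ] N).baseChange k =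
      (1 : Module.End k (k ⊗[ℤ] N)) - (C i).comp (A i) := by
    intro i
    have h1 : ((P.coreflection i : N ≃ₗ[ℤ] N) : N →ₗ[ℤ] N) =
        LinearMap.id - (LinearMap.toSpanSingleton ℤ N (P.coroot i)).comp (P.root' i) := by
      ext y
      simp [RootPairing.coreflection_apply]
    rw [h1, LinearMap.baseChange_sub, LinearMap.baseChange_id, LinearMap.baseChange_comp]
    rfl
  have hprod : ((l.map (fun i => ((P.coreflection i : N ≃ₗ[ℤ] N) : N →ₗ[ℤ] N))).prod).baseChange k
      = (l.map (fun i => (1 : Module.End k (k ⊗[ℤ] N)) - (C i).comp (A i))).prod := by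
    have := map_list_prod (Module.End.baseChangeHom ℤ k N)
      (l.map (fun i => ((P.coreflection i : N ≃ₗ[ℤ] N) : N →ₗ[ℤ] N)))
    rw [List.map_map] at this
    refine this.trans ?_
    congr 1
    refine List.map_congr_left fun i _ => ?_
    exact hS i
  rw [hprod] at hH
  intro i hi
  exact abstract_lemma A C W (b.support : Set ι) hW1 hW0 l hl
    (fun j hj => (hlb j).1 hj) H hH i ((hlb i).2 hi)

end Groth.Agent.S15841
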