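import Groth.Statements.S15845
import Mathlib

set_option autoImplicit false
universe u
open SprIso

namespace Groth.Agent.S15845



theorem aux {R : Type*} [CommRing R] {n : ℕ} (x N : Matrix (Fin n) (Fin n) R)
    (hN : ∀ a b : Fin n, b ≤ a → N a b = 0)
    (hs : ∀ a b : Fin n, b.val = a.val + 1 → IsUnit (N a b))
    (hc : x * N = N * x) :
    (∀ i j : Fin n, j < i → x i j = 0) ∧ (∀ i j : Fin n, x i i = x j j) := by
  have hE : ∀ i j : Fin n, ∑ l, x i l * N l j = ∑ l, N i l * x l j := by
    intro i j
    have h1 := congrFun (congrFun hc i) j
    rw [Matrix.mul_apply, Matrix.mul_apply] at h1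
    exact h1
  -- Claim 1
  have h1 : ∀ (jv : ℕ) (j : Fin n), j.val = jv → ∀ i : Fin n, j < i → x i j = 0 := by
    intro jv
    induction jv using Nat.strong_induction_on with
    | _ jv ihj =>
      intro j hj
      have hinner : ∀ (m : ℕ) (i : Fin n), n - i.val = m → j < i → x i j = 0 := by
        intro m
        induction m using Nat.strong_induction_on with
        | _ m ihm =>
          intro i hm hji
          have hi0 : 0 < i.val := lt_of_le_of_lt (Nat.zero_le _) hji
          let i' : Fin n := ⟨i.val - 1, by omega⟩
          have hi'i : i.val = i'.val + 1 := by simp only [i']; omega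
          have hji' : j.val ≤ i'.val := by
            have : j.val < i.val := hji
            simp only [i']; omega
          have hL : ∑ l, x i' l * N l j = 0 := by
            apply Finset.sum_eq_zero
            intro l _
            by_cases hlj : l < j
            · have hl' : l < i' := lt_of_lt_of_le hlj hji'
              rw [ihj l.val (by rw [← hj]; exact hlj) l rfl i' hl', zero_mul]
            · rw [hN l j (not_lt.mp hlj), mul_zero]
          have hR : ∑ l, N i' l * x l j = N i' i * x i j := by
            apply Finset.sum_eq_single i
            · intro l _ hli
              rcases lt_or_gt_of_ne hli with hlt | hgt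
              · have : l ≤ i' := by
                  have : l.val < i.val := hlt
                  show l.val ≤ i'.val
                  omega
                rw [hN i' l this, zero_mul]
              · have hgt' : i.val < l.val := hgt
                rw [ihm (n - l.val) (by omega) l rfl (lt_trans hji hgt), mul_zero]
            · intro h
              exact absurd (Finset.mem_univ i) h
          have h2 := hE i' j
          rw [hL, hR] at h2
          exact ((hs i' i hi'i).mul_right_eq_zero).mp h2.symm
      intro i hji
      exact hinner _ i rfl hji
  have hlow : ∀ i j : Fin n, j < i → x i j = 0 := fun i j hji => h1 j.val j rfl i hji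
  refine ⟨hlow, ?_⟩
  -- Claim 2
  have hstep : ∀ a b : Fin n, b.val = a.val + 1 → x a a = x b b := by
    intro a b hab
    have hL : ∑ l, x a l * N l b = x a a * N a b := by
      apply Finset.sum_eq_single a
      · intro l _ hla
        rcases lt_or_gt_of_ne hla with hlt | hgt
        · rw [hlow a l hlt, zero_mul]
        · have : b ≤ l := by
            have : a.val < l.val := hgt
            show b.val ≤ l.val
            omega
          rw [hN l b this, mul_zero]
      · intro h
        exact absurd (Finset.mem_univ a) h
    have hR : ∑ l, N a l * x l b = N a b * x b b := by
      apply Finset.sum_eq_single b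
      · intro l _ hlb
        rcases lt_or_gt_of_ne hlb with hlt | hgt
        · have : l ≤ a := by
            have : l.val < b.val := hlt
            show l.val ≤ a.val
            omega
          rw [hN a l this, zero_mul]
        · rw [hlow l b hgt, mul_zero]
      · intro h
        exact absurd (Finset.mem_univ b) h
    have h2 := hE a b
    rw [hL, hR, mul_comm] at h2
    exact (hs a b hab).mul_left_cancel h2
  have hall : ∀ (m : ℕ) (a b : Fin n), b.val = a.val + m → x a a = x b b := by
    intro m
    induction m with
    | zero =>
      intro a b hab
      have : a = b := Fin.ext (by omega)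
      rw [this]
    | succ m ih =>
      intro a b hab
      let b' : Fin n := ⟨a.val + m, by omega⟩
      rw [ih a b' rfl]
      exact hstep b' b (by simp only [b']; omega)
  intro i j
  rcases le_total i j with hij | hij
  · exact hall (j.val - i.val) i j (by have : i.val ≤ j.val := hij; omega)
  · exact (hall (i.val - j.val) j i (by have : j.val ≤ i.val := hij; omega)).symm

/-- General linear group case: this is the case G = GL_n with its upper-triangular Borel subgroup B
(derived group SL_n simply connected, all primes good, so the hypotheses on the characteristic
hold), together with the companion statement for a regular nilpotent element of Lie B. Let k be a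
field and u an n × n upper-triangular matrix over k whose diagonal entries are all equal and whose
superdiagonal entries u_{i,i+1} are all non-zero — for diagonal 1 this is a regular unipotent
element of B(k), for diagonal 0 a regular nilpotent element of Lie B. Then the centralizer of u in
GL_n is contained in B and is the product of the centre with the centralizer in the unipotent
radical: for every commutative k-algebra R and every invertible x ∈ M_n(R) commuting with u_R, x is
upper triangular and its diagonal entries are all equal. (The smoothness of the centralizer in the
unipotent radical, also part of the published statement, is not stated here.) -/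
theorem result (k : Type u) [Field k] (n : ℕ)
    (u : Matrix (Fin n) (Fin n) k) (htri : ∀ i j : Fin n, j < i → u i j = 0) (hdiag : ∀ i j : Fin n, u i i = u j j)
    (hreg : ∀ (i j : Fin n), j.val = i.val + 1 → u i j ≠ 0)
    (R : Type u) [CommRing R] [Algebra k R] (x : Matrix (Fin n) (Fin n) R) (hx : IsUnit x)
    (hxu : x * u.map (algebraMap k R) = u.map (algebraMap k R) * x) :
    (∀ i j : Fin n, j < i → x i j = 0) ∧ (∀ i j : Fin n, x i i = x j j) := by

  rcases Nat.eq_zero_or_pos n with hn0 | hnpos
  · subst hn0
    exact ⟨fun i => i.elim0, fun i => i.elim0⟩
  let i₀ : Fin n := ⟨0, hnpos⟩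
  let c : R := algebraMap k R (u i₀ i₀)
  let N : Matrix (Fin n) (Fin n) R := u.map (algebraMap k R) - c • (1 : Matrix (Fin n) (Fin n) R)
  have hN : ∀ a b : Fin n, b ≤ a → N a b = 0 := by
    intro a b hba
    simp only [N, Matrix.sub_apply, Matrix.map_apply, Matrix.smul_apply, smul_eq_mul]
    rcases eq_or_lt_of_le hba with heq | hlt
    · rw [heq, Matrix.one_apply_eq, mul_one, hdiag a i₀]
      exact sub_self _
    · rw [htri a b hlt, map_zero, Matrix.one_apply_ne (ne_of_gt hlt), mul_zero, sub_zero]
  have hs : ∀ a b : Fin n, b.val = a.val + 1 → IsUnit (N a b) := by
    intro a b hab
    have hne : a ≠ b := by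
      intro h
      rw [h] at hab
      omega
    simp only [N, Matrix.sub_apply, Matrix.map_apply, Matrix.smul_apply, smul_eq_mul]
    rw [Matrix.one_apply_ne hne, mul_zero, sub_zero]
    exact (isUnit_iff_ne_zero.mpr (hreg a b hab)).map (algebraMap k R)
  have hc : x * N = N * x := by
    simp only [N]
    rw [Matrix.mul_sub, Matrix.sub_mul, hxu, Matrix.mul_smul, Matrix.smul_mul, mul_one, one_mul]
  exact aux x N hN hs hc

end Groth.Agent.S15845
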