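import Groth.Statements.S15874
import Groth.Agent.Lib.Helper10.TorsNorm5
import Groth.Agent.Lib.Helper6.Torsor

set_option autoImplicit false
universe u
open CategoryTheory MonoidalCategory CartesianMonoidalCategory MonObj GrpObj AlgebraicGeometry
open NonAbH1

namespace Groth.Agent.S15874

open CategoryTheory.Limits in
theorem hasSection_iff_of_equivIso {S : Scheme.{u}} {G : Over S} [GrpObj G]
    {K : Precoverage Scheme.{u}} (P Q : NonAbH1.TorsorSch G K)
    (h : Nonempty (NonAbH1.EquivIso P.act Q.act)) :
    NonAbH1.HasSectionOver P.X (𝟙 S) = NonAbH1.HasSectionOver Q.X (𝟙 S) := by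
  obtain ⟨e⟩ := h
  apply propext
  constructor
  · rintro ⟨t, ht⟩
    exact ⟨t ≫ e.iso.hom.left, by rw [Category.assoc, Over.w e.iso.hom, ht]⟩
  · rintro ⟨t, ht⟩
    exact ⟨t ≫ e.iso.inv.left, by rw [Category.assoc, Over.w e.iso.inv, ht]⟩

/-- Let G be an étale k-group scheme and S a normal integral k-scheme with generic point η. Then an fppf
torsor over S under G whose base change to Spec κ(η) is trivial is itself trivial: the kernel of
H¹(S, G) → H¹(κ(η), G) on classes of torsors that are schemes is the base point. (The published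
statement takes S merely integral; the connected étale double cover of a nodal cubic over an
algebraically closed field is a non-trivial torsor under the constant group of order 2 that is
trivial at the generic point, so S is taken normal here, which is what the published proof uses.) -/
theorem result (k : Type u) [Field k]
    (G : Over (Spec (CommRingCat.of k))) [GrpObj G] [Etale G.hom]
    (S : Scheme.{u}) [IsIntegral S] (hS : Pi1.IsNormalScheme S) (s : S ⟶ Spec (CommRingCat.of k))
    (c : NonAbH1.H1Sch (Red.bc s G) Scheme.fppfPrecoverage)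
    (hc : NonAbH1.H1Sch.bcMap (S.fromSpecResidueField (genericPoint S)) (Red.bc s G) Scheme.fppfPrecoverage c = 1) :
    c = 1 := by
  induction c using Quot.inductionOn with
  | h E =>
  let j := S.fromSpecResidueField (genericPoint S)
  -- the invariant "has a section"
  let F : NonAbH1.H1Sch (Red.bc j (Red.bc s G)) Scheme.fppfPrecoverage → Prop :=
    Quot.lift (fun P => NonAbH1.HasSectionOver P.X (𝟙 _))
      (fun P Q h => hasSection_iff_of_equivIso P Q h)
  have hF1 : F 1 := by
    change NonAbH1.HasSectionOver (Red.bc j (Red.bc s G)) (𝟙 _)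
    exact ⟨η[Red.bc j (Red.bc s G)].left, Over.w η[Red.bc j (Red.bc s G)]⟩
  have hFE : F (NonAbH1.H1Sch.bcMap j (Red.bc s G) Scheme.fppfPrecoverage (Quot.mk _ E)) := by
    rw [hc]; exact hF1
  obtain ⟨t, ht⟩ : NonAbH1.HasSectionOver (Red.bc j E.X) (𝟙 _) := hFE
  have ht' : t ≫ Limits.pullback.snd E.X.hom j = 𝟙 _ := ht
  obtain ⟨-, hex⟩ := Groth.Agent.Lib.Helper10.TorsNorm.main k G S hS s E
  obtain ⟨σ, hσ, -⟩ := hex (t ≫ Limits.pullback.fst E.X.hom j) (by
    rw [Category.assoc, Limits.pullback.condition, ← Category.assoc, ht', Category.id_comp])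
  obtain ⟨e⟩ := (Groth.Agent.Lib.Helper6.Torsor.equivIso_trivialAction_iff E.act).mpr
    ⟨E.isTorsor.1, ⟨σ, hσ⟩⟩
  exact (Quot.sound ⟨e⟩).symm

end Groth.Agent.S15874
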