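import Groth.Statements.S15883
import Mathlib

set_option autoImplicit false
universe u
open CategoryTheory AlgebraicGeometry Opposite
open BMCoh

namespace Groth.Agent.S15883

/-- Let T be a twisted Borel–Moore cohomology theory with coefficients in A (a full subcategory of
R-modules containing R) on a constructible class V of Noetherian schemes, and let i_X : X → W and
i_Y : Y → W be morphisms of V — open immersions with dim X = dim W = dim Y — whose images are
complementary in W, so that W is the disjoint union of X and Y. Then for every coefficient module M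
and all integers i, n the map H^i(W, M(n)) → H^i(X, M(n)) × H^i(Y, M(n)) whose components are the
restriction maps along i_X and i_Y is bijective. -/
theorem result (V : ObjectProperty Scheme.{u}) [BMCoh.IsConstructible V] (R : Type u) [CommRing R] (A : BMCoh.Coefs R) (T : BMCoh.TheoryOn V R A) {X Y W : BMCoh.Obj V} (iX : X ⟶ W) (iY : Y ⟶ W) (h : Set.range iX.hom = (Set.range iY.hom)ᶜ) (M : A.Cat) (i n : ℤ) : Function.Bijective (fun a : T.gp W M i n => ((T.pull iX M i n).hom a, (T.pull iY M i n).hom a)) := by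
  classical
  haveI hcl : IsClosedImmersion iY.hom := IsClosedImmersion.of_isPreimmersion iY.hom (by
    have h2 : Set.range iY.hom = (Set.range iX.hom)ᶜ := by rw [h, compl_compl]
    rw [h2]
    exact (iX.hom.isOpenEmbedding.isOpen_range).isClosed_compl)
  let D : Decomp W :=
    { Z := Y, U := X, i := iY.hom, closedImm := hcl, j := iX, range_eq := h }
  have hrc : relCodim Y.scheme W.scheme = 0 := by
    unfold relCodim
    rw [iY.dim_eq]
    simp
  have hc : D.codim = 0 := hrc
  have hYY : relCodim Y.scheme Y.scheme = 0 := by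
    unfold relCodim
    simp
  -- pull_Y ∘ push = id in every degree
  have hpp : ∀ (k : ℤ) (e1 : k = k + 2 * relCodim Y.scheme W.scheme)
      (e2 : n = n + relCodim Y.scheme W.scheme) (b : T.gp Y M k n),
      (T.pull iY M k n).hom ((T.push iY.hom M k n k n e1 e2).hom b) = b := by
    intro k e1 e2 b
    have hpb : IsPullback (𝟙 Y : Y ⟶ Y).hom (𝟙 Y.scheme) iY.hom iY.hom :=
      IsKernelPair.id_of_mono iY.hom
    have h3 := T.push_pull iY.hom (𝟙 Y.scheme) iY (𝟙 Y) hpb M k n k n e1 e2
      (by rw [hYY]; ring) (by rw [hYY]; ring)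
    rw [T.push_id] at h3
    have h4 : ((T.H k n).map (𝟙 Y : Y ⟶ Y).op).app M = 𝟙 _ := by
      rw [op_id, CategoryTheory.Functor.map_id]
      rfl
    rw [h4, Category.comp_id] at h3
    have h5 := congrArg (fun m => m.hom b) h3
    exact h5
  obtain ⟨k, rfl⟩ : ∃ k, i = k + 1 := ⟨i - 1, by ring⟩
  -- equations
  have q1 : k + 1 = k + 1 - 2 * D.codim := by rw [hc]; ring
  have q2 : n = n - D.codim := by rw [hc]; ring
  have q3 : k + 1 = (k + 1) + 2 * relCodim D.Z.scheme W.scheme := by
    change k + 1 = (k + 1) + 2 * relCodim Y.scheme W.scheme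
    rw [hrc]; ring
  have q4 : n = n + relCodim D.Z.scheme W.scheme := by
    change n = n + relCodim Y.scheme W.scheme
    rw [hrc]; ring
  have q5 : k + 1 + 1 = (k + 1) + 1 - 2 * D.codim := by rw [hc]; ring
  have q6 : (k + 1) + 1 = (k + 1 + 1) + 2 * relCodim D.Z.scheme W.scheme := by
    change (k + 1) + 1 = (k + 1 + 1) + 2 * relCodim Y.scheme W.scheme
    rw [hrc]; ring
  have B := T.exact_push_pull D M k n (k + 1) n q3 q4
  have C := T.exact_pull_res D M (k + 1) n (k + 1 + 1) n q5 q2
  have A' := T.exact_res_push D M (k + 1) n (k + 1 + 1) n q5 q2 q6 q4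
  -- the residue in degree k+1 vanishes
  have hres : ∀ x : T.gp X M (k + 1) n, (T.res D M (k + 1) n (k + 1 + 1) n q5 q2).hom x = 0 := by
    intro x
    have h1 : (T.push D.i M (k + 1 + 1) n ((k + 1) + 1) n q6 q4).hom
        ((T.res D M (k + 1) n (k + 1 + 1) n q5 q2).hom x) = 0 := (A' _).mpr ⟨x, rfl⟩
    have h2 := hpp (k + 1 + 1) q6 q4 ((T.res D M (k + 1) n (k + 1 + 1) n q5 q2).hom x)
    rw [← h2]
    change (T.pull iY M (k + 1 + 1) n).hom ((T.push D.i M (k + 1 + 1) n ((k + 1) + 1) n q6 q4).hom
        ((T.res D M (k + 1) n (k + 1 + 1) n q5 q2).hom x)) = 0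
    rw [h1, map_zero]
  constructor
  · intro a a' haa
    have h1 : (T.pull iX M (k + 1) n).hom (a - a') = 0 := by
      rw [map_sub, sub_eq_zero]
      exact congrArg Prod.fst haa
    have h2 : (T.pull iY M (k + 1) n).hom (a - a') = 0 := by
      rw [map_sub, sub_eq_zero]
      exact congrArg Prod.snd haa
    obtain ⟨b, hb⟩ := (B (a - a')).mp h1
    have h3 := hpp (k + 1) q3 q4 b
    have h4 : b = 0 := by
      rw [← h3]
      change (T.pull iY M (k + 1) n).hom ((T.push D.i M (k + 1) n (k + 1) n q3 q4).hom b) = 0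
      rw [hb, h2]
    rw [h4, map_zero] at hb
    exact sub_eq_zero.mp hb.symm
  · rintro ⟨x, y⟩
    obtain ⟨a, ha⟩ := (C x).mp (hres x)
    refine ⟨a + (T.push D.i M (k + 1) n (k + 1) n q3 q4).hom (y - (T.pull iY M (k + 1) n).hom a), ?_⟩
    have h1 : (T.pull iX M (k + 1) n).hom
        ((T.push D.i M (k + 1) n (k + 1) n q3 q4).hom (y - (T.pull iY M (k + 1) n).hom a)) = 0 :=
      (B _).mpr ⟨_, rfl⟩
    have h2 := hpp (k + 1) q3 q4 (y - (T.pull iY M (k + 1) n).hom a)
    have h2' : (T.pull iY M (k + 1) n).hom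
        ((T.push D.i M (k + 1) n (k + 1) n q3 q4).hom (y - (T.pull iY M (k + 1) n).hom a)) =
        y - (T.pull iY M (k + 1) n).hom a := h2
    ext
    · change (T.pull iX M (k + 1) n).hom _ = x
      rw [map_add, h1, add_zero]
      exact ha
    · change (T.pull iY M (k + 1) n).hom _ = y
      rw [map_add, h2']
      abel

end Groth.Agent.S15883
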