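import Groth.Statements.S15892
import Groth.Agent.Lib.Helper7.CD1
import Groth.Agent.Lib.Helper7.CD8
open TensorProduct


set_option autoImplicit false
universe u
open CartDual

namespace Groth.Agent.S15892

/-- Let R be a Noetherian ring and A', A, A'' commutative and cocommutative Hopf algebras over R, each
finitely generated and projective as an R-module (finite flat commutative R-groups G' = Spec A', G =
Spec A, G'' = Spec A''). Let f : A'' → A be a bialgebra homomorphism which is faithfully flat as a
ring map (the comorphism of a faithfully flat homomorphism π : G → G'') and g : A → A' a surjective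
bialgebra homomorphism whose kernel is the ideal of A generated by the image under f of the
augmentation ideal of A'' (the comorphism of a closed immersion ι : G' → G identifying G' with the
kernel of π), so that 1 → G' → G → G'' → 1 is a short exact sequence of finite flat R-groups. Then
the Cartier dual sequence 1 → G''^D → G^D → G'^D → 1 is again short exact: the transpose Hom_R(A',
R) → Hom_R(A, R) of g is a faithfully flat ring map between the dual Hopf algebras, and the
transpose Hom_R(A, R) → Hom_R(A'', R) of f is surjective with kernel the ideal generated by the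
image, under the transpose of g, of the augmentation ideal of Hom_R(A', R). -/
theorem result (R : Type u) [CommRing R] [IsNoetherianRing R]
    (A' A A'' : Type u) [CommRing A'] [HopfAlgebra R A'] [Coalgebra.IsCocomm R A'] [Module.Finite R A']
    [Module.Projective R A'] [CommRing A] [HopfAlgebra R A] [Coalgebra.IsCocomm R A] [Module.Finite R A]
    [Module.Projective R A] [CommRing A''] [HopfAlgebra R A''] [Coalgebra.IsCocomm R A''] [Module.Finite R A'']
    [Module.Projective R A''] (f : A'' →ₐc[R] A) (hf : (f : A'' →ₐ[R] A).toRingHom.FaithfullyFlat)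
    (g : A →ₐc[R] A') (hg : Function.Surjective g)
    (hker : RingHom.ker (g : A →ₐ[R] A') = Ideal.map (f : A'' →ₐ[R] A) (RingHom.ker (Bialgebra.counitAlgHom R A''))) :
    (CartDual.transpose R g : CartDual.D R A' →ₐ[R] CartDual.D R A).toRingHom.FaithfullyFlat ∧
      Function.Surjective (CartDual.transpose R f) ∧
      RingHom.ker (CartDual.transpose R f : CartDual.D R A →ₐ[R] CartDual.D R A'') =
        Ideal.map (CartDual.transpose R g : CartDual.D R A' →ₐ[R] CartDual.D R A)
          (RingHom.ker (Bialgebra.counitAlgHom R (CartDual.D R A'))) := by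

  classical
  letI algf : Algebra A'' A := (f : A'' →ₐ[R] A).toRingHom.toAlgebra
  haveI ff : Module.FaithfullyFlat A'' A := hf
  haveI : IsScalarTower R A'' A :=
    IsScalarTower.of_algebraMap_eq (fun r => ((f : A'' →ₐ[R] A).commutes r).symm)
  haveI : IsNoetherianRing A'' := IsNoetherianRing.of_finite R A''
  haveI : Module.Finite A'' A := Module.Finite.of_restrictScalars_finite R A'' A
  obtain ⟨ρ0, hρ01⟩ := Groth.Agent.Lib.Helper7.CD.exists_retraction (B := A'') (C := A)
  let ρ : A →ₗ[R] A'' := ρ0.restrictScalars R
  have hρ : ∀ c a, ρ (f c * a) = c * ρ a := fun c a => by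
    change ρ0 (f c * a) = c * ρ0 a
    have h1 : f c * a = c • a := (Algebra.smul_def c a).symm
    rw [h1, map_smul, smul_eq_mul]
  have hρ1 : ρ 1 = 1 := hρ01
  obtain ⟨s, hs0⟩ := Module.projective_lifting_property (g : A →ₗ[R] A') LinearMap.id hg
  have hs : ∀ a', g (s a') = a' := fun a' => LinearMap.congr_fun hs0 a'
  have hRet := Groth.Agent.Lib.Helper7.CD.Pi_lam (s := s) hρ hρ1 hker hs
  have hCou := Groth.Agent.Lib.Helper7.CD.Pi_one_tmul (s := s) hρ hker hs
  have hC : ∀ b a', Groth.Agent.Lib.Helper7.CD.lam g
      (Groth.Agent.Lib.Helper7.CD.Pi f ρ s (a' ⊗ₜ[R] b)) =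
      LinearMap.lTensor A' (Groth.Agent.Lib.Helper7.CD.Pi f ρ s ∘ₗ (TensorProduct.mk R A' A).flip b)
        (Coalgebra.comul (R := R) a') := fun b a' =>
    Groth.Agent.Lib.Helper7.CD.lam_Pib (s := s) hρ hker hs b a'
  refine ⟨Groth.Agent.Lib.Helper7.CD.faithfullyFlat_transpose hg hRet hC,
    Groth.Agent.Lib.Helper7.CD.transpose_surjective ρ ?_, le_antisymm ?_ ?_⟩
  · intro c
    have := hρ c 1
    rw [mul_one, hρ1, mul_one] at this
    exact this
  · exact Groth.Agent.Lib.Helper7.CD.ker_le_map ρ hRet hCou
  · exact Groth.Agent.Lib.Helper7.CD.map_le_ker (Groth.Agent.Lib.Helper7.CD.g_f g hker)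

end Groth.Agent.S15892
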