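import Groth.Statements.S15895
import Groth.Agent.Lib.Helper7.Versch2

set_option autoImplicit false
universe u
open scoped TensorProduct
open Versch

namespace Groth.Agent.S15895

/-- Let p be a prime, R a commutative ring of characteristic p and B = Hom_R(R[ℤ/p], R) the dual Hopf
algebra of the group algebra of the cyclic group of order p: the Hopf algebra of the constant group
scheme ℤ/p over Spec R (the Cartier dual of μ_p). Let v : B → B ⊗_R R^(Frob) be the comorphism of
the Verschiebung V : (ℤ/p)^(p) → ℤ/p (the ring map whose transpose under the canonical pairing is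
the relative Frobenius of the dual Hopf algebra of B). Then V is the trivial homomorphism: v is the
composite of the counit ε : B → R, the identity of underlying rings R → R^(Frob) and the inclusion
of the twisted factor R^(Frob) → B ⊗_R R^(Frob), i.e. v(b) = 1 ⊗ ε(b). -/
theorem result (p : ℕ) [Fact p.Prime] (R : Type u) [CommRing R]
    [CharP R p] (v : CartDual.D R (MonoidAlgebra R (Multiplicative (ZMod p))) →+* FrobAlg.BaseChange p R (CartDual.D R (MonoidAlgebra R (Multiplicative (ZMod p)))))
    (hv : Versch.IsVerschiebung p R (CartDual.D R (MonoidAlgebra R (Multiplicative (ZMod p)))) v) :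
    v = ((Algebra.TensorProduct.includeRight (R := R) (A := CartDual.D R (MonoidAlgebra R (Multiplicative (ZMod p))))
            (B := FrobAlg.Twist p R)).toRingHom.comp (FrobAlg.toTwist p R).toRingHom).comp
          (Bialgebra.counitAlgHom R (CartDual.D R (MonoidAlgebra R (Multiplicative (ZMod p))))).toRingHom := by
  have hv' := (Versch.isVerschiebung_iff p R (CartDual.D R (MonoidAlgebra R (Multiplicative (ZMod p)))) v).1 hv
  apply RingHom.ext
  intro b
  apply Versch.evTw_injective p R (CartDual.D R (MonoidAlgebra R (Multiplicative (ZMod p))))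
  intro x
  rw [hv']
  change _ = Versch.evTw p R _ x ((1 : CartDual.D R (MonoidAlgebra R (Multiplicative (ZMod p)))) ⊗ₜ[R]
    FrobAlg.toTwist p R (Coalgebra.counit (R := R) b))
  rw [Versch.evTw_tmul']
  obtain ⟨u, rfl⟩ := Groth.Agent.Lib.Helper7.Versch.eval_surjective x
  rw [← map_pow, CartDual.eval_apply, CartDual.eval_apply,
    Groth.Agent.Lib.Helper7.Versch.pow_eq_algebraMap_counit p u, ← map_mul]
  congr 1
  rw [Algebra.algebraMap_eq_smul_one]
  have h1 : b ((Coalgebra.counit (R := R) u ^ p) • (1 : MonoidAlgebra R (Multiplicative (ZMod p)))) =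
      (Coalgebra.counit (R := R) u ^ p) * b (1 : MonoidAlgebra R (Multiplicative (ZMod p))) := by
    change b.ofConv _ = _
    rw [map_smul, smul_eq_mul]
  rw [h1]
  rfl

end Groth.Agent.S15895
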