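import Groth.Statements.S15896
import Groth.Agent.Lib.Helper7.EtAug
import Groth.Agent.Lib.Helper7.FactorBialg


set_option autoImplicit false
universe u
open scoped TensorProduct
open Hopf

namespace Groth.Agent.S15896

/-- Let R be a henselian Noetherian local ring and A a commutative and cocommutative Hopf algebra over R
which is finitely generated and projective as an R-module (a finite flat commutative R-group G =
Spec A). Let e ∈ A be an idempotent with ε(e) = 1 such that the ideal (1 − e) is a Hopf ideal and A⁰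
= A/(1 − e) is a local ring, projective over R, with cocommutative quotient structure (G⁰ = Spec A⁰
is the connected component of the unit section). Let B = Hom_R(A⁰, R) be the dual Hopf algebra (the
Cartier dual (G⁰)^D) and e' ∈ B an idempotent with ε(e') = 1 and B/(1 − e') local (the unit
component of (G⁰)^D). Say that x ∈ B is invariant when (id ⊗ (multiplication by e'))(Δ x) = x ⊗ e',
i.e. x is invariant under translation by the unit component of (G⁰)^D, so that the invariant
elements form the Hopf algebra of the maximal étale quotient of (G⁰)^D; the ideal in A⁰ of the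
closed subgroup G_μ ⊆ G⁰ ⊆ G consists of the elements annihilated by every invariant x (G_μ is the
Cartier dual of the étale quotient of (G⁰)^D, a connected multiplicative subgroup of G). Then G_μ is
the largest connected multiplicative closed subgroup of G: for every Hopf ideal J of A such that A/J
is a local ring, projective over R, cocommutative, and has étale dual Hopf algebra Hom_R(A/J, R) (H
= Spec A/J a connected closed subgroup with étale Cartier dual), every a ∈ A whose image in A⁰ is
annihilated by all invariant x lies in J, i.e. H ⊆ G_μ. -/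
theorem result (R : Type u) [CommRing R]
    [HenselianLocalRing R] [IsNoetherianRing R] (A : Type u) [CommRing A] [HopfAlgebra R A] [Coalgebra.IsCocomm R A]
    [Module.Finite R A] [Module.Projective R A] (e : A) (he : IsIdempotentElem e)
    (hε : Bialgebra.counitAlgHom R A e = 1) [(Ideal.span ({1 - e} : Set A)).IsHopfIdeal R] [IsLocalRing (A ⧸ Ideal.span ({1 - e} : Set A))]
    [Module.Projective R (A ⧸ Ideal.span ({1 - e} : Set A))] [Coalgebra.IsCocomm R (A ⧸ Ideal.span ({1 - e} : Set A))]
    (e' : CartDual.D R (A ⧸ Ideal.span ({1 - e} : Set A))) (he' : IsIdempotentElem e')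
    (hε' : Bialgebra.counitAlgHom R (CartDual.D R (A ⧸ Ideal.span ({1 - e} : Set A))) e' = 1)
    [IsLocalRing (CartDual.D R (A ⧸ Ideal.span ({1 - e} : Set A)) ⧸ Ideal.span ({1 - e'} : Set (CartDual.D R (A ⧸ Ideal.span ({1 - e} : Set A)))))]
    (J : Ideal A) [J.IsHopfIdeal R] [IsLocalRing (A ⧸ J)] [Module.Projective R (A ⧸ J)]
    [Coalgebra.IsCocomm R (A ⧸ J)] [Algebra.Etale R (CartDual.D R (A ⧸ J))]
    (a : A) (ha : ∀ x : CartDual.D R (A ⧸ Ideal.span ({1 - e} : Set A)), LinearMap.lTensor (CartDual.D R (A ⧸ Ideal.span ({1 - e} : Set A))) (LinearMap.mulLeft R e') (Coalgebra.comul (R := R) x) = x ⊗ₜ[R] e' → x (Ideal.Quotient.mk (Ideal.span ({1 - e} : Set A)) a) = 0) :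
    a ∈ J := by

  classical
  -- Step 1: `1 - e ∈ J`
  have h1e : 1 - e ∈ J := by
    rw [← Ideal.Quotient.eq_zero_iff_mem, map_sub, map_one, sub_eq_zero]
    have hid : IsIdempotentElem (Ideal.Quotient.mk J e) := by
      unfold IsIdempotentElem
      rw [← map_mul, he.eq]
    rcases IsLocalRing.isUnit_or_isUnit_one_sub_self (Ideal.Quotient.mk J e) with hu | hu
    · have := hid.eq
      exact (hu.mul_left_cancel (by rw [this, mul_one])).symm
    · exfalso
      have h0 : Ideal.Quotient.mk J e = 0 := by
        apply hu.mul_left_cancel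
        rw [mul_zero, sub_mul, one_mul, hid.eq, sub_self]
      have h2 : Coalgebra.counit (R := R) (Ideal.Quotient.mk J e) = 1 := hε
      rw [h0, map_zero] at h2
      exact zero_ne_one h2
  have hIJ : Ideal.span ({1 - e} : Set A) ≤ J := by
    rw [Ideal.span_singleton_le_iff_mem]; exact h1e
  -- Step 2: the factor map and its transpose
  let q := Groth.Agent.Lib.Helper7.FactorBialg.factorBialgHom (R := R) (Ideal.span ({1 - e} : Set A)) J hIJ
  let tq := CartDual.transpose R q
  -- Step 3: the étale argument
  haveI : IsNoetherianRing (CartDual.D R (A ⧸ Ideal.span ({1 - e} : Set A))) :=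
    IsNoetherianRing.of_finite R _
  have hcou : ∀ x ∈ Ideal.span ({1 - e'} : Set (CartDual.D R (A ⧸ Ideal.span ({1 - e} : Set A)))),
      Bialgebra.counitAlgHom R (CartDual.D R (A ⧸ Ideal.span ({1 - e} : Set A))) x = 0 := by
    intro x hx
    rw [Ideal.mem_span_singleton'] at hx
    obtain ⟨c, rfl⟩ := hx
    rw [map_mul, map_sub, map_one, hε', sub_self, mul_zero]
  let ε' := Ideal.Quotient.liftₐ (Ideal.span ({1 - e'} : Set (CartDual.D R (A ⧸ Ideal.span ({1 - e} : Set A)))))
    (Bialgebra.counitAlgHom R (CartDual.D R (A ⧸ Ideal.span ({1 - e} : Set A)))) hcou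
  let φ := (Ideal.Quotient.mkₐ R (Ideal.span ({1 - e'} : Set (CartDual.D R (A ⧸ Ideal.span ({1 - e} : Set A)))))).comp
    (tq : CartDual.D R (A ⧸ J) →ₐ[R] CartDual.D R (A ⧸ Ideal.span ({1 - e} : Set A)))
  have key : ∀ u : CartDual.D R (A ⧸ J), e' * tq u = Coalgebra.counit (R := R) u • e' := by
    intro u
    have h := Groth.Agent.Lib.Helper7.EtAug.algHom_eq_of_augmentation (R := R)
      (E := CartDual.D R (A ⧸ J))
      (C := CartDual.D R (A ⧸ Ideal.span ({1 - e} : Set A)) ⧸ Ideal.span ({1 - e'} : Set (CartDual.D R (A ⧸ Ideal.span ({1 - e} : Set A))))) ε' φ u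
    have h2 : ε' (φ u) = Coalgebra.counit (R := R) u := by
      change Coalgebra.counit (R := R) (tq u) = _
      exact CoalgHomClass.counit_comp_apply tq u
    rw [h2] at h
    have h3 : tq u - algebraMap R _ (Coalgebra.counit (R := R) u) ∈
        Ideal.span ({1 - e'} : Set (CartDual.D R (A ⧸ Ideal.span ({1 - e} : Set A)))) := by
      rw [← Ideal.Quotient.eq_zero_iff_mem, map_sub, sub_eq_zero]
      exact h
    rw [Ideal.mem_span_singleton'] at h3
    obtain ⟨c, hc⟩ := h3
    have h4 : e' * (tq u - algebraMap R _ (Coalgebra.counit (R := R) u)) = 0 := by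
      rw [← hc, mul_comm c, ← mul_assoc, mul_sub, mul_one, he'.eq, sub_self, zero_mul]
    rw [mul_sub, sub_eq_zero] at h4
    rw [h4, Algebra.algebraMap_eq_smul_one, mul_smul_comm, mul_one]
  -- Step 4: elements of the image of `tq` are invariant
  have hinv : ∀ y : CartDual.D R (A ⧸ J),
      LinearMap.lTensor (CartDual.D R (A ⧸ Ideal.span ({1 - e} : Set A))) (LinearMap.mulLeft R e')
        (Coalgebra.comul (R := R) (tq y)) = tq y ⊗ₜ[R] e' := by
    intro y
    have h1 : Coalgebra.comul (R := R) (tq y) =
        TensorProduct.map (tq : CartDual.D R (A ⧸ J) →ₗ[R] CartDual.D R (A ⧸ Ideal.span ({1 - e} : Set A))) (tq : CartDual.D R (A ⧸ J) →ₗ[R] CartDual.D R (A ⧸ Ideal.span ({1 - e} : Set A)))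
          (Coalgebra.comul (R := R) y) :=
      (CoalgHomClass.map_comp_comul_apply tq y).symm
    rw [h1, ← (Coalgebra.Repr.arbitrary R y).eq]
    simp only [map_sum, TensorProduct.map_tmul, LinearMap.lTensor_tmul, LinearMap.coe_coe,
      LinearMap.mulLeft_apply, key]
    have h2 := Coalgebra.sum_tmul_counit_eq (Coalgebra.Repr.arbitrary R y)
    have h3 := congrArg (TensorProduct.map (tq : CartDual.D R (A ⧸ J) →ₗ[R] CartDual.D R (A ⧸ Ideal.span ({1 - e} : Set A)))
      (LinearMap.toSpanSingleton R _ e')) h2
    simpa using h3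
  -- Step 5
  have hy : ∀ y : CartDual.D R (A ⧸ J), y (Ideal.Quotient.mk J a) = 0 := by
    intro y
    exact ha (tq y) (hinv y)
  rw [← Ideal.Quotient.eq_zero_iff_mem, ← Module.forall_dual_apply_eq_zero_iff R]
  intro ψ
  exact hy (WithConv.toConv ψ)

end Groth.Agent.S15896
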