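import Groth.Statements.S15902
import Mathlib
import Groth.Agent.Helper19.KoszCM
import Groth.Agent.Helper19.KoszShExact
import Groth.Agent.Helper19.FreeBasis
import Groth.Agent.Lib.Helper29.QCohLocFree
-- import your own Groth.Agent.* helpers here

set_option autoImplicit false
universe u
open CategoryTheory AlgebraicGeometry Opposite
open KoszSh

namespace Groth.Agent.S15902

/-- Let X be a locally Noetherian scheme all of whose local rings are Cohen–Macaulay, i : Y → X a closed
immersion and c a natural number such that Y is a local complete intersection of codimension c in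
the following sense: around every point of Y there is an affine open of X on which c sections
generate the ideal sheaf of Y, and for every point y of Y the ideal of Y in the local ring O_{X,y}
(the kernel of O_{X,y} → O_{Y,y}) has height at least c. Then around every point of Y there is an
affine open U of X and sections f_1, …, f_c ∈ Γ(X, U) which generate the ideal of Y on U and form a
weakly regular sequence in Γ(X, U); consequently, on the open subscheme U, for every cosection s :
O_U^c → O_U sending the k-th standard basis section to f_k and every Koszul complex K(O_U^c, s) of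
s, the homology sheaves of K(O_U^c, s) vanish in every degree q ≥ 1, so that K(O_U^c, s) is a finite
free resolution of the restriction of i_*O_Y to U. (The published statement takes Y a local complete
intersection in a smooth variety X over a field, the ideal being generated near each closed point by
codim(Y, X) elements, and asserts the existence of such a neighbourhood with a free Koszul
resolution; the hypotheses here are what that gives at every point of Y over a Cohen–Macaulay base,
the existence of the Koszul complex is not asserted, and the resolution property is stated for every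
Koszul complex of the local free pair.) -/
theorem result {X Y : Scheme.{u}}
    [IsLocallyNoetherian X] (hCM : ∀ x : X, LocCoh.IsCohenMacaulayLocalRing (X.presheaf.stalk x))
    (i : Y ⟶ X) [IsClosedImmersion i] (c : ℕ)
    (hgen : ∀ y : Y, ∃ U : X.affineOpens, i.base y ∈ U.1 ∧ ∃ g : Fin c → Γ(X, U.1), i.ker.ideal U = Ideal.span (Set.range g))
    (hht : ∀ y : Y, (c : ℕ∞) ≤ (RingHom.ker (i.stalkMap y).hom).height) :
    ∀ y : Y, ∃ U : X.affineOpens, i.base y ∈ U.1 ∧ ∃ f : Fin c → Γ(X, U.1),
      i.ker.ideal U = Ideal.span (Set.range f) ∧ RingTheory.Sequence.IsWeaklyRegular Γ(X, U.1) (List.ofFn f) ∧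
      ∀ (s : FlatMod.freeMod (↑U.1) c ⟶ Coh.structureModule (↑U.1)),
        (∀ k : Fin c, KoszSh.secForm s ⊤ ((Limits.Sigma.ι (fun _ : Fin c => Coh.structureModule (↑U.1)) k).app ⊤
            (OmegaSh.strSect (↑U.1) ⊤ 1)) = U.1.topIso.inv (f k)) →
        ∀ (C : KoszSh.Cx (FlatMod.freeMod (↑U.1) c) s) (q : ℕ), 1 ≤ q → Limits.IsZero (C.K.homology q) := by
  intro y
  obtain ⟨U₀, hy, g, hg⟩ := hgen y
  obtain ⟨U, hyU, f, hf, hwr⟩ := Groth.Agent.Helper19.KoszCM.exists_regular_generators i c y
    (hCM (i y)) U₀.1 U₀.2 hy g hg (hht y)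
  refine ⟨U, hyU, f, hf, hwr, ?_⟩
  intro s hs C q hq
  haveI : IsAffine (↑U.1 : Scheme.{u}) := U.2
  haveI : (FlatMod.freeMod (↑U.1 : Scheme.{u}) c).IsQuasicoherent :=
    Groth.Agent.Lib.Helper29.QCoh.isQuasicoherent_of_isFinLocFree
      (Groth.Agent.Lib.Helper29.QCoh.isFinLocFree_freeMod _ _)
  apply Groth.Agent.Helper19.KoszShExact.isZero_homology C c _ q hq
  intro x
  refine ⟨⟨⊤, isAffineOpen_top _⟩, trivial, Groth.Agent.Helper19.FreeBasis.basis (↑U.1) c ⊤, ?_⟩
  have h1 : (fun k => KoszSh.secForm s ⊤ (Groth.Agent.Helper19.FreeBasis.basis (↑U.1) c ⊤ k)) =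
      fun k => U.1.topIso.inv.hom (f k) := by
    funext k
    rw [Groth.Agent.Helper19.FreeBasis.basis_apply]
    exact hs k
  show RingTheory.Sequence.IsWeaklyRegular _ (List.ofFn fun k => KoszSh.secForm s ⊤
    (Groth.Agent.Helper19.FreeBasis.basis (↑U.1) c ⊤ k))
  rw [h1]
  have h2 : (List.ofFn fun k => U.1.topIso.inv.hom (f k)) = (List.ofFn f).map U.1.topIso.inv.hom := by
    rw [List.map_ofFn]
    rfl
  rw [h2]
  letI : Algebra Γ(X, U.1) Γ(↑U.1, ⊤) := U.1.topIso.inv.hom.toAlgebra
  haveI : Module.Flat Γ(X, U.1) Γ(↑U.1, ⊤) := by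
    have hb : Function.Bijective U.1.topIso.inv.hom := ConcreteCategory.bijective_of_isIso U.1.topIso.inv
    exact RingHom.flat_algebraMap_iff.mp (RingHom.Flat.of_bijective hb)
  exact RingTheory.Sequence.IsWeaklyRegular.of_flat (R := Γ(X, U.1)) (S := Γ(↑U.1, ⊤)) hwr

end Groth.Agent.S15902
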