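import Groth.Statements.S15906
import Mathlib
import Groth.Agent.Lib.Helper8.DP7

set_option autoImplicit false
open Surf



namespace Groth.Agent.S15906

open W4c3severiratdp in
/-- Work in the lattice of vectors (a; b_1, …, b_δ), standing for divisor classes a ℓ − Σ b_i e_i on the
blow-up of the projective plane at δ points written in a standard basis, with intersection form a a'
− Σ b_i b_i' and canonical class K = (−3; −1, …, −1); a conic class is a class Q with Q·Q = 0 and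
K·Q = −2, an exceptional class (the class of a (−1)-curve) is a class E with E·E = −1 and K·E = −1,
and the Weyl group W_δ is the group of additive automorphisms of the lattice preserving the form and
fixing K. For δ = 8, a class (a; b_1, …, b_8) is a conic class if and only if, up to a permutation
of b_1, …, b_8, it is one of the fifteen vectors (1; 1, 0, 0, 0, 0, 0, 0, 0), (2; 1, 1, 1, 1, 0, 0,
0, 0), (3; 2, 1, 1, 1, 1, 1, 0, 0), (4; 2, 2, 2, 1, 1, 1, 1, 0), (4; 3, 1, 1, 1, 1, 1, 1, 1), (5; 2,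
2, 2, 2, 2, 2, 1, 0), (5; 3, 2, 2, 2, 1, 1, 1, 1), (6; 3, 3, 2, 2, 2, 2, 1, 1), (7; 3, 3, 3, 3, 2,
2, 2, 1), (7; 4, 3, 2, 2, 2, 2, 2, 2), (8; 4, 3, 3, 3, 3, 2, 2, 2), (8; 3, 3, 3, 3, 3, 3, 3, 1), (9;
4, 4, 3, 3, 3, 3, 3, 2), (10; 4, 4, 4, 4, 3, 3, 3, 3), (11; 4, 4, 4, 4, 4, 4, 4, 3). (One line of
the published table is illegible in the available copy; the fifteen vectors here are the complete
solution set of the two defining equations a² = Σ b_i², 3a − Σ b_i = 2.) -/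
theorem result (v : DP 8) :
    IsConic v ↔
      ∃ t ∈ ({![1, 1, 0, 0, 0, 0, 0, 0, 0],
        ![2, 1, 1, 1, 1, 0, 0, 0, 0],
        ![3, 2, 1, 1, 1, 1, 1, 0, 0],
        ![4, 2, 2, 2, 1, 1, 1, 1, 0],
        ![4, 3, 1, 1, 1, 1, 1, 1, 1],
        ![5, 2, 2, 2, 2, 2, 2, 1, 0],
        ![5, 3, 2, 2, 2, 1, 1, 1, 1],
        ![6, 3, 3, 2, 2, 2, 2, 1, 1],
        ![7, 3, 3, 3, 3, 2, 2, 2, 1],
        ![7, 4, 3, 2, 2, 2, 2, 2, 2],
        ![8, 4, 3, 3, 3, 3, 2, 2, 2],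
        ![8, 3, 3, 3, 3, 3, 3, 3, 1],
        ![9, 4, 4, 3, 3, 3, 3, 3, 2],
        ![10, 4, 4, 4, 4, 3, 3, 3, 3],
        ![11, 4, 4, 4, 4, 4, 4, 4, 3]} : Set (DP 8)),
        ∃ σ : Equiv.Perm (Fin 8), v 0 = t 0 ∧ ∀ i : Fin 8, v (σ i).succ = t i.succ := by
  open Groth.Agent.Lib.Helper8.DP in
  constructor
  · intro hv
    set b : Fin 8 → ℤ := fun i => v i.succ with hb
    set σ := Tuple.sort (fun i => - b i) with hσ
    have hmono : Monotone ((fun i => - b i) ∘ σ) := Tuple.monotone_sort _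
    have hanti : Antitone (fun i => b (σ i)) := fun i j hij => by
      have := hmono hij
      simpa using this
    set v' : DP 8 := Fin.cons (v 0) (fun i => b (σ i)) with hv'def
    have h0 : v 0 = v' 0 := by rw [hv'def, Fin.cons_zero]
    have hs : ∀ i, v (σ i).succ = v' i.succ := fun i => by rw [hv'def, Fin.cons_succ]
    have hv' : IsConic v' := (isConic_perm v v' σ h0 hs).1 hv
    have hmem : toL v' ∈ tab_c8.map (·.1) := tab_c8_eq ▸ mem_conicsL le_rfl v' hv'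
    have htl : toL v' = v 0 :: List.ofFn (fun i => b (σ i)) := by
      unfold toL
      rw [List.ofFn_succ]
      congr 1
    have htail : (toL v').tail.SortedGE := by
      rw [htl, List.tail_cons, List.sortedGE_ofFn_iff]
      exact hanti
    have hty := sorted_mem_types _ hmem htail
    refine ⟨v', ?_, σ, h0, hs⟩
    rw [← ofL_toL v']
    generalize toL v' = l at hty
    simp only [types15L, List.mem_cons, List.not_mem_nil, or_false] at hty
    rcases hty with rfl | rfl | rfl | rfl | rfl | rfl | rfl | rfl | rfl | rfl | rfl | rfl | rfl | rfl | rfl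
    · rw [ofL9]; exact Or.inl rfl
    · rw [ofL9]; exact Or.inr (Or.inl rfl)
    · rw [ofL9]; exact Or.inr (Or.inr (Or.inl rfl))
    · rw [ofL9]; exact Or.inr (Or.inr (Or.inr (Or.inl rfl)))
    · rw [ofL9]; exact Or.inr (Or.inr (Or.inr (Or.inr (Or.inl rfl))))
    · rw [ofL9]; exact Or.inr (Or.inr (Or.inr (Or.inr (Or.inr (Or.inl rfl)))))
    · rw [ofL9]; exact Or.inr (Or.inr (Or.inr (Or.inr (Or.inr (Or.inr (Or.inl rfl))))))
    · rw [ofL9]; exact Or.inr (Or.inr (Or.inr (Or.inr (Or.inr (Or.inr (Or.inr (Or.inl rfl)))))))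
    · rw [ofL9]; exact Or.inr (Or.inr (Or.inr (Or.inr (Or.inr (Or.inr (Or.inr (Or.inr (Or.inl rfl))))))))
    · rw [ofL9]; exact Or.inr (Or.inr (Or.inr (Or.inr (Or.inr (Or.inr (Or.inr (Or.inr (Or.inr (Or.inl rfl)))))))))
    · rw [ofL9]; exact Or.inr (Or.inr (Or.inr (Or.inr (Or.inr (Or.inr (Or.inr (Or.inr (Or.inr (Or.inr (Or.inl rfl))))))))))
    · rw [ofL9]; exact Or.inr (Or.inr (Or.inr (Or.inr (Or.inr (Or.inr (Or.inr (Or.inr (Or.inr (Or.inr (Or.inr (Or.inl rfl)))))))))))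
    · rw [ofL9]; exact Or.inr (Or.inr (Or.inr (Or.inr (Or.inr (Or.inr (Or.inr (Or.inr (Or.inr (Or.inr (Or.inr (Or.inr (Or.inl rfl))))))))))))
    · rw [ofL9]; exact Or.inr (Or.inr (Or.inr (Or.inr (Or.inr (Or.inr (Or.inr (Or.inr (Or.inr (Or.inr (Or.inr (Or.inr (Or.inr (Or.inl rfl)))))))))))))
    · rw [ofL9]; exact Or.inr (Or.inr (Or.inr (Or.inr (Or.inr (Or.inr (Or.inr (Or.inr (Or.inr (Or.inr (Or.inr (Or.inr (Or.inr (Or.inr (rfl))))))))))))))
  · rintro ⟨t, ht, σ, h0, h⟩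
    refine (isConic_perm v t σ h0 h).2 ?_
    have hall := types15L_conic
    rcases ht with rfl | rfl | rfl | rfl | rfl | rfl | rfl | rfl | rfl | rfl | rfl | rfl | rfl | rfl | rfl
    · rw [← ofL9]
      obtain ⟨h1, h2, h3⟩ := hall [1, 1, 0, 0, 0, 0, 0, 0, 0] (by decide)
      exact isConic_ofL _ h1 h2 h3
    · rw [← ofL9]
      obtain ⟨h1, h2, h3⟩ := hall [2, 1, 1, 1, 1, 0, 0, 0, 0] (by decide)
      exact isConic_ofL _ h1 h2 h3
    · rw [← ofL9]
      obtain ⟨h1, h2, h3⟩ := hall [3, 2, 1, 1, 1, 1, 1, 0, 0] (by decide)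
      exact isConic_ofL _ h1 h2 h3
    · rw [← ofL9]
      obtain ⟨h1, h2, h3⟩ := hall [4, 2, 2, 2, 1, 1, 1, 1, 0] (by decide)
      exact isConic_ofL _ h1 h2 h3
    · rw [← ofL9]
      obtain ⟨h1, h2, h3⟩ := hall [4, 3, 1, 1, 1, 1, 1, 1, 1] (by decide)
      exact isConic_ofL _ h1 h2 h3
    · rw [← ofL9]
      obtain ⟨h1, h2, h3⟩ := hall [5, 2, 2, 2, 2, 2, 2, 1, 0] (by decide)
      exact isConic_ofL _ h1 h2 h3
    · rw [← ofL9]
      obtain ⟨h1, h2, h3⟩ := hall [5, 3, 2, 2, 2, 1, 1, 1, 1] (by decide)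
      exact isConic_ofL _ h1 h2 h3
    · rw [← ofL9]
      obtain ⟨h1, h2, h3⟩ := hall [6, 3, 3, 2, 2, 2, 2, 1, 1] (by decide)
      exact isConic_ofL _ h1 h2 h3
    · rw [← ofL9]
      obtain ⟨h1, h2, h3⟩ := hall [7, 3, 3, 3, 3, 2, 2, 2, 1] (by decide)
      exact isConic_ofL _ h1 h2 h3
    · rw [← ofL9]
      obtain ⟨h1, h2, h3⟩ := hall [7, 4, 3, 2, 2, 2, 2, 2, 2] (by decide)
      exact isConic_ofL _ h1 h2 h3
    · rw [← ofL9]
      obtain ⟨h1, h2, h3⟩ := hall [8, 4, 3, 3, 3, 3, 2, 2, 2] (by decide)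
      exact isConic_ofL _ h1 h2 h3
    · rw [← ofL9]
      obtain ⟨h1, h2, h3⟩ := hall [8, 3, 3, 3, 3, 3, 3, 3, 1] (by decide)
      exact isConic_ofL _ h1 h2 h3
    · rw [← ofL9]
      obtain ⟨h1, h2, h3⟩ := hall [9, 4, 4, 3, 3, 3, 3, 3, 2] (by decide)
      exact isConic_ofL _ h1 h2 h3
    · rw [← ofL9]
      obtain ⟨h1, h2, h3⟩ := hall [10, 4, 4, 4, 4, 3, 3, 3, 3] (by decide)
      exact isConic_ofL _ h1 h2 h3
    · rw [← ofL9]
      obtain ⟨h1, h2, h3⟩ := hall [11, 4, 4, 4, 4, 4, 4, 4, 3] (by decide)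
      exact isConic_ofL _ h1 h2 h3

end Groth.Agent.S15906
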