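import Groth.Statements.S15907
import Mathlib
import Groth.Agent.Lib.Helper8.DP4
import Groth.Agent.Lib.Helper8.DPC2
import Groth.Agent.Lib.Helper8.DPC3
import Groth.Agent.Lib.Helper8.DPC4
import Groth.Agent.Lib.Helper8.DPC5
import Groth.Agent.Lib.Helper8.DPC6
import Groth.Agent.Lib.Helper8.DPC7
import Groth.Agent.Lib.Helper8.DPC8

set_option autoImplicit false
open Surf



namespace Groth.Agent.S15907

open W4c3severiratdp in
/-- Work in the lattice of vectors (a; b_1, …, b_δ), standing for divisor classes a ℓ − Σ b_i e_i on the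
blow-up of the projective plane at δ points written in a standard basis, with intersection form a a'
− Σ b_i b_i' and canonical class K = (−3; −1, …, −1); a conic class is a class Q with Q·Q = 0 and
K·Q = −2, an exceptional class (the class of a (−1)-curve) is a class E with E·E = −1 and K·E = −1,
and the Weyl group W_δ is the group of additive automorphisms of the lattice preserving the form and
fixing K. For 2 ≤ δ ≤ 8 the intersection product Q_1·Q_2 determines the W_δ-orbit of an ordered pair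
(Q_1, Q_2) of conic classes, the only exception being δ = 8 with Q_1·Q_2 = 4: if (Q_1, Q_2) and
(Q_1', Q_2') are ordered pairs of conic classes with Q_1·Q_2 = Q_1'·Q_2', and not both δ = 8 and
Q_1·Q_2 = 4, then some element of W_δ carries Q_1 to Q_1' and Q_2 to Q_2'. -/
theorem result (δ : ℕ) (h2 : 2 ≤ δ) (h8 : δ ≤ 8)
    (v₁ v₂ w₁ w₂ : DP δ) (hv₁ : IsConic v₁) (hv₂ : IsConic v₂) (hw₁ : IsConic w₁) (hw₂ : IsConic w₂)
    (heq : form v₁ v₂ = form w₁ w₂) (hexc : ¬ (δ = 8 ∧ form v₁ v₂ = 4)) :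
    ∃ g : DP δ ≃ₗ[ℤ] DP δ, IsWeyl g ∧ g v₁ = w₁ ∧ g v₂ = w₂ := by
  open Groth.Agent.Lib.Helper8.DP in
  have key : ∀ (roots : List (List ℤ)) (F : List ℤ) (reps : List (ℤ × List (List ℤ)))
      (tab : List (List ℤ × List ℕ × List ℕ)), checkTable δ roots F reps tab = true →
      conicsL δ = tab.map (·.1) → (∀ p ∈ reps, p.1 = form v₁ v₂ → p.2.length ≤ 1) →
      ∃ g : DP δ ≃ₗ[ℤ] DP δ, IsWeyl g ∧ g v₁ = w₁ ∧ g v₂ = w₂ := by
    intro roots F reps tab hchk htab hsub
    exact pairs_transitive hchk IsConic (fun v hv => htab ▸ mem_conicsL h8 v hv)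
      (fun g hg v hv => IsWeyl.isConic hg hv) _ hsub v₁ v₂ w₁ w₂ hv₁ hv₂ hw₁ hw₂ rfl heq.symm
  open Groth.Agent.Lib.Helper8.DP in
  interval_cases δ
  · exact key _ _ _ _ tab_c2_check tab_c2_eq
      (fun p hp _ => (by decide : ∀ p ∈ reps_c2, p.2.length ≤ 1) p hp)
  · exact key _ _ _ _ tab_c3_check tab_c3_eq
      (fun p hp _ => (by decide : ∀ p ∈ reps_c3, p.2.length ≤ 1) p hp)
  · exact key _ _ _ _ tab_c4_check tab_c4_eq
      (fun p hp _ => (by decide : ∀ p ∈ reps_c4, p.2.length ≤ 1) p hp)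
  · exact key _ _ _ _ tab_c5_check tab_c5_eq
      (fun p hp _ => (by decide : ∀ p ∈ reps_c5, p.2.length ≤ 1) p hp)
  · exact key _ _ _ _ tab_c6_check tab_c6_eq
      (fun p hp _ => (by decide : ∀ p ∈ reps_c6, p.2.length ≤ 1) p hp)
  · exact key _ _ _ _ tab_c7_check tab_c7_eq
      (fun p hp _ => (by decide : ∀ p ∈ reps_c7, p.2.length ≤ 1) p hp)
  · refine key _ _ _ _ tab_c8_check tab_c8_eq (fun p hp hk => ?_)
    have h4 : p.1 ≠ 4 := fun h => hexc ⟨rfl, by rw [← hk, h]⟩
    exact (by decide : ∀ p ∈ reps_c8, p.1 ≠ 4 → p.2.length ≤ 1) p hp h4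

end Groth.Agent.S15907
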