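import Groth.Statements.S15908
import Mathlib
import Groth.Agent.Lib.Helper8.DP4
import Groth.Agent.Lib.Helper8.DPC8

set_option autoImplicit false
open Surf



namespace Groth.Agent.S15908

open W4c3severiratdp in
/-- Work in the lattice of vectors (a; b_1, …, b_δ), standing for divisor classes a ℓ − Σ b_i e_i on the
blow-up of the projective plane at δ points written in a standard basis, with intersection form a a'
− Σ b_i b_i' and canonical class K = (−3; −1, …, −1); a conic class is a class Q with Q·Q = 0 and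
K·Q = −2, an exceptional class (the class of a (−1)-curve) is a class E with E·E = −1 and K·E = −1,
and the Weyl group W_δ is the group of additive automorphisms of the lattice preserving the form and
fixing K. For δ = 8 the ordered pairs (Q_1, Q_2) of conic classes with Q_1·Q_2 = 4 form exactly two
W_8-orbits: there are two such pairs that no element of W_8 carries one to the other, and every such
pair is carried by an element of W_8 to one of these two. -/
theorem result :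
    ∃ p₁ p₂ q₁ q₂ : DP 8, IsConic p₁ ∧ IsConic p₂ ∧ IsConic q₁ ∧ IsConic q₂ ∧ form p₁ p₂ = 4 ∧ form q₁ q₂ = 4 ∧
      (¬ ∃ g : DP 8 ≃ₗ[ℤ] DP 8, IsWeyl g ∧ g p₁ = q₁ ∧ g p₂ = q₂) ∧
      ∀ v₁ v₂ : DP 8, IsConic v₁ → IsConic v₂ → form v₁ v₂ = 4 →
        ∃ g : DP 8 ≃ₗ[ℤ] DP 8, IsWeyl g ∧ ((g v₁ = p₁ ∧ g v₂ = p₂) ∨ (g v₁ = q₁ ∧ g v₂ = q₂)) := by
  open Groth.Agent.Lib.Helper8.DP in
  refine ⟨ofL 8 base_c8, ofL 8 [4, 0, 1, 1, 1, 1, 2, 2, 2], ofL 8 base_c8,
    ofL 8 [5, 1, 0, 2, 2, 2, 2, 2, 2],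
    isConic_ofL _ (by decide) (by decide) (by decide),
    isConic_ofL _ (by decide) (by decide) (by decide),
    isConic_ofL _ (by decide) (by decide) (by decide),
    isConic_ofL _ (by decide) (by decide) (by decide), ?_, ?_, ?_, ?_⟩
  · rw [form_ofL _ _ (by decide) (by decide)]; decide
  · rw [form_ofL _ _ (by decide) (by decide)]; decide
  · rintro ⟨g, hg, h1, h2⟩
    have hsum : g (ofL 8 base_c8 + ofL 8 [4, 0, 1, 1, 1, 1, 2, 2, 2]) =
        (2 : ℤ) • ofL 8 [3, 1, 0, 1, 1, 1, 1, 1, 1] := by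
      rw [map_add, h1, h2]
      decide
    have h3 : ofL 8 base_c8 + ofL 8 [4, 0, 1, 1, 1, 1, 2, 2, 2] =
        (2 : ℤ) • g.symm (ofL 8 [3, 1, 0, 1, 1, 1, 1, 1, 1]) := by
      rw [← map_smul, ← hsum, LinearEquiv.symm_apply_apply]
    have h4 := congrFun h3 0
    have h5 : (ofL 8 base_c8 + ofL 8 [4, 0, 1, 1, 1, 1, 2, 2, 2]) 0 = 5 := by decide
    rw [h5] at h4
    simp only [Pi.smul_apply, smul_eq_mul] at h4
    omega
  · intro v₁ v₂ hv₁ hv₂ hk
    obtain ⟨g, hg, hg1, hg2⟩ := pairs_of_check tab_c8_check IsConic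
      (fun v hv => tab_c8_eq ▸ mem_conicsL le_rfl v hv)
      (fun g hg v hv => IsWeyl.isConic hg hv) v₁ v₂ hv₁ hv₂
    rw [hk] at hg2
    have hr : repsOf reps_c8 4 = [[4, 0, 1, 1, 1, 1, 2, 2, 2], [5, 1, 0, 2, 2, 2, 2, 2, 2]] := by
      decide
    rw [hr] at hg2
    refine ⟨g, hg, ?_⟩
    rcases List.mem_cons.1 hg2 with h | h
    · left
      exact ⟨hg1, by rw [← ofL_toL (g v₂), h]⟩
    · right
      rw [List.mem_singleton] at h
      exact ⟨hg1, by rw [← ofL_toL (g v₂), h]⟩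

end Groth.Agent.S15908
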