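import Groth.Statements.S15928
import Mathlib
import Groth.Agent.Lib.Lead.BMGood

set_option autoImplicit false
universe u
open CategoryTheory AlgebraicGeometry Opposite
open BMCoh
open WeilCoh TopologicalSpace Groth.Agent.Lib.Lead.BMDim Groth.Agent.Lib.Lead.BMColim
  Groth.Agent.Lib.Lead.BMFormal Groth.Agent.Lib.Lead.BMPt Groth.Agent.Lib.Lead.BMSeq
  Groth.Agent.Lib.Lead.BMSeq2 Groth.Agent.Lib.Lead.BMSeq3 Groth.Agent.Lib.Lead.BMAdd
  Groth.Agent.Lib.Lead.BMGood

namespace Groth.Agent.S15928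

/-- Let T be a twisted Borel–Moore cohomology theory with coefficients in A (a full subcategory of
R-modules containing R) on a constructible class V of Noetherian schemes, X an object of V, M a
coefficient module, j a natural number and i, n, i', n' integers with i' = i + 1 − 2(j + 1) and n' =
n − (j + 1), equivalently i + 1 = i' + 2(j + 1) and n = n' + (j + 1) (both forms are carried as
hypotheses); H^i(F_kX, M(n)) denotes the colimit of H^i(U, M(n)) over the open subschemes U of X
containing every point of codimension at most k (codimension of a point = dim X minus the dimension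
of its closure), and H^i(x, M(n)) the group of a point x (colimit over the nonempty opens of its
reduced closure). Let Q be residue data for X at level j (maps ∂_x : H^i(F_jX, M(n)) → H^{i'}(x,
M(n')) for the points x of codimension j + 1, agreeing with the residue maps of the Gysin sequences
of decompositions, with finitely supported values) and P push-forward data for X at level j + 1
(maps ι_x : H^{i'}(x, M(n')) → H^{i+1}(F_{j+1}X, M(n)) for the same points, agreeing with proper
push-forward along pieces of the closure of x). Then the sequence H^i(F_jX, M(n)) → ⊕_x H^{i'}(x,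
M(n')) → H^{i+1}(F_{j+1}X, M(n)), the total residue map ∂ followed by the total push-forward ι_*, is
exact: the image of ∂ is the kernel of ι_*. -/
theorem result (V : ObjectProperty Scheme.{u}) [BMCoh.IsConstructible V] (R : Type u) [CommRing R] (A : BMCoh.Coefs R) (T : BMCoh.TheoryOn V R A) (X : BMCoh.Obj V) (j : ℕ) (Q : T.ResData X j) (P : T.PushData X (j + 1)) (M : A.Cat) (i n i' n' : ℤ) (hi : i' = i + 1 - 2 * ((j : ℤ) + 1)) (hn : n' = n - ((j : ℤ) + 1)) (hi2 : i + 1 = i' + 2 * ((j + 1 : ℕ) : ℤ)) (hn2 : n = n' + ((j + 1 : ℕ) : ℤ)) : Function.Exact (Q.tot M i n i' n' hi hn).hom (P.tot M i' n' (i + 1) n hi2 hn2).hom := by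
  classical
  intro ξ
  constructor
  · intro hξ
    by_cases hξ0 : ξ = 0
    · exact ⟨0, by rw [map_zero, hξ0]⟩
    let S : Finset (X.cdPt (j + 1)) := DFinsupp.support ξ
    let C : Set X.scheme := ⋃ y ∈ S, closure ({y.1} : Set X.scheme)
    have hCcl : IsClosed C := S.finite_toSet.isClosed_biUnion (fun y _ => isClosed_closure)
    have hCm : ∀ p ∈ C, j + 1 ≤ codim X.scheme p := by
      intro p hp
      simp only [C, Set.mem_iUnion] at hp
      obtain ⟨y, -, hpy⟩ := hp
      have := codim_le_of_mem_closure X hpy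
      rw [y.2] at this
      exact this
    obtain ⟨hfin, Y₀, hY₀F, -, hY₀u⟩ := exists_good_open X (j + 1) C hCcl hCm
    haveI := hfin
    haveI : Fintype (CPt X (j + 1) C) := Fintype.ofFinite _
    have hG₀ : Good X (j + 1) C Y₀ := ⟨hCcl, hCm, hY₀F, hY₀u⟩
    have hsupp : ∀ y : X.cdPt (j + 1), ξ y ≠ 0 → y.1 ∈ C := by
      intro y hy
      simp only [C, Set.mem_iUnion]
      exact ⟨y, DFinsupp.mem_support_iff.mpr hy, subset_closure rfl⟩
    have hsum := directSum_eq_sum (R := R) (Subtype.val : CPt X (j + 1) C → X.cdPt (j + 1))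
      Subtype.val_injective ξ (fun y hy => ⟨⟨y, hsupp y hy⟩, rfl⟩)
    obtain ⟨Y₁, hY₁F, hY₁le, b₁, hb₁⟩ := exists_common_rep T.toPreTheory X (j + 1) C M i' n' Y₀
      hY₀F (fun x => ξ x.1)
    have h1 : ξ = ∑ x : CPt X (j + 1) C, DirectSum.lof R (X.cdPt (j + 1))
        (fun y : X.cdPt (j + 1) => T.ptGp X y.1 M i' n') x.1
        ((oι T.toPreTheory (X.ptSub x.1.1) (fun U => (U : Set (X.ptSub x.1.1).scheme).Nonempty)
          i' n' M (pcW X (j + 1) C Y₁ hY₁F x)).hom (b₁ x)) := by
      refine hsum.trans (Finset.sum_congr rfl (fun x _ => ?_))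
      rw [hb₁]
    have h2 := tot_sum_lof T.toPreTheory X (j + 1) C M i' n' (i + 1) n hi2 hn2 P Y₁ hY₁F b₁
    rw [← h1, hξ] at h2
    obtain ⟨Y₂, hle₂, h0⟩ := exists_of_eq_zero T.toPreTheory X (ContainsFj X (j + 1)) (i + 1) n M
      _ h2.symm
    have h3 := tr_sum_pcPush T.toPreTheory X (j + 1) C M i' n' (i + 1) n hi2 hn2
      (show Y₂.1 ≤ Y₁ from hle₂) Y₂.2.1 hY₁F b₁
    have h4 := h3.symm.trans h0
    have hG : Good X (j + 1) C Y₂.1 := hG₀.mono (le_trans hle₂ hY₁le) Y₂.2.1
    obtain ⟨x₀⟩ : Nonempty (CPt X (j + 1) C) := by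
      by_contra hne
      rw [not_nonempty_iff] at hne
      apply hξ0
      rw [hsum]
      exact Finset.sum_of_isEmpty _
    have hcd := hG.decomp_codim x₀
    have hrcZ := hG.relCodim_Z hG.Z hG.ιZ hG.hr x₀
    have hiZ : i + 1 = i' + 2 * relCodim hG.Z.scheme (X.res Y₂.1).scheme := by
      rw [hrcZ]; exact hi2
    have hnZ : n = n' + relCodim hG.Z.scheme (X.res Y₂.1).scheme := by
      rw [hrcZ]; exact hn2
    have hiD : i' = i + 1 - 2 * hG.decomp.codim := by rw [hcd]; exact hi
    have hnD : n' = n - hG.decomp.codim := by rw [hcd]; exact hn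
    have hz0 : (T.push hG.ιZ M i' n' (i + 1) n hiZ hnZ).hom
        (∑ x : CPt X (j + 1) C, ((hG.cover hG.Z hG.ιZ hG.hr).psh T.toPreTheory M i' n' x).hom
          ((tr T.toPreTheory (X.ptSub x.1.1)
            (fun U => (U : Set (X.ptSub x.1.1).scheme).Nonempty) i' n' M
            (ptW_mono X x.1.1 (show Y₂.1 ≤ Y₁ from hle₂) (Y₂.2.1 _ x.1.2.le))).hom (b₁ x))) = 0 := by
      rw [map_sum]
      refine (Finset.sum_congr rfl (fun x _ => ?_)).trans h4
      exact hG.push_psh hG.Z hG.ιZ hG.hr T.toPreTheory M i' n' (i + 1) n hi2 hn2 hiZ hnZ x _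
    obtain ⟨a, ha⟩ := (exact_res_push' T.toPreTheory hG.decomp M i n i' n' (i + 1) hiD hnD hiZ hnZ
      _).mp hz0
    refine ⟨(oι T.toPreTheory X (ContainsFj X j) i n M hG.UIdx).hom a, ?_⟩
    refine DFinsupp.ext (fun y => ?_)
    rw [PreTheory.ResData.tot_apply]
    by_cases hyC : y.1 ∈ C
    · have h5 := hG.cpt_oι T.toPreTheory M i n i' n' hi hn Q ⟨y, hyC⟩ hiD hnD a
      refine h5.trans ?_
      rw [ha]
      have h6 := (hG.cover hG.Z hG.ιZ hG.hr).pull_sum_psh T.toPreTheory M i' n'
        (fun x => (tr T.toPreTheory (X.ptSub x.1.1)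
          (fun U => (U : Set (X.ptSub x.1.1).scheme).Nonempty) i' n' M
          (ptW_mono X x.1.1 (show Y₂.1 ≤ Y₁ from hle₂) (Y₂.2.1 _ x.1.2.le))).hom (b₁ x)) ⟨y, hyC⟩
      refine (congrArg _ h6).trans ?_
      rw [tr_oι_apply]
      exact hb₁ ⟨y, hyC⟩
    · have hyY : y.1 ∈ Y₂.1 := Y₂.2.1 _ y.2.le
      have hyU : y.1 ∈ hG.UIdx.1 := ⟨hyY, hyC⟩
      rw [cpt_eq_zero_of_mem T.toPreTheory X j y.1 y.2 M i n i' n' hi hn Q hG.UIdx hyU a]
      by_contra hne
      exact hyC (hsupp y (Ne.symm hne))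
  · rintro ⟨α, rfl⟩
    obtain ⟨U, a, rfl⟩ := exists_rep T.toPreTheory X (ContainsFj X j) i n M α
    let C : Set X.scheme := (U.1 : Set X.scheme)ᶜ
    have hCcl : IsClosed C := U.1.isOpen.isClosed_compl
    have hCm : ∀ p ∈ C, j + 1 ≤ codim X.scheme p := by
      intro p hp
      by_contra h
      exact hp (U.2.1 p (by omega))
    obtain ⟨hfin, Y, hYF, -, hYu⟩ := exists_good_open X (j + 1) C hCcl hCm
    haveI := hfin
    haveI : Fintype (CPt X (j + 1) C) := Fintype.ofFinite _
    have hG : Good X (j + 1) C Y := ⟨hCcl, hCm, hYF, hYu⟩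
    have hsupp : ∀ y : X.cdPt (j + 1), (Q.tot M i n i' n' hi hn).hom
        ((oι T.toPreTheory X (ContainsFj X j) i n M U).hom a) y ≠ 0 → y.1 ∈ C := by
      intro y hy
      by_contra hyC
      apply hy
      rw [PreTheory.ResData.tot_apply]
      exact cpt_eq_zero_of_mem T.toPreTheory X j y.1 y.2 M i n i' n' hi hn Q U (not_not.mp hyC) a
    have hsum := directSum_eq_sum (R := R) (Subtype.val : CPt X (j + 1) C → X.cdPt (j + 1))
      Subtype.val_injective _ (fun y hy => ⟨⟨y, hsupp y hy⟩, rfl⟩)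
    by_cases hne : Nonempty (CPt X (j + 1) C)
    swap
    · rw [not_nonempty_iff] at hne
      rw [hsum, Finset.sum_of_isEmpty, map_zero]
    obtain ⟨x₀⟩ := hne
    have hcd := hG.decomp_codim x₀
    have hrcZ := hG.relCodim_Z hG.Z hG.ιZ hG.hr x₀
    have hiZ : i + 1 = i' + 2 * relCodim hG.Z.scheme (X.res Y).scheme := by
      rw [hrcZ]; exact hi2
    have hnZ : n = n' + relCodim hG.Z.scheme (X.res Y).scheme := by
      rw [hrcZ]; exact hn2
    have hiD : i' = i + 1 - 2 * hG.decomp.codim := by rw [hcd]; exact hi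
    have hnD : n' = n - hG.decomp.codim := by rw [hcd]; exact hn
    have hle : hG.UIdx ≤ U := fun p hp => not_not.mp hp.2
    have hα : (oι T.toPreTheory X (ContainsFj X j) i n M U).hom a =
        (oι T.toPreTheory X (ContainsFj X j) i n M hG.UIdx).hom
          ((tr T.toPreTheory X (ContainsFj X j) i n M hle).hom a) :=
      (tr_oι_apply T.toPreTheory X (ContainsFj X j) i n M hle a).symm
    have hcomp : ∀ x : CPt X (j + 1) C, (Q.tot M i n i' n' hi hn).hom
        ((oι T.toPreTheory X (ContainsFj X j) i n M U).hom a) x.1 =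
        (oι T.toPreTheory (X.ptSub x.1.1) (fun U => (U : Set (X.ptSub x.1.1).scheme).Nonempty)
          i' n' M (pcW X (j + 1) C Y hYF x)).hom
          ((T.pull ((hG.cover hG.Z hG.ιZ hG.hr).e x) M i' n').hom
            ((T.res hG.decomp M i n i' n' hiD hnD).hom
              ((tr T.toPreTheory X (ContainsFj X j) i n M hle).hom a))) := by
      intro x
      rw [PreTheory.ResData.tot_apply, hα]
      exact hG.cpt_oι T.toPreTheory M i n i' n' hi hn Q x hiD hnD _
    rw [hsum]
    have h1 := tot_sum_lof T.toPreTheory X (j + 1) C M i' n' (i + 1) n hi2 hn2 P Y hYF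
      (fun x => (T.pull ((hG.cover hG.Z hG.ιZ hG.hr).e x) M i' n').hom
            ((T.res hG.decomp M i n i' n' hiD hnD).hom
              ((tr T.toPreTheory X (ContainsFj X j) i n M hle).hom a)))
    refine ((congrArg _ (Finset.sum_congr rfl (fun x _ => ?_))).trans h1).trans ?_
    · rw [hcomp x]
    have h2 : ∑ x : CPt X (j + 1) C, (pcPush T.toPreTheory X (j + 1) C M i' n' (i + 1) n hi2 hn2 Y
        hYF x).hom ((T.pull ((hG.cover hG.Z hG.ιZ hG.hr).e x) M i' n').hom
            ((T.res hG.decomp M i n i' n' hiD hnD).hom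
              ((tr T.toPreTheory X (ContainsFj X j) i n M hle).hom a))) =
        (T.push hG.ιZ M i' n' (i + 1) n hiZ hnZ).hom ((T.res hG.decomp M i n i' n' hiD hnD).hom
              ((tr T.toPreTheory X (ContainsFj X j) i n M hle).hom a)) := by
      have hes := (hG.cover hG.Z hG.ιZ hG.hr).eq_sum T.toPreTheory M i' n'
        ((T.res hG.decomp M i n i' n' hiD hnD).hom
              ((tr T.toPreTheory X (ContainsFj X j) i n M hle).hom a))
      refine Eq.trans ?_ (congrArg _ hes.symm)
      rw [map_sum]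
      refine Finset.sum_congr rfl (fun x _ => ?_)
      exact (hG.push_psh hG.Z hG.ιZ hG.hr T.toPreTheory M i' n' (i + 1) n hi2 hn2 hiZ hnZ x _).symm
    rw [h2]
    have h3 : (T.push hG.ιZ M i' n' (i + 1) n hiZ hnZ).hom
        ((T.res hG.decomp M i n i' n' hiD hnD).hom
          ((tr T.toPreTheory X (ContainsFj X j) i n M hle).hom a)) = 0 :=
      (exact_res_push' T.toPreTheory hG.decomp M i n i' n' (i + 1) hiD hnD hiZ hnZ _).mpr ⟨_, rfl⟩
    rw [h3, map_zero]

end Groth.Agent.S15928
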