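import Groth.Statements.S15930
import Mathlib
import Groth.Agent.Lib.Lead.BMGood

set_option autoImplicit false
universe u
open CategoryTheory AlgebraicGeometry Opposite
open BMCoh
open WeilCoh TopologicalSpace Groth.Agent.Lib.Lead.BMDim Groth.Agent.Lib.Lead.BMColim
  Groth.Agent.Lib.Lead.BMFormal Groth.Agent.Lib.Lead.BMPt Groth.Agent.Lib.Lead.BMSeq
  Groth.Agent.Lib.Lead.BMSeq2 Groth.Agent.Lib.Lead.BMSeq3 Groth.Agent.Lib.Lead.BMAdd
  Groth.Agent.Lib.Lead.BMGood

namespace Groth.Agent.S15930

/-- Let T be a twisted Borel–Moore cohomology theory with coefficients in A (a full subcategory of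
R-modules containing R) on a constructible class V of Noetherian schemes, X an object of V, M a
coefficient module and i, n, i', n' integers with i' = i + 2·0 and n' = n + 0 (the shift of
push-forward data at level 0, carried as hypotheses); H^i(F_kX, M(n)) denotes the colimit of H^i(U,
M(n)) over the open subschemes U of X containing every point of codimension at most k (codimension
of a point = dim X minus the dimension of its closure), and H^i(x, M(n)) the group of a point x
(colimit over the nonempty opens of its reduced closure). Assume X is reduced, and let P be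
push-forward data for X at level 0: for every point x of codimension 0 (a generic point of an
irreducible component of dimension dim X) a map ι_x : H^i(x, M(n)) → H^{i'}(F_0X, M(n')), agreeing
with proper push-forward along every piece of the closure of x that is closed in an open containing
the points of codimension 0. Then the total push-forward ι_* : ⊕_x H^i(x, M(n)) → H^{i'}(F_0X,
M(n')) over the points of codimension 0 is bijective. (The published sequence at codimension 0 has
the zero group H(F_{−1}X) on both sides of these two terms; it carries no reducedness hypothesis,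
while here the groups of a point are formed on its reduced closure and those of F_0X on opens of X
itself, and insensitivity of the theory to nilpotents is not among the conditions imposed on a
theory, so X is taken reduced.) -/
theorem result (V : ObjectProperty Scheme.{u}) [BMCoh.IsConstructible V] (R : Type u) [CommRing R] (A : BMCoh.Coefs R) (T : BMCoh.TheoryOn V R A) (X : BMCoh.Obj V) [IsReduced X.scheme] (P : T.PushData X 0) (M : A.Cat) (i n i' n' : ℤ) (hi : i' = i + 2 * ((0 : ℕ) : ℤ)) (hn : n' = n + ((0 : ℕ) : ℤ)) : Function.Bijective (P.tot M i n i' n' hi hn).hom := by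
  classical
  have hi0 : i = i' := by rw [hi]; simp
  have hn0 : n = n' := by rw [hn]; simp
  subst hi0 hn0
  obtain ⟨hfin, Y₀, hY₀F, -, hY₀u⟩ := exists_good_open X 0 Set.univ isClosed_univ
    (fun _ _ => Nat.zero_le _)
  haveI := hfin
  haveI : Fintype (CPt X 0 Set.univ) := Fintype.ofFinite _
  have hG₀ : Good X 0 Set.univ Y₀ := ⟨isClosed_univ, fun _ _ => Nat.zero_le _, hY₀F, hY₀u⟩
  have hr : ∀ Y : X.scheme.Opens, Set.range (𝟙 (X.res Y).scheme : (X.res Y).scheme ⟶ _) =
      {q : Y | q.1 ∈ (Set.univ : Set X.scheme)} := by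
    intro Y
    ext q
    exact ⟨fun _ => trivial, fun _ => ⟨q, rfl⟩⟩
  have hrc0 : ∀ Y : X.scheme.Opens, relCodim (X.res Y).scheme (X.res Y).scheme = 0 :=
    fun Y => relCodim_self _
  -- the pushes from the pieces agree with those of the cover
  have hD : ∀ (Y : X.scheme.Opens) (hG : Good X 0 Set.univ Y) (x : CPt X 0 Set.univ)
      (z : T.gp ((X.ptSub x.1.1).res (hG.W x).1) M i n),
      ((hG.cover (X.res Y) (𝟙 _) (hr Y)).psh T.toPreTheory M i n x).hom z =
        (pcPush T.toPreTheory X 0 Set.univ M i n i n hi hn Y hG.fj x).hom z := by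
    intro Y hG x z
    have h1 := hG.push_psh (X.res Y) (𝟙 _) (hr Y) T.toPreTheory M i n i n hi hn
      (by rw [hrc0]; ring) (by rw [hrc0]; ring) x z
    rw [T.push_id] at h1
    exact h1
  constructor
  · rw [injective_iff_map_eq_zero]
    intro ξ hξ
    have hsum := directSum_eq_sum (R := R) (Subtype.val : CPt X 0 Set.univ → X.cdPt 0)
      Subtype.val_injective ξ (fun y _ => ⟨⟨y, trivial⟩, rfl⟩)
    obtain ⟨Y₁, hY₁F, hY₁le, b₁, hb₁⟩ := exists_common_rep T.toPreTheory X 0 Set.univ M i n Y₀
      hY₀F (fun x => ξ x.1)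
    have h1 : ξ = ∑ x : CPt X 0 Set.univ, DirectSum.lof R (X.cdPt 0)
        (fun y : X.cdPt 0 => T.ptGp X y.1 M i n) x.1
        ((oι T.toPreTheory (X.ptSub x.1.1) (fun U => (U : Set (X.ptSub x.1.1).scheme).Nonempty)
          i n M (pcW X 0 Set.univ Y₁ hY₁F x)).hom (b₁ x)) := by
      refine hsum.trans (Finset.sum_congr rfl (fun x _ => ?_))
      rw [hb₁]
    have h2 := tot_sum_lof T.toPreTheory X 0 Set.univ M i n i n hi hn P Y₁ hY₁F b₁
    rw [← h1, hξ] at h2
    obtain ⟨Y₂, hle₂, h0⟩ := exists_of_eq_zero T.toPreTheory X (ContainsFj X 0) i n M _ h2.symm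
    have h3 := tr_sum_pcPush T.toPreTheory X 0 Set.univ M i n i n hi hn
      (show Y₂.1 ≤ Y₁ from hle₂) Y₂.2.1 hY₁F b₁
    have h4 := h3.symm.trans h0
    have hG₂ : Good X 0 Set.univ Y₂.1 := hG₀.mono (le_trans hle₂ hY₁le) Y₂.2.1
    have h5 : ∑ x : CPt X 0 Set.univ, ((hG₂.cover (X.res Y₂.1) (𝟙 _) (hr Y₂.1)).psh T.toPreTheory
        M i n x).hom ((tr T.toPreTheory (X.ptSub x.1.1)
          (fun U => (U : Set (X.ptSub x.1.1).scheme).Nonempty) i n M
          (ptW_mono X x.1.1 (show Y₂.1 ≤ Y₁ from hle₂) (Y₂.2.1 _ x.1.2.le))).hom (b₁ x)) = 0 := by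
      refine (Finset.sum_congr rfl (fun x _ => ?_)).trans h4
      exact hD Y₂.1 hG₂ x _
    have h6 : ∀ l : CPt X 0 Set.univ, (tr T.toPreTheory (X.ptSub l.1.1)
          (fun U => (U : Set (X.ptSub l.1.1).scheme).Nonempty) i n M
          (ptW_mono X l.1.1 (show Y₂.1 ≤ Y₁ from hle₂) (Y₂.2.1 _ l.1.2.le))).hom (b₁ l) = 0 := by
      intro l
      have := (hG₂.cover (X.res Y₂.1) (𝟙 _) (hr Y₂.1)).pull_sum_psh T.toPreTheory M i n
        (fun x => (tr T.toPreTheory (X.ptSub x.1.1)
          (fun U => (U : Set (X.ptSub x.1.1).scheme).Nonempty) i n M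
          (ptW_mono X x.1.1 (show Y₂.1 ≤ Y₁ from hle₂) (Y₂.2.1 _ x.1.2.le))).hom (b₁ x)) l
      rw [h5, map_zero] at this
      exact this.symm
    rw [h1]
    refine Finset.sum_eq_zero (fun x _ => ?_)
    rw [← tr_oι_apply T.toPreTheory (X.ptSub x.1.1) _ i n M
      (ptW_mono X x.1.1 (show Y₂.1 ≤ Y₁ from hle₂) (Y₂.2.1 _ x.1.2.le)) (b₁ x), h6 x, map_zero,
      map_zero]
  · intro β
    obtain ⟨U, c, rfl⟩ := exists_rep T.toPreTheory X (ContainsFj X 0) i n M β
    let Y : X.scheme.Opens := U.1 ⊓ Y₀
    have hYF : ContainsFj X 0 Y := fun p hp => ⟨U.2.1 p hp, hY₀F p hp⟩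
    have hG : Good X 0 Set.univ Y := hG₀.mono inf_le_right hYF
    have hle : fjIdx X 0 Y hYF ≤ U := (inf_le_left : U.1 ⊓ Y₀ ≤ U.1)
    let c' := (tr T.toPreTheory X (ContainsFj X 0) i n M hle).hom c
    have hsum := (hG.cover (X.res Y) (𝟙 _) (hr Y)).eq_sum T.toPreTheory M i n c'
    refine ⟨∑ x : CPt X 0 Set.univ, DirectSum.lof R (X.cdPt 0)
        (fun y : X.cdPt 0 => T.ptGp X y.1 M i n) x.1
        ((oι T.toPreTheory (X.ptSub x.1.1) (fun U => (U : Set (X.ptSub x.1.1).scheme).Nonempty)
          i n M (pcW X 0 Set.univ Y hYF x)).hom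
          ((T.pull ((hG.cover (X.res Y) (𝟙 _) (hr Y)).e x) M i n).hom c')), ?_⟩
    rw [tot_sum_lof T.toPreTheory X 0 Set.univ M i n i n hi hn P Y hYF,
      ← tr_oι_apply T.toPreTheory X (ContainsFj X 0) i n M hle c]
    congr 1
    refine Eq.trans ?_ hsum.symm
    refine Finset.sum_congr rfl (fun x _ => ?_)
    exact (hD Y hG x _).symm

end Groth.Agent.S15930
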