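import Groth.Statements.S15936
import Groth.Agent.Lib.Helper22.Canon.RankDescent
import Groth.Agent.Lib.Helper22.Canon.ExtPowInv
import Groth.Agent.Lib.Helper22.Canon.LocProj
import Groth.Agent.Lib.Helper25.FibreDimRank3
import Groth.Agent.S5005

set_option autoImplicit false
universe u
open CategoryTheory CategoryTheory.Limits AlgebraicGeometry
open Canon

namespace Groth.Agent.S15936


/-- Let S be a locally Noetherian scheme and f : X ⟶ S a locally projective morphism, smooth of relative
dimension n, whose fibres are non-empty and geometrically connected; let ω be an n-th exterior power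
of the sheaf of relative differentials of f (the relative canonical sheaf K_{X/S}) and let m ≥ 1 be
an integer such that the evaluation map f^* f_* K^{⊗m} ⟶ K^{⊗m}, the counit of the adjunction
between pullback and pushforward of modules, is an isomorphism. Then the direct image f_* K^{⊗m} is
an invertible O_S-module: finite locally free of rank one. (The published statement has f projective
and smooth, of possibly varying relative dimension, and also asserts that the formation of f_*
K^{⊗m} commutes with base change; this row takes f locally projective of constant relative dimension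
n and states the invertibility only.) -/
theorem result
    {X S : Scheme.{u}} [IsLocallyNoetherian S] (f : X ⟶ S)
    (hproj : RedSub.IsLocallyProjective (Over.mk f))
    (n : ℕ) [SmoothOfRelativeDimension n f] [GeometricallyConnected f]
    (ω : X.Modules) (hω : Canon.IsTopDiff f n ω) (m : ℕ) (hm : 1 ≤ m)
    (hev : IsIso ((Scheme.Modules.pullbackPushforwardAdjunction f).counit.app (CohB1.tensorPow ω m))) :
    FlatMod.IsFinLocFreeOfRank 1 ((Scheme.Modules.pushforward f).obj (CohB1.tensorPow ω m)) := by
  open Groth.Agent.Lib.Helper22.Canon Groth.Agent.Lib.Helper29.QCoh in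
  haveI : IsProper f := isProper_of_isLocallyProjective f hproj
  haveI : Smooth f := SmoothOfRelativeDimension.smooth n f
  haveI : Flat f := inferInstance
  -- `Ω_{X/S}` is locally free of rank `n`
  have hd : OmegaSh.IsUniversal (OmegaSh.dOmega f) := Groth.Agent.S5005.result f
  haveI : (Omega.sheaf f).IsQuasicoherent :=
    Groth.Agent.Helper19.OmegaD.isQuasicoherent_of_universal f _ hd
  have hE : FlatMod.IsFinLocFreeOfRank n (Omega.sheaf f) := by
    intro x
    obtain ⟨U, m', hxU, hiso, hm'⟩ :=
      Groth.Agent.Lib.Helper25.FibreDimRank.exists_free_of_universal f _ _ hd x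
    rw [Groth.Agent.Lib.Helper25.FibreDimRank.fibreDimAt_eq_of_smoothOfRelativeDimension n f x]
      at hm'
    have hnm : n = m' := by exact_mod_cast hm'
    subst hnm
    exact ⟨U, hxU, hiso⟩
  have hωinv : PicF.IsInvertible ω := isInvertible_of_isExtPow (Omega.sheaf f) ω n hE hω
  have hL : PicF.IsInvertible (CohB1.tensorPow ω m) := isInvertible_tensorPow hωinv m
  haveI : (CohB1.tensorPow ω m).IsQuasicoherent := isQuasicoherent_of_isInvertible hL
  haveI : ((Scheme.Modules.pushforward f).obj (CohB1.tensorPow ω m)).IsQuasicoherent :=
    isQuasicoherent_pushforward_of_qcqs f _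
  have hL1 : FlatMod.IsFinLocFreeOfRank 1 (CohB1.tensorPow ω m) :=
    (isInvertible_iff_isFinLocFreeOfRank_one _).mp hL
  have h1 : FlatMod.IsFinLocFreeOfRank 1 ((Scheme.Modules.pullback f).obj
      ((Scheme.Modules.pushforward f).obj (CohB1.tensorPow ω m))) :=
    isFinLocFreeOfRank_of_iso' (asIso ((Scheme.Modules.pullbackPushforwardAdjunction f).counit.app
      (CohB1.tensorPow ω m))).symm hL1
  exact isFinLocFreeOfRank_of_pullback f _ 1 h1

end Groth.Agent.S15936
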