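import Groth.Statements.S15938
import Groth.Agent.S15936
import Groth.Agent.Lib.Helper26.H0B
import Groth.Agent.Lib.Helper26.UnitInvertible
import Groth.Agent.Lib.Helper14.ReducedEtale
import Groth.Agent.Lib.Helper21.PropH0

set_option autoImplicit false
universe u
open CategoryTheory CategoryTheory.Limits AlgebraicGeometry
open Canon

namespace Groth.Agent.S15938


/-- Let S be a locally Noetherian scheme, f : X ⟶ S locally projective and smooth of relative dimension
n with non-empty geometrically connected fibres, ω an n-th exterior power of the relative
differentials (the relative canonical sheaf K_{X/S}), and m ≥ 1 such that the evaluation map f^* f_*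
K^{⊗m} ⟶ K^{⊗m} is an isomorphism. Then the formation of f_* K^{⊗m} commutes with base change: for
every morphism g : S′ ⟶ S with S′ locally Noetherian, writing f′ : X ×_S S′ ⟶ S′ and g′ : X ×_S S′ ⟶
X for the projections, the base-change morphism g^* f_* K^{⊗m} ⟶ f′_* g′^* K^{⊗m} (adjoint to g′^*
of the evaluation map, through the canonical identifications of iterated pullbacks) is an
isomorphism. (The published statement has f projective and smooth, of possibly varying relative
dimension; this row takes f locally projective of constant relative dimension n and base changes by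
locally Noetherian schemes.) -/
theorem result
    {X S : Scheme.{u}} [IsLocallyNoetherian S] (f : X ⟶ S)
    (hproj : RedSub.IsLocallyProjective (Over.mk f))
    (n : ℕ) [SmoothOfRelativeDimension n f] [GeometricallyConnected f]
    (ω : X.Modules) (hω : Canon.IsTopDiff f n ω) (m : ℕ) (hm : 1 ≤ m)
    (hev : IsIso ((Scheme.Modules.pullbackPushforwardAdjunction f).counit.app (CohB1.tensorPow ω m)))
    {S' : Scheme.{u}} [IsLocallyNoetherian S'] (g : S' ⟶ S) :
    IsIso (((Scheme.Modules.pullbackPushforwardAdjunction (pullback.snd f g)).homEquiv _ _)
      ((Scheme.Modules.pullbackComp (pullback.snd f g) g).hom.app _ ≫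
        (Scheme.Modules.pullbackCongr (pullback.condition (f := f) (g := g))).inv.app _ ≫
        (Scheme.Modules.pullbackComp (pullback.fst f g) f).inv.app _ ≫
        (Scheme.Modules.pullback (pullback.fst f g)).map
          ((Scheme.Modules.pullbackPushforwardAdjunction f).counit.app (CohB1.tensorPow ω m)))) := by
  open Groth.Agent.Lib.Helper22.Canon Groth.Agent.Lib.Helper29.QCoh in
  haveI : IsProper f := isProper_of_isLocallyProjective f hproj
  haveI : Smooth f := SmoothOfRelativeDimension.smooth n f
  haveI : Flat f := inferInstance
  -- `f_* K^m` is invertible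
  have hM1 := Groth.Agent.S15936.result f hproj n ω hω m hm hev
  have hM : PicF.IsInvertible ((Scheme.Modules.pushforward f).obj (CohB1.tensorPow ω m)) :=
    (isInvertible_iff_isFinLocFreeOfRank_one _).mpr hM1
  have hA : PicF.IsInvertible ((Scheme.Modules.pullback g).obj
      ((Scheme.Modules.pushforward f).obj (CohB1.tensorPow ω m))) := isInvertible_pullback g hM
  -- the fibres are geometrically reduced, so `Γ(X_s, O) = κ(s)`
  haveI : GeometricallyReduced f :=
    ⟨fun K _ y Z fst snd H => by
      haveI : Smooth snd := MorphismProperty.of_isPullback (P := @Smooth) H inferInstance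
      exact Groth.Agent.Lib.Helper14.isReduced_of_smooth_scheme snd⟩
  have h0 : ∀ y : S, Module.finrank (S.residueField y) Γ(f.fiber y, ⊤) = 1 := by
    intro y
    haveI : IsProper (f.fiberToSpecResidueField y) :=
      MorphismProperty.pullback_snd (P := @IsProper) f (S.fromSpecResidueField y) inferInstance
    have hb := Groth.Agent.Lib.Helper21.PropH0.bijective_toGlobal_of_proper (S.residueField y)
      (f.fiber y) (f.fiberToSpecResidueField y)
    have hb' : Function.Bijective (Algebra.linearMap (S.residueField y) Γ(f.fiber y, ⊤)) := hb
    rw [← (LinearEquiv.ofBijective _ hb').finrank_eq]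
    exact Module.finrank_self _
  -- `O_{S'} → f'_* O_{X'}` is an isomorphism
  haveI hU : IsIso (ClSub.unitToPush (pullback.snd f g)) := by
    rw [isIso_iff_app_bijective]
    intro W
    haveI := Groth.Agent.Lib.Helper26.H0B.app_isIso_of_h0 f h0 g (pullback.fst f g)
      (pullback.snd f g) (IsPullback.of_hasPullback f g) W
    exact ConcreteCategory.bijective_of_isIso ((pullback.snd f g).app W)
  haveI hunit := Groth.Agent.Lib.Helper26.UnitInvertible.main (pullback.snd f g) _ hA
  rw [Adjunction.homEquiv_unit]
  infer_instance

end Groth.Agent.S15938
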