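import Groth.Statements.S15963
import Groth.Agent.Lib.Helper6.SNFinite
-- import your own Groth.Agent.* helpers here

set_option autoImplicit false
universe u
open HTop

namespace Groth.Agent.S15963

open CategoryTheory AlgebraicGeometry in
/-- Let S be a reduced Noetherian scheme, π : S̃ → S its normalisation (S̃ has integrally closed local
domains, π is integral and an isomorphism over a dense open subset of S with dense preimage), ν : X'
→ S a seminormalization of S (X' seminormal, ν a universal homeomorphism with residue-field
isomorphisms, initial among such) and g : S̃ → X' a morphism with g followed by ν equal to π. Then ν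
and g are scheme-theoretically dominant (the structure sheaf maps injectively into the direct
image), and if π is finite then so are ν and g. -/
theorem result {S Sn X' : Scheme.{u}}
    [IsNoetherian S] [IsReduced S]
    (π : Sn ⟶ S) [IsIntegralHom π] (hn : Pi1.IsNormalScheme Sn)
    (hbir : ∃ U : S.Opens, Dense (U : Set S) ∧ Dense ((π ⁻¹ᵁ U : Sn.Opens) : Set Sn) ∧ IsIso (π ∣_ U))
    (ν : X' ⟶ S) (hν : HTop.IsSeminormalization ν) (hX' : HTop.IsSeminormal X')
    (g : Sn ⟶ X') (hg : g ≫ ν = π) :
    (IsSchemeTheoreticallyDominant ν ∧ IsSchemeTheoreticallyDominant g) ∧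
      (IsFinite π → IsFinite ν ∧ IsFinite g) := by
  have hνUH := hν.1.1
  have hνsurj : Surjective ν := Groth.Agent.Lib.Helper12.IsUnivHomeo.surjective hνUH
  have hνinj : Function.Injective ν := (Groth.Agent.Lib.Helper12.IsUnivHomeo.isHomeomorph hνUH).injective
  obtain ⟨U, hU1, hU2, hU3⟩ := hbir
  have hπsurj : Function.Surjective π := by
    have hcl : IsClosed (Set.range π) := (π.isClosedMap).isClosed_range
    have hsub : (U : Set S) ⊆ Set.range π := by
      intro x hx
      have hs : Function.Surjective (π ∣_ U) := (π ∣_ U).surjective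
      obtain ⟨y, hy⟩ := hs ⟨x, hx⟩
      refine ⟨y.1, ?_⟩
      have h3 := congrArg Subtype.val hy
      rw [morphismRestrict_base_coe] at h3
      exact h3
    have h4 : closure (Set.range π) = Set.univ :=
      Set.eq_univ_of_univ_subset (hU1.closure_eq ▸ closure_mono hsub)
    rw [hcl.closure_eq] at h4
    exact Set.range_eq_univ.mp h4
  have hgsurj : Function.Surjective g := by
    intro x'
    obtain ⟨z, hz⟩ := hπsurj (ν x')
    refine ⟨z, hνinj ?_⟩
    rw [← hz, ← hg]
    rfl
  have h1 : IsSchemeTheoreticallyDominant ν := .of_isDominant ν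
  have : IsReduced X' := (Groth.Agent.S7421.result.{u}).2 X' hX'
  have : Surjective g := ⟨hgsurj⟩
  have h2 : IsSchemeTheoreticallyDominant g := .of_isDominant g
  refine ⟨⟨h1, h2⟩, ?_⟩
  intro hfin
  have : IsSeparated ν := Groth.Agent.Lib.Helper6.UHDesc.isSeparated_of_isUnivHomeo hνUH
  have hfin' : IsFinite (g ≫ ν) := by rw [hg]; exact hfin
  have hgfin : IsFinite g := IsFinite.of_comp g ν
  have : IsAffineHom ν := Groth.Agent.Lib.Helper12.IsUnivHomeo.isAffineHom hνUH
  exact ⟨Groth.Agent.Lib.Helper6.SN.isFinite_of_comp_of_isSchemeTheoreticallyDominant g ν, hgfin⟩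

end Groth.Agent.S15963
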