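import Groth.Statements.S15987
import Mathlib

set_option autoImplicit false
universe u v
open Deform

namespace Groth.Agent.S15987

section helpers
open TrivSqZeroExt

variable {k : Type u} [Field k] {A : Type u} [CommRing A] [Algebra k A]

/-- The algebra endomorphism `a + bε ↦ a + (D a + b)ε` of the dual numbers. -/
noncomputable def autOfDer (D : Derivation k A A) : DualNumber A →ₐ[k] DualNumber A :=
  AlgHom.ofLinearMap
    { toFun := fun x => inl x.fst + inr (D x.fst + x.snd)
      map_add' := fun x y => by
        ext <;> simp [add_add_add_comm]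
      map_smul' := fun c x => by
        ext <;> simp }
    (by ext <;> simp)
    (fun x y => by
      ext
      · simp
      · simp
        ring)

theorem autOfDer_fst (D : Derivation k A A) (x : DualNumber A) : (autOfDer D x).fst = x.fst := by
  simp [autOfDer]

theorem autOfDer_snd (D : Derivation k A A) (x : DualNumber A) :
    (autOfDer D x).snd = D x.fst + x.snd := by
  simp [autOfDer]

theorem autOfDer_comp_neg (D : Derivation k A A) :
    (autOfDer D).comp (autOfDer (-D)) = AlgHom.id k _ := by
  refine AlgHom.ext fun x => TrivSqZeroExt.ext ?_ ?_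
  · simp [autOfDer_fst]
  · simp [autOfDer_snd, autOfDer_fst]

noncomputable def equivOfDer (D : Derivation k A A) : DualNumber A ≃ₐ[k] DualNumber A :=
  AlgEquiv.ofAlgHom (autOfDer D) (autOfDer (-D)) (autOfDer_comp_neg D)
    (by simpa using autOfDer_comp_neg (-D))

/-- The derivation attached to an automorphism of the dual numbers that is the identity mod ε. -/
noncomputable def derOfAut (φ : DualNumber A ≃ₐ[k] DualNumber A) (hfst : ∀ x, (φ x).fst = x.fst) :
    Derivation k A A :=
  Derivation.mk'
    { toFun := fun a => (φ (inl a)).snd
      map_add' := fun a b => by simp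
      map_smul' := fun c a => by simp }
    (fun a b => by
      simp only [LinearMap.coe_mk, AddHom.coe_mk, inl_mul, map_mul, DualNumber.snd_mul, hfst,
        fst_inl, smul_eq_mul]
      ring)

theorem aut_eq (φ : DualNumber A ≃ₐ[k] DualNumber A) (hε : φ DualNumber.eps = DualNumber.eps)
    (hfst : ∀ x, (φ x).fst = x.fst) (x : DualNumber A) :
    φ x = inl x.fst + inr ((φ (inl x.fst)).snd + x.snd) := by
  have hx : x = inl x.fst + inl x.snd * DualNumber.eps := by
    refine TrivSqZeroExt.ext ?_ ?_ <;> simp
  conv_lhs => rw [hx]
  rw [map_add, map_mul, hε]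
  refine TrivSqZeroExt.ext ?_ ?_
  · simp [hfst]
  · simp [hfst]

end helpers

open TrivSqZeroExt in
/-- Let k be a field, A a commutative k-algebra and q_i : A → k (i ∈ ι) k-algebra maps (marked k-points
of Spec A). The k-algebra automorphisms φ of the ring of dual numbers A[ε] that fix ε (so are
k[ε]-linear), are the identity modulo ε, and satisfy q_i((φ x)_ε) = q_i(x_ε) for all i and x
(compatibility with the trivial lifts A[ε] → k[ε] of the marked points) are in bijection with the
k-derivations D : A → A such that q_i ∘ D = 0 for every i, the bijection sending φ to a ↦ (φ(a))_ε.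
(The source identifies the right-hand side with the global vector fields vanishing at the marked
points; the condition the computation yields is q_i ∘ D = 0, which is the same for Spec A smooth
over k but is weaker in general, e.g. for A = k[x]/(x^2) with 2 invertible in k.) -/
theorem result
    (k : Type u) [Field k] (A : Type u) [CommRing A] [Algebra k A] {ι : Type v} (q : ι → (A →ₐ[k] k)) :
    ∃ e : {φ : DualNumber A ≃ₐ[k] DualNumber A //
            φ DualNumber.eps = DualNumber.eps ∧ (∀ x, (φ x).fst = x.fst) ∧
              ∀ i x, q i (φ x).snd = q i x.snd} ≃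
          {D : Derivation k A A // ∀ i a, q i (D a) = 0},
      ∀ φ (a : A), (e φ).1 a = (φ.1 (inl a : DualNumber A)).snd := by
  refine ⟨{ toFun := fun φ => ⟨derOfAut φ.1 φ.2.2.1, fun i a => ?_⟩
            invFun := fun D => ⟨equivOfDer D.1, ?_, ?_, ?_⟩
            left_inv := ?_
            right_inv := ?_ }, ?_⟩
  · have := φ.2.2.2 i (inl a)
    rw [snd_inl, map_zero] at this
    exact this
  · change autOfDer D.1 DualNumber.eps = DualNumber.eps
    refine TrivSqZeroExt.ext ?_ ?_ <;> simp [autOfDer_fst, autOfDer_snd]
  · intro x
    exact autOfDer_fst D.1 x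
  · intro i x
    change q i (autOfDer D.1 x).snd = _
    rw [autOfDer_snd, map_add, D.2, zero_add]
  · rintro ⟨φ, hε, hfst, hq⟩
    apply Subtype.ext
    apply AlgEquiv.ext
    intro x
    change autOfDer (derOfAut φ hfst) x = φ x
    rw [aut_eq φ hε hfst x]
    rfl
  · rintro ⟨D, hD⟩
    apply Subtype.ext
    ext a
    change (autOfDer D (inl a)).snd = D a
    rw [autOfDer_snd]
    simp
  · intro φ a
    rfl

end Groth.Agent.S15987
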