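import Groth.Statements.S15988
import Mathlib
import Groth.Agent.S15987

set_option autoImplicit false
universe u v
open Deform

namespace Groth.Agent.S15988

section helpers
open TrivSqZeroExt KaehlerDifferential

variable {k : Type u} [Field k] {A : Type u} [CommRing A] [Algebra k A]

theorem exists_derivation_lift [Algebra.FormallySmooth k A] (q : A →ₐ[k] k) (δ : A →ₗ[k] k)
    (hδ : ∀ a b, δ (a * b) = q a * δ b + q b * δ a) :
    ∃ D : Derivation k A A, ∀ a, q (D a) = δ a := by
  letI : Module A k := Module.compHom k q.toRingHom
  have hsmul : ∀ (a : A) (x : k), a • x = q a * x := fun a x => rfl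
  haveI : IsScalarTower k A k := ⟨fun c a x => by
    rw [hsmul, hsmul, map_smul, smul_eq_mul, smul_eq_mul, mul_assoc]⟩
  let δ' : Derivation k A k := Derivation.mk' δ (fun a b => by
    rw [hsmul, hsmul]; exact hδ a b)
  let l : Ω[A⁄k] →ₗ[A] k := δ'.liftKaehlerDifferential
  let qlin : A →ₗ[A] k :=
    { toFun := q
      map_add' := map_add q
      map_smul' := fun a b => by
        rw [smul_eq_mul, map_mul, RingHom.id_apply, hsmul] }
  have hqsurj : Function.Surjective qlin := fun c => ⟨algebraMap k A c, by simp [qlin]⟩
  obtain ⟨h, hh⟩ := Module.projective_lifting_property qlin l hqsurj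
  refine ⟨h.compDer (KaehlerDifferential.D k A), fun a => ?_⟩
  have := congrArg (fun f => f (KaehlerDifferential.D k A a)) hh
  simp only [LinearMap.comp_apply] at this
  change qlin (h (KaehlerDifferential.D k A a)) = δ a
  rw [this]
  exact Derivation.liftKaehlerDifferential_comp_D δ' a

end helpers

open TrivSqZeroExt in
/-- Let k be a field, A a smooth commutative k-algebra, q_i : A → k (i ∈ ι, ι finite) pairwise distinct
k-algebra maps, and q'_i : A[ε] → k[ε] k-algebra maps with q'_i(ε) = ε which reduce to q_i modulo ε
(marked points of a first-order deformation with underlying trivial deformation). Then some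
k-algebra automorphism φ of A[ε] with φ(ε) = ε and φ = id modulo ε carries every q'_i to the trivial
lift of q_i: q'_i(φ x) = (q_i(x_0), q_i(x_ε)) for all i and x. Together with the triviality of
first-order deformations of a smooth affine scheme this gives the source's statement that
first-order deformations of a smooth affine scheme with marked points are trivial. (The published
statement does not say that the finitely many marked points are distinct; for two coincident points
with different lifts no such automorphism exists, so the points are taken pairwise distinct here,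
and the source's non-singular is read as smooth over k.) -/
theorem result
    (k : Type u) [Field k] (A : Type u) [CommRing A] [Algebra k A] [Algebra.Smooth k A]
    {ι : Type v} [Finite ι] (q : ι → (A →ₐ[k] k)) (hq : Function.Injective q)
    (q' : ι → (DualNumber A →ₐ[k] DualNumber k))
    (hε : ∀ i, q' i DualNumber.eps = DualNumber.eps) (hq' : ∀ i x, (q' i x).fst = q i x.fst) :
    ∃ φ : DualNumber A ≃ₐ[k] DualNumber A,
      φ DualNumber.eps = DualNumber.eps ∧ (∀ x, (φ x).fst = x.fst) ∧
        ∀ i x, (q' i (φ x)).fst = q i x.fst ∧ (q' i (φ x)).snd = q i x.snd := by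
  classical
  cases nonempty_fintype ι
  let δ : ι → (A →ₗ[k] k) := fun i =>
    { toFun := fun a => (q' i (inl a)).snd
      map_add' := fun a b => by simp
      map_smul' := fun c a => by simp }
  have hδdef : ∀ i a, δ i a = (q' i (inl a)).snd := fun i a => rfl
  have hδ : ∀ i a b, δ i (a * b) = q i a * δ i b + q i b * δ i a := by
    intro i a b
    simp only [hδdef, inl_mul, map_mul, DualNumber.snd_mul, hq', fst_inl]
    ring
  choose D hD using fun i => exists_derivation_lift (q i) (δ i) (hδ i)
  have hqsurj : ∀ i, Function.Surjective (q i) := fun i c => ⟨algebraMap k A c, by simp⟩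
  have hcop : Pairwise (Function.onFun IsCoprime fun i => RingHom.ker (q i)) := by
    intro i j hij
    rw [Function.onFun, Ideal.isCoprime_iff_sup_eq]
    have hi : (RingHom.ker (q i)).IsMaximal := RingHom.ker_isMaximal_of_surjective _ (hqsurj i)
    have hj : (RingHom.ker (q j)).IsMaximal := RingHom.ker_isMaximal_of_surjective _ (hqsurj j)
    refine Ideal.IsMaximal.coprime_of_ne hi hj fun h => hij (hq ?_)
    apply AlgHom.ext
    intro a
    have h1 : a - algebraMap k A (q i a) ∈ RingHom.ker (q i) := by
      rw [RingHom.mem_ker, map_sub, AlgHom.commutes]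
      simp
    rw [h, RingHom.mem_ker, map_sub, AlgHom.commutes, sub_eq_zero] at h1
    simpa using h1.symm
  choose c hc using fun i => Ideal.exists_forall_sub_mem_ideal hcop (Pi.single i (1 : A))
  have hc' : ∀ i j, q j (c i) = if i = j then 1 else 0 := by
    intro i j
    have := hc i j
    rw [RingHom.mem_ker, map_sub, sub_eq_zero] at this
    rw [this]
    by_cases hij : i = j
    · subst hij; simp
    · rw [Pi.single_eq_of_ne' hij, if_neg hij, map_zero]
  let Dtot : Derivation k A A := -∑ i, c i • D i
  have hDtot : ∀ j a, q j (Dtot a) = -δ j a := by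
    intro j a
    have hsum : (∑ i, c i • D i) a = ∑ i, c i * D i a := by
      have := congrFun (map_sum (Derivation.coeFnAddMonoidHom (R := k) (A := A) (M := A))
        (fun i => c i • D i) Finset.univ) a
      rw [Finset.sum_apply] at this
      exact this
    simp only [Dtot, Derivation.neg_apply, map_neg, hsum, map_sum, map_mul, hc']
    simp [hD]
  have hform : ∀ i (y : DualNumber A), (q' i y).snd = δ i y.fst + q i y.snd := by
    intro i y
    have hy : y = inl y.fst + inl y.snd * DualNumber.eps := by
      refine TrivSqZeroExt.ext ?_ ?_ <;> simp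
    conv_lhs => rw [hy]
    rw [map_add, map_mul, hε, snd_add, DualNumber.snd_mul, hq', hδdef]
    simp
  refine ⟨Groth.Agent.S15987.equivOfDer Dtot, ?_, ?_, ?_⟩
  · change Groth.Agent.S15987.autOfDer Dtot DualNumber.eps = DualNumber.eps
    refine TrivSqZeroExt.ext ?_ ?_ <;>
      simp [Groth.Agent.S15987.autOfDer_fst, Groth.Agent.S15987.autOfDer_snd]
  · intro x
    exact Groth.Agent.S15987.autOfDer_fst Dtot x
  · intro i x
    change (q' i (Groth.Agent.S15987.autOfDer Dtot x)).fst = _ ∧
      (q' i (Groth.Agent.S15987.autOfDer Dtot x)).snd = _
    refine ⟨?_, ?_⟩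
    · rw [hq', Groth.Agent.S15987.autOfDer_fst]
    · rw [hform, Groth.Agent.S15987.autOfDer_fst, Groth.Agent.S15987.autOfDer_snd, map_add,
        hDtot]
      ring

end Groth.Agent.S15988
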