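import Groth.Statements.S15990
import Groth.Agent.Lib.Helper25.SectionRegularScheme2

set_option autoImplicit false
universe u
open SDiv

namespace Groth.Agent.S15990

open AlgebraicGeometry CategoryTheory in
/-- Let f : X → Y be separated and smooth of relative dimension 1 and let σ : Y → X be a section of f.
Then σ(Y) is a relative effective Cartier divisor on X/Y: the kernel ideal sheaf of the closed
immersion σ is the ideal sheaf of an effective Cartier divisor (locally on affine opens generated by
one nonzerodivisor) and the closed subscheme it defines is flat over Y. (The source adds the special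
case of the diagonal of X ×_Y X, a section of the first projection.) -/
theorem result
    {X Y : Scheme.{u}} (f : X ⟶ Y) [IsSeparated f] [SmoothOfRelativeDimension 1 f]
    (σ : Y ⟶ X) (hσ : σ ≫ f = 𝟙 Y) :
    BlowUp.IsEffCartierIdeal σ.ker ∧ Flat (σ.ker.subschemeι ≫ f) := by
  haveI hcl : IsClosedImmersion σ := by
    have h1 : IsClosedImmersion (σ ≫ f) := by rw [hσ]; infer_instance
    exact IsClosedImmersion.of_comp σ f
  constructor
  · intro x
    by_cases hx : x ∈ Set.range σ
    · obtain ⟨y, rfl⟩ := hx
      obtain ⟨-, h⟩ := Groth.Agent.Lib.Helper25.SectionRegular.isRegularImmersionOfCodim_of_section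
        f 1 σ hσ
      obtain ⟨U, hyU, -, rs, hlen, hreg, hker⟩ := h y
      refine ⟨U, hyU, ?_⟩
      obtain ⟨r, rfl⟩ : ∃ r, rs = [r] := List.length_eq_one_iff.mp hlen
      refine ⟨r, ?_, ?_⟩
      · have h1 : RingTheory.Sequence.IsRegular Γ(X, U.1) [r] := hreg
        have h2 := h1.toIsWeaklyRegular
        rw [RingTheory.Sequence.isWeaklyRegular_cons_iff] at h2
        have h3 : IsSMulRegular Γ(X, U.1) r := h2.1
        rw [mem_nonZeroDivisors_iff_right]
        intro z hz
        apply h3
        simp only [smul_eq_mul, mul_zero]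
        rw [mul_comm]; exact hz
      · rw [Scheme.Hom.ker_apply, hker]
        simp [Ideal.ofList]
    · have hopen : IsOpen (Set.range σ)ᶜ := σ.isClosedEmbedding.isClosed_range.isOpen_compl
      obtain ⟨_, ⟨U, hU, rfl⟩, hxU, hle⟩ :=
        X.isBasis_affineOpens.exists_subset_of_mem_open hx hopen
      refine ⟨⟨U, hU⟩, hxU, 1, one_mem _, ?_⟩
      rw [Scheme.Hom.ker_apply, Ideal.span_singleton_one]
      have hempty : σ ⁻¹ᵁ U = ⊥ := by
        ext w
        simp only [TopologicalSpace.Opens.coe_bot, Set.mem_empty_iff_false, iff_false]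
        intro hw
        exact hle hw ⟨w, rfl⟩
      have hsub : Subsingleton Γ(Y, σ ⁻¹ᵁ U) := by
        rw [hempty]
        infer_instance
      rw [Ideal.eq_top_iff_one, RingHom.mem_ker]
      exact Subsingleton.elim _ _
  · have h1 : σ.ker.subschemeι ≫ f = inv σ.toImage := by
      rw [← cancel_epi σ.toImage, ← Category.assoc]
      have : σ.toImage ≫ σ.ker.subschemeι = σ := σ.toImage_imageι
      rw [this, hσ, IsIso.hom_inv_id]
    rw [h1]
    infer_instance


end Groth.Agent.S15990
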