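import Groth.Statements.S15991
import Mathlib
import Groth.Agent.Helper19.MarkedDef3
import Groth.Agent.Helper19.TrivDef2
import Groth.Agent.Helper19.DefSm4
import Groth.Agent.S1318
-- import your own Groth.Agent.* helpers here

set_option autoImplicit false
universe u v
open Deform

namespace Groth.Agent.S15991

open AlgebraicGeometry CategoryTheory in

open AlgebraicGeometry CategoryTheory in
/-- Let k be a field and X an affine scheme smooth over k, with finitely many pairwise distinct
k-rational points p_j (j ∈ ι). Let X' → Spec k[ε] be flat, i : X → X' a morphism making X the fibre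
over the closed point Spec k → Spec k[ε] (cartesian square), and p'_j : Spec k[ε] → X' sections
restricting to the p_j. Then there is an isomorphism φ : X' ≅ X ×_{Spec k} Spec k[ε] over Spec k[ε]
such that i followed by φ is the inclusion of X at the closed point (its first component is the
identity of X) and each p'_j followed by φ is the constant section through p_j: every first-order
deformation of a smooth affine scheme with marked points is trivial. (The source says non-singular;
smooth over k is assumed here, and the marked points are taken pairwise distinct and finite in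
number.) -/
theorem result
    (k : Type u) [Field k] (X : Scheme.{u}) (hX : X ⟶ Spec (CommRingCat.of k)) [IsAffine X] [Smooth hX]
    {ι : Type v} [Finite ι] (p : ι → (Spec (CommRingCat.of k) ⟶ X)) (hp : ∀ j, p j ≫ hX = 𝟙 _)
    (hinj : Function.Injective p)
    (X' : Scheme.{u}) (g : X' ⟶ Spec (CommRingCat.of (DualNumber k))) [Flat g] (i : X ⟶ X')
    (hsq : IsPullback i hX g
      (Spec.map (CommRingCat.ofHom (TrivSqZeroExt.fstHom k k k).toRingHom)))
    (p' : ι → (Spec (CommRingCat.of (DualNumber k)) ⟶ X')) (hp' : ∀ j, p' j ≫ g = 𝟙 _)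
    (hpp' : ∀ j, p j ≫ i = Spec.map (CommRingCat.ofHom (TrivSqZeroExt.fstHom k k k).toRingHom) ≫ p' j) :
    ∃ φ : X' ≅ Limits.pullback hX (Spec.map (CommRingCat.ofHom (algebraMap k (DualNumber k)))),
      φ.hom ≫ Limits.pullback.snd hX (Spec.map (CommRingCat.ofHom (algebraMap k (DualNumber k)))) = g ∧
        i ≫ φ.hom ≫ Limits.pullback.fst hX (Spec.map (CommRingCat.ofHom (algebraMap k (DualNumber k)))) = 𝟙 X ∧
          ∀ j, p' j ≫ φ.hom ≫
              Limits.pullback.fst hX (Spec.map (CommRingCat.ofHom (algebraMap k (DualNumber k)))) =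
            Spec.map (CommRingCat.ofHom (algebraMap k (DualNumber k))) ≫ p j := by
  let e : DualNumber k →ₐ[k] k := TrivSqZeroExt.fstHom k k k
  have hesurj : Function.Surjective e := fun c => ⟨algebraMap k (DualNumber k) c, e.commutes c⟩
  have hek : Spec.map (CommRingCat.ofHom e.toRingHom) ≫
      Spec.map (CommRingCat.ofHom (algebraMap k (DualNumber k))) = 𝟙 _ := by
    rw [← Spec.map_comp, ← Spec.map_id]
    congr 1
  haveI : IsClosedImmersion (Spec.map (CommRingCat.ofHom e.toRingHom)) :=
    IsClosedImmersion.spec_of_surjective _ hesurj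
  have hnilA : IsNilpotent (RingHom.ker (CommRingCat.ofHom e.toRingHom).hom) := by
    change IsNilpotent (RingHom.ker (TrivSqZeroExt.fstHom k k k).toRingHom)
    refine ⟨2, ?_⟩
    have h : ∀ I : Ideal (DualNumber k), I ^ 2 = I * I := fun I => sq I
    rw [Ideal.zero_eq_bot, eq_bot_iff]
    rw [h, Ideal.mul_le]
    intro x hx y hy
    have hx' : TrivSqZeroExt.fst x = 0 := hx
    have hy' : TrivSqZeroExt.fst y = 0 := hy
    rw [Ideal.mem_bot]
    apply TrivSqZeroExt.ext
    · rw [TrivSqZeroExt.fst_mul, hx', zero_mul, TrivSqZeroExt.fst_zero]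
    · rw [TrivSqZeroExt.snd_mul, hx', hy']
      simp
  have hnilΓ := Groth.Agent.Helper19.TrivDef.isNilpotent_ker_appTop_SpecMap _ hnilA
  have hnilS : IsNilpotent (Spec.map (CommRingCat.ofHom e.toRingHom)).ker := by
    apply Groth.Agent.Helper19.TrivDef.isNilpotent_of_ideal_top
    rw [Scheme.Hom.ker_apply]
    exact hnilΓ
  have hsurj := Groth.Agent.Helper19.TrivDef.surjective_of_isNilpotent_ker _ hnilS
  haveI : Surjective (Spec.map (CommRingCat.ofHom e.toRingHom)) := ⟨hsurj⟩
  have hS : MoreMor.IsFiniteOrderThickening (Spec.map (CommRingCat.ofHom e.toRingHom)) :=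
    ⟨⟨inferInstance, inferInstance⟩, hnilS⟩
  haveI : IsClosedImmersion i := Groth.Agent.Helper19.DefSm.isClosedImmersion_of_isPullback hsq
  haveI : Surjective i := MorphismProperty.of_isPullback (P := @Surjective) hsq.flip ‹_›
  haveI : IsAffine X' := Groth.Agent.S0440.result i (Surjective.surj)
  have hnil : IsNilpotent (RingHom.ker i.appTop.hom) := by
    haveI : IsClosedImmersion (Spec.map (CommRingCat.ofHom e.toRingHom) ∣_ ⊤) :=
      IsZariskiLocalAtTarget.restrict ‹_› ⊤
    have hk := Groth.Agent.Helper19.RegImmBC.ker_app_baseChange hsq.flip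
      ⟨⊤, isAffineOpen_top (Spec (CommRingCat.of (DualNumber k)))⟩ ⟨⊤, isAffineOpen_top X'⟩ le_top
    obtain ⟨n, hn⟩ := hnilΓ
    refine ⟨n, ?_⟩
    change (RingHom.ker (i.app ⊤).hom) ^ n = 0
    rw [hk, ← Ideal.map_pow]
    change Ideal.map _ ((RingHom.ker (Spec.map (CommRingCat.ofHom e.toRingHom)).appTop.hom) ^ n) = 0
    rw [hn, Ideal.zero_eq_bot, Ideal.map_bot]
    rfl
  obtain ⟨r, hr1, hr2, hr3⟩ := Groth.Agent.Helper19.MarkedDef.exists_retraction_marked k hX g i
    (Surjective.surj) hsq.w hnil p hp hinj p' hp' hpp'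
  let ak := Spec.map (CommRingCat.ofHom (algebraMap k (DualNumber k)))
  let ek := Spec.map (CommRingCat.ofHom e.toRingHom)
  let ψ : X' ⟶ Limits.pullback hX ak := Limits.pullback.lift r g hr2
  have hψ1 : ψ ≫ Limits.pullback.fst hX ak = r := Limits.pullback.lift_fst _ _ _
  have hψ2 : ψ ≫ Limits.pullback.snd hX ak = g := Limits.pullback.lift_snd _ _ _
  have hiYc : 𝟙 X ≫ hX = (hX ≫ ek) ≫ ak := by
    rw [Category.id_comp, Category.assoc, hek, Category.comp_id]
  let iY : X ⟶ Limits.pullback hX ak := Limits.pullback.lift (𝟙 X) (hX ≫ ek) hiYc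
  have hiY1 : iY ≫ Limits.pullback.fst hX ak = 𝟙 X := Limits.pullback.lift_fst _ _ _
  have hiY2 : iY ≫ Limits.pullback.snd hX ak = hX ≫ ek := Limits.pullback.lift_snd _ _ _
  have hcY : IsPullback iY hX (Limits.pullback.snd hX ak) ek := by
    have right : IsPullback (Limits.pullback.fst hX ak) (Limits.pullback.snd hX ak) hX ak :=
      IsPullback.of_hasPullback _ _
    have outer : IsPullback (iY ≫ Limits.pullback.fst hX ak) hX hX (ek ≫ ak) := by
      rw [hiY1, hek]
      exact IsPullback.of_horiz_isIso ⟨by simp⟩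
    exact IsPullback.of_right outer hiY2 right
  have hcX : IsPullback i (𝟙 X ≫ hX) (ψ ≫ Limits.pullback.snd hX ak) ek := by
    rw [Category.id_comp, hψ2]; exact hsq
  have w : i ≫ ψ = 𝟙 X ≫ iY := by
    apply Limits.pullback.hom_ext
    · rw [Category.assoc, hψ1, hr1, Category.assoc, hiY1, Category.id_comp]
    · rw [Category.assoc, hψ2, hsq.w, Category.assoc, hiY2, Category.id_comp]
  haveI : Flat (ψ ≫ Limits.pullback.snd hX ak) := by rw [hψ2]; infer_instance
  haveI : IsIso ψ := (Groth.Agent.S1318.result i iY ek (𝟙 X) ψ hX (Limits.pullback.snd hX ak)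
    hS hcX hcY w).mp inferInstance
  refine ⟨asIso ψ, hψ2, ?_, fun j => ?_⟩
  · change i ≫ ψ ≫ Limits.pullback.fst hX ak = 𝟙 X
    rw [hψ1, hr1]
  · change p' j ≫ ψ ≫ Limits.pullback.fst hX ak = ak ≫ p j
    rw [hψ1, hr3 j]

end Groth.Agent.S15991
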