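import Groth.Statements.S15995
import Groth.Agent.Lib.Helper14.RelPerf1

set_option autoImplicit false
open CategoryTheory AlgebraicGeometry
universe u
open FrobSch

namespace Groth.Agent.S15995

/-- Coperfection commutes with base restriction. Let S and T be schemes of characteristic p and f : T →
S a relatively perfect morphism (its relative Frobenius T → T^(p/S) is an isomorphism). Let g : X →
T and let c : X → X' be a T-morphism to a relatively perfect T-scheme π : X' → T which is a
coperfection of X over T: for every relatively perfect T-scheme Y, every T-morphism X → Y factors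
uniquely through c. Then X' with structure map π ≫ f is relatively perfect over S and c is a
coperfection of X over S: every S-morphism from X to a relatively perfect S-scheme factors uniquely
through c. (The source works with algebraic spaces; schemes here.) -/
theorem result (p : ℕ) [Fact p.Prime] {X X' T S : Scheme.{u}}
    [FrobSch.IsCharP S p] [FrobSch.IsCharP T p] (f : T ⟶ S) (hf : IsIso (FrobSch.relFrob f p))
    (g : X ⟶ T) (π : X' ⟶ T) (hπ : IsIso (FrobSch.relFrob π p)) (c : X ⟶ X') (hc : c ≫ π = g)
    (huniv : ∀ (Y : Scheme.{u}) (q : Y ⟶ T), IsIso (FrobSch.relFrob q p) →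
      ∀ k : X ⟶ Y, k ≫ q = g → ∃! h : X' ⟶ Y, h ≫ q = π ∧ c ≫ h = k) :
    IsIso (FrobSch.relFrob (π ≫ f) p) ∧
      ∀ (Y : Scheme.{u}) (r : Y ⟶ S), IsIso (FrobSch.relFrob r p) →
        ∀ k : X ⟶ Y, k ≫ r = g ≫ f → ∃! h : X' ⟶ Y, h ≫ r = π ≫ f ∧ c ≫ h = k := by
  have cX' : IsCharP X' p := IsCharP.of_hom π p
  have hπ' : IsPullback (frob X' p) π π (frob T p) :=
    (Groth.Agent.Lib.Helper14.RelPerf.isIso_relFrob_iff p π).1 hπ
  have hf' : IsPullback (frob T p) f f (frob S p) :=
    (Groth.Agent.Lib.Helper14.RelPerf.isIso_relFrob_iff p f).1 hf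
  refine ⟨(Groth.Agent.Lib.Helper14.RelPerf.isIso_relFrob_iff p (π ≫ f)).2
    (Groth.Agent.Lib.Helper14.RelPerf.isPullback_comp p π f hπ' hf'), ?_⟩
  intro Y r hr k hk
  have cY : IsCharP Y p := IsCharP.of_hom r p
  have hr' : IsPullback (frob Y p) r r (frob S p) :=
    (Groth.Agent.Lib.Helper14.RelPerf.isIso_relFrob_iff p r).1 hr
  -- base change
  let YT : Scheme.{u} := Limits.pullback r f
  let a : YT ⟶ Y := Limits.pullback.fst r f
  let q : YT ⟶ T := Limits.pullback.snd r f
  have hA : IsPullback a q r f := IsPullback.of_hasPullback r f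
  have cYT : IsCharP YT p := IsCharP.of_hom q p
  have hq' : IsPullback (frob YT p) q q (frob T p) :=
    Groth.Agent.Lib.Helper14.RelPerf.isPullback_baseChange p r f a q hA hr'
  have hq : IsIso (relFrob q p) := (Groth.Agent.Lib.Helper14.RelPerf.isIso_relFrob_iff p q).2 hq'
  let k' : X ⟶ YT := Limits.pullback.lift k g hk
  have hk' : k' ≫ q = g := Limits.pullback.lift_snd _ _ _
  obtain ⟨h', ⟨hh'1, hh'2⟩, huniq⟩ := huniv YT q hq k' hk'
  refine ⟨h' ≫ a, ⟨?_, ?_⟩, ?_⟩
  · rw [Category.assoc, hA.w, ← Category.assoc, hh'1]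
  · rw [← Category.assoc, hh'2]
    exact Limits.pullback.lift_fst _ _ _
  · intro h ⟨hh1, hh2⟩
    have : Limits.pullback.lift h π hh1 = h' := by
      apply huniq
      refine ⟨Limits.pullback.lift_snd _ _ _, ?_⟩
      apply Limits.pullback.hom_ext
      · rw [Category.assoc, Limits.pullback.lift_fst, hh2]
        exact (Limits.pullback.lift_fst _ _ _).symm
      · rw [Category.assoc, Limits.pullback.lift_snd, hc]
        exact (Limits.pullback.lift_snd _ _ _).symm
    rw [← this]
    exact (Limits.pullback.lift_fst _ _ _).symm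

end Groth.Agent.S15995
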