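import Groth.Statements.S16002
import Groth.Agent.Lib.Helper21.HiggsInv
-- import your own Groth.Agent.* helpers here

set_option autoImplicit false
open CategoryTheory AlgebraicGeometry CategoryTheory.Limits
open VBCurve

namespace Groth.Agent.S16002

/-- Let X be a smooth proper integral curve over the complex numbers and (L_i)_{i ∈ ι} a family of
invertible O_X-modules. A tuple is a finite locally free O_X-module E of rank r ≥ 1 with maps φ_i :
E → E ⊗ L_i; a submodule j : G → E (a monomorphism) is invariant when for every i some χ : G → G ⊗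
L_i followed by j ⊗ L_i equals j followed by φ_i; the tuple is semistable when deg G · r ≤ deg E · n
for every invariant finite locally free submodule G of rank n ≥ 1, degrees being χ − rank · χ(O_X).
If (E, φ) and (F, ψ) are semistable tuples of ranks r ≥ 1 and s ≥ 1 over the same family (L_i) and f
: E → F is a nonzero module map with f followed by ψ_i equal to φ_i followed by f ⊗ L_i for every i,
then the slope of E is at most that of F: deg E · s ≤ deg F · r. (The published lemma has finitely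
many pairwise commuting twisting maps and morphisms compatible up to one nonzero scalar; the
commutation is not used, the index set is arbitrary here, and the scalar case reduces to this one by
rescaling the ψ_i.) -/
theorem result
    (X : Scheme.{0}) [X.Over (Spec (CommRingCat.of ℂ))] [IsIntegral X]
    [IsProper (X ↘ Spec (CommRingCat.of ℂ))] [Smooth (X ↘ Spec (CommRingCat.of ℂ))]
    (hdim : topologicalKrullDim X = 1)
    (ι : Type) (L : ι → X.Modules) (hL : ∀ i, PicF.IsInvertible (L i))
    (r s : ℕ) (hr : 0 < r) (hs : 0 < s)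
    (E F : X.Modules) (hE : FlatMod.IsFinLocFreeOfRank r E) (hF : FlatMod.IsFinLocFreeOfRank s F)
    (φ : ∀ i, E ⟶ CohB1.tensorMod E (L i)) (ψ : ∀ i, F ⟶ CohB1.tensorMod F (L i))
    (hEss : (∀ (G : X.Modules) (n : ℕ) (j : G ⟶ E), Mono j → 0 < n → FlatMod.IsFinLocFreeOfRank n G →
      (∀ i, ∃ χ : G ⟶ CohB1.tensorMod G (L i), χ ≫ (CohB1.sheafifyMod X).map (MonoidalCategoryStruct.whiskerRight (C := CohB1.PMod X) j.val (CohB1.toPMod (L i))) = j ≫ φ i) →
      Curv2.deg ℂ X G n * (r : ℤ) ≤ Curv2.deg ℂ X E r * (n : ℤ)))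
    (hFss : (∀ (G : X.Modules) (n : ℕ) (j : G ⟶ F), Mono j → 0 < n → FlatMod.IsFinLocFreeOfRank n G →
      (∀ i, ∃ χ : G ⟶ CohB1.tensorMod G (L i), χ ≫ (CohB1.sheafifyMod X).map (MonoidalCategoryStruct.whiskerRight (C := CohB1.PMod X) j.val (CohB1.toPMod (L i))) = j ≫ ψ i) →
      Curv2.deg ℂ X G n * (s : ℤ) ≤ Curv2.deg ℂ X F s * (n : ℤ)))
    (f : E ⟶ F) (hf : ∀ i, f ≫ ψ i = φ i ≫ (CohB1.sheafifyMod X).map (MonoidalCategoryStruct.whiskerRight (C := CohB1.PMod X) f.val (CohB1.toPMod (L i)))) (hne : f ≠ 0) :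
    Curv2.deg ℂ X E r * (s : ℤ) ≤ Curv2.deg ℂ X F s * (r : ℤ) := by
  have hpres : ∀ i, PreservesFiniteLimits (Groth.Agent.Lib.Lead.TwistExact.tensorRight (L i)) :=
    fun i => Groth.Agent.Lib.Lead.TwistExact.preservesFiniteLimits_tensorRight_of_isFlat
      (Groth.Agent.Lib.Lead.TwistExact.isFlat_of_isInvertible (hL i))
  obtain ⟨a, b, ha, hb, hab, hdeg⟩ :=
    Groth.Agent.Lib.Helper2.DegAdd.exists_ker_im_decomp ℂ hdim.le r s hE hF f
  have hb0 : 0 < b := by
    rcases Nat.eq_zero_or_pos b with hb0 | h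
    · exfalso
      subst hb0
      have hz := Groth.Agent.Lib.Helper2.DegAdd.isZero_of_rank_zero hb
      have h0 : Abelian.factorThruImage f = 0 := hz.eq_of_tgt _ _
      apply hne
      rw [← Abelian.image.fac f, h0, zero_comp]
    · exact h
  have hI := hFss (Abelian.image f) b (Abelian.image.ι f) inferInstance hb0 hb (fun i => by
    have := hpres i
    exact Groth.Agent.Lib.Helper21.HiggsInv.exists_restrict_image (L i) f (φ i) (ψ i) (hf i))
  have hrab : (r : ℤ) = (a : ℤ) + (b : ℤ) := by exact_mod_cast hab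
  have hb' : (0 : ℤ) < (b : ℤ) := by exact_mod_cast hb0
  rcases Nat.eq_zero_or_pos a with ha0 | ha0
  · subst ha0
    have hz := Groth.Agent.Lib.Helper2.DegAdd.isZero_of_rank_zero ha
    have hd0 := Groth.Agent.Lib.Helper2.DegAdd.deg_eq_zero_of_isZero ℂ hz
    have hrb : (r : ℤ) = (b : ℤ) := by rw [hrab]; simp
    rw [hdeg, hd0, zero_add, hrb]
    exact hI
  · have hK := hEss (kernel f) a (kernel.ι f) inferInstance ha0 ha (fun i => by
      have := hpres i
      exact Groth.Agent.Lib.Helper21.HiggsInv.exists_restrict_ker (L i) f (φ i) (ψ i) (hf i))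
    rw [hdeg] at hK ⊢
    generalize Curv2.deg ℂ X (kernel f) a = dk at hK ⊢
    generalize Curv2.deg ℂ X (Abelian.image f) b = di at hK hI ⊢
    generalize Curv2.deg ℂ X F s = dF at hI ⊢
    have hs' : (0 : ℤ) ≤ (s : ℤ) := Int.natCast_nonneg s
    have hr' : (0 : ℤ) ≤ (r : ℤ) := Int.natCast_nonneg r
    have h1 : dk * (b : ℤ) ≤ di * (a : ℤ) := by
      rw [hrab] at hK
      nlinarith
    have h2 : (dk + di) * (s : ℤ) * (b : ℤ) ≤ dF * (r : ℤ) * (b : ℤ) := by
      calc (dk + di) * (s : ℤ) * (b : ℤ) = (dk * (b : ℤ) + di * (b : ℤ)) * (s : ℤ) := by ring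
        _ ≤ (di * (a : ℤ) + di * (b : ℤ)) * (s : ℤ) :=
            mul_le_mul_of_nonneg_right (by linarith) hs'
        _ = (di * (s : ℤ)) * (r : ℤ) := by rw [hrab]; ring
        _ ≤ (dF * (b : ℤ)) * (r : ℤ) := mul_le_mul_of_nonneg_right hI hr'
        _ = dF * (r : ℤ) * (b : ℤ) := by ring
    exact le_of_mul_le_mul_right h2 hb'

end Groth.Agent.S16002
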