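import Groth.Statements.S16013
import Mathlib
import Groth.Agent.Lib.Helper2.GhConst

set_option autoImplicit false
universe u v w x
open W4c3ghconstell

namespace Groth.Agent.S16013
section Aux
end Aux
open Groth.Agent.Lib.Helper2.GhConst Groth.Agent.Lib.Helper7.Comod


/-- Let k be an algebraically closed field of characteristic zero, A a commutative Hopf algebra over k
which is a finitely generated domain and linearly reductive (the coordinate ring of a connected
reductive group G; irreducible representations of G are indexed by the simple subcoalgebras D of A),
R a Noetherian commutative k-algebra with a multiplicative A-coaction (an affine G-scheme X = Spec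
R), and M an R-module with a compatible A-coaction (a G-equivariant quasi-coherent module on X)
which is finite over R, is the sum of its isotypic components M_D, and has dim_k M_D = h(D) < ∞ for
every simple subcoalgebra D. Fix a weight θ from simple subcoalgebras to ℚ, negative at only
finitely many D, with Σ_D θ(D) h(D) = 0 (a convergent real series) and with θ(D) ≠ 0, h(D) ≠ 0 for
some D; the weight of a k-subspace N of M is the real series Σ_D θ(D) · dim_k (N ∩ M_D). Let D₀ be
the line spanned by 1 in A (the trivial representation), and suppose h(D₀) = 1, θ(D) < 0 exactly for
D = D₀, and θ(D) ≠ 0 whenever h(D) ≠ 0. If M is generated as an R-module by its one-dimensional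
invariant part M_{D₀} (so M is cyclic on an invariant vector, an equivariant quotient of R with
isotypic dimensions h), then M is θ-stable: M has weight 0 and every non-zero proper R-submodule of
M stable under the coaction has weight > 0. (The published statement identifies the moduli functor
of θ-stable objects with the invariant Hilbert functor; this row is the converse direction of that
identification on a single object, to which its proof reduces. The forward direction, that a
θ-stable object is generated by M_{D₀}, is the single-negative-weight case of the generation
statement for θ-stable objects and is not restated here. The published converse has no condition at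
the D with θ(D) = 0, and fails without it: for the multiplicative group acting on R = k[x,y]/(x,y)²
with x of weight 1 and y of weight −1, M = R with h = 1 at the weights −1, 0, 1 and θ = 0, −1, 1
there is generated by 1, yet the line spanned by y is a non-zero proper equivariant submodule of
weight 0. The printed argument establishes the statement under the extra condition; multiplicities
are recorded as dimensions of isotypic components, a rescaling of θ.) -/
theorem result (k : Type u) [Field k] [IsAlgClosed k] [CharZero k]
    (A : Type v) [CommRing A] [IsDomain A] [HopfAlgebra k A] [Algebra.FiniteType k A]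
    (hred : HopfRep.IsLinearlyReductive k A)
    (R : Type w) [CommRing R] [Algebra k R] [IsNoetherianRing R] [HopfRep.Comod k A R] [GLin.IsCoactAlg k A R]
    (M : Type x) [AddCommGroup M] [Module k M] [Module R M] [IsScalarTower k R M]
    [HopfRep.Comod k A M] [TameAct.IsHopfMod k A R M]
    (h : W4c3ghconstell.SimpSub k A → ℕ) (θ : W4c3ghconstell.SimpSub k A → ℚ)
    (hfin : {D | θ D < 0}.Finite) (hsum : HasSum (fun D => (θ D : ℝ) * (h D : ℝ)) 0)
    (hne : ∃ D, θ D ≠ 0 ∧ h D ≠ 0)
    (hM : W4c3ghconstell.IsConstellation k A R M h)
    (D₀ : W4c3ghconstell.SimpSub k A) (hD₀ : D₀.1 = Submodule.span k {(1 : A)})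
    (h1 : h D₀ = 1) (hneg : ∀ D, θ D < 0 ↔ D = D₀)
    (hθ : ∀ D, h D ≠ 0 → θ D ≠ 0)
    (hgen : W4c3ghconstell.genIn k A R M {D₀} ⊤ = ⊤) :
    W4c3ghconstell.IsThetaStable k A R M θ := by
  classical
  have hfd := hM.2.2
  have hs := hsum.summable
  refine ⟨theta_top hfd hsum, ?_⟩
  intro N hN hNb hNt
  have hD0 : N.restrictScalars k ⊓ isoComp M D₀.1 = ⊥ := by
    by_contra hne0
    haveI := (hfd D₀).1
    have hpos : 0 < hilbAt M (N.restrictScalars k) D₀ := by
      rcases Nat.eq_zero_or_pos (hilbAt M (N.restrictScalars k) D₀) with h0 | h0
      · exact absurd ((hilbAt_eq_zero_iff hfd _ D₀).1 h0) hne0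
      · exact h0
    have h6 : (N.restrictScalars k ⊓ isoComp M D₀.1 : Submodule k M) = isoComp M D₀.1 := by
      apply Submodule.eq_of_le_of_finrank_le inf_le_right
      rw [(hfd D₀).2, h1]
      exact hpos
    have hle : isoComp M D₀.1 ≤ N.restrictScalars k := by
      rw [← h6]; exact inf_le_left
    apply hNt
    rw [eq_top_iff, ← hgen]
    unfold genIn
    rw [Submodule.span_le]
    intro x hx
    simp only [Set.mem_iUnion, SetLike.mem_coe, Set.mem_singleton_iff] at hx
    obtain ⟨D, hD, hxD⟩ := hx
    subst hD
    exact hle hxD.2
  apply theta_pos_of_neg_parts_bot hfd hfin hs hθ hN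
  · intro hbot
    apply hNb
    rw [eq_bot_iff]
    intro x hx
    have : x ∈ (N.restrictScalars k) := hx
    rw [hbot] at this
    exact this
  · intro D hD
    rw [(hneg D).1 hD]
    exact hD0

end Groth.Agent.S16013
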