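import Groth.Statements.S16014
import Mathlib

set_option autoImplicit false
universe u
open W4c3ghconstell

namespace Groth.Agent.S16014

/-- Abel summation over an integer interval. -/
theorem sum_mul_eq (g : ℤ → ℚ) (a M : ℤ) :
    ∑ n ∈ Finset.Icc a M, (n : ℚ) * g n =
      ∑ n ∈ Finset.Icc (a + 1) M, ∑ m ∈ Finset.Icc n M, g m +
        (a : ℚ) * ∑ m ∈ Finset.Icc a M, g m := by
  have h1 : ∑ n ∈ Finset.Icc (a + 1) M, ∑ m ∈ Finset.Icc n M, g m =
      ∑ m ∈ Finset.Icc (a + 1) M, ∑ n ∈ Finset.Icc (a + 1) m, g m := by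
    apply Finset.sum_comm'
    intro x y
    simp only [Finset.mem_Icc]
    omega
  have h2 : ∀ m ∈ Finset.Icc (a + 1) M, ∑ n ∈ Finset.Icc (a + 1) m, g m = ((m : ℚ) - a) * g m := by
    intro m hm
    rw [Finset.mem_Icc] at hm
    rw [Finset.sum_const, Int.card_Icc, nsmul_eq_mul]
    congr 1
    have : ((m + 1 - (a + 1)).toNat : ℤ) = m - a := by omega
    have h : (((m + 1 - (a + 1)).toNat : ℤ) : ℚ) = ((m - a : ℤ) : ℚ) := by rw [this]
    rw [Int.cast_natCast, Int.cast_sub] at h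
    exact h
  rw [h1, Finset.sum_congr rfl h2]
  have h3 : ∑ m ∈ Finset.Icc (a + 1) M, ((m : ℚ) - a) * g m =
      ∑ m ∈ Finset.Icc a M, ((m : ℚ) - a) * g m := by
    apply Finset.sum_subset
    · intro m hm
      rw [Finset.mem_Icc] at hm ⊢
      omega
    · intro m hm hm'
      rw [Finset.mem_Icc] at hm hm'
      have : m = a := by omega
      rw [this, sub_self, zero_mul]
  rw [h3, Finset.mul_sum, ← Finset.sum_add_distrib]
  refine Finset.sum_congr rfl fun m _ => ?_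
  ring

/-- Let B = ⊕_{n ∈ ℤ} ⊕_τ B^n_τ be a bigraded finite-dimensional vector space, τ running over a finite
index set, with B^n = 0 for n < −N and for n > M (N, M integers); put d(n, τ) = dim B^n_τ. For
rational numbers φ_τ write φ(C) = Σ_τ φ_τ dim C_τ for a τ-graded piece C, and let B^{≥n} = ⊕_{m ≥ n}
B^m, so that dim B^{≥n}_τ = Σ_{n ≤ m ≤ M} d(m, τ). Then Σ_{−N ≤ n ≤ M} n · φ(B^n) = Σ_{−N+1 ≤ n ≤ M}
φ(B^{≥n}) − N · φ(B). (Stated directly on the dimension function d.) -/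
theorem result {τ : Type u} [Fintype τ] (d : ℤ → τ → ℕ) (φ : τ → ℚ) (N M : ℤ)
    (hN : ∀ n, n < -N → d n = 0) (hM : ∀ n, M < n → d n = 0) :
    ∑ n ∈ Finset.Icc (-N) M, (n : ℚ) * (∑ t, φ t * (d n t : ℚ)) =
      ∑ n ∈ Finset.Icc (-N + 1) M, (∑ t, φ t * (∑ m ∈ Finset.Icc n M, (d m t : ℚ))) -
        (N : ℚ) * (∑ t, φ t * (∑ m ∈ Finset.Icc (-N) M, (d m t : ℚ))) := by
  have key := sum_mul_eq (fun n => ∑ t, φ t * (d n t : ℚ)) (-N) M
  have h1 : ∀ n : ℤ, (∑ t, φ t * (∑ m ∈ Finset.Icc n M, (d m t : ℚ))) =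
      ∑ m ∈ Finset.Icc n M, ∑ t, φ t * (d m t : ℚ) := by
    intro n
    rw [Finset.sum_comm]
    refine Finset.sum_congr rfl fun t _ => ?_
    rw [Finset.mul_sum]
  simp only [h1]
  rw [key]
  push_cast
  ring

end Groth.Agent.S16014
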