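import Groth.Statements.S16015
import Mathlib

set_option autoImplicit false
universe u v w
open W4c3ghconstell

namespace Groth.Agent.S16015

/-- Let B be a commutative ring, E a B-module, F a finitely generated projective B-module and β : E → F
a B-linear map. Then there is a unique ideal I of B such that for every commutative B-algebra C the
base change β_C : C ⊗ E → C ⊗ F is zero if and only if the structure map B → C kills I. (The
published statement is for a homomorphism of modules on a scheme T into a locally free module and
produces a closed subscheme T₀ through which a morphism factors exactly when the pulled-back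
homomorphism vanishes; this row is the case of an affine T with affine test schemes and F of finite
rank, to which it reduces.) -/
theorem result {B : Type u} [CommRing B]
    {E : Type v} [AddCommGroup E] [Module B E]
    {F : Type w} [AddCommGroup F] [Module B F] [Module.Finite B F] [Module.Projective B F]
    (β : E →ₗ[B] F) :
    ∃! I : Ideal B, ∀ (C : Type u) [CommRing C] [Algebra B C],
      LinearMap.baseChange C β = 0 ↔ I ≤ RingHom.ker (algebraMap B C) := by
  classical
  let I : Ideal B := Ideal.span {b | ∃ (l : Module.Dual B F) (e : E), l (β e) = b}
  have hI : ∀ (C : Type u) [CommRing C] [Algebra B C],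
      LinearMap.baseChange C β = 0 ↔ I ≤ RingHom.ker (algebraMap B C) := by
    intro C _ _
    constructor
    · intro h
      rw [Ideal.span_le]
      rintro _ ⟨l, e, rfl⟩
      have h1 : LinearMap.baseChange C β ((1 : C) ⊗ₜ[B] e) = 0 := by rw [h]; rfl
      rw [LinearMap.baseChange_tmul] at h1
      have h2 := congrArg (LinearMap.baseChange C l) h1
      rw [LinearMap.baseChange_tmul, map_zero] at h2
      have h3 := congrArg (Algebra.TensorProduct.rid B C C) h2
      rw [map_zero, Algebra.TensorProduct.rid_tmul] at h3
      rw [SetLike.mem_coe, RingHom.mem_ker, Algebra.algebraMap_eq_smul_one]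
      exact h3
    · intro h
      obtain ⟨n, f, g, -, -, hfg⟩ := Module.Finite.exists_comp_eq_id_of_projective B F
      have hzero : ∀ e : E, (1 : C) ⊗ₜ[B] β e = 0 := by
        intro e
        have h1 : β e = ∑ i, (g (β e) i) • f (fun j => if i = j then (1 : B) else 0) := by
          conv_lhs => rw [← LinearMap.id_apply (R := B) (β e), ← hfg, LinearMap.comp_apply,
            pi_eq_sum_univ (g (β e))]
          rw [map_sum]
          refine Finset.sum_congr rfl fun i _ => ?_
          rw [map_smul]
        rw [h1, TensorProduct.tmul_sum]
        refine Finset.sum_eq_zero fun i _ => ?_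
        rw [TensorProduct.tmul_smul, TensorProduct.smul_tmul']
        have hmem : g (β e) i ∈ I :=
          Ideal.subset_span ⟨(LinearMap.proj i) ∘ₗ g, e, rfl⟩
        have := h hmem
        rw [RingHom.mem_ker, Algebra.algebraMap_eq_smul_one] at this
        rw [this, TensorProduct.zero_tmul]
      apply LinearMap.ext
      intro x
      induction x using TensorProduct.induction_on with
      | zero => simp
      | tmul c e =>
        rw [LinearMap.baseChange_tmul, LinearMap.zero_apply]
        have : c ⊗ₜ[B] β e = c • ((1 : C) ⊗ₜ[B] β e) := by
          rw [TensorProduct.smul_tmul', smul_eq_mul, mul_one]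
        rw [this, hzero, smul_zero]
      | add x y hx hy => rw [map_add, hx, hy]; simp
  refine ⟨I, hI, ?_⟩
  intro I' hI'
  have hker : ∀ K : Ideal B, RingHom.ker (algebraMap B (B ⧸ K)) = K := by
    intro K
    rw [Ideal.Quotient.algebraMap_eq, Ideal.mk_ker]
  apply le_antisymm
  · have := (hI' (B ⧸ I)).mp ((hI (B ⧸ I)).mpr (by rw [hker]))
    rwa [hker] at this
  · have := (hI (B ⧸ I')).mp ((hI' (B ⧸ I')).mpr (by rw [hker]))
    rwa [hker] at this

end Groth.Agent.S16015
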