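import Groth.Statements.S16016
import Mathlib

set_option autoImplicit false
universe u
open W4c3ghconstell

namespace Groth.Agent.S16016

/-- Let k be a field with 2 ≠ 0, index k⁶ by two copies of {0,1,2} (basis vectors p₁, p₂, p₃ in the
first copy and p₄, p₅, p₆ in the second), let Q be the symmetric matrix with blocks ((0, 1), (1,
0)), so that the form it defines pairs pᵢ with pᵢ₊₃, and let W₀ be the span of p₁ and p₂. Then a 6 ×
6 matrix A satisfies AᵀQ + QA = 0 (A lies in the orthogonal Lie algebra of Q) and has the image of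
Aᵀ contained in W₀ if and only if A = a · (E₄₂ − E₅₁) for some scalar a, where Eᵢⱼ is the matrix
unit. (The lemma in the source concludes that the set of such A inside a certain nilpotent orbit
closure of this Lie algebra is one-dimensional; this row is the computation its proof performs,
which determines all such A in the Lie algebra. Characteristic 2 is excluded: there E₁₄ᵀ also
qualifies.) -/
theorem result (k : Type u) [Field k] (h2 : (2 : k) ≠ 0)
    (A : Matrix (Fin 3 ⊕ Fin 3) (Fin 3 ⊕ Fin 3) k) :
    (A.transpose * Matrix.fromBlocks (0 : Matrix (Fin 3) (Fin 3) k) 1 1 0 +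
        Matrix.fromBlocks (0 : Matrix (Fin 3) (Fin 3) k) 1 1 0 * A = 0 ∧
      LinearMap.range (Matrix.mulVecLin A.transpose) ≤
        Submodule.span k {Pi.single (Sum.inl 0 : Fin 3 ⊕ Fin 3) (1 : k), Pi.single (Sum.inl 1 : Fin 3 ⊕ Fin 3) (1 : k)}) ↔
    ∃ a : k, A = a • (Matrix.single (Sum.inr 0) (Sum.inl 1) (1 : k) - Matrix.single (Sum.inr 1) (Sum.inl 0) (1 : k)) := by
  set Q : Matrix (Fin 3 ⊕ Fin 3) (Fin 3 ⊕ Fin 3) k :=
    Matrix.fromBlocks (0 : Matrix (Fin 3) (Fin 3) k) 1 1 0 with hQdef
  have hQ1 : ∀ l j, Q l j = if l = Sum.swap j then 1 else 0 := by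
    rintro (l|l) (j|j) <;> simp [Q, Matrix.one_apply]
  have hQ2 : ∀ i l, Q i l = if l = Sum.swap i then 1 else 0 := by
    rintro (l|l) (j|j) <;> simp [Q, Matrix.one_apply, eq_comm]
  have hentry : ∀ i j, (A.transpose * Q + Q * A) i j = A (Sum.swap j) i + A (Sum.swap i) j := by
    intro i j
    have e1 : (A.transpose * Q) i j = A (Sum.swap j) i := by
      rw [Matrix.mul_apply]
      simp only [Matrix.transpose_apply, hQ1, mul_ite, mul_one, mul_zero]
      rw [Finset.sum_ite_eq']
      simp
    have e2 : (Q * A) i j = A (Sum.swap i) j := by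
      rw [Matrix.mul_apply]
      simp only [hQ2, ite_mul, one_mul, zero_mul]
      rw [Finset.sum_ite_eq']
      simp
    rw [Matrix.add_apply, e1, e2]
  constructor
  · rintro ⟨hQA, hrange⟩
    have h1 : ∀ i j, A (Sum.swap j) i + A (Sum.swap i) j = 0 := by
      intro i j
      rw [← hentry, hQA]
      rfl
    have h3 : ∀ j i, i ≠ Sum.inl 0 → i ≠ Sum.inl 1 → A j i = 0 := by
      intro j i hi0 hi1
      have hmem : A.transpose.mulVecLin (Pi.single j 1) ∈
          Submodule.span k {Pi.single (Sum.inl 0 : Fin 3 ⊕ Fin 3) (1 : k),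
            Pi.single (Sum.inl 1 : Fin 3 ⊕ Fin 3) (1 : k)} := hrange ⟨_, rfl⟩
      rw [Submodule.mem_span_pair] at hmem
      obtain ⟨a, b, hab⟩ := hmem
      have := congrFun hab i
      simp only [Matrix.mulVecLin_apply, Matrix.mulVec_single_one, Pi.add_apply, Pi.smul_apply,
        Pi.single_eq_of_ne hi0, Pi.single_eq_of_ne hi1, smul_zero, add_zero] at this
      simpa using this.symm
    have G2 : ∀ c b : Fin 3, (b = 0 ∨ b = 1) → A (Sum.inl c) (Sum.inl b) = 0 := by
      intro c b hb
      have e := h1 (Sum.inl b) (Sum.inr c)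
      simp only [Sum.swap_inr, Sum.swap_inl] at e
      rw [h3 (Sum.inr b) (Sum.inr c) (by simp) (by simp), add_zero] at e
      exact e
    have G3 : ∀ c b : Fin 3, A (Sum.inr c) (Sum.inl b) = -A (Sum.inr b) (Sum.inl c) := by
      intro c b
      have e := h1 (Sum.inl b) (Sum.inl c)
      simp only [Sum.swap_inl] at e
      exact eq_neg_of_add_eq_zero_left e
    have G3' : ∀ b : Fin 3, A (Sum.inr b) (Sum.inl b) = 0 := by
      intro b
      have e := G3 b b
      have e2 : (2 : k) * A (Sum.inr b) (Sum.inl b) = 0 := by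
        rw [two_mul]
        nth_rewrite 1 [e]
        exact neg_add_cancel _
      exact (mul_eq_zero.mp e2).resolve_left h2
    have G3'' : ∀ b : Fin 3, A (Sum.inr 2) (Sum.inl b) = 0 := by
      intro b
      rw [G3, h3 (Sum.inr b) (Sum.inl 2) (by simp) (by simp), neg_zero]
    refine ⟨A (Sum.inr 0) (Sum.inl 1), ?_⟩
    ext i j
    rcases i with i | i <;> rcases j with j | j <;> fin_cases i <;> fin_cases j <;>
      simp [Matrix.single_apply] <;>
      first
        | exact G3' _
        | exact G3'' _
        | exact G3 _ _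
        | (refine h3 _ _ ?_ ?_ <;> decide)
        | (refine G2 _ _ ?_ <;> decide)
        | skip
  · rintro ⟨a, rfl⟩
    refine ⟨?_, ?_⟩
    · ext i j
      rw [hentry]
      rcases i with i | i <;> rcases j with j | j <;> fin_cases i <;> fin_cases j <;> simp
    · rintro _ ⟨v, rfl⟩
      rw [Submodule.mem_span_pair]
      refine ⟨-(a * v (Sum.inr 1)), a * v (Sum.inr 0), ?_⟩
      ext i
      rcases i with i | i <;> fin_cases i <;>
        simp [Matrix.mulVec, dotProduct, Fintype.sum_sum_type, Fin.sum_univ_three,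
          Matrix.single_apply]

end Groth.Agent.S16016
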