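import Groth.Statements.S16017
import Mathlib

set_option autoImplicit false
universe u
open W4c3ghconstell

namespace Groth.Agent.S16017

/-- Let ι index the irreducible representations, θ : ι → ℚ a weight negative at only finitely many
indices (the finite set D₋), h h' : ι → ℕ with h' ≤ h pointwise (the isotypic dimensions of an
object and of a sub-object) and Σ_i θ_i h_i summable. For a finite set D of indices put S_D = Σ_{i ∉
D} θ_i h_i, d = #(D ∖ D₋), and θ̃_D = Σ_{i ∈ D} θ_i h'_i + (S_D / d) · Σ_{i ∈ D ∖ D₋} h'_i / h_i,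
the modified weight attached to the parameters chosen for D (for D ⊇ D₋ the first sum is the
negative part plus the part over D ∖ D₋). Then θ̃_D tends to Σ_i θ_i h'_i as D grows through the
finite subsets of ι. (Here D runs over all finite sets of indices and a quotient by zero is zero;
the source lets D run over the finite subsets of the locus θ ≠ 0 containing D₋, and the same tail
estimate gives both.) -/
theorem result {ι : Type u} [DecidableEq ι] (θ : ι → ℚ) (h h' : ι → ℕ)
    (hle : ∀ i, h' i ≤ h i) (hfin : {i | θ i < 0}.Finite)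
    (hsum : Summable (fun i => (θ i : ℝ) * (h i : ℝ))) :
    Filter.Tendsto
      (fun D : Finset ι =>
        (∑ i ∈ D, (θ i : ℝ) * (h' i : ℝ)) +
          ((∑' i, if i ∈ D then (0 : ℝ) else (θ i : ℝ) * (h i : ℝ)) / ((D \ hfin.toFinset).card : ℝ)) *
            ∑ i ∈ D \ hfin.toFinset, ((h' i : ℝ) / (h i : ℝ)))
      Filter.atTop (nhds (∑' i, (θ i : ℝ) * (h' i : ℝ))) := by
  classical
  set f : ι → ℝ := fun i => (θ i : ℝ) * (h i : ℝ) with hf
  set f' : ι → ℝ := fun i => (θ i : ℝ) * (h' i : ℝ) with hf'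
  have hsum' : Summable f' := by
    refine Summable.of_norm_bounded (g := fun i => |f i|) hsum.abs (fun i => ?_)
    simp only [f, f', Real.norm_eq_abs, abs_mul]
    refine mul_le_mul_of_nonneg_left ?_ (abs_nonneg _)
    rw [abs_of_nonneg (Nat.cast_nonneg _), abs_of_nonneg (Nat.cast_nonneg _)]
    exact_mod_cast hle i
  have h1 : Filter.Tendsto (fun D : Finset ι => ∑ i ∈ D, f' i) Filter.atTop
      (nhds (∑' i, f' i)) := hsum'.hasSum
  have hS : ∀ D : Finset ι, (∑' i, if i ∈ D then (0 : ℝ) else f i) =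
      ∑' i : {x // x ∉ D}, f i := by
    intro D
    have := tsum_subtype {x | x ∉ D} f
    rw [show (∑' i : {x // x ∉ D}, f i) = ∑' i : ({x | x ∉ D} : Set ι), f i from rfl, this]
    congr 1
    ext i
    by_cases hi : i ∈ D <;> simp [Set.indicator, hi]
  have h2 : Filter.Tendsto (fun D : Finset ι => ∑' i, if i ∈ D then (0 : ℝ) else f i)
      Filter.atTop (nhds 0) := by
    simp only [hS]
    exact tendsto_tsum_compl_atTop_zero f
  have h3 : Filter.Tendsto (fun D : Finset ι =>
      ((∑' i, if i ∈ D then (0 : ℝ) else f i) / ((D \ hfin.toFinset).card : ℝ)) *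
        ∑ i ∈ D \ hfin.toFinset, ((h' i : ℝ) / (h i : ℝ))) Filter.atTop (nhds 0) := by
    refine squeeze_zero_norm (a := fun D : Finset ι => |∑' i, if i ∈ D then (0 : ℝ) else f i|)
      (fun D => ?_) (by simpa using h2.abs)
    rw [Real.norm_eq_abs, abs_mul, abs_div]
    set d : ℝ := ((D \ hfin.toFinset).card : ℝ) with hd
    have hd0 : 0 ≤ d := Nat.cast_nonneg _
    have hterm : ∀ i, 0 ≤ (h' i : ℝ) / (h i : ℝ) ∧ (h' i : ℝ) / (h i : ℝ) ≤ 1 := by
      intro i
      refine ⟨div_nonneg (Nat.cast_nonneg _) (Nat.cast_nonneg _), ?_⟩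
      apply div_le_one_of_le₀ _ (Nat.cast_nonneg _)
      exact_mod_cast hle i
    have hsumle : |∑ i ∈ D \ hfin.toFinset, ((h' i : ℝ) / (h i : ℝ))| ≤ d := by
      rw [abs_of_nonneg (Finset.sum_nonneg fun i _ => (hterm i).1)]
      calc ∑ i ∈ D \ hfin.toFinset, ((h' i : ℝ) / (h i : ℝ))
          ≤ ∑ i ∈ D \ hfin.toFinset, (1 : ℝ) := Finset.sum_le_sum fun i _ => (hterm i).2
        _ = d := by simp [hd]
    rcases eq_or_lt_of_le hd0 with hd' | hd'
    · rw [← hd', abs_zero, div_zero, zero_mul]
      exact abs_nonneg _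
    · rw [abs_of_pos hd']
      calc |∑' i, if i ∈ D then (0 : ℝ) else f i| / d *
            |∑ i ∈ D \ hfin.toFinset, ((h' i : ℝ) / (h i : ℝ))|
          ≤ |∑' i, if i ∈ D then (0 : ℝ) else f i| / d * d :=
            mul_le_mul_of_nonneg_left hsumle (div_nonneg (abs_nonneg _) hd0)
        _ = |∑' i, if i ∈ D then (0 : ℝ) else f i| := by field_simp
  have := h1.add h3
  simpa using this

end Groth.Agent.S16017
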