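import Groth.Statements.S16018
import Mathlib
import Groth.Agent.Lib.Helper2.GhConst

set_option autoImplicit false
universe u v w x
open W4c3ghconstell

namespace Groth.Agent.S16018
section Aux
end Aux
open Groth.Agent.Lib.Helper2.GhConst Groth.Agent.Lib.Helper7.Comod


/-- Let k be an algebraically closed field of characteristic zero, A a commutative Hopf algebra over k
which is a finitely generated domain and linearly reductive (the coordinate ring of a connected
reductive group G; irreducible representations of G are indexed by the simple subcoalgebras D of A),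
R a Noetherian commutative k-algebra with a multiplicative A-coaction (an affine G-scheme X = Spec
R), and M an R-module with a compatible A-coaction (a G-equivariant quasi-coherent module on X)
which is finite over R, is the sum of its isotypic components M_D, and has dim_k M_D = h(D) < ∞ for
every simple subcoalgebra D. Fix a weight θ from simple subcoalgebras to ℚ, negative at only
finitely many D, with Σ_D θ(D) h(D) = 0 (a convergent real series) and with θ(D) ≠ 0, h(D) ≠ 0 for
some D; the weight of a k-subspace N of M is the real series Σ_D θ(D) · dim_k (N ∩ M_D). Assume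
moreover that θ(D) ≠ 0 for every simple subcoalgebra D. If M is θ-semistable, i.e. M has weight 0
and every R-submodule of M stable under the coaction has weight ≥ 0, then M is generated as an
R-module by its isotypic components M_D with θ(D) < 0 (the generation property of θ-stable objects
thus extends to θ-semistable ones when θ vanishes nowhere). (Multiplicities are recorded as
dimensions of isotypic components, a rescaling of θ.) -/
theorem result (k : Type u) [Field k] [IsAlgClosed k] [CharZero k]
    (A : Type v) [CommRing A] [IsDomain A] [HopfAlgebra k A] [Algebra.FiniteType k A]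
    (hred : HopfRep.IsLinearlyReductive k A)
    (R : Type w) [CommRing R] [Algebra k R] [IsNoetherianRing R] [HopfRep.Comod k A R] [GLin.IsCoactAlg k A R]
    (M : Type x) [AddCommGroup M] [Module k M] [Module R M] [IsScalarTower k R M]
    [HopfRep.Comod k A M] [TameAct.IsHopfMod k A R M]
    (h : W4c3ghconstell.SimpSub k A → ℕ) (θ : W4c3ghconstell.SimpSub k A → ℚ)
    (hfin : {D | θ D < 0}.Finite) (hsum : HasSum (fun D => (θ D : ℝ) * (h D : ℝ)) 0)
    (hne : ∃ D, θ D ≠ 0 ∧ h D ≠ 0)
    (hM : W4c3ghconstell.IsConstellation k A R M h)
    (hθ : ∀ D, θ D ≠ 0)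
    (hss : W4c3ghconstell.IsThetaSemistable k A R M θ) :
    W4c3ghconstell.genIn k A R M {D | θ D < 0} ⊤ = ⊤ := by
  classical
  have hfd := hM.2.2
  have hs := hsum.summable
  set M' := genIn k A R M {D | θ D < 0} (⊤ : Submodule R M) with hM'
  have htopsub : HopfRep.IsSubcomod (k := k) (A := A) ((⊤ : Submodule R M).restrictScalars k) := by
    rw [Submodule.restrictScalars_top]; exact isSubcomod_top
  have hsub : HopfRep.IsSubcomod (k := k) (A := A) (M'.restrictScalars k) :=
    isSubcomod_genIn _ _ htopsub
  have hnegeq : ∀ D, θ D < 0 → (M'.restrictScalars k ⊓ isoComp M D.1 : Submodule k M) =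
      (⊤ : Submodule k M) ⊓ isoComp M D.1 := by
    intro D hD
    have h1 := genIn_inf_isoComp (R := R) {D | θ D < 0} (⊤ : Submodule R M) (D := D) hD
    rw [← hM', Submodule.restrictScalars_top] at h1
    exact h1
  have hterm := term_le_term (θ := θ) hfd (le_top : M'.restrictScalars k ≤ ⊤) hnegeq
  have hge := hss.2 M' hsub
  have hle : theta M θ (M'.restrictScalars k) ≤ theta M θ (⊤ : Submodule k M) :=
    theta_le_theta hfd hfin hs _ _ hterm
  have htop := theta_top hfd hsum
  have heq : theta M θ (M'.restrictScalars k) = 0 := le_antisymm (htop ▸ hle) hge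
  -- termwise equality
  have hS1 := summable_term hfd hfin hs (M'.restrictScalars k)
  have hS2 := summable_term hfd hfin hs (⊤ : Submodule k M)
  have hdiff : HasSum (fun D => (θ D : ℝ) * (hilbAt M (⊤ : Submodule k M) D : ℝ) -
      (θ D : ℝ) * (hilbAt M (M'.restrictScalars k) D : ℝ)) (0 - 0) := by
    have h2 := hS2.hasSum
    have h1 := hS1.hasSum
    have e1 : (∑' D, (θ D : ℝ) * (hilbAt M (⊤ : Submodule k M) D : ℝ)) = 0 := htop
    have e2 : (∑' D, (θ D : ℝ) * (hilbAt M (M'.restrictScalars k) D : ℝ)) = 0 := heq
    rw [e1] at h2
    rw [e2] at h1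
    exact h2.sub h1
  rw [sub_zero] at hdiff
  have hzero := (hasSum_zero_iff_of_nonneg (fun D => sub_nonneg.2 (hterm D))).1 hdiff
  have hall : ∀ D : SimpSub k A, isoComp M D.1 ≤ M'.restrictScalars k := by
    intro D
    have h1 := congrFun hzero D
    simp only [Pi.zero_apply] at h1
    have h2 : (θ D : ℝ) * ((hilbAt M (⊤ : Submodule k M) D : ℝ) -
        (hilbAt M (M'.restrictScalars k) D : ℝ)) = 0 := by rw [mul_sub]; exact h1
    have h3 : (θ D : ℝ) ≠ 0 := by exact_mod_cast hθ D
    have h4 : (hilbAt M (⊤ : Submodule k M) D : ℝ) = (hilbAt M (M'.restrictScalars k) D : ℝ) := by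
      have := (mul_eq_zero.1 h2).resolve_left h3
      linarith
    have h5 : hilbAt M (M'.restrictScalars k) D = h D := by
      have : hilbAt M (⊤ : Submodule k M) D = hilbAt M (M'.restrictScalars k) D := by exact_mod_cast h4
      rw [← this, hilbAt_top hfd]
    haveI := (hfd D).1
    have h6 : (M'.restrictScalars k ⊓ isoComp M D.1 : Submodule k M) = isoComp M D.1 := by
      apply Submodule.eq_of_le_of_finrank_eq inf_le_right
      rw [(hfd D).2]
      exact h5
    rw [← h6]
    exact inf_le_left
  have htop' : (⊤ : Submodule k M) ≤ M'.restrictScalars k := by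
    rw [← hM.2.1]
    exact iSup_le hall
  rw [eq_top_iff]
  intro x _
  exact htop' (Submodule.mem_top : x ∈ (⊤ : Submodule k M))

end Groth.Agent.S16018
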