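import Groth.Statements.S16031
import Groth.Agent.Lib.Helper1.FP20

set_option autoImplicit false
universe u
open CategoryTheory CategoryTheory.Limits AlgebraicGeometry
open FlatMor Groth.Agent.Lib.Helper1.FP

namespace Groth.Agent.S16031

/-- Let θ₁ : Y ⟶ X₁ and θ₂ : Y ⟶ X₂ be closed immersions of schemes and let X, with φ₁ : X₁ ⟶ X and φ₂ :
X₂ ⟶ X, be their pushout in the category of schemes. If a finite set E of points of X has each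
preimage φᵢ⁻¹(E) contained in an affine open of Xᵢ, then E is contained in an affine open of X. -/
theorem result
    {Y X₁ X₂ X : Scheme.{u}} (θ₁ : Y ⟶ X₁) (θ₂ : Y ⟶ X₂) [IsClosedImmersion θ₁] [IsClosedImmersion θ₂]
    (φ₁ : X₁ ⟶ X) (φ₂ : X₂ ⟶ X) (hX : IsPushout θ₁ θ₂ φ₁ φ₂)
    (E : Set ↥X) (hE : E.Finite)
    (h₁ : ∃ U₁ : X₁.Opens, IsAffineOpen U₁ ∧ φ₁ ⁻¹' E ⊆ (U₁ : Set ↥X₁))
    (h₂ : ∃ U₂ : X₂.Opens, IsAffineOpen U₂ ∧ φ₂ ⁻¹' E ⊆ (U₂ : Set ↥X₂)) :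
    ∃ U : X.Opens, IsAffineOpen U ∧ E ⊆ (U : Set ↥X) := by
  haveI : IsClosedImmersion θ₁ := ‹_›
  have hc : Covering θ₁ θ₂ := covering_of_closedImmersions θ₁ θ₂
  let e : P θ₁ θ₂ ≅ X := (isPushout_toP hc).isoIsPushout _ _ hX
  have e1 : toP₁ hc ≫ e.hom = φ₁ := (isPushout_toP hc).inl_isoIsPushout_hom _ _ hX
  have e2 : toP₂ hc ≫ e.hom = φ₂ := (isPushout_toP hc).inr_isoIsPushout_hom _ _ hX
  haveI : IsClosedImmersion (toP₁ hc) := isClosedImmersion_toP₁ hc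
  haveI : IsClosedImmersion (toP₂ hc) := isClosedImmersion_toP₂ hc
  haveI : IsClosedImmersion φ₁ := by rw [← e1]; infer_instance
  haveI : IsClosedImmersion φ₂ := by rw [← e2]; infer_instance
  obtain ⟨U₁, hU₁, hEU₁⟩ := h₁
  obtain ⟨U₂, hU₂, hEU₂⟩ := h₂
  have hT₁ : (φ₁ ⁻¹' E).Finite := hE.preimage φ₁.isClosedEmbedding.injective.injOn
  have hT₂ : (φ₂ ⁻¹' E).Finite := hE.preimage φ₂.isClosedEmbedding.injective.injOn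
  have hT : θ₁ ⁻¹' (φ₁ ⁻¹' E) = θ₂ ⁻¹' (φ₂ ⁻¹' E) := by
    ext z
    have hw : φ₁ (θ₁ z) = φ₂ (θ₂ z) := by
      rw [← Scheme.Hom.comp_apply, ← Scheme.Hom.comp_apply, hX.w]
    simp only [Set.mem_preimage, hw]
  obtain ⟨α, hα₁, hα₂⟩ := exists_chart_of_finite θ₁ θ₂ _ _ hT₁ hT₂ hT U₁ hU₁ hEU₁ U₂ hU₂ hEU₂
  refine ⟨(ι θ₁ θ₂ α ≫ e.hom).opensRange, isAffineOpen_opensRange _, ?_⟩
  intro p hp
  rcases jointly_surjective_of_isPushout hc φ₁ φ₂ hX p with ⟨x, rfl⟩ | ⟨y, rfl⟩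
  · have hx : x ∈ α.U := hα₁ hp
    refine ⟨α.a ⟨x, hx⟩, ?_⟩
    rw [Scheme.Hom.comp_apply, ← toP₁_apply hc α ⟨x, hx⟩, ← Scheme.Hom.comp_apply, e1]
  · have hy : y ∈ α.V := hα₂ hp
    refine ⟨α.b ⟨y, hy⟩, ?_⟩
    rw [Scheme.Hom.comp_apply, ← toP₂_apply hc α ⟨y, hy⟩, ← Scheme.Hom.comp_apply, e2]

end Groth.Agent.S16031
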