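import Groth.Statements.S16045
import Groth.Agent.Lib.Helper1.FPB7

set_option autoImplicit false
universe u
open CategoryTheory CategoryTheory.Limits AlgebraicGeometry
open FlatMor

namespace Groth.Agent.S16045

/-- Let θ₁ : Y ⟶ X₁ and θ₂ : Y ⟶ X₂ be closed immersions of schemes over S and X their pushout in
schemes over S. For a flat morphism g : S' ⟶ S, the square obtained by base change along g is a
pushout in schemes over S': pinching along a closed subscheme commutes with flat base change. -/
theorem result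
    {S S' : Scheme.{u}} (g : S' ⟶ S) [Flat g]
    {Y X₁ X₂ X : Over S} (θ₁ : Y ⟶ X₁) (θ₂ : Y ⟶ X₂) [IsClosedImmersion θ₁.left] [IsClosedImmersion θ₂.left]
    (φ₁ : X₁ ⟶ X) (φ₂ : X₂ ⟶ X) (hX : IsPushout θ₁ θ₂ φ₁ φ₂) :
    IsPushout ((Over.pullback g).map θ₁) ((Over.pullback g).map θ₂)
      ((Over.pullback g).map φ₁) ((Over.pullback g).map φ₂) := by
  haveI : IsClosedImmersion θ₁.left := ‹_›
  haveI : IsClosedImmersion θ₂.left := ‹_›
  exact Groth.Agent.Lib.Helper1.FP.BC.isPushout_over_of_flat g θ₁ θ₂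
    (Groth.Agent.Lib.Helper1.FP.covering_of_closedImmersions θ₁.left θ₂.left) φ₁ φ₂ hX

end Groth.Agent.S16045
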