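import Groth.Statements.S16048
import Groth.Agent.Lib.Helper1.ArtFunTangentSurj
import Groth.Agent.Lib.Helper1.ArtFunMinVersal

set_option autoImplicit false
universe u v
open CategoryTheory
open ArtFun

namespace Groth.Agent.S16048

open Groth.Agent.Lib.Helper1.ArtFunLib ArtFun.Art

/-- Let Λ be a complete local Noetherian ring with residue field k and F a functor on Artinian local
Λ-algebras with residue field k which admits a hull. A family ξ of F over a complete local
Noetherian Λ-algebra R with residue field k such that R is isomorphic over Λ to a power series ring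
Λ[[t_1, …, t_n]] and the induced map on tangent spaces h_R(k[ε]) → F(k[ε]) is bijective is
miniversal. (The source states this for the deformation functor of a rational double point over the
Witt vectors of an algebraically closed field, with the Kodaira–Spencer map as the tangent map and
the existence of a hull taken from Schlessinger's criteria; the argument uses only the existence of
a hull, so the hull is carried as a hypothesis and Λ is any complete local Noetherian ring with
residue field k.) -/
theorem result {Λ : Type u} {k : Type u}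
    [CommRing Λ] [Field k] [Algebra Λ k] [IsNoetherianRing Λ] [Module.Finite Λ k]
    [IsLocalRing Λ] [IsAdicComplete (IsLocalRing.maximalIdeal Λ) Λ]
    (hk : Function.Surjective (algebraMap Λ k))
    {F : ArtFun.Art Λ k ⥤ Type v} (hF : ArtFun.HasHull F)
    (R : ArtFun.CRing Λ k) (n : ℕ) (e : R.carrier ≃ₐ[Λ] MvPowerSeries (Fin n) Λ)
    (ξ : ArtFun.Family R.carrier R.res F)
    (hξ : Function.Bijective (ArtFun.TangentSpace.ofFamily ξ)) :
    ArtFun.IsMiniversal ξ := by
  classical
  obtain ⟨P⟩ := hF
  have hmini : ArtFun.IsMiniversal P.family := P.miniversal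
  have h0 : ArtFun.H0 F := h0_of_isMiniversal P.family hmini
  -- the comparison map g : H → R
  obtain ⟨g, hg, hgη⟩ := exists_along_toFormalElt_eq_of_h0 h0 P.family hmini.1 R ξ.toFormalElt
  have happ : ∀ {A : ArtFun.Art Λ k} (φ : ArtFun.HomSet R.carrier R.res A),
      (P.family.along g hg).app A φ = ξ.app A φ := fun φ =>
    family_app_eq_of_toFormalElt_eq hgη φ
  -- injectivity of `· ∘ g` on tangent spaces
  have hginj : ∀ u₁ u₂ : ArtFun.HomSet R.carrier R.res (ArtFun.Art.dual Λ k),
      u₁.1.comp g = u₂.1.comp g → u₁ = u₂ := by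
    intro u₁ u₂ h
    apply hξ.1
    change ξ.app _ u₁ = ξ.app _ u₂
    rw [← happ u₁, ← happ u₂]
    change P.family.app _ ⟨u₁.1.comp g, _⟩ = P.family.app _ ⟨u₂.1.comp g, _⟩
    congr 1
    exact Subtype.ext h
  have hgs : Function.Surjective g := surjective_of_tangent_comp_injective g hg hginj
  have htan : ∀ u : ArtFun.HomSet P.ring.carrier P.ring.res (ArtFun.Art.dual Λ k),
      ∃ φ : ArtFun.HomSet R.carrier R.res (ArtFun.Art.dual Λ k), φ.1.comp g = u.1 := by
    intro u
    obtain ⟨φ, hφ⟩ := hξ.2 (P.family.app _ u)
    refine ⟨φ, ?_⟩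
    have h1 : P.family.app _ ⟨φ.1.comp g, by rw [← AlgHom.comp_assoc, φ.2, hg]⟩ = P.family.app _ u := by
      have := happ φ
      change P.family.app _ ⟨φ.1.comp g, _⟩ = ξ.app _ φ at this
      rw [this]; exact hφ
    exact congrArg Subtype.val (hmini.2.1 h1)
  -- the power series ring over Λ
  let L : ArtFun.CRing Λ k := baseCRing (Λ := Λ) (k := k) hk
  let uR : L.carrier →ₐ[Λ] R.carrier := Algebra.ofId Λ R.carrier
  have huR : R.res.comp uR = L.res := algHom_self_ext _ _
  let uH : L.carrier →ₐ[Λ] P.ring.carrier := Algebra.ofId Λ P.ring.carrier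
  have huH : P.ring.res.comp uH = L.res := algHom_self_ext _ _
  let e' : R.carrier ≃ₐ[Λ] MvPowerSeries (Fin n) L.carrier := e
  have heC : ∀ r : L.carrier, e' (uR r) = (MvPowerSeries.C r : MvPowerSeries (Fin n) L.carrier) := by
    intro r
    change e (algebraMap Λ R.carrier r) = MvPowerSeries.C r
    rw [AlgEquiv.commutes, MvPowerSeries.algebraMap_apply, Algebra.algebraMap_self, RingHom.id_apply]
    rfl
  have hvres : R.res.comp (e'.symm : MvPowerSeries (Fin n) L.carrier →ₐ[Λ] R.carrier) = (psCRing L n).res :=
    psCRing_res_comp_of_algEquiv uR huR n e' heC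
  have hgb : Function.Bijective g :=
    bijective_of_surjective_of_tangent_surjective (L := L) (n := n) g hg hgs uH huH
      (e'.symm : MvPowerSeries (Fin n) L.carrier →ₐ[Λ] R.carrier) hvres e'.symm.bijective
      (by
        intro r
        change e'.symm (MvPowerSeries.C r : MvPowerSeries (Fin n) L.carrier) = g (uH r)
        rw [← heC r, AlgEquiv.symm_apply_apply]
        exact congrArg (fun χ : Λ →ₐ[Λ] R.carrier => χ r) (algHom_self_ext uR (g.comp uH)))
      htan
  exact ⟨isVersal_of_along_bijective P.family hmini.1 g hg hgb ξ happ, hξ⟩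

end Groth.Agent.S16048
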