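import Groth.Statements.S16058
import Mathlib
import Groth.Agent.Lib.Helper11.FiltReesO

set_option autoImplicit false
universe u
open FiltBl

namespace Groth.Agent.S16058

/-- Let A be a Noetherian local ring that is a quotient of a Gorenstein ring, and F a filtration of
ideals on A (F^0 = A ⊇ F^1 ⊇ ⋯, F^i F^j ⊆ F^{i+j}) with every F^n nonzero and ⋂ F^n = 0, whose Rees
algebra R = ⊕_{n ≥ 0} F^n T^n ⊆ A[T] is finitely generated over A and with F^1 of height at least 2.
If the extended Rees algebra R' = ⊕_{n ∈ ℤ} F^n T^n ⊆ A[T, T⁻¹] (F^n = A for n < 0) satisfies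
Serre's condition (S_2), then R satisfies (S_2) as well. (The converse fails. The published
statement is made under the further standing assumption that no nonzero element of R is annihilated
by a power of the ideal generated by its homogeneous elements of positive degree; under the present
hypothesis that assumption holds automatically, since (S_2) for R' forces (S_2) for A, so that F^1,
of height at least 2, contains a nonzerodivisor of A.) -/
theorem result (A : Type u) [CommRing A] [IsNoetherianRing A] [IsLocalRing A]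
    (S : Type u) [CommRing S] [LocCoh.IsGorensteinRing S] (π : S →+* A) (hπ : Function.Surjective π)
    (𝓕 : FiltBl.IdealFiltration A) (hne : ∀ n, 𝓕.F n ≠ ⊥) (hsep : ⨅ n, 𝓕.F n = ⊥)
    (hfg : Algebra.FiniteType A 𝓕.rees) (hht : 2 ≤ (𝓕.F 1).height)
    (h : LocCoh.HasSk 2 𝓕.extRees 𝓕.extRees) : LocCoh.HasSk 2 𝓕.rees 𝓕.rees := by
  classical
  open Groth.Agent.Lib.Helper11.FiltRees in
  haveI : IsNoetherianRing 𝓕.extRees := isNoetherianRing_extRees 𝓕 hfg
  haveI : IsNoetherianRing 𝓕.rees := Algebra.FiniteType.isNoetherianRing A 𝓕.rees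
  have hA : LocCoh.HasSk 2 A A := ((Groth.Agent.Lib.Helper11.FiltRees.s2_iff 𝓕 hfg).mp h).2
  rw [Groth.Agent.Lib.Helper18.Serre.hasSk_self_iff] at h hA ⊢
  simp only [Groth.Agent.Lib.Helper11.FiltRees.sk_iff] at h hA ⊢
  intro P hP
  by_cases hirr : Groth.Agent.Lib.Helper11.FiltRees.irr 𝓕 ≤ P
  · haveI hpp : (P.comap (algebraMap A 𝓕.rees)).IsPrime := Ideal.comap_isPrime _ _
    by_cases hp : (P.comap (algebraMap A 𝓕.rees)).height = 0
    · have hF : ¬ 𝓕.F 1 ≤ P.comap (algebraMap A 𝓕.rees) := by
        intro hle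
        have := hht.trans (Ideal.height_mono hle)
        rw [hp] at this
        norm_num at this
      obtain ⟨s, hs, hsp⟩ := SetLike.not_le_iff_exists.mp hF
      obtain ⟨x, hx1, hx⟩ := Groth.Agent.Lib.Helper11.FiltRees.exists_regular_of_height hA (𝓕.F 1)
        (le_trans (by norm_num) hht)
      obtain ⟨h1, h2⟩ := Groth.Agent.Lib.Helper11.FiltRees.case2 𝓕 P hirr hp s hs hsp x hx1 hx
      exact (min_le_right _ _).trans (h1.trans h2)
    · obtain ⟨x, hxp, hx⟩ := Groth.Agent.Lib.Helper11.FiltRees.exists_regular_of_height hA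
        (P.comap (algebraMap A 𝓕.rees)) (Order.one_le_iff_pos.mpr (pos_iff_ne_zero.mpr hp))
      exact (min_le_left _ _).trans
        (Groth.Agent.Lib.Helper11.FiltRees.case3 𝓕 hht h P hirr hp x hxp hx)
  · obtain ⟨Q, hQ, h1, h2⟩ := Groth.Agent.Lib.Helper11.FiltRees.case1 𝓕 P hirr
    rw [← h1, ← h2]
    exact h Q

end Groth.Agent.S16058
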