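import Groth.Statements.S1607
import Groth.Agent.Lib.Helper5.DimOneScheme
import Groth.Agent.Lib.Helper29.QCohAss

set_option autoImplicit false
universe u
open CategoryTheory CategoryTheory.Limits AlgebraicGeometry
open Variety

namespace Groth.Agent.S1607

/-- If X is affine and each of its local rings is Noetherian of dimension at most one, then every
quasi-compact open subscheme of X is affine. -/
theorem result (X : Scheme.{u}) [IsAffine X]
    (hX : ∀ x : X, IsNoetherianRing (X.presheaf.stalk x) ∧ ringKrullDim (X.presheaf.stalk x) ≤ 1)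
    (U : X.Opens) (hU : IsCompact (U : Set X)) : IsAffineOpen U := by
  have hX₀ : IsAffineOpen (⊤ : X.Opens) := isAffineOpen_top X
  have hc : IsCompact (hX₀.fromSpec ⁻¹' (U : Set X)) := by
    refine hX₀.fromSpec.isOpenEmbedding.isInducing.isCompact_preimage' hU ?_
    rw [hX₀.range_fromSpec]
    exact Set.subset_univ _
  have key : ∀ x : X, ∃ s g : Γ(X, ⊤), x ∈ X.basicOpen s ∧
      U ⊓ X.basicOpen s = X.basicOpen (g * s) := by
    intro x
    haveI := (hX x).1
    exact Groth.Agent.Lib.Helper5.DimOneScheme.exists_basicOpen_principal hX₀ U hc x trivial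
      (hX x).2
  choose σ γ hσ hγ using key
  have hspan : Ideal.span (Set.range σ) = ⊤ := by
    by_contra hne
    obtain ⟨m, hm, hle⟩ := Ideal.exists_le_maximal _ hne
    obtain ⟨y, hy, hym⟩ := Groth.Agent.Lib.Helper29.QCoh.exists_point_of_prime' hX₀
      (⟨m, hm.isPrime⟩ : PrimeSpectrum Γ(X, ⊤))
    have h1 := (Groth.Agent.Lib.Helper29.QCoh.mem_basicOpen_iff_notMem_primeIdealOf hX₀ y hy
      (σ y)).1 (hσ y)
    rw [hym] at h1
    exact h1 (hle (Ideal.subset_span ⟨y, rfl⟩))
  refine isAffineOpen_of_isAffineOpen_basicOpen U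
    ((X.presheaf.map (homOfLE (le_top : U ≤ ⊤)).op).hom '' Set.range σ) ?_ ?_
  · rw [← Ideal.map_span, hspan, Ideal.map_top]
  · rintro _ ⟨_, ⟨x, rfl⟩, rfl⟩
    have hb : X.basicOpen ((X.presheaf.map (homOfLE (le_top : U ≤ ⊤)).op).hom (σ x)) =
        U ⊓ X.basicOpen (σ x) := Scheme.basicOpen_res X (σ x) (homOfLE (le_top : U ≤ ⊤)).op
    rw [hb, hγ x]
    exact hX₀.basicOpen _

end Groth.Agent.S1607
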