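import Groth.Statements.S16071
import Mathlib

set_option autoImplicit false
universe u
open CartDual

namespace Groth.Agent.S16071

section helpers
open TensorProduct Polynomial
variable (p : ℕ) [hp : Fact p.Prime] (R : Type u) [CommRing R] [CharP R p]

noncomputable instance : CommRing (CartDual.D R (AlphaP.A p R)) := inferInstance

theorem nontriv (p : ℕ) [hp : Fact p.Prime] (R : Type u) [CommRing R] [CharP R p] : Nontrivial R :=
  CharP.nontrivial_of_char_ne_one (R := R) hp.out.ne_one

/-- linear ext on powers of x -/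
theorem lin_ext {M : Type*} [AddCommMonoid M] [Module R M] {f g : AlphaP.A p R →ₗ[R] M}
    (h : ∀ i : ℕ, i < p → f (AlphaP.x p R ^ i) = g (AlphaP.x p R ^ i)) : f = g := by
  haveI := nontriv p R
  apply (AlphaP.basis p R).ext
  intro i
  rw [AlphaP.basis_apply]
  exact h i i.isLt

theorem counit_x_pow (m : ℕ) :
    Coalgebra.counit (R := R) (AlphaP.x p R ^ m) = if m = 0 then 1 else 0 := by
  have : Coalgebra.counit (R := R) (AlphaP.x p R ^ m) = (AlphaP.counitAlg p R) (AlphaP.x p R ^ m) := rfl
  rw [this, map_pow, AlphaP.counitAlg_x]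
  split_ifs with h
  · subst h; simp
  · exact zero_pow h

/-- the linear form dual to x -/
noncomputable def ξ : CartDual.D R (AlphaP.A p R) :=
  haveI := nontriv p R
  WithConv.toConv ((AlphaP.basis p R).coord ⟨1, hp.out.one_lt⟩)

theorem ξ_x_pow (m : ℕ) : ξ p R (AlphaP.x p R ^ m) = if m = 1 then 1 else 0 := by
  haveI := nontriv p R
  by_cases hm : m < p
  · have : AlphaP.x p R ^ m = AlphaP.basis p R ⟨m, hm⟩ := by rw [AlphaP.basis_apply]
    rw [this]
    change (AlphaP.basis p R).coord ⟨1, hp.out.one_lt⟩ (AlphaP.basis p R ⟨m, hm⟩) = _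
    rw [Module.Basis.coord_apply, Module.Basis.repr_self, Finsupp.single_apply]
    simp only [Fin.mk.injEq]
  · push Not at hm
    rw [AlphaP.x_pow_of_le p R hm, map_zero]
    have := hp.out.one_lt
    rw [if_neg (by omega)]



theorem comul_x_pow (m : ℕ) : Coalgebra.comul (R := R) (AlphaP.x p R ^ m) =
    ∑ j ∈ Finset.range (m + 1), (m.choose j : R) • ((AlphaP.x p R ^ j) ⊗ₜ[R] (AlphaP.x p R ^ (m - j))) := by
  have h1 : Coalgebra.comul (R := R) (AlphaP.x p R ^ m) =
      (Bialgebra.comulAlgHom R (AlphaP.A p R)) (AlphaP.x p R ^ m) := rfl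
  rw [h1, map_pow]
  have h2 : (Bialgebra.comulAlgHom R (AlphaP.A p R)) (AlphaP.x p R) =
      AlphaP.x p R ⊗ₜ[R] 1 + 1 ⊗ₜ[R] AlphaP.x p R := AlphaP.comul_x p R
  rw [h2, add_pow]
  refine Finset.sum_congr rfl fun j _ => ?_
  rw [Algebra.TensorProduct.tmul_pow, Algebra.TensorProduct.tmul_pow, one_pow, one_pow,
    Algebra.TensorProduct.tmul_mul_tmul, mul_one, one_mul, mul_comm, ← nsmul_eq_mul, Nat.cast_smul_eq_nsmul]

theorem conv_mul_x_pow (y z : CartDual.D R (AlphaP.A p R)) (m : ℕ) :
    (y * z) (AlphaP.x p R ^ m) =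
      ∑ j ∈ Finset.range (m + 1), (m.choose j : R) * (y (AlphaP.x p R ^ j) * z (AlphaP.x p R ^ (m - j))) := by
  rw [CartDual.coe_apply, LinearMap.convMul_apply, comul_x_pow, map_sum, map_sum]
  refine Finset.sum_congr rfl fun j _ => ?_
  rw [map_smul, map_smul, TensorProduct.map_tmul, LinearMap.mul'_apply, smul_eq_mul]

theorem mul_ξ_x_pow (y : CartDual.D R (AlphaP.A p R)) (m : ℕ) :
    (y * ξ p R) (AlphaP.x p R ^ m) = (m : R) * y (AlphaP.x p R ^ (m - 1)) := by
  rw [conv_mul_x_pow]
  simp_rw [ξ_x_pow]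
  rcases Nat.eq_zero_or_pos m with hm | hm
  · subst hm
    simp
  · rw [Finset.sum_eq_single (m - 1)]
    · have : m - (m - 1) = 1 := by omega
      rw [if_pos this, mul_one]
      congr 1
      have : m.choose (m - 1) = m := by
        rw [Nat.choose_symm (by omega : 1 ≤ m), Nat.choose_one_right]
      rw [this]
    · intro j hj hne
      rw [Finset.mem_range] at hj
      rw [if_neg (by omega), mul_zero, mul_zero]
    · intro h
      rw [Finset.mem_range] at h
      omega

theorem ξ_pow_x_pow (n m : ℕ) :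
    (ξ p R ^ n) (AlphaP.x p R ^ m) = if m = n then (n.factorial : R) else 0 := by
  induction n generalizing m with
  | zero =>
    rw [pow_zero]
    have : (1 : CartDual.D R (AlphaP.A p R)) (AlphaP.x p R ^ m) =
        Coalgebra.counit (R := R) (AlphaP.x p R ^ m) := by
      rw [CartDual.coe_apply, LinearMap.convOne_apply]
      rfl
    rw [this, counit_x_pow]
    simp
  | succ n ih =>
    rw [pow_succ, mul_ξ_x_pow, ih]
    rcases Nat.eq_zero_or_pos m with hm | hm
    · subst hm
      simp
    · by_cases h : m = n + 1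
      · subst h
        rw [if_pos (by omega), if_pos rfl, Nat.factorial_succ]
        push_cast
        ring
      · rw [if_neg (by omega), if_neg h, mul_zero]



theorem D_ext {y z : CartDual.D R (AlphaP.A p R)}
    (h : ∀ i : ℕ, i < p → y (AlphaP.x p R ^ i) = z (AlphaP.x p R ^ i)) : y = z := by
  apply WithConv.ext
  exact lin_ext p R h

theorem ξ_pow_p : ξ p R ^ p = 0 := by
  apply D_ext
  intro i hi
  rw [ξ_pow_x_pow, if_neg (by omega)]
  rfl

noncomputable def Φa : AlphaP.A p R →ₐ[R] CartDual.D R (AlphaP.A p R) :=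
  AlphaP.lift p R (ξ p R) (ξ_pow_p p R)

theorem Φa_x : Φa p R (AlphaP.x p R) = ξ p R := AlphaP.lift_x _ _

theorem Φa_x_pow (n : ℕ) : Φa p R (AlphaP.x p R ^ n) = ξ p R ^ n := by
  rw [map_pow, Φa_x]

theorem one_x_pow (m : ℕ) : (1 : CartDual.D R (AlphaP.A p R)) (AlphaP.x p R ^ m) = if m = 0 then 1 else 0 := by
  have := ξ_pow_x_pow p R 0 m
  rw [pow_zero] at this
  rw [this]
  simp

theorem comul_ξ : Coalgebra.comul (R := R) (ξ p R) = ξ p R ⊗ₜ[R] 1 + 1 ⊗ₜ[R] ξ p R := by
  apply (CartDual.ev₂ R (AlphaP.A p R)).injective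
  apply TensorProduct.ext
  apply lin_ext p R
  intro i _
  apply lin_ext p R
  intro j _
  simp only [LinearMap.compr₂ₛₗ_apply, TensorProduct.mk_apply, map_add, LinearMap.add_apply]
  rw [CartDual.ev₂_coalgebra_comul_tmul, CartDual.ev₂_tmul, CartDual.ev₂_tmul, ← pow_add, ξ_x_pow, ξ_x_pow,
    ξ_x_pow, one_x_pow, one_x_pow]
  by_cases hi : i = 0
  · subst hi
    by_cases hj : j = 1
    · subst hj; simp
    · simp [hj]
  · by_cases hj : j = 0
    · subst hj
      simp
    · have : ¬ (i + j = 1) := by omega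
      simp [hi, hj, this]

noncomputable def Φ : AlphaP.A p R →ₐc[R] CartDual.D R (AlphaP.A p R) :=
  BialgHom.ofAlgHom (Φa p R)
    (by
      apply AlphaP.algHom_ext
      change Coalgebra.counit (R := R) (Φa p R (AlphaP.x p R)) = Coalgebra.counit (R := R) (AlphaP.x p R)
      rw [Φa_x, CartDual.coalgebra_counit_apply, AlphaP.counit_x]
      have := ξ_x_pow p R 0
      rw [pow_zero] at this
      rw [this]
      simp)
    (by
      apply AlphaP.algHom_ext
      change Algebra.TensorProduct.map (Φa p R) (Φa p R) (Coalgebra.comul (R := R) (AlphaP.x p R)) =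
        Coalgebra.comul (R := R) (Φa p R (AlphaP.x p R))
      rw [Φa_x, comul_ξ, AlphaP.comul_x, map_add, Algebra.TensorProduct.map_tmul, Algebra.TensorProduct.map_tmul,
        Φa_x, map_one])



theorem ξ_pow_x_pow' (n m : ℕ) :
    (ξ p R ^ n).ofConv (AlphaP.x p R ^ m) = if m = n then (n.factorial : R) else 0 := ξ_pow_x_pow p R n m

theorem isUnit_factorial (n : ℕ) (hn : n < p) : IsUnit ((n.factorial : ℕ) : R) := by
  have h0 : ((n.factorial : ℕ) : ZMod p) ≠ 0 := by
    rw [Ne, ZMod.natCast_eq_zero_iff, hp.out.dvd_factorial]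
    omega
  have h1 : IsUnit ((n.factorial : ℕ) : ZMod p) := IsUnit.mk0 _ h0
  have := h1.map (ZMod.castHom (dvd_refl p) R)
  rwa [map_natCast] at this

theorem Φ_bijective : Function.Bijective (Φ p R) := by
  have hnt := nontriv p R
  constructor
  · rw [injective_iff_map_eq_zero]
    intro a ha
    have ha' : Φa p R a = 0 := ha
    have hrepr := (AlphaP.basis p R).sum_repr a
    have hk : ∀ k : Fin p, (AlphaP.basis p R).repr a k = 0 := by
      intro k
      have h1 : (Φa p R a) (AlphaP.x p R ^ (k : ℕ)) = 0 := by rw [ha']; rfl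
      rw [← hrepr, map_sum] at h1
      simp_rw [map_smul, AlphaP.basis_apply, Φa_x_pow] at h1
      rw [CartDual.coe_apply, WithConv.ofConv_sum, LinearMap.sum_apply] at h1
      simp_rw [WithConv.ofConv_smul, LinearMap.smul_apply, ξ_pow_x_pow'] at h1
      rw [Finset.sum_eq_single k] at h1
      · rw [if_pos rfl, smul_eq_mul] at h1
        exact (isUnit_factorial p R k k.isLt).mul_left_eq_zero.mp h1
      · intro j _ hj
        rw [if_neg, smul_zero]
        intro h
        exact hj (Fin.ext h.symm)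
      · intro h; exact absurd (Finset.mem_univ k) h
    rw [← hrepr]
    simp [hk]
  · intro y
    refine ⟨∑ m : Fin p, (y (AlphaP.x p R ^ (m : ℕ)) * ((isUnit_factorial p R m m.isLt).unit⁻¹ : Rˣ)) •
      AlphaP.x p R ^ (m : ℕ), ?_⟩
    change Φa p R _ = y
    apply D_ext
    intro k hk
    rw [map_sum]
    simp_rw [map_smul, Φa_x_pow]
    rw [CartDual.coe_apply, WithConv.ofConv_sum, LinearMap.sum_apply]
    simp_rw [WithConv.ofConv_smul, LinearMap.smul_apply, ξ_pow_x_pow']
    rw [Finset.sum_eq_single (⟨k, hk⟩ : Fin p)]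
    · rw [if_pos rfl, smul_eq_mul, mul_assoc]
      have : (((isUnit_factorial p R k hk).unit⁻¹ : Rˣ) : R) * ((k.factorial : ℕ) : R) = 1 := by
        exact IsUnit.val_inv_mul (isUnit_factorial p R k hk)
      rw [this, mul_one]
    · intro j _ hj
      rw [if_neg, smul_zero]
      intro h
      exact hj (Fin.ext h.symm)
    · intro h; exact absurd (Finset.mem_univ _) h

theorem main : ∃ e : CartDual.D R (AlphaP.A p R) ≃ₐc[R] AlphaP.A p R,
      ∀ i : ℕ, i < p → (e.symm (AlphaP.x p R)) (AlphaP.x p R ^ i) = if i = 1 then 1 else 0 := by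
  refine ⟨(BialgEquiv.ofBijective (Φ p R) (Φ_bijective p R)).symm, ?_⟩
  intro i _
  have : (BialgEquiv.ofBijective (Φ p R) (Φ_bijective p R)).symm.symm (AlphaP.x p R) = ξ p R := Φa_x p R
  rw [this, ξ_x_pow]


end helpers

/-- Let p be a prime, R a commutative ring of characteristic p and A = R[X]/(X^p) the Hopf algebra of
α_p over Spec R, with X primitive. Then the Cartier dual of α_p is again α_p: there is a bialgebra
isomorphism e from the dual Hopf algebra Hom_R(A, R), with the transposed structure maps, to A,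
whose inverse sends X to the linear form dual to X with respect to the basis 1, X, …, X^{p-1} of A
(so e⁻¹(X) takes the value 1 on X and 0 on the other powers X^i, i < p). (Any commutative base ring
of characteristic p is allowed.) -/
theorem result (p : ℕ) [Fact p.Prime] (R : Type u) [CommRing R] [CharP R p] :
    ∃ e : CartDual.D R (AlphaP.A p R) ≃ₐc[R] AlphaP.A p R,
      ∀ i : ℕ, i < p → (e.symm (AlphaP.x p R)) (AlphaP.x p R ^ i) = if i = 1 then 1 else 0 := by
  exact main p R

end Groth.Agent.S16071
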