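import Groth.Statements.S16074
import Mathlib

set_option autoImplicit false
universe u
open Hopf

namespace Groth.Agent.S16074

open TensorProduct in
/-- the coefficient functional -/
noncomputable def ev (R : Type u) [CommRing R] {G : Type} (g : G) : MonoidAlgebra R G →ₗ[R] R :=
  (Finsupp.lapply g).comp (MonoidAlgebra.coeffLinearEquiv R).toLinearMap

theorem ev_single (R : Type u) [CommRing R] {G : Type} [DecidableEq G] (g h : G) (r : R) :
    ev R g (MonoidAlgebra.single h r) = if h = g then r else 0 := by
  simp [ev, MonoidAlgebra.coeffLinearEquiv, Finsupp.single_apply]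

open TensorProduct in
/-- `ev g ⊗ ev g` followed by multiplication -/
noncomputable def ev2 (R : Type u) [CommRing R] {G : Type} (g : G) :
    MonoidAlgebra R G ⊗[R] MonoidAlgebra R G →ₗ[R] R :=
  (TensorProduct.lid R R).toLinearMap.comp (TensorProduct.map (ev R g) (ev R g))

open TensorProduct in
theorem ev2_tmul (R : Type u) [CommRing R] {G : Type} (g : G) (a b : MonoidAlgebra R G) :
    ev2 R g (a ⊗ₜ b) = ev R g a * ev R g b := by
  simp [ev2]

open TensorProduct in
theorem ev2_comul (R : Type u) [CommRing R] {G : Type} [Monoid G] (g : G)
    (y : MonoidAlgebra R G) : ev2 R g (Coalgebra.comul (R := R) y) = ev R g y := by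
  classical
  induction y using MonoidAlgebra.induction_linear with
  | zero => simp
  | add a b ha hb => simp only [map_add, ha, hb]
  | single h r =>
    rw [MonoidAlgebra.comul_single, CommSemiring.comul_apply, TensorProduct.map_tmul, ev2_tmul,
      MonoidAlgebra.lsingle_apply, MonoidAlgebra.lsingle_apply, ev_single, ev_single]
    split_ifs <;> simp

open TensorProduct in
/-- A group algebra has no nonzero primitive elements. -/
theorem primitive_eq_zero (R : Type u) [CommRing R] {G : Type} [Monoid G]
    (y : MonoidAlgebra R G)
    (hy : Coalgebra.comul (R := R) y = y ⊗ₜ[R] 1 + 1 ⊗ₜ[R] y) : y = 0 := by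
  classical
  have key : ∀ g : G, ev R g y = 0 := by
    intro g
    have h1 := ev2_comul R g y
    rw [hy, map_add, ev2_tmul, ev2_tmul, MonoidAlgebra.one_def, ev_single] at h1
    by_cases hg : (1 : G) = g
    · rw [if_pos hg] at h1
      linear_combination h1
    · rw [if_neg hg] at h1
      linear_combination -h1
  have : (MonoidAlgebra.coeffLinearEquiv R) y = 0 := by
    ext g
    exact key g
  simpa using this

/-- Let p be a prime and R a commutative ring of characteristic p (p = 0 in R, R nonzero). Then μ_p and
α_p over Spec R are not isomorphic: there is no R-bialgebra isomorphism between the group algebra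
R[ℤ/p] of the cyclic group of order p (group elements group-like) and the Hopf algebra R[X]/(X^p) of
α_p (X primitive), although the underlying R-algebras R[ℤ/p] = R[Y]/(Y^p) and R[X]/(X^p) are
isomorphic. (Any nonzero commutative base ring of characteristic p is allowed. The published
statement allows any ring R with p·R = 0; over the zero ring both Hopf algebras are the zero ring
and hence isomorphic, so R is assumed nonzero here.) -/
theorem result (p : ℕ) [Fact p.Prime] (R : Type u) [CommRing R] [CharP R p] :
    IsEmpty (MonoidAlgebra R (Multiplicative (ZMod p)) ≃ₐc[R] AlphaP.A p R) := by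
  refine ⟨fun e => ?_⟩
  have hnt : Nontrivial R := CharP.nontrivial_of_char_ne_one (R := R) (v := p) (Fact.out : p.Prime).ne_one
  have hx : Coalgebra.comul (R := R) (e.symm (AlphaP.x p R)) =
      e.symm (AlphaP.x p R) ⊗ₜ[R] 1 + 1 ⊗ₜ[R] e.symm (AlphaP.x p R) := by
    have h1 := congrArg (fun f => f (AlphaP.x p R)) (CoalgHomClass.map_comp_comul (R := R) e.symm)
    simp only [LinearMap.coe_comp, Function.comp_apply] at h1
    rw [AlphaP.comul_x, map_add, TensorProduct.map_tmul, TensorProduct.map_tmul] at h1
    have h2 : e.symm (1 : AlphaP.A p R) = 1 := map_one e.symm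
    rw [← h2]
    exact h1.symm
  have h0 := primitive_eq_zero R _ hx
  have hx0 : AlphaP.x p R = 0 := by
    have := congrArg e h0
    simpa using this
  have hb := AlphaP.basis_apply p R ⟨1, (Fact.out : p.Prime).one_lt⟩
  rw [pow_one, hx0] at hb
  exact (AlphaP.basis p R).ne_zero _ hb

end Groth.Agent.S16074
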