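import Groth.Statements.S16072
import Mathlib
import Groth.Agent.S16074

set_option autoImplicit false
universe u
open Hopf

namespace Groth.Agent.S16072

open TensorProduct in
/-- additive functions on a finite group are primitive in the function Hopf algebra -/
theorem comul_of_additive (R : Type u) [CommRing R] (G : Type) [Group G] [Fintype G] [DecidableEq G]
    (f : ConstGrp.F R G) (hf : ∀ a b : G, f (a * b) = f a + f b) :
    Coalgebra.comul (R := R) f = f ⊗ₜ[R] 1 + 1 ⊗ₜ[R] f := by
  rw [ConstGrp.comul_eq_sum]
  simp_rw [hf, add_smul, Finset.sum_add_distrib]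
  congr 1
  · conv_rhs => rw [ConstGrp.eq_sum_smul_e f, ← ConstGrp.sum_e (R := R) (G := G)]
    rw [TensorProduct.sum_tmul]
    refine Finset.sum_congr rfl fun a _ => ?_
    rw [TensorProduct.tmul_sum]
    refine Finset.sum_congr rfl fun b _ => ?_
    rw [TensorProduct.smul_tmul']
  · conv_rhs => rw [ConstGrp.eq_sum_smul_e f, ← ConstGrp.sum_e (R := R) (G := G)]
    rw [TensorProduct.sum_tmul]
    refine Finset.sum_congr rfl fun a _ => ?_
    rw [TensorProduct.tmul_sum]
    refine Finset.sum_congr rfl fun b _ => ?_
    rw [TensorProduct.tmul_smul]

/-- Let p be a prime and R a commutative ring of characteristic p (p = 0 in R, R nonzero). Then the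
constant group scheme ℤ/p and the group scheme μ_p of p-th roots of unity over Spec R are not
isomorphic: there is no R-bialgebra isomorphism between the Hopf algebra Maps(ℤ/p, R) of functions
on the cyclic group of order p and the group algebra R[ℤ/p]. (Any nonzero commutative base ring of
characteristic p is allowed. The published statement allows any ring R with p·R = 0; over the zero
ring both Hopf algebras are the zero ring and hence isomorphic, so R is assumed nonzero here.) -/
theorem result (p : ℕ) [Fact p.Prime] (R : Type u) [CommRing R]
    [CharP R p] :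
    IsEmpty (ConstGrp.F R (Multiplicative (ZMod p)) ≃ₐc[R] MonoidAlgebra R (Multiplicative (ZMod p))) := by
  refine ⟨fun e => ?_⟩
  have hnt : Nontrivial R := CharP.nontrivial_of_char_ne_one (R := R) (v := p) (Fact.out : p.Prime).ne_one
  let f : ConstGrp.F R (Multiplicative (ZMod p)) :=
    fun a => ZMod.castHom (dvd_refl p) R (Multiplicative.toAdd a)
  have hf : ∀ a b : Multiplicative (ZMod p), f (a * b) = f a + f b := by
    intro a b
    simp only [f, toAdd_mul, map_add]
  have hprim := comul_of_additive R (Multiplicative (ZMod p)) f hf
  have hx : Coalgebra.comul (R := R) (e f) = e f ⊗ₜ[R] 1 + 1 ⊗ₜ[R] e f := by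
    have h1 := congrArg (fun g => g f) (CoalgHomClass.map_comp_comul (R := R) e)
    simp only [LinearMap.coe_comp, Function.comp_apply] at h1
    rw [hprim, map_add, TensorProduct.map_tmul, TensorProduct.map_tmul] at h1
    have h2 : e (1 : ConstGrp.F R (Multiplicative (ZMod p))) = 1 := map_one e
    rw [← h2]
    exact h1.symm
  have h0 := Groth.Agent.S16074.primitive_eq_zero R _ hx
  have hf0 : f = 0 := by
    have := congrArg e.symm h0
    simpa using this
  have h1 : f (Multiplicative.ofAdd 1) = 1 := by
    simp [f]
  rw [hf0] at h1
  exact zero_ne_one h1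

end Groth.Agent.S16072
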