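import Groth.Statements.S16073
import Mathlib

set_option autoImplicit false
universe u
open Hopf

namespace Groth.Agent.S16073

section helpers
open Polynomial
variable (p : ℕ) [hp : Fact p.Prime] (R : Type u) [CommRing R] [CharP R p]

/-- In `R[X]/(X^p)` over a ring of characteristic `p`, `a ^ p = ε(a) ^ p`. -/
theorem pow_p_eq (a : AlphaP.A p R) :
    a ^ p = algebraMap R (AlphaP.A p R) ((Coalgebra.counit (R := R) a) ^ p) := by
  have key : ((frobenius (AlphaP.A p R) p).comp (AlphaP.mk p R).toRingHom) =
      (((algebraMap R (AlphaP.A p R)).comp (frobenius R p)).comp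
        (AlphaP.counitAlg p R).toRingHom).comp (AlphaP.mk p R).toRingHom := by
    apply Polynomial.ringHom_ext
    · intro r
      simp only [RingHom.coe_comp, Function.comp_apply, AlgHom.toRingHom_eq_coe, RingHom.coe_coe,
        frobenius_def]
      rw [← Polynomial.algebraMap_eq, AlgHom.commutes, AlgHom.commutes, ← map_pow]
      rfl
    · simp only [RingHom.coe_comp, Function.comp_apply, AlgHom.toRingHom_eq_coe, RingHom.coe_coe,
        frobenius_def]
      rw [AlphaP.mk_X, AlphaP.x_pow, AlphaP.counitAlg_x, zero_pow hp.out.ne_zero, map_zero]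
  obtain ⟨f, rfl⟩ := AlphaP.mk_surjective p R a
  have := RingHom.congr_fun key f
  simp only [RingHom.coe_comp, Function.comp_apply, AlgHom.toRingHom_eq_coe, RingHom.coe_coe,
    frobenius_def] at this
  exact this

theorem main : IsEmpty (ConstGrp.F R (Multiplicative (ZMod p)) ≃ₐc[R] AlphaP.A p R) := by
  refine ⟨fun Φ => ?_⟩
  have : Fact (1 < p) := ⟨hp.out.one_lt⟩
  have : Nontrivial R := CharP.nontrivial_of_char_ne_one (R := R) hp.out.ne_one
  let g : Multiplicative (ZMod p) := Multiplicative.ofAdd 1
  have hg : (1 : Multiplicative (ZMod p)) ≠ g := by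
    intro h
    have : (0 : ZMod p) = 1 := congrArg Multiplicative.toAdd h
    exact zero_ne_one this
  have h1 := pow_p_eq p R (Φ (ConstGrp.e R g))
  rw [CoalgHomClass.counit_comp_apply Φ (ConstGrp.e R g), ConstGrp.counit_apply,
    ConstGrp.e_apply_of_ne hg, zero_pow hp.out.ne_zero, map_zero, ← map_pow] at h1
  have h2 : ConstGrp.e R g ^ p = 0 := Φ.injective (h1.trans (map_zero Φ).symm)
  have h3 := congrArg (fun f : ConstGrp.F R (Multiplicative (ZMod p)) => f g) h2
  have h4 : (ConstGrp.e R g ^ p) g = (ConstGrp.e R g g) ^ p := by
    have : ∀ n : ℕ, ∀ f : ConstGrp.F R (Multiplicative (ZMod p)), (f ^ n) g = (f g) ^ n := by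
      intro n f
      induction n with
      | zero => simp
      | succ n ih => rw [pow_succ, pow_succ, ConstGrp.mul_apply, ih]
    exact this p _
  simp only [ConstGrp.zero_apply] at h3
  rw [h4, ConstGrp.e_apply_self, one_pow] at h3
  exact one_ne_zero h3

end helpers

/-- Let p be a prime and R a commutative ring of characteristic p (p = 0 in R, R nonzero). Then the
constant group scheme ℤ/p and α_p over Spec R are not isomorphic: there is no R-bialgebra
isomorphism between the Hopf algebra Maps(ℤ/p, R) of functions on the cyclic group of order p and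
the Hopf algebra R[X]/(X^p) of α_p (X primitive). (Any nonzero commutative base ring of
characteristic p is allowed. The published statement allows any ring R with p·R = 0; over the zero
ring both Hopf algebras are the zero ring and hence isomorphic, so R is assumed nonzero here.) -/
theorem result (p : ℕ) [Fact p.Prime] (R : Type u) [CommRing R] [CharP R p] :
    IsEmpty (ConstGrp.F R (Multiplicative (ZMod p)) ≃ₐc[R] AlphaP.A p R) := by
  exact main p R

end Groth.Agent.S16073
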