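import Groth.Statements.S16075
import Mathlib
import Groth.Agent.S16071

set_option autoImplicit false
universe u
open Hopf

namespace Groth.Agent.S16075

set_option linter.unusedSectionVars false
open TensorProduct Groth.Agent.S16071

variable (p : ℕ) [hp : Fact p.Prime] (T : Type u) [CommRing T] [CharP T p]

/-- value of a convolution product on a primitive element -/
theorem conv_mul_primitive (u v : CartDual.D T (AlphaP.A p T)) (y : AlphaP.A p T)
    (hy : Coalgebra.comul (R := T) y = y ⊗ₜ[T] 1 + 1 ⊗ₜ[T] y) :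
    (u * v) y = u y * v 1 + u 1 * v y := by
  rw [CartDual.coe_apply, LinearMap.convMul_apply, hy, map_add, map_add, TensorProduct.map_tmul,
    TensorProduct.map_tmul, LinearMap.mul'_apply, LinearMap.mul'_apply]

theorem ξ_one : ξ p T (1 : AlphaP.A p T) = 0 := by
  have := ξ_x_pow p T 0
  rw [pow_zero] at this
  rw [this]; simp

theorem ξ_pow_one (n : ℕ) (hn : 1 ≤ n) : (ξ p T ^ n) (1 : AlphaP.A p T) = 0 := by
  have := ξ_pow_x_pow p T n 0
  rw [pow_zero] at this
  rw [this, if_neg (by omega)]

/-- `ξ^(b+1)` kills primitives for `b ≥ 1`. -/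
theorem ξ_pow_primitive (y : AlphaP.A p T)
    (hy : Coalgebra.comul (R := T) y = y ⊗ₜ[T] 1 + 1 ⊗ₜ[T] y) (b : ℕ) (hb : 1 ≤ b) :
    (ξ p T ^ (b + 1)) y = 0 := by
  rw [pow_succ, conv_mul_primitive p T _ _ y hy, ξ_one, ξ_pow_one p T b hb]
  ring

/-- `ξ^n (y) = n! * c_n` where `c` are the coordinates of `y`. -/
theorem ξ_pow_apply [Nontrivial T] (y : AlphaP.A p T) (n : ℕ) (hn : n < p) :
    (ξ p T ^ n) y = (n.factorial : T) * (AlphaP.basis p T).repr y ⟨n, hn⟩ := by
  conv_lhs => rw [← (AlphaP.basis p T).sum_repr y]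
  rw [CartDual.coe_apply, map_sum]
  simp_rw [map_smul, AlphaP.basis_apply, ξ_pow_x_pow', smul_eq_mul]
  rw [Finset.sum_eq_single ⟨n, hn⟩]
  · rw [if_pos rfl, mul_comm]
  · intro i _ hi
    rw [if_neg (fun h => hi (Fin.ext h)), mul_zero]
  · intro h; exact absurd (Finset.mem_univ _) h

theorem counit_apply [Nontrivial T] (y : AlphaP.A p T) :
    Coalgebra.counit (R := T) y = (AlphaP.basis p T).repr y ⟨0, hp.out.pos⟩ := by
  conv_lhs => rw [← (AlphaP.basis p T).sum_repr y]
  rw [map_sum]
  simp_rw [map_smul, AlphaP.basis_apply, counit_x_pow, smul_eq_mul]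
  rw [Finset.sum_eq_single ⟨0, hp.out.pos⟩]
  · rw [if_pos rfl, mul_one]
  · intro i _ hi
    rw [if_neg (fun h => hi (Fin.ext h)), mul_zero]
  · intro h; exact absurd (Finset.mem_univ _) h

/-- A primitive element with counit zero is a multiple of `x`. -/
theorem primitive_eq_smul (y : AlphaP.A p T)
    (hy : Coalgebra.comul (R := T) y = y ⊗ₜ[T] 1 + 1 ⊗ₜ[T] y)
    (hc : Coalgebra.counit (R := T) y = 0) :
    ∃ c : T, y = c • AlphaP.x p T := by
  have := nontriv p T
  refine ⟨(AlphaP.basis p T).repr y ⟨1, hp.out.one_lt⟩, ?_⟩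
  have hcoef : ∀ i : Fin p, i ≠ ⟨1, hp.out.one_lt⟩ → (AlphaP.basis p T).repr y i = 0 := by
    rintro ⟨i, hi⟩ hne
    rcases Nat.lt_or_ge i 2 with h2 | h2
    · have : i = 0 := by
        rcases Nat.lt_or_ge i 1 with h1 | h1
        · omega
        · exfalso; apply hne; apply Fin.ext; show i = 1; omega
      subst this
      rw [← counit_apply p T y, hc]
    · have h1 := ξ_pow_primitive p T y hy (i - 1) (by omega)
      have hi' : i - 1 + 1 = i := by omega
      rw [hi'] at h1
      rw [ξ_pow_apply p T y i hi] at h1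
      exact (isUnit_factorial p T i hi).mul_right_eq_zero.mp h1
  conv_lhs => rw [← (AlphaP.basis p T).sum_repr y]
  rw [Finset.sum_eq_single ⟨1, hp.out.one_lt⟩]
  · rw [AlphaP.basis_apply]; simp
  · intro i _ hi
    rw [hcoef i hi, zero_smul]
  · intro h; exact absurd (Finset.mem_univ _) h

theorem smul_x_pow (c : T) : (c • AlphaP.x p T) ^ p = 0 := by
  rw [smul_pow, AlphaP.x_pow, smul_zero]


/-- Let p be a prime, T a commutative ring of characteristic p (p = 0 in T, T nonzero) and A =
T[X]/(X^p) the Hopf algebra of α_p over Spec T, with X primitive. Then the endomorphisms of the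
T-group α_{p,T} are exactly the scalings: every T-bialgebra endomorphism f of A has f(X) = λ·X for a
unique λ ∈ T, and for every λ ∈ T there is a T-bialgebra endomorphism f of A with f(X) = λ·X. So the
endomorphisms of α_{p,T} correspond bijectively to the elements of T. (Only this bijection is
stated; that it turns addition and composition of endomorphisms into addition and multiplication in
T, and its naturality in T, are not stated here. The zero ring, allowed as T in the published
statement, is excluded by the characteristic hypothesis here.) -/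
theorem result (p : ℕ) [Fact p.Prime] (T : Type u) [CommRing T] [CharP T p] :
    (∀ f : AlphaP.A p T →ₐc[T] AlphaP.A p T, ∃! c : T, f (AlphaP.x p T) = c • AlphaP.x p T) ∧
      (∀ c : T, ∃ f : AlphaP.A p T →ₐc[T] AlphaP.A p T, f (AlphaP.x p T) = c • AlphaP.x p T) := by
  have hξx : ξ p T (AlphaP.x p T) = 1 := by
    have := ξ_x_pow p T 1
    rw [pow_one] at this
    rw [this, if_pos rfl]
  constructor
  · intro f
    have hy : Coalgebra.comul (R := T) (f (AlphaP.x p T)) =
        f (AlphaP.x p T) ⊗ₜ[T] 1 + 1 ⊗ₜ[T] f (AlphaP.x p T) := by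
      rw [← CoalgHomClass.map_comp_comul_apply, AlphaP.comul_x, map_add, TensorProduct.map_tmul,
        TensorProduct.map_tmul]
      simp
    have hc : Coalgebra.counit (R := T) (f (AlphaP.x p T)) = 0 := by
      rw [CoalgHomClass.counit_comp_apply, AlphaP.counit_x]
    obtain ⟨c, hcx⟩ := primitive_eq_smul p T _ hy hc
    refine ⟨c, hcx, ?_⟩
    intro c' hc'
    have h1 : c' • AlphaP.x p T = c • AlphaP.x p T := by rw [← hc', hcx]
    have h2 := congrArg (fun z => ξ p T z) h1
    simp only [map_smul, smul_eq_mul] at h2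
    rw [← CartDual.coe_apply, hξx, mul_one, mul_one] at h2
    exact h2
  · intro c
    refine ⟨BialgHom.ofAlgHom (AlphaP.lift p T (c • AlphaP.x p T) (smul_x_pow p T c)) ?_ ?_, ?_⟩
    · apply AlphaP.algHom_ext
      change Coalgebra.counit (R := T) (AlphaP.lift p T (c • AlphaP.x p T) (smul_x_pow p T c)
        (AlphaP.x p T)) = Coalgebra.counit (R := T) (AlphaP.x p T)
      rw [AlphaP.lift_x, map_smul, AlphaP.counit_x, smul_zero]
    · apply AlphaP.algHom_ext
      change Algebra.TensorProduct.map (AlphaP.lift p T (c • AlphaP.x p T) (smul_x_pow p T c))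
          (AlphaP.lift p T (c • AlphaP.x p T) (smul_x_pow p T c))
          (Coalgebra.comul (R := T) (AlphaP.x p T)) =
        Coalgebra.comul (R := T) (AlphaP.lift p T (c • AlphaP.x p T) (smul_x_pow p T c)
          (AlphaP.x p T))
      rw [AlphaP.lift_x, map_smul, AlphaP.comul_x, map_add, Algebra.TensorProduct.map_tmul,
        Algebra.TensorProduct.map_tmul, AlphaP.lift_x, map_one, smul_add, TensorProduct.smul_tmul',
        TensorProduct.tmul_smul]
    · exact AlphaP.lift_x (p := p) (c • AlphaP.x p T) (smul_x_pow p T c)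

end Groth.Agent.S16075
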