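import Groth.Statements.S16079
import Groth.Agent.Lib.Helper7.QuotBialg


set_option autoImplicit false
universe u
open scoped TensorProduct
open Hopf

namespace Groth.Agent.S16079

/-- Let R be a henselian Noetherian local ring, A and B commutative and cocommutative Hopf algebras over
R which are finitely generated and projective as R-modules (finite flat commutative R-groups G =
Spec A and H = Spec B), and ψ : B → A an R-bialgebra homomorphism (a homomorphism φ : G → H). Let
e_A ∈ A be an idempotent with ε(e_A) = 1 such that (1 − e_A) is a Hopf ideal and A⁰ = A/(1 − e_A) is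
local, R-projective and cocommutative (the unit component G⁰), and let e'_A be an idempotent of the
dual Hopf algebra Hom_R(A⁰, R) with ε(e'_A) = 1 and local quotient by (1 − e'_A) (the unit component
of the Cartier dual (G⁰)^D); similarly e_B, B⁰ = B/(1 − e_B) and e'_B for H. Call a linear form x on
A⁰ invariant when (id ⊗ multiplication by e'_A)(Δx) = x ⊗ e'_A, i.e. x is invariant under
translation by the unit component of (G⁰)^D and so lies in the Hopf algebra of its étale quotient;
the elements of A⁰ annihilated by all invariant x form the ideal of G_μ ⊆ G⁰ ⊆ G, the largest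
connected multiplicative closed subgroup of G; likewise for B and H_μ. Then the filtration G_μ ⊆ G⁰
⊆ G is respected by φ at the G_μ step: φ maps G_μ into H_μ, i.e. for every b ∈ B whose image in B⁰
is annihilated by all invariant linear forms on B⁰ (b in the ideal of H_μ), the image of ψ(b) in A⁰
is annihilated by all invariant linear forms on A⁰ (ψ(b) in the ideal of G_μ). (That φ maps G⁰ into
H⁰ is the universal property of the unit component and is not restated.) -/
theorem result (R : Type u) [CommRing R]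
    [HenselianLocalRing R] [IsNoetherianRing R] (A B : Type u) [CommRing A] [HopfAlgebra R A] [Coalgebra.IsCocomm R A]
    [Module.Finite R A] [Module.Projective R A] [CommRing B] [HopfAlgebra R B] [Coalgebra.IsCocomm R B]
    [Module.Finite R B] [Module.Projective R B] (ψ : B →ₐc[R] A)
    (eA : A) (heA : IsIdempotentElem eA) (heAε : Bialgebra.counitAlgHom R A eA = 1)
    [(Ideal.span ({1 - eA} : Set A)).IsHopfIdeal R] [IsLocalRing (A ⧸ Ideal.span ({1 - eA} : Set A))] [Module.Projective R (A ⧸ Ideal.span ({1 - eA} : Set A))] [Coalgebra.IsCocomm R (A ⧸ Ideal.span ({1 - eA} : Set A))]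
    (fA : CartDual.D R (A ⧸ Ideal.span ({1 - eA} : Set A))) (hfA : IsIdempotentElem fA)
    (hfAε : Bialgebra.counitAlgHom R (CartDual.D R (A ⧸ Ideal.span ({1 - eA} : Set A))) fA = 1)
    [IsLocalRing (CartDual.D R (A ⧸ Ideal.span ({1 - eA} : Set A)) ⧸ Ideal.span ({1 - fA} : Set (CartDual.D R (A ⧸ Ideal.span ({1 - eA} : Set A)))))]
    (eB : B) (heB : IsIdempotentElem eB) (heBε : Bialgebra.counitAlgHom R B eB = 1)
    [(Ideal.span ({1 - eB} : Set B)).IsHopfIdeal R] [IsLocalRing (B ⧸ Ideal.span ({1 - eB} : Set B))] [Module.Projective R (B ⧸ Ideal.span ({1 - eB} : Set B))] [Coalgebra.IsCocomm R (B ⧸ Ideal.span ({1 - eB} : Set B))]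
    (fB : CartDual.D R (B ⧸ Ideal.span ({1 - eB} : Set B))) (hfB : IsIdempotentElem fB)
    (hfBε : Bialgebra.counitAlgHom R (CartDual.D R (B ⧸ Ideal.span ({1 - eB} : Set B))) fB = 1)
    [IsLocalRing (CartDual.D R (B ⧸ Ideal.span ({1 - eB} : Set B)) ⧸ Ideal.span ({1 - fB} : Set (CartDual.D R (B ⧸ Ideal.span ({1 - eB} : Set B)))))]
    (b : B) (hb : ∀ y : CartDual.D R (B ⧸ Ideal.span ({1 - eB} : Set B)), LinearMap.lTensor (CartDual.D R (B ⧸ Ideal.span ({1 - eB} : Set B))) (LinearMap.mulLeft R fB) (Coalgebra.comul (R := R) y) = y ⊗ₜ[R] fB → y (Ideal.Quotient.mk (Ideal.span ({1 - eB} : Set B)) b) = 0)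
    (x : CartDual.D R (A ⧸ Ideal.span ({1 - eA} : Set A))) (hx : LinearMap.lTensor (CartDual.D R (A ⧸ Ideal.span ({1 - eA} : Set A))) (LinearMap.mulLeft R fA) (Coalgebra.comul (R := R) x) = x ⊗ₜ[R] fA) :
    x (Ideal.Quotient.mk (Ideal.span ({1 - eA} : Set A)) (ψ b)) = 0 := by

  classical
  -- `ψ` maps the unit component ideal into the unit component ideal
  have h1 : 1 - ψ eB ∈ Ideal.span ({1 - eA} : Set A) := by
    refine Groth.Agent.Lib.Helper7.QuotBialg.one_sub_mem_of_idempotent (R := R) _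
      (Bialgebra.counitAlgHom R A)
      (Groth.Agent.Lib.Helper7.QuotBialg.counit_eq_zero_of_mem_span _ eA heAε) (ψ eB) ?_ ?_
    · unfold IsIdempotentElem
      rw [← map_mul, heB.eq]
    · have : Coalgebra.counit (R := R) (ψ eB) = Coalgebra.counit (R := R) eB :=
        CoalgHomClass.counit_comp_apply ψ eB
      exact this.trans heBε
  have hIJ : Ideal.span ({1 - eB} : Set B) ≤ (Ideal.span ({1 - eA} : Set A)).comap (ψ : B →ₐ[R] A) := by
    rw [Ideal.span_singleton_le_iff_mem, Ideal.mem_comap, map_sub, map_one]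
    exact h1
  let ψ0 : (B ⧸ Ideal.span ({1 - eB} : Set B)) →ₐc[R] (A ⧸ Ideal.span ({1 - eA} : Set A)) :=
    Groth.Agent.Lib.Helper7.QuotBialg.quotientMapBialgHom _ _ ψ hIJ
  let t : (CartDual.D R (A ⧸ Ideal.span ({1 - eA} : Set A))) →ₐc[R] (CartDual.D R (B ⧸ Ideal.span ({1 - eB} : Set B))) := CartDual.transpose R ψ0
  -- `fB * t fA = fB`
  have h2 : 1 - t fA ∈ Ideal.span ({1 - fB} : Set (CartDual.D R (B ⧸ Ideal.span ({1 - eB} : Set B)))) := by
    refine Groth.Agent.Lib.Helper7.QuotBialg.one_sub_mem_of_idempotent (R := R) _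
      (Bialgebra.counitAlgHom R (CartDual.D R (B ⧸ Ideal.span ({1 - eB} : Set B))))
      (Groth.Agent.Lib.Helper7.QuotBialg.counit_eq_zero_of_mem_span _ fB hfBε) (t fA) ?_ ?_
    · unfold IsIdempotentElem
      rw [← map_mul, hfA.eq]
    · have : Coalgebra.counit (R := R) (t fA) = Coalgebra.counit (R := R) fA :=
        CoalgHomClass.counit_comp_apply t fA
      exact this.trans hfAε
  have h3 : fB * t fA = fB :=
    Groth.Agent.Lib.Helper7.QuotBialg.mul_eq_of_one_sub_mem_span fB hfB (t fA) h2
  -- `t x` is invariant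
  have hinv : LinearMap.lTensor (CartDual.D R (B ⧸ Ideal.span ({1 - eB} : Set B))) (LinearMap.mulLeft R fB) (Coalgebra.comul (R := R) (t x)) =
      t x ⊗ₜ[R] fB := by
    have hc : Coalgebra.comul (R := R) (t x) =
        TensorProduct.map (t : (CartDual.D R (A ⧸ Ideal.span ({1 - eA} : Set A))) →ₗ[R] (CartDual.D R (B ⧸ Ideal.span ({1 - eB} : Set B)))) (t : (CartDual.D R (A ⧸ Ideal.span ({1 - eA} : Set A))) →ₗ[R] (CartDual.D R (B ⧸ Ideal.span ({1 - eB} : Set B)))) (Coalgebra.comul (R := R) x) :=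
      (CoalgHomClass.map_comp_comul_apply t x).symm
    have h4 := congrArg (TensorProduct.map (t : (CartDual.D R (A ⧸ Ideal.span ({1 - eA} : Set A))) →ₗ[R] (CartDual.D R (B ⧸ Ideal.span ({1 - eB} : Set B)))) (t : (CartDual.D R (A ⧸ Ideal.span ({1 - eA} : Set A))) →ₗ[R] (CartDual.D R (B ⧸ Ideal.span ({1 - eB} : Set B))))) hx
    have h5 : ∀ z : (CartDual.D R (A ⧸ Ideal.span ({1 - eA} : Set A))) ⊗[R] (CartDual.D R (A ⧸ Ideal.span ({1 - eA} : Set A))),
        TensorProduct.map (t : (CartDual.D R (A ⧸ Ideal.span ({1 - eA} : Set A))) →ₗ[R] (CartDual.D R (B ⧸ Ideal.span ({1 - eB} : Set B)))) (t : (CartDual.D R (A ⧸ Ideal.span ({1 - eA} : Set A))) →ₗ[R] (CartDual.D R (B ⧸ Ideal.span ({1 - eB} : Set B))))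
          (LinearMap.lTensor (CartDual.D R (A ⧸ Ideal.span ({1 - eA} : Set A))) (LinearMap.mulLeft R fA) z) =
        LinearMap.lTensor (CartDual.D R (B ⧸ Ideal.span ({1 - eB} : Set B))) (LinearMap.mulLeft R (t fA))
          (TensorProduct.map (t : (CartDual.D R (A ⧸ Ideal.span ({1 - eA} : Set A))) →ₗ[R] (CartDual.D R (B ⧸ Ideal.span ({1 - eB} : Set B)))) (t : (CartDual.D R (A ⧸ Ideal.span ({1 - eA} : Set A))) →ₗ[R] (CartDual.D R (B ⧸ Ideal.span ({1 - eB} : Set B)))) z) := by
      intro z
      induction z using TensorProduct.induction_on with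
      | zero => simp
      | tmul u v => simp
      | add u v hu hv => simp only [map_add, hu, hv]
    rw [h5, TensorProduct.map_tmul] at h4
    have h6 := congrArg (LinearMap.lTensor (CartDual.D R (B ⧸ Ideal.span ({1 - eB} : Set B))) (LinearMap.mulLeft R fB)) h4
    rw [LinearMap.lTensor_tmul, ← LinearMap.comp_apply, ← LinearMap.lTensor_comp] at h6
    have h7 : LinearMap.mulLeft R fB ∘ₗ LinearMap.mulLeft R (t fA) = LinearMap.mulLeft R fB := by
      apply LinearMap.ext; intro v
      simp only [LinearMap.comp_apply, LinearMap.mulLeft_apply]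
      rw [← mul_assoc, h3]
    rw [h7] at h6
    rw [hc, h6]
    simp only [LinearMap.coe_coe, LinearMap.mulLeft_apply, h3]
  exact hb (t x) hinv

end Groth.Agent.S16079
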