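import Groth.Statements.S16082
-- import your own Groth.Agent.* helpers here
import Groth.Agent.S16484

set_option autoImplicit false
universe u
open CategoryTheory CategoryTheory.Limits AlgebraicGeometry TopologicalSpace
open SDiv

namespace Groth.Agent.S16082

/-- Let X be an integral scheme and F, G quasi-coherent O_X-modules with F of finite presentation and G
torsion free (every stalk G_x is a torsion-free module over the domain O_{X,x}). Then every stalk of
the sheaf Hom 𝓗om_{O_X}(F, G) is torsion free as well. -/
theorem result (X : Scheme.{u}) [IsIntegral X] (F G : X.Modules) (hF : Coh.IsQCoh F)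
    (hFp : CohB1.IsFP F) (hG : Coh.IsQCoh G) (hGt : TorSh.IsTorsionFree G) :
    TorSh.IsTorsionFree (RefHull.homSh F G) := by
  have hFp' : F.IsFinitePresentation := hFp
  have hFT : CohB1.IsFT F := (inferInstance : F.IsFiniteType)
  intro x
  have hinj := Groth.Agent.S16484.result X F G hFT x
  have hGx : Module.IsTorsionFree (X.presheaf.stalk x) (G.presheaf.stalk x) := hGt x
  have hH : Module.IsTorsionFree (X.presheaf.stalk x) (RefHull.StalkHom F G x) :=
    ⟨fun r hr φ ψ h => by
      apply LinearMap.ext
      intro m
      have h1 : r • φ m = r • ψ m := congrArg (fun k : RefHull.StalkHom F G x => k m) h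
      exact hGx.isSMulRegular hr h1⟩
  exact Function.Injective.moduleIsTorsionFree (RefHull.evalStalk F G x) hinj
    (fun r m => map_smul _ r m)

end Groth.Agent.S16082
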