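import Groth.Statements.S16092
import Mathlib
import Groth.Agent.Lib.Helper18.C1Add3

set_option autoImplicit false
universe u
open CategoryTheory CategoryTheory.Limits AlgebraicGeometry TopologicalSpace
open SDiv

namespace Groth.Agent.S16092

/-- Let X be an integral scheme that is locally Noetherian, with generic point η, let L and N be
invertible O_X-modules and s ∈ L_η, t ∈ N_η nonzero rational sections, with orders ord_{x,L}(s),
ord_{x,N}(t) along the prime divisors, i.e. at the points x with dim O_{X,x} = 1, taken with respect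
to generators of the stalks. Then L ⊗_{O_X} N has a nonzero rational section w with ord_{x,L ⊗ N}(w)
= ord_{x,L}(s) + ord_{x,N}(t) at every such x; hence the Weil divisor class of L ⊗ N is the sum of
the classes of L and N. The published statement names w as the product s·t; here only the existence
of such a w is asserted. -/
theorem result (X : Scheme.{u}) [IsIntegral X] [IsLocallyNoetherian X] (L N : X.Modules)
    (hL : PicF.IsInvertible L) (hN : PicF.IsInvertible N) (s : Cyc.secFibre L (genericPoint ↥X)) (hs : s ≠ 0)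
    (t : Cyc.secFibre N (genericPoint ↥X)) (ht : t ≠ 0) :
    ∃ w : Cyc.secFibre (CohB1.tensorMod L N) (genericPoint ↥X), w ≠ 0 ∧
      ∀ (x : ↥X), ringKrullDim ↑(X.presheaf.stalk x) = 1 →
        Cyc.secOrdAt (CohB1.tensorMod L N) (genericPoint ↥X) x ((genericPoint_spec ↥X).specializes (Set.mem_univ x)) w =
          Cyc.secOrdAt L (genericPoint ↥X) x ((genericPoint_spec ↥X).specializes (Set.mem_univ x)) s +
            Cyc.secOrdAt N (genericPoint ↥X) x ((genericPoint_spec ↥X).specializes (Set.mem_univ x)) t := by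
  classical
  haveI := Groth.Agent.Lib.Helper29.QCoh.isQuasicoherent_of_isInvertible hL
  haveI := Groth.Agent.Lib.Helper29.QCoh.isQuasicoherent_of_isInvertible hN
  obtain ⟨U, e, e', -, hηU, -, hT, hT'⟩ :=
    Groth.Agent.Lib.Helper29.QCoh.exists_affine_isTriv₂ hL hN (W := ⊤) (genericPoint ↥X) trivial
  have hTT := hT.tensor hT'
  obtain ⟨ψL, eL⟩ := Groth.Agent.Lib.Helper18.InvStalk.exists_smul_mk_eq
    (IsLocalRing.maximalIdeal (X.presheaf.stalk (genericPoint ↥X)))
    (L.presheaf.germ U (genericPoint ↥X) hηU e)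
    (Groth.Agent.Lib.Helper18.InvStalk.span_germ_eq_top L hT _ hηU) s
  obtain ⟨ψN, eN⟩ := Groth.Agent.Lib.Helper18.InvStalk.exists_smul_mk_eq
    (IsLocalRing.maximalIdeal (X.presheaf.stalk (genericPoint ↥X)))
    (N.presheaf.germ U (genericPoint ↥X) hηU e')
    (Groth.Agent.Lib.Helper18.InvStalk.span_germ_eq_top N hT' _ hηU) t
  have hres : ∀ (M : X.Modules) (g : M.presheaf.stalk (genericPoint ↥X))
      (s : Cyc.secFibre M (genericPoint ↥X)) (ψ : X.presheaf.stalk (genericPoint ↥X)), s ≠ 0 →
      s = ψ • (Submodule.Quotient.mk g : Cyc.secFibre M (genericPoint ↥X)) →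
      (X.residue (genericPoint ↥X)).hom ψ ≠ 0 := by
    intro M g s ψ hs e h0
    have hmem : ψ ∈ IsLocalRing.maximalIdeal (X.presheaf.stalk (genericPoint ↥X)) :=
      (IsLocalRing.residue_eq_zero_iff _).mp h0
    apply hs
    rw [e, ← Submodule.Quotient.mk_smul, Submodule.Quotient.mk_eq_zero]
    exact Submodule.smul_mem_smul hmem trivial
  have hψL := hres L _ s ψL hs eL
  have hψN := hres N _ t ψN ht eN
  set w : Cyc.secFibre (CohB1.tensorMod L N) (genericPoint ↥X) :=
    (ψL * ψN) • (Submodule.Quotient.mk ((CohB1.tensorMod L N).presheaf.germ U (genericPoint ↥X) hηU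
      (Groth.Agent.Lib.Helper29.QCoh.tmulSec L N e e')) :
        Cyc.secFibre (CohB1.tensorMod L N) (genericPoint ↥X)) with hwdef
  have hw : w ≠ 0 := by
    intro h0
    have hmem := Groth.Agent.Lib.Helper18.InvStalk.mem_of_smul_mk_eq_zero
      (IsLocalRing.maximalIdeal (X.presheaf.stalk (genericPoint ↥X))) _
      (Groth.Agent.Lib.Helper18.InvStalk.span_germ_eq_top _ hTT _ hηU)
      (Groth.Agent.Lib.Helper18.InvStalk.smul_germ_eq_zero _ hTT _ hηU) _ h0
    have h3 : (X.residue (genericPoint ↥X)).hom (ψL * ψN) = 0 :=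
      (IsLocalRing.residue_eq_zero_iff _).mpr hmem
    rw [map_mul] at h3
    exact mul_ne_zero hψL hψN h3
  refine ⟨w, hw, ?_⟩
  intro x hx
  have h : genericPoint ↥X ⤳ x := genericPoint_specializes x
  have hK : Ring.KrullDimLE 1 (Cyc.LocQuot x (genericPoint ↥X) h) := by
    rw [Ring.krullDimLE_iff]
    refine (ringKrullDim_quotient_le _).trans ?_
    rw [hx]
    rfl
  have key := Groth.Agent.Lib.Helper18.C1Add.secOrdAt_tensor' hL hN x (genericPoint ↥X) h hK hηU
    e e' s t w hs ht hw ψL ψN (ψL * ψN) eL eN rfl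
  have hone : Cyc.ordAt x (genericPoint ↥X) h
      ((X.residue (genericPoint ↥X)).hom ψL * (X.residue (genericPoint ↥X)).hom ψN /
        (X.residue (genericPoint ↥X)).hom (ψL * ψN)) = 0 := by
    rw [map_mul, div_self (mul_ne_zero hψL hψN)]
    unfold Cyc.ordAt CycAlg.ordFrac
    split_ifs with hc
    · rw [map_one]; rfl
    · rfl
  rw [hone] at key
  linarith

end Groth.Agent.S16092
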