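import Groth.Statements.S16098
import Mathlib
import Groth.Agent.Lib.Helper2.AdFn.Dense

set_option autoImplicit false
universe u
open AdFn

namespace Groth.Agent.S16098

/-- Let `K/k` be a function field of one variable (every element having finitely many poles, so that the
diagonal `K → A_K` exists), `A_K = ∏'_v (K_v, O_v)` its adele ring over all places, and `S` a
nonempty set of places. (1) For every adele `a` some `f ∈ K` has `a_v - f ∈ O_v` at every place `v ∉
S`: `A_K` is the sum of the principal adeles and the adeles integral outside `S`. (2) An adele `b`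
with `b_v = 0` for `v ∉ S` is a principal adele plus an everywhere-integral adele exactly when some
`S`-integer `f ∈ K` has `b_v - f ∈ O_v` for every `v ∈ S`. (The published statement is for a curve
over an algebraically closed field, possibly singular; here it is stated for the places of a
function field `K/k` of one variable over any field `k` algebraically closed in `K`.) -/
theorem result (k K : Type u) [Field k] [Field K]
    [Algebra k K] (hK : FunFld.IsFunctionField k K) [AdFn.HasFinitePoles k K]
    (S : Set (FunFld.Place k K)) (hS : S.Nonempty) :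
    (∀ a : AdFn.AdeleRing k K, ∃ f : K, ∀ v : FunFld.Place k K, v ∉ S →
        AdFn.AdeleRing.proj v (a - AdFn.AdeleRing.diag f) ∈ AdFn.Ov v) ∧
    (∀ b : AdFn.AdeleRing k K, (∀ v : FunFld.Place k K, v ∉ S → AdFn.AdeleRing.proj v b = 0) →
        ((∃ f : K, ∀ v : FunFld.Place k K, AdFn.AdeleRing.proj v (b - AdFn.AdeleRing.diag f) ∈ AdFn.Ov v) ↔
          ∃ f ∈ AdFn.SInt S, ∀ v ∈ S, AdFn.AdeleRing.proj v b - AdFn.toKv v f ∈ AdFn.Ov v)) := by
  classical
  constructor
  · intro a
    obtain ⟨Pinf, hPinf⟩ := hS
    have hfin : {v : FunFld.Place k K | ¬ a.1 v ∈ (AdFn.Ov v : Set (AdFn.Kv v))}.Finite :=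
      Filter.eventually_cofinite.mp a.2
    set T : Finset (FunFld.Place k K) := hfin.toFinset.erase Pinf with hT
    let e := T.equivFin
    let P : Fin T.card → FunFld.Place k K := fun i => (e.symm i : FunFld.Place k K)
    have hPinj : Function.Injective P := fun i j h => e.symm.injective (Subtype.ext h)
    have hinf : Pinf ∉ Set.range P := by
      rintro ⟨i, hi⟩
      have h1 := (e.symm i).2
      change P i ∈ T at h1
      rw [hi, hT] at h1
      simp at h1
    choose x hx using fun v => Groth.Agent.Lib.Helper2.AdFnL.exists_approx v (a.1 v)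
    obtain ⟨y, hy1, hy2⟩ := Groth.Agent.Lib.Helper2.FF.strong_approximation hK Pinf T.card P hPinj hinf
      (fun i => x (P i)) (fun _ => 0)
    refine ⟨y, fun v hv => ?_⟩
    rw [map_sub, AdFn.AdeleRing.proj_diag, AdFn.AdeleRing.proj_apply]
    have hvne : v ≠ Pinf := fun h => hv (h ▸ hPinf)
    by_cases hvT : v ∈ T
    · obtain ⟨i, hi⟩ : ∃ i, P i = v := ⟨e ⟨v, hvT⟩, by simp [P]⟩
      have h1 := hy1 i
      rw [hi] at h1
      have h2 : a.1 v - AdFn.toKv v y =
          (a.1 v - AdFn.toKv v (x v)) - AdFn.toKv v (y - x v) := by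
        rw [map_sub]; ring
      rw [h2]
      refine sub_mem (hx v) ?_
      rw [AdFn.toKv_mem_Ov, h1]
      simp
    · have hav : a.1 v ∈ AdFn.Ov v := by
        by_contra h
        apply hvT
        rw [hT, Finset.mem_erase]
        refine ⟨hvne, ?_⟩
        rw [Set.Finite.mem_toFinset]
        exact h
      refine sub_mem hav ?_
      rw [AdFn.toKv_mem_Ov]
      refine hy2 v hvne ?_
      rintro ⟨i, hi⟩
      exact hvT (hi ▸ (e.symm i).2)
  · intro b hb
    constructor
    · rintro ⟨f, hf⟩
      refine ⟨f, ?_, fun v _ => ?_⟩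
      · rw [AdFn.mem_SInt]
        intro v hv
        have h1 := hf v
        rw [map_sub, hb v hv, zero_sub, AdFn.AdeleRing.proj_diag] at h1
        rw [← AdFn.toKv_mem_Ov]
        have := neg_mem h1
        rwa [neg_neg] at this
      · have h1 := hf v
        rwa [map_sub, AdFn.AdeleRing.proj_diag] at h1
    · rintro ⟨f, hfS, hf⟩
      refine ⟨f, fun v => ?_⟩
      rw [map_sub, AdFn.AdeleRing.proj_diag]
      by_cases hv : v ∈ S
      · exact hf v hv
      · rw [hb v hv, zero_sub]
        apply neg_mem
        rw [AdFn.toKv_mem_Ov]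
        exact hfS v hv

end Groth.Agent.S16098
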