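import Groth.Statements.S16104
import Mathlib.RingTheory.HopkinsLevitzki
import Mathlib.RingTheory.Nakayama
import Mathlib.RingTheory.LocalRing.RingHom.Basic
import Mathlib.RingTheory.Length
import Mathlib.RingTheory.Ideal.Quotient.Noetherian

set_option autoImplicit false
universe u v
open LunaSt

namespace Groth.Agent.S16104

/-- Case of local rings. Let φ : A → B be a local homomorphism of Noetherian local rings whose composite
A → B/m_B² is surjective (the first infinitesimal neighbourhoods give a closed immersion), and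
assume that A/m_A^(n+1) and B/m_B^(n+1) have the same length for every n (the associated graded
modules of the two maximal ideals have pieces of the same dimension over the common residue field).
Then for every n the composite A → B/m_B^(n+1) is surjective with kernel m_A^(n+1): φ identifies all
infinitesimal neighbourhoods. (The published statement is for a pointed morphism of Noetherian local
algebraic stacks; its proof reduces to this case of local rings.) -/
theorem result
    (A : Type u) (B : Type v) [CommRing A] [CommRing B] [IsLocalRing A] [IsLocalRing B]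
    [IsNoetherianRing A] [IsNoetherianRing B] (φ : A →+* B) [IsLocalHom φ]
    (h1 : Function.Surjective ((Ideal.Quotient.mk (IsLocalRing.maximalIdeal B ^ 2)).comp φ))
    (hlen : ∀ n : ℕ, Module.length A (A ⧸ IsLocalRing.maximalIdeal A ^ (n + 1)) =
      Module.length B (B ⧸ IsLocalRing.maximalIdeal B ^ (n + 1))) (n : ℕ) :
    Function.Surjective ((Ideal.Quotient.mk (IsLocalRing.maximalIdeal B ^ (n + 1))).comp φ) ∧
      RingHom.ker ((Ideal.Quotient.mk (IsLocalRing.maximalIdeal B ^ (n + 1))).comp φ) =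
        IsLocalRing.maximalIdeal A ^ (n + 1) := by
  classical
  set mA := IsLocalRing.maximalIdeal A with hmA
  set mB := IsLocalRing.maximalIdeal B with hmB
  -- approximation modulo `mB ^ 2`
  have happ : ∀ b : B, ∃ a : A, b - φ a ∈ mB ^ 2 := by
    intro b
    obtain ⟨a, ha⟩ := h1 (Ideal.Quotient.mk _ b)
    refine ⟨a, ?_⟩
    rw [RingHom.comp_apply, Ideal.Quotient.eq] at ha
    have := (mB ^ 2).neg_mem ha
    rwa [neg_sub] at this
  have hsq : mB ^ 2 ≤ mB := Ideal.pow_le_self (by norm_num)
  have hmaple : Ideal.map φ mA ≤ mB := IsLocalRing.map_maximalIdeal_le φ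
  -- `mB = φ(mA) B` by Nakayama
  have hmap1 : mB = Ideal.map φ mA := by
    apply le_antisymm _ hmaple
    have hfg : (mB : Submodule B B).FG := IsNoetherian.noetherian mB
    refine Submodule.le_of_le_smul_of_le_jacobson_bot hfg
      (IsLocalRing.maximalIdeal_le_jacobson ⊥) ?_
    intro b hb
    obtain ⟨a, ha⟩ := happ b
    have haA : a ∈ mA := by
      by_contra hcon
      have hu : IsUnit a := by
        by_contra hnu
        exact hcon ((IsLocalRing.mem_maximalIdeal a).mpr hnu)
      have hu' : IsUnit (φ a) := hu.map φ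
      have h3 : φ a ∈ mB := by
        have : φ a = b - (b - φ a) := by ring
        rw [this]
        exact mB.sub_mem hb (hsq ha)
      exact ((IsLocalRing.mem_maximalIdeal _).mp h3) hu'
    have e : b = φ a + (b - φ a) := by ring
    rw [e]
    refine Submodule.add_mem_sup (Ideal.mem_map_of_mem φ haA) ?_
    rw [smul_eq_mul, ← sq]
    exact ha
  have hmap : ∀ k : ℕ, mB ^ k = Ideal.map φ (mA ^ k) := by
    intro k
    rw [Ideal.map_pow, ← hmap1]
  -- surjectivity modulo all powers
  have hsurj : ∀ n : ℕ, ∀ b : B, ∃ a : A, b - φ a ∈ mB ^ (n + 1) := by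
    intro n
    induction n with
    | zero =>
      intro b
      obtain ⟨a, ha⟩ := happ b
      exact ⟨a, by rw [zero_add, pow_one]; exact hsq ha⟩
    | succ n ih =>
      have key : ∀ c : B, c ∈ Ideal.map φ (mA ^ (n + 1)) →
          c ∈ mB ^ (n + 1) ∧ ∃ a : A, c - φ a ∈ mB ^ (n + 1 + 1) := by
        intro c hc
        induction hc using Submodule.span_induction with
        | mem c hc =>
          obtain ⟨x, hx, rfl⟩ := hc
          refine ⟨?_, x, by rw [sub_self]; exact Submodule.zero_mem _⟩
          rw [hmap]; exact Ideal.mem_map_of_mem φ hx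
        | zero => exact ⟨Submodule.zero_mem _, 0, by simp⟩
        | add c₁ c₂ _ _ h₁ h₂ =>
          obtain ⟨h₁m, a₁, ha₁⟩ := h₁
          obtain ⟨h₂m, a₂, ha₂⟩ := h₂
          refine ⟨Submodule.add_mem _ h₁m h₂m, a₁ + a₂, ?_⟩
          have : c₁ + c₂ - φ (a₁ + a₂) = (c₁ - φ a₁) + (c₂ - φ a₂) := by rw [map_add]; ring
          rw [this]; exact Submodule.add_mem _ ha₁ ha₂
        | smul b' c' _ h' =>
          obtain ⟨hm', a', ha'⟩ := h'
          obtain ⟨a'', ha''⟩ := happ b'
          refine ⟨Ideal.mul_mem_left _ _ hm', a'' * a', ?_⟩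
          have : b' • c' - φ (a'' * a') = (b' - φ a'') * c' + φ a'' * (c' - φ a') := by
            rw [map_mul, smul_eq_mul]; ring
          rw [this]
          refine Submodule.add_mem _ ?_ (Ideal.mul_mem_left _ _ ha')
          have h4 : (b' - φ a'') * c' ∈ mB * mB ^ (n + 1) := Ideal.mul_mem_mul (hsq ha'') hm'
          rwa [← pow_succ'] at h4
      intro b
      obtain ⟨a₀, ha₀⟩ := ih b
      rw [hmap] at ha₀
      obtain ⟨-, a₁, ha₁⟩ := key _ ha₀
      refine ⟨a₀ + a₁, ?_⟩
      have : b - φ (a₀ + a₁) = b - φ a₀ - φ a₁ := by rw [map_add]; ring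
      rw [this]; exact ha₁
  set ψ : A →+* B ⧸ mB ^ (n + 1) := (Ideal.Quotient.mk (mB ^ (n + 1))).comp φ with hψ
  have hψsurj : Function.Surjective ψ := by
    intro y
    obtain ⟨b, rfl⟩ := Ideal.Quotient.mk_surjective y
    obtain ⟨a, ha⟩ := hsurj n b
    refine ⟨a, ?_⟩
    rw [hψ, RingHom.comp_apply, Ideal.Quotient.eq]
    have := (mB ^ (n + 1)).neg_mem ha
    rwa [neg_sub] at this
  refine ⟨hψsurj, ?_⟩
  -- the kernel
  have hle : mA ^ (n + 1) ≤ RingHom.ker ψ := by
    intro x hx
    rw [RingHom.mem_ker, hψ, RingHom.comp_apply, Ideal.Quotient.eq_zero_iff_mem, hmap]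
    exact Ideal.mem_map_of_mem φ hx
  apply le_antisymm _ hle
  -- `A ⧸ mA ^ (n+1)` is Artinian
  have hIne : mA ^ (n + 1) ≠ ⊤ := by
    intro htop
    have : (1 : A) ∈ mA ^ (n + 1) := by rw [htop]; trivial
    have h1' : (1 : A) ∈ mA := Ideal.pow_le_self (Nat.succ_ne_zero n) this
    exact (IsLocalRing.maximalIdeal.isMaximal A).ne_top ((Ideal.eq_top_iff_one _).mpr h1')
  have hdim : Ring.KrullDimLE 0 (A ⧸ mA ^ (n + 1)) := by
    refine Ring.KrullDimLE.mk₀ fun P hP => ?_
    have hPc : (P.comap (Ideal.Quotient.mk (mA ^ (n + 1)))).IsPrime := Ideal.comap_isPrime _ P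
    have h5 : mA ^ (n + 1) ≤ P.comap (Ideal.Quotient.mk (mA ^ (n + 1))) := by
      intro x hx
      rw [Ideal.mem_comap, Ideal.Quotient.eq_zero_iff_mem.mpr hx]
      exact Submodule.zero_mem _
    have h6 : mA ≤ P.comap (Ideal.Quotient.mk (mA ^ (n + 1))) := hPc.le_of_pow_le h5
    have h7 : P.comap (Ideal.Quotient.mk (mA ^ (n + 1))) = mA :=
      ((IsLocalRing.maximalIdeal.isMaximal A).eq_of_le hPc.ne_top h6).symm
    have h8 := Ideal.map_eq_top_or_isMaximal_of_surjective (Ideal.Quotient.mk (mA ^ (n + 1)))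
      Ideal.Quotient.mk_surjective (IsLocalRing.maximalIdeal.isMaximal A)
    have hP' : Ideal.map (Ideal.Quotient.mk (mA ^ (n + 1)))
        (P.comap (Ideal.Quotient.mk (mA ^ (n + 1)))) = P :=
      Ideal.map_comap_of_surjective _ Ideal.Quotient.mk_surjective P
    rw [h7] at hP'
    rw [hP'] at h8
    exact h8.resolve_left hP.ne_top
  have hnoeth : IsNoetherianRing (A ⧸ mA ^ (n + 1)) := inferInstance
  have hart : IsArtinianRing (A ⧸ mA ^ (n + 1)) := isArtinianRing_iff_krullDimLE_zero.mpr hdim
  -- lengths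
  let _ : Algebra A (B ⧸ mB ^ (n + 1)) := ψ.toAlgebra
  have hL1 : Module.length A (B ⧸ mB ^ (n + 1)) = Module.length B (B ⧸ mB ^ (n + 1)) := by
    rw [Module.length_eq_of_surjective (S := A) (R := B ⧸ mB ^ (n + 1)) (M := B ⧸ mB ^ (n + 1))
        hψsurj,
      Module.length_eq_of_surjective (S := B) (R := B ⧸ mB ^ (n + 1)) (M := B ⧸ mB ^ (n + 1))
        Ideal.Quotient.mk_surjective]
  have hL2 : Module.length A (A ⧸ mA ^ (n + 1)) ≠ ⊤ := by
    rw [Module.length_eq_of_surjective (S := A) (R := A ⧸ mA ^ (n + 1)) (M := A ⧸ mA ^ (n + 1))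
        Ideal.Quotient.mk_surjective]
    exact Module.length_ne_top
  let f : A →ₗ[A] (B ⧸ mB ^ (n + 1)) := Algebra.linearMap A (B ⧸ mB ^ (n + 1))
  have hfsurj : Function.Surjective f := hψsurj
  have hkerf : LinearMap.ker f = RingHom.ker ψ := by
    ext x; rfl
  have hle' : mA ^ (n + 1) ≤ LinearMap.ker f := by rw [hkerf]; exact hle
  let g : (A ⧸ mA ^ (n + 1)) →ₗ[A] (A ⧸ LinearMap.ker f) :=
    Submodule.mapQ (mA ^ (n + 1)) (LinearMap.ker f) LinearMap.id hle'
  have hgsurj : Function.Surjective g := by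
    intro y
    obtain ⟨a, rfl⟩ := Submodule.Quotient.mk_surjective _ y
    exact ⟨Submodule.Quotient.mk a, rfl⟩
  have hL3 : Module.length A (A ⧸ LinearMap.ker f) = Module.length A (B ⧸ mB ^ (n + 1)) :=
    (LinearMap.quotKerEquivOfSurjective f hfsurj).length_eq
  have hadd := Module.length_eq_add_of_exact (LinearMap.ker g).subtype g
    (Submodule.subtype_injective _) hgsurj (LinearMap.exact_subtype_ker_map g)
  have hadd' : Module.length A (A ⧸ mA ^ (n + 1)) =
      Module.length A (LinearMap.ker g) + Module.length A (A ⧸ mA ^ (n + 1)) :=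
    hadd.trans (congrArg (fun z => Module.length A (LinearMap.ker g) + z)
      (hL3.trans (hL1.trans (hlen n).symm)))
  have hzero : Module.length A (LinearMap.ker g) = 0 := by
    have h9 : Module.length A (A ⧸ mA ^ (n + 1)) + 0 =
        Module.length A (A ⧸ mA ^ (n + 1)) + Module.length A (LinearMap.ker g) := by
      exact (add_zero _).trans (hadd'.trans (add_comm _ _))
    exact (WithTop.add_left_cancel hL2 h9).symm
  rw [Module.length_eq_zero_iff] at hzero
  intro x hx
  have hx' : x ∈ LinearMap.ker f := by rw [hkerf]; exact hx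
  have hgx : g (Submodule.Quotient.mk x) = 0 := by
    change Submodule.Quotient.mk x = (0 : A ⧸ LinearMap.ker f)
    exact (Submodule.Quotient.mk_eq_zero _).mpr hx'
  have hk : (⟨Submodule.Quotient.mk x, hgx⟩ : LinearMap.ker g) = 0 := Subsingleton.elim _ _
  have hk' : (Submodule.Quotient.mk x : A ⧸ mA ^ (n + 1)) = 0 := congrArg Subtype.val hk
  exact (Submodule.Quotient.mk_eq_zero _).mp hk'

end Groth.Agent.S16104
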