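import Groth.Statements.S16106
import Mathlib
import Groth.Agent.Lib.Helper20.FunApx
import Groth.Agent.Lib.Helper20.FunApx2
import Groth.Agent.Lib.Helper18.AdicHom

set_option autoImplicit false
universe u
open CategoryTheory CategoryTheory.Limits
open LunaSt

namespace Groth.Agent.S16106


/-- Local form. Let A be a local G-ring, that is a Noetherian local ring all of whose local rings have
regular completion maps (for instance an excellent local ring), with maximal ideal m and m-adic
completion Â. Let F be a functor from A-algebras (commutative rings under A) to sets preserving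
filtered colimits, let ξ ∈ F(Â) and N ≥ 0. Then there exist an étale A-algebra A′, a map of
A-algebras φ : A′ → A/m^(N+1) (an étale neighbourhood of the closed point with trivial residue field
extension) and ξ′ ∈ F(A′) such that ξ′ and ξ have the same image in F(A/m^(N+1)); here π is the
A-algebra map Â → A/m^(N+1), pinned by its underlying ring map. (The published statement is for any
point of the spectrum of a G-ring, with a functor locally of finite presentation on all schemes over
it; its proof first localizes at the point, and only the values of the functor on affine schemes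
enter, so the row states this local form for a functor on A-algebras preserving filtered colimits.) -/
theorem result (A : Type u) [CommRing A] [IsLocalRing A]
    (hG : CAlg.IsGRing A)
    (F : Under (CommRingCat.of A) ⥤ Type u)
    (hF : ∀ (J : Type u) [SmallCategory J] [IsFiltered J], PreservesColimitsOfShape J F)
    (N : ℕ)
    (π : Under.mk (CommRingCat.ofHom (algebraMap A
        (AdicCompletion (IsLocalRing.maximalIdeal A) A))) ⟶
      Under.mk (CommRingCat.ofHom (algebraMap A (A ⧸ IsLocalRing.maximalIdeal A ^ (N + 1)))))
    (hπ : π.right = CommRingCat.ofHom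
      (AdicCompletion.evalₐ (IsLocalRing.maximalIdeal A) (N + 1) :
        AdicCompletion (IsLocalRing.maximalIdeal A) A →ₐ[A]
          A ⧸ IsLocalRing.maximalIdeal A ^ (N + 1)).toRingHom)
    (ξ : F.obj (Under.mk (CommRingCat.ofHom (algebraMap A
        (AdicCompletion (IsLocalRing.maximalIdeal A) A))))) :
    ∃ (A' : Type u) (_ : CommRing A') (_ : Algebra A A') (_ : Algebra.Etale A A')
      (φ : Under.mk (CommRingCat.ofHom (algebraMap A A')) ⟶
        Under.mk (CommRingCat.ofHom (algebraMap A (A ⧸ IsLocalRing.maximalIdeal A ^ (N + 1)))))
      (ξ' : F.obj (Under.mk (CommRingCat.ofHom (algebraMap A A')))),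
      F.map φ ξ' = F.map π ξ := by

  have hN : IsNoetherianRing A := hG.1
  have hreg : CAlg.IsRegularHom A (AdicCompletion (IsLocalRing.maximalIdeal A) A) :=
    Groth.Agent.Lib.Helper18.AdicHom.isRegularHom_adicCompletion A (IsLocalRing.maximalIdeal A)
      (fun p _ => hG.2 p)
  obtain ⟨k, l, f, b, hb, hmain⟩ := Groth.Agent.Lib.Helper20.FunApx.exists_poly F hF _ ξ
  change Fin k → AdicCompletion (IsLocalRing.maximalIdeal A) A at b
  have hb' : ∀ i, MvPolynomial.aeval b (f i) = 0 := hb
  obtain ⟨A', _, _, het, φ, -, -, c, hc, hcb⟩ :=
    Groth.Agent.Lib.Helper20.FunApx2.etale_approx A (IsLocalRing.maximalIdeal A) hreg k l f b hb'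
      (N + 1)
  let ρ : Under.mk (CommRingCat.ofHom (algebraMap A A')) ⟶
      Under.mk (CommRingCat.ofHom (algebraMap A (A ⧸ IsLocalRing.maximalIdeal A ^ (N + 1)))) :=
    Under.homMk (CommRingCat.ofHom φ.toRingHom) (by
      ext x
      exact φ.commutes x)
  refine ⟨A', inferInstance, inferInstance, het, ρ, ?_⟩
  refine hmain (Under.mk (CommRingCat.ofHom (algebraMap A A'))) _ c ?_ ρ π ?_
  · intro i
    exact hc i
  · intro j
    change φ (c j) = _
    rw [hcb j, hπ]
    rfl

end Groth.Agent.S16106
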