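import Groth.Statements.S16137
import Groth.Agent.S11483
import Groth.Agent.Lib.Helper2.DegAdd.GeomConn

set_option autoImplicit false
universe u
open CategoryTheory CategoryTheory.Limits AlgebraicGeometry
open VBCurve

namespace Groth.Agent.S16137

/-- Let k be an algebraically closed field of characteristic zero and X a smooth proper geometrically
connected curve over k (topological dimension one) of genus at least 2 (the text's standing setting:
a smooth projective complex curve of genus at least 2). Let 0 → F → E → G → 0 be a short exact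
sequence of O_X-modules in which E is finite locally free of rank r ≥ 1 and slope-stable (deg F' · r
< deg E · r' for every finite locally free submodule F' of E of rank r' with 0 < r' < r). Then
Hom(G, F) = 0: every morphism from the quotient G to the submodule F is zero. (The published
statement writes the conclusion as h^0(G^* ⊗ F) = 0.) -/
theorem result (k : Type u) [Field k] [IsAlgClosed k] [CharZero k]
    (X : Scheme.{u}) [X.Over (Spec (CommRingCat.of k))]
    [IsProper (X ↘ Spec (CommRingCat.of k))] [Smooth (X ↘ Spec (CommRingCat.of k))]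
    [GeometricallyConnected (X ↘ Spec (CommRingCat.of k))] (hdim : topologicalKrullDim ↥X = 1)
    (hg : 2 ≤ Curv2.genus k X)
    (T : ShortComplex X.Modules) (hT : T.ShortExact)
    (r : ℕ) (hr : 0 < r) (hE : FlatMod.IsFinLocFreeOfRank r T.X₂)
    (hst : ModFun.IsSlopeStable k X T.X₂ r)
    (φ : T.X₃ ⟶ T.X₁) : φ = 0 := by
  have hint : AlgebraicGeometry.IsIntegral X :=
    Groth.Agent.Lib.Helper2.DegAdd.isIntegral_of_geometricallyConnected k X hdim
  have hX : Curve.IsSmoothProperCurve k X (X ↘ Spec (CommRingCat.of k)) :=
    ⟨inferInstance, inferInstance, hint, hdim⟩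
  have hne : Nonempty X := inferInstance
  have hsq : (T.g ≫ φ ≫ T.f) ≫ (T.g ≫ φ ≫ T.f) = 0 := by
    simp only [CategoryTheory.Category.assoc, CategoryTheory.ShortComplex.zero_assoc,
      CategoryTheory.Limits.comp_zero, CategoryTheory.Limits.zero_comp]
  have hψ0 : T.g ≫ φ ≫ T.f = 0 := by
    by_contra hne0
    have hiso : CategoryTheory.IsIso (T.g ≫ φ ≫ T.f) :=
      Groth.Agent.S11483.result k X hX r T.X₂ hE
        (fun G s ι hm hG hs hsr => hst G s ι hm hs hsr hG) (T.g ≫ φ ≫ T.f) hne0
    have h2 : CategoryTheory.IsIso ((T.g ≫ φ ≫ T.f) ≫ (T.g ≫ φ ≫ T.f)) := inferInstance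
    rw [hsq] at h2
    have hz : CategoryTheory.Limits.IsZero T.X₂ :=
      ((CategoryTheory.Limits.isIsoZero_iff_source_target_isZero T.X₂ T.X₂).1 h2).1
    have := Groth.Agent.Lib.Helper2.DegAdd.rank_eq_zero_of_isZero hE hz
    omega
  have hepi := hT.epi_g
  have hmono := hT.mono_f
  have h1 : φ ≫ T.f = 0 := by
    rw [← CategoryTheory.cancel_epi T.g]
    simpa using hψ0
  rw [← CategoryTheory.cancel_mono T.f]
  simpa using h1

end Groth.Agent.S16137
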