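import Groth.Statements.S1615


set_option autoImplicit false
universe u
open CategoryTheory CategoryTheory.Limits AlgebraicGeometry
open Constr

namespace Groth.Agent.S1615

/-- For a graded ring A, quasi-compactness of Proj A is equivalent to the existence of finitely many
homogeneous elements of positive degree generating an ideal whose radical contains the irrelevant
ideal A_+. -/
theorem result {R A : Type u} [CommRing R] [CommRing A] [Algebra R A] (𝒜 : ℕ → Submodule R A) [GradedAlgebra 𝒜] :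
    CompactSpace ↥(Proj 𝒜) ↔ ∃ s : Finset A, (∀ f ∈ s, ∃ d : ℕ, 0 < d ∧ f ∈ 𝒜 d) ∧
      (HomogeneousIdeal.irrelevant 𝒜).toIdeal ≤ (Ideal.span (s : Set A)).radical := by
  classical
  constructor
  · intro hc
    -- cover by basic opens of homogeneous elements of positive degree
    have hcov : (Set.univ : Set (Proj 𝒜)) ⊆
        ⋃ i : (Σ i : PNat, 𝒜 i), (Proj.basicOpen 𝒜 (i.2 : A) : Set (Proj 𝒜)) := by
      intro x _
      have hx := (Proj.affineOpenCover 𝒜).covers x
      have h2 : x ∈ (Proj.awayι 𝒜 _ ((Proj.affineOpenCover 𝒜).idx x).2.2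
          ((Proj.affineOpenCover 𝒜).idx x).1.2).opensRange := hx
      rw [Proj.opensRange_awayι] at h2
      exact Set.mem_iUnion.mpr ⟨_, h2⟩
    obtain ⟨t, ht⟩ := isCompact_univ.elim_finite_subcover
      (fun i : (Σ i : PNat, 𝒜 i) => (Proj.basicOpen 𝒜 (i.2 : A) : Set (Proj 𝒜)))
      (fun i => (Proj.basicOpen 𝒜 (i.2 : A)).2) hcov
    refine ⟨t.image (fun i => (i.2 : A)), ?_, ?_⟩
    · intro f hf
      obtain ⟨i, -, rfl⟩ := Finset.mem_image.mp hf
      exact ⟨i.1, i.1.2, i.2.2⟩
    · set I : Ideal A := Ideal.span ((t.image (fun i => (i.2 : A)) : Finset A) : Set A) with hI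
      have hIhom : I.IsHomogeneous 𝒜 := by
        apply Ideal.homogeneous_span
        intro f hf
        obtain ⟨i, -, rfl⟩ := Finset.mem_image.mp (Finset.mem_coe.mp hf)
        exact ⟨i.1, i.2.2⟩
      rw [hIhom.radical_eq]
      intro a ha
      rw [Ideal.mem_sInf]
      rintro J ⟨hJhom, hIJ, hJprime⟩
      by_contra haJ
      have hnot : ¬ HomogeneousIdeal.irrelevant 𝒜 ≤ ⟨J, hJhom⟩ := fun hle => haJ (hle ha)
      let x : Proj 𝒜 := ⟨⟨J, hJhom⟩, hJprime, hnot⟩
      obtain ⟨i, hi, hxi⟩ := Set.mem_iUnion₂.mp (ht (Set.mem_univ x))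
      have hfJ : (i.2 : A) ∉ J := hxi
      apply hfJ
      apply hIJ
      apply Ideal.subset_span
      exact Finset.mem_coe.mpr (Finset.mem_image.mpr ⟨i, hi, rfl⟩)
  · rintro ⟨s, hs, hle⟩
    have hcov : (Set.univ : Set (Proj 𝒜)) = ⋃ f ∈ s, (Proj.basicOpen 𝒜 f : Set (Proj 𝒜)) := by
      apply le_antisymm _ (Set.subset_univ _)
      intro x _
      by_contra hx
      simp only [Set.mem_iUnion, not_exists] at hx
      apply x.not_irrelevant_le
      intro a ha
      have h1 : Ideal.span (s : Set A) ≤ x.asHomogeneousIdeal.toIdeal := by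
        rw [Ideal.span_le]
        intro f hf
        by_contra hfx
        exact hx f (Finset.mem_coe.mp hf) hfx
      have h2 : (Ideal.span (s : Set A)).radical ≤ x.asHomogeneousIdeal.toIdeal :=
        (Ideal.IsPrime.radical_le_iff x.isPrime).mpr h1
      exact h2 (hle ha)
    refine ⟨?_⟩
    rw [hcov]
    refine s.isCompact_biUnion fun f hf => ?_
    obtain ⟨d, hd, hfd⟩ := hs f hf
    exact (Proj.isAffineOpen_basicOpen 𝒜 f hfd hd).isCompact


end Groth.Agent.S1615
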