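import Groth.Statements.S16158
import Mathlib

set_option autoImplicit false
universe u v w
open MadRed

namespace Groth.Agent.S16158

open Submodule

/-- In an internal direct sum, a finite sum of elements from distinct summands vanishes only if
each term does. -/
theorem eq_zero_of_sum_eq_zero {R : Type*} [CommRing R] {M : Type*} [AddCommGroup M] [Module R M]
    {ι : Type*} [DecidableEq ι] (N : ι → Submodule R M) (hN : DirectSum.IsInternal N)
    {κ : Type*} (f : κ → ι) (hf : Function.Injective f) (s : Finset κ) (y : κ → M)
    (hy : ∀ j, y j ∈ N (f j)) (hsum : ∑ j ∈ s, y j = 0) : ∀ j ∈ s, y j = 0 := by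
  classical
  let D : DirectSum.Decomposition N := hN.chooseDecomposition
  intro j hj
  have h1 : ((DirectSum.decompose N (∑ j ∈ s, y j)) (f j) : M) = y j := by
    rw [DirectSum.decompose_sum, DFinsupp.finsetSum_apply, AddSubmonoidClass.coe_finsetSum]
    rw [Finset.sum_eq_single j]
    · exact DirectSum.decompose_of_mem_same N (hy j)
    · intro b _ hb
      exact DirectSum.decompose_of_mem_ne N (hy b) (fun h => hb (hf h))
    · intro h; exact absurd hj h
  rw [hsum] at h1
  simpa using h1.symm

/-- For a prime `p`, the number of summands carrying an element with annihilator `p` is bounded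
by the number of generators of the `p`-torsion. -/
theorem card_le_of_ann_eq {R : Type*} [CommRing R] {M : Type*} [AddCommGroup M] [Module R M]
    {ι : Type*} [DecidableEq ι] (N : ι → Submodule R M) (hN : DirectSum.IsInternal N)
    (p : Ideal R) [p.IsPrime] (w : Finset (torsionBySet R M p))
    (hw : span (R ⧸ p) (w : Set (torsionBySet R M p)) = ⊤)
    (J : Set ι) (X : ι → M) (hX : ∀ i ∈ J, X i ∈ N i) (hann : ∀ i ∈ J, ∀ r : R, r ∈ p ↔ r • X i = 0) :
    J.Finite ∧ J.ncard ≤ w.card := by
  classical
  have hmem : ∀ i : J, X i ∈ torsionBySet R M p := by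
    intro i
    rw [mem_torsionBySet_iff]
    intro a
    exact (hann i i.2 a).mp a.2
  let v : J → torsionBySet R M p := fun i => ⟨X i, hmem i⟩
  have hli : LinearIndependent (R ⧸ p) v := by
    rw [linearIndependent_iff']
    intro s c hc i hi
    have hlift : ∀ j : J, ∃ r : R, Ideal.Quotient.mk p r = c j :=
      fun j => Ideal.Quotient.mk_surjective (c j)
    choose c' hc' using hlift
    have hsum : ∑ j ∈ s, c' j • X j = 0 := by
      have := congrArg (Subtype.val) hc
      simp only [ZeroMemClass.coe_zero, AddSubmonoidClass.coe_finsetSum] at this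
      rw [← this]
      apply Finset.sum_congr rfl
      intro j _
      rw [← hc' j]
      rfl
    have := eq_zero_of_sum_eq_zero N hN (fun j : J => (j : ι)) Subtype.val_injective s
      (fun j => c' j • X j) (fun j => (N j).smul_mem _ (hX j j.2)) hsum i hi
    have h2 : c' i ∈ p := (hann i i.2 (c' i)).mpr this
    rw [← hc' i]
    exact Ideal.Quotient.eq_zero_iff_mem.mpr h2
  have hcard := linearIndependent_le_span_finset v hli w hw
  have hfin : Finite J := by
    rw [← Cardinal.lt_aleph0_iff_finite]
    exact hcard.trans_lt Cardinal.natCast_lt_aleph0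
  refine ⟨Set.toFinite J, ?_⟩
  have := Cardinal.toNat_le_toNat hcard Cardinal.natCast_lt_aleph0
  rw [Cardinal.toNat_natCast] at this
  exact this


/-- Let R be a commutative Noetherian ring and M a finitely generated R-module. Then there is a natural
number n such that in every decomposition of M as an internal direct sum of a family of submodules,
at most n of the summands are nonzero (the nonzero summands are indexed by a finite set of size at
most n). -/
theorem result (R : Type u) [CommRing R] [IsNoetherianRing R]
    (M : Type v) [AddCommGroup M] [Module R M] [Module.Finite R M] :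
    ∃ n : ℕ, ∀ (ι : Type w) [DecidableEq ι] (N : ι → Submodule R M), DirectSum.IsInternal N →
      ∃ s : Finset ι, s.card ≤ n ∧ ∀ i, N i ≠ ⊥ → i ∈ s := by
  classical
  have hfg : ∀ p : Ideal R, ∃ w : Finset (torsionBySet R M p),
      span (R ⧸ p) (w : Set (torsionBySet R M p)) = ⊤ := by
    intro p
    have h1 : Module.Finite R (torsionBySet R M p) := inferInstance
    have h2 : Module.Finite (R ⧸ p) (torsionBySet R M p) :=
      Module.Finite.of_restrictScalars_finite R (R ⧸ p) _
    exact h2.fg_top
  choose W hW using hfg
  have hAssFin := associatedPrimes.finite R M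
  refine ⟨∑ p ∈ hAssFin.toFinset, (W p).card, ?_⟩
  intro ι _ N hN
  -- choose a prime and an element for each nonzero summand
  have hchoice : ∀ i : ι, ∃ (p : Ideal R) (x : M), N i ≠ ⊥ →
      (p ∈ associatedPrimes R M ∧ x ∈ N i ∧ ∀ r : R, r ∈ p ↔ r • x = 0) := by
    intro i
    by_cases hi : N i = ⊥
    · exact ⟨⊥, 0, fun h => absurd hi h⟩
    · have hnt : Nontrivial (N i) := Submodule.nontrivial_iff_ne_bot.mpr hi
      obtain ⟨p, hp⟩ := associatedPrimes.nonempty R (N i)
      have hpM : p ∈ associatedPrimes R M :=
        associatedPrimes.subset_of_injective (f := (N i).subtype) (N i).subtype_injective hp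
      obtain ⟨hpp, x, hx⟩ := isAssociatedPrime_iff.mp hp
      refine ⟨p, x.1, fun _ => ⟨hpM, x.2, fun r => ?_⟩⟩
      rw [hx, mem_colon_singleton, mem_bot]
      constructor
      · intro h; have := congrArg Subtype.val h; simpa using this
      · intro h; apply Subtype.ext; simpa using h
  choose P X hPX using hchoice
  let Jp : Ideal R → Set ι := fun p => {i | N i ≠ ⊥ ∧ P i = p}
  have hJ : ∀ p ∈ associatedPrimes R M, (Jp p).Finite ∧ (Jp p).ncard ≤ (W p).card := by
    intro p hp
    have : p.IsPrime := hp.isPrime
    apply card_le_of_ann_eq N hN p (W p) (hW p) (Jp p) X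
    · intro i hi
      exact (hPX i hi.1).2.1
    · intro i hi r
      rw [← hi.2]
      exact (hPX i hi.1).2.2 r
  let T : Ideal R → Finset ι := fun p =>
    if h : (Jp p).Finite then h.toFinset else ∅
  refine ⟨hAssFin.toFinset.biUnion T, ?_, ?_⟩
  · refine Finset.card_biUnion_le.trans (Finset.sum_le_sum ?_)
    intro p hp
    have hp' : p ∈ associatedPrimes R M := hAssFin.mem_toFinset.mp hp
    obtain ⟨h1, h2⟩ := hJ p hp'
    simp only [T, dif_pos h1]
    rw [← Set.ncard_eq_toFinset_card _ h1]
    exact h2
  · intro i hi
    rw [Finset.mem_biUnion]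
    have hp' : P i ∈ associatedPrimes R M := (hPX i hi).1
    refine ⟨P i, hAssFin.mem_toFinset.mpr hp', ?_⟩
    obtain ⟨h1, _⟩ := hJ (P i) hp'
    simp only [T, dif_pos h1]
    rw [Set.Finite.mem_toFinset]
    exact ⟨hi, rfl⟩

end Groth.Agent.S16158
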