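import Groth.Statements.S16159
import Mathlib

set_option autoImplicit false
universe u v w x
open MadRed

namespace Groth.Agent.S16159
open Module.End
section Aux
open Module.End

variable {k : Type*} [Field k] {V : Type*} [AddCommGroup V] [Module k V]

lemma aeval_eig (g : Module.End k V) (q : Polynomial k) (ν : k) (y : V)
    (hy : y ∈ eigenspace g ν) : Polynomial.aeval g q y = q.eval ν • y := by
  by_cases h0 : y = 0
  · simp [h0]
  · exact Module.End.aeval_apply_of_hasEigenvector ⟨hy, h0⟩

/-- Lagrange: invariant subspace inherits eigen-decomposition. -/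
lemma mem_iSup_inf_eigenspace (g : Module.End k V) (p : Submodule k V) (hp : ∀ x ∈ p, g x ∈ p)
    (x : V) (hx : x ∈ p) (hx' : x ∈ ⨆ μ : k, eigenspace g μ) :
    x ∈ ⨆ μ : k, p ⊓ eigenspace g μ := by
  classical
  rw [Submodule.mem_iSup_iff_exists_finsupp] at hx'
  obtain ⟨c, hc, rfl⟩ := hx'
  have key : ∀ μ ∈ c.support, c μ ∈ p := by
    intro μ hμ
    have h1 : Polynomial.aeval g (∏ ν ∈ c.support.erase μ, (Polynomial.X - Polynomial.C ν))
        (c.sum fun _ xi => xi) ∈ p :=
      Polynomial.aeval_apply_smul_mem_of_le_comap hx _ g (fun y hy => hp y hy)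
    have h2 : Polynomial.aeval g (∏ ν ∈ c.support.erase μ, (Polynomial.X - Polynomial.C ν))
        (c.sum fun _ xi => xi)
        = (∏ ν ∈ c.support.erase μ, (Polynomial.X - Polynomial.C ν)).eval μ • c μ := by
      rw [Finsupp.sum, map_sum]
      rw [Finset.sum_eq_single μ]
      · exact aeval_eig g _ μ _ (hc μ)
      · intro ν hν hνμ
        rw [aeval_eig g _ ν _ (hc ν)]
        have : (∏ ν ∈ c.support.erase μ, (Polynomial.X - Polynomial.C ν)).eval ν = 0 := by
          rw [Polynomial.eval_prod]
          apply Finset.prod_eq_zero (Finset.mem_erase.2 ⟨hνμ, hν⟩)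
          simp
        rw [this, zero_smul]
      · intro h; exact absurd hμ h
    have h3 : (∏ ν ∈ c.support.erase μ, (Polynomial.X - Polynomial.C ν)).eval μ ≠ 0 := by
      rw [Polynomial.eval_prod]
      apply Finset.prod_ne_zero_iff.2
      intro ν hν
      simp only [Polynomial.eval_sub, Polynomial.eval_X, Polynomial.eval_C]
      exact sub_ne_zero.2 (Finset.ne_of_mem_erase hν).symm
    have : c μ = ((∏ ν ∈ c.support.erase μ, (Polynomial.X - Polynomial.C ν)).eval μ)⁻¹ •
        ((∏ ν ∈ c.support.erase μ, (Polynomial.X - Polynomial.C ν)).eval μ • c μ) := by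
      rw [smul_smul, inv_mul_cancel₀ h3, one_smul]
    rw [this, ← h2]
    exact p.smul_mem _ h1
  rw [Finsupp.sum]
  apply Submodule.sum_mem
  intro μ hμ
  exact Submodule.mem_iSup_of_mem μ ⟨key μ hμ, hc μ⟩

variable {R : Type*} [CommRing R] [Algebra k R] [Module R V] [IsScalarTower k R V]

lemma noeth_case [IsNoetherian R V] {ι : Type*} (f : ι → Module.End R V)
    (hcomm : ∀ i j, Commute (f i) (f j))
    (hdiag : ∀ i, ⨆ μ : k, eigenspace ((f i).restrictScalars k) μ = ⊤) :
    ⨆ χ : ι → k, ⨅ i, eigenspace ((f i).restrictScalars k) (χ i) = ⊤ := by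
  classical
  have claim : ∀ C : Submodule R V, ∀ U : Submodule R V, (∀ i, ∀ u ∈ U, f i u ∈ U) →
      Disjoint U C →
      ∀ u ∈ U, u ∈ ⨆ χ : ι → k, ⨅ i, eigenspace ((f i).restrictScalars k) (χ i) := by
    intro C
    induction C using WellFoundedGT.induction with
    | ind C ih =>
    intro U hU hUC
    by_cases hA : ∀ i, ∃ μ : k, ∀ u ∈ U, f i u = μ • u
    · choose χ hχ using hA
      intro u hu
      apply Submodule.mem_iSup_of_mem χ
      rw [Submodule.mem_iInf]
      intro i
      rw [mem_eigenspace_iff]
      exact hχ i u hu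
    · push_neg at hA
      obtain ⟨i, hi⟩ := hA
      have hdec : ∀ u ∈ U, u ∈ ⨆ μ : k, (U.restrictScalars k) ⊓
          eigenspace ((f i).restrictScalars k) μ := by
        intro u hu
        apply mem_iSup_inf_eigenspace ((f i).restrictScalars k) (U.restrictScalars k)
          (fun x hx => hU i x hx) u hu
        rw [hdiag i]; trivial
      intro u hu
      have hpiece : ∀ μ : k, (U.restrictScalars k) ⊓ eigenspace ((f i).restrictScalars k) μ ≤
          ⨆ χ : ι → k, ⨅ i, eigenspace ((f i).restrictScalars k) (χ i) := by
        intro μ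
        let eigR : k → Submodule R V :=
          fun ν => LinearMap.ker (f i - algebraMap k R ν • LinearMap.id)
        have mem_eigR : ∀ ν (v : V), v ∈ eigR ν ↔ f i v = ν • v := by
          intro ν v
          simp only [eigR, LinearMap.mem_ker, LinearMap.sub_apply, LinearMap.smul_apply,
            LinearMap.id_apply, algebraMap_smul, sub_eq_zero]
        have mem_E : ∀ ν (v : V), v ∈ eigenspace ((f i).restrictScalars k) ν ↔ f i v = ν • v := by
          intro ν v
          rw [mem_eigenspace_iff]
          rfl
        have hCC' : C < C ⊔ ⨆ ν : k, ⨆ (_ : ν ≠ μ), U ⊓ eigR ν := by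
          refine lt_of_le_of_ne le_sup_left ?_
          intro heq
          obtain ⟨u0, hu0, hne⟩ := hi μ
          apply hne
          have hle : ∀ ν : k, (U.restrictScalars k) ⊓ eigenspace ((f i).restrictScalars k) ν ≤
              eigenspace ((f i).restrictScalars k) μ := by
            intro ν
            by_cases hν : ν = μ
            · rw [hν]; exact inf_le_right
            · intro y hy
              have hyC : y ∈ C := by
                rw [heq]
                apply Submodule.mem_sup_right
                apply Submodule.mem_iSup_of_mem ν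
                apply Submodule.mem_iSup_of_mem hν
                exact ⟨hy.1, (mem_eigR ν y).2 ((mem_E ν y).1 hy.2)⟩
              have h0 : y ∈ U ⊓ C := ⟨hy.1, hyC⟩
              rw [hUC.eq_bot] at h0
              rw [(Submodule.mem_bot R).1 h0]
              exact Submodule.zero_mem _
          have h1 := (iSup_le hle) (hdec u0 hu0)
          exact (mem_E μ u0).1 h1
        have hU'st : ∀ j, ∀ u ∈ U ⊓ eigR μ, f j u ∈ U ⊓ eigR μ := by
          intro j u hu
          refine ⟨hU j u hu.1, (mem_eigR μ _).2 ?_⟩
          have h1 : f i u = μ • u := (mem_eigR μ u).1 hu.2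
          have h2 : f i (f j u) = f j (f i u) := DFunLike.congr_fun (hcomm i j).eq u
          rw [h2, h1, ← algebraMap_smul R μ u, map_smul, algebraMap_smul]
        have hdisj : Disjoint (U ⊓ eigR μ) (C ⊔ ⨆ ν : k, ⨆ (_ : ν ≠ μ), U ⊓ eigR ν) := by
          rw [Submodule.disjoint_def]
          intro x hxU' hxC'
          obtain ⟨c, hc, y, hy, rfl⟩ := Submodule.mem_sup.1 hxC'
          have hy2 : y ∈ U ∧ y ∈ ⨆ ν : k, ⨆ (_ : ν ≠ μ),
              eigenspace ((f i).restrictScalars k) ν := by
            refine Submodule.iSup_induction _ (motive := fun y => y ∈ U ∧ y ∈ ⨆ ν : k,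
              ⨆ (_ : ν ≠ μ), eigenspace ((f i).restrictScalars k) ν) hy ?_ ?_ ?_
            · intro ν z hz
              by_cases hν : ν = μ
              · simp only [hν, ne_eq, not_true_eq_false, iSup_false, Submodule.mem_bot] at hz
                rw [hz]; exact ⟨U.zero_mem, Submodule.zero_mem _⟩
              · simp only [hν, ne_eq, not_false_eq_true, iSup_pos] at hz
                exact ⟨hz.1, Submodule.mem_iSup_of_mem ν (Submodule.mem_iSup_of_mem hν
                  ((mem_E ν z).2 ((mem_eigR ν z).1 hz.2)))⟩
            · exact ⟨U.zero_mem, Submodule.zero_mem _⟩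
            · intro a b ha hb
              exact ⟨U.add_mem ha.1 hb.1, Submodule.add_mem _ ha.2 hb.2⟩
          have hc0 : c = 0 := by
            have hcU : c ∈ U := by
              have : c = (c + y) - y := by abel
              rw [this]; exact U.sub_mem hxU'.1 hy2.1
            have h0 : c ∈ U ⊓ C := ⟨hcU, hc⟩
            rw [hUC.eq_bot] at h0
            exact (Submodule.mem_bot R).1 h0
          rw [hc0, zero_add] at hxU' ⊢
          have hind := (Module.End.eigenspaces_iSupIndep ((f i).restrictScalars k)) μ
          have hyE : y ∈ eigenspace ((f i).restrictScalars k) μ :=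
            (mem_E μ y).2 ((mem_eigR μ y).1 hxU'.2)
          exact (Submodule.disjoint_def.1 hind) y hyE hy2.2
        intro y hy
        exact ih _ hCC' (U ⊓ eigR μ) hU'st hdisj y ⟨hy.1, (mem_eigR μ y).2 ((mem_E μ y).1 hy.2)⟩
      exact (iSup_le hpiece) (hdec u hu)
  rw [eq_top_iff]
  intro v _
  exact claim ⊥ ⊤ (fun _ _ _ => trivial) disjoint_bot_right v trivial

end Aux


/-- Let k be a field, R a commutative Noetherian k-algebra and V an R-module, viewed also as a k-vector
space through k → R. Let (f_i) be a family of pairwise commuting R-linear endomorphisms of V such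
that each f_i, as a k-linear map, is diagonalizable over k (its eigenspaces span V), and such that
every vector of V lies in a finitely generated R-submodule stable under every f_i. Then the family
is simultaneously diagonalizable over k: the common eigenspaces ⨅_i Eig(f_i, χ(i)), over all
assignments χ of eigenvalues in k, span V. The source states this for the endomorphisms given by an
abelian group acting R-linearly; the row takes any commuting family, which is what the argument
uses, and neither k algebraically closed nor of characteristic zero is needed. -/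
theorem result
    (k : Type u) [Field k] (R : Type v) [CommRing R] [Algebra k R] [IsNoetherianRing R]
    (V : Type w) [AddCommGroup V] [Module R V] [Module k V] [IsScalarTower k R V]
    (ι : Type x) (f : ι → Module.End R V)
    (hcomm : ∀ i j, Commute (f i) (f j))
    (hdiag : ∀ i, ⨆ μ : k, Module.End.eigenspace ((f i).restrictScalars k) μ = ⊤)
    (hfin : ∀ v : V, ∃ W : Submodule R V, v ∈ W ∧ W.FG ∧ ∀ i, ∀ w ∈ W, f i w ∈ W) :
    ⨆ χ : ι → k, ⨅ i, Module.End.eigenspace ((f i).restrictScalars k) (χ i) = ⊤ := by
  classical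
  rw [eq_top_iff]
  intro v _
  obtain ⟨W, hvW, hWfg, hWst⟩ := hfin v
  haveI : IsNoetherian R W := isNoetherian_of_fg_of_noetherian W hWfg
  let fW : ι → Module.End R W := fun i => (f i).restrict (hWst i)
  have hcommW : ∀ i j, Commute (fW i) (fW j) := by
    intro i j
    apply LinearMap.ext
    intro w
    apply Subtype.ext
    exact DFunLike.congr_fun (hcomm i j).eq w.1
  have hdiagW : ∀ i, ⨆ μ : k, eigenspace ((fW i).restrictScalars k) μ = ⊤ := by
    intro i
    rw [eq_top_iff]
    intro w _
    have h1 : (w : V) ∈ ⨆ μ : k, (W.restrictScalars k) ⊓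
        eigenspace ((f i).restrictScalars k) μ :=
      mem_iSup_inf_eigenspace _ _ (fun x hx => hWst i x hx) w.1 w.2 (by rw [hdiag i]; trivial)
    have h2 : ∃ hx : (w : V) ∈ W, (⟨w.1, hx⟩ : W) ∈ ⨆ μ : k,
        eigenspace ((fW i).restrictScalars k) μ := by
      refine Submodule.iSup_induction _ (motive := fun x => ∃ hx : x ∈ W, (⟨x, hx⟩ : W) ∈
        ⨆ μ : k, eigenspace ((fW i).restrictScalars k) μ) h1 ?_ ?_ ?_
      · intro μ x hx
        refine ⟨hx.1, Submodule.mem_iSup_of_mem μ ?_⟩
        rw [mem_eigenspace_iff]
        apply Subtype.ext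
        exact mem_eigenspace_iff.1 hx.2
      · exact ⟨W.zero_mem, Submodule.zero_mem _⟩
      · rintro a b ⟨ha, ha'⟩ ⟨hb, hb'⟩
        exact ⟨W.add_mem ha hb, Submodule.add_mem _ ha' hb'⟩
    obtain ⟨_, h⟩ := h2
    exact h
  have hW := noeth_case fW hcommW hdiagW
  have hw : (⟨v, hvW⟩ : W) ∈ ⨆ χ : ι → k, ⨅ i, eigenspace ((fW i).restrictScalars k) (χ i) := by
    rw [hW]; trivial
  refine Submodule.iSup_induction _ (motive := fun w : W => (w : V) ∈ ⨆ χ : ι → k, ⨅ i,
    eigenspace ((f i).restrictScalars k) (χ i)) hw ?_ ?_ ?_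
  · intro χ w hw
    apply Submodule.mem_iSup_of_mem χ
    rw [Submodule.mem_iInf] at hw ⊢
    intro i
    rw [mem_eigenspace_iff]
    have := mem_eigenspace_iff.1 (hw i)
    exact congrArg Subtype.val this
  · exact Submodule.zero_mem _
  · intro a b ha hb
    exact Submodule.add_mem _ ha hb

end Groth.Agent.S16159
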