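import Groth.Statements.S16160
import Mathlib
import Groth.Agent.S16159

set_option autoImplicit false
universe u v w
open scoped TensorProduct
open MadRed

namespace Groth.Agent.S16160
section Aux
open TensorProduct Coalgebra WithConv

variable {k : Type*} [Field k] {A : Type*} [CommRing A] [Bialgebra k A] {R : Type*} [CommRing R]
  [Algebra k R]

lemma ptAct_tmul (g : A →ₐ[k] R) (r : R) (a : A) {ι : Type*} (𝓡 : Coalgebra.Repr k a ι) :
    MadRed.ptAct k A R g (r ⊗ₜ[k] a) = ∑ i ∈ 𝓡.index, (r * g (𝓡.right i)) ⊗ₜ[k] 𝓡.left i := by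
  rw [MadRed.ptAct, Algebra.TensorProduct.lift_tmul, MadRed.translAux]
  simp only [AlgHom.comp_apply, Bialgebra.comulAlgHom_apply, AlgEquiv.toAlgHom_eq_coe,
    AlgHom.coe_coe]
  rw [← 𝓡.eq, map_sum, map_sum, Finset.mul_sum]
  apply Finset.sum_congr rfl
  intro i _
  simp [Algebra.TensorProduct.tmul_mul_tmul]

lemma ptAct_comp (g h : A →ₐ[k] R) (x : R ⊗[k] A) :
    MadRed.ptAct k A R h (MadRed.ptAct k A R g x) =
      MadRed.ptAct k A R (ofConv (toConv h * toConv g)) x := by
  induction x using TensorProduct.induction_on with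
  | zero => simp
  | add x y hx hy => rw [map_add, map_add, map_add, hx, hy]
  | tmul r a =>
    set 𝓡 := Coalgebra.Repr.arbitrary k a
    set a₁ := fun i => Coalgebra.Repr.arbitrary k (𝓡.left i)
    set a₂ := fun i => Coalgebra.Repr.arbitrary k (𝓡.right i)
    rw [ptAct_tmul g r a 𝓡, map_sum]
    rw [ptAct_tmul _ r a 𝓡]
    have e1 : ∀ i ∈ 𝓡.index, MadRed.ptAct k A R h ((r * g (𝓡.right i)) ⊗ₜ[k] 𝓡.left i) =
        ∑ j ∈ (a₁ i).index, (r * g (𝓡.right i) * h ((a₁ i).right j)) ⊗ₜ[k] (a₁ i).left j :=
      fun i _ => ptAct_tmul h _ _ (a₁ i)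
    rw [Finset.sum_congr rfl e1]
    have e2 : ∀ i, (ofConv (toConv h * toConv g)) (𝓡.right i) =
        ∑ j ∈ (a₂ i).index, h ((a₂ i).left j) * g ((a₂ i).right j) := by
      intro i
      have := AlgHom.convMul_apply (toConv h) (toConv g) (𝓡.right i)
      rw [← (a₂ i).eq, map_sum] at this
      simpa [Algebra.TensorProduct.lift_tmul] using this
    simp only [e2, Finset.mul_sum, TensorProduct.sum_tmul]
    have key := Coalgebra.sum_tmul_tmul_eq 𝓡 a₁ a₂
    let μ : A ⊗[k] A →ₗ[k] R := (LinearMap.mulLeft k r) ∘ₗ
      (Algebra.TensorProduct.lift h g (fun _ _ => Commute.all _ _)).toLinearMap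
    have key2 := congrArg ((TensorProduct.comm k A R).toLinearMap ∘ₗ
      (TensorProduct.map LinearMap.id μ)) key
    simp only [map_sum, LinearMap.comp_apply, TensorProduct.map_tmul, LinearMap.id_apply,
      LinearEquiv.coe_coe, TensorProduct.comm_tmul, μ, LinearMap.mulLeft_apply,
      AlgHom.toLinearMap_apply, Algebra.TensorProduct.lift_tmul] at key2
    rw [← key2]
    apply Finset.sum_congr rfl
    intro i _
    apply Finset.sum_congr rfl
    intro j _
    congr 1
    ring

lemma locfin [IsNoetherianRing R] (x : R ⊗[k] A) :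
    ∃ W : Submodule R (R ⊗[k] A), x ∈ W ∧ W.FG ∧
      ∀ g : A →ₐ[k] R, ∀ w ∈ W, MadRed.ptAct k A R g w ∈ W := by
  classical
  have hQ : ∃ T : Finset (R ⊗[k] A), ∀ g : A →ₐ[k] R,
      MadRed.ptAct k A R g x ∈ Submodule.span R (T : Set (R ⊗[k] A)) := by
    induction x using TensorProduct.induction_on with
    | zero => exact ⟨∅, fun g => by simp⟩
    | add x y hx hy =>
      obtain ⟨T1, h1⟩ := hx
      obtain ⟨T2, h2⟩ := hy
      refine ⟨T1 ∪ T2, fun g => ?_⟩
      rw [map_add]
      apply Submodule.add_mem
      · exact Submodule.span_mono (by simp) (h1 g)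
      · exact Submodule.span_mono (by simp) (h2 g)
    | tmul r a =>
      refine ⟨(Coalgebra.Repr.arbitrary k a).index.image
        (fun i => (1 : R) ⊗ₜ[k] (Coalgebra.Repr.arbitrary k a).left i), fun g => ?_⟩
      rw [ptAct_tmul g r a (Coalgebra.Repr.arbitrary k a)]
      apply Submodule.sum_mem
      intro i hi
      have : (r * g ((Coalgebra.Repr.arbitrary k a).right i)) ⊗ₜ[k]
          (Coalgebra.Repr.arbitrary k a).left i =
          (r * g ((Coalgebra.Repr.arbitrary k a).right i)) •
            ((1 : R) ⊗ₜ[k] (Coalgebra.Repr.arbitrary k a).left i) := by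
        rw [TensorProduct.smul_tmul', smul_eq_mul, mul_one]
      rw [this]
      apply Submodule.smul_mem
      apply Submodule.subset_span
      exact Finset.mem_coe.2 (Finset.mem_image_of_mem _ hi)
  obtain ⟨T, hT⟩ := hQ
  refine ⟨Submodule.span R (insert x (Set.range fun g : A →ₐ[k] R => MadRed.ptAct k A R g x)),
    Submodule.subset_span (Set.mem_insert _ _), ?_, ?_⟩
  · have hfg : (Submodule.span R ((insert x T : Finset (R ⊗[k] A)) : Set (R ⊗[k] A))).FG :=
      Submodule.fg_span (Finset.finite_toSet _)
    have hnoeth := isNoetherian_of_fg_of_noetherian _ hfg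
    refine (isNoetherian_submodule.1 hnoeth) _ ?_
    rw [Submodule.span_le]
    rintro y (rfl | ⟨g, rfl⟩)
    · exact Submodule.subset_span (by simp)
    · exact Submodule.span_mono (by simp) (hT g)
  · intro h w hw
    induction hw using Submodule.span_induction with
    | mem y hy =>
      rcases hy with rfl | ⟨g, rfl⟩
      · exact Submodule.subset_span (Set.mem_insert_of_mem _ ⟨h, rfl⟩)
      · rw [ptAct_comp]
        exact Submodule.subset_span (Set.mem_insert_of_mem _ ⟨_, rfl⟩)
    | zero => simp
    | add a b _ _ ha hb => rw [map_add]; exact Submodule.add_mem _ ha hb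
    | smul c a _ ha => rw [map_smul]; exact Submodule.smul_mem _ _ ha

end Aux


/-- Let k be a field, G = Spec A an affine k-group with A a commutative Hopf algebra over k, and R a
commutative Noetherian k-algebra, so that R ⊗ A is the coordinate ring of the base change G_R and
the k-algebra maps A → R are its R-valued points. Let H be a set of R-valued points which pairwise
commute for the convolution product of G(R) (the case of an abelian subgroup of G(R)). If every g in
H is diagonalizable over k on R ⊗ A, meaning that the eigenspaces of right translation by g, for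
eigenvalues in k, span R ⊗ A, then H is simultaneously diagonalizable over k on R ⊗ A: the common
eigenspaces of the right translations by all g in H span R ⊗ A. The standing assumptions of the
source at this point (k algebraically closed of characteristic zero, G reductive) are not used. -/
theorem result (k : Type u) [Field k]
    (A : Type v) [CommRing A] [HopfAlgebra k A] (R : Type w) [CommRing R] [Algebra k R]
    [IsNoetherianRing R] (H : Set (A →ₐ[k] R))
    (hcomm : ∀ g ∈ H, ∀ h ∈ H,
      WithConv.toConv g * WithConv.toConv h = WithConv.toConv h * WithConv.toConv g)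
    (hdiag : ∀ g ∈ H, ⨆ μ : k,
      Module.End.eigenspace (((MadRed.ptAct k A R g).toLinearMap).restrictScalars k) μ = ⊤) :
    ⨆ χ : H → k, ⨅ g : H,
      Module.End.eigenspace (((MadRed.ptAct k A R g.1).toLinearMap).restrictScalars k) (χ g) = ⊤ := by
  classical
  have hcommP : ∀ g ∈ H, ∀ h ∈ H, ∀ x, MadRed.ptAct k A R g (MadRed.ptAct k A R h x) =
      MadRed.ptAct k A R h (MadRed.ptAct k A R g x) := by
    intro g hg h hh x
    rw [ptAct_comp, ptAct_comp, hcomm g hg h hh]
  exact Groth.Agent.S16159.result k R (R ⊗[k] A) H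
    (fun g => (MadRed.ptAct k A R g.1).toLinearMap)
    (fun g h => LinearMap.ext fun x => hcommP g.1 g.2 h.1 h.2 x)
    (fun g => hdiag g.1 g.2)
    (fun v => by
      obtain ⟨W, h1, h2, h3⟩ := locfin (k := k) (A := A) v
      exact ⟨W, h1, h2, fun g w hw => h3 g.1 w hw⟩)

end Groth.Agent.S16160
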