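import Groth.Statements.S16161
import Groth.Agent.Lib.Helper22.EigenSplit
import Mathlib.RingTheory.RootsOfUnity.AlgebraicallyClosed
import Mathlib.RingTheory.Polynomial.Cyclotomic.Basic

set_option autoImplicit false
universe u v
open MadRed

namespace Groth.Agent.S16161

/-- Let k be an algebraically closed field of characteristic zero and R a reduced finitely generated
commutative k-algebra whose spectrum is connected (R has no idempotents besides 0 and 1); let W =
R^n be a free R-module of finite rank and g an R-linear endomorphism of W of finite order, g^m = 1
with m > 0 (an element of finite order of GL(W)(R)). Then the action of g on W is diagonalizable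
over k: viewing g as a k-linear map, its eigenspaces for eigenvalues in k span W. The source also
assumes that g is diagonalizable over k on every fibre W ⊗ k(x), x a point of Spec R; for g of
finite order this holds automatically (k is algebraically closed of characteristic zero), as the
source itself notes, so that hypothesis is omitted. -/
theorem result
    (k : Type u) [Field k] [IsAlgClosed k] [CharZero k]
    (R : Type v) [CommRing R] [Algebra k R] [IsReduced R] [Algebra.FiniteType k R]
    (hconn : ∀ e : R, IsIdempotentElem e → e = 0 ∨ e = 1)
    (n : ℕ) (g : Module.End R (Fin n → R)) (m : ℕ) (hm : 0 < m) (hg : g ^ m = 1) :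
    ⨆ μ : k, Module.End.eigenspace (g.restrictScalars k) μ = ⊤ := by
  classical
  have : NeZero (m : k) := ⟨Nat.cast_ne_zero.mpr (Nat.pos_iff_ne_zero.mp hm)⟩
  obtain ⟨ζ, hζ⟩ := HasEnoughRootsOfUnity.exists_primitiveRoot k m
  have hprod := Polynomial.X_pow_sub_one_eq_prod hm hζ
  apply Groth.Agent.Lib.Helper22.iSup_eigenspace_eq_top_of_aeval_prod_eq_zero
    (g.restrictScalars k) (Polynomial.nthRootsFinset m (1 : k))
  rw [← hprod, map_sub, map_pow, Polynomial.aeval_X, map_one]
  have hpow : ∀ j : ℕ, ∀ v, ((g.restrictScalars k) ^ j) v = (g ^ j) v := by
    intro j
    induction j with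
    | zero => intro v; simp
    | succ j ih =>
      intro v
      rw [pow_succ, pow_succ, Module.End.mul_apply, Module.End.mul_apply, ih]
      rfl
  refine LinearMap.ext fun v => ?_
  rw [LinearMap.sub_apply, hpow, hg]
  simp

end Groth.Agent.S16161
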