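import Groth.Statements.S16164
import Groth.Agent.Lib.Helper22.Eichler
import Mathlib.Data.Matrix.Block
import Mathlib.Data.Matrix.ColumnRowPartitioned
import Mathlib.LinearAlgebra.Matrix.Symmetric
import Mathlib.LinearAlgebra.Matrix.ToLin

set_option autoImplicit false
open Neron

namespace Groth.Agent.S16164

/-- Let X, Y₁, Y₂ be finitely generated free abelian groups with chosen bases, so that homomorphisms are
integer matrices acting on column vectors and each group is identified with its dual; let P : X → Y₁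
and Q : X → Y₂ be surjective with A = (P over Q) : X → Y₁ ⊕ Y₂ injective, and let Ψ₁, Ψ₂ be
symmetric positive-definite integer matrices on Y₁ and Y₂, Ψ their block-diagonal sum. If the image
of Aᵀ Ψ : Y₁ ⊕ Y₂ → X coincides with the image of Aᵀ Ψ A : X → X (the reverse inclusion always
holds), then A is bijective. (In the source X, Y₁, Y₂ are character groups of maximal tori, P and Q
specialization maps, Ψ₁ and Ψ₂ monodromy pairings, and the hypothesis expresses that two groups of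
components coincide.) -/
theorem result
    {ι κ₁ κ₂ : Type} [Fintype ι] [Fintype κ₁] [Fintype κ₂]
    (P : Matrix κ₁ ι ℤ) (Q : Matrix κ₂ ι ℤ)
    (hP : Function.Surjective P.mulVec) (hQ : Function.Surjective Q.mulVec)
    (hA : Function.Injective (Matrix.fromRows P Q).mulVec)
    (Ψ₁ : Matrix κ₁ κ₁ ℤ) (Ψ₂ : Matrix κ₂ κ₂ ℤ) (hΨ₁ : Ψ₁.IsSymm) (hΨ₂ : Ψ₂.IsSymm)
    (hΨ₁pos : ∀ y : κ₁ → ℤ, y ≠ 0 → 0 < y ⬝ᵥ Ψ₁.mulVec y)
    (hΨ₂pos : ∀ y : κ₂ → ℤ, y ≠ 0 → 0 < y ⬝ᵥ Ψ₂.mulVec y)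
    (himage : LinearMap.range ((Matrix.fromRows P Q).transpose * Matrix.fromBlocks Ψ₁ 0 0 Ψ₂).mulVecLin =
      LinearMap.range ((Matrix.fromRows P Q).transpose * Matrix.fromBlocks Ψ₁ 0 0 Ψ₂ * Matrix.fromRows P Q).mulVecLin) :
    Function.Bijective (Matrix.fromRows P Q).mulVec := by
  classical
  refine ⟨hA, ?_⟩
  set A : Matrix (κ₁ ⊕ κ₂) ι ℤ := Matrix.fromRows P Q with hAdef
  set Ψ : Matrix (κ₁ ⊕ κ₂) (κ₁ ⊕ κ₂) ℤ := Matrix.fromBlocks Ψ₁ 0 0 Ψ₂ with hΨdef
  let b : (κ₁ ⊕ κ₂ → ℤ) → (κ₁ ⊕ κ₂ → ℤ) → ℤ := fun y z => y ⬝ᵥ Ψ.mulVec z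
  have hΨsymm : Ψ.transpose = Ψ := Matrix.IsSymm.fromBlocks hΨ₁ (by simp) hΨ₂
  -- formula for `b`
  have hb : ∀ y z : κ₁ ⊕ κ₂ → ℤ, b y z =
      (y ∘ Sum.inl) ⬝ᵥ Ψ₁.mulVec (z ∘ Sum.inl) + (y ∘ Sum.inr) ⬝ᵥ Ψ₂.mulVec (z ∘ Sum.inr) := by
    intro y z
    change y ⬝ᵥ Ψ.mulVec z = _
    rw [hΨdef, Matrix.fromBlocks_mulVec]
    conv_lhs => rw [← Sum.elim_comp_inl_inr y]
    rw [sumElim_dotProduct_sumElim]
    simp
  have badd_left : ∀ x y z, b (x + y) z = b x z + b y z := by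
    intro x y z
    change (x + y) ⬝ᵥ Ψ.mulVec z = x ⬝ᵥ Ψ.mulVec z + y ⬝ᵥ Ψ.mulVec z
    rw [add_dotProduct]
  have badd_right : ∀ x y z, b x (y + z) = b x y + b x z := by
    intro x y z
    change x ⬝ᵥ Ψ.mulVec (y + z) = x ⬝ᵥ Ψ.mulVec y + x ⬝ᵥ Ψ.mulVec z
    rw [Matrix.mulVec_add, dotProduct_add]
  have bsymm : ∀ x y, b x y = b y x := by
    intro x y
    change x ⬝ᵥ Ψ.mulVec y = y ⬝ᵥ Ψ.mulVec x
    rw [Matrix.dotProduct_mulVec, ← Matrix.mulVec_transpose, hΨsymm, dotProduct_comm]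
  have bpos : ∀ y, y ≠ 0 → 0 < b y y := by
    intro y hy
    rw [hb]
    by_cases h1 : y ∘ Sum.inl = 0
    · have h2 : y ∘ Sum.inr ≠ 0 := by
        intro h2
        apply hy
        rw [← Sum.elim_comp_inl_inr y, h1, h2]
        funext i; cases i <;> rfl
      have := hΨ₂pos _ h2
      rw [h1]; simpa using this
    · have h3 := hΨ₁pos _ h1
      by_cases h2 : y ∘ Sum.inr = 0
      · rw [h2]; simpa using h3
      · have h4 := hΨ₂pos _ h2
        linarith
  let I : AddSubgroup (κ₁ ⊕ κ₂ → ℤ) := (LinearMap.range A.mulVecLin).toAddSubgroup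
  let K : AddSubgroup (κ₁ ⊕ κ₂ → ℤ) := (LinearMap.ker (A.transpose * Ψ).mulVecLin).toAddSubgroup
  let Y₁ : AddSubgroup (κ₁ ⊕ κ₂ → ℤ) :=
    { carrier := {y | y ∘ Sum.inr = 0}
      zero_mem' := rfl
      add_mem' := by
        intro y z hy hz
        change (y + z) ∘ Sum.inr = 0
        have hy' : y ∘ Sum.inr = 0 := hy
        have hz' : z ∘ Sum.inr = 0 := hz
        funext i
        have e1 := congrFun hy' i
        have e2 := congrFun hz' i
        simp only [Function.comp_apply, Pi.zero_apply, Pi.add_apply] at e1 e2 ⊢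
        rw [e1, e2, add_zero]
      neg_mem' := by
        intro y hy
        change (-y) ∘ Sum.inr = 0
        have hy' : y ∘ Sum.inr = 0 := hy
        funext i
        have e1 := congrFun hy' i
        simp only [Function.comp_apply, Pi.zero_apply, Pi.neg_apply] at e1 ⊢
        rw [e1, neg_zero] }
  let Y₂ : AddSubgroup (κ₁ ⊕ κ₂ → ℤ) :=
    { carrier := {y | y ∘ Sum.inl = 0}
      zero_mem' := rfl
      add_mem' := by
        intro y z hy hz
        change (y + z) ∘ Sum.inl = 0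
        have hy' : y ∘ Sum.inl = 0 := hy
        have hz' : z ∘ Sum.inl = 0 := hz
        funext i
        have e1 := congrFun hy' i
        have e2 := congrFun hz' i
        simp only [Function.comp_apply, Pi.zero_apply, Pi.add_apply] at e1 e2 ⊢
        rw [e1, e2, add_zero]
      neg_mem' := by
        intro y hy
        change (-y) ∘ Sum.inl = 0
        have hy' : y ∘ Sum.inl = 0 := hy
        funext i
        have e1 := congrFun hy' i
        simp only [Function.comp_apply, Pi.zero_apply, Pi.neg_apply] at e1 ⊢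
        rw [e1, neg_zero] }
  have h2 : ∀ a ∈ I, ∀ z ∈ K, b a z = 0 := by
    rintro a ⟨x, rfl⟩ z hz
    have hz' : (A.transpose * Ψ).mulVec z = 0 := hz
    change (A.mulVec x) ⬝ᵥ Ψ.mulVec z = 0
    rw [dotProduct_comm, Matrix.dotProduct_mulVec, ← Matrix.mulVec_transpose, Matrix.mulVec_mulVec,
      hz', zero_dotProduct]
  have h1 : ∀ y, ∃ a ∈ I, ∃ z ∈ K, y = a + z := by
    intro y
    have hy : (A.transpose * Ψ).mulVecLin y ∈ LinearMap.range (A.transpose * Ψ).mulVecLin :=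
      LinearMap.mem_range_self _ y
    rw [himage] at hy
    obtain ⟨x, hx⟩ := hy
    refine ⟨A.mulVec x, ⟨x, rfl⟩, y - A.mulVec x, ?_, by abel⟩
    change (A.transpose * Ψ).mulVec (y - A.mulVec x) = 0
    rw [Matrix.mulVec_sub, Matrix.mulVec_mulVec, sub_eq_zero]
    exact hx.symm
  have h3 : ∀ y : κ₁ ⊕ κ₂ → ℤ, ∃ u ∈ Y₁, ∃ w ∈ Y₂, y = u + w := by
    intro y
    refine ⟨Sum.elim (y ∘ Sum.inl) (0 : κ₂ → ℤ), ?_, Sum.elim (0 : κ₁ → ℤ) (y ∘ Sum.inr), ?_, ?_⟩
    · change (Sum.elim (y ∘ Sum.inl) (0 : κ₂ → ℤ)) ∘ Sum.inr = 0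
      rfl
    · change (Sum.elim (0 : κ₁ → ℤ) (y ∘ Sum.inr)) ∘ Sum.inl = 0
      rfl
    · funext i
      cases i <;> simp
  have h4 : ∀ u ∈ Y₁, ∀ w ∈ Y₂, b u w = 0 := by
    intro u hu w hw
    have hu' : u ∘ Sum.inr = 0 := hu
    have hw' : w ∘ Sum.inl = 0 := hw
    rw [hb, hu', hw']
    simp
  have h5 : ∀ z ∈ K, z ∈ Y₁ → z = 0 := by
    intro z hz hz1
    have hz1' : z ∘ Sum.inr = 0 := hz1
    obtain ⟨x, hx⟩ := hP (z ∘ Sum.inl)
    have h := h2 (A.mulVec x) ⟨x, rfl⟩ z hz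
    rw [hb, hz1', hAdef, Matrix.fromRows_mulVec] at h
    simp only [Sum.elim_comp_inl, Matrix.mulVec_zero, dotProduct_zero, add_zero] at h
    rw [hx] at h
    have hz0 : z ∘ Sum.inl = 0 := by
      by_contra hne
      have := hΨ₁pos _ hne
      omega
    rw [← Sum.elim_comp_inl_inr z, hz0, hz1']
    funext i; cases i <;> rfl
  have h6 : ∀ z ∈ K, z ∈ Y₂ → z = 0 := by
    intro z hz hz2
    have hz2' : z ∘ Sum.inl = 0 := hz2
    obtain ⟨x, hx⟩ := hQ (z ∘ Sum.inr)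
    have h := h2 (A.mulVec x) ⟨x, rfl⟩ z hz
    rw [hb, hz2', hAdef, Matrix.fromRows_mulVec] at h
    simp only [Sum.elim_comp_inr, Matrix.mulVec_zero, dotProduct_zero, zero_add] at h
    rw [hx] at h
    have hz0 : z ∘ Sum.inr = 0 := by
      by_contra hne
      have := hΨ₂pos _ hne
      omega
    rw [← Sum.elim_comp_inl_inr z, hz0, hz2']
    funext i; cases i <;> rfl
  intro y
  obtain ⟨x, hx⟩ := Groth.Agent.Lib.Helper22.mem_of_orthogonal_decompositions b badd_left badd_right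
    bsymm bpos I K Y₁ Y₂ h1 h2 h3 h4 h5 h6 y
  exact ⟨x, hx⟩

end Groth.Agent.S16164
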