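import Groth.Statements.S1617
import Groth.Agent.Lib.Helper21.ChartPt6
-- import your own Groth.Agent.* helpers here

set_option autoImplicit false
universe u
open CategoryTheory CategoryTheory.Limits AlgebraicGeometry
open Variety

namespace Groth.Agent.S1617

/-- Let X be locally of finite type over a field k and x a closed point. Then the local dimension of X
at x (infimum of the dimensions of open neighbourhoods) equals the Krull dimension of the local ring
at x. -/
theorem result (k : Type u) [Field k] (X : Scheme.{u}) [X.Over (Spec (CommRingCat.of k))] [LocallyOfFiniteType (X ↘ (Spec (CommRingCat.of k)))] (x : X) (hx : IsClosed ({x} : Set X)) :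
    FlatMor.localDim X x = ringKrullDim (X.presheaf.stalk x) := by
  obtain ⟨_, ⟨(W : X.Opens), hW, rfl⟩, hxW, -⟩ :=
    X.isBasis_affineOpens.exists_subset_of_mem_open (Set.mem_univ x) isOpen_univ
  have hW : IsAffineOpen W := hW
  have hxW : x ∈ W := hxW
  obtain ⟨s, hs1, hs2⟩ :=
    Groth.Agent.Lib.Helper21.ChartPt.exists_nat_trdeg_eq_and_dim_quotient k X hW x hxW
  have hmax := hW.primeIdealOf_isMaximal_of_isClosed ⟨x, hxW⟩ hx
  have hs0 : s = 0 := by
    have hf : IsField (Γ(X, W) ⧸ (hW.primeIdealOf ⟨x, hxW⟩).asIdeal) :=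
      (Ideal.Quotient.maximal_ideal_iff_isField_quotient _).mp hmax
    rw [ringKrullDim_eq_zero_of_isField hf] at hs2
    exact_mod_cast hs2.symm
  subst hs0
  let _ : Algebra k Γ(X, W) :=
    (Groth.Agent.Lib.Helper20.DimTrdeg.kMap (X ↘ Spec (CommRingCat.of k)) W).toAlgebra
  have : Algebra.FiniteType k Γ(X, W) :=
    Groth.Agent.Lib.Helper20.DimTrdeg.kMap_finiteType (X ↘ Spec (CommRingCat.of k)) W hW
  have : IsNoetherianRing Γ(X, W) := Algebra.FiniteType.isNoetherianRing k Γ(X, W)
  have hne : (hW.primeIdealOf ⟨x, hxW⟩).asIdeal.height ≠ ⊤ := Ideal.height_ne_top_of_isPrime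
  obtain ⟨b, hb⟩ := ENat.ne_top_iff_exists.mp hne
  have hb' : ringKrullDim (X.presheaf.stalk x) = b := by
    rw [Groth.Agent.Lib.Helper21.ChartPt.ringKrullDim_stalk_eq_height hW x hxW, ← hb]
    rfl
  rw [Groth.Agent.Lib.Helper21.ChartPt.localDim_eq_add k X x 0 b (by rw [hs1]) hb', hb',
    zero_add]

end Groth.Agent.S1617
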