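import Groth.Statements.S16170
import Mathlib.Tactic
-- import your own Groth.Agent.* helpers here

set_option autoImplicit false
open Neron

namespace Groth.Agent.S16170

open Matrix

variable {ι : Type} [Fintype ι] [DecidableEq ι]

/-- the bilinear form of a matrix -/
def form (B : Matrix ι ι ℤ) (x y : ι → ℤ) : ℤ := x ⬝ᵥ B.mulVec y

omit [DecidableEq ι] in
lemma form_mulVec (B C D : Matrix ι ι ℤ) (x y : ι → ℤ) :
    form B (C.mulVec x) (D.mulVec y) = form (Cᵀ * B * D) x y := by
  unfold form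
  rw [Matrix.mulVec_mulVec, Matrix.dotProduct_mulVec, Matrix.vecMul_mulVec,
    ← Matrix.dotProduct_mulVec, Matrix.mul_assoc]

lemma form_mulVec_left (B C : Matrix ι ι ℤ) (x y : ι → ℤ) :
    form B (C.mulVec x) y = form (Cᵀ * B) x y := by
  have := form_mulVec B C 1 x y
  simpa using this

lemma form_mulVec_right (B D : Matrix ι ι ℤ) (x y : ι → ℤ) :
    form B x (D.mulVec y) = form (B * D) x y := by
  have := form_mulVec B 1 D x y
  simpa using this

omit [DecidableEq ι] in
lemma form_add_mat (B C : Matrix ι ι ℤ) (x y : ι → ℤ) :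
    form (B + C) x y = form B x y + form C x y := by
  unfold form; rw [Matrix.add_mulVec, dotProduct_add]

omit [DecidableEq ι] in
lemma form_sub_mat (B C : Matrix ι ι ℤ) (x y : ι → ℤ) :
    form (B - C) x y = form B x y - form C x y := by
  unfold form; rw [Matrix.sub_mulVec, dotProduct_sub]

omit [DecidableEq ι] in
lemma form_smul_mat (c : ℤ) (B : Matrix ι ι ℤ) (x y : ι → ℤ) :
    form (c • B) x y = c * form B x y := by
  unfold form; rw [Matrix.smul_mulVec, dotProduct_smul, smul_eq_mul]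

omit [DecidableEq ι] in
lemma form_symm (B : Matrix ι ι ℤ) (hB : Bᵀ = B) (x y : ι → ℤ) : form B x y = form B y x := by
  unfold form
  rw [Matrix.dotProduct_mulVec, ← Matrix.mulVec_transpose, hB, dotProduct_comm]

omit [DecidableEq ι] in
lemma form_add_left (B : Matrix ι ι ℤ) (x x' y : ι → ℤ) :
    form B (x + x') y = form B x y + form B x' y := by
  unfold form; rw [add_dotProduct]

omit [DecidableEq ι] in
lemma form_add_right (B : Matrix ι ι ℤ) (x y y' : ι → ℤ) :
    form B x (y + y') = form B x y + form B x y' := by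
  unfold form; rw [Matrix.mulVec_add, dotProduct_add]

omit [DecidableEq ι] in
lemma form_smul_left (B : Matrix ι ι ℤ) (c : ℤ) (x y : ι → ℤ) :
    form B (c • x) y = c * form B x y := by
  unfold form; rw [smul_dotProduct, smul_eq_mul]

omit [DecidableEq ι] in
lemma form_smul_right (B : Matrix ι ι ℤ) (c : ℤ) (x y : ι → ℤ) :
    form B x (c • y) = c * form B x y := by
  unfold form; rw [Matrix.mulVec_smul, dotProduct_smul, smul_eq_mul]

omit [DecidableEq ι] in
/-- Cauchy–Schwarz for a symmetric positive semidefinite integer form -/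
lemma cauchy_schwarz (B : Matrix ι ι ℤ) (hB : Bᵀ = B) (hpos : ∀ v, 0 ≤ form B v v)
    (u v : ι → ℤ) : form B u v ^ 2 ≤ form B u u * form B v v := by
  have expand : ∀ s t : ℤ, form B (s • u + t • v) (s • u + t • v) =
      s ^ 2 * form B u u + 2 * s * t * form B u v + t ^ 2 * form B v v := by
    intro s t
    simp only [form_add_left, form_add_right, form_smul_left, form_smul_right]
    rw [form_symm B hB v u]
    ring
  by_cases hv : form B v v = 0
  · -- then form B u v = 0
    have h1 := hpos ((1 : ℤ) • u + (-(form B u v)) • v)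
    rw [expand, hv] at h1
    have h2 := hpos ((1 : ℤ) • u + (-(form B u v) * (form B u u + 1)) • v)
    rw [expand, hv] at h2
    have huu := hpos u
    rw [hv, mul_zero]
    nlinarith [sq_nonneg (form B u v)]
  · have hvpos : 0 < form B v v := lt_of_le_of_ne (hpos v) (Ne.symm hv)
    have h1 := hpos ((form B v v) • u + (-(form B u v)) • v)
    rw [expand] at h1
    have : form B v v * (form B u u * form B v v - form B u v ^ 2) ≥ 0 := by nlinarith
    have h2 : 0 ≤ form B u u * form B v v - form B u v ^ 2 := by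
      by_contra hneg
      push Not at hneg
      nlinarith
    linarith

/-- Let M and N be symmetric positive-semidefinite integer matrices on the same finite index set whose
sum M + N is positive definite, and let χ₁, χ₂ be integer matrices with χ₁ + χ₂ = 1 and M χ₂ = N χ₁.
Then χ₁ and χ₂ are idempotent. (In the intended application M = Pᵀ Ψ₁ P and N = Qᵀ Ψ₂ Q for
surjective integer matrices P, Q and positive-definite Ψ₁, Ψ₂.) -/
theorem result
    {ι : Type} [Fintype ι] [DecidableEq ι]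
    (M N χ₁ χ₂ : Matrix ι ι ℤ) (hM : M.IsSymm) (hN : N.IsSymm)
    (hMpos : ∀ v : ι → ℤ, 0 ≤ v ⬝ᵥ M.mulVec v) (hNpos : ∀ v : ι → ℤ, 0 ≤ v ⬝ᵥ N.mulVec v)
    (hpos : ∀ v : ι → ℤ, v ≠ 0 → 0 < v ⬝ᵥ (M + N).mulVec v)
    (hsum : χ₁ + χ₂ = 1) (hrel : M * χ₂ = N * χ₁) :
    χ₁ * χ₁ = χ₁ ∧ χ₂ * χ₂ = χ₂ := by
  obtain ⟨S, hS⟩ : ∃ S, S = M + N := ⟨_, rfl⟩
  rw [← hS] at hpos
  have hMt : Mᵀ = M := hM
  have hNt : Nᵀ = N := hN
  have hSt : Sᵀ = S := by rw [hS, Matrix.transpose_add, hMt, hNt]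
  have hχ₂ : χ₂ = 1 - χ₁ := by rw [← hsum]; abel
  have hχ₁ : χ₁ = 1 - χ₂ := by rw [← hsum]; abel
  -- S χ₁ = M, S χ₂ = N
  have hSχ₁ : S * χ₁ = M := by
    rw [hS, Matrix.add_mul, ← hrel, ← Matrix.mul_add, hsum, Matrix.mul_one]
  have hSχ₂ : S * χ₂ = N := by
    rw [hS, Matrix.add_mul, hrel, ← Matrix.mul_add, hsum, Matrix.mul_one]
  have hχ₁S : χ₁ᵀ * S = M := by
    have := congrArg Matrix.transpose hSχ₁
    rwa [Matrix.transpose_mul, hSt, hMt] at this
  have hχ₂S : χ₂ᵀ * S = N := by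
    have := congrArg Matrix.transpose hSχ₂
    rwa [Matrix.transpose_mul, hSt, hNt] at this
  have hcomm : χ₁ * χ₂ = χ₂ * χ₁ := by
    rw [hχ₂, Matrix.mul_sub, Matrix.sub_mul, Matrix.mul_one, Matrix.one_mul]
  obtain ⟨P, hP⟩ : ∃ P, P = χ₁ * χ₂ := ⟨_, rfl⟩
  obtain ⟨A, hA⟩ : ∃ A, A = M * χ₂ := ⟨_, rfl⟩
  rw [← hA] at hrel
  have hSP : S * P = A := by rw [hP, ← Matrix.mul_assoc, hSχ₁, hA]
  -- A is symmetric
  have hAt : Aᵀ = A := by
    have h1 : A = M - χ₁ᵀ * S * χ₁ := by
      rw [hA, hχ₂, Matrix.mul_sub, Matrix.mul_one, hχ₁S]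
    rw [h1, Matrix.transpose_sub, Matrix.transpose_mul, Matrix.transpose_mul, hSt,
      Matrix.transpose_transpose, hMt, Matrix.mul_assoc]
  have hPtS : Pᵀ * S = A := by
    have := congrArg Matrix.transpose hSP
    rwa [Matrix.transpose_mul, hSt, hAt] at this
  -- A = χ₁ᵀ N χ₁ + χ₂ᵀ M χ₂
  have hAdecomp : A = χ₁ᵀ * N * χ₁ + χ₂ᵀ * M * χ₂ := by
    have h1 : χ₁ᵀ * N = A := by rw [← hSχ₂, ← Matrix.mul_assoc, hχ₁S, hA]
    have h2 : χ₂ᵀ * M = A := by rw [← hSχ₁, ← Matrix.mul_assoc, hχ₂S, ← hrel]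
    rw [h1, h2, ← Matrix.mul_add, hsum, Matrix.mul_one]
  -- S - 4A = Wᵀ S W
  obtain ⟨W, hW⟩ : ∃ W, W = χ₁ - χ₂ := ⟨_, rfl⟩
  have hWSW : Wᵀ * S * W = S - (4 : ℤ) • A := by
    have e1 : χ₁ᵀ * S * χ₂ = A := by rw [hχ₁S, hA]
    have e2 : χ₂ᵀ * S * χ₁ = A := by rw [hχ₂S, ← hrel]
    have e3 : χ₁ᵀ * S * χ₁ + χ₂ᵀ * S * χ₂ = S - (2 : ℤ) • A := by
      have : S = (χ₁ + χ₂)ᵀ * S * (χ₁ + χ₂) := by rw [hsum]; simp
      rw [Matrix.transpose_add, Matrix.add_mul, Matrix.add_mul, Matrix.mul_add, Matrix.mul_add,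
        e1, e2] at this
      rw [two_smul]
      rw [eq_sub_iff_add_eq]
      conv_rhs => rw [this]
      abel
    rw [hW, Matrix.transpose_sub, Matrix.sub_mul, Matrix.sub_mul, Matrix.mul_sub, Matrix.mul_sub,
      e1, e2]
    have : χ₁ᵀ * S * χ₁ - A - (A - χ₂ᵀ * S * χ₂) = (χ₁ᵀ * S * χ₁ + χ₂ᵀ * S * χ₂) - (2 : ℤ) • A := by
      rw [two_smul]; abel
    rw [this, e3]
    rw [show (4 : ℤ) • A = (2 : ℤ) • A + (2 : ℤ) • A by rw [← add_smul]; norm_num]
    abel
  -- forms
  have qnonneg : ∀ v, 0 ≤ form S v v := by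
    intro v
    rw [hS, form_add_mat]
    exact add_nonneg (hMpos v) (hNpos v)
  have qzero : ∀ v, form S v v = 0 → v = 0 := by
    intro v hv
    by_contra hne
    have := hpos v hne
    unfold form at hv
    omega
  have enonneg : ∀ v, 0 ≤ form A v v := by
    intro v
    rw [hAdecomp, form_add_mat, ← form_mulVec, ← form_mulVec]
    exact add_nonneg (hNpos _) (hMpos _)
  have e_le : ∀ v, 4 * form A v v ≤ form S v v := by
    intro v
    have h := qnonneg (W.mulVec v)
    rw [form_mulVec, hWSW, form_sub_mat, form_smul_mat] at h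
    linarith
  have qP : ∀ v, form S (P.mulVec v) (P.mulVec v) = form A v (P.mulVec v) := by
    intro v
    rw [form_mulVec_left, hPtS]
  -- the key descent inequality
  have descent : ∀ v, 16 * form S (P.mulVec v) (P.mulVec v) ≤ form S v v := by
    intro v
    set a := form S (P.mulVec v) (P.mulVec v) with ha
    have ha0 : 0 ≤ a := qnonneg _
    have hcs := cauchy_schwarz A hAt enonneg v (P.mulVec v)
    rw [← qP] at hcs
    have h1 := e_le v
    have h2 := e_le (P.mulVec v)
    have h3 := enonneg v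
    have h4 := enonneg (P.mulVec v)
    rcases ha0.eq_or_lt with h0 | hpos'
    · rw [← h0]; simpa using qnonneg v
    · -- 16 a^2 ≤ q(v) a
      have : 16 * a ^ 2 ≤ form S v v * a := by
        have : 16 * (form A v v * form A (P.mulVec v) (P.mulVec v)) ≤ form S v v * a := by
          have hq := qnonneg v
          nlinarith
        nlinarith
      by_contra hcon
      push Not at hcon
      nlinarith
  -- iterate
  have iter : ∀ (k : ℕ) (v : ι → ℤ), 16 ^ k * form S ((P ^ k).mulVec v) ((P ^ k).mulVec v) ≤ form S v v := by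
    intro k
    induction k with
    | zero => intro v; simp
    | succ k ih =>
      intro v
      have h1 := ih (P.mulVec v)
      have h2 := descent v
      rw [Matrix.mulVec_mulVec, ← pow_succ] at h1
      calc 16 ^ (k + 1) * form S ((P ^ (k + 1)).mulVec v) ((P ^ (k + 1)).mulVec v)
          = 16 * (16 ^ k * form S ((P ^ (k + 1)).mulVec v) ((P ^ (k + 1)).mulVec v)) := by ring
        _ ≤ 16 * form S (P.mulVec v) (P.mulVec v) := by linarith
        _ ≤ form S v v := h2
  have hnil : ∀ v : ι → ℤ, ∃ k : ℕ, (P ^ k).mulVec v = 0 := by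
    intro v
    obtain ⟨k, hk⟩ : ∃ k : ℕ, form S v v < 16 ^ k := by
      obtain ⟨k, hk⟩ := pow_unbounded_of_one_lt (form S v v) (by norm_num : (1 : ℤ) < 16)
      exact ⟨k, hk⟩
    refine ⟨k, qzero _ ?_⟩
    have h1 := iter k v
    have h2 := qnonneg ((P ^ k).mulVec v)
    by_contra hne
    have h3 : 1 ≤ form S ((P ^ k).mulVec v) ((P ^ k).mulVec v) := by omega
    have h4 : (16 : ℤ) ^ k ≤ 16 ^ k * form S ((P ^ k).mulVec v) ((P ^ k).mulVec v) := by
      have : (0 : ℤ) < 16 ^ k := by positivity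
      nlinarith
    linarith
  -- descend
  have hstep : ∀ (j : ℕ) (v : ι → ℤ), 1 ≤ j → (P ^ (j + 1)).mulVec v = 0 → (P ^ j).mulVec v = 0 := by
    intro j v hj h
    apply qzero
    obtain ⟨i, rfl⟩ : ∃ i, j = i + 1 := ⟨j - 1, by omega⟩
    have e1 : (P ^ (i + 1)).mulVec v = P.mulVec ((P ^ i).mulVec v) := by
      rw [Matrix.mulVec_mulVec, ← pow_succ']
    conv_lhs => arg 2; rw [e1]
    rw [form_mulVec_left, hPtS, ← hSP, ← form_mulVec_right, Matrix.mulVec_mulVec, ← pow_succ', h]
    unfold form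
    simp
  have hPv : ∀ v : ι → ℤ, P.mulVec v = 0 := by
    intro v
    obtain ⟨k, hk⟩ := hnil v
    have : ∀ j : ℕ, 1 ≤ j → (P ^ j).mulVec v = 0 → (P ^ 1).mulVec v = 0 := by
      intro j hj
      induction j with
      | zero => omega
      | succ j ih =>
        intro h
        rcases Nat.eq_zero_or_pos j with rfl | hjpos
        · exact h
        · exact ih hjpos (hstep j v hjpos h)
    rcases Nat.eq_zero_or_pos k with rfl | hkpos
    · simp at hk; rw [hk]; simp
    · simpa using this k hkpos hk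
  have hP0 : P = 0 := by
    ext i j
    have := congrFun (hPv (Pi.single j 1)) i
    simpa using this
  constructor
  · conv_lhs => arg 2; rw [hχ₁]
    rw [Matrix.mul_sub, Matrix.mul_one, ← hP, hP0, sub_zero]
  · conv_lhs => arg 1; rw [hχ₂]
    rw [Matrix.sub_mul, Matrix.one_mul, ← hP, hP0, sub_zero]

end Groth.Agent.S16170
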