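import Groth.Statements.S16174
import Mathlib
import Groth.Agent.Lib.Helper25.HenselFinite
-- import your own Groth.Agent.* helpers here

set_option autoImplicit false
universe u
open Hensel

namespace Groth.Agent.S16174

open Polynomial

section helpers

variable {V : Type u} [CommRing V] [IsDomain V] [ValuationRing V] (p : Ideal V) [p.IsPrime]

/-- elements of the maximal ideal of `V_p` come from `p` -/
lemma exists_of_mem_maximalIdeal (x : Localization.AtPrime p)
    (hx : x ∈ IsLocalRing.maximalIdeal (Localization.AtPrime p)) :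
    ∃ c ∈ p, algebraMap V (Localization.AtPrime p) c = x := by
  obtain ⟨a, s, rfl⟩ := IsLocalization.exists_mk'_eq p.primeCompl x
  rw [IsLocalization.AtPrime.mk'_mem_maximal_iff (Localization.AtPrime p) p] at hx
  obtain ⟨c, hc | hc⟩ := ValuationRing.cond a (s : V)
  · exact absurd (hc ▸ p.mul_mem_right c hx) s.2
  · refine ⟨c, ?_, ?_⟩
    · rw [← hc] at hx
      exact (Ideal.IsPrime.mem_or_mem inferInstance hx).resolve_left s.2
    · rw [eq_comm, IsLocalization.mk'_eq_iff_eq_mul, ← map_mul, mul_comm, hc]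


/-- the auxiliary "tail" polynomial -/
noncomputable def tailPoly (d' : ℕ) (e : ℕ → V) : V[X] :=
  ∑ i ∈ Finset.range d', C (e i) * X ^ (d' - 1 - i)

lemma degree_tailPoly_le (d' : ℕ) (e : ℕ → V) : (tailPoly d' e).degree ≤ d' := by
  refine (degree_sum_le _ _).trans (Finset.sup_le fun i _ => ?_)
  refine (degree_C_mul_X_pow_le _ _).trans ?_
  exact_mod_cast (Nat.sub_le _ _).trans (Nat.sub_le _ _)

lemma eval_tailPoly_mem (d' : ℕ) (e : ℕ → V) (he : ∀ i, e i ∈ p) (x : V) :
    (tailPoly d' e).eval x ∈ p := by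
  rw [tailPoly, eval_finsetSum]
  refine Ideal.sum_mem _ fun i _ => ?_
  rw [eval_mul, eval_C]
  exact p.mul_mem_right _ (he i)

lemma eval_derivative_tailPoly_mem (d' : ℕ) (e : ℕ → V) (he : ∀ i, e i ∈ p) (x : V) :
    (derivative (tailPoly d' e)).eval x ∈ p := by
  rw [tailPoly, derivative_sum, eval_finsetSum]
  refine Ideal.sum_mem _ fun i _ => ?_
  rw [derivative_C_mul, eval_mul, eval_C]
  exact p.mul_mem_right _ (he i)

/-- the auxiliary monic polynomial -/
noncomputable def auxPoly (d' : ℕ) (e : ℕ → V) : V[X] :=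
  X ^ d' * (X + 1) + tailPoly d' e

lemma monic_auxPoly (d' : ℕ) (e : ℕ → V) : (auxPoly d' e).Monic := by
  have h1 : (X ^ d' * (X + 1) : V[X]).Monic := (monic_X_pow d').mul (monic_X_add_C 1)
  have h2 : (X ^ d' * (X + 1) : V[X]).natDegree = d' + 1 := by
    have : (X + 1 : V[X]) = X + C 1 := by simp
    rw [this, (monic_X_pow d').natDegree_mul (monic_X_add_C (1 : V)), natDegree_X_pow,
      natDegree_X_add_C]
  refine h1.add_of_left ?_
  rw [degree_eq_natDegree h1.ne_zero, h2]
  refine (degree_tailPoly_le d' e).trans_lt ?_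
  exact_mod_cast Nat.lt_succ_self d'

lemma eval_auxPoly (d' : ℕ) (e : ℕ → V) :
    (auxPoly d' e).eval (-1) = (tailPoly d' e).eval (-1) := by
  simp [auxPoly]

lemma eval_derivative_auxPoly (d' : ℕ) (e : ℕ → V) :
    (derivative (auxPoly d' e)).eval (-1) =
      (-1) ^ d' + (derivative (tailPoly d' e)).eval (-1) := by
  simp [auxPoly, derivative_mul]


lemma henselian_atPrime [HenselianLocalRing V] :
    HenselianLocalRing (Localization.AtPrime p) := by
  classical
  refine { is_henselian := ?_ }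
  intro f hf a₀ h₁ h₂
  have hpm : p ≤ IsLocalRing.maximalIdeal V :=
    IsLocalRing.le_maximalIdeal (Ideal.IsPrime.ne_top inferInstance)
  obtain ⟨g, hg⟩ : ∃ g, g = taylor a₀ f := ⟨_, rfl⟩
  obtain ⟨b, hb⟩ : ∃ b, b = f.eval a₀ := ⟨_, rfl⟩
  obtain ⟨u, hu⟩ : ∃ u, u = f.derivative.eval a₀ := ⟨_, rfl⟩
  rw [← hb] at h₁
  rw [← hu] at h₂
  have hg0 : g.coeff 0 = b := by rw [hg, hb, taylor_coeff_zero]
  have hg1 : g.coeff 1 = u := by rw [hg, hu, taylor_coeff_one]
  have hgdeg : g.natDegree = f.natDegree := by rw [hg, natDegree_taylor]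
  have hglead : g.coeff g.natDegree = 1 := by
    have : g.leadingCoeff = 1 := by rw [hg, leadingCoeff_taylor]; exact hf
    exact this
  -- the degree is positive
  have hdpos : f.natDegree ≠ 0 := by
    intro h0
    have hfC := eq_C_of_natDegree_eq_zero h0
    have : f.derivative = 0 := by rw [hfC, derivative_C]
    rw [hu, this, eval_zero] at h₂
    exact not_isUnit_zero h₂
  obtain ⟨d', hd'⟩ := Nat.exists_eq_succ_of_ne_zero hdpos
  rw [← hgdeg] at hd'
  obtain ⟨w, hw⟩ := h₂.exists_right_inv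
  -- the coefficients
  have hmem : ∀ i : ℕ, g.coeff (i + 2) * b ^ (i + 1) * w ^ (i + 2) ∈
      IsLocalRing.maximalIdeal (Localization.AtPrime p) := by
    intro i
    refine Ideal.mul_mem_right _ _ (Ideal.mul_mem_left _ _ ?_)
    rw [pow_succ]
    exact Ideal.mul_mem_left _ _ h₁
  choose e he_mem he using fun i => exists_of_mem_maximalIdeal p _ (hmem i)
  -- Hensel in `V`
  have hev : (auxPoly d' e).eval (-1) ∈ IsLocalRing.maximalIdeal V := by
    rw [eval_auxPoly]
    exact hpm (eval_tailPoly_mem p d' e he_mem _)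
  have hder : IsUnit ((derivative (auxPoly d' e)).eval (-1)) := by
    rw [eval_derivative_auxPoly, ← IsLocalRing.notMem_maximalIdeal]
    intro hcon
    have h3 : ((-1 : V) ^ d') ∈ IsLocalRing.maximalIdeal V := by
      have := Ideal.sub_mem _ hcon (hpm (eval_derivative_tailPoly_mem p d' e he_mem (-1)))
      simpa using this
    exact (IsLocalRing.notMem_maximalIdeal.mpr ((isUnit_one.neg).pow d')) h3
  obtain ⟨t, ht, ht1⟩ := HenselianLocalRing.is_henselian (auxPoly d' e) (monic_auxPoly d' e) (-1)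
    hev hder
  have htu : IsUnit t := by
    rw [← IsLocalRing.notMem_maximalIdeal]
    intro hcon
    have := Ideal.sub_mem _ ht1 hcon
    have h4 : t - -1 - t = 1 := by ring
    rw [h4] at this
    exact (IsLocalRing.maximalIdeal.isMaximal V).ne_top ((Ideal.eq_top_iff_one _).mpr this)
  obtain ⟨t', ht'⟩ := htu.exists_right_inv
  -- transport to `V_p`
  obtain ⟨ι, hι⟩ : ∃ ι, ι = algebraMap V (Localization.AtPrime p) := ⟨_, rfl⟩
  rw [← hι] at he
  obtain ⟨T, hT⟩ : ∃ T, T = ι t := ⟨_, rfl⟩
  obtain ⟨z, hz⟩ : ∃ z, z = ι t' := ⟨_, rfl⟩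
  have hTz : T * z = 1 := by rw [hT, hz, ← map_mul, ht', map_one]
  have hzT : z * T = 1 := by rw [mul_comm]; exact hTz
  have hroot : T ^ d' * (T + 1) + ∑ i ∈ Finset.range d', ι (e i) * T ^ (d' - 1 - i) = 0 := by
    have := congrArg ι ht
    rw [map_zero, auxPoly, tailPoly, eval_add, eval_mul, eval_pow, eval_add, eval_X, eval_one,
      eval_finsetSum, map_add, map_mul, map_pow, map_add, map_one, map_sum] at this
    rw [← this, hT]
    congr 1
    refine Finset.sum_congr rfl fun i _ => ?_
    rw [eval_mul, eval_C, eval_pow, eval_X, map_mul, map_pow]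
  -- (*)
  have hstar : 1 + z + ∑ i ∈ Finset.range d', ι (e i) * z ^ (i + 2) = 0 := by
    have h5 := congrArg (fun x => z ^ (d' + 1) * x) hroot
    simp only [mul_zero, mul_add, Finset.mul_sum] at h5
    rw [← h5]
    congr 1
    · have h6 : z ^ (d' + 1) * (T ^ d' * T) = 1 := by
        calc z ^ (d' + 1) * (T ^ d' * T) = (z * T) ^ (d' + 1) := by ring
          _ = 1 := by rw [hzT, one_pow]
      have h7 : z ^ (d' + 1) * (T ^ d' * 1) = z := by
        calc z ^ (d' + 1) * (T ^ d' * 1) = (z * T) ^ d' * z := by ring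
          _ = z := by rw [hzT, one_pow, one_mul]
      rw [h6, h7]
    · refine Finset.sum_congr rfl fun i hi => ?_
      have hi' : i < d' := Finset.mem_range.mp hi
      have h8 : d' + 1 = (i + 2) + (d' - 1 - i) := by omega
      calc ι (e i) * z ^ (i + 2)
          = ι (e i) * z ^ (i + 2) * (z * T) ^ (d' - 1 - i) := by rw [hzT, one_pow, mul_one]
        _ = z ^ ((i + 2) + (d' - 1 - i)) * (ι (e i) * T ^ (d' - 1 - i)) := by ring
        _ = z ^ (d' + 1) * (ι (e i) * T ^ (d' - 1 - i)) := by rw [← h8]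
  -- the root
  obtain ⟨y, hy⟩ : ∃ y, y = b * w * z := ⟨_, rfl⟩
  have hgy : g.eval y = 0 := by
    rw [eval_eq_sum_range, hd', Finset.sum_range_succ', Finset.sum_range_succ', hg0, hg1]
    have h10 : ∀ i ∈ Finset.range d', g.coeff (i + 1 + 1) * y ^ (i + 1 + 1) =
        b * (ι (e i) * z ^ (i + 2)) := by
      intro i _
      rw [he i, hy]
      ring
    rw [Finset.sum_congr rfl h10, ← Finset.mul_sum]
    have h11 : u * y ^ (0 + 1) = b * z := by
      rw [hy, zero_add, pow_one]
      calc u * (b * w * z) = (u * w) * (b * z) := by ring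
        _ = b * z := by rw [hw, one_mul]
    rw [h11, pow_zero, mul_one]
    calc b * ∑ i ∈ Finset.range d', ι (e i) * z ^ (i + 2) + b * z + b
        = b * (1 + z + ∑ i ∈ Finset.range d', ι (e i) * z ^ (i + 2)) := by ring
      _ = 0 := by rw [hstar, mul_zero]
  refine ⟨y + a₀, ?_, ?_⟩
  · rw [IsRoot, ← taylor_eval, ← hg]
    exact hgy
  · rw [add_sub_cancel_right, hy, mul_assoc]
    exact Ideal.mul_mem_right _ _ h₁

end helpers

/-- Let V be a Henselian valuation ring and p a prime ideal of V. Then the local rings V_p (localisation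
at p) and V/p are Henselian. (Both are again valuation rings, which is elementary and not restated.) -/
theorem result (V : Type u) [CommRing V]
    [IsDomain V] [ValuationRing V] [HenselianLocalRing V] (p : Ideal V) [p.IsPrime] :
    HenselianLocalRing (Localization.AtPrime p) ∧ HenselianLocalRing (V ⧸ p) := by
  refine ⟨henselian_atPrime p, ?_⟩
  have hne : p ≠ ⊤ := Ideal.IsPrime.ne_top inferInstance
  haveI : Nontrivial (V ⧸ p) := Ideal.Quotient.nontrivial_iff.mpr hne
  haveI : IsLocalRing (V ⧸ p) :=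
    IsLocalRing.of_surjective' (Ideal.Quotient.mk p) Ideal.Quotient.mk_surjective
  exact Groth.Agent.Lib.Helper25.henselianLocalRing_of_finite V (V ⧸ p)

end Groth.Agent.S16174
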