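import Groth.Statements.S16178
import Groth.Agent.Lib27.Flat.GenFib
import Groth.Agent.Lib.Helper4.RegularGlobalDim
open TensorProduct

set_option autoImplicit false
universe u
open CategoryTheory
open CAlg

namespace Groth.Agent.S16178

/-- Let V be a valuation ring, B a flat V-algebra of finite presentation, q a prime ideal of B lying
over the prime p of V, A = B_q the local ring of Spec B at q, and suppose that the local ring A/pA
of the fibre over p at q is a regular local ring of dimension n. Then every finitely presented
A-module M which is flat as a V-module has projective dimension at most n over A. -/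
theorem result (V : Type u) [CommRing V] [IsDomain V] [ValuationRing V]
    (B : Type u) [CommRing B] [Algebra V B] [Module.Flat V B] [Algebra.FinitePresentation V B]
    (q : Ideal B) [q.IsPrime] (n : ℕ)
    (hreg : IsRegularLocalRing (Localization.AtPrime q ⧸ Ideal.map (algebraMap V (Localization.AtPrime q)) (Ideal.comap (algebraMap V B) q)))
    (hn : ringKrullDim (Localization.AtPrime q ⧸ Ideal.map (algebraMap V (Localization.AtPrime q)) (Ideal.comap (algebraMap V B) q)) = n)
    (M : Type u) [AddCommGroup M] [Module (Localization.AtPrime q) M] [Module.FinitePresentation (Localization.AtPrime q) M]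
    [Module V M] [IsScalarTower V (Localization.AtPrime q) M] [Module.Flat V M] :
    HasProjectiveDimensionLE (ModuleCat.of (Localization.AtPrime q) M) n := by
  classical
  haveI := hreg
  have hgood := Groth.Agent.Lib27.SyzLoc.good2_atPrime (A := V) q
  have hM : Groth.Agent.Lib27.FreeRes.Q V (Localization.AtPrime q)
      (ModuleCat.of (Localization.AtPrime q) M) :=
    ⟨inferInstanceAs (Module.FinitePresentation (Localization.AtPrime q) M),
      Groth.Agent.Lib27.FreeRes.flat_compHom_iff.mpr ‹_›⟩
  have hinj := Groth.Agent.Lib27.GenFib.injHyp_atPrime V q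
  have h1 := Groth.Agent.Lib27.SyzLoc.hasProjectiveDimensionLT_iff_projective_syz hgood hM n 0
  rw [Nat.zero_add] at h1
  change HasProjectiveDimensionLT (ModuleCat.of (Localization.AtPrime q) M) (n + 1)
  refine h1.mpr ?_
  obtain ⟨hNfp, hNfl⟩ := Groth.Agent.Lib27.SyzLoc.Q_syz hgood hM n
  have h2 := Groth.Agent.Lib27.GenFib.fib_hasProjectiveDimensionLT_iff
    (Localization.AtPrime q ⧸ Groth.Agent.Lib27.LocalCore.fibIdeal (A := V) q
      (Localization.AtPrime q)) hgood hinj hM n
  have h3 : HasProjectiveDimensionLT (Groth.Agent.Lib27.GenFib.fib
      (Localization.AtPrime q ⧸ Groth.Agent.Lib27.LocalCore.fibIdeal (A := V) q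
        (Localization.AtPrime q)) (ModuleCat.of (Localization.AtPrime q) M)) (n + 1) :=
    Groth.Agent.Lib.Helper4.hasProjectiveDimensionLT_of_isRegularLocalRing_of_finite
      (Localization.AtPrime q ⧸ Groth.Agent.Lib27.LocalCore.fibIdeal (A := V) q
        (Localization.AtPrime q)) n hn _
  have h4 := h2.mp h3
  set N := Groth.Agent.Lib27.Syz.syz (Localization.AtPrime q)
    (ModuleCat.of (Localization.AtPrime q) M) n with hN
  set I := Groth.Agent.Lib27.LocalCore.fibIdeal (A := V) q (Localization.AtPrime q) with hI
  haveI h5 : Module.Projective (Localization.AtPrime q ⧸ I)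
      ((Localization.AtPrime q ⧸ I) ⊗[Localization.AtPrime q] N) :=
    ModuleCat.projective_of_module_projective
      (ModuleCat.of (Localization.AtPrime q ⧸ I)
        ((Localization.AtPrime q ⧸ I) ⊗[Localization.AtPrime q] N))
  haveI h6 : Module.Flat (Localization.AtPrime q ⧸ I)
      ((Localization.AtPrime q ⧸ I) ⊗[Localization.AtPrime q] N) :=
    Module.Flat.of_projective
  letI : Module V N := Module.compHom N (algebraMap V (Localization.AtPrime q))
  haveI : IsScalarTower V (Localization.AtPrime q) N :=
    IsScalarTower.of_algebraMap_smul fun _ _ => rfl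
  haveI : Module.Flat V N := hNfl
  haveI := hNfp
  have hfib : Module.Flat (Localization.AtPrime q ⧸ I)
      (N ⧸ I • (⊤ : Submodule (Localization.AtPrime q) N)) :=
    Module.Flat.of_linearEquiv
      ((TensorProduct.quotTensorEquivQuotSMul N I).extendScalarsOfSurjective
        Ideal.Quotient.mk_surjective).symm
  haveI : Module.Free (Localization.AtPrime q) N :=
    Groth.Agent.Lib27.LocalCore.free_of_flat_of_fibre_flat q (Localization.AtPrime q) hfib
  exact ModuleCat.projective_of_categoryTheory_projective N

end Groth.Agent.S16178
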