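import Groth.Statements.S16179
import Groth.Agent.S16178
import Groth.Agent.Lib27.Flat.ValTF

set_option autoImplicit false
universe u
open CategoryTheory
open CAlg

namespace Groth.Agent.S16179

/-- Let V be a valuation ring, B a flat V-algebra of finite presentation, q a prime ideal of B lying
over the prime p of V, A = B_q the local ring of Spec B at q, and suppose that the local ring A/pA
of the fibre over p at q is a regular local ring of dimension n. Then every finitely presented
A-module M has projective dimension at most n + 1 over A. -/
theorem result (V : Type u) [CommRing V] [IsDomain V] [ValuationRing V]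
    (B : Type u) [CommRing B] [Algebra V B] [Module.Flat V B] [Algebra.FinitePresentation V B]
    (q : Ideal B) [q.IsPrime] (n : ℕ)
    (hreg : IsRegularLocalRing (Localization.AtPrime q ⧸ Ideal.map (algebraMap V (Localization.AtPrime q)) (Ideal.comap (algebraMap V B) q)))
    (hn : ringKrullDim (Localization.AtPrime q ⧸ Ideal.map (algebraMap V (Localization.AtPrime q)) (Ideal.comap (algebraMap V B) q)) = n)
    (M : Type u) [AddCommGroup M] [Module (Localization.AtPrime q) M] [Module.FinitePresentation (Localization.AtPrime q) M] :
    HasProjectiveDimensionLE (ModuleCat.of (Localization.AtPrime q) M) (n + 1) := by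
  classical
  obtain ⟨r, π, hπ⟩ := Module.Finite.exists_fin' (Localization.AtPrime q) M
  haveI : Module.Finite (Localization.AtPrime q) (LinearMap.ker π) :=
    Module.Finite.of_fg (Module.FinitePresentation.fg_ker π hπ)
  haveI : Module.Flat V (Localization.AtPrime q) := Module.Flat.trans V B _
  haveI : Module.Flat V (Fin r → Localization.AtPrime q) :=
    Module.Flat.trans V (Localization.AtPrime q) _
  haveI : Algebra.EssFiniteType B (Localization.AtPrime q) :=
    Algebra.EssFiniteType.of_isLocalization (Localization.AtPrime q) q.primeCompl
  haveI : Algebra.EssFiniteType V (Localization.AtPrime q) :=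
    Algebra.EssFiniteType.comp V B (Localization.AtPrime q)
  obtain ⟨hKfp, hKfl⟩ := Groth.Agent.Lib27.ValTF.finitePresentation_of_injective
    (V := V) (Localization.AtPrime q) (K := LinearMap.ker π)
    ((LinearMap.ker π).subtype.restrictScalars V) Subtype.val_injective
  haveI := hKfp
  haveI := hKfl
  have hK := Groth.Agent.S16178.result V B q n hreg hn (LinearMap.ker π)
  let Sc : ShortComplex (ModuleCat.{u} (Localization.AtPrime q)) :=
    ShortComplex.mk (ModuleCat.ofHom (LinearMap.ker π).subtype) (ModuleCat.ofHom π) (by
      apply ModuleCat.hom_ext
      apply LinearMap.ext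
      intro x
      exact x.2)
  have hS : Sc.ShortExact := by
    refine ModuleCat.shortComplex_shortExact Sc ?_ ?_ ?_
    · intro y
      constructor
      · intro hy
        exact ⟨⟨y, hy⟩, rfl⟩
      · rintro ⟨k, rfl⟩
        exact k.2
    · exact Subtype.val_injective
    · exact hπ
  haveI : Module.Projective (Localization.AtPrime q) (Fin r → Localization.AtPrime q) :=
    Module.Projective.of_free
  have hP : Projective Sc.X₂ :=
    ModuleCat.projective_of_categoryTheory_projective
      (ModuleCat.of (Localization.AtPrime q) (Fin r → Localization.AtPrime q))
  have key := hS.hasProjectiveDimensionLT_X₃_iff n hP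
  exact key.mpr hK

end Groth.Agent.S16179
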