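import Groth.Statements.S16180
import Groth.Agent.S16178
import Groth.Agent.Lib27.Flat.ValDual

set_option autoImplicit false
universe u
open CategoryTheory
open CAlg

namespace Groth.Agent.S16180

/-- Let V be a valuation ring, B a flat V-algebra of finite presentation, q a prime ideal of B lying
over the prime p of V, A = B_q the local ring of Spec B at q, and suppose that the local ring A/pA
of the fibre over p at q is a regular local ring of dimension n. Then every finitely presented
A-module M which is reflexive (the evaluation map into its double A-dual is bijective) has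
projective dimension at most max(0, n - 1) over A (written with truncated subtraction of natural
numbers). -/
theorem result (V : Type u) [CommRing V] [IsDomain V] [ValuationRing V]
    (B : Type u) [CommRing B] [Algebra V B] [Module.Flat V B] [Algebra.FinitePresentation V B]
    (q : Ideal B) [q.IsPrime] (n : ℕ)
    (hreg : IsRegularLocalRing (Localization.AtPrime q ⧸ Ideal.map (algebraMap V (Localization.AtPrime q)) (Ideal.comap (algebraMap V B) q)))
    (hn : ringKrullDim (Localization.AtPrime q ⧸ Ideal.map (algebraMap V (Localization.AtPrime q)) (Ideal.comap (algebraMap V B) q)) = n)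
    (M : Type u) [AddCommGroup M] [Module (Localization.AtPrime q) M] [Module.FinitePresentation (Localization.AtPrime q) M]
    [Module.IsReflexive (Localization.AtPrime q) M] :
    HasProjectiveDimensionLE (ModuleCat.of (Localization.AtPrime q) M) (n - 1) := by
  classical
  haveI : Module.Flat V (Localization.AtPrime q) := Module.Flat.trans V B _
  haveI : Algebra.EssFiniteType B (Localization.AtPrime q) :=
    Algebra.EssFiniteType.of_isLocalization (Localization.AtPrime q) q.primeCompl
  haveI : Algebra.EssFiniteType V (Localization.AtPrime q) :=
    Algebra.EssFiniteType.comp V B (Localization.AtPrime q)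
  obtain ⟨a, j, hj, hfp, hfl⟩ :=
    Groth.Agent.Lib27.ValDual.exists_embedding_of_isReflexive V (Localization.AtPrime q) M
  haveI := hfp
  haveI := hfl
  have hC := Groth.Agent.S16178.result V B q n hreg hn
    (Module.Dual (Localization.AtPrime q) (Fin a → Localization.AtPrime q) ⧸ LinearMap.range j)
  let Sc : ShortComplex (ModuleCat.{u} (Localization.AtPrime q)) :=
    ShortComplex.mk (ModuleCat.ofHom j) (ModuleCat.ofHom (LinearMap.range j).mkQ) (by
      apply ModuleCat.hom_ext
      apply LinearMap.ext
      intro x
      exact (Submodule.Quotient.mk_eq_zero _).mpr ⟨x, rfl⟩)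
  have hS : Sc.ShortExact := by
    refine ModuleCat.shortComplex_shortExact Sc ?_ ?_ ?_
    · intro y
      constructor
      · intro hy
        exact (Submodule.Quotient.mk_eq_zero _).mp hy
      · rintro ⟨k, rfl⟩
        exact (Submodule.Quotient.mk_eq_zero _).mpr ⟨k, rfl⟩
    · exact hj
    · exact Submodule.mkQ_surjective _
  haveI : Module.Projective (Localization.AtPrime q)
      (Module.Dual (Localization.AtPrime q) (Fin a → Localization.AtPrime q)) :=
    Module.Projective.of_free
  have hP : Projective Sc.X₂ :=
    ModuleCat.projective_of_categoryTheory_projective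
      (ModuleCat.of (Localization.AtPrime q)
        (Module.Dual (Localization.AtPrime q) (Fin a → Localization.AtPrime q)))
  have h₂ : HasProjectiveDimensionLT Sc.X₂ (n - 1 + 1) :=
    hasProjectiveDimensionLT_of_ge Sc.X₂ 1 (n - 1 + 1) (by omega)
  have h₃ : HasProjectiveDimensionLT Sc.X₃ (n - 1 + 1 + 1) := by
    haveI : HasProjectiveDimensionLT Sc.X₃ (n + 1) := hC
    exact hasProjectiveDimensionLT_of_ge Sc.X₃ (n + 1) (n - 1 + 1 + 1) (by omega)
  exact hS.hasProjectiveDimensionLT_X₁ (n - 1 + 1) h₂ h₃

end Groth.Agent.S16180
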