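import Groth.Statements.S16185
import Groth.Agent.Lib.Helper2.Gor.GK1

set_option autoImplicit false
universe u
open CategoryTheory CategoryTheory.Limits AlgebraicGeometry
open Dual3

namespace Groth.Agent.S16185

/-- Let A be an Artinian local ring with maximal ideal m and let f : P → Spec A be a flat morphism of
schemes whose closed fibre X = P ×_{Spec A} Spec (A/m) is a Gorenstein scheme (locally Noetherian,
all local rings Gorenstein). Then f is a Gorenstein morphism: flat at every point with Gorenstein
local rings on its fibres. (The source takes A to be a local Artinian algebra over a field k with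
residue field k and X a k-scheme deformed flatly over A; the k-algebra structure plays no role, so
the residue field of A is used directly.) -/
theorem result
    {A : Type u} [CommRing A] [IsArtinianRing A] [IsLocalRing A]
    {P X : Scheme.{u}} (f : P ⟶ Spec (CommRingCat.of A)) [Flat f]
    (i : X ⟶ P) (q : X ⟶ Spec (CommRingCat.of (IsLocalRing.ResidueField A)))
    (hsq : IsPullback i q f (Spec.map (CommRingCat.ofHom (IsLocalRing.residue A))))
    (hX : Dual3.IsGorenstein X) : Dual3.IsGorensteinMor f := by
  intro x
  refine ⟨Flat.stalkMap f x, ?_⟩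
  set y : Spec (CommRingCat.of A) := f.base x with hy
  haveI hmaxI : y.asIdeal.IsMaximal := IsArtinianRing.isMaximal_of_isPrime y.asIdeal
  have hmax : y.asIdeal = IsLocalRing.maximalIdeal A := IsLocalRing.eq_maximalIdeal hmaxI
  -- the ring isomorphism `A/m ≃ κ(y)`
  let ψ : IsLocalRing.ResidueField A →+* y.asIdeal.ResidueField :=
    (algebraMap (A ⧸ y.asIdeal) y.asIdeal.ResidueField).comp
      (Ideal.quotEquivOfEq hmax.symm : (A ⧸ IsLocalRing.maximalIdeal A) →+* (A ⧸ y.asIdeal))
  have hψ : Function.Bijective ψ :=
    (y.asIdeal.bijective_algebraMap_quotient_residueField).comp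
      (Ideal.quotEquivOfEq hmax.symm).bijective
  have hψc : ψ.comp (IsLocalRing.residue A) = algebraMap A y.asIdeal.ResidueField := by
    ext a
    rfl
  let Ψ : CommRingCat.of (IsLocalRing.ResidueField A) ≅ CommRingCat.of y.asIdeal.ResidueField :=
    (RingEquiv.ofBijective ψ hψ).toCommRingCatIso
  have hΨ : CommRingCat.ofHom (IsLocalRing.residue A) ≫ Ψ.hom =
      CommRingCat.ofHom (algebraMap A y.asIdeal.ResidueField) := by
    ext a
    exact congrFun (congrArg DFunLike.coe hψc) a
  let θ : Spec ((Spec (CommRingCat.of A)).residueField y) ≅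
      Spec (CommRingCat.of (IsLocalRing.ResidueField A)) :=
    Scheme.Spec.mapIso (Ψ ≪≫ (Scheme.Spec.residueFieldIso (CommRingCat.of A) y).symm).op
  have hθ : θ.hom ≫ Spec.map (CommRingCat.ofHom (IsLocalRing.residue A)) =
      (Spec (CommRingCat.of A)).fromSpecResidueField y := by
    rw [← Scheme.Spec.map_residueFieldIso_inv_eq_fromSpecResidueField, ← hΨ]
    have hθ' : θ.hom = Spec.map (Ψ.hom ≫ (Scheme.Spec.residueFieldIso (CommRingCat.of A) y).inv) :=
      rfl
    rw [hθ', Spec.map_comp, Category.assoc, Spec.map_comp]
  have hpb : IsPullback (f.fiberι y) (f.fiberToSpecResidueField y ≫ θ.hom) f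
      (Spec.map (CommRingCat.ofHom (IsLocalRing.residue A))) := by
    refine IsPullback.of_iso (IsPullback.of_hasPullback f
      ((Spec (CommRingCat.of A)).fromSpecResidueField y)) (Iso.refl _) (Iso.refl _) θ (Iso.refl _)
      ?_ ?_ ?_ ?_
    · simp [Scheme.Hom.fiberι]
      rfl
    · simp [Scheme.Hom.fiberToSpecResidueField]
      rfl
    · simp
    · simp [hθ]
  let e : f.fiber y ≅ X := hpb.isoIsPullback _ _ hsq
  have he : e.hom ≫ i = f.fiberι y := hpb.isoIsPullback_hom_fst _ _ hsq
  have hG := hX.2 (e.hom.base (f.asFiber x))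
  exact Groth.Agent.Lib.Helper2.GK.gor_of_ringEquiv
    (asIso (e.hom.stalkMap (f.asFiber x))).commRingCatIsoToRingEquiv hG

end Groth.Agent.S16185
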