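import Groth.Statements.S16187
import Groth.Agent.Lib.Helper1.FittCI2

set_option autoImplicit false
universe u
open CategoryTheory
open Fitt

namespace Groth.Agent.S16187

/-- Let k be an algebraically closed field and let B be a reduced k-algebra presented as k[T_1, …,
T_r]/(a_1, …, a_c) with a_1, …, a_c a regular sequence in the polynomial ring, so that Spec B is a
reduced complete intersection of dimension d = r - c. Then the d-th Fitting ideal of Ω_{B/k} equals
the 0-th Fitting ideal of the B-module T^1 = Ext^1_B(Ω_{B/k}, B). (The source states the equality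
Fitt_d of the formal sheaf of differentials = Fitt_0 of T^1 for a flat morphism 𝔛 → Spf k[[t]] of
locally Noetherian formal schemes that is a local complete intersection of relative dimension d and
has reduced closed fibre, and obtains it on affine charts from a two-term free resolution of the
differentials given by the conormal sequence; stated here is that chart computation on the closed
fibre, for a global complete intersection in affine r-space.) -/
theorem result
    (k : Type u) [Field k] [IsAlgClosed k] (r c : ℕ)
    (B : Type u) [CommRing B] [Algebra k B] [IsReduced B]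
    (φ : MvPolynomial (Fin r) k →ₐ[k] B) (hφ : Function.Surjective φ)
    (a : Fin c → MvPolynomial (Fin r) k)
    (ha : RingTheory.Sequence.IsRegular (MvPolynomial (Fin r) k) (List.ofFn a))
    (hker : RingHom.ker φ.toRingHom = Ideal.span (Set.range a)) :
    Fitt.ideal B (KaehlerDifferential k B) (r - c) =
      Fitt.ideal B (Abelian.Ext.{u} (ModuleCat.of B (KaehlerDifferential k B)) (ModuleCat.of B B) 1) 0 := by
  classical
  have hcr : c ≤ r := Groth.Agent.Lib.Helper1.FittCI.le_of_isRegular_mvPolynomial a ha
  have hft : Algebra.FiniteType k B := Algebra.FiniteType.of_surjective φ hφ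
  let G : Algebra.Generators k B (Fin r) := Algebra.Generators.ofAlgHom φ hφ
  have halg : ∀ p : MvPolynomial (Fin r) k, algebraMap G.toExtension.Ring B p = φ p := by
    intro p
    change algebraMap G.Ring B p = φ p
    rw [Algebra.Generators.algebraMap_apply]
    have : MvPolynomial.aeval G.val = φ := by
      apply MvPolynomial.algHom_ext
      intro i
      rw [MvPolynomial.aeval_X]
      rfl
    rw [this]
  have hkerG : Ideal.span (Set.range (a : Fin c → G.toExtension.Ring)) = G.toExtension.ker := by
    change Ideal.span (Set.range a) = RingHom.ker (algebraMap G.toExtension.Ring B)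
    rw [← hker]
    refine Ideal.ext fun p => ⟨fun hp => ?_, fun hp => ?_⟩
    · have h1 : φ p = 0 := (RingHom.mem_ker).mp hp
      exact (RingHom.mem_ker).mpr ((halg p).trans h1)
    · have h1 : algebraMap G.toExtension.Ring B p = 0 := (RingHom.mem_ker).mp hp
      exact (RingHom.mem_ker).mpr ((halg p).symm.trans h1)
  obtain ⟨bC, -⟩ := Groth.Agent.Lib.Helper1.FittCI.cotangent_basis G.toExtension
    (a : Fin c → G.toExtension.Ring) hkerG ha.1
  have hinj := Groth.Agent.Lib.Helper1.FittCI.cotangentComplex_injective G bC
  let bL := G.cotangentSpaceBasis
  let σ : (Fin c → B) →ₗ[B] (Fin r → B) :=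
    bL.equivFun.toLinearMap ∘ₗ G.toExtension.cotangentComplex ∘ₗ bC.equivFun.symm.toLinearMap
  let g : (Fin r → B) →ₗ[B] Ω[B⁄k] :=
    G.toExtension.toKaehler ∘ₗ bL.equivFun.symm.toLinearMap
  have hσ : Function.Injective σ :=
    bL.equivFun.injective.comp (hinj.comp bC.equivFun.symm.injective)
  have hg : Function.Surjective g :=
    G.toExtension.toKaehler_surjective.comp bL.equivFun.symm.surjective
  have hex : Function.Exact σ g := by
    intro y
    constructor
    · intro hy
      obtain ⟨z, hz⟩ := (G.toExtension.exact_cotangentComplex_toKaehler _).mp hy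
      refine ⟨bC.equivFun z, ?_⟩
      change bL.equivFun (G.toExtension.cotangentComplex (bC.equivFun.symm (bC.equivFun z))) = y
      rw [LinearEquiv.symm_apply_apply, hz]
      exact bL.equivFun.apply_symm_apply y
    · rintro ⟨z, rfl⟩
      change G.toExtension.toKaehler (bL.equivFun.symm (bL.equivFun
        (G.toExtension.cotangentComplex (bC.equivFun.symm z)))) = 0
      have h1 : bL.equivFun.symm (bL.equivFun
          (G.toExtension.cotangentComplex (bC.equivFun.symm z))) =
          G.toExtension.cotangentComplex (bC.equivFun.symm z) := bL.equivFun.symm_apply_apply _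
      rw [h1]
      exact (G.toExtension.exact_cotangentComplex_toKaehler _).mpr ⟨_, rfl⟩
  rw [Groth.Agent.Lib.Helper1.FittCI.ideal_eq_detIdeal σ g hg hex (r - c),
    Groth.Agent.Lib.Helper1.FittCI.ideal_ext_eq_detIdeal σ g hσ hg hex 0]
  congr 1
  omega

end Groth.Agent.S16187
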