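import Groth.Statements.S16188
import Mathlib.AlgebraicGeometry.IdealSheaf.Functorial
-- import your own Groth.Agent.* helpers here

set_option autoImplicit false
universe u
open CategoryTheory AlgebraicGeometry TopologicalSpace
open SchMor

namespace Groth.Agent.S16188

open Scheme IdealSheafData

lemma isReduced_subscheme_vanishingIdeal {Y : Scheme.{u}} (Z : Closeds Y) :
    IsReduced (vanishingIdeal Z).subscheme := by
  have : ∀ U : Y.affineOpens,
      IsReduced ((vanishingIdeal Z).subschemeCover.openCover.X U) := by
    intro U
    show IsReduced (Spec (.of (Γ(Y, U) ⧸ (vanishingIdeal Z).ideal U)))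
    rw [affine_isReduced_iff]
    show _root_.IsReduced (Γ(Y, U) ⧸ (vanishingIdeal Z).ideal U)
    rw [← Ideal.isRadical_iff_quotient_reduced]
    rw [vanishingIdeal_ideal]
    exact PrimeSpectrum.isRadical_vanishingIdeal _
  exact IsReduced.of_openCover _ (vanishingIdeal Z).subschemeCover.openCover

lemma irreducibleSpace_subscheme_vanishingIdeal {Y : Scheme.{u}} (Z : Closeds Y)
    (hZ : IsIrreducible (Z : Set Y)) :
    IrreducibleSpace (vanishingIdeal Z).subscheme := by
  have hemb : Topology.IsEmbedding (vanishingIdeal Z).subschemeι :=
    (vanishingIdeal Z).subschemeι.isEmbedding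
  have hr : Set.range (vanishingIdeal Z).subschemeι = (Z : Set Y) := by
    rw [range_subschemeι, coe_support_vanishingIdeal]
  have h1 : IrreducibleSpace (Set.range (vanishingIdeal Z).subschemeι) := by
    rw [hr]; exact Subtype.irreducibleSpace hZ
  exact (hemb.toHomeomorph.irreducibleSpace_iff).mpr h1

/-- Let f : X → Y be a morphism of schemes with X reduced and irreducible. Then f factors through an
irreducible component of Y carrying its reduced closed-subscheme structure: there are an irreducible
component Z of Y and a morphism g from X to the closed subscheme of Y cut out by the vanishing ideal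
sheaf of Z with g followed by the inclusion equal to f; that closed subscheme is integral. -/
theorem result
    {X Y : Scheme.{u}} (f : X ⟶ Y) [IsReduced X] [IrreducibleSpace X] :
    ∃ (Z : Closeds Y) (_ : (Z : Set Y) ∈ irreducibleComponents Y)
      (_ : IsIntegral (Scheme.IdealSheafData.vanishingIdeal Z).subscheme)
      (g : X ⟶ (Scheme.IdealSheafData.vanishingIdeal Z).subscheme),
      g ≫ (Scheme.IdealSheafData.vanishingIdeal Z).subschemeι = f := by
  -- the closure of the range of f is irreducible
  have hirr : IsIrreducible (closure (Set.range f)) := by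
    rw [← Set.image_univ]
    exact ((IrreducibleSpace.isIrreducible_univ X).image f f.continuous.continuousOn).closure
  obtain ⟨Z0, hZ0, hle⟩ := exists_mem_irreducibleComponents_subset_of_isIrreducible _ hirr
  have hZ0c : IsClosed Z0 := isClosed_of_mem_irreducibleComponents Z0 hZ0
  let Z : Closeds Y := ⟨Z0, hZ0c⟩
  have hZirr : IsIrreducible (Z : Set Y) := hZ0.1
  have hker : f.ker = vanishingIdeal (.closure (Set.range f)) := by
    have h1 := map_vanishingIdeal f (⊤ : Closeds X)
    rw [vanishingIdeal_top, nilradical_eq_bot, map_bot] at h1
    rw [h1]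
    congr 1
    ext1
    simp
  have hle' : (vanishingIdeal Z).subschemeι.ker ≤ f.ker := by
    rw [ker_subschemeι, hker]
    apply vanishingIdeal_antimono
    exact hle
  have hred := isReduced_subscheme_vanishingIdeal Z
  have hirrZ := irreducibleSpace_subscheme_vanishingIdeal Z hZirr
  refine ⟨Z, hZ0, ?_, IsClosedImmersion.lift (vanishingIdeal Z).subschemeι f hle',
    IsClosedImmersion.lift_fac _ _ _⟩
  exact isIntegral_of_irreducibleSpace_of_isReduced _

end Groth.Agent.S16188
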