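import Groth.Statements.S16195
-- import your own Groth.Agent.* helpers here

set_option autoImplicit false
universe u v w
open DivAlg

namespace Groth.Agent.S16195

/-- Let R be a ring (associative, unital, not necessarily commutative) and M, N left R-modules. For an
R-module P write BiEnd_R(P) for the ring of endomorphisms of P that are linear over the ring
End_R(P), which acts on P through evaluation. Then every T in BiEnd_R(M × N) preserves the two
summands and is induced by a pair (T₁, T₂) with T₁ in BiEnd_R(M) and T₂ in BiEnd_R(N). -/
theorem result {R : Type u} [Ring R] (M : Type v) (N : Type w)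
    [AddCommGroup M] [Module R M] [AddCommGroup N] [Module R N]
    (T : Module.End (Module.End R (M × N)) (M × N)) :
    ∃ (T₁ : Module.End (Module.End R M) M) (T₂ : Module.End (Module.End R N) N),
      ∀ (m : M) (n : N), T (m, n) = (T₁ m, T₂ n) := by
  -- T commutes with every R-endomorphism
  have hT : ∀ (Φ : Module.End R (M × N)) (x : M × N), T (Φ x) = Φ (T x) := by
    intro Φ x
    have := T.map_smul Φ x
    simpa using this
  have h1 : ∀ (φ : Module.End R M) (m : M), T (φ m, 0) = (φ (T (m, 0)).1, 0) := by
    intro φ m
    have := hT (LinearMap.prodMap φ (0 : N →ₗ[R] N)) (m, 0)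
    simpa using this
  have h2 : ∀ (ψ : Module.End R N) (n : N), T (0, ψ n) = (0, ψ (T (0, n)).2) := by
    intro ψ n
    have := hT (LinearMap.prodMap (0 : M →ₗ[R] M) ψ) (0, n)
    simpa using this
  let T₁ : Module.End (Module.End R M) M :=
    { toFun := fun m => (T (m, 0)).1
      map_add' := by
        intro a b
        have : ((a + b, 0) : M × N) = (a, 0) + (b, 0) := by simp
        rw [this, map_add]; rfl
      map_smul' := by
        intro φ m
        show (T (φ m, 0)).1 = φ (T (m, 0)).1
        rw [h1] }
  let T₂ : Module.End (Module.End R N) N :=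
    { toFun := fun n => (T (0, n)).2
      map_add' := by
        intro a b
        have : ((0, a + b) : M × N) = (0, a) + (0, b) := by simp
        rw [this, map_add]; rfl
      map_smul' := by
        intro ψ n
        show (T (0, ψ n)).2 = ψ (T (0, n)).2
        rw [h2] }
  refine ⟨T₁, T₂, ?_⟩
  intro m n
  have e : ((m, n) : M × N) = (m, 0) + (0, n) := by simp
  rw [e, map_add]
  have a1 := h1 LinearMap.id m
  have a2 := h2 LinearMap.id n
  simp only [LinearMap.id_coe, id_eq] at a1 a2
  rw [a1, a2]
  simp [T₁, T₂]

end Groth.Agent.S16195
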