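import Groth.Statements.S16196
import Mathlib.Algebra.Module.BigOperators
-- import your own Groth.Agent.* helpers here

set_option autoImplicit false
universe u v
open DivAlg

namespace Groth.Agent.S16196

/-- Let R be a ring (associative, unital, not necessarily commutative) and M a left R-module which is a
generator, in the form: for some n there is an R-linear surjection from M^n onto R. Then the natural
ring homomorphism from R to the double endomorphism ring BiEnd_R(M) = End_{End_R(M)}(M)
(endomorphisms of M commuting with every R-linear endomorphism), r ↦ multiplication by r, is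
bijective. (The printed form takes R an algebra over a commutative ring k, embeds R in E = End_k(M)
and asserts R = C_E(C_E(R)); the double centralizer there is BiEnd_R(M).) -/
theorem result {R : Type u} [Ring R] (M : Type v)
    [AddCommGroup M] [Module R M]
    (hgen : ∃ (n : ℕ) (f : (Fin n → M) →ₗ[R] R), Function.Surjective f) :
    Function.Bijective (Module.toModuleEnd (Module.End R M) (S := R) M) := by
  classical
  obtain ⟨n, f, hf⟩ := hgen
  obtain ⟨x, hx⟩ := hf 1
  let fi : Fin n → (M →ₗ[R] R) := fun i => f ∘ₗ LinearMap.single R (fun _ => M) i
  have hsum : ∑ i, fi i (x i) = 1 := by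
    rw [← hx]
    have : x = ∑ i, Pi.single i (x i) := (Finset.univ_sum_single x).symm
    conv_rhs => rw [this, map_sum]
    rfl
  constructor
  · rw [injective_iff_map_eq_zero]
    intro r hr
    have hrm : ∀ m : M, r • m = 0 := by
      intro m
      have := LinearMap.congr_fun hr m
      simpa using this
    calc r = r * 1 := (mul_one r).symm
      _ = r * ∑ i, fi i (x i) := by rw [hsum]
      _ = ∑ i, fi i (r • x i) := by
        rw [Finset.mul_sum]
        apply Finset.sum_congr rfl
        intro i _
        rw [map_smul, smul_eq_mul]
      _ = 0 := by simp [hrm]
  · intro T
    have hT : ∀ (φ : Module.End R M) (y : M), T (φ y) = φ (T y) := by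
      intro φ y
      have := T.map_smul φ y
      simpa using this
    refine ⟨∑ i, fi i (T (x i)), ?_⟩
    ext m
    have key : ∀ i, T (fi i (x i) • m) = fi i (T (x i)) • m := by
      intro i
      have := hT ((fi i).smulRight m) (x i)
      simpa using this
    have hm : m = ∑ i, fi i (x i) • m := by
      rw [← Finset.sum_smul, hsum, one_smul]
    conv_rhs => rw [hm, map_sum]
    simp only [key]
    rw [← Finset.sum_smul]
    rfl

end Groth.Agent.S16196
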