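import Groth.Statements.S16197
import Mathlib.Algebra.Module.BigOperators
import Mathlib.LinearAlgebra.Finsupp.Defs
import Mathlib.Data.Fintype.EquivFin
-- import your own Groth.Agent.* helpers here

set_option autoImplicit false
universe u v w
open DivAlg

namespace Groth.Agent.S16197

/-- Let R be a ring (associative, unital, not necessarily commutative) and M a left R-module which is a
generator, used here only through the existence of an R-linear surjection from a direct sum of
copies of M, indexed by an arbitrary type, onto R. Then some finite power M^n decomposes as R × Q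
for a submodule Q of M^n. (The published statement is an equivalence; this row states only the
implication from the existence of such a surjection to the splitting.) -/
theorem result {R : Type u} [Ring R] (M : Type v)
    [AddCommGroup M] [Module R M]
    (hgen : ∃ (ι : Type w) (f : (ι →₀ M) →ₗ[R] R), Function.Surjective f) :
    ∃ (n : ℕ) (Q : Submodule R (Fin n → M)), Nonempty ((Fin n → M) ≃ₗ[R] (R × Q)) := by
  classical
  obtain ⟨ι, f, hf⟩ := hgen
  obtain ⟨x, hx⟩ := hf 1
  let s := x.support
  let n := s.card
  let e : Fin n ≃ s := s.equivFin.symm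
  let g : (Fin n → M) →ₗ[R] R :=
    ∑ k : Fin n, (f ∘ₗ Finsupp.lsingle (e k : ι)) ∘ₗ LinearMap.proj k
  let y0 : Fin n → M := fun k => x (e k)
  have hg0 : g y0 = 1 := by
    rw [← hx]
    have h1 : g y0 = ∑ k : Fin n, f (Finsupp.single (e k : ι) (x (e k))) := by
      simp [g, y0, LinearMap.sum_apply]
    rw [h1, ← map_sum]
    congr 1
    have h2 : ∑ k : Fin n, Finsupp.single (e k : ι) (x (e k)) =
        ∑ i : s, Finsupp.single (i : ι) (x i) :=
      Fintype.sum_equiv e _ _ (fun _ => rfl)
    rw [h2, Finset.sum_coe_sort s (fun i => Finsupp.single i (x i))]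
    exact Finsupp.sum_single x
  let Q := LinearMap.ker g
  refine ⟨n, Q, ⟨?_⟩⟩
  have hmem : ∀ y : Fin n → M, y - g y • y0 ∈ Q := by
    intro y
    rw [LinearMap.mem_ker, map_sub, map_smul, hg0, smul_eq_mul, mul_one, sub_self]
  let F : (Fin n → M) →ₗ[R] (R × Q) :=
    LinearMap.prod g (LinearMap.codRestrict Q (LinearMap.id - (LinearMap.toSpanSingleton R _ y0) ∘ₗ g)
      (fun y => by simpa using hmem y))
  let G : (R × Q) →ₗ[R] (Fin n → M) :=
    LinearMap.coprod (LinearMap.toSpanSingleton R _ y0) Q.subtype
  refine LinearEquiv.ofLinearMap F G ?_ ?_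
  · apply LinearMap.ext
    rintro ⟨r, q, hq⟩
    have hq' : g q = 0 := hq
    apply Prod.ext
    · simp [F, G, hg0, hq']
    · apply Subtype.ext
      simp [F, G, hg0, hq']
  · apply LinearMap.ext
    intro y
    simp [F, G]

end Groth.Agent.S16197
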