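import Groth.Statements.S16199
import Mathlib
-- import your own Groth.Agent.* helpers here

set_option autoImplicit false
universe u
open DivAlg

namespace Groth.Agent.S16199

open Matrix

section helpers

variable {R : Type u} [CommRing R] {n : ℕ}

section forward

variable (N : Type u) [AddCommGroup N] [Module R N]

/-- the action of matrices on `N^n` -/
def TT : Matrix (Fin n) (Fin n) R →ₐ[R] Module.End R (Fin n → N) where
  toFun A :=
    { toFun := fun v i => ∑ j, A i j • v j
      map_add' := by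
        intro v w
        funext i
        simp [smul_add, Finset.sum_add_distrib]
      map_smul' := by
        intro r v
        funext i
        simp [Finset.smul_sum, smul_comm r] }
  map_one' := by
    refine LinearMap.ext fun v => funext fun i => ?_
    simp [Matrix.one_apply]
  map_mul' := by
    intro A B
    refine LinearMap.ext fun v => funext fun i => ?_
    simp only [Matrix.mul_apply, LinearMap.coe_mk, AddHom.coe_mk, Module.End.mul_apply,
      Finset.sum_smul, Finset.smul_sum, mul_smul]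
    rw [Finset.sum_comm]
  map_zero' := by
    refine LinearMap.ext fun v => funext fun i => ?_
    simp
  map_add' := by
    intro A B
    refine LinearMap.ext fun v => funext fun i => ?_
    simp [add_smul, Finset.sum_add_distrib]
  commutes' := by
    intro r
    refine LinearMap.ext fun v => funext fun i => ?_
    simp [Matrix.algebraMap_matrix_apply, ite_smul]

lemma TT_apply (A : Matrix (Fin n) (Fin n) R) (v : Fin n → N) (i : Fin n) :
    TT N A v i = ∑ j, A i j • v j := rfl

lemma TT_injective [Module.Invertible R N] : Function.Injective (TT (R := R) (n := n) N) := by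
  intro A B hAB
  ext i j
  have h : ∀ x : N, A i j • x = B i j • x := by
    intro x
    have := congrFun (LinearMap.congr_fun hAB (Pi.single j x)) i
    simpa [TT_apply, Pi.single_apply] using this
  exact FaithfulSMul.eq_of_smul_eq_smul h

lemma TT_surjective [Module.Invertible R N] : Function.Surjective (TT (R := R) (n := n) N) := by
  intro f
  have h : ∀ i j : Fin n, ∃ a : R, ∀ x : N, a • x = f (Pi.single j x) i := by
    intro i j
    let g : Module.End R N :=
      (LinearMap.proj i).comp (f.comp (LinearMap.single R (fun _ : Fin n => N) j))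
    obtain ⟨a, ha⟩ := (Module.Invertible.toModuleEnd_bijective R N).2 g
    refine ⟨a, fun x => ?_⟩
    have := LinearMap.congr_fun ha x
    simpa [g] using this
  choose a ha using h
  refine ⟨Matrix.of a, ?_⟩
  refine LinearMap.ext fun v => funext fun i => ?_
  rw [TT_apply]
  simp only [Matrix.of_apply, ha]
  have hv : v = ∑ j, Pi.single j (v j) := by
    funext k
    simp [Finset.sum_apply, Pi.single_apply]
  conv_rhs => rw [hv, map_sum, Finset.sum_apply]


lemma free_of_inner (hn : 1 ≤ n) [Module.Invertible R N]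
    (H : ∀ φ : Matrix (Fin n) (Fin n) R ≃ₐ[R] Matrix (Fin n) (Fin n) R,
        ∃ P : GL (Fin n) R, ∀ A : Matrix (Fin n) (Fin n) R, φ A = P.1 * A * (P⁻¹).1)
    (ψ : (Fin n → N) ≃ₗ[R] (Fin n → R)) : Module.Free R N := by
  classical
  obtain ⟨o, ho⟩ : ∃ o : Fin n, o = ⟨0, hn⟩ := ⟨_, rfl⟩
  let φ : Matrix (Fin n) (Fin n) R ≃ₐ[R] Matrix (Fin n) (Fin n) R :=
    (AlgEquiv.ofBijective (TT N) ⟨TT_injective N, TT_surjective N⟩).trans
      ((ψ.conjAlgEquiv R).trans LinearMap.toMatrixAlgEquiv')
  have hφ : ∀ (A : Matrix (Fin n) (Fin n) R) (v : Fin n → N), (φ A) *ᵥ (ψ v) = ψ (TT N A v) := by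
    intro A v
    have h1 : φ A = LinearMap.toMatrixAlgEquiv'
        (ψ.toLinearMap ∘ₗ (TT N A) ∘ₗ ψ.symm.toLinearMap) := rfl
    rw [h1, ← Matrix.toLinAlgEquiv'_apply, Matrix.toLinAlgEquiv'_toMatrixAlgEquiv']
    simp
  obtain ⟨P, hP⟩ := H φ
  -- the surjection `R → N`
  let g : R →ₗ[R] N := (LinearMap.proj o).comp (ψ.symm.toLinearMap.comp
    ((Matrix.mulVecLin P.1).comp (LinearMap.single R (fun _ : Fin n => R) o)))
  have hg : Function.Surjective g := by
    intro x
    obtain ⟨s, hs⟩ : ∃ s : Fin n → N, s = Pi.single o x := ⟨_, rfl⟩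
    have h2 : TT N (Matrix.single o o (1 : R)) s = s := by
      funext i
      rw [TT_apply, hs]
      by_cases hi : i = o
      · subst hi
        rw [Finset.sum_eq_single i]
        · simp
        · intro j _ hj
          simp [Matrix.single_apply, hj.symm]
        · simp
      · simp [Matrix.single_apply, Ne.symm hi, Pi.single_apply, hi]
    have h3 := hφ (Matrix.single o o (1 : R)) s
    rw [h2, hP] at h3
    obtain ⟨y, hy⟩ : ∃ y : Fin n → R, y = (P⁻¹).1 *ᵥ ψ s := ⟨_, rfl⟩
    have h4 : P.1 *ᵥ (Pi.single o (y o)) = ψ s := by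
      rw [← h3, ← Matrix.mulVec_mulVec, ← Matrix.mulVec_mulVec, ← hy]
      congr 1
      funext i
      simp [Matrix.mulVec, dotProduct, Matrix.single_apply, Pi.single_apply]
      by_cases hi : i = o
      · simp [hi]
      · simp [hi, Ne.symm hi]
    refine ⟨y o, ?_⟩
    change (ψ.symm (P.1 *ᵥ (Pi.single o (y o)))) o = x
    rw [h4, LinearEquiv.symm_apply_apply, hs]
    simp
  have hbij := Module.Invertible.bijective_of_surjective hg
  exact Module.Free.of_equiv (LinearEquiv.ofBijective g hbij)

end forward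


section backward

open TensorProduct

/-- a Morita-context criterion for invertibility -/
lemma invertible_of_morita {N N' : Type*} [AddCommGroup N] [Module R N] [AddCommGroup N']
    [Module R N'] (μ : N' →ₗ[R] N →ₗ[R] R) (θ : N → N' → R)
    (h1 : ∀ v w v', θ v w • v' = μ w v' • v)
    (h2 : ∀ v w w', θ v w • w' = μ w' v • w)
    {ι : Type*} (s : Finset ι) (w' : ι → N') (v' : ι → N)
    (hone : ∑ i ∈ s, μ (w' i) (v' i) = 1) : Module.Invertible R N := by
  obtain ⟨τ, hτ⟩ : ∃ τ : N' ⊗[R] N, τ = ∑ i ∈ s, w' i ⊗ₜ[R] v' i := ⟨_, rfl⟩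
  have hμτ : TensorProduct.lift μ τ = 1 := by
    rw [hτ, map_sum]
    simpa using hone
  let e : N' ⊗[R] N ≃ₗ[R] R :=
    LinearEquiv.ofLinearMap (TensorProduct.lift μ) (LinearMap.toSpanSingleton R _ τ)
      (by
        ext
        simp [hμτ])
      (by
        apply TensorProduct.ext'
        intro w v
        simp only [LinearMap.coe_comp, Function.comp_apply, TensorProduct.lift.tmul,
          LinearMap.toSpanSingleton_apply, LinearMap.id_coe, id_eq]
        rw [hτ, Finset.smul_sum]
        calc ∑ i ∈ s, μ w v • (w' i ⊗ₜ[R] v' i)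
            = ∑ i ∈ s, w ⊗ₜ[R] (μ (w' i) (v' i) • v) := by
              refine Finset.sum_congr rfl fun i _ => ?_
              calc μ w v • (w' i ⊗ₜ[R] v' i) = (μ w v • w' i) ⊗ₜ[R] v' i :=
                    TensorProduct.smul_tmul' _ _ _
                _ = (θ v (w' i) • w) ⊗ₜ[R] v' i := by rw [h2 v (w' i) w]
                _ = w ⊗ₜ[R] (θ v (w' i) • v' i) := TensorProduct.smul_tmul _ _ _
                _ = w ⊗ₜ[R] (μ (w' i) (v' i) • v) := by rw [h1 v (w' i) (v' i)]
          _ = w ⊗ₜ[R] v := by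
              rw [← TensorProduct.tmul_sum, ← Finset.sum_smul, hone, one_smul])
  exact Module.Invertible.right e

variable (φ : Matrix (Fin n) (Fin n) R ≃ₐ[R] Matrix (Fin n) (Fin n) R)

/-- the images of the matrix units -/
def ff (i j : Fin n) : Matrix (Fin n) (Fin n) R := φ (Matrix.single i j 1)

lemma ff_mul_same (i j k : Fin n) : ff φ i j * ff φ j k = ff φ i k := by
  rw [ff, ff, ← map_mul, Matrix.single_mul_single_same, mul_one, ff]

lemma ff_mul_of_ne (i j k l : Fin n) (h : j ≠ k) : ff φ i j * ff φ k l = 0 := by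
  rw [ff, ff, ← map_mul, Matrix.single_mul_single_of_ne _ _ _ _ h, map_zero]

lemma sum_ff : ∑ i, ff φ i i = 1 := by
  simp only [ff]
  rw [← map_sum]
  have : ∑ i : Fin n, Matrix.single i i (1 : R) = 1 := by
    ext a b
    rw [Matrix.sum_apply]
    by_cases hab : a = b
    · subst hab
      rw [Finset.sum_eq_single a]
      · simp
      · intro i _ hi
        simp [Matrix.single_apply, hi]
      · simp
    · rw [Matrix.one_apply_ne hab]
      refine Finset.sum_eq_zero fun i _ => ?_
      rw [Matrix.single_apply]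
      rw [if_neg]
      rintro ⟨rfl, rfl⟩
      exact hab rfl
  rw [this, map_one]

lemma map_eq_sum (A : Matrix (Fin n) (Fin n) R) : φ A = ∑ a, ∑ b, A a b • ff φ a b := by
  conv_lhs => rw [Matrix.matrix_eq_sum_single A]
  rw [map_sum]
  refine Finset.sum_congr rfl fun a _ => ?_
  rw [map_sum]
  refine Finset.sum_congr rfl fun b _ => ?_
  rw [ff, ← map_smul]
  congr 1
  ext i j
  simp [Matrix.single_apply]

lemma ff_mul_mul_ff (o : Fin n) (X : Matrix (Fin n) (Fin n) R) :
    ff φ o o * X * ff φ o o = (φ.symm X) o o • ff φ o o := by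
  have hX : X = φ (φ.symm X) := (φ.apply_symm_apply X).symm
  conv_lhs => rw [hX]
  rw [ff, ← map_mul, ← map_mul, Matrix.single_mul_mul_single, one_mul, mul_one, ← map_smul]
  congr 1
  ext i j
  simp [Matrix.single_apply]

variable (o : Fin n)

/-- the column module -/
def Ncol : Submodule R (Fin n → R) where
  carrier := {v | ff φ o o *ᵥ v = v}
  add_mem' := by
    intro v w hv hw
    simp only [Set.mem_ofPred_eq] at hv hw ⊢
    rw [Matrix.mulVec_add, hv, hw]
  zero_mem' := by simp
  smul_mem' := by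
    intro r v hv
    simp only [Set.mem_ofPred_eq] at hv ⊢
    rw [Matrix.mulVec_smul, hv]

/-- the row module -/
def Nrow : Submodule R (Fin n → R) where
  carrier := {w | w ᵥ* ff φ o o = w}
  add_mem' := by
    intro v w hv hw
    simp only [Set.mem_ofPred_eq] at hv hw ⊢
    rw [Matrix.add_vecMul, hv, hw]
  zero_mem' := by simp
  smul_mem' := by
    intro r v hv
    simp only [Set.mem_ofPred_eq] at hv ⊢
    rw [Matrix.smul_vecMul, hv]

lemma mem_Ncol {v : Fin n → R} : v ∈ Ncol φ o ↔ ff φ o o *ᵥ v = v := Iff.rfl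
lemma mem_Nrow {w : Fin n → R} : w ∈ Nrow φ o ↔ w ᵥ* ff φ o o = w := Iff.rfl

lemma ff_mulVec_mem (i : Fin n) (w : Fin n → R) : ff φ o i *ᵥ w ∈ Ncol φ o := by
  rw [mem_Ncol, Matrix.mulVec_mulVec, ff_mul_same]

/-- the pairing -/
def muP : Nrow φ o →ₗ[R] Ncol φ o →ₗ[R] R :=
  LinearMap.mk₂ R (fun w v => (w : Fin n → R) ⬝ᵥ (v : Fin n → R))
    (by intro a b c; simp [add_dotProduct])
    (by intro r a b; simp [smul_dotProduct])
    (by intro a b c; simp [dotProduct_add])
    (by intro r a b; simp [dotProduct_smul])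

lemma muP_apply (w : Nrow φ o) (v : Ncol φ o) :
    muP φ o w v = (w : Fin n → R) ⬝ᵥ (v : Fin n → R) := rfl

/-- the other pairing -/
def thetaP (v : Ncol φ o) (w : Nrow φ o) : R :=
  (φ.symm (vecMulVec (v : Fin n → R) (w : Fin n → R))) o o

lemma vecMulVec_eq (v : Ncol φ o) (w : Nrow φ o) :
    vecMulVec (v : Fin n → R) (w : Fin n → R) = thetaP φ o v w • ff φ o o := by
  rw [thetaP, ← ff_mul_mul_ff, Matrix.mul_vecMulVec, Matrix.vecMulVec_mul]
  rw [(mem_Ncol φ o).mp v.2, (mem_Nrow φ o).mp w.2]

lemma invertible_Ncol : Module.Invertible R (Ncol φ o) := by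
  classical
  refine invertible_of_morita (muP φ o) (thetaP φ o) ?_ ?_ Finset.univ
    (fun i => ⟨fun b => ff φ i o o b, ?_⟩) (fun i => ⟨fun a => ff φ o i a o, ?_⟩) ?_
  · intro v w v'
    apply Subtype.ext
    have h := congrArg (fun X => X *ᵥ (v' : Fin n → R)) (vecMulVec_eq φ o v w)
    simp only [Matrix.vecMulVec_mulVec, Matrix.smul_mulVec, (mem_Ncol φ o).mp v'.2] at h
    simp only [Submodule.coe_smul, muP_apply]
    rw [← h]
    simp [MulOpposite.smul_eq_mul_unop, mul_comm]
  · intro v w w'
    apply Subtype.ext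
    have h := congrArg (fun X => (w' : Fin n → R) ᵥ* X) (vecMulVec_eq φ o v w)
    simp only [Matrix.vecMul_vecMulVec, Matrix.vecMul_smul, (mem_Nrow φ o).mp w'.2] at h
    simp only [Submodule.coe_smul, muP_apply]
    rw [← h]
  · rw [mem_Nrow]
    funext b
    have := congrFun (congrFun (ff_mul_same φ i o o) o) b
    rw [Matrix.mul_apply] at this
    simpa [Matrix.vecMul, dotProduct] using this
  · rw [mem_Ncol]
    funext a
    have := congrFun (congrFun (ff_mul_same φ o o i) a) o
    rw [Matrix.mul_apply] at this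
    simpa [Matrix.mulVec, dotProduct] using this
  · simp only [muP_apply, dotProduct]
    have h : ∀ i : Fin n, ∑ c, ff φ i o o c * ff φ o i c o = ff φ i i o o := by
      intro i
      rw [← ff_mul_same φ i o i, Matrix.mul_apply]
    rw [Finset.sum_congr rfl (fun i _ => h i)]
    have := congrFun (congrFun (sum_ff φ) o) o
    simpa [Matrix.sum_apply] using this


/-- `N^n ≅ R^n` -/
def ThetaE : (Fin n → Ncol φ o) ≃ₗ[R] (Fin n → R) where
  toFun v := ∑ i, ff φ i o *ᵥ (v i : Fin n → R)
  map_add' := by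
    intro v w
    simp [Matrix.mulVec_add, Finset.sum_add_distrib]
  map_smul' := by
    intro r v
    simp [Matrix.mulVec_smul, Finset.smul_sum]
  invFun w := fun i => ⟨ff φ o i *ᵥ w, ff_mulVec_mem φ o i w⟩
  left_inv := by
    classical
    intro v
    funext i
    apply Subtype.ext
    change ff φ o i *ᵥ (∑ j, ff φ j o *ᵥ (v j : Fin n → R)) = (v i : Fin n → R)
    rw [Matrix.mulVec_sum, Finset.sum_eq_single i]
    · rw [Matrix.mulVec_mulVec, ff_mul_same]
      exact (v i).2
    · intro j _ hj
      rw [Matrix.mulVec_mulVec, ff_mul_of_ne φ o i j o (Ne.symm hj), Matrix.zero_mulVec]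
    · simp
  right_inv := by
    intro w
    change ∑ i, ff φ i o *ᵥ (ff φ o i *ᵥ w) = w
    simp only [Matrix.mulVec_mulVec, ff_mul_same]
    rw [← Matrix.sum_mulVec, sum_ff, Matrix.one_mulVec]

lemma ThetaE_apply (v : Fin n → Ncol φ o) :
    ThetaE φ o v = ∑ i, ff φ i o *ᵥ (v i : Fin n → R) := rfl

lemma inner_of_free (hfree : Module.Free R (Ncol φ o)) :
    ∃ P : GL (Fin n) R, ∀ A : Matrix (Fin n) (Fin n) R, φ A = P.1 * A * (P⁻¹).1 := by
  classical
  haveI := invertible_Ncol φ o
  obtain ⟨ε⟩ := Module.Invertible.free_iff_linearEquiv.mp hfree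
  obtain ⟨v₁, hv₁⟩ : ∃ v₁ : Ncol φ o, v₁ = ε.symm 1 := ⟨_, rfl⟩
  have hgen : ∀ v : Ncol φ o, v = ε v • v₁ := by
    intro v
    rw [hv₁, ← map_smul, smul_eq_mul, mul_one, LinearEquiv.symm_apply_apply]
  obtain ⟨P, hPdef⟩ : ∃ P : Matrix (Fin n) (Fin n) R,
      P = Matrix.of (fun i k => (ff φ k o *ᵥ (v₁ : Fin n → R)) i) := ⟨_, rfl⟩
  have hPmul : ∀ r : Fin n → R, P *ᵥ r = ThetaE φ o (fun k => r k • v₁) := by
    intro r
    rw [ThetaE_apply]
    funext i
    rw [Finset.sum_apply]
    simp only [Matrix.mulVec, dotProduct, hPdef, Matrix.of_apply, Submodule.coe_smul,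
      Matrix.mulVec_smul, Pi.smul_apply, smul_eq_mul]
    refine Finset.sum_congr rfl fun k _ => ?_
    rw [Finset.sum_mul]
    refine Finset.sum_congr rfl fun x _ => ?_
    ring
  have hPsurj : Function.Surjective P.mulVec := by
    intro t
    refine ⟨fun k => ε ((ThetaE φ o).symm t k), ?_⟩
    rw [hPmul]
    have : (fun k => ε ((ThetaE φ o).symm t k) • v₁) = (ThetaE φ o).symm t := by
      funext k
      exact (hgen _).symm
    rw [this, LinearEquiv.apply_symm_apply]
  have hPu : IsUnit P := Matrix.mulVec_surjective_iff_isUnit.mp hPsurj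
  have hunit : ∀ a b : Fin n, ff φ a b * P = P * Matrix.single a b 1 := by
    intro a b
    ext i k
    have h1 : (ff φ a b * P) i k = ((ff φ a b * ff φ k o) *ᵥ (v₁ : Fin n → R)) i := by
      rw [← Matrix.mulVec_mulVec, Matrix.mul_apply]
      simp only [hPdef, Matrix.of_apply]
      rfl
    rw [h1]
    by_cases hbk : b = k
    · subst hbk
      rw [ff_mul_same]
      simp [Matrix.mul_apply, Matrix.single_apply, hPdef]
    · rw [ff_mul_of_ne φ a b k o hbk, Matrix.zero_mulVec]
      simp [Matrix.mul_apply, Matrix.single_apply, hbk]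
  have hcomm : ∀ A : Matrix (Fin n) (Fin n) R, φ A * P = P * A := by
    intro A
    rw [map_eq_sum, Finset.sum_mul]
    conv_rhs => rw [Matrix.matrix_eq_sum_single A, Finset.mul_sum]
    refine Finset.sum_congr rfl fun a _ => ?_
    rw [Finset.sum_mul, Finset.mul_sum]
    refine Finset.sum_congr rfl fun b _ => ?_
    rw [Matrix.smul_mul, hunit, ← Matrix.mul_smul]
    congr 1
    ext i j
    simp [Matrix.single_apply]
  obtain ⟨Pu, hPu'⟩ := hPu
  refine ⟨Pu, fun A => ?_⟩
  have h3 : P * ((Pu⁻¹ : GL (Fin n) R) : Matrix (Fin n) (Fin n) R) = 1 := by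
    rw [← hPu']
    exact Units.mul_inv _
  calc φ A = φ A * (P * ((Pu⁻¹ : GL (Fin n) R) : Matrix (Fin n) (Fin n) R)) := by
        rw [h3, mul_one]
    _ = (φ A * P) * ((Pu⁻¹ : GL (Fin n) R) : Matrix (Fin n) (Fin n) R) := by
        rw [mul_assoc]
    _ = _ := by rw [hcomm, hPu']

end backward

end helpers

/-- Let R be a commutative ring and n ≥ 1. The natural map from GL_n(R) to the R-algebra automorphisms
of M_n(R) is surjective (every automorphism is inner) if and only if Pic_(n)(R) = 0, i.e. every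
invertible R-module N with N^n ≅ R^n is free. (For n = 0 the left side holds trivially while the
right side fails whenever Pic(R) ≠ 0, so this row assumes n ≥ 1, which the published statement
leaves implicit; invertible modules are quantified in the universe of R, which loses nothing since
every invertible module is finitely generated.) -/
theorem result {R : Type u} [CommRing R] (n : ℕ)
    (hn : 1 ≤ n) :
    (∀ φ : Matrix (Fin n) (Fin n) R ≃ₐ[R] Matrix (Fin n) (Fin n) R,
        ∃ P : GL (Fin n) R, ∀ A : Matrix (Fin n) (Fin n) R, φ A = P.1 * A * (P⁻¹).1) ↔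
      (∀ (N : Type u) [AddCommGroup N] [Module R N] [Module.Invertible R N],
        Nonempty ((Fin n → N) ≃ₗ[R] (Fin n → R)) → Module.Free R N) := by
  constructor
  · intro H N _ _ _ hN
    obtain ⟨ψ⟩ := hN
    exact free_of_inner N hn H ψ
  · intro H φ
    haveI := invertible_Ncol φ ⟨0, hn⟩
    exact inner_of_free φ ⟨0, hn⟩ (H (Ncol φ ⟨0, hn⟩) ⟨ThetaE φ ⟨0, hn⟩⟩)

end Groth.Agent.S16199
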