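import Groth.Statements.S1620
import Groth.Agent.Lib.Helper21.ChartPt4
-- import your own Groth.Agent.* helpers here

set_option autoImplicit false
universe u
open CategoryTheory CategoryTheory.Limits AlgebraicGeometry
attribute [local instance] Curv2.stalkAlgebra Curv2.resAlgebra
open Variety

namespace Groth.Agent.S1620

/-- Let X be locally of finite type over a field k and x ⤳ x' an immediate specialisation (x ≠ x' and no
point strictly in between). If the residue field of x' has transcendence degree n over k then the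
residue field of x has transcendence degree n + 1. -/
theorem result (k : Type u) [Field k] (X : Scheme.{u}) [X.Over (Spec (CommRingCat.of k))] [LocallyOfFiniteType (X ↘ (Spec (CommRingCat.of k)))] (x x' : X) (hne : x ≠ x') (hsp : x ⤳ x')
    (himm : ∀ y : X, x ⤳ y → y ⤳ x' → y = x ∨ y = x')
    (n : ℕ) (hn : Algebra.trdeg k (X.residueField x') = n) : Algebra.trdeg k (X.residueField x) = n + 1 := by
  obtain ⟨_, ⟨(U : X.Opens), hU, rfl⟩, hxU, -⟩ :=
    X.isBasis_affineOpens.exists_subset_of_mem_open (Set.mem_univ x') isOpen_univ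
  have hU : IsAffineOpen U := hU
  have hx'U : x' ∈ U := hxU
  have hxU : x ∈ U := hsp.mem_open U.isOpen hx'U
  obtain ⟨s, hs1, hs2⟩ :=
    Groth.Agent.Lib.Helper21.ChartPt.exists_nat_trdeg_eq_and_dim_quotient k X hU x hxU
  obtain ⟨s', hs1', hs2'⟩ :=
    Groth.Agent.Lib.Helper21.ChartPt.exists_nat_trdeg_eq_and_dim_quotient k X hU x' hx'U
  have hns' : s' = n := by
    have : (s' : Cardinal) = n := by rw [← hs1', hn]
    exact_mod_cast this
  subst hns'
  have hle := (Groth.Agent.Lib.Helper21.ChartPt.specializes_iff_primeIdealOf_le hU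
    ⟨x, hxU⟩ ⟨x', hx'U⟩).mp hsp
  let _ : Algebra k Γ(X, U) :=
    (Groth.Agent.Lib.Helper20.DimTrdeg.kMap (X ↘ Spec (CommRingCat.of k)) U).toAlgebra
  have : Algebra.FiniteType k Γ(X, U) :=
    Groth.Agent.Lib.Helper20.DimTrdeg.kMap_finiteType (X ↘ Spec (CommRingCat.of k)) U hU
  have hF := Groth.Agent.Lib.Helper21.ChartPt.ringKrullDim_quotient_eq_height_add k Γ(X, U)
    (hU.primeIdealOf ⟨x, hxU⟩).asIdeal (hU.primeIdealOf ⟨x', hx'U⟩).asIdeal hle
  rw [Groth.Agent.Lib.Helper21.ChartPt.height_map_mk_eq_one hU hx'U hxU hsp hne himm,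
    hs2, hs2'] at hF
  have hs : s = s' + 1 := by
    have h1 : ((s : ℕ∞) : WithBot ℕ∞) = ((1 + s' : ℕ∞) : WithBot ℕ∞) := by
      push_cast
      exact hF
    have h2 : (s : ℕ∞) = 1 + s' := WithBot.coe_inj.mp h1
    have h3 : s = 1 + s' := by exact_mod_cast h2
    omega
  rw [hs1, hs]
  push_cast
  rfl

end Groth.Agent.S1620
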