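import Groth.Statements.S16200
import Mathlib.RingTheory.PicardGroup
import Mathlib.RingTheory.DedekindDomain.Factorization
import Mathlib.RingTheory.Flat.TorsionFree
import Mathlib.LinearAlgebra.LinearDisjoint
import Mathlib.Tactic
-- import your own Groth.Agent.* helpers here

set_option autoImplicit false
universe u v
open DivAlg

namespace Groth.Agent.S16200

open TensorProduct CommRing

section helpers

section comax

variable {R : Type*} [CommRing R] (I J : Ideal R) (u v : R) (hu : u ∈ I) (hv : v ∈ J)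

/-- forward map -/
def fwd : (I × J) →ₗ[R] (R × ↥(I * J)) where
  toFun xy := (xy.1.1 + xy.2.1, ⟨v * xy.1.1 - u * xy.2.1,
        (I * J).sub_mem (by rw [mul_comm v]; exact Ideal.mul_mem_mul xy.1.2 hv)
          (Ideal.mul_mem_mul hu xy.2.2)⟩)
  map_add' a b := by
    apply Prod.ext
    · simp only [Prod.fst_add, Prod.snd_add, Submodule.coe_add]
      ring
    · apply Subtype.ext
      simp only [Prod.fst_add, Prod.snd_add, Submodule.coe_add]
      ring
  map_smul' c a := by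
    apply Prod.ext
    · simp only [Prod.smul_fst, Prod.smul_snd, Submodule.coe_smul, smul_eq_mul,
        RingHom.id_apply]
      ring
    · apply Subtype.ext
      simp only [Prod.smul_fst, Prod.smul_snd, Submodule.coe_smul, smul_eq_mul,
        RingHom.id_apply]
      ring

theorem fwd_apply (xy : I × J) : fwd I J u v hu hv xy =
    (xy.1.1 + xy.2.1, ⟨v * xy.1.1 - u * xy.2.1,
        (I * J).sub_mem (by rw [mul_comm v]; exact Ideal.mul_mem_mul xy.1.2 hv)
          (Ideal.mul_mem_mul hu xy.2.2)⟩) := rfl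

/-- backward map -/
def bwd : (R × ↥(I * J)) →ₗ[R] (I × J) where
  toFun tz := (⟨u * tz.1 + tz.2.1,
          I.add_mem (I.mul_mem_right _ hu) (Ideal.mul_le_left tz.2.2)⟩,
        ⟨v * tz.1 - tz.2.1, J.sub_mem (J.mul_mem_right _ hv) (Ideal.mul_le_right tz.2.2)⟩)
  map_add' a b := by
    apply Prod.ext
    · apply Subtype.ext
      simp only [Prod.fst_add, Prod.snd_add, Submodule.coe_add]
      ring
    · apply Subtype.ext
      simp only [Prod.fst_add, Prod.snd_add, Submodule.coe_add]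
      ring
  map_smul' c a := by
    apply Prod.ext
    · apply Subtype.ext
      simp only [Prod.smul_fst, Prod.smul_snd, Submodule.coe_smul, smul_eq_mul,
        RingHom.id_apply]
      ring
    · apply Subtype.ext
      simp only [Prod.smul_fst, Prod.smul_snd, Submodule.coe_smul, smul_eq_mul,
        RingHom.id_apply]
      ring

theorem bwd_apply (tz : R × ↥(I * J)) : bwd I J u v hu hv tz =
    (⟨u * tz.1 + tz.2.1,
          I.add_mem (I.mul_mem_right _ hu) (Ideal.mul_le_left tz.2.2)⟩,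
        ⟨v * tz.1 - tz.2.1, J.sub_mem (J.mul_mem_right _ hv) (Ideal.mul_le_right tz.2.2)⟩) := rfl

/-- comaximal ideals: `I ⊕ J ≅ R ⊕ IJ` -/
theorem nonempty_prod_equiv_of_sup_eq_top (h : I ⊔ J = ⊤) :
    Nonempty ((I × J) ≃ₗ[R] (R × ↥(I * J))) := by
  obtain ⟨u, hu, v, hv, huv⟩ := Submodule.mem_sup.mp ((Ideal.eq_top_iff_one _).mp h)
  have hv1 : v = 1 - u := by rw [← huv]; ring
  refine ⟨LinearEquiv.ofLinearMap (fwd I J u v hu hv) (bwd I J u v hu hv) ?_ ?_⟩
  · refine LinearMap.ext fun tz => ?_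
    rw [LinearMap.comp_apply, bwd_apply, fwd_apply, LinearMap.id_apply]
    apply Prod.ext
    · simp only
      rw [hv1]
      ring
    · apply Subtype.ext
      simp only
      rw [hv1]
      ring
  · refine LinearMap.ext fun xy => ?_
    rw [LinearMap.comp_apply, fwd_apply, bwd_apply, LinearMap.id_apply]
    apply Prod.ext
    · apply Subtype.ext
      simp only
      rw [hv1]
      ring
    · apply Subtype.ext
      simp only
      rw [hv1]
      ring

end comax

section dedekind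

variable {R : Type u} [CommRing R] [IsDedekindDomain R]

theorem ideal_ne_bot_of_equiv {P : Type*} [AddCommGroup P] [Module R P] [Module.Invertible R P]
    (I : Ideal R) (e : P ≃ₗ[R] I) : I ≠ ⊥ := by
  rintro rfl
  haveI : Module.Invertible R (⊥ : Ideal R) := Module.Invertible.congr e
  have : (1 : R) = 0 :=
    FaithfulSMul.eq_of_smul_eq_smul (M := R) (α := ↥(⊥ : Ideal R)) (fun x => Subsingleton.elim _ _)
  exact one_ne_zero this

/-- tensor product of ideals is the product ideal -/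
noncomputable def idealTensorEquiv (I J : Ideal R) : I ⊗[R] J ≃ₗ[R] ↥(I * J) :=
  (Submodule.LinearDisjoint.of_left_le_one_of_flat I J
    (le_top.trans Ideal.one_eq_top.ge)).mulMap

/-- Steinitz: `P ⊕ Q ≅ R ⊕ (P ⊗ Q)` -/
theorem steinitz (P : Type*) (Q : Type*) [AddCommGroup P] [Module R P] [Module.Invertible R P]
    [AddCommGroup Q] [Module R Q] [Module.Invertible R Q] :
    Nonempty ((P × Q) ≃ₗ[R] (R × (P ⊗[R] Q))) := by
  obtain ⟨I, ⟨eP⟩⟩ := Module.Invertible.exists_linearEquiv_ideal R P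
  obtain ⟨J, ⟨eQd⟩⟩ := Module.Invertible.exists_linearEquiv_ideal R (Module.Dual R Q)
  have hI : I ≠ ⊥ := ideal_ne_bot_of_equiv I eP
  have hJ : J ≠ ⊥ := ideal_ne_bot_of_equiv J eQd
  obtain ⟨a, ha⟩ := IsDedekindDomain.exists_sup_span_eq (I := I * J) (J := J) Ideal.mul_le_right
    (mul_ne_zero hI hJ)
  have hle : Ideal.span {a} ≤ J := ha ▸ le_sup_right
  obtain ⟨C, hC⟩ := Ideal.dvd_iff_le.mpr hle
  have hcop : I ⊔ C = ⊤ := by
    have h1 : J * (I ⊔ C) = J * ⊤ := by
      rw [Ideal.mul_sup, ← hC, mul_comm J I, ha, Ideal.mul_top]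
    exact mul_left_cancel₀ hJ h1
  by_cases hC0 : C = ⊥
  · have hItop : I = ⊤ := by rw [hC0, sup_bot_eq] at hcop; exact hcop
    have eR : P ≃ₗ[R] R := eP ≪≫ₗ (LinearEquiv.ofEq _ _ hItop) ≪≫ₗ Submodule.topEquiv
    exact ⟨(LinearEquiv.prodCongr eR (LinearEquiv.refl R Q)) ≪≫ₗ
      (LinearEquiv.prodCongr (LinearEquiv.refl R R)
        ((TensorProduct.lid R Q).symm ≪≫ₗ TensorProduct.congr eR.symm (LinearEquiv.refl R Q)))⟩
  · have ha0 : a ≠ 0 := by
      rintro rfl
      have : J * C = ⊥ := by rw [← hC]; simp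
      rcases mul_eq_zero.mp this with h | h
      · exact hJ h
      · exact hC0 h
    have e1 : C ⊗[R] J ≃ₗ[R] R :=
      idealTensorEquiv C J ≪≫ₗ LinearEquiv.ofEq _ _ (by rw [mul_comm, ← hC]) ≪≫ₗ
        (LinearEquiv.toSpanNonzeroSingleton R R a ha0).symm
    haveI : Module.Invertible R C := Module.Invertible.left e1
    haveI : Module.Invertible R J := Module.Invertible.congr eQd
    have h1 : Pic.mk R C * Pic.mk R J = 1 := by
      rw [← Pic.mk_tensor, Pic.mk_eq_one_iff]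
      exact ⟨e1⟩
    have h2 : Pic.mk R J = (Pic.mk R Q)⁻¹ := by
      rw [← Pic.mk_dual, Pic.mk_eq_mk_iff]
      exact ⟨eQd.symm⟩
    have h3 : Pic.mk R C = Pic.mk R Q := by
      rw [h2] at h1
      exact mul_inv_eq_one.mp h1
    obtain ⟨eQ⟩ := Pic.mk_eq_mk_iff.mp h3
    obtain ⟨e2⟩ := nonempty_prod_equiv_of_sup_eq_top I C hcop
    exact ⟨(LinearEquiv.prodCongr eP eQ.symm) ≪≫ₗ e2 ≪≫ₗ
      (LinearEquiv.prodCongr (LinearEquiv.refl R R)
        ((idealTensorEquiv I C).symm ≪≫ₗ TensorProduct.congr eP.symm eQ))⟩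

theorem pow_step (N : Type v) [AddCommGroup N] [Module R N] [Module.Invertible R N] (n : ℕ) :
    Nonempty ((Fin (n + 1) → N) ≃ₗ[R] ((Fin n → R) × (Pic.mk R N ^ (n + 1) : Pic R))) := by
  induction n with
  | zero =>
    have e1 : (Fin 1 → N) ≃ₗ[R] N := LinearEquiv.funUnique (Fin 1) R N
    obtain ⟨e2⟩ : Nonempty (N ≃ₗ[R] (Pic.mk R N ^ (0 + 1) : Pic R)) :=
      Pic.mk_eq_iff.mp (by rw [zero_add, pow_one])
    have e3 : ((Fin 0 → R) × (Pic.mk R N ^ (0 + 1) : Pic R)) ≃ₗ[R] (Pic.mk R N ^ (0 + 1) : Pic R) :=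
      LinearEquiv.uniqueProd
    exact ⟨e1 ≪≫ₗ e2 ≪≫ₗ e3.symm⟩
  | succ n ih =>
    obtain ⟨e0⟩ := ih
    have e1 : (Fin (n + 1 + 1) → N) ≃ₗ[R] (N × (Fin (n + 1) → N)) :=
      (Fin.consLinearEquiv R (fun _ : Fin (n + 1 + 1) => N)).symm
    have e2 : (N × (Fin (n + 1) → N)) ≃ₗ[R]
        (N × ((Fin n → R) × (Pic.mk R N ^ (n + 1) : Pic R))) :=
      LinearEquiv.prodCongr (LinearEquiv.refl R N) e0
    have e3 : (N × ((Fin n → R) × (Pic.mk R N ^ (n + 1) : Pic R))) ≃ₗ[R]
        ((N × (Fin n → R)) × (Pic.mk R N ^ (n + 1) : Pic R)) :=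
      (LinearEquiv.prodAssoc R _ _ _).symm
    have e4 : ((N × (Fin n → R)) × (Pic.mk R N ^ (n + 1) : Pic R)) ≃ₗ[R]
        (((Fin n → R) × N) × (Pic.mk R N ^ (n + 1) : Pic R)) :=
      LinearEquiv.prodCongr (LinearEquiv.prodComm R _ _) (LinearEquiv.refl R _)
    have e5 : (((Fin n → R) × N) × (Pic.mk R N ^ (n + 1) : Pic R)) ≃ₗ[R]
        ((Fin n → R) × (N × (Pic.mk R N ^ (n + 1) : Pic R))) :=
      LinearEquiv.prodAssoc R _ _ _
    obtain ⟨st⟩ := steinitz (R := R) N (Pic.mk R N ^ (n + 1) : Pic R)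
    have e6 : ((Fin n → R) × (N × (Pic.mk R N ^ (n + 1) : Pic R))) ≃ₗ[R]
        ((Fin n → R) × (R × (N ⊗[R] (Pic.mk R N ^ (n + 1) : Pic R)))) :=
      LinearEquiv.prodCongr (LinearEquiv.refl R _) st
    have e7 : ((Fin n → R) × (R × (N ⊗[R] (Pic.mk R N ^ (n + 1) : Pic R)))) ≃ₗ[R]
        (((Fin n → R) × R) × (N ⊗[R] (Pic.mk R N ^ (n + 1) : Pic R))) :=
      (LinearEquiv.prodAssoc R _ _ _).symm
    have e8 : (((Fin n → R) × R) × (N ⊗[R] (Pic.mk R N ^ (n + 1) : Pic R))) ≃ₗ[R]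
        ((R × (Fin n → R)) × (N ⊗[R] (Pic.mk R N ^ (n + 1) : Pic R))) :=
      LinearEquiv.prodCongr (LinearEquiv.prodComm R _ _) (LinearEquiv.refl R _)
    obtain ⟨e9⟩ : Nonempty ((N ⊗[R] (Pic.mk R N ^ (n + 1) : Pic R)) ≃ₗ[R]
        (Pic.mk R N ^ (n + 1 + 1) : Pic R)) :=
      Pic.mk_eq_iff.mp (by rw [Pic.mk_tensor, Pic.mk_eq_self, pow_succ' _ (n + 1)])
    have e10 : ((R × (Fin n → R)) × (N ⊗[R] (Pic.mk R N ^ (n + 1) : Pic R))) ≃ₗ[R]
        ((Fin (n + 1) → R) × (Pic.mk R N ^ (n + 1 + 1) : Pic R)) :=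
      LinearEquiv.prodCongr (Fin.consLinearEquiv R (fun _ : Fin (n + 1) => R)) e9
    exact ⟨e1 ≪≫ₗ e2 ≪≫ₗ e3 ≪≫ₗ e4 ≪≫ₗ e5 ≪≫ₗ e6 ≪≫ₗ e7 ≪≫ₗ e8 ≪≫ₗ e10⟩

end dedekind

end helpers

/-- Let R be a Dedekind domain, N an invertible R-module and n a natural number with [N]^n = 1 in
Pic(R). Then the direct sum N^n is isomorphic to R^n; thus over a Dedekind domain the invertible
modules N with N^n ≅ R^n are exactly the n-torsion classes of Pic(R), the other inclusion holding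
over any commutative ring. -/
theorem result {R : Type u} [CommRing R]
    [IsDedekindDomain R] (N : Type v) [AddCommGroup N] [Module R N] [Module.Invertible R N]
    (n : ℕ) (h : CommRing.Pic.mk R N ^ n = 1) :
    Nonempty ((Fin n → N) ≃ₗ[R] (Fin n → R)) := by
  cases n with
  | zero =>
    exact ⟨{ toFun := fun _ => 0
             map_add' := fun _ _ => Subsingleton.elim _ _
             map_smul' := fun _ _ => Subsingleton.elim _ _
             invFun := fun _ => 0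
             left_inv := fun _ => Subsingleton.elim _ _
             right_inv := fun _ => Subsingleton.elim _ _ }⟩
  | succ n =>
    obtain ⟨e0⟩ := pow_step (R := R) N n
    obtain ⟨e1⟩ : Nonempty ((Pic.mk R N ^ (n + 1) : Pic R) ≃ₗ[R] R) := by
      rw [← Pic.mk_eq_one_iff, Pic.mk_eq_self, h]
    have e2 : ((Fin n → R) × R) ≃ₗ[R] (Fin (n + 1) → R) :=
      (LinearEquiv.prodComm R _ _) ≪≫ₗ (Fin.consLinearEquiv R (fun _ : Fin (n + 1) => R))
    exact ⟨e0 ≪≫ₗ LinearEquiv.prodCongr (LinearEquiv.refl R _) e1 ≪≫ₗ e2⟩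

end Groth.Agent.S16200
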