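import Groth.Statements.S16201
import Mathlib
import Groth.Agent.Lib.Helper12.ConstrTop

set_option autoImplicit false
open CategoryTheory AlgebraicGeometry
open Variety

namespace Groth.Agent.S16201

/-- Let f : Y → Z be a morphism of schemes of finite type over ℂ, with Z irreducible. Suppose that the
general fibre of f is irreducible, in the sense that there is a nonempty open subset V of Z such
that the fibre of f over every closed point of V is an irreducible topological space, and that each
irreducible component of Y has dense image in Z. Then Y is irreducible. (The published statement is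
for a morphism of projective varieties; only finiteness of type over the field is used, and the row
is stated in that generality.) -/
theorem result
    (Y Z : Scheme.{0}) (g : Z ⟶ Spec (CommRingCat.of ℂ)) (f : Y ⟶ Z)
    [LocallyOfFiniteType g] [QuasiCompact g] [LocallyOfFiniteType f] [QuasiCompact f]
    [IrreducibleSpace Z]
    (hgen : ∃ V : Z.Opens, (V : Set Z).Nonempty ∧
      ∀ z ∈ V, IsClosed ({z} : Set Z) → IsIrreducible (f.base ⁻¹' {z}))
    (hdom : ∀ W ∈ irreducibleComponents Y, Dense (f.base '' W)) :
    IrreducibleSpace Y := by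
  classical
  let p : Y ⟶ Spec (CommRingCat.of ℂ) := f ≫ g
  haveI : LocallyOfFiniteType p := inferInstance
  haveI : QuasiCompact p := inferInstance
  haveI : IsLocallyNoetherian Z := LocallyOfFiniteType.isLocallyNoetherian g
  haveI : CompactSpace ↥Z := QuasiCompact.compactSpace_of_compactSpace g
  haveI : IsNoetherian Z := {}
  haveI : IsLocallyNoetherian Y := LocallyOfFiniteType.isLocallyNoetherian p
  haveI : CompactSpace ↥Y := QuasiCompact.compactSpace_of_compactSpace p
  haveI : IsNoetherian Y := {}
  haveI : JacobsonSpace ↥Z := LocallyOfFiniteType.jacobsonSpace g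
  haveI : LocallyOfFinitePresentation f := inferInstance
  obtain ⟨V, hVne, hV⟩ := hgen
  have hfin : (irreducibleComponents ↥Y).Finite := finite_irreducibleComponents_of_isNoetherian
  -- for distinct components, an open subset of `Z` in the image of the difference
  have key : ∀ C ∈ irreducibleComponents ↥Y, ∀ C' ∈ irreducibleComponents ↥Y, C ≠ C' →
      ∃ U : Set ↥Z, IsOpen U ∧ U.Nonempty ∧ U ⊆ f.base '' (C' \ C) := by
    intro C hC C' hC' hne
    have hCcl : IsClosed C := isClosed_of_mem_irreducibleComponents C hC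
    have hC'cl : IsClosed C' := isClosed_of_mem_irreducibleComponents C' hC'
    have hdne : (C' ∩ Cᶜ).Nonempty := by
      by_contra hcon
      rw [Set.not_nonempty_iff_eq_empty] at hcon
      have hsub : C' ⊆ C := by
        intro y hy
        by_contra hyC
        have : y ∈ C' ∩ Cᶜ := ⟨hy, hyC⟩
        rw [hcon] at this
        exact this
      exact hne (Set.Subset.antisymm (hC'.2 hC.1 hsub) hsub)
    have hdense : C' ⊆ closure (C' ∩ Cᶜ) :=
      subset_closure_inter_of_isPreirreducible_of_isOpen hC'.1.isPreirreducible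
        hCcl.isOpen_compl hdne
    have hcons : Topology.IsConstructible (f.base '' (C' \ C)) := by
      apply Scheme.Hom.isConstructible_image f
      exact (Groth.Agent.Lib.Helper12.isConstructible_of_isClosed hC'cl).sdiff
        (Groth.Agent.Lib.Helper12.isConstructible_of_isClosed hCcl)
    have hZirr : IsIrreducible (Set.univ : Set ↥Z) := IrreducibleSpace.isIrreducible_univ _
    have hd : (Set.univ : Set ↥Z) ⊆ closure (f.base '' (C' \ C) ∩ Set.univ) := by
      rw [Set.inter_univ]
      have h1 : f.base '' C' ⊆ closure (f.base '' (C' \ C)) := by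
        have := image_closure_subset_closure_image (s := C' ∩ Cᶜ) f.base.hom.continuous
        exact (Set.image_mono hdense).trans this
      have h2 : closure (f.base '' C') ⊆ closure (f.base '' (C' \ C)) :=
        closure_minimal h1 isClosed_closure
      rw [(hdom C' hC').closure_eq] at h2
      exact h2
    obtain ⟨U, hU, hUne, hUsub⟩ :=
      Groth.Agent.Lib.Helper12.exists_open_subset_of_dense hcons hZirr hd
    rw [Set.inter_univ] at hUne hUsub
    exact ⟨U, hU, hUne, hUsub⟩
  let W : Set ↥Y → Set ↥Y → Set ↥Z := fun C C' =>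
    if h : C ∈ irreducibleComponents ↥Y ∧ C' ∈ irreducibleComponents ↥Y ∧ C ≠ C' then
      (key C h.1 C' h.2.1 h.2.2).choose else Set.univ
  have hWopen : ∀ C C', IsOpen (W C C') := by
    intro C C'
    simp only [W]
    split_ifs with h
    · exact (key C h.1 C' h.2.1 h.2.2).choose_spec.1
    · exact isOpen_univ
  have hWne : ∀ C C', (W C C').Nonempty := by
    intro C C'
    simp only [W]
    split_ifs with h
    · exact (key C h.1 C' h.2.1 h.2.2).choose_spec.2.1
    · exact Set.univ_nonempty
  have hWsub : ∀ C ∈ irreducibleComponents ↥Y, ∀ C' ∈ irreducibleComponents ↥Y, C ≠ C' →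
      W C C' ⊆ f.base '' (C' \ C) := by
    intro C hC C' hC' hne
    simp only [W]
    rw [dif_pos ⟨hC, hC', hne⟩]
    exact (key C hC C' hC' hne).choose_spec.2.2
  let 𝒰 : Finset (Set ↥Z) :=
    insert (V : Set ↥Z) ((hfin.toFinset ×ˢ hfin.toFinset).image fun P => W P.1 P.2)
  have hZirr : IsIrreducible (Set.univ : Set ↥Z) := IrreducibleSpace.isIrreducible_univ _
  have h𝒰open : ∀ u ∈ 𝒰, IsOpen u := by
    intro u hu
    rw [Finset.mem_insert] at hu
    rcases hu with rfl | hu
    · exact V.isOpen
    · obtain ⟨P, -, rfl⟩ := Finset.mem_image.mp hu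
      exact hWopen _ _
  have h𝒰ne : ∀ u ∈ 𝒰, ((Set.univ : Set ↥Z) ∩ u).Nonempty := by
    intro u hu
    rw [Set.univ_inter]
    rw [Finset.mem_insert] at hu
    rcases hu with rfl | hu
    · exact hVne
    · obtain ⟨P, -, rfl⟩ := Finset.mem_image.mp hu
      exact hWne _ _
  have hne := isIrreducible_iff_sInter.mp hZirr 𝒰 h𝒰open h𝒰ne
  rw [Set.univ_inter] at hne
  have hopen : IsOpen (⋂₀ (𝒰 : Set (Set ↥Z))) :=
    𝒰.finite_toSet.isOpen_sInter h𝒰open
  obtain ⟨z, hzU, hzcl⟩ := nonempty_inter_closedPoints hne hopen.isLocallyClosed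
  have hzcl' : IsClosed ({z} : Set ↥Z) := hzcl
  have hzV : z ∈ V := by
    have := Set.mem_sInter.mp hzU (V : Set ↥Z) (Finset.mem_coe.mpr (Finset.mem_insert_self _ _))
    exact this
  have hzW : ∀ C ∈ irreducibleComponents ↥Y, ∀ C' ∈ irreducibleComponents ↥Y, z ∈ W C C' := by
    intro C hC C' hC'
    apply Set.mem_sInter.mp hzU
    rw [Finset.mem_coe, Finset.mem_insert]
    right
    rw [Finset.mem_image]
    exact ⟨(C, C'), Finset.mem_product.mpr ⟨hfin.mem_toFinset.mpr hC, hfin.mem_toFinset.mpr hC'⟩,
      rfl⟩
  have hFirr := hV z hzV hzcl'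
  obtain ⟨C₀, hC₀, hFC₀⟩ := isIrreducible_iff_sUnion_isClosed.mp hFirr hfin.toFinset
    (fun C hC => isClosed_of_mem_irreducibleComponents C (hfin.mem_toFinset.mp hC))
    (by
      intro y _
      exact ⟨irreducibleComponent y,
        Finset.mem_coe.mpr (hfin.mem_toFinset.mpr (irreducibleComponent_mem_irreducibleComponents y)),
        mem_irreducibleComponent⟩)
  have hC₀' : C₀ ∈ irreducibleComponents ↥Y := hfin.mem_toFinset.mp hC₀
  have hall : ∀ C' ∈ irreducibleComponents ↥Y, C' = C₀ := by
    intro C' hC'
    by_contra hne'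
    have hz := hWsub C₀ hC₀' C' hC' (fun h => hne' h.symm) (hzW C₀ hC₀' C' hC')
    obtain ⟨y, ⟨-, hyC₀⟩, hy⟩ := hz
    exact hyC₀ (hFC₀ hy)
  have huniv : (Set.univ : Set ↥Y) = C₀ := by
    ext y
    simp only [Set.mem_univ, true_iff]
    rw [← hall _ (irreducibleComponent_mem_irreducibleComponents y)]
    exact mem_irreducibleComponent
  have hYirr : IsIrreducible (Set.univ : Set ↥Y) := huniv ▸ hC₀'.1
  haveI : Nonempty ↥Y := by
    obtain ⟨y, -⟩ := hYirr.nonempty
    exact ⟨y⟩
  haveI : PreirreducibleSpace ↥Y := ⟨hYirr.isPreirreducible⟩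
  exact { toPreirreducibleSpace := inferInstance, toNonempty := inferInstance }

end Groth.Agent.S16201
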