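import Groth.Statements.S16213
import Groth.Agent.Lib.Helper24.AlgStSmoothCover

set_option autoImplicit false
open CategoryTheory AlgebraicGeometry
universe u
open AlgSt

namespace Groth.Agent.S16213

open Groth.Agent.Lib.Helper24 Groth.Agent.Lib.Helper24.FibCatFpGen
open Groth.Agent.Lib.Helper24.AlgStSchLocal Groth.Agent.Lib.Helper24.AlgStGC
open Groth.Agent.Lib.Helper24.AlgStProps Groth.Agent.Lib.Helper24.AlgStSmooth
open Groth.Agent.Lib.Helper24.AlgStFpAlg Groth.Agent.Lib.Helper24.AlgStCalc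


/-- Let S be a scheme, let 𝒳 and 𝒴 be stacks in groupoids over (Sch/S) for the fppf topology with 𝒴 an
algebraic stack, and let f : 𝒳 ⟶ 𝒴 be a functor over (Sch/S). Suppose there are an algebraic space Z
over S and a functor z : Z ⟶ 𝒴 over (Sch/S) which is representable by algebraic spaces, smooth and
surjective, such that the 2-fibre product Z ×_𝒴 𝒳 is an algebraic stack. Then 𝒳 is an algebraic
stack over S. -/
theorem result {S : Scheme.{u}} {𝒳 𝒴 : AlgSt.Cat S}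
    (h𝒳 : Stk.IsStack (QuotSh.J Scheme.fppfPrecoverage S) 𝒳)
    (h𝒴 : AlgSt.IsAlgStack Scheme.fppfPrecoverage 𝒴) (f : 𝒳 ⥤ᵇ 𝒴)
    (Z : AlgSp.Space S) (z : AlgSt.ofSp Z.obj ⥤ᵇ 𝒴)
    (hsm : AlgSt.RepByAlgSpWith (AlgSp.LocP @Smooth) z)
    (hsurj : AlgSt.RepByAlgSpWith AlgSp.IsSurjectiveMor z)
    (hfp : AlgSt.IsAlgStack Scheme.fppfPrecoverage (FibCat.fp z f)) :
    AlgSt.IsAlgStack Scheme.fppfPrecoverage 𝒳 := by
  obtain ⟨U, x, hx, hx'⟩ := hfp.atlas
  have hU : FibCat.IsFibGrpd (FibCat.overCat U).p := StkFpCrit.isFibGrpd_overForget U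
  have hP : FibCat.IsFibGrpd (FibCat.fp z f).p := hfp.isStack.1
  refine AlgStSmoothCover.isAlgStack_of_smooth_cover hU h𝒳 (repByAlgSp_overCat U)
    (BasedFunctor.comp x (FibCat.fpSnd z f)) ?_ ?_
  · exact repByAlgSpWith_comp hU hP h𝒳.1 _ good_smooth.nice stableComp_smooth _ _ hx
      (repByAlgSpWith_fpSnd _ z f hsm)
  · exact repByAlgSpWith_comp hU hP h𝒳.1 _ good_isSurjectiveMor.nice stableComp_isSurjectiveMor _ _
      hx' (repByAlgSpWith_fpSnd _ z f hsurj)

end Groth.Agent.S16213
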