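import Groth.Statements.S1622
import Groth.Agent.Lib.Helper25.BlowUpRegSpec

set_option autoImplicit false
universe u
open CategoryTheory CategoryTheory.Limits AlgebraicGeometry
open Resolve

namespace Groth.Agent.S1622

/-- Let A be a regular local ring of dimension two and b : X → Spec A a blowing up of Spec A in the
maximal ideal (characterised by its universal property). Then X is irreducible and all of its local
rings are regular. -/
theorem result (A : Type u) [CommRing A] [IsRegularLocalRing A] (hA : ringKrullDim A = 2)
    (X : Scheme.{u}) (b : X ⟶ Spec (CommRingCat.of A)) (hb : BlowUp.IsBlowUp b (Curv2.idealSheaf A (IsLocalRing.maximalIdeal A))) :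
    IrreducibleSpace X ∧ ∀ x : X, IsRegularLocalRing (X.presheaf.stalk x) := by
  haveI : IsDomain A := Groth.Agent.Lib.Helper21.isDomain_of_isRegularLocalRing A
  have hb' : BlowUp.IsBlowUp b
      (Groth.Agent.Lib.Helper25.BlowUpUP.specIdeal (IsLocalRing.maximalIdeal A)) := hb
  refine ⟨?_, fun x =>
    Groth.Agent.Lib.Helper25.BlowUpRegSpec.isRegularLocalRing_stalk_blowUp_maximalIdeal b hb' x⟩
  have hne : Groth.Agent.Lib.Helper25.BlowUpUP.specIdeal (IsLocalRing.maximalIdeal A) ≠ ⊥ := by
    intro h0
    have h1 := congrArg (Scheme.IdealSheafData.equivOfIsAffine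
      (X := Spec (CommRingCat.of A))) h0
    rw [map_bot] at h1
    have h2 : (IsLocalRing.maximalIdeal A).map
        (Scheme.ΓSpecIso (CommRingCat.of A)).inv.hom = ⊥ := by
      have := (Scheme.IdealSheafData.equivOfIsAffine (X := Spec (CommRingCat.of A))).apply_symm_apply
        ((IsLocalRing.maximalIdeal A).map (Scheme.ΓSpecIso (CommRingCat.of A)).inv.hom)
      rw [← this]
      exact h1
    have hinj : Function.Injective (Scheme.ΓSpecIso (CommRingCat.of A)).inv.hom :=
      (ConcreteCategory.bijective_of_isIso (Scheme.ΓSpecIso (CommRingCat.of A)).inv).1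
    have h3 : IsLocalRing.maximalIdeal A = ⊥ := (Ideal.map_eq_bot_iff_of_injective hinj).1 h2
    have h4 : IsField A := IsLocalRing.isField_iff_maximalIdeal_eq.2 h3
    letI := h4.toField
    have h5 : ringKrullDim A = 0 := ringKrullDim_eq_zero_of_field A
    rw [hA] at h5
    norm_num at h5
  haveI : IsIntegral X :=
    Groth.Agent.Lib.Helper25.BlowUpUP.isIntegral_of_isBlowUp _ hne b hb'
  infer_instance

end Groth.Agent.S1622
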