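import Groth.Statements.S16220
import Mathlib.RingTheory.WittVector.Complete
import Mathlib.Algebra.Module.Submodule.Pointwise
import Mathlib.RingTheory.Ideal.Operations
-- import your own Groth.Agent.* helpers here

set_option autoImplicit false
universe u v
open Disp

namespace Groth.Agent.S16220

section
variable (p : ℕ) [Fact p.Prime] (k : Type u) [CommRing k] [CharP k p] [PerfectRing k p] (n : ℕ)

/-- p-torsion in `W/p^n` is `p^(n-1) W/p^n`. -/
lemma torsion_quot (hn : 1 ≤ n)
    (c : WittVector p k ⧸ Ideal.span {(p : WittVector p k) ^ n})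
    (hc : Ideal.Quotient.mk (Ideal.span {(p : WittVector p k) ^ n}) (p : WittVector p k) * c = 0) :
    ∃ d : WittVector p k ⧸ Ideal.span {(p : WittVector p k) ^ n},
      c = Ideal.Quotient.mk (Ideal.span {(p : WittVector p k) ^ n}) ((p : WittVector p k) ^ (n - 1)) * d := by
  obtain ⟨a, rfl⟩ := Ideal.Quotient.mk_surjective c
  rw [← map_mul, Ideal.Quotient.eq_zero_iff_mem, Ideal.mem_span_singleton] at hc
  obtain ⟨b, hb⟩ := hc
  obtain ⟨n', rfl⟩ : ∃ n', n = n' + 1 := ⟨n - 1, by omega⟩
  have h0 : (a - (p : WittVector p k) ^ n' * b) * (p : WittVector p k) = 0 := by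
    rw [sub_mul, mul_comm a, hb, pow_succ]; ring
  have := WittVector.eq_zero_of_p_mul_eq_zero _ h0
  refine ⟨Ideal.Quotient.mk _ b, ?_⟩
  rw [Nat.add_sub_cancel, ← map_mul, sub_eq_zero.mp this]

variable {p k n}
variable {M : Type v} [AddCommGroup M] [Module (WittVector p k) M]
    [Module (WittVector p k ⧸ Ideal.span {(p : WittVector p k) ^ n}) M]
    [IsScalarTower (WittVector p k) (WittVector p k ⧸ Ideal.span {(p : WittVector p k) ^ n}) M]
    [Module.Projective (WittVector p k ⧸ Ideal.span {(p : WittVector p k) ^ n}) M]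

lemma mk_smul (w : WittVector p k) (m : M) :
    Ideal.Quotient.mk (Ideal.span {(p : WittVector p k) ^ n}) w • m = w • m := by
  have : Ideal.Quotient.mk (Ideal.span {(p : WittVector p k) ^ n}) w =
      w • (1 : WittVector p k ⧸ Ideal.span {(p : WittVector p k) ^ n}) := by
    rw [Algebra.smul_def, mul_one]; rfl
  rw [this, smul_assoc, one_smul]

lemma torsion_mod (hn : 1 ≤ n) (m : M) (hm : (p : WittVector p k) • m = 0) :
    ∃ m' : M, m = ((p : WittVector p k) ^ (n - 1)) • m' := by
  classical
  set R := WittVector p k ⧸ Ideal.span {(p : WittVector p k) ^ n}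
  obtain ⟨s, hs⟩ := Module.projective_def'.mp (inferInstance : Module.Projective R M)
  have hsm : Finsupp.linearCombination R id (s m) = m := LinearMap.congr_fun hs m
  have hps : (Ideal.Quotient.mk _ (p : WittVector p k) : R) • s m = 0 := by
    rw [← map_smul, mk_smul, hm, map_zero]
  have hcoef : ∀ i, (Ideal.Quotient.mk _ (p : WittVector p k) : R) * s m i = 0 := by
    intro i
    have := DFunLike.congr_fun hps i
    simpa using this
  choose d hd using fun i => torsion_quot p k n hn (s m i) (hcoef i)
  refine ⟨∑ i ∈ (s m).support, d i • i, ?_⟩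
  rw [← mk_smul (n := n), Finset.smul_sum]
  conv_lhs => rw [← hsm, Finsupp.linearCombination_apply, Finsupp.sum]
  apply Finset.sum_congr rfl
  intro i _
  rw [smul_smul, ← hd i]
  rfl

end

/-- Let p be a prime and k a perfect ring of characteristic p, so that the Frobenius σ of W = W(k) is
bijective, W has no p-torsion and W/p^n W = W_n(k) (the ideal p^n W is the kernel of the truncation
to length n). Let n ≥ 2 and let M be a truncated Dieudonné module of level n over k: a W-module on
which W acts through W/p^n W, finitely generated and projective over W/p^n W, with a σ-semilinear F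
: M → M and a σ⁻¹-semilinear V : M → M such that FV = VF = p. Then on M/pM the kernel of F is the
image of V and the kernel of V is the image of F; stated inside M: the preimage of pM under F is VM
+ pM, and the preimage of pM under V is FM + pM. -/
theorem result (p : ℕ) [Fact p.Prime] (k : Type u) [CommRing k]
    [CharP k p] [PerfectRing k p] (n : ℕ) (hn : 2 ≤ n)
    (M : Type v) [AddCommGroup M] [Module (WittVector p k) M]
    [Module (WittVector p k ⧸ Ideal.span {(p : WittVector p k) ^ n}) M] [IsScalarTower (WittVector p k) (WittVector p k ⧸ Ideal.span {(p : WittVector p k) ^ n}) M]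
    [Module.Finite (WittVector p k ⧸ Ideal.span {(p : WittVector p k) ^ n}) M] [Module.Projective (WittVector p k ⧸ Ideal.span {(p : WittVector p k) ^ n}) M]
    (F : M →ₛₗ[(WittVector.frobenius : WittVector p k →+* WittVector p k)] M)
    (V : M →ₛₗ[((WittVector.frobeniusEquiv p k).symm : WittVector p k →+* WittVector p k)] M)
    (hFV : ∀ m : M, F (V m) = (p : WittVector p k) • m) (hVF : ∀ m : M, V (F m) = (p : WittVector p k) • m) :
    (Ideal.span {(p : WittVector p k)} • (⊤ : Submodule (WittVector p k) M)).comap F =
        Submodule.span (WittVector p k) (Set.range V) ⊔ Ideal.span {(p : WittVector p k)} • (⊤ : Submodule (WittVector p k) M) ∧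
      (Ideal.span {(p : WittVector p k)} • (⊤ : Submodule (WittVector p k) M)).comap V =
        Submodule.span (WittVector p k) (Set.range F) ⊔ Ideal.span {(p : WittVector p k)} • (⊤ : Submodule (WittVector p k) M) := by
  set pM := Ideal.span {(p : WittVector p k)} • (⊤ : Submodule (WittVector p k) M) with hpM
  have mem_pM : ∀ x : M, x ∈ pM ↔ ∃ y : M, x = (p : WittVector p k) • y := by
    intro x
    rw [hpM, Submodule.ideal_span_singleton_smul, Submodule.mem_smul_pointwise_iff_exists]
    constructor
    · rintro ⟨y, -, rfl⟩; exact ⟨y, rfl⟩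
    · rintro ⟨y, rfl⟩; exact ⟨y, trivial, rfl⟩
  have tors : ∀ z : M, (p : WittVector p k) • z = 0 → z ∈ pM := by
    intro z hz
    obtain ⟨m', rfl⟩ := torsion_mod (n := n) (by omega) z hz
    rw [mem_pM]
    obtain ⟨n', rfl⟩ : ∃ n', n = n' + 2 := ⟨n - 2, by omega⟩
    refine ⟨((p : WittVector p k) ^ n') • m', ?_⟩
    rw [smul_smul, ← pow_succ']
    rfl
  have hFp : ∀ z : M, F ((p : WittVector p k) • z) = (p : WittVector p k) • F z := by
    intro z; rw [map_smulₛₗ, map_natCast]
  have hVp : ∀ z : M, V ((p : WittVector p k) • z) = (p : WittVector p k) • V z := by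
    intro z; rw [map_smulₛₗ, map_natCast]
  constructor
  · apply le_antisymm
    · intro x hx
      rw [Submodule.mem_comap, mem_pM] at hx
      obtain ⟨y, hy⟩ := hx
      have hz : F (x - V y) = 0 := by rw [map_sub, hFV, hy, sub_self]
      have hpz : (p : WittVector p k) • (x - V y) = 0 := by rw [← hVF, hz, map_zero]
      have : x = V y + (x - V y) := by abel
      rw [this]
      exact Submodule.add_mem_sup (Submodule.subset_span ⟨y, rfl⟩) (tors _ hpz)
    · apply sup_le
      · rw [Submodule.span_le]
        rintro _ ⟨m, rfl⟩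
        show F (V m) ∈ pM
        rw [hFV, mem_pM]; exact ⟨m, rfl⟩
      · intro x hx
        rw [mem_pM] at hx
        obtain ⟨y, rfl⟩ := hx
        show F _ ∈ pM
        rw [hFp, mem_pM]; exact ⟨_, rfl⟩
  · apply le_antisymm
    · intro x hx
      rw [Submodule.mem_comap, mem_pM] at hx
      obtain ⟨y, hy⟩ := hx
      have hz : V (x - F y) = 0 := by rw [map_sub, hVF, hy, sub_self]
      have hpz : (p : WittVector p k) • (x - F y) = 0 := by rw [← hFV, hz, map_zero]
      have : x = F y + (x - F y) := by abel
      rw [this]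
      exact Submodule.add_mem_sup (Submodule.subset_span ⟨y, rfl⟩) (tors _ hpz)
    · apply sup_le
      · rw [Submodule.span_le]
        rintro _ ⟨m, rfl⟩
        show V (F m) ∈ pM
        rw [hVF, mem_pM]; exact ⟨m, rfl⟩
      · intro x hx
        rw [mem_pM] at hx
        obtain ⟨y, rfl⟩ := hx
        show V _ ∈ pM
        rw [hVp, mem_pM]; exact ⟨_, rfl⟩

end Groth.Agent.S16220
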