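import Groth.Statements.S16221
import Mathlib
import Groth.Agent.S16220
-- import your own Groth.Agent.* helpers here

set_option autoImplicit false
universe u v
open Disp

namespace Groth.Agent.S16221

section helpers

section partB

variable {R : Type u} [CommRing R] {P : Type v} [AddCommGroup P] [Module R P]

/-- if `1 ⊗ x = 0` in `(R ⧸ I) ⊗ M` then `x ∈ I • ⊤`. -/
theorem mem_smul_top_of_tmul_eq_zero {M : Type*} [AddCommGroup M] [Module R M] (I : Ideal R) (x : M)
    (h : (1 : R ⧸ I) ⊗ₜ[R] x = 0) : x ∈ I • (⊤ : Submodule R M) := by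
  have := congrArg (TensorProduct.quotTensorEquivQuotSMul M I) h
  rw [map_zero] at this
  have h2 : TensorProduct.quotTensorEquivQuotSMul M I ((1 : R ⧸ I) ⊗ₜ[R] x) =
      Submodule.Quotient.mk x := by
    have := TensorProduct.quotTensorEquivQuotSMul_mk_tmul (M := M) I (1 : R) x
    simpa using this
  rw [h2, Submodule.Quotient.mk_eq_zero] at this
  exact this

theorem tmul_eq_zero_of_mem_smul_top {M : Type*} [AddCommGroup M] [Module R M] (I : Ideal R) (x : M)
    (h : x ∈ I • (⊤ : Submodule R M)) : (1 : R ⧸ I) ⊗ₜ[R] x = 0 := by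
  apply (TensorProduct.quotTensorEquivQuotSMul M I).injective
  rw [map_zero]
  have h2 : TensorProduct.quotTensorEquivQuotSMul M I ((1 : R ⧸ I) ⊗ₜ[R] x) =
      Submodule.Quotient.mk x := by
    have := TensorProduct.quotTensorEquivQuotSMul_mk_tmul (M := M) I (1 : R) x
    simpa using this
  rw [h2, Submodule.Quotient.mk_eq_zero]
  exact h

theorem projective_quotient_of_inter_le [Module.Finite R P] [Module.Projective R P]
    (N : Submodule R P) (hN : N.FG)
    (h : ∀ 𝔪 : Ideal R, 𝔪.IsMaximal → N ⊓ 𝔪 • (⊤ : Submodule R P) ≤ 𝔪 • N) :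
    Module.Projective R (P ⧸ N) := by
  classical
  haveI : Module.FinitePresentation R P := Module.finitePresentation_of_projective R P
  haveI : Module.FinitePresentation R (P ⧸ N) :=
    Module.finitePresentation_of_surjective N.mkQ N.mkQ_surjective
      (by rw [Submodule.ker_mkQ]; exact hN)
  refine Module.projective_of_localization_maximal fun 𝔪 h𝔪 => ?_
  haveI := h𝔪
  haveI : Module.Free (Localization.AtPrime 𝔪) (LocalizedModule 𝔪.primeCompl P) :=
    Module.free_of_flat_of_isLocalRing
  have hfg : (N.localized 𝔪.primeCompl).FG := by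
    obtain ⟨s, hs⟩ := hN
    refine ⟨s.image (LocalizedModule.mkLinearMap 𝔪.primeCompl P), ?_⟩
    rw [← hs, Submodule.localized, Submodule.localized'_span, Finset.coe_image]
  haveI : Module.Finite (Localization.AtPrime 𝔪) ↥(N.localized 𝔪.primeCompl) :=
    Module.Finite.iff_fg.mpr hfg
  have hmax : IsLocalRing.maximalIdeal (Localization.AtPrime 𝔪) =
      (𝔪 : Submodule R R).localized' (Localization.AtPrime 𝔪) 𝔪.primeCompl
        (Algebra.linearMap R (Localization.AtPrime 𝔪)) := by
    rw [Ideal.localized'_eq_map, Localization.AtPrime.map_eq_maximalIdeal]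
  have hinj : Function.Injective ((N.localized 𝔪.primeCompl).subtype.lTensor
      (IsLocalRing.ResidueField (Localization.AtPrime 𝔪))) := by
    rw [injective_iff_map_eq_zero]
    intro z hz
    obtain ⟨⟨x, hx⟩, rfl⟩ := TensorProduct.mk_surjective (Localization.AtPrime 𝔪)
      ↥(N.localized 𝔪.primeCompl) (IsLocalRing.ResidueField (Localization.AtPrime 𝔪))
      Ideal.Quotient.mk_surjective z
    simp only [TensorProduct.mk_apply, LinearMap.lTensor_tmul, Submodule.subtype_apply] at hz ⊢
    have h1 : x ∈ IsLocalRing.maximalIdeal (Localization.AtPrime 𝔪) •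
        (⊤ : Submodule (Localization.AtPrime 𝔪) (LocalizedModule 𝔪.primeCompl P)) :=
      mem_smul_top_of_tmul_eq_zero _ x hz
    have h2 : x ∈ (N ⊓ 𝔪 • (⊤ : Submodule R P)).localized 𝔪.primeCompl := by
      rw [Submodule.localized, Submodule.localized'_inf, Submodule.localized'_smul,
        Submodule.localized'_top, ← hmax]
      exact ⟨hx, h1⟩
    have h3 : x ∈ (𝔪 • N).localized 𝔪.primeCompl := by
      obtain ⟨m0, hm0, s0, hs0⟩ := h2
      exact ⟨m0, h 𝔪 h𝔪 hm0, s0, hs0⟩
    rw [Submodule.localized, Submodule.localized'_smul, ← hmax] at h3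
    apply tmul_eq_zero_of_mem_smul_top
    rw [Submodule.mem_smul_top_iff]
    exact h3
  haveI : Module.Free (Localization.AtPrime 𝔪)
      (LocalizedModule 𝔪.primeCompl P ⧸ N.localized 𝔪.primeCompl) :=
    Module.free_of_lTensor_residueField_injective (N.localized 𝔪.primeCompl).subtype
      (N.localized 𝔪.primeCompl).mkQ (Submodule.mkQ_surjective _)
      (LinearMap.exact_subtype_mkQ _) hinj
  exact Module.Projective.of_equiv (localizedQuotientEquiv 𝔪.primeCompl N)

end partB

section partA

variable (p : ℕ) [Fact p.Prime] (k : Type u) [CommRing k] [CharP k p] [PerfectRing k p]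

/-- Witt vectors all of whose coefficients lie in `m`. -/
noncomputable def J0 (m : Ideal k) : Ideal (WittVector p k) :=
  RingHom.ker (WittVector.map (p := p) (Ideal.Quotient.mk m))

variable {p k}

theorem mem_J0 (m : Ideal k) (w : WittVector p k) : w ∈ J0 p k m ↔ ∀ i, w.coeff i ∈ m := by
  rw [J0, RingHom.mem_ker, WittVector.ext_iff]
  simp only [WittVector.map_coeff, WittVector.zero_coeff, Ideal.Quotient.eq_zero_iff_mem]

theorem frobenius_mem_J0 (m : Ideal k) {w : WittVector p k} (hw : w ∈ J0 p k m) :
    WittVector.frobenius w ∈ J0 p k m := by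
  rw [mem_J0] at hw ⊢
  intro i
  rw [WittVector.coeff_frobenius_charP]
  exact Ideal.pow_mem_of_mem _ (hw i) p (Nat.Prime.pos Fact.out)

theorem frobeniusEquiv_symm_mem_J0 (m : Ideal k) [m.IsPrime] {w : WittVector p k}
    (hw : w ∈ J0 p k m) : (WittVector.frobeniusEquiv p k).symm w ∈ J0 p k m := by
  rw [mem_J0] at hw ⊢
  intro i
  have h1 : WittVector.frobenius ((WittVector.frobeniusEquiv p k).symm w) = w := by
    rw [← WittVector.frobeniusEquiv_apply]
    exact (WittVector.frobeniusEquiv p k).apply_symm_apply w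
  have h2 := hw i
  rw [← h1, WittVector.coeff_frobenius_charP] at h2
  exact Ideal.IsPrime.mem_of_pow_mem inferInstance _ h2

theorem of_p_mul_mem_J0 (m : Ideal k) [m.IsPrime] {z : WittVector p k}
    (hz : (p : WittVector p k) * z ∈ J0 p k m) : z ∈ J0 p k m := by
  rw [mem_J0] at hz ⊢
  intro i
  have h1 : (p : WittVector p k) * z = WittVector.verschiebung (WittVector.frobenius z) := by
    rw [WittVector.verschiebung_frobenius, mul_comm]
  have h2 := hz (i + 1)
  rw [h1, WittVector.verschiebung_coeff_succ, WittVector.coeff_frobenius_charP] at h2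
  exact Ideal.IsPrime.mem_of_pow_mem inferInstance _ h2

theorem teichmuller_mem_J0 (m : Ideal k) {a : k} (ha : a ∈ m) :
    WittVector.teichmuller p a ∈ J0 p k m := by
  rw [mem_J0]
  intro i
  rcases i with _ | i
  · rw [WittVector.teichmuller_coeff_zero]; exact ha
  · rw [WittVector.teichmuller_coeff_pos p a (i + 1) (Nat.succ_pos i)]; exact m.zero_mem

variable {n : ℕ} {M : Type v} [AddCommGroup M] [Module (WittVector p k) M]
    [Module (WittVector p k ⧸ Ideal.span {(p : WittVector p k) ^ n}) M]
    [IsScalarTower (WittVector p k) (WittVector p k ⧸ Ideal.span {(p : WittVector p k) ^ n}) M]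

theorem coeff_quot_of_p_mul_mem (m : Ideal k) [m.IsPrime] (hn : 1 ≤ n)
    (c : WittVector p k ⧸ Ideal.span {(p : WittVector p k) ^ n})
    (hc : Ideal.Quotient.mk (Ideal.span {(p : WittVector p k) ^ n}) (p : WittVector p k) * c ∈
      Ideal.map (Ideal.Quotient.mk (Ideal.span {(p : WittVector p k) ^ n})) (J0 p k m)) :
    ∃ d e : WittVector p k ⧸ Ideal.span {(p : WittVector p k) ^ n},
      e ∈ Ideal.map (Ideal.Quotient.mk (Ideal.span {(p : WittVector p k) ^ n})) (J0 p k m) ∧
      c = Ideal.Quotient.mk (Ideal.span {(p : WittVector p k) ^ n})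
        ((p : WittVector p k) ^ (n - 1)) * d + e := by
  obtain ⟨a, rfl⟩ := Ideal.Quotient.mk_surjective c
  rw [← map_mul] at hc
  obtain ⟨j, hj, hje⟩ := (Ideal.mem_map_iff_of_surjective _ Ideal.Quotient.mk_surjective).mp hc
  rw [Ideal.Quotient.eq, Ideal.mem_span_singleton] at hje
  obtain ⟨b, hb⟩ := hje
  obtain ⟨n', rfl⟩ : ∃ n', n = n' + 1 := ⟨n - 1, by omega⟩
  have h1 : (p : WittVector p k) * (a + (p : WittVector p k) ^ n' * b) = j := by
    have : j = (p : WittVector p k) * a + (p : WittVector p k) ^ (n' + 1) * b := by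
      rw [← hb]; ring
    rw [this, pow_succ]; ring
  have hmem : a + (p : WittVector p k) ^ n' * b ∈ J0 p k m := of_p_mul_mem_J0 m (h1 ▸ hj)
  refine ⟨Ideal.Quotient.mk _ (-b), Ideal.Quotient.mk _ (a + (p : WittVector p k) ^ n' * b),
    Ideal.mem_map_of_mem _ hmem, ?_⟩
  rw [Nat.add_sub_cancel, ← map_mul, ← map_add]
  congr 1
  ring

variable [Module.Projective (WittVector p k ⧸ Ideal.span {(p : WittVector p k) ^ n}) M]

theorem torsion_mod_J0 (m : Ideal k) [m.IsPrime] (hn : 1 ≤ n) (x : M)
    (hx : (p : WittVector p k) • x ∈ J0 p k m • (⊤ : Submodule (WittVector p k) M)) :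
    ∃ (x' : M) (j : M), j ∈ J0 p k m • (⊤ : Submodule (WittVector p k) M) ∧
      x = ((p : WittVector p k) ^ (n - 1)) • x' + j := by
  classical
  obtain ⟨s, hs⟩ := Module.projective_def'.mp (inferInstance :
    Module.Projective (WittVector p k ⧸ Ideal.span {(p : WittVector p k) ^ n}) M)
  have hsm : Finsupp.linearCombination _ id (s x) = x := LinearMap.congr_fun hs x
  have claim1 : ∀ y ∈ J0 p k m • (⊤ : Submodule (WittVector p k) M), ∀ i,
      (s y) i ∈ Ideal.map (Ideal.Quotient.mk (Ideal.span {(p : WittVector p k) ^ n}))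
        (J0 p k m) := by
    intro y hy
    refine Submodule.smul_induction_on (p := fun y => ∀ i, (s y) i ∈
      Ideal.map (Ideal.Quotient.mk (Ideal.span {(p : WittVector p k) ^ n})) (J0 p k m)) hy ?_ ?_
    · intro a ha z _ i
      rw [← Groth.Agent.S16220.mk_smul (n := n) a z, map_smul]
      simp only [Finsupp.smul_apply, smul_eq_mul]
      exact Ideal.mul_mem_right _ _ (Ideal.mem_map_of_mem _ ha)
    · intro y z hy hz i
      rw [map_add, Finsupp.add_apply]
      exact add_mem (hy i) (hz i)
  have hcoef : ∀ i, Ideal.Quotient.mk (Ideal.span {(p : WittVector p k) ^ n})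
      (p : WittVector p k) * (s x) i ∈
      Ideal.map (Ideal.Quotient.mk (Ideal.span {(p : WittVector p k) ^ n})) (J0 p k m) := by
    intro i
    have := claim1 _ hx i
    rw [← Groth.Agent.S16220.mk_smul (n := n), map_smul] at this
    simpa using this
  choose d e he hde using fun i => coeff_quot_of_p_mul_mem m hn ((s x) i) (hcoef i)
  refine ⟨∑ i ∈ (s x).support, d i • i, ∑ i ∈ (s x).support, e i • i, ?_, ?_⟩
  · refine Submodule.sum_mem _ fun i _ => ?_
    obtain ⟨j, hj, hje⟩ :=
      (Ideal.mem_map_iff_of_surjective _ Ideal.Quotient.mk_surjective).mp (he i)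
    rw [← hje, Groth.Agent.S16220.mk_smul]
    exact Submodule.smul_mem_smul hj Submodule.mem_top
  · conv_lhs => rw [← hsm, Finsupp.linearCombination_apply, Finsupp.sum]
    rw [← Groth.Agent.S16220.mk_smul (n := n), Finset.smul_sum, ← Finset.sum_add_distrib]
    apply Finset.sum_congr rfl
    intro i _
    rw [smul_smul, ← add_smul, ← hde i]
    rfl

theorem F_mem (m : Ideal k)
    (F : M →ₛₗ[(WittVector.frobenius : WittVector p k →+* WittVector p k)] M) (j : M)
    (hj : j ∈ J0 p k m • (⊤ : Submodule (WittVector p k) M)) :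
    F j ∈ J0 p k m • (⊤ : Submodule (WittVector p k) M) := by
  refine Submodule.smul_induction_on (p := fun j => F j ∈
    J0 p k m • (⊤ : Submodule (WittVector p k) M)) hj ?_ ?_
  · intro a ha z _
    rw [map_smulₛₗ]
    exact Submodule.smul_mem_smul (frobenius_mem_J0 m ha) Submodule.mem_top
  · intro y z hy hz
    rw [map_add]; exact add_mem hy hz

theorem exists_decomp_of_V_eq (hn : 2 ≤ n) (m : Ideal k) [m.IsPrime]
    (F : M →ₛₗ[(WittVector.frobenius : WittVector p k →+* WittVector p k)] M)
    (V : M →ₛₗ[((WittVector.frobeniusEquiv p k).symm : WittVector p k →+* WittVector p k)] M)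
    (hFV : ∀ m : M, F (V m) = (p : WittVector p k) • m)
    (hVF : ∀ m : M, V (F m) = (p : WittVector p k) • m)
    (y u j₁ : M) (hj₁ : j₁ ∈ J0 p k m • (⊤ : Submodule (WittVector p k) M))
    (hy : V y = (p : WittVector p k) • u + j₁) :
    ∃ v j : M, j ∈ J0 p k m • (⊤ : Submodule (WittVector p k) M) ∧
      y = F u + (p : WittVector p k) • v + j := by
  have h1 : V (y - F u) = j₁ := by rw [map_sub, hVF, hy]; abel
  have h2 : (p : WittVector p k) • (y - F u) ∈
      J0 p k m • (⊤ : Submodule (WittVector p k) M) := by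
    rw [← hFV, h1]; exact F_mem m F j₁ hj₁
  obtain ⟨x', j, hj, hx'⟩ := torsion_mod_J0 (n := n) m (by omega) (y - F u) h2
  obtain ⟨n', rfl⟩ : ∃ n', n = n' + 2 := ⟨n - 2, by omega⟩
  refine ⟨((p : WittVector p k) ^ n') • x', j, hj, ?_⟩
  have h3 : ((p : WittVector p k) ^ (n' + 2 - 1)) • x' =
      (p : WittVector p k) • ((p : WittVector p k) ^ n') • x' := by
    rw [smul_smul, ← pow_succ']; rfl
  rw [h3] at hx'
  rw [add_assoc, ← hx']; abel

end partA

section assembly

variable {p : ℕ} [Fact p.Prime] {k : Type u} [CommRing k] [CharP k p] [PerfectRing k p]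
variable {n : ℕ} {M : Type v} [AddCommGroup M] [Module (WittVector p k) M]
    [Module (WittVector p k ⧸ Ideal.span {(p : WittVector p k) ^ n}) M]
    [IsScalarTower (WittVector p k) (WittVector p k ⧸ Ideal.span {(p : WittVector p k) ^ n}) M]

theorem mem_pM (x : M) :
    x ∈ Ideal.span {(p : WittVector p k)} • (⊤ : Submodule (WittVector p k) M) ↔
      ∃ y : M, x = (p : WittVector p k) • y := by
  rw [Submodule.ideal_span_singleton_smul, Submodule.mem_smul_pointwise_iff_exists]
  constructor
  · rintro ⟨y, -, rfl⟩; exact ⟨y, rfl⟩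
  · rintro ⟨y, rfl⟩; exact ⟨y, trivial, rfl⟩

theorem finite_mod_p [Module.Finite (WittVector p k ⧸ Ideal.span {(p : WittVector p k) ^ n}) M] :
    Module.Finite (WittVector p k ⧸ Ideal.span {(p : WittVector p k)})
      (M ⧸ (Ideal.span {(p : WittVector p k)} • (⊤ : Submodule (WittVector p k) M))) := by
  haveI : Module.Finite (WittVector p k) M :=
    Module.Finite.trans (WittVector p k ⧸ Ideal.span {(p : WittVector p k) ^ n}) M
  exact Module.Finite.of_restrictScalars_finite (WittVector p k) _ _

theorem projective_mod_p (hn : 1 ≤ n)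
    [Module.Projective (WittVector p k ⧸ Ideal.span {(p : WittVector p k) ^ n}) M] :
    Module.Projective (WittVector p k ⧸ Ideal.span {(p : WittVector p k)})
      (M ⧸ (Ideal.span {(p : WittVector p k)} • (⊤ : Submodule (WittVector p k) M))) := by
  classical
  obtain ⟨s, hs⟩ := Module.projective_def'.mp (inferInstance :
    Module.Projective (WittVector p k ⧸ Ideal.span {(p : WittVector p k) ^ n}) M)
  have hle : Ideal.span {(p : WittVector p k) ^ n} ≤ Ideal.span {(p : WittVector p k)} := by
    rw [Ideal.span_singleton_le_iff_mem]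
    exact Ideal.pow_mem_of_mem _ (Ideal.mem_span_singleton_self _) n (by omega)
  -- the W-linear map M → (M →₀ W/p)
  obtain ⟨t, ht⟩ : ∃ t : M →ₗ[WittVector p k]
      (M →₀ (WittVector p k ⧸ Ideal.span {(p : WittVector p k)})),
      ∀ x i, t x i = Ideal.Quotient.factor hle (s x i) := by
    refine ⟨(Finsupp.mapRange.linearMap
      ((Ideal.Quotient.factorₐ (WittVector p k) hle).toLinearMap)) ∘ₗ
        (s.restrictScalars (WittVector p k)), fun x i => ?_⟩
    simp
  have hker : Ideal.span {(p : WittVector p k)} • (⊤ : Submodule (WittVector p k) M) ≤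
      LinearMap.ker t := by
    refine Submodule.smul_le.mpr fun r hr x _ => ?_
    rw [LinearMap.mem_ker, map_smul]
    ext i
    rw [Finsupp.smul_apply, Finsupp.zero_apply, Algebra.smul_def]
    have : algebraMap (WittVector p k) (WittVector p k ⧸ Ideal.span {(p : WittVector p k)}) r = 0 :=
      Ideal.Quotient.eq_zero_iff_mem.mpr hr
    rw [this, zero_mul]
  obtain ⟨tb, htb⟩ : ∃ tb : (M ⧸ (Ideal.span {(p : WittVector p k)} •
        (⊤ : Submodule (WittVector p k) M))) →ₗ[WittVector p k ⧸ Ideal.span {(p : WittVector p k)}]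
      (M →₀ (WittVector p k ⧸ Ideal.span {(p : WittVector p k)})),
      ∀ x, tb (Submodule.Quotient.mk x) = t x :=
    ⟨(Submodule.liftQ _ t hker).extendScalarsOfSurjective
      (S := WittVector p k ⧸ Ideal.span {(p : WittVector p k)}) Ideal.Quotient.mk_surjective,
      fun x => rfl⟩
  refine Module.Projective.of_split tb
    (Finsupp.linearCombination _ (fun i : M => (Submodule.Quotient.mk i :
      M ⧸ (Ideal.span {(p : WittVector p k)} • (⊤ : Submodule (WittVector p k) M))))) ?_
  ext xb
  obtain ⟨x, rfl⟩ := Submodule.Quotient.mk_surjective _ xb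
  rw [LinearMap.comp_apply, htb, LinearMap.id_apply, Finsupp.linearCombination_apply, Finsupp.sum]
  have hsm : Finsupp.linearCombination _ id (s x) = x := LinearMap.congr_fun hs x
  have hsupp : (t x).support ⊆ (s x).support := by
    intro i hi
    rw [Finsupp.mem_support_iff] at hi ⊢
    intro h0
    apply hi
    rw [ht, h0, map_zero]
  rw [Finset.sum_subset hsupp (fun i _ hi => by
    rw [Finsupp.notMem_support_iff.mp hi, zero_smul])]
  conv_rhs => rw [← hsm, Finsupp.linearCombination_apply, Finsupp.sum]
  rw [← Submodule.mkQ_apply, map_sum]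
  apply Finset.sum_congr rfl
  intro i _
  rw [ht]
  obtain ⟨c, hc⟩ := Ideal.Quotient.mk_surjective (s x i)
  rw [← hc, Ideal.Quotient.factor_mk, Groth.Agent.S16220.mk_smul]
  rfl

theorem range_V_fg [Module.Finite (WittVector p k ⧸ Ideal.span {(p : WittVector p k) ^ n}) M]
    (V : M →ₛₗ[((WittVector.frobeniusEquiv p k).symm : WittVector p k →+* WittVector p k)] M) :
    (Submodule.span (WittVector p k ⧸ Ideal.span {(p : WittVector p k)})
      (Set.range fun m : M => (Ideal.span {(p : WittVector p k)} •
        (⊤ : Submodule (WittVector p k) M)).mkQ (V m))).FG := by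
  classical
  haveI : Module.Finite (WittVector p k) M :=
    Module.Finite.trans (WittVector p k ⧸ Ideal.span {(p : WittVector p k) ^ n}) M
  obtain ⟨S, hS⟩ := (Module.Finite.fg_top : (⊤ : Submodule (WittVector p k) M).FG)
  refine ⟨S.image (fun m : M => (Ideal.span {(p : WittVector p k)} •
        (⊤ : Submodule (WittVector p k) M)).mkQ (V m)), ?_⟩
  apply le_antisymm
  · refine Submodule.span_mono ?_
    rw [Finset.coe_image]
    exact Set.image_subset_range _ _
  · rw [Submodule.span_le]
    rintro _ ⟨y, rfl⟩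
    have hy : y ∈ Submodule.span (WittVector p k) (S : Set M) := by rw [hS]; trivial
    refine Submodule.span_induction (p := fun y _ => (Ideal.span {(p : WittVector p k)} •
        (⊤ : Submodule (WittVector p k) M)).mkQ (V y) ∈
      Submodule.span (WittVector p k ⧸ Ideal.span {(p : WittVector p k)})
        ((S.image (fun m : M => (Ideal.span {(p : WittVector p k)} •
        (⊤ : Submodule (WittVector p k) M)).mkQ (V m)) : Finset _) : Set _)) ?_ ?_ ?_ ?_ hy
    · intro x hx
      refine Submodule.subset_span ?_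
      rw [Finset.coe_image]
      exact ⟨x, hx, rfl⟩
    · simp
    · intro x z _ _ hx hz
      rw [map_add, map_add]; exact add_mem hx hz
    · intro a x _ hx
      rw [map_smulₛₗ, map_smul]
      have := Submodule.smul_mem _ (Ideal.Quotient.mk (Ideal.span {(p : WittVector p k)})
        (((WittVector.frobeniusEquiv p k).symm : WittVector p k →+* WittVector p k) a)) hx
      exact this

variable [Module.Projective (WittVector p k ⧸ Ideal.span {(p : WittVector p k) ^ n}) M]

theorem inter_le (hn : 2 ≤ n)
    (F : M →ₛₗ[(WittVector.frobenius : WittVector p k →+* WittVector p k)] M)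
    (V : M →ₛₗ[((WittVector.frobeniusEquiv p k).symm : WittVector p k →+* WittVector p k)] M)
    (hFV : ∀ m : M, F (V m) = (p : WittVector p k) • m)
    (hVF : ∀ m : M, V (F m) = (p : WittVector p k) • m)
    (𝔪 : Ideal (WittVector p k ⧸ Ideal.span {(p : WittVector p k)})) (h𝔪 : 𝔪.IsMaximal) :
    Submodule.span (WittVector p k ⧸ Ideal.span {(p : WittVector p k)})
      (Set.range fun m : M => (Ideal.span {(p : WittVector p k)} •
        (⊤ : Submodule (WittVector p k) M)).mkQ (V m)) ⊓
      𝔪 • (⊤ : Submodule (WittVector p k ⧸ Ideal.span {(p : WittVector p k)})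
        (M ⧸ (Ideal.span {(p : WittVector p k)} • (⊤ : Submodule (WittVector p k) M)))) ≤
    𝔪 • Submodule.span (WittVector p k ⧸ Ideal.span {(p : WittVector p k)})
      (Set.range fun m : M => (Ideal.span {(p : WittVector p k)} •
        (⊤ : Submodule (WittVector p k) M)).mkQ (V m)) := by
  classical
  -- the ideals
  obtain ⟨J, hJ⟩ : ∃ J : Ideal (WittVector p k),
      J = 𝔪.comap (Ideal.Quotient.mk (Ideal.span {(p : WittVector p k)})) := ⟨_, rfl⟩
  haveI hJmax : J.IsMaximal := hJ ▸ Ideal.comap_isMaximal_of_surjective _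
    Ideal.Quotient.mk_surjective
  have hpJ : Ideal.span {(p : WittVector p k)} ≤ J := by
    rw [hJ]
    intro x hx
    rw [Ideal.mem_comap, Ideal.Quotient.eq_zero_iff_mem.mpr hx]
    exact 𝔪.zero_mem
  have hmemJ : ∀ w, w ∈ J ↔ Ideal.Quotient.mk (Ideal.span {(p : WittVector p k)}) w ∈ 𝔪 := by
    intro w; rw [hJ, Ideal.mem_comap]
  obtain ⟨m, hm⟩ : ∃ m : Ideal k, m = J.map (WittVector.constantCoeff (p := p) (R := k)) :=
    ⟨_, rfl⟩
  have hcs : Function.Surjective (WittVector.constantCoeff (p := p) (R := k)) :=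
    WittVector.constantCoeff_surjective p
  haveI hmprime : m.IsPrime := by
    rw [hm]
    exact Ideal.map_isPrime_of_surjective hcs (by rw [WittVector.ker_constantCoeff]; exact hpJ)
  have hJ0J : J0 p k m ≤ J := by
    intro w hw
    have h0 : w.coeff 0 ∈ m := (mem_J0 m w).mp hw 0
    rw [hm] at h0
    obtain ⟨w', hw', hw'e⟩ := (Ideal.mem_map_iff_of_surjective _ hcs).mp h0
    have h1 : w - w' ∈ Ideal.span {(p : WittVector p k)} := by
      rw [← WittVector.ker_constantCoeff, RingHom.mem_ker, map_sub, hw'e]
      exact sub_self _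
    have : w = (w - w') + w' := by ring
    rw [this]
    exact J.add_mem (hpJ h1) hw'
  have hJle : J ≤ Ideal.span {(p : WittVector p k)} ⊔ J0 p k m := by
    intro w hw
    have h0 : w.coeff 0 ∈ m := by
      rw [hm]; exact Ideal.mem_map_of_mem _ hw
    have h1 : w - WittVector.teichmuller p (w.coeff 0) ∈ Ideal.span {(p : WittVector p k)} := by
      rw [← WittVector.ker_constantCoeff, RingHom.mem_ker, map_sub]
      show w.coeff 0 - (WittVector.teichmuller p (w.coeff 0)).coeff 0 = 0
      rw [WittVector.teichmuller_coeff_zero, sub_self]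
    have : w = (w - WittVector.teichmuller p (w.coeff 0)) +
        WittVector.teichmuller p (w.coeff 0) := by ring
    rw [this]
    exact Submodule.add_mem_sup h1 (teichmuller_mem_J0 m h0)
  -- main argument
  rintro x ⟨hxN, hxm⟩
  -- (i)
  have hrange : ∃ y, (Ideal.span {(p : WittVector p k)} •
      (⊤ : Submodule (WittVector p k) M)).mkQ (V y) = x := by
    refine Submodule.span_induction (p := fun x _ => ∃ y, (Ideal.span {(p : WittVector p k)} •
      (⊤ : Submodule (WittVector p k) M)).mkQ (V y) = x) ?_ ?_ ?_ ?_ hxN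
    · rintro _ ⟨y, rfl⟩; exact ⟨y, rfl⟩
    · exact ⟨0, by simp⟩
    · rintro _ _ _ _ ⟨y, rfl⟩ ⟨y', rfl⟩
      exact ⟨y + y', by rw [map_add, map_add]⟩
    · rintro c _ _ ⟨y, rfl⟩
      obtain ⟨c, rfl⟩ := Ideal.Quotient.mk_surjective c
      refine ⟨WittVector.frobenius c • y, ?_⟩
      rw [map_smulₛₗ, map_smul]
      have : ((WittVector.frobeniusEquiv p k).symm : WittVector p k →+* WittVector p k)
          (WittVector.frobenius c) = c := by
        rw [← WittVector.frobeniusEquiv_apply]
        exact (WittVector.frobeniusEquiv p k).symm_apply_apply c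
      rw [this]
      rfl
  obtain ⟨y, rfl⟩ := hrange
  -- (ii)
  have hz : ∃ z ∈ J • (⊤ : Submodule (WittVector p k) M),
      (Ideal.span {(p : WittVector p k)} • (⊤ : Submodule (WittVector p k) M)).mkQ z =
      (Ideal.span {(p : WittVector p k)} • (⊤ : Submodule (WittVector p k) M)).mkQ (V y) := by
    refine Submodule.smul_induction_on (p := fun x => ∃ z ∈ J • (⊤ : Submodule (WittVector p k) M),
      (Ideal.span {(p : WittVector p k)} • (⊤ : Submodule (WittVector p k) M)).mkQ z = x)
      hxm ?_ ?_
    · intro c hc mb _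
      obtain ⟨c', rfl⟩ := Ideal.Quotient.mk_surjective c
      obtain ⟨m', rfl⟩ := Submodule.Quotient.mk_surjective _ mb
      exact ⟨c' • m', Submodule.smul_mem_smul ((hmemJ c').mpr hc) Submodule.mem_top, rfl⟩
    · rintro _ _ ⟨z, hz, rfl⟩ ⟨z', hz', rfl⟩
      exact ⟨z + z', add_mem hz hz', map_add _ _ _⟩
  obtain ⟨z, hzJ, hzV⟩ := hz
  -- (iii)
  have h3 : V y ∈ Ideal.span {(p : WittVector p k)} • (⊤ : Submodule (WittVector p k) M) ⊔
      J0 p k m • (⊤ : Submodule (WittVector p k) M) := by
    have h31 : V y - z ∈ Ideal.span {(p : WittVector p k)} •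
        (⊤ : Submodule (WittVector p k) M) := by
      rw [← Submodule.Quotient.mk_eq_zero, Submodule.Quotient.mk_sub, sub_eq_zero]
      exact hzV.symm
    have h32 : z ∈ Ideal.span {(p : WittVector p k)} • (⊤ : Submodule (WittVector p k) M) ⊔
        J0 p k m • (⊤ : Submodule (WittVector p k) M) := by
      rw [← Submodule.sup_smul]
      exact Submodule.smul_mono_left hJle hzJ
    have : V y = (V y - z) + z := by abel
    rw [this]
    exact add_mem (le_sup_left (a := Ideal.span {(p : WittVector p k)} •
      (⊤ : Submodule (WittVector p k) M)) h31) h32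
  obtain ⟨pu, hpu, j₁, hj₁, hsum⟩ := Submodule.mem_sup.mp h3
  obtain ⟨u, rfl⟩ := (mem_pM pu).mp hpu
  -- (iv)
  obtain ⟨v, j, hj, hdec⟩ := exists_decomp_of_V_eq (n := n) hn m F V hFV hVF y u j₁ hj₁ hsum.symm
  -- (v)
  have h5 : (Ideal.span {(p : WittVector p k)} • (⊤ : Submodule (WittVector p k) M)).mkQ (V y) =
      (Ideal.span {(p : WittVector p k)} • (⊤ : Submodule (WittVector p k) M)).mkQ (V j) := by
    have hVy : V y = (p : WittVector p k) • u + (p : WittVector p k) • V v + V j := by
      rw [hdec, map_add, map_add, hVF, map_smulₛₗ, map_natCast]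
    rw [hVy, map_add, map_add]
    have e1 : (Ideal.span {(p : WittVector p k)} • (⊤ : Submodule (WittVector p k) M)).mkQ
        ((p : WittVector p k) • u) = 0 := by
      rw [Submodule.mkQ_apply, Submodule.Quotient.mk_eq_zero, mem_pM]; exact ⟨u, rfl⟩
    have e2 : (Ideal.span {(p : WittVector p k)} • (⊤ : Submodule (WittVector p k) M)).mkQ
        ((p : WittVector p k) • V v) = 0 := by
      rw [Submodule.mkQ_apply, Submodule.Quotient.mk_eq_zero, mem_pM]; exact ⟨V v, rfl⟩
    rw [e1, e2, zero_add, zero_add]
  rw [h5]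
  -- (vi)
  refine Submodule.smul_induction_on (p := fun j => (Ideal.span {(p : WittVector p k)} •
      (⊤ : Submodule (WittVector p k) M)).mkQ (V j) ∈
    𝔪 • Submodule.span (WittVector p k ⧸ Ideal.span {(p : WittVector p k)})
      (Set.range fun m : M => (Ideal.span {(p : WittVector p k)} •
        (⊤ : Submodule (WittVector p k) M)).mkQ (V m))) hj ?_ ?_
  · intro a ha w _
    rw [map_smulₛₗ, map_smul]
    have h61 : Ideal.Quotient.mk (Ideal.span {(p : WittVector p k)})
        (((WittVector.frobeniusEquiv p k).symm : WittVector p k →+* WittVector p k) a) ∈ 𝔪 :=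
      (hmemJ _).mp (hJ0J (frobeniusEquiv_symm_mem_J0 m ha))
    exact Submodule.smul_mem_smul h61 (Submodule.subset_span (Set.mem_range_self w))
  · intro a b ha hb
    rw [map_add, map_add]; exact add_mem ha hb

end assembly

end helpers

/-- Let p be a prime and k a perfect ring of characteristic p, so that the Frobenius σ of W = W(k) is
bijective, W has no p-torsion and W/p^n W = W_n(k) (the ideal p^n W is the kernel of the truncation
to length n). Let n ≥ 2 and let M be a truncated Dieudonné module of level n over k: a W-module on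
which W acts through W/p^n W, finitely generated and projective over W/p^n W, with a σ-semilinear F
: M → M and a σ⁻¹-semilinear V : M → M such that FV = VF = p. Then M/VM is a projective k-module;
here VM ⊇ VFM = pM, and the statement is made for the W/pW-module obtained from M/pM by dividing out
the image of V, W/pW being identified with k by the first Witt component. -/
theorem result (p : ℕ) [Fact p.Prime] (k : Type u) [CommRing k]
    [CharP k p] [PerfectRing k p] (n : ℕ) (hn : 2 ≤ n)
    (M : Type v) [AddCommGroup M] [Module (WittVector p k) M]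
    [Module (WittVector p k ⧸ Ideal.span {(p : WittVector p k) ^ n}) M] [IsScalarTower (WittVector p k) (WittVector p k ⧸ Ideal.span {(p : WittVector p k) ^ n}) M]
    [Module.Finite (WittVector p k ⧸ Ideal.span {(p : WittVector p k) ^ n}) M] [Module.Projective (WittVector p k ⧸ Ideal.span {(p : WittVector p k) ^ n}) M]
    (F : M →ₛₗ[(WittVector.frobenius : WittVector p k →+* WittVector p k)] M)
    (V : M →ₛₗ[((WittVector.frobeniusEquiv p k).symm : WittVector p k →+* WittVector p k)] M)
    (hFV : ∀ m : M, F (V m) = (p : WittVector p k) • m) (hVF : ∀ m : M, V (F m) = (p : WittVector p k) • m) :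
    Module.Projective (WittVector p k ⧸ Ideal.span {(p : WittVector p k)})
      ((M ⧸ (Ideal.span {(p : WittVector p k)} • (⊤ : Submodule (WittVector p k) M))) ⧸
        Submodule.span (WittVector p k ⧸ Ideal.span {(p : WittVector p k)})
          (Set.range fun m : M => (Ideal.span {(p : WittVector p k)} • (⊤ : Submodule (WittVector p k) M)).mkQ (V m))) := by
  haveI := finite_mod_p (p := p) (k := k) (n := n) (M := M)
  haveI := projective_mod_p (p := p) (k := k) (n := n) (M := M) (by omega)
  exact projective_quotient_of_inter_le _ (range_V_fg (n := n) V)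
    (fun 𝔪 h𝔪 => inter_le (n := n) hn F V hFV hVF 𝔪 h𝔪)

end Groth.Agent.S16221
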