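import Groth.Statements.S16222
import Mathlib
import Groth.Agent.S16221
import Groth.Agent.S14860
-- import your own Groth.Agent.* helpers here

set_option autoImplicit false
universe u v
open Disp

namespace Groth.Agent.S16222

open Groth.Agent.S16221

section helpers

variable {p : ℕ} [Fact p.Prime] {k : Type u} [CommRing k] [CharP k p] [PerfectRing k p]
variable {M : Type v} [AddCommGroup M] [Module (WittVector p k) M]

theorem inter_le'
    (F : M →ₛₗ[(WittVector.frobenius : WittVector p k →+* WittVector p k)] M)
    (V : M →ₛₗ[((WittVector.frobeniusEquiv p k).symm : WittVector p k →+* WittVector p k)] M)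
    (hFV : ∀ m : M, F (V m) = (p : WittVector p k) • m)
    (hVF : ∀ m : M, V (F m) = (p : WittVector p k) • m)
    (hE : ∀ (m : Ideal k) [m.IsPrime] (y u j₁ : M),
      j₁ ∈ J0 p k m • (⊤ : Submodule (WittVector p k) M) →
      V y = (p : WittVector p k) • u + j₁ →
      ∃ v j : M, j ∈ J0 p k m • (⊤ : Submodule (WittVector p k) M) ∧
        y = F u + (p : WittVector p k) • v + j)
    (𝔪 : Ideal (WittVector p k ⧸ Ideal.span {(p : WittVector p k)})) (h𝔪 : 𝔪.IsMaximal) :
    Submodule.span (WittVector p k ⧸ Ideal.span {(p : WittVector p k)})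
      (Set.range fun m : M => (Ideal.span {(p : WittVector p k)} •
        (⊤ : Submodule (WittVector p k) M)).mkQ (V m)) ⊓
      𝔪 • (⊤ : Submodule (WittVector p k ⧸ Ideal.span {(p : WittVector p k)})
        (M ⧸ (Ideal.span {(p : WittVector p k)} • (⊤ : Submodule (WittVector p k) M)))) ≤
    𝔪 • Submodule.span (WittVector p k ⧸ Ideal.span {(p : WittVector p k)})
      (Set.range fun m : M => (Ideal.span {(p : WittVector p k)} •
        (⊤ : Submodule (WittVector p k) M)).mkQ (V m)) := by
  classical
  -- the ideals
  obtain ⟨J, hJ⟩ : ∃ J : Ideal (WittVector p k),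
      J = 𝔪.comap (Ideal.Quotient.mk (Ideal.span {(p : WittVector p k)})) := ⟨_, rfl⟩
  haveI hJmax : J.IsMaximal := hJ ▸ Ideal.comap_isMaximal_of_surjective _
    Ideal.Quotient.mk_surjective
  have hpJ : Ideal.span {(p : WittVector p k)} ≤ J := by
    rw [hJ]
    intro x hx
    rw [Ideal.mem_comap, Ideal.Quotient.eq_zero_iff_mem.mpr hx]
    exact 𝔪.zero_mem
  have hmemJ : ∀ w, w ∈ J ↔ Ideal.Quotient.mk (Ideal.span {(p : WittVector p k)}) w ∈ 𝔪 := by
    intro w; rw [hJ, Ideal.mem_comap]
  obtain ⟨m, hm⟩ : ∃ m : Ideal k, m = J.map (WittVector.constantCoeff (p := p) (R := k)) :=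
    ⟨_, rfl⟩
  have hcs : Function.Surjective (WittVector.constantCoeff (p := p) (R := k)) :=
    WittVector.constantCoeff_surjective p
  haveI hmprime : m.IsPrime := by
    rw [hm]
    exact Ideal.map_isPrime_of_surjective hcs (by rw [WittVector.ker_constantCoeff]; exact hpJ)
  have hJ0J : J0 p k m ≤ J := by
    intro w hw
    have h0 : w.coeff 0 ∈ m := (mem_J0 m w).mp hw 0
    rw [hm] at h0
    obtain ⟨w', hw', hw'e⟩ := (Ideal.mem_map_iff_of_surjective _ hcs).mp h0
    have h1 : w - w' ∈ Ideal.span {(p : WittVector p k)} := by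
      rw [← WittVector.ker_constantCoeff, RingHom.mem_ker, map_sub, hw'e]
      exact sub_self _
    have : w = (w - w') + w' := by ring
    rw [this]
    exact J.add_mem (hpJ h1) hw'
  have hJle : J ≤ Ideal.span {(p : WittVector p k)} ⊔ J0 p k m := by
    intro w hw
    have h0 : w.coeff 0 ∈ m := by
      rw [hm]; exact Ideal.mem_map_of_mem _ hw
    have h1 : w - WittVector.teichmuller p (w.coeff 0) ∈ Ideal.span {(p : WittVector p k)} := by
      rw [← WittVector.ker_constantCoeff, RingHom.mem_ker, map_sub]
      show w.coeff 0 - (WittVector.teichmuller p (w.coeff 0)).coeff 0 = 0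
      rw [WittVector.teichmuller_coeff_zero, sub_self]
    have : w = (w - WittVector.teichmuller p (w.coeff 0)) +
        WittVector.teichmuller p (w.coeff 0) := by ring
    rw [this]
    exact Submodule.add_mem_sup h1 (teichmuller_mem_J0 m h0)
  -- main argument
  rintro x ⟨hxN, hxm⟩
  -- (i)
  have hrange : ∃ y, (Ideal.span {(p : WittVector p k)} •
      (⊤ : Submodule (WittVector p k) M)).mkQ (V y) = x := by
    refine Submodule.span_induction (p := fun x _ => ∃ y, (Ideal.span {(p : WittVector p k)} •
      (⊤ : Submodule (WittVector p k) M)).mkQ (V y) = x) ?_ ?_ ?_ ?_ hxN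
    · rintro _ ⟨y, rfl⟩; exact ⟨y, rfl⟩
    · exact ⟨0, by simp⟩
    · rintro _ _ _ _ ⟨y, rfl⟩ ⟨y', rfl⟩
      exact ⟨y + y', by rw [map_add, map_add]⟩
    · rintro c _ _ ⟨y, rfl⟩
      obtain ⟨c, rfl⟩ := Ideal.Quotient.mk_surjective c
      refine ⟨WittVector.frobenius c • y, ?_⟩
      rw [map_smulₛₗ, map_smul]
      have : ((WittVector.frobeniusEquiv p k).symm : WittVector p k →+* WittVector p k)
          (WittVector.frobenius c) = c := by
        rw [← WittVector.frobeniusEquiv_apply]
        exact (WittVector.frobeniusEquiv p k).symm_apply_apply c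
      rw [this]
      rfl
  obtain ⟨y, rfl⟩ := hrange
  -- (ii)
  have hz : ∃ z ∈ J • (⊤ : Submodule (WittVector p k) M),
      (Ideal.span {(p : WittVector p k)} • (⊤ : Submodule (WittVector p k) M)).mkQ z =
      (Ideal.span {(p : WittVector p k)} • (⊤ : Submodule (WittVector p k) M)).mkQ (V y) := by
    refine Submodule.smul_induction_on (p := fun x => ∃ z ∈ J • (⊤ : Submodule (WittVector p k) M),
      (Ideal.span {(p : WittVector p k)} • (⊤ : Submodule (WittVector p k) M)).mkQ z = x)
      hxm ?_ ?_
    · intro c hc mb _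
      obtain ⟨c', rfl⟩ := Ideal.Quotient.mk_surjective c
      obtain ⟨m', rfl⟩ := Submodule.Quotient.mk_surjective _ mb
      exact ⟨c' • m', Submodule.smul_mem_smul ((hmemJ c').mpr hc) Submodule.mem_top, rfl⟩
    · rintro _ _ ⟨z, hz, rfl⟩ ⟨z', hz', rfl⟩
      exact ⟨z + z', add_mem hz hz', map_add _ _ _⟩
  obtain ⟨z, hzJ, hzV⟩ := hz
  -- (iii)
  have h3 : V y ∈ Ideal.span {(p : WittVector p k)} • (⊤ : Submodule (WittVector p k) M) ⊔
      J0 p k m • (⊤ : Submodule (WittVector p k) M) := by
    have h31 : V y - z ∈ Ideal.span {(p : WittVector p k)} •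
        (⊤ : Submodule (WittVector p k) M) := by
      rw [← Submodule.Quotient.mk_eq_zero, Submodule.Quotient.mk_sub, sub_eq_zero]
      exact hzV.symm
    have h32 : z ∈ Ideal.span {(p : WittVector p k)} • (⊤ : Submodule (WittVector p k) M) ⊔
        J0 p k m • (⊤ : Submodule (WittVector p k) M) := by
      rw [← Submodule.sup_smul]
      exact Submodule.smul_mono_left hJle hzJ
    have : V y = (V y - z) + z := by abel
    rw [this]
    exact add_mem (le_sup_left (a := Ideal.span {(p : WittVector p k)} •
      (⊤ : Submodule (WittVector p k) M)) h31) h32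
  obtain ⟨pu, hpu, j₁, hj₁, hsum⟩ := Submodule.mem_sup.mp h3
  obtain ⟨u, rfl⟩ := (mem_pM pu).mp hpu
  -- (iv)
  obtain ⟨v, j, hj, hdec⟩ := hE m y u j₁ hj₁ hsum.symm
  -- (v)
  have h5 : (Ideal.span {(p : WittVector p k)} • (⊤ : Submodule (WittVector p k) M)).mkQ (V y) =
      (Ideal.span {(p : WittVector p k)} • (⊤ : Submodule (WittVector p k) M)).mkQ (V j) := by
    have hVy : V y = (p : WittVector p k) • u + (p : WittVector p k) • V v + V j := by
      rw [hdec, map_add, map_add, hVF, map_smulₛₗ, map_natCast]
    rw [hVy, map_add, map_add]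
    have e1 : (Ideal.span {(p : WittVector p k)} • (⊤ : Submodule (WittVector p k) M)).mkQ
        ((p : WittVector p k) • u) = 0 := by
      rw [Submodule.mkQ_apply, Submodule.Quotient.mk_eq_zero, mem_pM]; exact ⟨u, rfl⟩
    have e2 : (Ideal.span {(p : WittVector p k)} • (⊤ : Submodule (WittVector p k) M)).mkQ
        ((p : WittVector p k) • V v) = 0 := by
      rw [Submodule.mkQ_apply, Submodule.Quotient.mk_eq_zero, mem_pM]; exact ⟨V v, rfl⟩
    rw [e1, e2, zero_add, zero_add]
  rw [h5]
  -- (vi)
  refine Submodule.smul_induction_on (p := fun j => (Ideal.span {(p : WittVector p k)} •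
      (⊤ : Submodule (WittVector p k) M)).mkQ (V j) ∈
    𝔪 • Submodule.span (WittVector p k ⧸ Ideal.span {(p : WittVector p k)})
      (Set.range fun m : M => (Ideal.span {(p : WittVector p k)} •
        (⊤ : Submodule (WittVector p k) M)).mkQ (V m))) hj ?_ ?_
  · intro a ha w _
    rw [map_smulₛₗ, map_smul]
    have h61 : Ideal.Quotient.mk (Ideal.span {(p : WittVector p k)})
        (((WittVector.frobeniusEquiv p k).symm : WittVector p k →+* WittVector p k) a) ∈ 𝔪 :=
      (hmemJ _).mp (hJ0J (frobeniusEquiv_symm_mem_J0 m ha))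
    exact Submodule.smul_mem_smul h61 (Submodule.subset_span (Set.mem_range_self w))
  · intro a b ha hb
    rw [map_add, map_add]; exact add_mem ha hb


theorem torsion_J0 [Module.Projective (WittVector p k) M] (m : Ideal k) [m.IsPrime] (x : M)
    (hx : (p : WittVector p k) • x ∈ J0 p k m • (⊤ : Submodule (WittVector p k) M)) :
    x ∈ J0 p k m • (⊤ : Submodule (WittVector p k) M) := by
  classical
  obtain ⟨s, hs⟩ := Module.projective_def'.mp (inferInstance :
    Module.Projective (WittVector p k) M)
  have hsm : Finsupp.linearCombination _ id (s x) = x := LinearMap.congr_fun hs x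
  have claim1 : ∀ y ∈ J0 p k m • (⊤ : Submodule (WittVector p k) M), ∀ i,
      (s y) i ∈ J0 p k m := by
    intro y hy
    refine Submodule.smul_induction_on (p := fun y => ∀ i, (s y) i ∈ J0 p k m) hy ?_ ?_
    · intro a ha z _ i
      rw [map_smul]
      simp only [Finsupp.smul_apply, smul_eq_mul]
      exact Ideal.mul_mem_right _ _ ha
    · intro y z hy hz i
      rw [map_add, Finsupp.add_apply]
      exact add_mem (hy i) (hz i)
  have hcoef : ∀ i, (s x) i ∈ J0 p k m := by
    intro i
    have := claim1 _ hx i
    rw [map_smul] at this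
    simp only [Finsupp.smul_apply, smul_eq_mul] at this
    exact of_p_mul_mem_J0 m this
  rw [← hsm, Finsupp.linearCombination_apply, Finsupp.sum]
  exact Submodule.sum_mem _ fun i _ => Submodule.smul_mem_smul (hcoef i) Submodule.mem_top

theorem p_smul_eq_zero [Module.Projective (WittVector p k) M] (x : M)
    (hx : (p : WittVector p k) • x = 0) : x = 0 := by
  classical
  obtain ⟨s, hs⟩ := Module.projective_def'.mp (inferInstance :
    Module.Projective (WittVector p k) M)
  have hsm : Finsupp.linearCombination _ id (s x) = x := LinearMap.congr_fun hs x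
  have h0 : s x = 0 := by
    refine Finsupp.ext fun i => ?_
    have := DFunLike.congr_fun (congrArg s hx) i
    rw [map_smul, map_zero] at this
    simp only [Finsupp.smul_apply, smul_eq_mul, Finsupp.zero_apply] at this
    rw [mul_comm] at this
    rw [Finsupp.zero_apply]
    exact WittVector.eq_zero_of_p_mul_eq_zero _ this
  rw [← hsm, h0, map_zero]

theorem range_V_fg' [Module.Finite (WittVector p k) M]
    (V : M →ₛₗ[((WittVector.frobeniusEquiv p k).symm : WittVector p k →+* WittVector p k)] M) :
    (Submodule.span (WittVector p k ⧸ Ideal.span {(p : WittVector p k)})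
      (Set.range fun m : M => (Ideal.span {(p : WittVector p k)} •
        (⊤ : Submodule (WittVector p k) M)).mkQ (V m))).FG := by
  classical
  obtain ⟨S, hS⟩ := (Module.Finite.fg_top : (⊤ : Submodule (WittVector p k) M).FG)
  refine ⟨S.image (fun m : M => (Ideal.span {(p : WittVector p k)} •
        (⊤ : Submodule (WittVector p k) M)).mkQ (V m)), ?_⟩
  apply le_antisymm
  · refine Submodule.span_mono ?_
    rw [Finset.coe_image]
    exact Set.image_subset_range _ _
  · rw [Submodule.span_le]
    rintro _ ⟨y, rfl⟩
    have hy : y ∈ Submodule.span (WittVector p k) (S : Set M) := by rw [hS]; trivial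
    refine Submodule.span_induction (p := fun y _ => (Ideal.span {(p : WittVector p k)} •
        (⊤ : Submodule (WittVector p k) M)).mkQ (V y) ∈
      Submodule.span (WittVector p k ⧸ Ideal.span {(p : WittVector p k)})
        ((S.image (fun m : M => (Ideal.span {(p : WittVector p k)} •
        (⊤ : Submodule (WittVector p k) M)).mkQ (V m)) : Finset _) : Set _)) ?_ ?_ ?_ ?_ hy
    · intro x hx
      refine Submodule.subset_span ?_
      rw [Finset.coe_image]
      exact ⟨x, hx, rfl⟩
    · simp
    · intro x z _ _ hx hz
      rw [map_add, map_add]; exact add_mem hx hz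
    · intro a x _ hx
      rw [map_smulₛₗ, map_smul]
      have := Submodule.smul_mem _ (Ideal.Quotient.mk (Ideal.span {(p : WittVector p k)})
        (((WittVector.frobeniusEquiv p k).symm : WittVector p k →+* WittVector p k) a)) hx
      exact this

end helpers

/-- Let p be a prime and k a perfect ring of characteristic p, so that the Frobenius σ of W = W(k) is
bijective and W has no p-torsion. Let M be a projective Dieudonné module over k: a finitely
generated projective W-module with a σ-semilinear F : M → M and a σ⁻¹-semilinear V : M → M such that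
FV = VF = p. Then the reduction M/pM satisfies the level-one conditions: the preimage of pM under F
is VM + pM, the preimage of pM under V is FM + pM (so Ker F = Im V and Ker V = Im F on M/pM), and
M/VM, that is M/pM divided by the image of V, is a projective module over W/pW, which the first Witt
component identifies with k. -/
theorem result (p : ℕ) [Fact p.Prime] (k : Type u) [CommRing k]
    [CharP k p] [PerfectRing k p]
    (M : Type v) [AddCommGroup M] [Module (WittVector p k) M] [Module.Finite (WittVector p k) M] [Module.Projective (WittVector p k) M]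
    (F : M →ₛₗ[(WittVector.frobenius : WittVector p k →+* WittVector p k)] M)
    (V : M →ₛₗ[((WittVector.frobeniusEquiv p k).symm : WittVector p k →+* WittVector p k)] M)
    (hFV : ∀ m : M, F (V m) = (p : WittVector p k) • m) (hVF : ∀ m : M, V (F m) = (p : WittVector p k) • m) :
    ((Ideal.span {(p : WittVector p k)} • (⊤ : Submodule (WittVector p k) M)).comap F =
        Submodule.span (WittVector p k) (Set.range V) ⊔ Ideal.span {(p : WittVector p k)} • (⊤ : Submodule (WittVector p k) M) ∧
      (Ideal.span {(p : WittVector p k)} • (⊤ : Submodule (WittVector p k) M)).comap V =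
        Submodule.span (WittVector p k) (Set.range F) ⊔ Ideal.span {(p : WittVector p k)} • (⊤ : Submodule (WittVector p k) M)) ∧
    Module.Projective (WittVector p k ⧸ Ideal.span {(p : WittVector p k)})
      ((M ⧸ (Ideal.span {(p : WittVector p k)} • (⊤ : Submodule (WittVector p k) M))) ⧸
        Submodule.span (WittVector p k ⧸ Ideal.span {(p : WittVector p k)})
          (Set.range fun m : M => (Ideal.span {(p : WittVector p k)} • (⊤ : Submodule (WittVector p k) M)).mkQ (V m))) := by
  have hFp : ∀ z : M, F ((p : WittVector p k) • z) = (p : WittVector p k) • F z := by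
    intro z; rw [map_smulₛₗ, map_natCast]
  have hVp : ∀ z : M, V ((p : WittVector p k) • z) = (p : WittVector p k) • V z := by
    intro z; rw [map_smulₛₗ, map_natCast]
  refine ⟨⟨?_, ?_⟩, ?_⟩
  · apply le_antisymm
    · intro x hx
      rw [Submodule.mem_comap, mem_pM] at hx
      obtain ⟨y, hy⟩ := hx
      have hz : F (x - V y) = 0 := by rw [map_sub, hFV, hy, sub_self]
      have hpz : (p : WittVector p k) • (x - V y) = 0 := by rw [← hVF, hz, map_zero]
      have h0 := p_smul_eq_zero _ hpz
      have : x = V y := sub_eq_zero.mp h0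
      rw [this]
      exact le_sup_left (a := Submodule.span (WittVector p k) (Set.range V))
        (Submodule.subset_span ⟨y, rfl⟩)
    · apply sup_le
      · rw [Submodule.span_le]
        rintro _ ⟨m, rfl⟩
        rw [SetLike.mem_coe, Submodule.mem_comap, hFV, mem_pM]; exact ⟨m, rfl⟩
      · intro x hx
        rw [mem_pM] at hx
        obtain ⟨y, rfl⟩ := hx
        rw [Submodule.mem_comap, hFp, mem_pM]; exact ⟨_, rfl⟩
  · apply le_antisymm
    · intro x hx
      rw [Submodule.mem_comap, mem_pM] at hx
      obtain ⟨y, hy⟩ := hx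
      have hz : V (x - F y) = 0 := by rw [map_sub, hVF, hy, sub_self]
      have hpz : (p : WittVector p k) • (x - F y) = 0 := by rw [← hFV, hz, map_zero]
      have h0 := p_smul_eq_zero _ hpz
      have : x = F y := sub_eq_zero.mp h0
      rw [this]
      exact le_sup_left (a := Submodule.span (WittVector p k) (Set.range F))
        (Submodule.subset_span ⟨y, rfl⟩)
    · apply sup_le
      · rw [Submodule.span_le]
        rintro _ ⟨m, rfl⟩
        rw [SetLike.mem_coe, Submodule.mem_comap, hVF, mem_pM]; exact ⟨m, rfl⟩
      · intro x hx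
        rw [mem_pM] at hx
        obtain ⟨y, rfl⟩ := hx
        rw [Submodule.mem_comap, hVp, mem_pM]; exact ⟨_, rfl⟩
  · obtain ⟨hfin, hproj⟩ := Groth.Agent.S14860.truncation_of_finite_projective (P := M)
      (Ideal.span {(p : WittVector p k)})
    haveI := hfin
    haveI := hproj
    refine projective_quotient_of_inter_le _ (range_V_fg' V)
      (fun 𝔪 h𝔪 => inter_le' F V hFV hVF ?_ 𝔪 h𝔪)
    intro m _ y u j₁ hj₁ hy
    have h1 : V (y - F u) = j₁ := by rw [map_sub, hVF, hy]; abel
    have h2 : (p : WittVector p k) • (y - F u) ∈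
        J0 p k m • (⊤ : Submodule (WittVector p k) M) := by
      rw [← hFV, h1]; exact F_mem m F j₁ hj₁
    have h3 := torsion_J0 m _ h2
    refine ⟨0, y - F u, h3, ?_⟩
    rw [smul_zero, add_zero]; abel

end Groth.Agent.S16222
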