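import Groth.Statements.S16225
import Mathlib

set_option autoImplicit false
set_option linter.unusedSectionVars false
open scoped TensorProduct
universe u v
open CAlg

namespace Groth.Agent.S16225

/-- Let p be a prime, n a natural number and R → R' a faithfully flat homomorphism of commutative rings
in which p is nilpotent. Regard W_n(R') and W_n(R' ⊗_R R') as W_n(R)-algebras through the
componentwise maps induced by R → R' and R → R' ⊗_R R', and let ψ₁, ψ₂ : W_n(R') → W_n(R' ⊗_R R') be
the componentwise maps induced by the two inclusions of R' (these are W_n(R)-algebra maps). Then for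
every flat W_n(R)-module M the sequence 0 → M → M ⊗_{W_n(R)} W_n(R') ⇉ M ⊗_{W_n(R)} W_n(R' ⊗_R R')
is exact: m ↦ m ⊗ 1 is injective and its image is the equalizer of id ⊗ ψ₁ and id ⊗ ψ₂. (This is the
beginning, in degrees 0 and 1, of a complex continued by the higher tensor powers of R', which the
published proof asserts to be exact throughout; W_n(R) → W_n(R') is not flat in general, so this is
not faithfully flat descent.) -/
theorem result (p : ℕ) [Fact p.Prime] (n : ℕ)
    (R R' : Type u) [CommRing R] [CommRing R'] [Algebra R R'] [Module.FaithfullyFlat R R']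
    (hp : IsNilpotent (p : R))
    [Algebra (TruncatedWittVector p n R) (TruncatedWittVector p n R')]
    (h₁ : algebraMap (TruncatedWittVector p n R) (TruncatedWittVector p n R') = WittGrp.truncMap p n (algebraMap R R'))
    [Algebra (TruncatedWittVector p n R) (TruncatedWittVector p n (TensorProduct R R' R'))]
    (h₂ : algebraMap (TruncatedWittVector p n R) (TruncatedWittVector p n (TensorProduct R R' R')) =
      WittGrp.truncMap p n (algebraMap R (TensorProduct R R' R')))
    (ψ₁ ψ₂ : TruncatedWittVector p n R' →ₐ[TruncatedWittVector p n R] TruncatedWittVector p n (TensorProduct R R' R'))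
    (hψ₁ : (ψ₁ : TruncatedWittVector p n R' →+* TruncatedWittVector p n (TensorProduct R R' R')) =
      WittGrp.truncMap p n (Algebra.TensorProduct.includeLeftRingHom : R' →+* TensorProduct R R' R'))
    (hψ₂ : (ψ₂ : TruncatedWittVector p n R' →+* TruncatedWittVector p n (TensorProduct R R' R')) =
      WittGrp.truncMap p n ((Algebra.TensorProduct.includeRight : R' →ₐ[R] TensorProduct R R' R') : R' →+* TensorProduct R R' R'))
    (M : Type v) [AddCommGroup M] [Module (TruncatedWittVector p n R) M] [Module.Flat (TruncatedWittVector p n R) M] :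
    Function.Injective (fun m : M => m ⊗ₜ[TruncatedWittVector p n R] (1 : TruncatedWittVector p n R')) ∧
      ∀ x : M ⊗[TruncatedWittVector p n R] TruncatedWittVector p n R',
        LinearMap.lTensor M ψ₁.toLinearMap x = LinearMap.lTensor M ψ₂.toLinearMap x →
          x ∈ Set.range (fun m : M => m ⊗ₜ[TruncatedWittVector p n R] (1 : TruncatedWittVector p n R')) := by
  set W := TruncatedWittVector p n R with hW
  set W' := TruncatedWittVector p n R' with hW'
  let j : W →ₗ[W] W' := Algebra.linearMap W W'
  let d : W' →ₗ[W] TruncatedWittVector p n (TensorProduct R R' R') :=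
    ψ₁.toLinearMap - ψ₂.toLinearMap
  have heff := Algebra.IsEffective.of_faithfullyFlat R R'
  have hjapp : ∀ s : W, ∀ i, (j s).coeff i = algebraMap R R' (s.coeff i) := by
    intro s i
    change (algebraMap W W' s).coeff i = _
    rw [h₁, WittGrp.coeff_truncMap]
  have hψ₁app : ∀ t : W', ∀ i, (ψ₁ t).coeff i = (t.coeff i) ⊗ₜ[R] (1 : R') := by
    intro t i
    have : ψ₁ t = (ψ₁ : W' →+* _) t := rfl
    rw [this, hψ₁, WittGrp.coeff_truncMap]; rfl
  have hψ₂app : ∀ t : W', ∀ i, (ψ₂ t).coeff i = (1 : R') ⊗ₜ[R] (t.coeff i) := by
    intro t i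
    have : ψ₂ t = (ψ₂ : W' →+* _) t := rfl
    rw [this, hψ₂, WittGrp.coeff_truncMap]; rfl
  have hj : Function.Injective j := by
    intro s s' hss
    apply TruncatedWittVector.ext
    intro i
    have := congrArg (fun w => TruncatedWittVector.coeff i w) hss
    simp only [hjapp] at this
    exact FaithfulSMul.algebraMap_injective R R' this
  have hex : Function.Exact j d := by
    intro t
    constructor
    · intro ht
      have ht' : ψ₁ t = ψ₂ t := by
        have : ψ₁ t - ψ₂ t = 0 := ht
        exact sub_eq_zero.mp this
      have hmem : ∀ i, ∃ s : R, algebraMap R R' s = t.coeff i := by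
        intro i
        have h3 : Algebra.TensorProduct.includeLeftSubRight R R' (t.coeff i) = 0 := by
          rw [Algebra.TensorProduct.includeLeftSubRight_apply, sub_eq_zero, ← hψ₁app, ← hψ₂app, ht']
        obtain ⟨s, hs⟩ := (heff _).mp h3
        exact ⟨s, hs⟩
      choose s hs using hmem
      refine ⟨TruncatedWittVector.mk p s, ?_⟩
      apply TruncatedWittVector.ext
      intro i
      rw [hjapp, TruncatedWittVector.coeff_mk, hs]
    · rintro ⟨s, rfl⟩
      change ψ₁ (algebraMap W W' s) - ψ₂ (algebraMap W W' s) = 0
      rw [AlgHom.commutes, AlgHom.commutes, sub_self]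
  have hjM : Function.Injective (j.lTensor M) :=
    Module.Flat.lTensor_preserves_injective_linearMap j hj
  have hexM := Module.Flat.lTensor_exact M hex
  have hone : ∀ m : M, m ⊗ₜ[W] (1 : W') = j.lTensor M ((TensorProduct.rid W M).symm m) := by
    intro m
    rw [TensorProduct.rid_symm_apply, LinearMap.lTensor_tmul]
    change _ = m ⊗ₜ[W] (algebraMap W W' 1)
    rw [map_one]
  constructor
  · intro m m' hmm
    have hmm' : j.lTensor M ((TensorProduct.rid W M).symm m) =
        j.lTensor M ((TensorProduct.rid W M).symm m') := by
      rw [← hone, ← hone]; exact hmm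
    exact (TensorProduct.rid W M).symm.injective (hjM hmm')
  · intro x hx
    have hdx : d.lTensor M x = 0 := by
      change (ψ₁.toLinearMap - ψ₂.toLinearMap).lTensor M x = 0
      rw [LinearMap.lTensor_sub, LinearMap.sub_apply, hx, sub_self]
    obtain ⟨w, rfl⟩ := (hexM x).mp hdx
    refine ⟨TensorProduct.rid W M w, ?_⟩
    have := hone (TensorProduct.rid W M w)
    rw [LinearEquiv.symm_apply_apply] at this
    exact this

end Groth.Agent.S16225
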