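import Groth.Statements.S16233
import Mathlib

set_option autoImplicit false
open NCTr

namespace Groth.Agent.S16233

theorem mul_comm_mod {A : Type*} [Ring A] (x y : A) :
    (QuotientAddGroup.mk (x * y) : Abel A) = QuotientAddGroup.mk (y * x) := by
  rw [QuotientAddGroup.eq]
  have : -(x * y) + y * x = y * x - x * y := by abel
  rw [this]
  exact AddSubgroup.subset_closure ⟨y, x, rfl⟩

/-- the Hattori–Stallings trace does not depend on the basis -/
theorem hsTrace_basis_indep {A : Type*} [Ring A] {E : Type*} [AddCommGroup E] [Module A E]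
    {ι κ : Type*} [Fintype ι] [Fintype κ] (b : Module.Basis ι A E) (c : Module.Basis κ A E)
    (u : E →ₗ[A] E) : hsTrace c u = hsTrace b u := by
  classical
  unfold hsTrace
  -- coordinates
  have hc : ∀ j l, c.repr (u (c j)) l =
      ∑ i, ∑ k, b.repr (c j) i * b.repr (u (b i)) k * c.repr (b k) l := by
    intro j l
    have h1 : c j = ∑ i, b.repr (c j) i • b i := (b.sum_repr (c j)).symm
    have h2 : ∀ i, u (b i) = ∑ k, b.repr (u (b i)) k • b k := fun i => (b.sum_repr _).symm
    conv_lhs => rw [h1]
    rw [map_sum, map_sum, Finsupp.finsetSum_apply]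
    refine Finset.sum_congr rfl fun i _ => ?_
    rw [map_smul, map_smul, Finsupp.smul_apply, smul_eq_mul]
    conv_lhs => rw [h2 i]
    rw [map_sum, Finsupp.finsetSum_apply, Finset.mul_sum]
    refine Finset.sum_congr rfl fun k _ => ?_
    rw [map_smul, Finsupp.smul_apply, smul_eq_mul, mul_assoc]
  have hδ : ∀ k i, ∑ j, c.repr (b k) j * b.repr (c j) i = if k = i then 1 else 0 := by
    intro k i
    have h1 : b k = ∑ j, c.repr (b k) j • c j := (c.sum_repr (b k)).symm
    have h2 : b.repr (b k) i = ∑ j, c.repr (b k) j * b.repr (c j) i := by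
      conv_lhs => rw [h1]
      rw [map_sum, Finsupp.finsetSum_apply]
      refine Finset.sum_congr rfl fun j _ => ?_
      rw [map_smul, Finsupp.smul_apply, smul_eq_mul]
    rw [← h2, Module.Basis.repr_self, Finsupp.single_apply]
  calc ∑ j, (QuotientAddGroup.mk (c.repr (u (c j)) j) : Abel A)
      = ∑ j, ∑ i, ∑ k, (QuotientAddGroup.mk
          (b.repr (c j) i * (b.repr (u (b i)) k * c.repr (b k) j)) : Abel A) := by
        refine Finset.sum_congr rfl fun j _ => ?_
        rw [hc, QuotientAddGroup.mk_sum]
        refine Finset.sum_congr rfl fun i _ => ?_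
        rw [QuotientAddGroup.mk_sum]
        refine Finset.sum_congr rfl fun k _ => ?_
        rw [mul_assoc]
    _ = ∑ j, ∑ i, ∑ k, (QuotientAddGroup.mk
          (b.repr (u (b i)) k * c.repr (b k) j * b.repr (c j) i) : Abel A) := by
        refine Finset.sum_congr rfl fun j _ => Finset.sum_congr rfl fun i _ =>
          Finset.sum_congr rfl fun k _ => ?_
        rw [mul_comm_mod]
    _ = ∑ i, ∑ k, ∑ j, (QuotientAddGroup.mk
          (b.repr (u (b i)) k * c.repr (b k) j * b.repr (c j) i) : Abel A) := by
        rw [Finset.sum_comm]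
        refine Finset.sum_congr rfl fun i _ => ?_
        rw [Finset.sum_comm]
    _ = ∑ i, ∑ k, (QuotientAddGroup.mk
          (b.repr (u (b i)) k * (if k = i then 1 else 0)) : Abel A) := by
        refine Finset.sum_congr rfl fun i _ => Finset.sum_congr rfl fun k _ => ?_
        rw [← hδ, Finset.mul_sum, QuotientAddGroup.mk_sum]
        refine Finset.sum_congr rfl fun j _ => ?_
        rw [mul_assoc]
    _ = ∑ i, (QuotientAddGroup.mk (b.repr (u (b i)) i) : Abel A) := by
        refine Finset.sum_congr rfl fun i _ => ?_
        rw [Finset.sum_eq_single i]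
        · simp
        · intro k _ hk; simp [hk]
        · intro h; exact absurd (Finset.mem_univ i) h

theorem main (Λ : Type*) [Ring Λ] (G : Type*) [Group G] [Fintype G]
    (P : Type*) [AddCommGroup P] [Module Λ P] [Module (MonoidAlgebra Λ G) P]
    [IsScalarTower Λ (MonoidAlgebra Λ G) P]
    {ι κ : Type*} [Fintype ι] [Fintype κ]
    (b : Module.Basis ι (MonoidAlgebra Λ G) P) (c : Module.Basis κ Λ P)
    (u : P →ₗ[MonoidAlgebra Λ G] P) :
    NCTr.hsTrace c (u.restrictScalars Λ) =
      Fintype.card G • ∑ i, (QuotientAddGroup.mk ((b.repr (u (b i)) i).coeff 1) : NCTr.Abel Λ) := by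
  classical
  let T : Module.Basis (G × ι) Λ P := (MonoidAlgebra.basis G Λ).smulTower b
  rw [hsTrace_basis_indep T c]
  unfold hsTrace
  rw [Fintype.sum_prod_type]
  have key : ∀ (g : G) (i : ι), T.repr ((u.restrictScalars Λ) (T (g, i))) (g, i) =
      (b.repr (u (b i)) i).coeff 1 := by
    intro g i
    rw [Module.Basis.smulTower_repr, Module.Basis.smulTower_apply]
    change (MonoidAlgebra.basis G Λ).repr (b.repr (u ((MonoidAlgebra.basis G Λ) g • b i)) i) g = _
    rw [map_smul, map_smul, Finsupp.smul_apply, MonoidAlgebra.basis_apply, smul_eq_mul]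
    change (MonoidAlgebra.single g 1 * b.repr (u (b i)) i).coeff g = _
    rw [MonoidAlgebra.coeff_single_mul_apply, inv_mul_cancel, one_mul]
  simp_rw [key]
  rw [Finset.sum_const, Finset.card_univ]

/-- Let Λ be a ring, not necessarily commutative, G a finite group, P a left Λ[G]-module with a finite
Λ[G]-basis b, regarded also as a Λ-module by restriction of scalars and equipped with any finite
Λ-basis c, and u a Λ[G]-linear endomorphism of P with diagonal matrix entries u_ii = (b.repr (u (b
i))) i in Λ[G]. Then the trace of u as a Λ-linear endomorphism, taken in Λ modulo additive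
commutators with respect to c, equals |G| times the class of the sum over i of the coefficients of
the identity element of G in the u_ii (that sum of coefficients is the value at the identity class
of the Λ[G]-trace of u, the G-trace of u). The source states this for P finitely generated
projective over Λ[G]; this row is the free case. -/
theorem result
    (Λ : Type*) [Ring Λ] (G : Type*) [Group G] [Fintype G]
    (P : Type*) [AddCommGroup P] [Module Λ P] [Module (MonoidAlgebra Λ G) P]
    [IsScalarTower Λ (MonoidAlgebra Λ G) P]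
    {ι κ : Type*} [Fintype ι] [Fintype κ]
    (b : Module.Basis ι (MonoidAlgebra Λ G) P) (c : Module.Basis κ Λ P)
    (u : P →ₗ[MonoidAlgebra Λ G] P) :
    NCTr.hsTrace c (u.restrictScalars Λ) =
      Fintype.card G • ∑ i, (QuotientAddGroup.mk ((b.repr (u (b i)) i).coeff 1) : NCTr.Abel Λ) := by
  exact main Λ G P b c u

end Groth.Agent.S16233
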