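import Groth.Statements.S16234
import Mathlib.RingTheory.HopkinsLevitzki
import Mathlib.RingTheory.Support
import Mathlib.RingTheory.FiniteLength
import Mathlib.Algebra.Module.Torsion.Basic
import Mathlib.RingTheory.KrullDimension.Basic
import Mathlib.RingTheory.Ideal.Quotient.Noetherian

set_option autoImplicit false
universe u v
open CAlg

namespace Groth.Agent.S16234

/-- For a finitely generated module M over a Noetherian commutative ring A, every prime ideal in the
support of M is a maximal ideal if and only if M has finite length. -/
theorem result (A : Type u) [CommRing A] [IsNoetherianRing A]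
    (M : Type v) [AddCommGroup M] [Module A M] [Module.Finite A M] :
    (∀ p ∈ Module.support A M, p.asIdeal.IsMaximal) ↔ IsFiniteLength A M := by
  classical
  set I : Ideal A := Module.annihilator A M with hI
  have hsurj : Function.Surjective (Ideal.Quotient.mk I) := Ideal.Quotient.mk_surjective
  constructor
  · intro hmax
    let _ : Module (A ⧸ I) M := Module.quotientAnnihilator
    have htower : IsScalarTower A (A ⧸ I) M := inferInstance
    have hdim : Ring.KrullDimLE 0 (A ⧸ I) := by
      rw [Ring.krullDimLE_zero_iff]
      intro J hJ
      have hJ' : (J.comap (Ideal.Quotient.mk I)).IsPrime := Ideal.comap_isPrime _ J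
      have hmem : (⟨J.comap (Ideal.Quotient.mk I), hJ'⟩ : PrimeSpectrum A) ∈ Module.support A M := by
        rw [Module.mem_support_iff_of_finite]
        intro a ha
        rw [Ideal.mem_comap, Ideal.Quotient.eq_zero_iff_mem.mpr ha]
        exact J.zero_mem
      have hmax' : (J.comap (Ideal.Quotient.mk I)).IsMaximal := hmax _ hmem
      have h1 := Ideal.map_eq_top_or_isMaximal_of_surjective (Ideal.Quotient.mk I) hsurj hmax'
      rw [Ideal.map_comap_of_surjective _ hsurj] at h1
      rcases h1 with h1 | h1
      · exact absurd h1 hJ.ne_top
      · exact h1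
    have hart : IsArtinianRing (A ⧸ I) := isArtinianRing_iff_krullDimLE_zero.mpr hdim
    have hfin : Module.Finite (A ⧸ I) M := Module.Finite.of_restrictScalars_finite A (A ⧸ I) M
    have hartM : IsArtinian (A ⧸ I) M := inferInstance
    have hartM' : IsArtinian A M := isArtinian_of_surjective_algebraMap (R := A ⧸ I) hsurj
    have hnoeth : IsNoetherian A M := inferInstance
    exact isFiniteLength_iff_isNoetherian_isArtinian.mpr ⟨hnoeth, hartM'⟩
  · intro hfl p hp
    obtain ⟨_, hartM⟩ := isFiniteLength_iff_isNoetherian_isArtinian.mp hfl
    obtain ⟨s, hs⟩ := (inferInstance : Module.Finite A M)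
    let f : A →ₗ[A] (s → M) := LinearMap.pi fun i => LinearMap.toSpanSingleton A M i.1
    have hker : LinearMap.ker f ≤ p.asIdeal := by
      intro a ha
      have ha' : ∀ i : s, a • (i : M) = 0 := by
        intro i
        have := congrFun (LinearMap.mem_ker.mp ha) i
        simpa [f] using this
      have hann : a ∈ Module.annihilator A M := by
        rw [Module.mem_annihilator]
        intro m
        have hm : m ∈ Submodule.span A (s : Set M) := by rw [hs]; trivial
        induction hm using Submodule.span_induction with
        | mem x hx => exact ha' ⟨x, hx⟩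
        | zero => exact smul_zero a
        | add x y _ _ hx hy => rw [smul_add, hx, hy, add_zero]
        | smul c x _ hx => rw [smul_comm, hx, smul_zero]
      exact Module.annihilator_le_of_mem_support hp hann
    have hart1 : IsArtinian A (A ⧸ LinearMap.ker f) :=
      isArtinian_of_linearEquiv f.quotKerEquivRange.symm
    have hart2 : IsArtinianRing (A ⧸ LinearMap.ker f) := isArtinian_of_tower A hart1
    have hsurj' : Function.Surjective (Ideal.Quotient.mk (LinearMap.ker f)) :=
      Ideal.Quotient.mk_surjective
    have hpp : p.asIdeal.IsPrime := p.2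
    have hprime : (p.asIdeal.map (Ideal.Quotient.mk (LinearMap.ker f))).IsPrime :=
      Ideal.map_isPrime_of_surjective hsurj' (by rw [Ideal.mk_ker]; exact hker)
    have hmax : (p.asIdeal.map (Ideal.Quotient.mk (LinearMap.ker f))).IsMaximal :=
      IsArtinianRing.isMaximal_of_isPrime _
    have h2 := Ideal.comap_isMaximal_of_surjective (Ideal.Quotient.mk (LinearMap.ker f)) hsurj'
      (K := p.asIdeal.map (Ideal.Quotient.mk (LinearMap.ker f)))
    rw [Ideal.comap_map_of_surjective _ hsurj', ← RingHom.ker_eq_comap_bot, Ideal.mk_ker,
      sup_eq_left.mpr hker] at h2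
    exact h2

end Groth.Agent.S16234
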