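import Groth.Statements.S16235
import Mathlib.RingTheory.Ideal.KrullsHeightTheorem
import Mathlib.RingTheory.Regular.RegularSequence
import Mathlib.RingTheory.Ideal.MinimalPrime.Localization

set_option autoImplicit false
universe u
open CAlg

namespace Groth.Agent.S16235

/-- Let A be a Noetherian commutative ring and x_1, …, x_r a regular sequence on A (each x_i a
non-zero-divisor on A/(x_1, …, x_{i-1})) generating an ideal I ≠ A. Then the height of I, the
infimum of the heights of the minimal primes over I, equals r. -/
theorem result (A : Type u) [CommRing A] [IsNoetherianRing A]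
    (r : ℕ) (x : Fin r → A) (hx : RingTheory.Sequence.IsWeaklyRegular A (List.ofFn x))
    (hI : Ideal.span (Set.range x) ≠ ⊤) :
    (Ideal.span (Set.range x)).height = r := by
  classical
  set rs := List.ofFn x with hrs
  have hlen : rs.length = r := List.length_ofFn
  have hofList : Ideal.ofList rs = Ideal.span (Set.range x) := by
    unfold Ideal.ofList
    congr 1
    ext a
    simp [hrs, List.mem_ofFn]
  apply le_antisymm
  · obtain ⟨p, hp⟩ := Ideal.nonempty_minimalPrimes hI
    have h1 : (Ideal.span (Set.range x)).height ≤ p.height := by
      rw [Ideal.height_eq_inf_minimalPrimes]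
      exact iInf₂_le p hp
    have hspan : Ideal.span (Set.range x) =
        Ideal.span ((Finset.univ.image x : Finset A) : Set A) := by simp
    rw [hspan] at hp
    have h2 := Ideal.height_le_card_of_mem_minimalPrimes_span_finset hp
    have h3 : (Finset.univ.image x).card ≤ r :=
      (Finset.card_image_le).trans (by simp)
    exact h1.trans (h2.trans (by exact_mod_cast h3))
  · have key : ∀ i (_ : i ≤ r) (p : Ideal A) [p.IsPrime],
        Ideal.ofList (rs.take i) ≤ p → (i : ℕ∞) ≤ p.height := by
      intro i
      induction i with
      | zero => intro _ p _ _; simp
      | succ i ih =>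
        intro hi p _ hp
        have hi' : i < rs.length := by omega
        have hle : Ideal.ofList (rs.take i) ≤ Ideal.ofList (rs.take (i + 1)) := by
          apply Ideal.span_mono
          intro a ha
          simp only [Set.mem_ofPred_eq] at ha ⊢
          rw [List.take_add_one]
          exact List.mem_append_left _ ha
        obtain ⟨q, hq, hqp⟩ := Ideal.exists_minimalPrimes_le (hle.trans hp)
        have hqprime : q.IsPrime := hq.1.1
        have hqh := ih (by omega) q hq.1.2
        have hreg := hx.regular_mod_prev i hi'
        have hann : Module.annihilator A (A ⧸ (Ideal.ofList (rs.take i) • ⊤ : Submodule A A)) =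
            Ideal.ofList (rs.take i) := by
          rw [smul_eq_mul, Ideal.mul_top]
          exact Ideal.annihilator_quotient
        have hnot : rs[i] ∉ q := hreg.notMem_of_mem_minimalPrimes (by rw [hann]; exact hq)
        have hmem : rs[i] ∈ p := by
          apply hp
          apply Ideal.subset_span
          simp only [Set.mem_ofPred_eq]
          rw [List.take_add_one]
          apply List.mem_append_right
          simp [hi']
        have hlt : q < p := lt_of_le_of_ne hqp (fun h => hnot (h ▸ hmem))
        have h4 := Ideal.height_add_one_le_of_lt_of_isPrime hlt
        calc ((i + 1 : ℕ) : ℕ∞) = (i : ℕ∞) + 1 := by push_cast; rfl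
          _ ≤ q.height + 1 := by gcongr
          _ ≤ p.height := h4
    rw [Ideal.height_eq_inf_minimalPrimes]
    refine le_iInf₂ fun p hp => ?_
    have hpprime : p.IsPrime := hp.1.1
    apply key r le_rfl p
    rw [← hlen, List.take_length, hofList]
    exact hp.1.2

end Groth.Agent.S16235
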