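import Groth.Statements.S16238
import Mathlib
import Groth.Agent.Lib.Helper11.KzConv
import Groth.Agent.Lib.Helper11.KzRow

set_option autoImplicit false
universe u
open CategoryTheory
open CAlg

namespace Groth.Agent.S16238

/-- Let A be a Noetherian local ring, x_1, …, x_n a regular sequence on A (each x_i a non-zero-divisor
on A/(x_1, …, x_{i-1})) generating the ideal I, and J an ideal with I + J ≠ A. Then the images of
x_1, …, x_n form a regular sequence on A/J if and only if Tor_i^A(A/I, A/J) = 0 for all i ≥ 1 (in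
degree 0 the Tor is A/(I + J) in any case). (The published statement does not ask the x_i to form a
regular sequence on A itself; without this the equivalence fails, for instance for A = k[e]/(e²), n
= 1, x_1 = e and J = 0, where every higher Tor of A/(e) against the free module A vanishes although
e is a zero-divisor.) -/
theorem result (A : Type u) [CommRing A] [IsNoetherianRing A] [IsLocalRing A]
    (n : ℕ) (x : Fin n → A) (hx : RingTheory.Sequence.IsWeaklyRegular A (List.ofFn x))
    (J : Ideal A) (hIJ : Ideal.span (Set.range x) ⊔ J ≠ ⊤) :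
    RingTheory.Sequence.IsWeaklyRegular (A ⧸ J) (List.ofFn (fun i : Fin n => Ideal.Quotient.mk J (x i))) ↔
      ∀ i : ℕ, 1 ≤ i → Limits.IsZero (((Tor (ModuleCat.{u} A) i).obj
        (ModuleCat.of A (A ⧸ Ideal.span (Set.range x)))).obj (ModuleCat.of A (A ⧸ J))) := by
  have hI := Groth.Agent.Lib.Helper11.Kz.ofList_ofFn x
  have hK := Groth.Agent.Lib.Helper11.Kz.koszulRegular_of_isWeaklyRegular (List.ofFn x) hx
  have htor : ∀ i : ℕ, Nonempty ((((Tor (ModuleCat.{u} A) i).obj
      (ModuleCat.of A (A ⧸ Ideal.span (Set.range x)))).obj (ModuleCat.of A (A ⧸ J))) ≃ₗ[A]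
      Groth.Agent.Lib.Helper11.Kz.KH (List.ofFn x) (A ⧸ J) (-(i : ℤ))) := fun i =>
    hI ▸ Groth.Agent.Lib.Helper11.Kz.nonempty_tor_equiv (List.ofFn x) hK (A ⧸ J) i
  have hmap : List.ofFn (fun i : Fin n => Ideal.Quotient.mk J (x i)) =
      (List.ofFn x).map (algebraMap A (A ⧸ J)) := by
    rw [List.map_ofFn]
    rfl
  rw [hmap, RingTheory.Sequence.isWeaklyRegular_map_algebraMap_iff]
  constructor
  · intro hreg i hi
    obtain ⟨e⟩ := htor i
    have hz := Groth.Agent.Lib.Helper28.Koszul.isZero_homology_koszulCx_of_isWeaklyRegular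
      (List.ofFn x) (A ⧸ J) hreg (-(i : ℤ)) (by omega)
    have hs : Subsingleton (Groth.Agent.Lib.Helper11.Kz.KH (List.ofFn x) (A ⧸ J) (-(i : ℤ))) :=
      ModuleCat.subsingleton_of_isZero hz
    have : Subsingleton ↑(((Tor (ModuleCat.{u} A) i).obj
      (ModuleCat.of A (A ⧸ Ideal.span (Set.range x)))).obj (ModuleCat.of A (A ⧸ J))) :=
      e.toEquiv.subsingleton
    exact ModuleCat.isZero_of_subsingleton _
  · intro h
    have hmem : ∀ a ∈ List.ofFn x, a ∈ IsLocalRing.maximalIdeal A := by
      intro a ha
      rw [List.mem_ofFn] at ha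
      obtain ⟨i, rfl⟩ := ha
      exact IsLocalRing.le_maximalIdeal hIJ
        (Ideal.mem_sup_left (Ideal.subset_span (Set.mem_range_self i)))
    have hvan : ∀ i : ℤ, i < 0 →
        Subsingleton (Groth.Agent.Lib.Helper11.Kz.KH (List.ofFn x) (A ⧸ J) i) := by
      intro i hi
      obtain ⟨e⟩ := htor i.natAbs
      have hz := h i.natAbs (by omega)
      have hs := ModuleCat.subsingleton_of_isZero hz
      have : -(i.natAbs : ℤ) = i := by omega
      rw [this] at e
      exact e.symm.toEquiv.subsingleton
    have hrev := Groth.Agent.Lib.Helper11.Kz.isWeaklyRegular_reverse_of_KH (A ⧸ J) (List.ofFn x)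
      hmem hvan
    refine IsLocalRing.isWeaklyRegular_of_perm_of_subset_maximalIdeal hrev
      (List.reverse_perm _) ?_
    intro r hr
    exact hmem r (List.mem_reverse.1 hr)

end Groth.Agent.S16238
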