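import Groth.Statements.S16244
import Mathlib

set_option autoImplicit false
universe u
open Curves

namespace Groth.Agent.S16244

open WeierstrassCurve
section Aux

variable {k : Type u} [Field k] [IsAlgClosed k]

/-- the stabilizer is the group of `n`-th roots of unity -/
theorem stab_roots (W : WeierstrassCurve k) (n : ℕ) [NeZero (n : k)]
    (hmem : ∀ C : VariableChange k, C ∈ MulAction.stabilizer (VariableChange k) W ↔
      (C.r = 0 ∧ C.s = 0 ∧ C.t = 0 ∧ C.u ^ n = 1)) :
    IsCyclic ↥(MulAction.stabilizer (VariableChange k) W) ∧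
      Nat.card ↥(MulAction.stabilizer (VariableChange k) W) = n := by
  have hn : NeZero n := .of_neZero_natCast k
  let e : ↥(MulAction.stabilizer (VariableChange k) W) ≃* rootsOfUnity n k :=
    { toFun := fun C => ⟨C.1.u, (mem_rootsOfUnity n _).mpr ((hmem C.1).mp C.2).2.2.2⟩
      invFun := fun ζ => ⟨⟨ζ.1, 0, 0, 0⟩, (hmem _).mpr ⟨rfl, rfl, rfl, (mem_rootsOfUnity n _).mp ζ.2⟩⟩
      left_inv := by
        rintro ⟨C, hC⟩
        obtain ⟨h1, h2, h3, -⟩ := (hmem C).mp hC
        apply Subtype.ext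
        apply VariableChange.ext <;> simp [h1, h2, h3]
      right_inv := by
        rintro ⟨ζ, hζ⟩
        rfl
      map_mul' := by
        rintro ⟨C, hC⟩ ⟨C', hC'⟩
        apply Subtype.ext
        simp [VariableChange.mul_def] }
  constructor
  · exact isCyclic_of_surjective e.symm.toMonoidHom e.symm.surjective
  · rw [Nat.card_congr e.toEquiv]
    exact HasEnoughRootsOfUnity.natCard_rootsOfUnity k n

theorem mem_stab_iff (W : WeierstrassCurve k) [W.IsShortNF] (h2 : (2 : k) ≠ 0) (h3 : (3 : k) ≠ 0)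
    (C : VariableChange k) :
    C ∈ MulAction.stabilizer (VariableChange k) W ↔
      (C.r = 0 ∧ C.s = 0 ∧ C.t = 0 ∧ ((C.u⁻¹ : kˣ) : k) ^ 4 * W.a₄ = W.a₄ ∧
        ((C.u⁻¹ : kˣ) : k) ^ 6 * W.a₆ = W.a₆) := by
  have hu : ((C.u⁻¹ : kˣ) : k) ≠ 0 := Units.ne_zero _
  rw [MulAction.mem_stabilizer_iff]
  constructor
  · intro h
    have e1 := congrArg WeierstrassCurve.a₁ h
    have e2 := congrArg WeierstrassCurve.a₂ h
    have e3 := congrArg WeierstrassCurve.a₃ h
    have e4 := congrArg WeierstrassCurve.a₄ h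
    have e6 := congrArg WeierstrassCurve.a₆ h
    rw [variableChange_a₁, a₁_of_isShortNF] at e1
    rw [variableChange_a₂, a₁_of_isShortNF, a₂_of_isShortNF] at e2
    rw [variableChange_a₃, a₁_of_isShortNF, a₃_of_isShortNF] at e3
    rw [variableChange_a₄, a₁_of_isShortNF, a₂_of_isShortNF, a₃_of_isShortNF] at e4
    rw [variableChange_a₆, a₁_of_isShortNF, a₂_of_isShortNF, a₃_of_isShortNF] at e6
    have hs : C.s = 0 := by
      have : 2 * C.s = 0 := by
        rcases mul_eq_zero.mp e1 with h | h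
        · exact absurd h hu
        · simpa using h
      exact (mul_eq_zero.mp this).resolve_left h2
    have hr : C.r = 0 := by
      have : 3 * C.r = 0 := by
        rcases mul_eq_zero.mp e2 with h | h
        · exact absurd (pow_eq_zero_iff (by norm_num) |>.mp h) hu
        · simpa [hs] using h
      exact (mul_eq_zero.mp this).resolve_left h3
    have ht : C.t = 0 := by
      have : 2 * C.t = 0 := by
        rcases mul_eq_zero.mp e3 with h | h
        · exact absurd (pow_eq_zero_iff (by norm_num) |>.mp h) hu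
        · simpa [hr] using h
      exact (mul_eq_zero.mp this).resolve_left h2
    refine ⟨hr, hs, ht, ?_, ?_⟩
    · simpa [hr, hs, ht] using e4
    · simpa [hr, hs, ht] using e6
  · rintro ⟨hr, hs, ht, h4, h6⟩
    ext
    · rw [variableChange_a₁, a₁_of_isShortNF, hs]; simp
    · rw [variableChange_a₂, a₁_of_isShortNF, a₂_of_isShortNF, hs, hr]; simp
    · rw [variableChange_a₃, a₁_of_isShortNF, a₃_of_isShortNF, hr, ht]; simp
    · rw [variableChange_a₄, a₁_of_isShortNF, a₂_of_isShortNF, a₃_of_isShortNF, hr, hs, ht]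
      simpa using h4
    · rw [variableChange_a₆, a₁_of_isShortNF, a₂_of_isShortNF, a₃_of_isShortNF, hr, ht]
      simpa using h6

end Aux

theorem inv_pow_coe_eq_one {k : Type u} [Field k] (v : kˣ) (m : ℕ) :
    ((v⁻¹ : kˣ) : k) ^ m = 1 ↔ v ^ m = 1 := by
  rw [← Units.val_pow_eq_pow_val, Units.val_eq_one, inv_pow, inv_eq_one]



/-- Let k be an algebraically closed field in which 2 and 3 are nonzero, and W a short Weierstrass
equation y² = x³ + a₄x + a₆ over k with nonzero discriminant. The admissible changes of variables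
(u, r, s, t) that fix W form a cyclic group, of order 6 when a₄ = 0, of order 4 when a₆ = 0, and of
order 2 when a₄ and a₆ are both nonzero. (The published statement says the automorphism group of the
elliptic curve is cyclic of order 2, 4 or 6; the automorphisms are rendered here as the changes of
variables preserving the equation, and the case distinction is the one the computation gives.) -/
theorem result
    (k : Type u) [Field k] [IsAlgClosed k] (h2 : (2 : k) ≠ 0) (h3 : (3 : k) ≠ 0)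
    (W : WeierstrassCurve k) [W.IsShortNF] (hΔ : W.Δ ≠ 0) :
    IsCyclic ↥(MulAction.stabilizer (WeierstrassCurve.VariableChange k) W) ∧
      (W.a₄ = 0 → Nat.card ↥(MulAction.stabilizer (WeierstrassCurve.VariableChange k) W) = 6) ∧
      (W.a₆ = 0 → Nat.card ↥(MulAction.stabilizer (WeierstrassCurve.VariableChange k) W) = 4) ∧
      (W.a₄ ≠ 0 → W.a₆ ≠ 0 → Nat.card ↥(MulAction.stabilizer (WeierstrassCurve.VariableChange k) W) = 2) := by
  have hne2 : NeZero ((2 : ℕ) : k) := ⟨by simpa using h2⟩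
  have hne4 : NeZero ((4 : ℕ) : k) := ⟨by
    have : ((4 : ℕ) : k) = 2 * 2 := by norm_num
    rw [this]; exact mul_ne_zero h2 h2⟩
  have hne6 : NeZero ((6 : ℕ) : k) := ⟨by
    have : ((6 : ℕ) : k) = 2 * 3 := by norm_num
    rw [this]; exact mul_ne_zero h2 h3⟩
  have hΔ' : ¬ (W.a₄ = 0 ∧ W.a₆ = 0) := by
    rintro ⟨h4, h6⟩
    apply hΔ
    rw [Δ_of_isShortNF, h4, h6]; ring
  -- case a₄ = 0
  have case6 : W.a₄ = 0 → IsCyclic ↥(MulAction.stabilizer (VariableChange k) W) ∧
      Nat.card ↥(MulAction.stabilizer (VariableChange k) W) = 6 := by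
    intro h4
    have h6 : W.a₆ ≠ 0 := fun h => hΔ' ⟨h4, h⟩
    apply stab_roots W 6
    intro C
    rw [mem_stab_iff W h2 h3 C, h4]
    constructor
    · rintro ⟨hr, hs, ht, -, h⟩
      refine ⟨hr, hs, ht, ?_⟩
      have : ((C.u⁻¹ : kˣ) : k) ^ 6 = 1 := by
        have := mul_right_cancel₀ h6 (h.trans (one_mul _).symm)
        exact this
      exact (inv_pow_coe_eq_one _ _).mp this
    · rintro ⟨hr, hs, ht, h⟩
      refine ⟨hr, hs, ht, by simp, ?_⟩
      rw [(inv_pow_coe_eq_one _ _).mpr h, one_mul]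
  have case4 : W.a₆ = 0 → IsCyclic ↥(MulAction.stabilizer (VariableChange k) W) ∧
      Nat.card ↥(MulAction.stabilizer (VariableChange k) W) = 4 := by
    intro h6
    have h4 : W.a₄ ≠ 0 := fun h => hΔ' ⟨h, h6⟩
    apply stab_roots W 4
    intro C
    rw [mem_stab_iff W h2 h3 C, h6]
    constructor
    · rintro ⟨hr, hs, ht, h, -⟩
      refine ⟨hr, hs, ht, ?_⟩
      have : ((C.u⁻¹ : kˣ) : k) ^ 4 = 1 := mul_right_cancel₀ h4 (h.trans (one_mul _).symm)
      exact (inv_pow_coe_eq_one _ _).mp this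
    · rintro ⟨hr, hs, ht, h⟩
      refine ⟨hr, hs, ht, ?_, by simp⟩
      rw [(inv_pow_coe_eq_one _ _).mpr h, one_mul]
  have case2 : W.a₄ ≠ 0 → W.a₆ ≠ 0 → IsCyclic ↥(MulAction.stabilizer (VariableChange k) W) ∧
      Nat.card ↥(MulAction.stabilizer (VariableChange k) W) = 2 := by
    intro h4 h6
    apply stab_roots W 2
    intro C
    rw [mem_stab_iff W h2 h3 C]
    constructor
    · rintro ⟨hr, hs, ht, h, h'⟩
      refine ⟨hr, hs, ht, ?_⟩
      have e4 : ((C.u⁻¹ : kˣ) : k) ^ 4 = 1 := mul_right_cancel₀ h4 (h.trans (one_mul _).symm)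
      have e6 : ((C.u⁻¹ : kˣ) : k) ^ 6 = 1 := mul_right_cancel₀ h6 (h'.trans (one_mul _).symm)
      have u4 := (inv_pow_coe_eq_one _ _).mp e4
      have u6 := (inv_pow_coe_eq_one _ _).mp e6
      have : C.u ^ 6 = C.u ^ 4 * C.u ^ 2 := by rw [← pow_add]
      rw [this, u4, one_mul] at u6
      exact u6
    · rintro ⟨hr, hs, ht, h⟩
      have u4 : C.u ^ 4 = 1 := by
        have : C.u ^ 4 = (C.u ^ 2) ^ 2 := by rw [← pow_mul]
        rw [this, h, one_pow]
      have u6 : C.u ^ 6 = 1 := by
        have : C.u ^ 6 = (C.u ^ 2) ^ 3 := by rw [← pow_mul]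
        rw [this, h, one_pow]
      refine ⟨hr, hs, ht, ?_, ?_⟩
      · rw [(inv_pow_coe_eq_one _ _).mpr u4, one_mul]
      · rw [(inv_pow_coe_eq_one _ _).mpr u6, one_mul]
  refine ⟨?_, fun h => (case6 h).2, fun h => (case4 h).2, fun h h' => (case2 h h').2⟩
  by_cases h4 : W.a₄ = 0
  · exact (case6 h4).1
  · by_cases h6 : W.a₆ = 0
    · exact (case4 h6).1
    · exact (case2 h4 h6).1

end Groth.Agent.S16244
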