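import Groth.Statements.S16251
import Mathlib
import Groth.Agent.Lib.Helper4.TR6
import Groth.Agent.Lib.Helper4.GR7

set_option autoImplicit false
open CategoryTheory CategoryTheory.Limits AlgebraicGeometry Opposite
universe u
open EtPBC

namespace Groth.Agent.S16251


open Groth.Agent.Lib.Helper4.TR in
/-- Let ℓ be a prime, X a locally Noetherian scheme and F = (F_n) an ℓ-adic projective system of abelian
sheaves on the small étale site of X, indexed from 0 (so ℓ^(n+1) F_n = 0 and, for n ≤ m, the
transition map F_m ⟶ F_n is a quotient map modulo ℓ^(n+1)). If the first member F_0 is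
constructible, then every member F_n is constructible. (The converse is trivial. The published
statement indexes the system from 1, with ℓ^n killing the n-th member; the statement here indexes it
from 0.) -/
theorem result (ℓ : ℕ) [Fact ℓ.Prime]
    (X : Scheme.{u}) [IsLocallyNoetherian X]
    (F : ARSys.PS (EtCoh.Ab X)) (hF : ARSys.IsAdic (Ideal.span {(ℓ : ℤ)}) F)
    (h0 : EtPBC.IsConstructible (F.obj (op 0))) (n : ℕ) :
    EtPBC.IsConstructible (F.obj (op n)) := by
  haveI : IsNoetherianRing ZZ.{u + 1} := isNoetherianRing_of_ringEquiv ℤ ULift.ringEquiv.symm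
  intro U hU
  obtain ⟨ι, fin, T, g, him, hc, hdis, hun, hP⟩ :=
    Groth.Agent.Lib.Helper4.GR.stIn_uniform_of_zero ZZ.{u + 1}
      (upI.{u + 1} (Ideal.span {(ℓ : ℤ)})) X (F ⋙ PhiX X) (isAdic_Phi _ F hF)
      (isConstructible_Phi _ h0) U hU
  haveI := fin
  let e : ι ≃ Fin (Nat.card ι) := Finite.equivFin ι
  refine ⟨Nat.card ι, fun k => T (e.symm k), fun k => g (e.symm k), fun k => him _,
    fun k => hc _, ?_, ?_, fun k => ?_⟩
  · intro k l hkl
    exact hdis (fun h => hkl (e.symm.injective h))
  · rw [← hun]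
    exact e.symm.surjective.iUnion_comp (fun i => Set.range (g i))
  · intro _
    have h5 := hP (e.symm k) n
    have h6 : EtModW.IsFTLocConst ZZ.{u + 1}
        ((PhiX (T (e.symm k))).obj ((EtCoh.pull (g (e.symm k))).obj (F.obj (op n)))) :=
      Groth.Agent.Lib.Helper4.CM.isFTLocConst_of_iso ZZ.{u + 1}
        ((pullIso (g (e.symm k))).app (F.obj (op n))).symm h5
    have hpos : 0 < ℓ ^ (n + 1) := pow_pos (Fact.out : ℓ.Prime).pos _
    refine isFLC_of_isFTLocConst_Phi _ (ℓ ^ (n + 1)) hpos ?_ h6
    have hk := hF.1 n ((ℓ : ℤ) ^ (n + 1)) (Ideal.pow_mem_pow (Ideal.mem_span_singleton_self _) _)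
    haveI : (EtCoh.pull (g (e.symm k))).Additive :=
      (EtCoh.pullPushAdj (g (e.symm k))).left_adjoint_additive
    have h7 := zsmul_id_map (EtCoh.pull (g (e.symm k))) _ _ hk
    rw [Nat.cast_pow]
    exact h7

end Groth.Agent.S16251
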