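import Groth.Statements.S16263
import Mathlib
import Groth.Agent.Lib.Helper17.WronskLib

set_option autoImplicit false
open W4c3wronskmg

namespace Groth.Agent.S16263

open Polynomial in
/-- Let `k` be a field of characteristic zero and `a` a positive integer. On the projective line with `A
= 0`, `B = -1`, `C = ∞`, the `(a+1)`-dimensional system `V = H⁰(ω((1+a)C)) ⊕ H⁰(ω(A+B)) ⊆
H⁰(ω((1+a)C + A + B)) ≅ H⁰(O(a+1))` is, in the affine coordinate, the space of polynomials `c + X
(X+1) F` with `c` a constant and `deg F ≤ a - 1`. Then `V` has no special ramification point (no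
point of weight at least two): since the members have degree at most `a + 1`, this says that for
every point `p` of the affine line at most a one-dimensional subspace of `V` is divisible by
`(X-p)^a`, and at `C` that at most a one-dimensional subspace has degree at most one (degree less
than two). (The published statement carries two further positive integers `i, j` with `i + j = a -
1`, used only in its second assertion, and is over the complex numbers.) -/
theorem result
    (k : Type*) [Field k] [CharZero k] (a : ℕ) (ha : 0 < a)
    (V : Submodule k (Polynomial k))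
    (hV : V = Submodule.span k {(1 : Polynomial k)} ⊔
      ((Ideal.span {(X : Polynomial k) * (X + 1)}).restrictScalars k ⊓ Polynomial.degreeLE k ↑(a + 1))) :
    (∀ p : k, Module.finrank k ↥(V ⊓ (Ideal.span {(X - C p) ^ a}).restrictScalars k) ≤ 1) ∧
      Module.finrank k ↥(V ⊓ Polynomial.degreeLT k 2) ≤ 1 := by
  subst hV
  have h2 : (2 : k) ≠ 0 := two_ne_zero
  have h01 : (0 : k) ≠ -1 := by
    intro h; have : (1 : k) = 0 := by linear_combination h
    exact one_ne_zero this
  have h11 : (-1 : k) ≠ 1 := by
    intro h; apply h2; linear_combination -h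
  constructor
  · intro p
    by_cases hp0 : p = 0
    · -- p = 0 : evaluate at 1
      subst hp0
      apply Groth.Agent.Lib.Helper17.WronskLib.finrank_le_one_of_eval _ 1
      rintro g ⟨hgV, hgp⟩ hg1
      obtain ⟨hd, he⟩ := Groth.Agent.Lib.Helper17.WronskLib.mem_V a g hgV
      obtain ⟨h, rfl⟩ : (X - C (0 : k)) ^ a ∣ g := Ideal.mem_span_singleton.1 hgp
      have hdh := Groth.Agent.Lib.Helper17.WronskLib.degree_quot_le 0 a _ h rfl hd
      have ha' : a ≠ 0 := ha.ne'
      have e1 : h.eval 1 = 0 := by
        simpa using hg1
      have e2 : h.eval (-1) = 0 := by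
        have : ((-1 : k)) ^ a * h.eval (-1) = 0 := by
          simpa [ha'] using he.symm
        rcases mul_eq_zero.1 this with h3 | h3
        · exact absurd h3 (pow_ne_zero _ (by simp))
        · exact h3
      rw [Groth.Agent.Lib.Helper17.WronskLib.eq_zero_of_two_roots h hdh h11 e2 e1, mul_zero]
    by_cases hp1 : p = -1
    · subst hp1
      apply Groth.Agent.Lib.Helper17.WronskLib.finrank_le_one_of_eval _ 1
      rintro g ⟨hgV, hgp⟩ hg1
      obtain ⟨hd, he⟩ := Groth.Agent.Lib.Helper17.WronskLib.mem_V a g hgV
      obtain ⟨h, rfl⟩ : (X - C (-1 : k)) ^ a ∣ g := Ideal.mem_span_singleton.1 hgp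
      have hdh := Groth.Agent.Lib.Helper17.WronskLib.degree_quot_le (-1) a _ h rfl hd
      have ha' : a ≠ 0 := ha.ne'
      have e1 : h.eval 1 = 0 := by
        have : ((1 : k) + 1) ^ a * h.eval 1 = 0 := by
          simpa using hg1
        rcases mul_eq_zero.1 this with h3 | h3
        · exact absurd h3 (pow_ne_zero _ (by rw [one_add_one_eq_two]; exact h2))
        · exact h3
      have e2 : h.eval 0 = 0 := by
        have : h.eval 0 = 0 := by
          simpa [ha'] using he
        exact this
      exact by
        rw [Groth.Agent.Lib.Helper17.WronskLib.eq_zero_of_two_roots h hdh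
          (zero_ne_one (α := k)) e2 e1, mul_zero]
    · apply Groth.Agent.Lib.Helper17.WronskLib.finrank_le_one_of_eval _ 0
      rintro g ⟨hgV, hgp⟩ hg0
      obtain ⟨hd, he⟩ := Groth.Agent.Lib.Helper17.WronskLib.mem_V a g hgV
      obtain ⟨h, rfl⟩ : (X - C p) ^ a ∣ g := Ideal.mem_span_singleton.1 hgp
      have hdh := Groth.Agent.Lib.Helper17.WronskLib.degree_quot_le p a _ h rfl hd
      have e1 : h.eval 0 = 0 := by
        have : ((0 : k) - p) ^ a * h.eval 0 = 0 := by
          simpa using hg0
        rcases mul_eq_zero.1 this with h3 | h3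
        · exact absurd h3 (pow_ne_zero _ (by simpa using hp0))
        · exact h3
      have e2 : h.eval (-1) = 0 := by
        have : ((-1 : k) - p) ^ a * h.eval (-1) = 0 := by
          rw [hg0] at he
          simpa using he.symm
        rcases mul_eq_zero.1 this with h3 | h3
        · refine absurd h3 (pow_ne_zero _ ?_)
          intro h4; apply hp1; linear_combination -h4
        · exact h3
      rw [Groth.Agent.Lib.Helper17.WronskLib.eq_zero_of_two_roots h hdh h01 e1 e2, mul_zero]
  · apply Groth.Agent.Lib.Helper17.WronskLib.finrank_le_one_of_eval _ 0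
    rintro g ⟨hgV, hgd⟩ hg0
    obtain ⟨-, he⟩ := Groth.Agent.Lib.Helper17.WronskLib.mem_V a g hgV
    have hd : g.degree ≤ 1 := by
      have h3 : g.degree < 2 := by
        have := Polynomial.mem_degreeLT.1 hgd
        simpa using this
      by_cases h0 : g = 0
      · rw [h0, degree_zero]; exact bot_le
      · rw [degree_eq_natDegree h0] at h3 ⊢
        have : g.natDegree < 2 := by exact_mod_cast h3
        exact_mod_cast Nat.le_of_lt_succ this
    exact Groth.Agent.Lib.Helper17.WronskLib.eq_zero_of_two_roots g hd h01 hg0 (by rw [← he, hg0])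

end Groth.Agent.S16263
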