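import Groth.Statements.S16264
import Mathlib
import Groth.Agent.Lib.Helper17.WronskLib

set_option autoImplicit false
open W4c3wronskmg

namespace Groth.Agent.S16264

open Polynomial in
/-- Let `k` be a field of characteristic zero and `a, i, j` positive integers with `i + j = a - 1`. With
`A = 0`, `B = -1`, `C = ∞` on the projective line and `V` the `(a+1)`-dimensional system of
polynomials `c + X (X+1) F`, `deg F ≤ a - 1` (that is, `H⁰(ω((1+a)C)) ⊕ H⁰(ω(A+B)) ⊆ H⁰(O(a+1))`),
the pairs of points `(P, Q) = (p, q)` of the affine line with `dim V(-iP-jQ) ≥ 3`, i.e. with at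
least a three-dimensional subspace of `V` divisible by `(X-p)^i (X-q)^j`, are exactly `(A, B)` and
`(B, A)`. (Here `P, Q` range over the points other than `C`; when one of them is `C` the dimension
is at most two for degree reasons. The published statement is over the complex numbers.) -/
theorem result
    (k : Type*) [Field k] [CharZero k] (a i j : ℕ) (hi : 0 < i) (hj : 0 < j) (hij : i + j + 1 = a)
    (V : Submodule k (Polynomial k))
    (hV : V = Submodule.span k {(1 : Polynomial k)} ⊔
      ((Ideal.span {(X : Polynomial k) * (X + 1)}).restrictScalars k ⊓ Polynomial.degreeLE k ↑(a + 1)))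
    (p q : k) :
    3 ≤ Module.finrank k ↥(V ⊓ (Ideal.span {(X - C p) ^ i * (X - C q) ^ j}).restrictScalars k) ↔
      (p = 0 ∧ q = -1) ∨ (p = -1 ∧ q = 0) := by
  subst hV
  set P : Polynomial k := (X - C p) ^ i * (X - C q) ^ j with hPdef
  have hPm : P.Monic := ((monic_X_sub_C p).pow i).mul ((monic_X_sub_C q).pow j)
  have hPd : P.natDegree = i + j := by
    rw [hPdef, ((monic_X_sub_C p).pow i).natDegree_mul ((monic_X_sub_C q).pow j),
      natDegree_pow, natDegree_pow, natDegree_X_sub_C, natDegree_X_sub_C, mul_one, mul_one]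
  have hP0 : P ≠ 0 := hPm.ne_zero
  have hPe0 : P.eval 0 = 0 ↔ p = 0 ∨ q = 0 := by
    rw [hPdef]
    simp [hi.ne', hj.ne']
  have hPe1 : P.eval (-1) = 0 ↔ p = -1 ∨ q = -1 := by
    rw [hPdef]
    simp only [eval_mul, eval_pow, eval_sub, eval_X, eval_C, mul_eq_zero, pow_eq_zero_iff hi.ne',
      pow_eq_zero_iff hj.ne', sub_eq_zero]
    constructor
    · rintro (h | h)
      · exact Or.inl h.symm
      · exact Or.inr h.symm
    · rintro (h | h)
      · exact Or.inl h.symm
      · exact Or.inr h.symm
  have hWle : (Submodule.span k {(1 : Polynomial k)} ⊔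
      ((Ideal.span {(X : Polynomial k) * (X + 1)}).restrictScalars k ⊓ Polynomial.degreeLE k ↑(a + 1))) ⊓
      (Ideal.span {P}).restrictScalars k ≤ degreeLE k ((a + 1 : ℕ) : WithBot ℕ) := by
    rintro g ⟨hgV, -⟩
    exact Polynomial.mem_degreeLE.2 (Groth.Agent.Lib.Helper17.WronskLib.mem_V a g hgV).1
  have hfin := Groth.Agent.Lib.Helper17.WronskLib.finite_of_le_degreeLE _ _ hWle
  constructor
  · intro h3
    by_contra hne
    have hlt : Module.finrank k ↥((Submodule.span k {(1 : Polynomial k)} ⊔
      ((Ideal.span {(X : Polynomial k) * (X + 1)}).restrictScalars k ⊓ Polynomial.degreeLE k ↑(a + 1))) ⊓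
      (Ideal.span {P}).restrictScalars k) < 3 := by
      have hc : P.eval 0 ≠ 0 ∨ P.eval (-1) ≠ 0 := by
        by_contra hcon
        push Not at hcon
        obtain ⟨h0, h1⟩ := hcon
        rw [hPe0] at h0
        rw [hPe1] at h1
        apply hne
        rcases h0 with h0 | h0 <;> rcases h1 with h1 | h1
        · exfalso; rw [h0] at h1; exact one_ne_zero (by linear_combination h1 : (1 : k) = 0)
        · exact Or.inl ⟨h0, h1⟩
        · exact Or.inr ⟨h1, h0⟩
        · exfalso; rw [h0] at h1; exact one_ne_zero (by linear_combination h1 : (1 : k) = 0)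
      let lam : Polynomial k →ₗ[k] k :=
        (P.eval 0) • Polynomial.leval 0 - (P.eval (-1)) • Polynomial.leval (-1)
      have hlam : ∀ f : Polynomial k, lam f = P.eval 0 * f.eval 0 - P.eval (-1) * f.eval (-1) := by
        intro f; rfl
      have hmain : ∀ g ∈ (Submodule.span k {(1 : Polynomial k)} ⊔
          ((Ideal.span {(X : Polynomial k) * (X + 1)}).restrictScalars k ⊓ Polynomial.degreeLE k ↑(a + 1))) ⊓
          (Ideal.span {P}).restrictScalars k,
          ∃ f ∈ degreeLT k 3, lam f = 0 ∧ g = P * f := by
        rintro g ⟨hgV, hgP⟩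
        obtain ⟨hd, he⟩ := Groth.Agent.Lib.Helper17.WronskLib.mem_V a g hgV
        obtain ⟨f, rfl⟩ : P ∣ g := Ideal.mem_span_singleton.1 hgP
        have hdf := Groth.Agent.Lib.Helper17.WronskLib.degree_quot_le' P _ f hPm (i + j) (a + 1) hPd rfl hd
        refine ⟨f, ?_, ?_, rfl⟩
        · rw [Polynomial.mem_degreeLT]
          refine lt_of_le_of_lt hdf ?_
          have : a + 1 - (i + j) = 2 := by omega
          rw [this]
          exact_mod_cast (by norm_num : (2 : ℕ) < 3)
        · rw [hlam]
          have he' : P.eval 0 * f.eval 0 = P.eval (-1) * f.eval (-1) := by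
            rw [← eval_mul, ← eval_mul]; exact he
          rw [he', sub_self]
      rcases hc with hc | hc
      · exact Groth.Agent.Lib.Helper17.WronskLib.finrank_lt_of_mul _ P 3 lam (X + 1)
          (by
            rw [Polynomial.mem_degreeLT]
            refine lt_of_le_of_lt (degree_X_add_C (1 : k)).le ?_
            exact_mod_cast (by norm_num : (1 : ℕ) < 3))
          (by rw [hlam]; simpa using hc) hmain
      · exact Groth.Agent.Lib.Helper17.WronskLib.finrank_lt_of_mul _ P 3 lam X
          (by
            rw [Polynomial.mem_degreeLT]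
            refine lt_of_le_of_lt degree_X_le ?_
            exact_mod_cast (by norm_num : (1 : ℕ) < 3))
          (by rw [hlam]; simpa using hc) hmain
    omega
  · intro hpq
    have hdiv : X * (X + 1) ∣ P := by
      rcases hpq with ⟨rfl, rfl⟩ | ⟨rfl, rfl⟩
      · rw [hPdef]
        have e1 : (X - C (0 : k)) = X := by simp
        have e2 : (X - C (-1 : k)) = X + 1 := by simp
        rw [e1, e2]
        exact mul_dvd_mul (dvd_pow_self _ hi.ne') (dvd_pow_self _ hj.ne')
      · rw [hPdef]
        have e1 : (X - C (0 : k)) = X := by simp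
        have e2 : (X - C (-1 : k)) = X + 1 := by simp
        rw [e1, e2, mul_comm (X : Polynomial k) (X + 1)]
        exact mul_dvd_mul (dvd_pow_self _ hi.ne') (dvd_pow_self _ hj.ne')
    apply Groth.Agent.Lib.Helper17.WronskLib.le_finrank_of_mul_mem _ P hP0 3
    intro f hf
    refine ⟨?_, Ideal.mem_span_singleton.2 (dvd_mul_right P f)⟩
    apply Groth.Agent.Lib.Helper17.WronskLib.mem_V_of a _ ?_ (hdiv.mul_right f)
    rw [Polynomial.mem_degreeLT] at hf
    by_cases hf0 : f = 0
    · rw [hf0, mul_zero, degree_zero]; exact bot_le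
    rw [degree_mul, degree_eq_natDegree hP0, hPd, degree_eq_natDegree hf0] at *
    have hf2 : f.natDegree < 3 := by exact_mod_cast hf
    have : i + j + f.natDegree ≤ a + 1 := by omega
    exact_mod_cast this

end Groth.Agent.S16264
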