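import Groth.Statements.S16265
import Mathlib
import Groth.Agent.Lib.Helper26.FunFldAlgClosed

set_option autoImplicit false
open FunFld

namespace Groth.Agent.S16265

open Groth.Agent.Lib.Helper26.FunFldAlgClosed Groth.Agent.Lib.Helper2.FF

/-- Let `K/k` be a function field of one variable over an algebraically closed field `k` of
characteristic zero (the function field of a smooth projective curve), `D` a divisor and `V ⊆ L(D)`
a linear system of dimension `r + 1`; write `V(-mP-nQ) = V ∩ L(D - mP - nQ)` for the members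
vanishing to the indicated orders. Assume `V` has no special ramification point, i.e. no place of
weight at least two: for every place `R`, `dim V(-rR) ≤ 1` and `V(-(r+2)R) = 0`. Let `P ≠ Q` be
places and `a, b ≥ 1` with `a + b = r + 1` (so that `V(-aP)` and `V(-bQ)` have dimensions `b` and
`a`). Then the following are equivalent: (1) the system `V(-aP)` has weight at least two at `Q`,
that is `dim V(-aP-(b-1)Q) ≥ 2` or `dim V(-aP-(b+1)Q) ≥ 1`, and the system `V(-bQ)` has weight at
least two at `P`, that is `dim V(-(a-1)P-bQ) ≥ 2` or `dim V(-(a+1)P-bQ) ≥ 1`; (2) one of (a) `dim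
V(-(a+1)P-(b+1)Q) ≥ 1`, (b) `dim V(-(a-1)P-(b-1)Q) ≥ 3`, (c) `dim V(-aP-(b+1)Q) ≥ 1` and `dim
V(-(a-1)P-bQ) ≥ 2`, (d) `dim V(-(a+1)P-bQ) ≥ 1` and `dim V(-aP-(b-1)Q) ≥ 2`. (The published
statement is for a smooth curve over the complex numbers.) -/
theorem result
    (k K : Type*) [Field k] [IsAlgClosed k] [CharZero k] [Field K] [Algebra k K]
    (hK : FunFld.IsFunctionField k K) (D : FunFld.Divisor k K)
    (V : Submodule k K) (hVD : V ≤ FunFld.L D) (r : ℕ) (hr : Module.finrank k ↥V = r + 1)
    (hns : ∀ R : FunFld.Place k K,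
      Module.finrank k ↥(V ⊓ FunFld.L (D - Finsupp.single R (r : ℤ))) ≤ 1 ∧
        V ⊓ FunFld.L (D - Finsupp.single R ((r : ℤ) + 2)) = ⊥)
    (P Q : FunFld.Place k K) (hPQ : P ≠ Q) (a b : ℕ) (ha : 1 ≤ a) (hb : 1 ≤ b) (hab : a + b = r + 1) :
    ((2 ≤ Module.finrank k ↥(V ⊓ FunFld.L (D - Finsupp.single P (a : ℤ) - Finsupp.single Q ((b : ℤ) - 1 : ℤ))) ∨
        1 ≤ Module.finrank k ↥(V ⊓ FunFld.L (D - Finsupp.single P (a : ℤ) - Finsupp.single Q ((b : ℤ) + 1 : ℤ)))) ∧
      (2 ≤ Module.finrank k ↥(V ⊓ FunFld.L (D - Finsupp.single P ((a : ℤ) - 1 : ℤ) - Finsupp.single Q (b : ℤ))) ∨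
        1 ≤ Module.finrank k ↥(V ⊓ FunFld.L (D - Finsupp.single P ((a : ℤ) + 1 : ℤ) - Finsupp.single Q (b : ℤ))))) ↔
    (1 ≤ Module.finrank k ↥(V ⊓ FunFld.L (D - Finsupp.single P ((a : ℤ) + 1 : ℤ) - Finsupp.single Q ((b : ℤ) + 1 : ℤ))) ∨
      3 ≤ Module.finrank k ↥(V ⊓ FunFld.L (D - Finsupp.single P ((a : ℤ) - 1 : ℤ) - Finsupp.single Q ((b : ℤ) - 1 : ℤ))) ∨
      (1 ≤ Module.finrank k ↥(V ⊓ FunFld.L (D - Finsupp.single P (a : ℤ) - Finsupp.single Q ((b : ℤ) + 1 : ℤ))) ∧
        2 ≤ Module.finrank k ↥(V ⊓ FunFld.L (D - Finsupp.single P ((a : ℤ) - 1 : ℤ) - Finsupp.single Q (b : ℤ)))) ∨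
      (1 ≤ Module.finrank k ↥(V ⊓ FunFld.L (D - Finsupp.single P ((a : ℤ) + 1 : ℤ) - Finsupp.single Q (b : ℤ))) ∧
        2 ≤ Module.finrank k ↥(V ⊓ FunFld.L (D - Finsupp.single P (a : ℤ) - Finsupp.single Q ((b : ℤ) - 1 : ℤ))))) := by
  classical
  have hVfin : Module.Finite k V := Module.finite_of_finrank_pos (by omega)
  -- the family of subspaces
  set W : ℤ → ℤ → Submodule k K := fun m n =>
    V ⊓ FunFld.L (D - Finsupp.single P m - Finsupp.single Q n) with hWdef
  have hWfin : ∀ m n, Module.Finite k (W m n) := fun m n =>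
    Module.Finite.of_injective (Submodule.inclusion (inf_le_left : W m n ≤ V))
      (Submodule.inclusion_injective _)
  have hWmono : ∀ {m n m' n' : ℤ}, m ≤ m' → n ≤ n' → W m' n' ≤ W m n := by
    intro m n m' n' h1 h2
    refine inf_le_inf le_rfl (L_mono ?_)
    intro R
    simp only [Finsupp.coe_sub, Pi.sub_apply, Finsupp.single_apply]
    split_ifs <;> linarith
  have hmono : ∀ {m n m' n' : ℤ}, m ≤ m' → n ≤ n' →
      Module.finrank k (W m' n') ≤ Module.finrank k (W m n) := by
    intro m n m' n' h1 h2
    haveI := hWfin m n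
    exact Submodule.finrank_mono (hWmono h1 h2)
  have hC1 : ∀ (m m' n : ℤ), m' = m + 1 →
      Module.finrank k (W m n) ≤ Module.finrank k (W m' n) + 1 := by
    intro m m' n h
    have := finrank_inf_L_le hK V (D - Finsupp.single P m - Finsupp.single Q n) P
    have e : D - Finsupp.single P m - Finsupp.single Q n - (Finsupp.single P 1 : Divisor k K) =
        D - Finsupp.single P m' - Finsupp.single Q n := by
      rw [h, Finsupp.single_add]; abel
    rw [e] at this
    exact this
  have hC2 : ∀ (m n n' : ℤ), n' = n + 1 →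
      Module.finrank k (W m n) ≤ Module.finrank k (W m n') + 1 := by
    intro m n n' h
    have := finrank_inf_L_le hK V (D - Finsupp.single P m - Finsupp.single Q n) Q
    have e : D - Finsupp.single P m - Finsupp.single Q n - (Finsupp.single Q 1 : Divisor k K) =
        D - Finsupp.single P m - Finsupp.single Q n' := by
      rw [h, Finsupp.single_add]; abel
    rw [e] at this
    exact this
  have hinf : ∀ (m n m' n' : ℤ), W m n ⊓ W m' n' = W (max m m') (max n n') := by
    intro m n m' n'
    have h1 := L_inf_L (D - Finsupp.single P m - Finsupp.single Q n)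
      (D - Finsupp.single P m' - Finsupp.single Q n')
      (D - Finsupp.single P (max m m') - Finsupp.single Q (max n n')) (by
        intro R
        simp only [Finsupp.coe_sub, Pi.sub_apply, Finsupp.single_apply]
        by_cases h1 : P = R
        · have h2 : ¬ Q = R := fun h => hPQ (h1.trans h.symm)
          simp only [h1, h2, if_true, if_false, sub_zero]
          rcases le_total m m' with h | h
          · rw [max_eq_right h, min_eq_right (by linarith)]
          · rw [max_eq_left h, min_eq_left (by linarith)]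
        · by_cases h2 : Q = R
          · simp only [h1, h2, if_true, if_false, sub_zero]
            rcases le_total n n' with h | h
            · rw [max_eq_right h, min_eq_right (by linarith)]
            · rw [max_eq_left h, min_eq_left (by linarith)]
          · simp [h1, h2])
    simp only [hWdef]
    rw [← h1]
    ext x
    simp only [Submodule.mem_inf]
    tauto
  have hsup : ∀ (A B : Submodule k K) [Module.Finite k A] [Module.Finite k B],
      Module.finrank k ↥(A ⊔ B) + Module.finrank k ↥(A ⊓ B) =
        Module.finrank k A + Module.finrank k B :=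
    fun A B _ _ => Submodule.finrank_sup_add_finrank_inf_eq A B
  change ((2 ≤ Module.finrank k (W a (b - 1)) ∨ 1 ≤ Module.finrank k (W a (b + 1))) ∧
      (2 ≤ Module.finrank k (W (a - 1) b) ∨ 1 ≤ Module.finrank k (W (a + 1) b))) ↔
    (1 ≤ Module.finrank k (W (a + 1) (b + 1)) ∨ 3 ≤ Module.finrank k (W (a - 1) (b - 1)) ∨
      (1 ≤ Module.finrank k (W a (b + 1)) ∧ 2 ≤ Module.finrank k (W (a - 1) b)) ∨
      (1 ≤ Module.finrank k (W (a + 1) b) ∧ 2 ≤ Module.finrank k (W a (b - 1))))
  generalize (a : ℤ) = α
  generalize (b : ℤ) = β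
  constructor
  · rintro ⟨h1 | h1, h2 | h2⟩
    · -- (i)
      haveI := hWfin α (β - 1)
      haveI := hWfin (α - 1) β
      have hs := hsup (W α (β - 1)) (W (α - 1) β)
      rw [hinf] at hs
      have e1 : max α (α - 1) = α := max_eq_left (by linarith)
      have e2 : max (β - 1) β = β := max_eq_right (by linarith)
      rw [e1, e2] at hs
      have hle : W α (β - 1) ⊔ W (α - 1) β ≤ W (α - 1) (β - 1) :=
        sup_le (hWmono (by linarith) le_rfl) (hWmono le_rfl (by linarith))
      haveI := hWfin (α - 1) (β - 1)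
      have hle' := Submodule.finrank_mono hle
      by_cases h3 : Module.finrank k (W α β) ≤ 1
      · right; left; omega
      · right; right; right
        have := hC1 α (α + 1) β rfl
        exact ⟨by omega, h1⟩
    · right; right; right; exact ⟨h2, h1⟩
    · right; right; left; exact ⟨h1, h2⟩
    · -- (iv)
      by_cases h3 : 1 ≤ Module.finrank k (W (α + 1) (β + 1))
      · left; exact h3
      · right; right; right
        refine ⟨h2, ?_⟩
        haveI := hWfin α (β + 1)
        haveI := hWfin (α + 1) β
        have hs := hsup (W α (β + 1)) (W (α + 1) β)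
        rw [hinf] at hs
        have e1 : max α (α + 1) = α + 1 := max_eq_right (by linarith)
        have e2 : max (β + 1) β = β + 1 := max_eq_left (by linarith)
        rw [e1, e2] at hs
        have hle : W α (β + 1) ⊔ W (α + 1) β ≤ W α β :=
          sup_le (hWmono le_rfl (by linarith)) (hWmono (by linarith) le_rfl)
        haveI := hWfin α β
        have hle' := Submodule.finrank_mono hle
        have := hmono (m := α) (n := β - 1) (m' := α) (n' := β) le_rfl (by linarith)
        omega
  · rintro (h | h | ⟨h1, h2⟩ | ⟨h1, h2⟩)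
    · refine ⟨Or.inr ?_, Or.inr ?_⟩
      · exact h.trans (hmono (by linarith) le_rfl)
      · exact h.trans (hmono le_rfl (by linarith))
    · have := hC1 (α - 1) α (β - 1) (by ring)
      have := hC2 (α - 1) (β - 1) β (by ring)
      exact ⟨Or.inl (by omega), Or.inl (by omega)⟩
    · exact ⟨Or.inr h1, Or.inl h2⟩
    · exact ⟨Or.inl h2, Or.inr h1⟩

end Groth.Agent.S16265
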