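import Groth.Statements.S16266
import Mathlib

set_option autoImplicit false
open FunFld

namespace Groth.Agent.S16266

/-- Let `K/k` be a function field of one variable over an algebraically closed field `k` of
characteristic zero, `D` a divisor, `V ⊆ L(D)` a linear system of dimension `r + 1` with `r ≥ 1`,
and `P` a place with `V' = V(-P) = V ∩ L(D - P) ≠ V`, an `r`-dimensional system in `L(D - P)`.
Assume that neither `V` nor `V'` has a special ramification point (a place of weight at least two):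
for every place `R`, `dim V ∩ L(D - rR) ≤ 1`, `V ∩ L(D - (r+2)R) = 0`, `dim V' ∩ L(D - P - (r-1)R) ≤
1` and `V' ∩ L(D - P - (r+1)R) = 0`. Then no place `Q ≠ P` is a ramification point of both `V` and
`V'`: for no such `Q` are both `V ∩ L(D - (r+1)Q)` and `V' ∩ L(D - P - rQ)` nonzero. (The published
statement is for a smooth curve over the complex numbers.) -/
theorem result
    (k K : Type*) [Field k] [IsAlgClosed k] [CharZero k] [Field K] [Algebra k K]
    (hK : FunFld.IsFunctionField k K) (D : FunFld.Divisor k K)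
    (V : Submodule k K) (hVD : V ≤ FunFld.L D) (r : ℕ) (hr : Module.finrank k ↥V = r + 1) (hr1 : 1 ≤ r)
    (P : FunFld.Place k K) (hP : V ⊓ FunFld.L (D - Finsupp.single P 1) ≠ V)
    (hns : ∀ R : FunFld.Place k K,
      Module.finrank k ↥(V ⊓ FunFld.L (D - Finsupp.single R (r : ℤ))) ≤ 1 ∧
        V ⊓ FunFld.L (D - Finsupp.single R ((r : ℤ) + 2)) = ⊥)
    (hns' : ∀ R : FunFld.Place k K,
      Module.finrank k ↥(V ⊓ FunFld.L (D - Finsupp.single P 1 - Finsupp.single R ((r : ℤ) - 1))) ≤ 1 ∧
        V ⊓ FunFld.L (D - Finsupp.single P 1 - Finsupp.single R ((r : ℤ) + 1)) = ⊥)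
    (Q : FunFld.Place k K) (hQP : Q ≠ P) :
    ¬ (V ⊓ FunFld.L (D - Finsupp.single Q ((r : ℤ) + 1)) ≠ ⊥ ∧
       V ⊓ FunFld.L (D - Finsupp.single P 1 - Finsupp.single Q (r : ℤ)) ≠ ⊥) := by
  classical
  rintro ⟨hA, hB⟩
  haveI : Module.Finite k V := Module.finite_of_finrank_pos (by omega)
  obtain ⟨s, hsA, hs0⟩ := Submodule.exists_mem_ne_zero_of_ne_bot hA
  obtain ⟨t, htB, ht0⟩ := Submodule.exists_mem_ne_zero_of_ne_bot hB
  -- monotonicity of L
  have Lmono : ∀ {D₁ D₂ : FunFld.Divisor k K}, (∀ R, D₁ R ≤ D₂ R) → FunFld.L D₁ ≤ FunFld.L D₂ := by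
    intro D₁ D₂ h x hx R
    exact (hx R).trans (WithZero.exp_le_exp.2 (h R))
  set W := V ⊓ FunFld.L (D - Finsupp.single Q (r : ℤ)) with hW
  have hsW : s ∈ W := by
    refine ⟨hsA.1, Lmono ?_ hsA.2⟩
    intro R
    simp only [Finsupp.coe_sub, Pi.sub_apply]
    by_cases hR : Q = R
    · subst hR; simp; linarith
    · simp [Finsupp.single_apply, hR]
  have htW : t ∈ W := by
    refine ⟨htB.1, Lmono ?_ htB.2⟩
    intro R
    simp only [Finsupp.coe_sub, Pi.sub_apply]
    by_cases hR : P = R
    · subst hR; simp [Finsupp.single_apply]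
    · simp [Finsupp.single_apply, hR]
  haveI : Module.Finite k W := Module.Finite.of_injective (Submodule.inclusion (inf_le_left : W ≤ V)) (Submodule.inclusion_injective _)
  have h1 := (hns Q).1
  rw [finrank_le_one_iff] at h1
  obtain ⟨v, hv⟩ := h1
  obtain ⟨c, hc⟩ := hv ⟨s, hsW⟩
  obtain ⟨d, hd⟩ := hv ⟨t, htW⟩
  have hc0 : c ≠ 0 := by
    rintro rfl
    apply hs0
    simpa using (congrArg Subtype.val hc).symm
  have hd0 : d ≠ 0 := by
    rintro rfl
    apply ht0
    simpa using (congrArg Subtype.val hd).symm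
  have hst : s = (c * d⁻¹) • t := by
    have h1 : (v : K) = c⁻¹ • s := by
      have := congrArg Subtype.val hc
      simp only [Submodule.coe_smul] at this
      rw [← this, smul_smul, inv_mul_cancel₀ hc0, one_smul]
    have h2 : t = d • (v : K) := by
      have := congrArg Subtype.val hd
      simpa using this.symm
    rw [h2, smul_smul, mul_assoc, inv_mul_cancel₀ hd0, mul_one, h1, smul_smul, mul_inv_cancel₀ hc0, one_smul]
  have hsB : s ∈ FunFld.L (D - Finsupp.single P 1 - Finsupp.single Q (r : ℤ)) := by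
    rw [hst]; exact Submodule.smul_mem _ _ htB.2
  have hsC : s ∈ V ⊓ FunFld.L (D - Finsupp.single P 1 - Finsupp.single Q ((r : ℤ) + 1)) := by
    refine ⟨hsA.1, ?_⟩
    intro R
    by_cases hR : Q = R
    · subst hR
      refine (hsA.2 Q).trans (WithZero.exp_le_exp.2 ?_)
      simp [Finsupp.single_apply, hQP.symm]
    · refine (hsB R).trans (WithZero.exp_le_exp.2 ?_)
      simp [Finsupp.single_apply, hR]
  rw [(hns' Q).2] at hsC
  exact hs0 (by simpa using hsC)

end Groth.Agent.S16266
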