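import Groth.Statements.S16269
import Mathlib
import Groth.Agent.S16268
import Groth.Agent.Lib.Lead.EtaleCoprod

set_option autoImplicit false
universe u w
open CategoryTheory CategoryTheory.Limits AlgebraicGeometry Opposite
open EtCore

namespace Groth.Agent.S16269

/-- Let X be a scheme, Y an etale X-scheme with Y -> X surjective, and G a finite group acting on Y by
X-automorphisms such that the morphisms (id, g) : Y -> Y x_X Y exhibit Y x_X Y as the coproduct of
copies of Y indexed by G (a Galois covering with group G). For an abelian sheaf F on the small etale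
site of X, the restriction map F(X) -> F(Y) is injective and its image is the set of sections of F
over Y fixed by every element of G. -/
theorem result (X : Scheme.{u})
    (Y : X.Etale) (hY : Function.Surjective Y.hom.base)
    {G : Type u} [Group G] [Finite G] (σ : G →* Aut Y)
    (hgal : Nonempty (IsColimit (Cofan.mk (Y ⨯ Y) (fun g : G => prod.lift (𝟙 Y) (σ g).hom))))
    (F : EtCoh.Ab X) :
    Function.Injective (F.obj.map ((EtCore.topIsTerminal X).from Y).op) ∧
      Set.range (F.obj.map ((EtCore.topIsTerminal X).from Y).op) =
        {s : EtCoh.sect F Y | ∀ g : G, F.obj.map (σ g).hom.op s = s} := by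
  classical
  set f := (EtCore.topIsTerminal X).from Y with hf
  let P : X.Etaleᵒᵖ ⥤ Type (u+1) := F.obj ⋙ forget AddCommGrpCat
  have hPsheaf : Presieve.IsSheaf X.smallEtaleTopology P :=
    (isSheaf_iff_isSheaf_of_type _ _).1 ((Presheaf.isSheaf_iff_isSheaf_forget _ _ (forget AddCommGrpCat)).1 F.cond)
  have h1 : Presieve.IsSheafFor P (Presieve.singleton f) := by
    have hcov : Sieve.ofArrows (fun _ : PUnit.{1} => Y) (fun _ => f) ∈ X.smallEtaleTopology (EtCoh.top X) := by
      rw [Scheme.ofArrows_mem_smallEtaleTopology_iff]
      ext x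
      simp only [Set.mem_iUnion, Set.mem_range, Set.mem_univ, iff_true]
      obtain ⟨y, hy⟩ := hY x
      refine ⟨PUnit.unit, y, ?_⟩
      have hw : f.left = Y.hom := by
        have := Over.w f.hom
        exact (Category.comp_id _).symm.trans this
      rw [hw]
      exact hy
    have hsh := hPsheaf _ hcov
    rw [Sieve.ofArrows, ← Presieve.isSheafFor_iff_generate, Presieve.ofArrows_pUnit] at hsh
    exact hsh
  obtain ⟨hc⟩ := hgal
  have hP := Groth.Agent.Lib.Lead.EtaleCoprod.bijective_of_isSheaf
    (fun g : G => prod.lift (𝟙 Y) (σ g).hom) hc P hPsheaf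
  exact (Groth.Agent.S16268.result X Y hY σ ⟨hc⟩ P hP).1 h1

end Groth.Agent.S16269
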