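import Groth.Statements.S16272
import Mathlib

set_option autoImplicit false
universe w' w v u
open CategoryTheory
open NonAbH1

namespace Groth.Agent.S16272

open Opposite

variable {C : Type u} [Category.{v} C] {J : GrothendieckTopology C} {G : Sheaf J GrpCat.{w}}

theorem smul_cancel {P : GSheaf G} (hP : P.IsPseudoTorsor) {U : Cᵒᵖ} {g g' : G.obj.obj U}
    (p : P.P.obj.obj U) (h : P.smul g p = P.smul g' p) : g = g' := by
  obtain ⟨x, -, hx⟩ := hP U p (P.smul g p)
  exact (hx g rfl).trans (hx g' h.symm).symm

theorem map_comp_apply (P : GSheaf G) {X Y Z : Cᵒᵖ} (f : X ⟶ Y) (g : Y ⟶ Z) (p : P.P.obj.obj X) :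
    P.P.obj.map (f ≫ g) p = P.P.obj.map g (P.P.obj.map f p) := by
  rw [Functor.map_comp]; rfl

/-- the cocycle cut out by a family of sections -/
noncomputable def cocycleOf {P : GSheaf G} (hP : P.IsPseudoTorsor) {I : Type w'} (U : I → C)
    (s : ∀ i, P.P.obj.obj (op (U i))) : PresheafOfGroups.OneCocycle G.obj U where
  ev i j T a b := (hP (op T) (P.P.obj.map b.op (s j)) (P.P.obj.map a.op (s i))).exists.choose
  ev_precomp i j T T' φ a b := by
    apply smul_cancel hP (P.P.obj.map (φ ≫ b).op (s j))
    rw [(hP (op T) (P.P.obj.map (φ ≫ b).op (s j))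
      (P.P.obj.map (φ ≫ a).op (s i))).exists.choose_spec]
    rw [op_comp, op_comp, map_comp_apply, map_comp_apply, ← P.map_smul,
      (hP (op T') (P.P.obj.map b.op (s j)) (P.P.obj.map a.op (s i))).exists.choose_spec]
  ev_trans i j k T a b c := by
    apply smul_cancel hP (P.P.obj.map c.op (s k))
    rw [P.mul_smul,
      (hP (op T) (P.P.obj.map c.op (s k)) (P.P.obj.map b.op (s j))).exists.choose_spec,
      (hP (op T) (P.P.obj.map b.op (s j)) (P.P.obj.map a.op (s i))).exists.choose_spec,
      (hP (op T) (P.P.obj.map c.op (s k)) (P.P.obj.map a.op (s i))).exists.choose_spec]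

theorem cocycleOf_spec {P : GSheaf G} (hP : P.IsPseudoTorsor) {I : Type w'} (U : I → C)
    (s : ∀ i, P.P.obj.obj (op (U i))) : P.IsCocycleOf U s (cocycleOf hP U s) := by
  intro i j T a b
  exact (hP (op T) (P.P.obj.map b.op (s j)) (P.P.obj.map a.op (s i))).exists.choose_spec

theorem main (P : NonAbH1.Torsor G) {I : Type w'} (U : I → C) (hP : P.TrivialisedBy U) :
    ∃! c : PresheafOfGroups.H1 G.obj U, P.HasCechClass U c := by
  have hps : P.toGSheaf.IsPseudoTorsor := P.isTorsor.1
  have s : ∀ i, P.P.obj.obj (op (U i)) := fun i => (hP i).some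
  refine ⟨(cocycleOf hps U s).class, ⟨s, cocycleOf hps U s, cocycleOf_spec hps U s, rfl⟩, ?_⟩
  rintro c ⟨s', γ', hγ', rfl⟩
  rw [PresheafOfGroups.OneCocycle.class_eq_iff]
  have hγ := cocycleOf_spec hps U s
  -- α i • s' i = s i
  have key : ∀ i, ∃ g : G.obj.obj (op (U i)), P.smul g (s' i) = s i := fun i =>
    (hps (op (U i)) (s' i) (s i)).exists
  choose α hα using key
  refine ⟨α, ?_⟩
  intro i j T a b
  apply smul_cancel hps (P.P.obj.map b.op (s' j))
  rw [P.mul_smul, P.mul_smul, hγ' i j a b, ← P.map_smul, ← P.map_smul, hα, hα, hγ i j a b]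

/-- The class map is well defined: let C be a category with a Grothendieck topology J, G a sheaf of
groups and U a family of objects. A G-torsor P with a section over every U_i has exactly one Cech
class on U: choosing sections s_i of P over the U_i cuts out a 1-cocycle of G on U, and its class in
the Cech cohomology set H^1(U, G) does not depend on the choice. (The published statement is for an
etale covering of a scheme; this row is stated for any family of objects of any site.) -/
theorem result {C : Type u} [Category.{v} C]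
    {J : GrothendieckTopology C} {G : Sheaf J GrpCat.{w}} (P : NonAbH1.Torsor G)
    {I : Type w'} (U : I → C) (hP : P.TrivialisedBy U) :
    ∃! c : PresheafOfGroups.H1 G.obj U, P.HasCechClass U c := by
  exact main P U hP

end Groth.Agent.S16272
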