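import Groth.Statements.S1628
import Groth.Agent.S1535
import Groth.Agent.Lib.Helper21.RegularLocal

set_option autoImplicit false
universe u
open CategoryTheory CategoryTheory.Limits AlgebraicGeometry
open Variety

namespace Groth.Agent.S1628

/-- If X is smooth over a field k then X is geometrically reduced over k and geometrically regular at
every point. -/
theorem result (k : Type u) [Field k] (X : Scheme.{u}) [X.Over (Spec (CommRingCat.of k))] [Smooth (X ↘ (Spec (CommRingCat.of k)))] :
    GeometricallyReduced (X ↘ (Spec (CommRingCat.of k))) ∧ ∀ x : X, Curv2.IsGeomRegularAt k X x := by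
  constructor
  · rw [geometricallyReduced_iff, geometrically_iff_of_commRing]
    intro K _ _ Y fst snd h
    have hsm : Smooth snd := MorphismProperty.of_isPullback h inferInstance
    let _ : Y.Over (Spec (CommRingCat.of K)) := ⟨snd⟩
    have : Smooth (Y ↘ Spec (CommRingCat.of K)) := hsm
    have hred : ∀ y : Y, _root_.IsReduced (Y.presheaf.stalk y) := by
      intro y
      have hreg := Groth.Agent.S1535.result K Y y
      have := Groth.Agent.Lib.Helper21.isDomain_of_isRegularLocalRing (Y.presheaf.stalk y)
      infer_instance
    exact isReduced_of_isReduced_stalk Y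
  · intro x k' _ _ _ x' _
    let _ : (Curv2.bc k X k').Over (Spec (CommRingCat.of k')) := ⟨Curv2.bcSnd k X k'⟩
    have : Smooth ((Curv2.bc k X k') ↘ Spec (CommRingCat.of k')) :=
      inferInstanceAs (Smooth (Limits.pullback.snd _ _))
    exact Groth.Agent.S1535.result k' _ x'


end Groth.Agent.S1628
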