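import Groth.Statements.S7689
import Groth.Agent.Lib.Helper21.NagNorm7
-- import your own Groth.Agent.* helpers here

set_option autoImplicit false
universe u
open CategoryTheory CategoryTheory.Limits AlgebraicGeometry
open Variety

namespace Groth.Agent.S7689

/-- For an integral X: let X be an integral Nagata scheme of dimension one (every affine open has a
Nagata coordinate ring) with normalization ν : X^ν → X. Then ν is finite and birational (an
isomorphism over a dense open), O_X ⊆ ν_*O_{X^ν}, and the quotient ν_*O_{X^ν}/O_X is supported at
closed points, its stalk at a closed point x having length equal to the δ-invariant of O_{X,x}. (The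
published statement is for reduced Nagata schemes of dimension one; it also says that ν is
surjective and that the quotient is nonzero exactly at the singular points, and it describes the
stalk A' of ν_*O_{X^ν} at x, namely the integral closure of O_{X,x} in its total fraction ring, a
semi-local ring that is a finite product of Dedekind domains, together with the completions of
O_{X,x} and A'. This row takes X integral, does not restate surjectivity, which holds for the
normalization of every integral scheme, and keeps the finiteness, birationality, injectivity and
length clauses.) -/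
theorem result (X : Scheme.{u}) [IsIntegral X]
    [QuasiCompact (X.fromSpecStalk (genericPoint X))] [QuasiSeparated (X.fromSpecStalk (genericPoint X))]
    (hN : ∀ U : X.affineOpens, CAlg.IsNagata Γ(X, (U : X.Opens))) (hdim : topologicalKrullDim X = 1) :
    IsFinite (Curv2.normalizationι X) ∧
      (∃ U : X.Opens, Dense ((U : Set X)) ∧ IsIso (Curv2.normalizationι X ∣_ U)) ∧
      Mono (ClSub.unitToPush (Curv2.normalizationι X)) ∧
      (∀ x : X, IsClosed ({x} : Set X) →
        Module.length (X.presheaf.stalk x) ((cokernel (ClSub.unitToPush (Curv2.normalizationι X))).presheaf.stalk x) =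
          Curv2.deltaInv (X.presheaf.stalk x)) ∧
      (∀ x : X, ¬ IsClosed ({x} : Set X) →
        Subsingleton ((cokernel (ClSub.unitToPush (Curv2.normalizationι X))).presheaf.stalk x)) := by
  have key : ∀ (h : Spec (CommRingCat.of X.functionField) ⟶ X)
      (_ : h = Groth.Agent.Lib.Helper6.GU.genHom X X.functionField (𝟙 _))
      [QuasiCompact h] [QuasiSeparated h],
      IsFinite h.fromNormalization ∧
      (∃ U : X.Opens, Dense ((U : Set X)) ∧ IsIso (h.fromNormalization ∣_ U)) ∧
      Mono (ClSub.unitToPush h.fromNormalization) ∧
      (∀ x : X, IsClosed ({x} : Set X) →
        Module.length (X.presheaf.stalk x)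
          ((cokernel (ClSub.unitToPush h.fromNormalization)).presheaf.stalk x) =
          Curv2.deltaInv (X.presheaf.stalk x)) ∧
      (∀ x : X, ¬ IsClosed ({x} : Set X) →
        Subsingleton ((cokernel (ClSub.unitToPush h.fromNormalization)).presheaf.stalk x)) := by
    intro h hh _ _
    subst hh
    exact ⟨Groth.Agent.Lib.Helper21.NagNorm.isFinite_fromNormalization X hN,
      Groth.Agent.Lib.Helper21.NagNorm.exists_dense_open_iso X hN,
      Groth.Agent.Lib.Helper21.NagNorm.mono_unitToPush X,
      fun x _ => Groth.Agent.Lib.Helper21.NagNorm.length_stalk_eq_deltaInv X x,
      fun x hx => Groth.Agent.Lib.Helper21.NagNorm.subsingleton_stalk_of_not_isClosed X hdim x hx⟩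
  exact key (X.fromSpecStalk (genericPoint X))
    (by simp only [Groth.Agent.Lib.Helper6.GU.genHom]; erw [Spec.map_id];
        exact (Category.id_comp _).symm)

end Groth.Agent.S7689
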