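import Groth.Statements.S16298
import Groth.Agent.S7689
import Groth.Agent.S1566
import Groth.Agent.Lib.Helper21.NagFin6
import Groth.Agent.S0002
import Groth.Agent.Lib.Helper12.Dev2
-- import your own Groth.Agent.* helpers here

set_option autoImplicit false
universe u
open CategoryTheory CategoryTheory.Limits AlgebraicGeometry
open Curves

namespace Groth.Agent.S16298

/-- Let k be a field and X a genus-zero curve over k, that is, an integral scheme proper over k of
dimension one with H^1(X, O_X) = 0. Then the normalization Y of X again satisfies H^1(Y, O_Y) = 0,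
so Y is again a genus-zero curve. (The two instance binders on the morphism from the generic point
always hold; they are only needed to form the normalization.) -/
theorem result (k : Type u) [Field k] (X : Scheme.{u}) [X.Over (Spec (CommRingCat.of k))]
    [IsIntegral X] [IsProper (X ↘ (Spec (CommRingCat.of k)))] (hdim : topologicalKrullDim X = 1)
    (h1 : Subsingleton (Coh.HH X (Coh.structureModule X) 1))
    [QuasiCompact (X.fromSpecStalk (genericPoint X))] [QuasiSeparated (X.fromSpecStalk (genericPoint X))] :
    Subsingleton (Coh.HH (Curv2.normalization X) (Coh.structureModule (Curv2.normalization X)) 1) := by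
  have hN : ∀ U : X.affineOpens, CAlg.IsNagata Γ(X, (U : X.Opens)) := fun U =>
    Groth.Agent.Lib.Helper21.NagFin.isNagata_sections_of_locallyOfFiniteType_field k X
      (X ↘ Spec (CommRingCat.of k)) U.1 U.2
  obtain ⟨hfin, ⟨U, hU, hiso⟩, -, -, -⟩ := Groth.Agent.S7689.result X hN hdim
  let _inst : (Curv2.normalization X).Over (Spec (CommRingCat.of k)) :=
    ⟨Curv2.normalizationι X ≫ (X ↘ Spec (CommRingCat.of k))⟩
  have hcl : IsClosedImmersion (Curv2.normalizationι X ∣_ U) := inferInstance
  have hle := Groth.Agent.S1566.result k X (Curv2.normalization X) hdim.le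
    (Curv2.normalizationι X) rfl U hU hcl
  have hgX : Curv2.genus k X = 0 := by
    unfold Curv2.genus
    exact Module.finrank_zero_of_subsingleton
  rw [hgX] at hle
  have hgY : Module.finrank k (Coh.HH (Curv2.normalization X)
      (Coh.structureModule (Curv2.normalization X)) 1) = 0 := Nat.le_zero.mp hle
  have : IsProper ((Curv2.normalization X) ↘ Spec (CommRingCat.of k)) := by
    change IsProper (Curv2.normalizationι X ≫ (X ↘ Spec (CommRingCat.of k)))
    infer_instance
  have cO : Coh.IsCoh (Coh.structureModule (Curv2.normalization X)) :=
    Groth.Agent.Lib.Helper12.H12Dev.isCoh_unitM _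
  have : Module.Finite k (Coh.HH (Curv2.normalization X)
      (Coh.structureModule (Curv2.normalization X)) 1) :=
    Groth.Agent.S0002.result k _ _ cO 1
  exact Module.finrank_zero_iff.mp hgY

end Groth.Agent.S16298
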