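import Groth.Statements.S16312
import Mathlib

set_option autoImplicit false
universe u
open W4c3irrattreebun

namespace Groth.Agent.S16312

/-- Let N be a closed cone in real n-space, f a function continuous on N, positive at the nonzero points
of N and homogeneous of degree one under scaling by nonnegative reals, and Λ a discrete additive
subgroup. Then for every real c the set of points H of Λ lying in N with f(H) ≤ c is finite. (The
published statement takes Λ to be a lattice; this row allows any discrete additive subgroup.) -/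
theorem result (n : ℕ)
    (N : Set (EuclideanSpace ℝ (Fin n))) (hN : IsClosed N)
    (hcone : ∀ x ∈ N, ∀ r : ℝ, 0 ≤ r → r • x ∈ N)
    (f : EuclideanSpace ℝ (Fin n) → ℝ) (hf : ContinuousOn f N)
    (hpos : ∀ x ∈ N, x ≠ 0 → 0 < f x)
    (hhom : ∀ x ∈ N, ∀ r : ℝ, 0 ≤ r → f (r • x) = r * f x)
    (Λ : Submodule ℤ (EuclideanSpace ℝ (Fin n))) [DiscreteTopology Λ] (c : ℝ) :
    ({x : EuclideanSpace ℝ (Fin n) | x ∈ N ∧ f x ≤ c} ∩ (Λ : Set (EuclideanSpace ℝ (Fin n)))).Finite := by
  classical
  have hfin : ∀ R : ℝ, (Metric.closedBall (0 : EuclideanSpace ℝ (Fin n)) R ∩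
      (Λ : Set (EuclideanSpace ℝ (Fin n)))).Finite := by
    intro R
    change ((_ : Set (EuclideanSpace ℝ (Fin n))) ∩ Λ.toAddSubgroup).Finite
    have : DiscreteTopology Λ.toAddSubgroup := (inferInstance : DiscreteTopology Λ)
    exact Metric.finite_isBounded_inter_isClosed DiscreteTopology.isDiscrete
      Metric.isBounded_closedBall AddSubgroup.isClosed_of_discrete
  set K : Set (EuclideanSpace ℝ (Fin n)) := N ∩ Metric.sphere 0 1 with hK
  have hKc : IsCompact K := (isCompact_sphere 0 1).inter_left hN
  -- key bound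
  obtain ⟨m, hm, hbound⟩ : ∃ m : ℝ, 0 < m ∧ ∀ x ∈ N, m * ‖x‖ ≤ f x := by
    rcases K.eq_empty_or_nonempty with hKe | hKne
    · refine ⟨1, one_pos, fun x hx => ?_⟩
      by_cases hx0 : x = 0
      · subst hx0
        have := hhom 0 hx 0 le_rfl
        simp at this
        simp [this]
      · exfalso
        have hnx : 0 < ‖x‖ := norm_pos_iff.mpr hx0
        have : (‖x‖⁻¹ • x) ∈ K := by
          refine ⟨hcone x hx _ (inv_nonneg.mpr hnx.le), ?_⟩
          simp [norm_smul, hnx.ne']
        rw [hKe] at this
        exact this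
    · obtain ⟨x0, hx0K, hx0min⟩ := hKc.exists_isMinOn hKne (hf.mono Set.inter_subset_left)
      have hx0ne : x0 ≠ 0 := by
        intro h
        have : ‖x0‖ = 1 := by simpa using hx0K.2
        rw [h, norm_zero] at this
        exact zero_ne_one this
      refine ⟨f x0, hpos x0 hx0K.1 hx0ne, fun x hx => ?_⟩
      by_cases hx0' : x = 0
      · subst hx0'
        have := hhom 0 hx 0 le_rfl
        simp at this
        simp [this]
      · have hnx : 0 < ‖x‖ := norm_pos_iff.mpr hx0'
        have hy : (‖x‖⁻¹ • x) ∈ K := by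
          refine ⟨hcone x hx _ (inv_nonneg.mpr hnx.le), ?_⟩
          simp [norm_smul, hnx.ne']
        have h1 : f x0 ≤ f (‖x‖⁻¹ • x) := hx0min hy
        have h2 : f x = ‖x‖ * f (‖x‖⁻¹ • x) := by
          have := hhom _ hy.1 ‖x‖ hnx.le
          rw [smul_smul, mul_inv_cancel₀ hnx.ne', one_smul] at this
          exact this
        rw [h2, mul_comm]
        exact mul_le_mul_of_nonneg_left h1 hnx.le
  refine (hfin (c / m)).subset ?_
  rintro x ⟨⟨hxN, hxc⟩, hxΛ⟩
  refine ⟨?_, hxΛ⟩
  rw [mem_closedBall_zero_iff, le_div_iff₀ hm, mul_comm]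
  exact (hbound x hxN).trans hxc

end Groth.Agent.S16312
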