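import Groth.Statements.S16320
import Groth.Agent.Lib.Helper21.BPF
-- import your own Groth.Agent.* helpers here

set_option autoImplicit false
open CategoryTheory CategoryTheory.Limits AlgebraicGeometry
universe u
open Curves

namespace Groth.Agent.S16320

/-- Let k be an algebraically closed field of characteristic zero and X a smooth proper integral curve
over k (integral, proper and smooth over k, of dimension one) of genus 9 whose Clifford index is 3:
some invertible module M with h^0(M) ≥ 2 and h^1(M) ≥ 2 has deg M − 2(h^0(M) − 1) = 3, and every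
invertible module M with h^0(M) ≥ 2 and h^1(M) ≥ 2 has deg M − 2(h^0(M) − 1) ≥ 3 (degrees are χ(M) −
χ(O_X); in particular X is not hyperelliptic), and let D be a globally generated invertible module
of degree 5 with h^0(D) = 2 (a base-point-free complete g^1_5). Then h^0(D^{⊗2}) is 3 or 4,
h^0(D^{⊗3}) is 7 or 8, and h^0(D^{⊗3}) = 7 whenever h^0(D^{⊗2}) = 3. (The published statement says,
equivalently by Riemann–Roch applied to the numbers h^0(K − iD) − h^0(K − (i+1)D) for a canonical
module K, that the rational normal fourfold scroll formed by the linear spans of the pencil's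
divisors in the canonical embedding has type S(2,1,1,1), S(2,2,1,0) or S(3,1,1,0); the scroll itself
is not restated here.) -/
theorem result
    (k : Type u) [Field k] [IsAlgClosed k] [CharZero k]
    (X : Scheme.{u}) [X.Over (Spec (CommRingCat.of k))] [IsIntegral X]
    [IsProper (X ↘ Spec (CommRingCat.of k))] [Smooth (X ↘ Spec (CommRingCat.of k))]
    (hdim : topologicalKrullDim X = 1) (hg : Curv2.genus k X = 9)
    (hex : ∃ M : X.Modules, PicF.IsInvertible M ∧ 2 ≤ Module.finrank k (Coh.HH X M 0) ∧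
      2 ≤ Module.finrank k (Coh.HH X M 1) ∧ Curv2.deg k X M 1 = 2 * (Module.finrank k (Coh.HH X M 0) : ℤ) + 1)
    (hmin : ∀ M : X.Modules, PicF.IsInvertible M → 2 ≤ Module.finrank k (Coh.HH X M 0) →
      2 ≤ Module.finrank k (Coh.HH X M 1) → 2 * (Module.finrank k (Coh.HH X M 0) : ℤ) + 1 ≤ Curv2.deg k X M 1)
    (D : X.Modules) (hD : PicF.IsInvertible D) (hgD : Curv2.IsGloballyGenerated D)
    (hdD : Curv2.deg k X D 1 = 5) (h0D : Module.finrank k (Coh.HH X D 0) = 2) :
    (Module.finrank k (Coh.HH X (CohB1.tensorPow D 2) 0) = 3 ∨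
        Module.finrank k (Coh.HH X (CohB1.tensorPow D 2) 0) = 4) ∧
      (Module.finrank k (Coh.HH X (CohB1.tensorPow D 3) 0) = 7 ∨
        Module.finrank k (Coh.HH X (CohB1.tensorPow D 3) 0) = 8) ∧
      (Module.finrank k (Coh.HH X (CohB1.tensorPow D 2) 0) = 3 →
        Module.finrank k (Coh.HH X (CohB1.tensorPow D 3) 0) = 7) := by
  have hP : ∀ n, PicF.IsInvertible (CohB1.tensorPow D n) := fun n =>
    Groth.Agent.Lib.Helper29.QCoh.isInvertible_tensorPow hD n
  have dP : ∀ n : ℕ, Curv2.deg k X (CohB1.tensorPow D n) 1 = n * 5 := by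
    intro n
    rw [Groth.Agent.Lib.Helper21.CDeg.deg_tensorPow k X hdim.le hD n, hdD]
  have rr2 := Groth.Agent.Lib.Helper21.BPF.rr k X hdim (CohB1.tensorPow D 2)
  have rr3 := Groth.Agent.Lib.Helper21.BPF.rr k X hdim (CohB1.tensorPow D 3)
  have rr4 := Groth.Agent.Lib.Helper21.BPF.rr k X hdim (CohB1.tensorPow D 4)
  rw [hg, dP 2] at rr2
  rw [hg, dP 3] at rr3
  rw [hg, dP 4] at rr4
  push_cast at rr2 rr3 rr4
  have v4 := Groth.Agent.Lib.Helper21.TwistDown.h1_vanish k X hdim _ (hP 4)
    (by rw [dP 4, hg]; norm_num)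
  have z4 : Module.finrank k (Coh.HH X (CohB1.tensorPow D 4) 1) = 0 := by
    have := v4; exact Module.finrank_zero_of_subsingleton
  have up2 : Module.finrank k (Coh.HH X (CohB1.tensorPow D 2) 0) ≤ 4 := by
    by_contra hlt
    rw [not_le] at hlt
    have h1 : 2 ≤ Module.finrank k (Coh.HH X (CohB1.tensorPow D 2) 1) := by omega
    have := hmin _ (hP 2) (by omega) h1
    rw [dP 2] at this
    push_cast at this
    omega
  have up3 : Module.finrank k (Coh.HH X (CohB1.tensorPow D 3) 0) ≤ 8 := by
    by_contra hlt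
    rw [not_le] at hlt
    have h1 : 2 ≤ Module.finrank k (Coh.HH X (CohB1.tensorPow D 3) 1) := by omega
    have := hmin _ (hP 3) (by omega) h1
    rw [dP 3] at this
    push_cast at this
    omega
  obtain ⟨s₁, s₂, hcov⟩ := Groth.Agent.Lib.Helper21.BPF.exists_pencil k X D hD hgD h0D
  have b0 := Groth.Agent.Lib.Helper21.BPF.two_mul_finrank_le k X (CohB1.tensorPow D 0) D
    (hP 0) hD s₁ s₂ hcov
  have b2 := Groth.Agent.Lib.Helper21.BPF.two_mul_finrank_le k X (CohB1.tensorPow D 2) D
    (hP 2) hD s₁ s₂ hcov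
  have e1 : Module.finrank k (Coh.HH X (CohB1.tensorMod (CohB1.tensorPow D 0) D) 0) = 2 := by
    rw [← h0D]
    exact (Groth.Agent.Lib.Helper21.CDeg.HHlinEquiv k
      (Groth.Agent.Lib.Helper29.QCoh.tensorUnitL D) 0).finrank_eq
  have e0 : Module.finrank k (Coh.HH X (CohB1.tensorPow D 0) 0) = 1 :=
    Groth.Agent.Lib.Helper21.TwistDown.finrank_HH_zero_unit k X
  have b0' : 2 * Module.finrank k (Coh.HH X (CohB1.tensorMod (CohB1.tensorPow D 0) D) 0) ≤
      Module.finrank k (Coh.HH X (CohB1.tensorPow D 2) 0) +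
        Module.finrank k (Coh.HH X (CohB1.tensorPow D 0) 0) := b0
  have b2' : 2 * Module.finrank k (Coh.HH X (CohB1.tensorPow D 3) 0) ≤
      Module.finrank k (Coh.HH X (CohB1.tensorPow D 4) 0) +
        Module.finrank k (Coh.HH X (CohB1.tensorPow D 2) 0) := b2
  refine ⟨?_, ?_, ?_⟩
  · omega
  · omega
  · intro h
    omega

end Groth.Agent.S16320
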