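import Groth.Statements.S16322
import Groth.Agent.Lib.Helper21.BPF
-- import your own Groth.Agent.* helpers here

set_option autoImplicit false
open CategoryTheory CategoryTheory.Limits AlgebraicGeometry
universe u
open Curves

namespace Groth.Agent.S16322

/-- Let k be a characteristic-zero algebraically closed field and X a smooth proper integral curve over
k (integral, proper and smooth over k, of dimension one) of genus 9 whose Clifford index is 3: some
invertible module M with h^0(M) ≥ 2 and h^1(M) ≥ 2 has deg M − 2(h^0(M) − 1) = 3, and every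
invertible module M with h^0(M) ≥ 2 and h^1(M) ≥ 2 has deg M − 2(h^0(M) − 1) ≥ 3 (degrees are χ(M) −
χ(O_X); in particular X is not hyperelliptic), and let D₁, D₂ be two non-isomorphic globally
generated invertible modules of degree 5 with h^0(D₁) = h^0(D₂) = 2 (two different base-point-free
complete pencils of degree 5). Then h^0(D₁ ⊗ D₂) = 4. (In the published statement the two pencils
are the ones cut out by the two rulings on a model of the curve in a blow-up of P^1 × P^1; the
printed argument for this equality uses only that they are different base-point-free pencils of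
degree 5 on a genus-9 curve of Clifford index 3, which is what is stated here; the further printed
assertion on a third pencil is not restated.) -/
theorem result
    (k : Type u) [Field k] [IsAlgClosed k] [CharZero k]
    (X : Scheme.{u}) [X.Over (Spec (CommRingCat.of k))] [IsIntegral X]
    [IsProper (X ↘ Spec (CommRingCat.of k))] [Smooth (X ↘ Spec (CommRingCat.of k))]
    (hdim : topologicalKrullDim X = 1) (hg : Curv2.genus k X = 9)
    (hex : ∃ M : X.Modules, PicF.IsInvertible M ∧ 2 ≤ Module.finrank k (Coh.HH X M 0) ∧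
      2 ≤ Module.finrank k (Coh.HH X M 1) ∧ Curv2.deg k X M 1 = 2 * (Module.finrank k (Coh.HH X M 0) : ℤ) + 1)
    (hmin : ∀ M : X.Modules, PicF.IsInvertible M → 2 ≤ Module.finrank k (Coh.HH X M 0) →
      2 ≤ Module.finrank k (Coh.HH X M 1) → 2 * (Module.finrank k (Coh.HH X M 0) : ℤ) + 1 ≤ Curv2.deg k X M 1)
    (D₁ D₂ : X.Modules) (h₁ : PicF.IsInvertible D₁) (h₂ : PicF.IsInvertible D₂)
    (hg₁ : Curv2.IsGloballyGenerated D₁) (hg₂ : Curv2.IsGloballyGenerated D₂)
    (hd₁ : Curv2.deg k X D₁ 1 = 5) (hd₂ : Curv2.deg k X D₂ 1 = 5)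
    (h0₁ : Module.finrank k (Coh.HH X D₁ 0) = 2) (h0₂ : Module.finrank k (Coh.HH X D₂ 0) = 2)
    (hne : IsEmpty (D₁ ≅ D₂)) :
    Module.finrank k (Coh.HH X (CohB1.tensorMod D₁ D₂) 0) = 4 := by
  have hDD := Groth.Agent.Lib.Helper29.QCoh.isInvertible_tensorMod h₁ h₂
  have dDD := Groth.Agent.Lib.Helper21.CDeg.deg_tensorMod k X hdim.le h₁ h₂
  have rrDD := Groth.Agent.Lib.Helper21.BPF.rr k X hdim (CohB1.tensorMod D₁ D₂)
  rw [hg, dDD, hd₁, hd₂] at rrDD
  -- upper bound from the Clifford index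
  have hup : Module.finrank k (Coh.HH X (CohB1.tensorMod D₁ D₂) 0) ≤ 4 := by
    by_contra hlt
    rw [not_le] at hlt
    have h1 : 2 ≤ Module.finrank k (Coh.HH X (CohB1.tensorMod D₁ D₂) 1) := by omega
    have := hmin _ hDD (by omega) h1
    rw [dDD, hd₁, hd₂] at this
    omega
  -- lower bound from the base-point-free pencil trick
  obtain ⟨s₁, s₂, hcov⟩ := Groth.Agent.Lib.Helper21.BPF.exists_pencil k X D₁ h₁ hg₁ h0₁
  obtain ⟨D₁', hD₁', ⟨e⟩⟩ := Groth.Agent.Lib.Helper29.QCoh.Dual.exists_inverse h₁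
  have hN := Groth.Agent.Lib.Helper29.QCoh.isInvertible_tensorMod h₂ hD₁'
  have iso1 : CohB1.tensorMod (CohB1.tensorMod D₂ D₁') D₁ ≅ D₂ :=
    Groth.Agent.Lib.Helper29.QCoh.tensorAssoc D₂ D₁' D₁ ≪≫
      Groth.Agent.Lib.Helper29.QCoh.tensorCongr (Iso.refl D₂) e ≪≫
      Groth.Agent.Lib.Helper29.QCoh.tensorUnitR D₂
  have hbpf := Groth.Agent.Lib.Helper21.BPF.two_mul_finrank_le k X (CohB1.tensorMod D₂ D₁') D₁
    hN h₁ s₁ s₂ hcov
  have e1 : Module.finrank k (Coh.HH X (CohB1.tensorMod (CohB1.tensorMod D₂ D₁') D₁) 0) = 2 := by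
    rw [(Groth.Agent.Lib.Helper21.CDeg.HHlinEquiv k iso1 0).finrank_eq, h0₂]
  have e2 : Module.finrank k (Coh.HH X (CohB1.tensorMod
      (CohB1.tensorMod (CohB1.tensorMod D₂ D₁') D₁) D₁) 0) =
      Module.finrank k (Coh.HH X (CohB1.tensorMod D₁ D₂) 0) :=
    (Groth.Agent.Lib.Helper21.CDeg.HHlinEquiv k
      (Groth.Agent.Lib.Helper29.QCoh.tensorCongr iso1 (Iso.refl D₁) ≪≫
        Groth.Agent.Lib.Helper29.QCoh.tensorBraid D₂ D₁) 0).finrank_eq
  have e3 : Module.finrank k (Coh.HH X (CohB1.tensorMod D₂ D₁') 0) = 0 := by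
    by_contra hne0
    have dN : Curv2.deg k X (CohB1.tensorMod D₂ D₁') 1 = 0 := by
      have h3 := Groth.Agent.Lib.Helper21.CDeg.deg_tensorMod k X hdim.le hN h₁
      rw [Groth.Agent.Lib.Helper21.CDeg.deg_of_iso k iso1 1] at h3
      omega
    obtain ⟨i⟩ := Groth.Agent.Lib.Helper21.BPF.isIso_of_deg_zero k X hdim _ hN dN hne0
    exact hne.false ((Groth.Agent.Lib.Helper29.QCoh.tensorUnitL D₁).symm ≪≫
      Groth.Agent.Lib.Helper29.QCoh.tensorCongr i (Iso.refl D₁) ≪≫ iso1)
  omega

end Groth.Agent.S16322
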