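import Groth.Statements.S16325
import Mathlib
import Groth.Agent.Lib.Lead.ModHomology

set_option autoImplicit false
universe u v
open CategoryTheory
open W4c3biextchow

namespace Groth.Agent.S16325

/-- Let f : C ⟶ D be a chain map of ℕ-indexed chain complexes of modules over a ring R, and consider the
functor it induces between the groupoids attached to C and D (objects: degree-0 elements; morphisms
a ⟶ b: degree-1 elements with boundary b - a, modulo boundaries of degree-2 elements). This functor
is faithful if and only if f is injective on homology in degree 1. (The published statement is for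
complexes of abelian groups; this row allows modules over any ring R.) -/
theorem result
    (R : Type u) [Ring R] (C D : ChainComplex (ModuleCat.{v} R) ℕ) (f : C ⟶ D) :
    (W4c3biextchow.cxFunctor f).Faithful ↔ Mono (HomologicalComplex.homologyMap f 1) := by
  rw [Groth.Agent.Lib.Lead.ModHomology.hc_mono_iff f 2 1 0 (by simp) (by simp)]
  constructor
  · intro hF x hx hy
    let a : W4c3biextchow.Obj C := ⟨0⟩
    let φ : a ⟶ a := ⟨Submodule.Quotient.mk x, by rw [W4c3biextchow.delta_mk, hx, sub_self]⟩
    have h1 : (W4c3biextchow.cxFunctor f).map φ = (W4c3biextchow.cxFunctor f).map (𝟙 a) := by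
      apply W4c3biextchow.Hom.ext
      rw [W4c3biextchow.cxFunctor_map_cl, W4c3biextchow.cxFunctor_map_cl, W4c3biextchow.id_cl,
        map_zero]
      change W4c3biextchow.q1Map f (Submodule.Quotient.mk x) = 0
      rw [W4c3biextchow.q1Map_mk, Submodule.Quotient.mk_eq_zero]
      obtain ⟨y, hy⟩ := hy
      exact ⟨y, hy⟩
    have h2 := (W4c3biextchow.cxFunctor f).map_injective h1
    have h3 : (φ : W4c3biextchow.Hom C a a).cl = 0 := by rw [h2]; rfl
    change (Submodule.Quotient.mk x : W4c3biextchow.Q1 C) = 0 at h3
    rw [Submodule.Quotient.mk_eq_zero] at h3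
    obtain ⟨z, hz⟩ := h3
    exact ⟨z, hz⟩
  · intro h
    refine ⟨fun {a b} φ ψ hφψ => ?_⟩
    apply W4c3biextchow.Hom.ext
    have h1 : W4c3biextchow.q1Map f (φ : W4c3biextchow.Hom C a b).cl =
        W4c3biextchow.q1Map f (ψ : W4c3biextchow.Hom C a b).cl := by
      have := congrArg W4c3biextchow.Hom.cl hφψ
      exact this
    obtain ⟨x, hx⟩ := Submodule.Quotient.mk_surjective _
      ((φ : W4c3biextchow.Hom C a b).cl - (ψ : W4c3biextchow.Hom C a b).cl)
    have hd : (C.d 1 0).hom x = 0 := by
      rw [← W4c3biextchow.delta_mk, hx, map_sub, W4c3biextchow.Hom.delta_cl,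
        W4c3biextchow.Hom.delta_cl, sub_self]
    have hy : ∃ y : D.X 2, (D.d 2 1).hom y = (f.f 1).hom x := by
      have h2 : W4c3biextchow.q1Map f (Submodule.Quotient.mk x) = 0 := by
        rw [hx, map_sub, h1, sub_self]
      rw [W4c3biextchow.q1Map_mk, Submodule.Quotient.mk_eq_zero] at h2
      obtain ⟨y, hy⟩ := h2
      exact ⟨y, hy⟩
    obtain ⟨z, hz⟩ := h x hd hy
    have h0 : (Submodule.Quotient.mk x : W4c3biextchow.Q1 C) = 0 := by
      rw [Submodule.Quotient.mk_eq_zero]
      exact ⟨z, hz⟩
    rw [hx, sub_eq_zero] at h0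
    exact h0

end Groth.Agent.S16325
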