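import Groth.Statements.S16326
import Mathlib
import Groth.Agent.Lib.Lead.ModHomology

set_option autoImplicit false
universe u v
open CategoryTheory
open W4c3biextchow

namespace Groth.Agent.S16326

/-- Let f : C ⟶ D be a chain map of ℕ-indexed chain complexes of modules over a ring R, and consider the
functor it induces between the groupoids attached to C and D (objects: degree-0 elements; morphisms
a ⟶ b: degree-1 elements with boundary b - a, modulo boundaries of degree-2 elements). This functor
is full if and only if f is surjective on homology in degree 1 and injective on homology in degree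
0. (The published statement is for complexes of abelian groups; this row allows modules over any
ring R.) -/
theorem result
    (R : Type u) [Ring R] (C D : ChainComplex (ModuleCat.{v} R) ℕ) (f : C ⟶ D) :
    (W4c3biextchow.cxFunctor f).Full ↔
      Epi (HomologicalComplex.homologyMap f 1) ∧ Mono (HomologicalComplex.homologyMap f 0) := by
  rw [Groth.Agent.Lib.Lead.ModHomology.hc_epi_iff f 2 1 0 (by simp) (by simp),
    Groth.Agent.Lib.Lead.ModHomology.hc_mono_iff f 1 0 0 (by simp) (by simp)]
  have hcomm : ∀ z : C.X 1, (D.d 1 0).hom ((f.f 1).hom z) = (f.f 0).hom ((C.d 1 0).hom z) := by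
    intro z
    have h := congrArg (fun φ => φ.hom z) (f.comm 1 0)
    simpa only [ModuleCat.hom_comp, LinearMap.comp_apply] using h
  constructor
  · intro hF
    constructor
    · intro y hy
      let a : W4c3biextchow.Obj C := ⟨0⟩
      let g : (W4c3biextchow.cxFunctor f).obj a ⟶ (W4c3biextchow.cxFunctor f).obj a :=
        ⟨Submodule.Quotient.mk y, by rw [W4c3biextchow.delta_mk, hy, sub_self]⟩
      obtain ⟨φ, hφ⟩ := hF.map_surjective g
      obtain ⟨x, hx⟩ := Submodule.Quotient.mk_surjective _ (φ : W4c3biextchow.Hom C a a).cl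
      have hd : (C.d 1 0).hom x = 0 := by
        rw [← W4c3biextchow.delta_mk, hx, W4c3biextchow.Hom.delta_cl, sub_self]
      have h1 : W4c3biextchow.q1Map f (Submodule.Quotient.mk x) = Submodule.Quotient.mk y := by
        rw [hx]
        exact congrArg W4c3biextchow.Hom.cl hφ
      rw [W4c3biextchow.q1Map_mk, eq_comm, ← sub_eq_zero, ← Submodule.Quotient.mk_sub,
        Submodule.Quotient.mk_eq_zero] at h1
      obtain ⟨z, hz⟩ := h1
      exact ⟨x, hd, z, hz⟩
    · intro x _ hy
      obtain ⟨y, hy⟩ := hy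
      let a : W4c3biextchow.Obj C := ⟨0⟩
      let b : W4c3biextchow.Obj C := ⟨x⟩
      let g : (W4c3biextchow.cxFunctor f).obj a ⟶ (W4c3biextchow.cxFunctor f).obj b :=
        ⟨Submodule.Quotient.mk y, by
          rw [W4c3biextchow.delta_mk, hy]
          simp [a, b]⟩
      obtain ⟨φ, -⟩ := hF.map_surjective g
      obtain ⟨z, hz⟩ := Submodule.Quotient.mk_surjective _ (φ : W4c3biextchow.Hom C a b).cl
      refine ⟨z, ?_⟩
      rw [← W4c3biextchow.delta_mk, hz, W4c3biextchow.Hom.delta_cl]
      simp [a, b]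
  · rintro ⟨hE, hM⟩
    refine ⟨fun {a b} g => ?_⟩
    obtain ⟨y, hy⟩ := Submodule.Quotient.mk_surjective _
      (g : W4c3biextchow.Hom D _ _).cl
    have hdy : (D.d 1 0).hom y = (f.f 0).hom (b.pt - a.pt) := by
      rw [← W4c3biextchow.delta_mk, hy, W4c3biextchow.Hom.delta_cl, map_sub]
      rfl
    obtain ⟨z₁, hz₁⟩ := hM (b.pt - a.pt) (by rw [C.shape 0 0 (by simp)]; rfl) ⟨y, hdy⟩
    have hd2 : (D.d 1 0).hom (y - (f.f 1).hom z₁) = 0 := by
      rw [map_sub, hcomm, hz₁, hdy, sub_self]
    obtain ⟨x, hx, z₂, hz₂⟩ := hE _ hd2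
    refine ⟨⟨Submodule.Quotient.mk (z₁ + x), by
      rw [W4c3biextchow.delta_mk, map_add, hz₁, hx, add_zero]⟩, ?_⟩
    apply W4c3biextchow.Hom.ext
    rw [W4c3biextchow.cxFunctor_map_cl]
    change W4c3biextchow.q1Map f (Submodule.Quotient.mk (z₁ + x)) = _
    rw [← hy, W4c3biextchow.q1Map_mk, eq_comm, ← sub_eq_zero, ← Submodule.Quotient.mk_sub,
      Submodule.Quotient.mk_eq_zero]
    refine ⟨z₂, ?_⟩
    rw [hz₂, map_add]
    abel

end Groth.Agent.S16326
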