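import Groth.Statements.S16327
import Mathlib
import Groth.Agent.Lib.Lead.ModHomology

set_option autoImplicit false
universe u v
open CategoryTheory
open W4c3biextchow

namespace Groth.Agent.S16327

/-- Let f : C ⟶ D be a chain map of ℕ-indexed chain complexes of modules over a ring R, and consider the
functor it induces between the groupoids attached to C and D (objects: degree-0 elements; morphisms
a ⟶ b: degree-1 elements with boundary b - a, modulo boundaries of degree-2 elements). This functor
is essentially surjective if and only if f is surjective on homology in degree 0. (The published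
statement is for complexes of abelian groups; this row allows modules over any ring R.) -/
theorem result
    (R : Type u) [Ring R] (C D : ChainComplex (ModuleCat.{v} R) ℕ) (f : C ⟶ D) :
    (W4c3biextchow.cxFunctor f).EssSurj ↔ Epi (HomologicalComplex.homologyMap f 0) := by
  rw [Groth.Agent.Lib.Lead.ModHomology.hc_epi_iff f 1 0 0 (by simp) (by simp)]
  have hC0 : C.d 0 0 = 0 := C.shape _ _ (by simp)
  have hD0 : D.d 0 0 = 0 := D.shape _ _ (by simp)
  constructor
  · intro hF y _
    obtain ⟨a, ⟨e⟩⟩ := hF.mem_essImage (⟨y⟩ : W4c3biextchow.Obj D)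
    obtain ⟨z, hz⟩ := Submodule.Quotient.mk_surjective _ (e.hom : W4c3biextchow.Hom D _ _).cl
    refine ⟨a.pt, by rw [hC0]; rfl, z, ?_⟩
    have := (e.hom : W4c3biextchow.Hom D _ _).delta_cl
    rw [← hz, W4c3biextchow.delta_mk] at this
    exact this
  · intro h
    refine ⟨fun b => ?_⟩
    obtain ⟨x, -, z, hz⟩ := h b.pt (by rw [hD0]; rfl)
    refine ⟨⟨x⟩, ⟨?_⟩⟩
    refine
      { hom := ⟨Submodule.Quotient.mk z, by rw [W4c3biextchow.delta_mk, hz]; rfl⟩
        inv := ⟨-Submodule.Quotient.mk z, by
          rw [map_neg, W4c3biextchow.delta_mk, hz]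
          simp⟩
        hom_inv_id := ?_
        inv_hom_id := ?_ }
    · apply W4c3biextchow.Hom.ext
      rw [W4c3biextchow.comp_cl, W4c3biextchow.id_cl]
      exact add_neg_cancel _
    · apply W4c3biextchow.Hom.ext
      rw [W4c3biextchow.comp_cl, W4c3biextchow.id_cl]
      exact neg_add_cancel _

end Groth.Agent.S16327
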