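import Groth.Statements.S16328
import Groth.Agent.Lib.Helper17.ChainSplit
import Mathlib.Algebra.Homology.ShortComplex.ModuleCat
import Mathlib.Algebra.Category.ModuleCat.Projective

set_option autoImplicit false
universe v
open CategoryTheory
open W4c3biextchow

namespace Groth.Agent.S16328

/-- Let f : A' ⟶ A and p : A ⟶ A'' be chain maps of ℕ-indexed chain complexes of free abelian groups
forming a short exact sequence in every degree (f injective, p surjective, image of f equal to the
kernel of p), and assume f is a quasi-isomorphism. Then there is a chain map h : A'' ⟶ A such that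
in every degree q the map (a'', a') ↦ h(a'') + f(a') is a bijection from A''_q × A'_q onto A_q, so
that A is the direct sum of the subcomplexes f(A') and h(A''). (The source allows complexes indexed
by all integers; stated here for complexes in non-negative degrees.) -/
theorem result
    (A' A A'' : ChainComplex (ModuleCat.{v} ℤ) ℕ) (f : A' ⟶ A) (p : A ⟶ A'')
    [∀ q, Module.Free ℤ (A'.X q)] [∀ q, Module.Free ℤ (A.X q)] [∀ q, Module.Free ℤ (A''.X q)]
    (hf : ∀ q, Function.Injective (f.f q).hom) (hp : ∀ q, Function.Surjective (p.f q).hom)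
    (hfp : ∀ q, Function.Exact (f.f q).hom (p.f q).hom) [QuasiIso f] :
    ∃ h : A'' ⟶ A, ∀ q : ℕ,
      Function.Bijective (fun x : A''.X q × A'.X q => (h.f q).hom x.1 + (f.f q).hom x.2) := by
  have hzero : f ≫ p = 0 := by
    ext q x
    exact (hfp q _).mpr ⟨x, rfl⟩
  let S : ShortComplex (ChainComplex (ModuleCat.{v} ℤ) ℕ) := ShortComplex.mk f p hzero
  have hS : S.ShortExact := HomologicalComplex.shortExact_of_degreewise_shortExact S (fun q =>
    ModuleCat.shortComplex_shortExact _ (hfp q) (hf q) (hp q))
  have hqi : QuasiIso S.f := ‹QuasiIso f›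
  have hproj : ∀ q, Projective (S.X₃.X q) := fun q => by
    show Projective (A''.X q)
    infer_instance
  let σ := Groth.Agent.Lib.Helper17.ChainSplit.splitting S hS
  have hsg : ∀ q (z : A''.X q), (p.f q).hom ((σ.s.f q).hom z) = z := by
    intro q z
    have := congrArg (fun φ : A'' ⟶ A'' => (φ.f q).hom z) σ.s_g
    exact this
  have hid : ∀ q (a : A.X q),
      (f.f q).hom ((σ.r.f q).hom a) + (σ.s.f q).hom ((p.f q).hom a) = a := by
    intro q a
    have := congrArg (fun φ : A ⟶ A => (φ.f q).hom a) σ.id
    exact this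
  have hfp0 : ∀ q (z : A'.X q), (p.f q).hom ((f.f q).hom z) = 0 :=
    fun q z => (hfp q _).mpr ⟨z, rfl⟩
  refine ⟨σ.s, fun q => ⟨?_, ?_⟩⟩
  · rintro ⟨x, y⟩ ⟨x', y'⟩ hxy
    simp only at hxy
    have h1 := congrArg (p.f q).hom hxy
    rw [map_add, map_add, hsg, hsg, hfp0, hfp0, add_zero, add_zero] at h1
    subst h1
    have h2 : y = y' := hf q (add_left_cancel hxy)
    rw [h2]
  · intro a
    refine ⟨((p.f q).hom a, (σ.r.f q).hom a), ?_⟩
    simp only
    rw [add_comm]
    exact hid q a

end Groth.Agent.S16328
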