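import Groth.Statements.S16329
import Groth.Agent.Lib.Helper17.ChainSplit

set_option autoImplicit false
universe v
open CategoryTheory
open W4c3biextchow

namespace Groth.Agent.S16329

/-- Let f : A' ⟶ A be a chain map of ℕ-indexed chain complexes of free abelian groups which is injective
in every degree, whose degreewise quotients A_q / f(A'_q) are free abelian groups, and which is a
quasi-isomorphism. Then there is a chain map g : A ⟶ A' with f ≫ g the identity of A' (a chain-level
inverse of f that restricts to the identity on the subcomplex A'). (The source allows complexes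
indexed by all integers; stated here for complexes in non-negative degrees.) -/
theorem result
    (A' A : ChainComplex (ModuleCat.{v} ℤ) ℕ) (f : A' ⟶ A)
    [∀ q, Module.Free ℤ (A'.X q)] [∀ q, Module.Free ℤ (A.X q)]
    (hf : ∀ q, Function.Injective (f.f q).hom)
    (hq : ∀ q, Module.Free ℤ ((A.X q) ⧸ LinearMap.range (f.f q).hom)) [QuasiIso f] :
    ∃ g : A ⟶ A', f ≫ g = 𝟙 A' := by
  let S : ShortComplex (ChainComplex (ModuleCat.{v} ℤ) ℕ) :=
    ShortComplex.mk f (Limits.cokernel.π f) (Limits.cokernel.condition f)
  have hS : S.ShortExact := Groth.Agent.Lib.Helper17.ChainSplit.shortExact_cokernel f hf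
  have hqi : QuasiIso S.f := ‹QuasiIso f›
  have hproj : ∀ q, Projective (S.X₃.X q) :=
    Groth.Agent.Lib.Helper17.ChainSplit.projective_cokernel_X f hq
  let σ := Groth.Agent.Lib.Helper17.ChainSplit.splitting S hS
  exact ⟨σ.r, σ.f_r⟩

end Groth.Agent.S16329
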