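import Groth.Statements.S16330
import Groth.Agent.Lib.Helper17.ChainSplit

set_option autoImplicit false
universe v
open CategoryTheory
open W4c3biextchow

namespace Groth.Agent.S16330

/-- Let f : A' ⟶ A be a chain map of ℕ-indexed chain complexes of free abelian groups which is injective
in every degree, whose degreewise quotients A_q / f(A'_q) are free abelian groups, and which is a
quasi-isomorphism. Then any two chain maps g₁, g₂ : A ⟶ A' with f ≫ g₁ = f ≫ g₂ = 𝟙 differ by a
null-homotopic map: there is a chain homotopy between g₁ and g₂ all of whose components vanish on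
the image of f (so g₁ - g₂ factors through the quotient complex A / A', and the homotopy does too).
(The source allows complexes indexed by all integers; stated here for complexes in non-negative
degrees.) -/
theorem result
    (A' A : ChainComplex (ModuleCat.{v} ℤ) ℕ) (f : A' ⟶ A)
    [∀ q, Module.Free ℤ (A'.X q)] [∀ q, Module.Free ℤ (A.X q)]
    (hf : ∀ q, Function.Injective (f.f q).hom)
    (hq : ∀ q, Module.Free ℤ ((A.X q) ⧸ LinearMap.range (f.f q).hom)) [QuasiIso f]
    (g₁ g₂ : A ⟶ A') (h₁ : f ≫ g₁ = 𝟙 A') (h₂ : f ≫ g₂ = 𝟙 A') :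
    ∃ H : Homotopy g₁ g₂, ∀ i j : ℕ, f.f i ≫ H.hom i j = 0 := by
  let S : ShortComplex (ChainComplex (ModuleCat.{v} ℤ) ℕ) :=
    ShortComplex.mk f (Limits.cokernel.π f) (Limits.cokernel.condition f)
  have hS : S.ShortExact := Groth.Agent.Lib.Helper17.ChainSplit.shortExact_cokernel f hf
  have hqi : QuasiIso S.f := ‹QuasiIso f›
  have hproj : ∀ q, Projective ((Limits.cokernel f).X q) :=
    Groth.Agent.Lib.Helper17.ChainSplit.projective_cokernel_X f hq
  have hacyc : (Limits.cokernel f).Acyclic := hS.acyclic_X₃ hqi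
  let c := Groth.Agent.Lib.Helper17.ChainSplit.contraction (Limits.cokernel f) hacyc
  have h0 : f ≫ (g₁ - g₂) = 0 := by rw [Preadditive.comp_sub, h₁, h₂, sub_self]
  let φ := Limits.cokernel.desc f (g₁ - g₂) h0
  have hφ : Limits.cokernel.π f ≫ φ = g₁ - g₂ := Limits.cokernel.π_desc _ _ _
  let H₀ : Homotopy (g₁ - g₂) 0 :=
    (Homotopy.ofEq (by rw [Category.id_comp, hφ])).trans
      (((c.compRight φ).compLeft (Limits.cokernel.π f)).trans
        (Homotopy.ofEq (by rw [Limits.zero_comp, Limits.comp_zero])))
  refine ⟨Homotopy.equivSubZero.symm H₀, fun i j => ?_⟩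
  show f.f i ≫ H₀.hom i j = 0
  have hfπ : f.f i ≫ (Limits.cokernel.π f).f i = 0 := by
    rw [← HomologicalComplex.comp_f, Limits.cokernel.condition, HomologicalComplex.zero_f]
  simp only [H₀, Homotopy.trans, Homotopy.ofEq, zero_add, add_zero,
    Homotopy.compLeft, Homotopy.compRight]
  rw [← Category.assoc, hfπ, Limits.zero_comp]

end Groth.Agent.S16330
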