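import Groth.Statements.S16331
import Mathlib
import Groth.Agent.S16326
import Groth.Agent.S16327

set_option autoImplicit false
universe v
open CategoryTheory
open W4c3biextchow

namespace Groth.Agent.S16331
section Aux

variable {R : Type} [Ring R]

theorem q1Map_comp {C D E : ChainComplex (ModuleCat.{v} ℤ) ℕ} (f : C ⟶ D) (g : D ⟶ E) (w : Q1 C) :
    q1Map (f ≫ g) w = q1Map g (q1Map f w) := by
  induction w using Submodule.Quotient.induction_on with
  | H x => simp

theorem q1Map_id {C : ChainComplex (ModuleCat.{v} ℤ) ℕ} (w : Q1 C) :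
    q1Map (𝟙 C) w = w := by
  induction w using Submodule.Quotient.induction_on with
  | H x => simp

end Aux


/-- Let f : A' ⟶ A be a chain map of ℕ-indexed chain complexes of free abelian groups which is injective
in every degree, with free degreewise quotients A_q / f(A'_q), and a quasi-isomorphism; let h' : A'
⟶ B be a chain map to another complex of free abelian groups and g₁, g₂ : A ⟶ A' two chain maps with
f ≫ g₁ = f ≫ g₂ = 𝟙. Consider the functors induced by g₁ ≫ h' and g₂ ≫ h' between the groupoids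
attached to A and B (objects: degree-0 elements; morphisms a ⟶ b: degree-1 elements with boundary b
- a, modulo boundaries of degree-2 elements). Then there is a natural isomorphism between these two
functors whose component at every object of the form f(a'), a' a degree-0 element of A', is the zero
class, i.e. the identity morphism of h'(a'). -/
theorem result
    (A' A B : ChainComplex (ModuleCat.{v} ℤ) ℕ) (f : A' ⟶ A) (h' : A' ⟶ B)
    [∀ q, Module.Free ℤ (A'.X q)] [∀ q, Module.Free ℤ (A.X q)] [∀ q, Module.Free ℤ (B.X q)]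
    (hf : ∀ q, Function.Injective (f.f q).hom)
    (hq : ∀ q, Module.Free ℤ ((A.X q) ⧸ LinearMap.range (f.f q).hom)) [QuasiIso f]
    (g₁ g₂ : A ⟶ A') (h₁ : f ≫ g₁ = 𝟙 A') (h₂ : f ≫ g₂ = 𝟙 A') :
    ∃ N : W4c3biextchow.cxFunctor (g₁ ≫ h') ≅ W4c3biextchow.cxFunctor (g₂ ≫ h'),
      ∀ a : W4c3biextchow.Obj A',
        (N.hom.app ((W4c3biextchow.cxFunctor f).obj a) : W4c3biextchow.Hom B _ _).cl = 0 := by
  classical
  have hiso : ∀ i, IsIso (HomologicalComplex.homologyMap f i) := fun i => inferInstance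
  have hfull : (cxFunctor f).Full :=
    (Groth.Agent.S16326.result ℤ A' A f).2 ⟨inferInstance, inferInstance⟩
  have hess : (cxFunctor f).EssSurj :=
    (Groth.Agent.S16327.result ℤ A' A f).2 inferInstance
  -- the difference map
  let D : Q1 A → Q1 B := fun u => q1Map (g₂ ≫ h') u - q1Map (g₁ ≫ h') u
  have hDadd : ∀ u v : Q1 A, D (u + v) = D u + D v := by
    intro u v
    simp only [D, map_add]; abel
  have hDsub : ∀ u v : Q1 A, D (u - v) = D u - D v := by
    intro u v
    simp only [D, map_sub]; abel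
  have hD : ∀ v : Q1 A', D (q1Map f v) = 0 := by
    intro v
    simp only [D]
    rw [← q1Map_comp, ← q1Map_comp, ← Category.assoc, ← Category.assoc, h₁, h₂, sub_self]
  -- choices
  have hch : ∀ a : Obj A, ∃ (a' : Obj A') , Nonempty ((cxFunctor f).obj a' ⟶ a) := by
    intro a
    obtain ⟨a', ⟨e⟩⟩ := hess.mem_essImage a
    exact ⟨a', ⟨e.hom⟩⟩
  choose c hc using hch
  let w : ∀ a : Obj A, Hom A ((cxFunctor f).obj (c a)) a := fun a => (hc a).some
  have hfa : ∀ x : A'.X 0, (g₁.f 0).hom ((f.f 0).hom x) = x := by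
    intro x
    have := congrArg (fun φ => (φ.f 0).hom x) h₁
    simpa using this
  have hfa2 : ∀ x : A'.X 0, (g₂.f 0).hom ((f.f 0).hom x) = x := by
    intro x
    have := congrArg (fun φ => (φ.f 0).hom x) h₂
    simpa using this
  -- key vanishing: D kills morphisms between objects in the image
  have hkill : ∀ (u : Q1 A) (x y : A'.X 0), delta A u = (f.f 0).hom y - (f.f 0).hom x → D u = 0 := by
    intro u x y hu
    let φ : (cxFunctor f).obj ⟨x⟩ ⟶ (cxFunctor f).obj ⟨y⟩ := (⟨u, by simpa using hu⟩ : Hom A _ _)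
    obtain ⟨ψ, hψ⟩ := (cxFunctor f).map_surjective φ
    have : u = q1Map f (ψ : Hom A' _ _).cl := by
      have := congrArg (fun θ : Hom A _ _ => θ.cl) hψ
      simpa [φ] using this.symm
    rw [this, hD]
  -- the components
  have hdel : ∀ a : Obj A, delta B (D (w a).cl) =
      ((cxFunctor (g₂ ≫ h')).obj a).pt - ((cxFunctor (g₁ ≫ h')).obj a).pt := by
    intro a
    simp only [D, map_sub, delta_q1Map, (w a).delta_cl, cxFunctor_obj_pt,
      HomologicalComplex.comp_f, ModuleCat.hom_comp, LinearMap.comp_apply, hfa, hfa2]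
    abel
  let Nhom : ∀ a : Obj A, (cxFunctor (g₁ ≫ h')).obj a ⟶ (cxFunctor (g₂ ≫ h')).obj a :=
    fun a => (⟨D (w a).cl, hdel a⟩ : Hom B _ _)
  let Ninv : ∀ a : Obj A, (cxFunctor (g₂ ≫ h')).obj a ⟶ (cxFunctor (g₁ ≫ h')).obj a :=
    fun a => (⟨- D (w a).cl, by rw [map_neg, hdel a]; abel⟩ : Hom B _ _)
  have hnat : ∀ (a b : Obj A) (φ : a ⟶ b),
      (cxFunctor (g₁ ≫ h')).map φ ≫ Nhom b = Nhom a ≫ (cxFunctor (g₂ ≫ h')).map φ := by
    intro a b φ
    apply Hom.ext
    simp only [comp_cl, cxFunctor_map_cl, Nhom]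
    have hk := hkill ((w a).cl + (φ : Hom A a b).cl - (w b).cl) (c a).pt (c b).pt (by
      rw [map_sub, map_add, (w a).delta_cl, (w b).delta_cl, (φ : Hom A a b).delta_cl]
      simp only [cxFunctor_obj_pt]
      abel)
    rw [hDsub, hDadd] at hk
    have hDφ : D (φ : Hom A a b).cl = q1Map (g₂ ≫ h') (φ : Hom A a b).cl -
        q1Map (g₁ ≫ h') (φ : Hom A a b).cl := rfl
    rw [hDφ] at hk
    have : q1Map (g₁ ≫ h') (φ : Hom A a b).cl + D (w b).cl -
        (D (w a).cl + q1Map (g₂ ≫ h') (φ : Hom A a b).cl) = 0 := by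
      rw [← neg_eq_zero, ← hk]; abel
    exact sub_eq_zero.1 this
  refine ⟨NatIso.ofComponents (fun a => ⟨Nhom a, Ninv a, ?_, ?_⟩) (fun {a b} φ => hnat a b φ), ?_⟩
  · apply Hom.ext; simp [Nhom, Ninv]
  · apply Hom.ext; simp [Nhom, Ninv]
  · intro a
    simp only [NatIso.ofComponents_hom_app, Nhom]
    exact hkill _ (c ((cxFunctor f).obj a)).pt a.pt (by
      rw [(w ((cxFunctor f).obj a)).delta_cl]; simp)

end Groth.Agent.S16331
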