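import Groth.Statements.S16332
import Mathlib
import Groth.Agent.Lib.Helper28.TensorCxDown
import Groth.Agent.Lib.Lead.ModHomology
import Groth.Agent.Lib.Helper28.TensorCxKFlat

set_option autoImplicit false
universe v
open CategoryTheory MonoidalCategory
open W4c3biextchow

namespace Groth.Agent.S16332

open Groth.Agent.Lib.Helper28.TensorCxDown Groth.Agent.Lib.Lead.ModHomology in
theorem facts (R : Type v) [CommRing R] (P : ChainComplex (ModuleCat.{v} R) ℕ) (G : ModuleCat.{v} R)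
    (π : P ⟶ (ChainComplex.single₀ (ModuleCat.{v} R)).obj G) [QuasiIso π] :
    Function.Surjective (π.f 0).hom ∧
    (∀ x : P.X 0, (π.f 0).hom x = 0 → ∃ z : P.X 1, (P.d 1 0).hom z = x) ∧
    (∀ x : P.X 1, (P.d 1 0).hom x = 0 → ∃ z : P.X 2, (P.d 2 1).hom z = x) := by
  have hz1 : Limits.IsZero (((ChainComplex.single₀ (ModuleCat.{v} R)).obj G).X 1) :=
    HomologicalComplex.isZero_single_obj_X _ _ _ _ (by simp)
  have hz2 : Limits.IsZero (((ChainComplex.single₀ (ModuleCat.{v} R)).obj G).X 2) :=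
    HomologicalComplex.isZero_single_obj_X _ _ _ _ (by simp)
  have s1 : Subsingleton (((ChainComplex.single₀ (ModuleCat.{v} R)).obj G).X 1) :=
    ModuleCat.subsingleton_of_isZero hz1
  have s2 : Subsingleton (((ChainComplex.single₀ (ModuleCat.{v} R)).obj G).X 2) :=
    ModuleCat.subsingleton_of_isZero hz2
  have hm0 : Mono (HomologicalComplex.homologyMap π 0) := inferInstance
  have he0 : Epi (HomologicalComplex.homologyMap π 0) := inferInstance
  have hm1 : Mono (HomologicalComplex.homologyMap π 1) := inferInstance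
  rw [hc_mono_iff π 1 0 0 (by simp) (by simp)] at hm0
  rw [hc_epi_iff π 1 0 0 (by simp) (by simp)] at he0
  rw [hc_mono_iff π 2 1 0 (by simp) (by simp)] at hm1
  refine ⟨?_, ?_, ?_⟩
  · intro y
    obtain ⟨x, -, z, hz⟩ := he0 y (by rw [HomologicalComplex.shape _ 0 0 (by simp)]; rfl)
    refine ⟨x, ?_⟩
    have : z = 0 := Subsingleton.elim _ _
    rw [this, map_zero] at hz
    exact (sub_eq_zero.1 hz.symm).symm
  · intro x hx
    exact hm0 x (by rw [HomologicalComplex.shape _ 0 0 (by simp)]; rfl) ⟨0, by rw [map_zero, hx]⟩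
  · intro x hx
    exact hm1 x hx ⟨0, by rw [map_zero]; exact Subsingleton.elim _ _⟩

open Groth.Agent.Lib.Helper28.TensorCxDown Groth.Agent.Lib.Lead.ModHomology in
theorem main (R : Type v) [CommRing R] (C P : ChainComplex (ModuleCat.{v} R) ℕ) (G : ModuleCat.{v} R)
    [Module.Free R (C.X 0)]
    (p : P ⟶ (ChainComplex.single₀ (ModuleCat.{v} R)).obj G) [QuasiIso p] :
    IsIso (HomologicalComplex.homologyMap (C ◁ p) 1) := by
  obtain ⟨hsurj, hker, hex1⟩ := facts R P G p
  have hz1 : Limits.IsZero (((ChainComplex.single₀ (ModuleCat.{v} R)).obj G).X 1) :=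
    HomologicalComplex.isZero_single_obj_X _ _ _ _ (by simp)
  have hz2 : Limits.IsZero (((ChainComplex.single₀ (ModuleCat.{v} R)).obj G).X 2) :=
    HomologicalComplex.isZero_single_obj_X _ _ _ _ (by simp)
  have ss1 : ∀ a, Subsingleton
      (C.X a ⊗ ((ChainComplex.single₀ (ModuleCat.{v} R)).obj G).X 1 : ModuleCat.{v} R) := fun a =>
    ModuleCat.subsingleton_of_isZero (Groth.Agent.Lib.Helper28.TensorCx.isZero_tensor_of_isZero_right _ _ hz1)
  have ss2 : ∀ a, Subsingleton
      (C.X a ⊗ ((ChainComplex.single₀ (ModuleCat.{v} R)).obj G).X 2 : ModuleCat.{v} R) := fun a =>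
    ModuleCat.subsingleton_of_isZero (Groth.Agent.Lib.Helper28.TensorCx.isZero_tensor_of_isZero_right _ _ hz2)
  have hpd : ∀ z : P.X 1, (p.f 0).hom ((P.d 1 0).hom z) = 0 := by
    intro z
    have h2 := congrArg (fun f => f.hom z) (p.comm 1 0)
    refine h2.symm.trans ?_
    have : (p.f 1).hom z = 0 := (ModuleCat.subsingleton_of_isZero hz1).elim _ _
    change (((ChainComplex.single₀ (ModuleCat.{v} R)).obj G).d 1 0).hom ((p.f 1).hom z) = 0
    rw [this, map_zero]
  have hexact0 : Function.Exact (P.d 1 0).hom (p.f 0).hom := by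
    intro x
    constructor
    · intro hx
      exact hker x hx
    · rintro ⟨z, rfl⟩
      exact hpd z
  have hexact1 : Function.Exact (P.d 2 1).hom (P.d 1 0).hom := by
    intro x
    constructor
    · intro hx
      exact hex1 x hx
    · rintro ⟨z, rfl⟩
      exact congrArg (fun f => f.hom z) (P.d_comp_d 2 1 0)
  have hT1 : ∀ a, Function.Exact (C.X a ◁ P.d 1 0).hom (C.X a ◁ p.f 0).hom := fun a =>
    lTensor_exact (C.X a) hexact0 hsurj
  have hT1s : ∀ a, Function.Surjective (C.X a ◁ p.f 0).hom := fun a =>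
    LinearMap.lTensor_surjective _ hsurj
  have hT2 : Function.Exact (C.X 0 ◁ P.d 2 1).hom (C.X 0 ◁ P.d 1 0).hom :=
    Module.Flat.lTensor_exact (C.X 0) hexact1
  have hexch : ∀ (a a' : ℕ) {X Y : ModuleCat.{v} R} (g : X ⟶ Y) (y : (C.X a ⊗ X : ModuleCat.{v} R)),
      (C.X a' ◁ g).hom ((C.d a a' ▷ X).hom y) = (C.d a a' ▷ Y).hom ((C.X a ◁ g).hom y) := by
    intro a a' X Y g y
    exact (congrArg (fun f => f.hom y) (whisker_exchange (C.d a a') g)).symm
  have hmono : Mono (HomologicalComplex.homologyMap (C ◁ p) 1) := by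
    rw [hc_mono_iff (C ◁ p) 2 1 0 (by simp) (by simp)]
    intro x hx hy
    obtain ⟨y, hy⟩ := hy
    obtain ⟨x₁, x₂, rfl⟩ : ∃ x₁ x₂, x = ι C P 1 1 0 rfl x₁ + ι C P 1 0 1 rfl x₂ :=
      ⟨_, _, eq_add_one C P x⟩
    obtain ⟨y₁, y₂, y₃, rfl⟩ : ∃ y₁ y₂ y₃, y = ι C _ 2 2 0 rfl y₁ + ι C _ 2 1 1 rfl y₂ +
        ι C _ 2 0 2 rfl y₃ := ⟨_, _, _, eq_add_two C _ y⟩
    have hy₂ : y₂ = 0 := (ss1 1).elim _ _
    have hy₃ : y₃ = 0 := (ss2 0).elim _ _
    rw [hy₂, hy₃, map_zero, map_zero, add_zero, add_zero] at hy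
    change ((HomologicalComplex.tensorObj C _).d 2 1).hom _ = _ at hy
    rw [d_ι_snd_zero C _ 2 1 2 1 rfl rfl rfl, map_add, whiskerLeft_ι, whiskerLeft_ι] at hy
    have hy' := congrArg (Groth.Agent.Lib.Helper28.TensorCxDown.π C _ 1 1 0 rfl) hy
    rw [π_ι_self, map_add, π_ι_self, π_ι_ne C _ 1 0 1 rfl 1 0 rfl (by simp), add_zero] at hy'
    obtain ⟨u', hu'⟩ := hT1s 2 y₁
    have h1 : (C.X 1 ◁ p.f 0).hom (x₁ - (C.d 2 1 ▷ P.X 0).hom u') = 0 := by
      rw [map_sub, hexch, hu', hy', sub_self]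
    obtain ⟨v, hv⟩ := (hT1 1 _).1 h1
    have hx' : ((HomologicalComplex.tensorObj C P).d 1 0).hom
        (ι C P 1 1 0 rfl x₁ + ι C P 1 0 1 rfl x₂) = 0 := hx
    have hz0 : ((HomologicalComplex.tensorObj C P).d 2 1).hom
        (ι C P 2 2 0 rfl u' - ι C P 2 1 1 rfl v) =
        ι C P 1 1 0 rfl x₁ - ι C P 1 0 1 rfl ((C.d 1 0 ▷ P.X 1).hom v) := by
      rw [map_sub, d_ι_snd_zero C P 2 1 2 1 rfl rfl rfl, d_ι C P 2 1 1 1 0 0 rfl rfl rfl rfl, hv,
        pow_one, Units.smul_def, Units.val_neg, Units.val_one, neg_one_zsmul, map_sub]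
      abel
    have hdd : ∀ z, ((HomologicalComplex.tensorObj C P).d 1 0).hom
        (((HomologicalComplex.tensorObj C P).d 2 1).hom z) = 0 := fun z =>
      congrArg (fun f => f.hom z) ((HomologicalComplex.tensorObj C P).d_comp_d 2 1 0)
    have hw : (C.X 0 ◁ P.d 1 0).hom (x₂ + (C.d 1 0 ▷ P.X 1).hom v) = 0 := by
      have e1 : ι C P 1 0 1 rfl (x₂ + (C.d 1 0 ▷ P.X 1).hom v) =
          (ι C P 1 1 0 rfl x₁ + ι C P 1 0 1 rfl x₂) -
            ((HomologicalComplex.tensorObj C P).d 2 1).hom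
              (ι C P 2 2 0 rfl u' - ι C P 2 1 1 rfl v) := by
        rw [hz0, map_add]
        abel
      have e2 := congrArg ((HomologicalComplex.tensorObj C P).d 1 0).hom e1
      rw [map_sub, hx', hdd, sub_zero, d_ι_fst_zero C P 1 0 1 0 rfl rfl rfl] at e2
      have e3 := congrArg (Groth.Agent.Lib.Helper28.TensorCxDown.π C P 0 0 0 rfl) e2
      rw [π_ι_self, map_zero] at e3
      exact e3
    obtain ⟨t, ht⟩ := (hT2 _).1 hw
    refine ⟨ι C P 2 2 0 rfl u' - ι C P 2 1 1 rfl v + ι C P 2 0 2 rfl t, ?_⟩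
    change ((HomologicalComplex.tensorObj C P).d 2 1).hom _ = _
    rw [map_add, hz0, d_ι_fst_zero C P 2 1 2 1 rfl rfl rfl, ht, map_add]
    abel
  have hepi : Epi (HomologicalComplex.homologyMap (C ◁ p) 1) := by
    rw [hc_epi_iff (C ◁ p) 2 1 0 (by simp) (by simp)]
    intro y hy
    obtain ⟨y₁, y₂, rfl⟩ : ∃ y₁ y₂, y = ι C _ 1 1 0 rfl y₁ + ι C _ 1 0 1 rfl y₂ :=
      ⟨_, _, eq_add_one C _ y⟩
    have hy₂ : y₂ = 0 := (ss1 0).elim _ _
    rw [hy₂, map_zero, add_zero] at hy ⊢
    change ((HomologicalComplex.tensorObj C _).d 1 0).hom _ = _ at hy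
    rw [d_ι_snd_zero C _ 1 0 1 0 rfl rfl rfl] at hy
    have hy' := congrArg (Groth.Agent.Lib.Helper28.TensorCxDown.π C _ 0 0 0 rfl) hy
    rw [π_ι_self, map_zero] at hy'
    obtain ⟨x₁, hx₁⟩ := hT1s 1 y₁
    have h1 : (C.X 0 ◁ p.f 0).hom ((C.d 1 0 ▷ P.X 0).hom x₁) = 0 := by
      rw [hexch, hx₁, hy']
    obtain ⟨w, hw⟩ := (hT1 0 _).1 h1
    refine ⟨ι C P 1 1 0 rfl x₁ - ι C P 1 0 1 rfl w, ?_, 0, ?_⟩
    · change ((HomologicalComplex.tensorObj C P).d 1 0).hom _ = 0
      rw [map_sub, d_ι_snd_zero C P 1 0 1 0 rfl rfl rfl, d_ι_fst_zero C P 1 0 1 0 rfl rfl rfl, hw,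
        sub_self]
    · rw [map_zero, map_sub, whiskerLeft_ι, whiskerLeft_ι, hx₁]
      have : (C.X 0 ◁ p.f 1).hom w = 0 := (ss1 0).elim _ _
      rw [this, map_zero, sub_zero, sub_self]
  exact isIso_of_mono_of_epi _

/-- Let R be a commutative ring, C an ℕ-indexed chain complex of R-modules whose degree-0 term C_0 is a
free R-module, G an R-module, and π : P ⟶ G[0] a quasi-isomorphism from an ℕ-indexed chain complex P
of free R-modules onto G placed in degree 0 (a free resolution of G), so that the tensor product of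
complexes C ⊗ P represents the derived tensor product of C and G. Then the map induced by π on first
homology, H_1(C ⊗ P) → H_1(C ⊗ G[0]), is an isomorphism: in degree 1 the derived and the plain
tensor product with G have the same homology. (The published statement is over the integers, for
complexes vanishing in negative degrees with C_0 free abelian; this row allows any commutative ring
R and R-modules in the same universe as R.) -/
theorem result
    (R : Type v) [CommRing R] (C P : ChainComplex (ModuleCat.{v} R) ℕ) (G : ModuleCat.{v} R)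
    [Module.Free R (C.X 0)] [∀ q, Module.Free R (P.X q)]
    (π : P ⟶ (ChainComplex.single₀ (ModuleCat.{v} R)).obj G) [QuasiIso π] :
    IsIso (HomologicalComplex.homologyMap (C ◁ π) 1) := by
  exact main R C P G π

end Groth.Agent.S16332
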