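import Groth.Statements.S16335
import Mathlib.LinearAlgebra.TensorProduct.Basic
import Mathlib.LinearAlgebra.TensorProduct.Associator
import Mathlib.Algebra.BigOperators.GroupWithZero.Action
import Mathlib.Algebra.Module.BigOperators
import Mathlib.Data.Fintype.BigOperators

set_option autoImplicit false
universe u v w w'
open TensorProduct
open InvTh

namespace Groth.Agent.S16335

/-- Let `R` be a commutative ring with an action of a finite group `Γ` by ring automorphisms such that
the order of `Γ` is invertible in `R`, and let `A → R` be injective with image exactly the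
invariants `R^Γ`, the action being `A`-linear. Then for every commutative `A`-algebra `S`, with `Γ`
acting on `S ⊗_A R` through the factor `R`, the map `S → S ⊗_A R`, `s ↦ s ⊗ 1`, is injective and its
image is exactly the set of `Γ`-fixed elements: `S ≅ (S ⊗_A R)^Γ`. No flatness of `S` over `A` is
assumed; the invertibility of the order of `Γ` replaces it. This is the affine statement that for a
tame quotient the coarse space commutes with arbitrary base change. (The published lemma is the
statement that the coarse moduli space of a tame Deligne–Mumford stack commutes with arbitrary base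
change, whose proof reduces to this ring statement. The published lemma also asserts the analogous
statement for the reduced fibre product when the base-change scheme is reduced; that clause is not
part of this row.) -/
theorem result
    (A : Type u) [CommRing A] (R : Type v) [CommRing R] [Algebra A R]
    (Γ : Type w) [Group Γ] [Finite Γ] [MulSemiringAction Γ R] [SMulCommClass Γ A R]
    [Algebra.IsInvariant A R Γ] (hinj : Function.Injective (algebraMap A R))
    (hΓ : IsUnit (Nat.card Γ : R))
    (S : Type w') [CommRing S] [Algebra A S] :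
    Function.Injective (fun s : S => s ⊗ₜ[A] (1 : R)) ∧
      ∀ x : S ⊗[A] R,
        (∀ γ : Γ, Algebra.TensorProduct.map (AlgHom.id A S) (MulSemiringAction.toAlgHom A R γ) x = x) →
          x ∈ Set.range (fun s : S => s ⊗ₜ[A] (1 : R)) := by
  classical
  let _ : Fintype Γ := Fintype.ofFinite Γ
  have hcard : Nat.card Γ = Fintype.card Γ := Nat.card_eq_fintype_card
  set n : ℕ := Nat.card Γ with hn
  obtain ⟨v, hv⟩ := hΓ
  have hnat : ∀ γ : Γ, γ • ((n : ℕ) : R) = (n : R) := fun γ =>
    map_natCast (MulSemiringAction.toRingHom Γ R γ) n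
  have hvinv : ∀ γ : Γ, γ • (↑v⁻¹ : R) = ↑v⁻¹ := by
    intro γ
    have h1 : γ • (↑v⁻¹ : R) * (n : R) = 1 := by
      rw [← hnat γ, ← smul_mul', ← hv, Units.inv_mul, smul_one]
    have h2 : (↑v⁻¹ : R) * (n : R) = 1 := by rw [← hv, Units.inv_mul]
    calc γ • (↑v⁻¹ : R) = γ • (↑v⁻¹ : R) * ((n : R) * ↑v⁻¹) := by
            rw [← hv, Units.mul_inv, mul_one]
      _ = (γ • (↑v⁻¹ : R) * (n : R)) * ↑v⁻¹ := by rw [mul_assoc]
      _ = ↑v⁻¹ := by rw [h1, one_mul]
  obtain ⟨u, hu⟩ := Algebra.IsInvariant.isInvariant (A := A) (G := Γ) (↑v⁻¹ : R) hvinv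
  have hun : u * (n : A) = 1 := by
    apply hinj
    rw [map_mul, hu, map_natCast, map_one, ← hv, Units.inv_mul]
  -- the averaging operator
  let σ : R →ₗ[A] R := ∑ γ : Γ, (MulSemiringAction.toAlgHom A R γ).toLinearMap
  let ρ' : R →ₗ[A] R := u • σ
  have hσ : ∀ r, σ r = ∑ γ : Γ, γ • r := by
    intro r
    simp only [σ, LinearMap.sum_apply]
    rfl
  have hρ' : ∀ r, ρ' r = algebraMap A R u * ∑ γ : Γ, γ • r := by
    intro r
    show (u • σ) r = _
    rw [LinearMap.smul_apply, hσ, Algebra.smul_def]
  have hρ'inv : ∀ r (γ : Γ), γ • ρ' r = ρ' r := by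
    intro r γ
    rw [hρ', smul_mul', smul_algebraMap, Finset.smul_sum]
    congr 1
    simp_rw [← mul_smul]
    exact Fintype.sum_bijective (fun δ => γ * δ) (Group.mulLeft_bijective γ) _ _ (fun _ => rfl)
  have hρ'range : ∀ r, ∃ a, algebraMap A R a = ρ' r := fun r =>
    Algebra.IsInvariant.isInvariant (A := A) (G := Γ) _ (hρ'inv r)
  choose ρf hρf using hρ'range
  let ρ : R →ₗ[A] A :=
    { toFun := ρf
      map_add' := by
        intro a b
        apply hinj
        rw [map_add, hρf, hρf, hρf, map_add]
      map_smul' := by
        intro c a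
        apply hinj
        rw [hρf, map_smul, RingHom.id_apply, Algebra.smul_def, Algebra.smul_def, map_mul, hρf]
        rfl }
  have hρapp : ∀ r, algebraMap A R (ρ r) = ρ' r := hρf
  have hρι : ∀ a, ρ (algebraMap A R a) = a := by
    intro a
    apply hinj
    rw [hρapp, hρ']
    simp_rw [smul_algebraMap]
    rw [Finset.sum_const, Finset.card_univ, ← hcard, nsmul_eq_mul, ← map_natCast (algebraMap A R),
      ← map_mul, ← map_mul, ← mul_assoc, hun, one_mul]
  have hρ'comp : ρ' = (Algebra.linearMap A R) ∘ₗ ρ := by
    ext r
    simp only [LinearMap.comp_apply, Algebra.linearMap_apply, hρapp]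
  constructor
  · have hleft : Function.LeftInverse
        (fun y : S ⊗[A] R => TensorProduct.rid A S (LinearMap.lTensor S ρ y))
        (fun s : S => s ⊗ₜ[A] (1 : R)) := by
      intro s
      simp only [LinearMap.lTensor_tmul, TensorProduct.rid_tmul]
      have : ρ (1 : R) = 1 := by rw [← map_one (algebraMap A R), hρι]
      rw [this, one_smul]
    exact hleft.injective
  · intro x hx
    refine ⟨TensorProduct.rid A S (LinearMap.lTensor S ρ x), ?_⟩
    have hmap : ∀ γ : Γ, LinearMap.lTensor S (MulSemiringAction.toAlgHom A R γ).toLinearMap x = x := by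
      intro γ
      have h := hx γ
      have heq : ∀ y : S ⊗[A] R, LinearMap.lTensor S (MulSemiringAction.toAlgHom A R γ).toLinearMap y =
          Algebra.TensorProduct.map (AlgHom.id A S) (MulSemiringAction.toAlgHom A R γ) y := by
        intro y
        induction y using TensorProduct.induction_on with
        | zero => simp
        | tmul a b => simp
        | add a b ha hb => rw [map_add, map_add, ha, hb]
      rw [heq, h]
    have h1 : LinearMap.lTensor S ρ' x = x := by
      have : LinearMap.lTensor S ρ' = u • ∑ γ : Γ,
          LinearMap.lTensor S (MulSemiringAction.toAlgHom A R γ).toLinearMap := by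
        rw [← LinearMap.coe_lTensorHom]
        simp only [ρ', σ, map_smul, map_sum]
      rw [this, LinearMap.smul_apply, LinearMap.sum_apply]
      simp_rw [hmap]
      rw [Finset.sum_const, Finset.card_univ, ← hcard, ← Nat.cast_smul_eq_nsmul A, ← mul_smul,
        hun, one_smul]
    show TensorProduct.rid A S (LinearMap.lTensor S ρ x) ⊗ₜ[A] (1 : R) = x
    conv_rhs => rw [← h1, hρ'comp, LinearMap.lTensor_comp, LinearMap.comp_apply]
    set y := LinearMap.lTensor S ρ x with hy
    have hy' : y = (TensorProduct.rid A S y) ⊗ₜ[A] (1 : A) := by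
      rw [← TensorProduct.rid_symm_apply, LinearEquiv.symm_apply_apply]
    conv_rhs => rw [hy', LinearMap.lTensor_tmul, Algebra.linearMap_apply, map_one]

end Groth.Agent.S16335
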