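import Groth.Statements.S16337
import Mathlib

set_option autoImplicit false
universe u v w
open InvTh

namespace Groth.Agent.S16337

/-- Let `A` be a commutative ring, `Γ` a finite group whose order is invertible in `A`, `M` an
`A`-module with an `A`-linear action of `Γ`, and `I` an ideal of `A`. Then reduction modulo `I`
induces a bijection `M^Γ / I·M^Γ ≅ (M / IM)^Γ`: (a) an element of `M` fixed by `Γ` modulo `IM` is
congruent modulo `IM` to a `Γ`-fixed element, and (b) a `Γ`-fixed element lying in `IM` lies in
`I·M^Γ`, where `M^Γ` is the submodule of `Γ`-fixed elements. (The published lemma says that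
push-forward to the coarse space of a tame stack over a complete local base commutes with reduction
modulo powers of the maximal ideal; this row is the module statement its proof establishes, for an
arbitrary ideal.) -/
theorem result
    (A : Type u) [CommRing A] (Γ : Type v) [Group Γ] [Finite Γ] (hΓ : IsUnit (Nat.card Γ : A))
    (M : Type w) [AddCommGroup M] [Module A M] [DistribMulAction Γ M] [SMulCommClass Γ A M]
    (I : Ideal A) :
    (∀ x : M, (∀ γ : Γ, γ • x - x ∈ I • (⊤ : Submodule A M)) →
        ∃ y : M, (∀ γ : Γ, γ • y = y) ∧ x - y ∈ I • (⊤ : Submodule A M)) ∧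
      ∀ y : M, (∀ γ : Γ, γ • y = y) → y ∈ I • (⊤ : Submodule A M) →
        y ∈ I • Submodule.span A {m : M | ∀ γ : Γ, γ • m = m} := by
  classical
  have : Fintype Γ := Fintype.ofFinite Γ
  obtain ⟨u, hu⟩ := hΓ.exists_left_inv
  let avg : M →ₗ[A] M := u • ∑ γ : Γ, DistribSMul.toLinearMap A M γ
  have avg_apply : ∀ m, avg m = u • ∑ γ : Γ, γ • m := by
    intro m
    simp [avg, LinearMap.sum_apply, DistribSMul.toLinearMap_apply]
  have avg_fixed : ∀ m (γ : Γ), γ • avg m = avg m := by
    intro m γ
    rw [avg_apply, smul_comm, Finset.smul_sum]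
    congr 1
    simp_rw [← mul_smul]
    exact Fintype.sum_equiv (Equiv.mulLeft γ) _ _ (fun _ => rfl)
  have avg_of_fixed : ∀ m, (∀ γ : Γ, γ • m = m) → avg m = m := by
    intro m hm
    rw [avg_apply]
    simp_rw [hm]
    rw [Finset.sum_const, Finset.card_univ, ← Nat.card_eq_fintype_card, ← Nat.cast_smul_eq_nsmul A,
      smul_smul, hu, one_smul]
  refine ⟨?_, ?_⟩
  · intro x hx
    refine ⟨avg x, avg_fixed x, ?_⟩
    have h1 : x - avg x = u • ∑ γ : Γ, (x - γ • x) := by
      rw [Finset.sum_sub_distrib, smul_sub, ← avg_apply, Finset.sum_const, Finset.card_univ,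
        ← Nat.card_eq_fintype_card, ← Nat.cast_smul_eq_nsmul A, smul_smul, hu, one_smul]
    rw [h1]
    refine Submodule.smul_mem _ _ (Submodule.sum_mem _ fun γ _ => ?_)
    have := Submodule.neg_mem _ (hx γ)
    simpa using this
  · intro y hy hyI
    rw [← avg_of_fixed y hy]
    have h2 : avg y ∈ (I • (⊤ : Submodule A M)).map avg := Submodule.mem_map_of_mem hyI
    rw [Submodule.map_smul''] at h2
    refine Submodule.smul_mono le_rfl ?_ h2
    rintro _ ⟨m, -, rfl⟩
    exact Submodule.subset_span (avg_fixed m)

end Groth.Agent.S16337
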