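import Groth.Statements.S16343
import Mathlib

set_option autoImplicit false
open KatoHom

namespace Groth.Agent.S16343



namespace KH

def IsPNum (P : Set ℕ) (n : ℕ) : Prop := 0 < n ∧ ∀ p : ℕ, p.Prime → p ∣ n → p ∈ P
def IsQNum (P : Set ℕ) (n : ℕ) : Prop := 0 < n ∧ ∀ p : ℕ, p.Prime → p ∣ n → p ∉ P

theorem IsPNum.mul {P : Set ℕ} {a b : ℕ} (ha : IsPNum P a) (hb : IsPNum P b) : IsPNum P (a * b) :=
  ⟨Nat.mul_pos ha.1 hb.1, fun p hp hd => (hp.dvd_mul.mp hd).elim (ha.2 p hp) (hb.2 p hp)⟩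

theorem IsQNum.mul {P : Set ℕ} {a b : ℕ} (ha : IsQNum P a) (hb : IsQNum P b) : IsQNum P (a * b) :=
  ⟨Nat.mul_pos ha.1 hb.1, fun p hp hd => (hp.dvd_mul.mp hd).elim (ha.2 p hp) (hb.2 p hp)⟩

theorem exists_factor (P : Set ℕ) : ∀ N : ℕ, N ≠ 0 → ∃ n m, N = n * m ∧ IsPNum P n ∧ IsQNum P m := by
  classical
  intro N
  induction N using Nat.recOnMul with
  | zero => intro h; exact absurd rfl h
  | one =>
    intro _
    exact ⟨1, 1, rfl, ⟨Nat.one_pos, fun p hp hd => absurd (Nat.dvd_one.mp hd) hp.ne_one⟩,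
      ⟨Nat.one_pos, fun p hp hd => absurd (Nat.dvd_one.mp hd) hp.ne_one⟩⟩
  | prime p hp =>
    intro _
    by_cases hpP : p ∈ P
    · refine ⟨p, 1, (mul_one p).symm, ⟨hp.pos, fun q hq hd => ?_⟩,
        ⟨Nat.one_pos, fun q hq hd => absurd (Nat.dvd_one.mp hd) hq.ne_one⟩⟩
      rw [(Nat.prime_dvd_prime_iff_eq hq hp).mp hd]
      exact hpP
    · refine ⟨1, p, (one_mul p).symm,
        ⟨Nat.one_pos, fun q hq hd => absurd (Nat.dvd_one.mp hd) hq.ne_one⟩, ⟨hp.pos, fun q hq hd => ?_⟩⟩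
      rw [(Nat.prime_dvd_prime_iff_eq hq hp).mp hd]
      exact hpP
  | mul a b iha ihb =>
    intro hab
    obtain ⟨n₁, m₁, h1, hn₁, hm₁⟩ := iha (fun h => hab (by rw [h, zero_mul]))
    obtain ⟨n₂, m₂, h2, hn₂, hm₂⟩ := ihb (fun h => hab (by rw [h, mul_zero]))
    exact ⟨n₁ * n₂, m₁ * m₂, by rw [h1, h2]; ring, hn₁.mul hn₂, hm₁.mul hm₂⟩

theorem coprime_of {P : Set ℕ} {n m : ℕ} (hn : IsPNum P n) (hm : IsQNum P m) : Nat.Coprime n m := by
  apply Nat.coprime_of_dvd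
  intro k hk hkn hkm
  exact hm.2 k hk hkm (hn.2 k hk hkn)

theorem bezout {n m : ℕ} (h : Nat.Coprime n m) : ∃ b c : ℤ, b * n + c * m = 1 := by
  have h1 := Nat.gcd_eq_gcd_ab n m
  rw [h.gcd_eq_one] at h1
  exact ⟨Nat.gcdA n m, Nat.gcdB n m, by push_cast at h1; linarith⟩

variable {G : Type*} [AddCommGroup G]

theorem eq_zero_of_coprime (u : G) {n m : ℕ} (h : Nat.Coprime n m) (hn : n • u = 0) (hm : m • u = 0) :
    u = 0 := by
  obtain ⟨b, c, hbc⟩ := bezout h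
  have : u = (b * n + c * m) • u := by rw [hbc, one_zsmul]
  rw [this, add_zsmul, mul_zsmul, mul_zsmul, natCast_zsmul, natCast_zsmul, hn, hm, zsmul_zero,
    zsmul_zero, add_zero]

theorem exists_smul_eq_of_coprime (u : G) {n m : ℕ} (h : Nat.Coprime n m) (hn : n • u = 0) :
    ∃ c : ℤ, m • (c • u) = u := by
  obtain ⟨b, c, hbc⟩ := bezout h
  refine ⟨c, ?_⟩
  have : u = (b * n + c * m) • u := by rw [hbc, one_zsmul]
  conv_rhs => rw [this]
  rw [add_zsmul, mul_zsmul, mul_zsmul, natCast_zsmul, natCast_zsmul, hn, zsmul_zero, zero_add,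
    ← natCast_zsmul, ← natCast_zsmul u m, smul_comm]
  
theorem exists_split (u : G) {n m : ℕ} (h : Nat.Coprime n m) (hnm : (n * m) • u = 0) :
    ∃ u₁ u₂ : G, u = u₁ + u₂ ∧ n • u₁ = 0 ∧ m • u₂ = 0 ∧ (∃ c : ℤ, u₁ = c • u) ∧ (∃ c : ℤ, u₂ = c • u) := by
  obtain ⟨b, c, hbc⟩ := bezout h
  refine ⟨(c * m) • u, (b * n) • u, ?_, ?_, ?_, ⟨_, rfl⟩, ⟨_, rfl⟩⟩
  · rw [← add_zsmul, add_comm, hbc, one_zsmul]
  · rw [← natCast_zsmul, ← mul_zsmul]
    have : (n : ℤ) * (c * m) = c * ((n * m : ℕ) : ℤ) := by push_cast; ring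
    rw [this, mul_zsmul, natCast_zsmul, hnm, zsmul_zero]
  · rw [← natCast_zsmul, ← mul_zsmul]
    have : (m : ℤ) * (b * n) = b * ((n * m : ℕ) : ℤ) := by push_cast; ring
    rw [this, mul_zsmul, natCast_zsmul, hnm, zsmul_zero]

theorem div_of_pnum {P : Set ℕ} (K : AddSubgroup G)
    (hD : ∀ ℓ ∈ P, ∀ x ∈ K, ∃ y ∈ K, ℓ • y = x) :
    ∀ n : ℕ, IsPNum P n → ∀ x ∈ K, ∃ y ∈ K, n • y = x := by
  intro n
  induction n using Nat.recOnMul with
  | zero => intro h; exact absurd h.1 (lt_irrefl 0)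
  | one => intro _ x hx; exact ⟨x, hx, one_smul _ x⟩
  | prime p hp => intro h x hx; exact hD p (h.2 p hp dvd_rfl) x hx
  | mul a b iha ihb =>
    intro h x hx
    have ha : IsPNum P a := ⟨Nat.pos_of_ne_zero (fun h0 => by rw [h0, zero_mul] at h; exact lt_irrefl 0 h.1),
      fun p hp hd => h.2 p hp (dvd_mul_of_dvd_left hd b)⟩
    have hb : IsPNum P b := ⟨Nat.pos_of_ne_zero (fun h0 => by rw [h0, mul_zero] at h; exact lt_irrefl 0 h.1),
      fun p hp hd => h.2 p hp (dvd_mul_of_dvd_right hd a)⟩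
    obtain ⟨y₁, hy₁, h1⟩ := iha ha x hx
    obtain ⟨y₂, hy₂, h2⟩ := ihb hb y₁ hy₁
    exact ⟨y₂, hy₂, by rw [mul_smul, h2, h1]⟩

end KH

/-- Let P be a set of primes and π : A → T a surjection of abelian groups whose kernel is ℓ-divisible
for every ℓ ∈ P, with T a torsion group; let T(P) be the subgroup of elements of T killed by a
positive integer all of whose prime factors lie in P, and T' the subgroup of elements killed by a
positive integer none of whose prime factors lies in P. Then the preimage π⁻¹(T') is ℓ-divisible for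
every ℓ ∈ P, and π has a section s over T(P) for which (d, t) ↦ d + s(t) is a bijection from π⁻¹(T')
× T(P) onto A, so that A is the direct sum of π⁻¹(T') and a copy of T(P). (The decomposition is
expressed through a section of π over T(P).) -/
theorem result
    {A T : Type*} [AddCommGroup A] [AddCommGroup T] (P : Set ℕ) (hP : ∀ p ∈ P, p.Prime)
    (π : A →+ T) (hπ : Function.Surjective π) (hT : ∀ t : T, ∃ n : ℕ, 0 < n ∧ n • t = 0)
    (hD : ∀ ℓ ∈ P, ∀ x ∈ π.ker, ∃ y ∈ π.ker, ℓ • y = x)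
    (TP T' : AddSubgroup T)
    (hTP : ∀ t, t ∈ TP ↔ ∃ n : ℕ, 0 < n ∧ (∀ p : ℕ, p.Prime → p ∣ n → p ∈ P) ∧ n • t = 0)
    (hT' : ∀ t, t ∈ T' ↔ ∃ n : ℕ, 0 < n ∧ (∀ p : ℕ, p.Prime → p ∣ n → p ∉ P) ∧ n • t = 0) :
    (∀ ℓ ∈ P, ∀ x ∈ T'.comap π, ∃ y ∈ T'.comap π, ℓ • y = x) ∧
    ∃ s : TP →+ A, (∀ t : TP, π (s t) = (t : T)) ∧
      Function.Bijective (fun q : (T'.comap π) × TP => (q.1 : A) + s q.2) := by

  classical
  have hTPmem : ∀ t, t ∈ TP ↔ ∃ n, KH.IsPNum P n ∧ n • t = 0 := by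
    intro t
    rw [hTP]
    constructor
    · rintro ⟨n, h0, h1, h2⟩
      exact ⟨n, ⟨h0, h1⟩, h2⟩
    · rintro ⟨n, ⟨h0, h1⟩, h2⟩
      exact ⟨n, h0, h1, h2⟩
  have hT'mem : ∀ t, t ∈ T' ↔ ∃ n, KH.IsQNum P n ∧ n • t = 0 := by
    intro t
    rw [hT']
    constructor
    · rintro ⟨n, h0, h1, h2⟩
      exact ⟨n, ⟨h0, h1⟩, h2⟩
    · rintro ⟨n, ⟨h0, h1⟩, h2⟩
      exact ⟨n, h0, h1, h2⟩
  have hprimeP : ∀ ℓ ∈ P, KH.IsPNum P ℓ := fun ℓ hℓ => ⟨(hP ℓ hℓ).pos, fun p hp hd => by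
    rw [(Nat.prime_dvd_prime_iff_eq hp (hP ℓ hℓ)).mp hd]; exact hℓ⟩
  have claim1 : ∀ ℓ ∈ P, ∀ x ∈ T'.comap π, ∃ y ∈ T'.comap π, ℓ • y = x := by
    intro ℓ hℓ x hx
    have hx' : π x ∈ T' := hx
    obtain ⟨m, hm, hmx⟩ := (hT'mem _).mp hx'
    have hcop : Nat.Coprime m ℓ := (KH.coprime_of (hprimeP ℓ hℓ) hm).symm
    obtain ⟨c, hc⟩ := KH.exists_smul_eq_of_coprime (π x) hcop hmx
    obtain ⟨y₀, hy₀⟩ := hπ (c • π x)
    have hker : x - ℓ • y₀ ∈ π.ker := by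
      rw [AddMonoidHom.mem_ker, map_sub, map_nsmul, hy₀, hc, sub_self]
    obtain ⟨z, hz, hzx⟩ := hD ℓ hℓ _ hker
    refine ⟨y₀ + z, ?_, ?_⟩
    · show π (y₀ + z) ∈ T'
      rw [map_add, hy₀, AddMonoidHom.mem_ker.mp hz, add_zero]
      exact T'.zsmul_mem hx' c
    · rw [smul_add, hzx, add_sub_cancel]
  refine ⟨claim1, ?_⟩
  let AP : AddSubgroup A :=
    { carrier := {x | ∃ n, KH.IsPNum P n ∧ n • x = 0}
      zero_mem' := ⟨1, ⟨Nat.one_pos, fun p hp hd => absurd (Nat.dvd_one.mp hd) hp.ne_one⟩,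
        smul_zero _⟩
      add_mem' := by
        rintro x y ⟨n, hn, hx⟩ ⟨m, hm, hy⟩
        refine ⟨n * m, hn.mul hm, ?_⟩
        rw [smul_add, mul_smul n m y, hy, smul_zero, add_zero, mul_comm, mul_smul, hx, smul_zero]
      neg_mem' := by
        rintro x ⟨n, hn, hx⟩
        exact ⟨n, hn, by rw [smul_neg, hx, neg_zero]⟩ }
  have hAPmem : ∀ x, x ∈ AP ↔ ∃ n, KH.IsPNum P n ∧ n • x = 0 := fun x => Iff.rfl
  let KA : AddSubgroup A := π.ker ⊓ AP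
  have hKAdiv : ∀ N : ℕ, 0 < N → ∀ k ∈ KA, ∃ k' ∈ KA, N • k' = k := by
    intro N hN k hk
    obtain ⟨n₁, m₁, hNf, hn₁, hm₁⟩ := KH.exists_factor P N (Nat.pos_iff_ne_zero.mp hN)
    obtain ⟨hk1, hk2⟩ := AddSubgroup.mem_inf.mp hk
    obtain ⟨n₀, hn₀, hn₀k⟩ := (hAPmem k).mp hk2
    obtain ⟨k₁, hk₁, h1⟩ := KH.div_of_pnum π.ker hD n₁ hn₁ k hk1
    have hk₁t : (n₁ * n₀) • k₁ = 0 := by rw [mul_comm, mul_smul, h1, hn₀k]
    have cop : Nat.Coprime (n₁ * n₀) m₁ := KH.coprime_of (hn₁.mul hn₀) hm₁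
    obtain ⟨c, hc⟩ := KH.exists_smul_eq_of_coprime k₁ cop hk₁t
    refine ⟨c • k₁, AddSubgroup.mem_inf.mpr ⟨(π.ker).zsmul_mem hk₁ c, ?_⟩, ?_⟩
    · refine (hAPmem _).mpr ⟨n₁ * n₀, hn₁.mul hn₀, ?_⟩
      rw [← natCast_zsmul, smul_comm, natCast_zsmul, hk₁t, smul_zero]
    · rw [hNf, mul_smul, hc, h1]
  have hdivZ : ∀ (n : ℤ), n ≠ 0 → ∀ k : KA, ∃ k' : KA, n • k' = k := by
    intro n hn k
    obtain ⟨k', hk', h⟩ := hKAdiv n.natAbs (Int.natAbs_pos.mpr hn) k.1 k.2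
    rcases Int.natAbs_eq n with h1 | h1
    · refine ⟨⟨k', hk'⟩, Subtype.ext ?_⟩
      show n • k' = k.1
      rw [h1, natCast_zsmul]
      exact h
    · refine ⟨-⟨k', hk'⟩, Subtype.ext ?_⟩
      show n • (-k') = k.1
      rw [h1, neg_zsmul, smul_neg, neg_neg, natCast_zsmul]
      exact h
  let _inst : DivisibleBy KA ℤ :=
    { div := fun a n => if hn : n = 0 then 0 else (hdivZ n hn a).choose
      div_zero := fun a => dif_pos rfl
      div_cancel := fun {n} a hn => by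
        simp only [dif_neg hn]
        exact (hdivZ n hn a).choose_spec }
  have hBaer : Module.Baer ℤ KA := Module.Baer.of_divisible KA
  let incl : KA →+ AP := AddSubgroup.inclusion inf_le_right
  obtain ⟨r, hr⟩ := hBaer.extension_property_addMonoidHom incl
    (AddSubgroup.inclusion_injective _) (AddMonoidHom.id KA)
  let σ : AP →+ A := AP.subtype - KA.subtype.comp r
  have hπAP : ∀ x : AP, π x.1 ∈ TP := by
    intro x
    obtain ⟨n, hn, hx⟩ := (hAPmem x.1).mp x.2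
    exact (hTPmem _).mpr ⟨n, hn, by rw [← map_nsmul, hx, map_zero]⟩
  let πP : AP →+ TP := (π.comp AP.subtype).codRestrict TP hπAP
  have hπP : ∀ x : AP, (πP x : T) = π x.1 := fun x => rfl
  have hsurjP : Function.Surjective πP := by
    intro t
    obtain ⟨n, hn, hnt⟩ := (hTPmem _).mp t.2
    obtain ⟨x, hx⟩ := hπ t.1
    have hker : n • x ∈ π.ker := by
      rw [AddMonoidHom.mem_ker, map_nsmul, hx, hnt]
    obtain ⟨k, hk, hnk⟩ := KH.div_of_pnum π.ker hD n hn _ hker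
    have hx' : x - k ∈ AP := (hAPmem _).mpr ⟨n, hn, by rw [smul_sub, hnk, sub_self]⟩
    refine ⟨⟨x - k, hx'⟩, Subtype.ext ?_⟩
    rw [hπP]
    show π (x - k) = t.1
    rw [map_sub, hx, AddMonoidHom.mem_ker.mp hk, sub_zero]
  have hkerσ : πP.ker ≤ σ.ker := by
    intro x hx
    rw [AddMonoidHom.mem_ker] at hx ⊢
    have h1 : π x.1 = 0 := by
      rw [← hπP, hx]; rfl
    have hxK : x.1 ∈ KA := AddSubgroup.mem_inf.mpr ⟨AddMonoidHom.mem_ker.mpr h1, x.2⟩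
    have h2 : incl ⟨x.1, hxK⟩ = x := Subtype.ext rfl
    have h3 : r x = ⟨x.1, hxK⟩ := by
      have h4 := DFunLike.congr_fun hr ⟨x.1, hxK⟩
      rw [AddMonoidHom.comp_apply, h2] at h4
      exact h4
    show x.1 - (r x).1 = 0
    rw [h3, sub_self]
  let s : TP →+ A := AddMonoidHom.liftOfRightInverse πP (Function.surjInv hsurjP)
    (Function.rightInverse_surjInv hsurjP) ⟨σ, hkerσ⟩
  have hs : ∀ x : AP, s (πP x) = σ x := fun x =>
    AddMonoidHom.liftOfRightInverse_comp_apply πP (Function.surjInv hsurjP)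
      (Function.rightInverse_surjInv hsurjP) ⟨σ, hkerσ⟩ x
  have hπs : ∀ t : TP, π (s t) = (t : T) := by
    intro t
    obtain ⟨x, rfl⟩ := hsurjP t
    rw [hs, hπP]
    show π (x.1 - (r x).1) = π x.1
    have h1 : (r x).1 ∈ π.ker := (AddSubgroup.mem_inf.mp (r x).2).1
    rw [map_sub, AddMonoidHom.mem_ker.mp h1, sub_zero]
  refine ⟨s, hπs, ?_, ?_⟩
  · rintro ⟨d, t⟩ ⟨d', t'⟩ h
    simp only at h
    have h1 := congrArg π h
    rw [map_add, map_add, hπs, hπs] at h1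
    have h2 : (t : T) - t' = π d'.1 - π d.1 := by
      rw [sub_eq_sub_iff_add_eq_add]
      rw [add_comm, h1, add_comm]
    have h3 : (t : T) - t' ∈ TP := TP.sub_mem t.2 t'.2
    have h4 : (t : T) - t' ∈ T' := by
      rw [h2]
      exact T'.sub_mem d'.2 d.2
    obtain ⟨n, hn, hnt⟩ := (hTPmem _).mp h3
    obtain ⟨m, hm, hmt⟩ := (hT'mem _).mp h4
    have h5 := KH.eq_zero_of_coprime _ (KH.coprime_of hn hm) hnt hmt
    have h6 : t = t' := Subtype.ext (sub_eq_zero.mp h5)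
    rw [h6] at h
    have h7 : d = d' := Subtype.ext (add_right_cancel h)
    rw [h6, h7]
  · intro x
    obtain ⟨N, hN, hNx⟩ := hT (π x)
    obtain ⟨n, m, hNf, hn, hm⟩ := KH.exists_factor P N (Nat.pos_iff_ne_zero.mp hN)
    rw [hNf] at hNx
    obtain ⟨u₁, u₂, hu, hu₁, hu₂, _, _⟩ := KH.exists_split (π x) (KH.coprime_of hn hm) hNx
    have hu₁P : u₁ ∈ TP := (hTPmem _).mpr ⟨n, hn, hu₁⟩
    have hu₂P : u₂ ∈ T' := (hT'mem _).mpr ⟨m, hm, hu₂⟩
    have hd : x - s ⟨u₁, hu₁P⟩ ∈ T'.comap π := by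
      show π (x - s ⟨u₁, hu₁P⟩) ∈ T'
      rw [map_sub, hπs, hu, add_sub_cancel_left]
      exact hu₂P
    refine ⟨(⟨x - s ⟨u₁, hu₁P⟩, hd⟩, ⟨u₁, hu₁P⟩), ?_⟩
    show x - s ⟨u₁, hu₁P⟩ + s ⟨u₁, hu₁P⟩ = x
    rw [sub_add_cancel]

end Groth.Agent.S16343
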