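import Groth.Statements.S1635
import Groth.Agent.Lib.Helper21.CDeg8
import Groth.Agent.S1564
-- import your own Groth.Agent.* helpers here

set_option autoImplicit false
universe u
open CategoryTheory CategoryTheory.Limits AlgebraicGeometry
open Curves

namespace Groth.Agent.S1635

/-- Let X be a proper curve over k with global functions k and genus 0, and L an invertible module of
degree d > 0. Then H^0(X, L) has dimension d + 1 and H^1(X, L) = 0. -/
theorem result (k : Type u) [Field k] (X : Scheme.{u}) [X.Over (Spec (CommRingCat.of k))]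
    [IsIntegral X] [IsProper (X ↘ (Spec (CommRingCat.of k)))] (hdim : topologicalKrullDim X = 1)
    (h0 : Module.finrank k (Coh.HH X (Coh.structureModule X) 0) = 1) (hg : Curv2.genus k X = 0)
    (L : X.Modules) (hL : PicF.IsInvertible L) (d : ℕ) (hd : 0 < d) (hdeg : Curv2.deg k X L 1 = d) :
    Module.finrank k (Coh.HH X L 0) = d + 1 ∧ Subsingleton (Coh.HH X L 1) := by
  have hg' : Module.finrank k (Coh.HH X (Groth.Agent.Lib.Helper29.QCoh.unitM X) 1) = 0 := hg
  have h0' : Module.finrank k (Coh.HH X (Groth.Agent.Lib.Helper29.QCoh.unitM X) 0) = 1 := h0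
  have hrr := Groth.Agent.Lib.Helper21.CDeg.finrank_HH_zero_eq k X hdim.le L
  rw [hdeg, hg', h0'] at hrr
  have hpos : 0 < Module.finrank k (Coh.HH X L 0) := by
    have : (0 : ℤ) < (Module.finrank k (Coh.HH X L 0) : ℤ) := by
      rw [hrr]
      have := Int.natCast_nonneg (Module.finrank k (Coh.HH X L 1))
      push_cast
      linarith
    exact_mod_cast this
  have hnt : Nontrivial (Coh.HH X L 0) := Module.nontrivial_of_finrank_pos (R := k) hpos
  have hle := (Groth.Agent.S1564.result k X hdim h0 L hL hnt).1
  rw [hdeg] at hle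
  have h1 : (Module.finrank k (Coh.HH X L 1) : ℤ) = 0 := by
    have := Int.natCast_nonneg (Module.finrank k (Coh.HH X L 1))
    push_cast at hrr
    linarith
  have h1' : Module.finrank k (Coh.HH X L 1) = 0 := by exact_mod_cast h1
  refine ⟨?_, ?_⟩
  · have : (Module.finrank k (Coh.HH X L 0) : ℤ) = ((d + 1 : ℕ) : ℤ) := by
      rw [hrr, h1]
      push_cast
      ring
    exact_mod_cast this
  · have : IsLocallyNoetherian X :=
      LocallyOfFiniteType.isLocallyNoetherian (X ↘ Spec (CommRingCat.of k))
    have hLc : Coh.IsCoh L := ⟨Groth.Agent.Lib.Helper29.QCoh.isQuasicoherent_of_isInvertible hL,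
      Groth.Agent.Lib.Helper29.QCoh.isFiniteType_of_isInvertible hL⟩
    have : Module.Finite k (Coh.HH X L 1) := Groth.Agent.S0002.result k X L hLc 1
    exact Module.finrank_zero_iff.mp h1'

end Groth.Agent.S1635
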