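import Groth.Statements.S16351
import Mathlib

set_option autoImplicit false
universe u
open Cubic

namespace Groth.Agent.S16351

/-- Let K be a field of characteristic zero and S = V(F) ⊂ P^3_K a cone over a plane cubic curve C,
normalised so that the vertex is [1 : 0 : 0 : 0], i.e. F is a homogeneous cubic in K[x_0, …, x_3]
not involving x_0 and C = V(F) in the plane P^2 of the coordinates x_1, x_2, x_3. If C has five
K-rational points no three of which are collinear, then S has five K-rational points in general
position (no four coplanar: any four representing vectors linearly independent). -/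
theorem result (K : Type u) [Field K] [CharZero K]
    (G : MvPolynomial (Fin 3) K) (hG : G.IsHomogeneous 3) (F : MvPolynomial (Fin 4) K)
    (hF : F = MvPolynomial.rename Fin.succ G)
    (b : Fin 5 → (Fin 3 → K)) (hb : ∀ j : Fin 5, MvPolynomial.eval (b j) G = 0)
    (h3 : ∀ i j l : Fin 5, i ≠ j → j ≠ l → i ≠ l → LinearIndependent K ![b i, b j, b l]) :
    ∃ p : Fin 5 → (Fin 4 → K), (∀ j : Fin 5, MvPolynomial.eval (p j) F = 0) ∧
      ∀ j : Fin 5, LinearIndependent K (fun i : Fin 4 => p (j.succAbove i)) := by
  classical
  -- 3x3 minors
  let D : Fin 5 → Fin 4 → K := fun j i =>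
    Matrix.det (Matrix.of (fun i' : Fin 3 => b (j.succAbove (i.succAbove i'))))
  have hD : ∀ j i, D j i ≠ 0 := by
    intro j i
    have hinj : Function.Injective (fun i' : Fin 3 => j.succAbove (i.succAbove i')) :=
      Fin.succAbove_right_injective.comp Fin.succAbove_right_injective
    have hli : LinearIndependent K (fun i' : Fin 3 => b (j.succAbove (i.succAbove i'))) := by
      have := h3 (j.succAbove (i.succAbove 0)) (j.succAbove (i.succAbove 1))
        (j.succAbove (i.succAbove 2)) (fun h => by simpa using hinj h)
        (fun h => by simpa using hinj h) (fun h => by simpa using hinj h)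
      convert this using 1
      ext i' c
      fin_cases i' <;> rfl
    have : IsUnit (Matrix.of (fun i' : Fin 3 => b (j.succAbove (i.succAbove i')))) :=
      Matrix.linearIndependent_rows_iff_isUnit.mp hli
    exact ((Matrix.isUnit_iff_isUnit_det _).mp this).ne_zero
  -- choose lambda
  obtain ⟨lam, hlam⟩ := Infinite.exists_notMem_finset
    ({0, D 2 0 / D 2 1, D 3 0 / D 3 1, D 4 0 / D 4 1} : Finset K)
  simp only [Finset.mem_insert, Finset.mem_singleton, not_or] at hlam
  obtain ⟨hl0, hl2, hl3, hl4⟩ := hlam
  let t : Fin 5 → K := ![1, lam, 0, 0, 0]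
  let p : Fin 5 → (Fin 4 → K) := fun j => Fin.cons (t j) (b j)
  refine ⟨p, ?_, ?_⟩
  · intro j
    rw [hF, MvPolynomial.eval_rename]
    have : p j ∘ Fin.succ = b j := by
      ext c; simp [p]
    rw [this]; exact hb j
  · intro j
    have hdet : Matrix.det (Matrix.of (fun i : Fin 4 => p (j.succAbove i))) =
        ∑ i : Fin 4, (-1) ^ (i : ℕ) * t (j.succAbove i) * D j i := by
      rw [Matrix.det_succ_column_zero]
      refine Finset.sum_congr rfl (fun i _ => ?_)
      congr 1
    have hne : Matrix.det (Matrix.of (fun i : Fin 4 => p (j.succAbove i))) ≠ 0 := by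
      rw [hdet]
      fin_cases j
      · simp [Fin.sum_univ_four, t, Fin.succAbove]
        exact ⟨hl0, hD 0 0⟩
      · simp [Fin.sum_univ_four, t, Fin.succAbove]
        exact hD 1 0
      · simp [Fin.sum_univ_four, t, Fin.succAbove]
        intro h
        apply hl2
        rw [eq_div_iff (hD 2 1)]
        linear_combination -h
      · simp [Fin.sum_univ_four, t, Fin.succAbove]
        intro h
        apply hl3
        rw [eq_div_iff (hD 3 1)]
        linear_combination -h
      · simp [Fin.sum_univ_four, t, Fin.succAbove]
        intro h
        apply hl4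
        rw [eq_div_iff (hD 4 1)]
        linear_combination -h
    have : IsUnit (Matrix.of (fun i : Fin 4 => p (j.succAbove i))) :=
      (Matrix.isUnit_iff_isUnit_det _).mpr (IsUnit.mk0 _ hne)
    exact Matrix.linearIndependent_rows_iff_isUnit.mpr this

end Groth.Agent.S16351
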