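import Groth.Statements.S16353
import Mathlib

set_option autoImplicit false
universe u
open DegLoci

namespace Groth.Agent.S16353

open MvPolynomial W4c3degenlocivb
open MvPolynomial W4c3degenlocivb

section gen
variable {k : Type*} [CommSemiring k] {σ : Type*}

/-- the product of descending factorials -/
def dsc (β α : σ →₀ ℕ) : ℕ := β.support.prod fun i => Nat.descFactorial (β i) (α i)

theorem coeff_contract [DecidableEq σ] (D G : MvPolynomial σ k) (γ : σ →₀ ℕ) :
    coeff γ (contract D G) =
      ∑ α ∈ D.support, coeff α D * coeff (α + γ) G * (dsc (α + γ) α : k) := by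
  unfold contract
  rw [coeff_sum]
  refine Finset.sum_congr rfl fun α hα => ?_
  rw [coeff_sum]
  by_cases h : α + γ ∈ G.support
  · rw [Finset.sum_eq_single_of_mem (α + γ) h]
    · rw [if_pos (le_self_add), add_tsub_cancel_left, coeff_monomial, if_pos rfl]
      rfl
    · intro β hβ hne
      split_ifs with hle
      · rw [coeff_monomial, if_neg]
        intro heq
        apply hne
        rw [← heq, add_tsub_cancel_of_le hle]
      · simp
  · rw [notMem_support_iff.mp h, mul_zero, zero_mul]
    apply Finset.sum_eq_zero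
    intro β hβ
    split_ifs with hle
    · rw [coeff_monomial, if_neg]
      intro heq
      apply h
      rw [← heq, add_tsub_cancel_of_le hle]
      exact hβ
    · simp

end gen

variable {m : ℕ}

theorem dsc_eq (β α : Fin m →₀ ℕ) (h : α ≤ β) :
    dsc β α = ∏ i, Nat.descFactorial (β i) (α i) := by
  unfold dsc
  apply Finset.prod_subset (Finset.subset_univ _)
  intro i _ hi
  rw [Finsupp.notMem_support_iff] at hi
  have : α i = 0 := by
    have := h i
    omega
  rw [hi, this]
  rfl

/-- multi-factorial -/
def mfac (γ : Fin m →₀ ℕ) : ℕ := ∏ i, (γ i).factorial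

theorem key_nat (a g : ℕ) :
    Nat.descFactorial (a + g) a * g.factorial =
      Nat.descFactorial (g + a) g * Nat.descFactorial a a := by
  have h1 := Nat.factorial_mul_descFactorial (Nat.le_add_right a g)
  have h2 := Nat.factorial_mul_descFactorial (Nat.le_add_right g a)
  rw [Nat.add_sub_cancel_left] at h1 h2
  rw [Nat.descFactorial_self, mul_comm, h1, mul_comm, h2, add_comm]

theorem key (α γ : Fin m →₀ ℕ) :
    dsc (α + γ) α * mfac γ = dsc (γ + α) γ * dsc (α + 0) α := by
  rw [dsc_eq _ _ le_self_add, dsc_eq _ _ le_self_add, add_zero, dsc_eq _ _ le_rfl]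
  unfold mfac
  rw [← Finset.prod_mul_distrib, ← Finset.prod_mul_distrib]
  refine Finset.prod_congr rfl fun i _ => ?_
  exact key_nat (α i) (γ i)

variable {k : Type u} [Field k]

theorem coeff_contract_monomial (α₀ β' : Fin m →₀ ℕ) (F : MvPolynomial (Fin m) k) :
    coeff β' (contract (monomial α₀ (1 : k)) F) =
      coeff (α₀ + β') F * (dsc (α₀ + β') α₀ : k) := by
  classical
  rw [coeff_contract, support_monomial, if_neg one_ne_zero, Finset.sum_singleton,
    coeff_monomial, if_pos rfl, one_mul]

theorem lemB (D F : MvPolynomial (Fin m) k) (α₀ : Fin m →₀ ℕ) :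
    coeff 0 (contract D (contract (monomial α₀ (1 : k)) F)) =
      (mfac α₀ : k) * coeff α₀ (contract D F) := by
  classical
  rw [coeff_contract, coeff_contract, Finset.mul_sum]
  refine Finset.sum_congr rfl fun α _ => ?_
  rw [add_zero, coeff_contract_monomial]
  have h := congrArg (Nat.cast (R := k)) (key α α₀)
  push_cast at h
  rw [add_zero] at h
  rw [add_comm α α₀] at h ⊢
  calc coeff α D * (coeff (α₀ + α) F * (dsc (α₀ + α) α₀ : k)) * (dsc α α : k)
      = coeff α D * coeff (α₀ + α) F * ((dsc (α₀ + α) α₀ : k) * (dsc α α : k)) := by ring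
    _ = coeff α D * coeff (α₀ + α) F * ((dsc (α₀ + α) α : k) * (mfac α₀ : k)) := by rw [h]
    _ = _ := by ring

theorem deg_of_coeff_ne_zero {F : MvPolynomial (Fin m) k} {e : ℕ} (hF : F.IsHomogeneous e)
    {β : Fin m →₀ ℕ} (h : coeff β F ≠ 0) : β.degree = e := by
  have := hF h
  rw [Finsupp.degree_eq_weight_one]
  exact this


/-- Let k be a field of characteristic zero, R = k[y_0, …, y_{m−1}] acting on S = k[∂_0, …, ∂_{m−1}] by
apolarity (y_i acts as the derivative with respect to ∂_i), F ∈ S homogeneous of degree e and d ≤ e.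
Then the degree-d part of the apolar ideal of F is the orthogonal complement of the partial
derivatives of F of order e − d: a homogeneous D ∈ R_d satisfies D(F) = 0 if and only if D(y^α(F)) =
0 for every multi-index α with |α| = e − d (each D(y^α(F)) being a constant, the value of the
apolarity pairing of D with y^α(F)). -/
theorem result (k : Type u) [Field k] [CharZero k] (m : ℕ)
    (F : MvPolynomial (Fin m) k) (e : ℕ) (hF : F.IsHomogeneous e) (d : ℕ) (hd : d ≤ e)
    (D : MvPolynomial (Fin m) k) (hD : D.IsHomogeneous d) :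
    W4c3degenlocivb.contract D F = 0 ↔
      ∀ α : Fin m →₀ ℕ, α.degree = e - d → W4c3degenlocivb.contract D (W4c3degenlocivb.contract (MvPolynomial.monomial α 1) F) = 0 := by
  classical
  have hmfac : ∀ γ : Fin m →₀ ℕ, (mfac γ : k) ≠ 0 := by
    intro γ
    unfold mfac
    rw [Nat.cast_ne_zero]
    exact Finset.prod_ne_zero_iff.mpr fun i _ => Nat.factorial_ne_zero _
  -- vanishing of off-degree coefficients
  have hD' : ∀ γ : Fin m →₀ ℕ, γ.degree ≠ e - d → coeff γ (contract D F) = 0 := by
    intro γ hγ
    rw [coeff_contract]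
    apply Finset.sum_eq_zero
    intro α hα
    by_cases h : coeff (α + γ) F = 0
    · rw [h, mul_zero, zero_mul]
    · exfalso
      apply hγ
      have h1 := deg_of_coeff_ne_zero hF h
      have h2 := deg_of_coeff_ne_zero hD (mem_support_iff.mp hα)
      rw [map_add] at h1
      omega
  have hC : ∀ α₀ : Fin m →₀ ℕ, α₀.degree = e - d → ∀ γ' : Fin m →₀ ℕ, γ' ≠ 0 →
      coeff γ' (contract D (contract (monomial α₀ (1 : k)) F)) = 0 := by
    intro α₀ hα₀ γ' hγ'
    rw [coeff_contract]
    apply Finset.sum_eq_zero
    intro α hα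
    rw [coeff_contract_monomial]
    by_cases h : coeff (α₀ + (α + γ')) F = 0
    · rw [h, zero_mul, mul_zero, zero_mul]
    · exfalso
      apply hγ'
      have h1 := deg_of_coeff_ne_zero hF h
      have h2 := deg_of_coeff_ne_zero hD (mem_support_iff.mp hα)
      rw [map_add, map_add] at h1
      have : γ'.degree = 0 := by omega
      exact (Finsupp.degree_eq_zero_iff _).mp this
  constructor
  · intro h α₀ hα₀
    ext γ'
    rw [coeff_zero]
    by_cases hγ' : γ' = 0
    · subst hγ'
      rw [lemB, h, coeff_zero, mul_zero]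
    · exact hC α₀ hα₀ γ' hγ'
  · intro h
    ext γ
    rw [coeff_zero]
    by_cases hγ : γ.degree = e - d
    · have h1 := lemB D F γ
      rw [h γ hγ, coeff_zero] at h1
      exact (mul_eq_zero.mp h1.symm).resolve_left (hmfac γ)
    · exact hD' γ hγ

end Groth.Agent.S16353
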