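import Groth.Statements.S16355
import Mathlib

set_option autoImplicit false
universe u
open DegLoci

namespace Groth.Agent.S16355
section Aux
open W4c3degenlocivb MvPolynomial

lemma pf_succ_succ {R : Type*} [CommRing R] (n : ℕ) (T : Matrix (Fin (n+2)) (Fin (n+2)) R) :
    pf (n+2) T = ∑ j : Fin (n + 1), (-1) ^ ((j : ℕ) + 1) * T (Fin.last (n + 1)) (Fin.castSucc j) *
        pf n (T.submatrix (Fin.castSucc ∘ j.succAbove) (Fin.castSucc ∘ j.succAbove)) := by
  rw [pf]

lemma pf_map {R S : Type*} [CommRing R] [CommRing S] (f : R →+* S) :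
    ∀ (n : ℕ) (T : Matrix (Fin n) (Fin n) R), pf n (T.map f) = f (pf n T) := by
  intro n
  induction n using Nat.strong_induction_on with
  | _ n ih =>
    match n, ih with
    | 0, _ => intro T; simp [pf]
    | 1, _ => intro T; simp [pf]
    | n+2, ih =>
      intro T
      rw [pf_succ_succ, pf_succ_succ, map_sum]
      refine Finset.sum_congr rfl fun j _ => ?_
      rw [map_mul, map_mul, map_pow, map_neg, map_one, ← ih n (by omega)]
      rfl

lemma pf_homog {σ k : Type*} [CommRing k] :
    ∀ (s : ℕ) (T : Matrix (Fin (2*s)) (Fin (2*s)) (MvPolynomial σ k)),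
      (∀ a b, (T a b).IsHomogeneous 1) → (pf (2*s) T).IsHomogeneous s := by
  intro s
  induction s with
  | zero =>
    intro T _
    show (pf 0 T).IsHomogeneous 0
    rw [pf]
    exact isHomogeneous_one σ k
  | succ s ih =>
    intro T hT
    show (pf (2*s+2) T).IsHomogeneous (s+1)
    rw [pf_succ_succ]
    refine IsHomogeneous.sum _ _ _ fun j _ => ?_
    have h1 : ((-1 : MvPolynomial σ k) ^ ((j:ℕ)+1)).IsHomogeneous 0 := by
      have : ((-1 : MvPolynomial σ k) ^ ((j:ℕ)+1)) = C ((-1) ^ ((j:ℕ)+1)) := by simp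
      rw [this]; exact isHomogeneous_C _ _
    have h2 := hT (Fin.last (2*s+1)) (Fin.castSucc j)
    have h3 := ih (T.submatrix (Fin.castSucc ∘ j.succAbove) (Fin.castSucc ∘ j.succAbove))
      (fun a b => hT _ _)
    have := (h1.mul h2).mul h3
    convert this using 1
    omega

/-- tridiagonal alternating matrix -/
def Tri {R : Type*} [CommRing R] (n : ℕ) (m : ℕ → R) : Matrix (Fin n) (Fin n) R :=
  Matrix.of fun a b => if (a:ℕ) + 1 = (b:ℕ) then m a else if (b:ℕ) + 1 = (a:ℕ) then - m b else 0

lemma pf_Tri {R : Type*} [CommRing R] (m : ℕ → R) :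
    ∀ s : ℕ, pf (2*s) (Tri (2*s) m) = ∏ a ∈ Finset.range s, m (2*a) := by
  intro s
  induction s with
  | zero =>
    show pf 0 _ = _
    simp [pf]
  | succ s ih =>
    show pf (2*s+2) (Tri (2*s+2) m) = _
    rw [pf_succ_succ, Finset.sum_eq_single (Fin.last (2*s))]
    · have hsub : (Tri (2*s+2) m).submatrix (Fin.castSucc ∘ (Fin.last (2*s)).succAbove)
          (Fin.castSucc ∘ (Fin.last (2*s)).succAbove) = Tri (2*s) m := by
        ext a b
        simp [Tri, Fin.succAbove_last]
      have hent : (Tri (2*s+2) m) (Fin.last (2*s+1)) (Fin.castSucc (Fin.last (2*s))) = - m (2*s) := by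
        simp only [Tri, Matrix.of_apply, Fin.val_last, Fin.val_castSucc]
        rw [if_neg (by omega)]
        simp
      rw [hsub, ih, Finset.prod_range_succ, hent, Fin.val_last, pow_succ, pow_mul]
      ring
    · intro j _ hj
      have hj' : (j:ℕ) ≠ 2*s := fun h => hj (Fin.ext (by simpa using h))
      have hlt := j.isLt
      have : (Tri (2*s+2) m) (Fin.last (2*s+1)) (Fin.castSucc j) = 0 := by
        simp only [Tri, Matrix.of_apply, Fin.val_last, Fin.val_castSucc]
        rw [if_neg (by omega), if_neg (by omega)]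
      rw [this]; ring
    · simp

lemma val_succAbove {n : ℕ} (i : Fin (n+1)) (a : Fin n) :
    ((i.succAbove a : Fin (n+1)) : ℕ) = if (a:ℕ) < i then (a:ℕ) else a + 1 := by
  unfold Fin.succAbove
  split_ifs with h1 h2 h2 <;> simp_all [Fin.lt_def]

lemma Tri_submatrix {R : Type*} [CommRing R] (n : ℕ) (l : ℕ → R) (i : Fin (n+1)) :
    (Tri (n+1) l).submatrix i.succAbove i.succAbove =
      Tri n (fun a => if a + 1 < (i:ℕ) then l a else if a + 1 = (i:ℕ) then 0 else l (a+1)) := by
  ext a b
  simp only [Tri, Matrix.submatrix_apply, Matrix.of_apply, val_succAbove]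
  split_ifs <;> first | rfl | (exfalso; omega) | simp

/-- the monomials of degree r in two variables -/
noncomputable def mono (r : ℕ) (a : Fin (r+1)) : Fin 2 →₀ ℕ :=
  Finsupp.single 0 (a:ℕ) + Finsupp.single 1 (r - (a:ℕ))

lemma mono_zero (r : ℕ) (a : Fin (r+1)) : mono r a 0 = a := by simp [mono]

lemma mono_one (r : ℕ) (a : Fin (r+1)) : mono r a 1 = r - a := by simp [mono]

lemma mono_inj (r : ℕ) (a b : Fin (r+1)) (h : mono r a = mono r b) : a = b := by
  have := congrArg (fun d => d 0) h
  simp only [mono_zero] at this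
  exact Fin.ext this

lemma expand {k : Type*} [Field k] (r : ℕ) (f : MvPolynomial (Fin 2) k) (hf : f.IsHomogeneous r) :
    f = ∑ a : Fin (r+1), coeff (mono r a) f • monomial (mono r a) (1:k) := by
  ext d
  rw [coeff_sum]
  simp only [coeff_smul, coeff_monomial, smul_eq_mul, mul_ite, mul_one, mul_zero]
  by_cases hd : d 0 + d 1 = r
  · have hdm : mono r ⟨d 0, by omega⟩ = d := by
      ext i; fin_cases i
      · simp [mono]
      · simp [mono]; omega
    rw [Finset.sum_eq_single ⟨d 0, by omega⟩]
    · rw [if_pos hdm, hdm]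
    · intro b _ hb
      rw [if_neg]
      intro h
      apply hb
      apply mono_inj
      rw [h, hdm]
    · simp
  · have h0 : coeff d f = 0 := by
      apply hf.coeff_eq_zero
      rw [Finsupp.degree_eq_sum, Fin.sum_univ_two]
      exact hd
    rw [h0]
    symm
    apply Finset.sum_eq_zero
    intro b _
    rw [if_neg]
    intro h
    apply hd
    rw [← h, mono_zero, mono_one]
    have := b.isLt
    omega

lemma span_of_det_ne_zero {k : Type*} [Field k] (r : ℕ) (p : Fin (r+1) → MvPolynomial (Fin 2) k)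
    (hp : ∀ j, (p j).IsHomogeneous r)
    (hdet : Matrix.det (Matrix.of fun j a : Fin (r+1) => coeff (mono r a) (p j)) ≠ 0) :
    homogeneousSubmodule (Fin 2) k r ≤ Submodule.span k (Set.range p) := by
  classical
  set M : Matrix (Fin (r+1)) (Fin (r+1)) k := Matrix.of fun j a => coeff (mono r a) (p j) with hM
  have hu : IsUnit M.det := isUnit_iff_ne_zero.mpr hdet
  have he : ∀ a, monomial (mono r a) (1:k) ∈ Submodule.span k (Set.range p) := by
    intro a
    have : monomial (mono r a) (1:k) = ∑ j, M⁻¹ a j • p j := by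
      have h1 : ∀ j, p j = ∑ b, M j b • monomial (mono r b) (1:k) := fun j => expand r (p j) (hp j)
      calc monomial (mono r a) (1:k)
          = ∑ b, (1 : Matrix (Fin (r+1)) (Fin (r+1)) k) a b • monomial (mono r b) (1:k) := by
            rw [Finset.sum_eq_single a]
            · simp
            · intro b _ hb; simp [Matrix.one_apply_ne' hb]
            · simp
        _ = ∑ b, (∑ j, M⁻¹ a j * M j b) • monomial (mono r b) (1:k) := by
            refine Finset.sum_congr rfl fun b _ => ?_
            rw [← Matrix.nonsing_inv_mul M hu, Matrix.mul_apply]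
        _ = ∑ j, M⁻¹ a j • ∑ b, M j b • monomial (mono r b) (1:k) := by
            simp_rw [Finset.sum_smul, Finset.smul_sum, mul_smul]
            rw [Finset.sum_comm]
        _ = ∑ j, M⁻¹ a j • p j := by
            refine Finset.sum_congr rfl fun j _ => ?_
            rw [← h1 j]
    rw [this]
    exact Submodule.sum_mem _ fun j _ => Submodule.smul_mem _ _ (Submodule.subset_span ⟨j, rfl⟩)
  intro f hf
  rw [expand r f hf]
  exact Submodule.sum_mem _ fun a _ => Submodule.smul_mem _ _ (he a)

/-- the linear forms on the superdiagonal of the special matrix -/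
noncomputable def Lf (k : Type*) [CommRing k] (a : ℕ) : MvPolynomial (Fin 2) k :=
  if a % 2 = 0 then X 0 else X 1

/-- special coefficient array -/
def c0 (k : Type*) [CommRing k] (n : ℕ) (a b : Fin n) (l : Fin 2) : k :=
  if (a:ℕ) + 1 = (b:ℕ) then (if (l:ℕ) = (a:ℕ) % 2 then 1 else 0)
  else if (b:ℕ) + 1 = (a:ℕ) then (if (l:ℕ) = (b:ℕ) % 2 then -1 else 0) else 0

lemma c0_antisymm (k : Type*) [CommRing k] (n : ℕ) (a b : Fin n) (l : Fin 2) :
    c0 k n b a l = - c0 k n a b l := by
  unfold c0
  split_ifs <;> first | (exfalso; omega) | simp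

lemma sum_c0 (k : Type*) [CommRing k] (n : ℕ) :
    (Matrix.of fun a b : Fin n => ∑ l : Fin 2, C (c0 k n a b l) * X l) = Tri n (Lf k) := by
  ext a b
  simp only [Matrix.of_apply, Tri, Fin.sum_univ_two, c0, Lf]
  rcases Nat.mod_two_eq_zero_or_one (a:ℕ) with ha | ha <;>
  rcases Nat.mod_two_eq_zero_or_one (b:ℕ) with hb | hb <;>
  simp [ha, hb] <;> split_ifs <;> simp

lemma prod_ite_lt {R : Type*} [CommRing R] (x y : R) (r j : ℕ) (hj : j ≤ r) :
    ∏ a ∈ Finset.range r, (if a < j then x else y) = x ^ j * y ^ (r - j) := by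
  rw [← Finset.prod_range_mul_prod_Ico _ hj]
  congr 1
  · rw [Finset.prod_congr rfl (fun a ha => if_pos (Finset.mem_range.mp ha))]
    simp
  · rw [Finset.prod_congr rfl (fun a ha => if_neg (by have := (Finset.mem_Ico.mp ha).1; omega))]
    simp

lemma pf_special (k : Type*) [CommRing k] (r : ℕ) (j : ℕ) (hj : j ≤ r)
    (i : Fin (2*r+1)) (hi : (i:ℕ) = 2*j) :
    pf (2*r) ((Tri (2*r+1) (Lf k)).submatrix i.succAbove i.succAbove)
      = (X 0 : MvPolynomial (Fin 2) k) ^ j * X 1 ^ (r - j) := by
  rw [Tri_submatrix, pf_Tri, ← prod_ite_lt _ _ r j hj]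
  refine Finset.prod_congr rfl fun a _ => ?_
  rw [hi]
  by_cases h : a < j
  · rw [if_pos h, if_pos (by omega)]
    simp [Lf]
  · rw [if_neg h, if_neg (by omega), if_neg (by omega)]
    have : (2*a+1) % 2 = 1 := by omega
    simp [Lf, this]

lemma coeff_special (k : Type*) [CommRing k] (r : ℕ) (j a : Fin (r+1)) :
    coeff (mono r a) ((X 0 : MvPolynomial (Fin 2) k) ^ (j:ℕ) * X 1 ^ (r - (j:ℕ)))
      = if j = a then 1 else 0 := by
  have : (X 0 : MvPolynomial (Fin 2) k) ^ (j:ℕ) * X 1 ^ (r - (j:ℕ)) = monomial (mono r j) 1 := by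
    rw [X_pow_eq_monomial, X_pow_eq_monomial, monomial_mul, mono, one_mul]
  rw [this, coeff_monomial]
  by_cases h : j = a
  · subst h; simp
  · rw [if_neg h, if_neg]
    intro h'; exact h (mono_inj r _ _ h')

end Aux

open W4c3degenlocivb MvPolynomial in

/-- Let k be an algebraically closed field of characteristic zero and n = 2r + 1 ≥ 3 odd. For a general
n × n alternating matrix N of linear forms in k[y_0, y_1], the n principal sub-Pfaffians of size n −
1 (delete row i and column i, take the Pfaffian) span the whole space k[y_0, y_1]_r of binary forms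
of degree r. Here such matrices are parametrised by antisymmetric coefficient arrays c (entry (i, j)
of N is Σ_l c_{i j l} y_l with c_{j i l} = −c_{i j l}), and 'general' means: outside the zero set of
some polynomial Φ in the coefficients which does not vanish at every antisymmetric array. -/
theorem result (k : Type u) [Field k] [IsAlgClosed k] [CharZero k]
    (r : ℕ) (hr : 1 ≤ r) :
    ∃ Φ : MvPolynomial (Fin (2 * r + 1) × Fin (2 * r + 1) × Fin 2) k,
      (∃ c : Fin (2 * r + 1) → Fin (2 * r + 1) → Fin 2 → k, (∀ i j l, c j i l = -c i j l) ∧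
        MvPolynomial.eval (fun p => c p.1 p.2.1 p.2.2) Φ ≠ 0) ∧
      ∀ c : Fin (2 * r + 1) → Fin (2 * r + 1) → Fin 2 → k, (∀ i j l, c j i l = -c i j l) →
        MvPolynomial.eval (fun p => c p.1 p.2.1 p.2.2) Φ ≠ 0 →
        Submodule.span k (Set.range fun i : Fin (2 * r + 1) =>
            W4c3degenlocivb.pf (2 * r) ((Matrix.of fun a b => ∑ l : Fin 2, MvPolynomial.C (c a b l) * MvPolynomial.X l).submatrix i.succAbove i.succAbove)) =
          MvPolynomial.homogeneousSubmodule (Fin 2) k r := by
  classical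
  -- the generic matrix
  let P := Fin (2 * r + 1) × Fin (2 * r + 1) × Fin 2
  let Ngen : Matrix (Fin (2*r+1)) (Fin (2*r+1)) (MvPolynomial (Fin 2) (MvPolynomial P k)) :=
    Matrix.of fun a b => ∑ l : Fin 2, C (X (a, b, l)) * X l
  let idx : Fin (r+1) → Fin (2*r+1) := fun j => ⟨2 * (j:ℕ), by have := j.isLt; omega⟩
  let Q : Fin (r+1) → MvPolynomial (Fin 2) (MvPolynomial P k) := fun j =>
    pf (2*r) (Ngen.submatrix (idx j).succAbove (idx j).succAbove)
  let Φ : MvPolynomial P k := Matrix.det (Matrix.of fun j a : Fin (r+1) => coeff (mono r a) (Q j))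
  let Nc : (Fin (2 * r + 1) → Fin (2 * r + 1) → Fin 2 → k) →
      Matrix (Fin (2*r+1)) (Fin (2*r+1)) (MvPolynomial (Fin 2) k) := fun c =>
    Matrix.of fun a b => ∑ l : Fin 2, C (c a b l) * X l
  -- evaluation of Φ
  have hev : ∀ c : Fin (2 * r + 1) → Fin (2 * r + 1) → Fin 2 → k,
      eval (fun p : P => c p.1 p.2.1 p.2.2) Φ = Matrix.det (Matrix.of fun j a : Fin (r+1) =>
        coeff (mono r a) (pf (2*r) ((Nc c).submatrix (idx j).succAbove (idx j).succAbove))) := by
    intro c
    have hmap : Ngen.map (MvPolynomial.map (eval (fun p : P => c p.1 p.2.1 p.2.2))) = Nc c := by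
      ext1 a b
      simp only [Ngen, Nc, Matrix.map_apply, Matrix.of_apply, map_sum, map_mul, map_C, map_X,
        eval_X]
    show eval _ (Matrix.det _) = _
    rw [RingHom.map_det]
    congr 1
    ext1 j a
    simp only [RingHom.mapMatrix_apply, Matrix.map_apply, Matrix.of_apply]
    rw [← coeff_map, ← pf_map, ← Matrix.submatrix_map, hmap]
  refine ⟨Φ, ⟨c0 k (2*r+1), fun i j l => c0_antisymm k _ i j l, ?_⟩, ?_⟩
  · rw [hev]
    have : (Matrix.of fun j a : Fin (r+1) =>
        coeff (mono r a) (pf (2*r) ((Nc (c0 k (2*r+1))).submatrix (idx j).succAbove (idx j).succAbove)))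
        = (1 : Matrix (Fin (r+1)) (Fin (r+1)) k) := by
      ext1 j a
      simp only [Matrix.of_apply, Nc]
      rw [sum_c0, pf_special k r (j:ℕ) (by have := j.isLt; omega) (idx j) rfl, coeff_special,
        Matrix.one_apply]
    rw [this, Matrix.det_one]
    exact one_ne_zero
  · intro c hc hΦ
    rw [hev] at hΦ
    apply le_antisymm
    · rw [Submodule.span_le]
      rintro _ ⟨i, rfl⟩
      show MvPolynomial.IsHomogeneous (pf (2*r) _) r
      apply pf_homog
      intro a b
      simp only [Matrix.submatrix_apply, Matrix.of_apply]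
      exact IsHomogeneous.sum _ _ _ fun l _ => isHomogeneous_C_mul_X _ _
    · refine le_trans (span_of_det_ne_zero r
        (fun j => pf (2*r) ((Nc c).submatrix (idx j).succAbove (idx j).succAbove)) ?_ hΦ) ?_
      · intro j
        apply pf_homog
        intro a b
        simp only [Nc, Matrix.submatrix_apply, Matrix.of_apply]
        exact IsHomogeneous.sum _ _ _ fun l _ => isHomogeneous_C_mul_X _ _
      · apply Submodule.span_mono
        rintro _ ⟨j, rfl⟩
        exact ⟨idx j, rfl⟩

end Groth.Agent.S16355
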