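import Groth.Statements.S16356
import Mathlib

set_option autoImplicit false
universe u
open OrdAV

namespace Groth.Agent.S16356

section helpers

open Finset

/-- prime exponent case -/
theorem prime_case {R : Type*} [CommRing R] [IsDomain R] (p : ℕ) (hp : p.Prime) (hp2 : p ≠ 2)
    (hp0 : (p : R) ≠ 0) (hpu : ¬ IsUnit (p : R)) (q : ℕ) (hq : q.Prime) (x : R)
    (hx : (p : R) ∣ x - 1) (hxq : x ^ q = 1) : x = 1 := by
  by_contra hne
  have hs : ∑ i ∈ range q, x ^ i = 0 := by
    have := geom_sum_mul x q
    rw [hxq, sub_self] at this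
    rcases mul_eq_zero.mp this with h | h
    · exact h
    · exact absurd (sub_eq_zero.mp h) hne
  by_cases hqp : q = p
  · subst hqp
    obtain ⟨w, hw⟩ := hx
    have hx' : x = 1 + (q : R) * w := by rw [← hw]; ring
    -- expansion
    have hexp : ∀ i : ℕ, ∃ k : R, x ^ i = 1 + (i : R) * ((q : R) * w) + k * ((q : R) * w) ^ 2 := by
      intro i
      obtain ⟨k, hk⟩ := Polynomial.powAddExpansion (1 : R) ((q : R) * w) i
      refine ⟨k, ?_⟩
      rw [hx', hk]
      simp
    choose k hk using hexp
    have hodd : ∃ t : ℕ, q - 1 = 2 * t := by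
      rcases hp.eq_two_or_odd with h | h
      · exact absurd h hp2
      · exact ⟨q / 2, by omega⟩
    obtain ⟨t, ht⟩ := hodd
    have hsumid : (∑ i ∈ range q, (i : R)) = (q : R) * (t : R) := by
      have h1 := Finset.sum_range_id_mul_two q
      rw [ht] at h1
      have h2 : ∑ i ∈ range q, i = q * t := by
        have : (∑ i ∈ range q, i) * 2 = (q * t) * 2 := by rw [h1]; ring
        exact Nat.eq_of_mul_eq_mul_right (by norm_num) this
      have := congrArg (Nat.cast : ℕ → R) h2
      push_cast at this
      exact this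
    have hsum : ∑ i ∈ range q, x ^ i =
        (q : R) + (q : R) ^ 2 * (w * t + w ^ 2 * ∑ i ∈ range q, k i) := by
      calc ∑ i ∈ range q, x ^ i
          = ∑ i ∈ range q, (1 + (i : R) * ((q : R) * w) + k i * ((q : R) * w) ^ 2) :=
            Finset.sum_congr rfl fun i _ => hk i
        _ = (q : R) + (∑ i ∈ range q, (i : R)) * ((q : R) * w) +
              (∑ i ∈ range q, k i) * ((q : R) * w) ^ 2 := by
            rw [Finset.sum_add_distrib, Finset.sum_add_distrib, Finset.sum_mul, Finset.sum_mul]
            simp
        _ = _ := by rw [hsumid]; ring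
    rw [hs] at hsum
    -- q = - q^2 * r
    set r := w * t + w ^ 2 * ∑ i ∈ range q, k i
    have h3 : (q : R) * (1 + (q : R) * r) = 0 := by
      rw [mul_add, mul_one, ← mul_assoc, ← sq]
      exact hsum.symm
    rcases mul_eq_zero.mp h3 with h | h
    · exact hp0 h
    · apply hpu
      refine IsUnit.of_mul_eq_one (-r) ?_
      linear_combination (-1 : R) * h
  · -- q ≠ p
    have hdvd : (p : R) ∣ (q : R) := by
      have h1 : (p : R) ∣ ∑ i ∈ range q, (x ^ i - 1) := by
        refine Finset.dvd_sum fun i _ => ?_
        have := sub_dvd_pow_sub_pow x 1 i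
        rw [one_pow] at this
        exact hx.trans this
      rw [Finset.sum_sub_distrib, hs] at h1
      simp only [sum_const, card_range, nsmul_eq_mul, mul_one, zero_sub] at h1
      exact (dvd_neg.mp h1)
    have hcop : IsCoprime (p : R) (q : R) := by
      have h1 : Nat.Coprime p q := (Nat.coprime_primes hp hq).mpr (Ne.symm hqp)
      have h2 : IsCoprime (p : ℤ) (q : ℤ) := Nat.isCoprime_iff_coprime.mpr h1
      have := h2.map (Int.castRingHom R)
      simpa using this
    exact hpu (hcop.isUnit_of_dvd' dvd_rfl hdvd)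

theorem general_case {R : Type*} [CommRing R] [IsDomain R] (p : ℕ) (hp : p.Prime) (hp2 : p ≠ 2)
    (hp0 : (p : R) ≠ 0) (hpu : ¬ IsUnit (p : R)) :
    ∀ n : ℕ, 0 < n → ∀ x : R, (p : R) ∣ x - 1 → x ^ n = 1 → x = 1 := by
  intro n
  induction n using Nat.strong_induction_on with
  | _ n ih =>
    intro hn x hx hxn
    by_cases h1 : n = 1
    · rw [h1, pow_one] at hxn
      exact hxn
    · have hq : (n.minFac).Prime := Nat.minFac_prime h1
      obtain ⟨n', hn'⟩ := Nat.minFac_dvd n
      have hn'pos : 0 < n' := by
        rcases Nat.eq_zero_or_pos n' with h | h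
        · rw [h, mul_zero] at hn'; omega
        · exact h
      have hlt : n' < n := by
        have := hq.two_le
        nlinarith
      have hxq : (p : R) ∣ x ^ n.minFac - 1 := by
        have := sub_dvd_pow_sub_pow x 1 n.minFac
        rw [one_pow] at this
        exact hx.trans this
      have h2 : (x ^ n.minFac) ^ n' = 1 := by
        rw [← pow_mul, ← hn', hxn]
      have h3 := ih n' hlt hn'pos (x ^ n.minFac) hxq h2
      exact prime_case p hp hp2 hp0 hpu n.minFac hq x hx h3

theorem main (p : ℕ) [Fact p.Prime] (hp : p ≠ 2)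
    (k : Type u) [Field k] [CharP k p] [PerfectRing k p]
    (x : WittVector p k) (n : ℕ) (hn : 0 < n) (hx : x ^ n = 1) (h0 : x.coeff 0 = 1) : x = 1 := by
  have hp0 : (p : WittVector p k) ≠ 0 := WittVector.p_nonzero p k
  have hpu : ¬ IsUnit (p : WittVector p k) := by
    intro h
    have h1 : (p : WittVector p k) ∈ Ideal.span {(p : WittVector p k)} := Ideal.subset_span rfl
    have h2 := Ideal.eq_top_of_isUnit_mem _ h1 h
    have h3 : (1 : WittVector p k) ∈ Ideal.span {(p : WittVector p k)} := by rw [h2]; trivial
    rw [WittVector.mem_span_p_iff_coeff_zero_eq_zero] at h3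
    rw [WittVector.one_coeff_zero] at h3
    exact one_ne_zero h3
  have hdvd : (p : WittVector p k) ∣ x - 1 := by
    rw [← Ideal.mem_span_singleton, WittVector.mem_span_p_iff_coeff_zero_eq_zero]
    have : (x - 1).coeff 0 = x.coeff 0 - (1 : WittVector p k).coeff 0 := by
      have := (WittVector.constantCoeff (p := p) (R := k)).map_sub x 1
      exact this
    rw [this, h0, WittVector.one_coeff_zero, sub_self]
  exact general_case p (Fact.out) hp hp0 hpu n hn x hdvd hx

end helpers

/-- For an odd prime p and a perfect field k of characteristic p, a root of unity in the ring of Witt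
vectors W(k) whose residue in k is 1 is itself 1: if x ^ n = 1 with n ≥ 1 and the zeroth Witt
component of x is 1, then x = 1. (For p = 2 this fails: -1 in W(F_2).) -/
theorem result (p : ℕ) [Fact p.Prime] (hp : p ≠ 2)
    (k : Type u) [Field k] [CharP k p] [PerfectRing k p]
    (x : WittVector p k) (n : ℕ) (hn : 0 < n) (hx : x ^ n = 1) (h0 : x.coeff 0 = 1) : x = 1 := by
  exact main p hp k x n hn hx h0

end Groth.Agent.S16356
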