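import Groth.Statements.S16357
import Mathlib

set_option autoImplicit false
universe u
open OrdAV

namespace Groth.Agent.S16357

section helpers

open Polynomial Finset

theorem main (L : Type u) [Field L] [CharZero L]
    (h : Polynomial L) (hm : h.Monic) (f : Polynomial ℚ)
    (hf : h ^ 2 = Polynomial.map (algebraMap ℚ L) f) :
    ∃ g : Polynomial ℚ, Polynomial.map (algebraMap ℚ L) g = h := by
  set K₀ : Subfield L := (algebraMap ℚ L).fieldRange with hK₀
  set d := h.natDegree with hd
  have hfc : ∀ n, (h * h).coeff n ∈ K₀ := by
    intro n
    rw [← sq, hf, coeff_map]
    exact ⟨_, rfl⟩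
  have key : ∀ j : ℕ, ∀ i : ℕ, d - j ≤ i → h.coeff i ∈ K₀ := by
    intro j
    induction j with
    | zero =>
      intro i hi
      rcases Nat.lt_or_ge d i with hlt | hge
      · rw [coeff_eq_zero_of_natDegree_lt hlt]
        exact K₀.zero_mem
      · have : i = d := by omega
        rw [this, hd, hm.coeff_natDegree]
        exact K₀.one_mem
    | succ j ih =>
      intro i hi
      by_cases hij : d - j ≤ i
      · exact ih i hij
      · -- i = d - j - 1, i < d
        have him : i < d := by omega
        set m := i with hmdef
        have hS := hfc (d + m)
        rw [coeff_mul, Finset.Nat.sum_antidiagonal_eq_sum_range_succ_mk] at hS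
        have hm_mem : m ∈ range (d + m).succ := by rw [mem_range]; omega
        have hd_mem : d ∈ (range (d + m).succ).erase m := by
          rw [mem_erase, mem_range]
          exact ⟨by omega, by omega⟩
        rw [← Finset.add_sum_erase _ _ hm_mem, ← Finset.add_sum_erase _ _ hd_mem] at hS
        have e1 : d + m - m = d := by omega
        have e2 : d + m - d = m := by omega
        simp only [e1, e2] at hS
        rw [hd, hm.coeff_natDegree, ← hd, mul_one, one_mul] at hS
        have hrest : ∑ x ∈ ((range (d + m).succ).erase m).erase d,
            h.coeff x * h.coeff (d + m - x) ∈ K₀ := by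
          refine K₀.sum_mem fun a ha => ?_
          rw [mem_erase, mem_erase, mem_range] at ha
          obtain ⟨had, ham, hale⟩ := ha
          rcases Nat.lt_or_ge a m with h1 | h1
          · have : d < d + m - a := by omega
            rw [coeff_eq_zero_of_natDegree_lt (p := h) this, mul_zero]
            exact K₀.zero_mem
          · rcases Nat.lt_or_ge d a with h2 | h2
            · rw [coeff_eq_zero_of_natDegree_lt (p := h) h2, zero_mul]
              exact K₀.zero_mem
            · have ha1 : d - j ≤ a := by omega
              have ha2 : d - j ≤ d + m - a := by omega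
              exact K₀.mul_mem (ih a ha1) (ih _ ha2)
        set rest := ∑ x ∈ ((range (d + m).succ).erase m).erase d,
            h.coeff x * h.coeff (d + m - x)
        have h2 : h.coeff m = (h.coeff m + (h.coeff m + rest) - rest) / 2 := by
          field_simp
          ring
        rw [h2]
        refine K₀.div_mem (K₀.sub_mem hS hrest) ?_
        exact ⟨2, by simp⟩
  have hlift : h ∈ Polynomial.lifts (algebraMap ℚ L) := by
    rw [Polynomial.lifts_iff_coeff_lifts]
    intro n
    have := key d n (by omega)
    exact this
  obtain ⟨g, hg⟩ := hlift
  exact ⟨g, hg⟩

end helpers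

/-- Over a field L of characteristic zero, a monic polynomial h whose square has rational coefficients
has rational coefficients itself. -/
theorem result (L : Type u) [Field L] [CharZero L]
    (h : Polynomial L) (hm : h.Monic) (f : Polynomial ℚ)
    (hf : h ^ 2 = Polynomial.map (algebraMap ℚ L) f) :
    ∃ g : Polynomial ℚ, Polynomial.map (algebraMap ℚ L) g = h := by
  exact main L h hm f hf

end Groth.Agent.S16357
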