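import Groth.Statements.S16358
import Mathlib

set_option autoImplicit false
universe u v w
open OrdAV

namespace Groth.Agent.S16358

section helpers

open TensorProduct Pointwise

theorem main (p : ℕ) [Fact p.Prime]
    (k : Type u) [Field k] [CharP k p] [PerfectRing k p]
    (M : Type v) [AddCommGroup M] [Module (WittVector p k) M]
    [Module.Free (WittVector p k) M] [Module.Finite (WittVector p k) M]
    (G : Type w) [Group G] [Finite G] (ρ : Representation (WittVector p k) G M) :
    Function.Injective
      (LinearMap.lTensor (WittVector p k ⧸ Ideal.span {(p : WittVector p k)}) ρ.invariants.subtype) := by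
  set W := WittVector p k
  set I : Ideal W := Ideal.span {(p : W)}
  set N := ρ.invariants
  have hp0 : (p : W) ≠ 0 := WittVector.p_nonzero p k
  have hrep : ∀ t : (W ⧸ I) ⊗[W] N, ∃ n : N, t = (1 : W ⧸ I) ⊗ₜ[W] n := by
    intro t
    induction t using TensorProduct.induction_on with
    | zero => exact ⟨0, by simp⟩
    | tmul x n =>
      obtain ⟨a, rfl⟩ := Ideal.Quotient.mk_surjective x
      refine ⟨a • n, ?_⟩
      rw [TensorProduct.tmul_smul, TensorProduct.smul_tmul']
      congr 1
      rw [Algebra.smul_def, mul_one]
      rfl
    | add x y hx hy =>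
      obtain ⟨n₁, rfl⟩ := hx
      obtain ⟨n₂, rfl⟩ := hy
      exact ⟨n₁ + n₂, by rw [TensorProduct.tmul_add]⟩
  rw [injective_iff_map_eq_zero]
  intro t ht
  obtain ⟨n, rfl⟩ := hrep t
  rw [LinearMap.lTensor_tmul] at ht
  have h1 := congrArg (TensorProduct.quotTensorEquivQuotSMul M I) ht
  rw [TensorProduct.quotTensorEquivQuotSMul_mk_one_tmul, map_zero,
    Submodule.Quotient.mk_eq_zero] at h1
  have h2 : (n : M) ∈ (p : W) • (⊤ : Submodule W M) := by
    rw [← Submodule.ideal_span_singleton_smul]
    exact h1
  obtain ⟨m, -, hm⟩ := (Submodule.mem_smul_pointwise_iff_exists _ _ _).mp h2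
  have hmN : m ∈ N := by
    rw [Representation.mem_invariants]
    intro g
    have hn := (Representation.mem_invariants ρ (n : M)).mp n.2 g
    rw [← hm, map_smul] at hn
    have h3 : (p : W) • (ρ g m - m) = 0 := by rw [smul_sub, hn, sub_self]
    rcases smul_eq_zero.mp h3 with h | h
    · exact absurd h hp0
    · exact sub_eq_zero.mp h
  have hn' : n = (p : W) • (⟨m, hmN⟩ : N) := by
    apply Subtype.ext
    simp [hm]
  rw [hn', TensorProduct.tmul_smul, TensorProduct.smul_tmul']
  have : ((p : W) • (1 : W ⧸ I)) = 0 := by
    rw [Algebra.smul_def, mul_one]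
    exact Ideal.Quotient.eq_zero_iff_mem.mpr (Ideal.subset_span rfl)
  rw [this, TensorProduct.zero_tmul]

end helpers

/-- Let k be a perfect field of characteristic p > 0 and W = W(k); let M be a finitely generated free
W-module on which a finite group G acts W-linearly, with invariant submodule M^G. Then the map
(W/pW) ⊗ M^G → (W/pW) ⊗ M induced by the inclusion is injective. Since M^G is free, this implies
rank_W M^G ≤ dim_k (M/pM)^G; the published statement is that inequality, and this row states the
stronger injectivity. -/
theorem result (p : ℕ) [Fact p.Prime]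
    (k : Type u) [Field k] [CharP k p] [PerfectRing k p]
    (M : Type v) [AddCommGroup M] [Module (WittVector p k) M]
    [Module.Free (WittVector p k) M] [Module.Finite (WittVector p k) M]
    (G : Type w) [Group G] [Finite G] (ρ : Representation (WittVector p k) G M) :
    Function.Injective
      (LinearMap.lTensor (WittVector p k ⧸ Ideal.span {(p : WittVector p k)}) ρ.invariants.subtype) := by
  exact main p k M G ρ

end Groth.Agent.S16358
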