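import Groth.Statements.S16361
import Groth.Agent.Lib.Helper24.FibSet4

set_option autoImplicit false
universe v u
open CategoryTheory CategoryTheory.Limits
open FibCat

namespace Groth.Agent.S16361

open CategoryTheory CategoryTheory.Limits
open Groth.Agent.Lib.Helper24.FibGrpd

lemma pi2_lift_iff {A B D : Type*} [Category A] [Category B] [Category D] (F : A ⥤ D) (G : B ⥤ D)
    {x y : CategoricalPullback F G} (m : x ⟶ y) (f : x.snd ⟶ y.snd) :
    (CategoricalPullback.π₂ F G).IsHomLift f m ↔ m.snd = f := by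
  constructor
  · intro h
    have h1 : m.snd = eqToHom (rfl : x.snd = x.snd) ≫ f ≫ eqToHom (rfl : y.snd = y.snd) :=
      IsHomLift.fac' (CategoricalPullback.π₂ F G) f m
    simpa using h1
  · intro h
    subst h
    exact IsHomLift.map (CategoricalPullback.π₂ F G) m

lemma lift_of_map_eq {A B : Type*} [Category A] [Category B] (p : A ⥤ B) {a b : A} (φ : a ⟶ b)
    (f : p.obj a ⟶ p.obj b) (h : p.map φ = f) : p.IsHomLift f φ := by
  subst h; exact IsHomLift.map p φ

lemma map_eq_of_lift {A B : Type*} [Category A] [Category B] (p : A ⥤ B) {a b : A} (φ : a ⟶ b)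
    (f : p.obj a ⟶ p.obj b) [h : p.IsHomLift f φ] : p.map φ = f := by
  have := IsHomLift.fac' p f φ
  simpa using this

theorem part1 {S : Type u} [Category.{v} S] {X : Type u} [Category.{v} X]
    {Y : Type u} [Category.{v} Y] (πX : X ⥤ S) (hX : FibCat.IsFibGrpd πX)
    (F : Y ⥤ X) (hY : FibCat.IsFibGrpd (F ⋙ πX)) :
    FibCat.IsFibGrpd (CategoricalPullback.π₂ F (𝟭 X)) := by
  constructor
  · intro a V m₀
    obtain ⟨m, hm⟩ : ∃ m : V ⟶ a.snd, m = m₀ := ⟨m₀, rfl⟩
    subst hm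
    obtain ⟨φ, hφ⟩ : ∃ φ : F.obj a.fst ≅ a.snd, φ = a.iso := ⟨_, rfl⟩
    obtain ⟨y', k, hk⟩ := hY.exists_lift (x := a.fst) (πX.map m ≫ πX.map φ.inv)
    have hy' : πX.obj (F.obj y') = πX.obj V :=
      IsHomLift.domain_eq (F ⋙ πX) (πX.map m ≫ πX.map φ.inv) k
    have hk1 : πX.IsHomLift (πX.map m ≫ πX.map φ.inv) (F.map k) :=
      IsHomLift.of_fac πX _ _ hy' rfl (IsHomLift.fac (F ⋙ πX) (πX.map m ≫ πX.map φ.inv) k)
    have hk2 : πX.IsHomLift ((πX.map m ≫ πX.map φ.inv) ≫ πX.map φ.hom) (F.map k ≫ φ.hom) :=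
      inferInstance
    have hk3 : πX.IsHomLift (πX.map m) (F.map k ≫ φ.hom) := by
      have e : (πX.map m ≫ πX.map φ.inv) ≫ πX.map φ.hom = πX.map m := by
        rw [Category.assoc, ← πX.map_comp, Iso.inv_hom_id, πX.map_id, Category.comp_id]
      rw [← e]; exact hk2
    have hs := hX.isStronglyCartesian m
    obtain ⟨α, ⟨hαl, hα⟩, _⟩ := Functor.IsStronglyCartesian.universal_property πX (πX.map m) m
      (𝟙 (πX.obj V)) (πX.map m) (Category.id_comp _).symm (F.map k ≫ φ.hom)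
    have hαiso : IsIso α := isIso_of_isFibGrpd πX hX (𝟙 (πX.obj V)) α
    let a' : CategoricalPullback F (𝟭 X) := ⟨y', V, asIso α⟩
    refine ⟨a', ⟨k, m, ?_⟩, ?_⟩
    · change F.map k ≫ a.iso.hom = α ≫ m
      rw [← hφ]; exact hα.symm
    · exact (pi2_lift_iff F (𝟭 X) (x := a') (y := a) _ m).mpr rfl
  · intro a' a Φ
    refine { toIsHomLift := inferInstance, universal_property' := ?_ }
    intro a'' n₀ Ψ hΨ₀
    obtain ⟨n, hn⟩ : ∃ n : a''.snd ⟶ a'.snd, n = n₀ := ⟨n₀, rfl⟩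
    subst hn
    have hΨsnd : Ψ.snd = n ≫ Φ.snd := (pi2_lift_iff F (𝟭 X) Ψ (n ≫ Φ.snd)).mp hΨ₀
    have wΦ : F.map Φ.fst ≫ a.iso.hom = a'.iso.hom ≫ Φ.snd := Φ.w
    have wΨ : F.map Ψ.fst ≫ a.iso.hom = a''.iso.hom ≫ Ψ.snd := Ψ.w
    -- key equation in X
    have key : F.map Ψ.fst = (a''.iso.hom ≫ n ≫ a'.iso.inv) ≫ F.map Φ.fst := by
      have e1 : a'.iso.inv ≫ F.map Φ.fst = Φ.snd ≫ a.iso.inv := by
        rw [Iso.inv_comp_eq, ← Category.assoc, ← wΦ, Category.assoc, Iso.hom_inv_id, Category.comp_id]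
      rw [Category.assoc, Category.assoc, e1, ← Category.assoc n, ← hΨsnd, ← Category.assoc, ← wΨ,
        Category.assoc, Iso.hom_inv_id, Category.comp_id]
    have hs := hY.isStronglyCartesian Φ.fst
    have hΨl : (F ⋙ πX).IsHomLift (πX.map (a''.iso.hom ≫ n ≫ a'.iso.inv) ≫ (F ⋙ πX).map Φ.fst)
        Ψ.fst := by
      apply lift_of_map_eq
      change πX.map (F.map Ψ.fst) = _ ≫ πX.map (F.map Φ.fst)
      rw [key, πX.map_comp]
    obtain ⟨c, ⟨hcl, hc⟩, hcu⟩ := Functor.IsStronglyCartesian.universal_property (F ⋙ πX)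
      ((F ⋙ πX).map Φ.fst) Φ.fst (πX.map (a''.iso.hom ≫ n ≫ a'.iso.inv))
      (πX.map (a''.iso.hom ≫ n ≫ a'.iso.inv) ≫ (F ⋙ πX).map Φ.fst) rfl Ψ.fst
    have hFc : πX.map (F.map c) = πX.map (a''.iso.hom ≫ n ≫ a'.iso.inv) :=
      map_eq_of_lift (F ⋙ πX) c _
    have hw : F.map c ≫ a'.iso.hom = a''.iso.hom ≫ n := by
      have hs2 := hX.isStronglyCartesian Φ.snd
      have hA : πX.IsHomLift (πX.map (a''.iso.hom ≫ n)) (F.map c ≫ a'.iso.hom) := by
        apply lift_of_map_eq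
        rw [πX.map_comp, hFc, ← πX.map_comp]
        simp
      have hB : πX.IsHomLift (πX.map (a''.iso.hom ≫ n)) (a''.iso.hom ≫ n) := IsHomLift.map πX _
      apply Functor.IsStronglyCartesian.ext πX (πX.map Φ.snd) Φ.snd (πX.map (a''.iso.hom ≫ n))
      rw [Category.assoc, ← wΦ, ← Category.assoc, ← F.map_comp, hc, wΨ, hΨsnd, Category.assoc]
    refine ⟨⟨c, n, hw⟩, ⟨?_, ?_⟩, ?_⟩
    · exact (pi2_lift_iff F (𝟭 X) (x := a'') (y := a') _ n).mpr rfl
    · apply CategoricalPullback.hom_ext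
      · exact hc
      · exact hΨsnd.symm
    · rintro Χ' ⟨hΧ'l, hΧ'⟩
      have h1 : Χ'.snd = n := (pi2_lift_iff F (𝟭 X) Χ' n).mp hΧ'l
      have wΧ : F.map Χ'.fst ≫ a'.iso.hom = a''.iso.hom ≫ Χ'.snd := Χ'.w
      have h2 : (F ⋙ πX).IsHomLift (πX.map (a''.iso.hom ≫ n ≫ a'.iso.inv)) Χ'.fst := by
        apply lift_of_map_eq
        change πX.map (F.map Χ'.fst) = _
        congr 1
        rw [← h1, ← Category.assoc, ← wΧ, Category.assoc, Iso.hom_inv_id, Category.comp_id]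
      apply CategoricalPullback.hom_ext
      · exact hcu Χ'.fst ⟨h2, congrArg (fun t => t.fst) hΧ'⟩
      · exact h1


/-- Let S be a category, π_X : X ⥤ S and π_Y : Y ⥤ S be fibred in groupoids, and F : Y ⥤ X a functor
with F ⋙ π_X = π_Y. Consider the category of triples (y, x, φ) with φ : F y ≅ x an arbitrary
isomorphism of X and morphisms the compatible pairs of morphisms (the categorical pullback of F and
the identity of X; the isomorphism φ is not required to lie over an identity of S). Its projection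
to X is fibred in groupoids over X, and the composite of that projection with π_X is fibred in
groupoids over S. (The published statement also asserts that y ↦ (y, F y, id) and (y, x, φ) ↦ y form
an equivalence over S; that is not asserted here.) -/
theorem result {S : Type u} [Category.{v} S] {X : Type u} [Category.{v} X]
    {Y : Type u} [Category.{v} Y] (πX : X ⥤ S) (πY : Y ⥤ S) (hX : FibCat.IsFibGrpd πX) (hY : FibCat.IsFibGrpd πY)
    (F : Y ⥤ X) (hF : F ⋙ πX = πY) :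
    FibCat.IsFibGrpd (CategoricalPullback.π₂ F (𝟭 X)) ∧
      FibCat.IsFibGrpd (CategoricalPullback.π₂ F (𝟭 X) ⋙ πX) := by
  subst hF
  have h1 := part1 πX hX F hY
  exact ⟨h1, Groth.Agent.Lib.Helper24.FibSet.isFibGrpd_comp _ _ h1 hX⟩

end Groth.Agent.S16361
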