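import Groth.Statements.S16362
import Mathlib

set_option autoImplicit false
universe u
open MovLem

namespace Groth.Agent.S16362

section helpers

open Polynomial

theorem sum_Icc_reflect {M : Type*} [AddCommMonoid M] (N : ℕ) (g : ℕ → ℕ → M) :
    ∑ j ∈ Finset.Icc 1 N, g (N - j) j = ∑ i ∈ Finset.range N, g i (N - i) := by
  refine Finset.sum_bij' (fun j _ => N - j) (fun i _ => N - i) ?_ ?_ ?_ ?_ ?_
  · intro j hj
    rw [Finset.mem_Icc] at hj
    rw [Finset.mem_range]
    omega
  · intro i hi
    rw [Finset.mem_range] at hi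
    rw [Finset.mem_Icc]
    omega
  · intro j hj
    rw [Finset.mem_Icc] at hj
    show N - (N - j) = j
    omega
  · intro i hi
    rw [Finset.mem_range] at hi
    show N - (N - i) = i
    omega
  · intro j hj
    rw [Finset.mem_Icc] at hj
    have : N - (N - j) = j := by omega
    rw [this]

theorem main
    {A : Type u} [CommRing A] (p : Ideal A) [p.IsPrime] (ζ u : A) (hu : u ∉ p) :
    IsIntegral (A ⧸ p)
        (algebraMap (A ⧸ p) (FractionRing (A ⧸ p)) (Ideal.Quotient.mk p ζ) /
          algebraMap (A ⧸ p) (FractionRing (A ⧸ p)) (Ideal.Quotient.mk p u)) ↔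
      ∃ (N : ℕ) (a : ℕ → A),
        ζ ^ N + ∑ i ∈ Finset.Icc 1 N, a i * ζ ^ (N - i) * u ^ i ∈ p := by
  set D := A ⧸ p
  set F := FractionRing D
  set z : D := Ideal.Quotient.mk p ζ
  set w : D := Ideal.Quotient.mk p u
  have hw : w ≠ 0 := by
    intro h
    exact hu (Ideal.Quotient.eq_zero_iff_mem.mp h)
  have hinj : Function.Injective (algebraMap D F) := IsFractionRing.injective D F
  have hwF : algebraMap D F w ≠ 0 := fun h => hw (hinj (by rw [h, map_zero]))
  constructor
  · rintro ⟨q, hqm, hq⟩
    have h1 : aeval (algebraMap D F z) (scaleRoots q w) = 0 :=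
      scaleRoots_aeval_eq_zero_of_aeval_div_eq_zero hinj hq (mem_nonZeroDivisors_of_ne_zero hw)
    have h2 : eval z (scaleRoots q w) = 0 := by
      apply hinj
      rw [map_zero, ← h1, aeval_algebraMap_apply, coe_aeval_eq_eval]
    set N := q.natDegree with hN
    rw [eval_eq_sum_range, natDegree_scaleRoots, ← hN, Finset.sum_range_succ] at h2
    simp only [coeff_scaleRoots, ← hN] at h2
    rw [Nat.sub_self, pow_zero, mul_one, hN, hqm.coeff_natDegree, ← hN, one_mul] at h2
    choose a ha using fun j : ℕ => Ideal.Quotient.mk_surjective (I := p) (q.coeff (N - j))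
    refine ⟨N, a, ?_⟩
    rw [← Ideal.Quotient.eq_zero_iff_mem, map_add, map_pow, map_sum]
    simp only [map_mul, map_pow, ha]
    rw [← h2, add_comm]
    congr 1
    rw [sum_Icc_reflect N (fun i j => q.coeff i * z ^ i * w ^ j)]
    refine Finset.sum_congr rfl fun i _ => ?_
    ring
  · rintro ⟨N, a, h⟩
    rw [← Ideal.Quotient.eq_zero_iff_mem, map_add, map_pow, map_sum] at h
    simp only [map_mul, map_pow] at h
    let r : D[X] := ∑ i ∈ Finset.Icc 1 N, C (Ideal.Quotient.mk p (a i)) * X ^ (N - i)
    have hr : r.degree < (N : WithBot ℕ) := by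
      refine (degree_sum_le _ _).trans_lt ?_
      refine (Finset.sup_lt_iff (WithBot.bot_lt_coe N)).mpr ?_
      intro i hi
      rw [Finset.mem_Icc] at hi
      refine (degree_C_mul_X_pow_le _ _).trans_lt ?_
      have hlt : N - i < N := by omega
      rw [Nat.cast_withBot]
      exact WithBot.coe_lt_coe.mpr hlt
    refine ⟨X ^ N + r, monic_X_pow_add hr, ?_⟩
    rw [eval₂_add, eval₂_X_pow, eval₂_finsetSum]
    simp only [eval₂_mul, eval₂_C, eval₂_X_pow]
    have h' := congrArg (algebraMap D F) h
    rw [map_add, map_pow, map_sum, map_zero] at h'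
    simp only [map_mul, map_pow] at h'
    set zF := algebraMap D F z
    set wF := algebraMap D F w
    have key : (zF / wF) ^ N + ∑ i ∈ Finset.Icc 1 N,
        algebraMap D F (Ideal.Quotient.mk p (a i)) * (zF / wF) ^ (N - i) =
        (zF ^ N + ∑ i ∈ Finset.Icc 1 N,
          algebraMap D F (Ideal.Quotient.mk p (a i)) * zF ^ (N - i) * wF ^ i) / wF ^ N := by
      rw [add_div, Finset.sum_div, div_pow]
      congr 1
      refine Finset.sum_congr rfl fun i hi => ?_
      rw [Finset.mem_Icc] at hi
      have : wF ^ N = wF ^ (N - i) * wF ^ i := by rw [← pow_add]; congr 1; omega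
      rw [this, div_pow]
      rw [mul_div_mul_right _ _ (pow_ne_zero i hwF), mul_div_assoc]
    rw [key, h', zero_div]

end helpers

/-- Let A be a commutative ring, p a prime ideal of A, and ζ, u elements of A with u not in p. Then the
quotient of the classes of ζ and u in the fraction field of the domain A ⧸ p is integral over A ⧸ p
if and only if there exist a natural number N and elements a_1, …, a_N of A such that ζ^N + a_1
ζ^(N-1) u + ⋯ + a_N u^N lies in p; equivalently, some binary form of degree N with coefficients in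
A, monic in the first variable, evaluated at (ζ, u), lies in p. -/
theorem result
    {A : Type u} [CommRing A] (p : Ideal A) [p.IsPrime] (ζ u : A) (hu : u ∉ p) :
    IsIntegral (A ⧸ p)
        (algebraMap (A ⧸ p) (FractionRing (A ⧸ p)) (Ideal.Quotient.mk p ζ) /
          algebraMap (A ⧸ p) (FractionRing (A ⧸ p)) (Ideal.Quotient.mk p u)) ↔
      ∃ (N : ℕ) (a : ℕ → A),
        ζ ^ N + ∑ i ∈ Finset.Icc 1 N, a i * ζ ^ (N - i) * u ^ i ∈ p := by
  exact main p ζ u hu

end Groth.Agent.S16362
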