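import Groth.Statements.S16367
import Mathlib

set_option autoImplicit false
universe u
open MovLem

namespace Groth.Agent.S16367


open Polynomial in
/-- expansion of a constant monomial in `P[τ]` -/
theorem C_monomial_eq {k : Type*} [CommRing k] (d n : ℕ) (m : (Fin d ⊕ Fin n) →₀ ℕ) (a : k) :
    (Polynomial.C (MvPolynomial.monomial m a) : Polynomial (MvPolynomial (Fin d ⊕ Fin n) k))
      = Polynomial.C (MvPolynomial.C a) *
          (∏ i : Fin d, Polynomial.C (MvPolynomial.X (Sum.inl i)) ^ m (Sum.inl i)) *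
          ∏ j : Fin n, Polynomial.C (MvPolynomial.X (Sum.inr j)) ^ m (Sum.inr j) := by
  rw [MvPolynomial.monomial_eq, Finsupp.prod_fintype _ _ (fun _ => pow_zero _),
    Fintype.prod_sum_type]
  simp only [map_mul, map_prod, map_pow, mul_assoc]

/-- abstract congruence modulo `B` -/
theorem term_congr {S : Type*} [CommRing S] (d : ℕ) (B τ A W : S) (x V : Fin d → S)
    (mi : Fin d → ℕ) (N : ℕ) (he : ∑ i, mi i ≤ N) :
    A * τ ^ (N - ∑ i, mi i) * (∏ i, (τ * x i + B * V i) ^ mi i) * W
      - τ ^ N * (A * (∏ i, x i ^ mi i) * W) ∈ Ideal.span {B} := by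
  rw [← Ideal.Quotient.eq]
  generalize hq : Ideal.Quotient.mk (Ideal.span {B}) = q
  have hfac : ∀ i : Fin d, q (τ * x i + B * V i) = q τ * q (x i) := by
    intro i
    rw [← map_mul, ← hq, Ideal.Quotient.eq, add_sub_cancel_left]
    exact Ideal.mul_mem_right _ _ (Ideal.subset_span rfl)
  simp only [map_mul, map_prod, map_pow, hfac, mul_pow, Finset.prod_mul_distrib,
    Finset.prod_pow_eq_pow_sum]
  have : q τ ^ N = q τ ^ (N - ∑ i : Fin d, mi i) * q τ ^ (∑ i : Fin d, mi i) := by
    rw [← pow_add, Nat.sub_add_cancel he]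
  rw [this]
  ring

/-- The chart computation of its proof: let k be a commutative ring, P = k[x_1, …, x_d, w_1, …, w_n] a
polynomial ring in two groups of variables, u a polynomial in the x-variables alone, v a vector in
k^d, J a set of indices among the w-variables with ζ = ∏_{j ∈ J} w_j, and N ≤ s natural numbers. Let
(f_λ) be a finite family of elements of P, each of total degree at most N in the x-variables, and
assume that ζ^N + c_1 ζ^(N-1) u + ⋯ + c_N u^N lies in the ideal generated by the f_λ for some c_1,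
…, c_N ∈ P. For each λ let φ_λ ∈ P[τ] be the polynomial τ^N · f_λ(x + u^s v/τ, w), written out
monomial by monomial: a monomial a·x^m·w^m' of x-degree e = |m| contributes a · τ^(N-e) · ∏_i (τ x_i
+ u^s v_i)^(m_i) · w^m'. Then there are c'_1, …, c'_N ∈ P[τ] with (τζ)^N + c'_1 (τζ)^(N-1) u + ⋯ +
c'_N u^N in the ideal of P[τ] generated by the φ_λ. (This identity is what shows that translating a
cycle by t·u^s·v preserves the modulus condition on the chart whose coordinates are the z_i and the
1/z_j, with τ = 1/t; integrality of ζ/u, resp. τζ/u, is expressed by such monic binary forms.) -/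
theorem result
    {k : Type u} [CommRing k] (d n : ℕ) (u : MvPolynomial (Fin d) k) (v : Fin d → k)
    (J : Finset (Fin n)) (N s : ℕ) (hs : N ≤ s)
    {Λ : Type u} [Fintype Λ] (f : Λ → MvPolynomial (Fin d ⊕ Fin n) k)
    (hdeg : ∀ l, ∀ m ∈ (f l).support, ∑ i : Fin d, m (Sum.inl i) ≤ N)
    (c : ℕ → MvPolynomial (Fin d ⊕ Fin n) k)
    (hE : (∏ j ∈ J, MvPolynomial.X (Sum.inr j)) ^ N +
        ∑ i ∈ Finset.Icc 1 N, c i * (∏ j ∈ J, MvPolynomial.X (Sum.inr j)) ^ (N - i) *
          MvPolynomial.rename Sum.inl u ^ i ∈ Ideal.span (Set.range f)) :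
    ∃ c' : ℕ → Polynomial (MvPolynomial (Fin d ⊕ Fin n) k),
      (Polynomial.X * Polynomial.C (∏ j ∈ J, MvPolynomial.X (Sum.inr j))) ^ N +
        ∑ i ∈ Finset.Icc 1 N, c' i *
          (Polynomial.X * Polynomial.C (∏ j ∈ J, MvPolynomial.X (Sum.inr j))) ^ (N - i) *
            Polynomial.C (MvPolynomial.rename Sum.inl u) ^ i ∈
      Ideal.span (Set.range fun l : Λ =>
        ∑ m ∈ (f l).support,
          Polynomial.C (MvPolynomial.C (MvPolynomial.coeff m (f l))) *
            Polynomial.X ^ (N - ∑ i : Fin d, m (Sum.inl i)) *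
            (∏ i : Fin d, (Polynomial.X * Polynomial.C (MvPolynomial.X (Sum.inl i)) +
                Polynomial.C (MvPolynomial.rename Sum.inl u ^ s * MvPolynomial.C (v i))) ^ m (Sum.inl i)) *
            ∏ j : Fin n, Polynomial.C (MvPolynomial.X (Sum.inr j)) ^ m (Sum.inr j)) := by
  classical
  obtain ⟨g, hg⟩ := (Ideal.mem_span_range_iff_exists_fun).mp hE
  set ζ : MvPolynomial (Fin d ⊕ Fin n) k := ∏ j ∈ J, MvPolynomial.X (Sum.inr j) with hζ
  set ub : MvPolynomial (Fin d ⊕ Fin n) k := MvPolynomial.rename Sum.inl u with hub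
  obtain ⟨B, hB⟩ : ∃ B : Polynomial (MvPolynomial (Fin d ⊕ Fin n) k), B = Polynomial.C (ub ^ s) :=
    ⟨_, rfl⟩
  set φ : Λ → Polynomial (MvPolynomial (Fin d ⊕ Fin n) k) := fun l : Λ =>
        ∑ m ∈ (f l).support,
          Polynomial.C (MvPolynomial.C (MvPolynomial.coeff m (f l))) *
            Polynomial.X ^ (N - ∑ i : Fin d, m (Sum.inl i)) *
            (∏ i : Fin d, (Polynomial.X * Polynomial.C (MvPolynomial.X (Sum.inl i)) +
                Polynomial.C (ub ^ s * MvPolynomial.C (v i))) ^ m (Sum.inl i)) *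
            ∏ j : Fin n, Polynomial.C (MvPolynomial.X (Sum.inr j)) ^ m (Sum.inr j) with hφ
  -- congruence modulo B
  have hcong : ∀ l, φ l - Polynomial.X ^ N * Polynomial.C (f l) ∈ Ideal.span {B} := by
    intro l
    have h1 : φ l - Polynomial.X ^ N * Polynomial.C (f l)
        = ∑ m ∈ (f l).support,
          (Polynomial.C (MvPolynomial.C (MvPolynomial.coeff m (f l))) *
            Polynomial.X ^ (N - ∑ i : Fin d, m (Sum.inl i)) *
            (∏ i : Fin d, (Polynomial.X * Polynomial.C (MvPolynomial.X (Sum.inl i)) +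
                B * Polynomial.C (MvPolynomial.C (v i))) ^ m (Sum.inl i)) *
            (∏ j : Fin n, Polynomial.C (MvPolynomial.X (Sum.inr j)) ^ m (Sum.inr j))
          - Polynomial.X ^ N * (Polynomial.C (MvPolynomial.C (MvPolynomial.coeff m (f l))) *
              (∏ i : Fin d, Polynomial.C (MvPolynomial.X (Sum.inl i)) ^ m (Sum.inl i)) *
              ∏ j : Fin n, Polynomial.C (MvPolynomial.X (Sum.inr j)) ^ m (Sum.inr j))) := by
      rw [Finset.sum_sub_distrib, ← Finset.mul_sum]
      congr 1
      · rw [hφ]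
        refine Finset.sum_congr rfl fun m _ => ?_
        simp only [Polynomial.C_mul, hB]
      · congr 1
        conv_lhs => rw [← MvPolynomial.support_sum_monomial_coeff (f l)]
        rw [map_sum]
        refine Finset.sum_congr rfl fun m _ => ?_
        rw [C_monomial_eq]
    rw [h1]
    refine Ideal.sum_mem _ fun m hm => ?_
    exact term_congr d B Polynomial.X _ _ _ _ _ N (hdeg l m hm)
  rcases Nat.eq_zero_or_pos N with hN0 | hNpos
  · -- N = 0
    subst hN0
    refine ⟨fun _ => 0, ?_⟩
    simp only [pow_zero, Finset.Icc_eq_empty (by norm_num : ¬ (1 ≤ 0)), Finset.sum_empty,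
      add_zero] at hg ⊢
    have hφeq : ∀ l, φ l = Polynomial.C (f l) := by
      intro l
      conv_rhs => rw [← MvPolynomial.support_sum_monomial_coeff (f l)]
      rw [hφ, map_sum]
      refine Finset.sum_congr rfl fun m hm => ?_
      have he := hdeg l m hm
      have hm0 : ∀ i : Fin d, m (Sum.inl i) = 0 := by
        intro i
        have := Finset.single_le_sum (f := fun i : Fin d => m (Sum.inl i))
          (fun _ _ => Nat.zero_le _) (Finset.mem_univ i)
        omega
      rw [C_monomial_eq]
      simp only [hm0, pow_zero, Finset.prod_const_one, Finset.sum_const_zero, mul_one, Nat.sub_zero]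
    have h1 : (1 : Polynomial (MvPolynomial (Fin d ⊕ Fin n) k))
        = ∑ l, Polynomial.C (g l) * φ l := by
      simp only [hφeq, ← Polynomial.C_mul]
      rw [← map_sum, hg, map_one]
    rw [h1]
    exact Ideal.sum_mem _ fun l _ => Ideal.mul_mem_left _ _ (Ideal.subset_span ⟨l, rfl⟩)
  · -- N ≥ 1
    choose ρ hρ using fun l => Ideal.mem_span_singleton'.mp (hcong l)
    -- the total error term
    set Rr : Polynomial (MvPolynomial (Fin d ⊕ Fin n) k) :=
      Polynomial.C (ub ^ (s - N)) * ∑ l, Polynomial.C (g l) * ρ l with hRr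
    refine ⟨fun i => Polynomial.C (c i) * Polynomial.X ^ i + if i = N then Rr else 0, ?_⟩
    have hsum : (Polynomial.X * Polynomial.C ζ) ^ N +
        ∑ i ∈ Finset.Icc 1 N, (Polynomial.C (c i) * Polynomial.X ^ i + if i = N then Rr else 0) *
          (Polynomial.X * Polynomial.C ζ) ^ (N - i) * Polynomial.C ub ^ i
        = ∑ l, Polynomial.C (g l) * φ l := by
      have hφl : ∀ l, φ l = Polynomial.X ^ N * Polynomial.C (f l) + ρ l * B := by
        intro l
        rw [hρ l]; ring
      simp only [hφl, mul_add, Finset.sum_add_distrib]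
      have h1 : ∑ l, Polynomial.C (g l) * (Polynomial.X ^ N * Polynomial.C (f l))
          = Polynomial.X ^ N * Polynomial.C (∑ l, g l * f l) := by
        rw [map_sum, Finset.mul_sum]
        refine Finset.sum_congr rfl fun l _ => ?_
        rw [Polynomial.C_mul]; ring
      rw [h1, hg]
      simp only [add_mul, Finset.sum_add_distrib]
      have h2 : ∑ i ∈ Finset.Icc 1 N, (if i = N then Rr else 0) *
          (Polynomial.X * Polynomial.C ζ) ^ (N - i) * Polynomial.C ub ^ i
          = Rr * Polynomial.C ub ^ N := by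
        rw [Finset.sum_eq_single N]
        · simp
        · intro i _ hi
          simp [hi]
        · intro h
          exact absurd (Finset.mem_Icc.mpr ⟨hNpos, le_rfl⟩) h
      rw [h2]
      have h3 : Rr * Polynomial.C ub ^ N = ∑ l, Polynomial.C (g l) * (ρ l * B) := by
        rw [hRr, hB, Finset.mul_sum, Finset.sum_mul]
        refine Finset.sum_congr rfl fun l _ => ?_
        have : ub ^ s = ub ^ (s - N) * ub ^ N := by
          rw [← pow_add, Nat.sub_add_cancel hs]
        rw [this, Polynomial.C_mul, Polynomial.C_pow, Polynomial.C_pow]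
        ring
      have h4 : (Polynomial.X * Polynomial.C ζ) ^ N +
          ∑ i ∈ Finset.Icc 1 N, Polynomial.C (c i) * Polynomial.X ^ i *
            (Polynomial.X * Polynomial.C ζ) ^ (N - i) * Polynomial.C ub ^ i
          = Polynomial.X ^ N *
            Polynomial.C (ζ ^ N + ∑ i ∈ Finset.Icc 1 N, c i * ζ ^ (N - i) * ub ^ i) := by
        rw [map_add, map_pow, map_sum, mul_add, Finset.mul_sum, mul_pow]
        refine congrArg₂ (· + ·) rfl (Finset.sum_congr rfl fun i hi => ?_)
        have hiN : i ≤ N := (Finset.mem_Icc.mp hi).2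
        have : (Polynomial.X : Polynomial (MvPolynomial (Fin d ⊕ Fin n) k)) ^ N
            = Polynomial.X ^ i * Polynomial.X ^ (N - i) := by
          rw [← pow_add, Nat.add_sub_cancel' hiN]
        rw [this]
        simp only [map_mul, map_pow, mul_pow]
        ring
      rw [h3, ← add_assoc, h4]
    rw [hsum]
    exact Ideal.sum_mem _ fun l _ => Ideal.mul_mem_left _ _ (Ideal.subset_span ⟨l, rfl⟩)

end Groth.Agent.S16367
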