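import Groth.Statements.S16370
import Mathlib

set_option autoImplicit false
universe u
open CategoryTheory AlgebraicGeometry Opposite
open FrobSch

namespace Groth.Agent.S16370

/-- (ii) ⇒ (iii): let X be a reduced scheme of prime characteristic p, φ the p-th power map on the sheaf
of additive groups underlying O_X (a monomorphism, X being reduced) and B its cokernel in abelian
sheaves. If H^i(X, B) = 0 for all i ≥ 0, then the endomorphism of H^i(X, O_X) induced by φ — the
Hasse–Witt operation — is bijective for all i. (The source has X normal and proper over a perfect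
field; only reducedness enters this implication.) -/
theorem result
    (p : ℕ) [Fact p.Prime] (X : Scheme.{u}) [IsReduced X] (hp : (p : Γ(X, ⊤)) = 0)
    (φ : Coh.toAb (Coh.structureModule X) ⟶ Coh.toAb (Coh.structureModule X))
    (hφ : ∀ (U : X.Opens) (t : Γ(X, U)), φ.hom.app (op U) t = t ^ p)
    (hB : ∀ i : ℕ, Subsingleton (Sheaf.H (Limits.cokernel φ) i))
    (i : ℕ) : Function.Bijective (Sheaf.H.map φ i) := by
  classical
  -- `φ` is a monomorphism
  have hinj : ∀ U : (TopologicalSpace.Opens X)ᵒᵖ, Function.Injective (φ.hom.app U) := by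
    intro U
    obtain ⟨U⟩ := U
    rw [injective_iff_map_eq_zero]
    intro t ht
    have h1 := hφ U t
    rw [ht] at h1
    have hr : _root_.IsReduced Γ(X, U) := inferInstance
    exact (hr.eq_zero (t : Γ(X, U)) ⟨p, h1.symm⟩ : (t : Γ(X, U)) = 0)
  have hmono : Mono φ := by
    have : Mono φ.hom := by
      apply (config := { allowSynthFailures := true }) NatTrans.mono_of_mono_app
      intro U
      exact (AddCommGrpCat.mono_iff_injective _).mpr (hinj U)
    exact Sheaf.Hom.mono_of_presheaf_mono _ _ φ
  let S : ShortComplex (Sheaf (Opens.grothendieckTopology X) AddCommGrpCat.{u}) :=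
    ShortComplex.mk φ (Limits.cokernel.π φ) (Limits.cokernel.condition φ)
  have hS : S.ShortExact :=
    { exact := ShortComplex.exact_cokernel φ
      mono_f := hmono
      epi_g := inferInstanceAs (Epi (Limits.cokernel.π φ)) }
  constructor
  · rw [injective_iff_map_eq_zero]
    intro x hx
    rw [Sheaf.H.map_apply] at hx
    rcases i with _ | n
    · have h2 := Abelian.Ext.postcomp_mk₀_injective_of_mono
        ((constantSheaf (Opens.grothendieckTopology X) AddCommGrpCat.{u}).obj
          (AddCommGrpCat.of (ULift ℤ))) φ
      apply h2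
      change x.comp (Abelian.Ext.mk₀ φ) (add_zero 0) = _
      rw [hx, map_zero]
    · obtain ⟨x₃, hx₃⟩ := Abelian.Ext.covariant_sequence_exact₁ _ hS x hx (n₀ := n) rfl
      have : x₃ = 0 := (hB n).elim _ _
      rw [← hx₃, this, Abelian.Ext.zero_comp]
  · intro y
    have h0 : y.comp (Abelian.Ext.mk₀ S.g) (add_zero i) = 0 := (hB i).elim _ _
    obtain ⟨x₁, hx₁⟩ := Abelian.Ext.covariant_sequence_exact₂ _ hS y h0
    exact ⟨x₁, hx₁⟩

end Groth.Agent.S16370
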