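import Groth.Statements.S16371
import Mathlib

set_option autoImplicit false
universe u v w
open FrobAlg

namespace Groth.Agent.S16371


/-- If `p ^ 2 = 0` then `(a + p * b) ^ p = a ^ p`. -/
theorem add_mul_pow_eq (p : ℕ) [hpp : Fact p.Prime] {B : Type*} [CommRing B]
    (hp : (p : B) ^ 2 = 0) (a b : B) : (a + (p : B) * b) ^ p = a ^ p := by
  rw [add_pow, Finset.sum_eq_single p]
  · simp
  · intro m hm hmp
    have hm' : m < p := by
      have := Finset.mem_range.mp hm
      omega
    rcases Nat.eq_zero_or_pos m with h0 | h0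
    · subst h0
      have h2 : 2 ≤ p := hpp.out.two_le
      have : ((p : B) * b) ^ (p - 0) = (p : B) ^ 2 * ((p : B) ^ (p - 2) * b ^ p) := by
        rw [Nat.sub_zero, mul_pow, ← mul_assoc, ← pow_add]
        congr 2
        omega
      rw [this, hp]
      simp
    · obtain ⟨t, ht⟩ := hpp.out.dvd_choose_self h0.ne' hm'
      have h1 : ((p : B) * b) ^ (p - m) = (p : B) * ((p : B) ^ (p - m - 1) * b ^ (p - m)) := by
        rw [mul_pow, ← mul_assoc, ← pow_succ']
        congr 2
        omega
      rw [ht, h1]
      push_cast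
      have : a ^ m * ((p : B) * ((p : B) ^ (p - m - 1) * b ^ (p - m))) * ((p : B) * (t : B))
          = (p : B) ^ 2 * (a ^ m * ((p : B) ^ (p - m - 1) * b ^ (p - m)) * t) := by ring
      rw [this, hp, zero_mul]
  · intro h
    exact absurd (Finset.mem_range.mpr (Nat.lt_succ_self p)) h

/-- Let p be a prime, A a commutative ring and B, C commutative A-algebras with p² = 0 in B. If two
A-algebra maps g₁, g₂ : C → B agree modulo p, then they agree on every element of C which is
congruent modulo p to an element of the A-subalgebra generated by the p-th powers. (The source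
states this for liftings over a flat ℤ/p²-thickening of two smooth schemes and the subsheaf of
functions whose reduction lies in the image of the relative Frobenius; the smoothness and lifting
hypotheses are not needed for the identity.) -/
theorem result
    (p : ℕ) [Fact p.Prime] (A : Type u) [CommRing A] (B : Type v) [CommRing B] [Algebra A B]
    (C : Type w) [CommRing C] [Algebra A C] (hp : (p : B) ^ 2 = 0)
    (g₁ g₂ : C →ₐ[A] B) (hg : ∀ x : C, g₁ x - g₂ x ∈ Ideal.span ({(p : B)} : Set B))
    (x y : C) (hy : y ∈ Algebra.adjoin A (Set.range fun c : C => c ^ p))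
    (hxy : x - y ∈ Ideal.span ({(p : C)} : Set C)) :
    g₁ x = g₂ x := by
  -- p-th powers lie in the equalizer
  have hpow : ∀ c : C, g₁ (c ^ p) = g₂ (c ^ p) := by
    intro c
    obtain ⟨b, hb⟩ := Ideal.mem_span_singleton'.mp (hg c)
    have h1 : g₁ c = g₂ c + (p : B) * b := by
      rw [mul_comm, hb]; ring
    rw [map_pow, map_pow, h1, add_mul_pow_eq p hp]
  have hadj : ∀ y ∈ Algebra.adjoin A (Set.range fun c : C => c ^ p), g₁ y = g₂ y := by
    intro y hy
    have hle : Algebra.adjoin A (Set.range fun c : C => c ^ p) ≤ AlgHom.equalizer g₁ g₂ := by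
      rw [Algebra.adjoin_le_iff]
      rintro _ ⟨c, rfl⟩
      exact hpow c
    exact hle hy
  obtain ⟨c', hc'⟩ := Ideal.mem_span_singleton'.mp hxy
  have hx : x = y + c' * (p : C) := by rw [hc']; ring
  obtain ⟨b, hb⟩ := Ideal.mem_span_singleton'.mp (hg c')
  rw [hx, map_add, map_add, map_mul, map_mul, hadj y hy, map_natCast, map_natCast]
  have h2 : g₁ c' = g₂ c' + b * (p : B) := by rw [hb]; ring
  rw [h2, add_mul, mul_assoc, ← pow_two, hp, mul_zero, add_zero]

end Groth.Agent.S16371
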