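import Groth.Statements.S1638
import Mathlib.Algebra.Algebra.Subalgebra.Centralizer
import Mathlib.RingTheory.Flat.Basic
import Mathlib.LinearAlgebra.Basis.VectorSpace
import Mathlib.RingTheory.Flat.FaithfullyFlat.Basic

set_option autoImplicit false
universe u
open Brauer

namespace Groth.Agent.S1638

/-- Let A and A' be algebras over a field k with subalgebras B ⊆ A and B' ⊆ A' having centralizers C and
C'. Then the centralizer of the image of B ⊗ B' in A ⊗_k A' is the image of C ⊗_k C'. -/
theorem result (k : Type u) [Field k] (A A' : Type u) [Ring A] [Ring A'] [Algebra k A] [Algebra k A']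
    (B : Subalgebra k A) (B' : Subalgebra k A') :
    Subalgebra.centralizer k ((Algebra.TensorProduct.map B.val B'.val).range : Set (TensorProduct k A A')) =
      (Algebra.TensorProduct.map (Subalgebra.centralizer k (B : Set A)).val (Subalgebra.centralizer k (B' : Set A')).val).range := by
  open Algebra.TensorProduct in
  set C := Subalgebra.centralizer k (B : Set A) with hC
  set C' := Subalgebra.centralizer k (B' : Set A') with hC'
  have hrange : (Algebra.TensorProduct.map B.val B'.val).range =
      B.map (includeLeft (R := k) (S := k) (A := A) (B := A')) ⊔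
        B'.map (includeRight (R := k) (A := A) (B := A')) := by
    rw [Algebra.TensorProduct.map_range, AlgHom.range_comp, AlgHom.range_comp,
      Subalgebra.range_val, Subalgebra.range_val]
  rw [hrange, Subalgebra.centralizer_coe_sup,
    Subalgebra.centralizer_coe_map_includeLeft_eq_center_tensorProduct,
    Subalgebra.centralizer_coe_map_includeRight_eq_center_tensorProduct]
  have hcomp : Algebra.TensorProduct.map C.val C'.val =
      (Algebra.TensorProduct.map C.val (AlgHom.id k A')).comp
        (Algebra.TensorProduct.map (AlgHom.id k C) C'.val) := by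
    rw [← Algebra.TensorProduct.map_comp, AlgHom.comp_id, AlgHom.id_comp]
  have hcomp' : Algebra.TensorProduct.map C.val C'.val =
      (Algebra.TensorProduct.map (AlgHom.id k A) C'.val).comp
        (Algebra.TensorProduct.map C.val (AlgHom.id k C')) := by
    rw [← Algebra.TensorProduct.map_comp, AlgHom.comp_id, AlgHom.id_comp]
  apply le_antisymm
  · rintro w ⟨hw1, ⟨w', rfl⟩⟩
    have hinj : Function.Injective (Algebra.TensorProduct.map (AlgHom.id k A) C'.val) := by
      have := Module.Flat.lTensor_preserves_injective_linearMap (R := k) (M := A)
        C'.val.toLinearMap Subtype.val_injective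
      exact this
    have hw' : w' ∈ Subalgebra.centralizer k
        ((B.map (includeLeft (R := k) (S := k) (A := A) (B := C')) : Subalgebra k _) : Set _) := by
      rw [Subalgebra.mem_centralizer_iff]
      rintro _ ⟨b, hb, rfl⟩
      apply hinj
      rw [map_mul, map_mul]
      have hw2 : (Algebra.TensorProduct.map (AlgHom.id k A) C'.val) w' ∈ Subalgebra.centralizer k
        ((B.map (includeLeft (R := k) (S := k) (A := A) (B := A')) : Subalgebra k _) : Set _) := by
        rw [Subalgebra.centralizer_coe_map_includeLeft_eq_center_tensorProduct]
        exact hw1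
      rw [Subalgebra.mem_centralizer_iff] at hw2
      have := hw2 (includeLeft (R := k) (S := k) (A := A) (B := A') b) ⟨b, hb, rfl⟩
      simpa using this
    rw [Subalgebra.centralizer_coe_map_includeLeft_eq_center_tensorProduct] at hw'
    obtain ⟨w'', rfl⟩ := hw'
    exact ⟨w'', by rw [hcomp']; rfl⟩
  · rintro _ ⟨z, rfl⟩
    refine ⟨⟨Algebra.TensorProduct.map (AlgHom.id k C) C'.val z, by rw [hcomp]; rfl⟩,
      ⟨Algebra.TensorProduct.map C.val (AlgHom.id k C') z, by rw [hcomp']; rfl⟩⟩

end Groth.Agent.S1638
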