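import Groth.Statements.S1639
-- import your own Groth.Agent.* helpers here
import Groth.Agent.Lib.Helper29.NormB2
import Groth.Agent.Lib.Helper29.QAff2
import Groth.Agent.Lib.Helper29.PullTensor

set_option autoImplicit false
universe u
open CategoryTheory CategoryTheory.Limits AlgebraicGeometry
open Divisors

namespace Groth.Agent.S1639

/-- Let π : X → Y be finite and surjective, with Y integral and normal. If X has an ample invertible
module then so does Y. -/
theorem result {X Y : Scheme.{u}} (π : X ⟶ Y) [IsFinite π] [Surjective π]
    [IsIntegral Y] (hY : Pi1.IsNormalScheme Y) (L : X.Modules) (hL : CohB1.IsAmple L) :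
    ∃ M : Y.Modules, CohB1.IsAmple M := by
  obtain ⟨ξ, hξ⟩ := π.surjective (genericPoint Y)
  let Z : TopologicalSpace.Closeds X := ⟨closure {ξ}, isClosed_closure⟩
  let I := Scheme.IdealSheafData.vanishingIdeal Z
  let i : I.subscheme ⟶ X := I.subschemeι
  have hred : IsReduced I.subscheme := Groth.Agent.Lib.Helper16.isReduced_subscheme_vanishingIdeal Z
  have hrange : Set.range i = closure {ξ} := by
    change Set.range I.subschemeι = _
    rw [Scheme.IdealSheafData.range_subschemeι, Scheme.IdealSheafData.coe_support_vanishingIdeal]
    rfl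
  obtain ⟨ξ', hξ'⟩ : ξ ∈ Set.range i := by
    rw [hrange]
    exact subset_closure rfl
  have hcl : closure ({ξ'} : Set I.subscheme) = Set.univ := by
    rw [i.isEmbedding.isInducing.closure_eq_preimage_closure_image, Set.image_singleton, hξ',
      ← hrange]
    exact Set.preimage_range _
  have hirr : IrreducibleSpace I.subscheme := by
    rw [irreducibleSpace_def]
    have h := (isIrreducible_singleton (x := ξ')).closure
    rw [hcl] at h
    exact h
  have hint : IsIntegral I.subscheme := isIntegral_of_irreducibleSpace_of_isReduced _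
  have hfin : IsFinite (i ≫ π) := inferInstance
  have hsurj : Surjective (i ≫ π) := by
    refine ⟨fun y => ?_⟩
    have hclosed : IsClosed (Set.range (i ≫ π).base) := (i ≫ π).isClosedMap.isClosed_range
    have hη : genericPoint Y ∈ Set.range (i ≫ π).base := ⟨ξ', by
      rw [Scheme.Hom.comp_base, TopCat.comp_app]
      exact (congrArg π.base hξ').trans hξ⟩
    have h1 : closure {genericPoint Y} ⊆ Set.range (i ≫ π).base :=
      hclosed.closure_subset_iff.mpr (Set.singleton_subset_iff.mpr hη)
    rw [(genericPoint_spec Y).def] at h1
    exact h1 (Set.mem_univ y)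
  have hcX : CompactSpace X := hL.2.1
  have hc : CompactSpace I.subscheme := QuasiCompact.compactSpace_of_compactSpace i
  have hLZ : CohB1.IsAmple ((Scheme.Modules.pullback i).obj L) :=
    Groth.Agent.Lib.Helper29.QCoh.isAmple_pullback_of_isAffineHom i hL
  obtain ⟨d, hN⟩ := Groth.Agent.Lib.Helper29.QCoh.NormalNorm.exists_hasNorm (i ≫ π) hY
  exact Groth.Agent.Lib.Helper29.NormB.exists_isAmple_of_hasNorm (i ≫ π) d hN _ hLZ

end Groth.Agent.S1639
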