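import Groth.Statements.S16390
import Mathlib

set_option autoImplicit false
open AbVar

namespace Groth.Agent.S16390

/-- Let p be a prime number, r > 2 and q = p^r. The polynomial x² − p x + q is irreducible over ℚ, each
of its complex roots has absolute value √q (so its roots are Weil q-numbers), and it has two
distinct roots in ℚ_p, of p-adic valuations 1 and r − 1. The published lemma also computes the index
of the endomorphism algebra of the simple abelian variety attached to a root; this row does not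
state that part. -/
theorem result (p r : ℕ) [Fact p.Prime] (hr : 2 < r) :
    Irreducible (Polynomial.X ^ 2 - Polynomial.C (p : ℚ) * Polynomial.X + Polynomial.C ((p : ℚ) ^ r)) ∧
      (∀ π : ℂ, π ^ 2 - (p : ℂ) * π + (p : ℂ) ^ r = 0 → ‖π‖ = Real.sqrt ((p : ℝ) ^ r)) ∧
      ∃ a b : ℚ_[p], a ≠ b ∧ a ^ 2 - (p : ℚ_[p]) * a + (p : ℚ_[p]) ^ r = 0 ∧
        b ^ 2 - (p : ℚ_[p]) * b + (p : ℚ_[p]) ^ r = 0 ∧ a.valuation = 1 ∧ b.valuation = (r : ℤ) - 1 := by
  have hp : p.Prime := Fact.out
  have hp2 : (2 : ℝ) ≤ p := by exact_mod_cast hp.two_le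
  -- q = p^r is larger than p^2/4
  have hq : ((p : ℝ)) ^ 2 ≤ (p : ℝ) ^ r :=
    pow_le_pow_right₀ (by linarith) (by omega)
  refine ⟨?_, ?_, ?_⟩
  · -- irreducibility
    apply Polynomial.irreducible_of_degree_le_three_of_not_isRoot
    · have : (Polynomial.X ^ 2 - Polynomial.C (p : ℚ) * Polynomial.X
          + Polynomial.C ((p : ℚ) ^ r)).natDegree = 2 := by compute_degree!
      rw [this]; decide
    · intro x hx
      rw [Polynomial.IsRoot.def] at hx
      simp only [Polynomial.eval_add, Polynomial.eval_sub, Polynomial.eval_pow, Polynomial.eval_X,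
        Polynomial.eval_mul, Polynomial.eval_C] at hx
      have hx' : ((x : ℝ)) ^ 2 - (p : ℝ) * x + (p : ℝ) ^ r = 0 := by exact_mod_cast hx
      nlinarith [sq_nonneg ((x : ℝ) - p / 2), sq_nonneg (p : ℝ)]
  · -- absolute values of the complex roots
    intro π hπ
    have h1 : π ^ 2 - ((p : ℝ) : ℂ) * π + (((p : ℝ) ^ r : ℝ) : ℂ) = 0 := by
      push_cast
      exact hπ
    have hre := congrArg Complex.re h1
    have him := congrArg Complex.im h1
    simp only [pow_two, Complex.add_re, Complex.sub_re, Complex.mul_re, Complex.ofReal_re,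
      Complex.ofReal_im, Complex.zero_re, Complex.add_im, Complex.sub_im, Complex.mul_im,
      Complex.zero_im, zero_mul, sub_zero, add_zero] at hre him
    rw [eq_comm, Real.sqrt_eq_iff_mul_self_eq (by positivity) (norm_nonneg _),
      Complex.norm_mul_self_eq_normSq, Complex.normSq_apply]
    have him' : π.im * (2 * π.re - p) = 0 := by linarith
    rcases mul_eq_zero.mp him' with h0 | h0
    · exfalso
      rw [h0] at hre
      nlinarith [sq_nonneg (π.re - p / 2), sq_nonneg (p : ℝ)]
    · have : π.re = p / 2 := by linarith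
      nlinarith
  · -- the p-adic roots
    have hr2 : r - 2 ≠ 0 := by omega
    let F : Polynomial ℤ_[p] :=
      Polynomial.X ^ 2 - Polynomial.X + Polynomial.C ((p : ℤ_[p]) ^ (r - 2))
    have hF0 : Polynomial.aeval (0 : ℤ_[p]) F = (p : ℤ_[p]) ^ (r - 2) := by
      simp [F]
    have hF'0 : Polynomial.aeval (0 : ℤ_[p]) (Polynomial.derivative F) = -1 := by
      have : Polynomial.derivative F = Polynomial.C 2 * Polynomial.X - 1 := by
        simp only [F, Polynomial.derivative_add, Polynomial.derivative_sub,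
          Polynomial.derivative_X_pow, Polynomial.derivative_X, Polynomial.derivative_C]
        simp
      rw [this]
      simp
    have hnorm : ‖Polynomial.aeval (0 : ℤ_[p]) F‖
        < ‖Polynomial.aeval (0 : ℤ_[p]) (Polynomial.derivative F)‖ ^ 2 := by
      rw [hF0, hF'0, norm_neg, norm_one, one_pow, norm_pow, PadicInt.norm_p]
      apply pow_lt_one₀ (by positivity) _ hr2
      apply inv_lt_one_of_one_lt₀
      exact_mod_cast hp.one_lt
    obtain ⟨z, hz, hz1, -, -⟩ := hensels_lemma hnorm
    rw [hF'0, norm_neg, norm_one, sub_zero] at hz1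
    have hz' : z ^ 2 - z + (p : ℤ_[p]) ^ (r - 2) = 0 := by
      simpa [F] using hz
    set t0 : ℚ_[p] := (z : ℚ_[p]) with ht0
    have ht0eq : t0 ^ 2 - t0 + (p : ℚ_[p]) ^ (r - 2) = 0 := by
      have := congrArg (fun w : ℤ_[p] => (w : ℚ_[p])) hz'
      simpa using this
    have hpne : (p : ℚ_[p]) ≠ 0 := by exact_mod_cast hp.ne_zero
    have hprod : t0 * (1 - t0) = (p : ℚ_[p]) ^ (r - 2) := by linear_combination -ht0eq
    have ht0ne : t0 ≠ 0 := by
      intro h
      rw [h, zero_mul] at hprod
      exact pow_ne_zero _ hpne hprod.symm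
    have ht1ne : 1 - t0 ≠ 0 := by
      intro h
      rw [h, mul_zero] at hprod
      exact pow_ne_zero _ hpne hprod.symm
    have hnt0 : ‖t0‖ < 1 := by
      rw [ht0, PadicInt.padic_norm_e_of_padicInt]
      exact hz1
    have hnt1 : ‖1 - t0‖ = 1 := by
      have := Padic.add_eq_max_of_ne (q := (1 : ℚ_[p])) (r := -t0)
        (by rw [norm_one, norm_neg]; exact hnt0.ne')
      rw [sub_eq_add_neg, this, norm_one, norm_neg, max_eq_left hnt0.le]
    have hv1 : (1 - t0).valuation = 0 := by
      have h3 := Padic.norm_eq_zpow_neg_valuation ht1ne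
      rw [hnt1] at h3
      have h4 : (1 : ℝ) < p := by exact_mod_cast hp.one_lt
      have h5 := (zpow_eq_one_iff_right₀ (by linarith) h4.ne').mp h3.symm
      omega
    have hv0 : t0.valuation = (r : ℤ) - 2 := by
      have h3 := congrArg Padic.valuation hprod
      rw [Padic.valuation_mul ht0ne ht1ne, hv1, add_zero, Padic.valuation_pow,
        Padic.valuation_p, mul_one] at h3
      rw [h3]
      omega
    have hrpow : (p : ℚ_[p]) ^ r = (p : ℚ_[p]) ^ 2 * (p : ℚ_[p]) ^ (r - 2) := by
      rw [← pow_add]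
      congr 1
      omega
    refine ⟨(p : ℚ_[p]) * (1 - t0), (p : ℚ_[p]) * t0, ?_, ?_, ?_, ?_, ?_⟩
    · intro h
      have h3 := congrArg Padic.valuation h
      rw [Padic.valuation_mul hpne ht1ne, Padic.valuation_mul hpne ht0ne, hv1, hv0,
        Padic.valuation_p] at h3
      omega
    · rw [hrpow]
      linear_combination ((p : ℚ_[p]) ^ 2) * ht0eq
    · rw [hrpow]
      linear_combination ((p : ℚ_[p]) ^ 2) * ht0eq
    · rw [Padic.valuation_mul hpne ht1ne, hv1, Padic.valuation_p]
      rfl
    · rw [Padic.valuation_mul hpne ht0ne, hv0, Padic.valuation_p]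
      ring

end Groth.Agent.S16390
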