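import Groth.Statements.S16396
import Mathlib

set_option autoImplicit false
universe u
open CAlg

namespace Groth.Agent.S16396

open Polynomial in
/-- For a commutative ℚ-algebra A, a ℚ-subalgebra B of the polynomial algebra A[X] that contains X and
is closed under d/dX consists exactly of the polynomials each of whose coefficients is the value at
0 of some element of B; in other words B = ev(B)[X], with ev the evaluation at 0. -/
theorem result
    (A : Type u) [CommRing A] [Algebra ℚ A] (B : Subalgebra ℚ A[X])
    (hX : (X : A[X]) ∈ B) (hD : ∀ P ∈ B, Polynomial.derivative P ∈ B) (P : A[X]) :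
    P ∈ B ↔ ∀ i : ℕ, ∃ Q ∈ B, Polynomial.eval 0 Q = P.coeff i := by
  -- key lemma: constants of coefficients belong to B
  have key : ∀ n : ℕ, ∀ Q ∈ B, Q.natDegree ≤ n → ∀ i, (C (Q.coeff i) : A[X]) ∈ B := by
    intro n
    induction n with
    | zero =>
      intro Q hQ hdeg i
      have h1 := Polynomial.eq_C_of_natDegree_le_zero hdeg
      rcases Nat.eq_zero_or_pos i with h0 | h0
      · subst h0
        rw [← h1]; exact hQ
      · rw [h1, Polynomial.coeff_C, if_neg h0.ne', map_zero]
        exact B.zero_mem
    | succ n ih =>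
      intro Q hQ hdeg
      have hQ' : Polynomial.derivative Q ∈ B := hD Q hQ
      have hdeg' : (Polynomial.derivative Q).natDegree ≤ n :=
        (Polynomial.natDegree_derivative_le Q).trans (by omega)
      have hsucc : ∀ j, (C (Q.coeff (j + 1)) : A[X]) ∈ B := by
        intro j
        have h1 := ih _ hQ' hdeg' j
        rw [Polynomial.coeff_derivative] at h1
        have h2 : (C (Q.coeff (j + 1)) : A[X])
            = ((1 / ((j : ℚ) + 1) : ℚ)) • (C (Q.coeff (j + 1) * ((j : A) + 1)) : A[X]) := by
          rw [Polynomial.smul_C, Algebra.smul_def, mul_comm (algebraMap ℚ A _), mul_assoc]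
          have h3 : ((j : A) + 1) * algebraMap ℚ A (1 / ((j : ℚ) + 1)) = 1 := by
            have h4 : ((j : A) + 1) = algebraMap ℚ A ((j : ℚ) + 1) := by simp
            rw [h4, ← map_mul]
            have h5 : ((j : ℚ) + 1) * (1 / ((j : ℚ) + 1)) = 1 := by
              have : ((j : ℚ) + 1) ≠ 0 := by positivity
              field_simp
            rw [h5, map_one]
          rw [h3, mul_one]
        rw [h2]
        exact B.smul_mem h1 _
      intro i
      rcases Nat.eq_zero_or_pos i with h0 | h0
      · subst h0
        have h1 := Polynomial.as_sum_range_C_mul_X_pow' (p := Q) (n := n + 2) (by omega)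
        rw [Finset.sum_range_succ'] at h1
        have h2 : (C (Q.coeff 0) : A[X])
            = Q - ∑ i ∈ Finset.range (n + 1), C (Q.coeff (i + 1)) * X ^ (i + 1) := by
          nth_rewrite 2 [h1]
          simp
        rw [h2]
        refine B.sub_mem hQ (B.sum_mem fun j _ => ?_)
        exact B.mul_mem (hsucc j) (B.pow_mem hX _)
      · obtain ⟨j, rfl⟩ : ∃ j, i = j + 1 := ⟨i - 1, by omega⟩
        exact hsucc j
  constructor
  · intro hP i
    exact ⟨C (P.coeff i), key _ P hP le_rfl i, by simp⟩
  · intro h
    rw [Polynomial.as_sum_range_C_mul_X_pow P]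
    refine B.sum_mem fun i _ => ?_
    obtain ⟨Q, hQ, hQi⟩ := h i
    rw [← hQi, ← Polynomial.coeff_zero_eq_eval_zero]
    exact B.mul_mem (key _ Q hQ le_rfl 0) (B.pow_mem hX _)

end Groth.Agent.S16396
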