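import Groth.Statements.S16400
import Mathlib

set_option autoImplicit false
universe u v
open CAlgX

namespace Groth.Agent.S16400


/-- sum against an extension by zero -/
theorem sum_mul_extend {K N κ : Type*} [Field K] [Fintype N] [DecidableEq N] [Fintype κ]
    (c : κ → N) (hc : Function.Injective c) (a : N → K) (x : κ → K) :
    ∑ n, a n * Function.extend c x 0 n = ∑ j, a (c j) * x j := by
  classical
  rw [← Finset.sum_subset (Finset.subset_univ (Finset.univ.image c))]
  · rw [Finset.sum_image (fun i _ j _ h => hc h)]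
    refine Finset.sum_congr rfl fun j _ => ?_
    rw [hc.extend_apply]
  · intro n _ hn
    have : ¬ ∃ j, c j = n := by
      intro ⟨j, hj⟩
      exact hn (Finset.mem_image.mpr ⟨j, Finset.mem_univ _, hj⟩)
    rw [Function.extend_apply' _ _ _ this]
    simp

theorem block_bijective {K N ι κ : Type*} [Field K] [Fintype N] [DecidableEq N] [Fintype κ]
    [Fintype ι]
    (A : Matrix N N K) (hA : LinearMap.ker A.mulVecLin = LinearMap.range A.mulVecLin)
    (S : Finset N)
    (hsurj : ∀ t : N → K, ∃ w ∈ LinearMap.ker A.mulVecLin, ∀ i ∈ S, w i = t i)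
    (hinj : ∀ w ∈ LinearMap.ker A.mulVecLin, (∀ i ∈ S, w i = 0) → w = 0)
    (r : ι → N) (hr : Function.Injective r) (hrS : ∀ i, r i ∈ S) (hrS' : ∀ n ∈ S, ∃ i, r i = n)
    (c : κ → N) (hc : Function.Injective c) (hcS : ∀ n, n ∉ S ↔ ∃ j, c j = n) :
    Function.Bijective (A.submatrix r c).mulVecLin := by
  classical
  have hmul : ∀ (x : κ → K) (i : ι), (A.submatrix r c).mulVec x i
      = A.mulVec (Function.extend c x 0) (r i) := by
    intro x i
    simp only [Matrix.mulVec, dotProduct, Matrix.submatrix_apply]
    rw [sum_mul_extend c hc]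
  have hextS : ∀ (x : κ → K), ∀ n ∈ S, Function.extend c x 0 n = 0 := by
    intro x n hn
    have : ¬ ∃ j, c j = n := by
      rw [← hcS]; exact not_not.mpr hn
    rw [Function.extend_apply' _ _ _ this]
    rfl
  constructor
  · -- injective
    rw [← LinearMap.ker_eq_bot, LinearMap.ker_eq_bot']
    intro x hx
    rw [Matrix.mulVecLin_apply] at hx
    set v := Function.extend c x 0 with hv
    -- w = A v is in the range = ker and vanishes on S
    have hw : A.mulVec v ∈ LinearMap.ker A.mulVecLin := by
      rw [hA]; exact ⟨v, rfl⟩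
    have hw0 : A.mulVec v = 0 := by
      apply hinj _ hw
      intro n hn
      obtain ⟨i, rfl⟩ := hrS' n hn
      rw [← hmul x i, hx]
      rfl
    have hv0 : v = 0 := by
      apply hinj v
      · rw [LinearMap.mem_ker, Matrix.mulVecLin_apply, hw0]
      · intro n hn
        exact hextS x n hn
    funext j
    have := congrFun hv0 (c j)
    rw [hv, hc.extend_apply] at this
    exact this
  · -- surjective
    intro t
    obtain ⟨w, hw, hwt⟩ := hsurj (Function.extend r t 0)
    rw [hA] at hw
    obtain ⟨v, rfl⟩ := hw
    obtain ⟨w₂, hw₂, hw₂v⟩ := hsurj v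
    have hv' : ∀ n ∈ S, (v - w₂) n = 0 := by
      intro n hn
      rw [Pi.sub_apply, hw₂v n hn, sub_self]
    have hAv' : A.mulVec (v - w₂) = A.mulVec v := by
      rw [Matrix.mulVec_sub]
      rw [LinearMap.mem_ker, Matrix.mulVecLin_apply] at hw₂
      rw [hw₂, sub_zero]
    refine ⟨fun j => (v - w₂) (c j), ?_⟩
    funext i
    rw [Matrix.mulVecLin_apply, hmul]
    have hext : Function.extend c (fun j => (v - w₂) (c j)) 0 = v - w₂ := by
      funext n
      by_cases hn : n ∈ S
      · rw [hextS _ n hn, hv' n hn]
      · obtain ⟨j, rfl⟩ := (hcS n).mp hn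
        rw [hc.extend_apply]
    rw [hext, hAv']
    have := hwt (r i) (hrS i)
    rw [hr.extend_apply] at this
    exact this

theorem exists_coord_set {K N : Type*} [Field K] [Fintype N] [DecidableEq N]
    (W : Submodule K (N → K)) :
    ∃ S : Finset N, (∀ t : N → K, ∃ w ∈ W, ∀ i ∈ S, w i = t i) ∧
      (∀ w ∈ W, (∀ i ∈ S, w i = 0) → w = 0) := by
  classical
  let P : Finset N → Prop := fun S => ∀ t : N → K, ∃ w ∈ W, ∀ i ∈ S, w i = t i
  have hP0 : P ∅ := fun t => ⟨0, W.zero_mem, fun i hi => absurd hi (Finset.notMem_empty i)⟩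
  obtain ⟨S, hS, hmax⟩ := Finset.exists_max_image (Finset.univ.filter P) Finset.card
    ⟨∅, by simp [hP0]⟩
  have hPS : P S := (Finset.mem_filter.mp hS).2
  refine ⟨S, hPS, ?_⟩
  intro w hw hw0
  by_contra hne
  obtain ⟨j, hj⟩ : ∃ j, w j ≠ 0 := by
    by_contra h
    push Not at h
    exact hne (funext h)
  have hjS : j ∉ S := fun h => hj (hw0 j h)
  have hP' : P (insert j S) := by
    intro t
    obtain ⟨w', hw', hw't⟩ := hPS t
    refine ⟨w' + ((t j - w' j) / w j) • w, W.add_mem hw' (W.smul_mem _ hw), ?_⟩
    intro i hi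
    rcases Finset.mem_insert.mp hi with rfl | hi
    · simp only [Pi.add_apply, Pi.smul_apply, smul_eq_mul]
      field_simp
      ring
    · simp only [Pi.add_apply, Pi.smul_apply, smul_eq_mul, hw0 i hi, mul_zero, add_zero]
      exact hw't i hi
  have := hmax (insert j S) (by simp [hP'])
  rw [Finset.card_insert_of_notMem hjS] at this
  omega

/-- Let K be a field, N a finite index set and A a square matrix over K indexed by N whose linear map on
column vectors has kernel equal to its range (so A composed with A is zero and the three-term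
sequence it defines is exact in the middle). Then there are subsets N₁₂, N₂₁, N₃₁ of N such that the
block of A with rows in N₃₁ and columns in N₂₁, and the block of A with rows outside N₂₁ and columns
in N₁₂, both act bijectively on column vectors. (In the original setting K is the prime field and
middle exactness is supplied by the Cartier isomorphism; here exactness is the hypothesis and K is
any field.) -/
theorem result
    {K : Type u} [Field K] {N : Type v} [Fintype N] [DecidableEq N]
    (A : Matrix N N K)
    (hA : LinearMap.ker A.mulVecLin = LinearMap.range A.mulVecLin) :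
    ∃ N₁₂ N₂₁ N₃₁ : Finset N,
      Function.Bijective (A.submatrix (Subtype.val : ↥N₃₁ → N) (Subtype.val : ↥N₂₁ → N)).mulVecLin ∧
      Function.Bijective
        (A.submatrix (Subtype.val : {x : N // x ∉ N₂₁} → N) (Subtype.val : ↥N₁₂ → N)).mulVecLin := by
  classical
  obtain ⟨S, hsurj, hinj⟩ := exists_coord_set (LinearMap.ker A.mulVecLin)
  refine ⟨Sᶜ, Sᶜ, S, ?_, ?_⟩
  · refine block_bijective A hA S hsurj hinj _ Subtype.val_injective (fun i => i.2)
      (fun n hn => ⟨⟨n, hn⟩, rfl⟩) _ Subtype.val_injective ?_
    intro n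
    constructor
    · intro hn
      exact ⟨⟨n, Finset.mem_compl.mpr hn⟩, rfl⟩
    · rintro ⟨j, rfl⟩
      exact Finset.mem_compl.mp j.2
  · refine block_bijective A hA S hsurj hinj _ Subtype.val_injective
      (fun i => by simpa using i.2)
      (fun n hn => ⟨⟨n, by simpa using hn⟩, rfl⟩) _ Subtype.val_injective ?_
    intro n
    constructor
    · intro hn
      exact ⟨⟨n, Finset.mem_compl.mpr hn⟩, rfl⟩
    · rintro ⟨j, rfl⟩
      exact Finset.mem_compl.mp j.2

end Groth.Agent.S16400
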