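import Groth.Statements.S16401
import Mathlib

set_option autoImplicit false
universe u v
open CAlgX

namespace Groth.Agent.S16401

/-- Let R be a commutative ring and (E_a), a ∈ ι, a family of additive subgroups of R indexed by an
additive commutative group ι, with E_0 = R and E_a · E_b ⊆ E_{a+b}. Let β, γ : Fin r → ι be weight
vectors with Σ_j β_j = Σ_i γ_i, and let ϑ be an r × r matrix over R with ϑ_{ij} ∈ E_{γ_i − β_j} for
all i, j and with unit determinant. Then a column vector u satisfies u_j ∈ E_{β_j} for every j if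
and only if (ϑ u)_i ∈ E_{γ_i} for every i; since ϑ is invertible this says that ϑ maps the box Π_j
E_{β_j} bijectively onto the box Π_i E_{γ_i}. -/
theorem result
    {R : Type u} [CommRing R] {ι : Type v} [AddCommGroup ι]
    (E : ι → AddSubgroup R) (h0 : E 0 = ⊤)
    (hmul : ∀ a b : ι, ∀ x ∈ E a, ∀ y ∈ E b, x * y ∈ E (a + b))
    {r : ℕ} (wβ wγ : Fin r → ι) (hsum : ∑ j, wβ j = ∑ i, wγ i)
    (ϑ : Matrix (Fin r) (Fin r) R) (hϑ : ∀ i j, ϑ i j ∈ E (wγ i - wβ j))
    (hdet : IsUnit ϑ.det) (u : Fin r → R) :
    (∀ j, u j ∈ E (wβ j)) ↔ ∀ i, ϑ.mulVec u i ∈ E (wγ i) := by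
  classical
  have hone : (1 : R) ∈ E 0 := by rw [h0]; trivial
  -- products
  have hprod : ∀ (s : Finset (Fin r)) (x : Fin r → R) (a : Fin r → ι),
      (∀ k ∈ s, x k ∈ E (a k)) → ∏ k ∈ s, x k ∈ E (∑ k ∈ s, a k) := by
    intro s x a
    induction s using Finset.induction_on with
    | empty => intro _; simpa using hone
    | insert k s hk ih =>
      intro h
      rw [Finset.prod_insert hk, Finset.sum_insert hk]
      exact hmul _ _ _ (h k (Finset.mem_insert_self k s)) _
        (ih fun k' hk' => h k' (Finset.mem_insert_of_mem hk'))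
  -- entries of the adjugate
  have hadj : ∀ i j, ϑ.adjugate j i ∈ E (wβ j - wγ i) := by
    intro i j
    rw [Matrix.adjugate_apply, Matrix.det_apply]
    refine (E _).sum_mem fun σ _ => ?_
    have hterm : ∏ k, (ϑ.updateRow i (Pi.single j 1)) (σ k) k ∈ E (wβ j - wγ i) := by
      by_cases h : σ j = i
      · rw [← Finset.mul_prod_erase Finset.univ _ (Finset.mem_univ j)]
        have h1 : (ϑ.updateRow i (Pi.single j 1)) (σ j) j = 1 := by
          rw [h, Matrix.updateRow_self, Pi.single_eq_same]
        rw [h1, one_mul]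
        have h2 : ∏ k ∈ Finset.univ.erase j, (ϑ.updateRow i (Pi.single j 1)) (σ k) k
            = ∏ k ∈ Finset.univ.erase j, ϑ (σ k) k := by
          refine Finset.prod_congr rfl fun k hk => ?_
          have hkj : k ≠ j := Finset.ne_of_mem_erase hk
          have : σ k ≠ i := by
            intro h'
            apply hkj
            apply σ.injective
            rw [h', h]
          rw [Matrix.updateRow_ne this]
        rw [h2]
        have h3 := hprod (Finset.univ.erase j) (fun k => ϑ (σ k) k)
          (fun k => wγ (σ k) - wβ k) (fun k _ => hϑ (σ k) k)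
        have h4 : ∑ k ∈ Finset.univ.erase j, (wγ (σ k) - wβ k) = wβ j - wγ i := by
          rw [Finset.sum_sub_distrib]
          have e1 : ∑ k ∈ Finset.univ.erase j, wγ (σ k) = ∑ k, wγ k - wγ i := by
            have e0 := Finset.add_sum_erase Finset.univ (fun k => wγ (σ k)) (Finset.mem_univ j)
            rw [Equiv.sum_comp σ wγ] at e0
            simp only [h] at e0
            rw [← e0]
            abel
          have e2 : ∑ k ∈ Finset.univ.erase j, wβ k = ∑ k, wβ k - wβ j := by
            rw [← Finset.add_sum_erase Finset.univ wβ (Finset.mem_univ j)]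
            abel
          rw [e1, e2, hsum]
          abel
        rw [← h4]
        exact h3
      · have hk0 : σ.symm i ≠ j := by
          intro h'
          apply h
          rw [← h', Equiv.apply_symm_apply]
        rw [Finset.prod_eq_zero (Finset.mem_univ (σ.symm i))]
        · exact (E _).zero_mem
        · rw [Equiv.apply_symm_apply, Matrix.updateRow_self, Pi.single_eq_of_ne hk0]
    rw [Units.smul_def]
    exact (E _).zsmul_mem hterm _
  constructor
  · intro hu i
    rw [Matrix.mulVec, dotProduct]
    refine (E _).sum_mem fun j _ => ?_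
    have := hmul _ _ _ (hϑ i j) _ (hu j)
    rwa [sub_add_cancel] at this
  · intro h j
    have h1 : ϑ.det * u j ∈ E (wβ j) := by
      have h2 : ϑ.adjugate.mulVec (ϑ.mulVec u) = ϑ.det • u := by
        rw [Matrix.mulVec_mulVec, Matrix.adjugate_mul, Matrix.smul_mulVec, Matrix.one_mulVec]
      have h3 := congrFun h2 j
      rw [Pi.smul_apply, smul_eq_mul] at h3
      rw [← h3, Matrix.mulVec, dotProduct]
      refine (E _).sum_mem fun i _ => ?_
      have := hmul _ _ _ (hadj i j) _ (h i)
      rwa [sub_add_cancel] at this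
    obtain ⟨d, hd⟩ := hdet
    have h4 : u j = (↑d⁻¹ : R) * (ϑ.det * u j) := by
      rw [← mul_assoc, ← hd, Units.inv_mul, one_mul]
    rw [h4]
    have h5 : (↑d⁻¹ : R) ∈ E 0 := by rw [h0]; trivial
    have := hmul _ _ _ h5 _ h1
    rwa [zero_add] at this

end Groth.Agent.S16401
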