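import Groth.Statements.S16405
import Mathlib

set_option autoImplicit false
universe u v
open InvQ

namespace Groth.Agent.S16405

/-- In weight form. Let b : L → ℤ^r be an injective homomorphism of abelian groups (the case in view: L
the character group of a maximal torus T of a semisimple group over ℂ and b the map dual to the
surjection of the rank-r split torus T' onto T that sends the i-th coordinate cocharacter to the
primitive generator of the i-th ray of the Weyl chamber; only the injectivity of b is used, and ℂ is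
replaced by any commutative ring k). Grade the monoid algebra k[L × ℕ^r] (the coordinate ring of T ×
𝔸^r) by ℤ^r, the monomial (w, n) having weight b(w) + n (the weights of the T'-action u·(t, v) =
(b^∨(u) t, u v)), and grade k[ℕ^r] by ℤ^r/b(L), the monomial n having weight the class of n (the
weights of the action on 𝔸^r of the diagonalizable kernel Z of T' → T, a finite group in the case in
view). For a diagonalizable group acting on an affine scheme the ring of invariants is the
weight-zero part, so the two weight-zero parts are the coordinate rings of the quotients (T ×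
𝔸^r)//T' and 𝔸^r//Z. The statement: the algebra map k[L × ℕ^r] → k[ℕ^r] induced by the projection L
× ℕ^r → ℕ^r (restriction to the slice 1 × 𝔸^r) maps the weight-zero part of k[L × ℕ^r] bijectively
onto the weight-zero part of k[ℕ^r]; hence it induces an isomorphism of k-algebras between them. -/
theorem result
    (k : Type u) [CommRing k] (r : ℕ) (L : Type v) [AddCommGroup L]
    (b : L →+ (Fin r → ℤ)) (hb : Function.Injective b) :
    Set.BijOn
      (AddMonoidAlgebra.mapDomainAlgHom k k (AddMonoidHom.snd L (Fin r → ℕ)))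
      (AddMonoidAlgebra.gradeBy k
        (b.comp (AddMonoidHom.fst L (Fin r → ℕ)) +
          (AddMonoidHom.compLeft (Nat.castAddMonoidHom ℤ) (Fin r)).comp (AddMonoidHom.snd L (Fin r → ℕ))) 0 :
        Set (AddMonoidAlgebra k (L × (Fin r → ℕ))))
      (AddMonoidAlgebra.gradeBy k
        ((QuotientAddGroup.mk' b.range).comp (AddMonoidHom.compLeft (Nat.castAddMonoidHom ℤ) (Fin r))) 0 :
        Set (AddMonoidAlgebra k (Fin r → ℕ))) := by
  classical
  set wt₁ : L × (Fin r → ℕ) →+ (Fin r → ℤ) :=
    b.comp (AddMonoidHom.fst L (Fin r → ℕ)) +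
      (AddMonoidHom.compLeft (Nat.castAddMonoidHom ℤ) (Fin r)).comp
        (AddMonoidHom.snd L (Fin r → ℕ)) with hwt₁
  set wt₂ : (Fin r → ℕ) →+ (Fin r → ℤ) ⧸ b.range :=
    (QuotientAddGroup.mk' b.range).comp
      (AddMonoidHom.compLeft (Nat.castAddMonoidHom ℤ) (Fin r)) with hwt₂
  have hwt₁_apply : ∀ w n, wt₁ (w, n) = b w + fun i => (n i : ℤ) := fun w n => rfl
  have hwt₂_zero : ∀ n, wt₂ n = 0 ↔ (fun i => (n i : ℤ)) ∈ b.range := by
    intro n
    rw [hwt₂, AddMonoidHom.comp_apply, QuotientAddGroup.mk'_apply, QuotientAddGroup.eq_zero_iff]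
    rfl
  have hcoeff : ∀ x : AddMonoidAlgebra k (L × (Fin r → ℕ)),
      (AddMonoidAlgebra.mapDomainAlgHom k k (AddMonoidHom.snd L (Fin r → ℕ)) x).coeff
        = Finsupp.mapDomain Prod.snd x.coeff := by
    intro x
    rfl
  refine ⟨?_, ?_, ?_⟩
  · -- maps to
    intro x hx
    rw [SetLike.mem_coe, AddMonoidAlgebra.mem_gradeBy_iff] at hx ⊢
    intro n hn
    rw [hcoeff] at hn
    have h1 := Finsupp.mapDomain_support hn
    obtain ⟨⟨w, n'⟩, hwn, rfl⟩ := Finset.mem_image.mp h1
    have h2 : wt₁ (w, n') = 0 := hx hwn
    rw [hwt₁_apply] at h2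
    change wt₂ n' = 0
    rw [hwt₂_zero]
    refine ⟨-w, ?_⟩
    rw [map_neg]
    exact neg_eq_of_add_eq_zero_right h2
  · -- injective
    have hinjOn : Set.InjOn (Prod.snd : L × (Fin r → ℕ) → (Fin r → ℕ)) (wt₁ ⁻¹' {0}) := by
      rintro ⟨w, n⟩ h1 ⟨w', n'⟩ h2 (h : n = n')
      subst h
      have e1 : wt₁ (w, n) = 0 := h1
      have e2 : wt₁ (w', n) = 0 := h2
      rw [hwt₁_apply] at e1 e2
      have : b w = b w' := by
        have := e1.trans e2.symm
        exact add_right_cancel this
      rw [hb this]
    have := Finsupp.mapDomain_injOn (M := k) _ hinjOn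
    intro x hx y hy hxy
    rw [SetLike.mem_coe, AddMonoidAlgebra.mem_gradeBy_iff] at hx hy
    have h3 : Finsupp.mapDomain Prod.snd x.coeff = Finsupp.mapDomain Prod.snd y.coeff := by
      rw [← hcoeff, ← hcoeff, hxy]
    exact AddMonoidAlgebra.coeff_injective (this hx hy h3)
  · -- surjective
    intro y hy
    rw [SetLike.mem_coe, AddMonoidAlgebra.mem_gradeBy_iff] at hy
    let s : (Fin r → ℕ) → L × (Fin r → ℕ) := fun n =>
      (if h : (fun i => (n i : ℤ)) ∈ b.range then -(Classical.choose h) else 0, n)
    have hs : ∀ n, (fun i => (n i : ℤ)) ∈ b.range → wt₁ (s n) = 0 := by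
      intro n h
      rw [hwt₁_apply]
      simp only [dif_pos h, map_neg]
      have := Classical.choose_spec h
      rw [this]
      exact neg_add_cancel _
    refine ⟨AddMonoidAlgebra.ofCoeff (Finsupp.mapDomain s y.coeff), ?_, ?_⟩
    · rw [SetLike.mem_coe, AddMonoidAlgebra.mem_gradeBy_iff]
      intro g hg
      have h1 := Finsupp.mapDomain_support hg
      obtain ⟨n, hn, rfl⟩ := Finset.mem_image.mp h1
      have h2 : wt₂ n = 0 := hy hn
      rw [hwt₂_zero] at h2
      exact hs n h2
    · apply AddMonoidAlgebra.coeff_injective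
      rw [hcoeff]
      change Finsupp.mapDomain Prod.snd (Finsupp.mapDomain s y.coeff) = y.coeff
      rw [← Finsupp.mapDomain_comp]
      have : Prod.snd ∘ s = id := rfl
      rw [this, Finsupp.mapDomain_id]

end Groth.Agent.S16405
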