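import Groth.Statements.S16416
import Mathlib

set_option autoImplicit false
universe u v w
open Dieud

namespace Groth.Agent.S16416

/-- For a prime p and a perfect field k of characteristic p, write W = W(k) for the ring of Witt vectors
and σ for its Frobenius; let M and N be free W-modules of finite rank, each with additive maps F
(σ-semilinear) and V (with V(σ(a)m) = aV(m)) satisfying FV = VF = p, and H = Hom_W(M, N). On H the
operator F acts through h ↦ F ∘ h ∘ V, and V acts partially: V·h is the W-linear map h' with h'(V m)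
= V(h(m)) for all m, when it exists. Let H₁ be the largest W-submodule of H stable under both (it
contains every submodule stable under both). Then H₁ ∩ V·H = V·H₁: if y ∈ H and V·y exists and lies
in H₁, then y ∈ H₁, so that H₁/VH₁ → H/(H ∩ VH) is injective. (The published statement is for the
Cartier modules of two p-divisible formal groups over k, every slope of the first below every slope
of the second; only the structure just listed is used, so connectedness and the slope condition are
not assumed.) -/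
theorem result
    (p : ℕ) [Fact p.Prime] (k : Type u) [Field k] [CharP k p] [PerfectRing k p]
    (M : Type v) [AddCommGroup M] [Module (WittVector p k) M]
    [Module.Free (WittVector p k) M] [Module.Finite (WittVector p k) M]
    (N : Type w) [AddCommGroup N] [Module (WittVector p k) N]
    [Module.Free (WittVector p k) N] [Module.Finite (WittVector p k) N]
    (FM VM : M →+ M) (FN VN : N →+ N)
    (hFM : ∀ (a : WittVector p k) (m : M), FM (a • m) = WittVector.frobenius a • FM m)
    (hVM : ∀ (a : WittVector p k) (m : M), VM (WittVector.frobenius a • m) = a • VM m)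
    (hFVM : ∀ m : M, FM (VM m) = (p : WittVector p k) • m)
    (hVFM : ∀ m : M, VM (FM m) = (p : WittVector p k) • m)
    (hFN : ∀ (a : WittVector p k) (n : N), FN (a • n) = WittVector.frobenius a • FN n)
    (hVN : ∀ (a : WittVector p k) (n : N), VN (WittVector.frobenius a • n) = a • VN n)
    (hFVN : ∀ n : N, FN (VN n) = (p : WittVector p k) • n)
    (hVFN : ∀ n : N, VN (FN n) = (p : WittVector p k) • n)
    (H₁ : Submodule (WittVector p k) (M →ₗ[WittVector p k] N))
    (hF : ∀ h ∈ H₁, ∃ h' ∈ H₁, ∀ m : M, h' m = FN (h (VM m)))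
    (hV : ∀ h ∈ H₁, ∃ h' ∈ H₁, ∀ m : M, h' (VM m) = VN (h m))
    (hmax : ∀ S : Submodule (WittVector p k) (M →ₗ[WittVector p k] N),
      (∀ h ∈ S, ∃ h' ∈ S, ∀ m : M, h' m = FN (h (VM m))) →
      (∀ h ∈ S, ∃ h' ∈ S, ∀ m : M, h' (VM m) = VN (h m)) → S ≤ H₁)
    (y : M →ₗ[WittVector p k] N) (x : M →ₗ[WittVector p k] N) (hx : x ∈ H₁)
    (hxy : ∀ m : M, x (VM m) = VN (y m)) :
    y ∈ H₁ := by
  classical
  have hσ := WittVector.frobenius_bijective p k
  -- T: the maps y' for which V·y' exists and lies in H₁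
  let T : Submodule (WittVector p k) (M →ₗ[WittVector p k] N) :=
    { carrier := {y' | ∃ x' ∈ H₁, ∀ m, x' (VM m) = VN (y' m)}
      add_mem' := by
        rintro a b ⟨xa, hxa, ha⟩ ⟨xb, hxb, hb⟩
        exact ⟨xa + xb, H₁.add_mem hxa hxb, fun m => by simp [ha, hb]⟩
      zero_mem' := ⟨0, H₁.zero_mem, fun m => by simp⟩
      smul_mem' := by
        rintro c y' ⟨x', hx', h'⟩
        obtain ⟨c', rfl⟩ := hσ.surjective c
        refine ⟨c' • x', H₁.smul_mem _ hx', fun m => ?_⟩
        rw [LinearMap.smul_apply, LinearMap.smul_apply, h', hVN] }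
  -- F acting on a linear map
  let Fop : (M →ₗ[WittVector p k] N) → (M →ₗ[WittVector p k] N) := fun y' =>
    { toFun := fun m => FN (y' (VM m))
      map_add' := by intro a b; simp
      map_smul' := by
        intro a m
        obtain ⟨b, rfl⟩ := hσ.surjective a
        simp only [RingHom.id_apply]
        rw [hVM, map_smul, hFN] }
  have hFop : ∀ y' m, Fop y' m = FN (y' (VM m)) := fun _ _ => rfl
  have hFT : ∀ t ∈ T, Fop t ∈ T := by
    rintro t ⟨xt, hxt, ht⟩
    obtain ⟨z, hz, hz'⟩ := hF xt hxt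
    refine ⟨z, hz, fun m => ?_⟩
    rw [hz', ht, hFop, hFVN, hVFN]
  have hS_F : ∀ h ∈ H₁ ⊔ T, ∃ h' ∈ H₁ ⊔ T, ∀ m : M, h' m = FN (h (VM m)) := by
    intro h hh
    obtain ⟨h₁, hh₁, t, ht, rfl⟩ := Submodule.mem_sup.mp hh
    obtain ⟨h₁', hh₁', e₁⟩ := hF h₁ hh₁
    refine ⟨h₁' + Fop t, Submodule.add_mem_sup hh₁' (hFT t ht), fun m => ?_⟩
    rw [LinearMap.add_apply, LinearMap.add_apply, e₁, hFop, map_add]
  have hS_V : ∀ h ∈ H₁ ⊔ T, ∃ h' ∈ H₁ ⊔ T, ∀ m : M, h' (VM m) = VN (h m) := by
    intro h hh
    obtain ⟨h₁, hh₁, t, ⟨xt, hxt, ht⟩, rfl⟩ := Submodule.mem_sup.mp hh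
    obtain ⟨h₁', hh₁', e₁⟩ := hV h₁ hh₁
    refine ⟨h₁' + xt, Submodule.mem_sup_left (H₁.add_mem hh₁' hxt), fun m => ?_⟩
    rw [LinearMap.add_apply, LinearMap.add_apply, e₁, ht, map_add]
  have hle := hmax (H₁ ⊔ T) hS_F hS_V
  exact hle (Submodule.mem_sup_right ⟨x, hx, hxy⟩)

end Groth.Agent.S16416
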