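import Groth.Statements.S16418
import Mathlib

set_option autoImplicit false
universe u v
open Dieud

namespace Groth.Agent.S16418

/-- Step of the proof: for a prime p and a perfect field k of characteristic p, write W = W(k) and σ for
its Frobenius; let M be a W-module with additive maps F (σ-semilinear) and V (with V(σ(a)m) = aV(m))
such that FV = VF = p, V is injective, ⋂_n V^n M = 0 and M/VM is finitely generated over W. Put M₁ =
{x ∈ M : for every n there is m with V^m x ∈ F^n M} and M₂ = {x ∈ M : F^n x = 0 for some n}. Then M₂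
is killed by a single power of F, and F is injective on M₁. (The published text makes these
assertions inside a proof, for the V-reduced Cartier module of a connected smooth formal group of
finite dimension over k; only the listed structure is used, and V-adic completeness is not needed.) -/
theorem result
    (p : ℕ) [Fact p.Prime] (k : Type u) [Field k] [CharP k p] [PerfectRing k p]
    (M : Type v) [AddCommGroup M] [Module (WittVector p k) M]
    (F V : M →+ M)
    (hF : ∀ (a : WittVector p k) (m : M), F (a • m) = WittVector.frobenius a • F m)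
    (hV : ∀ (a : WittVector p k) (m : M), V (WittVector.frobenius a • m) = a • V m)
    (hFV : ∀ m : M, F (V m) = (p : WittVector p k) • m)
    (hVF : ∀ m : M, V (F m) = (p : WittVector p k) • m)
    (hVinj : Function.Injective V)
    (hsep : ∀ x : M, (∀ n : ℕ, ∃ y : M, x = (⇑V)^[n] y) → x = 0)
    (hfin : Module.Finite (WittVector p k) (M ⧸ Submodule.span (WittVector p k) (Set.range V))) :
    (∃ c : ℕ, ∀ x : M, (∃ n : ℕ, (⇑F)^[n] x = 0) → (⇑F)^[c] x = 0) ∧
    (∀ x : M, (∀ n : ℕ, ∃ (m : ℕ) (y : M), (⇑V)^[m] x = (⇑F)^[n] y) → F x = 0 → x = 0) := by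
  classical
  have hσ := WittVector.frobenius_bijective p k
  -- F and V commute
  have hcomm : Function.Commute (⇑F) (⇑V) := fun x => by
    change F (V x) = V (F x)
    rw [hFV, hVF]
  have hcomm' : ∀ (n j : ℕ) (x : M), (⇑F)^[n] ((⇑V)^[j] x) = (⇑V)^[j] ((⇑F)^[n] x) :=
    fun n j x => (hcomm.iterate_iterate n j) x
  have hVj0 : ∀ j : ℕ, (⇑V)^[j] (0 : M) = 0 := fun j => iterate_map_zero V j
  have hFn0 : ∀ n : ℕ, (⇑F)^[n] (0 : M) = 0 := fun n => iterate_map_zero F n
  have hVjinj : ∀ j : ℕ, Function.Injective ((⇑V)^[j]) := fun j => hVinj.iterate j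
  -- semilinearity of iterates of F
  have hFsmul : ∀ (n : ℕ) (a : WittVector p k) (x : M),
      (⇑F)^[n] (a • x) = ((⇑(WittVector.frobenius : WittVector p k →+* WittVector p k))^[n] a)
        • (⇑F)^[n] x := by
    intro n
    induction n with
    | zero => intro a x; rfl
    | succ n ih =>
      intro a x
      rw [Function.iterate_succ_apply', Function.iterate_succ_apply', Function.iterate_succ_apply',
        ih, hF]
  -- the kernels of the iterates of F
  let K : ℕ → Submodule (WittVector p k) M := fun n =>
    { carrier := {x | (⇑F)^[n] x = 0}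
      add_mem' := by
        intro a b ha hb
        change (⇑F)^[n] (a + b) = 0
        rw [iterate_map_add, ha, hb, add_zero]
      zero_mem' := hFn0 n
      smul_mem' := by
        intro c x hx
        change (⇑F)^[n] (c • x) = 0
        rw [hFsmul, hx, smul_zero] }
  have hKmem : ∀ n x, x ∈ K n ↔ (⇑F)^[n] x = 0 := fun n x => Iff.rfl
  have hKmono : Monotone K := by
    apply monotone_nat_of_le_succ
    intro n x hx
    rw [hKmem] at hx ⊢
    rw [Function.iterate_succ_apply', hx, map_zero]
  -- the span of the range of V is the range of V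
  have hspan : ∀ z ∈ Submodule.span (WittVector p k) (Set.range V), ∃ y, z = V y := by
    intro z hz
    induction hz using Submodule.span_induction with
    | mem z hz => obtain ⟨y, rfl⟩ := hz; exact ⟨y, rfl⟩
    | zero => exact ⟨0, (map_zero V).symm⟩
    | add a b _ _ ha hb =>
      obtain ⟨ya, rfl⟩ := ha
      obtain ⟨yb, rfl⟩ := hb
      exact ⟨ya + yb, (map_add V ya yb).symm⟩
    | smul c a _ ha =>
      obtain ⟨ya, rfl⟩ := ha
      exact ⟨WittVector.frobenius c • ya, (hV c ya).symm⟩
  -- noetherianity
  have hNoeth : IsNoetherian (WittVector p k)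
      (M ⧸ Submodule.span (WittVector p k) (Set.range V)) :=
    isNoetherian_of_isNoetherianRing_of_finite _ _
  let f : ℕ →o Submodule (WittVector p k) (M ⧸ Submodule.span (WittVector p k) (Set.range V)) :=
    ⟨fun n => (K n).map (Submodule.mkQ _), fun a b hab => Submodule.map_mono (hKmono hab)⟩
  obtain ⟨c, hc⟩ := monotone_stabilizes_iff_noetherian.mpr hNoeth f
  -- key decomposition
  have hdecomp : ∀ (n : ℕ), c ≤ n → ∀ (j : ℕ) (x : M), x ∈ K n →
      ∃ a ∈ K c, ∃ y ∈ K n, x = a + (⇑V)^[j] y := by
    intro n hn j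
    induction j with
    | zero =>
      intro x hx
      exact ⟨0, (K c).zero_mem, x, hx, by simp⟩
    | succ j ih =>
      intro x hx
      obtain ⟨a, ha, y, hy, rfl⟩ := ih x hx
      have h1 : Submodule.mkQ _ y ∈ f n := Submodule.mem_map_of_mem hy
      rw [← hc n hn] at h1
      obtain ⟨a', ha', ha'y⟩ := h1
      have h2 : y - a' ∈ Submodule.span (WittVector p k) (Set.range V) := by
        rw [← Submodule.Quotient.mk_eq_zero, Submodule.Quotient.mk_sub]
        have : (Submodule.mkQ (Submodule.span (WittVector p k) (Set.range V))) a'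
            = (Submodule.mkQ _) y := ha'y
        simp only [Submodule.mkQ_apply] at this
        rw [this, sub_self]
      obtain ⟨y', hy'⟩ := hspan _ h2
      have hy'K : y' ∈ K n := by
        rw [hKmem]
        apply hVinj
        rw [map_zero]
        have h3 : (⇑F)^[n] ((⇑V)^[1] y') = (⇑V)^[1] ((⇑F)^[n] y') := hcomm' n 1 y'
        simp only [Function.iterate_one] at h3
        rw [← h3, ← hy']
        have h4 : y - a' ∈ K n := (K n).sub_mem hy (hKmono hn ha')
        exact h4
      refine ⟨a + (⇑V)^[j] a', (K c).add_mem ha ?_, y', hy'K, ?_⟩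
      · rw [hKmem, hcomm', (hKmem c a').mp ha', hVj0]
      · have h5 : y = a' + V y' := by rw [← hy']; abel
        rw [h5, iterate_map_add, Function.iterate_succ_apply, add_assoc]
  have hpartA : ∀ x : M, (∃ n : ℕ, (⇑F)^[n] x = 0) → (⇑F)^[c] x = 0 := by
    rintro x ⟨n, hn⟩
    have hx : x ∈ K (max n c) := hKmono (le_max_left n c) hn
    apply hsep
    intro j
    obtain ⟨a, ha, y, -, rfl⟩ := hdecomp (max n c) (le_max_right n c) j x hx
    refine ⟨(⇑F)^[c] y, ?_⟩
    rw [iterate_map_add, (hKmem c a).mp ha, zero_add, hcomm']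
  refine ⟨⟨c, hpartA⟩, ?_⟩
  intro x hx hFx
  obtain ⟨m, y, hmy⟩ := hx c
  have h1 : (⇑F)^[c + 1] y = 0 := by
    rw [Function.iterate_succ_apply', ← hmy]
    have h2 : (⇑F)^[1] ((⇑V)^[m] x) = (⇑V)^[m] ((⇑F)^[1] x) := hcomm' 1 m x
    simp only [Function.iterate_one] at h2
    rw [h2, hFx, hVj0]
  have h3 := hpartA y ⟨c + 1, h1⟩
  rw [h3] at hmy
  apply hVjinj m
  rw [hmy, hVj0]

end Groth.Agent.S16418
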