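import Groth.Statements.S16419
import Mathlib

set_option autoImplicit false
universe u v
open CAlg

namespace Groth.Agent.S16419


open TensorProduct
theorem exists_retraction {R : Type u} [CommRing R] {M : Type v} [AddCommGroup M] [Module R M]
    (N : Submodule R M) [Module.Free R (M ⧸ N)] :
    ∃ ρ : M →ₗ[R] N, ∀ x : N, ρ x = x := by
  obtain ⟨s, hs⟩ := Module.projective_lifting_property N.mkQ LinearMap.id
    (Submodule.mkQ_surjective N)
  have hmem : ∀ x : M, ((LinearMap.id : M →ₗ[R] M) - s ∘ₗ N.mkQ) x ∈ N := by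
    intro x
    rw [← Submodule.Quotient.mk_eq_zero]
    have h1 := LinearMap.congr_fun hs (N.mkQ x)
    simp only [LinearMap.comp_apply, LinearMap.id_apply] at h1
    rw [LinearMap.sub_apply, LinearMap.id_apply, LinearMap.comp_apply,
      Submodule.Quotient.mk_sub, ← Submodule.mkQ_apply, ← Submodule.mkQ_apply, h1, sub_self]
  refine ⟨((LinearMap.id : M →ₗ[R] M) - s ∘ₗ N.mkQ).codRestrict N hmem, ?_⟩
  intro x
  apply Subtype.ext
  rw [LinearMap.codRestrict_apply, LinearMap.sub_apply, LinearMap.id_apply,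
    LinearMap.comp_apply]
  have h0 : N.mkQ (x : M) = 0 := by
    rw [Submodule.mkQ_apply, Submodule.Quotient.mk_eq_zero]
    exact x.2
  rw [h0, map_zero, sub_zero]

open TensorProduct in
/-- For a commutative local Artinian ring R and an exact sequence 0 → H₁ → H → H₂ → 0 of finite free
R-modules, let F₁ ⊆ H₁ and F₂ ⊆ H₂ be submodules with H₁/F₁ and H₂/F₂ free; let 𝔫 be an ideal of R
of square zero, R̄ = R/𝔫, and F̄ an R̄-submodule of H̄ = R̄ ⊗ H with free quotient such that F̄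
meets the image of R̄ ⊗ H₁ in the image of R̄ ⊗ F₁ and the image of F̄ in R̄ ⊗ H₂ is the image of R̄
⊗ F₂. Then there is a direct summand F of H with F ∩ H₁ = F₁, whose image in H̄ is F̄ and whose
image in H₂ is F₂. -/
theorem result
    (R : Type u) [CommRing R] [IsArtinianRing R] [IsLocalRing R]
    (H₁ : Type v) (H : Type v) (H₂ : Type v)
    [AddCommGroup H₁] [Module R H₁] [AddCommGroup H] [Module R H] [AddCommGroup H₂] [Module R H₂]
    [Module.Free R H₁] [Module.Finite R H₁] [Module.Free R H] [Module.Finite R H]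
    [Module.Free R H₂] [Module.Finite R H₂]
    (f : H₁ →ₗ[R] H) (g : H →ₗ[R] H₂) (hf : Function.Injective f) (hg : Function.Surjective g)
    (hfg : Function.Exact f g)
    (F₁ : Submodule R H₁) (F₂ : Submodule R H₂) [Module.Free R (H₁ ⧸ F₁)] [Module.Free R (H₂ ⧸ F₂)]
    (𝔫 : Ideal R) (hn : 𝔫 * 𝔫 = ⊥)
    (Fb : Submodule (R ⧸ 𝔫) ((R ⧸ 𝔫) ⊗[R] H))
    [Module.Free (R ⧸ 𝔫) (((R ⧸ 𝔫) ⊗[R] H) ⧸ Fb)]
    (h1 : Fb ⊓ LinearMap.range (f.baseChange (R ⧸ 𝔫)) =
      Submodule.map (f.baseChange (R ⧸ 𝔫)) (F₁.baseChange (R ⧸ 𝔫)))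
    (h2 : Submodule.map (g.baseChange (R ⧸ 𝔫)) Fb = F₂.baseChange (R ⧸ 𝔫)) :
    ∃ F : Submodule R H, (∃ C : Submodule R H, IsCompl F C) ∧
      F ⊓ LinearMap.range f = Submodule.map f F₁ ∧
      F.baseChange (R ⧸ 𝔫) = Fb ∧ Submodule.map g F = F₂ := by

  classical
  have hsurj1 : ∀ z : (R ⧸ 𝔫) ⊗[R] H, ∃ h : H, (1 : R ⧸ 𝔫) ⊗ₜ[R] h = z := by
    intro z
    obtain ⟨h, hh⟩ := Submodule.Quotient.mk_surjective _
      (TensorProduct.quotTensorEquivQuotSMul H 𝔫 z)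
    refine ⟨h, ?_⟩
    rw [← TensorProduct.quotTensorEquivQuotSMul_symm_mk 𝔫 h, hh, LinearEquiv.symm_apply_apply]
  have hker2 : ∀ y : H₂, (1 : R ⧸ 𝔫) ⊗ₜ[R] y = 0 → y ∈ (𝔫 • ⊤ : Submodule R H₂) := by
    intro y hy
    have h1 := congrArg (TensorProduct.quotTensorEquivQuotSMul H₂ 𝔫) hy
    rw [TensorProduct.quotTensorEquivQuotSMul_mk_one_tmul, map_zero,
      Submodule.Quotient.mk_eq_zero] at h1
    exact h1
  have hker : ∀ δ : H, δ ∈ (𝔫 • ⊤ : Submodule R H) → (1 : R ⧸ 𝔫) ⊗ₜ[R] δ = 0 := by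
    intro δ hδ
    apply (TensorProduct.quotTensorEquivQuotSMul H 𝔫).injective
    rw [TensorProduct.quotTensorEquivQuotSMul_mk_one_tmul, map_zero,
      Submodule.Quotient.mk_eq_zero]
    exact hδ
  -- the submodule P of admissible lifts
  let P : Submodule R H :=
    { carrier := {h | (1 : R ⧸ 𝔫) ⊗ₜ[R] h ∈ Fb ∧ g h ∈ F₂}
      add_mem' := by
        rintro a b ⟨ha1, ha2⟩ ⟨hb1, hb2⟩
        exact ⟨by rw [TensorProduct.tmul_add]; exact Fb.add_mem ha1 hb1,
          by rw [map_add]; exact F₂.add_mem ha2 hb2⟩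
      zero_mem' := ⟨by rw [TensorProduct.tmul_zero]; exact Fb.zero_mem,
        by rw [map_zero]; exact F₂.zero_mem⟩
      smul_mem' := by
        rintro r a ⟨ha1, ha2⟩
        refine ⟨?_, by rw [map_smul]; exact F₂.smul_mem r ha2⟩
        rw [TensorProduct.tmul_smul]
        exact Submodule.smul_of_tower_mem Fb r ha1 }
  have hP : ∀ h : H, h ∈ P ↔ ((1 : R ⧸ 𝔫) ⊗ₜ[R] h ∈ Fb ∧ g h ∈ F₂) := fun h => Iff.rfl
  let g' : P →ₗ[R] F₂ := (g ∘ₗ P.subtype).codRestrict F₂ (fun p => p.2.2)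
  have hg'surj : Function.Surjective g' := by
    rintro ⟨y, hy⟩
    have h1 : (1 : R ⧸ 𝔫) ⊗ₜ[R] y ∈ F₂.baseChange (R ⧸ 𝔫) :=
      Submodule.tmul_mem_baseChange_of_mem 1 hy
    rw [← h2] at h1
    obtain ⟨φ, hφ, hφy⟩ := h1
    obtain ⟨h', hh'⟩ := hsurj1 φ
    have h3 : (1 : R ⧸ 𝔫) ⊗ₜ[R] (g h' - y) = 0 := by
      rw [TensorProduct.tmul_sub, ← hφy, ← hh', LinearMap.baseChange_tmul, sub_self]
    have h4 := hker2 _ h3
    have h5 : (𝔫 • ⊤ : Submodule R H₂) = Submodule.map g (𝔫 • ⊤ : Submodule R H) := by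
      rw [Submodule.map_smul'', Submodule.map_top, LinearMap.range_eq_top.mpr hg]
    rw [h5] at h4
    obtain ⟨δ, hδ, hδg⟩ := h4
    have hmem : h' - δ ∈ P := by
      rw [hP]
      refine ⟨?_, ?_⟩
      · rw [TensorProduct.tmul_sub, hker δ hδ, sub_zero, hh']
        exact hφ
      · rw [map_sub, hδg]
        simpa using hy
    refine ⟨⟨h' - δ, hmem⟩, ?_⟩
    apply Subtype.ext
    change g (h' - δ) = y
    rw [map_sub, hδg]
    abel
  obtain ⟨ρ₂, hρ₂⟩ := exists_retraction F₂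
  obtain ⟨ρ₁, hρ₁⟩ := exists_retraction F₁
  haveI : Module.Projective R F₂ := Module.Projective.of_split F₂.subtype ρ₂ (by
    ext x
    simp [hρ₂])
  obtain ⟨t, ht⟩ := Module.projective_lifting_property g' LinearMap.id hg'surj
  have htg : ∀ y : F₂, g ((t y : P) : H) = y := by
    intro y
    have h1 := LinearMap.congr_fun ht y
    exact congrArg Subtype.val h1
  have htFb : ∀ y : F₂, (1 : R ⧸ 𝔫) ⊗ₜ[R] ((t y : P) : H) ∈ Fb := fun y => (t y).2.1
  obtain ⟨t₂, ht₂⟩ := Module.projective_lifting_property g LinearMap.id hg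
  have ht₂g : ∀ y : H₂, g (t₂ y) = y := fun y => LinearMap.congr_fun ht₂ y
  set F : Submodule R H := Submodule.map f F₁ ⊔ LinearMap.range (P.subtype ∘ₗ t) with hF
  have hgf : ∀ u : H₁, g (f u) = 0 := fun u => hfg.apply_apply_eq_zero u
  refine ⟨F, ?_, ?_, ?_, ?_⟩
  · -- complement
    refine ⟨Submodule.map f (LinearMap.ker ρ₁) ⊔ Submodule.map t₂ (LinearMap.ker ρ₂), ?_⟩
    rw [isCompl_iff, Submodule.disjoint_def, Submodule.codisjoint_iff_exists_add_eq]
    constructor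
    · intro z hzF hzC
      obtain ⟨_, ⟨v, hv, rfl⟩, _, ⟨y, rfl⟩, rfl⟩ := Submodule.mem_sup.mp hzF
      obtain ⟨_, ⟨c₁, hc₁, rfl⟩, _, ⟨c₂, hc₂, rfl⟩, hz⟩ := Submodule.mem_sup.mp hzC
      have h1 := congrArg g hz
      rw [map_add, map_add, hgf, hgf, zero_add, zero_add, ht₂g] at h1
      change c₂ = g ((t y : P) : H) at h1
      rw [htg] at h1
      have hc₂' : ρ₂ c₂ = 0 := hc₂
      rw [h1, hρ₂] at hc₂'
      have hy0 : y = 0 := hc₂'
      have hc₂0 : c₂ = 0 := by rw [h1, hy0]; rfl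
      rw [hc₂0, map_zero, add_zero, hy0, map_zero, add_zero] at hz
      have h2 : c₁ = v := hf hz
      have hc₁' : ρ₁ c₁ = 0 := hc₁
      rw [h2, show ρ₁ v = ρ₁ ((⟨v, hv⟩ : F₁) : H₁) from rfl, hρ₁] at hc₁'
      have hv0 : v = 0 := congrArg Subtype.val hc₁'
      rw [hy0, map_zero, add_zero, hv0, map_zero]
    · intro h
      -- decompose g h
      set y₂ : F₂ := ρ₂ (g h) with hy₂
      have hc₂ : g h - (y₂ : H₂) ∈ LinearMap.ker ρ₂ := by
        rw [LinearMap.mem_ker, map_sub, hρ₂, sub_self]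
      have h1 : g (h - ((t y₂ : P) : H) - t₂ (g h - (y₂ : H₂))) = 0 := by
        rw [map_sub, map_sub, htg, ht₂g]
        abel
      obtain ⟨u, hu⟩ := (hfg _).mp h1
      set u₁ : F₁ := ρ₁ u with hu₁
      have hc₁ : u - (u₁ : H₁) ∈ LinearMap.ker ρ₁ := by
        rw [LinearMap.mem_ker, map_sub, hρ₁, sub_self]
      refine ⟨f (u₁ : H₁) + ((t y₂ : P) : H), f (u - (u₁ : H₁)) + t₂ (g h - (y₂ : H₂)), ?_, ?_, ?_⟩
      · exact Submodule.add_mem_sup (Submodule.mem_map_of_mem u₁.2) ⟨y₂, rfl⟩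
      · exact Submodule.add_mem_sup (Submodule.mem_map_of_mem hc₁)
          (Submodule.mem_map_of_mem hc₂)
      · rw [map_sub, hu]
        abel
  · -- F ⊓ range f = map f F₁
    apply le_antisymm
    · rintro z ⟨hzF, ⟨u, rfl⟩⟩
      obtain ⟨_, ⟨v, hv, rfl⟩, _, ⟨y, rfl⟩, hz⟩ := Submodule.mem_sup.mp hzF
      have h1 := congrArg g hz
      rw [map_add, hgf, hgf, zero_add] at h1
      change g ((t y : P) : H) = 0 at h1
      rw [htg] at h1
      have hy0 : y = 0 := Subtype.ext h1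
      rw [hy0, map_zero, add_zero] at hz
      rw [← hz]
      exact Submodule.mem_map_of_mem hv
    · intro z hz
      refine ⟨Submodule.mem_sup_left hz, ?_⟩
      obtain ⟨v, -, rfl⟩ := hz
      exact ⟨v, rfl⟩
  · -- base change
    have hF₁b : Submodule.map (f.baseChange (R ⧸ 𝔫)) (F₁.baseChange (R ⧸ 𝔫)) ≤
        F.baseChange (R ⧸ 𝔫) := by
      rw [Submodule.baseChange_eq_span, Submodule.map_span, Submodule.span_le]
      rintro _ ⟨_, ⟨v, hv, rfl⟩, rfl⟩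
      rw [TensorProduct.mk_apply, LinearMap.baseChange_tmul]
      exact Submodule.tmul_mem_baseChange_of_mem 1
        (Submodule.mem_sup_left (Submodule.mem_map_of_mem hv))
    apply le_antisymm
    · rw [Submodule.baseChange_eq_span, Submodule.span_le]
      rintro _ ⟨z, hz, rfl⟩
      obtain ⟨_, ⟨v, hv, rfl⟩, _, ⟨y, rfl⟩, rfl⟩ := Submodule.mem_sup.mp hz
      rw [map_add]
      apply Fb.add_mem
      · have h3 : (TensorProduct.mk R (R ⧸ 𝔫) H 1) (f v) ∈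
            Submodule.map (f.baseChange (R ⧸ 𝔫)) (F₁.baseChange (R ⧸ 𝔫)) := by
          refine ⟨(1 : R ⧸ 𝔫) ⊗ₜ[R] v, Submodule.tmul_mem_baseChange_of_mem 1 hv, ?_⟩
          rw [LinearMap.baseChange_tmul]
          rfl
        rw [← h1] at h3
        exact h3.1
      · exact htFb y
    · intro φ hφ
      have h3 : (g.baseChange (R ⧸ 𝔫)) φ ∈ F₂.baseChange (R ⧸ 𝔫) := by
        rw [← h2]
        exact Submodule.mem_map_of_mem hφ
      -- F₂.baseChange = map ḡ (span of 1 ⊗ t y)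
      have h4 : F₂.baseChange (R ⧸ 𝔫) ≤ Submodule.map (g.baseChange (R ⧸ 𝔫))
          ((LinearMap.range (P.subtype ∘ₗ t)).baseChange (R ⧸ 𝔫)) := by
        rw [Submodule.baseChange_eq_span, Submodule.span_le]
        rintro _ ⟨y, hy, rfl⟩
        refine ⟨(1 : R ⧸ 𝔫) ⊗ₜ[R] ((t ⟨y, hy⟩ : P) : H),
          Submodule.tmul_mem_baseChange_of_mem 1 ⟨⟨y, hy⟩, rfl⟩, ?_⟩
        rw [LinearMap.baseChange_tmul, htg]
        rfl
      obtain ⟨ψ, hψ, hψφ⟩ := h4 h3
      have hψF : ψ ∈ F.baseChange (R ⧸ 𝔫) :=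
        Submodule.baseChange_mono (R ⧸ 𝔫) le_sup_right hψ
      have hψFb : ψ ∈ Fb := by
        have h5 : (LinearMap.range (P.subtype ∘ₗ t)).baseChange (R ⧸ 𝔫) ≤ Fb := by
          rw [Submodule.baseChange_eq_span, Submodule.span_le]
          rintro _ ⟨_, ⟨y, rfl⟩, rfl⟩
          exact htFb y
        exact h5 hψ
      have h6 : φ - ψ ∈ Fb ⊓ LinearMap.range (f.baseChange (R ⧸ 𝔫)) := by
        refine ⟨Fb.sub_mem hφ hψFb, ?_⟩
        have hex : Function.Exact (f.lTensor (R ⧸ 𝔫)) (g.lTensor (R ⧸ 𝔫)) :=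
          lTensor_exact (R ⧸ 𝔫) hfg hg
        have h7 : (g.lTensor (R ⧸ 𝔫)) (φ - ψ) = 0 := by
          have h8 : (g.baseChange (R ⧸ 𝔫)) (φ - ψ) = 0 := by
            rw [map_sub, hψφ, sub_self]
          exact h8
        obtain ⟨w, hw⟩ := (hex _).mp h7
        exact ⟨w, hw⟩
      rw [h1] at h6
      have h9 := hF₁b h6
      have h10 : φ = (φ - ψ) + ψ := by abel
      rw [h10]
      exact Submodule.add_mem _ h9 hψF
  · -- image under g
    apply le_antisymm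
    · rintro _ ⟨z, hz, rfl⟩
      obtain ⟨_, ⟨v, hv, rfl⟩, _, ⟨y, rfl⟩, rfl⟩ := Submodule.mem_sup.mp hz
      rw [map_add, hgf, zero_add]
      change g ((t y : P) : H) ∈ F₂
      rw [htg]
      exact y.2
    · intro y hy
      refine ⟨((t ⟨y, hy⟩ : P) : H), Submodule.mem_sup_right ⟨⟨y, hy⟩, rfl⟩, ?_⟩
      rw [htg]

end Groth.Agent.S16419
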