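import Groth.Statements.S16431
import Mathlib
import Groth.Agent.Lib.Helper4.StrictExt1
import Groth.Agent.Lib.Helper4.StrictExt2
import Groth.Agent.Lib.Helper4.HzsTensor
import Groth.Agent.Lib.Helper4.HznNoethC
import Groth.Agent.Lib.Helper4.HznProps
import Groth.Agent.S9237
import Groth.Agent.S9238
import Groth.Agent.S9236

set_option autoImplicit false
universe u
open Hensel

namespace Groth.Agent.S16431

open Groth.Agent.Lib.Helper4 in
/-- Let A be an excellent reduced local ring with residue field k, let A' be the integral closure of A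
in its total ring of fractions, let A^h be a henselization and A^hs a strict henselization of A, and
let A^h → A^hs be the A-algebra map between them (it is the unique one). Then the residue field of
A' at every maximal ideal is purely inseparable over k — every element has some p^n-th power in the
image of A, p the characteristic exponent — if and only if every minimal prime ideal of A^hs is
generated by its contraction to A^h. -/
theorem result
    (A Ah Ash : Type u) [CommRing A] [IsLocalRing A] [IsReduced A] (hA : EGA4.IsExcellent A)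
    [CommRing Ah] [IsLocalRing Ah] [Algebra A Ah] [IsLocalHom (algebraMap A Ah)]
    [Hensel.IsHenselization A Ah]
    [CommRing Ash] [IsLocalRing Ash] [Algebra A Ash] [IsLocalHom (algebraMap A Ash)]
    [Hensel.IsStrictHenselization A Ash] [Algebra Ah Ash] [IsScalarTower A Ah Ash] :
    (∀ (M : Ideal (integralClosure A (FractionRing A))) [M.IsMaximal], ∀ x : (integralClosure A (FractionRing A)) ⧸ M, ∃ n : ℕ,
        x ^ (ringExpChar ((integralClosure A (FractionRing A)) ⧸ M)) ^ n ∈
          ((Ideal.Quotient.mk M).comp (algebraMap A (integralClosure A (FractionRing A)))).range) ↔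
      (∀ Q ∈ minimalPrimes Ash, Q = Ideal.map (algebraMap Ah Ash) (Q.comap (algebraMap Ah Ash))) := by
  classical
  have hN : IsNoetherianRing A := hA.1
  have hAhN : IsNoetherianRing Ah := (Hzn.isNoetherianRing_iff_of_isHenselization A Ah).mp hN
  have hι : (algebraMap Ah Ash).comp (algebraMap A Ah) = algebraMap A Ash :=
    (IsScalarTower.algebraMap_eq A Ah Ash).symm
  -- the map Ah → Ash is local
  have hloc : IsLocalHom (algebraMap Ah Ash) := by
    constructor
    intro x hx
    by_contra hnu
    have h1 : x ∈ IsLocalRing.maximalIdeal Ah := (IsLocalRing.mem_maximalIdeal x).mpr hnu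
    rw [← Hzn.map_maximalIdeal_of_isHenselization A Ah] at h1
    have hle : (IsLocalRing.maximalIdeal A).map (algebraMap A Ah) ≤
        (IsLocalRing.maximalIdeal Ash).comap (algebraMap Ah Ash) := by
      rw [Ideal.map_le_iff_le_comap]
      intro a ha
      rw [Ideal.mem_comap, Ideal.mem_comap, ← IsScalarTower.algebraMap_apply]
      exact ((IsLocalRing.mem_maximalIdeal _).mpr
        (fun hu => ((IsLocalRing.mem_maximalIdeal a).mp ha) (isUnit_of_map_unit (algebraMap A Ash) a hu)))
    exact ((IsLocalRing.mem_maximalIdeal _).mp (hle h1)) hx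
  have hAhH : HenselianLocalRing Ah := Hensel.IsHenselization.henselian A
  have hstrict : Hensel.IsStrictHenselization Ah Ash := by
    refine Hzs.isStrictHenselization_of_factor (B := A) (Bh := Ash) (D := Ah) (algebraMap A Ah) hι ?_
    intro T _ _ f hf τ g _ hg _
    have hfl : IsLocalHom (f.comp (algebraMap A Ah)) := RingHom.isLocalHom_comp f (algebraMap A Ah)
    obtain ⟨g₀, -, huniq⟩ := Hensel.IsHenselization.universal (R := A) (S := Ah) T
      (f.comp (algebraMap A Ah)) hfl
    have h1 : g.comp (algebraMap Ah Ash) = g₀ := by
      apply huniq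
      rw [RingHom.comp_assoc, hι, hg]
    have h2 : f = g₀ := huniq f rfl
    rw [h1, h2]
  have hfin : (minimalPrimes Ah).Finite := minimalPrimes.finite_of_isNoetherianRing Ah
  have hfinA : (minimalPrimes A).Finite := minimalPrimes.finite_of_isNoetherianRing A
  rw [StrictExt.forall_eq_map_comap_iff Ah Ash hfin]
  have hb : ENat.card (minimalPrimes Ah) = ENat.card (MaximalSpectrum (CAlg2.normRed A)) := by
    rw [Groth.Agent.S9237.result A Ah]
    unfold Brnch.numBranches
    rw [if_pos hfinA]
  have hg : ENat.card (minimalPrimes Ash) =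
      ENat.card (Σ m' : MaximalSpectrum (CAlg2.normRed A), Brnch.Emb A m') := by
    rw [Groth.Agent.S9238.result A Ash]
    unfold Brnch.numGeomBranches
    rw [if_pos hfinA]
  rw [hb, hg]
  have hfinM : Finite (MaximalSpectrum (CAlg2.normRed A)) := by
    have hfinh : Finite (minimalPrimes Ah) := hfin
    by_contra hinf
    rw [not_finite_iff_infinite] at hinf
    rw [ENat.card_eq_top_of_infinite (α := MaximalSpectrum (CAlg2.normRed A)),
      ENat.card_eq_top] at hb
    exact not_finite (minimalPrimes Ah)
  -- the counting step
  have hcount : ENat.card (Σ m' : MaximalSpectrum (CAlg2.normRed A), Brnch.Emb A m') =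
      ENat.card (MaximalSpectrum (CAlg2.normRed A)) ↔
      ∀ m' : MaximalSpectrum (CAlg2.normRed A), Subsingleton (Brnch.Emb A m') := by
    have hsurj : Function.Surjective
        (Sigma.fst : (Σ m' : MaximalSpectrum (CAlg2.normRed A), Brnch.Emb A m') → _) := by
      intro m'
      obtain ⟨σ⟩ := Groth.Agent.S9236.nonempty_emb A m'
      exact ⟨⟨m', σ⟩, rfl⟩
    constructor
    · intro hcard m'
      have hfinS : Finite (Σ m' : MaximalSpectrum (CAlg2.normRed A), Brnch.Emb A m') := by
        by_contra hinf
        rw [not_finite_iff_infinite] at hinf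
        rw [ENat.card_eq_top_of_infinite
          (α := Σ m' : MaximalSpectrum (CAlg2.normRed A), Brnch.Emb A m'), eq_comm,
          ENat.card_eq_top] at hcard
        exact not_finite (MaximalSpectrum (CAlg2.normRed A))
      have hcard' : Nat.card (Σ m' : MaximalSpectrum (CAlg2.normRed A), Brnch.Emb A m') =
          Nat.card (MaximalSpectrum (CAlg2.normRed A)) := by
        rw [ENat.card_eq_coe_natCard, ENat.card_eq_coe_natCard] at hcard
        exact_mod_cast hcard
      have hbij := Function.Surjective.bijective_of_nat_card_le hsurj (le_of_eq hcard')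
      refine ⟨fun σ₁ σ₂ => ?_⟩
      have := @hbij.1 ⟨m', σ₁⟩ ⟨m', σ₂⟩ rfl
      exact eq_of_heq (Sigma.mk.inj this).2
    · intro hss
      refine ENat.card_congr (Equiv.ofBijective _ ⟨?_, hsurj⟩)
      rintro ⟨m₁, σ₁⟩ ⟨m₂, σ₂⟩ h
      obtain rfl : m₁ = m₂ := h
      have := hss m₁
      rw [Subsingleton.elim σ₁ σ₂]
  rw [hcount]
  -- translate to the `p^n`-condition on `normRed A`
  have hcond : (∀ m' : MaximalSpectrum (CAlg2.normRed A), Subsingleton (Brnch.Emb A m')) ↔
      ∀ (M' : Ideal (CAlg2.normRed A)) [M'.IsMaximal], ∀ x : CAlg2.normRed A ⧸ M', ∃ n : ℕ,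
        x ^ (ringExpChar (CAlg2.normRed A ⧸ M')) ^ n ∈ ((Ideal.Quotient.mk M').comp
          ((algebraMap (CAlg2.red A) (CAlg2.normRed A)).comp
            (Ideal.Quotient.mk (nilradical A)))).range := by
    constructor
    · intro h M' hM'
      exact (Groth.Agent.S9236.subsingleton_emb_iff A ⟨M', hM'⟩).mp (h ⟨M', hM'⟩)
    · intro h m'
      have := m'.isMaximal
      exact (Groth.Agent.S9236.subsingleton_emb_iff A m').mpr (h m'.asIdeal)
  rw [hcond]
  constructor
  · intro h
    exact StrictExt.pow_condition_transfer
      (algebraMap A (integralClosure A (FractionRing A)))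
      ((algebraMap (CAlg2.red A) (CAlg2.normRed A)).comp (Ideal.Quotient.mk (nilradical A)))
      (StrictExt.normEquiv A) (StrictExt.normEquiv_algebraMap A) h
  · intro h
    exact StrictExt.pow_condition_transfer
      ((algebraMap (CAlg2.red A) (CAlg2.normRed A)).comp (Ideal.Quotient.mk (nilradical A)))
      (algebraMap A (integralClosure A (FractionRing A)))
      (StrictExt.normEquiv A).symm
      (fun a => by
        rw [RingEquiv.symm_apply_eq]
        exact (StrictExt.normEquiv_algebraMap A a).symm) h

end Groth.Agent.S16431
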