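import Groth.Statements.S16435
import Mathlib
import Groth.Agent.Lib.Helper4.StrictInt1
import Groth.Agent.Lib.Helper4.StrictInt3
import Groth.Agent.Lib.Helper4.StrictInt5
import Groth.Agent.Lib.Helper4.HznRed
import Groth.Agent.Lib.Helper4.HznQF
import Groth.Agent.Lib.Helper4.HzsNoethC
import Groth.Agent.S9237
import Groth.Agent.S9238

set_option autoImplicit false
universe u
open Hensel

namespace Groth.Agent.S16435

set_option synthInstance.maxHeartbeats 400000 in
set_option maxHeartbeats 2000000 in
open Groth.Agent.Lib.Helper4 in
/-- Let A be an excellent henselian reduced local ring, S a strict henselization of A and D any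
A-subalgebra of S (an intermediate ring between A and S). Write D' for the integral closure of D in
its total ring of fractions. Then D is Noetherian if and only if, for every maximal ideal M of D'
with residue field l, writing k_0 for the subfield of l generated by the image of D (it is the image
itself, a copy of the residue field of the local ring D), the separable closure of k_0 in l has
finite degree over k_0. -/
theorem result
    (A S : Type u) [CommRing A] [HenselianLocalRing A] [IsReduced A] (hA : EGA4.IsExcellent A)
    [CommRing S] [IsLocalRing S] [Algebra A S] [IsLocalHom (algebraMap A S)]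
    [Hensel.IsStrictHenselization A S] (D : Subalgebra A S) :
    IsNoetherianRing D ↔
      ∀ (M : Ideal (integralClosure D (FractionRing D))) [M.IsMaximal],
        FiniteDimensional (Subfield.closure (Set.range ((algebraMap (integralClosure D (FractionRing D)) M.ResidueField).comp (algebraMap D (integralClosure D (FractionRing D)))))) (separableClosure (Subfield.closure (Set.range ((algebraMap (integralClosure D (FractionRing D)) M.ResidueField).comp (algebraMap D (integralClosure D (FractionRing D)))))) M.ResidueField) := by
  classical
  have hN : IsNoetherianRing A := hA.1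
  have hDloc : IsLocalRing D := StrictInt.isLocalRing_sub A S D
  have hDS : IsLocalHom (algebraMap D S) := StrictInt.isLocalHom_sub_val A S D
  have hDH : HenselianLocalRing D := StrictInt.henselian_sub A S D
  have hSred : IsReduced S := (Hzs.isReduced_iff_of_isStrictHenselization A S).mpr inferInstance
  have hSN : IsNoetherianRing S := (Hzs.isNoetherianRing_iff_of_isStrictHenselization A S).mp hN
  have hDred : IsReduced D := isReduced_of_injective (algebraMap D S) Subtype.val_injective
  have hidloc : IsLocalHom (algebraMap D D) := ⟨fun a ha => ha⟩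
  have hself : Hensel.IsHenselization D D := Hzn.isHenselization_self D
  -- the strict henselization of `D`
  have hTred : IsReduced (Hzs.Hs D) := Hzs.Hs.isReduced D
  let _ : Algebra A (Hzs.Hs D) := ((algebraMap D (Hzs.Hs D)).comp (algebraMap A D)).toAlgebra
  have htower : IsScalarTower A D (Hzs.Hs D) := IsScalarTower.of_algebraMap_eq fun a => rfl
  obtain ⟨g, hgloc⟩ := StrictInt.exists_algHom_to_strict A S D (Hzs.Hs D)
  -- finitely many minimal primes of `D`
  have hminS : (minimalPrimes S).Finite := minimalPrimes.finite_of_isNoetherianRing S
  have hminD : (minimalPrimes D).Finite := by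
    have hsub : minimalPrimes D ⊆ (fun P : Ideal S => P.comap (algebraMap D S)) '' minimalPrimes S := by
      intro p hp
      obtain ⟨P, hP, hPp⟩ := Ideal.exists_comap_eq_of_mem_minimalPrimes_of_injective
        (f := algebraMap D S) Subtype.val_injective p hp
      obtain ⟨Q, hQ, hQP⟩ := Ideal.exists_minimalPrimes_le (I := (⊥ : Ideal S)) (J := P) bot_le
      have hQprime : Q.IsPrime := hQ.1.1
      refine ⟨Q, hQ, ?_⟩
      have hle : Q.comap (algebraMap D S) ≤ p := by
        rw [← hPp]; exact Ideal.comap_mono hQP
      have hprime : (Q.comap (algebraMap D S)).IsPrime := Ideal.comap_isPrime _ _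
      exact le_antisymm hle (hp.2 ⟨hprime, bot_le⟩ hle)
    exact (hminS.image _).subset hsub
  have hcardT : ENat.card (minimalPrimes (Hzs.Hs D)) =
      ENat.card (Σ m' : MaximalSpectrum (CAlg2.normRed D), Brnch.Emb D m') := by
    rw [Groth.Agent.S9238.result D (Hzs.Hs D)]
    unfold Brnch.numGeomBranches
    rw [if_pos hminD]
  have hcardD : ENat.card (minimalPrimes D) = ENat.card (MaximalSpectrum (CAlg2.normRed D)) := by
    rw [Groth.Agent.S9237.result D D]
    unfold Brnch.numBranches
    rw [if_pos hminD]
  have hfinMax : Finite (MaximalSpectrum (CAlg2.normRed D)) := by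
    have h1 : ENat.card (minimalPrimes D) < ⊤ := by
      have : Finite (minimalPrimes D) := hminD
      exact ENat.card_lt_top.mpr this
    rw [hcardD] at h1
    exact ENat.card_lt_top.mp h1
  rw [StrictInt.forall_finiteDimensional_iff D]
  constructor
  · intro hDN m'
    have hTN : IsNoetherianRing (Hzs.Hs D) :=
      (Hzs.isNoetherianRing_iff_of_isStrictHenselization D (Hzs.Hs D)).mp hDN
    have hminT : Finite (minimalPrimes (Hzs.Hs D)) :=
      minimalPrimes.finite_of_isNoetherianRing (Hzs.Hs D)
    have h1 : ENat.card (minimalPrimes (Hzs.Hs D)) < ⊤ := ENat.card_lt_top.mpr hminT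
    rw [hcardT] at h1
    have hSig : Finite (Σ m' : MaximalSpectrum (CAlg2.normRed D), Brnch.Emb D m') :=
      ENat.card_lt_top.mp h1
    exact Finite.of_injective (fun σ : Brnch.Emb D m' =>
      (⟨m', σ⟩ : Σ m' : MaximalSpectrum (CAlg2.normRed D), Brnch.Emb D m'))
      (fun σ₁ σ₂ h => by
        have := (Sigma.mk.inj_iff.mp h).2
        exact eq_of_heq this)
  · intro hemb
    have hSig : Finite (Σ m' : MaximalSpectrum (CAlg2.normRed D), Brnch.Emb D m') := inferInstance
    have h1 : ENat.card (minimalPrimes (Hzs.Hs D)) < ⊤ := by
      rw [hcardT]; exact ENat.card_lt_top.mpr hSig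
    have hminT : (minimalPrimes (Hzs.Hs D)).Finite := ENat.card_lt_top.mp h1
    have hTN : IsNoetherianRing (Hzs.Hs D) :=
      StrictInt.isNoetherianRing_of_finite_minimalPrimes A S D (Hzs.Hs D) g hgloc hminT
    exact (Hzs.isNoetherianRing_iff_of_isStrictHenselization D (Hzs.Hs D)).mpr hTN

end Groth.Agent.S16435
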