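import Groth.Statements.S16436
import Mathlib
import Groth.Agent.Lib.Helper4.StrictSub1
import Groth.Agent.Lib.Helper4.StrictSub2
import Groth.Agent.Lib.Helper4.StrictSub3
import Groth.Agent.Lib.Helper4.StrictSub4
import Groth.Agent.Lib.Helper4.StrictExt4
import Groth.Agent.Lib.Helper4.HznRed
import Groth.Agent.Lib.Helper4.HznQF
import Groth.Agent.Lib.Helper4.HzsSub3
import Groth.Agent.Lib.Helper4.FEtGal

set_option autoImplicit false
universe u
open Hensel

namespace Groth.Agent.S16436

set_option synthInstance.maxHeartbeats 400000 in
set_option maxHeartbeats 2000000 in
open Groth.Agent.Lib.Helper4 in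
/-- Let A be an excellent henselian reduced local ring, S a strict henselization of A and D an
A-subalgebra of S which is finitely generated as an A-module. Write D' for the integral closure of D
in its total ring of fractions. Then D is etale over A and every minimal prime ideal of S is
generated by its contraction to D, if and only if, for every maximal ideal M of D' with residue
field l, writing k_0 for the subfield of l generated by the image of D (the image itself, a copy of
the residue field of D), k_0 is separably closed in l: every element of l separable over k_0 lies in
k_0. -/
theorem result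
    (A S : Type u) [CommRing A] [HenselianLocalRing A] [IsReduced A] (hA : EGA4.IsExcellent A)
    [CommRing S] [IsLocalRing S] [Algebra A S] [IsLocalHom (algebraMap A S)]
    [Hensel.IsStrictHenselization A S] (D : Subalgebra A S) [Module.Finite A D] :
    (Algebra.Etale A D ∧
        ∀ Q ∈ minimalPrimes S, Q = Ideal.map (algebraMap D S) (Q.comap (algebraMap D S))) ↔
      ∀ (M : Ideal (integralClosure D (FractionRing D))) [M.IsMaximal],
        separableClosure (Subfield.closure (Set.range ((algebraMap (integralClosure D (FractionRing D)) M.ResidueField).comp (algebraMap D (integralClosure D (FractionRing D)))))) M.ResidueField = ⊥ := by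
  classical
  have hN : IsNoetherianRing A := hA.1
  have hDloc : IsLocalRing D := StrictSub.isLocalRing_sub A S D
  have hAD : IsLocalHom (algebraMap A D) := StrictSub.isLocalHom_algebraMap_sub A S D
  have hDS : IsLocalHom (algebraMap D S) := StrictSub.isLocalHom_sub_val A S D
  have hDH : HenselianLocalRing D := StrictSub.henselian_sub A S D
  have hDN : IsNoetherianRing D := IsNoetherianRing.of_finite A D
  have hSred : IsReduced S := (Hzs.isReduced_iff_of_isStrictHenselization A S).mpr inferInstance
  have hDred : IsReduced D := isReduced_of_injective (algebraMap D S) Subtype.val_injective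
  have hidloc : IsLocalHom (algebraMap D D) := ⟨fun a ha => ha⟩
  have hself : Hensel.IsHenselization D D := Hzn.isHenselization_self D
  have hRHS : (∀ (M : Ideal (integralClosure D (FractionRing D))) [M.IsMaximal],
        separableClosure (Subfield.closure (Set.range ((algebraMap (integralClosure D (FractionRing D)) M.ResidueField).comp (algebraMap D (integralClosure D (FractionRing D)))))) M.ResidueField = ⊥) ↔
      (∀ (M : Ideal (integralClosure D (FractionRing D))) [M.IsMaximal],
        ∀ x : (integralClosure D (FractionRing D)) ⧸ M, ∃ n : ℕ,
          x ^ (ringExpChar ((integralClosure D (FractionRing D)) ⧸ M)) ^ n ∈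
            ((Ideal.Quotient.mk M).comp
              (algebraMap D (integralClosure D (FractionRing D)))).range) :=
    forall_congr' fun M => forall_congr' fun hM =>
      StrictSub.separableClosure_residueField_eq_bot_iff D M
  rw [hRHS]
  constructor
  · rintro ⟨het, hmin⟩
    have hst : Hensel.IsStrictHenselization D S :=
      Hzs.isStrictHenselization_of_essEtale (FEtGal.essEtale_of_etale A D)
    exact (StrictExt.pi_iff_forall_eq_map_comap D D S).mpr hmin
  · intro hP
    have hext := (StrictExt.pi_iff_forall_eq_map_comap D D (Hzs.Hs D)).mp hP
    have hst : Hensel.IsStrictHenselization D S :=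
      StrictSub.isStrictHenselization_sub_of_forall_eq_map_comap A S D hext
    exact ⟨StrictSub.etale_sub A S D, (StrictExt.pi_iff_forall_eq_map_comap D D S).mp hP⟩

end Groth.Agent.S16436
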