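import Groth.Statements.S16437
import Mathlib
import Groth.Agent.Lib.Helper4.StrictCard2
import Groth.Agent.Lib.Helper4.StrictCard4
import Groth.Agent.Lib.Helper4.StrictCard5
import Groth.Agent.Lib.Helper4.StrictExt1
import Groth.Agent.Lib.Helper4.HznQF
import Groth.Agent.Lib.Helper4.HzsNoethC
import Groth.Agent.Lib.Helper4.EssEtale
import Groth.Agent.Lib.Helper4.HzsSub3
import Groth.Agent.S9238

set_option autoImplicit false
universe u
open Hensel

namespace Groth.Agent.S16437

open IsLocalRing in
open scoped TensorProduct in
open Groth.Agent.Lib.Helper4 in
/-- Let A be an excellent henselian local domain with residue field k, whose integral closure A' in its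
fraction field is a local ring (as it is, A being henselian) with local inclusion A → A' and residue
field k'; let k^s be the separable closure of k in k', S a strict henselization of A, and E a local
ring which is an essentially etale local A-algebra with local structure map, together with an
A-algebra map E → S. Then every minimal prime ideal of S is generated by its contraction to E if and
only if the number of k-algebra maps from k^s to the residue field of E equals the degree [k^s : k];
equivalently, the minimal polynomial of a primitive element of k^s over k splits into linear factors
over the residue field of E. -/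
theorem result
    (A S E : Type u) [CommRing A] [HenselianLocalRing A] [IsDomain A] (hA : EGA4.IsExcellent A)
    [IsLocalRing (integralClosure A (FractionRing A))] [IsLocalHom (algebraMap A (integralClosure A (FractionRing A)))]
    [CommRing S] [IsLocalRing S] [Algebra A S] [IsLocalHom (algebraMap A S)]
    [Hensel.IsStrictHenselization A S]
    [CommRing E] [IsLocalRing E] [Algebra A E] [IsLocalHom (algebraMap A E)]
    (hE : EGA4loc.IsEssentiallyEtale A E) [Algebra E S] [IsScalarTower A E S] :
    (∀ Q ∈ minimalPrimes S, Q = Ideal.map (algebraMap E S) (Q.comap (algebraMap E S))) ↔
      Nat.card (separableClosure (ResidueField A) (ResidueField (integralClosure A (FractionRing A))) →ₐ[ResidueField A]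
          ResidueField E) =
        Module.finrank (ResidueField A)
          (separableClosure (ResidueField A) (ResidueField (integralClosure A (FractionRing A)))) := by
  classical
  have hN : IsNoetherianRing A := hA.1
  have hfinAE : Module.Finite A E := by
    obtain ⟨C, _, _, q, _, hCet, hq, ⟨e⟩⟩ := hE
    have hQ : (maximalIdeal A).map (algebraMap A C) ≤ q := by
      rw [Ideal.map_le_iff_le_comap, hq]
    have hqf : Algebra.QuasiFinite A C := inferInstance
    have hfinL : Module.Finite A (Localization.AtPrime q) :=
      Hzn.finite_localization_of_quasiFiniteAt A C q hQ
    exact Module.Finite.equiv e.symm.toLinearEquiv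
  have hEN : IsNoetherianRing E := IsNoetherianRing.of_finite A E
  have hEint : Algebra.IsIntegral A E := inferInstance
  have hEH : HenselianLocalRing E := Hzn.henselianLocalRing_of_isIntegral A E
  have hloc : IsLocalHom (algebraMap E S) := by
    constructor
    intro x hx
    by_contra hnu
    have h1 : x ∈ maximalIdeal E := (mem_maximalIdeal x).mpr hnu
    rw [← EssEtale.map_maximalIdeal hE] at h1
    have hle : (maximalIdeal A).map (algebraMap A E) ≤
        (maximalIdeal S).comap (algebraMap E S) := by
      rw [Ideal.map_le_iff_le_comap]
      intro a ha
      rw [Ideal.mem_comap, Ideal.mem_comap, ← IsScalarTower.algebraMap_apply]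
      exact ((mem_maximalIdeal _).mpr
        (fun hu => ((mem_maximalIdeal a).mp ha) (isUnit_of_map_unit (algebraMap A S) a hu)))
    exact ((mem_maximalIdeal _).mp (hle h1)) hx
  have hstrict : Hensel.IsStrictHenselization E S := Hzs.isStrictHenselization_of_essEtale hE
  have hfinE : (minimalPrimes E).Finite := minimalPrimes.finite_of_isNoetherianRing E
  have hfinA : (minimalPrimes A).Finite := minimalPrimes.finite_of_isNoetherianRing A
  rw [StrictExt.forall_eq_map_comap_iff E S hfinE]
  have hSN : IsNoetherianRing S := (Hzs.isNoetherianRing_iff_of_isStrictHenselization A S).mp hN
  have hfinS : Finite (minimalPrimes S) := minimalPrimes.finite_of_isNoetherianRing S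
  have hg : ENat.card (minimalPrimes S) = ENat.card (Field.Emb (ResidueField A)
      (ResidueField (integralClosure A (FractionRing A)))) := by
    rw [Groth.Agent.S9238.result A S]
    unfold Brnch.numGeomBranches
    rw [if_pos hfinA]
    exact StrictCard.card_sigma_emb A
  have halg := StrictCard.isAlgebraic_residueField A
  have hfinEmb : Finite (Field.Emb (ResidueField A)
      (ResidueField (integralClosure A (FractionRing A)))) := by
    by_contra hinf
    rw [not_finite_iff_infinite] at hinf
    rw [ENat.card_eq_top_of_infinite (α := Field.Emb (ResidueField A)
      (ResidueField (integralClosure A (FractionRing A)))), ENat.card_eq_top] at hg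
    exact not_finite (minimalPrimes S)
  have hfd : FiniteDimensional (ResidueField A)
      (separableClosure (ResidueField A) (ResidueField (integralClosure A (FractionRing A)))) :=
    StrictCard.finiteDimensional_separableClosure_of_finite_emb _ _ hfinEmb
  have hg' : ENat.card (minimalPrimes S) = (Module.finrank (ResidueField A)
      (separableClosure (ResidueField A)
        (ResidueField (integralClosure A (FractionRing A)))) : ℕ∞) := by
    rw [hg, ENat.card_eq_coe_natCard, StrictCard.natCard_emb_eq_finrank]
  have hE1 := StrictCard.card_minimalPrimes_essEtale' A E hfinA hE
  have hpi : IsPurelyInseparable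
      (separableClosure (ResidueField A) (ResidueField (integralClosure A (FractionRing A))))
      (ResidueField (integralClosure A (FractionRing A))) :=
    separableClosure.isPurelyInseparable _ _
  have hhomeo := PrimeSpectrum.isHomeomorph_comap_tensorProductMap_of_isPurelyInseparable
    (separableClosure (ResidueField A) (ResidueField (integralClosure A (FractionRing A))))
    (ResidueField A) (ResidueField E) (ResidueField (integralClosure A (FractionRing A)))
  have hE2 : ENat.card (PrimeSpectrum (ResidueField E ⊗[ResidueField A]
      ResidueField (integralClosure A (FractionRing A)))) =
      ENat.card (PrimeSpectrum ((separableClosure (ResidueField A)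
        (ResidueField (integralClosure A (FractionRing A)))) ⊗[ResidueField A]
          ResidueField E)) := by
    have e1 : PrimeSpectrum (ResidueField E ⊗[ResidueField A]
        ResidueField (integralClosure A (FractionRing A))) ≃
        PrimeSpectrum (ResidueField (integralClosure A (FractionRing A)) ⊗[ResidueField A]
          ResidueField E) :=
      (PrimeSpectrum.comapEquiv (Algebra.TensorProduct.comm (ResidueField A) (ResidueField E)
        (ResidueField (integralClosure A (FractionRing A)))).toRingEquiv).toEquiv
    exact ENat.card_congr (e1.trans (Equiv.ofBijective _ hhomeo.bijective))
  rw [hg', hE1, hE2, eq_comm]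
  exact StrictCard.card_primeSpectrum_tensor_eq_finrank_iff (ResidueField A)
    (separableClosure (ResidueField A) (ResidueField (integralClosure A (FractionRing A))))
    (ResidueField E)

end Groth.Agent.S16437
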