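import Groth.Statements.S16439
import Mathlib
import Groth.Agent.Lib.Helper4.TotFracSub
import Groth.Agent.Lib.Helper4.HzsNoethSub
import Groth.Agent.Lib.Helper4.EssFTDescent
import Groth.Agent.Lib.Helper4.HzsSub2

set_option autoImplicit false
universe u
open EGA4loc

namespace Groth.Agent.S16439

open IsLocalRing in
open Groth.Agent.Lib.Helper4 in
/-- Let A be an excellent reduced local ring with maximal ideal m, S a strict henselization of A, and D
an A-subalgebra of S which is a Noetherian local ring dominated by S (the inclusion is local), whose
total ring of fractions K_D is finitely generated over that of A — there is a finite subset t of K_D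
such that every element of K_D, after multiplication by (the image of) a non-zero-divisor of A, is a
polynomial expression in t with coefficients from A — and such that m D is the maximal ideal of D.
Then D is an essentially etale local A-algebra: A-isomorphic to the localization of an etale
A-algebra at a prime over m. -/
theorem result
    (A S : Type u) [CommRing A] [IsLocalRing A] [IsReduced A] (hA : EGA4.IsExcellent A)
    [CommRing S] [IsLocalRing S] [Algebra A S] [IsLocalHom (algebraMap A S)]
    [Hensel.IsStrictHenselization A S] (D : Subalgebra A S) [IsLocalRing D]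
    [IsLocalHom (algebraMap D S)] [IsNoetherianRing D]
    (hfg : ∃ t : Finset (FractionRing D), ∀ x : FractionRing D, ∃ a ∈ nonZeroDivisors A,
      algebraMap A (FractionRing D) a * x ∈ Algebra.adjoin A (t : Set (FractionRing D)))
    (hm : Ideal.map (algebraMap A D) (maximalIdeal A) = maximalIdeal D) :
    EGA4loc.IsEssentiallyEtale A D := by
  classical
  have hAn : IsNoetherianRing A := hA.1
  have hmin : (minimalPrimes A).Finite := minimalPrimes.finite_of_isNoetherianRing A
  obtain ⟨E, hDE, hEloc, hElh, hE⟩ := TotFrac.exists_essEtale_ge A S hmin D hfg
  have hDS : Hensel.IsStrictHenselization D S :=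
    Hzs.isStrictHenselization_of_noetherian_sub A S D hm
  obtain ⟨C, _, _, q, hq, hC, hqA, ⟨e⟩⟩ := hE
  let ι : C →ₐ[A] S :=
    E.val.comp (e.symm.toAlgHom.comp (IsScalarTower.toAlgHom A C (Localization.AtPrime q)))
  have hι : ∀ c : C, ι c = ((e.symm (algebraMap C (Localization.AtPrime q) c) : E) : S) :=
    fun c => rfl
  have hD : ∀ d : D, ∃ c u : C, IsUnit (ι u) ∧ algebraMap D S d * ι u = ι c := by
    intro d
    have hdE : (d : S) ∈ E := hDE d.2
    obtain ⟨c, u, hcu⟩ := IsLocalization.exists_mk'_eq q.primeCompl (e ⟨(d : S), hdE⟩)
    refine ⟨c, (u : C), ?_, ?_⟩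
    · have h1 : IsUnit (algebraMap C (Localization.AtPrime q) (u : C)) :=
        IsLocalization.map_units _ u
      have h2 : IsUnit (e.symm (algebraMap C (Localization.AtPrime q) (u : C))) := h1.map e.symm
      rw [hι]
      exact h2.map E.val
    · have h2 : e ⟨(d : S), hdE⟩ * algebraMap C (Localization.AtPrime q) (u : C) =
          algebraMap C (Localization.AtPrime q) c := by
        rw [← hcu, IsLocalization.mk'_spec]
      have h3 := congrArg e.symm h2
      rw [map_mul, e.symm_apply_apply] at h3
      rw [hι, hι]
      exact congrArg Subtype.val h3
  have heft : Algebra.EssFiniteType A D := EssFT.essFiniteType_of_cover A D S C ι hD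
  exact Hzs.essEtale_of_essFiniteType_of_map_maximalIdeal A S D hm

end Groth.Agent.S16439
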