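import Groth.Statements.S16440
import Mathlib
import Groth.Agent.Lib.Helper4.FEtGal4

set_option autoImplicit false
universe u
open Hensel

namespace Groth.Agent.S16440

open Groth.Agent.Lib.Helper4 in
/-- Let A be an excellent henselian reduced local ring, S a strict henselization of A and Q a minimal
prime ideal of S; let K be the fraction field of the domain S/Q and L the subfield of K generated
over the image of A by a finite subset t of K (an intermediate field between the fraction field of
A/(Q ∩ A) and K, finitely generated over the former). Then the intersection of L with S/Q is (the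
underlying set of) an A-subalgebra D' of S/Q which is a finitely generated A-module and formally
unramified over A. (The source adds that S/Q is a strict henselization of D'; that assertion is not
stated here.) -/
theorem result
    (A S : Type u) [CommRing A] [HenselianLocalRing A] [IsReduced A] (hA : EGA4.IsExcellent A)
    [CommRing S] [IsLocalRing S] [Algebra A S] [IsLocalHom (algebraMap A S)]
    [Hensel.IsStrictHenselization A S] (Q : Ideal S) (hQ : Q ∈ minimalPrimes S) [Q.IsPrime]
    (t : Finset (FractionRing (S ⧸ Q))) :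
    ∃ D' : Subalgebra A (S ⧸ Q), (D' : Set (S ⧸ Q)) = (algebraMap (S ⧸ Q) (FractionRing (S ⧸ Q))) ⁻¹'
        (Subfield.closure (Set.range (algebraMap A (FractionRing (S ⧸ Q))) ∪
          (t : Set (FractionRing (S ⧸ Q)))) : Set (FractionRing (S ⧸ Q))) ∧
      Module.Finite A D' ∧ Algebra.FormallyUnramified A D' := by
  classical
  have hnoeth : IsNoetherianRing A := hA.1
  have hSn : IsNoetherianRing S :=
    (Hzs.isNoetherianRing_iff_of_isStrictHenselization A S).mp hnoeth
  obtain ⟨gen, hgen⟩ : ∃ g : Finset S, Ideal.span (g : Set S) = Q :=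
    (isNoetherianRing_iff_ideal_fg S).mp hSn Q
  -- numerators and denominators
  have hfrac : ∀ x : FractionRing (S ⧸ Q), ∃ a b : S, b ∉ Q ∧
      x * algebraMap (S ⧸ Q) (FractionRing (S ⧸ Q)) (Ideal.Quotient.mk Q b) =
        algebraMap (S ⧸ Q) (FractionRing (S ⧸ Q)) (Ideal.Quotient.mk Q a) := by
    intro x
    obtain ⟨a', b', hb', rfl⟩ := IsFractionRing.div_surjective (A := S ⧸ Q) x
    obtain ⟨a, rfl⟩ := Ideal.Quotient.mk_surjective a'
    obtain ⟨b, rfl⟩ := Ideal.Quotient.mk_surjective b'
    have hb0 : Ideal.Quotient.mk Q b ≠ 0 := nonZeroDivisors.ne_zero hb'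
    refine ⟨a, b, fun h => hb0 (Ideal.Quotient.eq_zero_iff_mem.mpr h), ?_⟩
    have : algebraMap (S ⧸ Q) (FractionRing (S ⧸ Q)) (Ideal.Quotient.mk Q b) ≠ 0 := fun h0 =>
      hb0 ((FaithfulSMul.algebraMap_injective (S ⧸ Q) (FractionRing (S ⧸ Q)))
        (h0.trans (map_zero _).symm))
    field_simp
  choose num den hden hnd using hfrac
  let s : Finset S := (gen ∪ t.image num) ∪ t.image den
  obtain ⟨B, _, _, hBloc, hBlh, hBfin, hBet, hBgal, ψ, hlocψ, hsψ⟩ :=
    FEtGal.exists_finiteEtale_galois A S s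
  let _ : Algebra B S := ψ.toRingHom.toAlgebra
  have : IsScalarTower A B S := IsScalarTower.of_algebraMap_eq fun a => (ψ.commutes a).symm
  have : IsLocalHom (algebraMap B S) := hlocψ
  have hB := FEtGal.essEtale_of_etale A B
  have hSB : Hensel.IsStrictHenselization B S := Hzs.isStrictHenselization_of_essEtale hB
  have hff : Module.FaithfullyFlat B S := Hzs.faithfullyFlat_of_isStrictHenselization B S
  have hψalg : ∀ b : B, algebraMap B S b = ψ b := fun b => rfl
  -- `Q` is extended from `B`
  have hQE : Q = Ideal.map (algebraMap B S) (Q.comap (algebraMap B S)) := by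
    refine le_antisymm ?_ Ideal.map_comap_le
    conv_lhs => rw [← hgen]
    rw [Ideal.span_le]
    intro g hg
    have hgs : g ∈ (s : Set S) := by
      simp only [s, Finset.coe_union]
      exact Or.inl (Or.inl hg)
    have hgQ : g ∈ Q := by
      rw [← hgen]
      exact Ideal.subset_span hg
    obtain ⟨b, rfl⟩ := hsψ hgs
    exact Ideal.mem_map_of_mem _ (show algebraMap B S b ∈ Q from hgQ)
  let K := FractionRing (S ⧸ Q)
  let β₀ : B →ₐ[A] K := (IsScalarTower.toAlgHom A (S ⧸ Q) K).comp
    ((Ideal.Quotient.mkₐ A Q).comp ψ)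
  have hβ₀ : ∀ b, β₀ b = algebraMap (S ⧸ Q) K (Ideal.Quotient.mk Q (ψ b)) := fun b => rfl
  have hβ0 : ∀ e : B, β₀ e = 0 → ψ e ∈ Q := by
    intro e he
    have : Ideal.Quotient.mk Q (ψ e) = 0 :=
      (FaithfulSMul.algebraMap_injective (S ⧸ Q) K) (he.trans (map_zero _).symm)
    exact Ideal.Quotient.eq_zero_iff_mem.mp this
  set L₀ : Subfield K := Subfield.closure (Set.range (algebraMap A K) ∪ (t : Set K)) with hL₀
  have hL : L₀ ≤ FEtGal.fracField (β₀ : B →+* K) := by
    rw [hL₀, Subfield.closure_le]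
    rintro x (⟨a, rfl⟩ | hx)
    · have h1 : algebraMap A K a = β₀ (algebraMap A B a) := (β₀.commutes a).symm
      rw [h1]
      exact FEtGal.map_mem_fracField (β₀ : B →+* K) _
    · have hx' : x ∈ t := hx
      have h1 : num x ∈ (s : Set S) := by
        simp only [s, Finset.coe_union, Finset.coe_image]
        exact Or.inl (Or.inr ⟨x, hx', rfl⟩)
      have h2 : den x ∈ (s : Set S) := by
        simp only [s, Finset.coe_union, Finset.coe_image]
        exact Or.inr ⟨x, hx', rfl⟩
      obtain ⟨b₁, hb₁⟩ := hsψ h1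
      obtain ⟨b₂, hb₂⟩ := hsψ h2
      have hb₁' : ψ b₁ = num x := hb₁
      have hb₂' : ψ b₂ = den x := hb₂
      refine ⟨b₁, b₂, ?_, ?_⟩
      · intro h0
        have := hβ0 _ h0
        rw [hb₂'] at this
        exact hden x this
      · show x * β₀ b₂ = β₀ b₁
        rw [hβ₀, hβ₀, hb₁', hb₂']
        exact hnd x
  -- elements of `S ⧸ Q` in the fraction field of `B` come from `B`
  have hkey : ∀ x : S, algebraMap (S ⧸ Q) K (Ideal.Quotient.mk Q x) ∈
      FEtGal.fracField (β₀ : B →+* K) → ∃ b : B, x - ψ b ∈ Q := by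
    intro x hx
    obtain ⟨e₁, e₂, he₂, h12⟩ := hx
    have he₂Q : algebraMap B S e₂ ∉ Q := by
      intro hmem
      apply he₂
      show β₀ e₂ = 0
      have hmem' : ψ e₂ ∈ Q := hmem
      rw [hβ₀, Ideal.Quotient.eq_zero_iff_mem.mpr hmem', map_zero]
    have h3 : x * algebraMap B S e₂ - algebraMap B S e₁ ∈ Q := by
      rw [← Ideal.Quotient.eq_zero_iff_mem]
      apply FaithfulSMul.algebraMap_injective (S ⧸ Q) K
      rw [map_zero, map_sub, map_mul, map_sub, map_mul]
      exact sub_eq_zero.mpr h12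
    exact FEtGal.exists_sub_mem_of_faithfullyFlat Q hQE x e₁ e₂ he₂Q h3
  -- the field `M` and its subfield `L`
  let M := ↥(FEtGal.fracField (β₀ : B →+* K))
  let _ : Algebra A M := (RingHom.codRestrict (algebraMap A K)
    (FEtGal.fracField (β₀ : B →+* K)) (fun a => by
      have h1 : algebraMap A K a = β₀ (algebraMap A B a) := (β₀.commutes a).symm
      rw [h1]
      exact FEtGal.map_mem_fracField (β₀ : B →+* K) _)).toAlgebra
  let β : B →ₐ[A] M :=
    { RingHom.codRestrict (β₀ : B →+* K) (FEtGal.fracField (β₀ : B →+* K))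
        (fun b => FEtGal.map_mem_fracField (β₀ : B →+* K) b) with
      commutes' := fun a => Subtype.ext (β₀.commutes a) }
  have hβval : ∀ b, ((β b : M) : K) = β₀ b := fun b => rfl
  have hM : ∀ m : M, ∃ b₁ b₂ : B, β b₂ ≠ 0 ∧ m * β b₂ = β b₁ := by
    rintro ⟨m, b₁, b₂, hb₂, hm⟩
    refine ⟨b₁, b₂, ?_, Subtype.ext hm⟩
    intro h0
    exact hb₂ (congrArg Subtype.val h0)
  let L : Subfield M := L₀.comap (FEtGal.fracField (β₀ : B →+* K)).subtype
  have hLmem : ∀ m : M, m ∈ L ↔ (m : K) ∈ L₀ := fun m => Iff.rfl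
  have hLA : ∀ a, algebraMap A M a ∈ L := by
    intro a
    rw [hLmem]
    exact Subfield.subset_closure (Or.inl ⟨a, rfl⟩)
  obtain ⟨C, _, _, hCfin, hCet, ψC, hsub, hsup⟩ :=
    FEtGal.exists_etale_of_subfield A B M β hM L hLA
  let f : C →ₐ[A] S ⧸ Q := (Ideal.Quotient.mkₐ A Q).comp (ψ.comp ψC)
  have hf : ∀ c, f c = Ideal.Quotient.mk Q (ψ (ψC c)) := fun c => rfl
  refine ⟨f.range, ?_, ?_, ?_⟩
  · ext y
    obtain ⟨x, rfl⟩ := Ideal.Quotient.mk_surjective y
    simp only [SetLike.mem_coe, Set.mem_preimage]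
    constructor
    · rintro ⟨c, hc⟩
      rw [← hc]
      have h1 := (hLmem _).mp (hsub c)
      rw [hβval] at h1
      exact h1
    · intro hx
      obtain ⟨b, hb⟩ := hkey x (hL hx)
      have hxb : Ideal.Quotient.mk Q x = Ideal.Quotient.mk Q (ψ b) := by
        rw [← sub_eq_zero, ← map_sub, Ideal.Quotient.eq_zero_iff_mem]
        exact hb
      have hbL : β b ∈ L := by
        rw [hLmem, hβval, hβ₀, ← hxb]
        exact hx
      obtain ⟨c, hc⟩ := hsup b hbL
      refine ⟨c, ?_⟩
      have h2 : β₀ (ψC c) = β₀ b := by rw [← hβval, hc, hβval]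
      rw [hβ₀, hβ₀] at h2
      have h3 := FaithfulSMul.algebraMap_injective (S ⧸ Q) K h2
      show f c = _
      rw [hf, h3, hxb]
  · exact Module.Finite.of_surjective f.rangeRestrict.toLinearMap f.rangeRestrict_surjective
  · exact Algebra.FormallyUnramified.of_surjective f.rangeRestrict f.rangeRestrict_surjective

end Groth.Agent.S16440
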