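import Groth.Statements.S16441
import Mathlib
import Groth.Agent.Lib.Helper4.TotFracSub

set_option autoImplicit false
universe u
open EGA4loc

namespace Groth.Agent.S16441

open Groth.Agent.Lib.Helper4 in
/-- Let A be a reduced local ring with finitely many minimal prime ideals, S a strict henselization of
A, and D an A-subalgebra of S which is a local ring dominated by S (local inclusion). Then the total
ring of fractions K_D of D is finitely generated over that of A — there is a finite subset t of K_D
such that every element of K_D, multiplied by (the image of) some non-zero-divisor of A, is a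
polynomial expression in t with coefficients from A — if and only if D is contained in some
A-subalgebra E of S which is a local ring and an essentially etale local A-algebra (a localization
of an etale A-algebra at a prime over the maximal ideal). -/
theorem result
    (A S : Type u) [CommRing A] [IsLocalRing A] [IsReduced A] (hmin : (minimalPrimes A).Finite)
    [CommRing S] [IsLocalRing S] [Algebra A S] [IsLocalHom (algebraMap A S)]
    [Hensel.IsStrictHenselization A S] (D : Subalgebra A S) [IsLocalRing D]
    [IsLocalHom (algebraMap D S)] :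
    (∃ t : Finset (FractionRing D), ∀ x : FractionRing D, ∃ a ∈ nonZeroDivisors A,
        algebraMap A (FractionRing D) a * x ∈ Algebra.adjoin A (t : Set (FractionRing D))) ↔
      ∃ E : Subalgebra A S, D ≤ E ∧ ∃ _ : IsLocalRing E, EGA4loc.IsEssentiallyEtale A E := by
  classical
  have hffA : Module.FaithfullyFlat A S := Hzs.faithfullyFlat_of_isStrictHenselization A S
  have hAD : ∀ a ∈ nonZeroDivisors A, algebraMap A D a ∈ nonZeroDivisors D := by
    intro a ha
    have h1 := TotFrac.algebraMap_mem_nonZeroDivisors_of_flat (S := S) a ha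
    rw [mem_nonZeroDivisors_iff_left]
    intro x hx
    apply Subtype.ext
    have h2 : algebraMap A S a * (x : S) = 0 := congrArg Subtype.val hx
    exact mem_nonZeroDivisors_iff_left.mp h1 _ h2
  have hdvd : ∀ u ∈ nonZeroDivisors D, ∃ a ∈ nonZeroDivisors A, ∃ y : D,
      u * y = algebraMap A D a := by
    intro u hu
    obtain ⟨a, ha, y, hy, h⟩ := TotFrac.exists_mul_eq_algebraMap_of_subalgebra A S hmin D u u.2
      (fun y hy h => by
        have h1 : u * ⟨y, hy⟩ = 0 := Subtype.ext h
        have := mem_nonZeroDivisors_iff_left.mp hu _ h1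
        exact congrArg Subtype.val this)
    exact ⟨a, ha, ⟨y, hy⟩, Subtype.ext h⟩
  have hfrac : ∀ x : FractionRing D, ∃ a ∈ nonZeroDivisors A, ∃ d : D,
      algebraMap A (FractionRing D) a * x = algebraMap D (FractionRing D) d := by
    intro x
    obtain ⟨⟨e, n⟩, hz⟩ := IsLocalization.surj (nonZeroDivisors D) x
    obtain ⟨a, ha, y, hy⟩ := hdvd n.1 n.2
    refine ⟨a, ha, e * y, ?_⟩
    have hz' : x * algebraMap D (FractionRing D) (n : D) = algebraMap D (FractionRing D) e := hz
    rw [IsScalarTower.algebraMap_apply A D (FractionRing D), ← hy, map_mul, map_mul, ← hz']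
    ring
  constructor
  · rintro ⟨t, ht⟩
    choose a ha d hd using hfrac
    let a₀ : A := ∏ j ∈ t, a j
    have ha₀ : a₀ ∈ nonZeroDivisors A := Submonoid.prod_mem _ (fun j _ => ha j)
    let d' : FractionRing D → D := fun j => (∏ i ∈ t.erase j, a i) • d j
    have hd' : ∀ j ∈ t, algebraMap A (FractionRing D) a₀ * j =
        algebraMap D (FractionRing D) (d' j) := by
      intro j hj
      show algebraMap A (FractionRing D) (∏ j ∈ t, a j) * j =
        algebraMap D (FractionRing D) ((∏ i ∈ t.erase j, a i) • d j)
      rw [← Finset.mul_prod_erase t a hj, map_mul, Algebra.smul_def, map_mul,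
        ← IsScalarTower.algebraMap_apply, ← hd j]
      ring
    obtain ⟨E, hsE, hEloc, hElh, hE⟩ :=
      Hzs.exists_essEtale_subalgebra A S (t.image (fun j => ((d' j : D) : S)))
    refine ⟨E, ?_, hEloc, hE⟩
    intro x hxD
    have hclaim : ∀ y ∈ Algebra.adjoin A (t : Set (FractionRing D)), ∃ N : ℕ, ∃ z : D,
        (z : S) ∈ E ∧
          algebraMap A (FractionRing D) (a₀ ^ N) * y = algebraMap D (FractionRing D) z := by
      intro y hy
      induction hy using Algebra.adjoin_induction with
      | mem j hj =>
        refine ⟨1, d' j, hsE ?_, by rw [pow_one]; exact hd' j hj⟩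
        rw [Finset.coe_image]
        exact ⟨j, hj, rfl⟩
      | algebraMap r =>
        refine ⟨0, algebraMap A D r, E.algebraMap_mem r, ?_⟩
        rw [pow_zero, map_one, one_mul]
        exact IsScalarTower.algebraMap_apply A D _ r
      | add y₁ y₂ _ _ h₁ h₂ =>
        obtain ⟨N₁, z₁, hz₁, e₁⟩ := h₁
        obtain ⟨N₂, z₂, hz₂, e₂⟩ := h₂
        refine ⟨N₁ + N₂, (a₀ ^ N₂) • z₁ + (a₀ ^ N₁) • z₂, ?_, ?_⟩
        · exact E.add_mem (E.smul_mem hz₁ _) (E.smul_mem hz₂ _)
        · rw [map_add, Algebra.smul_def, Algebra.smul_def, map_mul, map_mul, ← e₁, ← e₂,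
            ← IsScalarTower.algebraMap_apply, ← IsScalarTower.algebraMap_apply, pow_add, map_mul]
          ring
      | mul y₁ y₂ _ _ h₁ h₂ =>
        obtain ⟨N₁, z₁, hz₁, e₁⟩ := h₁
        obtain ⟨N₂, z₂, hz₂, e₂⟩ := h₂
        refine ⟨N₁ + N₂, z₁ * z₂, E.mul_mem hz₁ hz₂, ?_⟩
        rw [map_mul, ← e₁, ← e₂, pow_add, map_mul]
        ring
    obtain ⟨c, hc, hcx⟩ := ht (algebraMap D (FractionRing D) ⟨x, hxD⟩)
    obtain ⟨N, z, hzE, hz⟩ := hclaim _ hcx
    have h1 : algebraMap A D (a₀ ^ N * c) * ⟨x, hxD⟩ = z := by
      apply IsFractionRing.injective D (FractionRing D)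
      rw [map_mul, ← IsScalarTower.algebraMap_apply, map_mul, mul_assoc, hz]
    have h2 : algebraMap A S (a₀ ^ N * c) * x = z := congrArg Subtype.val h1
    refine TotFrac.mem_of_algebraMap_mul_mem A S E hE (a₀ ^ N * c)
      (mul_mem (pow_mem ha₀ N) hc) x ?_
    rw [h2]
    exact hzE
  · rintro ⟨E, hDE, hEloc, hE⟩
    have hft := EssEtale.essFiniteType hE
    have hfe := EssEtale.formallyEtale hE
    have hflat : Module.Flat A E := TotFrac.flat_of_essEtale hE
    let f : D →ₗ[A] E := (Subalgebra.inclusion hDE).toLinearMap
    have hf : Function.Injective f := Subalgebra.inclusion_injective hDE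
    have hch : ∀ p : minimalPrimes A, ∃ σ : Finset D, ∀ e : D, ∃ s : A, s ∉ p.1 ∧
        s • e ∈ Submodule.span A (σ : Set D) := by
      intro p
      have hpp : p.1.IsPrime := p.2.1.1
      exact TotFrac.exists_finset_span_of_injective (E := E) p.1 p.2 f hf
    choose σ hσ using hch
    have : Fintype (minimalPrimes A) := hmin.fintype
    let τ : Finset D := Finset.univ.biUnion σ
    refine ⟨τ.image (algebraMap D (FractionRing D)), fun x => ?_⟩
    obtain ⟨a₁, ha₁, d, hd⟩ := hfrac x
    let J : Ideal A :=
      { carrier := {a | a • d ∈ Submodule.span A (τ : Set D)}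
        add_mem' := fun {a b} ha hb => by
          show (a + b) • d ∈ Submodule.span A (τ : Set D)
          rw [add_smul]; exact Submodule.add_mem _ ha hb
        zero_mem' := by
          show (0 : A) • d ∈ Submodule.span A (τ : Set D)
          rw [zero_smul]; exact Submodule.zero_mem _
        smul_mem' := fun r a ha => by
          show (r • a) • d ∈ Submodule.span A (τ : Set D)
          rw [smul_assoc]; exact Submodule.smul_mem _ _ ha }
    obtain ⟨a, ha, haJ⟩ := TotFrac.exists_nonZeroDivisor_mem hmin J (fun p hp hle => by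
      obtain ⟨s, hs, hmem⟩ := hσ ⟨p, hp⟩ d
      have hsub : Submodule.span A ((σ ⟨p, hp⟩ : Finset D) : Set D) ≤
          Submodule.span A (τ : Set D) := by
        apply Submodule.span_mono
        intro y hy
        simp only [τ, Finset.coe_biUnion, Set.mem_iUnion]
        exact ⟨⟨p, hp⟩, Finset.mem_coe.mpr (Finset.mem_univ _), hy⟩
      exact hs (hle (show s ∈ J from hsub hmem)))
    refine ⟨a * a₁, mul_mem ha ha₁, ?_⟩
    rw [map_mul, mul_assoc, hd]
    have h2 : algebraMap A (FractionRing D) a * algebraMap D (FractionRing D) d =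
        (IsScalarTower.toAlgHom A D (FractionRing D)) (a • d) := by
      rw [map_smul, Algebra.smul_def]
      rfl
    rw [h2]
    have h3 : ∀ y ∈ Submodule.span A (τ : Set D),
        (IsScalarTower.toAlgHom A D (FractionRing D)) y ∈
          Algebra.adjoin A ((τ.image (algebraMap D (FractionRing D)) : Finset _) :
            Set (FractionRing D)) := by
      intro y hy
      induction hy using Submodule.span_induction with
      | mem y hy =>
        apply Algebra.subset_adjoin
        rw [Finset.coe_image]
        exact ⟨y, hy, rfl⟩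
      | zero => rw [map_zero]; exact Subalgebra.zero_mem _
      | add y₁ y₂ _ _ h₁ h₂ => rw [map_add]; exact Subalgebra.add_mem _ h₁ h₂
      | smul r y _ h => rw [map_smul]; exact Subalgebra.smul_mem _ h r
    exact h3 _ haJ

end Groth.Agent.S16441
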