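import Groth.Statements.S16443
import Mathlib
import Groth.Agent.Lib.Helper4.TotFrac
import Groth.Agent.S16448

set_option autoImplicit false
universe u
open EGA4loc

namespace Groth.Agent.S16443

open Groth.Agent.Lib.Helper4 in
/-- Let A be a reduced local ring with finitely many minimal prime ideals, E a local ring which is an
essentially etale local A-algebra with local structure map, K_E the total ring of fractions of E,
and L an A-subalgebra of K_E containing an inverse of the image of every non-zero-divisor of A (so L
is an intermediate ring between the total rings of fractions of A and of E). Then the preimage D of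
L in E is (the underlying set of) an A-subalgebra of E which is a local ring with local inclusion
into E — its maximal ideal lies under that of E — and L is the total ring of fractions of D in the
sense that every element of L is the image of an element of D times the inverse of the image of a
non-zero-divisor of A. -/
theorem result
    (A E : Type u) [CommRing A] [IsLocalRing A] [IsReduced A] (hmin : (minimalPrimes A).Finite)
    [CommRing E] [IsLocalRing E] [Algebra A E] [IsLocalHom (algebraMap A E)]
    (hE : EGA4loc.IsEssentiallyEtale A E) (L : Subalgebra A (FractionRing E))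
    (hL : ∀ s ∈ nonZeroDivisors A, ∃ y ∈ L, algebraMap A (FractionRing E) s * y = 1) :
    ∃ D : Subalgebra A E, (D : Set E) = (algebraMap E (FractionRing E)) ⁻¹' (L : Set (FractionRing E)) ∧
      ∃ _ : IsLocalRing D, IsLocalHom (algebraMap D E) ∧
        ∀ l ∈ L, ∃ d ∈ D, ∃ s ∈ nonZeroDivisors A, ∃ y ∈ L,
          algebraMap A (FractionRing E) s * y = 1 ∧ l = algebraMap E (FractionRing E) d * y := by
  classical
  have hft := EssEtale.essFiniteType hE
  have hfe := EssEtale.formallyEtale hE
  have hflat : Module.Flat A E := by
    obtain ⟨C, _, _, q, hq, hC, hqA, ⟨e⟩⟩ := hE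
    have h1 : Module.Flat A (Localization.AtPrime q) :=
      Module.Flat.trans A C (Localization.AtPrime q)
    exact Module.Flat.of_linearEquiv e.toLinearEquiv
  have hloc := (Groth.Agent.S16448.result A E hmin hE).1
  let D : Subalgebra A E := L.comap (IsScalarTower.toAlgHom A E (FractionRing E))
  have hDmem : ∀ x : E, x ∈ D ↔ algebraMap E (FractionRing E) x ∈ L := fun x => Iff.rfl
  have hinv : ∀ x ∈ D, x ∈ nonZeroDivisors E →
      ∃ a ∈ nonZeroDivisors A, ∃ d ∈ D, x * d = algebraMap A E a := by
    intro x hxD hx
    let I : Ideal A :=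
      { carrier := {a | ∃ d ∈ D, x * d = algebraMap A E a}
        add_mem' := by
          rintro a b ⟨d, hd, h⟩ ⟨d', hd', h'⟩
          exact ⟨d + d', D.add_mem hd hd', by rw [mul_add, h, h', map_add]⟩
        zero_mem' := ⟨0, D.zero_mem, by rw [mul_zero, map_zero]⟩
        smul_mem' := by
          rintro r a ⟨d, hd, h⟩
          refine ⟨r • d, D.smul_mem hd r, ?_⟩
          rw [mul_smul_comm, h, smul_eq_mul, map_mul, Algebra.smul_def] }
    obtain ⟨a, ha, haI⟩ := TotFrac.exists_nonZeroDivisor_mem hmin I (fun p hp hle => by
      have hpp : p.IsPrime := hp.1.1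
      obtain ⟨s, hs, q₀, hq₀⟩ := TotFrac.exists_mul_aeval_eq_algebraMap p hp x hx
      have hmem : Polynomial.aeval x q₀ ∈ D :=
        Algebra.adjoin_le (Set.singleton_subset_iff.mpr hxD)
          (Polynomial.aeval_mem_adjoin_singleton A x)
      exact hs (hle (show s ∈ I from ⟨_, hmem, hq₀⟩)))
    obtain ⟨d, hd, h⟩ := haI
    exact ⟨a, ha, d, hd, h⟩
  have hDunit : ∀ x : D, IsUnit (x : E) → IsUnit x := by
    intro x hx
    obtain ⟨y, hy⟩ := isUnit_iff_exists_inv.mp hx
    have hxnzd : (x : E) ∈ nonZeroDivisors E := hx.mem_nonZeroDivisors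
    obtain ⟨a, ha, d, hd, h⟩ := hinv x x.2 hxnzd
    obtain ⟨ya, hyaL, hya⟩ := hL a ha
    have hyD : y ∈ D := by
      rw [hDmem]
      have h1 : algebraMap A E a * y = d := by
        rw [← h, mul_comm (x : E) d, mul_assoc, hy, mul_one]
      have h2 : algebraMap E (FractionRing E) y = algebraMap E (FractionRing E) d * ya := by
        rw [← h1, map_mul, ← IsScalarTower.algebraMap_apply A E (FractionRing E), mul_comm,
          ← mul_assoc, mul_comm ya, hya, one_mul]
      rw [h2]
      exact L.mul_mem ((hDmem d).mp hd) hyaL
    exact isUnit_iff_exists_inv.mpr ⟨⟨y, hyD⟩, Subtype.ext hy⟩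
  have hDloc : IsLocalRing D := by
    refine IsLocalRing.of_nonunits_add ?_
    intro a b ha hb hab
    have ha' : (a : E) ∈ nonunits E := fun h => ha (hDunit a h)
    have hb' : (b : E) ∈ nonunits E := fun h => hb (hDunit b h)
    have hab' : IsUnit ((a + b : D) : E) := hab.map D.val
    exact IsLocalRing.nonunits_add ha' hb' hab'
  refine ⟨D, rfl, hDloc, ⟨fun x hx => hDunit x hx⟩, ?_⟩
  intro l hl
  obtain ⟨⟨e, m⟩, hz⟩ := IsLocalization.surj ((nonZeroDivisors A).map (algebraMap A E)) l
  obtain ⟨a, ha, ham⟩ := m.2
  obtain ⟨ya, hyaL, hya⟩ := hL a ha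
  have hm : algebraMap E (FractionRing E) (m : E) = algebraMap A (FractionRing E) a := by
    rw [← ham, ← IsScalarTower.algebraMap_apply A E (FractionRing E)]
  have hz' : l * algebraMap A (FractionRing E) a = algebraMap E (FractionRing E) e := by
    rw [← hm]; exact hz
  have heD : e ∈ D := by
    rw [hDmem, ← hz']
    exact L.mul_mem hl (L.algebraMap_mem a)
  refine ⟨e, heD, a, ha, ya, hyaL, hya, ?_⟩
  rw [← hz', mul_assoc, hya, mul_one]

end Groth.Agent.S16443
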