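import Groth.Statements.S16444
import Mathlib
import Groth.Agent.Lib.Helper4.EssEtDescent
import Groth.Agent.Lib.Helper4.EssEtale
import Groth.Agent.Lib.Helper4.HznQF
import Groth.Agent.Lib.Helper4.HznInt

set_option autoImplicit false
universe u
open scoped TensorProduct
open Hensel

namespace Groth.Agent.S16444

open IsLocalRing in
open Groth.Agent.Lib.Helper4 in
/-- Let A be a complete Noetherian local ring and R → A a local homomorphism from a henselian Noetherian
local ring R inducing a bijection on residue fields. Then every local ring E which is an essentially
etale local A-algebra with local structure map is A-isomorphic to A ⊗_R S for some local ring S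
which is a finite etale R-algebra (its residue field is then that of E). (The published statement
takes R to be a coefficient ring of A, that is a field or an image of a complete p-ring with the
same residue field; its proof uses only that R is henselian with the same residue field as A, which
is the hypothesis made here.) -/
theorem result
    (R A E : Type u) [CommRing R] [HenselianLocalRing R] [IsNoetherianRing R]
    [CommRing A] [IsLocalRing A] [IsNoetherianRing A] [IsAdicComplete (maximalIdeal A) A]
    [Algebra R A] [IsLocalHom (algebraMap R A)]
    (hres : Function.Bijective (ResidueField.map (algebraMap R A)))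
    [CommRing E] [IsLocalRing E] [Algebra A E] [IsLocalHom (algebraMap A E)]
    (hE : EGA4loc.IsEssentiallyEtale A E) :
    ∃ (S : Type u) (_ : CommRing S) (_ : IsLocalRing S) (_ : Algebra R S),
      Module.Finite R S ∧ Algebra.Etale R S ∧ Nonempty (E ≃ₐ[A] A ⊗[R] S) := by
  have hHR : HenselianRing A (maximalIdeal A) := inferInstance
  have hA : HenselianLocalRing A :=
    Hzn.henselianLocalRing_of_henselianRing A (maximalIdeal A) Ideal.le_radical
  have hFE : Algebra.FormallyEtale A E := EssEtale.formallyEtale hE
  obtain ⟨C, _, _, q, _, hCet, hq, ⟨e⟩⟩ := hE
  have hQ : (maximalIdeal A).map (algebraMap A C) ≤ q := by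
    rw [Ideal.map_le_iff_le_comap, hq]
  have hqf : Algebra.QuasiFinite A C := inferInstance
  have hfinL : Module.Finite A (Localization.AtPrime q) :=
    Hzn.finite_localization_of_quasiFiniteAt A C q hQ
  have hfin : Module.Finite A E := Module.Finite.equiv e.symm.toLinearEquiv
  have hFP : Algebra.FinitePresentation A E :=
    Algebra.FinitePresentation.of_finiteType.mp inferInstance
  have hEt : Algebra.Etale A E := ⟨hFE, hFP⟩
  exact EssEtD.exists_finite_etale_descent R A E hres

end Groth.Agent.S16444
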