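import Groth.Statements.S16445
import Mathlib
import Groth.Agent.Lib.Helper4.HensExc2
import Groth.Agent.Lib.Helper4.ExcFin2
import Groth.Agent.Lib.Helper4.StrictInt1
import Groth.Agent.Lib.Helper4.HzsUnibr
import Groth.Agent.Lib.Helper4.HznQF

set_option autoImplicit false
universe u
open Hensel

namespace Groth.Agent.S16445

set_option synthInstance.maxHeartbeats 400000 in
set_option maxHeartbeats 2000000 in
open Groth.Agent.Lib.Helper4 in
/-- Let A be an excellent henselian reduced local ring, S a strict henselization of A and Q a minimal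
prime ideal of S; let K be the fraction field of the domain S/Q and L the subfield of K generated
over the image of A by a finite subset t of K. Then the intersection of L with S/Q is (the
underlying set of) an A-subalgebra D' of S/Q which is an excellent henselian local ring (a domain,
as a subring of S/Q) whose fraction field is L: every element of L is the quotient of the images of
two elements of D'. (The source's further description of the completion of D' is not stated here.) -/
theorem result
    (A S : Type u) [CommRing A] [HenselianLocalRing A] [IsReduced A] (hA : EGA4.IsExcellent A)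
    [CommRing S] [IsLocalRing S] [Algebra A S] [IsLocalHom (algebraMap A S)]
    [Hensel.IsStrictHenselization A S] (Q : Ideal S) (hQ : Q ∈ minimalPrimes S) [Q.IsPrime]
    (t : Finset (FractionRing (S ⧸ Q))) :
    ∃ D' : Subalgebra A (S ⧸ Q), (D' : Set (S ⧸ Q)) = (algebraMap (S ⧸ Q) (FractionRing (S ⧸ Q))) ⁻¹'
        (Subfield.closure (Set.range (algebraMap A (FractionRing (S ⧸ Q))) ∪
          (t : Set (FractionRing (S ⧸ Q)))) : Set (FractionRing (S ⧸ Q))) ∧
      EGA4.IsExcellent D' ∧ ∃ _ : HenselianLocalRing D',
        ∀ l ∈ Subfield.closure (Set.range (algebraMap A (FractionRing (S ⧸ Q))) ∪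
            (t : Set (FractionRing (S ⧸ Q)))),
          ∃ a ∈ D', ∃ b ∈ D', algebraMap (S ⧸ Q) (FractionRing (S ⧸ Q)) b ≠ 0 ∧
            l * algebraMap (S ⧸ Q) (FractionRing (S ⧸ Q)) b =
              algebraMap (S ⧸ Q) (FractionRing (S ⧸ Q)) a := by
  classical
  have hintS : Algebra.IsIntegral A S := StrictInt.isIntegral_strictHenselization A S
  have hintT : Algebra.IsIntegral A (S ⧸ Q) :=
    Algebra.IsIntegral.of_surjective (Ideal.Quotient.mkₐ A Q) (Ideal.Quotient.mkₐ_surjective A Q)
  let Lalg : Subalgebra A (FractionRing (S ⧸ Q)) :=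
    { (Subfield.closure (Set.range (algebraMap A (FractionRing (S ⧸ Q))) ∪
        (t : Set (FractionRing (S ⧸ Q))))).toSubring.toSubsemiring with
      algebraMap_mem' := fun a => Subfield.subset_closure (Or.inl ⟨a, rfl⟩) }
  obtain ⟨D', hD'def⟩ : ∃ D' : Subalgebra A (S ⧸ Q),
      D' = Lalg.comap (IsScalarTower.toAlgHom A (S ⧸ Q) (FractionRing (S ⧸ Q))) := ⟨_, rfl⟩
  have hD' : (D' : Set (S ⧸ Q)) = (algebraMap (S ⧸ Q) (FractionRing (S ⧸ Q))) ⁻¹'
      (Subfield.closure (Set.range (algebraMap A (FractionRing (S ⧸ Q))) ∪
        (t : Set (FractionRing (S ⧸ Q)))) : Set (FractionRing (S ⧸ Q))) := by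
    rw [hD'def]
    rfl
  have hfin : Module.Finite A D' :=
    HensExc.finite_inter t D' hD' ⟨hA.1, hA.2.2.1, hA.2.2.2⟩
  have hint' : Algebra.IsIntegral A D' := Algebra.IsIntegral.of_finite A D'
  have hloc : IsLocalRing D' := Unibr.isLocalRing_of_isDomain_of_isIntegral A D'
  have hhens : HenselianLocalRing D' := Hzn.henselianLocalRing_of_isIntegral A D'
  exact ⟨D', hD', ExcFin.isExcellent_of_finite A D' hA, hhens,
    fun l hl => HensExc.exists_frac t D' hD' l hl⟩

end Groth.Agent.S16445
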