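import Groth.Statements.S16446
import Mathlib
import Groth.Agent.Lib.Helper4.FEtMin

set_option autoImplicit false
universe u
open Hensel

namespace Groth.Agent.S16446

open Groth.Agent.Lib.Helper4 in
/-- Let A be an excellent henselian reduced local ring, S a strict henselization of A and Q a minimal
prime ideal of S with contraction q to A; let K be the fraction field of S/Q and L the subfield of K
generated over the image of A by a finite subset t of K. Then there is an A-subalgebra E of S, a
local ring and an essentially etale local A-algebra, such that (i) every minimal prime ideal of S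
over the ideal qS is generated by its contraction to E, and (ii) every element of S/Q whose image in
K lies in L is the class of an element of E — so that the intersection of L with S/Q equals its
intersection with the image of E. -/
theorem result
    (A S : Type u) [CommRing A] [HenselianLocalRing A] [IsReduced A] (hA : EGA4.IsExcellent A)
    [CommRing S] [IsLocalRing S] [Algebra A S] [IsLocalHom (algebraMap A S)]
    [Hensel.IsStrictHenselization A S] (Q : Ideal S) (hQ : Q ∈ minimalPrimes S) [Q.IsPrime]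
    (t : Finset (FractionRing (S ⧸ Q))) :
    ∃ E : Subalgebra A S, ∃ _ : IsLocalRing E, EGA4loc.IsEssentiallyEtale A E ∧
      (∀ Q' ∈ ((Q.comap (algebraMap A S)).map (algebraMap A S)).minimalPrimes,
        Q' = Ideal.map (algebraMap E S) (Q'.comap (algebraMap E S))) ∧
      ∀ x : S, algebraMap (S ⧸ Q) (FractionRing (S ⧸ Q)) (Ideal.Quotient.mk Q x) ∈
          Subfield.closure (Set.range (algebraMap A (FractionRing (S ⧸ Q))) ∪
            (t : Set (FractionRing (S ⧸ Q)))) →
        ∃ e ∈ E, Ideal.Quotient.mk Q e = Ideal.Quotient.mk Q x := by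
  classical
  have hnoeth : IsNoetherianRing A := hA.1
  have hSn : IsNoetherianRing S :=
    (Hzs.isNoetherianRing_iff_of_isStrictHenselization A S).mp hnoeth
  have hfin : ((Q.comap (algebraMap A S)).map (algebraMap A S)).minimalPrimes.Finite :=
    Ideal.finite_minimalPrimes_of_isNoetherianRing S _
  have hfg : ∀ Q' : Ideal S, ∃ g : Finset S, Ideal.span (g : Set S) = Q' := fun Q' =>
    (isNoetherianRing_iff_ideal_fg S).mp hSn Q'
  choose gen hgen using hfg
  -- numerators and denominators
  have hfrac : ∀ x : FractionRing (S ⧸ Q), ∃ a b : S, b ∉ Q ∧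
      x * algebraMap (S ⧸ Q) (FractionRing (S ⧸ Q)) (Ideal.Quotient.mk Q b) =
        algebraMap (S ⧸ Q) (FractionRing (S ⧸ Q)) (Ideal.Quotient.mk Q a) := by
    intro x
    obtain ⟨a', b', hb', rfl⟩ := IsFractionRing.div_surjective (A := S ⧸ Q) x
    obtain ⟨a, rfl⟩ := Ideal.Quotient.mk_surjective a'
    obtain ⟨b, rfl⟩ := Ideal.Quotient.mk_surjective b'
    have hb0 : Ideal.Quotient.mk Q b ≠ 0 := nonZeroDivisors.ne_zero hb'
    refine ⟨a, b, fun h => hb0 (Ideal.Quotient.eq_zero_iff_mem.mpr h), ?_⟩
    have : algebraMap (S ⧸ Q) (FractionRing (S ⧸ Q)) (Ideal.Quotient.mk Q b) ≠ 0 := fun h0 =>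
      hb0 ((FaithfulSMul.algebraMap_injective (S ⧸ Q) (FractionRing (S ⧸ Q)))
        (h0.trans (map_zero _).symm))
    field_simp
  choose num den hden hnd using hfrac
  let s : Finset S := (hfin.toFinset.biUnion gen ∪ t.image num) ∪ t.image den
  obtain ⟨E, hsE, hEloc, hES, hE⟩ := Hzs.exists_essEtale_subalgebra A S s
  have hAE : IsLocalHom (algebraMap A E) := Hzs.isLocalHom_of_essEtale hE
  have hSE : Hensel.IsStrictHenselization E S := Hzs.isStrictHenselization_of_essEtale hE
  have hff : Module.FaithfullyFlat E S := Hzs.faithfullyFlat_of_isStrictHenselization E S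
  have hi : ∀ Q' ∈ ((Q.comap (algebraMap A S)).map (algebraMap A S)).minimalPrimes,
      Q' = Ideal.map (algebraMap E S) (Q'.comap (algebraMap E S)) := by
    intro Q' hQ'
    refine le_antisymm ?_ Ideal.map_comap_le
    conv_lhs => rw [← hgen Q']
    rw [Ideal.span_le]
    intro g hg
    have hgs : g ∈ (s : Set S) := by
      simp only [s, Finset.coe_union, Finset.coe_biUnion]
      refine Or.inl (Or.inl ?_)
      simp only [Set.mem_iUnion]
      exact ⟨Q', hfin.mem_toFinset.mpr hQ', hg⟩
    have hgQ' : g ∈ Q' := by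
      rw [← hgen Q']
      exact Ideal.subset_span hg
    have : algebraMap E S ⟨g, hsE hgs⟩ ∈ Ideal.map (algebraMap E S) (Q'.comap (algebraMap E S)) :=
      Ideal.mem_map_of_mem _ (show algebraMap E S ⟨g, hsE hgs⟩ ∈ Q' from hgQ')
    exact this
  refine ⟨E, hEloc, hE, hi, ?_⟩
  -- `Q` is minimal over the extension of its contraction
  have hQmin : Q ∈ ((Q.comap (algebraMap A S)).map (algebraMap A S)).minimalPrimes :=
    ⟨⟨inferInstance, Ideal.map_comap_le⟩, fun q' hq' hle => hQ.2 ⟨hq'.1, bot_le⟩ hle⟩
  have hQE := hi Q hQmin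
  let β : E →+* FractionRing (S ⧸ Q) :=
    (algebraMap (S ⧸ Q) (FractionRing (S ⧸ Q))).comp
      ((Ideal.Quotient.mk Q).comp (algebraMap E S))
  have hβ0 : ∀ e : E, β e = 0 → (e : S) ∈ Q := by
    intro e he
    have : Ideal.Quotient.mk Q (e : S) = 0 :=
      (FaithfulSMul.algebraMap_injective (S ⧸ Q) (FractionRing (S ⧸ Q)))
        (he.trans (map_zero _).symm)
    exact Ideal.Quotient.eq_zero_iff_mem.mp this
  have hL : Subfield.closure (Set.range (algebraMap A (FractionRing (S ⧸ Q))) ∪
      (t : Set (FractionRing (S ⧸ Q)))) ≤ FEtGal.fracField β := by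
    rw [Subfield.closure_le]
    rintro x (⟨a, rfl⟩ | hx)
    · have h1 : algebraMap A (FractionRing (S ⧸ Q)) a = β (algebraMap A E a) := by
        show _ = algebraMap (S ⧸ Q) (FractionRing (S ⧸ Q))
          (Ideal.Quotient.mk Q (algebraMap A S a))
        rw [IsScalarTower.algebraMap_apply A (S ⧸ Q) (FractionRing (S ⧸ Q))]
        rfl
      rw [h1]
      exact FEtGal.map_mem_fracField β _
    · have hx' : x ∈ t := hx
      have h1 : num x ∈ (s : Set S) := by
        simp only [s, Finset.coe_union, Finset.coe_image]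
        exact Or.inl (Or.inr ⟨x, hx', rfl⟩)
      have h2 : den x ∈ (s : Set S) := by
        simp only [s, Finset.coe_union, Finset.coe_image]
        exact Or.inr ⟨x, hx', rfl⟩
      refine ⟨⟨num x, hsE h1⟩, ⟨den x, hsE h2⟩, ?_, hnd x⟩
      intro h0
      exact hden x (hβ0 _ h0)
  intro x hx
  obtain ⟨e₁, e₂, he₂, h12⟩ := hL hx
  have he₂Q : algebraMap E S e₂ ∉ Q := by
    intro hmem
    apply he₂
    show algebraMap (S ⧸ Q) (FractionRing (S ⧸ Q)) (Ideal.Quotient.mk Q (e₂ : S)) = 0
    have hmem' : (e₂ : S) ∈ Q := hmem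
    rw [Ideal.Quotient.eq_zero_iff_mem.mpr hmem', map_zero]
  have h3 : x * algebraMap E S e₂ - algebraMap E S e₁ ∈ Q := by
    rw [← Ideal.Quotient.eq_zero_iff_mem]
    apply FaithfulSMul.algebraMap_injective (S ⧸ Q) (FractionRing (S ⧸ Q))
    rw [map_zero, map_sub, map_mul, map_sub, map_mul]
    exact sub_eq_zero.mpr h12
  obtain ⟨c, hc⟩ := FEtGal.exists_sub_mem_of_faithfullyFlat Q hQE x e₁ e₂ he₂Q h3
  refine ⟨(c : S), c.2, ?_⟩
  rw [← sub_eq_zero, ← map_sub, Ideal.Quotient.eq_zero_iff_mem]
  have : (c : S) - x = -(x - algebraMap E S c) := by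
    show (c : S) - x = -(x - (c : S))
    ring
  rw [this]
  exact Q.neg_mem hc

end Groth.Agent.S16446
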