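import Groth.Statements.S16447
import Mathlib
import Groth.Agent.Lib.Helper4.EssNorm1
import Groth.Agent.Lib.Helper4.EssNorm2

set_option autoImplicit false
universe u
open EGA4loc

namespace Groth.Agent.S16447

set_option synthInstance.maxHeartbeats 400000 in
set_option maxHeartbeats 2000000 in
open Groth.Agent.Lib.Helper4 in
/-- Let A be a Noetherian reduced local ring, E a local ring which is an essentially etale local
A-algebra with local structure map, K_E the total ring of fractions of E, E' the integral closure of
E in K_E (viewed as an A-subalgebra of K_E), and L an A-subalgebra of K_E containing an inverse of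
the image of every non-zero-divisor of A. Let C be the A-subalgebra L ⊓ E' of K_E. Then C is
integrally closed in L, C has only finitely many maximal ideals, the maximal ideals of C are exactly
the contractions of the maximal ideals of E', and every element of L is an element of C times the
inverse of the image of a non-zero-divisor of A. (The published statement assumes only that A is
reduced; its proof uses that the integral closure of E in K_E has finitely many maximal ideals,
which holds when A is Noetherian and can fail otherwise, so A is taken Noetherian here.) -/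
theorem result
    (A E : Type u) [CommRing A] [IsLocalRing A] [IsReduced A] [IsNoetherianRing A]
    [CommRing E] [IsLocalRing E] [Algebra A E] [IsLocalHom (algebraMap A E)]
    (hE : EGA4loc.IsEssentiallyEtale A E) (L : Subalgebra A (FractionRing E))
    (hL : ∀ s ∈ nonZeroDivisors A, ∃ y ∈ L, algebraMap A (FractionRing E) s * y = 1)
    (C : Subalgebra A (FractionRing E))
    (hC : C = L ⊓ (integralClosure E (FractionRing E)).restrictScalars A) :
    (∀ x ∈ L, IsIntegral C x → x ∈ C) ∧
      {N : Ideal C | N.IsMaximal}.Finite ∧
      (∀ N : Ideal C, N.IsMaximal ↔ ∃ M : Ideal ((integralClosure E (FractionRing E)).restrictScalars A),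
          M.IsMaximal ∧ N = M.comap (Subalgebra.inclusion (hC.trans_le inf_le_right))) ∧
      ∀ l ∈ L, ∃ c ∈ C, ∃ s ∈ nonZeroDivisors A, ∃ y ∈ L,
        algebraMap A (FractionRing E) s * y = 1 ∧ l = c * y := by
  classical
  have hmin := minimalPrimes.finite_of_isNoetherianRing A
  subst hC
  -- part 1
  have h1 : ∀ x ∈ L, IsIntegral ↥(L ⊓ (integralClosure E (FractionRing E)).restrictScalars A) x →
      x ∈ L ⊓ (integralClosure E (FractionRing E)).restrictScalars A := by
    intro x hxL hxint
    refine ⟨hxL, ?_⟩
    let j : ↥(L ⊓ (integralClosure E (FractionRing E)).restrictScalars A) →+*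
        integralClosure E (FractionRing E) :=
      ((L ⊓ (integralClosure E (FractionRing E)).restrictScalars A).val :
        ↥(L ⊓ (integralClosure E (FractionRing E)).restrictScalars A) →+* FractionRing E).codRestrict
        (integralClosure E (FractionRing E)) (fun c => c.2.2)
    let _ : Algebra ↥(L ⊓ (integralClosure E (FractionRing E)).restrictScalars A)
        (integralClosure E (FractionRing E)) := j.toAlgebra
    have htow : IsScalarTower ↥(L ⊓ (integralClosure E (FractionRing E)).restrictScalars A)
        (integralClosure E (FractionRing E)) (FractionRing E) :=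
      IsScalarTower.of_algebraMap_eq (fun _ => rfl)
    have h2 : IsIntegral (integralClosure E (FractionRing E)) x := hxint.tower_top
    exact isIntegral_trans x h2
  -- part 3
  have h3 : ∀ N : Ideal ↥(L ⊓ (integralClosure E (FractionRing E)).restrictScalars A),
      N.IsMaximal ↔ ∃ M : Ideal ((integralClosure E (FractionRing E)).restrictScalars A),
          M.IsMaximal ∧ N = M.comap (Subalgebra.inclusion
            ((Eq.refl (L ⊓ (integralClosure E (FractionRing E)).restrictScalars A)).trans_le
              inf_le_right)) := by
    intro N
    constructor
    · intro hN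
      by_contra hcon
      push Not at hcon
      have hfin := EssNorm.finite_maximal_Ecl hE
      have hnle : ∀ M ∈ hfin.toFinset, ¬ N ≤ M.comap (Subalgebra.inclusion
          ((Eq.refl (L ⊓ (integralClosure E (FractionRing E)).restrictScalars A)).trans_le
            inf_le_right)) := by
        intro M hM hle
        have hMmax : M.IsMaximal := hfin.mem_toFinset.mp hM
        have hcm := EssNorm.isMaximal_comap_inclusion hE _
          ((Eq.refl (L ⊓ (integralClosure E (FractionRing E)).restrictScalars A)).trans_le
            inf_le_right) M
        exact hcon M hMmax (hN.eq_of_le hcm.ne_top hle)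
      have hnsub : ¬ ((N : Set ↥(L ⊓ (integralClosure E (FractionRing E)).restrictScalars A)) ⊆
          ⋃ M ∈ (hfin.toFinset : Set (Ideal ((integralClosure E (FractionRing E)).restrictScalars A))),
            ((M.comap (Subalgebra.inclusion
              ((Eq.refl (L ⊓ (integralClosure E (FractionRing E)).restrictScalars A)).trans_le
                inf_le_right)) : Ideal _) : Set _)) := by
        intro hsub
        rw [Ideal.subset_union_prime (R := ↥(L ⊓ (integralClosure E (FractionRing E)).restrictScalars A))
          (f := fun M : Ideal ((integralClosure E (FractionRing E)).restrictScalars A) =>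
            M.comap (Subalgebra.inclusion
              ((Eq.refl (L ⊓ (integralClosure E (FractionRing E)).restrictScalars A)).trans_le
                inf_le_right))) ⊥ ⊥ (fun M hM _ _ => by
            have hMmax : M.IsMaximal := hfin.mem_toFinset.mp hM
            exact Ideal.comap_isPrime _ M)] at hsub
        obtain ⟨M, hM, hle⟩ := hsub
        exact hnle M hM hle
      rw [Set.not_subset] at hnsub
      obtain ⟨c, hcN, hcU⟩ := hnsub
      have hcM : ∀ M : Ideal ((integralClosure E (FractionRing E)).restrictScalars A),
          M.IsMaximal → Subalgebra.inclusion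
            ((Eq.refl (L ⊓ (integralClosure E (FractionRing E)).restrictScalars A)).trans_le
              inf_le_right) c ∉ M := by
        intro M hM hmem
        apply hcU
        simp only [Set.mem_iUnion]
        exact ⟨M, Finset.mem_coe.mpr (hfin.mem_toFinset.mpr hM), hmem⟩
      have hu := EssNorm.isUnit_of_forall_notMem _ hcM
      obtain ⟨d, hd⟩ := isUnit_iff_exists_inv.mp hu
      have hcd : (c : FractionRing E) * (d : FractionRing E) = 1 := congrArg Subtype.val hd
      have hdL : (d : FractionRing E) ∈ L :=
        EssNorm.inv_mem_of_mul_eq_one hmin hE L hL _ _ c.2.1 hcd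
      let d' : ↥(L ⊓ (integralClosure E (FractionRing E)).restrictScalars A) := ⟨d.1, ⟨hdL, d.2⟩⟩
      have hcd' : c * d' = 1 := Subtype.ext hcd
      have hcu : IsUnit c := IsUnit.of_mul_eq_one _ hcd'
      exact hN.ne_top (Ideal.eq_top_of_isUnit_mem N hcN hcu)
    · rintro ⟨M, hM, rfl⟩
      exact EssNorm.isMaximal_comap_inclusion hE _ _ M
  refine ⟨h1, ?_, h3, ?_⟩
  · -- part 2
    have hfin := EssNorm.finite_maximal_Ecl hE
    refine (hfin.image (fun M => M.comap (Subalgebra.inclusion
      ((Eq.refl (L ⊓ (integralClosure E (FractionRing E)).restrictScalars A)).trans_le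
        inf_le_right)))).subset ?_
    intro N hN
    obtain ⟨M, hM, rfl⟩ := (h3 N).mp hN
    exact ⟨M, hM, rfl⟩
  · -- part 4
    intro l hl
    obtain ⟨s, hs, e, hse⟩ := EssNorm.exists_mul_eq_algebraMap hmin hE l
    obtain ⟨y, hyL, hy⟩ := hL s hs
    refine ⟨algebraMap E (FractionRing E) e, ⟨?_, ?_⟩, s, hs, y, hyL, hy, ?_⟩
    · rw [← hse, ← Algebra.smul_def]
      exact L.smul_mem hl s
    · exact isIntegral_algebraMap
    · rw [← hse]
      calc l = l * (algebraMap A (FractionRing E) s * y) := by rw [hy, mul_one]
        _ = _ := by ring

end Groth.Agent.S16447
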