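import Groth.Statements.S16450
import Mathlib
import Groth.Agent.Lib.Helper4.NormSh11
import Groth.Agent.Lib.Helper4.HzsSub3
import Groth.Agent.S16439

set_option autoImplicit false
universe u
open scoped TensorProduct
open EGA4loc

namespace Groth.Agent.S16450

open IsLocalRing in
set_option synthInstance.maxHeartbeats 400000 in
set_option maxHeartbeats 2000000 in
open Groth.Agent.Lib.Helper4 in
/-- Let A be an excellent reduced local ring with maximal ideal m and residue field k, S a strict
henselization of A with total ring of fractions K, and D an A-subalgebra of S which is a local ring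
dominated by S (local inclusion) and whose total ring of fractions is finitely generated over that
of A. Inside K, let A' and D' be the normalizations of A and of D: the elements of K integral over A
(resp. over D) which are carried into A (resp. into D) by the image of some non-zero-divisor of A;
so A' ⊆ D', and let ι : D → D' be the inclusion. Then D is an essentially etale local A-algebra if
and only if D' has finitely many maximal ideals and the canonical map A' ⊗_A D → D'/Rad(D') is
surjective with kernel the ideal generated by Rad(A') ⊗ D and A' ⊗ m_D — in other words the residual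
field products satisfy (A'/Rad A') ⊗_k (D/m_D) ≅ D'/Rad(D') via the canonical maps. -/
theorem result
    (A S : Type u) [CommRing A] [IsLocalRing A] [IsReduced A] (hA : EGA4.IsExcellent A)
    [CommRing S] [IsLocalRing S] [Algebra A S] [IsLocalHom (algebraMap A S)]
    [Hensel.IsStrictHenselization A S] (D : Subalgebra A S) [IsLocalRing D]
    [IsLocalHom (algebraMap D S)]
    (hfg : ∃ t : Finset (FractionRing D), ∀ x : FractionRing D, ∃ a ∈ nonZeroDivisors A,
      algebraMap A (FractionRing D) a * x ∈ Algebra.adjoin A (t : Set (FractionRing D)))
    (A' D' : Subalgebra A (FractionRing S))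
    (hA' : ∀ x : (FractionRing S), x ∈ A' ↔ (IsIntegral A x ∧
      ∃ a ∈ nonZeroDivisors A, ∃ b : A, algebraMap A (FractionRing S) a * x = algebraMap A (FractionRing S) b))
    (hD' : ∀ x : (FractionRing S), x ∈ D' ↔ (IsIntegral D x ∧
      ∃ a ∈ nonZeroDivisors A, ∃ d ∈ D, algebraMap A (FractionRing S) a * x = algebraMap S (FractionRing S) d))
    (hle : A' ≤ D') (ι : D →ₐ[A] D') (hι : ∀ d : D, (ι d : (FractionRing S)) = algebraMap S (FractionRing S) d) :
    EGA4loc.IsEssentiallyEtale A D ↔
      ({N : Ideal D' | N.IsMaximal}.Finite ∧
        Function.Surjective ((Ideal.Quotient.mkₐ A (Ideal.jacobson (⊥ : Ideal D'))).comp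
          (Algebra.TensorProduct.productMap (Subalgebra.inclusion hle) ι)) ∧
        RingHom.ker ((Ideal.Quotient.mkₐ A (Ideal.jacobson (⊥ : Ideal D'))).comp
          (Algebra.TensorProduct.productMap (Subalgebra.inclusion hle) ι)) =
          (Ideal.jacobson (⊥ : Ideal A')).map
              (Algebra.TensorProduct.includeLeft : A' →ₐ[A] A' ⊗[A] D) ⊔
            (maximalIdeal D).map
              (Algebra.TensorProduct.includeRight : D →ₐ[A] A' ⊗[A] D)) := by
  classical
  have hAn : IsNoetherianRing A := hA.1
  constructor
  · intro hE
    have hlocA : IsLocalHom (algebraMap A D) := NormSh.isLocalHom_algebraMap_sub A S D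
    have hDS : Hensel.IsStrictHenselization D S := Hzs.isStrictHenselization_of_essEtale hE
    exact NormSh.cond_of_isStrictHenselization A S A' hA' D D' hD' hle ι hι
  · rintro ⟨-, hsurj, -⟩
    have hDS : Hensel.IsStrictHenselization D S :=
      NormSh.isStrictHenselization_of_surjective A S D A' hA' D' hD' hle ι hι hsurj
    have hnoethS : IsNoetherianRing S :=
      (Hzs.isNoetherianRing_iff_of_isStrictHenselization A S).mp hAn
    have hnoethD : IsNoetherianRing D :=
      (Hzs.isNoetherianRing_iff_of_isStrictHenselization D S).mpr hnoethS
    have hm : Ideal.map (algebraMap A D) (maximalIdeal A) = maximalIdeal D := by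
      have hffD : Module.FaithfullyFlat D S := Hzs.faithfullyFlat_of_isStrictHenselization D S
      rw [← Ideal.comap_map_eq_self_of_faithfullyFlat (B := S)
        ((maximalIdeal A).map (algebraMap A D)), Ideal.map_map, ← IsScalarTower.algebraMap_eq,
        Hzs.map_maximalIdeal_of_isStrictHenselization A S,
        ← Hzs.map_maximalIdeal_of_isStrictHenselization D S,
        Ideal.comap_map_eq_self_of_faithfullyFlat]
    exact Groth.Agent.S16439.result A S hA D hfg hm

end Groth.Agent.S16450
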