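import Groth.Statements.S16452
import Groth.Agent.Lib.Helper21.AssocGrLib
-- import your own Groth.Agent.* helpers here

set_option autoImplicit false
universe u
open CAlg

namespace Groth.Agent.S16452

open Function in
theorem key (R : Type u) [CommRing R] (S : Type u) [CommRing S] [Algebra R S]
    [Algebra.FormallyEtale R S] (J : Ideal S)
    (hJ : Function.Surjective (algebraMap R (S ⧸ J))) (n : ℕ) :
    (∀ a : R, algebraMap R S a ∈ J ^ (n + 1) → a ∈ (J.comap (algebraMap R S)) ^ (n + 1)) ∧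
      (∀ s : S, ∃ r : R, s - algebraMap R S r ∈ J ^ (n + 1)) := by
  set I : Ideal R := J.comap (algebraMap R S) with hIdef
  have hmkJ : ∀ a : R, algebraMap R (S ⧸ J) a = Ideal.Quotient.mk J (algebraMap R S a) := fun a => rfl
  have hIJ : ∀ a : R, a ∈ I ↔ algebraMap R (S ⧸ J) a = 0 := by
    intro a
    rw [hmkJ, Ideal.Quotient.eq_zero_iff_mem]
    rfl
  have hI : ∀ a ∈ I ^ (n + 1), (Algebra.ofId R (S ⧸ J)) a = 0 := by
    intro a ha
    exact (hIJ a).mp (Ideal.pow_le_self (Nat.succ_ne_zero n) ha)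
  let g : (R ⧸ I ^ (n + 1)) →ₐ[R] S ⧸ J := Ideal.Quotient.liftₐ (I ^ (n + 1)) (Algebra.ofId R (S ⧸ J)) hI
  have hgmk : ∀ a : R, g (Ideal.Quotient.mk _ a) = algebraMap R (S ⧸ J) a := fun a => rfl
  have hg : Function.Surjective g := by
    intro y
    obtain ⟨a, rfl⟩ := hJ y
    exact ⟨Ideal.Quotient.mk _ a, hgmk a⟩
  have hKbot : (I.map (Ideal.Quotient.mk (I ^ (n + 1)))) ^ (n + 1) = ⊥ := by
    rw [← Ideal.map_pow, Ideal.map_quotient_self]
  have hkerle : RingHom.ker (g : (R ⧸ I ^ (n + 1)) →+* S ⧸ J) ≤ I.map (Ideal.Quotient.mk (I ^ (n + 1))) := by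
    intro x hx
    obtain ⟨a, rfl⟩ := Ideal.Quotient.mk_surjective x
    rw [RingHom.mem_ker] at hx
    change g (Ideal.Quotient.mk _ a) = 0 at hx
    rw [hgmk, ← hIJ] at hx
    exact Ideal.mem_map_of_mem _ hx
  have hker : IsNilpotent (RingHom.ker (g : (R ⧸ I ^ (n + 1)) →+* S ⧸ J)) := by
    refine ⟨n + 1, ?_⟩
    rw [Ideal.zero_eq_bot, ← le_bot_iff, ← hKbot]
    exact Ideal.pow_right_mono hkerle (n + 1)
  let σ : S →ₐ[R] (R ⧸ I ^ (n + 1)) :=
    Algebra.FormallySmooth.liftOfSurjective (Ideal.Quotient.mkₐ R J) g hg hker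
  have hσ : ∀ s : S, g (σ s) = Ideal.Quotient.mk J s := fun s =>
    Algebra.FormallySmooth.liftOfSurjective_apply (Ideal.Quotient.mkₐ R J) g hg hker s
  have hσJ : J.map (σ : S →+* (R ⧸ I ^ (n + 1))) ≤ I.map (Ideal.Quotient.mk (I ^ (n + 1))) := by
    rw [Ideal.map_le_iff_le_comap]
    intro s hs
    rw [Ideal.mem_comap]
    apply hkerle
    rw [RingHom.mem_ker]
    change g (σ s) = 0
    rw [hσ, Ideal.Quotient.eq_zero_iff_mem]
    exact hs
  have hσJn : ∀ s ∈ J ^ (n + 1), σ s = 0 := by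
    intro s hs
    have h1 : (σ : S →+* (R ⧸ I ^ (n + 1))) s ∈ (J ^ (n + 1)).map (σ : S →+* (R ⧸ I ^ (n + 1))) :=
      Ideal.mem_map_of_mem _ hs
    rw [Ideal.map_pow] at h1
    have h2 := Ideal.pow_right_mono hσJ (n + 1) h1
    rw [hKbot] at h2
    exact h2
  refine ⟨fun a ha => ?_, fun s => ?_⟩
  · have h1 := hσJn _ ha
    rw [σ.commutes] at h1
    change Ideal.Quotient.mk (I ^ (n + 1)) a = 0 at h1
    rwa [Ideal.Quotient.eq_zero_iff_mem] at h1
  · have hI' : ∀ a ∈ I ^ (n + 1), (Algebra.ofId R (S ⧸ J ^ (n + 1))) a = 0 := by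
      intro a ha
      change Ideal.Quotient.mk (J ^ (n + 1)) (algebraMap R S a) = 0
      rw [Ideal.Quotient.eq_zero_iff_mem]
      exact (AssocGr.IsFiltHom.adic (Ideal.map_comap_le : (J.comap (algebraMap R S)).map
        (algebraMap R S) ≤ J)) (n + 1) ha
    let l : (R ⧸ I ^ (n + 1)) →ₐ[R] S ⧸ J ^ (n + 1) :=
      Ideal.Quotient.liftₐ (I ^ (n + 1)) (Algebra.ofId R (S ⧸ J ^ (n + 1))) hI'
    have hl : ∀ a : R, l (Ideal.Quotient.mk _ a) = Ideal.Quotient.mk (J ^ (n + 1)) (algebraMap R S a) :=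
      fun a => rfl
    have hNil : IsNilpotent (J.map (Ideal.Quotient.mk (J ^ (n + 1)))) := by
      refine ⟨n + 1, ?_⟩
      rw [← Ideal.map_pow, Ideal.map_quotient_self, Ideal.zero_eq_bot]
    have heq : l.comp σ = Ideal.Quotient.mkₐ R (J ^ (n + 1)) := by
      refine Algebra.FormallyUnramified.ext _ hNil fun x => ?_
      obtain ⟨r, hr⟩ := Ideal.Quotient.mk_surjective (σ x)
      rw [AlgHom.comp_apply, ← hr, hl, Ideal.Quotient.mkₐ_eq_mk, Ideal.Quotient.eq, ← map_sub]
      refine Ideal.mem_map_of_mem _ ?_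
      have h1 := hσ x
      rw [← hr, hgmk, hmkJ, Ideal.Quotient.eq] at h1
      exact h1
    obtain ⟨r, hr⟩ := Ideal.Quotient.mk_surjective (σ s)
    refine ⟨r, ?_⟩
    have h1 := AlgHom.congr_fun heq s
    rw [AlgHom.comp_apply, ← hr, hl, Ideal.Quotient.mkₐ_eq_mk, eq_comm, Ideal.Quotient.eq] at h1
    exact h1

/-- Let R → S be formally étale and J an ideal of S such that the composite R → S → S/J is surjective;
let I ⊆ R be its kernel, the preimage of J in R. Then the homomorphism of associated graded rings ⊕ₙ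
Iⁿ/Iⁿ⁺¹ → ⊕ₙ Jⁿ/Jⁿ⁺¹ induced by R → S (which carries I into J) is bijective. -/
theorem result (R : Type u) [CommRing R] (S : Type u)
    [CommRing S] [Algebra R S] [Algebra.FormallyEtale R S] (J : Ideal S)
    (hJ : Function.Surjective (algebraMap R (S ⧸ J))) :
    Function.Bijective (AssocGr.map (AssocGr.IsFiltHom.adic
      (Ideal.map_comap_le : (J.comap (algebraMap R S)).map (algebraMap R S) ≤ J))) := by
  refine Groth.Agent.Lib.Helper21.AG.map_bijective_of _ ?_ ?_
  · intro n a _ h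
    exact (key R S J hJ n).1 a h
  · intro n b hb
    obtain ⟨r, hr⟩ := (key R S J hJ n).2 b
    refine ⟨r, ?_, hr⟩
    cases n with
    | zero =>
      change r ∈ (J.comap (algebraMap R S)) ^ 0
      rw [pow_zero, Ideal.one_eq_top]
      trivial
    | succ n =>
      refine (key R S J hJ n).1 r ?_
      have : algebraMap R S r = b - (b - algebraMap R S r) := by ring
      rw [this]
      exact Ideal.sub_mem _ hb (Ideal.pow_le_pow_right (Nat.le_succ _) hr)

end Groth.Agent.S16452
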