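import Groth.Statements.S16453
import Groth.Agent.Lib.Helper21.AssocGrLib
-- import your own Groth.Agent.* helpers here

set_option autoImplicit false
universe u
open AdicGr

namespace Groth.Agent.S16453

/-- Let A be a commutative ring, I an ideal and Â the I-adic completion, filtered by the kernels Âₙ of
the projections Â → A/Iⁿ. Then the homomorphism of associated graded rings ⊕ₙ Iⁿ/Iⁿ⁺¹ → ⊕ₙ Âₙ/Âₙ₊₁
induced by the canonical map A → Â is bijective. No hypothesis on A or I is needed. (The published
statement is for an arbitrary filtered ring and also asserts the analogous isomorphism for a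
compatibly filtered module; this row is the ring assertion for the filtration by the powers of one
ideal.) -/
theorem result (A : Type u) [CommRing A] (I : Ideal A) :
    Function.Bijective (AssocGr.map (AssocGr.isFiltHom_kerFilt I)) := by
  have hval : ∀ (a : A) (k : ℕ), (algebraMap A (AdicCompletion I A) a).val k
      = Submodule.Quotient.mk a := fun a k => rfl
  refine Groth.Agent.Lib.Helper21.AG.map_bijective_of _ ?_ ?_
  · intro n a _ h
    rw [AssocGr.mem_kerFilt_iff_val, hval, Submodule.Quotient.mk_eq_zero] at h
    change a ∈ (I ^ (n + 1) • ⊤ : Ideal A) at h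
    rw [AssocGr.pow_smul_top] at h
    exact h
  · intro n x hx
    rw [AssocGr.mem_kerFilt_iff_val] at hx
    obtain ⟨a, ha⟩ := Submodule.Quotient.mk_surjective _ (x.val (n + 1))
    have ha' : a ∈ I ^ n := by
      have h1 := AdicCompletion.transitionMap_comp_eval_apply I A (Nat.le_succ n) x
      rw [← ha, hx] at h1
      change Ideal.Quotient.mk (I ^ n • ⊤ : Ideal A) a = 0 at h1
      rwa [Ideal.Quotient.eq_zero_iff_mem, AssocGr.pow_smul_top] at h1
    refine ⟨a, ha', ?_⟩
    rw [AssocGr.mem_kerFilt_iff_val]
    change x.val (n + 1) - (algebraMap A (AdicCompletion I A) a).val (n + 1) = 0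
    rw [hval, ha, sub_self]

end Groth.Agent.S16453
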