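import Groth.Statements.S16454
import Groth.Agent.Lib.Helper21.AssocGrLib4
import Groth.Agent.Lib.Helper9.FlatCrit
-- import your own Groth.Agent.* helpers here

set_option autoImplicit false
universe u
open TensorProduct
open EGA43

namespace Groth.Agent.S16454

open AssocGr Groth.Agent.Lib.Helper21.AG TensorProduct

section
variable (A : Type u) [CommRing A] (I : Ideal A) (M : Type u) [AddCommGroup M] [Module A M]

/-- `Kₙ = Iⁿ`, in the spelling of the prelude's adic filtration -/
noncomputable abbrev K (n : ℕ) : Ideal A := (FiltBl.IdealFiltration.adic I).F n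

theorem K_succ_le (n : ℕ) : K A I (n + 1) ≤ K A I n :=
  (FiltBl.IdealFiltration.adic I).antitone (Nat.le_succ n)

/-- `Kₙ ⊗ M → A ⊗ M` -/
noncomputable abbrev al (n : ℕ) : (K A I n) ⊗[A] M →ₗ[A] A ⊗[A] M :=
  (K A I n).subtype.rTensor M

/-- `Kₙ₊₁ ⊗ M → Kₙ ⊗ M` -/
noncomputable abbrev io (n : ℕ) : (K A I (n + 1)) ⊗[A] M →ₗ[A] (K A I n) ⊗[A] M :=
  (Submodule.inclusion (K_succ_le A I n)).rTensor M

theorem al_comp_io (n : ℕ) : (al A I M n).comp (io A I M n) = al A I M (n + 1) := by
  rw [← LinearMap.rTensor_comp]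
  rfl

/-- `Kₙ ⊗ M → grₙ ⊗ M/IM` -/
noncomputable abbrev be (n : ℕ) :
    (K A I n) ⊗[A] M →ₗ[A] ↥(gr (FiltBl.IdealFiltration.adic I) n) ⊗[A] (M ⧸ (I • (⊤ : Submodule A M))) :=
  TensorProduct.map (inDeg (FiltBl.IdealFiltration.adic I) n) (I • (⊤ : Submodule A M)).mkQ

theorem exact_incl_inDeg (n : ℕ) :
    Function.Exact (Submodule.inclusion (K_succ_le A I n)) (inDeg (FiltBl.IdealFiltration.adic I) n) := by
  intro a
  rw [inDeg_eq_zero_iff]
  constructor
  · intro h
    exact ⟨⟨a, h⟩, rfl⟩
  · rintro ⟨b, rfl⟩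
    exact b.2

theorem ker_be_le (n : ℕ) : LinearMap.ker (be A I M n) ≤ LinearMap.range (io A I M n) := by
  rw [TensorProduct.map_ker (exact_incl_inDeg A I n) (inDeg_surjective _ n)
    (LinearMap.exact_subtype_mkQ (I • (⊤ : Submodule A M))) (Submodule.mkQ_surjective _)]
  refine sup_le ?_ le_rfl
  rintro _ ⟨w, rfl⟩
  induction w using TensorProduct.induction_on with
  | zero => rw [map_zero]; exact Submodule.zero_mem _
  | add w₁ w₂ h₁ h₂ => rw [map_add]; exact Submodule.add_mem _ h₁ h₂
  | tmul a y =>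
    rw [LinearMap.lTensor_tmul, Submodule.subtype_apply]
    obtain ⟨y, hy⟩ := y
    change a ⊗ₜ[A] y ∈ _
    refine Submodule.smul_induction_on (p := fun y => a ⊗ₜ[A] y ∈ LinearMap.range (io A I M n)) hy
      ?_ ?_
    · intro b hb m _
      have hba : b * (a : A) ∈ K A I (n + 1) := by
        have h1 : b ∈ K A I 1 := by
          change b ∈ I ^ 1
          rwa [pow_one]
        have := (FiltBl.IdealFiltration.adic I).mul_le 1 n (Ideal.mul_mem_mul h1 a.2)
        rwa [add_comm] at this
      refine ⟨(⟨b * (a : A), hba⟩ : K A I (n + 1)) ⊗ₜ[A] m, ?_⟩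
      rw [LinearMap.rTensor_tmul, TensorProduct.tmul_smul, TensorProduct.smul_tmul']
      congr 1
    · intro m₁ m₂ h₁ h₂
      change a ⊗ₜ[A] (m₁ + m₂) ∈ _
      rw [TensorProduct.tmul_add]
      exact Submodule.add_mem _ h₁ h₂

theorem N0_eq_top : (Rees.powFilt I M).N 0 = ⊤ := by
  change I ^ 0 • (⊤ : Submodule A M) = ⊤
  rw [pow_zero, Ideal.one_eq_top, Submodule.top_smul]

theorem be_eq_zero_of_hinj
    (hinj : ∀ (n k : ℕ) (a : Fin k → ↥((FiltBl.IdealFiltration.adic I).F n))
      (x : Fin k → ↥((Rees.powFilt I M).N 0)),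
      (∑ i, (AssocGr.inDeg (FiltBl.IdealFiltration.adic I) n (a i) :
          AssocGr.GrRing (FiltBl.IdealFiltration.adic I)) •
        (AssocGr.inDegM (Rees.powFilt I M) 0 (x i) : AssocGr.GrMod (Rees.powFilt I M))) = 0 →
      (∑ i, (AssocGr.inDeg (FiltBl.IdealFiltration.adic I) n (a i)) ⊗ₜ[A]
          (Submodule.Quotient.mk (x i : M)) :
        ↥(AssocGr.gr (FiltBl.IdealFiltration.adic I) n) ⊗[A] (M ⧸ (I • (⊤ : Submodule A M)))) = 0)
    (n : ℕ) (z : (K A I n) ⊗[A] M) (hz : al A I M n z = 0) : be A I M n z = 0 := by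
  classical
  obtain ⟨S, rfl⟩ := TensorProduct.exists_finset z
  -- reindex by `Fin k`
  let e : Fin S.card ≃ ↥S := S.equivFin.symm
  have hre : ∀ {β : Type u} [AddCommMonoid β] (f : (K A I n) × M → β),
      ∑ i ∈ S, f i = ∑ j : Fin S.card, f (e j).1 := by
    intro β _ f
    rw [← Finset.sum_coe_sort S f]
    exact (Equiv.sum_comp e (fun i : ↥S => f i.1)).symm
  let a : Fin S.card → ↥((FiltBl.IdealFiltration.adic I).F n) := fun j => (e j).1.1
  let x : Fin S.card → ↥((Rees.powFilt I M).N 0) := fun j =>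
    ⟨(e j).1.2, by rw [N0_eq_top]; trivial⟩
  have h0 : ∑ j : Fin S.card, ((a j : ↥((FiltBl.IdealFiltration.adic I).F n)) : A) • ((x j : ↥((Rees.powFilt I M).N 0)) : M) = 0 := by
    have h1 := congrArg (TensorProduct.lid A M) hz
    rw [map_zero, map_sum, map_sum] at h1
    rw [← h1, hre (fun i => (TensorProduct.lid A M) ((al A I M n) (i.1 ⊗ₜ[A] i.2)))]
    refine Finset.sum_congr rfl fun j _ => ?_
    rw [LinearMap.rTensor_tmul, TensorProduct.lid_tmul]
    rfl
  have h2 : (∑ i, (AssocGr.inDeg (FiltBl.IdealFiltration.adic I) n (a i) :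
          AssocGr.GrRing (FiltBl.IdealFiltration.adic I)) •
        (AssocGr.inDegM (Rees.powFilt I M) 0 (x i) : AssocGr.GrMod (Rees.powFilt I M))) = 0 := by
    have h3 : ∀ i, (AssocGr.inDeg (FiltBl.IdealFiltration.adic I) n (a i) :
          AssocGr.GrRing (FiltBl.IdealFiltration.adic I)) •
        (AssocGr.inDegM (Rees.powFilt I M) 0 (x i) : AssocGr.GrMod (Rees.powFilt I M)) =
        inDegML (Rees.powFilt I M) (n + 0) ⟨((a i : ↥((FiltBl.IdealFiltration.adic I).F n)) : A) •
          ((x i : ↥((Rees.powFilt I M).N 0)) : M), (Rees.powFilt I M).pow_smul_le n 0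
        (Submodule.smul_mem_smul (show ((a i : ↥((FiltBl.IdealFiltration.adic I).F n)) : A) ∈ I ^ n from (a i).2) (x i).2)⟩ :=
      fun i => inDeg_smul_inDegM (Rees.powFilt I M) n 0 (a i) (x i)
    simp only [h3]
    rw [← map_sum]
    convert map_zero (inDegML (Rees.powFilt I M) (n + 0))
    apply Subtype.ext
    rw [Submodule.coe_sum]
    exact h0
  have h4 := hinj n S.card a x h2
  rw [map_sum, hre (fun i => (be A I M n) (i.1 ⊗ₜ[A] i.2))]
  rw [← h4]
  refine Finset.sum_congr rfl fun j _ => ?_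
  rw [TensorProduct.map_tmul]
  rfl

theorem al_injective_step
    (hbe : ∀ (n : ℕ) (z : (K A I n) ⊗[A] M), al A I M n z = 0 → be A I M n z = 0)
    (n : ℕ) (h : Function.Injective (al A I M (n + 1))) : Function.Injective (al A I M n) := by
  rw [injective_iff_map_eq_zero]
  intro z hz
  obtain ⟨z', rfl⟩ := ker_be_le A I M n (LinearMap.mem_ker.mpr (hbe n z hz))
  rw [← LinearMap.comp_apply, al_comp_io] at hz
  rw [(injective_iff_map_eq_zero _).mp h z' hz, map_zero]

theorem al_injective (hI : IsNilpotent I)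
    (hbe : ∀ (n : ℕ) (z : (K A I n) ⊗[A] M), al A I M n z = 0 → be A I M n z = 0) (n : ℕ) :
    Function.Injective (al A I M n) := by
  obtain ⟨N, hN⟩ := hI
  have key : ∀ k n, N ≤ n + k → Function.Injective (al A I M n) := by
    intro k
    induction k with
    | zero =>
      intro n hn
      have hbot : K A I n = ⊥ := by
        rw [← le_bot_iff, ← Ideal.zero_eq_bot, ← hN]
        exact Ideal.pow_le_pow_right (by omega)
      have : Subsingleton ((K A I n) ⊗[A] M) := by
        have : Subsingleton ↥(K A I n) := by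
          rw [hbot]
          infer_instance
        infer_instance
      exact Function.injective_of_subsingleton _
    | succ k ih =>
      intro n hn
      exact al_injective_step A I M hbe n (ih (n + 1) (by omega))
  exact key N n (by omega)

end

/-- Let A be a commutative ring, I a nilpotent ideal of A and M an A-module, and form the associated
graded ring G = ⊕ₙ Iⁿ/Iⁿ⁺¹ and the associated graded G-module gr_I(M) = ⊕ₙ IⁿM/Iⁿ⁺¹M. Assume that
M/IM is flat over A/I and that the canonical homomorphism (M/IM) ⊗ G → gr_I(M), [x] ⊗ [a] ↦ [a·x],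
is injective: degree by degree, whenever elements a_i ∈ Iⁿ and x_i ∈ M satisfy Σ_i [a_i]·[x_i] = 0
in gr_I(M) (that is Σ a_i x_i ∈ Iⁿ⁺¹M), the element Σ_i [a_i] ⊗ [x_i] of (Iⁿ/Iⁿ⁺¹) ⊗ (M/IM) is zero.
Then M is a flat A-module. (The published lemma is stated for any finite decreasing multiplicative
filtration A = J₀ ⊇ J₁ ⊇ … ⊇ J_N₊₁ = 0 of A with M filtered by the submodules JₙM; this row is its
case Jₙ = Iⁿ.) -/
theorem result (A : Type u) [CommRing A] (I : Ideal A)
    (hI : IsNilpotent I) (M : Type u) [AddCommGroup M] [Module A M]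
    (hflat : Module.Flat (A ⧸ I) (M ⧸ (I • (⊤ : Submodule A M))))
    (hinj : ∀ (n k : ℕ) (a : Fin k → ↥((FiltBl.IdealFiltration.adic I).F n))
      (x : Fin k → ↥((Rees.powFilt I M).N 0)),
      (∑ i, (AssocGr.inDeg (FiltBl.IdealFiltration.adic I) n (a i) :
          AssocGr.GrRing (FiltBl.IdealFiltration.adic I)) •
        (AssocGr.inDegM (Rees.powFilt I M) 0 (x i) : AssocGr.GrMod (Rees.powFilt I M))) = 0 →
      (∑ i, (AssocGr.inDeg (FiltBl.IdealFiltration.adic I) n (a i)) ⊗ₜ[A]
          (Submodule.Quotient.mk (x i : M)) :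
        ↥(AssocGr.gr (FiltBl.IdealFiltration.adic I) n) ⊗[A] (M ⧸ (I • (⊤ : Submodule A M)))) = 0) :
    Module.Flat A M := by
  have hbe := be_eq_zero_of_hinj A I M hinj
  have h1 := al_injective A I M hI hbe 1
  have hIK : I ≤ K A I 1 := by
    intro a ha
    change a ∈ I ^ 1
    rwa [pow_one]
  have hsub : I.subtype.rTensor M = (al A I M 1).comp ((Submodule.inclusion hIK).rTensor M) := by
    rw [← LinearMap.rTensor_comp]
    rfl
  have hKI : K A I 1 ≤ I := by
    intro a ha
    change a ∈ I ^ 1 at ha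
    rwa [pow_one] at ha
  have hinc : Function.Injective ((Submodule.inclusion hIK).rTensor M) := by
    have hl : ((Submodule.inclusion hKI).rTensor M).comp ((Submodule.inclusion hIK).rTensor M)
        = LinearMap.id := by
      rw [← LinearMap.rTensor_comp]
      have : (Submodule.inclusion hKI).comp (Submodule.inclusion hIK) = LinearMap.id := by
        ext; rfl
      rw [this, LinearMap.rTensor_id]
    exact Function.LeftInverse.injective (g := (Submodule.inclusion hKI).rTensor M)
      (fun z => by rw [← LinearMap.comp_apply, hl, LinearMap.id_apply])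
  have hinjI : Function.Injective (I.subtype.rTensor M) := by
    rw [hsub, LinearMap.coe_comp]
    exact h1.comp hinc
  have : Module.Flat (A ⧸ I) ((A ⧸ I) ⊗[A] M) :=
    Module.Flat.of_linearEquiv
      ((TensorProduct.quotTensorEquivQuotSMul M I).extendScalarsOfSurjective
        Ideal.Quotient.mk_surjective)
  exact Groth.Agent.Lib.Helper9.flat_of_isNilpotent_of_rTensor_injective I hI hinjI

end Groth.Agent.S16454
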