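import Groth.Statements.S16456
import Groth.Agent.Lib.Helper21.AssocGrLib
-- import your own Groth.Agent.* helpers here

set_option autoImplicit false
universe u
open AdicGr

namespace Groth.Agent.S16456

/-- Let φ : A → B be a ring homomorphism, I ⊆ A and J ⊆ B ideals with φ(I)B ⊆ J, so that φ is a
homomorphism of filtered rings for the I-adic and J-adic filtrations. Assume that A is I-adically
complete in the sense that every I-adically Cauchy sequence has a limit, that B is J-adically
separated, and that the induced homomorphism of associated graded rings ⊕ₙ Iⁿ/Iⁿ⁺¹ → ⊕ₙ Jⁿ/Jⁿ⁺¹ is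
surjective. Then φ is surjective, φ is strict (Jⁿ = φ(Iⁿ)B for all n, that is J = φ(I)B), and B is
J-adically separated and complete. (The published statement is for a homomorphism of filtered
modules over a filtered ring, with arbitrary compatible filtrations; this row is its case of a ring
homomorphism with adic filtrations.) -/
theorem result (A : Type u) [CommRing A] (B : Type u)
    [CommRing B] (φ : A →+* B) (I : Ideal A) (J : Ideal B) (hIJ : I.map φ ≤ J)
    [IsPrecomplete I A] [IsHausdorff J B]
    (h : Function.Surjective (AssocGr.map (AssocGr.IsFiltHom.adic hIJ))) :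
    Function.Surjective φ ∧ I.map φ = J ∧ IsAdicComplete J B := by
  have hF : AssocGr.IsFiltHom φ (FiltBl.IdealFiltration.adic I) (FiltBl.IdealFiltration.adic J) :=
    AssocGr.IsFiltHom.adic hIJ
  have hpow : ∀ n (a : A), a ∈ I ^ n → φ a ∈ J ^ n := fun n a ha => hF n ha
  -- one step of approximation
  have step : ∀ n (b : B), b ∈ J ^ n → ∃ a ∈ I ^ n, b - φ a ∈ J ^ (n + 1) := fun n b hb =>
    Groth.Agent.Lib.Helper21.AG.exists_of_map_surjective hF h n b hb
  -- exact lifting
  have lift : ∀ n (b : B), b ∈ J ^ n → ∃ a ∈ I ^ n, φ a = b := by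
    intro n b hb
    have stp : ∀ k (s : {s : A // s ∈ I ^ n ∧ b - φ s ∈ J ^ (n + k)}),
        ∃ s' : {s : A // s ∈ I ^ n ∧ b - φ s ∈ J ^ (n + (k + 1))}, s'.1 - s.1 ∈ I ^ (n + k) := by
      intro k s
      obtain ⟨a, ha, hab⟩ := step (n + k) (b - φ s.1) s.2.2
      refine ⟨⟨s.1 + a, Ideal.add_mem _ s.2.1 (Ideal.pow_le_pow_right (Nat.le_add_right n k) ha),
        ?_⟩, ?_⟩
      · rw [map_add, ← sub_sub]
        exact hab
      · change s.1 + a - s.1 ∈ _
        rw [add_sub_cancel_left]
        exact ha
    choose nxt hnxt using stp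
    let S : (k : ℕ) → {s : A // s ∈ I ^ n ∧ b - φ s ∈ J ^ (n + k)} := fun k =>
      Nat.rec ⟨0, Ideal.zero_mem _, by simpa using hb⟩ (fun k s => nxt k s) k
    have hS : ∀ k, (S (k + 1)).1 - (S k).1 ∈ I ^ (n + k) := fun k => hnxt k (S k)
    obtain ⟨L, hL⟩ := Groth.Agent.Lib.Helper21.AG.exists_limit I (fun k => (S k).1)
      (fun k => Ideal.pow_le_pow_right (Nat.le_add_left k n) (hS k))
    have hLn : L ∈ I ^ n := by
      have h1 := hL n
      have h2 := (S n).2.1
      have : L = (S n).1 - ((S n).1 - L) := by ring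
      rw [this]
      exact Ideal.sub_mem _ h2 h1
    refine ⟨L, hLn, ?_⟩
    symm
    rw [← sub_eq_zero]
    refine IsHausdorff.haus' (I := J) _ fun j => ?_
    rw [SModEq.sub_mem, sub_zero, smul_eq_mul, Ideal.mul_top]
    have h1 : b - φ (S j).1 ∈ J ^ j := Ideal.pow_le_pow_right (Nat.le_add_left j n) (S j).2.2
    have h2 : φ ((S j).1 - L) ∈ J ^ j := hpow j _ (hL j)
    have : b - φ L = (b - φ (S j).1) + φ ((S j).1 - L) := by rw [map_sub]; ring
    rw [this]
    exact Ideal.add_mem _ h1 h2
  have hsurj : Function.Surjective φ := by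
    intro b
    obtain ⟨a, _, ha⟩ := lift 0 b (by simp)
    exact ⟨a, ha⟩
  refine ⟨hsurj, le_antisymm hIJ ?_, ?_⟩
  · intro b hb
    obtain ⟨a, ha, rfl⟩ := lift 1 b (by simpa using hb)
    exact Ideal.mem_map_of_mem φ (by simpa using ha)
  · have hprec : IsPrecomplete J B := by
      refine ⟨fun g hg => ?_⟩
      have hg' : ∀ k, g (k + 1) - g k ∈ J ^ k := by
        intro k
        have := hg (Nat.le_succ k)
        rw [SModEq.sub_mem, smul_eq_mul, Ideal.mul_top] at this
        rw [← neg_sub]
        exact neg_mem this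
      choose dlt hdlt hdlt' using fun k => lift k (g (k + 1) - g k) (hg' k)
      obtain ⟨a0, ha0⟩ := hsurj (g 0)
      let f : ℕ → A := fun k => a0 + ∑ j ∈ Finset.range k, dlt j
      have hf : ∀ k, φ (f k) = g k := by
        intro k
        induction k with
        | zero => simp [f, ha0]
        | succ k ih =>
          have : f (k + 1) = f k + dlt k := by
            simp only [f, Finset.sum_range_succ]; ring
          rw [this, map_add, ih, hdlt']
          ring
      have hf' : ∀ k, f (k + 1) - f k ∈ I ^ k := by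
        intro k
        have : f (k + 1) - f k = dlt k := by
          simp only [f, Finset.sum_range_succ]; ring
        rw [this]
        exact hdlt k
      obtain ⟨L, hL⟩ := Groth.Agent.Lib.Helper21.AG.exists_limit I f hf'
      refine ⟨φ L, fun k => ?_⟩
      rw [SModEq.sub_mem, smul_eq_mul, Ideal.mul_top, ← hf k, ← map_sub]
      exact hpow k _ (hL k)
    exact { toIsHausdorff := inferInstance, toIsPrecomplete := hprec }

end Groth.Agent.S16456
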