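import Groth.Statements.S16459
import Groth.Agent.Lib.Helper21.AssocGrLib3
-- import your own Groth.Agent.* helpers here

set_option autoImplicit false
universe u
open AdicGr

namespace Groth.Agent.S16459

/-- Let A be a commutative ring and I an ideal such that every I-adically Cauchy sequence in A has a
limit, and let M be an A-module with an I-filtration M = N₀ ⊇ N₁ ⊇ … (I·Nₙ ⊆ Nₙ₊₁) which is
separated, ⋂ₙ Nₙ = 0. If the associated graded module gr(M) = ⊕ₙ Nₙ/Nₙ₊₁ is a Noetherian module over
the associated graded ring ⊕ₙ Iⁿ/Iⁿ⁺¹, then M is a Noetherian A-module and every submodule M' of M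
is closed for the topology defined by the filtration, that is ⋂ₙ (M' + Nₙ) = M'. (The published
statement allows any complete filtered ring; this row takes the I-adic filtration on A.) -/
theorem result (A : Type u) [CommRing A]
    (I : Ideal A) [IsPrecomplete I A] (M : Type u) [AddCommGroup M] [Module A M] (F : I.Filtration M)
    (h0 : F.N 0 = ⊤) (hsep : ⨅ n, F.N n = ⊥)
    [IsNoetherian (AssocGr.GrRing (FiltBl.IdealFiltration.adic I)) (AssocGr.GrMod F)] :
    IsNoetherian A M ∧ ∀ M' : Submodule A M, ⨅ n, M' ⊔ F.N n = M' := by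
  have hfg : ∀ M' : Submodule A M, (Submodule.span (AssocGr.GrRing (FiltBl.IdealFiltration.adic I))
      (Groth.Agent.Lib.Helper21.AG.initSet F M')).FG := fun M' => IsNoetherian.noetherian _
  refine ⟨⟨fun M' => ?_⟩, fun M' => ?_⟩
  · exact (Groth.Agent.Lib.Helper21.AG.fg_and_le F hsep h0 M' M' le_rfl (fun n m hm =>
      Submodule.subset_span (Groth.Agent.Lib.Helper21.AG.inDegM_mem_initSet F M' n m hm)) (hfg M')).1
  · refine le_antisymm ?_ (le_iInf fun n => le_sup_left)
    exact (Groth.Agent.Lib.Helper21.AG.fg_and_le F hsep h0 M' (⨅ n, M' ⊔ F.N n)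
      (le_iInf fun n => le_sup_left) (fun n m hm =>
        Groth.Agent.Lib.Helper21.AG.inDegM_mem_span_initSet_of_mem_closure F M' n m hm) (hfg M')).2

end Groth.Agent.S16459
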