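import Groth.Statements.S16460
-- import your own Groth.Agent.* helpers here

set_option autoImplicit false
universe u
open AdicGr

namespace Groth.Agent.S16460

/-- Let A be a commutative ring with a decreasing filtration by ideals A = F₀ ⊇ F₁ ⊇ F₂ ⊇ … satisfying
F_m·F_n ⊆ F_{m+n}, and assume the filtration is separated, ⋂ₙ Fₙ = 0. If the associated graded ring
⊕ₙ Fₙ/Fₙ₊₁ is an integral domain, then A is an integral domain. -/
theorem result (A : Type u) [CommRing A]
    (𝓕 : FiltBl.IdealFiltration A) (hsep : ⨅ n, 𝓕.F n = ⊥) [IsDomain (AssocGr.GrRing 𝓕)] :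
    IsDomain A := by
  have hnt : Nontrivial A := by
    by_contra hA
    rw [not_nontrivial_iff_subsingleton] at hA
    have h1 : (1 : AssocGr.GrRing 𝓕) = 0 := by
      rw [← map_one (algebraMap A (AssocGr.GrRing 𝓕)), Subsingleton.elim (1 : A) 0, map_zero]
    exact one_ne_zero h1
  have key : ∀ a : A, a ≠ 0 → ∃ n, a ∈ 𝓕.F n ∧ a ∉ 𝓕.F (n + 1) := by
    intro a ha
    have h1 : ∃ k, a ∉ 𝓕.F k := by
      by_contra hcon
      push Not at hcon
      apply ha
      have : a ∈ ⨅ n, 𝓕.F n := (Submodule.mem_iInf _).mpr hcon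
      rw [hsep] at this
      exact this
    classical
    have hk0 : Nat.find h1 ≠ 0 := by
      intro h0
      have := Nat.find_spec h1
      rw [h0, 𝓕.zero_eq] at this
      exact this trivial
    obtain ⟨n, hn⟩ := Nat.exists_eq_succ_of_ne_zero hk0
    refine ⟨n, ?_, ?_⟩
    · by_contra hcon
      exact Nat.find_min h1 (by omega : n < Nat.find h1) hcon
    · have := Nat.find_spec h1
      rwa [hn] at this
  have hnzd : NoZeroDivisors A := by
    refine ⟨fun {a b} hab => ?_⟩
    by_contra hcon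
    push Not at hcon
    obtain ⟨m, ham, ham'⟩ := key a hcon.1
    obtain ⟨n, hbn, hbn'⟩ := key b hcon.2
    have h1 : (AssocGr.inDeg 𝓕 m ⟨a, ham⟩ : AssocGr.GrRing 𝓕) ≠ 0 := by
      intro h0
      rw [Submodule.coe_eq_zero, AssocGr.inDeg_eq_zero_iff] at h0
      exact ham' h0
    have h2 : (AssocGr.inDeg 𝓕 n ⟨b, hbn⟩ : AssocGr.GrRing 𝓕) ≠ 0 := by
      intro h0
      rw [Submodule.coe_eq_zero, AssocGr.inDeg_eq_zero_iff] at h0
      exact hbn' h0
    have h3 := AssocGr.coe_inDeg_mul 𝓕 m n ⟨a, ham⟩ ⟨b, hbn⟩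
    have h4 : (AssocGr.inDeg 𝓕 (m + n) ⟨a * b, 𝓕.mul_le m n (Ideal.mul_mem_mul ham hbn)⟩ :
        AssocGr.GrRing 𝓕) = 0 := by
      rw [Submodule.coe_eq_zero, AssocGr.inDeg_eq_zero_iff]
      change a * b ∈ _
      rw [hab]
      exact Ideal.zero_mem _
    rw [h4] at h3
    exact mul_ne_zero h1 h2 h3
  exact NoZeroDivisors.to_isDomain A

end Groth.Agent.S16460
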