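import Groth.Statements.S16462
import Groth.Agent.Lib.Helper22.EdgeIso.ComparisonH
import Groth.Agent.Lib.Helper5.RpushAb
import Groth.Agent.Lib.Helper22.Cech.AffineMorphism
import Groth.Agent.Lib.Helper17.RpushQC2

set_option autoImplicit false
universe u
open Coherent

namespace Groth.Agent.S16462

open CategoryTheory Limits AlgebraicGeometry AlgebraicGeometry.Scheme.Modules TopologicalSpace
open Groth.Agent.Lib.Helper22.EdgeIso

lemma isZero_of_isZero_toAb {Y : Scheme.{u}} (N : Y.Modules) (h : IsZero (Coh.toAb N)) :
    IsZero N := by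
  rw [IsZero.iff_id_eq_zero]
  apply (SheafOfModules.toSheaf Y.ringCatSheaf).map_injective
  exact h.eq_of_src _ _

variable {X Y Z : Scheme.{u}} (f : X ⟶ Y) (g : Y ⟶ Z)

lemma tot_of_inj (I : X.Modules) (hI : Injective I) :
    CohCx.IsTotallyAcyclic (ModSite.toAb (O := X.sheaf) I) :=
  @Groth.Agent.Lib.Helper5.ModAcyclic.isTotallyAcyclic_toSheaf _ _ _ X.ringCatSheaf I hI

lemma isZero_push_inj [HasInjectiveResolutions Y.Modules] (I : X.Modules) (hI : Injective I)
    (q : ℕ) :
    IsZero (((pushforward g).rightDerived (q + 1)).obj ((pushforward f).obj I)) :=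
  Groth.Agent.Lib.Helper5.RelExtSS.isZero_Rpush_succ g q _
    (Groth.Agent.Lib.Helper5.RelExtSS.isTotallyAcyclic_pushforward f I (tot_of_inj I hI))

lemma isZero_push_qcoh [HasInjectiveResolutions Y.Modules] [IsAffineHom g] (N : Y.Modules)
    [N.IsQuasicoherent] (q : ℕ) :
    IsZero (((pushforward g).rightDerived (q + 1)).obj N) := by
  apply isZero_of_isZero_toAb
  obtain ⟨e⟩ := Groth.Agent.Lib.Helper5.RpushAb.main g N (q + 1)
  exact IsZero.of_iso (Groth.Agent.Lib.Helper22.Cech.isZero_RpushAb_succ g N q) e

lemma isIso_edgeOut_aux [QuasiCompact f] [QuasiSeparated f] [IsAffineHom g]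
    [HasInjectiveResolutions X.Modules] (M : X.Modules) [M.IsQuasicoherent] (p : ℕ) :
    IsIso (RDer.edgeOut (pushforward f) (pushforward g) p M) := by
  haveI : EnoughInjectives Y.Modules :=
    Groth.Agent.S0485.result (Opens.grothendieckTopology Y) Y.ringCatSheaf
  haveI : HasInjectiveResolutions Y.Modules := inferInstance
  refine isIso_edgeOut_of_acyclic (pushforward f) (pushforward g)
    (acyclicClass_acyc (pushforward g)) (fun _ _ e h => acyc_of_iso _ e h)
    (acyc_ext _) ?_ M ?_ p
  · intro I hI q
    exact isZero_push_inj f g I hI q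
  · intro q q'
    haveI : (((pushforward f).rightDerived q).obj M).IsQuasicoherent :=
      Groth.Agent.Lib.Helper17.RpushQC.isQuasicoherent_Rpush f M q
    exact isZero_push_qcoh g _ q'


open CategoryTheory AlgebraicGeometry AlgebraicGeometry.Scheme.Modules in
open CategoryTheory AlgebraicGeometry AlgebraicGeometry.Scheme.Modules in
/-- Let f : X → Y be a quasi-compact quasi-separated morphism of schemes, g : Y → Z an affine morphism
and M a quasi-coherent O_X-module. Then for every p ≥ 0 the canonical edge morphism R^p (g ∘ f)_* M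
→ g_*(R^p f_* M) is an isomorphism (higher direct images as right derived functors of direct image
on O-modules). (The published statement assumes f separated; this row assumes only f
quasi-separated.) -/
theorem result {X Y Z : Scheme.{u}} (f : X ⟶ Y) (g : Y ⟶ Z)
    [QuasiCompact f] [QuasiSeparated f] [IsAffineHom g] [HasInjectiveResolutions X.Modules]
    (M : X.Modules) [Coh.IsQCoh M] (p : ℕ) :
    IsIso (CohBC.lerayEdgeOut f g p M) := by
  have key := isIso_edgeOut_aux f g M p
  unfold CohBC.lerayEdgeOut
  exact @IsIso.comp_isIso _ _ _ _ _ _ _ inferInstance key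

end Groth.Agent.S16462
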