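import Groth.Statements.S1647
import Groth.Agent.Lib.Lead.Koszul.GG
import Groth.Agent.S1642

set_option autoImplicit false
universe u
open CategoryTheory CategoryTheory.Limits AlgebraicGeometry
open Variety

namespace Groth.Agent.S1647

/-- Let F be a coherent module on P^n_k which is m-regular. Then F(m) = F ⊗ O(m) is globally generated. -/
theorem result (k : Type u) [Field k] (n : ℕ) (F : (CohB1.ProjSpace n k).Modules) (hF : Coh.IsCoh F) (m : ℤ)
    (h : Curv2.IsMRegular k n F m) : Curv2.IsGloballyGenerated (CohB1.tensorMod F (Twist.twistProjSpace n k m)) := by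
  haveI : F.IsQuasicoherent := hF.1
  haveI : F.IsFiniteType := hF.2
  have hreg : ∀ r : ℤ, m ≤ r → Curv2.IsMRegular k n F r := by
    intro r hr
    induction r, hr using Int.le_induction with
    | base => exact h
    | succ r hr ih => exact Groth.Agent.S1642.result k n F hF r ih
  exact Groth.Agent.Lib.Lead.Koszul.isGloballyGenerated_tw_of_regular n k F m
    (fun r hr p hp1 hpn => hreg r hr p hp1 hpn)

end Groth.Agent.S1647
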