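import Groth.Statements.S16470
import Groth.Agent.Lib.Helper2.DegAdd.HN1

set_option autoImplicit false
universe u
open CategoryTheory CategoryTheory.Limits AlgebraicGeometry
open VBCurve

namespace Groth.Agent.S16470

/-- Let X be a smooth proper integral curve (integral, smooth and proper of dimension one) over an
algebraically closed field k and E a finite locally free O_X-module of rank r ≥ 1 (degree = χ −
rank·χ(O_X), slope = degree / rank). There is a finite locally free submodule E₁ ⊂ E (a monomorphism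
of O_X-modules) of some rank r₁ ≥ 1, the destabilising sub-bundle, such that: every finite locally
free submodule F ⊂ E of rank r' ≥ 1 has slope at most that of E₁ (deg F · r₁ ≤ deg E₁ · r'); and the
maximal slope drops in the quotient, i.e. every finite locally free submodule G of rank r' ≥ 1 of
the cokernel E/E₁ has deg G · r₁ < deg E₁ · r'. Moreover a submodule with these two properties is
unique: any two are the same subobject of E. (Such an E₁ is slope-semistable, every submodule of E₁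
being a submodule of E; the published statement lists semistability of E₁ as a third property, which
is therefore omitted here.) -/
theorem result (k : Type u) [Field k] [IsAlgClosed k] (X : Scheme.{u}) [X.Over (Spec (CommRingCat.of k))]
    [IsIntegral X] [IsProper (X ↘ Spec (CommRingCat.of k))] [Smooth (X ↘ Spec (CommRingCat.of k))]
    (hdim : topologicalKrullDim X = 1)
    (r : ℕ) (hr : 0 < r) (E : X.Modules) (hE : FlatMod.IsFinLocFreeOfRank r E) :
    (∃ (E₁ : X.Modules) (r₁ : ℕ) (i₁ : E₁ ⟶ E), Mono i₁ ∧ 0 < r₁ ∧ FlatMod.IsFinLocFreeOfRank r₁ E₁ ∧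
      (∀ (F : X.Modules) (r' : ℕ) (j : F ⟶ E), Mono j → 0 < r' → FlatMod.IsFinLocFreeOfRank r' F →
        Curv2.deg k X F r' * (r₁ : ℤ) ≤ Curv2.deg k X E₁ r₁ * (r' : ℤ)) ∧
      (∀ (Q : X.Modules) (s : ℕ) (j : Q ⟶ cokernel i₁), Mono j → 0 < s → FlatMod.IsFinLocFreeOfRank s Q →
        Curv2.deg k X Q s * (r₁ : ℤ) < Curv2.deg k X E₁ r₁ * (s : ℤ))) ∧
    (∀ (E₁ E₁' : X.Modules) (r₁ r₁' : ℕ) (i₁ : E₁ ⟶ E) (i₁' : E₁' ⟶ E),
      Mono i₁ → 0 < r₁ → FlatMod.IsFinLocFreeOfRank r₁ E₁ →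
      (∀ (F : X.Modules) (r' : ℕ) (j : F ⟶ E), Mono j → 0 < r' → FlatMod.IsFinLocFreeOfRank r' F →
        Curv2.deg k X F r' * (r₁ : ℤ) ≤ Curv2.deg k X E₁ r₁ * (r' : ℤ)) →
      (∀ (Q : X.Modules) (s : ℕ) (j : Q ⟶ cokernel i₁), Mono j → 0 < s → FlatMod.IsFinLocFreeOfRank s Q →
        Curv2.deg k X Q s * (r₁ : ℤ) < Curv2.deg k X E₁ r₁ * (s : ℤ)) →
      Mono i₁' → 0 < r₁' → FlatMod.IsFinLocFreeOfRank r₁' E₁' →
      (∀ (F : X.Modules) (r' : ℕ) (j : F ⟶ E), Mono j → 0 < r' → FlatMod.IsFinLocFreeOfRank r' F →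
        Curv2.deg k X F r' * (r₁' : ℤ) ≤ Curv2.deg k X E₁' r₁' * (r' : ℤ)) →
      (∀ (Q : X.Modules) (s : ℕ) (j : Q ⟶ cokernel i₁'), Mono j → 0 < s → FlatMod.IsFinLocFreeOfRank s Q →
        Curv2.deg k X Q s * (r₁' : ℤ) < Curv2.deg k X E₁' r₁' * (s : ℤ)) →
      ∃ e : E₁ ≅ E₁', e.hom ≫ i₁' = i₁) := by
  refine ⟨?_, ?_⟩
  · obtain ⟨E₁, r₁, i₁, hm₁, hr₁, hE₁, h1, h2⟩ :=
      Groth.Agent.Lib.Helper2.DegAdd.exists_maxSlope_sub k (le_of_eq hdim) r hr E hE
    refine ⟨E₁, r₁, i₁, hm₁, hr₁, hE₁, h1, ?_⟩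
    intro Q s j hj hs hQ
    exact Groth.Agent.Lib.Helper2.DegAdd.quot_slope_lt k (le_of_eq hdim) r r₁ hE i₁ hr₁ hE₁ h1 h2
      Q s j hj hs hQ
  · intro E₁ E₁' r₁ r₁' i₁ i₁' hm₁ hr₁ hE₁ h1 h2 hm₁' hr₁' hE₁' h1' h2'
    obtain ⟨φ, hφ⟩ := Groth.Agent.Lib.Helper2.DegAdd.factor_of_maxSlope k (le_of_eq hdim) r r₁ r₁'
      hE i₁ i₁' hr₁ hE₁ h1 h2 hr₁' hE₁' h1'
    obtain ⟨ψ, hψ⟩ := Groth.Agent.Lib.Helper2.DegAdd.factor_of_maxSlope k (le_of_eq hdim) r r₁' r₁
      hE i₁' i₁ hr₁' hE₁' h1' h2' hr₁ hE₁ h1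
    refine ⟨⟨ψ, φ, ?_, ?_⟩, hψ⟩
    · rw [← CategoryTheory.cancel_mono i₁, CategoryTheory.Category.assoc, hφ, hψ,
        CategoryTheory.Category.id_comp]
    · rw [← CategoryTheory.cancel_mono i₁', CategoryTheory.Category.assoc, hψ, hφ,
        CategoryTheory.Category.id_comp]

end Groth.Agent.S16470
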