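import Groth.Statements.S16482
import Mathlib
import Mathlib

set_option autoImplicit false
open CategoryTheory CategoryTheory.Limits AlgebraicGeometry
universe u
open FrobSch

namespace Groth.Agent.S16482


/-- Let p be a prime and S a reduced scheme on which p = 0 whose absolute Frobenius is flat; let Y be a
reduced S-scheme with structure map a, Z an S-scheme with structure map b, and g₁, g₂ : Y ⟶ Z two
S-morphisms. For i = 1, 2 let h_i : Y ⟶ Z^(p) be the relative Frobenius F_{Y/S} : Y ⟶ Y^(p) followed
by the base change Y^(p) ⟶ Z^(p) of g_i along the absolute Frobenius of S. If h₁ = h₂, then g₁ = g₂.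
(The published statement works over the reduced special fibre of a flat formal scheme of finite type
over the Witt vectors of a perfect field; only reducedness of S and flatness of its absolute
Frobenius are kept here.) -/
theorem result (p : ℕ) [Fact p.Prime]
    {Y Z S : Scheme.{u}} [FrobSch.IsCharP S p] [IsReduced S] [Flat (FrobSch.frob S p)]
    [IsReduced Y] (a : Y ⟶ S) (b : Z ⟶ S) (g₁ g₂ : Y ⟶ Z) (hg₁ : g₁ ≫ b = a) (hg₂ : g₂ ≫ b = a)
    (h : FrobSch.relFrob a p ≫ pullback.map a (FrobSch.frob S p) b (FrobSch.frob S p) g₁ (𝟙 S) (𝟙 S)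
        ((Category.comp_id a).trans hg₁.symm) ((Category.comp_id _).trans (Category.id_comp _).symm) =
      FrobSch.relFrob a p ≫ pullback.map a (FrobSch.frob S p) b (FrobSch.frob S p) g₂ (𝟙 S) (𝟙 S)
        ((Category.comp_id a).trans hg₂.symm) ((Category.comp_id _).trans (Category.id_comp _).symm)) :
    g₁ = g₂ := by

  haveI : FrobSch.IsCharP Y p := FrobSch.IsCharP.of_hom a p
  have hfrob : FrobSch.frob Y p ≫ g₁ = FrobSch.frob Y p ≫ g₂ := by
    have h' := congrArg (fun q => q ≫ pullback.fst b (FrobSch.frob S p)) h
    simp only [Category.assoc, pullback.lift_fst, pullback.map] at h'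
    rw [FrobSch.relFrob_fst_assoc, FrobSch.relFrob_fst_assoc] at h'
    exact h'
  haveI : Epi (FrobSch.frob Y p) := by
    apply CategoryTheory.Functor.epi_of_epi_map (Scheme.forgetToLocallyRingedSpace)
    apply CategoryTheory.Functor.epi_of_epi_map (LocallyRingedSpace.forgetToSheafedSpace)
    apply SheafedSpace.epi_of_base_surjective_of_stalk_mono _ (fun y => ⟨y, rfl⟩)
    intro x
    apply ConcreteCategory.mono_of_injective
    rw [injective_iff_map_eq_zero]
    intro t ht
    obtain ⟨U, hxU, s, rfl⟩ := Y.presheaf.exists_germ_eq (x := x) t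
    have h1 := PresheafedSpace.stalkMap_germ_apply (FrobSch.frobSh Y p).hom U x hxU s
    erw [h1] at ht
    change Y.presheaf.germ U x hxU (s ^ p) = 0 at ht
    rw [map_pow] at ht
    have ht' : (Y.presheaf.germ U x hxU s) ^ p = 0 := ht
    haveI hred : _root_.IsReduced (Y.presheaf.stalk x) := AlgebraicGeometry.isReduced_stalk_of_isReduced (X := Y) x
    have h0 : Y.presheaf.germ U x hxU s = 0 := _root_.IsReduced.eq_zero _ ⟨p, ht'⟩
    exact h0
  exact (cancel_epi _).mp hfrob

end Groth.Agent.S16482
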