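import Groth.Statements.S16500
-- import your own Groth.Agent.* helpers here
import Mathlib.Data.Nat.Prime.Basic
import Mathlib.Tactic.Ring
import Mathlib.Tactic.Linarith

set_option autoImplicit false
universe u
open Curves

namespace Groth.Agent.S16500


theorem reflect_pow_aux {R : Type*} [CommSemiring R] (f : Polynomial R) (N : ℕ)
    (hf : f.natDegree ≤ N) (m : ℕ) :
    Polynomial.reflect (N * m) (f ^ m) = (Polynomial.reflect N f) ^ m := by
  induction m with
  | zero =>
    simp only [Nat.mul_zero, pow_zero]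
    ext i
    rw [Polynomial.coeff_reflect]
    by_cases hi : i = 0
    · subst hi; simp
    · have : Polynomial.revAt 0 i = i := by
        simp only [Polynomial.revAt, Function.Embedding.coeFn_mk]
        rw [if_neg (by omega)]
      rw [this]
  | succ m ih =>
    rw [pow_succ, pow_succ, Nat.mul_succ, Polynomial.reflect_mul _ _ _ hf, ih]
    calc (f ^ m).natDegree ≤ m * f.natDegree := Polynomial.natDegree_pow_le
      _ ≤ N * m := by rw [mul_comm]; exact Nat.mul_le_mul_right m hf

/-- Let k be a field of odd characteristic p, g ≤ p a natural number and f ∈ k[x] of degree at most 2g +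
2. Let F be f with its coefficients reversed in degrees 0, …, 2g + 2, i.e. F(X) = X^(2g+2) f(1/X)
(Mathlib's reflect (2g+2) f), and write f^((p-1)/2) = Σ_l c_l x^l and F^((p-1)/2) = Σ_l C_l X^l.
Then C_{ip-j} = c_{(g+1-i)p-(g+1-j)} for all i, j = 1, …, g; that is, the g × g Cartier–Manin matrix
of F is that of f with the order of both rows and columns reversed (below the indices run over Fin
g, the entry at (i, j) being the coefficient of degree (i+1)p-(j+1), and reversal is Fin.rev). In
particular the two matrices have the same determinant. (The source applies this to f with f(0) = 0,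
separable of degree 2g + 2 over a perfect field, so that F has odd degree 2g + 1; the identity uses
none of that.) -/
theorem result (k : Type u) [Field k] (p : ℕ) [Fact p.Prime] (hp : p ≠ 2) [CharP k p]
    (g : ℕ) (hg : g ≤ p) (f : Polynomial k) (hf : f.natDegree ≤ 2 * g + 2) :
    (Matrix.of fun i j : Fin g =>
        ((Polynomial.reflect (2 * g + 2) f) ^ ((p - 1) / 2)).coeff (((i : ℕ) + 1) * p - ((j : ℕ) + 1))) =
      Matrix.of fun i j : Fin g =>
        (f ^ ((p - 1) / 2)).coeff (((Fin.rev i : ℕ) + 1) * p - ((Fin.rev j : ℕ) + 1)) := by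
  have hp2 : 2 ≤ p := (Fact.out : p.Prime).two_le
  have hodd : p % 2 = 1 := by
    rcases Nat.Prime.eq_two_or_odd (Fact.out : p.Prime) with h | h
    · exact absurd h hp
    · exact h
  have hN : (2 * g + 2) * ((p - 1) / 2) = (g + 1) * (p - 1) := by
    have : (p - 1) = 2 * ((p - 1) / 2) := by omega
    calc (2 * g + 2) * ((p - 1) / 2) = (g + 1) * (2 * ((p - 1) / 2)) := by ring
      _ = (g + 1) * (p - 1) := by rw [← this]
  ext i j
  simp only [Matrix.of_apply]
  rw [← reflect_pow_aux f (2 * g + 2) hf, Polynomial.coeff_reflect, hN]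
  have hi : (i : ℕ) + 1 ≤ g := i.2
  have hj : (j : ℕ) + 1 ≤ g := j.2
  have hri : ((Fin.rev i : Fin g) : ℕ) = g - ((i : ℕ) + 1) := Fin.val_rev i
  have hrj : ((Fin.rev j : Fin g) : ℕ) = g - ((j : ℕ) + 1) := Fin.val_rev j
  obtain ⟨q, hq⟩ : ∃ q, p = q + 1 := ⟨p - 1, by omega⟩
  obtain ⟨a, ha⟩ : ∃ a, g = (i : ℕ) + 1 + a := ⟨g - ((i : ℕ) + 1), by omega⟩
  obtain ⟨b, hb⟩ : ∃ b, g = (j : ℕ) + 1 + b := ⟨g - ((j : ℕ) + 1), by omega⟩
  have hle : ((i : ℕ) + 1) * p - ((j : ℕ) + 1) ≤ (g + 1) * (p - 1) := by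
    subst hq
    simp only [Nat.add_sub_cancel]
    have h1 : ((i : ℕ) + 1) * (q + 1) ≤ g * (q + 1) := Nat.mul_le_mul_right _ hi
    have h2 : g * (q + 1) = g * q + g := by ring
    have h3 : (g + 1) * q = g * q + q := by ring
    omega
  rw [Polynomial.revAt_le hle]
  congr 1
  rw [hri, hrj]
  subst hq
  simp only [Nat.add_sub_cancel]
  have e1 : g - ((i : ℕ) + 1) + 1 = a + 1 := by omega
  have e2 : g - ((j : ℕ) + 1) + 1 = b + 1 := by omega
  rw [e1, e2]
  have h4 : (g + 1) * q = (i : ℕ) * q + q + a * q + q := by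
    have h40 := congrArg (fun t => (t + 1) * q) ha
    rw [h40]; ring
  have h5 : ((i : ℕ) + 1) * (q + 1) = (i : ℕ) * q + q + (i : ℕ) + 1 := by ring
  have h6 : (a + 1) * (q + 1) = a * q + q + a + 1 := by ring
  have h7 : (j : ℕ) + 1 ≤ (i : ℕ) * q + q + (i : ℕ) + 1 := by
    have : g ≤ q + 1 := hg
    nlinarith
  omega

end Groth.Agent.S16500
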