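import Groth.Statements.S16515
import Mathlib

set_option autoImplicit false
universe u
open RatCurv

namespace Groth.Agent.S16515

section Aux
open MvPolynomial

/-- exponent vectors in two variables of total degree `d` are in bijection with `Fin (d+1)` -/
noncomputable def degEquiv (d : ℕ) : {e : Fin 2 →₀ ℕ // e.degree = d} ≃ Fin (d + 1) where
  toFun e := ⟨e.1 0, by
    have h := e.2
    rw [Finsupp.degree_eq_sum, Fin.sum_univ_two] at h
    omega⟩
  invFun i := ⟨Finsupp.single 0 (i : ℕ) + Finsupp.single 1 (d - i), by
    rw [Finsupp.degree_eq_sum, Fin.sum_univ_two]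
    have := i.2
    simp
    omega⟩
  left_inv e := by
    have h := e.2
    rw [Finsupp.degree_eq_sum, Fin.sum_univ_two] at h
    apply Subtype.ext
    ext j
    fin_cases j
    · simp
    · simp
      omega
  right_inv i := by
    apply Fin.ext
    simp

theorem finrank_homog (K : Type u) [Field K] (d : ℕ) :
    Module.finrank K (homogeneousSubmodule (Fin 2) K d) = d + 1 := by
  have h1 : homogeneousSubmodule (Fin 2) K d = restrictSupport K {e | e.degree = d} :=
    homogeneousSubmodule_eq_finsupp_supported (Fin 2) K d
  rw [h1, Module.finrank_eq_nat_card_basis (basisRestrictSupport K {e : Fin 2 →₀ ℕ | e.degree = d})]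
  have : Nat.card ↑{e : Fin 2 →₀ ℕ | e.degree = d} = Nat.card (Fin (d + 1)) :=
    Nat.card_congr (degEquiv d)
  rw [this]
  simp

end Aux

open MvPolynomial

/-- If C ⊂ P^n is a rational normal curve and P ⊂ P^n a linear r-plane with (r + 2) k ≥ (r + 1)(n + 1),
then P is contained in a k-secant (k − 1)-plane of C, i.e. in the span of some effective divisor of
degree k on C. Stated through the identification of the linear forms on P^n with the binary forms of
degree n on C ≅ P^1: the r-plane P is recorded by the space U of degree-n binary forms vanishing on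
it (of codimension r + 1), an effective divisor of degree k on C by a nonzero binary form g of
degree k, and P ⊂ span(div g) says that every degree-n form divisible by g lies in U. Here k ≤ n,
and the ground field is arbitrary (the source works over the complex numbers). -/
theorem result (K : Type u) [Field K] (n r k : ℕ)
    (hkn : k ≤ n) (hineq : (r + 1) * (n + 1) ≤ (r + 2) * k)
    (U : Submodule K (MvPolynomial (Fin 2) K))
    (hU : U ≤ MvPolynomial.homogeneousSubmodule (Fin 2) K n)
    (hcodim : Module.finrank K ↥U + (r + 1) = n + 1) :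
    ∃ g ∈ MvPolynomial.homogeneousSubmodule (Fin 2) K k, g ≠ 0 ∧
      ∀ h ∈ MvPolynomial.homogeneousSubmodule (Fin 2) K (n - k), g * h ∈ U := by
  classical
  set V := fun d => homogeneousSubmodule (Fin 2) K d with hV
  haveI hfin : ∀ d, Module.Finite K (V d) := fun d =>
    Module.Finite.iff_fg.mpr (homogeneousSubmodule_fg (Fin 2) K d)
  set U' : Submodule K (V n) := U.comap (V n).subtype with hU'
  have hmulmem : ∀ (g : V k) (h : V (n - k)), (g : MvPolynomial (Fin 2) K) * h ∈ V n := by
    intro g h
    have := (g.2 : (g : MvPolynomial (Fin 2) K).IsHomogeneous k).mul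
      (h.2 : (h : MvPolynomial (Fin 2) K).IsHomogeneous (n - k))
    rw [Nat.add_sub_cancel' hkn] at this
    exact this
  let Φ : V k →ₗ[K] V (n - k) →ₗ[K] (V n ⧸ U') :=
    LinearMap.mk₂ K (fun g h => U'.mkQ ⟨(g : MvPolynomial (Fin 2) K) * h, hmulmem g h⟩)
      (by intro g g' h; rw [← map_add]; congr 1; apply Subtype.ext; simp [add_mul])
      (by intro c g h; rw [← map_smul]; congr 1; apply Subtype.ext; simp)
      (by intro g h h'; rw [← map_add]; congr 1; apply Subtype.ext; simp [mul_add])
      (by intro c g h; rw [← map_smul]; congr 1; apply Subtype.ext; simp)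
  have hfU' : Module.finrank K U' = Module.finrank K U :=
    (Submodule.comapSubtypeEquivOfLe hU).finrank_eq
  have hQ : Module.finrank K (V n ⧸ U') = r + 1 := by
    have h1 := Submodule.finrank_quotient_add_finrank U'
    rw [hfU', finrank_homog] at h1
    omega
  have hHom : Module.finrank K (V (n - k) →ₗ[K] (V n ⧸ U')) = (n - k + 1) * (r + 1) := by
    rw [Module.finrank_linearMap, finrank_homog, hQ]
  have hlt : Module.finrank K (V (n - k) →ₗ[K] (V n ⧸ U')) < Module.finrank K (V k) := by
    rw [hHom, finrank_homog]
    have h2 : (n - k + 1) * (r + 1) + k * (r + 1) = (n + 1) * (r + 1) := by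
      have : n - k + 1 + k = n + 1 := by omega
      rw [← add_mul, this]
    nlinarith
  have hninj : ¬ Function.Injective Φ := by
    intro hinj
    have := LinearMap.finrank_le_finrank_of_injective hinj
    omega
  rw [← LinearMap.ker_eq_bot, Submodule.eq_bot_iff] at hninj
  push Not at hninj
  obtain ⟨g, hgker, hg0⟩ := hninj
  refine ⟨g, g.2, fun h0 => hg0 (Subtype.ext h0), ?_⟩
  intro h hh
  have h1 : Φ g ⟨h, hh⟩ = 0 := by
    rw [LinearMap.mem_ker] at hgker
    rw [hgker]; rfl
  simp only [Φ, LinearMap.mk₂_apply, Submodule.mkQ_apply, Submodule.Quotient.mk_eq_zero] at h1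
  exact h1

end Groth.Agent.S16515
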