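import Groth.Statements.S16519
-- import your own Groth.Agent.* helpers here
import Mathlib

set_option autoImplicit false
open CubicSurf

namespace Groth.Agent.S16519


theorem hvar (a : ℤ) (b : Fin 6 → ℤ)
    (h1 : 3 * a - (b 0 + b 1 + b 2 + b 3 + b 4 + b 5) = 3)
    (h2 : a ^ 2 - (b 0 ^ 2 + b 1 ^ 2 + b 2 ^ 2 + b 3 ^ 2 + b 4 ^ 2 + b 5 ^ 2) = 1) :
    (2 * b 0 - (a - 1)) ^ 2 + (2 * b 1 - (a - 1)) ^ 2 + (2 * b 2 - (a - 1)) ^ 2 +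
      (2 * b 3 - (a - 1)) ^ 2 + (2 * b 4 - (a - 1)) ^ 2 + (2 * b 5 - (a - 1)) ^ 2 =
      2 * (a - 1) * (5 - a) := by
  have e1 : b 0 + b 1 + b 2 + b 3 + b 4 + b 5 = 3 * a - 3 := by linarith
  have e2 : b 0 ^ 2 + b 1 ^ 2 + b 2 ^ 2 + b 3 ^ 2 + b 4 ^ 2 + b 5 ^ 2 = a ^ 2 - 1 := by
    linarith
  have : (2 * b 0 - (a - 1)) ^ 2 + (2 * b 1 - (a - 1)) ^ 2 + (2 * b 2 - (a - 1)) ^ 2 +
    (2 * b 3 - (a - 1)) ^ 2 + (2 * b 4 - (a - 1)) ^ 2 + (2 * b 5 - (a - 1)) ^ 2 =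
    4 * (b 0 ^ 2 + b 1 ^ 2 + b 2 ^ 2 + b 3 ^ 2 + b 4 ^ 2 + b 5 ^ 2) -
    4 * (a - 1) * (b 0 + b 1 + b 2 + b 3 + b 4 + b 5) + 6 * (a - 1) ^ 2 := by ring
  rw [this, e1, e2]; ring

theorem hle_aux (s0 s1 s2 s3 s4 s5 t : ℤ) (h0 : 0 ≤ s0) (h1 : 0 ≤ s1) (h2 : 0 ≤ s2)
    (h3 : 0 ≤ s3) (h4 : 0 ≤ s4) (h5 : 0 ≤ s5) (h : s0 + s1 + s2 + s3 + s4 + s5 = t) :
    0 ≤ t ∧ s0 ≤ t ∧ s1 ≤ t ∧ s2 ≤ t ∧ s3 ≤ t ∧ s4 ≤ t ∧ s5 ≤ t := by
  refine ⟨?_, ?_, ?_, ?_, ?_, ?_, ?_⟩ <;> linarith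

theorem hle (a : ℤ) (b : Fin 6 → ℤ)
    (h1 : 3 * a - (b 0 + b 1 + b 2 + b 3 + b 4 + b 5) = 3)
    (h2 : a ^ 2 - (b 0 ^ 2 + b 1 ^ 2 + b 2 ^ 2 + b 3 ^ 2 + b 4 ^ 2 + b 5 ^ 2) = 1) :
    0 ≤ 2 * (a - 1) * (5 - a) ∧ ∀ i : Fin 6, (2 * b i - (a - 1)) ^ 2 ≤ 2 * (a - 1) * (5 - a) := by
  obtain ⟨k0, k1, k2, k3, k4, k5, k6⟩ := hle_aux _ _ _ _ _ _ _ (sq_nonneg (2 * b 0 - (a - 1)))
    (sq_nonneg (2 * b 1 - (a - 1))) (sq_nonneg (2 * b 2 - (a - 1))) (sq_nonneg (2 * b 3 - (a - 1)))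
    (sq_nonneg (2 * b 4 - (a - 1))) (sq_nonneg (2 * b 5 - (a - 1))) (hvar a b h1 h2)
  refine ⟨k0, fun i => ?_⟩
  fin_cases i
  · exact k1
  · exact k2
  · exact k3
  · exact k4
  · exact k5
  · exact k6

theorem bnd_a (a : ℤ) (h : 0 ≤ 2 * (a - 1) * (5 - a)) : 1 ≤ a ∧ a ≤ 5 := by
  constructor <;> nlinarith

theorem bnd_b (a x : ℤ) (ha1 : 1 ≤ a) (ha5 : a ≤ 5)
    (hle : (2 * x - (a - 1)) ^ 2 ≤ 2 * (a - 1) * (5 - a)) : 0 ≤ x ∧ x ≤ 2 := by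
  interval_cases a
  · norm_num at hle
    constructor <;> nlinarith
  · norm_num at hle
    have h3 : -3 < 2 * x - 1 := by nlinarith
    have h4 : 2 * x - 1 < 3 := by nlinarith
    constructor <;> omega
  · norm_num at hle
    have h3 : -3 < 2 * x - 2 := by nlinarith
    have h4 : 2 * x - 2 < 3 := by nlinarith
    constructor <;> omega
  · norm_num at hle
    have h3 : -3 < 2 * x - 3 := by nlinarith
    have h4 : 2 * x - 3 < 3 := by nlinarith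
    constructor <;> omega
  · norm_num at hle
    constructor <;> nlinarith

theorem bounds (a : ℤ) (b : Fin 6 → ℤ)
    (h1 : 3 * a - (b 0 + b 1 + b 2 + b 3 + b 4 + b 5) = 3)
    (h2 : a ^ 2 - (b 0 ^ 2 + b 1 ^ 2 + b 2 ^ 2 + b 3 ^ 2 + b 4 ^ 2 + b 5 ^ 2) = 1) :
    (1 ≤ a ∧ a ≤ 5) ∧ ∀ i : Fin 6, 0 ≤ b i ∧ b i ≤ 2 := by
  obtain ⟨k0, k⟩ := hle a b h1 h2
  have ha := bnd_a a k0
  exact ⟨ha, fun i => bnd_b a (b i) ha.1 ha.2 (k i)⟩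

/-- the explicit parametrisation by natural-number tuples -/
def g : ℕ × ℕ × ℕ × ℕ × ℕ × ℕ × ℕ → ℤ × (Fin 6 → ℤ) := fun q =>
  ((q.1 : ℤ), ![(q.2.1 : ℤ), (q.2.2.1 : ℤ), (q.2.2.2.1 : ℤ), (q.2.2.2.2.1 : ℤ),
    (q.2.2.2.2.2.1 : ℤ), (q.2.2.2.2.2.2 : ℤ)])

def T : Finset (ℕ × ℕ × ℕ × ℕ × ℕ × ℕ × ℕ) :=
  (Finset.range 6 ×ˢ Finset.range 3 ×ˢ Finset.range 3 ×ˢ Finset.range 3 ×ˢ Finset.range 3 ×ˢ
    Finset.range 3 ×ˢ Finset.range 3).filter (fun q =>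
      3 * q.1 = 3 + (q.2.1 + q.2.2.1 + q.2.2.2.1 + q.2.2.2.2.1 + q.2.2.2.2.2.1 + q.2.2.2.2.2.2) ∧
      q.1 ^ 2 = 1 + (q.2.1 ^ 2 + q.2.2.1 ^ 2 + q.2.2.2.1 ^ 2 + q.2.2.2.2.1 ^ 2 +
        q.2.2.2.2.2.1 ^ 2 + q.2.2.2.2.2.2 ^ 2))

theorem hT : T.card = 72 := by decide +kernel

theorem hg : Function.Injective g := by
  rintro ⟨a, b0, b1, b2, b3, b4, b5⟩ ⟨a', c0, c1, c2, c3, c4, c5⟩ h
  simp only [g, Prod.mk.injEq] at h
  obtain ⟨h1, h2⟩ := h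
  have e0 := congrFun h2 0
  have e1 := congrFun h2 1
  have e2 := congrFun h2 2
  have e3 := congrFun h2 3
  have e4 := congrFun h2 4
  have e5 := congrFun h2 5
  simp at e0 e1 e2 e3 e4 e5
  have h1' : a = a' := by exact_mod_cast h1
  subst h1' e0 e1 e2 e3 e4 e5
  rfl

theorem mem_iff (a : ℤ) (b : Fin 6 → ℤ) :
    (3 * a - (Finset.univ.sum fun i => b i) = 3 ∧
        a ^ 2 - (Finset.univ.sum fun i => b i ^ 2) = 1) ↔ ∃ q ∈ T, g q = (a, b) := by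
  constructor
  · rintro ⟨h1, h2⟩
    rw [Fin.sum_univ_six] at h1 h2
    obtain ⟨ha, hb⟩ := bounds a b h1 h2
    have e0 := Int.toNat_of_nonneg (hb 0).1
    have e1 := Int.toNat_of_nonneg (hb 1).1
    have e2 := Int.toNat_of_nonneg (hb 2).1
    have e3 := Int.toNat_of_nonneg (hb 3).1
    have e4 := Int.toNat_of_nonneg (hb 4).1
    have e5 := Int.toNat_of_nonneg (hb 5).1
    have ea := Int.toNat_of_nonneg (le_trans zero_le_one ha.1)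
    refine ⟨(a.toNat, (b 0).toNat, (b 1).toNat, (b 2).toNat, (b 3).toNat, (b 4).toNat,
      (b 5).toNat), ?_, ?_⟩
    · simp only [T, Finset.mem_filter, Finset.mem_product, Finset.mem_range]
      refine ⟨⟨?_, ?_, ?_, ?_, ?_, ?_, ?_⟩, ?_, ?_⟩
      · have := ha.2; omega
      · have := (hb 0).2; omega
      · have := (hb 1).2; omega
      · have := (hb 2).2; omega
      · have := (hb 3).2; omega
      · have := (hb 4).2; omega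
      · have := (hb 5).2; omega
      · zify
        rw [ea, e0, e1, e2, e3, e4, e5]; linarith
      · zify
        rw [ea, e0, e1, e2, e3, e4, e5]; linarith
    · simp only [g, Prod.mk.injEq]
      refine ⟨ea, ?_⟩
      funext i
      fin_cases i <;> simp [e0, e1, e2, e3, e4, e5]
  · rintro ⟨⟨a', b0, b1, b2, b3, b4, b5⟩, hq, hgq⟩
    simp only [T, Finset.mem_filter, Finset.mem_product, Finset.mem_range] at hq
    obtain ⟨-, h1, h2⟩ := hq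
    simp only [g, Prod.mk.injEq] at hgq
    obtain ⟨rfl, rfl⟩ := hgq
    rw [Fin.sum_univ_six, Fin.sum_univ_six]
    simp
    constructor
    · zify at h1; linarith
    · zify at h2; linarith

/-- On a smooth cubic surface there are exactly 72 divisor classes L with L² = 1 and L · K = −3. Stated
in the lattice ℤ^{1,6} with basis l, e_1, …, e_6 (l² = 1, e_i² = −1, K = −3l + Σ e_i): the integer
vectors (a, b) ∈ ℤ × ℤ^6, standing for a·l − Σ b_i e_i, with 3a − Σ b_i = 3 and a² − Σ b_i² = 1 form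
a set of exactly 72 elements. -/
theorem result :
    {p : ℤ × (Fin 6 → ℤ) | 3 * p.1 - (Finset.univ.sum fun i => p.2 i) = 3 ∧
        p.1 ^ 2 - (Finset.univ.sum fun i => p.2 i ^ 2) = 1}.ncard = 72 := by
  have hS : {p : ℤ × (Fin 6 → ℤ) | 3 * p.1 - (Finset.univ.sum fun i => p.2 i) = 3 ∧
        p.1 ^ 2 - (Finset.univ.sum fun i => p.2 i ^ 2) = 1} = ↑(T.image g) := by
    ext ⟨a, b⟩
    simp only [Finset.coe_image, Set.mem_image, Finset.mem_coe]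
    exact mem_iff a b
  rw [hS, Set.ncard_coe_finset, Finset.card_image_of_injective _ hg, hT]

end Groth.Agent.S16519
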