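import Groth.Statements.S1653
import Groth.Agent.Lib.Helper21.FibDim4
-- import your own Groth.Agent.* helpers here

set_option autoImplicit false
universe u
open CategoryTheory CategoryTheory.Limits AlgebraicGeometry
open Variety

namespace Groth.Agent.S1653

/-- Let f : X → Y be a k-morphism of schemes locally of finite type over a field k, with X irreducible
of dimension a, and let the closure of the image of f have dimension b. Then the local fibre
dimension of f at every point of X is at least a - b, and the set of points where it equals a - b is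
open and dense. -/
theorem result (k : Type u) [Field k] (X Y : Scheme.{u}) [X.Over (Spec (CommRingCat.of k))] [Y.Over (Spec (CommRingCat.of k))]
    [LocallyOfFiniteType (X ↘ (Spec (CommRingCat.of k)))] [LocallyOfFiniteType (Y ↘ (Spec (CommRingCat.of k)))] [IrreducibleSpace X]
    (f : X ⟶ Y) (hf : f ≫ (Y ↘ (Spec (CommRingCat.of k))) = X ↘ (Spec (CommRingCat.of k))) (a b : ℕ) (ha : topologicalKrullDim X = a)
    (hb : topologicalKrullDim (closure (Set.range f.base)) = b) :
    (∀ x : X, ((a - b : ℕ) : WithBot ℕ∞) ≤ FlatMor.fibreDimAt f x) ∧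
      IsOpen {x : X | FlatMor.fibreDimAt f x = (a - b : ℕ)} ∧ Dense {x : X | FlatMor.fibreDimAt f x = (a - b : ℕ)} := by
  have hft : LocallyOfFiniteType f := by
    have h0 : LocallyOfFiniteType (f ≫ (Y ↘ Spec (CommRingCat.of k))) := by
      rw [hf]; infer_instance
    exact locallyOfFiniteType_of_comp f (Y ↘ Spec (CommRingCat.of k))
  -- the generic points
  have hcl : closure (Set.range f.base) = closure {f (genericPoint X)} := by
    apply subset_antisymm
    · apply closure_minimal _ isClosed_closure
      rintro _ ⟨x, rfl⟩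
      have h1 : genericPoint X ⤳ x := genericPoint_specializes x
      exact specializes_iff_mem_closure.mp (h1.map f.continuous)
    · exact closure_mono (Set.singleton_subset_iff.mpr ⟨genericPoint X, rfl⟩)
  obtain ⟨sη, hsη⟩ : ∃ s : ℕ, @Algebra.trdeg k (Y.residueField (f (genericPoint X))) _ _
      (Curv2.resAlgebra k Y (f (genericPoint X))) = s := by
    obtain ⟨W, hW, hyW, -⟩ := TopologicalSpace.Opens.isBasis_iff_nbhd.mp Y.isBasis_affineOpens
      (show f (genericPoint X) ∈ (⊤ : Y.Opens) from trivial)
    obtain ⟨s, hs1, -⟩ := Groth.Agent.Lib.Helper21.ChartPt.exists_nat_trdeg_eq_and_dim_quotient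
      k Y hW (f (genericPoint X)) hyW
    exact ⟨s, hs1⟩
  have hb' : b = sη := by
    have h1 := Groth.Agent.Lib.Helper21.FibDim.topologicalKrullDim_closure_singleton k Y
      (f (genericPoint X)) sη hsη
    rw [← hcl, hb] at h1
    exact_mod_cast h1
  obtain ⟨sξ, hsξ⟩ := Groth.Agent.Lib.Helper21.ChartPt.exists_nat_trdeg_genericPoint k X
  have ha' : a = sξ := by
    have h1 := Groth.Agent.Lib.Helper21.ChartPt.topologicalKrullDim_eq_of_irreducible k X sξ hsξ
    rw [ha] at h1
    exact_mod_cast h1
  obtain ⟨n, hn1, ⟨y, hy1, hy2, hy3⟩, -⟩ :=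
    Groth.Agent.Lib.Helper21.FibDim.exists_fibreDimAt_eq_trdeg f (genericPoint X)
  have hyξ : y = genericPoint X :=
    (hy1.antisymm (genericPoint_specializes y)).eq
  subst hyξ
  -- additivity of transcendence degree
  have hadd : sη + n = sξ := by
    let _ : Algebra k (Y.residueField (f (genericPoint X))) :=
      Curv2.resAlgebra k Y (f (genericPoint X))
    let _ : Algebra k (X.residueField (genericPoint X)) := Curv2.resAlgebra k X (genericPoint X)
    let _ : Algebra (Y.residueField (f (genericPoint X))) (X.residueField (genericPoint X)) :=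
      (f.residueFieldMap (genericPoint X)).hom.toAlgebra
    have : IsScalarTower k (Y.residueField (f (genericPoint X)))
        (X.residueField (genericPoint X)) :=
      IsScalarTower.of_algebraMap_eq' (Groth.Agent.Lib.Helper21.FibDim.resMap_comp k X Y f hf
        (genericPoint X))
    have h1 := trdeg_add_eq k (Y.residueField (f (genericPoint X)))
      (A := X.residueField (genericPoint X))
    rw [hsη, hy3, hsξ] at h1
    exact_mod_cast h1
  have hab : a - b = n := by omega
  rw [hab]
  have hge : ∀ x : X, ((n : ℕ) : WithBot ℕ∞) ≤ FlatMor.fibreDimAt f x := by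
    intro x
    rw [← hn1]
    exact Groth.Agent.Lib.Helper21.FibDim.fibreDimAt_genericPoint_le f x
  have hset : {x : X | FlatMor.fibreDimAt f x = (n : ℕ)} =
      {x : X | FlatMor.fibreDimAt f x ≤ (n : ℕ)} := by
    ext x
    simp only [Set.mem_ofPred_eq]
    exact ⟨fun h => h.le, fun h => le_antisymm h (hge x)⟩
  have hopen : IsOpen {x : X | FlatMor.fibreDimAt f x = (n : ℕ)} := by
    rw [hset]
    exact Groth.Agent.Lib.Helper21.FibDim.isOpen_setOf_fibreDimAt_le f n
  exact ⟨hge, hopen, hopen.dense ⟨genericPoint X, hn1⟩⟩

end Groth.Agent.S1653
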