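import Groth.Statements.S1654
import Groth.Agent.Lib.Helper1.GalFinLevel
import Groth.Agent.Lib.Helper1.ResSepFin

set_option autoImplicit false
universe u
open CategoryTheory CategoryTheory.Limits AlgebraicGeometry
open Variety

namespace Groth.Agent.S1654

/-- Let X be a k-scheme locally of finite type, having only finitely many irreducible components. There
is then a finite separable extension k' of k such that every irreducible component of X_{k'}, with
its reduced induced structure, is geometrically irreducible over k'. -/
theorem result (k : Type u) [Field k] (X : Scheme.{u}) [X.Over (Spec (CommRingCat.of k))] [LocallyOfFiniteType (X ↘ (Spec (CommRingCat.of k)))]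
    (hirr : (irreducibleComponents (X : Type u)).Finite) :
    ∃ (k' : Type u) (_ : Field k') (_ : Algebra k k'), FiniteDimensional k k' ∧ Algebra.IsSeparable k k' ∧
      ∀ (T : Set (Curv2.bc k X k')) (hT : T ∈ irreducibleComponents (Curv2.bc k X k' : Type u)),
        GeometricallyIrreducible
          ((Scheme.IdealSheafData.vanishingIdeal ⟨T, isClosed_of_mem_irreducibleComponents T hT⟩).subschemeι ≫
            Curv2.bcSnd k X k') := by
  classical
  let f := X ↘ Spec (CommRingCat.of k)
  have hgen : ∀ Z ∈ irreducibleComponents ↥X, ∃ ξ : X, IsGenericPoint ξ Z ∧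
      Finite ((Curv2.bcFst k X (SeparableClosure k)).base ⁻¹' {ξ}) := by
    intro Z hZ
    obtain ⟨ξ, hξ⟩ := QuasiSober.sober hZ.1 (isClosed_of_mem_irreducibleComponents Z hZ)
    refine ⟨ξ, hξ, ?_⟩
    obtain ⟨φ, hφ⟩ := Groth.Agent.Lib.Helper1.GalCount.exists_resMap f ξ
    have hfd := Groth.Agent.Lib.Helper1.ResSepFin.finiteDimensional_separableClosure f ξ φ hφ
    exact (Groth.Agent.Lib.Helper1.GalCount.fibre_finite f ξ φ hφ (SeparableClosure k) hfd).1
  have hfinΩ := Groth.Agent.Lib.Helper1.GalFinLevel.finite_irreducibleComponents k X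
    (SeparableClosure k) hirr hgen
  haveI : Finite ↥(irreducibleComponents ↥(Curv2.bc k X (SeparableClosure k))) :=
    Set.finite_coe_iff.mpr hfinΩ
  obtain ⟨E, hE, hEs⟩ := Groth.Agent.Lib.Helper1.GalFinLevel.exists_common k (SeparableClosure k)
    (ι := ↥(irreducibleComponents ↥(Curv2.bc k X (SeparableClosure k))))
    (fun C σ => (Curv2.galAct k X (SeparableClosure k) σ).base '' C.1 = C.1)
    (fun C => Groth.Agent.Lib.Helper1.GalFinLevel.exists_stabilizes_irreducibleComponent k X
      (SeparableClosure k) hfinΩ C.1 C.2)
  refine ⟨↥E, inferInstance, inferInstance, hE, ?_, ?_⟩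
  · exact Algebra.isSeparable_tower_bot_of_isSeparable k E (SeparableClosure k)
  · intro T hT
    letI := Groth.Agent.Lib.Helper1.GalLevel.overInst k X ↥E
    have h1 := Groth.Agent.Lib.Helper1.GalFinLevel.isIrreducible_trans_preimage k X
      (SeparableClosure k) E (fun σ hσ C hC => hEs σ hσ ⟨C, hC⟩) T hT
    have h2 : IsIrreducible
        ((Curv2.bcFst E (Curv2.bc k X E) (SeparableClosure k)).base ⁻¹' T) := by
      rw [Groth.Agent.Lib.Helper1.GalFinLevel.preimage_bcFst_eq]
      exact h1.image _ (Homeomorph.continuous _).continuousOn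
    let ι := (Scheme.IdealSheafData.vanishingIdeal
      ⟨T, isClosed_of_mem_irreducibleComponents T hT⟩).subschemeι
    have hr : Set.range ι.base = T := by
      rw [Scheme.IdealSheafData.range_subschemeι]
      rfl
    haveI : IrreducibleSpace ↥(pullback (ι ≫ Curv2.bcSnd k X E)
        (Spec.map (CommRingCat.ofHom (algebraMap E (SeparableClosure k))))) := by
      have h3 : IsIrreducible (Set.range
          (Groth.Agent.Lib.Helper1.GalClosed.subMap (Curv2.bcSnd k X E) ι
            (SeparableClosure k)).base) := by
        rw [Groth.Agent.Lib.Helper1.GalClosed.range_subMap, hr]; exact h2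
      exact Groth.Agent.Lib.Helper1.GalClosed.irreducibleSpace_of_isInducing
        (Groth.Agent.Lib.Helper1.GalClosed.subMap (Curv2.bcSnd k X E) ι
          (SeparableClosure k)).isEmbedding.isInducing h3
    exact Groth.Agent.Lib.Helper1.GeomIrrSep.geometricallyIrreducible_of_sepClosed
      (ι ≫ Curv2.bcSnd k X E)
      (Spec.map (CommRingCat.ofHom (algebraMap E (SeparableClosure k))))

end Groth.Agent.S1654
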