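import Groth.Statements.S16597
import Groth.Agent.Lib27.LGProj
-- import your own Groth.Agent.* helpers here

set_option autoImplicit false
universe u v
open LGRing

namespace Groth.Agent.S16597

/-- Let R be an LG-ring and M a finite locally free (finitely generated projective) R-module of constant
rank. Then M is free. In particular invertible R-modules are trivial: Pic(R) = 0. -/
theorem result {R : Type u} [CommRing R] (hR : LGRing.IsLGRing R)
    (M : Type v) [AddCommGroup M] [Module R M] [Module.Finite R M] [Module.Projective R M] (d : ℕ)
    (hd : ∀ p : PrimeSpectrum R, Module.rankAtStalk M p = d) : Module.Free R M := by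
  have key : Nonempty (M ≃ₗ[R] (Fin d → R)) := by
    apply Groth.Agent.Lib27.LGProj.nonempty_linearEquiv_of_fibres hR
    intro m hm
    apply Groth.Agent.Lib27.LGProj.nonempty_fibre_equiv_of_finrank_eq
    letI := Ideal.Quotient.field m
    have : Nontrivial R := ⟨⟨0, 1, fun h => hm.ne_top ((Ideal.eq_top_iff_one _).2 (h ▸ m.zero_mem))⟩⟩
    rw [Groth.Agent.Lib27.LGProj.finrank_fibre_eq_rankAtStalk m M, hd,
      Module.finrank_baseChange]
    simp
  obtain ⟨e⟩ := key
  exact Module.Free.of_equiv e.symm

end Groth.Agent.S16597
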