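import Groth.Statements.S16602
import Groth.Agent.Lib.Helper15.LGAz4
-- import your own Groth.Agent.* helpers here

set_option autoImplicit false
universe u v w
open Brauer

namespace Groth.Agent.S16602

/-- Let R be an LG-ring with Spec R connected and A an Azumaya R-algebra. Then any two indecomposable
finitely generated projective left A-modules are isomorphic (a module is indecomposable when it is
non-zero and the only idempotents of its endomorphism ring are 0 and 1). (This extends the semilocal
case.) -/
theorem result {R : Type u} [CommRing R]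
    (hR : LGRing.IsLGRing R) [ConnectedSpace (PrimeSpectrum R)] {A : Type v} [Ring A] [Algebra R A] [IsAzumaya R A]
    (P Q : Type w) [AddCommGroup P] [Module A P] [Module.Finite A P] [Module.Projective A P] [Nontrivial P]
    [AddCommGroup Q] [Module A Q] [Module.Finite A Q] [Module.Projective A Q] [Nontrivial Q]
    (hP : ∀ e : Module.End A P, IsIdempotentElem e → e = 0 ∨ e = 1)
    (hQ : ∀ e : Module.End A Q, IsIdempotentElem e → e = 0 ∨ e = 1) : Nonempty (P ≃ₗ[A] Q) := by
  letI : Module R P := Module.compHom P (algebraMap R A)
  letI : Module R Q := Module.compHom Q (algebraMap R A)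
  haveI : IsScalarTower R A P := IsScalarTower.of_algebraMap_smul (fun r x => rfl)
  haveI : IsScalarTower R A Q := IsScalarTower.of_algebraMap_smul (fun r x => rfl)
  haveI : Module.Finite R P := Module.Finite.trans A P
  haveI : Module.Finite R Q := Module.Finite.trans A Q
  haveI : Module.Projective R P := Groth.Agent.Lib.Helper15.LGAz4.projective_trans (R := R) (A := A) P
  haveI : Module.Projective R Q := Groth.Agent.Lib.Helper15.LGAz4.projective_trans (R := R) (A := A) Q
  haveI : Module.FinitePresentation R P := Module.finitePresentation_of_projective R P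
  haveI : Module.FinitePresentation R Q := Module.finitePresentation_of_projective R Q
  have hcP : ∀ p q : PrimeSpectrum R, Module.rankAtStalk P p = Module.rankAtStalk P q := fun p q =>
    (Module.isLocallyConstant_rankAtStalk (R := R) (M := P)).apply_eq_of_preconnectedSpace p q
  have hcQ : ∀ p q : PrimeSpectrum R, Module.rankAtStalk Q p = Module.rankAtStalk Q q := fun p q =>
    (Module.isLocallyConstant_rankAtStalk (R := R) (M := Q)).apply_eq_of_preconnectedSpace p q
  obtain ⟨p₀⟩ := (inferInstance : Nonempty (PrimeSpectrum R))
  rcases le_total (Module.rankAtStalk Q p₀) (Module.rankAtStalk P p₀) with h | h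
  · obtain ⟨f, g, hfg⟩ := Groth.Agent.Lib.Helper15.LGAz4.exists_pair_of_modules (R := R) (A := A)
      (M := P) (N := Q) hR (fun m hm => by rw [hcP _ p₀, hcQ _ p₀]; exact h)
    exact Groth.Agent.Lib.Helper15.LGAz4.nonempty_equiv_of_indecomposable hP f g hfg
  · obtain ⟨f, g, hfg⟩ := Groth.Agent.Lib.Helper15.LGAz4.exists_pair_of_modules (R := R) (A := A)
      (M := Q) (N := P) hR (fun m hm => by rw [hcP _ p₀, hcQ _ p₀]; exact h)
    obtain ⟨e⟩ := Groth.Agent.Lib.Helper15.LGAz4.nonempty_equiv_of_indecomposable hQ f g hfg
    exact ⟨e.symm⟩

end Groth.Agent.S16602
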