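import Groth.Statements.S16606
import Groth.Agent.Lib27.LGProj
-- import your own Groth.Agent.* helpers here

set_option autoImplicit false
open scoped TensorProduct
universe u v
open LGRing

namespace Groth.Agent.S16606

/-- Let R be an LG-ring, M₁, M₂ finite projective R-modules and N a faithfully projective R-module
(finite projective and faithful). If M₁ ⊗_R N ≅ M₂ ⊗_R N then M₁ ≅ M₂. -/
theorem result {R : Type u} [CommRing R]
    (hR : LGRing.IsLGRing R) (M₁ M₂ N : Type v) [AddCommGroup M₁] [Module R M₁] [Module.Finite R M₁]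
    [Module.Projective R M₁] [AddCommGroup M₂] [Module R M₂] [Module.Finite R M₂] [Module.Projective R M₂]
    [AddCommGroup N] [Module R N] [Module.Finite R N] [Module.Projective R N] [FaithfulSMul R N]
    (e : M₁ ⊗[R] N ≃ₗ[R] M₂ ⊗[R] N) : Nonempty (M₁ ≃ₗ[R] M₂) := by
  apply Groth.Agent.Lib27.LGProj.nonempty_linearEquiv_of_rankAtStalk_eq hR
  intro m hm
  have h1 := Module.rankAtStalk_eq_of_equiv e
  have h2 := congrFun h1 ⟨m, hm.isPrime⟩
  rw [Module.rankAtStalk_tensorProduct, Module.rankAtStalk_tensorProduct, Pi.mul_apply, Pi.mul_apply] at h2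
  have hpos : 0 < Module.rankAtStalk N (⟨m, hm.isPrime⟩ : PrimeSpectrum R) := by
    rw [Module.rankAtStalk_pos_iff_mem_support, Module.support_eq_zeroLocus,
      (Module.annihilator_eq_bot (R := R) (M := N)).2 inferInstance]
    simp
  exact Nat.eq_of_mul_eq_mul_right hpos h2

end Groth.Agent.S16606
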