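import Groth.Statements.S16607
import Groth.Agent.Lib.Helper15.LGAz5
-- import your own Groth.Agent.* helpers here

set_option autoImplicit false
universe u v
open Brauer

namespace Groth.Agent.S16607

/-- Let R be an LG-ring, A and B Azumaya R-algebras and n ≥ 1. If Mₙ(A) ≅ Mₙ(B) as R-algebras then A ≅ B
as R-algebras (cancellation of Azumaya algebras). -/
theorem result {R : Type u} [CommRing R]
    (hR : LGRing.IsLGRing R) (A B : Type v) [Ring A] [Algebra R A] [IsAzumaya R A] [Ring B] [Algebra R B]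
    [IsAzumaya R B] (n : ℕ) (hn : 0 < n)
    (e : Matrix (Fin n) (Fin n) A ≃ₐ[R] Matrix (Fin n) (Fin n) B) : Nonempty (A ≃ₐ[R] B) := by
  haveI : Nonempty (Fin n) := ⟨⟨0, hn⟩⟩
  let t : Module.End R (Fin n → R) ≃ₐ[R] Matrix (Fin n) (Fin n) R := LinearMap.toMatrixAlgEquiv'
  let eA : TensorProduct R A (Module.End R (Fin n → R)) ≃ₐ[R] Matrix (Fin n) (Fin n) A :=
    (Algebra.TensorProduct.congr AlgEquiv.refl t).trans (matrixEquivTensor (Fin n) R A).symm
  let eB : TensorProduct R B (Module.End R (Fin n → R)) ≃ₐ[R] Matrix (Fin n) (Fin n) B :=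
    (Algebra.TensorProduct.congr AlgEquiv.refl t).trans (matrixEquivTensor (Fin n) R B).symm
  apply Groth.Agent.Lib.Helper15.LGAz5.nonempty_algEquiv_of_brauer hR A B (Fin n → R) (Fin n → R)
    ((eA.trans e).trans eB.symm)
  intro m hm
  have hA : Module.rankAtStalk (R := R) (Matrix (Fin n) (Fin n) A) =
      Module.rankAtStalk A * Module.rankAtStalk (R := R) (Matrix (Fin n) (Fin n) R) := by
    rw [Module.rankAtStalk_eq_of_equiv (matrixEquivTensor (Fin n) R A).toLinearEquiv,
      Module.rankAtStalk_tensorProduct]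
  have hB : Module.rankAtStalk (R := R) (Matrix (Fin n) (Fin n) B) =
      Module.rankAtStalk B * Module.rankAtStalk (R := R) (Matrix (Fin n) (Fin n) R) := by
    rw [Module.rankAtStalk_eq_of_equiv (matrixEquivTensor (Fin n) R B).toLinearEquiv,
      Module.rankAtStalk_tensorProduct]
  have hAB : Module.rankAtStalk (R := R) (Matrix (Fin n) (Fin n) A) =
      Module.rankAtStalk (Matrix (Fin n) (Fin n) B) := Module.rankAtStalk_eq_of_equiv e.toLinearEquiv
  rw [hA, hB] at hAB
  have h1 := congrFun hAB ⟨m, hm.isPrime⟩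
  rw [Pi.mul_apply, Pi.mul_apply] at h1
  haveI : Nontrivial R := ⟨⟨0, 1, fun h => hm.ne_top ((Ideal.eq_top_iff_one m).mpr (h ▸ m.zero_mem))⟩⟩
  have h2 : Module.rankAtStalk (R := R) (Matrix (Fin n) (Fin n) R) ⟨m, hm.isPrime⟩ = n * n := by
    rw [Module.rankAtStalk_eq_finrank_of_free]
    simp [Module.finrank_matrix]
  rw [h2] at h1
  have h3 : Module.rankAtStalk A ⟨m, hm.isPrime⟩ = Module.rankAtStalk B ⟨m, hm.isPrime⟩ :=
    Nat.eq_of_mul_eq_mul_right (Nat.mul_pos hn hn) h1
  rw [Module.rankAtStalk_tensorProduct, Module.rankAtStalk_tensorProduct, Pi.mul_apply, Pi.mul_apply, h3]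

end Groth.Agent.S16607
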