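import Groth.Statements.S16609
import Groth.Agent.Lib.Helper15.LGAz5
-- import your own Groth.Agent.* helpers here

set_option autoImplicit false
open scoped TensorProduct
universe u v
open Brauer

namespace Groth.Agent.S16609

/-- Let R be an LG-ring and A, B two Azumaya R-algebras of the same degree (the same rank function on
Spec R). Then A ≅ B as R-algebras as soon as A and B have the same class in the Brauer group of R,
i.e. A ⊗_R End_R(P) ≅ B ⊗_R End_R(Q) for some faithfully projective R-modules P, Q (the converse
being clear). -/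
theorem result {R : Type u} [CommRing R]
    (hR : LGRing.IsLGRing R) (A B : Type u) [Ring A] [Algebra R A] [IsAzumaya R A] [Ring B] [Algebra R B]
    [IsAzumaya R B] (hdeg : ∀ p : PrimeSpectrum R, Module.rankAtStalk A p = Module.rankAtStalk B p)
    (P Q : Type u) [AddCommGroup P] [Module R P] [Module.Finite R P] [Module.Projective R P] [FaithfulSMul R P]
    [AddCommGroup Q] [Module R Q] [Module.Finite R Q] [Module.Projective R Q] [FaithfulSMul R Q]
    (e : A ⊗[R] Module.End R P ≃ₐ[R] B ⊗[R] Module.End R Q) : Nonempty (A ≃ₐ[R] B) := by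
  have rank_end : ∀ (P : Type u) [AddCommGroup P] [Module R P] [Module.Finite R P]
      [Module.Projective R P] (p : PrimeSpectrum R),
      Module.rankAtStalk (Module.End R P) p = Module.rankAtStalk P p * Module.rankAtStalk P p := by
    intro P _ _ _ _ p
    haveI : Module.Finite R (Module.End R P) := Groth.Agent.Lib.Helper15.Azumaya.finite_end' R P
    haveI : Module.Projective R (Module.End R P) := Groth.Agent.Lib.Helper15.Azumaya.projective_end' R P
    rw [Module.rankAtStalk_eq, Module.rankAtStalk_eq]
    let e := LinearEquiv.ofBijective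
      (Groth.Agent.Lib.Helper15.Azumaya.θ R p.asIdeal.ResidueField P P)
      (Groth.Agent.Lib.Helper15.Azumaya.θ_bijective R p.asIdeal.ResidueField P P)
    rw [show Module.finrank p.asIdeal.ResidueField (p.asIdeal.Fiber (Module.End R P)) = _ from
      e.finrank_eq, Module.finrank_linearMap]
  apply Groth.Agent.Lib.Helper15.LGAz5.nonempty_algEquiv_of_brauer hR A B P Q e
  intro m hm
  have h1 := congrFun (Module.rankAtStalk_eq_of_equiv e.toLinearEquiv) ⟨m, hm.isPrime⟩
  haveI : IsAzumaya R (Module.End R P) := Groth.Agent.Lib.Helper15.Azumaya.isAzumaya_end (R := R) (P := P)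
  haveI : IsAzumaya R (Module.End R Q) := Groth.Agent.Lib.Helper15.Azumaya.isAzumaya_end (R := R) (P := Q)
  rw [Module.rankAtStalk_tensorProduct, Module.rankAtStalk_tensorProduct, Pi.mul_apply, Pi.mul_apply,
    rank_end, rank_end, hdeg] at h1
  rw [Module.rankAtStalk_tensorProduct, Module.rankAtStalk_tensorProduct, Pi.mul_apply, Pi.mul_apply,
    hdeg]
  -- `b * (p * p) = b * (q * q)` with `b > 0`
  have hb : 0 < Module.rankAtStalk B ⟨m, hm.isPrime⟩ := by
    rw [← Groth.Agent.Lib27.LGProj.finrank_fibre_eq_rankAtStalk m B]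
    letI := Ideal.Quotient.field m
    haveI := Groth.Agent.Lib27.LGProj.nontrivial_fibre_of_faithful m B
    exact Module.finrank_pos
  have h2 := Nat.eq_of_mul_eq_mul_left hb h1
  have h3 : Module.rankAtStalk P ⟨m, hm.isPrime⟩ = Module.rankAtStalk Q ⟨m, hm.isPrime⟩ := by
    rcases Nat.lt_trichotomy (Module.rankAtStalk P ⟨m, hm.isPrime⟩)
      (Module.rankAtStalk Q ⟨m, hm.isPrime⟩) with h | h | h
    · exact absurd h2 (Nat.ne_of_lt (Nat.mul_self_lt_mul_self h))
    · exact h
    · exact absurd h2.symm (Nat.ne_of_lt (Nat.mul_self_lt_mul_self h))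
  rw [h3]

end Groth.Agent.S16609
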