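import Groth.Statements.S1661
import Mathlib

set_option autoImplicit false
universe u
open CategoryTheory CategoryTheory.Limits AlgebraicGeometry
open Divisors

namespace Groth.Agent.S1661

namespace Aux
open RingTheory.Sequence

theorem ker_ideal_ne_top {Z X : Scheme.{u}} (i : Z ⟶ X) [QuasiCompact i] (V : X.Opens)
    (hV : IsAffineOpen V) (z : Z) (hz : i z ∈ V) : i.ker.ideal ⟨V, hV⟩ ≠ ⊤ := by
  intro h
  rw [Scheme.Hom.ker_apply] at h
  have h1 : (1 : Γ(X, V)) ∈ RingHom.ker (i.app V).hom := by rw [h]; trivial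
  rw [RingHom.mem_ker, map_one] at h1
  have h2 : Z.basicOpen (1 : Γ(Z, i ⁻¹ᵁ V)) = i ⁻¹ᵁ V := Scheme.basicOpen_of_isUnit _ isUnit_one
  rw [h1, Scheme.basicOpen_zero] at h2
  have h3 : z ∈ i ⁻¹ᵁ V := hz
  rw [← h2] at h3
  exact h3.elim

theorem shrink {Z X : Scheme.{u}} (i : Z ⟶ X) [IsClosedImmersion i] (U : X.Opens)
    (hU : IsAffineOpen U) (rs : List Γ(X, U)) (hreg : IsWeaklyRegular Γ(X, U) rs)
    (hker : i.ker.ideal ⟨U, hU⟩ = Ideal.ofList rs) (g : Γ(X, U)) (z : Z)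
    (hz : i z ∈ X.basicOpen g) :
    ∃ rs' : List Γ(X, X.basicOpen g), IsRegular Γ(X, X.basicOpen g) rs' ∧
      i.ker.ideal ⟨X.basicOpen g, hU.basicOpen g⟩ = Ideal.ofList rs' := by
  have hloc := hU.isLocalization_basicOpen g
  have hk' : i.ker.ideal ⟨X.basicOpen g, hU.basicOpen g⟩ =
      Ideal.ofList (rs.map (algebraMap Γ(X, U) Γ(X, X.basicOpen g))) := by
    have := i.ker.map_ideal_basicOpen ⟨U, hU⟩ g
    rw [hker, Ideal.map_ofList] at this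
    exact this.symm
  refine ⟨rs.map (algebraMap Γ(X, U) Γ(X, X.basicOpen g)),
    ⟨hreg.of_isLocalization _ (Submonoid.powers g), ?_⟩, hk'⟩
  intro h
  apply ker_ideal_ne_top i _ (hU.basicOpen g) z hz
  rw [hk']
  rw [smul_eq_mul, Ideal.mul_top] at h
  exact h.symm

theorem comp_aux {Z Y X : Scheme.{u}} (i : Z ⟶ Y) (j : Y ⟶ X) [IsClosedImmersion i]
    [IsClosedImmersion j] (U : X.Opens) (hU : IsAffineOpen U) (rs : List Γ(X, U))
    (hrs : IsWeaklyRegular Γ(X, U) rs) (hkj : j.ker.ideal ⟨U, hU⟩ = Ideal.ofList rs)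
    (V : Y.Opens) (hV : IsAffineOpen V) (hVU : V = j ⁻¹ᵁ U) (ss : List Γ(Y, V))
    (hss : IsRegular Γ(Y, V) ss) (hki : i.ker.ideal ⟨V, hV⟩ = Ideal.ofList ss) :
    ∃ ts : List Γ(X, U), IsRegular Γ(X, U) ts ∧
      (i ≫ j).ker.ideal ⟨U, hU⟩ = Ideal.ofList ts := by
  subst hVU
  set φ : Γ(X, U) →+* Γ(Y, j ⁻¹ᵁ U) := (j.app U).hom with hφ
  have hφs : Function.Surjective φ := j.app_surjective U hU
  obtain ⟨ss', rfl⟩ : ∃ ss' : List Γ(X, U), ss'.map φ = ss :=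
    (List.map_surjective_iff.2 hφs) ss
  have hkerφ : RingHom.ker φ = Ideal.ofList rs := by
    rw [← hkj, Scheme.Hom.ker_apply]
  have hcomap : Ideal.ofList (rs ++ ss') = Ideal.comap φ (Ideal.ofList (ss'.map φ)) := by
    rw [Ideal.ofList_append, ← Ideal.map_ofList, Ideal.comap_map_of_surjective φ hφs,
      ← RingHom.ker_eq_comap_bot, hkerφ, sup_comm]
  have hkc : (i ≫ j).ker.ideal ⟨U, hU⟩ = Ideal.ofList (rs ++ ss') := by
    rw [hcomap, ← hki, Scheme.Hom.ker_apply, Scheme.Hom.ker_apply, RingHom.comap_ker]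
    congr 1
  refine ⟨rs ++ ss', ⟨?_, ?_⟩, hkc⟩
  · rw [isWeaklyRegular_append_iff]
    refine ⟨hrs, ?_⟩
    letI := φ.toAlgebra
    have hsub : (Ideal.ofList rs • ⊤ : Submodule Γ(X, U) Γ(X, U)) =
        LinearMap.ker (Algebra.linearMap Γ(X, U) Γ(Y, j ⁻¹ᵁ U)) := by
      ext x
      rw [smul_eq_mul, Ideal.mul_top, ← hkerφ, RingHom.mem_ker, LinearMap.mem_ker,
        Algebra.linearMap_apply]
      rfl
    have hsurj : Function.Surjective (Algebra.linearMap Γ(X, U) Γ(Y, j ⁻¹ᵁ U)) := hφs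
    let e : (Γ(X, U) ⧸ (Ideal.ofList rs • ⊤ : Submodule Γ(X, U) Γ(X, U))) ≃ₗ[Γ(X, U)]
        Γ(Y, j ⁻¹ᵁ U) :=
      Submodule.quotEquivOfEq _ _ hsub ≪≫ₗ LinearMap.quotKerEquivOfSurjective _ hsurj
    refine (e.isWeaklyRegular_congr ss').2 ?_
    exact (isWeaklyRegular_map_algebraMap_iff Γ(Y, j ⁻¹ᵁ U) Γ(Y, j ⁻¹ᵁ U) ss').1 hss.1
  · intro h
    rw [smul_eq_mul, Ideal.mul_top, hcomap] at h
    apply hss.2
    rw [smul_eq_mul, Ideal.mul_top]
    have h1 : (1 : Γ(X, U)) ∈ Ideal.comap φ (Ideal.ofList (ss'.map φ)) := by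
      rw [← h]; trivial
    rw [Ideal.mem_comap, map_one] at h1
    exact ((Ideal.eq_top_iff_one _).2 h1).symm

end Aux

/-- If i : Z → Y and j : Y → X are regular closed immersions then so is their composite Z → X. This is
the closed-immersion case of the published statement. -/
theorem result {Z Y X : Scheme.{u}} (i : Z ⟶ Y) (j : Y ⟶ X)
    (hi : Mor2.IsRegularClosedImmersion i) (hj : Mor2.IsRegularClosedImmersion j) : Mor2.IsRegularClosedImmersion (i ≫ j) := by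
  obtain ⟨hci, hi'⟩ := hi
  obtain ⟨hcj, hj'⟩ := hj
  refine ⟨inferInstance, fun z => ?_⟩
  obtain ⟨W, hW, hzW, ss, hss, hkW⟩ := hi' z
  obtain ⟨U, hU, hyU, rs, hrs, hkU⟩ := hj' (i z)
  have hV : IsAffineOpen (j ⁻¹ᵁ U) := hU.preimage j
  obtain ⟨f, h, hfh, hyf⟩ := exists_basicOpen_le_affine_inter hV hW (i z) ⟨hyU, hzW⟩
  obtain ⟨g, hg⟩ := j.app_surjective U hU f
  have hpre : j ⁻¹ᵁ (X.basicOpen g) = Y.basicOpen h := by
    rw [Scheme.preimage_basicOpen, hg, hfh]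
  have hy1 : j (i z) ∈ X.basicOpen g := by
    show i z ∈ j ⁻¹ᵁ (X.basicOpen g)
    rw [hpre, ← hfh]; exact hyf
  obtain ⟨rs', hrs', hk1⟩ := Aux.shrink j U hU rs hrs.1 hkU g (i z) hy1
  obtain ⟨ss', hss', hk2⟩ := Aux.shrink i W hW ss hss.1 hkW h z (by rw [← hfh]; exact hyf)
  obtain ⟨ts, hts, hk3⟩ := Aux.comp_aux i j (X.basicOpen g) (hU.basicOpen g) rs' hrs'.1 hk1
    (Y.basicOpen h) (hW.basicOpen h) hpre.symm ss' hss' hk2
  refine ⟨X.basicOpen g, hU.basicOpen g, ?_, ts, hts, hk3⟩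
  rw [Scheme.Hom.comp_apply]
  exact hy1

end Groth.Agent.S1661
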