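import Groth.Statements.S16627
import Groth.Agent.Lib.Lead.Pn.TwistSeq

set_option autoImplicit false
universe u
open Variety

namespace Groth.Agent.S16627

open AlgebraicGeometry CategoryTheory CategoryTheory.Limits in
/-- Let k be a field, F a coherent module on projective n-space P^n_k which is m-regular, and ι : F ⊗
O(-1) → F a monomorphism of O-modules (such as multiplication by a linear form that is a
nonzerodivisor on F, i.e. a hyperplane avoiding the associated points of F). Then the cokernel of ι
— the restriction of F to the hyperplane, as a module on P^n_k — is again m-regular. (Stated for an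
arbitrary monomorphism F(-1) → F and an arbitrary ground field.) -/
theorem result (k : Type u) [Field k] (n : ℕ)
    (F : (CohB1.ProjSpace n k).Modules) (hF : Coh.IsCoh F) (m : ℤ) (hreg : Curv2.IsMRegular k n F m)
    (ι : CohB1.tensorMod F (Twist.twistProjSpace n k (-1)) ⟶ F) [Mono ι] :
    Curv2.IsMRegular k n (cokernel ι) m := by
  intro i hi1 hin
  let S₀ : ShortComplex (CohB1.ProjSpace n k).Modules :=
    ShortComplex.mk ι (cokernel.π ι) (cokernel.condition ι)
  have hS₀ : S₀.ShortExact :=
    { exact := ShortComplex.exact_cokernel ι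
      mono_f := inferInstanceAs (Mono ι)
      epi_g := inferInstanceAs (Epi (cokernel.π ι)) }
  have hS := Groth.Agent.Lib.Lead.Pn.shortExact_map_tw n k S₀ hS₀ (m - i)
  refine Groth.Agent.Lib.Lead.Pn.subsingleton_HH_X₃ _ hS i (hreg i hi1 hin) ?_
  obtain ⟨e⟩ := Groth.Agent.Lib.Lead.Pn.nonempty_tw_tw_iso n k F (-1) (m - i)
  apply Groth.Agent.Lib.Lead.Pn.subsingleton_HH_of_iso e.symm
  have hd : (-1 : ℤ) + (m - i) = m - ((i + 1 : ℕ) : ℤ) := by push_cast; ring
  rw [hd]
  by_cases h : i + 1 ≤ n
  · exact hreg (i + 1) (by omega) h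
  · haveI : F.IsQuasicoherent := hF.1
    exact Groth.Agent.S0022.result n k _ (i + 1) (by omega)

end Groth.Agent.S16627
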