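import Groth.Statements.S1663
import Groth.Agent.Lib.Helper5.DimOneAffine
import Groth.Agent.Lib.Helper22.Cech.AffineMorphism
import Groth.Agent.S11319

set_option autoImplicit false
universe u
open CategoryTheory CategoryTheory.Limits AlgebraicGeometry
open Variety

namespace Groth.Agent.S1663

/-- the forgetful functor to abelian sheaves, with the category instances of `X.Modules` -/
noncomputable def toAbF (Y : Scheme.{u}) :
    Y.Modules ⥤ Sheaf (Opens.grothendieckTopology Y) AddCommGrpCat.{u} :=
  SheafOfModules.toSheaf Y.ringCatSheaf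

instance (Y : Scheme.{u}) : (toAbF Y).Faithful :=
  inferInstanceAs (SheafOfModules.toSheaf Y.ringCatSheaf).Faithful

instance (Y : Scheme.{u}) : (toAbF Y).Additive :=
  inferInstanceAs (SheafOfModules.toSheaf Y.ringCatSheaf).Additive

lemma isZero_of_isZero_toAb {Y : Scheme.{u}} (N : Y.Modules) (h : IsZero (Coh.toAb N)) :
    IsZero N := by
  rw [IsZero.iff_id_eq_zero]
  apply (toAbF Y).map_injective
  rw [CategoryTheory.Functor.map_id, CategoryTheory.Functor.map_zero]
  exact (IsZero.iff_id_eq_zero _).1 h

/-- Let X be a scheme whose local rings are Noetherian of Krull dimension at most one, j : U → X the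
inclusion of a retrocompact open (j quasi-compact) and F a quasi-coherent O_U-module. Then R^p j_* F
vanishes for all p > 0. -/
theorem result (X : Scheme.{u})
    (hX : ∀ x : X, IsNoetherianRing (X.presheaf.stalk x) ∧ ringKrullDim (X.presheaf.stalk x) ≤ 1)
    (U : X.Opens) [QuasiCompact U.ι] [HasInjectiveResolutions (U : Scheme.{u}).Modules]
    (F : (U : Scheme.{u}).Modules) (hF : Coh.IsQCoh F) (p : ℕ) (hp : 0 < p) :
    IsZero ((Coh.Rpush U.ι p).obj F) := by
  haveI : IsAffineHom U.ι := Groth.Agent.Lib.Helper5.DimOneAffine.isAffineHom_ι U hX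
  obtain ⟨q, rfl⟩ : ∃ q, p = q + 1 := ⟨p - 1, by omega⟩
  obtain ⟨e⟩ := Groth.Agent.S11319.result U.ι F (q + 1)
  haveI : F.IsQuasicoherent := hF
  have hz := Groth.Agent.Lib.Helper22.Cech.isZero_RpushAb_succ U.ι F q
  exact isZero_of_isZero_toAb _ (hz.of_iso e)

end Groth.Agent.S1663
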