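import Groth.Statements.S16644
-- import your own Groth.Agent.* helpers here
import Mathlib.FieldTheory.Finite.Polynomial
import Mathlib.GroupTheory.Perm.Cycle.Type

set_option autoImplicit false
open QuadZ

namespace Groth.Agent.S16644


theorem exists_fixed_of_sq_eq_one {n : ℕ} (hn : Odd n) (σ : Equiv.Perm (Fin n)) (hσ : σ ^ 2 = 1) :
    ∃ i, σ i = i := by
  by_contra h
  push Not at h
  have hsupp : σ.support = Finset.univ := by
    ext i
    simp [Equiv.Perm.mem_support, h i]
  have h2 := Equiv.Perm.two_dvd_card_support hσ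
  rw [hsupp, Finset.card_univ, Fintype.card_fin] at h2
  exact (Nat.not_even_iff_odd.mpr hn) (even_iff_two_dvd.mpr h2)

theorem det_eq_zero_of_symm_diag_zero {R : Type*} [CommRing R] (htwo : ∀ x : R, x + x = 0)
    {n : ℕ} (hn : Odd n) (N : Matrix (Fin n) (Fin n) R) (hsymm : ∀ i j, N i j = N j i)
    (hdiag : ∀ i, N i i = 0) : N.det = 0 := by
  rw [Matrix.det_apply]
  apply Finset.sum_ninvolution (fun σ => σ⁻¹)
  · intro σ
    have hprod : ∏ i, N (σ⁻¹ i) i = ∏ i, N (σ i) i := by
      rw [← Equiv.prod_comp σ (fun i => N (σ⁻¹ i) i)]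
      apply Finset.prod_congr rfl
      intro i _
      rw [Equiv.Perm.inv_def, Equiv.symm_apply_apply, hsymm]
    rw [Equiv.Perm.sign_inv, hprod]
    exact htwo _
  · intro σ hne heq
    apply hne
    have hσ2 : σ ^ 2 = 1 := by
      rw [pow_two]
      calc σ * σ = σ⁻¹ * σ := by rw [heq]
        _ = 1 := inv_mul_cancel σ
    obtain ⟨i, hi⟩ := exists_fixed_of_sq_eq_one hn σ hσ2
    have : ∏ j, N (σ j) j = 0 :=
      Finset.prod_eq_zero (Finset.mem_univ i) (by rw [hi]; exact hdiag i)
    rw [this, smul_zero]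
  · intro σ; exact Finset.mem_univ _
  · intro σ; exact inv_inv σ

/-- For odd n, the discriminant of the universal quadratic form Σ_{i ≤ j} A_{ij} x_i x_j in n variables
(variables A_{ij} indexed by unordered pairs), i.e. the determinant of the symmetric matrix with
diagonal entries 2 A_{ii} and off-diagonal entries A_{ij}, is divisible by 2 in the integral
polynomial ring ℤ[A_{ij}] (so the half-discriminant is an integral polynomial). -/
theorem result (n : ℕ) (hn : Odd n) :
    (2 : MvPolynomial (Sym2 (Fin n)) ℤ) ∣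
      (Matrix.of fun i j : Fin n =>
        if i = j then 2 * MvPolynomial.X (R := ℤ) (σ := Sym2 (Fin n)) (Sym2.mk i j)
        else MvPolynomial.X (R := ℤ) (σ := Sym2 (Fin n)) (Sym2.mk i j)).det := by
  have htwo0 : (2 : MvPolynomial (Sym2 (Fin n)) (ZMod 2)) = 0 := by
    have e : (2 : MvPolynomial (Sym2 (Fin n)) (ZMod 2)) = MvPolynomial.C (2 : ZMod 2) :=
      (map_ofNat MvPolynomial.C 2).symm
    rw [e, show (2 : ZMod 2) = 0 from rfl, map_zero]
  have key : MvPolynomial.map (Int.castRingHom (ZMod 2))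
      (Matrix.of fun i j : Fin n =>
        if i = j then 2 * MvPolynomial.X (R := ℤ) (σ := Sym2 (Fin n)) (Sym2.mk i j)
        else MvPolynomial.X (R := ℤ) (σ := Sym2 (Fin n)) (Sym2.mk i j)).det = 0 := by
    rw [RingHom.map_det]
    apply det_eq_zero_of_symm_diag_zero _ hn
    · intro i j
      simp only [RingHom.mapMatrix_apply, Matrix.map_apply, Matrix.of_apply]
      by_cases h : i = j
      · subst h; rfl
      · have h' : ¬ j = i := fun e => h e.symm
        rw [if_neg h, if_neg h', Sym2.eq_swap]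
    · intro i
      simp only [RingHom.mapMatrix_apply, Matrix.map_apply, Matrix.of_apply, if_true, map_mul]
      rw [map_ofNat, htwo0, zero_mul]
    · intro x
      rw [← two_mul, htwo0, zero_mul]
  have h3 := (MvPolynomial.C_dvd_iff_zmod 2 _).mpr key
  have h4 : (MvPolynomial.C ((2 : ℕ) : ℤ) : MvPolynomial (Sym2 (Fin n)) ℤ) = 2 := by simp
  rw [h4] at h3
  exact h3

end Groth.Agent.S16644
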