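import Groth.Statements.S1665
import Groth.Agent.Lib.Helper21.KA9
import Groth.Agent.S6370
-- import your own Groth.Agent.* helpers here

set_option autoImplicit false
universe u
open Variety

namespace Groth.Agent.S1665

/-- Let B be a Noetherian domain of dimension one with finitely many maximal ideals and B' its integral
closure in its fraction field. Then B' is a Dedekind domain with finitely many maximal ideals, and
for every nonzero x in the Jacobson radical of B' and every y ∈ B' some power x^n satisfies x^n y ∈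
B. -/
theorem result (B : Type u) [CommRing B] [IsDomain B] [IsNoetherianRing B]
    (hdim : ringKrullDim B = 1) (hsl : Finite (MaximalSpectrum B)) :
    IsDedekindDomain (integralClosure B (FractionRing B)) ∧ Finite (MaximalSpectrum (integralClosure B (FractionRing B))) ∧
      ∀ x : integralClosure B (FractionRing B), x ≠ 0 → x ∈ (⊥ : Ideal (integralClosure B (FractionRing B))).jacobson →
        ∀ y : integralClosure B (FractionRing B), ∃ n : ℕ, (x ^ n * y).1 ∈ (algebraMap B (FractionRing B)).range := by
  classical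
  let K := FractionRing B
  let B' := integralClosure B K
  have hKD : Ring.KrullDimLE 1 B := Ring.krullDimLE_iff.mpr (le_of_eq hdim)
  obtain ⟨hDed, -, hfib, -⟩ := Groth.Agent.S6370.result B K K B' hdim
  have hint : Algebra.IsIntegral B B' := inferInstance
  refine ⟨hDed, ?_, ?_⟩
  · -- finitely many maximal ideals
    let T : Set (PrimeSpectrum B') :=
      ⋃ m : MaximalSpectrum B, PrimeSpectrum.comap (algebraMap B B') ⁻¹' {m.toPrimeSpectrum}
    have hT : T.Finite := Set.finite_iUnion fun m => hfib m.toPrimeSpectrum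
    have hmem : ∀ 𝔑 : MaximalSpectrum B', 𝔑.toPrimeSpectrum ∈ T := by
      intro 𝔑
      have hmax : (𝔑.asIdeal.comap (algebraMap B B')).IsMaximal :=
        Ideal.isMaximal_comap_of_isIntegral_of_isMaximal 𝔑.asIdeal
      rw [Set.mem_iUnion]
      exact ⟨⟨𝔑.asIdeal.comap (algebraMap B B'), hmax⟩, rfl⟩
    have hTfin : Finite T := hT
    exact Finite.of_injective (fun 𝔑 : MaximalSpectrum B' => (⟨𝔑.toPrimeSpectrum, hmem 𝔑⟩ : T))
      (fun a b hab => MaximalSpectrum.toPrimeSpectrum_injective (congrArg Subtype.val hab))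
  · intro x _ hxJ y
    have hxJ' : ∀ 𝔑 : Ideal B', 𝔑.IsMaximal → (⟨x.1, x.2⟩ : B') ∈ 𝔑 := by
      intro 𝔑 h𝔑
      rw [Ideal.jacobson, Ideal.mem_sInf] at hxJ
      exact hxJ ⟨bot_le, h𝔑⟩
    obtain ⟨n, hn⟩ := Groth.Agent.Lib.Helper21.KA.exists_pow_mul_mem_range B K x.1 y.1 x.2 y.2 hxJ'
    exact ⟨n, by simpa using hn⟩

end Groth.Agent.S1665
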