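import Groth.Statements.S16661
import Mathlib

set_option autoImplicit false
universe v u
open TensorProduct
open Conn

namespace S16661aux
open TensorProduct

variable {A : Type v} {B Ω M : Type u}
    [CommRing A] [CommRing B] [Algebra A B]
    [AddCommGroup Ω] [Module B Ω] [Module A Ω] [IsScalarTower A B Ω]
    [AddCommGroup M] [Module B M] [Module A M] [IsScalarTower A B M]

omit [Module A Ω] [IsScalarTower A B Ω] [Module A M] [IsScalarTower A B M] in
/-- `(∑ r_l • f_l) ⊗ 1 = ∑ r_l • (f_l ⊗ 1)` applied to an element. -/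
lemma map_sum_smul {ι : Type*} (s : Finset ι) {N : Type u} [AddCommGroup N] [Module B N]
    (r : ι → B) (f : ι → M →ₗ[B] N) (x : M ⊗[B] Ω) :
    TensorProduct.map (∑ l ∈ s, r l • f l) (LinearMap.id : Ω →ₗ[B] Ω) x =
      ∑ l ∈ s, r l • TensorProduct.map (f l) LinearMap.id x := by
  induction x using TensorProduct.induction_on with
  | zero => simp
  | tmul m ω =>
    simp only [TensorProduct.map_tmul, LinearMap.sum_apply, LinearMap.smul_apply, LinearMap.id_apply,
      TensorProduct.sum_tmul, TensorProduct.smul_tmul']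
  | add x y hx hy =>
    simp only [map_add, hx, hy, smul_add, Finset.sum_add_distrib]

theorem main [Module.Finite B M] [Module.Free B M]
    (δ : Derivation A B Ω) (nabla : M →ₗ[A] M ⊗[B] Ω) (hc : Conn.IsConn δ nabla)
    (nablaE : (M →ₗ[B] M) →ₗ[A] (M →ₗ[B] M) ⊗[B] Ω) (hE : Conn.IsHomConn nabla nabla nablaE) :
    Conn.IsHorizontal nablaE (Conn.triv δ) (LinearMap.trace B M) := by
  classical
  intro φ
  let b := Module.Free.chooseBasis B M
  set Γ : Module.Free.ChooseBasisIndex B M → Module.Free.ChooseBasisIndex B M → B ⊗[B] Ω :=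
    fun i j => TensorProduct.map (b.coord i) LinearMap.id (nabla (b j)) with hΓ
  set a : Module.Free.ChooseBasisIndex B M → Module.Free.ChooseBasisIndex B M → B :=
    fun i j => b.coord i (φ (b j)) with ha
  -- trace as a sum
  have htr : LinearMap.trace B M = ∑ i, (1 : B) •
      ((b.coord i) ∘ₗ (LinearMap.applyₗ (b i) : (M →ₗ[B] M) →ₗ[B] M)) := by
    ext ψ
    rw [LinearMap.trace_eq_matrix_trace B b]
    simp [Matrix.trace, LinearMap.toMatrix_apply]
  have htrφ : LinearMap.trace B M φ = ∑ i, a i i := by
    rw [htr]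
    simp [ha]
  -- Key1
  have key1 : ∀ (m : M) (i : Module.Free.ChooseBasisIndex B M),
      TensorProduct.map (b.coord i) LinearMap.id (nabla m) =
        ∑ j, b.coord j m • Γ i j + (1 : B) ⊗ₜ[B] δ (b.coord i m) := by
    intro m i
    have hm : nabla m = ∑ j, (b.coord j m • nabla (b j) + b j ⊗ₜ[B] δ (b.coord j m)) := by
      conv_lhs => rw [← b.sum_repr m]
      rw [map_sum]
      refine Finset.sum_congr rfl (fun j _ => ?_)
      rw [hc]
      rfl
    rw [hm, map_sum]
    simp only [map_add, map_smul, TensorProduct.map_tmul, LinearMap.id_apply, Finset.sum_add_distrib]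
    congr 1
    have : ∀ j, b.coord i (b j) ⊗ₜ[B] δ (b.coord j m) =
        if j = i then (1 : B) ⊗ₜ[B] δ (b.coord i m) else 0 := by
      intro j
      by_cases h : j = i
      · subst h; simp
      · simp [h]
    simp only [this, Finset.sum_ite_eq', Finset.mem_univ, if_true]
  -- Key2
  have key2 : ∀ (f : M →ₗ[B] B) (x : M ⊗[B] Ω),
      TensorProduct.map f LinearMap.id x =
        ∑ l, f (b l) • TensorProduct.map (b.coord l) LinearMap.id x := by
    intro f x
    conv_lhs => rw [← b.sum_dual_apply_smul_coord f]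
    exact map_sum_smul Finset.univ _ _ x
  -- main computation
  have h1 : TensorProduct.map (LinearMap.trace B M) LinearMap.id (nablaE φ) =
      ∑ i, TensorProduct.map (b.coord i) LinearMap.id
        (nabla (φ (b i)) - TensorProduct.map φ LinearMap.id (nabla (b i))) := by
    rw [htr, map_sum_smul]
    refine Finset.sum_congr rfl (fun i _ => ?_)
    rw [one_smul, ← hE φ (b i), ← LinearMap.comp_apply, ← TensorProduct.map_comp, LinearMap.id_comp]
  change Conn.triv δ (LinearMap.trace B M φ) = _
  rw [h1, Conn.triv_apply, htrφ, map_sum, TensorProduct.tmul_sum]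
  have h2 : ∀ i, TensorProduct.map (b.coord i) LinearMap.id
        (nabla (φ (b i)) - TensorProduct.map φ LinearMap.id (nabla (b i))) =
      (∑ j, a j i • Γ i j + (1 : B) ⊗ₜ[B] δ (a i i)) - ∑ l, a i l • Γ l i := by
    intro i
    rw [map_sub, key1]
    congr 1
    rw [← LinearMap.comp_apply, ← TensorProduct.map_comp, LinearMap.id_comp, key2]
    rfl
  simp only [h2, Finset.sum_sub_distrib, Finset.sum_add_distrib]
  have h3 : ∑ i, ∑ j, a j i • Γ i j = ∑ i, ∑ l, a i l • Γ l i := Finset.sum_comm
  rw [h3]
  abel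

end S16661aux

namespace Groth.Agent.S16661

/-- Let B be an A-algebra with a receptacle of differentials (Ω, δ), Ω a finite free B-module (the
affine-local form of differentials locally free of finite type), let M be a finite free B-module
(the local form of a vector bundle) with a connection ∇ : M → M ⊗ Ω, and let ∇_E be the induced
connection on the B-linear endomorphisms of M, the one with (ev_m ⊗ 1)(∇_E φ) = ∇(φ m) − (φ ⊗ 1)(∇
m). Give B the connection b ↦ 1 ⊗ δ b. Then the trace map End_B(M) → B is horizontal: 1 ⊗ δ(tr φ) =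
(tr ⊗ 1)(∇_E φ) for every endomorphism φ. -/
theorem result {A : Type v} {B Ω M : Type u}
    [CommRing A] [CommRing B] [Algebra A B]
    [AddCommGroup Ω] [Module B Ω] [Module A Ω] [IsScalarTower A B Ω] [Module.Finite B Ω] [Module.Free B Ω]
    [AddCommGroup M] [Module B M] [Module A M] [IsScalarTower A B M] [Module.Finite B M] [Module.Free B M]
    (δ : Derivation A B Ω) (nabla : M →ₗ[A] M ⊗[B] Ω) (hc : Conn.IsConn δ nabla)
    (nablaE : (M →ₗ[B] M) →ₗ[A] (M →ₗ[B] M) ⊗[B] Ω) (hE : Conn.IsHomConn nabla nabla nablaE) :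
    Conn.IsHorizontal nablaE (Conn.triv δ) (LinearMap.trace B M) := by
  exact S16661aux.main δ nabla hc nablaE hE

end Groth.Agent.S16661
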