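import Groth.Statements.S16663
import Mathlib
import Groth.Agent.Lib.Helper8.ConnHom
import Groth.Agent.S16661

set_option autoImplicit false
universe v u
open TensorProduct
open Conn

namespace S16663aux
open TensorProduct Groth.Agent.Lib.Helper8.ConnHom

theorem main {A : Type v} {B Ω ι : Type u}
    [CommRing A] [CommRing B] [Algebra A B]
    [AddCommGroup Ω] [Module B Ω] [Module A Ω] [IsScalarTower A B Ω] [Module.Finite B Ω] [Module.Free B Ω]
    [Fintype ι] [DecidableEq ι] (deg : ι → ℤ) (M : ι → Type u)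
    [∀ i, AddCommGroup (M i)] [∀ i, Module B (M i)] [∀ i, Module A (M i)] [∀ i, IsScalarTower A B (M i)]
    [∀ i, Module.Free B (M i)] [∀ i, Module.Finite B (M i)]
    (δ : Derivation A B Ω) (nabla : (Π k, M k) →ₗ[A] (Π k, M k) ⊗[B] Ω) (hc : Conn.IsConn δ nabla)
    (hgr : ∀ i j : ι, deg i ≠ deg j → ∀ m : M i,
      TensorProduct.map (LinearMap.proj j : (Π k, M k) →ₗ[B] M j) LinearMap.id (nabla (LinearMap.single B M i m)) = 0)
    (nablaE : ((Π k, M k) →ₗ[B] (Π k, M k)) →ₗ[A] ((Π k, M k) →ₗ[B] (Π k, M k)) ⊗[B] Ω)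
    (hE : Conn.IsHomConn nabla nabla nablaE) :
    Conn.IsHorizontal nablaE (Conn.triv δ)
      (LinearMap.trace B (Π k, M k) ∘ₗ LinearMap.llcomp B (Π k, M k) (Π k, M k) (Π k, M k)
        (∑ i : ι, (LinearMap.single B M i) ∘ₗ (((-1 : B) ^ (deg i).natAbs) • (LinearMap.proj i : (Π k, M k) →ₗ[B] M i)))) := by
  set s : ι → B := fun i => (-1 : B) ^ (deg i).natAbs with hs
  set ε : (Π k, M k) →ₗ[B] (Π k, M k) :=
    ∑ i : ι, (LinearMap.single B M i) ∘ₗ (s i • (LinearMap.proj i : (Π k, M k) →ₗ[B] M i)) with hε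
  have hε' : ε = ∑ i : ι, s i • ((LinearMap.single B M i) ∘ₗ (LinearMap.proj i : (Π k, M k) →ₗ[B] M i)) := by
    rw [hε]
    refine Finset.sum_congr rfl (fun i _ => ?_)
    rw [LinearMap.comp_smul]
  have hid : ∑ j : ι, (LinearMap.single B M j) ∘ₗ (LinearMap.proj j : (Π k, M k) →ₗ[B] M j) =
      LinearMap.id := by
    ext m k
    simp [Finset.sum_apply]
  have hδs : ∀ i, δ (s i) = 0 := by
    intro i
    have h1 : δ (-1 : B) = 0 := by rw [map_neg, Derivation.map_one_eq_zero, neg_zero]
    rw [hs]
    simp only [Derivation.leibniz_pow, h1, smul_zero]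
  -- ε is horizontal
  have hor_single : ∀ (i : ι) (mi : M i),
      nabla (ε (LinearMap.single B M i mi)) =
        TensorProduct.map ε LinearMap.id (nabla (LinearMap.single B M i mi)) := by
    intro i mi
    have h1 : ε (LinearMap.single B M i mi) = s i • LinearMap.single B M i mi := by
      rw [hε]
      ext k
      simp only [LinearMap.sum_apply, LinearMap.comp_apply, LinearMap.smul_apply, LinearMap.proj_apply,
        LinearMap.single_apply, Finset.sum_apply, Pi.smul_apply]
      by_cases hk : k = i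
      · subst hk
        simp [Pi.single_apply]
      · simp [hk, Ne.symm hk]
    rw [h1, hc, hδs, TensorProduct.tmul_zero, add_zero, hε', S16661aux.map_sum_smul]
    have h2 : ∀ j, s j • TensorProduct.map ((LinearMap.single B M j) ∘ₗ
        (LinearMap.proj j : (Π k, M k) →ₗ[B] M j)) LinearMap.id (nabla (LinearMap.single B M i mi)) =
        s i • TensorProduct.map ((LinearMap.single B M j) ∘ₗ
        (LinearMap.proj j : (Π k, M k) →ₗ[B] M j)) LinearMap.id (nabla (LinearMap.single B M i mi)) := by
      intro j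
      by_cases hd : deg i = deg j
      · simp only [hs, hd]
      · have h3 : TensorProduct.map ((LinearMap.single B M j) ∘ₗ
            (LinearMap.proj j : (Π k, M k) →ₗ[B] M j)) LinearMap.id
            (nabla (LinearMap.single B M i mi)) = 0 := by
          have : ((LinearMap.single B M j) ∘ₗ (LinearMap.proj j : (Π k, M k) →ₗ[B] M j)) =
              (LinearMap.single B M j) ∘ₗ (LinearMap.proj j : (Π k, M k) →ₗ[B] M j) := rfl
          rw [← LinearMap.comp_id (LinearMap.id : Ω →ₗ[B] Ω), TensorProduct.map_comp,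
            LinearMap.comp_apply, hgr i j hd mi, map_zero]
        rw [h3, smul_zero, smul_zero]
    rw [Finset.sum_congr rfl (fun j _ => h2 j), ← Finset.smul_sum]
    congr 1
    have h4 := S16661aux.map_sum_smul (Ω := Ω) Finset.univ (fun _ : ι => (1 : B))
      (fun j => (LinearMap.single B M j) ∘ₗ (LinearMap.proj j : (Π k, M k) →ₗ[B] M j))
      (nabla (LinearMap.single B M i mi))
    simp only [one_smul] at h4
    rw [← h4, hid, TensorProduct.map_id, LinearMap.id_apply]
  have hor : ∀ m : (Π k, M k), nabla (ε m) = TensorProduct.map ε LinearMap.id (nabla m) := by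
    intro m
    have hm : m = ∑ i, LinearMap.single B M i (m i) := by
      ext k
      simp [Finset.sum_apply, Pi.single_apply]
    rw [hm]
    simp only [map_sum]
    exact Finset.sum_congr rfl (fun i _ => hor_single i (m i))
  -- main
  have key : ∀ φ : (Π k, M k) →ₗ[B] (Π k, M k), nablaE (ε ∘ₗ φ) =
      TensorProduct.map (LinearMap.llcomp B (Π k, M k) (Π k, M k) (Π k, M k) ε) LinearMap.id
        (nablaE φ) := by
    intro φ
    apply ext_of_eval
    intro e
    have h5 : ∀ x : ((Π k, M k) →ₗ[B] (Π k, M k)) ⊗[B] Ω,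
        TensorProduct.map (LinearMap.applyₗ e : ((Π k, M k) →ₗ[B] (Π k, M k)) →ₗ[B] (Π k, M k))
          LinearMap.id
          (TensorProduct.map (LinearMap.llcomp B (Π k, M k) (Π k, M k) (Π k, M k) ε)
            LinearMap.id x) =
        TensorProduct.map ε LinearMap.id
          (TensorProduct.map (LinearMap.applyₗ e :
            ((Π k, M k) →ₗ[B] (Π k, M k)) →ₗ[B] (Π k, M k)) LinearMap.id x) := by
      intro x
      induction x using TensorProduct.induction_on with
      | zero => simp
      | tmul ψ ω => simp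
      | add x y hx hy => simp only [map_add, hx, hy]
    have h6 : ∀ y : (Π k, M k) ⊗[B] Ω,
        TensorProduct.map (ε ∘ₗ φ) LinearMap.id y =
          TensorProduct.map ε LinearMap.id (TensorProduct.map φ LinearMap.id y) := by
      intro y
      induction y using TensorProduct.induction_on with
      | zero => simp
      | tmul m ω => simp
      | add x y hx hy => simp only [map_add, hx, hy]
    rw [hE (ε ∘ₗ φ) e, h5, hE φ e, map_sub, LinearMap.comp_apply, hor, h6]
  intro φ
  have h6 := S16661aux.main δ nabla hc nablaE hE (ε ∘ₗ φ)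
  rw [LinearMap.comp_apply]
  have h7 : (LinearMap.llcomp B (Π k, M k) (Π k, M k) (Π k, M k) ε) φ = ε ∘ₗ φ := rfl
  rw [h7, h6, key, ← LinearMap.comp_apply, ← TensorProduct.map_comp, LinearMap.id_comp]

end S16663aux

namespace Groth.Agent.S16663

/-- Let B be an A-algebra with a receptacle of differentials (Ω, δ), Ω a finite free B-module (the local
form of a weakly smooth scheme), and let M be a finitely ℤ-graded B-module presented as a finite
family of finite free B-modules M_i with integer degrees deg i (the local form of a graded vector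
bundle), with total module Π_i M_i. Let ∇ be a connection on Π_i M_i preserving the grading, in the
sense that (pr_j ⊗ 1)(∇(ι_i m)) = 0 for m ∈ M_i whenever deg i ≠ deg j, and let ∇_E be the induced
connection on the B-linear endomorphisms, the one with (ev_m ⊗ 1)(∇_E φ) = ∇(φ m) − (φ ⊗ 1)(∇ m).
Give B the connection b ↦ 1 ⊗ δ b. Then the supertrace, φ ↦ tr(ε ∘ φ) with ε = Σ_i (−1)^{deg i} ι_i
∘ pr_i the grading involution, is a horizontal map End_B(Π_i M_i) → B. -/
theorem result {A : Type v} {B Ω ι : Type u}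
    [CommRing A] [CommRing B] [Algebra A B]
    [AddCommGroup Ω] [Module B Ω] [Module A Ω] [IsScalarTower A B Ω] [Module.Finite B Ω] [Module.Free B Ω]
    [Fintype ι] [DecidableEq ι] (deg : ι → ℤ) (M : ι → Type u)
    [∀ i, AddCommGroup (M i)] [∀ i, Module B (M i)] [∀ i, Module A (M i)] [∀ i, IsScalarTower A B (M i)]
    [∀ i, Module.Free B (M i)] [∀ i, Module.Finite B (M i)]
    (δ : Derivation A B Ω) (nabla : (Π k, M k) →ₗ[A] (Π k, M k) ⊗[B] Ω) (hc : Conn.IsConn δ nabla)
    (hgr : ∀ i j : ι, deg i ≠ deg j → ∀ m : M i,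
      TensorProduct.map (LinearMap.proj j : (Π k, M k) →ₗ[B] M j) LinearMap.id (nabla (LinearMap.single B M i m)) = 0)
    (nablaE : ((Π k, M k) →ₗ[B] (Π k, M k)) →ₗ[A] ((Π k, M k) →ₗ[B] (Π k, M k)) ⊗[B] Ω)
    (hE : Conn.IsHomConn nabla nabla nablaE) :
    Conn.IsHorizontal nablaE (Conn.triv δ)
      (LinearMap.trace B (Π k, M k) ∘ₗ LinearMap.llcomp B (Π k, M k) (Π k, M k) (Π k, M k)
        (∑ i : ι, (LinearMap.single B M i) ∘ₗ (((-1 : B) ^ (deg i).natAbs) • (LinearMap.proj i : (Π k, M k) →ₗ[B] M i)))) := by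
  exact S16663aux.main deg M δ nabla hc hgr nablaE hE

end Groth.Agent.S16663
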