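import Groth.Statements.S16664
import Mathlib
import Groth.Agent.Lib.Helper8.ConnHom

set_option autoImplicit false
universe v u
open TensorProduct
open Conn

namespace S16664aux
open TensorProduct Groth.Agent.Lib.Helper8.ConnHom

variable {A : Type v} {B Ω M : Type u}
    [CommRing A] [CommRing B] [Algebra A B]
    [AddCommGroup Ω] [Module B Ω] [Module A Ω] [IsScalarTower A B Ω]
    [AddCommGroup M] [Module B M] [Module A M] [IsScalarTower A B M]

omit [Module A Ω] [IsScalarTower A B Ω] in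
lemma along_eq_ctr {H : Type u} [AddCommGroup H] [Module B H] [Module A H] [IsScalarTower A B H]
    (n : H →ₗ[A] H ⊗[B] Ω) (θ : Ω →ₗ[B] B) (h : H) :
    Conn.along n θ h = ctr H θ (n h) := rfl

omit [Module A Ω] [IsScalarTower A B Ω] in
lemma along_apply_eval (nabla : M →ₗ[A] M ⊗[B] Ω)
    (nablaE : (M →ₗ[B] M) →ₗ[A] (M →ₗ[B] M) ⊗[B] Ω) (hE : Conn.IsHomConn nabla nabla nablaE)
    (θ : Ω →ₗ[B] B) (χ : M →ₗ[B] M) (e : M) :
    (Conn.along nablaE θ χ) e = Conn.along nabla θ (χ e) - χ (Conn.along nabla θ e) := by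
  rw [along_eq_ctr, along_eq_ctr, along_eq_ctr]
  have h1 : (ctr (M →ₗ[B] M) θ (nablaE χ)) e =
      ctr M θ (TensorProduct.map (LinearMap.applyₗ e : (M →ₗ[B] M) →ₗ[B] M) LinearMap.id
        (nablaE χ)) := by
    rw [ctr_map]; rfl
  rw [h1, hE χ e, map_sub, ctr_map]

omit [Module A Ω] [IsScalarTower A B Ω] in
lemma along_comp (nabla : M →ₗ[A] M ⊗[B] Ω)
    (nablaE : (M →ₗ[B] M) →ₗ[A] (M →ₗ[B] M) ⊗[B] Ω) (hE : Conn.IsHomConn nabla nabla nablaE)
    (θ : Ω →ₗ[B] B) (ψ χ : M →ₗ[B] M) :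
    Conn.along nablaE θ (ψ ∘ₗ χ) =
      Conn.along nablaE θ ψ ∘ₗ χ + ψ ∘ₗ Conn.along nablaE θ χ := by
  ext e
  simp only [LinearMap.add_apply, LinearMap.comp_apply, along_apply_eval nabla nablaE hE, map_sub]
  abel

omit [Module A Ω] [IsScalarTower A B Ω] in
theorem main (nabla : M →ₗ[A] M ⊗[B] Ω)
    (nablaE : (M →ₗ[B] M) →ₗ[A] (M →ₗ[B] M) ⊗[B] Ω) (hE : Conn.IsHomConn nabla nabla nablaE)
    (θq θr : Ω →ₗ[B] B) (φ : M →ₗ[B] M)
    (hr : φ ∘ₗ Conn.along nablaE θr φ + Conn.along nablaE θr φ ∘ₗ φ = 0) :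
    φ ∘ₗ Conn.along nablaE θq (Conn.along nablaE θr φ)
      + Conn.along nablaE θq (Conn.along nablaE θr φ) ∘ₗ φ
      + Conn.along nablaE θq φ ∘ₗ Conn.along nablaE θr φ
      + Conn.along nablaE θr φ ∘ₗ Conn.along nablaE θq φ = 0 := by
  have h := congrArg (Conn.along nablaE θq) hr
  rw [map_add, map_zero, along_comp nabla nablaE hE, along_comp nabla nablaE hE] at h
  rw [← h]
  abel

end S16664aux

namespace Groth.Agent.S16664

/-- Let B be an A-algebra with a receptacle of differentials (Ω, δ), Ω free on a finite basis ω_1, …,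
ω_n, let M be a finitely presented B-module with a connection ∇, let ∇_E be the induced connection
on the B-linear endomorphisms of M (the one with (ev_m ⊗ 1)(∇_E φ) = ∇(φ m) − (φ ⊗ 1)(∇ m)), and for
each q let ∇_q = (1 ⊗ ω_q^*) ∘ ∇_E be the covariant derivative on End_B(M) along the q-th vector of
the dual basis. If an endomorphism φ satisfies φ ∘ ∇_q(φ) + ∇_q(φ) ∘ φ = 0 for every q, then for all
q, r one has φ ∘ ∇_q(∇_r(φ)) + ∇_q(∇_r(φ)) ∘ φ + ∇_q(φ) ∘ ∇_r(φ) + ∇_r(φ) ∘ ∇_q(φ) = 0. (The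
published statement takes M graded with ∇ preserving the grading and φ of odd degree, and is written
with supercommutators; for such φ the supercommutators in question are exactly these
anticommutators, and the identity holds for an arbitrary endomorphism.) -/
theorem result {A : Type v} {B Ω M : Type u}
    [CommRing A] [CommRing B] [Algebra A B]
    [AddCommGroup Ω] [Module B Ω] [Module A Ω] [IsScalarTower A B Ω] {n : ℕ} (bΩ : Module.Basis (Fin n) B Ω)
    [AddCommGroup M] [Module B M] [Module A M] [IsScalarTower A B M] [Module.FinitePresentation B M]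
    (δ : Derivation A B Ω) (nabla : M →ₗ[A] M ⊗[B] Ω) (hc : Conn.IsConn δ nabla)
    (nablaE : (M →ₗ[B] M) →ₗ[A] (M →ₗ[B] M) ⊗[B] Ω) (hE : Conn.IsHomConn nabla nabla nablaE)
    (φ : M →ₗ[B] M)
    (hφ : ∀ q : Fin n, φ ∘ₗ Conn.along nablaE (bΩ.coord q) φ + Conn.along nablaE (bΩ.coord q) φ ∘ₗ φ = 0)
    (q r : Fin n) :
    φ ∘ₗ Conn.along nablaE (bΩ.coord q) (Conn.along nablaE (bΩ.coord r) φ)
      + Conn.along nablaE (bΩ.coord q) (Conn.along nablaE (bΩ.coord r) φ) ∘ₗ φ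
      + Conn.along nablaE (bΩ.coord q) φ ∘ₗ Conn.along nablaE (bΩ.coord r) φ
      + Conn.along nablaE (bΩ.coord r) φ ∘ₗ Conn.along nablaE (bΩ.coord q) φ = 0 := by
  exact S16664aux.main nabla nablaE hE (bΩ.coord q) (bΩ.coord r) φ (hφ r)

end Groth.Agent.S16664
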