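import Groth.Statements.S16667
import Mathlib
import Groth.Agent.Lib.Helper16.DepthExt

set_option autoImplicit false
universe u
open CAlg

namespace S16667aux
open CategoryTheory Groth.Agent.Lib.Helper16.Depth

theorem depth_eq_one {R : Type u} [CommRing R] [IsNoetherianRing R] [IsLocalRing R]
    (a z : R) (ha : a ∈ IsLocalRing.maximalIdeal R) (hreg : IsSMulRegular R a)
    (hz : z ∉ Ideal.span {a}) (hmz : ∀ r ∈ IsLocalRing.maximalIdeal R, r * z ∈ Ideal.span {a}) :
    LocCoh.depth R R = 1 := by
  set m := IsLocalRing.maximalIdeal R with hm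
  have hIM : m • (⊤ : Submodule R R) ≠ ⊤ := by
    rw [Ideal.smul_top_eq_map, Algebra.algebraMap_self, Ideal.map_id]
    intro h
    exact (IsLocalRing.maximalIdeal.isMaximal R).ne_top (by simpa using h)
  have h1 : (1 : ℕ∞) ≤ LocCoh.depth R R := by
    have : ((1 : ℕ) : ℕ∞) ≤ LocCoh.idealDepth m R := by
      rw [le_idealDepth_iff]
      right
      exact HasRegSeq.cons ha hreg HasRegSeq.zero
    exact_mod_cast this
  have h2 : ¬ ((2 : ℕ) : ℕ∞) ≤ LocCoh.idealDepth m R := by
    intro h
    have hext := (le_idealDepth_iff_ext' m R 2).mp h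
    have e0 := hext 0 (by norm_num)
    have e1 := hext 1 (by norm_num)
    let f : R →ₗ[R] R := LinearMap.lsmul R R a
    let g : R →ₗ[R] (R ⧸ Ideal.span {a}) := Submodule.mkQ (Ideal.span {a})
    have hf : Function.Injective f := hreg
    have hg : Function.Surjective g := Submodule.mkQ_surjective _
    have hfg : Function.Exact f g := by
      intro y
      constructor
      · intro hy
        have : y ∈ Ideal.span {a} := (Submodule.Quotient.mk_eq_zero _).mp hy
        obtain ⟨c, rfl⟩ := Ideal.mem_span_singleton'.mp this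
        exact ⟨c, by simp [f, mul_comm]⟩
      · rintro ⟨c, rfl⟩
        refine (Submodule.Quotient.mk_eq_zero _).mpr ?_
        exact Ideal.mem_span_singleton'.mpr ⟨c, by simp [f, mul_comm]⟩
    have hS := shortExact_of_linearMaps f g hf hg hfg
    have e3 := ext_X₃ hS (ModuleCat.of R (R ⧸ m)) 0 e0 e1
    -- a nonzero hom R/m → R/(a)
    let φ0 : R →ₗ[R] (R ⧸ Ideal.span {a}) :=
      LinearMap.toSpanSingleton R (R ⧸ Ideal.span {a}) (Ideal.Quotient.mk _ z)
    have hφ0 : m ≤ LinearMap.ker φ0 := by
      intro r hr
      rw [LinearMap.mem_ker]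
      change r • (Ideal.Quotient.mk (Ideal.span {a}) z) = 0
      rw [← Ideal.Quotient.mk_eq_mk, ← Submodule.Quotient.mk_smul, smul_eq_mul]
      exact (Submodule.Quotient.mk_eq_zero _).mpr (hmz r hr)
    let φ : (R ⧸ m) →ₗ[R] (R ⧸ Ideal.span {a}) := Submodule.liftQ m φ0 hφ0
    have hφ1 : φ (Submodule.Quotient.mk 1) = Ideal.Quotient.mk _ z := by
      change Submodule.liftQ m φ0 hφ0 (Submodule.Quotient.mk 1) = _
      rw [Submodule.liftQ_apply]
      simp [φ0]
    have hφne : φ ≠ 0 := by
      intro h0
      rw [h0, LinearMap.zero_apply] at hφ1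
      exact hz (Ideal.Quotient.eq_zero_iff_mem.mp hφ1.symm)
    have := Subsingleton.elim (Abelian.Ext.mk₀ (ModuleCat.ofHom φ))
      (Abelian.Ext.mk₀ (0 : ModuleCat.of R (R ⧸ m) ⟶ ModuleCat.of R (R ⧸ Ideal.span {a})))
    have h4 := (Abelian.Ext.mk₀_bijective _ _).1 this
    apply hφne
    have h5 := congrArg ModuleCat.Hom.hom h4
    simpa using h5
  change LocCoh.idealDepth m R = 1
  have h1' : (1 : ℕ∞) ≤ LocCoh.idealDepth m R := h1
  by_contra hne
  have hlt : (1 : ℕ∞) < LocCoh.idealDepth m R := lt_of_le_of_ne h1' (Ne.symm hne)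
  have := Order.add_one_le_of_lt hlt
  apply h2
  have h22 : ((2 : ℕ) : ℕ∞) = 1 + 1 := by norm_num
  rw [h22]
  exact this

theorem main {A : Type u} [CommRing A] [IsDomain A] [IsNoetherianRing A] (x : FractionRing A)
    (hx : ∀ (p : Ideal A) [p.IsPrime],
      LocCoh.depth (Localization.AtPrime p) (Localization.AtPrime p) = 1 →
        x ∈ Set.range (algebraMap (Localization.AtPrime p) (FractionRing A))) :
    x ∈ Set.range (algebraMap A (FractionRing A)) := by
  by_contra hxA
  let N : Submodule A (FractionRing A) := LinearMap.range (Algebra.linearMap A (FractionRing A))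
  have hN : ∀ v : FractionRing A, v ∈ N ↔ ∃ t : A, algebraMap A (FractionRing A) t = v := by
    intro v
    simp [N, LinearMap.mem_range]
  have hxN : (Submodule.Quotient.mk x : FractionRing A ⧸ N) ≠ 0 := by
    rw [Ne, Submodule.Quotient.mk_eq_zero, hN]
    exact hxA
  obtain ⟨P, hP, hle⟩ := exists_le_isAssociatedPrime_of_isNoetherianRing A
    (Submodule.Quotient.mk x : FractionRing A ⧸ N) hxN
  rw [isAssociatedPrime_iff] at hP
  obtain ⟨hPprime, ybar, hPy⟩ := hP
  obtain ⟨y, rfl⟩ := Submodule.Quotient.mk_surjective _ ybar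
  have hmemP : ∀ r : A, r ∈ P ↔ r • y ∈ N := by
    intro r
    rw [hPy, Submodule.mem_colon_singleton, ← Submodule.Quotient.mk_smul, Submodule.mem_bot,
      Submodule.Quotient.mk_eq_zero]
  have hI : ∀ r : A, r • x ∈ N → r ∈ P := by
    intro r hr
    apply hle
    rw [Submodule.mem_colon_singleton, ← Submodule.Quotient.mk_smul, Submodule.mem_bot,
      Submodule.Quotient.mk_eq_zero]
    exact hr
  have hyN : y ∉ N := by
    intro h
    have : (1 : A) ∈ P := (hmemP 1).mpr (by simpa using h)
    exact hPprime.ne_top ((Ideal.eq_top_iff_one _).mpr this)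
  -- elements coming from the localization
  have hQ : ∀ v : FractionRing A,
      v ∈ Set.range (algebraMap (Localization.AtPrime P) (FractionRing A)) →
      ∃ s : A, s ∉ P ∧ s • v ∈ N := by
    rintro v ⟨w, rfl⟩
    obtain ⟨⟨u, s⟩, hus⟩ := IsLocalization.surj P.primeCompl w
    refine ⟨s.1, s.2, ?_⟩
    rw [hN]
    refine ⟨u, ?_⟩
    rw [Algebra.smul_def, IsScalarTower.algebraMap_apply A (Localization.AtPrime P) (FractionRing A) u,
      ← hus, map_mul, ← IsScalarTower.algebraMap_apply, mul_comm]
  -- the denominators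
  obtain ⟨⟨n, d⟩, hnd⟩ := IsLocalization.surj (nonZeroDivisors A) y
  have hd0 : (d : A) ≠ 0 := nonZeroDivisors.ne_zero d.2
  have hdy : (d : A) • y = algebraMap A (FractionRing A) n := by
    rw [Algebra.smul_def, mul_comm]; exact hnd
  have hdP : (d : A) ∈ P := (hmemP _).mpr ((hN _).mpr ⟨n, hdy.symm⟩)
  have hinjA : Function.Injective (algebraMap A (FractionRing A)) := IsFractionRing.injective _ _
  have hinjR : Function.Injective (algebraMap (Localization.AtPrime P) (FractionRing A)) :=
    IsFractionRing.injective _ _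
  have hdepth : LocCoh.depth (Localization.AtPrime P) (Localization.AtPrime P) = 1 := by
    refine depth_eq_one (algebraMap A (Localization.AtPrime P) d)
      (algebraMap A (Localization.AtPrime P) n) ?_ ?_ ?_ ?_
    · exact (IsLocalization.AtPrime.to_map_mem_maximal_iff _ P _).mpr hdP
    · have hne : algebraMap A (Localization.AtPrime P) d ≠ 0 := by
        intro h0
        apply hd0
        apply hinjA
        rw [IsScalarTower.algebraMap_apply A (Localization.AtPrime P) (FractionRing A), h0, map_zero,
          map_zero]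
      exact (IsRegular.of_ne_zero hne).left.isSMulRegular
    · intro hmem
      obtain ⟨w, hw⟩ := Ideal.mem_span_singleton'.mp hmem
      -- y = algebraMap w
      have hyw : y = algebraMap (Localization.AtPrime P) (FractionRing A) w := by
        have h1 := congrArg (algebraMap (Localization.AtPrime P) (FractionRing A)) hw
        rw [map_mul, ← IsScalarTower.algebraMap_apply, ← IsScalarTower.algebraMap_apply, ← hdy,
          Algebra.smul_def, mul_comm] at h1
        have hd0' : algebraMap A (FractionRing A) d ≠ 0 := by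
          intro h0; exact hd0 (hinjA (by rw [h0, map_zero]))
        exact (mul_left_cancel₀ hd0' h1).symm
      obtain ⟨s, hsP, hsN⟩ := hQ y ⟨w, hyw.symm⟩
      exact hsP ((hmemP s).mpr hsN)
    · intro r hr
      obtain ⟨⟨r0, s⟩, hrs⟩ := IsLocalization.surj P.primeCompl r
      have hr0 : algebraMap A (Localization.AtPrime P) r0 ∈
          IsLocalRing.maximalIdeal (Localization.AtPrime P) := by
        rw [← hrs]
        exact Ideal.mul_mem_right _ _ hr
      have hr0P : r0 ∈ P := (IsLocalization.AtPrime.to_map_mem_maximal_iff _ P _).mp hr0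
      obtain ⟨t, ht⟩ := (hN _).mp ((hmemP r0).mp hr0P)
      have hprod : r0 * n = (d : A) * t := by
        apply hinjA
        rw [map_mul, map_mul, ← hdy, ht, Algebra.smul_def, Algebra.smul_def]
        ring
      have hunit : IsUnit (algebraMap A (Localization.AtPrime P) s) :=
        IsLocalization.map_units _ s
      obtain ⟨us, hus⟩ := hunit
      have hr' : r = algebraMap A (Localization.AtPrime P) r0 * ↑us⁻¹ := by
        rw [← hrs, ← hus, mul_assoc, Units.mul_inv, mul_one]
      rw [hr', mul_right_comm, ← map_mul, hprod, map_mul, mul_assoc]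
      exact Ideal.mul_mem_right _ _ (Ideal.mem_span_singleton_self _)
  obtain ⟨s, hsP, hsN⟩ := hQ x (hx P hdepth)
  exact hsP (hI s hsN)

end S16667aux

namespace Groth.Agent.S16667

/-- Let A be a Noetherian integral domain satisfying Serre's condition (S_2), with fraction field K. An
element of K which lies in the localization A_p for every prime p of A with depth(A_p) = 1 lies in
A. -/
theorem result {A : Type u} [CommRing A] [IsDomain A]
    [IsNoetherianRing A] (hS2 : LocCoh.HasSk 2 A A) (x : FractionRing A)
    (hx : ∀ (p : Ideal A) [p.IsPrime],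
      LocCoh.depth (Localization.AtPrime p) (Localization.AtPrime p) = 1 →
        x ∈ Set.range (algebraMap (Localization.AtPrime p) (FractionRing A))) :
    x ∈ Set.range (algebraMap A (FractionRing A)) := by
  exact S16667aux.main x hx

end Groth.Agent.S16667
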