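import Groth.Statements.S16676
import Mathlib
import Groth.Agent.Lib.Helper8.Shear

set_option autoImplicit false
universe u
open CategoryTheory CategoryTheory.Limits MonoidalCategory CartesianMonoidalCategory MonObj GrpObj AlgebraicGeometry
open AbVar

open CategoryTheory CategoryTheory.Limits MonoidalCategory CartesianMonoidalCategory MonObj GrpObj AlgebraicGeometry

namespace S16676aux
open CategoryTheory CategoryTheory.Limits MonoidalCategory CartesianMonoidalCategory MonObj GrpObj AlgebraicGeometry
open Groth.Agent.Lib.Helper8.Shear

theorem main (k : Type u) [Field k]
    (X Y : Over (Spec (CommRingCat.of k)))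
    [GrpObj X] [GrpObj Y]
    (f : X ⟶ Y) [IsMonHom f] [IsFinite f.left] [Flat f.left] [Surjective f.left]
    (N : Over (Spec (CommRingCat.of k))) (i : N ⟶ X) (hN : AlgGrp.IsKernel i f) :
    UniversallyInjective f.left ↔ ConnectedSpace ↥N.left := by
  obtain ⟨e, he⟩ := exists_section f i hN
  have hne : Nonempty ↥N.left := ⟨e default⟩
  constructor
  · intro h
    have h1 : UniversallyInjective N.hom := kernel_of (P := @UniversallyInjective) f i hN h
    have h2 : Subsingleton ↥N.left := ⟨fun a b => N.hom.injective (Subsingleton.elim _ _)⟩
    exact { toPreconnectedSpace := inferInstance, toNonempty := hne }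
  · intro h
    have hfin : IsFinite N.hom := kernel_of (P := @IsFinite) f i hN inferInstance
    have : IsLocallyArtinian N.left := IsLocallyArtinian.of_locallyQuasiFinite N.hom
    have : DiscreteTopology ↥N.left := inferInstance
    have h2 : Subsingleton ↥N.left := PreconnectedSpace.trivial_of_discrete
    have : Surjective e := ⟨fun y => ⟨default, Subsingleton.elim _ _⟩⟩
    have h1 : UniversallyInjective N.hom := universallyInjective_of_section N.hom e he
    exact of_kernel (P := @UniversallyInjective) f i hN h1

end S16676aux

namespace Groth.Agent.S16676

/-- The equivalence of its second and third conditions. Let X and Y be abelian varieties over a field k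
(proper, geometrically integral k-group schemes), f : X → Y a homomorphism which is finite, flat and
surjective (an isogeny), and i : N → X the kernel of f (the square formed by i, f, the unit section
of Y and the structure map of N is cartesian). Then f is universally injective (a purely inseparable
morphism) if and only if the scheme N is connected. (The published item also includes the equivalent
condition that the function field of X is purely inseparable over that of Y; that clause is not part
of this statement.) -/
theorem result (k : Type u) [Field k]
    (X Y : Over (Spec (CommRingCat.of k)))
    [GrpObj X] [IsProper X.hom] [GeometricallyIntegral X.hom]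
    [GrpObj Y] [IsProper Y.hom] [GeometricallyIntegral Y.hom]
    (f : X ⟶ Y) [IsMonHom f] [IsFinite f.left] [Flat f.left] [Surjective f.left]
    (N : Over (Spec (CommRingCat.of k))) (i : N ⟶ X) (hN : AlgGrp.IsKernel i f) :
    UniversallyInjective f.left ↔ ConnectedSpace ↥N.left := by
  exact S16676aux.main k X Y f N i hN

end Groth.Agent.S16676
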