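import Groth.Statements.S7599
import Groth.Agent.Lib.Helper1.FPS5
import Groth.Agent.Lib.Helper1.NormalField3

set_option autoImplicit false
universe u
open CategoryTheory CategoryTheory.Limits AlgebraicGeometry
attribute [local instance] Curv2.stalkAlgebra
open scoped TensorProduct
open Variety

namespace Groth.Agent.S7599

/-- Let X be a scheme over a field k and x a point of X. These conditions are equivalent: (1) the scheme
X is geometrically normal at x (meaning: for any extension field k' and any point x' of X_{k'} over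
x the local ring O_{X_{k'}, x'} is an integrally closed domain); (2) the same for the finite purely
inseparable extensions k' of k only; (3) for every extension field k' of k the ring k' ⊗_k O_{X, x}
is normal (all its localisations at primes are integrally closed domains). Stated as (1) ↔ (2)
together with (2) ↔ (3). -/
theorem result (k : Type u) [Field k] (X : Scheme.{u}) [X.Over (Spec (CommRingCat.of k))] (x : ↥X) :
    ((∀ (k' : Type u) [Field k'] [Algebra k k'] (x' : ↥(Curv2.bc k X k')), Curv2.bcFst k X k' x' = x →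
          IsDomain ↥((Curv2.bc k X k').presheaf.stalk x') ∧ IsIntegrallyClosed ↥((Curv2.bc k X k').presheaf.stalk x')) ↔
      (∀ (k' : Type u) [Field k'] [Algebra k k'] [FiniteDimensional k k'] [IsPurelyInseparable k k'] (x' : ↥(Curv2.bc k X k')), Curv2.bcFst k X k' x' = x →
          IsDomain ↥((Curv2.bc k X k').presheaf.stalk x') ∧ IsIntegrallyClosed ↥((Curv2.bc k X k').presheaf.stalk x'))) ∧
    ((∀ (k' : Type u) [Field k'] [Algebra k k'] [FiniteDimensional k k'] [IsPurelyInseparable k k'] (x' : ↥(Curv2.bc k X k')), Curv2.bcFst k X k' x' = x →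
          IsDomain ↥((Curv2.bc k X k').presheaf.stalk x') ∧ IsIntegrallyClosed ↥((Curv2.bc k X k').presheaf.stalk x')) ↔
      ∀ (k' : Type u) [Field k'] [Algebra k k'], EGA4.IsNormalRing (k' ⊗[k] ↥(X.presheaf.stalk x))) := by
  have h31 : (∀ (k' : Type u) [Field k'] [Algebra k k'],
      EGA4.IsNormalRing (k' ⊗[k] ↥(X.presheaf.stalk x))) →
      (∀ (k' : Type u) [Field k'] [Algebra k k'] (x' : ↥(Curv2.bc k X k')),
        Curv2.bcFst k X k' x' = x →
        IsDomain ↥((Curv2.bc k X k').presheaf.stalk x') ∧
          IsIntegrallyClosed ↥((Curv2.bc k X k').presheaf.stalk x')) := by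
    intro h3 k' _ _ x' hx
    obtain ⟨Q, -, ⟨e⟩⟩ := Groth.Agent.Lib.Helper1.FPS.bc_exists_prime k X x k' x' hx
    have h1 : EGA4.IsNormalRing (↥(X.presheaf.stalk x) ⊗[k] k') :=
      Groth.Agent.Lib.Helper18.FormFib.isNormalRing_of_ringEquiv
        (Algebra.TensorProduct.comm k k' ↥(X.presheaf.stalk x)).toRingEquiv (h3 k')
    exact Groth.Agent.Lib.Helper1.FPS.normalPair_of_ringEquiv e (h1 Q.asIdeal)
  have h23 : (∀ (k' : Type u) [Field k'] [Algebra k k'] [FiniteDimensional k k']
      [IsPurelyInseparable k k'] (x' : ↥(Curv2.bc k X k')), Curv2.bcFst k X k' x' = x →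
        IsDomain ↥((Curv2.bc k X k').presheaf.stalk x') ∧
          IsIntegrallyClosed ↥((Curv2.bc k X k').presheaf.stalk x')) →
      ∀ (k' : Type u) [Field k'] [Algebra k k'],
        EGA4.IsNormalRing (k' ⊗[k] ↥(X.presheaf.stalk x)) := by
    intro h2
    have hpi : ∀ (k' : Type u) [Field k'] [Algebra k k'], Module.Finite k k' →
        IsPurelyInseparable k k' → EGA4.IsNormalRing (k' ⊗[k] ↥(X.presheaf.stalk x)) := by
      intro k' _ _ hfin hpi
      haveI := hfin
      haveI := hpi
      have h1 : EGA4.IsNormalRing (↥(X.presheaf.stalk x) ⊗[k] k') := by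
        apply Groth.Agent.Lib.Helper1.FPS.isNormalRing_tensor_of_purelyInseparable_local k _ k'
        intro Q hQ
        obtain ⟨x', hx', ⟨e⟩⟩ := Groth.Agent.Lib.Helper1.FPS.bc_exists_point k X x k' Q hQ
        exact Groth.Agent.Lib.Helper1.FPS.normalPair_of_ringEquiv e.symm (h2 k' x' hx')
      exact Groth.Agent.Lib.Helper18.FormFib.isNormalRing_of_ringEquiv
        (Algebra.TensorProduct.comm k ↥(X.presheaf.stalk x) k').toRingEquiv h1
    intro K _ _
    apply Groth.Agent.Lib.Helper1.NormalField.isNormalRing_tensor_of_forall_fg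
    intro s
    haveI : Algebra.EssFiniteType k (IntermediateField.adjoin k (s : Set K)) :=
      IntermediateField.essFiniteType_iff.mpr (IntermediateField.fg_adjoin_finset s)
    exact Groth.Agent.Lib.Helper1.NormalField.isNormalRing_tensor_of_forall_purelyInseparable k _ hpi _
  exact ⟨⟨fun h1 k' _ _ _ _ x' hx => h1 k' x' hx, fun h2 => h31 (h23 h2)⟩,
    ⟨h23, fun h3 k' _ _ _ _ x' hx => h31 h3 k' x' hx⟩⟩

end Groth.Agent.S7599
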