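import Groth.Statements.S16760
import Groth.Agent.Lib.Helper22.EGA7.Glob8
import Groth.Agent.Lib.Helper22.EGA7.InvLift
import Groth.Agent.Lib.Helper29.IntegInv
import Groth.Agent.Lib.Helper29.Twist6
import Groth.Agent.Lib.Lead.TwistExact

set_option autoImplicit false
universe u
open PicF

namespace Groth.Agent.S16760


open AlgebraicGeometry CategoryTheory CategoryTheory.Limits in
open AlgebraicGeometry CategoryTheory CategoryTheory.Limits in
/-- Let f : X → Y be proper and flat with Y locally Noetherian, with geometrically integral fibres (X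
×_Y Spec K is an integral scheme for every field K and every Spec K → Y), and let L be an invertible
O_X-module. Then the set of points y of Y with L|_{X_y} ≅ O_{X_y} is closed. (The published
statement takes X and Y Noetherian; only local Noetherianity of Y is used.) -/
theorem result {X Y : Scheme.{u}} (f : X ⟶ Y)
    [IsProper f] [Flat f] [IsLocallyNoetherian Y]
    (hgeo : ∀ (K : Type u) [Field K] (x : Spec (CommRingCat.of K) ⟶ Y), IsIntegral (pullback f x))
    (L : X.Modules) (hL : PicF.IsInvertible L) :
    IsClosed {y : Y | Nonempty (CohIII.fiberMod f L y ≅ Coh.structureModule (f.fiber y))} := by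
  open Groth.Agent.Lib.Helper22.EGA7 Groth.Agent.Lib.Helper29.QCoh in
  classical
  let D : X.Modules := RefHull.homSh L (unitM X)
  have hD : PicF.IsInvertible D := Dual.isInvertible_dual hL
  have hcoh : ∀ {E : X.Modules}, PicF.IsInvertible E → Coh.IsCoh E := fun hE =>
    ⟨isQuasicoherent_of_isInvertible hE, isFiniteType_of_isInvertible hE⟩
  have hfl : ∀ {E : X.Modules}, PicF.IsInvertible E → FlatMod.IsFlatOver f E := fun {E} hE =>
    isFlatOver_of_isFlat f E (Groth.Agent.Lib.Lead.TwistExact.isFlat_of_isInvertible hE)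
  have hset : {y : Y | Nonempty (CohIII.fiberMod f L y ≅ Coh.structureModule (f.fiber y))} =
      {y : Y | 1 ≤ CohIII.fiberRank f L 0 y} ∩ {y : Y | 1 ≤ CohIII.fiberRank f D 0 y} := by
    ext y
    simp only [Set.mem_setOf_eq, Set.mem_inter_iff]
    haveI hZint : IsIntegral (f.fiber y) := hgeo (Y.residueField y) (Y.fromSpecResidueField y)
    have hLy : PicF.IsInvertible ((Scheme.Modules.pullback (f.fiberι y)).obj L) :=
      isInvertible_pullback (f.fiberι y) hL
    have hDy : PicF.IsInvertible ((Scheme.Modules.pullback (f.fiberι y)).obj D) :=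
      isInvertible_pullback (f.fiberι y) hD
    obtain ⟨φ₂, -⟩ := exists_pullbackTensorIso (f.fiberι y) hD hL
    let θ : CohB1.tensorMod ((Scheme.Modules.pullback (f.fiberι y)).obj D)
        ((Scheme.Modules.pullback (f.fiberι y)).obj L) ≅ unitM (f.fiber y) :=
      φ₂.symm ≪≫ (Scheme.Modules.pullback (f.fiberι y)).mapIso (Dual.dualTensorIso hL) ≪≫
        pullbackUnitIso (f.fiberι y)
    haveI finL := finite_fiberH f L (hcoh hL) (hfl hL) 0 y
    haveI finD := finite_fiberH f D (hcoh hD) (hfl hD) 0 y
    constructor
    · rintro ⟨φ⟩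
      haveI : Nontrivial (Γ(unitM (f.fiber y), ⊤) : Type u) :=
        inferInstanceAs (Nontrivial Γ(f.fiber y, ⊤))
      haveI hnt : Nontrivial ((CohIII.HAb (f.fiber y) 0).obj (unitM (f.fiber y))) :=
        (hh0 (unitM (f.fiber y))).toEquiv.nontrivial
      let φD : (Scheme.Modules.pullback (f.fiberι y)).obj D ≅ unitM (f.fiber y) :=
        (tensorUnitR _).symm ≪≫ tensorCongr (Iso.refl _) φ.symm ≪≫ θ
      constructor
      · haveI : Nontrivial (CohIII.fiberH f L y 0) :=
          ((CohIII.HAb (f.fiber y) 0).mapIso φ).addCommGroupIsoToAddEquiv.toEquiv.nontrivial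
        have h2 : 0 < Module.finrank (Y.residueField y) (CohIII.fiberH f L y 0) :=
          Module.finrank_pos
        exact h2
      · haveI : Nontrivial (CohIII.fiberH f D y 0) :=
          ((CohIII.HAb (f.fiber y) 0).mapIso φD).addCommGroupIsoToAddEquiv.toEquiv.nontrivial
        have h2 : 0 < Module.finrank (Y.residueField y) (CohIII.fiberH f D y 0) :=
          Module.finrank_pos
        exact h2
    · rintro ⟨h1, h2⟩
      haveI : Nontrivial (CohIII.fiberH f L y 0) := Module.nontrivial_of_finrank_pos h1
      haveI : Nontrivial (CohIII.fiberH f D y 0) := Module.nontrivial_of_finrank_pos h2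
      obtain ⟨v, hv⟩ := exists_ne (0 : CohIII.fiberH f L y 0)
      obtain ⟨w, hw⟩ := exists_ne (0 : CohIII.fiberH f D y 0)
      have hs : hh0 ((Scheme.Modules.pullback (f.fiberι y)).obj L) v ≠ 0 :=
        (map_ne_zero_iff _ (hh0 _).injective).mpr hv
      have ht : hh0 ((Scheme.Modules.pullback (f.fiberι y)).obj D) w ≠ 0 :=
        (map_ne_zero_iff _ (hh0 _).injective).mpr hw
      have hne : ∀ (E : (f.fiber y).Modules) (m : Γ(E, ⊤)), m ≠ 0 → homOfSection E m ≠ 0 := by
        intro E m hm h0
        apply hm
        have h3 := sval_homOfSection E m ⊤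
        rw [h0, res_self] at h3
        rw [← h3]
        rfl
      haveI : IsProper (f.fiberToSpecResidueField y) :=
        MorphismProperty.pullback_snd (P := @IsProper) f (Y.fromSpecResidueField y) inferInstance
      have hfield : IsField Γ(f.fiber y, ⊤) :=
        isField_of_universallyClosed (Y.residueField y) (f.fiberToSpecResidueField y)
      exact nonempty_iso_unit_of_inverse_sections hfield hLy hDy ⟨tensorBraid _ _ ≪≫ θ⟩
        (homOfSection _ _) (hne _ _ hs) (homOfSection _ _) (hne _ _ ht)
  rw [hset]
  exact (isClosed_setOf_le_fiberRank f L (hcoh hL) (hfl hL) 0 1).inter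
    (isClosed_setOf_le_fiberRank f D (hcoh hD) (hfl hD) 0 1)

end Groth.Agent.S16760
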