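import Groth.Statements.S16682
import Groth.Agent.S16760
import Groth.Agent.Lib.Helper22.EGA7.Seesaw
import Groth.Agent.Lib.Helper22.EGA7.InvLift
import Groth.Agent.Lib.Helper21.PropH0
import Groth.Agent.Lib.Helper24.TorsTrivA

set_option autoImplicit false
universe u
open CategoryTheory CategoryTheory.Limits MonoidalCategory CartesianMonoidalCategory AlgebraicGeometry
open AbVar

namespace Groth.Agent.S16682


/-- Let k be a field, X a proper geometrically integral k-scheme (a complete variety), Y a variety over
k (separated, of finite type, geometrically integral), and L, M two invertible modules on X ×_k Y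
(the product in the category of k-schemes). If for every closed point y of Y the restrictions of L
and M to the fibre X ×_k Spec k(y) are isomorphic, then there is an invertible O_Y-module N with L
isomorphic to M ⊗ p^*N, where p : X ×_k Y → Y is the second projection (existence of an isomorphism;
N is determined only up to isomorphism). -/
theorem result (k : Type u) [Field k]
    (X Y : Over (Spec (CommRingCat.of k)))
    [IsProper X.hom] [GeometricallyIntegral X.hom]
    [IsSeparated Y.hom] [QuasiCompact Y.hom] [LocallyOfFiniteType Y.hom] [GeometricallyIntegral Y.hom]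
    (L M : (X ⊗ Y).left.Modules) (hL : PicF.IsInvertible L) (hM : PicF.IsInvertible M)
    (h : ∀ y : ↥Y.left, IsClosed ({y} : Set ↥Y.left) →
      Nonempty ((Scheme.Modules.pullback (pullback.fst (snd X Y).left (Y.left.fromSpecResidueField y))).obj L ≅
        (Scheme.Modules.pullback (pullback.fst (snd X Y).left (Y.left.fromSpecResidueField y))).obj M)) :
    ∃ N : Y.left.Modules, PicF.IsInvertible N ∧
      Nonempty (L ≅ CohB1.tensorMod M ((Scheme.Modules.pullback (snd X Y).left).obj N)) := by
  open Groth.Agent.Lib.Helper22.EGA7 Groth.Agent.Lib.Helper29.QCoh in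
  let f : (X ⊗ Y).left ⟶ Y.left := (snd X Y).left
  have sq : IsPullback (fst X Y).left f X.hom Y.hom :=
    Groth.Agent.Lib.Helper24.TorsTriv.isPullback_left X Y
  haveI : Subsingleton ↥(Spec (CommRingCat.of k)) :=
    inferInstanceAs (Subsingleton (PrimeSpectrum k))
  haveI : Flat X.hom := inferInstance
  haveI : IsProper f := MorphismProperty.of_isPullback (P := @IsProper) sq inferInstance
  haveI : Flat f := MorphismProperty.of_isPullback (P := @Flat) sq inferInstance
  haveI : GeometricallyIntegral f :=
    MorphismProperty.of_isPullback (P := @GeometricallyIntegral) sq inferInstance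
  haveI : IsLocallyNoetherian Y.left := LocallyOfFiniteType.isLocallyNoetherian Y.hom
  haveI : IsIntegral Y.left := GeometricallyIntegral.isIntegral_of_subsingleton Y.hom
  haveI : JacobsonSpace ↥Y.left := LocallyOfFiniteType.jacobsonSpace Y.hom
  haveI : GeometricallyConnected f :=
    ⟨fun K _ y Z fst snd H =>
      haveI := GeometricallyIrreducible.geometrically_irreducibleSpace (f := f) y fst snd H
      inferInstance⟩
  -- `h⁰ = 1` on the fibres
  have h0 : ∀ y : Y.left, CohIII.fiberRank f (unitM (X ⊗ Y).left) 0 y = 1 := by
    intro y
    rw [fiberRank_unit_zero]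
    haveI : IsProper (f.fiberToSpecResidueField y) :=
      MorphismProperty.pullback_snd (P := @IsProper) f (Y.left.fromSpecResidueField y)
        inferInstance
    have hb := Groth.Agent.Lib.Helper21.PropH0.bijective_toGlobal_of_proper
      (Y.left.residueField y) (f.fiber y) (f.fiberToSpecResidueField y)
    have hb' : Function.Bijective
        (Algebra.linearMap (Y.left.residueField y) Γ(f.fiber y, ⊤)) := hb
    rw [← (LinearEquiv.ofBijective _ hb').finrank_eq]
    exact Module.finrank_self _
  -- the module `N₀ = M^∨ ⊗ L`
  let N₀ : (X ⊗ Y).left.Modules := CohB1.tensorMod (RefHull.homSh M (unitM _)) L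
  have hN₀ : PicF.IsInvertible N₀ := isInvertible_tensorMod (Dual.isInvertible_dual hM) hL
  have hclosed := Groth.Agent.S16760.result f
    (fun K _ x => GeometricallyIntegral.geometrically_isIntegral (f := f) x _ _
      (IsPullback.of_hasPullback f x)) N₀ hN₀
  have hsub : closedPoints ↥Y.left ⊆
      {y : Y.left | Nonempty (CohIII.fiberMod f N₀ y ≅ Coh.structureModule (f.fiber y))} := by
    intro y hy
    obtain ⟨e⟩ := h y hy
    exact nonempty_pullback_dual_tensor_iso_unit (f.fiberι y) hM hL e.symm
  have huniv : {y : Y.left | Nonempty (CohIII.fiberMod f N₀ y ≅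
      Coh.structureModule (f.fiber y))} = Set.univ := by
    apply Set.eq_univ_of_univ_subset
    rw [← closure_closedPoints (X := ↥Y.left)]
    exact hclosed.closure_subset_iff.mpr hsub
  have htriv : ∀ y : Y.left, Nonempty (CohIII.fiberMod f N₀ y ≅ unitM (f.fiber y)) := by
    intro y
    have : y ∈ {y : Y.left | Nonempty (CohIII.fiberMod f N₀ y ≅
      Coh.structureModule (f.fiber y))} := by
      rw [huniv]
      trivial
    exact this
  obtain ⟨hinv, hiso⟩ := seesaw f h0 N₀ hN₀ htriv
  refine ⟨(Scheme.Modules.pushforward f).obj N₀, hinv, ⟨?_⟩⟩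
  exact (tensorDualCancel hM L).symm ≪≫ tensorCongr (Iso.refl M)
    (asIso ((Scheme.Modules.pullbackPushforwardAdjunction f).counit.app N₀)).symm

end Groth.Agent.S16682
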