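import Groth.Statements.S16688
import Mathlib
import Groth.Agent.Lib.Helper8.AntiComul

set_option autoImplicit false
universe u v w
open ComodSub

open ComodSub

namespace S16688aux
open TensorProduct Groth.Agent.Lib.Helper8.AntiComul

variable {k : Type u} [CommRing k] {A : Type v} [CommRing A] [HopfAlgebra k A]
  {M : Type w} [AddCommGroup M] [Module k M]

local notation "S" => HopfAlgebraStruct.antipode (R := k) (A := A)
local notation "δ" => CoalgebraStruct.comul (R := k) (A := A)
local notation "ε" => CoalgebraStruct.counit (R := k) (A := A)

/-- `a ⊗ (b ⊗ n) ↦ n ⊗ (S b ⊗ S a)` -/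
noncomputable def T : A ⊗[k] (A ⊗[k] M) →ₗ[k] M ⊗[k] (A ⊗[k] A) :=
  (TensorProduct.comm k (A ⊗[k] A) M).toLinearMap ∘ₗ
    (TensorProduct.map (TensorProduct.map S S ∘ₗ (TensorProduct.comm k A A).toLinearMap) LinearMap.id) ∘ₗ
    (TensorProduct.assoc k A A M).symm.toLinearMap

lemma T_tmul (m : M) (a b : A) : T (k := k) (a ⊗ₜ[k] (b ⊗ₜ[k] m)) = m ⊗ₜ[k] (S b ⊗ₜ[k] S a) := by
  simp [T]

lemma claim1 (l : LComod k A M) (y : A ⊗[k] M) :
    TensorProduct.assoc k M A A ((rcoactOfLeft l).rTensor A
        (TensorProduct.comm k A M ((S).rTensor M y))) =
      T (l.coact.lTensor A y) := by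
  induction y using TensorProduct.induction_on with
  | zero => simp
  | add x y hx hy => simp only [map_add, hx, hy]
  | tmul a m =>
    simp only [LinearMap.lTensor_tmul, TensorProduct.comm_tmul, LinearMap.rTensor_tmul,
      rcoactOfLeft_apply]
    generalize l.coact m = z
    induction z using TensorProduct.induction_on with
    | zero => simp
    | add x y hx hy => simp only [map_add, hx, hy, tmul_add, add_tmul]
    | tmul b m' => simp [T_tmul]

lemma claim2 (y : A ⊗[k] M) :
    (δ).lTensor M (TensorProduct.comm k A M ((S).rTensor M y)) =
      T (TensorProduct.assoc k A A M ((δ).rTensor M y)) := by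
  induction y using TensorProduct.induction_on with
  | zero => simp
  | add x y hx hy => simp only [map_add, hx, hy]
  | tmul a m =>
    simp only [LinearMap.lTensor_tmul, TensorProduct.comm_tmul, LinearMap.rTensor_tmul]
    rw [comul_antipode_apply]
    generalize δ a = z
    induction z using TensorProduct.induction_on with
    | zero => simp
    | add x y hx hy => simp only [map_add, hx, hy, tmul_add, add_tmul]
    | tmul a b => simp [T_tmul]

theorem main (l : LComod k A M) :
    ∃ c : HopfRep.Comod k A M, c.coact = ComodSub.rcoactOfLeft l := by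
  refine ⟨{ coact := rcoactOfLeft l, coassoc := ?_, counit_comp := ?_ }, rfl⟩
  · apply LinearMap.ext
    intro m
    simp only [LinearMap.comp_apply, LinearEquiv.coe_coe]
    have h1 := claim1 l (l.coact m)
    have h2 := claim2 (k := k) (A := A) (l.coact m)
    have h3 := LinearMap.congr_fun l.coassoc m
    simp only [LinearMap.comp_apply, LinearEquiv.coe_coe] at h3
    rw [rcoactOfLeft_apply]
    rw [h1, h2, h3]
  · apply LinearMap.ext
    intro m
    have h3 := LinearMap.congr_fun l.counit_comp m
    simp only [LinearMap.comp_apply] at h3
    simp only [LinearMap.comp_apply, rcoactOfLeft_apply]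
    have key : ∀ y : A ⊗[k] M, (ε).lTensor M (TensorProduct.comm k A M ((S).rTensor M y)) =
        TensorProduct.comm k k M ((ε).rTensor M y) := by
      intro y
      induction y using TensorProduct.induction_on with
      | zero => simp
      | add x y hx hy => simp only [map_add, hx, hy]
      | tmul a m => simp
    rw [key, h3]
    simp

end S16688aux

namespace Groth.Agent.S16688

/-- Let `k` be a commutative ring, `A` a commutative Hopf algebra over `k` with antipode `S`, and `M` a
`k`-module with a left `A`-comodule structure `m ↦ Σ m₋₁ ⊗ m₀`. Then the map `M → M ⊗ A`, `m ↦ Σ m₀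
⊗ S(m₋₁)`, is coassociative and counital: it is the coaction of a right `A`-comodule structure on
`M` (a right structure is determined by its coaction, so this structure is unique). -/
theorem result (k : Type u) [CommRing k]
    (A : Type v) [CommRing A] [HopfAlgebra k A]
    (M : Type w) [AddCommGroup M] [Module k M] (l : ComodSub.LComod k A M) :
    ∃ c : HopfRep.Comod k A M, c.coact = ComodSub.rcoactOfLeft l := by
  exact S16688aux.main l

end Groth.Agent.S16688
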