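import Groth.Statements.S1670
import Groth.Agent.Lib.Helper1.GenFibre
import Groth.Agent.Lib.Helper1.ResSepFin
import Groth.Agent.Lib.Helper1.GalCount

set_option autoImplicit false
universe u
open CategoryTheory CategoryTheory.Limits AlgebraicGeometry
open Variety

namespace Groth.Agent.S1670

/-- Let X be locally of finite type over k, K a separable closure of k, and T an irreducible component
of X. Then the inverse image of T in X_K is the union of the finitely many irreducible components of
X_K mapping into T, and these form a single orbit under the action of the k-automorphisms of K on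
X_K. -/
theorem result (k : Type u) [Field k] (X : Scheme.{u}) [X.Over (Spec (CommRingCat.of k))] [LocallyOfFiniteType (X ↘ (Spec (CommRingCat.of k)))]
    (T : Set X) (hT : T ∈ irreducibleComponents (X : Type u)) :
    {T' : Set (Curv2.bc k X (SeparableClosure k)) | T' ∈ irreducibleComponents (Curv2.bc k X (SeparableClosure k) : Type u) ∧
        (Curv2.bcFst k X (SeparableClosure k)).base '' T' ⊆ T}.Finite ∧
      (Curv2.bcFst k X (SeparableClosure k)).base ⁻¹' T = ⋃₀ {T' : Set (Curv2.bc k X (SeparableClosure k)) | T' ∈ irreducibleComponents (Curv2.bc k X (SeparableClosure k) : Type u) ∧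
        (Curv2.bcFst k X (SeparableClosure k)).base '' T' ⊆ T} ∧
      ∀ T' T'' : Set (Curv2.bc k X (SeparableClosure k)), T' ∈ irreducibleComponents (Curv2.bc k X (SeparableClosure k) : Type u) →
        T'' ∈ irreducibleComponents (Curv2.bc k X (SeparableClosure k) : Type u) →
        (Curv2.bcFst k X (SeparableClosure k)).base '' T' ⊆ T → (Curv2.bcFst k X (SeparableClosure k)).base '' T'' ⊆ T →
        ∃ σ : (SeparableClosure k) ≃ₐ[k] (SeparableClosure k), (Curv2.galAct k X (SeparableClosure k) σ).base '' T' = T'' := by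
  classical
  let f := X ↘ Spec (CommRingCat.of k)
  let g : Spec (CommRingCat.of (SeparableClosure k)) ⟶ Spec (CommRingCat.of k) :=
    Spec.map (CommRingCat.ofHom (algebraMap k (SeparableClosure k)))
  obtain ⟨ξ, hξ⟩ := QuasiSober.sober hT.1 (isClosed_of_mem_irreducibleComponents T hT)
  have hc : Continuous (Curv2.bcFst k X (SeparableClosure k)).base :=
    (Curv2.bcFst k X (SeparableClosure k)).continuous
  have hgen : GeneralizingMap (Curv2.bcFst k X (SeparableClosure k)).base :=
    Flat.generalizingMap (pullback.fst f g)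
  obtain ⟨φ, hφ⟩ := Groth.Agent.Lib.Helper1.GalCount.exists_resMap f ξ
  have hfin := Groth.Agent.Lib.Helper1.ResSepFin.finiteDimensional_separableClosure f ξ φ hφ
  obtain ⟨hF, -⟩ := Groth.Agent.Lib.Helper1.GalCount.fibre_finite f ξ φ hφ (SeparableClosure k) hfin
  refine ⟨Groth.Agent.Lib.Helper1.GenFibre.finite_of_finite_fibre _ hc hgen hT hξ hF,
    Groth.Agent.Lib.Helper1.GenFibre.preimage_eq_sUnion _ hc hgen hT hξ, ?_⟩
  intro T' T'' hT' hT'' hs' hs''
  obtain ⟨η', hη'⟩ := QuasiSober.sober hT'.1 (isClosed_of_mem_irreducibleComponents T' hT')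
  obtain ⟨η'', hη''⟩ := QuasiSober.sober hT''.1 (isClosed_of_mem_irreducibleComponents T'' hT'')
  have h1 := Groth.Agent.Lib.Helper1.GenFibre.map_genericPoint_eq _ hc hgen hT hξ hT' hs' hη'
  have h2 := Groth.Agent.Lib.Helper1.GenFibre.map_genericPoint_eq _ hc hgen hT hξ hT'' hs'' hη''
  letI := Groth.Agent.Lib.Helper1.GalScheme.mulAction k X (SeparableClosure k)
  obtain ⟨σ, hσ⟩ := Groth.Agent.Lib.Helper1.GalScheme.exists_smul_eq k X (SeparableClosure k) η' η''
    (h1.trans h2.symm)
  refine ⟨σ⁻¹, ?_⟩
  rw [← hη'.def, ← hη''.def]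
  have h3 := (Scheme.homeoOfIso
    (Groth.Agent.Lib.Helper1.GalScheme.galActIso k X (SeparableClosure k) σ⁻¹)).image_closure {η'}
  have h4 : ⇑(Scheme.homeoOfIso
    (Groth.Agent.Lib.Helper1.GalScheme.galActIso k X (SeparableClosure k) σ⁻¹)) =
      (Curv2.galAct k X (SeparableClosure k) σ⁻¹).base := rfl
  rw [h4] at h3
  rw [h3, Set.image_singleton]
  have h5 : (Curv2.galAct k X (SeparableClosure k) σ⁻¹).base η' = η'' := hσ
  rw [h5]

end Groth.Agent.S1670
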