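import Groth.Statements.S16705
import Groth.Agent.Lib.Helper24.CatModQuot

set_option autoImplicit false
universe u
open AlgSt

namespace Groth.Agent.S16705

open AlgSt
open CategoryTheory AlgebraicGeometry
open CategoryTheory.Limits MonoidalCategory CartesianMonoidalCategory MonObj GrpObj Opposite
open Groth.Agent.Lib.Helper24.CatModQuot

theorem rep_yon {S : Scheme.{u}} (Z : Over S) : ((AlgSp.yon S).obj Z).obj.IsRepresentable :=
  ⟨Z, ⟨AlgSp.representableByOfIso (Iso.refl _)⟩⟩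

theorem yon_map_eq_iff {S : Scheme.{u}} {A B : Over S} (a b : A ⟶ B) :
    (AlgSp.yon S).map a = (AlgSp.yon S).map b ↔ a = b :=
  ⟨fun h => (AlgSp.yon S).map_injective h, fun h => h ▸ rfl⟩


open CategoryTheory AlgebraicGeometry in
/-- Categorical case, schemes as test category: for the quotient stack `[X/G]` of an action of a group
scheme `G` affine, flat and locally of finite presentation over `S`, the morphism `π : [X/G] → Y`
induced by a morphism of schemes `f : X → Y` is a categorical moduli space in schemes if and only if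
`f` is a categorical quotient in schemes. (The uniform variants and other test categories are not
stated.) -/
theorem result (S : Scheme.{u}) (G : Over S) [GrpObj G]
    [IsAffineHom G.hom] [Flat G.hom] [LocallyOfFinitePresentation G.hom]
    (X Y : Over S) (aX : AlgGrp.Action G X) (f : X ⟶ Y)
    (π : AlgSt.QuotSt Scheme.fppfPrecoverage G aX ⥤ᵇ AlgSt.ofSch Y)
    (hπ : Nonempty (BasedFunctor.comp (AlgSt.quotMap Scheme.fppfPrecoverage G aX) π ≅
      AlgSt.ofSpMap ((AlgSp.yon S).map f))) :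
    AlgSt.IsCatModuliSch π ↔ GIT.IsCatQuot aX f := by
  have hπ' := eq_of_nonempty_iso hπ
  have hinvf : GIT.IsInvariant aX f := by
    have h := invariant_of_comp_eq π ((AlgSp.yon S).map f) hπ'
    rw [← Functor.map_comp, ← Functor.map_comp] at h
    exact (AlgSp.yon S).map_injective h
  have inv_iff : ∀ {Z : Over S} (ψ : X ⟶ Z), GIT.IsInvariant aX ψ ↔
      (AlgSp.yon S).map aX.act ≫ (AlgSp.yon S).map ψ =
        (AlgSp.yon S).map (snd G X) ≫ (AlgSp.yon S).map ψ := by
    intro Z ψ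
    rw [← Functor.map_comp, ← Functor.map_comp, yon_map_eq_iff]
    rfl
  unfold AlgSt.IsCatModuliSch
  rw [isCatModuliIn_iff _ ((AlgSp.yon S).map f) π hπ']
  constructor
  · rintro ⟨-, hu⟩
    refine ⟨hinvf, fun Z ψ hψ => ?_⟩
    obtain ⟨χ', hχ', huniq⟩ := hu ((AlgSp.yon S).obj Z) (rep_yon Z) ((AlgSp.yon S).map ψ)
      ((inv_iff ψ).1 hψ)
    obtain ⟨χ, rfl⟩ := (AlgSp.yon S).map_surjective χ'
    refine ⟨χ, ?_, fun χ₂ hχ₂ => ?_⟩
    · rw [← Functor.map_comp] at hχ'
      exact (AlgSp.yon S).map_injective hχ'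
    · apply (AlgSp.yon S).map_injective
      apply huniq
      rw [← Functor.map_comp, hχ₂]
  · rintro ⟨-, hu⟩
    refine ⟨rep_yon Y, fun N hN ψ hψ => ?_⟩
    obtain ⟨Z, ⟨r⟩⟩ := hN
    let e : (AlgSp.yon S).obj Z ≅ N := AlgSp.isoOfRepresentableBy r
    obtain ⟨ψ₀, hψ₀⟩ := (AlgSp.yon S).map_surjective (ψ ≫ e.inv)
    have hinv₀ : GIT.IsInvariant aX ψ₀ := by
      rw [inv_iff, hψ₀, ← Category.assoc, ← Category.assoc, hψ]
    obtain ⟨χ₀, hχ₀, huniq⟩ := hu Z ψ₀ hinv₀
    refine ⟨(AlgSp.yon S).map χ₀ ≫ e.hom, ?_, fun χ₂ hχ₂ => ?_⟩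
    · change (AlgSp.yon S).map f ≫ (AlgSp.yon S).map χ₀ ≫ e.hom = ψ
      rw [← Category.assoc, ← Functor.map_comp, hχ₀, hψ₀, Category.assoc, Iso.inv_hom_id,
        Category.comp_id]
    · change (AlgSp.yon S).map f ≫ χ₂ = ψ at hχ₂
      obtain ⟨χ₃, hχ₃⟩ := (AlgSp.yon S).map_surjective (χ₂ ≫ e.inv)
      have h3 : χ₃ = χ₀ := by
        apply huniq
        apply (AlgSp.yon S).map_injective
        rw [Functor.map_comp, hχ₃, hψ₀, ← Category.assoc, hχ₂]
      rw [← h3, hχ₃, Category.assoc, Iso.inv_hom_id, Category.comp_id]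

end Groth.Agent.S16705
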