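import Groth.Statements.S16707
import Mathlib.RingTheory.Flat.EquationalCriterion
import Mathlib.LinearAlgebra.TensorProduct.Quotient
import Mathlib.Tactic
-- import your own Groth.Agent.* helpers here

set_option autoImplicit false
universe u v
open CAlg

namespace Groth.Agent.S16707


open TensorProduct in
theorem key1 {A : Type*} [CommRing A] (I : Ideal A) (X : Type*) [AddCommGroup X] [Module A X]
    (x : X) (hx : (1 : A ⧸ I) ⊗ₜ[A] x = 0) : x ∈ I • (⊤ : Submodule A X) := by
  have h3 := congrArg (TensorProduct.quotTensorEquivQuotSMul X I) hx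
  rw [TensorProduct.quotTensorEquivQuotSMul_mk_one_tmul, map_zero] at h3
  exact (Submodule.Quotient.mk_eq_zero _).1 h3

open TensorProduct in
theorem key2 {A : Type*} [CommRing A] (I : Ideal A) (X : Type*) [AddCommGroup X] [Module A X]
    (t : (A ⧸ I) ⊗[A] X) : ∃ x : X, t = (1 : A ⧸ I) ⊗ₜ[A] x := by
  obtain ⟨x, hx⟩ := Submodule.Quotient.mk_surjective _ (TensorProduct.quotTensorEquivQuotSMul X I t)
  refine ⟨x, ?_⟩
  apply (TensorProduct.quotTensorEquivQuotSMul X I).injective
  rw [TensorProduct.quotTensorEquivQuotSMul_mk_one_tmul, hx]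

theorem flat_ker {A : Type*} [CommRing A] (I : Ideal A) {M N : Type*} [AddCommGroup M]
    [Module A M] [AddCommGroup N] [Module A N] [Module.Flat A N] (f : M →ₗ[A] N)
    (hsurj : Function.Surjective f) (x : M) (hx : x ∈ LinearMap.ker f)
    (hx' : x ∈ I • (⊤ : Submodule A M)) : x ∈ I • LinearMap.ker f := by
  classical
  have htop : (⊤ : Submodule A M) = Submodule.span A (Set.range (id : M → M)) := by
    rw [Set.range_id, Submodule.span_univ]
  rw [htop, Submodule.mem_ideal_smul_span_iff_exists_sum] at hx'
  obtain ⟨a, haI, hax⟩ := hx'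
  simp only [id] at hax
  have hxsum : x = ∑ i : a.support, a i • (i : M) := by
    rw [← hax, Finsupp.sum, ← Finset.sum_coe_sort]
  have hrel : ∑ i : a.support, a i • f (i : M) = 0 := by
    have := LinearMap.mem_ker.1 hx
    rw [hxsum, map_sum] at this
    simpa only [map_smul] using this
  obtain ⟨k', b, y, hy1, hy2⟩ := Module.Flat.isTrivialRelation_of_sum_smul_eq_zero hrel
  simp only at hy1 hy2
  choose z hz using fun j => hsurj (y j)
  have hk : ∀ i : a.support, (i : M) - ∑ j, b i j • z j ∈ LinearMap.ker f := by
    intro i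
    rw [LinearMap.mem_ker, map_sub, map_sum, hy1 i, sub_eq_zero]
    refine Finset.sum_congr rfl fun j _ => ?_
    rw [map_smul, hz]
  have hx2 : x = ∑ i : a.support, a i • ((i : M) - ∑ j, b i j • z j) := by
    have h0 : ∑ i : a.support, a i • ∑ j, b i j • z j = 0 := by
      simp only [Finset.smul_sum, smul_smul]
      rw [Finset.sum_comm]
      refine Finset.sum_eq_zero fun j _ => ?_
      rw [← Finset.sum_smul, hy2 j, zero_smul]
    simp only [smul_sub, Finset.sum_sub_distrib]
    rw [h0, sub_zero]
    exact hxsum
  rw [hx2]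
  exact Submodule.sum_mem _ fun i _ => Submodule.smul_mem_smul (haI i) (hk i)

open TensorProduct in
/-- Let A be a commutative ring, I a nilpotent ideal of A and f : M → N a homomorphism of A-modules with
N flat over A (no finiteness assumption on M or N). If the base change of f to A/I, that is M/IM →
N/IN, is bijective, then f is bijective. -/
theorem result (A : Type u) [CommRing A] (I : Ideal A)
    (hI : IsNilpotent I) (M N : Type v) [AddCommGroup M] [Module A M] [AddCommGroup N] [Module A N]
    [Module.Flat A N] (f : M →ₗ[A] N)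
    (hf : Function.Bijective (f.baseChange (A ⧸ I))) :
    Function.Bijective f := by
  obtain ⟨k, hk⟩ := hI
  have hsurj : Function.Surjective f := by
    rw [← LinearMap.range_eq_top]
    have h1 : LinearMap.range f ⊔ I • (⊤ : Submodule A N) = ⊤ := by
      rw [eq_top_iff]
      intro n _
      obtain ⟨t, ht⟩ := hf.2 ((1 : A ⧸ I) ⊗ₜ[A] n)
      obtain ⟨m, rfl⟩ := key2 I M t
      rw [LinearMap.baseChange_tmul] at ht
      have h0 : (1 : A ⧸ I) ⊗ₜ[A] (n - f m) = 0 := by
        rw [TensorProduct.tmul_sub, ht, sub_self]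
      have h2 := key1 I N _ h0
      have h3 : n = f m + (n - f m) := by abel
      rw [h3]
      exact Submodule.add_mem_sup ⟨m, rfl⟩ h2
    have h2 : ∀ j : ℕ, LinearMap.range f ⊔ I ^ j • (⊤ : Submodule A N) = ⊤ := by
      intro j
      induction j with
      | zero => simp
      | succ j ih =>
        rw [eq_top_iff]
        calc (⊤ : Submodule A N) = LinearMap.range f ⊔ I • (⊤ : Submodule A N) := h1.symm
          _ = LinearMap.range f ⊔ I • (LinearMap.range f ⊔ I ^ j • (⊤ : Submodule A N)) := by
            rw [ih]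
          _ = LinearMap.range f ⊔ (I • LinearMap.range f ⊔ I • (I ^ j • (⊤ : Submodule A N))) := by
            rw [Submodule.smul_sup]
          _ ≤ LinearMap.range f ⊔ I ^ (j + 1) • (⊤ : Submodule A N) := by
            rw [← Submodule.mul_smul, ← pow_succ']
            exact sup_le le_sup_left (sup_le (Submodule.smul_le_right.trans le_sup_left)
              le_sup_right)
    have h3 := h2 k
    rw [hk, Ideal.zero_eq_bot, Submodule.bot_smul, sup_bot_eq] at h3
    exact h3
  refine ⟨?_, hsurj⟩
  rw [← LinearMap.ker_eq_bot]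
  have hK1 : LinearMap.ker f ≤ I • (⊤ : Submodule A M) := by
    intro x hx
    apply key1 I M
    apply hf.1
    rw [LinearMap.baseChange_tmul, LinearMap.mem_ker.1 hx, TensorProduct.tmul_zero, map_zero]
  have hK2 : LinearMap.ker f ≤ I • LinearMap.ker f :=
    fun x hx => flat_ker I f hsurj x hx (hK1 hx)
  have hK3 : ∀ j : ℕ, LinearMap.ker f ≤ I ^ j • LinearMap.ker f := by
    intro j
    induction j with
    | zero => simp
    | succ j ih =>
      calc LinearMap.ker f ≤ I • LinearMap.ker f := hK2
        _ ≤ I • (I ^ j • LinearMap.ker f) := Submodule.smul_mono le_rfl ih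
        _ = I ^ (j + 1) • LinearMap.ker f := by rw [← Submodule.mul_smul, ← pow_succ']
  have h4 := hK3 k
  rw [hk, Ideal.zero_eq_bot, Submodule.bot_smul] at h4
  exact le_bot_iff.1 h4

end Groth.Agent.S16707
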