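import Groth.Statements.S16709
import Groth.Agent.Lib.Helper7.ComodHomLib
import Groth.Agent.Lib.Helper7.HopfLR

set_option autoImplicit false
universe u v
open HopfRep

namespace Groth.Agent.S16709

open TensorProduct in
/-- The equivalence of complete reducibility of finite-dimensional representations with the
invariant-section criterion. Let k be a field and A a finitely generated commutative Hopf algebra
over k, the coordinate ring of an affine algebraic group G. Then G is linearly reductive (every
finite-dimensional A-comodule is semisimple) if and only if for every finite-dimensional A-comodule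
V and every surjective k-linear map π : V → k which is a comodule map to the trivial comodule (that
is, (π ⊗ id) ∘ ρ_V = (c ↦ c ⊗ 1) ∘ π for the coaction ρ_V) there is a fixed vector v of V with π v ≠
0. (The published fourth condition is phrased with all G-fixed points of the projective space of V
and G-invariant linear forms; it fails for a fixed point on which G acts through a non-trivial
character, for instance the multiplicative group acting on a line with weight one, and this row
states the condition in the form the published proof uses: surjections onto the trivial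
one-dimensional comodule.) -/
theorem result (k : Type u) [Field k] (A : Type v)
    [CommRing A] [HopfAlgebra k A] (hA : Algebra.FiniteType k A) :
    HopfRep.IsLinearlyReductive k A ↔
      ∀ (V : Type v) [AddCommGroup V] [Module k V] [HopfRep.Comod k A V], Module.Finite k V →
        ∀ π : V →ₗ[k] k, Function.Surjective π →
          LinearMap.rTensor A π ∘ₗ HopfRep.Comod.coact (k := k) (A := A) (V := V) =
            (TensorProduct.mk k k A).flip (1 : A) ∘ₗ π →
          ∃ v ∈ HopfRep.fixedPts k A V, π v ≠ 0 := by
  constructor
  · intro hG V _ _ cV hfin π hsurj hπ
    have hπ' : @Hoch.IsComodHom k _ A _ _ _ V _ _ cV k _ _ (HopfRep.Comod.trivial k A k) π :=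
      hπ.symm
    have h1 : (1 : k) ∈ @HopfRep.fixedPts k A _ _ _ k _ _ (HopfRep.Comod.trivial k A k) := by
      change (HopfRep.Comod.trivial k A k).coact (1 : k) = (1 : k) ⊗ₜ[k] (1 : A)
      rfl
    obtain ⟨v, hv, hv1⟩ := @Groth.Agent.Lib.Helper7.Comod.exists_fixedPts_map_eq k _ A _ _ V _ _ cV
      k _ _ (HopfRep.Comod.trivial k A k)
      (Groth.Agent.Lib.Helper7.Comod.isSemisimpleComod_of_isLinearlyReductive' hG V)
      (@Groth.Agent.Lib.Helper7.Comod.isSemisimpleComod_of_isLinearlyReductive' k _ A _ _ hG k _ _
        (HopfRep.Comod.trivial k A k)) π hπ' hsurj 1 h1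
    exact ⟨v, hv, by rw [hv1]; exact one_ne_zero⟩
  · intro h V _ _ cV hfin
    haveI := hfin
    refine Groth.Agent.Lib.Helper7.Comod.isSemisimpleComod_of_exact cV ?_
    intro X Y _ _ _ _ cX cY hX hY φ hφ hs y hy
    haveI := hX
    exact Groth.Agent.Lib.Helper7.Comod.exists_fixed_lift_of_forall_trivial_quotient
      (fun X' _ _ cX' hfin' π hπs hπ => @h X' _ _ cX' hfin' π hπs hπ.symm) cX cY φ hφ hs y hy

end Groth.Agent.S16709
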