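import Groth.Statements.S16737
import Mathlib.Algebra.CharP.Invertible
import Mathlib.Tactic
-- import your own Groth.Agent.* helpers here

set_option autoImplicit false
universe u v
open DeRham

namespace Groth.Agent.S16737

/-- The case of affine space over an affine base of characteristic p, in degree zero. Let p be a prime
and R a commutative ring with p = 0 in R. For a polynomial f over R in any set of variables t_i, the
Kähler differential df in Ω_{R[t]/R} vanishes if and only if f is a polynomial in the p-th powers of
the variables, f = g(t_i^p). Equivalently, the functions on affine space over R killed by the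
differential of the de Rham complex are exactly the functions on its Frobenius twist. (The published
computation is for finitely many variables over a noetherian base of characteristic p; the statement
here allows any commutative ring with p = 0 and any set of variables.) -/
theorem result (p : ℕ) [Fact p.Prime]
    (R : Type u) [CommRing R] [CharP R p] (σ : Type v) (f : MvPolynomial σ R) :
    KaehlerDifferential.D R (MvPolynomial σ R) f = 0 ↔
      ∃ g : MvPolynomial σ R, f = MvPolynomial.expand p g := by
  classical
  have hp : p.Prime := Fact.out
  have hp0 : ((p : ℕ) : MvPolynomial σ R) = 0 := by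
    rw [← map_natCast (MvPolynomial.C : R →+* MvPolynomial σ R), CharP.cast_eq_zero, map_zero]
  constructor
  · intro hD
    have hpd : ∀ i, MvPolynomial.pderiv i f = 0 := by
      intro i
      rw [← KaehlerDifferential.mvPolynomialBasis_repr_apply, hD, map_zero, Finsupp.zero_apply]
    have hdvd : ∀ s ∈ f.support, ∀ i, p ∣ s i := by
      intro s hs i
      by_contra hnd
      have hsi : s i ≠ 0 := fun h => hnd (h ▸ dvd_zero p)
      have h1 := MvPolynomial.coeff_pderiv (i := i) f (s - Finsupp.single i 1)
      rw [hpd i, MvPolynomial.coeff_zero] at h1
      have h2 : s - Finsupp.single i 1 + Finsupp.single i 1 = s := by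
        ext j
        by_cases hj : j = i
        · subst hj
          simp only [Finsupp.coe_add, Finsupp.coe_tsub, Pi.add_apply, Pi.sub_apply,
            Finsupp.single_eq_same]
          omega
        · simp [Finsupp.single_apply, Ne.symm hj]
      have h3 : ((((s - Finsupp.single i 1 : σ →₀ ℕ) i : ℕ)) : R) + 1 = ((s i : ℕ) : R) := by
        have : (s - Finsupp.single i 1 : σ →₀ ℕ) i + 1 = s i := by
          simp only [Finsupp.coe_tsub, Pi.sub_apply, Finsupp.single_eq_same]
          omega
        rw [← this]
        push_cast
        rfl
      rw [h2, h3] at h1
      have hu : IsUnit ((s i : ℕ) : R) := (CharP.isUnit_natCast_iff hp).2 hnd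
      have h4 : MvPolynomial.coeff s f = 0 := (hu.mul_left_eq_zero).1 h1.symm
      exact (MvPolynomial.mem_support_iff.1 hs) h4
    refine ⟨∑ s ∈ f.support, MvPolynomial.monomial
      (Finsupp.mapRange (· / p) (Nat.zero_div p) s) (MvPolynomial.coeff s f), ?_⟩
    rw [map_sum]
    conv_lhs => rw [← MvPolynomial.support_sum_monomial_coeff f]
    refine Finset.sum_congr rfl fun s hs => ?_
    rw [MvPolynomial.expand_monomial]
    have hs' : p • Finsupp.mapRange (· / p) (Nat.zero_div p) s = s := by
      ext i
      rw [Finsupp.smul_apply, Finsupp.mapRange_apply, smul_eq_mul]
      exact Nat.mul_div_cancel' (hdvd s hs i)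
    rw [hs']
  · rintro ⟨g, rfl⟩
    induction g using MvPolynomial.induction_on with
    | C a =>
      rw [MvPolynomial.expand_C, ← MvPolynomial.algebraMap_eq]
      exact Derivation.map_algebraMap _ a
    | add g₁ g₂ h₁ h₂ => rw [map_add, map_add, h₁, h₂, add_zero]
    | mul_X g i h =>
      rw [map_mul, MvPolynomial.expand_X, Derivation.leibniz, h, smul_zero, add_zero,
        Derivation.leibniz_pow, ← Nat.cast_smul_eq_nsmul (MvPolynomial σ R), hp0, zero_smul,
        smul_zero]

end Groth.Agent.S16737
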