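import Groth.Statements.S16742
import Groth.Agent.Lib.Helper9.FlatCrit
import Mathlib.LinearAlgebra.TensorProduct.Quotient
import Mathlib.Tactic
-- import your own Groth.Agent.* helpers here

set_option autoImplicit false
universe u
open CAlg

namespace Groth.Agent.S16742


open TensorProduct in
/-- Flat modules inherit "the annihilator of `r` is `(r)`" when `r ^ 2 = 0`. -/
theorem ann_flat {R : Type*} [CommRing R] (r : R) (hr2 : r * r = 0)
    (hr : ∀ x : R, r * x = 0 → ∃ y, x = r * y)
    (M : Type*) [AddCommGroup M] [Module R M] [Module.Flat R M] (m : M) (hm : r • m = 0) :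
    ∃ m' : M, m = r • m' := by
  let f : R →ₗ[R] R := LinearMap.lsmul R R r
  have hex : Function.Exact f f := by
    intro x
    constructor
    · intro hx
      obtain ⟨y, rfl⟩ := hr x hx
      exact ⟨y, rfl⟩
    · rintro ⟨y, rfl⟩
      simp only [f, LinearMap.lsmul_apply, smul_eq_mul]
      rw [← mul_assoc, hr2, zero_mul]
  have hex' := Module.Flat.lTensor_exact M hex
  have h1 : (f.lTensor M) (m ⊗ₜ[R] (1 : R)) = 0 := by
    simp only [LinearMap.lTensor_tmul, f, LinearMap.lsmul_apply, smul_eq_mul, mul_one]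
    rw [← mul_one r, ← smul_eq_mul, ← TensorProduct.smul_tmul, hm, TensorProduct.zero_tmul]
  obtain ⟨t, ht⟩ := (hex' _).1 h1
  have h2 : ∀ t : M ⊗[R] R, TensorProduct.rid R M ((f.lTensor M) t) = r • TensorProduct.rid R M t := by
    intro t
    induction t using TensorProduct.induction_on with
    | zero => simp
    | tmul x y =>
      simp only [LinearMap.lTensor_tmul, f, LinearMap.lsmul_apply, smul_eq_mul,
        TensorProduct.rid_tmul]
      rw [mul_smul]
    | add x y hx hy => simp only [map_add, hx, hy, smul_add]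
  refine ⟨TensorProduct.rid R M t, ?_⟩
  rw [← h2, ht, TensorProduct.rid_tmul, one_smul]

/-- The equivalence in affine form, with flatness of the reduction in place of smoothness. Let p be a
prime, A~ a commutative ring flat over Z/p^2 and B~ an A~-algebra such that B~/pB~ is flat over
A~/pA~. Then B~ is flat over A~ if and only if every element of B~ killed by p is a multiple of p;
equivalently multiplication by p identifies B~/pB~ with pB~. (The published statement assumes the
reduction smooth over A~/pA~ and the schemes noetherian, and phrases (b) as B~ being a lifting, that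
is flat over A~; the statement here assumes only that the reduction is flat, where the equivalence
still holds by the local flatness criterion for the square-zero ideal generated by p.) -/
theorem result (p : ℕ) [Fact p.Prime]
    (Al : Type u) [CommRing Al] [Algebra (ZMod (p ^ 2)) Al] [Module.Flat (ZMod (p ^ 2)) Al]
    (Bl : Type u) [CommRing Bl] [Algebra Al Bl]
    (hB : Module.Flat (Al ⧸ Ideal.span {(p : Al)})
      (Bl ⧸ (Ideal.span {(p : Al)}).map (algebraMap Al Bl))) :
    Module.Flat Al Bl ↔ ∀ b : Bl, (p : Bl) * b = 0 → b ∈ Ideal.span {(p : Bl)} := by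
  have hp : p.Prime := Fact.out
  -- p ^ 2 = 0 in ZMod (p^2), Al
  have hZ2 : ((p : ZMod (p ^ 2)) * (p : ZMod (p ^ 2))) = 0 := by
    rw [← Nat.cast_mul, ← pow_two]
    exact ZMod.natCast_self (p ^ 2)
  have hA2 : ((p : Al) * (p : Al)) = 0 := by
    have := congrArg (algebraMap (ZMod (p ^ 2)) Al) hZ2
    simpa using this
  have hZ : ∀ x : ZMod (p ^ 2), (p : ZMod (p ^ 2)) * x = 0 → ∃ y, x = (p : ZMod (p ^ 2)) * y := by
    intro x hx
    haveI : NeZero (p ^ 2) := ⟨pow_ne_zero 2 hp.ne_zero⟩
    obtain ⟨n, rfl⟩ : ∃ n : ℕ, x = (n : ZMod (p ^ 2)) := ⟨x.val, (ZMod.natCast_zmod_val x).symm⟩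
    rw [← Nat.cast_mul, ZMod.natCast_eq_zero_iff] at hx
    have h1 : p ∣ n := by
      rw [pow_two] at hx
      exact (Nat.mul_dvd_mul_iff_left hp.pos).1 hx
    obtain ⟨k, rfl⟩ := h1
    exact ⟨(k : ZMod (p ^ 2)), by push_cast; ring⟩
  have hA : ∀ a : Al, (p : Al) * a = 0 → ∃ a', a = (p : Al) * a' := by
    intro a ha
    have h1 : (p : ZMod (p ^ 2)) • a = 0 := by
      rw [Algebra.smul_def, map_natCast]; exact ha
    obtain ⟨a', ha'⟩ := ann_flat (p : ZMod (p ^ 2)) hZ2 hZ Al a h1
    refine ⟨a', ?_⟩
    rw [ha', Algebra.smul_def, map_natCast]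
  constructor
  · intro hflat b hb
    have h1 : (p : Al) • b = 0 := by
      rw [Algebra.smul_def, map_natCast]; exact hb
    obtain ⟨b', hb'⟩ := ann_flat (p : Al) hA2 hA Bl b h1
    rw [Ideal.mem_span_singleton']
    refine ⟨b', ?_⟩
    rw [hb', Algebra.smul_def, map_natCast, mul_comm]
  · intro htor
    set I : Ideal Al := Ideal.span {(p : Al)} with hI
    have hnil : IsNilpotent I := by
      refine ⟨2, ?_⟩
      rw [hI, Ideal.span_singleton_pow, pow_two, hA2]
      simp
    have hpI : (p : Al) ∈ I := Ideal.subset_span rfl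
    -- every element of I ⊗ Bl is of the form p ⊗ b
    have hform : ∀ t : TensorProduct Al I Bl, ∃ b : Bl, t = (⟨(p : Al), hpI⟩ : I) ⊗ₜ[Al] b := by
      intro t
      induction t using TensorProduct.induction_on with
      | zero => exact ⟨0, by simp⟩
      | tmul x b =>
        obtain ⟨a, ha⟩ := Ideal.mem_span_singleton'.1 x.2
        refine ⟨a • b, ?_⟩
        rw [← TensorProduct.smul_tmul]
        congr 1
        apply Subtype.ext
        rw [Submodule.coe_smul, smul_eq_mul]
        exact ha.symm
      | add x y hx hy =>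
        obtain ⟨b₁, rfl⟩ := hx
        obtain ⟨b₂, rfl⟩ := hy
        exact ⟨b₁ + b₂, by rw [TensorProduct.tmul_add]⟩
    have hinj : Function.Injective (I.subtype.rTensor Bl) := by
      rw [injective_iff_map_eq_zero]
      intro t ht
      obtain ⟨b, rfl⟩ := hform t
      rw [LinearMap.rTensor_tmul, Submodule.subtype_apply] at ht
      have h1 := congrArg (TensorProduct.lid Al Bl) ht
      rw [TensorProduct.lid_tmul, map_zero, Algebra.smul_def, map_natCast] at h1
      obtain ⟨c, hc⟩ := Ideal.mem_span_singleton'.1 (htor b h1)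
      have h2 : b = (p : Al) • c := by
        rw [Algebra.smul_def, map_natCast, mul_comm]; exact hc.symm
      rw [h2, ← TensorProduct.smul_tmul]
      have h3 : ((p : Al) • (⟨(p : Al), hpI⟩ : I)) = 0 := by
        apply Subtype.ext
        rw [Submodule.coe_smul, smul_eq_mul]
        exact hA2
      rw [h3, TensorProduct.zero_tmul]
    -- flatness of the reduction
    let e₁ : TensorProduct Al (Al ⧸ I) Bl ≃ₗ[Al] Bl ⧸ (I • (⊤ : Submodule Al Bl)) :=
      TensorProduct.quotTensorEquivQuotSMul Bl I
    let e₂ : (Bl ⧸ (I • (⊤ : Submodule Al Bl))) ≃ₗ[Al]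
        Bl ⧸ ((I.map (algebraMap Al Bl)).restrictScalars Al) :=
      Submodule.quotEquivOfEq _ _ (Ideal.smul_top_eq_map I)
    let e₃ : (Bl ⧸ ((I.map (algebraMap Al Bl)).restrictScalars Al)) ≃ₗ[Al]
        Bl ⧸ (I.map (algebraMap Al Bl)) :=
      Submodule.Quotient.restrictScalarsEquiv Al (I.map (algebraMap Al Bl))
    let e : TensorProduct Al (Al ⧸ I) Bl ≃ₗ[Al ⧸ I] Bl ⧸ (I.map (algebraMap Al Bl)) :=
      LinearEquiv.extendScalarsOfSurjective Ideal.Quotient.mk_surjective (e₁ ≪≫ₗ e₂ ≪≫ₗ e₃)
    haveI : Module.Flat (Al ⧸ I) (TensorProduct Al (Al ⧸ I) Bl) := Module.Flat.of_linearEquiv e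
    exact Groth.Agent.Lib.Helper9.flat_of_isNilpotent_of_rTensor_injective I hnil hinj

end Groth.Agent.S16742
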