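import Groth.Statements.S16754
import Groth.Agent.Lib.Helper21.GeomConnSch
import Groth.Agent.Lib.Helper21.PropH0b
import Groth.Agent.Lib.Helper1.GeomIntSmooth
import Groth.Agent.Lib.Helper10.HH0Const
import Groth.Agent.Lib.Helper14.ReducedEtale
-- import your own Groth.Agent.* helpers here

set_option autoImplicit false
universe u
open CurvSt

namespace Groth.Agent.S16754

open CategoryTheory CategoryTheory.Limits AlgebraicGeometry in
/-- Let k be a field and X a scheme which is proper and smooth over k and of dimension one. Then the
following are equivalent: dim_k H^0(X, O_X) = 1 (the ground field is the ring of global functions);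
X is geometrically connected over k; X is geometrically integral over k. (The remaining conditions
of the source concern membership in an open substack of the stack of curves and are not stated.) -/
theorem result (k : Type u) [Field k]
    (X : Scheme.{u}) [X.Over (Spec (CommRingCat.of k))] [IsProper (X ↘ Spec (CommRingCat.of k))]
    [Smooth (X ↘ Spec (CommRingCat.of k))] (hdim : topologicalKrullDim ↥X = 1) :
    (Module.finrank k (Coh.HH X (Coh.structureModule X) 0) = 1 ↔ GeometricallyConnected (X ↘ Spec (CommRingCat.of k))) ∧
      (GeometricallyConnected (X ↘ Spec (CommRingCat.of k)) ↔ GeometricallyIntegral (X ↘ Spec (CommRingCat.of k))) := by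
  classical
  set f := X ↘ Spec (CommRingCat.of k) with hf
  letI : Algebra k Γ(X, ⊤) := ((Scheme.ΓSpecIso (CommRingCat.of k)).inv ≫ f.appTop).hom.toAlgebra
  have halg : algebraMap k Γ(X, ⊤) = ((Scheme.ΓSpecIso (CommRingCat.of k)).inv ≫ f.appTop).hom := rfl
  haveI hne : Nonempty X := by
    by_contra hne
    rw [not_nonempty_iff] at hne
    have : topologicalKrullDim ↥X = ⊥ := by
      rw [topologicalKrullDim]
      haveI : IsEmpty (TopologicalSpace.IrreducibleCloseds ↥X) :=
        ⟨fun Z => hne.false Z.isIrreducible'.1.some⟩
      exact Order.krullDim_eq_bot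
    rw [this] at hdim
    exact absurd hdim (by decide)
  haveI hgr : GeometricallyReduced f :=
    ⟨fun K _ y Z fst snd H => by
      haveI : Smooth snd := MorphismProperty.of_isPullback H inferInstance
      exact Groth.Agent.Lib.Helper14.isReduced_of_smooth_scheme snd⟩
  refine ⟨⟨fun h0 => ?_, fun hgc => ?_⟩, ⟨fun hgc => ?_, fun hgi => ?_⟩⟩
  · have hbij := Groth.Agent.Lib.Helper10.HH0Const.bijective_of_finrank_hh0 k X h0
    rw [Groth.Agent.Lib.Helper21.GeomConnSch.geometricallyConnected_iff k f halg]
    refine ⟨hne, fun K _ _ => ?_⟩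
    have hbij' : Function.Bijective (Algebra.ofId k Γ(X, ⊤)) := hbij
    let e1 : k ≃ₐ[k] Γ(X, ⊤) := AlgEquiv.ofBijective (Algebra.ofId k Γ(X, ⊤)) hbij'
    let e : TensorProduct k K Γ(X, ⊤) ≃ₐ[K] K :=
      (Algebra.TensorProduct.congr (AlgEquiv.refl (R := K) (A₁ := K)) e1.symm).trans
        (Algebra.TensorProduct.rid k K K)
    haveI : Subsingleton (PrimeSpectrum (TensorProduct k K Γ(X, ⊤))) :=
      (PrimeSpectrum.homeomorphOfRingEquiv e.toRingEquiv).injective.subsingleton
    infer_instance
  · haveI := hgc
    apply Groth.Agent.Lib.Helper21.PropH0.finrank_hh0_eq_one_of_bijective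
    exact Groth.Agent.Lib.Helper21.PropH0.bijective_toGlobal_of_proper k X f
  · refine ⟨fun K _ y Z fst snd H => ?_⟩
    haveI : Smooth snd := MorphismProperty.of_isPullback H inferInstance
    haveI : IsReduced Z := Groth.Agent.Lib.Helper14.isReduced_of_smooth_scheme snd
    haveI : ConnectedSpace Z := hgc.geometrically_connectedSpace y fst snd H
    haveI : IsLocallyNoetherian Z := LocallyOfFiniteType.isLocallyNoetherian snd
    haveI : IrreducibleSpace Z := Groth.Agent.Lib.Helper1.ConnIrr.irreducibleSpace_of_connected Z
      (fun w => Groth.Agent.Lib.Helper1.GeomIntSmooth.isDomain_stalk_of_smooth snd w)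
    exact isIntegral_of_irreducibleSpace_of_isReduced Z
  · refine ⟨fun K _ y Z fst snd H => ?_⟩
    haveI : IsIntegral Z := hgi.geometrically_isIntegral y fst snd H
    infer_instance

end Groth.Agent.S16754
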