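import Groth.Statements.S16759
import Groth.Agent.Lib.Helper22.EGA7.Seesaw

set_option autoImplicit false
universe u
open PicF

namespace Groth.Agent.S16759

open AlgebraicGeometry CategoryTheory CategoryTheory.Limits in
open Groth.Agent.Lib.Helper22.EGA7 Groth.Agent.Lib.Helper29.QCoh in
/-- An invertible module on a one-point scheme is trivial. -/
theorem nonempty_iso_unit_of_subsingleton {Z : Scheme.{u}} [Subsingleton Z] {M : Z.Modules}
    (hM : PicF.IsInvertible M) (z : Z) : Nonempty (unitM Z ≅ M) := by
  obtain ⟨U, e, hzU, he⟩ := exists_isTriv hM z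
  have hU : U = ⊤ := by
    rw [eq_top_iff]
    intro x _
    rw [Subsingleton.elim x z]
    exact hzU
  subst hU
  have hiso : IsIso (homOfSection M e) := by
    rw [isIso_iff_app_bijective]
    intro W
    have h1 := he W le_top
    have hfun : (fun m => (homOfSection M e).app W m) =
        (fun r : Γ(Z, W) => r • res M le_top e) := by
      funext r
      have h2 := app_eq_smul_sval (homOfSection M e) W r
      rw [sval_homOfSection] at h2
      exact h2
    change Function.Bijective (fun m => (homOfSection M e).app W m)
    rw [hfun]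
    exact h1
  exact ⟨asIso (homOfSection M e)⟩


open AlgebraicGeometry CategoryTheory CategoryTheory.Limits in
open AlgebraicGeometry CategoryTheory CategoryTheory.Limits in
/-- Let f : X → Y be proper and flat with Y locally Noetherian and reduced, assume dim_{κ(y)} H⁰(X_y,
O_{X_y}) = 1 for every y, and let L be an invertible O_X-module. Then L ≅ f^*M for some invertible
O_Y-module M if and only if L|_{X_y} ≅ O_{X_y} for every point y of Y; moreover, when this holds,
f_*L is invertible and the counit f^*f_*L → L of the pullback–pushforward adjunction is an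
isomorphism (so one may take M = f_*L). (The published statement takes X and Y Noetherian; only
local Noetherianity of Y is used.) -/
theorem result {X Y : Scheme.{u}} (f : X ⟶ Y)
    [IsProper f] [Flat f] [IsLocallyNoetherian Y] [IsReduced Y]
    (h0 : ∀ y : Y, Module.finrank (Y.residueField y) Γ(f.fiber y, ⊤) = 1)
    (L : X.Modules) (hL : PicF.IsInvertible L) :
    ((∃ M : Y.Modules, PicF.IsInvertible M ∧ Nonempty ((Scheme.Modules.pullback f).obj M ≅ L)) ↔
        ∀ y : Y, Nonempty (CohIII.fiberMod f L y ≅ Coh.structureModule (f.fiber y))) ∧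
      ((∀ y : Y, Nonempty (CohIII.fiberMod f L y ≅ Coh.structureModule (f.fiber y))) →
        PicF.IsInvertible ((Scheme.Modules.pushforward f).obj L) ∧
          IsIso ((Scheme.Modules.pullbackPushforwardAdjunction f).counit.app L)) := by
  open Groth.Agent.Lib.Helper22.EGA7 Groth.Agent.Lib.Helper29.QCoh in
  have h0' : ∀ y : Y, CohIII.fiberRank f (unitM X) 0 y = 1 := by
    intro y
    rw [fiberRank_unit_zero]
    exact h0 y
  have key : (∀ y : Y, Nonempty (CohIII.fiberMod f L y ≅ Coh.structureModule (f.fiber y))) →
      PicF.IsInvertible ((Scheme.Modules.pushforward f).obj L) ∧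
        IsIso ((Scheme.Modules.pullbackPushforwardAdjunction f).counit.app L) :=
    fun htriv => seesaw f h0' L hL htriv
  refine ⟨⟨?_, ?_⟩, key⟩
  · rintro ⟨M, hM, ⟨θ⟩⟩ y
    -- `M` pulled back to `Spec κ(y)` is trivial
    have hM₁ : PicF.IsInvertible ((Scheme.Modules.pullback (Y.fromSpecResidueField y)).obj M) :=
      isInvertible_pullback _ hM
    haveI : Subsingleton ↥(Spec (Y.residueField y)) :=
      inferInstanceAs (Subsingleton (PrimeSpectrum (Y.residueField y)))
    obtain ⟨τ⟩ := nonempty_iso_unit_of_subsingleton hM₁
      (IsLocalRing.closedPoint (Y.residueField y))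
    exact ⟨(Scheme.Modules.pullback (f.fiberι y)).mapIso θ.symm ≪≫
      (Scheme.Modules.pullbackComp (f.fiberι y) f).app M ≪≫
      (Scheme.Modules.pullbackCongr (f.fiber_fac y)).app M ≪≫
      ((Scheme.Modules.pullbackComp (f.fiberToSpecResidueField y)
        (Y.fromSpecResidueField y)).app M).symm ≪≫
      (Scheme.Modules.pullback (f.fiberToSpecResidueField y)).mapIso τ.symm ≪≫
      pullbackUnitIso (f.fiberToSpecResidueField y)⟩
  · intro htriv
    obtain ⟨hinv, hiso⟩ := key htriv
    exact ⟨(Scheme.Modules.pushforward f).obj L, hinv,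
      ⟨asIso ((Scheme.Modules.pullbackPushforwardAdjunction f).counit.app L)⟩⟩

end Groth.Agent.S16759
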