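import Groth.Statements.S16762
import Mathlib

set_option autoImplicit false
universe u
open CAlgX

namespace Groth.Agent.S16762

open TensorProduct in
theorem key (A A' : Type u) [CommRing A] [CommRing A'] [Algebra A A']
    {M N : Type u} [AddCommGroup M] [Module A M] [AddCommGroup N] [Module A N] (u : M →ₗ[A] N)
    (Q' : Type u) [AddCommGroup Q'] [Module A' Q'] [Module A Q'] [IsScalarTower A A' Q'] :
    Function.Injective ((u.baseChange A').rTensor Q') ↔ Function.Injective (u.rTensor Q') := by
  rw [← LinearMap.lTensor_inj_iff_rTensor_inj, ← LinearMap.lTensor_inj_iff_rTensor_inj]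
  have h := TensorProduct.AlgebraTensorModule.lTensor_comp_cancelBaseChange
    (R := A) (A := A') (B := A') (M := Q') u
  have h1 : ∀ x, (AlgebraTensorModule.lTensor A' Q' u)
      (AlgebraTensorModule.cancelBaseChange A A' A' Q' M x) =
      AlgebraTensorModule.cancelBaseChange A A' A' Q' N
        ((u.baseChange A').lTensor Q' x) := fun x => LinearMap.congr_fun h x
  have h2 : ∀ y, (AlgebraTensorModule.lTensor A' Q' u) y = u.lTensor Q' y := fun y => rfl
  constructor
  · intro hinj x y hxy
    obtain ⟨x, rfl⟩ := (AlgebraTensorModule.cancelBaseChange A A' A' Q' M).surjective x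
    obtain ⟨y, rfl⟩ := (AlgebraTensorModule.cancelBaseChange A A' A' Q' M).surjective y
    rw [← h2, ← h2, h1, h1] at hxy
    rw [hinj ((AlgebraTensorModule.cancelBaseChange A A' A' Q' N).injective hxy)]
  · intro hinj x y hxy
    apply (AlgebraTensorModule.cancelBaseChange A A' A' Q' M).injective
    apply hinj
    rw [← h2, ← h2, h1, h1, hxy]


/-- Let A → A' be faithfully flat and u : M → N a map of A-modules. Then u is universally injective (u ⊗
id_Q injective for every A-module Q) if and only if its base change A' ⊗_A M → A' ⊗_A N is
universally injective as a map of A'-modules. -/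
theorem result (A A' : Type u) [CommRing A] [CommRing A']
    [Algebra A A'] [Module.FaithfullyFlat A A'] {M N : Type u} [AddCommGroup M] [Module A M]
    [AddCommGroup N] [Module A N] (u : M →ₗ[A] N) :
    CAlgX.UniversallyInjective A u ↔ CAlgX.UniversallyInjective A' (u.baseChange A') := by
  constructor
  · intro h Q' _ _
    letI : Module A Q' := Module.compHom Q' (algebraMap A A')
    haveI : IsScalarTower A A' Q' := IsScalarTower.of_compHom A A' Q'
    exact (key A A' u Q').mpr (h Q')
  · intro h Q _ _
    have h1 := (key A A' u (TensorProduct A A' Q)).mp (h (TensorProduct A A' Q))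
    rw [← Module.FaithfullyFlat.lTensor_injective_iff_injective A A']
    rw [← LinearMap.lTensor_inj_iff_rTensor_inj] at h1
    let e : ∀ (P : Type u) [AddCommGroup P] [Module A P],
        TensorProduct A (TensorProduct A A' Q) P ≃ₗ[A] TensorProduct A A' (TensorProduct A P Q) :=
      fun P _ _ => (TensorProduct.assoc A A' Q P).trans
        (TensorProduct.congr (LinearEquiv.refl A A') (TensorProduct.comm A Q P))
    have hc : (e N).toLinearMap ∘ₗ (u.lTensor (TensorProduct A A' Q)) =
        ((u.rTensor Q).lTensor A') ∘ₗ (e M).toLinearMap := by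
      apply TensorProduct.ext
      apply TensorProduct.ext
      rfl
    have hc' : ∀ x, (e N) (u.lTensor (TensorProduct A A' Q) x) =
        ((u.rTensor Q).lTensor A') ((e M) x) := fun x => LinearMap.congr_fun hc x
    intro x y hxy
    obtain ⟨x, rfl⟩ := (e M).surjective x
    obtain ⟨y, rfl⟩ := (e M).surjective y
    rw [← hc', ← hc'] at hxy
    rw [h1 ((e N).injective hxy)]

end Groth.Agent.S16762
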