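import Groth.Statements.S16763
import Groth.Agent.Lib.Helper14.LfpOfComp
import Groth.Agent.Lib.Helper25.FiberSquare
import Groth.Agent.Lib.Helper25.NhdStalk
import Groth.Agent.Lib.Helper25.FiberSmoothScheme2
import Groth.Agent.Lib.Helper25.FiberSmoothRelScheme

set_option autoImplicit false
universe u
open Unram17

namespace Groth.Agent.S16763

open AlgebraicGeometry CategoryTheory CategoryTheory.Limits in
/-- Let g : Y → S and h : X → S be locally of finite presentation, f : X → Y an S-morphism (f ≫ g = h),
and x a point of X with image s = h(x) such that h is flat at x. Then f is smooth at x (smooth on an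
open neighbourhood of x) if and only if the induced morphism of fibres X_s → Y_s is smooth at the
point of X_s lying over x. -/
theorem result {X Y S : Scheme.{u}} (g : Y ⟶ S) (h : X ⟶ S)
    [LocallyOfFinitePresentation g] [LocallyOfFinitePresentation h] (f : X ⟶ Y) (w : f ≫ g = h)
    (x : ↥X) (hflat : (h.stalkMap x).hom.Flat)
    (x' : ↥(h.fiber (h x))) (hx' : (h.fiberι (h x)) x' = x) :
    (∃ U : X.Opens, x ∈ U ∧ Smooth (U.ι ≫ f)) ↔
      ∃ V : (h.fiber (h x)).Opens, x' ∈ V ∧ Smooth (V.ι ≫ CohIII.fiberMapOver f h g w (h x)) := by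
  have hf : LocallyOfFinitePresentation f := by
    have : LocallyOfFinitePresentation (f ≫ g) := by rw [w]; infer_instance
    exact Groth.Agent.Lib.Helper14.AS.locallyOfFinitePresentation_of_comp f g this inferInstance
  have H := Groth.Agent.Lib.Helper25.FiberSquare.isPullback_fiberMapOver f h g w (h x)
  have hφ : LocallyOfFinitePresentation (CohIII.fiberMapOver f h g w (h x)) :=
    MorphismProperty.of_isPullback H hf
  rw [Groth.Agent.Lib.Helper25.NhdStalk.exists_smooth_nhd_iff f x,
    Groth.Agent.Lib.Helper25.NhdStalk.exists_smooth_nhd_iff _ x']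
  have aux : ∀ y : X, y = x →
      ((f.stalkMap y).hom.FormallySmooth ↔ (f.stalkMap x).hom.FormallySmooth) := by
    rintro _ rfl; exact Iff.rfl
  rw [← aux _ hx']
  have aux2 : ∀ (k : X ⟶ S) (y : X), k = h → y = x → (k.stalkMap y).hom.Flat := by
    rintro _ _ rfl rfl; exact hflat
  constructor
  · intro hsm
    exact Groth.Agent.Lib.Helper25.FiberSmoothScheme.preimage_smoothLocus_le_of_isPullback H hsm
  · intro hsm
    exact Groth.Agent.Lib.Helper25.FiberSmoothRelScheme.formallySmooth_stalkMap_of_fiber g f (h x)
      H x' (aux2 _ _ w hx') hsm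


end Groth.Agent.S16763
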