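import Groth.Statements.S16777
import Mathlib
import Groth.Agent.Lib.Helper10.PreLocus2
import Groth.Agent.Lib.Helper10.MultTypeProj

set_option autoImplicit false
open CategoryTheory MonoidalCategory CartesianMonoidalCategory MonObj GrpObj AlgebraicGeometry
universe u
open SGA3x

namespace Groth.Agent.S16777

set_option backward.isDefEq.respectTransparency.types false
set_option maxHeartbeats 4000000
set_option synthInstance.maxHeartbeats 400000

open CategoryTheory.Limits Groth.Agent.Lib.Helper10.ClosedSubF Groth.Agent.Lib.Helper10.WeilClosed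
  Groth.Agent.Lib.Helper10.PreLocus

/-- Let G be an affine group scheme of finite presentation over a scheme S, H ⊆ G a subgroup scheme of
multiplicative type (of finite type) and Y' ⊆ G any closed subscheme of finite presentation over S.
Then the transporter of H into Y' (points g with g h g⁻¹ in Y' for all points h of H after any base
change) is representable by a closed subscheme of G of finite presentation over S. -/
theorem result {S : Scheme.{u}} (G H Y' : Over S) [GrpObj G] [GrpObj H]
    (hGa : IsAffineHom G.hom) (hGfp : LocallyOfFinitePresentation G.hom)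
    (i : H ⟶ G) [IsMonHom i] [Mono i] (hH : SGA3x.IsMultTypeFT H)
    (y' : Y' ⟶ G) (hy' : IsClosedImmersion y'.left) (hY'fp : LocallyOfFinitePresentation Y'.hom) :
    ∃ (C : Over S) (c : C ⟶ G), IsClosedImmersion c.left ∧ LocallyOfFinitePresentation C.hom ∧
      ∀ (X : Over S) (g : X ⟶ G), (∃ z : X ⟶ C, z ≫ c = g) ↔
        ∀ (X' : Over S) (x : X' ⟶ X) (h : X' ⟶ H), ∃ a' : X' ⟶ Y', (x ≫ g) * (h ≫ i) * (x ≫ g)⁻¹ = a' ≫ y' := by
  haveI := hGfp
  haveI := hy'
  haveI := hY'fp
  haveI : LocallyOfFinitePresentation y'.left := lfp_left_of_lfp y'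
  obtain ⟨S', f, hflat, -, hfpqc, hloc⟩ := hH
  haveI := hflat
  let m : H ⊗ G ⟶ G := snd H G * (fst H G ≫ i) * (snd H G)⁻¹
  obtain ⟨C, c, hc, hCfp, h⟩ := exists_closed_pre_lfp_of_fpqc (X := G) f hfpqc
    (affLocProj_of_multType H f hloc) m y'
  refine ⟨C, c, hc, hCfp, fun X g => (h X g).trans ?_⟩
  refine forall_congr' fun X' => forall_congr' fun x => forall_congr' fun a => ?_
  rw [MonObj.comp_mul, MonObj.comp_mul, GrpObj.comp_inv, lift_snd, lift_fst_assoc]

end Groth.Agent.S16777
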