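import Groth.Statements.S16801
import Groth.Agent.Lib.Helper7.HilbertFin

set_option autoImplicit false
universe u
open LunaSt

namespace Groth.Agent.S16801

/-- Let `k` be a field and `H` a commutative Hopf algebra of finite type over `k` all of whose
finite-dimensional comodules are semisimple (a linearly reductive affine group `G = Spec H` of
finite type). Let `A` be a Noetherian commutative `k`-algebra with a coaction of `H` that is an
algebra map (an action of `G` on `Spec A`), and `C` a commutative `A`-algebra of finite type with a
coaction of `H` that is an algebra map, such that the structure map `A → C` is a comodule map (a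
finitely generated `G`-equivariant quasi-coherent algebra on `Spec A`). Then the invariants `C^G`
form a finitely generated algebra over `A^G`: there is a finite subset `s` of `C` such that `C^G` is
the `k`-subalgebra generated by the image of `A^G` and `s`. (The published statement is that for a
Noetherian algebraic stack with a good moduli space `π`, pushforward along `π` preserves finitely
generated algebras; this row is its case `[Spec A/G] → Spec A^G`, for which the pushforward of the
algebra given by `C` has global sections `C^G`. All of `k`, `H`, `A`, `C` are taken in one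
universe.) -/
theorem result
    (k : Type u) [Field k] (H : Type u) [CommRing H] [HopfAlgebra k H] [Algebra.FiniteType k H]
    (hG : HopfRep.IsLinearlyReductive k H)
    (A : Type u) [CommRing A] [Algebra k A] [IsNoetherianRing A]
    [HopfRep.Comod k H A] [GLin.IsCoactAlg k H A]
    (C : Type u) [CommRing C] [Algebra k C] [HopfRep.Comod k H C] [GLin.IsCoactAlg k H C]
    [Algebra A C] [IsScalarTower k A C] [Algebra.FiniteType A C]
    (hAC : Hoch.IsComodHom H (IsScalarTower.toAlgHom k A C).toLinearMap) :
    ∃ s : Finset C, GLin.invariants k H C =
      Algebra.adjoin k (⇑(algebraMap A C) '' ↑(GLin.invariants k H A) ∪ ↑s) := by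
  classical
  have hC := Groth.Agent.Lib.Helper7.Comod.isSemisimpleComod_of_isLinearlyReductive' hG C
  have hA := Groth.Agent.Lib.Helper7.Comod.isSemisimpleComod_of_isLinearlyReductive' hG A
  set φ : A →ₐ[k] C := IsScalarTower.toAlgHom k A C with hφ
  have hφa : ∀ a, φ a = algebraMap A C a := fun a => rfl
  haveI : IsNoetherianRing φ.range :=
    isNoetherianRing_of_surjective A φ.range φ.rangeRestrict.toRingHom φ.rangeRestrict_surjective
  have hrange : Subalgebra.toSubmodule φ.range = LinearMap.range φ.toLinearMap := by
    ext x; simp [AlgHom.mem_range]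
  have hA₁ : HopfRep.IsSubcomod (k := k) (A := H) (Subalgebra.toSubmodule φ.range) := by
    rw [hrange]; exact Groth.Agent.Lib.Helper7.Comod.isSubcomod_range hAC
  obtain ⟨t, ht⟩ := (Algebra.FiniteType.out : (⊤ : Subalgebra A C).FG)
  have ht' : Algebra.adjoin k ((φ.range : Set C) ∪ t) = ⊤ := by
    rw [eq_top_iff]
    intro x _
    have hx : x ∈ Algebra.adjoin A (t : Set C) := by rw [ht]; trivial
    induction hx using Algebra.adjoin_induction with
    | mem x hx => exact Algebra.subset_adjoin (Or.inr hx)
    | algebraMap a => exact Algebra.subset_adjoin (Or.inl ⟨a, rfl⟩)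
    | add x y _ _ hx hy => exact Subalgebra.add_mem _ (hx trivial) (hy trivial)
    | mul x y _ _ hx hy => exact Subalgebra.mul_mem _ (hx trivial) (hy trivial)
  obtain ⟨s, hsT, hs⟩ := Groth.Agent.Lib.Helper7.Comod.exists_finset_invariants_adjoin hC φ.range
    hA₁ t ht'
  obtain ⟨EA, hEA⟩ := Groth.Agent.Lib.Helper7.Comod.exists_isReynolds hA
  obtain ⟨EC, hEC⟩ := Groth.Agent.Lib.Helper7.Comod.exists_isReynolds hC
  refine ⟨s, le_antisymm ?_ ?_⟩
  · intro f hf
    refine Algebra.adjoin_mono ?_ (hs f hf)
    rintro c (⟨⟨a, rfl⟩, hc⟩ | hc)
    · left
      refine ⟨EA a, hEA.apply_mem a, ?_⟩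
      have h1 := LinearMap.congr_fun
        (Groth.Agent.Lib.Helper7.Comod.IsReynolds.comp_eq hA hEA hEC hAC) a
      simp only [LinearMap.comp_apply] at h1
      have h2 : EC (φ a) = φ a := (hEC.2.2 _).2 hc
      change φ (EA a) = φ a
      rw [← h2]
      exact h1.symm
    · right; exact hc
  · apply Algebra.adjoin_le
    rintro c (⟨a, ha, rfl⟩ | hc)
    · change HopfRep.Comod.coact (k := k) (A := H) (φ.toLinearMap a) = _
      rw [Groth.Agent.Lib.Helper7.Comod.isComodHom_apply hAC,
        (GLin.mem_invariants_iff k H A a).1 ha]
      rfl
    · exact hsT c hc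

end Groth.Agent.S16801
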