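import Groth.Statements.S16805
import Groth.Agent.Lib.Helper24.GerbRes5

set_option autoImplicit false
universe u
open CategoryTheory AlgebraicGeometry
open Gerb

namespace Groth.Agent.S16805

open CategoryTheory AlgebraicGeometry Opposite
open Groth.Agent.Lib.Helper24.GerbRes1 Groth.Agent.Lib.Helper24.GerbRes5


/-- For an algebraic stack 𝒵 the following are equivalent: 𝒵 is reduced with exactly one point; 𝒵
receives a surjective flat morphism from the spectrum of a field; 𝒵 receives a locally of finite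
type, surjective, flat morphism from the spectrum of a field. -/
theorem result
    (S : Scheme.{u}) (𝒵 : AlgSt.Cat S) (h𝒵 : AlgSt.IsAlgStack Scheme.fppfPrecoverage 𝒵) :
    [AlgSt.SmoothLocally (fun T => IsReduced T) 𝒵 ∧ Nonempty (AlgSt.Points 𝒵) ∧ Subsingleton (AlgSt.Points 𝒵),
      ∃ (k : Type u) (_ : Field k) (a : Spec (CommRingCat.of k) ⟶ S)
        (z : FibCat.overCat (Over.mk a) ⥤ᵇ 𝒵), AlgSt.RepByAlgSpWith AlgSp.IsSurjectiveMor z ∧ AlgSt.RepByAlgSpWith (AlgSp.LocP @Flat) z,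
      ∃ (k : Type u) (_ : Field k) (a : Spec (CommRingCat.of k) ⟶ S)
        (z : FibCat.overCat (Over.mk a) ⥤ᵇ 𝒵), AlgSt.RepByAlgSpWith (AlgSp.LocP @LocallyOfFiniteType) z ∧
          AlgSt.RepByAlgSpWith AlgSp.IsSurjectiveMor z ∧ AlgSt.RepByAlgSpWith (AlgSp.LocP @Flat) z].TFAE := by
  tfae_have 1 → 2 := by
    rintro ⟨hred, hne, hsub⟩
    obtain ⟨k, hk, a, z, hz⟩ := exists_flat_fieldPt_of_reduced h𝒵 hred hne
    exact ⟨k, hk, a, z, surjective_fieldPt_of_subsingleton h𝒵 z hsub, hz⟩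
  tfae_have 2 → 3 := by
    rintro ⟨k, hk, a, z, hzs, hzf⟩
    obtain ⟨k', hk', a', z', hz'⟩ := exists_lft_fieldPt h𝒵 (nonempty_points_of_fieldPt z)
    have := fieldPt_surjective_flat h𝒵 z hzs hzf z'
    exact ⟨k', hk', a', z', hz', this.1, this.2⟩
  tfae_have 3 → 2 := by
    rintro ⟨k, hk, a, z, -, hzs, hzf⟩
    exact ⟨k, hk, a, z, hzs, hzf⟩
  tfae_have 2 → 1 := by
    rintro ⟨k, hk, a, z, hzs, hzf⟩
    exact ⟨smoothLocally_isReduced_of_fieldPt h𝒵 z hzs hzf, nonempty_points_of_fieldPt z,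
      subsingleton_points_of_fieldPt h𝒵 z hzs⟩
  tfae_finish

end Groth.Agent.S16805
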