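import Groth.Statements.S16826
import Groth.Agent.Lib.Helper24.QuotSt17
import Groth.Agent.Lib.Helper24.AlgStLocQ6
import Groth.Agent.Lib.Helper24.AlgStSmLoc

set_option autoImplicit false
universe u
open AlgSt

namespace Groth.Agent.S16826

open CategoryTheory CategoryTheory.Limits AlgebraicGeometry
open Groth.Agent.Lib.Helper24.QuotSt6 Groth.Agent.Lib.Helper24.QuotSt5
open Groth.Agent.Lib.Helper24.QuotSt17 Groth.Agent.Lib.Helper24.EtSheaf


open CategoryTheory AlgebraicGeometry in
/-- Let S be a scheme, G a group scheme over S whose structure morphism G → S is smooth and affine, and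
X a scheme over S with an action of G. Then the quotient stack [X/G] over (Sch/S), whose objects
over T are the G-torsors P → T locally trivial for the etale topology together with an equivariant
morphism P → X, is an algebraic stack for the big etale topology, and the canonical functor (Sch/X)
→ [X/G] (sending x : T → X to the trivial torsor with the orbit map of x) is representable by
algebraic spaces, smooth, surjective and affine. The source allows X to be an algebraic space; X is
a scheme here. -/
theorem result (S : Scheme.{u}) (G : Over S) [GrpObj G]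
    (hGs : Smooth G.hom) (hGa : IsAffineHom G.hom) (X : Over S) (aX : AlgGrp.Action G X) :
    AlgSt.IsAlgStack Scheme.etalePrecoverage (AlgSt.QuotSt Scheme.etalePrecoverage G aX) ∧
      AlgSt.RepByAlgSpWith (AlgSp.LocP @Smooth)
        (BasedFunctor.comp (AlgSt.ofOverCat X) (AlgSt.quotMap Scheme.etalePrecoverage G aX)) ∧
      AlgSt.RepByAlgSpWith AlgSp.IsSurjectiveMor
        (BasedFunctor.comp (AlgSt.ofOverCat X) (AlgSt.quotMap Scheme.etalePrecoverage G aX)) ∧
      AlgSt.RepByAlgSpWith AlgSp.IsAffineMor
        (BasedFunctor.comp (AlgSt.ofOverCat X) (AlgSt.quotMap Scheme.etalePrecoverage G aX)) := by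
  have hsm : ∀ (U : Over S)
      (y : FibCat.overCat U ⥤ᵇ AlgSt.QuotSt Scheme.etalePrecoverage G aX), Smooth (piU y).left :=
    fun U y => piU_left_prop @Smooth y
      (torsor_prop_of_le etalePrecoverage_le @Smooth hGs (tors y))
  have hsurj : ∀ (U : Over S)
      (y : FibCat.overCat U ⥤ᵇ AlgSt.QuotSt Scheme.etalePrecoverage G aX),
      Surjective (piU y).left :=
    fun U y => piU_left_prop @Surjective y
      (torsor_prop_of_le etalePrecoverage_le @Surjective surjective_hom_of_grpObj (tors y))
  have haff : ∀ (U : Over S)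
      (y : FibCat.overCat U ⥤ᵇ AlgSt.QuotSt Scheme.etalePrecoverage G aX),
      IsAffineHom (piU y).left :=
    fun U y => piU_left_prop @IsAffineHom y (isAffineHom_π etalePrecoverage_le (tors y))
  have h1 : AlgSt.RepByAlgSpWith (AlgSp.LocP @Smooth)
      (BasedFunctor.comp (AlgSt.ofOverCat X) (AlgSt.quotMap Scheme.etalePrecoverage G aX)) :=
    repByAlgSpWith_quotMap _ fun U y =>
      Groth.Agent.Lib.Helper24.AlgStLocQ6.locP_yon_map_of
        Groth.Agent.Lib.Helper14.AS.etLocal_smooth (hsm U y)
  have h2 : AlgSt.RepByAlgSpWith AlgSp.IsSurjectiveMor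
      (BasedFunctor.comp (AlgSt.ofOverCat X) (AlgSt.quotMap Scheme.etalePrecoverage G aX)) :=
    repByAlgSpWith_quotMap _ fun U y =>
      Groth.Agent.Lib.Helper24.AlgStSmLoc.isSurjectiveMor_yon_map_of_surjective _ (hsurj U y)
  have h3 : AlgSt.RepByAlgSpWith AlgSp.IsAffineMor
      (BasedFunctor.comp (AlgSt.ofOverCat X) (AlgSt.quotMap Scheme.etalePrecoverage G aX)) :=
    repByAlgSpWith_quotMap _ fun U y =>
      Groth.Agent.Lib.Helper14.AS.isAffineMor_of_repWith
        ((AlgSp.repWith_yon_map_iff @IsAffineHom (piU y)).2 (haff U y))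
  refine ⟨?_, h1, h2, h3⟩
  exact Groth.Agent.Lib.Helper24.AlgStSmoothCoverEt.isAlgStack_etale_of_hasAtlas _
    (isStack_quotSt_etale aX) ⟨X, _, h1, h2⟩

end Groth.Agent.S16826
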