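import Groth.Statements.S16828
import Groth.Agent.Lib.Helper24.AlgStInertia2
import Groth.Agent.Lib.Helper24.AlgStDiagAtlas
import Groth.Agent.Lib.Helper24.UnrMono
import Groth.Agent.S10295
import Groth.Agent.S10300

set_option autoImplicit false
universe u
open AlgSt

namespace Groth.Agent.S16828

open CategoryTheory CategoryTheory.Limits AlgebraicGeometry Opposite
open AlgSp Groth.Agent.Lib.Helper14.AS
open Groth.Agent.Lib.Helper24.AlgStSchLocal Groth.Agent.Lib.Helper24.AlgStRepS
open Groth.Agent.Lib.Helper24.AlgStProps Groth.Agent.Lib.Helper24.AlgStGC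
open Groth.Agent.Lib.Helper24.AlgStSepDiag Groth.Agent.Lib.Helper24.AlgStSep2
open Groth.Agent.Lib.Helper24.AlgStRep Groth.Agent.Lib.Helper24.AlgStSmLoc
open Groth.Agent.Lib.Helper24.AlgStBoot
open Groth.Agent.Lib.Helper24.AlgStDiagLft
open Groth.Agent.Lib.Helper24.AlgStMono Groth.Agent.Lib.Helper24.AlgStIso
open Groth.Agent.Lib.Helper24.AlgStDiagAtlas Groth.Agent.Lib.Helper24.AlgStDiagLC

/-- a separated, quasi-compact, unramified morphism of algebraic spaces is quasi-affine -/
theorem isQuasiAffineMor_of_unramified {S : Scheme.{u}} {X Y : AlgSp.Sp S}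
    (hX : AlgSp.IsAlgSpace X) (hY : AlgSp.IsAlgSpace Y) (f : X ⟶ Y)
    (hu : AlgSp.LocP (@LocallyOfFiniteType ⊓ @FormallyUnramified) f)
    (hqc : AlgSp.IsQuasiCompactMor f) (hsep : AlgSp.IsSeparatedMor f) :
    AlgSp.IsQuasiAffineMor f := by
  have hqf : AlgSp.LocP (@LocallyQuasiFinite ⊓ @LocallyOfFiniteType) f :=
    Groth.Agent.Lib.Helper14.AS.locP_mono (fun A B g hg => by
      have : LocallyOfFiniteType g := hg.1
      have : FormallyUnramified g := hg.2
      exact ⟨Groth.Agent.Lib.Helper24.UnrMono.locallyQuasiFinite_of_unramified g, hg.1⟩) hu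
  have hqs : AlgSp.IsQuasiSeparatedMor f :=
    repWith_mono (fun A B g hg => by
      have : IsClosedImmersion g := hg
      exact (inferInstance : QuasiCompact g)) hsep
  let X' : AlgSp.Space S := ⟨X, hX⟩
  let Y' : AlgSp.Space S := ⟨Y, hY⟩
  let f' : X' ⟶ Y' := ObjectProperty.homMk f
  obtain ⟨Z, ν, g, hn⟩ := Groth.Agent.S10295.result f' hqc hqs
  exact (Groth.Agent.S10300.result f' hqf hqc hsep ν g hn).2.2

set_option backward.isDefEq.respectTransparency false in
set_option backward.isDefEq.respectTransparency.types false in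

open CategoryTheory AlgebraicGeometry in
/-- Let 𝒳 be a Deligne–Mumford stack over (Sch/S) for the etale topology whose diagonal 𝒳 → 𝒳
×_{(Sch/S)} 𝒳 is separated and quasi-compact (representable by algebraic spaces with these
properties). Then the diagonal is quasi-affine: representable by algebraic spaces with every base
change to a scheme a quasi-affine morphism. The source states this for the absolute diagonal; the
diagonal over S is used here. -/
theorem result {S : Scheme.{u}} (𝒳 : AlgSt.Cat S)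
    (h𝒳 : AlgSt.IsDM Scheme.etalePrecoverage 𝒳)
    (hsep : AlgSt.RepByAlgSpWith AlgSp.IsSeparatedMor (FibCat.diag (FibCat.toSelf 𝒳)))
    (hqc : AlgSt.RepByAlgSpWith AlgSp.IsQuasiCompactMor (FibCat.diag (FibCat.toSelf 𝒳))) :
    AlgSt.RepByAlgSpWith AlgSp.IsQuasiAffineMor (FibCat.diag (FibCat.toSelf 𝒳)) := by
  obtain ⟨halg, U, x, hxe, hxs⟩ := h𝒳
  have hU : AlgSt.RepByAlgSp (FibCat.overCat U) :=
    Groth.Agent.Lib.Helper24.AlgStCalc.repByAlgSp_overCat U
  have hxl : AlgSt.RepByAlgSpWith (AlgSp.LocP @Etale) x :=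
    repByAlgSpWith_mono (fun _ _ a ha => locP_etale_of_isEtaleMor ha) x hxe
  have hx₁ : AlgSt.RepByAlgSpWith (AlgSp.LocP @Flat) x :=
    repByAlgSpWith_mono (fun _ _ a ha => Groth.Agent.Lib.Helper14.AS.locP_mono
      (fun A B g hg => by have : Etale g := hg; exact (inferInstance : Flat g)) ha) x hxl
  have hx₂ : AlgSt.RepByAlgSpWith (AlgSp.LocP @LocallyOfFinitePresentation) x :=
    repByAlgSpWith_mono (fun _ _ a ha => Groth.Agent.Lib.Helper14.AS.locP_mono
      (fun A B g hg => by
        have : Etale g := hg; exact (inferInstance : LocallyOfFinitePresentation g)) ha) x hxl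
  have hxu : AlgSt.RepByAlgSpWith (AlgSp.LocP (@LocallyOfFiniteType ⊓ @FormallyUnramified)) x :=
    repByAlgSpWith_mono (fun _ _ a ha => Groth.Agent.Lib.Helper14.AS.locP_mono
      (fun A B g hg => by
        have : Etale g := hg
        exact ⟨(inferInstance : LocallyOfFiniteType g), (inferInstance : FormallyUnramified g)⟩)
      ha) x hxl
  have hu : AlgSt.RepByAlgSpWith (AlgSp.LocP (@LocallyOfFiniteType ⊓ @FormallyUnramified))
      (FibCat.diag (FibCat.toSelf 𝒳)) :=
    repByAlgSpWith_diag_of_chart (Groth.Agent.Lib.Helper24.StkFpCrit.isFibGrpd_overForget U)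
      halg.isStack.1 Groth.Agent.Lib.Helper24.FibCatInertia.isFibGrpd_selfOver _
      good_unramified leftCancel_unramified (FibCat.toSelf 𝒳) halg.diag x hU
      (Groth.Agent.Lib.Helper24.AlgStDiag.repByAlgSp_fp_comp_toSelf hU hU _ _)
      hx₁ hx₂ hxs hxu
  have h3 := repByAlgSpWith_and _ _ good_isQuasiCompactMor.respectsIso _
    (repByAlgSpWith_and _ _ good_unramified.respectsIso _ hsep hu) hqc
  exact repByAlgSpWith_mono' (fun X Y hX hY a ha =>
    isQuasiAffineMor_of_unramified hX hY a ha.1.2 ha.2 ha.1.1) _ h3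

end Groth.Agent.S16828
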