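import Groth.Statements.S8852
import Groth.Agent.Lib.Helper25.EffCartierAlg

set_option autoImplicit false
universe u
open CategoryTheory CategoryTheory.Limits AlgebraicGeometry TopologicalSpace
open SDiv

namespace Groth.Agent.S8852

open Groth.Agent.Lib.Helper25.EffCartierAlg in
theorem isEff_left {X : Scheme.{u}} (𝓘 𝓙 : X.IdealSheafData)
    (h : BlowUp.IsEffCartierIdeal (𝓘 * 𝓙)) : BlowUp.IsEffCartierIdeal 𝓘 := by
  intro x
  obtain ⟨U, hxU, f, hf, hIJ⟩ := h x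
  rw [Scheme.IdealSheafData.ideal_mul, Pi.mul_apply] at hIJ
  have hs := span_coeffs_eq_top (𝓘.ideal U) (𝓙.ideal U) f hf hIJ
  have hcov := iSup_basicOpen_of_span_eq_top U.1 _ hs
  have hx' : x ∈ ⨆ i ∈ {c : Γ(X, U.1) | ∃ a ∈ 𝓘.ideal U, ∃ b ∈ 𝓙.ideal U, a * b = c * f},
      X.basicOpen i := by
    rw [hcov]
    exact hxU
  simp only [Opens.mem_iSup] at hx'
  obtain ⟨g, ⟨a, ha, b, hb, hab⟩, hxg⟩ := hx'
  refine ⟨X.affineBasicOpen g, hxg, ?_⟩
  letI := (X.presheaf.map (homOfLE (X.basicOpen_le g)).op).hom.toAlgebra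
  haveI := U.2.isLocalization_basicOpen g
  obtain ⟨h1, h2⟩ := map_eq_span_and_mem_nonZeroDivisors hf hIJ ha hb hab Γ(X, X.basicOpen g)
  refine ⟨algebraMap Γ(X, U.1) Γ(X, X.basicOpen g) a, h2, ?_⟩
  rw [← 𝓘.map_ideal_basicOpen U g]
  exact h1

/-- Let 𝓘, 𝓙 be quasi-coherent ideal sheaves on a scheme X (closed subschemes Z, Y). If the product 𝓘𝓙
is the ideal sheaf of an effective Cartier divisor D, then 𝓘 and 𝓙 are ideal sheaves of effective
Cartier divisors (and D is their sum, D having ideal 𝓘𝓙 by assumption). -/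
theorem result {X : Scheme.{u}} (𝓘 𝓙 : X.IdealSheafData)
    (h : BlowUp.IsEffCartierIdeal (𝓘 * 𝓙)) : BlowUp.IsEffCartierIdeal 𝓘 ∧ BlowUp.IsEffCartierIdeal 𝓙 := by
  refine ⟨isEff_left 𝓘 𝓙 h, isEff_left 𝓙 𝓘 ?_⟩
  rw [mul_comm]
  exact h

end Groth.Agent.S8852
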