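import Groth.Statements.S1683
import Groth.Agent.Lib.Helper25.BlowUpReg
import Groth.Agent.S8852

set_option autoImplicit false
universe u
open CategoryTheory CategoryTheory.Limits AlgebraicGeometry TopologicalSpace
open SDiv

namespace Groth.Agent.S1683

/-- Let 𝓘, 𝓙 be quasi-coherent ideal sheaves on X, b : X' ⟶ X a blowing-up along 𝓘 and b' : X'' ⟶ X' a
blowing-up along the inverse image ideal of 𝓙. Then b' ≫ b : X'' ⟶ X is a blowing-up of X along the
product ideal 𝓘𝓙. -/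
theorem result {X X' X'' : Scheme.{u}} (𝓘 𝓙 : X.IdealSheafData) (b : X' ⟶ X) (hb : BlowUp.IsBlowUp b 𝓘)
    (b' : X'' ⟶ X') (hb' : BlowUp.IsBlowUp b' (𝓙.comap b)) : BlowUp.IsBlowUp (b' ≫ b) (𝓘 * 𝓙) := by
  refine ⟨?_, fun Y g hg => ?_⟩
  · rw [Scheme.IdealSheafData.comap_comp, Groth.Agent.Lib.Helper1.comap_mul,
      Groth.Agent.Lib.Helper1.comap_mul]
    exact Groth.Agent.Lib.Helper25.BlowUpUP.isEffCartierIdeal_mul _ _
      (Groth.Agent.Lib.Helper25.BlowUpUP.isEffCartierIdeal_comap_of_isBlowUp _ b' hb' _ hb.1) hb'.1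
  · rw [Groth.Agent.Lib.Helper1.comap_mul] at hg
    obtain ⟨hg1, hg2⟩ := Groth.Agent.S8852.result _ _ hg
    obtain ⟨h, hh, hh'⟩ := hb.2 Y g hg1
    have hg3 : BlowUp.IsEffCartierIdeal ((𝓙.comap b).comap h) := by
      rw [← Scheme.IdealSheafData.comap_comp, hh]
      exact hg2
    obtain ⟨k, hk, hk'⟩ := hb'.2 Y h hg3
    refine ⟨k, ?_, fun m hm => ?_⟩
    · change k ≫ b' ≫ b = g
      rw [← Category.assoc, hk, hh]
    · apply hk'
      apply hh'
      rw [Category.assoc]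
      exact hm

end Groth.Agent.S1683
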