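import Groth.Statements.S16833
import Groth.Agent.Lib.Helper14.EtSplit
import Groth.Agent.Lib.Helper14.Norm9
import Groth.Agent.Lib.Helper14.AlgSpPoints2

set_option autoImplicit false
universe u
open AlgSp

namespace Groth.Agent.S16833

open CategoryTheory AlgebraicGeometry in
/-- Let p : U → X and f : X → Y be morphisms of algebraic spaces over a scheme S with p etale and
surjective and f separated. If the composite U → Y is finite, then f is finite. -/
theorem result {S : Scheme.{u}}
    {U X Y : AlgSp.Space S} (p : U ⟶ X) (f : X ⟶ Y)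
    (hp : AlgSp.IsEtaleMor p.hom) (hps : AlgSp.IsSurjectiveMor p.hom)
    (hf : AlgSp.IsSeparatedMor f.hom) (h : AlgSp.IsFiniteMor (p ≫ f).hom) :
    AlgSp.IsFiniteMor f.hom := by
  open CategoryTheory.Limits Groth.Agent.Lib.Helper14.AS in
  intro Z hZ g
  obtain ⟨W, i, fstW, sqW, hWaff, hifin⟩ := h hZ g
  have sqX := IsPullback.of_hasPullback f.hom g
  have hXZ : IsAlgSpace (pullback f.hom g) :=
    isAlgSpace_of_isPullback (repDiag_of_isAlgSpace Y.2) X.2 (IsAlgSpace.yon_obj Z) sqX
  have hcomm : (fstW ≫ p.hom) ≫ f.hom = (yon S).map i ≫ g := by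
    rw [Category.assoc]; exact sqW.w
  obtain ⟨pZ, hpZ1, hpZ2⟩ : ∃ pZ : (yon S).obj W ⟶ pullback f.hom g,
      pZ ≫ pullback.fst f.hom g = fstW ≫ p.hom ∧ pZ ≫ pullback.snd f.hom g = (yon S).map i :=
    ⟨pullback.lift _ _ hcomm, pullback.lift_fst _ _ _, pullback.lift_snd _ _ _⟩
  have sqP : IsPullback pZ fstW (pullback.fst f.hom g) p.hom := by
    refine IsPullback.of_right ?_ hpZ1 sqX.flip
    rw [hpZ2]
    exact sqW.flip
  have hpZe : IsEtaleMor pZ := isEtaleMor_of_isPullback U.2 X.2 hXZ sqP.flip hp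
  have hpZs : IsSurjectiveMor pZ := isSurjectiveMor_of_isPullback sqP.flip hps
  have hpZe' : RepWith @Etale pZ := by
    have := hpZe (𝟙 _) (repWith_id _ W)
    rwa [Category.id_comp] at this
  have hpZs' : RepWith @Surjective pZ := repWith_surjective_of_isSurjectiveMor hpZe'.rep hpZs
  have : IsFinite i.left := hifin
  have hlqf : LocP (@LocallyQuasiFinite ⊓ @LocallyOfFiniteType) (pullback.snd f.hom g) := by
    refine locP_of_source_cover etLocal_lqf_lft (IsAlgSpace.yon_obj Z) _ pZ hpZe' hpZs' ?_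
    rw [hpZ2]
    refine locP_of_repWith (fun _ _ k hk => ⟨by have : Etale k := hk; exact etale_locallyQuasiFinite k,
      etale_le_lft _ _ _ hk⟩) ((repWith_yon_map_iff _ _).2 ⟨inferInstance, inferInstance⟩)
  have hG : Groth.Agent.Lib.Helper24.Slqf.Good (pullback.snd f.hom g) :=
    ⟨hXZ, isSeparatedMor_of_isPullback sqX hf, hlqf⟩
  obtain ⟨T, ⟨ε⟩⟩ := Groth.Agent.Lib.Helper24.Slqf.exists_iso_yon_of_good _ hG
  obtain ⟨φ, hφ⟩ := (yon S).map_surjective (ε.hom ≫ pullback.snd f.hom g)
  obtain ⟨hφsep, hφqf, hφlft⟩ := hG.of_open ε.hom (repWith_of_isIso _ ε.hom) φ hφ.symm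
  obtain ⟨w, hw⟩ := (yon S).map_surjective (pZ ≫ ε.inv)
  have hwφ : w ≫ φ = i := by
    apply (yon S).map_injective
    rw [Functor.map_comp, hw, hφ, Category.assoc, Iso.inv_hom_id_assoc, hpZ2]
  have hws : Surjective w.left := by
    have h1 : RepWith @Surjective ((yon S).map w) := by
      rw [hw]
      exact repWith_comp _ hpZs' (repWith_of_isIso _ ε.inv)
    exact (repWith_yon_map_iff _ _).1 h1
  have hwφl : w.left ≫ φ.left = i.left := congrArg CommaMorphism.left hwφ
  have huc : UniversallyClosed φ.left := by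
    have : UniversallyClosed (w.left ≫ φ.left) := by rw [hwφl]; infer_instance
    exact UniversallyClosed.of_comp_surjective w.left φ.left
  have hprop : IsProper φ.left := { }
  have hfin : IsFinite φ.left := IsFinite.of_isProper_of_locallyQuasiFinite φ.left
  have hTaff : IsAffine T.left := isAffine_of_isAffineHom φ.left
  refine ⟨T, φ, ε.hom ≫ pullback.fst f.hom g, ?_, hTaff, hfin⟩
  refine IsPullback.of_iso sqX ε.symm (Iso.refl _) (Iso.refl _) (Iso.refl _) ?_ ?_ ?_ ?_
  · simp
  · simp [hφ]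
  · simp
  · simp

end Groth.Agent.S16833
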