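import Groth.Statements.S16835
import Mathlib
import Groth.Agent.Lib.Helper20.FQ4

set_option autoImplicit false
universe u
open InvTh

namespace Groth.Agent.S16835



open Groth.Agent.Lib.Helper20.FQ in
theorem aux (R : Type u)
    [CommRing R] [IsNoetherianRing R] (A B : Type u) [CommRing A] [CommRing B] [Algebra R A] [Algebra R B]
    [Algebra.FiniteType R A] [Algebra.FiniteType R B]
    (G : Type u) [Group G] [Fintype G] [MulSemiringAction G A] [MulSemiringAction G B]
    [SMulCommClass G R A] [SMulCommClass G R B]
    [Algebra B A] [IsScalarTower R B A]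
    (hGeq : ∀ (g : G) (b : B), algebraMap B A (g • b) = g • algebraMap B A b)
    [Algebra (FixedPoints.subalgebra R B G) (FixedPoints.subalgebra R A G)]
    [IsScalarTower (FixedPoints.subalgebra R B G) (FixedPoints.subalgebra R A G) A]
    (h : ∀ (x : Ideal A) (_ : x.IsMaximal),
      Algebra.IsEtaleAt B x ∧ x.inertia G = (x.comap (algebraMap B A)).inertia G) :
    Algebra.Etale (FixedPoints.subalgebra R B G) (FixedPoints.subalgebra R A G) := by
  classical
  haveI : IsNoetherianRing B := Algebra.FiniteType.isNoetherianRing R B
  haveI : Algebra.FiniteType B A := Algebra.FiniteType.of_restrictScalars_finiteType R B A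
  haveI : Algebra.FinitePresentation B A := Algebra.FinitePresentation.of_finiteType.mp inferInstance
  have hloc : Algebra.etaleLocus B A = Set.univ := by
    have hopen : IsOpen (Algebra.etaleLocus B A) := Algebra.isOpen_etaleLocus
    have hcl : IsClosed (Algebra.etaleLocus B A)ᶜ := hopen.isClosed_compl
    obtain ⟨I, hI⟩ := (PrimeSpectrum.isClosed_iff_zeroLocus_ideal _).mp hcl
    by_cases hItop : I = ⊤
    · rw [hItop] at hI
      simp only [Submodule.top_coe, PrimeSpectrum.zeroLocus_univ] at hI
      exact Set.compl_empty_iff.mp hI
    · exfalso
      obtain ⟨m, hm, hIm⟩ := Ideal.exists_le_maximal I hItop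
      have h1 : (⟨m, hm.isPrime⟩ : PrimeSpectrum A) ∈ (Algebra.etaleLocus B A)ᶜ := by
        rw [hI]
        exact hIm
      exact h1 (h m hm).1
  haveI : Algebra.Etale B A := Algebra.etaleLocus_eq_univ_iff_etale.mp hloc
  have hin : ∀ (P : Ideal A), P.IsPrime → ∀ g : G,
      g ∈ (P.comap (algebraMap B A)).inertia G → g ∈ P.inertia G := by
    intro P hP g hg
    obtain ⟨x, hx, hPx⟩ := Ideal.exists_le_maximal P hP.ne_top
    have h1 : g ∈ x.inertia G := by
      rw [(h x hx).2, AddSubgroup.mem_inertia]
      intro b
      rw [AddSubgroup.mem_inertia] at hg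
      exact Ideal.comap_mono hPx (hg b)
    exact mem_inertia_of_unramified hGeq P x hPx hx.ne_top g hg h1
  haveI : SMulCommClass G (FixedPoints.subalgebra R B G) A :=
    ⟨fun g c a => by
      show g • ((c : B) • a) = (c : B) • g • a
      rw [Algebra.smul_def, Algebra.smul_def, smul_mul', ← hGeq, c.2 g]⟩
  apply etale_of_invariants_of_inertia G (FixedPoints.subalgebra R B G) B A
    (FixedPoints.subalgebra R A G)
  · intro b hb
    exact ⟨⟨b, hb⟩, rfl⟩
  · exact Subtype.val_injective
  · intro a
    constructor
    · intro ha
      exact ⟨⟨a, ha⟩, rfl⟩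
    · rintro ⟨c, rfl⟩
      exact c.2
  · exact Subtype.val_injective
  · exact hGeq
  · exact hin

/-- Let R be a Noetherian commutative ring, A and B commutative R-algebras of finite type on which a
finite group G acts by R-algebra automorphisms, and B → A a G-equivariant homomorphism of
R-algebras. Assume that at every maximal ideal x of A, A is etale over B at x and the inertia
subgroup of x in G equals the inertia subgroup of its contraction to B. Give A^G the B^G-algebra
structure induced by B → A (compatible with B^G → B → A through A^G → A). Then A^G is etale over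
B^G. The source also asserts that the square formed by the quotient stacks and the invariant
quotients is cartesian; that clause is not stated. -/
theorem result (R : Type u)
    [CommRing R] [IsNoetherianRing R] (A B : Type u) [CommRing A] [CommRing B] [Algebra R A] [Algebra R B]
    [Algebra.FiniteType R A] [Algebra.FiniteType R B]
    (G : Type u) [Group G] [Finite G] [MulSemiringAction G A] [MulSemiringAction G B]
    [SMulCommClass G R A] [SMulCommClass G R B]
    [Algebra B A] [IsScalarTower R B A]
    (hGeq : ∀ (g : G) (b : B), algebraMap B A (g • b) = g • algebraMap B A b)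
    [Algebra (FixedPoints.subalgebra R B G) (FixedPoints.subalgebra R A G)]
    [IsScalarTower (FixedPoints.subalgebra R B G) (FixedPoints.subalgebra R A G) A]
    (h : ∀ (x : Ideal A) (_ : x.IsMaximal),
      Algebra.IsEtaleAt B x ∧ x.inertia G = (x.comap (algebraMap B A)).inertia G) :
    Algebra.Etale (FixedPoints.subalgebra R B G) (FixedPoints.subalgebra R A G) := by

  cases nonempty_fintype G
  exact aux R A B G hGeq h

end Groth.Agent.S16835
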