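import Groth.Statements.S16836
import Mathlib

set_option autoImplicit false
universe u v
open scoped Classical
open AbVar

namespace Groth.Agent.S16836
open Polynomial UniqueFactorizationMonoid

section Aux
variable {K : Type u} {L : Type v} [Field K] [Field L] [Algebra K L]

lemma nf_map (f : K[X]) (hf : f ≠ 0) :
    normalizedFactors (f.map (algebraMap K L))
      = ((normalizedFactors f).map (fun P => normalizedFactors (P.map (algebraMap K L)))).sum := by
  have h1 : Associated ((normalizedFactors f).prod) f := prod_normalizedFactors hf
  have h2 : Associated (((normalizedFactors f).prod).map (algebraMap K L))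
      (f.map (algebraMap K L)) := by
    simpa using h1.map (mapRingHom (algebraMap K L))
  rw [← h2.normalizedFactors_eq, Polynomial.map_multiset_prod, normalizedFactors_multiset_prod,
    Multiset.map_map]
  · rfl
  · intro h0
    rw [Multiset.mem_map] at h0
    obtain ⟨P, hP, hP0⟩ := h0
    have : P = 0 := (Polynomial.map_eq_zero _).mp hP0
    exact (irreducible_of_normalized_factor P hP).ne_zero this

lemma count_nf_map (f : K[X]) (hf : f ≠ 0) (Q : L[X]) (S : Finset K[X])
    (hS : (normalizedFactors f).toFinset ⊆ S) :
    (normalizedFactors (f.map (algebraMap K L))).count Q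
      = ∑ P ∈ S, (normalizedFactors f).count P *
          (normalizedFactors (P.map (algebraMap K L))).count Q := by
  rw [nf_map f hf]
  have : ((normalizedFactors f).map (fun P => normalizedFactors (P.map (algebraMap K L)))).sum
      = (normalizedFactors f).bind (fun P => normalizedFactors (P.map (algebraMap K L))) := rfl
  rw [this, Multiset.count_bind, Finset.sum_multiset_map_count]
  simp only [smul_eq_mul]
  apply Finset.sum_subset hS
  intro P _ hP
  rw [Multiset.mem_toFinset] at hP
  rw [Multiset.count_eq_zero_of_notMem hP, zero_mul]

lemma count_le_one' [PerfectField K] (P : K[X]) (hP : Irreducible P) (Q : L[X]) :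
    (normalizedFactors (P.map (algebraMap K L))).count Q ≤ 1 := by
  have hsep : (P.map (algebraMap K L)).Separable := (PerfectField.separable_of_irreducible hP).map
  have h0 : P.map (algebraMap K L) ≠ 0 := by
    rw [Ne, Polynomial.map_eq_zero]; exact hP.ne_zero
  exact Multiset.nodup_iff_count_le_one.mp
    ((squarefree_iff_nodup_normalizedFactors h0).mp hsep.squarefree) Q

lemma count_mul_count_eq_zero (P P' : K[X]) (hP : Irreducible P) (hP' : Irreducible P')
    (hn : normalize P = P) (hn' : normalize P' = P') (hne : P ≠ P') (Q : L[X]) :
    (normalizedFactors (P.map (algebraMap K L))).count Q *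
      (normalizedFactors (P'.map (algebraMap K L))).count Q = 0 := by
  by_contra hcon
  rw [mul_eq_zero, not_or] at hcon
  have hQ1 : Q ∈ normalizedFactors (P.map (algebraMap K L)) := Multiset.count_ne_zero.mp hcon.1
  have hQ2 : Q ∈ normalizedFactors (P'.map (algebraMap K L)) := Multiset.count_ne_zero.mp hcon.2
  have hcop : IsCoprime P P' := by
    rw [hP.coprime_iff_not_dvd]
    intro hdvd
    have hass : Associated P P' := hP.associated_of_dvd hP' hdvd
    apply hne
    rw [← hn, ← hn']
    exact normalize_eq_normalize_iff_associated.mpr hass
  have hcop' : IsCoprime (P.map (algebraMap K L)) (P'.map (algebraMap K L)) := by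
    simpa using hcop.map (mapRingHom (algebraMap K L))
  have hQirr := irreducible_of_normalized_factor Q hQ1
  exact hQirr.not_isUnit (hcop'.isUnit_of_dvd' (dvd_of_mem_normalizedFactors hQ1)
    (dvd_of_mem_normalizedFactors hQ2))

lemma sum_count_deg (P : K[X]) (hP : P ≠ 0) (T : Finset L[X])
    (hT : (normalizedFactors (P.map (algebraMap K L))).toFinset ⊆ T) :
    ∑ Q ∈ T, (normalizedFactors (P.map (algebraMap K L))).count Q * Q.natDegree
      = P.natDegree := by
  have h0 : P.map (algebraMap K L) ≠ 0 := by
    rw [Ne, Polynomial.map_eq_zero]; exact hP
  rw [← Finset.sum_subset hT (by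
    intro Q _ hQ
    rw [Multiset.mem_toFinset] at hQ
    rw [Multiset.count_eq_zero_of_notMem hQ, zero_mul])]
  have := Finset.sum_multiset_map_count (normalizedFactors (P.map (algebraMap K L)))
    (fun Q => Q.natDegree)
  simp only [smul_eq_mul] at this
  rw [← this, ← natDegree_multiset_prod _ (zero_notMem_normalizedFactors _),
    natDegree_eq_of_degree_eq (degree_eq_degree_of_associated (prod_normalizedFactors h0)),
    natDegree_map]

end Aux


open Polynomial UniqueFactorizationMonoid in
/-- Let K ⊆ L be a field extension and f₁, f₂ non-zero polynomials in K[t]. For a field F and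
polynomials g₁, g₂ over F put r_F(g₁, g₂) = Σ_P mult_P(g₁) · mult_P(g₂) · deg P, the sum running
over the monic irreducible polynomials P in F[t] (mult_P the multiplicity of P as an irreducible
factor). Assume K is perfect. Then r_K(f₁, f₂) = r_L(f₁, f₂): the number does not depend on the
field over which the factorisations are taken. (Perfectness of K cannot be dropped: for K = F_p(s),
L = K(s^{1/p}) and f₁ = f₂ = t^p − s the number is p over K and p² over L, since the irreducible t^p
− s becomes a p-th power over L; the published statement has no restriction on K, and its proof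
requires the relevant K[t]-modules to remain semisimple after base change, which holds when every
irreducible factor stays squarefree over L, in particular for K perfect.) -/
theorem result (K : Type u) (L : Type v) [Field K] [PerfectField K] [Field L] [Algebra K L]
    (f₁ f₂ : K[X]) (h₁ : f₁ ≠ 0) (h₂ : f₂ ≠ 0) :
    ∑ P ∈ (normalizedFactors (f₁.map (algebraMap K L))).toFinset,
        (normalizedFactors (f₁.map (algebraMap K L))).count P *
          (normalizedFactors (f₂.map (algebraMap K L))).count P * P.natDegree =
      ∑ P ∈ (normalizedFactors f₁).toFinset,
        (normalizedFactors f₁).count P * (normalizedFactors f₂).count P * P.natDegree := by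
  set S := (normalizedFactors f₁).toFinset ∪ (normalizedFactors f₂).toFinset with hS
  set T := (normalizedFactors (f₁.map (algebraMap K L))).toFinset with hT
  have ha := fun Q => count_nf_map (L := L) f₁ h₁ Q S Finset.subset_union_left
  have hb := fun Q => count_nf_map (L := L) f₂ h₂ Q S Finset.subset_union_right
  have hSirr : ∀ P ∈ S, Irreducible P ∧ normalize P = P := by
    intro P hP
    rw [hS, Finset.mem_union, Multiset.mem_toFinset, Multiset.mem_toFinset] at hP
    rcases hP with hP | hP
    · exact ⟨irreducible_of_normalized_factor P hP, normalize_normalized_factor P hP⟩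
    · exact ⟨irreducible_of_normalized_factor P hP, normalize_normalized_factor P hP⟩
  have hprod : ∀ Q : L[X], (normalizedFactors (f₁.map (algebraMap K L))).count Q *
      (normalizedFactors (f₂.map (algebraMap K L))).count Q
      = ∑ P ∈ S, (normalizedFactors f₁).count P * (normalizedFactors f₂).count P *
          (normalizedFactors (P.map (algebraMap K L))).count Q := by
    intro Q
    rw [ha, hb, Finset.sum_mul_sum]
    apply Finset.sum_congr rfl
    intro P hP
    rw [Finset.sum_eq_single P]
    · have := count_le_one' (L := L) P (hSirr P hP).1 Q
      rcases Nat.le_one_iff_eq_zero_or_eq_one.mp this with h | h <;> rw [h] <;> ring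
    · intro P' hP' hne
      have := count_mul_count_eq_zero (L := L) P P' (hSirr P hP).1 (hSirr P' hP').1
        (hSirr P hP).2 (hSirr P' hP').2 (Ne.symm hne) Q
      calc _ = (normalizedFactors f₁).count P * (normalizedFactors f₂).count P' *
            ((normalizedFactors (P.map (algebraMap K L))).count Q *
              (normalizedFactors (P'.map (algebraMap K L))).count Q) := by ring
        _ = 0 := by rw [this, mul_zero]
    · intro h; exact absurd hP h
  calc ∑ Q ∈ T, (normalizedFactors (f₁.map (algebraMap K L))).count Q *
          (normalizedFactors (f₂.map (algebraMap K L))).count Q * Q.natDegree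
      = ∑ Q ∈ T, ∑ P ∈ S, (normalizedFactors f₁).count P * (normalizedFactors f₂).count P *
          ((normalizedFactors (P.map (algebraMap K L))).count Q * Q.natDegree) := by
        apply Finset.sum_congr rfl
        intro Q _
        rw [hprod, Finset.sum_mul]
        apply Finset.sum_congr rfl
        intro P _
        ring
    _ = ∑ P ∈ S, (normalizedFactors f₁).count P * (normalizedFactors f₂).count P *
          ∑ Q ∈ T, (normalizedFactors (P.map (algebraMap K L))).count Q * Q.natDegree := by
        rw [Finset.sum_comm]
        apply Finset.sum_congr rfl
        intro P _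
        rw [Finset.mul_sum]
    _ = ∑ P ∈ S, (normalizedFactors f₁).count P * (normalizedFactors f₂).count P *
          P.natDegree := by
        apply Finset.sum_congr rfl
        intro P hP
        by_cases hP1 : P ∈ normalizedFactors f₁
        · rw [sum_count_deg P (hSirr P hP).1.ne_zero T]
          intro Q hQ
          rw [Multiset.mem_toFinset] at hQ
          rw [hT, Multiset.mem_toFinset, nf_map f₁ h₁]
          show Q ∈ (normalizedFactors f₁).bind
            (fun P => normalizedFactors (P.map (algebraMap K L)))
          rw [Multiset.mem_bind]
          exact ⟨P, hP1, hQ⟩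
        · rw [Multiset.count_eq_zero_of_notMem hP1, zero_mul, zero_mul, zero_mul]
    _ = _ := by
        symm
        apply Finset.sum_subset Finset.subset_union_left
        intro P _ hP
        rw [Multiset.mem_toFinset] at hP
        rw [Multiset.count_eq_zero_of_notMem hP, zero_mul, zero_mul]

end Groth.Agent.S16836
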