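import Groth.Statements.S16853
import Groth.Agent.S19234
import Groth.Agent.Lib.Helper9.FrobLangQ

set_option autoImplicit false
universe u v
open CAlg

namespace Groth.Agent.S16853

open Groth.Agent.Lib.Helper9


/-- Let k be an algebraically closed field of characteristic p > 0 and ν ≥ 1; let V be a
finite-dimensional k-vector space and φ : V → V a bijective additive map that is Frob^ν-semilinear,
φ(a·v) = a^(p^ν)·φ(v). Then V admits a k-basis consisting of φ-fixed vectors; in particular V is
spanned by V₀ = {v | φ(v) = v}, an F_{p^ν}-subspace, and k ⊗ V₀ → V is surjective. (The copy allows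
ν < 0 as well, reducing to φ⁻¹; stated here for ν ≥ 1. The injectivity of k ⊗_{F_{p^ν}} V₀ → V,
asserted in the copy, is not restated.) -/
theorem result (k : Type u) [Field k] [IsAlgClosed k]
    (p : ℕ) [Fact p.Prime] [CharP k p] (ν : ℕ) (hν : 1 ≤ ν)
    (V : Type v) [AddCommGroup V] [Module k V] [FiniteDimensional k V]
    (φ : V →+ V) (hφ : ∀ (a : k) (v : V), φ (a • v) = a ^ (p ^ ν) • φ v) (hbij : Function.Bijective φ) :
    ∃ (ι : Type v) (b : Module.Basis ι k V), ∀ i, φ (b i) = b i := by
  let σ : k →+* k := iterateFrobenius k p ν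
  have hσ : Function.Surjective σ := by
    have : PerfectRing k p := inferInstance
    exact (bijective_iterateFrobenius k p ν).surjective
  let T : V →ₛₗ[σ] V :=
    { toFun := φ
      map_add' := φ.map_add
      map_smul' := fun a v => by
        rw [hφ]
        simp only [σ, iterateFrobenius_def] }
  have hTφ : ∀ v, T v = φ v := fun _ => rfl
  obtain ⟨-, b, hb⟩ := Groth.Agent.S19234.result k σ hσ V T
    (FrobLangQ.h2_iterateFrobenius k p ν hν) (FrobLangQ.h3_iterateFrobenius k p ν hν)
  have htop : (⨅ n : ℕ, Submodule.span k (Set.range ((⇑T)^[n]))) = ⊤ := by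
    rw [eq_top_iff]
    refine le_iInf fun n => ?_
    have hsurj : Function.Surjective ((⇑T)^[n]) := Function.Surjective.iterate hbij.surjective n
    rw [hsurj.range_eq, Submodule.span_univ]
  let e : ↥(⨅ n : ℕ, Submodule.span k (Set.range ((⇑T)^[n]))) ≃ₗ[k] V :=
    (LinearEquiv.ofEq _ _ htop).trans Submodule.topEquiv
  refine ⟨ULift.{v} (Fin (Module.finrank k ↥(⨅ n : ℕ, Submodule.span k (Set.range ((⇑T)^[n]))))),
    (b.map e).reindex Equiv.ulift.symm, ?_⟩
  intro i
  simp only [Module.Basis.reindex_apply, Module.Basis.map_apply, Equiv.symm_symm]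
  have := hb (Equiv.ulift i)
  rw [hTφ] at this
  exact this

end Groth.Agent.S16853
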