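import Groth.Statements.S16854
import Groth.Agent.S19233
import Groth.Agent.Lib.Helper9.FrobLangQ
import Groth.Agent.Lib.Helper9.SigmaApprox

set_option autoImplicit false
universe u v
open CAlg

namespace Groth.Agent.S16854

open Groth.Agent.Lib.Helper9 Groth.Agent.Lib.Helper9.SigmaApprox Matrix WittVector

section witt

variable (p : ℕ) [Fact p.Prime] (k : Type u) [Field k] [CharP k p]

/-- `σ = frobenius^ν` as a ring homomorphism -/
noncomputable def sig (ν : ℕ) : WittVector p k →+* WittVector p k :=
  (WittVector.frobenius : WittVector p k →+* WittVector p k) ^ ν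

omit [CharP k p] in
lemma sig_apply (ν : ℕ) (a : WittVector p k) :
    sig p k ν a = (⇑(WittVector.frobenius : WittVector p k →+* WittVector p k))^[ν] a := by
  simp [sig, RingHom.coe_pow]

lemma constantCoeff_sig (ν : ℕ) (a : WittVector p k) :
    constantCoeff (sig p k ν a) = iterateFrobenius k p ν (constantCoeff a) := by
  rw [sig_apply]
  induction ν with
  | zero => simp
  | succ ν ih =>
    rw [Function.iterate_succ_apply', iterateFrobenius_def, pow_succ, pow_mul,
      ← iterateFrobenius_def, ← ih]
    exact coeff_frobenius_charP (p := p)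
      ((⇑(WittVector.frobenius : WittVector p k →+* WittVector p k))^[ν] a) 0

omit [CharP k p] in
lemma sig_p (ν : ℕ) : sig p k ν (p : WittVector p k) = p := map_natCast _ _

end witt


/-- Let k be an algebraically closed field of characteristic p > 0, ν ≥ 1, W = W(k) the ring of
p-typical Witt vectors with its Frobenius endomorphism σ, M a finitely generated free W-module and F
: M → M a bijective additive map that is σ^ν-semilinear, F(a·m) = σ^ν(a)·F(m). Then M admits a
W-basis consisting of F-fixed elements; in particular M is spanned over W by M₀ = {m | F(m) = m}, a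
module over the Witt vectors of F_{p^ν}. (The copy allows ν < 0 as well, reducing to F⁻¹; stated
here for ν ≥ 1.) -/
theorem result (k : Type u) [Field k] [IsAlgClosed k]
    (p : ℕ) [Fact p.Prime] [CharP k p] (ν : ℕ) (hν : 1 ≤ ν)
    (M : Type v) [AddCommGroup M] [Module (WittVector p k) M]
    [Module.Finite (WittVector p k) M] [Module.Free (WittVector p k) M]
    (F : M →+ M)
    (hF : ∀ (a : WittVector p k) (m : M), F (a • m) = ((⇑(WittVector.frobenius : WittVector p k →+* WittVector p k))^[ν] a) • F m)
    (hbij : Function.Bijective F) :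
    ∃ (ι : Type v) (b : Module.Basis ι (WittVector p k) M), ∀ i, F (b i) = b i := by
  classical
  have hp : p.Prime := Fact.out
  let σ := sig p k ν
  have hFσ : ∀ (a : WittVector p k) (m : M), F (a • m) = σ a • F m := by
    intro a m
    rw [hF, sig_apply]
  let σb : k →+* k := iterateFrobenius k p ν
  let c0 : WittVector p k →+* k := constantCoeff
  have hc0σ : ∀ a, c0 (σ a) = σb (c0 a) := constantCoeff_sig p k ν
  have hc0surj : Function.Surjective c0 := constantCoeff_surjective p
  have hc0dvd : ∀ a : WittVector p k, c0 a = 0 ↔ (p : WittVector p k) ∣ a := by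
    intro a
    rw [← Ideal.mem_span_singleton, mem_span_p_iff_coeff_zero_eq_zero]
    rfl
  let e := Module.finBasis (WittVector p k) M
  set n := Module.finrank (WittVector p k) M with hn
  let C : Matrix (Fin n) (Fin n) (WittVector p k) := Matrix.of (fun i j => e.equivFun (F (e j)) i)
  -- F in coordinates
  have hFe : ∀ m : M, F m = ∑ j, σ (e.equivFun m j) • F (e j) := by
    intro m
    conv_lhs => rw [← e.sum_equivFun m, map_sum]
    exact Finset.sum_congr rfl (fun j _ => hFσ _ _)
  have hcoord : ∀ m : M, e.equivFun (F m) = Phi σ C (e.equivFun m) := by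
    intro m
    funext i
    rw [Phi, hFe m, map_sum, Finset.sum_apply]
    apply Finset.sum_congr rfl
    intro j _
    rw [map_smul, Pi.smul_apply, smul_eq_mul, mul_comm]
    rfl
  -- C is invertible
  have hC : IsUnit C := by
    rw [← Matrix.mulVec_surjective_iff_isUnit]
    intro y
    have hmem : e.equivFun.symm y ∈ Submodule.span (WittVector p k) (Set.range (fun j => F (e j))) := by
      obtain ⟨m, hm⟩ := hbij.2 (e.equivFun.symm y)
      rw [← hm, hFe m]
      exact Submodule.sum_mem _ (fun j _ => Submodule.smul_mem _ _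
        (Submodule.subset_span ⟨j, rfl⟩))
    obtain ⟨c, hc⟩ := (Submodule.mem_span_range_iff_exists_fun (WittVector p k)).1 hmem
    refine ⟨c, ?_⟩
    have h1 : y = e.equivFun (∑ j, c j • F (e j)) := by
      rw [hc, LinearEquiv.apply_symm_apply]
    rw [h1, map_sum]
    funext i
    rw [Finset.sum_apply]
    simp only [Matrix.mulVec, dotProduct, map_smul, Pi.smul_apply, smul_eq_mul, C, Matrix.of_apply]
    exact Finset.sum_congr rfl (fun j _ => mul_comm _ _)
  -- the residue field level
  let Cb : Matrix (Fin n) (Fin n) k := C.map c0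
  have hCb : IsUnit Cb := hC.map (RingHom.mapMatrix c0)
  let Tbar : (Fin n → k) →ₛₗ[σb] (Fin n → k) :=
    { toFun := Phi σb Cb
      map_add' := Phi_add σb Cb
      map_smul' := fun m x => Phi_smul σb Cb m x }
  have hTbar : ∀ x i, Tbar x i = ∑ j, c0 (C i j) * σb (x j) := fun x i => rfl
  have hredΦ : ∀ (x : Fin n → WittVector p k) (i : Fin n),
      c0 (Phi σ C x i) = Tbar (fun j => c0 (x j)) i := by
    intro x i
    rw [hTbar, Phi, map_sum]
    exact Finset.sum_congr rfl (fun j _ => by rw [map_mul, hc0σ])
  have h1 : Submodule.span k (Set.range ⇑Tbar) = ⊤ := by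
    rw [eq_top_iff]
    intro v _
    obtain ⟨w, rfl⟩ := (Matrix.mulVec_surjective_iff_isUnit.2 hCb) v
    have : Cb *ᵥ w = ∑ j, w j • Tbar (Pi.single j 1) := by
      funext i
      rw [Finset.sum_apply]
      simp only [Pi.smul_apply, hTbar, Matrix.mulVec, dotProduct, smul_eq_mul]
      apply Finset.sum_congr rfl
      intro j _
      rw [Finset.sum_eq_single j]
      · simp [Cb, mul_comm]
      · intro j' _ hj'
        rw [Pi.single_eq_of_ne hj', map_zero, mul_zero]
      · intro h; exact absurd (Finset.mem_univ j) h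
    rw [this]
    exact Submodule.sum_mem _ (fun j _ => Submodule.smul_mem _ _ (Submodule.subset_span ⟨_, rfl⟩))
  obtain ⟨⟨b, hb⟩, hsurjb⟩ := Groth.Agent.S19233.result k σb (Fin n → k) Tbar h1
    (FrobLangQ.h2_iterateFrobenius k p ν hν) (FrobLangQ.h3_iterateFrobenius k p ν hν)
  have hnk : Module.finrank k (Fin n → k) = n := Module.finrank_fin_fun _
  let b' : Module.Basis (Fin n) k (Fin n → k) := b.reindex (finCongr hnk)
  have hb' : ∀ j, Tbar (b' j) = b' j := by
    intro j
    simp only [b', Module.Basis.reindex_apply]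
    exact hb _
  -- solvability mod p
  have hsolve : ∀ z : Fin n → WittVector p k, ∃ y : Fin n → WittVector p k,
      ∀ i, (p : WittVector p k) ∣ Phi σ C y i - y i - z i := by
    intro z
    obtain ⟨yb, hyb⟩ := hsurjb (fun i => - c0 (z i))
    choose y hy using fun i => hc0surj (yb i)
    refine ⟨y, fun i => ?_⟩
    rw [← hc0dvd, map_sub, map_sub, hredΦ]
    have h2 : (fun j => c0 (y j)) = yb := funext hy
    rw [h2, hy]
    have h3 := congrFun hyb i
    simp only [Pi.sub_apply] at h3
    rw [← neg_eq_iff_eq_neg] at h3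
    rw [← h3]
    ring
  -- lift the fixed basis
  have hlift : ∀ j, ∃ x : Fin n → WittVector p k, Phi σ C x = x ∧ ∀ i, c0 (x i) = b' j i := by
    intro j
    choose x₀ hx₀ using fun i => hc0surj (b' j i)
    have h₀ : ∀ i, (p : WittVector p k) ∣ Phi σ C x₀ i - x₀ i := by
      intro i
      rw [← hc0dvd, map_sub, hredΦ]
      have h2 : (fun j => c0 (x₀ j)) = b' j := funext hx₀
      rw [h2, hb', hx₀, sub_self]
    obtain ⟨x, hx, hxx₀⟩ := exists_fixed_of_approx (p : WittVector p k) σ (sig_p p k ν) C hsolve x₀ h₀
    refine ⟨x, hx, fun i => ?_⟩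
    have := (hc0dvd _).2 (hxx₀ i)
    rw [map_sub, sub_eq_zero] at this
    rw [this, hx₀]
  choose x hx hxres using hlift
  let X : Matrix (Fin n) (Fin n) (WittVector p k) := Matrix.of (fun i j => x j i)
  have hXdet : IsUnit X.det := by
    have h2 : c0 X.det = ((Pi.basisFun k (Fin n)).toMatrix b').det := by
      rw [RingHom.map_det]
      congr 1
      ext i j
      simp [X, Module.Basis.toMatrix_apply, hxres]
    have h3 : IsUnit (c0 X.det) := by
      rw [h2, ← Module.Basis.det_apply]
      exact Module.Basis.isUnit_det _ _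
    exact isUnit_of_coeff_zero_ne_zero _ h3.ne_zero
  have hXX : X * X⁻¹ = 1 := Matrix.mul_nonsing_inv X hXdet
  have hXX' : X⁻¹ * X = 1 := Matrix.nonsing_inv_mul X hXdet
  let gX : (Fin n → WittVector p k) ≃ₗ[WittVector p k] (Fin n → WittVector p k) :=
    LinearEquiv.ofLinearMap (Matrix.toLin' X) (Matrix.toLin' X⁻¹)
      (by rw [← Matrix.toLin'_mul, hXX, Matrix.toLin'_one])
      (by rw [← Matrix.toLin'_mul, hXX', Matrix.toLin'_one])
  let bM : Module.Basis (Fin n) (WittVector p k) M :=
    Module.Basis.ofEquivFun (e.equivFun ≪≫ₗ gX.symm)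
  have hbM : ∀ j, bM j = e.equivFun.symm (x j) := by
    intro j
    simp only [bM, Module.Basis.coe_ofEquivFun, LinearEquiv.trans_symm, LinearEquiv.symm_symm,
      LinearEquiv.trans_apply]
    congr 1
    change Matrix.toLin' X (Pi.single j 1) = x j
    rw [Matrix.toLin'_apply, Matrix.mulVec_single_one]
    rfl
  have hfix : ∀ j, F (bM j) = bM j := by
    intro j
    rw [hbM]
    apply e.equivFun.injective
    rw [hcoord, LinearEquiv.apply_symm_apply, hx]
  refine ⟨ULift.{v} (Fin n), bM.reindex Equiv.ulift.symm, fun i => ?_⟩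
  simp only [Module.Basis.reindex_apply, Equiv.symm_symm]
  exact hfix _

end Groth.Agent.S16854
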