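import Groth.Statements.S16858
import Groth.Agent.Lib.Helper24.AlgStQAffDiag1
import Groth.Agent.Lib.Helper24.AlgStLocQ6
import Groth.Agent.Lib.Helper24.AlgStDiagLft
import Groth.Agent.Lib.Helper24.AlgStProps3

set_option autoImplicit false
universe u
open CategoryTheory CategoryTheory.Limits AlgebraicGeometry
open AlgSt

namespace Groth.Agent.S16858

open CategoryTheory CategoryTheory.Limits AlgebraicGeometry
open Groth.Agent.Lib.Helper24.FibCatFpGen Groth.Agent.Lib.Helper24.AlgStRep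
open Groth.Agent.Lib.Helper24.AlgStRepS Groth.Agent.Lib.Helper24.AlgStEqv
open Groth.Agent.Lib.Helper24.AlgStBoot Groth.Agent.Lib.Helper24.FibCatEquiv
open Groth.Agent.Lib.Helper24.AlgStPts1 Groth.Agent.Lib.Helper24.AlgStPts2
open Groth.Agent.Lib.Helper24.AlgStPts3 Groth.Agent.Lib.Helper24.AlgStPts5
open Groth.Agent.Lib.Helper24.AlgStSchLocal Groth.Agent.Lib.Helper24.AlgStProps
open Groth.Agent.Lib.Helper24.FibCatMagic Groth.Agent.Lib.Helper24.AlgStAffLoc
open Groth.Agent.Lib.Helper24.AlgStQAffDiag1 Groth.Agent.Lib.Helper24.QAffLocal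
open Groth.Agent.Lib.Helper24.AlgStFamilyCover Groth.Agent.Lib.Helper24.AlgStDiagLft
open Groth.Agent.Lib.Helper24.AlgStDiagComp Groth.Agent.Lib.Helper24.AlgStDiagBC
open Groth.Agent.Lib.Helper24.AlgStProd Groth.Agent.Lib.Helper24.AlgStGC
open Groth.Agent.Lib.Helper24.AlgStAffine
open Groth.Agent.Lib.Helper24.AlgStCalc
open AlgSt

set_option backward.isDefEq.respectTransparency false in
set_option backward.isDefEq.respectTransparency.types false in
theorem atlas_of_diag_qaff (S : Scheme.{u}) [IsAffine S]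
    (𝒳 : AlgSt.Cat S) (h𝒳 : AlgSt.IsAlgStack Scheme.fppfPrecoverage 𝒳)
    (hΔ : AlgSt.RepByAlgSpWith AlgSp.IsQuasiAffineMor (FibCat.diag (FibCat.toSelf 𝒳)))
    (U : Over S) (x : FibCat.overCat U ⥤ᵇ 𝒳) (V : U.left.Opens) (hV : IsAffineOpen V) :
    AlgSt.RepByAlgSpWith AlgSp.IsQuasiAffineMor
      (BasedFunctor.comp (AlgSt.overMap (Over.homMk V.ι rfl : Over.mk (V.ι ≫ U.hom) ⟶ U)) x) := by
  have hX := h𝒳.isStack.1
  have hself : FibCat.IsFibGrpd (FibCat.selfOver (Over S)).p :=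
    Groth.Agent.Lib.Helper24.FibCatInertia.isFibGrpd_selfOver
  let UV : Over S := Over.mk (V.ι ≫ U.hom)
  have hOv : FibCat.IsFibGrpd (FibCat.overCat UV).p :=
    Groth.Agent.Lib.Helper24.StkFpCrit.isFibGrpd_overForget UV
  let g : FibCat.overCat UV ⥤ᵇ 𝒳 :=
    BasedFunctor.comp (AlgSt.overMap (Over.homMk V.ι rfl : UV ⟶ U)) x
  let p : FibCat.overCat UV ⥤ᵇ FibCat.selfOver (Over S) := FibCat.toSelf _
  let q : 𝒳 ⥤ᵇ FibCat.selfOver (Over S) := FibCat.toSelf 𝒳
  let e : BasedFunctor.comp (BasedFunctor.id _) p ≅ BasedFunctor.comp g q :=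
    eqToIso (Groth.Agent.Lib.Helper24.StkSelf.eq_of_selfOver _ _)
  have hΓ := Groth.Agent.Lib.Helper24.AlgStGraph.repByAlgSpWith_graph AlgSp.IsQuasiAffineMor
    p q g e hΔ
  have hUV : IsAffineHom UV.hom := by
    have : IsAffine UV.left := hV
    exact isAffineHom_of_isAffine _
  have haff : AlgSt.RepByAlgSpWith AlgSp.IsAffineMor (FibCat.fpSnd p q) :=
    repByAlgSpWith_fpSnd AlgSp.IsAffineMor p q (repByAlgSpWith_isAffineMor_to_selfOver hUV p)
  have hcomp := repByAlgSpWith_comp₂ hOv (isFibGrpd_fp p q hOv hX hself) hX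
    AlgSp.IsQuasiAffineMor AlgSp.IsAffineMor AlgSp.IsQuasiAffineMor nice_isQuasiAffineMor
    nice_isAffineMor (fun _ _ _ _ _ _ a b ha hb => isQuasiAffineMor_comp_isAffineMor ha hb)
    (FibCat.fpLift (BasedFunctor.id _) g e) (FibCat.fpSnd p q) hΓ haff
  exact hcomp

set_option backward.isDefEq.respectTransparency false in
set_option backward.isDefEq.respectTransparency.types false in
theorem diag_qaff_of_atlas (S : Scheme.{u}) [IsAffine S]
    (𝒳 : AlgSt.Cat S) (h𝒳 : AlgSt.IsAlgStack Scheme.fppfPrecoverage 𝒳)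
    (U : Over S) (x : FibCat.overCat U ⥤ᵇ 𝒳)
    (hxs : AlgSt.RepByAlgSpWith (AlgSp.LocP @Smooth) x)
    (hxsurj : AlgSt.RepByAlgSpWith AlgSp.IsSurjectiveMor x)
    (hVP : ∀ (V : U.left.Opens), IsAffineOpen V →
      AlgSt.RepByAlgSpWith AlgSp.IsQuasiAffineMor
        (BasedFunctor.comp (AlgSt.overMap (Over.homMk V.ι rfl : Over.mk (V.ι ≫ U.hom) ⟶ U)) x)) :
    AlgSt.RepByAlgSpWith AlgSp.IsQuasiAffineMor (FibCat.diag (FibCat.toSelf 𝒳)) := by
  have hX := h𝒳.isStack.1
  have hself : FibCat.IsFibGrpd (FibCat.selfOver (Over S)).p :=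
    Groth.Agent.Lib.Helper24.FibCatInertia.isFibGrpd_selfOver
  let j : 𝒳 ⥤ᵇ FibCat.selfOver (Over S) := FibCat.toSelf 𝒳
  let UV : U.left.Opens → Over S := fun V => Over.mk (V.ι ≫ U.hom)
  let ιV : ∀ V : U.left.Opens, UV V ⟶ U := fun V => Over.homMk V.ι rfl
  let xV : ∀ V : U.left.Opens, FibCat.overCat (UV V) ⥤ᵇ 𝒳 := fun V =>
    BasedFunctor.comp (AlgSt.overMap (ιV V)) x
  have hOv : ∀ T : Over S, FibCat.IsFibGrpd (FibCat.overCat T).p := fun T =>
    Groth.Agent.Lib.Helper24.StkFpCrit.isFibGrpd_overForget T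
  have hxfl : AlgSt.RepByAlgSpWith (AlgSp.LocP @Flat) x :=
    repByAlgSpWith_locP_mono smooth_le_flat x hxs
  have hxlfp : AlgSt.RepByAlgSpWith (AlgSp.LocP @LocallyOfFinitePresentation) x :=
    repByAlgSpWith_locP_mono smooth_le_lfp x hxs
  have hfl : ∀ V, AlgSt.RepByAlgSpWith (AlgSp.LocP @Flat) (xV V) := fun V =>
    repByAlgSpWith_comp (hOv _) (hOv _) hX _ good_flat.nice
      (stableComp_locP Groth.Agent.Lib.Helper14.AS.etLocal_flat) _ x
      ((Groth.Agent.Lib.Helper24.AlgStSmLoc.repByAlgSpWith_overMap_iff _ good_flat (ιV V)).2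
        (Groth.Agent.Lib.Helper24.AlgStLocQ6.locP_yon_map_of
          Groth.Agent.Lib.Helper14.AS.etLocal_flat (inferInstanceAs (Flat V.ι)))) hxfl
  have hlfp : ∀ V, AlgSt.RepByAlgSpWith (AlgSp.LocP @LocallyOfFinitePresentation) (xV V) :=
    fun V => repByAlgSpWith_comp (hOv _) (hOv _) hX _ good_lfp.nice
      (stableComp_locP Groth.Agent.Lib.Helper14.AS.etLocal_lfp) _ x
      ((Groth.Agent.Lib.Helper24.AlgStSmLoc.repByAlgSpWith_overMap_iff _ good_lfp (ιV V)).2
        (Groth.Agent.Lib.Helper24.AlgStLocQ6.locP_yon_map_of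
          Groth.Agent.Lib.Helper14.AS.etLocal_lfp
          (inferInstanceAs (LocallyOfFinitePresentation V.ι)))) hxlfp
  let K : Type u := {V : U.left.Opens // IsAffineOpen V} × {V : U.left.Opens // IsAffineOpen V}
  refine repByAlgSpWith_of_fpFst_family_cover (K := K)
    (fun k => FibCat.fp (BasedFunctor.comp (xV k.1.1) j) (BasedFunctor.comp (xV k.2.1) j))
    hX (isFibGrpd_fp j j hX hX hself) (fun k => isFibGrpd_fp _ _ (hOv _) (hOv _) hself)
    AlgSp.IsQuasiAffineMor good_isQuasiAffineMor.bc good_isQuasiAffineMor.loc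
    (FibCat.diag j) h𝒳.diag (fun k => M (xV k.1.1) (xV k.2.1) j) (fun k => ?_) (fun k => ?_)
    (fun y => ?_) (fun k => ?_)
  · exact repByAlgSpWith_M (hOv _) (hOv _) hX hself _ good_flat.nice
      (stableComp_locP Groth.Agent.Lib.Helper14.AS.etLocal_flat) _ _ j (hfl _) (hfl _)
  · exact repByAlgSpWith_M (hOv _) (hOv _) hX hself _ good_lfp.nice
      (stableComp_locP Groth.Agent.Lib.Helper14.AS.etLocal_lfp) _ _ j (hlfp _) (hlfp _)
  · -- joint surjectivity
    have hmem : ∀ pt : Points 𝒳, ∃ V : {V : U.left.Opens // IsAffineOpen V},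
        pt ∈ Set.range (Points.map (xV V.1)) := by
      intro pt
      obtain ⟨u, rfl⟩ := surjective_ofChart hX x hxsurj pt
      obtain ⟨V, hV, huV, -⟩ := exists_isAffineOpen_mem_and_subset (x := u) (U := ⊤) trivial
      refine ⟨⟨V, hV⟩, sch (UV V) ⟨u, huV⟩, ?_⟩
      rw [← ofChart_eq, ofChart_overMap]
      rfl
    obtain ⟨V, hV⟩ := hmem (Points.map (FibCat.fpFst j j) y)
    obtain ⟨V', hV'⟩ := hmem (Points.map (FibCat.fpSnd j j) y)
    exact ⟨(V, V'), mem_range_map_M (hOv _) (hOv _) hX hself (xV V.1) (xV V'.1) j y hV hV'⟩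
  · -- the property over each member
    obtain ⟨⟨V, hV⟩, ⟨V', hV'⟩⟩ := k
    have hU : AlgSt.RepByAlgSp (FibCat.overCat (UV V)) := repByAlgSp_overCat _
    have hU' : AlgSt.RepByAlgSp (FibCat.overCat (UV V')) := repByAlgSp_overCat _
    have hx1' : AlgSt.RepByAlgSp1 (xV V') :=
      repByAlgSp1_of_repByAlgSpWith _ _ (hVP V' hV')
    have hR : AlgSt.RepByAlgSp (FibCat.fp (xV V) (xV V')) :=
      repByAlgSp_fp (hOv _) hX (hOv _) (xV V') (xV V) hx1' hU
    have hUU : AlgSt.RepByAlgSp (FibCat.fp (BasedFunctor.comp (xV V) j)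
        (BasedFunctor.comp (xV V') j)) :=
      Groth.Agent.Lib.Helper24.AlgStDiag.repByAlgSp_fp_comp_toSelf hU hU' _ _
    have hdiagV' : IsAffineHom (pullback.diagonal (UV V').hom) := by
      have : IsAffine (UV V').left := hV'
      have h1 : IsAffineHom (UV V').hom := isAffineHom_of_isAffine _
      infer_instance
    have h₂ : AlgSt.RepByAlgSpWith DiagAff
        (FibCat.fpFst (BasedFunctor.comp (xV V) j) (BasedFunctor.comp (xV V') j)) :=
      repByAlgSpWith_fpFst DiagAff _ _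
        (Groth.Agent.S16823.repByAlgSpWith_diagAff_to_selfOver hdiagV' _)
    have hfst : AlgSt.RepByAlgSpWith AlgSp.IsQuasiAffineMor (FibCat.fpFst (xV V) (xV V')) :=
      repByAlgSpWith_fpFst _ (xV V') (xV V) (hVP V' hV')
    have hN : AlgSt.RepByAlgSpWith AlgSp.IsQuasiAffineMor (N (xV V) (xV V') j) :=
      Groth.Agent.Lib.Helper24.AlgStLC.repByAlgSpWith_of_comp_rep AlgSp.IsQuasiAffineMor DiagAff
        nice_isQuasiAffineMor good_diagAff.nice leftCancel_isQuasiAffineMor hR hUU hU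
        (N (xV V) (xV V') j)
        (FibCat.fpFst (BasedFunctor.comp (xV V) j) (BasedFunctor.comp (xV V') j)) h₂ hfst
    exact repByAlgSpWith_of_eqvOver _ (eqvOver_N (xV V) (xV V') j).symm hN


/-- Let `S` be an affine scheme and `𝒳` an algebraic stack over `S` for the fppf topology. Then the
diagonal `𝒳 → 𝒳 ×_S 𝒳` is representable by algebraic spaces and quasi-affine if and only if there
are a scheme `U` over `S` and a functor `x : (Sch/U) → 𝒳` over `(Sch/S)`, representable by algebraic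
spaces, smooth and surjective, whose restriction to every affine open of `U` is representable by
algebraic spaces and quasi-affine. (The published statement is over the base `Spec ℤ`, and in place
of the right-hand condition stated here it allows any fpqc covering family of `𝒳` by affine schemes
whose structure functors are quasi-affine; the affine opens of a smooth surjective chart form such a
family, and conversely when the diagonal is quasi-affine every functor from an affine scheme over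
the affine base `S` is quasi-affine, so the two conditions stated here are equivalent to the
published ones over an affine base.) -/
theorem result (S : Scheme.{u}) [IsAffine S]
    (𝒳 : AlgSt.Cat S) (h𝒳 : AlgSt.IsAlgStack Scheme.fppfPrecoverage 𝒳) :
    AlgSt.RepByAlgSpWith AlgSp.IsQuasiAffineMor (FibCat.diag (FibCat.toSelf 𝒳)) ↔
      ∃ (U : Over S) (x : FibCat.overCat U ⥤ᵇ 𝒳),
        AlgSt.RepByAlgSpWith (AlgSp.LocP @Smooth) x ∧ AlgSt.RepByAlgSpWith AlgSp.IsSurjectiveMor x ∧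
          ∀ (V : U.left.Opens), IsAffineOpen V →
            AlgSt.RepByAlgSpWith AlgSp.IsQuasiAffineMor
              (BasedFunctor.comp (AlgSt.overMap (Over.homMk V.ι rfl : Over.mk (V.ι ≫ U.hom) ⟶ U)) x) := by
  constructor
  · intro hΔ
    obtain ⟨U, x, hx, hx'⟩ := h𝒳.atlas
    exact ⟨U, x, hx, hx', fun V hV => atlas_of_diag_qaff S 𝒳 h𝒳 hΔ U x V hV⟩
  · rintro ⟨U, x, hxs, hxsurj, hVP⟩
    exact diag_qaff_of_atlas S 𝒳 h𝒳 U x hxs hxsurj hVP

end Groth.Agent.S16858
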