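import Groth.Statements.S16886
import Groth.Agent.Lib.Helper24.StkOverTop
import Groth.Agent.Lib.Helper24.GerbFormal
import Groth.Agent.Lib.Helper24.StkEquiv

set_option autoImplicit false
open CategoryTheory
universe v u
open Gerb

namespace Groth.Agent.S16886

open CategoryTheory
open Groth.Agent.Lib.Helper24 Groth.Agent.Lib.Helper26.FibGrpdTop

set_option backward.isDefEq.respectTransparency false
set_option backward.isDefEq.respectTransparency.types false

section
universe u₂ v₂ u₃ v₃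
variable {C : Type u} [Category.{v} C] {D : Type u₂} [Category.{v₂} D] (p : D ⥤ C)
  [hp : FibCat.IsFibGrpd p] {X : Type u₃} [Category.{v₃} X] (F : X ⥤ D)

lemma isHomLift_id_iff {d d' : D} (f g : d ⟶ d') : (𝟭 D).IsHomLift f g ↔ g = f := by
  constructor
  · intro h
    have := IsHomLift.fac (𝟭 D) f g
    simpa using this.symm
  · rintro rfl
    exact IsHomLift.map (p := 𝟭 D) g

/-- a gerbe over `D` (relative to `C`) is a gerbe over the site `D` with the inherited topology -/
theorem isGerbeOver_toSelf (J : GrothendieckTopology C) (hF : FibCat.IsFibGrpd F)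
    (h : Gerb.IsGerbeOver J (StkOver.Fhat p F)) :
    Gerb.IsGerbeOver (p.restrictedTopology J) (FibCat.toSelf (StkOver.XD F)) := by
  obtain ⟨h1, h2⟩ := h
  constructor
  · intro y
    obtain ⟨R, hR, hloc⟩ := h1 y
    let R' : Sieve y :=
      { arrows := fun v f => ∃ (x : X) (e : F.obj x = v), True
        downward_closed := by
          rintro v w f ⟨x, e, -⟩ g
          subst e
          obtain ⟨x', φ, hφ⟩ := hF.exists_lift (x := x) g
          exact ⟨x', IsHomLift.domain_eq F g φ, trivial⟩ }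
    refine ⟨R', ?_, ?_⟩
    · rw [mem_restrictedTopology_iff]
      refine J.superset_covering ?_ hR
      intro V k hk
      obtain ⟨x, m, hm⟩ := hloc k hk
      have hm' : p.IsHomLift k m := hm
      refine ⟨F.obj x, m, eqToHom (IsHomLift.domain_eq p k m).symm, ⟨x, rfl, trivial⟩, ?_⟩
      have := IsHomLift.fac p k m
      refine this.trans ?_
      simp
    · rintro v f ⟨x, e, -⟩
      subst e
      exact ⟨x, f, (isHomLift_id_iff f f).mpr rfl⟩
  · intro x x' b hb
    have hb' : (𝟭 D).IsHomLift (𝟙 (F.obj x)) b := hb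
    have hx' : F.obj x' = F.obj x := IsHomLift.codomain_eq (𝟭 D) (𝟙 (F.obj x)) b
    have hbe : b = eqToHom hx'.symm := by
      have := IsHomLift.fac' (𝟭 D) (𝟙 (F.obj x)) b
      simpa using this
    have hbC : p.IsHomLift (𝟙 (p.obj (F.obj x))) b := by
      rw [hbe]
      exact IsHomLift.eqToHom_domain_lift_id _ rfl
    obtain ⟨R, hR, hloc⟩ := h2 x x' b hbC
    let R' : Sieve (F.obj x) :=
      { arrows := fun v f => ∃ (x₀ : X) (φ : x₀ ⟶ x) (ψ : x₀ ⟶ x'),
          F.IsHomLift f φ ∧ F.IsHomLift f ψ ∧ F.map φ ≫ b = F.map ψ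
        downward_closed := by
          rintro v w f ⟨x₀, φ, ψ, hφ, hψ, hc⟩ g
          have hv : F.obj x₀ = v := IsHomLift.domain_eq F f φ
          subst hv
          obtain ⟨x₁, χ, hχ⟩ := hF.exists_lift (x := x₀) g
          refine ⟨x₁, χ ≫ φ, χ ≫ ψ, inferInstance, inferInstance, ?_⟩
          rw [Functor.map_comp, Functor.map_comp, Category.assoc, hc] }
    refine ⟨R', ?_, ?_⟩
    · rw [mem_restrictedTopology_iff]
      refine J.superset_covering ?_ hR
      intro V k hk
      obtain ⟨x₀, φ, ψ, hφ, hψ, hc⟩ := hloc k hk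
      change F.map φ ≫ b = F.map ψ at hc
      have hφ' : (F ⋙ p).IsHomLift k φ := hφ
      have hV : p.obj (F.obj x₀) = V := IsHomLift.domain_eq (F ⋙ p) k φ
      refine ⟨F.obj x₀, F.map φ, eqToHom hV.symm, ⟨x₀, φ, ψ, inferInstance, ?_, hc⟩, ?_⟩
      · apply IsHomLift.of_fac' F _ _ rfl hx'
        rw [← hc, hbe]; simp
      · have := IsHomLift.fac (F ⋙ p) k φ
        refine this.trans ?_
        simp
    · rintro v f ⟨x₀, φ, ψ, hφ, hψ, hc⟩
      exact ⟨x₀, φ, ψ, hφ, hψ, hc⟩

end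

lemma aux {C : Type u} [Category.{v} C] (J : GrothendieckTopology C) {D : Type (max u v)}
    [Category.{v} D] (p : D ⥤ C) {X : Type (max u v)} [Category.{v} X] (pX : X ⥤ C) (F₀ : X ⥤ D)
    (hw : F₀ ⋙ p = pX) (h : Stk.IsStack J (BasedCategory.ofFunctor pX)) :
    Stk.IsStack J (BasedCategory.ofFunctor (F₀ ⋙ p)) := by
  subst hw; exact h

lemma aux2 {C : Type u} [Category.{v} C] (J : GrothendieckTopology C) {D : Type (max u v)}
    [Category.{v} D] (p : D ⥤ C) {X : Type (max u v)} [Category.{v} X] (pX : X ⥤ C) (F₀ : X ⥤ D)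
    (hw : F₀ ⋙ p = pX)
    (h : Gerb.IsGerbeOver J
      (⟨F₀, hw⟩ : BasedCategory.ofFunctor pX ⥤ᵇ BasedCategory.ofFunctor p)) :
    Gerb.IsGerbeOver J (StkOver.Fhat p F₀) := by
  subst hw; exact h


/-- (2) ⇒ (1): let `𝒳`, `𝒴` be stacks in groupoids over the site `(C, J)` and `F : 𝒳 ⟶ 𝒴` a functor over
`C` making `𝒳` a gerbe over `𝒴` (objects of `𝒴` come from `𝒳` locally and morphisms between images
lift locally). Then for every factorization `F = a ⋙ F'` through a category `𝒳'` over `C` with `a :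
𝒳 ⟶ 𝒳'` an equivalence in the 2-category of categories over `C` and `F' : 𝒳' ⟶ 𝒴` a functor whose
underlying functor makes `𝒳'` fibred in groupoids over `𝒴`, the category `𝒳'` over `𝒴` (through
`F'`) is a gerbe over the site `𝒴` with the topology inherited from `J`. (Only this implication is
stated; the converse is asserted in the published item with its verification not carried out.) -/
theorem result {C : Type u} [Category.{v} C]
    (J : GrothendieckTopology C) {𝒳 𝒴 𝒳' : BasedCategory.{v, max u v} C}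
    (h𝒳 : Stk.IsStack J 𝒳) (h𝒴 : Stk.IsStack J 𝒴) (F : 𝒳 ⥤ᵇ 𝒴) (hF : Gerb.IsGerbeOver J F)
    (a : 𝒳 ⥤ᵇ 𝒳') (ha : FibCat.IsEquivOver a) (F' : 𝒳' ⥤ᵇ 𝒴) (hF' : FibCat.IsFibGrpd F'.toFunctor)
    (hfac : BasedFunctor.comp a F' = F) :
    Gerb.IsGerbe (𝒴.p.restrictedTopology J) (BasedCategory.ofFunctor F'.toFunctor) := by
  subst hfac
  have h𝒳' : Stk.IsStack J 𝒳' := (StkEquiv.isStack_iff J a ha).mp h𝒳
  obtain ⟨b, ⟨e1⟩, ⟨e2⟩⟩ := ha
  have hb : FibCat.IsEquivOver b := ⟨a, ⟨e2⟩, ⟨e1⟩⟩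
  have e : BasedFunctor.comp b (BasedFunctor.comp a F') ≅ F' := StkOver.wrIso e2 F'
  have hF'g : Gerb.IsGerbeOver J F' :=
    GerbFormal.isGerbeOver_of_isEquivOver J b hb F' (BasedFunctor.comp a F') e hF
  have hp : FibCat.IsFibGrpd 𝒴.p := h𝒴.1
  have hX : Stk.IsStack J (StkOver.XC 𝒴.p F'.toFunctor) := aux J 𝒴.p 𝒳'.p F'.toFunctor F'.w h𝒳'
  refine ⟨StkOverTop.isStack_over 𝒴.p J F'.toFunctor hF' h𝒴 hX, ?_⟩
  exact isGerbeOver_toSelf 𝒴.p F'.toFunctor J hF' (aux2 J 𝒴.p 𝒳'.p F'.toFunctor F'.w hF'g)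

end Groth.Agent.S16886
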