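import Groth.Statements.S1689
import Groth.Agent.Lib.Helper29.RegDim1
import Groth.Agent.Lib.Helper25.ReflexiveFree

set_option autoImplicit false
universe u
open CategoryTheory CategoryTheory.Limits AlgebraicGeometry TopologicalSpace
open SDiv

namespace Groth.Agent.S1689

/-- Let X be a locally Noetherian scheme of dimension at most 2 all of whose local rings are regular,
and F a coherent module on X. Then F is reflexive (every stalk is a reflexive module over the local
ring) if and only if F is finite locally free. -/
theorem result (X : Scheme.{u}) [IsLocallyNoetherian X]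
    (hreg : ∀ x : ↥X, IsRegularLocalRing (X.presheaf.stalk x)) (hdim : topologicalKrullDim ↥X ≤ 2) (F : X.Modules)
    (hF : Coh.IsCoh F) : (∀ x : ↥X, Module.IsReflexive (X.presheaf.stalk x) (F.presheaf.stalk x)) ↔ FlatMod.IsFinLocFree F := by
  open Groth.Agent.Lib.Helper29.QCoh in
  haveI := isFinitePresentation_of_isCoh F hF
  rw [isFinLocFree_iff_free_stalks]
  constructor
  · intro h
    refine ⟨inferInstance, fun x => ?_⟩
    haveI := hreg x
    haveI := h x
    haveI := finitePresentation_stalk F x
    haveI : Module.Finite (X.presheaf.stalk x) (F.presheaf.stalk x) := inferInstance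
    exact Groth.Agent.Lib.Helper25.ReflexiveFree.free_of_isReflexive _
      ((ringKrullDim_stalk_le_topologicalKrullDim X x).trans hdim) _
  · rintro ⟨-, h⟩ x
    haveI := h x
    haveI := finitePresentation_stalk F x
    haveI : Module.Finite (X.presheaf.stalk x) (F.presheaf.stalk x) := inferInstance
    infer_instance


end Groth.Agent.S1689
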