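import Groth.Statements.S16909
import Groth.Agent.Helper19.ParaFUnit2
import Groth.Agent.Lib.Helper29.QCohIdealMod
-- import your own Groth.Agent.* helpers here

set_option autoImplicit false
universe u
open CategoryTheory CategoryTheory.Limits AlgebraicGeometry
open ResProp

namespace Groth.Agent.S16909

open Groth.Agent.Lib.Helper29.QCoh TopologicalSpace
section helpers

variable {X : Scheme.{u}}

/-- evaluate at the residue field: a global function vanishing at `x` pulls back to zero -/
theorem app_fromSpecResidueField_eq_zero (x : X) (r : Γ(X, ⊤)) (hr : x ∉ X.basicOpen r) :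
    (X.fromSpecResidueField x).app ⊤ r = 0 := by
  have h1 : (X.fromSpecResidueField x) ⁻¹ᵁ X.basicOpen r =
      (Spec (X.residueField x)).basicOpen ((X.fromSpecResidueField x).app ⊤ r) :=
    Scheme.preimage_basicOpen _ r
  have h2 : (X.fromSpecResidueField x) ⁻¹ᵁ X.basicOpen r = ⊥ := by
    ext s
    constructor
    · intro h
      have h' : X.fromSpecResidueField x s ∈ X.basicOpen r := h
      rw [Scheme.fromSpecResidueField_apply] at h'
      exact (hr h').elim
    · intro h; exact (h : s ∈ (⊥ : (Spec (X.residueField x)).Opens)).elim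
  rw [h2] at h1
  exact (AlgebraicGeometry.basicOpen_eq_bot_iff _).mp h1.symm

end helpers

/-- Let `X` be a quasi-compact and quasi-separated scheme on which every quasi-coherent module is
globally generated (a quotient of a free module on some index type, i.e. the structure sheaf is a
generating family). Then `X` is quasi-affine. No separatedness hypothesis is made; it follows. (The
published statement is for an algebraic stack over an algebraic space with affine stabilizer groups
at closed points and concludes that it is representable by a quasi-affine morphism; that general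
case rests on results outside this text, and this row is the final step of its proof, the case of a
scheme.) -/
theorem result (X : Scheme.{u}) [CompactSpace X]
    [QuasiSeparatedSpace X] (h : ∀ M : X.Modules, Coh.IsQCoh M → Curv2.IsGloballyGenerated M) :
    X.IsQuasiAffine := by
  apply Scheme.IsQuasiAffine.of_forall_exists_mem_basicOpen
  intro x
  obtain ⟨U, hU, hxU, -⟩ := exists_isAffineOpen_mem_and_subset (x := x) (U := ⊤) trivial
  obtain ⟨Z, hZ⟩ : ∃ Z : Closeds X, (Z : Set X) = (U : Set X)ᶜ :=
    ⟨⟨(U : Set X)ᶜ, U.isOpen.isClosed_compl⟩, rfl⟩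
  obtain ⟨I, hI⟩ : ∃ I, I = Scheme.IdealSheafData.vanishingIdeal Z := ⟨_, rfl⟩
  obtain ⟨ι, p, hp⟩ := h (ClSub.idealMod I) (isQuasicoherent_idealMod I)
  -- the endomorphisms of the structure sheaf attached to the generators
  obtain ⟨φ, hφ⟩ : ∃ φ : ι → (unitM X ⟶ unitM X),
      ∀ i, φ i = ιFreeM X i ≫ p ≫ ClSub.idealModι I := ⟨_, fun _ => rfl⟩
  obtain ⟨r, hr⟩ : ∃ r : ι → Γ(X, ⊤), ∀ i, r i = fromUnit ((φ i).app ⊤ (toUnit 1)) :=
    ⟨_, fun _ => rfl⟩
  -- restriction of `r i` to affine opens lies in the ideal
  have hmem : ∀ (i : ι) (V : X.affineOpens),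
      X.presheaf.map (homOfLE (le_top : V.1 ≤ ⊤)).op (r i) ∈ I.ideal V := by
    intro i V
    have h1 := idealModι_app_mem I V ((ιFreeM X i ≫ p).app V.1 (toUnit 1))
    have h2 : (ClSub.idealModι I).app V.1 ((ιFreeM X i ≫ p).app V.1 (toUnit 1)) =
        (φ i).app V.1 (toUnit 1) := by
      rw [hφ]; rfl
    rw [h2, ← res_toUnit_one (le_top : V.1 ≤ ⊤), app_res] at h1
    rw [hr]
    exact h1
  -- K2 : the basic opens lie in U
  have hle : ∀ i, X.basicOpen (r i) ≤ U := by
    intro i z hz
    by_contra hzU
    obtain ⟨V, hV, hzV, -⟩ := exists_isAffineOpen_mem_and_subset (x := z) (U := ⊤) trivial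
    have h1 := hmem i ⟨V, hV⟩
    rw [hI, Scheme.IdealSheafData.vanishingIdeal_ideal, PrimeSpectrum.mem_vanishingIdeal] at h1
    have h2 := h1 (hV.primeIdealOf ⟨z, hzV⟩) (by
      rw [Set.mem_preimage, hV.fromSpec_primeIdealOf ⟨z, hzV⟩]
      change z ∈ (Z : Set X)
      rw [hZ]
      exact hzU)
    have h3 := (mem_basicOpen_iff_notMem_primeIdealOf hV z hzV _).not.mpr (not_not.mpr h2)
    apply h3
    rw [Scheme.basicOpen_res]
    exact ⟨hzV, hz⟩
  -- K1 : some basic open contains x
  have hex : ∃ i, x ∈ X.basicOpen (r i) := by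
    by_contra hcon
    rw [not_exists] at hcon
    obtain ⟨g, hg⟩ : ∃ g, g = X.fromSpecResidueField x := ⟨_, rfl⟩
    have hzero : ∀ i, φ i ≫ ClSub.unitToPush g = 0 := by
      intro i
      apply Groth.Agent.Helper19.ParaFUnit.hom_unit_ext
      rw [Scheme.Modules.Hom.comp_app, Scheme.Modules.Hom.zero_app]
      change (ClSub.unitToPush g).app ⊤ ((φ i).app ⊤ (toUnit 1)) = 0
      rw [unitToPush_app, ← hr, hg, app_fromSpecResidueField_eq_zero x (r i) (hcon i)]
      rfl
    have hzero' : ClSub.idealModι I ≫ ClSub.unitToPush g = 0 := by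
      haveI := hp
      refine zero_of_epi_comp p ?_
      apply Cofan.IsColimit.hom_ext (SheafOfModules.isColimitFreeCofan (R := X.ringCatSheaf) ι)
      intro i
      have := hzero i
      rw [hφ, Category.assoc, Category.assoc] at this
      erw [comp_zero]
      exact this
    have h1 : (1 : Γ(X, U)) ∈ I.ideal ⟨U, hU⟩ := by
      rw [hI, Scheme.IdealSheafData.vanishingIdeal_ideal, PrimeSpectrum.mem_vanishingIdeal]
      intro y hy
      exfalso
      have hy' : hU.fromSpec y ∈ (Z : Set X) := hy
      rw [hZ] at hy'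
      apply hy'
      have : hU.fromSpec y ∈ Set.range hU.fromSpec := ⟨y, rfl⟩
      rw [hU.range_fromSpec] at this
      exact this
    obtain ⟨s, hs⟩ := exists_idealModι_app_eq I ⟨U, hU⟩ 1 h1
    have h2 := congrArg (fun t => t.app U s) hzero'
    simp only [Scheme.Modules.Hom.comp_app, Scheme.Modules.Hom.zero_app] at h2
    have h3 : (ClSub.unitToPush g).app U ((ClSub.idealModι I).app U s) = 0 := h2
    rw [unitToPush_app, hs, map_one] at h3
    have hne : Nonempty (g ⁻¹ᵁ U : (Spec (X.residueField x)).Opens) := by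
      obtain ⟨y⟩ : Nonempty (Spec (X.residueField x)) := inferInstance
      refine ⟨⟨y, ?_⟩⟩
      change g y ∈ U
      rw [hg, Scheme.fromSpecResidueField_apply]
      exact hxU
    have : (1 : Γ(Spec (X.residueField x), g ⁻¹ᵁ U)) = 0 := h3
    exact one_ne_zero this
  obtain ⟨i, hi⟩ := hex
  refine ⟨r i, ?_, hi⟩
  have heq : X.basicOpen (r i) =
      X.basicOpen (X.presheaf.map (homOfLE (le_top : U ≤ ⊤)).op (r i)) := by
    rw [Scheme.basicOpen_res]
    exact (inf_eq_right.mpr (hle i)).symm
  rw [heq]
  exact hU.basicOpen _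

end Groth.Agent.S16909
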