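import Groth.Statements.S16919
import Mathlib

set_option autoImplicit false
universe u
open TensorProduct
open CAlg

namespace Groth.Agent.S16919

open Cardinal in
/-- algebraically closed fields of the same transcendence degree over a common subring are
isomorphic over it. -/
theorem exists_ringEquiv_of_trdeg_eq {D : Type u} [CommRing D] [IsDomain D] {K₁ K₂ : Type u}
    [Field K₁] [Field K₂] [IsAlgClosed K₁] [IsAlgClosed K₂] [Algebra D K₁] [Algebra D K₂]
    [FaithfulSMul D K₁] [FaithfulSMul D K₂] (h : Algebra.trdeg D K₁ = Algebra.trdeg D K₂) :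
    ∃ e : K₁ ≃+* K₂, ∀ d, e (algebraMap D K₁ d) = algebraMap D K₂ d := by
  obtain ⟨s, hs⟩ := exists_isTranscendenceBasis D K₁
  obtain ⟨t, ht⟩ := exists_isTranscendenceBasis D K₂
  have hcard : #s = #t := by rw [hs.cardinalMk_eq_trdeg, ht.cardinalMk_eq_trdeg, h]
  obtain ⟨e₀⟩ := Cardinal.eq.mp hcard
  let _ := IsAlgClosed.isAlgClosure_of_transcendence_basis _ hs
  let _ := IsAlgClosed.isAlgClosure_of_transcendence_basis _ ht
  let e' : Algebra.adjoin D (Set.range ((↑) : s → K₁)) ≃ₐ[D]
      Algebra.adjoin D (Set.range ((↑) : t → K₂)) :=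
    hs.1.aevalEquiv.symm.trans ((MvPolynomial.renameEquiv D e₀).trans ht.1.aevalEquiv)
  refine ⟨IsAlgClosure.equivOfEquiv K₁ K₂ e'.toRingEquiv, fun d => ?_⟩
  rw [IsScalarTower.algebraMap_apply D (Algebra.adjoin D (Set.range ((↑) : s → K₁))) K₁,
    IsAlgClosure.equivOfEquiv_algebraMap]
  simp

open Cardinal in
theorem trdeg_eq_of_finiteType_of_aleph0_le {F : Type u} [Field F] {B : Type u} [CommRing B]
    [IsDomain B] [Algebra F B] [Algebra.FiniteType F B] {K : Type u} [CommRing K] [IsDomain K]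
    [Algebra F K] [Algebra B K] [IsScalarTower F B K] [FaithfulSMul B K]
    (h : ℵ₀ ≤ Algebra.trdeg F K) : Algebra.trdeg B K = Algebra.trdeg F K := by
  have h1 := trdeg_add_eq F B (A := K)
  have h2 : Algebra.trdeg F B < ℵ₀ := trdeg_lt_aleph0_of_finiteType
  exact Cardinal.eq_of_add_eq_of_aleph0_le h1 (h2.trans_le h) h

open Cardinal in
/-- two algebraically closed fields of the same infinite transcendence degree over a field `F`,
both containing a finite type domain `B` over `F`, are isomorphic over `B`. -/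
theorem exists_ringEquiv_over_finiteType {F : Type u} [Field F] {B : Type u} [CommRing B]
    [IsDomain B] [Algebra F B] [Algebra.FiniteType F B] {K₁ K₂ : Type u} [Field K₁] [Field K₂]
    [IsAlgClosed K₁] [IsAlgClosed K₂] [Algebra F K₁] [Algebra F K₂]
    (ι₁ : B →ₐ[F] K₁) (ι₂ : B →ₐ[F] K₂) (h₁ : Function.Injective ι₁) (h₂ : Function.Injective ι₂)
    (hinf : ℵ₀ ≤ Algebra.trdeg F K₂) (heq : Algebra.trdeg F K₁ = Algebra.trdeg F K₂) :
    ∃ e : K₁ ≃+* K₂, ∀ b, e (ι₁ b) = ι₂ b := by
  let _ : Algebra B K₁ := ι₁.toRingHom.toAlgebra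
  let _ : Algebra B K₂ := ι₂.toRingHom.toAlgebra
  have : IsScalarTower F B K₁ := IsScalarTower.of_algebraMap_eq fun c => (ι₁.commutes c).symm
  have : IsScalarTower F B K₂ := IsScalarTower.of_algebraMap_eq fun c => (ι₂.commutes c).symm
  have : FaithfulSMul B K₁ := (faithfulSMul_iff_algebraMap_injective B K₁).mpr h₁
  have : FaithfulSMul B K₂ := (faithfulSMul_iff_algebraMap_injective B K₂).mpr h₂
  have e1 : Algebra.trdeg B K₁ = Algebra.trdeg F K₁ :=
    trdeg_eq_of_finiteType_of_aleph0_le (heq ▸ hinf)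
  have e2 : Algebra.trdeg B K₂ = Algebra.trdeg F K₂ :=
    trdeg_eq_of_finiteType_of_aleph0_le hinf
  obtain ⟨e, he⟩ := exists_ringEquiv_of_trdeg_eq (D := B) (K₁ := K₁) (K₂ := K₂)
    (by rw [e1, e2, heq])
  exact ⟨e, fun b => he b⟩

/-- Let k₀ → k be an extension of fields with k algebraically closed and of infinite transcendence
degree over k₀, R₀ a finitely generated k₀-algebra whose base change R = k ⊗ R₀ is an integral
domain (so Spec R is an integral affine k-scheme of finite type with the model Spec R₀ over k₀), and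
P a k-point of Spec R, i.e. a k-algebra homomorphism ev : R → k, lying over the generic point of
Spec R₀, i.e. with ev injective on R₀. Then there is a field isomorphism e from an algebraic closure
of the fraction field of R (the function field of Spec R) onto k such that e(1 ⊗ r) = ev(1 ⊗ r) for
every r in R₀: e extends evaluation at P on R₀. (The published setting has k algebraically closed of
characteristic zero and of infinite transcendence degree over its prime field, and k₀ the subfield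
generated by the coefficients of equations of Spec R, which is finitely generated over the prime
field, so that k has infinite transcendence degree over k₀; only this last property and no
characteristic assumption enter here. The isomorphism is not canonical.) -/
theorem result (k₀ k : Type u)
    [Field k₀] [Field k] [Algebra k₀ k] [IsAlgClosed k] (hinf : ∃ x : ℕ → k, AlgebraicIndependent k₀ x)
    (R₀ : Type u) [CommRing R₀] [Algebra k₀ R₀] [Algebra.FiniteType k₀ R₀] [IsDomain (k ⊗[k₀] R₀)]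
    (ev : k ⊗[k₀] R₀ →ₐ[k] k) (hP : Function.Injective fun r : R₀ => ev (1 ⊗ₜ[k₀] r)) :
    ∃ e : AlgebraicClosure (FractionRing (k ⊗[k₀] R₀)) ≃+* k,
      ∀ r : R₀, e (algebraMap (k ⊗[k₀] R₀) (AlgebraicClosure (FractionRing (k ⊗[k₀] R₀)))
        (1 ⊗ₜ[k₀] r)) = ev (1 ⊗ₜ[k₀] r) := by
  classical
  have hinjR₀ : Function.Injective
      (Algebra.TensorProduct.includeRight : R₀ →ₐ[k₀] k ⊗[k₀] R₀) := by
    intro a b hab
    exact hP (by simpa using congr(ev $hab))
  have hdomR₀ : IsDomain R₀ :=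
    hinjR₀.isDomain (Algebra.TensorProduct.includeRight : R₀ →ₐ[k₀] k ⊗[k₀] R₀).toRingHom
  have hinjRL : Function.Injective
      (algebraMap (k ⊗[k₀] R₀) (AlgebraicClosure (FractionRing (k ⊗[k₀] R₀)))) := by
    rw [IsScalarTower.algebraMap_eq (k ⊗[k₀] R₀) (FractionRing (k ⊗[k₀] R₀))
      (AlgebraicClosure (FractionRing (k ⊗[k₀] R₀)))]
    exact (algebraMap (FractionRing (k ⊗[k₀] R₀))
      (AlgebraicClosure (FractionRing (k ⊗[k₀] R₀)))).injective.comp
      (IsFractionRing.injective (k ⊗[k₀] R₀) (FractionRing (k ⊗[k₀] R₀)))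
  have hfRL : FaithfulSMul (k ⊗[k₀] R₀) (AlgebraicClosure (FractionRing (k ⊗[k₀] R₀))) :=
    (faithfulSMul_iff_algebraMap_injective _ _).mpr hinjRL
  have halgRL : Algebra.IsAlgebraic (k ⊗[k₀] R₀) (AlgebraicClosure (FractionRing (k ⊗[k₀] R₀))) :=
    (IsFractionRing.comap_isAlgebraic_iff (K := FractionRing (k ⊗[k₀] R₀))).mpr inferInstance
  -- transcendence degrees
  obtain ⟨x, hx⟩ := hinf
  have hκ : Cardinal.aleph0 ≤ Algebra.trdeg k₀ k := by
    have := hx.lift_cardinalMk_le_trdeg
    simpa using this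
  have hkL : Algebra.trdeg k₀ (AlgebraicClosure (FractionRing (k ⊗[k₀] R₀))) =
      Algebra.trdeg k₀ k := by
    have h1 := trdeg_add_eq k₀ k (A := AlgebraicClosure (FractionRing (k ⊗[k₀] R₀)))
    have h2 := trdeg_add_eq k (k ⊗[k₀] R₀) (A := AlgebraicClosure (FractionRing (k ⊗[k₀] R₀)))
    have h3 : Algebra.trdeg (k ⊗[k₀] R₀) (AlgebraicClosure (FractionRing (k ⊗[k₀] R₀))) = 0 :=
      trdeg_eq_zero
    have h4 : Algebra.trdeg k (k ⊗[k₀] R₀) < Cardinal.aleph0 := trdeg_lt_aleph0_of_finiteType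
    rw [h3, add_zero] at h2
    rw [← h1, ← h2]
    exact Cardinal.add_eq_left hκ (h4.le.trans hκ)
  obtain ⟨e, he⟩ := exists_ringEquiv_over_finiteType (F := k₀) (B := R₀)
    (K₁ := AlgebraicClosure (FractionRing (k ⊗[k₀] R₀))) (K₂ := k)
    ((IsScalarTower.toAlgHom k₀ (k ⊗[k₀] R₀) (AlgebraicClosure (FractionRing (k ⊗[k₀] R₀)))).comp
      (Algebra.TensorProduct.includeRight : R₀ →ₐ[k₀] k ⊗[k₀] R₀))
    ((ev.restrictScalars k₀).comp (Algebra.TensorProduct.includeRight : R₀ →ₐ[k₀] k ⊗[k₀] R₀))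
    (hinjRL.comp hinjR₀) hP hκ hkL
  exact ⟨e, fun r => he r⟩

end Groth.Agent.S16919
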